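import Groth.Statements.S17720
import Mathlib

set_option autoImplicit false
universe u
open CAlg

namespace Groth.Agent.S17720

open MvPowerSeries

variable {A : Type u} [CommRing A]

/-- The ideal of `X Y - α`. -/
noncomputable abbrev I (α : A) : Ideal (MvPowerSeries (Fin 2) A) :=
  Ideal.span {(X 0 * X 1 - C α : MvPowerSeries (Fin 2) A)}

noncomputable abbrev J (α : A) : Ideal (MvPowerSeries (Fin 2) A ⧸ I α) :=
  Ideal.span {Ideal.Quotient.mk (I α) (X 0), Ideal.Quotient.mk (I α) (X 1)}

theorem mk_X_mul_X (α : A) :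
    Ideal.Quotient.mk (I α) (X 0) * Ideal.Quotient.mk (I α) (X 1) = algebraMap A _ α := by
  rw [← map_mul]
  exact Ideal.Quotient.eq.mpr (Ideal.mem_span_singleton_self _)

theorem exists_decomp (f : MvPowerSeries (Fin 2) A) :
    ∃ f1 f2, f = C (constantCoeff f) + X 0 * f1 + X 1 * f2 := by
  classical
  let f1 : MvPowerSeries (Fin 2) A := fun n => coeff (n + Finsupp.single 0 1) f
  let f2 : MvPowerSeries (Fin 2) A := fun n => if n 0 = 0 then coeff (n + Finsupp.single 1 1) f else 0
  refine ⟨f1, f2, MvPowerSeries.ext fun n => ?_⟩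
  have h1 : ∀ m, coeff m f1 = coeff (m + Finsupp.single 0 1) f := fun _ => rfl
  have h2 : ∀ m, coeff m f2 = if m 0 = 0 then coeff (m + Finsupp.single 1 1) f else 0 := fun _ => rfl
  rw [map_add, map_add, coeff_C, X_def, X_def, coeff_monomial_mul, coeff_monomial_mul, h1, h2, one_mul, one_mul]
  by_cases h0 : n 0 = 0
  · have : ¬ Finsupp.single (0 : Fin 2) 1 ≤ n := fun h => by simpa [h0] using h 0
    rw [if_neg this, add_zero]
    by_cases h10 : n 1 = 0
    · have hn : n = 0 := by ext i; fin_cases i <;> simp [h0, h10]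
      subst hn
      simp
    · have hle : Finsupp.single (1 : Fin 2) 1 ≤ n := by
        intro i; fin_cases i <;> simp; omega
      have hne : n ≠ 0 := fun e => h10 (by simp [e])
      rw [if_neg hne, if_pos hle, zero_add, if_pos (by simp [h0]), tsub_add_cancel_of_le hle]
  · have hle : Finsupp.single (0 : Fin 2) 1 ≤ n := by
      intro i; fin_cases i <;> simp; omega
    have hne : n ≠ 0 := fun e => h0 (by simp [e])
    rw [if_neg hne, zero_add, if_pos hle, tsub_add_cancel_of_le hle]
    by_cases hle1 : Finsupp.single (1 : Fin 2) 1 ≤ n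
    · rw [if_pos hle1, if_neg (by simp [h0]), add_zero]
    · rw [if_neg hle1, add_zero]

theorem mem_J_of_constantCoeff (α : A) (f : MvPowerSeries (Fin 2) A)
    (h : α ∣ constantCoeff f) : Ideal.Quotient.mk (I α) f ∈ J α := by
  obtain ⟨f1, f2, hf⟩ := exists_decomp f
  obtain ⟨c, hc⟩ := h
  rw [hf, hc, map_add, map_add, map_mul C, map_mul, map_mul, map_mul]
  refine add_mem (add_mem ?_ (Ideal.mul_mem_right _ _ (Ideal.subset_span (by simp))))
    (Ideal.mul_mem_right _ _ (Ideal.subset_span (by simp)))
  refine Ideal.mul_mem_right _ _ ?_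
  rw [show Ideal.Quotient.mk (I α) (C α) = algebraMap A _ α from rfl, ← mk_X_mul_X]
  exact Ideal.mul_mem_right _ _ (Ideal.subset_span (by simp))

theorem dvd_of_algebraMap_mem_J (α a : A) (h : algebraMap A (MvPowerSeries (Fin 2) A ⧸ I α) a ∈ J α) :
    α ∣ a := by
  let χ : MvPowerSeries (Fin 2) A ⧸ I α →+* A ⧸ Ideal.span {α} :=
    Ideal.Quotient.lift (I α) ((Ideal.Quotient.mk _).comp constantCoeff) fun x hx => by
      obtain ⟨y, rfl⟩ := Ideal.mem_span_singleton'.mp hx
      refine Ideal.Quotient.eq_zero_iff_mem.mpr ?_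
      simp [Ideal.mem_span_singleton]
  have hJ : J α ≤ RingHom.ker χ := Ideal.span_le.mpr fun x hx => by
    rcases hx with rfl | rfl <;> simp [χ]
  have := hJ h
  rw [RingHom.mem_ker, show algebraMap A (MvPowerSeries (Fin 2) A ⧸ I α) a = Ideal.Quotient.mk _ (C a) from rfl] at this
  simpa [χ, Ideal.Quotient.eq_zero_iff_dvd] using this

/-- Every derivation over `A` takes values in `(x, y)`. -/
theorem derivation_mem_J (α : A) (D : MvPowerSeries (Fin 2) A ⧸ I α → MvPowerSeries (Fin 2) A ⧸ I α)
    (hadd : ∀ r s, D (r + s) = D r + D s) (hmul : ∀ r s, D (r * s) = D r * s + r * D s)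
    (halg : ∀ a, D (algebraMap A _ a) = 0) (r) : D r ∈ J α := by
  classical
  obtain ⟨f, hf⟩ := Ideal.Quotient.mk_surjective (D (Ideal.Quotient.mk (I α) (X 0)))
  obtain ⟨g, hg⟩ := Ideal.Quotient.mk_surjective (D (Ideal.Quotient.mk (I α) (X 1)))
  have h0 : f * X 1 + X 0 * g ∈ I α := by
    rw [← Ideal.Quotient.eq_zero_iff_mem, map_add, map_mul, map_mul, hf, hg, ← hmul, mk_X_mul_X, halg]
  obtain ⟨h, hh⟩ := Ideal.mem_span_singleton'.mp h0
  have h1 : ¬ Finsupp.single (0 : Fin 2) 1 ≤ Finsupp.single 1 1 := fun e => by simpa using e 0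
  have h2 : ¬ Finsupp.single (1 : Fin 2) 1 ≤ Finsupp.single 0 1 := fun e => by simpa using e 1
  have hcx : ∀ (i j : Fin 2) (p : MvPowerSeries (Fin 2) A),
      coeff (Finsupp.single i 1) (X j * p) = if i = j then constantCoeff p else 0 := by
    intro i j p
    rw [X_def, coeff_monomial_mul]
    by_cases hij : i = j
    · subst hij; simp
    · have : ¬ Finsupp.single j 1 ≤ Finsupp.single i 1 := fun e => by
        have := e j; simp [hij] at this
      rw [if_neg this, if_neg hij]
  have hc : ∀ i, -(α * coeff (Finsupp.single i 1) h) =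
      coeff (Finsupp.single i 1) (X 1 * f) + coeff (Finsupp.single i 1) (X 0 * g) := by
    intro i
    have := congrArg (coeff (Finsupp.single i 1)) hh
    rw [mul_comm h, sub_mul, map_sub, coeff_C_mul, map_add, mul_comm f, mul_assoc, hcx i 0 (X 1 * h)] at this
    simpa using this
  have hx : α ∣ constantCoeff f := by
    have := hc 1
    simp [hcx] at this
    exact ⟨-coeff (Finsupp.single (1 : Fin 2) 1) h, by rw [mul_neg]; exact this.symm⟩
  have hy : α ∣ constantCoeff g := by
    have := hc 0
    simp [hcx] at this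
    exact ⟨-coeff (Finsupp.single (0 : Fin 2) 1) h, by rw [mul_neg]; exact this.symm⟩
  obtain ⟨r, rfl⟩ := Ideal.Quotient.mk_surjective r
  obtain ⟨f1, f2, hr⟩ := exists_decomp r
  rw [hr, map_add, map_add, hadd, hadd, map_mul, map_mul, hmul, hmul,
    show Ideal.Quotient.mk (I α) (C (constantCoeff r)) = algebraMap A _ (constantCoeff r) from rfl, halg, zero_add]
  refine add_mem (add_mem ?_ (Ideal.mul_mem_right _ _ (Ideal.subset_span (by simp))))
    (add_mem ?_ (Ideal.mul_mem_right _ _ (Ideal.subset_span (by simp))))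
  · rw [← hf]; exact Ideal.mul_mem_right _ _ (mem_J_of_constantCoeff α f hx)
  · rw [← hg]; exact Ideal.mul_mem_right _ _ (mem_J_of_constantCoeff α g hy)

/-- `x ∂x - y ∂y`. -/
noncomputable def euler (f : MvPowerSeries (Fin 2) A) : MvPowerSeries (Fin 2) A :=
  fun n => (((n 0 : ℤ) - (n 1 : ℤ) : ℤ) : A) * coeff n f

theorem coeff_euler (f : MvPowerSeries (Fin 2) A) (n : Fin 2 →₀ ℕ) :
    coeff n (euler f) = (((n 0 : ℤ) - (n 1 : ℤ) : ℤ) : A) * coeff n f := rfl

theorem euler_add (f g : MvPowerSeries (Fin 2) A) : euler (f + g) = euler f + euler g := by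
  ext n; simp only [coeff_euler, map_add, mul_add]

theorem euler_mul (f g : MvPowerSeries (Fin 2) A) : euler (f * g) = euler f * g + f * euler g := by
  classical
  ext n
  simp only [coeff_euler, coeff_mul, map_add, Finset.mul_sum, ← Finset.sum_add_distrib]
  refine Finset.sum_congr rfl fun p hp => ?_
  replace hp : p.1 + p.2 = n := Finset.HasAntidiagonal.mem_antidiagonal.mp hp
  simp only [← hp, Finsupp.add_apply]
  push_cast
  ring

theorem euler_monomial (m : Fin 2 →₀ ℕ) (a : A) :
    euler (monomial m a) = monomial m ((((m 0 : ℤ) - (m 1 : ℤ) : ℤ) : A) * a) := by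
  classical
  ext n
  rw [coeff_euler, coeff_monomial, coeff_monomial]
  by_cases h : n = m
  · subst h; simp
  · simp [h]

theorem euler_sub (f g : MvPowerSeries (Fin 2) A) : euler (f - g) = euler f - euler g := by
  ext n; simp only [coeff_euler, map_sub, mul_sub]

theorem euler_C (a : A) : euler (C a) = 0 := by
  rw [← monomial_zero_eq_C_apply, euler_monomial]; simp

theorem euler_X0 : euler (X 0 : MvPowerSeries (Fin 2) A) = X 0 := by
  rw [X_def, euler_monomial]; simp

theorem euler_X1 : euler (X 1 : MvPowerSeries (Fin 2) A) = -X 1 := by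
  rw [X_def, euler_monomial, ← map_neg]; simp

theorem euler_gen (α : A) : euler (X 0 * X 1 - C α : MvPowerSeries (Fin 2) A) = 0 := by
  rw [euler_sub, euler_mul, euler_X0, euler_X1, euler_C]; ring

theorem euler_mem (α : A) {f : MvPowerSeries (Fin 2) A} (hf : f ∈ I α) : euler f ∈ I α := by
  obtain ⟨g, rfl⟩ := Ideal.mem_span_singleton'.mp hf
  rw [euler_mul, euler_gen, mul_zero, add_zero]
  exact Ideal.mul_mem_left _ _ (Ideal.mem_span_singleton_self _)

noncomputable def eulerQ (α : A) : MvPowerSeries (Fin 2) A ⧸ I α → MvPowerSeries (Fin 2) A ⧸ I α :=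
  Quotient.lift (fun f => Ideal.Quotient.mk (I α) (euler f)) fun f g h => by
    refine Ideal.Quotient.eq.mpr ?_
    rw [← euler_sub]
    exact euler_mem α ((Submodule.quotientRel_def _).mp h)

theorem eulerQ_mk (α : A) (f) : eulerQ α (Ideal.Quotient.mk (I α) f) = Ideal.Quotient.mk (I α) (euler f) := rfl

theorem dvd_of_algEquiv (α β : A)
    (φ : (MvPowerSeries (Fin 2) A ⧸ I α) ≃ₐ[A] (MvPowerSeries (Fin 2) A ⧸ I β)) : β ∣ α := by
  have key : ∀ s, φ (eulerQ α s) ∈ J β := by
    intro s
    have := derivation_mem_J β (fun r => φ (eulerQ α (φ.symm r)))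
      (fun r t => by
        obtain ⟨a, ha⟩ := Ideal.Quotient.mk_surjective (φ.symm r)
        obtain ⟨b, hb⟩ := Ideal.Quotient.mk_surjective (φ.symm t)
        simp only [map_add φ.symm, ← ha, ← hb]
        rw [← map_add (Ideal.Quotient.mk _), eulerQ_mk, euler_add, map_add, map_add]
        rfl)
      (fun r t => by
        obtain ⟨a, ha⟩ := Ideal.Quotient.mk_surjective (φ.symm r)
        obtain ⟨b, hb⟩ := Ideal.Quotient.mk_surjective (φ.symm t)
        conv_rhs => arg 1; arg 2; rw [← φ.apply_symm_apply t]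
        conv_rhs => arg 2; arg 1; rw [← φ.apply_symm_apply r]
        simp only [map_mul φ.symm, ← ha, ← hb]
        rw [← map_mul (Ideal.Quotient.mk _), eulerQ_mk, euler_mul, map_add, map_add, map_mul, map_mul, map_mul, map_mul]
        rfl)
      (fun a => by
        simp only [AlgEquiv.commutes]
        rw [show algebraMap A (MvPowerSeries (Fin 2) A ⧸ I α) a = Ideal.Quotient.mk _ (C a) from rfl, eulerQ_mk, euler_C, map_zero, map_zero])
      (φ s)
    simpa using this
  have hx : φ (Ideal.Quotient.mk (I α) (X 0)) ∈ J β := by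
    have := key (Ideal.Quotient.mk (I α) (X 0))
    rwa [eulerQ_mk, euler_X0] at this
  refine dvd_of_algebraMap_mem_J β α ?_
  rw [← φ.commutes α, ← mk_X_mul_X, map_mul]
  exact Ideal.mul_mem_right _ _ hx

open MvPowerSeries IsLocalRing in
/-- Let A be a Noetherian local ring and α, β two elements of its maximal ideal. If the quotient of the
power series ring in two variables over A by xy − α is isomorphic, as an A-algebra, to the quotient
by xy − β, then αA = βA. (The published statement allows any local ring A; it is taken Noetherian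
here, the case in which an algebra isomorphism between these complete local rings is continuous for
their adic topologies.) -/
theorem result
    (A : Type u) [CommRing A] [IsLocalRing A] [IsNoetherianRing A]
    (α β : A) (hα : α ∈ maximalIdeal A) (hβ : β ∈ maximalIdeal A)
    (φ : (MvPowerSeries (Fin 2) A ⧸ Ideal.span {(X 0 * X 1 - C α : MvPowerSeries (Fin 2) A)}) ≃ₐ[A] (MvPowerSeries (Fin 2) A ⧸ Ideal.span {(X 0 * X 1 - C β : MvPowerSeries (Fin 2) A)})) :
    Ideal.span {α} = Ideal.span {β} := by
  exact le_antisymm (Ideal.span_singleton_le_span_singleton.mpr (dvd_of_algEquiv α β φ))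
    (Ideal.span_singleton_le_span_singleton.mpr (dvd_of_algEquiv β α φ.symm))

end Groth.Agent.S17720
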