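import Groth.Statements.S17721
import Mathlib

set_option autoImplicit false
universe u
open CAlg

namespace Groth.Agent.S17721

open Polynomial IsLocalRing in
/-- Let R be a complete discrete valuation ring with fraction field K, and f a polynomial over R with
non-zero constant term a₀ such that a₀ does not divide some coefficient of f of positive degree
(equivalently, the Newton polygon of f has a side of negative slope). Let b be the power series over
K with b · f = a₀, the expansion of the geometric series in 1 − f/a₀. Then the valuations of the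
coefficients b_j are not bounded below: for every non-zero c in R there is an index j with c · b_j
outside R. -/
theorem result
    (R : Type u) [CommRing R] [IsDomain R] [IsDiscreteValuationRing R]
    [IsAdicComplete (maximalIdeal R) R]
    (K : Type u) [Field K] [Algebra R K] [IsFractionRing R K]
    (f : R[X]) (h0 : f.coeff 0 ≠ 0) (hslope : ∃ i : ℕ, 0 < i ∧ ¬ (f.coeff 0 ∣ f.coeff i))
    (b : PowerSeries K)
    (hb : b * ((f.map (algebraMap R K) : K[X]) : PowerSeries K) = PowerSeries.C (algebraMap R K (f.coeff 0))) :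
    ∀ c : R, c ≠ 0 → ∃ j : ℕ, algebraMap R K c * PowerSeries.coeff j b ∉ (algebraMap R K).range := by
  intro c hc
  by_contra! h
  obtain ⟨ϖ, hϖ⟩ := IsDiscreteValuationRing.exists_irreducible R
  have hp : Prime ϖ := hϖ.prime
  let ι := algebraMap R K
  have hι : Function.Injective ι := IsFractionRing.injective R K
  choose g hg using h
  have hprod : PowerSeries.mk g * (f : PowerSeries R) = PowerSeries.C (c * f.coeff 0) := by
    refine PowerSeries.map_injective ι hι ?_
    rw [map_mul, PowerSeries.map_C, map_mul, map_mul PowerSeries.C, ← hb, ← mul_assoc]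
    congr 1
    · ext j
      rw [PowerSeries.coeff_map, PowerSeries.coeff_mk, PowerSeries.coeff_C_mul]
      exact hg j
    · ext j
      simp [Polynomial.coeff_coe, ι]
  obtain ⟨i, hi, hni⟩ := hslope
  obtain ⟨a, ua, hua⟩ := IsDiscreteValuationRing.eq_unit_mul_pow_irreducible h0 hϖ
  obtain ⟨k, uk, huk⟩ := IsDiscreteValuationRing.eq_unit_mul_pow_irreducible hc hϖ
  -- the minimal valuations
  have hexists : ∀ q : PowerSeries R, q ≠ 0 → ∃ v, (∀ j, ϖ ^ v ∣ PowerSeries.coeff j q) ∧ ∃ j, ¬ ϖ ^ (v + 1) ∣ PowerSeries.coeff j q := by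
    intro q hq
    obtain ⟨j, hj⟩ : ∃ j, PowerSeries.coeff j q ≠ 0 := by
      by_contra! h'; exact hq (PowerSeries.ext fun j => by simpa using h' j)
    obtain ⟨l, ul, hul⟩ := IsDiscreteValuationRing.eq_unit_mul_pow_irreducible hj hϖ
    have hjl : ¬ ϖ ^ (l + 1) ∣ PowerSeries.coeff j q := by
      rw [hul, Units.dvd_mul_left, pow_dvd_pow_iff hp.ne_zero hp.not_isUnit]; omega
    classical
    have hP : ∃ v, ∃ j, ¬ ϖ ^ (v + 1) ∣ PowerSeries.coeff j q := ⟨l, j, hjl⟩
    refine ⟨Nat.find hP, fun j' => ?_, Nat.find_spec hP⟩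
    rcases Nat.eq_zero_or_pos (Nat.find hP) with e | hpos
    · rw [e, pow_zero]; exact one_dvd _
    · by_contra hnd
      exact Nat.find_min hP (Nat.sub_lt hpos one_pos) ⟨j', by rwa [show Nat.find hP - 1 + 1 = Nat.find hP by omega]⟩
  have hf0 : (f : PowerSeries R) ≠ 0 := fun e => h0 (by simpa using congrArg (PowerSeries.coeff 0) e)
  have hg0 : PowerSeries.mk g ≠ 0 := fun e => by
    rw [e, zero_mul] at hprod
    have := congrArg (PowerSeries.coeff 0) hprod
    simp [hc, h0] at this
  obtain ⟨v, hv, hv'⟩ := hexists _ hg0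
  obtain ⟨w, hw, hw'⟩ := hexists _ hf0
  -- `b₀ = 1`, so `v ≤ k`
  have hvk : v ≤ k := by
    have h1 := congrArg (PowerSeries.coeff 0) hprod
    rw [PowerSeries.coeff_zero_eq_constantCoeff, map_mul, PowerSeries.constantCoeff_C] at h1
    simp only [← PowerSeries.coeff_zero_eq_constantCoeff, PowerSeries.coeff_mk, Polynomial.coeff_coe] at h1
    have h2 : g 0 = c := mul_right_cancel₀ h0 h1
    have := hv 0
    rw [PowerSeries.coeff_mk, h2, huk, Units.dvd_mul_left, pow_dvd_pow_iff hp.ne_zero hp.not_isUnit] at this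
    exact this
  have hwa : w < a := by
    by_contra! hle
    refine hni ?_
    rw [hua, Units.mul_left_dvd]
    exact (pow_dvd_pow ϖ hle).trans (by simpa using hw i)
  -- Gauss lemma
  choose g' hg' using hv
  choose f' hf' using hw
  haveI : (Ideal.span {ϖ}).IsPrime := (Ideal.span_singleton_prime hp.ne_zero).mpr hp
  have e1 : PowerSeries.mk g = PowerSeries.C (ϖ ^ v) * PowerSeries.mk g' := by ext j; rw [PowerSeries.coeff_C_mul, PowerSeries.coeff_mk (n := j) g']; exact hg' j
  have e2 : (f : PowerSeries R) = PowerSeries.C (ϖ ^ w) * PowerSeries.mk f' := by ext j; rw [PowerSeries.coeff_C_mul, PowerSeries.coeff_mk]; exact hf' j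
  have hmap : ∀ {q : PowerSeries R} {q' : ℕ → R} {e : ℕ}, (∀ j, PowerSeries.coeff j q = ϖ ^ e * q' j) →
      (∃ j, ¬ ϖ ^ (e + 1) ∣ PowerSeries.coeff j q) →
        PowerSeries.map (Ideal.Quotient.mk (Ideal.span {ϖ})) (PowerSeries.mk q') ≠ 0 := by
    intro q q' e hq hj hzero
    obtain ⟨j, hj⟩ := hj
    refine hj ?_
    have := congrArg (PowerSeries.coeff j) hzero
    rw [PowerSeries.coeff_map, PowerSeries.coeff_mk, map_zero, Ideal.Quotient.eq_zero_iff_dvd] at this
    rw [hq j, pow_succ]
    exact mul_dvd_mul_left _ this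
  have hne := mul_ne_zero (hmap hg' hv') (hmap hf' hw')
  refine hne ?_
  rw [← map_mul]
  ext j
  rw [PowerSeries.coeff_map, map_zero, Ideal.Quotient.eq_zero_iff_dvd]
  have := congrArg (PowerSeries.coeff j) hprod
  rw [e1, e2, mul_mul_mul_comm, ← map_mul, PowerSeries.coeff_C_mul, PowerSeries.coeff_C, huk, hua, ← pow_add] at this
  by_cases hj : j = 0
  · subst hj
    rw [if_pos rfl] at this
    obtain ⟨d, hd⟩ := Nat.exists_eq_add_of_lt (show v + w < k + a by omega)
    refine ⟨(uk : R) * ua * ϖ ^ d, mul_left_cancel₀ (pow_ne_zero (v + w) hp.ne_zero) (this.trans ?_)⟩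
    rw [mul_mul_mul_comm, ← pow_add, hd, pow_add, pow_add]
    ring
  · rw [if_neg hj] at this
    rw [(mul_eq_zero.mp this).resolve_left (pow_ne_zero _ hp.ne_zero)]
    exact dvd_zero _

end Groth.Agent.S17721
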