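import Groth.Statements.S17722
import Mathlib.RingTheory.Flat.FaithfullyFlat.Algebra
import Mathlib.RingTheory.LocalRing.MaximalIdeal.Basic

set_option autoImplicit false
universe u
open CAlg

namespace Groth.Agent.S17722

/-- Let R → R' be a faithfully flat ring map between Noetherian integrally closed local domains, and p
an ideal of R. If the ideal pR' generated by the image of p is principal, then p is principal. (The
second assertion of the published lemma, descent of unique factorization, is not part of this row.) -/
theorem result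
    (R R' : Type u) [CommRing R] [CommRing R'] [IsDomain R] [IsDomain R']
    [IsNoetherianRing R] [IsNoetherianRing R'] [IsLocalRing R] [IsLocalRing R']
    [IsIntegrallyClosed R] [IsIntegrallyClosed R']
    [Algebra R R'] [Module.FaithfullyFlat R R']
    (p : Ideal R) (hp : (p.map (algebraMap R R')).IsPrincipal) :
    p.IsPrincipal := by
  obtain ⟨x, hx⟩ := hp
  rw [Ideal.submodule_span_eq] at hx
  rcases eq_or_ne x 0 with rfl | hx0
  · refine ⟨0, ?_⟩
    have h1 := Ideal.comap_map_eq_self_of_faithfullyFlat (B := R') p
    rw [hx, Ideal.span_singleton_eq_bot.mpr rfl, ← RingHom.ker_eq_comap_bot,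
      (RingHom.injective_iff_ker_eq_bot _).mp (FaithfulSMul.algebraMap_injective R R')] at h1
    simp [← h1]
  have : ∃ a ∈ p, p.map (algebraMap R R') = Ideal.span {algebraMap R R' a} := by
    by_contra hc
    push Not at hc
    have hle : p.map (algebraMap R R') ≤ IsLocalRing.maximalIdeal R' * Ideal.span {x} := by
      refine Ideal.map_le_iff_le_comap.mpr fun a ha => ?_
      obtain ⟨c, hc'⟩ := Ideal.mem_span_singleton'.mp (hx ▸ Ideal.mem_map_of_mem _ ha)
      rw [Ideal.mem_comap, ← hc']
      refine Ideal.mul_mem_mul ?_ (Ideal.mem_span_singleton_self x)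
      rw [IsLocalRing.mem_maximalIdeal, mem_nonunits_iff]
      intro hu
      refine hc a ha ?_
      rw [hx, ← hc', Ideal.span_singleton_mul_left_unit hu]
    have hxm : x ∈ IsLocalRing.maximalIdeal R' * Ideal.span {x} := hle (hx ▸ Ideal.mem_span_singleton_self x)
    obtain ⟨m, hm, hmx⟩ := Ideal.mem_mul_span_singleton.mp hxm
    have : m = 1 := mul_right_cancel₀ hx0 (by rw [hmx, one_mul])
    exact (IsLocalRing.maximalIdeal.isMaximal R').ne_top ((Ideal.eq_top_iff_one _).mpr (this ▸ hm))
  obtain ⟨a, ha, hpa⟩ := this
  refine ⟨a, ?_⟩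
  rw [Ideal.submodule_span_eq, ← Ideal.comap_map_eq_self_of_faithfullyFlat (B := R') p, hpa,
    ← Ideal.comap_map_eq_self_of_faithfullyFlat (B := R') (Ideal.span {a}), Ideal.map_span, Set.image_singleton]

end Groth.Agent.S17722
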