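import Groth.Statements.S17723
import Groth.Agent.LabGraphLead.Basic

set_option autoImplicit false
universe u
open LabGraph

namespace Groth.Agent.S17723

/-- Let G be a finite connected multigraph with endpoint map ends and edge labels l taking positive
integer values. We say g : V → ℤ is elementary-Cartier if, for some integer n ≥ 1, all values of g
are multiples of n and, for each edge whose label fails to divide n, g agrees at its two endpoints
(equivalently, once the edges with label dividing n are removed, g takes a single value on each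
connected piece of what remains). Then every Cartier function f (for each edge, the label divides
the difference of the values of f at its endpoints) lies in the ℤ-span of the elementary-Cartier
functions. -/
theorem result
    {V E : Type u} [Fintype V] [Fintype E] [DecidableEq V] [DecidableEq E]
    (ends : E → V × V) (l : E → ℕ) (hl : ∀ e, 0 < l e) (hconn : LabGraph.Connected ends)
    (f : V → ℤ) (hf : LabGraph.IsCartier ends l f) :
    f ∈ Submodule.span ℤ {g : V → ℤ | ∃ n : ℕ, 0 < n ∧ (∀ v, (n : ℤ) ∣ g v) ∧
      ∀ e, ¬ (l e ∣ n) → g (ends e).1 = g (ends e).2} := by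
  classical
  set N := Submodule.span ℤ {g : V → ℤ | ∃ n : ℕ, 0 < n ∧ (∀ v, (n : ℤ) ∣ g v) ∧
    ∀ e, ¬ (l e ∣ n) → g (ends e).1 = g (ends e).2} with hN
  let I : Ideal ℤ := N.colon {f}
  suffices (1 : ℤ) ∈ I by
    have h1 := Submodule.mem_colon_singleton.1 this
    rwa [one_smul] at h1
  have hl0 : (∏ e, l e) ≠ 0 := Finset.prod_ne_zero_iff.2 fun e _ => (hl e).ne'
  have hL : ((∏ e, l e : ℕ) : ℤ) ∈ I := by
    rw [Submodule.mem_colon_singleton]
    exact Submodule.subset_span ⟨∏ e, l e, Nat.pos_of_ne_zero hl0, fun v => by simp,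
      fun e he => absurd (Finset.dvd_prod_of_mem _ (Finset.mem_univ e)) he⟩
  have hp : ∀ p : ℕ, p.Prime → ∃ M : ℕ, ¬ p ∣ M ∧ (M : ℤ) ∈ I := by
    intro p hp
    let ν : E → ℕ := fun e => (l e).factorization p
    let M := ∏ e, (l e / p ^ ν e)
    refine ⟨M, ?_, ?_⟩
    · rw [hp.prime.dvd_finsetProd_iff]
      rintro ⟨e, -, he⟩
      exact Nat.not_dvd_ordCompl hp (hl e).ne' he
    have hdvd : ∀ e j, ν e ≤ j → l e ∣ M * p ^ j := by
      intro e j hj
      conv_lhs => rw [← Nat.ordProj_mul_ordCompl_eq_self (l e) p, mul_comm]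
      exact mul_dvd_mul (Finset.dvd_prod_of_mem _ (Finset.mem_univ e)) (pow_dvd_pow _ hj)
    have main : ∀ j ≥ 0, ∃ h : V → ℤ, (∀ v, ((p : ℤ) ^ j) ∣ h v) ∧
        (∀ e, j ≤ ν e → ((p : ℤ) ^ ν e) ∣ h (ends e).1 - h (ends e).2) ∧ (M : ℤ) • (f - h) ∈ N := by
      intro j _
      induction j with
      | zero =>
        refine ⟨f, by simp, fun e _ => dvd_trans ?_ (hf e), by simp⟩
        exact_mod_cast Nat.ordProj_dvd (l e) p
      | succ j ih =>
        obtain ⟨h, h1, h2, h3⟩ := ih (Nat.zero_le _)
        let r : Setoid V := Relation.EqvGen.setoid fun a b => ∃ e, j < ν e ∧ ends e = (a, b)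
        let g : V → ℤ := fun v => h (Quotient.mk r v).out
        have hgedge : ∀ e, j < ν e → g (ends e).1 = g (ends e).2 := fun e he => by
          simp only [g]
          rw [Quotient.sound (s := r) (Relation.EqvGen.rel _ _ ⟨e, he, rfl⟩)]
        have hcong : ∀ a b, Relation.EqvGen (fun a b => ∃ e, j < ν e ∧ ends e = (a, b)) a b →
            ((p : ℤ) ^ (j + 1)) ∣ h a - h b := by
          intro a b hab
          induction hab with
          | rel a b hab =>
            obtain ⟨e, he, hab⟩ := hab
            have := h2 e he.le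
            rw [hab] at this
            exact dvd_trans (pow_dvd_pow _ he) this
          | refl a => simp
          | symm a b _ ih => rwa [dvd_sub_comm]
          | trans a b c _ _ i1 i2 => simpa using dvd_add i1 i2
        refine ⟨h - g, fun v => hcong _ _ (Relation.EqvGen.symm _ _ (Quotient.exact (s := r) (Quotient.out_eq _))), fun e he => ?_, ?_⟩
        · simp only [Pi.sub_apply]
          rw [hgedge e he]
          simpa using h2 e (by omega)
        · have : (M : ℤ) • g ∈ N := by
            refine Submodule.subset_span ⟨M * p ^ j, Nat.mul_pos (Finset.prod_pos fun e _ =>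
              Nat.ordCompl_pos p (hl e).ne') (pow_pos hp.pos _), fun v => ?_, fun e he => ?_⟩
            · simp only [Pi.smul_apply, smul_eq_mul, Nat.cast_mul, Nat.cast_pow]
              exact mul_dvd_mul_left _ (h1 _)
            · simp only [Pi.smul_apply]
              rw [hgedge e]
              by_contra hle
              exact he (hdvd e j (not_lt.1 hle))
          have e : (M : ℤ) • (f - (h - g)) = (M : ℤ) • (f - h) + (M : ℤ) • g := by
            rw [← smul_add]; congr 1; abel
          rw [e]
          exact add_mem h3 this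
    let J := Finset.univ.sup ν
    obtain ⟨h, h1, -, h3⟩ := main J (Nat.zero_le _)
    rw [Submodule.mem_colon_singleton]
    have h4 : (M : ℤ) • h ∈ N := by
      refine Submodule.subset_span ⟨M * p ^ J, Nat.mul_pos (Finset.prod_pos fun e _ =>
        Nat.ordCompl_pos p (hl e).ne') (pow_pos hp.pos _), fun v => ?_,
        fun e he => absurd (hdvd e J (Finset.le_sup (Finset.mem_univ e))) he⟩
      simp only [Pi.smul_apply, smul_eq_mul, Nat.cast_mul, Nat.cast_pow]
      exact mul_dvd_mul_left _ (h1 _)
    have := add_mem h3 h4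
    rwa [← smul_add, sub_add_cancel] at this
  obtain ⟨g, hg⟩ := (IsPrincipalIdealRing.principal I).principal
  rw [hg, Submodule.mem_span_singleton]
  by_contra h1
  have hg1 : ¬ g ∣ 1 := fun ⟨c, hc⟩ => h1 ⟨c, by rw [smul_eq_mul, mul_comm]; exact hc.symm⟩
  have hne : g.natAbs ≠ 1 := fun h => hg1 (by rw [← Int.natAbs_dvd_natAbs, h]; simp)
  obtain ⟨p, hpp, hpd⟩ := Nat.exists_prime_and_dvd hne
  obtain ⟨M, hM, hMI⟩ := hp p hpp
  rw [hg, Submodule.mem_span_singleton] at hMI
  obtain ⟨c, hc⟩ := hMI
  refine hM ?_
  have : (p : ℤ) ∣ (M : ℤ) := by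
    rw [← hc, smul_eq_mul]
    exact Dvd.dvd.mul_left (Int.natCast_dvd.2 hpd) c
  exact_mod_cast this

end Groth.Agent.S17723
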