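import Groth.Statements.S17724
import Groth.Agent.LabGraphLead.Forest

set_option autoImplicit false
universe u v
open LabGraph

namespace Groth.Agent.S17724

/-- Let G be a finite connected multigraph with endpoint map ends, whose edges carry labels lab in a set
L and positive integer labels n, and suppose the L-labels are constant along every circuit. Say g :
V → ℤ is pre-achievable when for some finite set B of edges all carrying the same L-label, g takes
equal values at the two endpoints of every edge outside B (so g is constant on the connected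
components of the graph with B deleted); say g is Cartier when for every edge e the integer n(e)
divides the difference of the values of g at its endpoints. Then every Cartier function f is a
finite sum of functions each of which is Cartier and pre-achievable, and when f vanishes at a vertex
v₀ the summands can all be taken to vanish at v₀. -/
theorem result
    {V E : Type u} [Fintype V] [Fintype E] [DecidableEq V] [DecidableEq E] {L : Type v}
    (ends : E → V × V) (lab : E → L) (n : E → ℕ) (hn : ∀ e, 0 < n e)
    (hconn : LabGraph.Connected ends)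
    (hcirc : ∀ C : Finset E, LabGraph.IsCircuit ends C → ∀ e ∈ C, ∀ e' ∈ C, lab e = lab e')
    (f : V → ℤ) (hf : LabGraph.IsCartier ends n f) :
    f ∈ AddSubmonoid.closure {g : V → ℤ | LabGraph.IsCartier ends n g ∧ (∃ B : Finset E, (∀ e ∈ B, ∀ e' ∈ B, lab e = lab e') ∧ ∀ e, e ∉ B → g (ends e).1 = g (ends e).2)} ∧
    ∀ v₀ : V, f v₀ = 0 →
      f ∈ AddSubmonoid.closure {g : V → ℤ | LabGraph.IsCartier ends n g ∧ (∃ B : Finset E, (∀ e ∈ B, ∀ e' ∈ B, lab e = lab e') ∧ ∀ e, e ∉ B → g (ends e).1 = g (ends e).2) ∧ g v₀ = 0} := by
  classical
  let labs := Finset.univ.image lab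
  have hex : ∀ x : L, ∃ g : V → ℤ, ∀ e, g (ends e).2 - g (ends e).1 =
      if lab e = x then f (ends e).2 - f (ends e).1 else 0 := by
    intro x
    refine LabGraphLead.exists_potential ends _ fun C hC γ hγ hsupp => ?_
    by_cases h : ∃ e ∈ C, lab e = x
    · obtain ⟨e₀, he₀, hx⟩ := h
      rw [← LabGraphLead.cycle_orth ends hγ f]
      refine Finset.sum_congr rfl fun e _ => ?_
      by_cases he : e ∈ C
      · rw [if_pos ((hcirc C hC e he e₀ he₀).trans hx)]
      · simp [hsupp e he]
    · refine Finset.sum_eq_zero fun e _ => ?_
      by_cases he : e ∈ C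
      · rw [if_neg (fun h' => h ⟨e, he, h'⟩), mul_zero]
      · simp [hsupp e he]
  choose g hg using hex
  have hpiece : ∀ v₀ x, LabGraph.IsCartier ends n (fun v => g x v - g x v₀) ∧
      (∃ B : Finset E, (∀ e ∈ B, ∀ e' ∈ B, lab e = lab e') ∧ ∀ e, e ∉ B →
        (fun v => g x v - g x v₀) (ends e).1 = (fun v => g x v - g x v₀) (ends e).2) ∧
      (fun v => g x v - g x v₀) v₀ = 0 := by
    refine fun v₀ x => ⟨fun e => ?_, ⟨Finset.univ.filter fun e => lab e = x, fun e he e' he' => ?_, fun e he => ?_⟩, sub_self _⟩
    · have h := hg x e
      simp only [sub_sub_sub_cancel_right]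
      rw [← neg_sub, dvd_neg, h]
      split
      · rw [← neg_sub, dvd_neg]; exact hf e
      · exact dvd_zero _
    · rw [(Finset.mem_filter.1 he).2, (Finset.mem_filter.1 he').2]
    · have h := hg x e
      rw [if_neg (by simpa using he)] at h
      simp only
      linarith
  have hdecomp : ∀ v₀ v, f v = f v₀ + ∑ x ∈ labs, (g x v - g x v₀) := by
    intro v₀ v
    let r : V → ℤ := fun v => f v - ∑ x ∈ labs, g x v
    have hr : ∀ e, r (ends e).1 = r (ends e).2 := by
      intro e
      have : ∑ x ∈ labs, (g x (ends e).2 - g x (ends e).1) = f (ends e).2 - f (ends e).1 := by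
        simp only [hg, Finset.sum_ite_eq]
        rw [if_pos (Finset.mem_image_of_mem lab (Finset.mem_univ e))]
      simp only [r]
      rw [Finset.sum_sub_distrib] at this
      linarith
    have hc : r v = r v₀ := by
      induction hconn.2 v₀ v with
      | refl => rfl
      | tail _ hbc ih =>
        obtain ⟨e, he | he⟩ := hbc
        · have := hr e; rw [he] at this; exact this.symm.trans ih
        · have := hr e; rw [he] at this; exact this.trans ih
    simp only [r] at hc
    rw [Finset.sum_sub_distrib]
    linarith
  constructor
  · obtain ⟨v₀⟩ := hconn.1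
    rw [show f = (fun _ => f v₀) + ∑ x ∈ labs, (fun v => g x v - g x v₀) from funext fun v => by
      rw [Pi.add_apply, Finset.sum_apply]; exact hdecomp v₀ v]
    refine add_mem (AddSubmonoid.subset_closure ⟨fun e => by simp, ∅, by simp, fun e _ => rfl⟩)
      (sum_mem fun x _ => AddSubmonoid.subset_closure ⟨(hpiece v₀ x).1, (hpiece v₀ x).2.1⟩)
  · intro v₀ h0
    rw [show f = ∑ x ∈ labs, (fun v => g x v - g x v₀) from funext fun v => by
      rw [Finset.sum_apply, hdecomp v₀ v, h0, zero_add]]
    exact sum_mem fun x _ => AddSubmonoid.subset_closure (hpiece v₀ x)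

end Groth.Agent.S17724
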