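import Groth.Statements.S17725
import Mathlib.AlgebraicGeometry.Noetherian

set_option autoImplicit false
universe u
open SpecSp

namespace Groth.Agent.S17725

open AlgebraicGeometry in
/-- In a connected Noetherian scheme any two points p, q are linked by a finite chain of points p = x₁,
…, xₙ = q such that for each i one of x_i, x_{i+1} is a specialization of the other; equivalently, p
and q are related by the equivalence relation generated by the specialization relation. -/
theorem result
    (X : Scheme.{u}) [IsNoetherian X] [ConnectedSpace X] (p q : X) :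
    Relation.EqvGen (fun x y : X => x ⤳ y) p q := by
  open AlgebraicGeometry TopologicalSpace in
  let r := fun x y : X => x ⤳ y
  let C : Set X := {x | Relation.EqvGen r p x}
  have hmem : ∀ Z ∈ irreducibleComponents X, ∀ x ∈ Z, ∀ y ∈ Z, Relation.EqvGen r x y := by
    intro Z hZ x hx y hy
    obtain ⟨g, hg⟩ := QuasiSober.sober hZ.1 (isClosed_of_mem_irreducibleComponents Z hZ)
    exact ((Relation.EqvGen.rel g x (hg.specializes hx)).symm).trans _ _ _ (.rel g y (hg.specializes hy))
  have hclosed : ∀ S : Set X, (∀ x ∈ S, ∀ y, Relation.EqvGen r x y → y ∈ S) → IsClosed S := by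
    intro S hS
    have : S = ⋃ Z ∈ {Z | Z ∈ irreducibleComponents X ∧ Z ⊆ S}, Z := by
      refine subset_antisymm (fun x hx => ?_) (Set.iUnion₂_subset fun Z hZ => hZ.2)
      exact Set.mem_biUnion ⟨irreducibleComponent_mem_irreducibleComponents x, fun y hy =>
        hS x hx y (hmem _ (irreducibleComponent_mem_irreducibleComponents x) x mem_irreducibleComponent y hy)⟩
        mem_irreducibleComponent
    rw [this]
    exact (NoetherianSpace.finite_irreducibleComponents.subset fun Z hZ => hZ.1).isClosed_biUnion
      fun Z hZ => isClosed_of_mem_irreducibleComponents Z hZ.1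
  have hC : IsClopen C :=
    ⟨hclosed C fun x hx y hxy => hx.trans _ _ _ hxy,
      isClosed_compl_iff.1 (hclosed Cᶜ fun x hx y hxy hy => hx (hy.trans _ _ _ hxy.symm))⟩
  exact (hC.eq_univ ⟨p, Relation.EqvGen.refl p⟩).ge trivial

end Groth.Agent.S17725
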