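import Groth.Statements.S17726
import Mathlib.RingTheory.Ideal.Operations
import Mathlib.Algebra.GroupWithZero.NonZeroDivisors

set_option autoImplicit false
universe u
open CAlg

namespace Groth.Agent.S17726

/-- Let f and g be non-zero-divisors of a commutative ring A, not both units; think of them as local
equations, at a point of the union of the supports, of two effective Cartier divisors E and D. If
the ideals generated by g^{m₁} and f^{n₁} coincide, and likewise for g^{m₂} and f^{n₂}, then m₁ n₂ =
m₂ n₁. So all pairs (m, n) with m D = n E locally at the point are proportional, and the saturation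
of the monoid they form is generated by a single element. -/
theorem result
    (A : Type u) [CommRing A] (f g : A)
    (hf : f ∈ nonZeroDivisors A) (hg : g ∈ nonZeroDivisors A) (hfg : ¬ (IsUnit f ∧ IsUnit g))
    (m₁ n₁ m₂ n₂ : ℕ)
    (h₁ : Ideal.span {g ^ m₁} = Ideal.span {f ^ n₁})
    (h₂ : Ideal.span {g ^ m₂} = Ideal.span {f ^ n₂}) :
    m₁ * n₂ = m₂ * n₁ := by
  have key : ∀ a b : ℕ, Ideal.span {f ^ a} = Ideal.span {f ^ b} → a < b → IsUnit f := by
    intro a b h hab
    obtain ⟨c, hc⟩ := Ideal.mem_span_singleton.mp (h ▸ Ideal.mem_span_singleton_self (f ^ a))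
    rw [show b = a + (b - a) by omega, pow_add, mul_assoc] at hc
    have h1 : f ^ a * (f ^ (b - a) * c - 1) = 0 := by rw [mul_sub, ← hc]; ring
    have := (mem_nonZeroDivisors_iff_left.mp (pow_mem hf a)) _ h1
    exact (isUnit_pow_iff (by omega : b - a ≠ 0)).mp (IsUnit.of_mul_eq_one c (sub_eq_zero.mp this))
  have h3 : Ideal.span {f ^ (n₁ * m₂)} = Ideal.span {f ^ (n₂ * m₁)} := by
    have e : ∀ (x : A) (i j : ℕ), Ideal.span {x ^ (i * j)} = Ideal.span {x ^ i} ^ j := fun x i j => by
      rw [pow_mul, Ideal.span_singleton_pow]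
    rw [e, ← h₁, ← e, e f n₂, ← h₂, ← e, mul_comm]
  by_contra hne
  have hu : IsUnit f := by
    rcases lt_or_gt_of_ne (show n₁ * m₂ ≠ n₂ * m₁ by intro he; apply hne; rw [mul_comm n₁, mul_comm n₂] at he; omega) with hlt | hlt
    · exact key _ _ h3 hlt
    · exact key _ _ h3.symm hlt
  have hg0 : ∀ m n : ℕ, Ideal.span {g ^ m} = Ideal.span {f ^ n} → m = 0 := by
    intro m n h
    by_contra hm
    apply hfg ⟨hu, ?_⟩
    rw [← isUnit_pow_iff hm, ← Ideal.span_singleton_eq_top, h, Ideal.span_singleton_eq_top]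
    exact hu.pow n
  rw [hg0 _ _ h₁, hg0 _ _ h₂] at hne
  simp at hne

end Groth.Agent.S17726
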