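import Groth.Statements.S17727
-- import your own Groth.Agent.* helpers here

set_option autoImplicit false
universe u
open Neron

namespace Groth.Agent.S17727

open CategoryTheory AlgebraicGeometry in
/-- Let f : E → S be a morphism of schemes and U ⊆ S a schematically dense open subscheme such that f
restricts to an isomorphism over U and the preimage of U is schematically dense in E. Then for every
section σ of f and every point s of S there is an open neighbourhood W of σ(s) in E on which f
restricts to an open immersion. (The published statements conclude that the section lands in the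
étale locus of f, in one published form for an algebraic space E, in another for f locally of finite
type over a Noetherian base; the affine-local argument gives the sharper conclusion recorded here,
for schemes.) -/
theorem result
    {E S : Scheme.{u}} (f : E ⟶ S) (U : S.Opens) (hU : CInt.IsSchematicallyDense U)
    (hiso : IsIso (morphismRestrict f U)) (hdense : CInt.IsSchematicallyDense (f ⁻¹ᵁ U))
    (σ : S ⟶ E) (hσ : σ ≫ f = 𝟙 S) (s : S) :
    ∃ W : E.Opens, σ.base s ∈ W ∧ IsOpenImmersion (W.ι ≫ f) := by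
  obtain ⟨_, ⟨W, hW, rfl⟩, hsW, -⟩ :=
    E.isBasis_affineOpens.exists_subset_of_mem_open (Set.mem_univ (σ.base s)) isOpen_univ
  let W : E.Opens := W
  let D : S.Opens := σ ⁻¹ᵁ W
  let W' : E.Opens := W ⊓ f ⁻¹ᵁ D
  have hfσ : ∀ t : S, f (σ t) = t := fun t => by rw [← Scheme.Hom.comp_apply, hσ]; rfl
  refine ⟨W', ⟨hsW, by show σ (f (σ s)) ∈ W; rw [hfσ]; exact hsW⟩, ?_⟩
  -- on the preimage of `U` the section is inverse to `f`
  let FU := f ⁻¹ᵁ U
  have hFU : FU.ι ≫ f ≫ σ = FU.ι := by
    have hr : Set.range (FU.ι ≫ f ≫ σ) ⊆ Set.range FU.ι := by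
      rintro _ ⟨z, rfl⟩
      rw [Scheme.Opens.range_ι]
      show f (σ (f z.1)) ∈ U
      rw [hfσ]; exact z.2
    have h1 : IsOpenImmersion.lift FU.ι (FU.ι ≫ f ≫ σ) hr = 𝟙 _ := by
      rw [← cancel_mono (f ∣_ U), ← cancel_mono U.ι, Category.assoc, Category.assoc, morphismRestrict_ι,
        IsOpenImmersion.lift_fac_assoc, Category.id_comp, Category.assoc, Category.assoc, hσ, Category.comp_id]
    have h2 := congrArg (· ≫ FU.ι) h1
    simpa using h2
  -- and therefore on all of `W'`, by schematic density
  have hq : Set.range (W'.ι ≫ f ≫ σ) ⊆ Set.range W.ι := by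
    rintro _ ⟨z, rfl⟩
    rw [Scheme.Opens.range_ι]
    exact z.2.2
  have hp : E.homOfLE (inf_le_left : W' ≤ W) = IsOpenImmersion.lift W.ι (W'.ι ≫ f ≫ σ) hq := by
    have : IsAffine W := hW
    apply ext_of_isAffine
    ext x
    let W'' : E.Opens := W' ⊓ FU
    have hinj : Function.Injective (E.homOfLE (inf_le_left : W'' ≤ W')).appTop := by
      intro u v huv
      have key : W'.topIso.hom ≫ E.presheaf.map (homOfLE (inf_le_left : W' ⊓ FU ≤ W')).op =
          (E.homOfLE (inf_le_left : W'' ≤ W')).appTop ≫ W''.topIso.hom := by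
        rw [Scheme.Hom.appTop, Scheme.homOfLE_app]
        simp only [Scheme.Opens.topIso, Functor.mapIso_hom]
        erw [← Functor.map_comp, ← Functor.map_comp]
        congr 1
      apply (ConcreteCategory.bijective_of_isIso W'.topIso.hom).injective
      apply hdense W'
      have k₁ := ConcreteCategory.congr_hom key u
      have k₂ := ConcreteCategory.congr_hom key v
      simp only [CommRingCat.comp_apply] at k₁ k₂
      exact k₁.trans ((congrArg W''.topIso.hom huv).trans k₂.symm)
    apply hinj
    rw [← CommRingCat.comp_apply, ← CommRingCat.comp_apply, ← Scheme.Hom.comp_appTop, ← Scheme.Hom.comp_appTop]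
    congr 3
    rw [← cancel_mono W.ι, Category.assoc, Category.assoc, IsOpenImmersion.lift_fac, Scheme.homOfLE_ι,
      Scheme.homOfLE_ι, Scheme.homOfLE_ι_assoc, ← E.homOfLE_ι (inf_le_right : W'' ≤ FU), Category.assoc, hFU]
  have hid : W'.ι ≫ f ≫ σ = W'.ι := by
    conv_rhs => rw [← E.homOfLE_ι (inf_le_left : W' ≤ W), hp, IsOpenImmersion.lift_fac]
  have hr₁ : Set.range (W'.ι ≫ f) ⊆ Set.range D.ι := by
    rintro _ ⟨z, rfl⟩
    rw [Scheme.Opens.range_ι]
    exact z.2.2
  have hr₂ : Set.range (D.ι ≫ σ) ⊆ Set.range W'.ι := by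
    rintro _ ⟨z, rfl⟩
    rw [Scheme.Opens.range_ι]
    exact ⟨z.2, by show σ (f (σ z.1)) ∈ W; rw [hfσ]; exact z.2⟩
  let h := IsOpenImmersion.lift D.ι (W'.ι ≫ f) hr₁
  have : IsIso h := ⟨IsOpenImmersion.lift W'.ι (D.ι ≫ σ) hr₂, by
    rw [← cancel_mono W'.ι, Category.assoc, IsOpenImmersion.lift_fac, IsOpenImmersion.lift_fac_assoc,
      Category.id_comp, Category.assoc, hid], by
    rw [← cancel_mono D.ι, Category.assoc, IsOpenImmersion.lift_fac, IsOpenImmersion.lift_fac_assoc,
      Category.id_comp, Category.assoc, hσ, Category.comp_id]⟩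
  rw [← IsOpenImmersion.lift_fac D.ι (W'.ι ≫ f) hr₁]
  exact inferInstanceAs (IsOpenImmersion (h ≫ D.ι))

end Groth.Agent.S17727
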