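import Groth.Statements.S17731
-- import your own Groth.Agent.* helpers here

set_option autoImplicit false
universe u
open Neron

namespace Groth.Agent.S17731

open CategoryTheory AlgebraicGeometry in
/-- Let S be a scheme, U ⊆ S a schematically dense open subscheme and N → S a smooth S-scheme having
uniqueness in the Néron mapping property with respect to U: for every smooth S-scheme Y, restriction
to U is injective on S-morphisms Y → N. Then for every smooth morphism g : S' → S the base change N
×_S S' → S' has uniqueness in the Néron mapping property with respect to g⁻¹(U): for every smooth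
S'-scheme Y', restriction to g⁻¹(U) is injective on S'-morphisms Y' → N ×_S S'. (The published
statement is for models which are algebraic spaces, tested against smooth algebraic spaces; this row
states the case of a scheme model tested against smooth schemes. The companion assertion that Néron
models are preserved by smooth base change is not restated here.) -/
theorem result
    {S S' : Scheme.{u}} (g : S' ⟶ S) [Smooth g]
    (U : S.Opens) (hU : CInt.IsSchematicallyDense U) (N : Over S) [Smooth N.hom]
    (hN : ∀ Y : Over S, Smooth Y.hom →
      Function.Injective (fun f : Y ⟶ N => (Over.pullback U.ι).map f))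
    (Y' : Over S') [Smooth Y'.hom] :
    Function.Injective (fun f : Y' ⟶ (Over.pullback g).obj N => (Over.pullback (g ⁻¹ᵁ U).ι).map f) := by
  intro f₁ f₂ h
  dsimp only at h
  have hsm : Smooth (Y'.hom ≫ g) := inferInstance
  let a : ∀ _ : Y' ⟶ (Over.pullback g).obj N, Over.mk (Y'.hom ≫ g) ⟶ N := fun k =>
    Over.homMk (k.left ≫ Limits.pullback.fst N.hom g) (by
      have := Over.w k
      dsimp at this ⊢
      rw [Category.assoc, Limits.pullback.condition, ← Category.assoc, this])
  have key : a f₁ = a f₂ := by
    apply hN _ hsm
    let p := Limits.pullback.fst (Y'.hom ≫ g) U.ι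
    have hp : Set.range (p ≫ Y'.hom) ⊆ Set.range (g ⁻¹ᵁ U).ι := by
      rintro _ ⟨z, rfl⟩
      rw [Scheme.Opens.range_ι]
      show g ((p ≫ Y'.hom) z) ∈ U
      rw [← Scheme.Hom.comp_apply, Category.assoc, Limits.pullback.condition, Scheme.Hom.comp_apply]
      exact (Limits.pullback.snd (Y'.hom ≫ g) U.ι z).2
    let l := Limits.pullback.lift (f := Y'.hom) (g := (g ⁻¹ᵁ U).ι) p
      (IsOpenImmersion.lift (g ⁻¹ᵁ U).ι (p ≫ Y'.hom) hp) (IsOpenImmersion.lift_fac _ _ _).symm
    have e := congrArg (fun k => l ≫ CommaMorphism.left k ≫
      Limits.pullback.fst ((Over.pullback g).obj N).hom (g ⁻¹ᵁ U).ι) h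
    have e' : p ≫ f₁.left = p ≫ f₂.left := by simpa [l, Limits.pullback.lift_fst, Limits.pullback.lift_fst_assoc] using e
    apply Over.OverMorphism.ext
    apply Limits.pullback.hom_ext
    · simpa [a, p, Limits.pullback.lift_fst] using congrArg (fun z => z ≫ Limits.pullback.fst N.hom g) e'
    · simp [a, Limits.pullback.lift_snd]
  ext1
  apply Limits.pullback.hom_ext
  · exact congrArg CommaMorphism.left key
  · have e₁ := Over.w f₁
    have e₂ := Over.w f₂
    dsimp at e₁ e₂
    exact e₁.trans e₂.symm

end Groth.Agent.S17731
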