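import Groth.Statements.S17745
import Mathlib

set_option autoImplicit false
universe u
open CategoryTheory AlgebraicGeometry
open QsChow


namespace S17745Aux
open Classical
variable {X Y : Scheme.{u}} (s : X ⟶ Y) (p : Y ⟶ X)

lemma residueDegree_section (hsp : s ≫ p = 𝟙 X) (x : X) : p.residueDegree (s x) = 1 := by
  have hiso : ∀ {h : X ⟶ X}, h = 𝟙 X → Function.Bijective (h.residueFieldMap x).hom := by
    rintro _ rfl
    exact ConcreteCategory.bijective_of_isIso ((𝟙 X : X ⟶ X).residueFieldMap x)
  have hb := hiso hsp
  rw [Scheme.residueFieldMap_comp] at hb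
  have hs : Function.Bijective (s.residueFieldMap x).hom :=
    ⟨RingHom.injective _, fun z => by obtain ⟨w, hw⟩ := hb.2 z; exact ⟨_, hw⟩⟩
  have hp : Function.Bijective (p.residueFieldMap (s x)).hom := by
    refine ⟨RingHom.injective _, fun z => ?_⟩
    obtain ⟨w, hw⟩ := hb.2 ((s.residueFieldMap x).hom z)
    exact ⟨w, hs.1 hw⟩
  letI : Algebra (X.residueField (p (s x))) (Y.residueField (s x)) := (p.residueFieldMap (s x)).hom.toAlgebra
  show Module.finrank (X.residueField (p (s x))) (Y.residueField (s x)) = 1
  rw [← (LinearEquiv.ofBijective (Algebra.linearMap (X.residueField (p (s x))) (Y.residueField (s x))) hp).finrank_eq]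
  exact Module.finrank_self _

noncomputable def lift (c : AlgebraicCycle X ℤ) : AlgebraicCycle Y ℤ where
  toFun w := if s (p w) = w then c (p w) else 0
  supportWithinDomain' := Set.subset_univ _
  supportLocallyFiniteWithinDomain' z _ := by
    obtain ⟨t, ht, hfin⟩ := c.supportLocallyFiniteWithinDomain' (p z) trivial
    refine ⟨p ⁻¹' t, p.continuous.continuousAt.preimage_mem_nhds ht, (hfin.image s).subset ?_⟩
    rintro w ⟨hwt, hw⟩
    simp only [Function.mem_support, ne_eq, ite_eq_right_iff, Classical.not_imp] at hw
    exact ⟨p w, ⟨hwt, hw.2⟩, hw.1⟩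

lemma map_lift (hsp : s ≫ p = 𝟙 X) [QuasiCompact p] (δ : X → ℤ) (c : AlgebraicCycle X ℤ) :
    AlgebraicCycle.map p (δ ∘ p.base) δ (lift s p c) = c := by
  have hps : ∀ x, p (s x) = x := fun x => by rw [← Scheme.Hom.comp_apply, hsp]; rfl
  refine Function.locallyFinsuppWithin.ext fun z => ?_
  unfold AlgebraicCycle.map
  rw [Function.locallyFinsupp.map_apply]
  have h0 : ∀ w ∈ p.base ⁻¹' {z}, w ≠ s z → lift s p c w = 0 := by
    intro w hw hne
    show (if s (p w) = w then c (p w) else 0) = 0
    rw [if_neg]
    intro h
    exact hne (by rw [← h, show p w = z from hw])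
  rw [finsum_eq_single _ (s z) fun w hw => by
    by_cases h : w ∈ p.base ⁻¹' {z}
    · rw [finsum_eq_if, if_pos h, h0 w h hw, zero_mul]
    · rw [finsum_eq_if, if_neg h]]
  rw [finsum_eq_if, if_pos (show s z ∈ p.base ⁻¹' {z} from hps z)]
  show (if s (p (s z)) = s z then c (p (s z)) else 0) * _ = _
  rw [hps, if_pos rfl, AlgebraicCycle.mapCoeff, residueDegree_section s p hsp]
  simp

lemma lift_mem (δ : X → ℤ) (j : ℤ) (c : AlgebraicCycle X ℤ) (hc : c ∈ Cyc.Zk X δ j) :
    lift s p c ∈ Cyc.Zk Y (δ ∘ p.base) j := by
  intro w hw
  show (if s (p w) = w then c (p w) else 0) = 0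
  rw [hc (p w) hw, ite_self]

end S17745Aux

namespace Groth.Agent.S17745

/-- For a field extension K of k (separable algebraic) and a k-scheme X with weight function δ, call
norm subgroup of CH_j(X) the subgroup generated by the classes of the push-forwards to X of j-cycles
on the base changes X_F, over the intermediate fields F of K over k that are finite over k and
different from k (the quotient by it is the degree-j part of the conormed Chow group of X relative
to K over k). Let F be an intermediate field of K over k, finite over k and different from k, and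
let X be a smooth variety over F (a scheme with a smooth, separated and quasi-compact morphism g to
Spec F), regarded as a k-scheme by composing g with Spec F → Spec k. Then for every weight function
δ on X (a dimension function induced from weight 0 on Spec k) and every integer j the norm subgroup
of CH_j(X) relative to K over k is the whole Chow group: all conormed Chow groups of X vanish. (The
source's F is tacitly different from k; for F = k the assertion fails, e.g. with K = k.) -/
theorem result
    (k : Type u) [Field k] (K : Type u) [Field K] [Algebra k K] [Algebra.IsSeparable k K]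
    (F : IntermediateField k K) [FiniteDimensional k F] (hF : F ≠ ⊥)
    (X : Scheme.{u}) [X.Over (Spec (CommRingCat.of k))] (g : X ⟶ Spec (CommRingCat.of F))
    (hg : g ≫ Spec.map (CommRingCat.ofHom (algebraMap k F)) = X ↘ Spec (CommRingCat.of k))
    (hsm : Smooth g) [IsSeparated g] [QuasiCompact g]
    (δ : X → ℤ) (hδ : Cyc.IsSetup X δ)
    (hcompat : Cyc.DeltaCompat (X ↘ Spec (CommRingCat.of k)) δ (fun _ => 0)) (j : ℤ) :
    QsChow.normSubgroup k K X δ j = ⊤ := by
  refine eq_top_iff.mpr fun c _ => ?_
  obtain ⟨⟨β, hβ⟩, rfl⟩ := QuotientAddGroup.mk_surjective c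
  let s : X ⟶ Curv2.bc k X F := Limits.pullback.lift (𝟙 X) g (by rw [Category.id_comp, hg])
  have hsp : s ≫ Curv2.bcFst k X F = 𝟙 X := Limits.pullback.lift_fst _ _ _
  have hm := S17745Aux.map_lift s (Curv2.bcFst k X F) hsp δ β
  refine AddSubgroup.subset_closure ⟨F, inferInstance, hF, S17745Aux.lift s (Curv2.bcFst k X F) β,
    S17745Aux.lift_mem s _ δ j β hβ, by rw [hm]; exact hβ, ?_⟩
  simp only [hm]
  rfl

end Groth.Agent.S17745
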