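import Groth.Statements.S17747
import Groth.Agent.QsChowLib.Kernel
import Mathlib

set_option autoImplicit false
open QsChow

namespace Groth.Agent.S17747

open QsChow in
lemma oddIdeal_eq (n : ℕ) (hn : 2 ≤ n) (hodd : Odd n) :
    oddIdeal n = presIdeal n ⊔ Ideal.span {evar n 1} := by
  obtain ⟨r, rfl⟩ := hodd
  set n := 2 * r + 1 with hr
  have hpow : ∀ t, 1 ≤ t → 2 ^ t % 2 = 0 := fun t ht => by
    obtain ⟨u, rfl⟩ := Nat.exists_eq_add_of_le ht
    simp [pow_add]
  have hk2 : klog n 2 = Nat.log 2 n + 1 := by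
    have h1 := Nat.pow_log_le_self 2 (show n ≠ 0 by omega)
    have h2 := Nat.lt_pow_succ_log_self (b := 2) one_lt_two n
    have h3 := hpow (Nat.log 2 n) (Nat.log_pos one_lt_two hn)
    simp only [klog, show 2 * 2 - 3 = 1 from rfl, Nat.div_one]
    rw [Nat.succ_eq_add_one] at h2
    apply Nat.log_eq_of_pow_le_of_lt_pow <;> (rw [pow_succ] at *; try rw [pow_succ]) <;> omega
  have hkj : ∀ j, 3 ≤ j → j ≤ numVars n → kprime n j = klog n j ∧ n < (2 * j - 3) * 2 ^ klog n j := by
    intro j hj hjs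
    have hjs' : 2 * j - 3 < n := by simp only [numVars] at hjs; omega
    have key : ∀ k, 2 ^ k * (2 * j - 3) ≠ 2 * n ∧ 2 ^ k * (2 * j - 3) ≠ n := by
      intro k
      rcases k with _ | _ | k
      · constructor <;> simp <;> omega
      · constructor <;> omega
      · constructor <;>
        · intro h
          have e : 2 ^ (k + 1 + 1) * (2 * j - 3) = 4 * (2 ^ k * (2 * j - 3)) := by ring
          omega
    refine ⟨?_, lt_of_le_of_ne (QsChowLib.le_mul_pow_klog n j hn (by omega))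
      fun h => (key _).2 (by rw [mul_comm]; exact h.symm)⟩
    simp only [kprime, klog, if_neg (show j ≠ 1 by omega), if_neg (show j ≠ 2 by omega)]
    symm
    have hq : 2 * n / (2 * j - 3) ≠ 0 := (Nat.div_pos (by omega) (by omega)).ne'
    apply Nat.log_eq_of_pow_le_of_lt_pow
    · rw [Nat.le_div_iff_mul_le (by omega)]
      have := (Nat.le_div_iff_mul_le (show 0 < 2 * j - 3 by omega)).mp (Nat.pow_log_le_self 2 hq)
      have := (key (Nat.log 2 (2 * n / (2 * j - 3)))).1
      omega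
    · exact lt_of_le_of_lt (Nat.div_le_div_right (by omega)) (Nat.lt_pow_succ_log_self one_lt_two _)
  set O := oddIdeal n with hO
  set T := presIdeal n ⊔ Ideal.span {evar n 1} with hT
  have he : ∀ (I : Ideal (FreeE n)), evar n 1 ∈ I → ∀ (m : ℕ) (z : FreeE n), 1 ≤ m → evar n 1 ^ m * z ∈ I :=
    fun I hI m z hm => I.mul_mem_right _ (I.pow_mem_of_mem hI m hm)
  have main : ∀ I : Ideal (FreeE n), evar n 1 ∈ I → ∀ i : Fin (numVars n), 1 ≤ i.val →
      hrel n (i.val + 1) - evar n (i.val + 1) ^ 2 ^ kprime n (i.val + 1) ∈ I := by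
    intro I hI i hi
    rcases eq_or_lt_of_le hi with h | h
    · rw [← h, show (1 : ℕ) + 1 = 2 from rfl, hrel, if_pos rfl, sPoly, hk2, Finset.sum_range_succ]
      have hkp : kprime n 2 = Nat.log 2 n := by simp [kprime]
      rw [hkp, Nat.sub_self, pow_zero, one_mul, ← add_assoc, add_sub_cancel_right]
      refine I.add_mem (he I hI _ _ ?_) (I.sum_mem fun t ht => he I hI _ _ ?_)
      · have h1 := hpow (Nat.log 2 n + 1) (by omega)
        have h2 := Nat.lt_pow_succ_log_self (b := 2) one_lt_two n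
        rw [Nat.succ_eq_add_one] at h2
        omega
      · have : 2 ^ (t + 1) < 2 ^ (Nat.log 2 n + 1) :=
          Nat.pow_lt_pow_right one_lt_two (by have := Finset.mem_range.mp ht; omega)
        omega
    · obtain ⟨h1, h2⟩ := hkj (i.val + 1) (by omega) i.isLt
      rw [hrel, if_neg (by omega), if_pos ⟨by omega, i.isLt⟩, h1, add_assoc, add_sub_cancel_left]
      refine I.add_mem (he I hI _ _ (by omega)) (he I hI _ _ ?_)
      exact Nat.mul_pos (by omega) (Nat.two_pow_pos _)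
  have hO1 : evar n 1 ∈ O := Ideal.subset_span (Or.inl (Or.inl rfl))
  have hT1 : evar n 1 ∈ T := Ideal.mem_sup_right (Ideal.mem_span_singleton_self _)
  have hpow1 : 2 ^ kprime n 1 ≠ 0 := (Nat.two_pow_pos _).ne'
  apply le_antisymm
  · rw [hO, oddIdeal, Ideal.span_le]
    rintro z ((rfl | rfl) | ⟨i, rfl⟩)
    · exact hT1
    · exact Ideal.mem_sup_left (Ideal.subset_span (Or.inl (Or.inr (Or.inr rfl))))
    · rcases Nat.eq_zero_or_pos i.val with h | h
      · show evar n (i.val + 1) ^ _ ∈ T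
        rw [h]
        exact T.pow_mem_of_mem hT1 _ (Nat.two_pow_pos _)
      · have hmem : hrel n (i.val + 1) ∈ T := Ideal.mem_sup_left (Ideal.subset_span (Or.inr ⟨i, rfl⟩))
        simpa using T.sub_mem hmem (main T hT1 i h)
  · refine sup_le ?_ ((Ideal.span_singleton_le_iff_mem O).mpr hO1)
    rw [presIdeal, Ideal.span_le]
    rintro z ((rfl | rfl | rfl) | ⟨i, rfl⟩)
    · exact O.pow_mem_of_mem hO1 n (by omega)
    · exact O.mul_mem_right _ hO1
    · exact Ideal.subset_span (Or.inl (Or.inr rfl))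
    · rcases Nat.eq_zero_or_pos i.val with h | h
      · show hrel n (i.val + 1) ∈ O
        rw [h, hrel, if_neg (by omega), if_neg (by omega)]
        exact O.zero_mem
      · have hmem : evar n (i.val + 1) ^ 2 ^ kprime n (i.val + 1) ∈ O := Ideal.subset_span (Or.inr ⟨i, rfl⟩)
        simpa using O.add_mem (main O hO1 i h) hmem


/-- Let n ≥ 2, s := n / 2 + 1, k_j the integer part of log_2((2n-1)/(2j-3)) for 2 ≤ j ≤ s, P := F_2[ε_1,
…, ε_s]/(ε_1^n, ε_2^(2^k_2), …, ε_s^(2^k_s)), τ the F_2-algebra involution of P fixing ε_1 and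
sending ε_j to ε_j + ε_1^(2j-3) (2 ≤ j ≤ s), and ē_1 := ε_1, ē_2 := ε_2^2 + ε_1ε_2, ē_j := ε_j +
ε_1^(2j-4)ε_2 (j ≥ 3), x̄ := ε_1^(n-1)ε_2; write 2^a for the exact power of 2 dividing n, l for the
integer with n = 2^a(2l-3), and k'_1 := a, k'_2 := the integer part of log_2 n, k'_j := the integer
part of log_2(2n/(2j-3)) for j ≥ 3. Suppose n is odd (so a = 0). Then for a polynomial q in F_2[e_1,
…, e_s, x] the image φ(q) (φ : e_j ↦ ē_j, x ↦ x̄) lies in ε_1 · P^τ, P^τ the τ-fixed subalgebra, if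
and only if q lies in the ideal generated by e_1, x^2 and the powers e_j^(2^k'_j) for 2 ≤ j ≤ s.
Since φ maps onto P^τ, this says that P^τ modulo ε_1 is F_2[e_2, …, e_s, x]/(e_2^(2^k'_2), …,
e_s^(2^k'_s), x^2). -/
theorem result (n : ℕ) (hn : 2 ≤ n)
    (τ : QsChow.P n →ₐ[ZMod 2] QsChow.P n) (hτ1 : τ (QsChow.eps n 1) = QsChow.eps n 1)
    (hτ : ∀ j : ℕ, 2 ≤ j → j ≤ QsChow.numVars n →
      τ (QsChow.eps n j) = QsChow.eps n j + QsChow.eps n 1 ^ (2 * j - 3))
    (hodd : Odd n) (q : QsChow.FreeE n) :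
    (∃ w : QsChow.P n, τ w = w ∧ QsChow.phi n q = QsChow.eps n 1 * w) ↔ q ∈ QsChow.oddIdeal n := by
  rw [oddIdeal_eq n hn hodd]
  have he1 : QsChow.phi n (QsChow.evar n 1) = QsChow.eps n 1 := by
    rw [QsChowLib.phi_evar Nat.one_pos (QsChowLib.numVars_pos n), if_pos rfl]
  constructor
  · rintro ⟨w, hw, h⟩
    obtain ⟨q', hq'⟩ : w ∈ (QsChow.phi n).range := by
      rw [QsChowLib.range_phi_eq hn τ hτ1 hτ]; exact hw
    have hk : q - QsChow.evar n 1 * q' ∈ QsChow.presIdeal n := by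
      rw [← QsChowLib.ker_phi hn, RingHom.mem_ker, map_sub, map_mul, he1, h]
      rw [show QsChow.phi n q' = w from hq', sub_self]
    have : q = (q - QsChow.evar n 1 * q') + QsChow.evar n 1 * q' := by ring
    rw [this]
    exact Submodule.add_mem_sup hk (Ideal.mul_mem_right _ _ (Ideal.mem_span_singleton_self _))
  · intro hq
    obtain ⟨a, ha, b, hb, rfl⟩ := Submodule.mem_sup.mp hq
    obtain ⟨c, rfl⟩ := Ideal.mem_span_singleton'.mp hb
    refine ⟨QsChow.phi n c, QsChowLib.tau_of_mem_range hn τ hτ1 hτ ⟨c, rfl⟩, ?_⟩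
    rw [map_add, map_mul, he1,
      show QsChow.phi n a = 0 from RingHom.mem_ker.mp (QsChowLib.presIdeal_le_ker hn ha), zero_add, mul_comm]
end Groth.Agent.S17747
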