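import Groth.Statements.S17748
import Groth.Agent.QsChowLib.Kernel
import Mathlib

set_option autoImplicit false
open QsChow

namespace Groth.Agent.S17748

open QsChow MvPolynomial in
lemma main (n : ℕ) (hn : 2 ≤ n) (τ : P n →ₐ[ZMod 2] P n) (hτ1 : τ (eps n 1) = eps n 1)
    (hτ : ∀ j : ℕ, 2 ≤ j → j ≤ numVars n → τ (eps n j) = eps n j + eps n 1 ^ (2 * j - 3))
    (ha : 1 ≤ twoExp n) (hne : n ≠ 2 ^ twoExp n) :
    (∀ q : FreeP n, (∃ w : P n, τ w = w ∧ psi n q = eps n 1 ^ 2 ^ twoExp n * w) ↔ q ∈ evenIdeal n) ∧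
    (∀ z : P n, τ z = z → ∃ q : FreeP n, ∃ w : P n,
      τ w = w ∧ z = psi n q + eps n 1 ^ 2 ^ twoExp n * w) := by
  obtain ⟨a, ha'⟩ : ∃ a, a = twoExp n := ⟨_, rfl⟩
  rw [← ha'] at ha hne ⊢
  haveI : Fact (Nat.Prime 2) := ⟨Nat.prime_two⟩
  obtain ⟨N, hN⟩ : ∃ N, N = 2 ^ a := ⟨_, rfl⟩
  obtain ⟨d, hd⟩ : N ∣ n := by rw [hN, ha']; exact pow_padicValNat_dvd
  have hdodd : d % 2 = 1 := by
    by_contra h
    have : ¬ 2 ^ (padicValNat 2 n + 1) ∣ n := pow_succ_padicValNat_not_dvd (by omega)
    apply this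
    obtain ⟨e, rfl⟩ : 2 ∣ d := Nat.dvd_of_mod_eq_zero (by omega)
    refine ⟨e, ?_⟩
    conv_lhs => rw [hd, hN, ha', twoExp]
    rw [pow_succ]; ring
  have hd3 : 3 ≤ d := by
    rcases Nat.lt_or_ge d 3 with h | h
    · have h1 : d = 1 := by omega
      subst h1; exact absurd (by rw [hd, mul_one, hN]) hne
    · exact h
  have hNpos : 0 < N := by rw [hN]; exact Nat.two_pow_pos a
  have hN2 : 2 ≤ N := by rw [hN]; exact le_trans (by norm_num) (Nat.pow_le_pow_right two_pos ha)
  have h3N : 3 * N ≤ n := by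
    have h := Nat.mul_le_mul_left N hd3
    rw [← hd] at h; omega
  have h2d : 2 * d ≤ n := by
    have h := Nat.mul_le_mul_right d hN2
    rw [← hd] at h; omega
  obtain ⟨l, hl⟩ : ∃ l, l = lIdx n := ⟨_, rfl⟩
  have hl' : 2 * l - 3 = d ∧ 3 ≤ l ∧ l ≤ numVars n := by
    have e : n / 2 ^ twoExp n = d := by rw [← ha', ← hN, hd, Nat.mul_div_cancel_left d hNpos]
    simp only [lIdx, e] at hl
    simp only [numVars]
    omega
  obtain ⟨hld, hl3, hls⟩ := hl'
  have hnotpow : ∀ k, 2 ^ k ≠ n := by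
    intro k h
    obtain ⟨i, -, hi⟩ := (Nat.dvd_prime_pow Nat.prime_two).mp (Dvd.intro_left N (hd.symm.trans h.symm) : d ∣ 2 ^ k)
    rcases Nat.eq_zero_or_pos i with rfl | hi0
    · simp at hi; omega
    · obtain ⟨u, rfl⟩ := Nat.exists_eq_add_of_le hi0
      rw [pow_add] at hi; omega
  have hk2 : klog n 2 = Nat.log 2 n + 1 := by
    have h1 := Nat.pow_log_le_self 2 (show n ≠ 0 by omega)
    have h2 := Nat.lt_pow_succ_log_self (b := 2) one_lt_two n
    have h3 := hnotpow (Nat.log 2 n)
    simp only [klog, show 2 * 2 - 3 = 1 from rfl, Nat.div_one]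
    rw [Nat.succ_eq_add_one, pow_succ] at h2
    apply Nat.log_eq_of_pow_le_of_lt_pow
    · rw [pow_succ]; omega
    · rw [pow_succ, pow_succ]; omega
  have hkl : klog n l = a ∧ kprime n l = a + 1 := by
    constructor
    · simp only [klog, hld]
      apply Nat.log_eq_of_pow_le_of_lt_pow
      · rw [Nat.le_div_iff_mul_le (by omega), ← hN, ← hd]; omega
      · rw [Nat.div_lt_iff_lt_mul (by omega), pow_succ, ← hN, mul_right_comm, ← hd]; omega
    · simp only [kprime, if_neg (show l ≠ 1 by omega), if_neg (show l ≠ 2 by omega), hld]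
      rw [show 2 * n / d = 2 ^ (a + 1) by
        rw [hd, ← mul_assoc, Nat.mul_div_cancel _ (by omega), hN, pow_succ, mul_comm]]
      exact Nat.log_pow one_lt_two _
  have hkj : ∀ j, 3 ≤ j → j ≤ numVars n → j ≠ l →
      kprime n j = klog n j ∧ n < (2 * j - 3) * 2 ^ klog n j := by
    intro j hj hjs hjl
    have key : ∀ k m, 2 ^ k * (2 * j - 3) ≠ 2 ^ m * d := by
      intro k m h
      have hx : ∀ (k m u v : ℕ), u % 2 = 1 → v % 2 = 1 → 2 ^ k * u = 2 ^ m * v → u = v := by
        intro k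
        induction k with
        | zero =>
          intro m u v hu hv h
          rcases m with _ | m
          · simpa using h
          · rw [pow_succ', mul_assoc] at h; simp at h; omega
        | succ k ih =>
          intro m u v hu hv h
          rcases m with _ | m
          · rw [pow_succ', mul_assoc] at h; simp at h; omega
          · rw [pow_succ', pow_succ', mul_assoc, mul_assoc] at h
            exact ih m u v hu hv (by omega)
      have := hx k m (2 * j - 3) d (by omega) hdodd h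
      omega
    have hjs' : 2 * j - 3 < n := by simp only [numVars] at hjs; omega
    refine ⟨?_, lt_of_le_of_ne (QsChowLib.le_mul_pow_klog n j hn (by omega))
      fun h => key (klog n j) a (by rw [← hN, ← hd, mul_comm]; exact h.symm)⟩
    simp only [kprime, klog, if_neg (show j ≠ 1 by omega), if_neg (show j ≠ 2 by omega)]
    symm
    have hq : 2 * n / (2 * j - 3) ≠ 0 := (Nat.div_pos (by omega) (by omega)).ne'
    apply Nat.log_eq_of_pow_le_of_lt_pow
    · rw [Nat.le_div_iff_mul_le (by omega)]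
      have := (Nat.le_div_iff_mul_le (show 0 < 2 * j - 3 by omega)).mp (Nat.pow_log_le_self 2 hq)
      have h' := key (Nat.log 2 (2 * n / (2 * j - 3))) (a + 1)
      rw [pow_succ, ← hN, mul_comm N 2, mul_assoc, ← hd] at h'
      omega
    · exact lt_of_le_of_lt (Nat.div_le_div_right (by omega)) (Nat.lt_pow_succ_log_self one_lt_two _)
  -- substitution for `x`
  let ι : FreeP n →ₐ[ZMod 2] FreeE n := rename some
  have hιe : ∀ j, ι (evarE n j) = evar n j := by
    intro j; unfold evar evarE; split_ifs <;> simp [ι]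
  set X₀ : FreeP n := evarE n l ^ N + evarE n 1 ^ ((2 * l - 4) * N) *
    ∑ t ∈ Finset.range (klog n l), evarE n 1 ^ (2 ^ klog n l - 2 ^ (t + 1)) * evarE n 2 ^ 2 ^ t with hX₀
  let θ : FreeE n →ₐ[ZMod 2] FreeP n := aeval fun o => o.elim X₀ X
  have hθι : ∀ q, θ (ι q) = q := fun q => by
    simp only [θ, ι, aeval_rename]
    exact aeval_X_left_apply q
  have hev : ∀ j, θ (evar n j) = evarE n j := fun j => by rw [← hιe, hθι]
  have hx : θ (xvar n) = X₀ := by simp [θ, xvar]
  have hpsi : ∀ q, psi n q = phi n (ι q) := fun q => by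
    simp [psi, phi, ι, aeval_rename, Function.comp_def]
  have hhl : hrel n l = ι X₀ + xvar n := by
    have e : (2 * l - 3) * 2 ^ klog n l - n = 0 := by rw [hkl.1, ← hN, hld, mul_comm, ← hd, Nat.sub_self]
    rw [hrel, if_neg (by omega), if_pos ⟨hl3, hls⟩, e, hX₀]
    simp only [map_add, map_mul, map_pow, map_sum, hιe, sPoly, hkl.1, ← hN, pow_zero, one_mul]
    ring
  have h2E : ∀ z : FreeP n, z + z = 0 := fun z => by
    rw [← two_mul, show (2 : FreeP n) = C (2 : ZMod 2) from (map_ofNat C 2).symm,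
      show (2 : ZMod 2) = 0 from rfl, map_zero, zero_mul]
  have hhl0 : hrel n l ∈ presIdeal n := by
    have := Ideal.subset_span (α := FreeE n) (s := ({evar n 1 ^ n, evar n 1 * xvar n, xvar n ^ 2} ∪
      Set.range fun i : Fin (numVars n) => hrel n (i.val + 1))) (Or.inr ⟨⟨l - 1, by omega⟩, rfl⟩)
    simpa [presIdeal, show l - 1 + 1 = l by omega] using this
  have hphix : phi n (xvar n) = phi n (ι X₀) := by
    have h := RingHom.mem_ker.mp (QsChowLib.presIdeal_le_ker hn hhl0)
    rw [hhl, map_add] at h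
    rw [eq_neg_of_add_eq_zero_left h]
    exact (eq_neg_of_add_eq_zero_left (QsChowLib.add_self _))
  have hphiθ : ∀ q, phi n (ι (θ q)) = phi n q := by
    intro q
    have : ((phi n).comp ι).comp θ = phi n := by
      refine MvPolynomial.algHom_ext fun o => ?_
      rcases o with _ | i
      · show phi n (ι (θ (X none))) = phi n (X none)
        rw [show θ (X none) = X₀ by simp [θ]]
        exact hphix.symm
      · simp [θ, ι]
    exact AlgHom.congr_fun this q
  set T := presIdeal n ⊔ Ideal.span {evar n 1 ^ N} with hT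
  have he1 : phi n (evar n 1) = eps n 1 := by
    rw [QsChowLib.phi_evar Nat.one_pos (QsChowLib.numVars_pos n), if_pos rfl]
  have hiff : ∀ q, (∃ w : P n, τ w = w ∧ psi n q = eps n 1 ^ N * w) ↔ ι q ∈ T := by
    intro q
    constructor
    · rintro ⟨w, hw, h⟩
      obtain ⟨q', hq'⟩ : w ∈ (phi n).range := by rw [QsChowLib.range_phi_eq hn τ hτ1 hτ]; exact hw
      have hk : ι q - evar n 1 ^ N * q' ∈ presIdeal n := by
        rw [← QsChowLib.ker_phi hn, RingHom.mem_ker, map_sub, map_mul, map_pow, he1, ← hpsi, h,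
          show phi n q' = w from hq', sub_self]
      rw [← sub_add_cancel (ι q) (evar n 1 ^ N * q')]
      exact Submodule.add_mem_sup hk (Ideal.mul_mem_right _ _ (Ideal.mem_span_singleton_self _))
    · intro hq
      obtain ⟨u, hu, v, hv, huv⟩ := Submodule.mem_sup.mp hq
      obtain ⟨c, rfl⟩ := Ideal.mem_span_singleton'.mp hv
      refine ⟨phi n c, QsChowLib.tau_of_mem_range hn τ hτ1 hτ ⟨c, rfl⟩, ?_⟩
      rw [hpsi, ← huv, map_add, map_mul, map_pow, he1,
        show phi n u = 0 from RingHom.mem_ker.mp (QsChowLib.presIdeal_le_ker hn hu), zero_add, mul_comm]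
  -- bounds
  have hlo : ∀ t, t < Nat.log 2 n → N ≤ 2 ^ (Nat.log 2 n + 1) - 2 ^ (t + 1) := by
    intro t ht
    have h1 : 2 ^ (t + 1) ≤ 2 ^ Nat.log 2 n := Nat.pow_le_pow_right two_pos ht
    have h2 : N ≤ 2 ^ Nat.log 2 n := by
      rw [hN]; exact Nat.pow_le_pow_right two_pos (Nat.le_log_of_pow_le one_lt_two (by omega))
    rw [pow_succ 2 (Nat.log 2 n)]; omega
  have hx2 : 1 ≤ 2 ^ (Nat.log 2 n + 1) - n := by
    have := Nat.lt_pow_succ_log_self (b := 2) one_lt_two n
    rw [Nat.succ_eq_add_one] at this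
    omega
  have hF : ∀ j, 3 ≤ j → j ≤ numVars n → N ≤ (2 * j - 4) * 2 ^ klog n j := by
    intro j hj hjs
    have h1 := QsChowLib.le_mul_pow_klog n j hn (by omega)
    obtain ⟨e, he⟩ : ∃ e, 2 * j - 3 = e + 1 := ⟨2 * j - 4, by omega⟩
    rw [show 2 * j - 4 = e by omega]
    rw [he, add_mul, one_mul] at h1
    have : 2 ^ klog n j ≤ e * 2 ^ klog n j := Nat.le_mul_of_pos_left _ (by omega)
    omega
  -- both ideals
  have htriv : ∀ {R : Type} [CommRing R] (I : Ideal R) (e z : R) (m : ℕ), e ^ N ∈ I → N ≤ m → e ^ m * z ∈ I := by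
    intro R _ I e z m he hm
    rw [← Nat.add_sub_cancel' hm, pow_add, mul_assoc]; exact I.mul_mem_right _ he
  have hkp1 : kprime n 1 = a := by simp [kprime, ha']
  have hkp2 : kprime n 2 = Nat.log 2 n := by simp [kprime]
  have gen : ∀ i : Fin (numVars n), evarE n (i.val + 1) ^ 2 ^ kprime n (i.val + 1) ∈ evenIdeal n :=
    fun i => Ideal.subset_span (Or.inr ⟨i, rfl⟩)
  have gen1 : evarE n 1 ^ N ∈ evenIdeal n := by
    have := gen ⟨0, QsChowLib.numVars_pos n⟩
    simpa [hkp1, ← hN] using this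
  have genl : evarE n 1 * evarE n l ^ N ∈ evenIdeal n := by
    refine Ideal.subset_span (Or.inl ?_)
    simp [← hl, hkl.2, hN]
  have hθT : ∀ q ∈ T, θ q ∈ evenIdeal n := by
    intro q hq
    have : T ≤ (evenIdeal n).comap θ := by
      refine sup_le ?_ ((Ideal.span_singleton_le_iff_mem _).mpr (by
        show θ (evar n 1 ^ N) ∈ evenIdeal n
        rw [map_pow, hev]; exact gen1))
      rw [presIdeal, Ideal.span_le]
      have hlast : ∀ z, evarE n 1 ^ ((2 * l - 4) * N) * z ∈ evenIdeal n := fun z =>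
        htriv _ _ _ _ gen1 (Nat.le_mul_of_pos_left _ (by omega))
      have he1X : ∀ m, 1 ≤ m → evarE n 1 ^ m * X₀ ∈ evenIdeal n := by
        intro m hm
        obtain ⟨m, rfl⟩ := Nat.exists_eq_add_of_le hm
        rw [pow_add, pow_one, mul_comm (evarE n 1), mul_assoc, hX₀, mul_add (evarE n 1)]
        refine Ideal.mul_mem_left _ _ (Ideal.add_mem _ genl (Ideal.mul_mem_left _ _ (hlast _)))
      rintro z ((rfl | rfl | rfl) | ⟨i, rfl⟩) <;> show θ _ ∈ evenIdeal n
      · rw [map_pow, hev, ← mul_one (evarE n 1 ^ n)]; exact htriv _ _ _ _ gen1 (by omega)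
      · rw [map_mul, hev, hx, ← pow_one (evarE n 1)]; exact he1X 1 le_rfl
      · rw [map_pow, hx, hX₀, add_sq]
        refine Ideal.add_mem _ (Ideal.add_mem _ ?_ ?_) ?_
        · have := gen ⟨l - 1, by omega⟩
          simp only [show l - 1 + 1 = l by omega, hkl.2, pow_succ, ← hN] at this
          rwa [← pow_mul]
        · exact Ideal.mul_mem_left _ _ (hlast _)
        · rw [sq]; exact Ideal.mul_mem_right _ _ (hlast _)
      · show θ (hrel n (i.val + 1)) ∈ evenIdeal n
        rcases Nat.lt_or_ge i.val 2 with h | h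
        · rcases Nat.eq_zero_or_pos i.val with h0 | h0
          · rw [h0, hrel, if_neg (by omega), if_neg (by omega), map_zero]; exact Ideal.zero_mem _
          · rw [show i.val + 1 = 2 by omega, hrel, if_pos rfl, map_add, map_mul, map_pow, hev, hx, hk2]
            refine Ideal.add_mem _ (he1X _ hx2) ?_
            simp only [sPoly, map_sum, map_mul, map_pow, hev, hk2]
            refine Ideal.sum_mem _ fun t ht => ?_
            rcases Nat.lt_or_ge t (Nat.log 2 n) with ht' | ht'
            · exact htriv _ _ _ _ gen1 (hlo t ht')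
            · rw [show t = Nat.log 2 n by have := Finset.mem_range.mp ht; omega]
              refine Ideal.mul_mem_left _ _ ?_
              simpa [hkp2] using gen ⟨1, QsChowLib.two_le_numVars hn⟩
        · by_cases hil : i.val + 1 = l
          · rw [hil, hhl, map_add, hθι, hx, h2E]; exact Ideal.zero_mem _
          · obtain ⟨h1, h2⟩ := hkj (i.val + 1) (by omega) i.isLt hil
            rw [hrel, if_neg (by omega), if_pos ⟨by omega, i.isLt⟩, map_add, map_add, map_mul, map_mul,
              map_pow, map_pow, map_pow, hev, hev, hx, ← h1]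
            refine Ideal.add_mem _ (Ideal.add_mem _ (gen i) (he1X _ ?_))
              (htriv _ _ _ _ gen1 ?_)
            · rw [h1]; omega
            · rw [h1]; exact hF _ (by omega) i.isLt
    exact this hq
  have hιeven : evenIdeal n ≤ T.comap ι := by
    rw [evenIdeal, Ideal.span_le]
    have hT1 : evar n 1 ^ N ∈ T := Ideal.mem_sup_right (Ideal.mem_span_singleton_self _)
    have hex : ∀ m, 1 ≤ m → evar n 1 ^ m * xvar n ∈ T := by
      intro m hm
      obtain ⟨m, rfl⟩ := Nat.exists_eq_add_of_le hm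
      rw [pow_add, pow_one, mul_comm (evar n 1), mul_assoc]
      exact Ideal.mul_mem_left _ _ (Ideal.mem_sup_left (Ideal.subset_span (Or.inl (Or.inr (Or.inl rfl)))))
    have hrelT : ∀ i : Fin (numVars n), hrel n (i.val + 1) ∈ T := fun i =>
      Ideal.mem_sup_left (Ideal.subset_span (Or.inr ⟨i, rfl⟩))
    have hxl : xvar n - evar n l ^ N ∈ T ∨ xvar n + evar n l ^ N ∈ T := by
      right
      have h : hrel n l - evar n 1 ^ ((2 * l - 4) * N) * sPoly n l ∈ T :=
        T.sub_mem (Ideal.mem_sup_left hhl0) (htriv _ _ _ _ hT1 (Nat.le_mul_of_pos_left _ (by omega)))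
      convert! h using 1
      have e : (2 * l - 3) * 2 ^ klog n l - n = 0 := by rw [hkl.1, ← hN, hld, mul_comm, ← hd, Nat.sub_self]
      rw [hrel, if_neg (by omega), if_pos ⟨hl3, hls⟩, e, hkl.1, ← hN, pow_zero, one_mul]
      ring
    have hxl' : xvar n + evar n l ^ N ∈ T := hxl.elim (fun h => by
      have e : xvar n + evar n l ^ N = (xvar n - evar n l ^ N) := by
        have h2 : (2 : FreeE n) = 0 := by
          rw [show (2 : FreeE n) = C (2 : ZMod 2) from (map_ofNat C 2).symm,
            show (2 : ZMod 2) = 0 from rfl, map_zero]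
        linear_combination (evar n l ^ N) * h2
      rw [e]; exact h) id
    rintro z (rfl | ⟨i, rfl⟩)
    · show ι _ ∈ T
      rw [← hl, hkl.2, Nat.add_sub_cancel, ← hN, map_mul, map_pow, hιe, hιe]
      have h1 := T.sub_mem (T.mul_mem_left (evar n 1) hxl') (by simpa using hex 1 le_rfl : evar n 1 * xvar n ∈ T)
      simpa [mul_add] using h1
    · show ι (evarE n (i.val + 1) ^ _) ∈ T
      rw [map_pow, hιe]
      rcases Nat.lt_or_ge i.val 2 with h | h
      · rcases Nat.eq_zero_or_pos i.val with h0 | h0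
        · rw [h0, show kprime n (0 + 1) = a from hkp1, ← hN]; exact hT1
        · rw [show i.val + 1 = 2 by omega, hkp2]
          have h' := hrelT i
          rw [show i.val + 1 = 2 by omega, hrel, if_pos rfl, hk2, sPoly, hk2, Finset.sum_range_succ,
            Nat.sub_self, pow_zero, one_mul, ← add_assoc] at h'
          exact (T.add_mem_iff_right (T.add_mem (hex _ hx2)
            (T.sum_mem fun t ht => htriv _ _ _ _ hT1 (hlo t (Finset.mem_range.mp ht))))).mp h'
      · by_cases hil : i.val + 1 = l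
        · rw [hil, hkl.2, pow_succ, ← hN, pow_mul]
          have hsq : xvar n ^ 2 ∈ T := Ideal.mem_sup_left (Ideal.subset_span (Or.inl (Or.inr (Or.inr rfl))))
          have e : (evar n l ^ N) ^ 2 = (xvar n + evar n l ^ N) * (evar n l ^ N - xvar n) + xvar n ^ 2 := by ring
          rw [e]
          exact T.add_mem (T.mul_mem_right _ hxl') hsq
        · obtain ⟨h1, h2⟩ := hkj (i.val + 1) (by omega) i.isLt hil
          have h' := hrelT i
          rw [hrel, if_neg (by omega), if_pos ⟨by omega, i.isLt⟩, add_assoc] at h'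
          rw [h1]
          exact (T.add_mem_iff_left (T.add_mem (hex _ (by omega))
            (htriv _ _ _ _ hT1 (hF _ (by omega) i.isLt)))).mp h'
  refine ⟨fun q => ?_, fun z hz => ?_⟩
  · rw [← hN, hiff]
    exact ⟨fun h => by simpa [hθι] using hθT _ h, fun h => hιeven h⟩
  · obtain ⟨q', hq'⟩ : z ∈ (phi n).range := by rw [QsChowLib.range_phi_eq hn τ hτ1 hτ]; exact hz
    refine ⟨θ q', 0, map_zero τ, ?_⟩
    rw [mul_zero, add_zero, hpsi, hphiθ]
    exact hq'.symm


/-- Let n ≥ 2, s := n / 2 + 1, k_j the integer part of log_2((2n-1)/(2j-3)) for 2 ≤ j ≤ s, P := F_2[ε_1,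
…, ε_s]/(ε_1^n, ε_2^(2^k_2), …, ε_s^(2^k_s)), τ the F_2-algebra involution of P fixing ε_1 and
sending ε_j to ε_j + ε_1^(2j-3) (2 ≤ j ≤ s), and ē_1 := ε_1, ē_2 := ε_2^2 + ε_1ε_2, ē_j := ε_j +
ε_1^(2j-4)ε_2 (j ≥ 3), x̄ := ε_1^(n-1)ε_2; write 2^a for the exact power of 2 dividing n, l for the
integer with n = 2^a(2l-3), and k'_1 := a, k'_2 := the integer part of log_2 n, k'_j := the integer
part of log_2(2n/(2j-3)) for j ≥ 3. Suppose n is even and not a power of 2 — equivalently a ≥ 1 and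
n ≠ 2^a, which is how the hypothesis is written — and let ψ : F_2[e_1, …, e_s] → P be the algebra
map with e_j ↦ ē_j. Then (i) for a polynomial q, ψ(q) lies in ε_1^(2^a) · P^τ (P^τ the τ-fixed
subalgebra) if and only if q lies in the ideal generated by the powers e_j^(2^k'_j) for 1 ≤ j ≤ s
and the product e_1 · e_l^(2^(k'_l - 1)); (ii) every τ-fixed element of P is ψ(q) plus an element of
ε_1^(2^a) · P^τ for some q. That is, P^τ modulo ε_1^(2^a) is F_2[e_1, …, e_s]/(e_1^(2^k'_1), …,
e_s^(2^k'_s), e_1 e_l^(2^(k'_l - 1))) via ψ. -/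
theorem result (n : ℕ) (hn : 2 ≤ n)
    (τ : QsChow.P n →ₐ[ZMod 2] QsChow.P n) (hτ1 : τ (QsChow.eps n 1) = QsChow.eps n 1)
    (hτ : ∀ j : ℕ, 2 ≤ j → j ≤ QsChow.numVars n →
      τ (QsChow.eps n j) = QsChow.eps n j + QsChow.eps n 1 ^ (2 * j - 3))
    (ha : 1 ≤ QsChow.twoExp n) (hne : n ≠ 2 ^ QsChow.twoExp n) :
    (∀ q : QsChow.FreeP n,
      (∃ w : QsChow.P n, τ w = w ∧ QsChow.psi n q = QsChow.eps n 1 ^ 2 ^ QsChow.twoExp n * w) ↔
        q ∈ QsChow.evenIdeal n) ∧
    (∀ z : QsChow.P n, τ z = z → ∃ q : QsChow.FreeP n, ∃ w : QsChow.P n,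
      τ w = w ∧ z = QsChow.psi n q + QsChow.eps n 1 ^ 2 ^ QsChow.twoExp n * w) := by
  exact main n hn τ hτ1 hτ ha hne
end Groth.Agent.S17748
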