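import Groth.Statements.S17749
import Groth.Agent.QsChowLib.Kernel
import Mathlib

set_option autoImplicit false
open QsChow

namespace Groth.Agent.S17749

lemma sum_pow_two_pow {n : ℕ} {ι : Type*} (s : Finset ι) (f : ι → QsChow.FreeP n) (k : ℕ) :
    (∑ t ∈ s, f t) ^ 2 ^ k = ∑ t ∈ s, f t ^ 2 ^ k := by
  have h2 : (2 : QsChow.FreeP n) = 0 := by
    rw [show (2 : QsChow.FreeP n) = MvPolynomial.C (2 : ZMod 2) from (map_ofNat MvPolynomial.C 2).symm,
      show (2 : ZMod 2) = 0 from rfl, map_zero]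
  induction s using Finset.cons_induction with
  | empty => simp
  | cons a s ha ih => rw [Finset.sum_cons, Finset.sum_cons, QsChowLib.add_pow_two_pow h2, ih]

lemma sum_sq {n : ℕ} {ι : Type*} (s : Finset ι) (f : ι → QsChow.FreeP n) :
    (∑ t ∈ s, f t) ^ 2 = ∑ t ∈ s, f t ^ 2 := by
  simpa using sum_pow_two_pow s f 1

open QsChow MvPolynomial in
lemma main (n b : ℕ) (hn' : n = 2 ^ b) (hb : 1 ≤ b) (τ : P n →ₐ[ZMod 2] P n)
    (hτ1 : τ (eps n 1) = eps n 1)
    (hτ : ∀ j : ℕ, 2 ≤ j → j ≤ numVars n →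
      τ (eps n j) = eps n j + eps n 1 ^ (2 * j - 3)) :
    (psi n).range = AlgHom.equalizer τ (AlgHom.id (ZMod 2) (P n)) ∧
      RingHom.ker (psi n) = powIdeal n := by
  have hn : 2 ≤ n := hn' ▸ le_trans (by norm_num) (Nat.pow_le_pow_right two_pos hb)
  have hhalf : ∀ t, t < b → 2 ^ (t + 1) ≤ n := fun t ht => hn' ▸ Nat.pow_le_pow_right two_pos ht
  have hk2 : klog n 2 = b := by
    simp only [klog, show 2 * 2 - 3 = 1 from rfl, Nat.div_one]
    apply Nat.log_eq_of_pow_le_of_lt_pow
    · omega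
    · rw [pow_succ]; omega
  have hkp2 : kprime n 2 = b := by
    simp [kprime, hn', Nat.log_pow one_lt_two b]
  have ha : twoExp n = b := by simp [twoExp, hn', padicValNat.prime_pow]
  have hodd : ∀ j k, 3 ≤ j → 2 ^ k * (2 * j - 3) ≠ 2 * n ∧ 2 ^ k * (2 * j - 3) ≠ n := by
    intro j k hj
    have key : ∀ m, 2 ^ k * (2 * j - 3) ≠ 2 ^ m := by
      intro m h
      have hd : 2 * j - 3 ∣ 2 ^ m := ⟨2 ^ k, by rw [← h, mul_comm]⟩
      obtain ⟨i, -, hi⟩ := (Nat.dvd_prime_pow Nat.prime_two).mp hd
      rcases Nat.eq_zero_or_pos i with rfl | hi0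
      · simp at hi; omega
      · obtain ⟨u, rfl⟩ := Nat.exists_eq_add_of_le hi0
        rw [pow_add] at hi; omega
    exact ⟨by rw [hn', ← pow_succ']; exact key _, by rw [hn']; exact key _⟩
  have hkj : ∀ j, 3 ≤ j → j ≤ numVars n → kprime n j = klog n j ∧ n < (2 * j - 3) * 2 ^ klog n j := by
    intro j hj hjs
    have hjs' : 2 * j - 3 < n := by simp only [numVars] at hjs; omega
    refine ⟨?_, lt_of_le_of_ne (QsChowLib.le_mul_pow_klog n j hn (by omega))
      fun h => (hodd j _ hj).2 (by rw [mul_comm]; exact h.symm)⟩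
    simp only [kprime, klog, if_neg (show j ≠ 1 by omega), if_neg (show j ≠ 2 by omega)]
    symm
    have hq : 2 * n / (2 * j - 3) ≠ 0 := (Nat.div_pos (by omega) (by omega)).ne'
    apply Nat.log_eq_of_pow_le_of_lt_pow
    · rw [Nat.le_div_iff_mul_le (by omega)]
      have := (Nat.le_div_iff_mul_le (show 0 < 2 * j - 3 by omega)).mp (Nat.pow_log_le_self 2 hq)
      have := (hodd j (Nat.log 2 (2 * n / (2 * j - 3))) hj).1
      omega
    · exact lt_of_le_of_lt (Nat.div_le_div_right (by omega)) (Nat.lt_pow_succ_log_self one_lt_two _)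
  set S : FreeP n := ∑ t ∈ Finset.range b, evarE n 1 ^ (2 ^ b - 2 ^ (t + 1)) * evarE n 2 ^ 2 ^ t with hS
  let ι : FreeP n →ₐ[ZMod 2] FreeE n := rename some
  let θ : FreeE n →ₐ[ZMod 2] FreeP n := aeval fun o => o.elim S X
  have hθι : ∀ q, θ (ι q) = q := fun q => by
    simp only [θ, ι, aeval_rename]
    exact aeval_X_left_apply q
  have hpsi : ∀ q, psi n q = phi n (ι q) := fun q => by
    simp [psi, phi, ι, aeval_rename, Function.comp_def]
  have hev : ∀ j, θ (evar n j) = evarE n j := by
    intro j; unfold evar evarE; split_ifs <;> simp [θ]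
  have hιe : ∀ j, ι (evarE n j) = evar n j := by
    intro j; unfold evar evarE; split_ifs <;> simp [ι]
  have hx : θ (xvar n) = S := by simp [θ, xvar]
  have hιS : ι S = sPoly n 2 := by
    simp only [hS, map_sum, map_mul, map_pow, hιe, sPoly, hk2]
  have hphix : phi n (xvar n) = phi n (sPoly n 2) := by
    have h := RingHom.mem_ker.mp (QsChowLib.presIdeal_le_ker hn
      (Ideal.subset_span (Or.inr ⟨⟨1, QsChowLib.two_le_numVars hn⟩, rfl⟩) : hrel n 2 ∈ presIdeal n))
    rw [hrel, if_pos rfl, hk2, ← hn', Nat.sub_self, pow_zero, one_mul, map_add] at h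
    rw [eq_neg_of_add_eq_zero_left h]
    exact (eq_neg_of_add_eq_zero_left (QsChowLib.add_self _)).symm
  have hphiθ : ∀ q, phi n (ι (θ q)) = phi n q := by
    intro q
    have : ((phi n).comp ι).comp θ = phi n := by
      refine MvPolynomial.algHom_ext fun o => ?_
      rcases o with _ | i
      · show phi n (ι (θ (X none))) = phi n (X none)
        rw [show θ (X none) = S by simp [θ], hιS]
        exact hphix.symm
      · simp [θ, ι]
    exact AlgHom.congr_fun this q
  constructor
  · rw [← QsChowLib.range_phi_eq hn τ hτ1 hτ]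
    apply le_antisymm
    · rintro _ ⟨q, rfl⟩; exact ⟨ι q, (hpsi q).symm⟩
    · rintro _ ⟨q, rfl⟩; exact ⟨θ q, (hpsi _).trans (hphiθ q)⟩
  have gen1 : evarE n 1 * S ∈ powIdeal n := by
    refine Ideal.subset_span (Or.inl ?_)
    simp only [Set.mem_singleton_iff, hkp2, hS]
  have genj : ∀ i : Fin (numVars n), evarE n (i.val + 1) ^ 2 ^ kprime n (i.val + 1) ∈ powIdeal n :=
    fun i => Ideal.subset_span (Or.inr ⟨i, rfl⟩)
  have he1n : evarE n 1 ^ n ∈ powIdeal n := by
    simpa [kprime, ha, ← hn'] using genj ⟨0, QsChowLib.numVars_pos n⟩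
  have he1m : ∀ m (z : FreeP n), n ≤ m → evarE n 1 ^ m * z ∈ powIdeal n := fun m z hm => by
    rw [← Nat.add_sub_cancel' hm, pow_add, mul_assoc]; exact Ideal.mul_mem_right _ _ he1n
  have hθpres : ∀ q ∈ presIdeal n, θ q ∈ powIdeal n := by
    intro q hq
    have : presIdeal n ≤ (powIdeal n).comap θ := by
      rw [presIdeal, Ideal.span_le]
      rintro z ((rfl | rfl | rfl) | ⟨i, rfl⟩) <;> show θ _ ∈ powIdeal n
      · simpa [hev] using he1n
      · simpa [hev, hx] using gen1
      · rw [map_pow, hx, hS, sum_sq]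
        refine Ideal.sum_mem _ fun t ht => ?_
        have htb := Finset.mem_range.mp ht
        rw [mul_pow, ← pow_mul, ← pow_mul]
        rcases Nat.lt_or_ge (t + 1) b with h | h
        · refine he1m _ _ ?_
          have h4 : 2 ^ (t + 1 + 1) ≤ n := hhalf _ h
          rw [pow_succ] at h4
          omega
        · have e : 2 ^ t * 2 = n := by rw [← pow_succ, hn', show t + 1 = b by omega]
          rw [e]
          refine Ideal.mul_mem_left _ _ ?_
          simpa [hkp2, ← hn'] using genj ⟨1, QsChowLib.two_le_numVars hn⟩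
      · show θ (hrel n (i.val + 1)) ∈ powIdeal n
        rcases Nat.lt_or_ge i.val 2 with h | h
        · rcases Nat.eq_zero_or_pos i.val with h0 | h0
          · rw [h0, hrel, if_neg (by omega), if_neg (by omega), map_zero]; exact Ideal.zero_mem _
          · rw [show i.val + 1 = 2 by omega, hrel, if_pos rfl, map_add, map_mul, map_pow, hx, hk2, ← hn',
              Nat.sub_self, pow_zero, one_mul,
              show θ (sPoly n 2) = S by rw [← hιS, hθι], ← two_mul,
              show (2 : FreeP n) = C (2 : ZMod 2) from (map_ofNat C 2).symm, show (2 : ZMod 2) = 0 from rfl,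
              map_zero, zero_mul]
            exact Ideal.zero_mem _
        · obtain ⟨h1, h2⟩ := hkj (i.val + 1) (by omega) i.isLt
          rw [hrel, if_neg (by omega), if_pos ⟨by omega, i.isLt⟩, map_add, map_add, map_mul, map_mul,
            map_pow, map_pow, map_pow, hev, hev, hx, ← h1]
          refine Ideal.add_mem _ (Ideal.add_mem _ (genj i) ?_) (he1m _ _ ?_)
          · rw [h1]
            obtain ⟨E, hE⟩ : ∃ E, (2 * (i.val + 1) - 3) * 2 ^ klog n (i.val + 1) - n = E + 1 :=
              ⟨(2 * (i.val + 1) - 3) * 2 ^ klog n (i.val + 1) - n - 1, by omega⟩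
            rw [hE, pow_succ, mul_assoc]
            exact Ideal.mul_mem_left _ _ gen1
          · rw [h1]
            have hle : klog n (i.val + 1) ≤ b := by
              rw [← hk2]; exact Nat.log_mono_right (Nat.div_le_div_left (by omega) (by omega))
            obtain ⟨u, hu⟩ := Nat.exists_eq_add_of_le hle
            generalize klog n (i.val + 1) = k at h2 hu ⊢
            have e : n = 2 ^ u * 2 ^ k := by rw [hn', hu, pow_add, mul_comm]
            have h3 : 2 ^ u < 2 * (i.val + 1) - 3 := Nat.lt_of_mul_lt_mul_right (a := 2 ^ k) (by omega)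
            calc n = 2 ^ u * 2 ^ k := e
              _ ≤ (2 * (i.val + 1) - 4) * 2 ^ k := Nat.mul_le_mul_right _ (by omega)
              _ ≤ _ := by simp
    exact this hq
  apply le_antisymm
  · intro q hq
    have : ι q ∈ presIdeal n := by
      rw [← QsChowLib.ker_phi hn, RingHom.mem_ker, ← hpsi]; exact hq
    simpa [hθι] using hθpres _ this
  · have hle : powIdeal n ≤ RingHom.ker (psi n) := by
      have e1 : phi n (evar n 1) = eps n 1 := by
        rw [QsChowLib.phi_evar Nat.one_pos (QsChowLib.numVars_pos n), if_pos rfl]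
      rw [powIdeal, Ideal.span_le]
      rintro z (rfl | ⟨i, rfl⟩)
      · simp only [SetLike.mem_coe, RingHom.mem_ker, hpsi, hkp2]
        rw [map_mul ι, map_mul, hιe, ← hS, hιS, ← hphix, ← map_mul]
        exact RingHom.mem_ker.mp (QsChowLib.presIdeal_le_ker hn (Ideal.subset_span (Or.inl (Or.inr (Or.inl rfl)))))
      · simp only [SetLike.mem_coe, RingHom.mem_ker, hpsi, map_pow, hιe]
        rcases Nat.eq_zero_or_pos i.val with h | h
        · rw [h, show kprime n (0 + 1) = b by simp [kprime, ha], show (0 : ℕ) + 1 = 1 from rfl, e1, ← hn',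
            QsChowLib.eps_one_pow hn]
        · rcases eq_or_lt_of_le (Nat.succ_le_of_lt h) with h1 | h1
          · rw [show i.val + 1 = 2 by omega, hkp2, QsChowLib.phi_evar two_pos (QsChowLib.two_le_numVars hn),
              if_neg (by omega), if_pos rfl, QsChowLib.add_pow_two_pow (QsChowLib.two_zero n), mul_pow,
              ← hn', QsChowLib.eps_one_pow hn, zero_mul, add_zero, ← pow_mul, mul_comm, pow_mul]
            have h0 := QsChowLib.eps_pow_eq_zero (n := n) le_rfl (QsChowLib.two_le_numVars hn)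
            rw [hk2, ← hn'] at h0
            rw [h0, zero_pow two_ne_zero]
          · obtain ⟨hk, hlt⟩ := hkj (i.val + 1) (by omega) i.isLt
            rw [hk, QsChowLib.phi_evar (by omega) i.isLt, if_neg (by omega), if_neg (by omega),
              QsChowLib.add_pow_two_pow (QsChowLib.two_zero n), QsChowLib.eps_pow_eq_zero (by omega) i.isLt,
              zero_add, mul_pow, ← pow_mul]
            have hle' : klog n (i.val + 1) ≤ b := by
              rw [← hk2]; exact Nat.log_mono_right (Nat.div_le_div_left (by omega) (by omega))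
            obtain ⟨u, hu⟩ := Nat.exists_eq_add_of_le hle'
            rw [QsChowLib.eps_one_pow_of_le hn, zero_mul]
            generalize klog n (i.val + 1) = k at hlt hu ⊢
            have e : n = 2 ^ u * 2 ^ k := by rw [hn', hu, pow_add, mul_comm]
            have h3 : 2 ^ u < 2 * (i.val + 1) - 3 := Nat.lt_of_mul_lt_mul_right (a := 2 ^ k) (by omega)
            calc n = 2 ^ u * 2 ^ k := e
              _ ≤ (2 * (i.val + 1) - 4) * 2 ^ k := Nat.mul_le_mul_right _ (by omega)
              _ ≤ _ := by simp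
    exact hle


/-- Let n ≥ 2, s := n / 2 + 1, k_j the integer part of log_2((2n-1)/(2j-3)) for 2 ≤ j ≤ s, P := F_2[ε_1,
…, ε_s]/(ε_1^n, ε_2^(2^k_2), …, ε_s^(2^k_s)), τ the F_2-algebra involution of P fixing ε_1 and
sending ε_j to ε_j + ε_1^(2j-3) (2 ≤ j ≤ s), and ē_1 := ε_1, ē_2 := ε_2^2 + ε_1ε_2, ē_j := ε_j +
ε_1^(2j-4)ε_2 (j ≥ 3), x̄ := ε_1^(n-1)ε_2; write 2^a for the exact power of 2 dividing n, l for the
integer with n = 2^a(2l-3), and k'_1 := a, k'_2 := the integer part of log_2 n, k'_j := the integer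
part of log_2(2n/(2j-3)) for j ≥ 3. Suppose n = 2^a with a ≥ 1 (so ε_1^(2^a) = 0 in P) and let ψ :
F_2[e_1, …, e_s] → P be the algebra map with e_j ↦ ē_j. Then the range of ψ is the τ-fixed
subalgebra P^τ and the kernel of ψ is the ideal generated by the powers e_j^(2^k'_j) for 1 ≤ j ≤ s
together with e_1 · Σ_{t < k'_2} e_1^(2^k'_2 - 2^(t+1)) e_2^(2^t). That is, P^τ ≅ F_2[e_1, …,
e_s]/(e_1^(2^k'_1), …, e_s^(2^k'_s), e_1 Σ_{t<k'_2} e_1^(2^k'_2 - 2^(t+1)) e_2^(2^t)) via ψ. -/
theorem result (n : ℕ) (hn : 2 ≤ n)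
    (τ : QsChow.P n →ₐ[ZMod 2] QsChow.P n) (hτ1 : τ (QsChow.eps n 1) = QsChow.eps n 1)
    (hτ : ∀ j : ℕ, 2 ≤ j → j ≤ QsChow.numVars n →
      τ (QsChow.eps n j) = QsChow.eps n j + QsChow.eps n 1 ^ (2 * j - 3))
    (b : ℕ) (hb : 1 ≤ b) (hnb : n = 2 ^ b) :
    (QsChow.psi n).range = AlgHom.equalizer τ (AlgHom.id (ZMod 2) (QsChow.P n)) ∧
      RingHom.ker (QsChow.psi n) = QsChow.powIdeal n := by
  exact main n b hnb hb τ hτ1 hτ
end Groth.Agent.S17749
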