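import Groth.Statements.S17751
import Mathlib.RingTheory.Ideal.Height
import Mathlib.RingTheory.Ideal.MinimalPrime.Noetherian
-- import your own Groth.Agent.* helpers here

set_option autoImplicit false
universe u
open LocCoh

namespace Groth.Agent.S17751

/-- Suppose R is a Noetherian ring, r is a natural number, and I is an ideal of R. Then there are
elements f_1, …, f_r of I such that for every prime ideal p of R of height less than r, p contains I
if and only if p contains f_1, …, f_r. (For r = 0 there is nothing to prove.) -/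
theorem result (R : Type u) [CommRing R] [IsNoetherianRing R] (I : Ideal R) (r : ℕ) : ∃ f : Fin r → R, (∀ i, f i ∈ I) ∧ ∀ (p : Ideal R) [p.IsPrime], p.height < r → (I ≤ p ↔ Ideal.span (Set.range f) ≤ p) := by
  suffices ∀ r : ℕ, ∃ f : Fin r → R, (∀ i, f i ∈ I) ∧ ∀ (p : Ideal R) [p.IsPrime],
      Ideal.span (Set.range f) ≤ p → ¬ I ≤ p → (r : ℕ∞) ≤ p.height by
    obtain ⟨f, hf, h⟩ := this r
    refine ⟨f, hf, fun p _ hp => ⟨fun hI => (Ideal.span_le.2 (by rintro _ ⟨i, rfl⟩; exact hf i)).trans hI,
      fun hle => ?_⟩⟩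
    by_contra hI
    exact absurd (h p hle hI) (not_le.2 hp)
  intro r
  induction r with
  | zero => exact ⟨Fin.elim0, fun i => i.elim0, fun p _ _ _ => by simp⟩
  | succ r ih =>
    obtain ⟨f, hf, h⟩ := ih
    let T := {q ∈ (Ideal.span (Set.range f)).minimalPrimes | ¬ I ≤ q}
    have hT : T.Finite := (Ideal.finite_minimalPrimes_of_isNoetherianRing R _).subset (Set.sep_subset _ _)
    obtain ⟨g, hgI, hg⟩ : ∃ g ∈ I, ∀ q ∈ T, g ∉ q := by
      by_contra hc
      push Not at hc
      have hsub : (I : Set R) ⊆ ⋃ q ∈ T, (q : Set R) := fun x hx => by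
        obtain ⟨q, hq, hxq⟩ := hc x hx
        exact Set.mem_biUnion hq hxq
      obtain ⟨q, hq, hle⟩ := (Ideal.subset_union_prime_finite hT ⊥ ⊥ (fun q hq _ _ => hq.1.1.1)).1 hsub
      exact hq.2 hle
    refine ⟨Fin.snoc f g, fun i => ?_, fun p _ hle hI => ?_⟩
    · induction i using Fin.lastCases with
      | last => simpa using hgI
      | cast i => simpa using hf i
    have hgp : g ∈ p := hle (Ideal.subset_span ⟨Fin.last r, by simp⟩)
    have hfp : Ideal.span (Set.range f) ≤ p := Ideal.span_le.2 (by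
      rintro _ ⟨i, rfl⟩; exact hle (Ideal.subset_span ⟨i.castSucc, by simp⟩))
    obtain ⟨q, hq, hqp⟩ := Ideal.exists_minimalPrimes_le hfp
    have hqI : ¬ I ≤ q := fun h' => hI (h'.trans hqp)
    have : q.IsPrime := hq.1.1
    have hlt : q < p := lt_of_le_of_ne hqp fun e => hg q ⟨hq, hqI⟩ (e ▸ hgp)
    have := (Ideal.height_add_one_le_of_lt_of_isPrime hlt)
    refine le_trans ?_ this
    push_cast
    exact add_le_add (h q hq.1.2 hqI) le_rfl

end Groth.Agent.S17751
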