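import Groth.Statements.S17752
import Groth.Agent.S17751
-- import your own Groth.Agent.* helpers here

set_option autoImplicit false
universe u
open LocCoh

namespace Groth.Agent.S17752

/-- Let R be a Noetherian ring of Krull dimension d and I an ideal of R. Then there are d + 1 elements
f_0, …, f_d of I such that I and the ideal they generate have the same radical; in other words the
arithmetic rank of I is at most d + 1. -/
theorem result (R : Type u) [CommRing R] [IsNoetherianRing R] (d : ℕ) (hd : ringKrullDim R = d) (I : Ideal R) : ∃ f : Fin (d + 1) → R, (∀ i, f i ∈ I) ∧ I.radical = (Ideal.span (Set.range f)).radical := by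
  obtain ⟨f, hf, h⟩ := S17751.result R I (d + 1)
  have hsp : Ideal.span (Set.range f) ≤ I := Ideal.span_le.2 (by rintro _ ⟨i, rfl⟩; exact hf i)
  refine ⟨f, hf, le_antisymm ?_ (Ideal.radical_mono hsp)⟩
  refine le_trans (le_of_le_of_eq ?_ (Ideal.radical_eq_sInf _).symm) le_rfl
  refine le_sInf fun p hp => ?_
  have : p.IsPrime := hp.2
  have hh : p.height < (d + 1 : ℕ) := by
    have := Ideal.height_le_ringKrullDim_of_isPrime (I := p)
    rw [hd] at this
    exact lt_of_le_of_lt (WithBot.coe_le_coe.1 this) (ENat.natCast_lt_natCast.2 (Nat.lt_succ_self d))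
  exact (hp.2.radical_le_iff).2 ((h p hh).2 hp.1)

end Groth.Agent.S17752
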