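import Groth.Statements.S17753
import Groth.Agent.S17751
-- import your own Groth.Agent.* helpers here

set_option autoImplicit false
universe u
open LocCoh

namespace Groth.Agent.S17753

/-- Let R be a Noetherian local ring of Krull dimension d and I a proper ideal of R. Then there are d
elements f_1, …, f_d of I such that I and the ideal they generate have the same radical, so the
arithmetic rank of I is at most d. (The published statement has no properness hypothesis; for the
unit ideal of a field, d = 0 and no empty family generates the unit ideal up to radical, and the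
published proof uses that the maximal ideal contains I.) -/
theorem result (R : Type u) [CommRing R] [IsNoetherianRing R] [IsLocalRing R] (d : ℕ) (hd : ringKrullDim R = d) (I : Ideal R) (hI : I ≠ ⊤) : ∃ f : Fin d → R, (∀ i, f i ∈ I) ∧ I.radical = (Ideal.span (Set.range f)).radical := by
  obtain ⟨f, hf, h⟩ := S17751.result R I d
  have hsp : Ideal.span (Set.range f) ≤ I := Ideal.span_le.2 (by rintro _ ⟨i, rfl⟩; exact hf i)
  refine ⟨f, hf, le_antisymm ?_ (Ideal.radical_mono hsp)⟩
  refine le_trans (le_of_le_of_eq ?_ (Ideal.radical_eq_sInf _).symm) le_rfl
  refine le_sInf fun p hp => ?_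
  have : p.IsPrime := hp.2
  refine (hp.2.radical_le_iff).2 ?_
  rcases lt_or_ge p.height (d : ℕ∞) with hh | hh
  · exact (h p hh).2 hp.1
  · have h1 := Ideal.height_le_ringKrullDim_of_isPrime (I := p)
    have h2 : (p.height : WithBot ℕ∞) = ringKrullDim R := le_antisymm h1 (by rw [hd]; exact_mod_cast hh)
    have : FiniteRingKrullDim R := inferInstance
    rw [Ideal.height_eq_ringKrullDim_iff] at h2
    rw [h2]; exact IsLocalRing.le_maximalIdeal hI

end Groth.Agent.S17753
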