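import Groth.Statements.S17754
import Mathlib.RingTheory.AdicCompletion.Basic
import Mathlib.RingTheory.Filtration
import Mathlib.RingTheory.LocalRing.Quotient
import Mathlib.RingTheory.HopkinsLevitzki

set_option autoImplicit false
universe u
open CAlg

namespace Groth.Agent.S17754

/-- Let R be a complete Noetherian local ring with maximal ideal m, and let I_0 ⊇ I_1 ⊇ I_2 ⊇ ⋯ be a
descending sequence of ideals of R whose intersection is zero. Then for every natural number n there
is an index s with I_s contained in m^n; that is, the filtration by the I_s is at least as fine as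
the m-adic one. -/
theorem result (R : Type u) [CommRing R] [IsNoetherianRing R] [IsLocalRing R] [IsAdicComplete (IsLocalRing.maximalIdeal R) R] (I : ℕ → Ideal R) (hI : Antitone I) (hinf : ⨅ s, I s = ⊥) (n : ℕ) : ∃ s : ℕ, I s ≤ IsLocalRing.maximalIdeal R ^ n := by
  classical
  set m := IsLocalRing.maximalIdeal R
  have hstab : ∀ k : ℕ, ∃ s : ℕ, ∀ t, s ≤ t → I s ⊔ m ^ k = I t ⊔ m ^ k := by
    intro k
    have : IsArtinianRing (R ⧸ m ^ k) := by
      rcases Nat.eq_zero_or_pos k with rfl | hk
      · rw [pow_zero, Ideal.one_eq_top]; exact Ring.isArtinian_of_zero_eq_one (Subsingleton.elim _ _)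
      rw [isArtinianRing_iff_isNoetherianRing_krullDimLE_zero]
      refine ⟨inferInstance, Ring.krullDimLE_zero_iff.mpr fun P hP => ?_⟩
      have hle : m ≤ P.comap (Ideal.Quotient.mk (m ^ k)) :=
        (Ideal.IsPrime.comap _).le_of_pow_le (n := k) fun x hx => by
          rw [Ideal.mem_comap, Ideal.Quotient.eq_zero_iff_mem.mpr hx]; exact P.zero_mem
      have heq := (IsLocalRing.maximalIdeal.isMaximal R).eq_of_le (Ideal.IsPrime.ne_top (Ideal.IsPrime.comap _)) hle
      rw [← Ideal.map_comap_of_surjective _ Ideal.Quotient.mk_surjective P, ← heq]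
      exact (Ideal.map_eq_top_or_isMaximal_of_surjective _ Ideal.Quotient.mk_surjective (IsLocalRing.maximalIdeal.isMaximal R)).resolve_left
        (by rw [heq, Ideal.map_comap_of_surjective _ Ideal.Quotient.mk_surjective]; exact hP.ne_top)
    obtain ⟨s, hs⟩ := IsArtinian.monotone_stabilizes (R := R ⧸ m ^ k) (M := R ⧸ m ^ k)
      ⟨fun t => OrderDual.toDual ((I t).map (Ideal.Quotient.mk (m ^ k))), fun a b hab => Ideal.map_mono (hI hab)⟩
    refine ⟨s, fun t ht => ?_⟩
    have := congrArg (Ideal.comap (Ideal.Quotient.mk (m ^ k))) (OrderDual.toDual.injective (hs t ht))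
    rwa [Ideal.comap_map_of_surjective _ Ideal.Quotient.mk_surjective, Ideal.comap_map_of_surjective _ Ideal.Quotient.mk_surjective,
      ← RingHom.ker_eq_comap_bot, Ideal.mk_ker] at this
  choose S hS using hstab
  let J : ℕ → Ideal R := fun k => I (S k) ⊔ m ^ k
  have hJI : ∀ k t, J k ≤ I t ⊔ m ^ k := by
    intro k t
    show I (S k) ⊔ m ^ k ≤ _
    rw [hS k (max (S k) t) (le_max_left _ _)]
    exact sup_le_sup_right (hI (le_max_right _ _)) _
  have step : ∀ k, ∀ x ∈ J k, ∃ y ∈ J (k + 1), x - y ∈ m ^ k := by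
    intro k x hx
    obtain ⟨a, ha, b, hb, rfl⟩ := Submodule.mem_sup.mp (hJI k (S (k + 1)) hx)
    exact ⟨a, Submodule.mem_sup_left ha, by simpa using hb⟩
  refine ⟨S n, le_trans le_sup_left (fun x hx => ?_ : J n ≤ m ^ n)⟩
  choose! y hy1 hy2 using step
  let f : ℕ → R := fun j => Nat.rec x (fun j a => y (n + j) a) j
  have hf1 : ∀ j, f j ∈ J (n + j) := by
    intro j; induction j with
    | zero => exact hx
    | succ j ih => exact hy1 (n + j) _ ih
  have hf2 : ∀ j, f j - f (j + 1) ∈ m ^ (n + j) := fun j => hy2 (n + j) _ (hf1 j)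
  have hf3 : ∀ {a b}, a ≤ b → f a - f b ∈ m ^ (n + a) := by
    intro a b hab
    induction b, hab using Nat.le_induction with
    | base => simp
    | succ b hab ih =>
      rw [show f a - f (b + 1) = (f a - f b) + (f b - f (b + 1)) by ring]
      exact Ideal.add_mem _ ih (Ideal.pow_le_pow_right (by omega) (hf2 b))
  obtain ⟨L, hL⟩ := IsPrecomplete.prec (I := m) (M := R) inferInstance (f := f) (fun {a b} h => by
    rw [SModEq.sub_mem, smul_eq_mul, Ideal.mul_top]
    exact Ideal.pow_le_pow_right (by omega) (hf3 h))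
  have hL' : ∀ j, f j - L ∈ m ^ j := fun j => by simpa [SModEq.sub_mem] using hL j
  have hL0 : L = 0 := by
    have : L ∈ ⨅ t, I t := by
      rw [Ideal.mem_iInf]
      intro t
      by_cases htop : I t = ⊤
      · rw [htop]; exact Submodule.mem_top
      have hmem : ∀ j, Ideal.Quotient.mk (I t) L ∈ (m.map (Ideal.Quotient.mk (I t))) ^ j := by
        intro j
        rw [← Ideal.map_pow]
        obtain ⟨a, ha, b, hb, hab⟩ := Submodule.mem_sup.mp (hJI (n + j) t (hf1 j))
        have : L = a + (b - (f j - L)) := by rw [← hab]; ring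
        rw [this, map_add, Ideal.Quotient.eq_zero_iff_mem.mpr ha, zero_add]
        exact Ideal.mem_map_of_mem _ (Ideal.sub_mem _ (Ideal.pow_le_pow_right (by omega) hb) (hL' j))
      have : Nontrivial (R ⧸ I t) := Ideal.Quotient.nontrivial_iff.mpr htop
      have : IsLocalRing (R ⧸ I t) := IsLocalRing.of_surjective' _ Ideal.Quotient.mk_surjective
      have h0 := Ideal.iInf_pow_eq_bot_of_isLocalRing (m.map (Ideal.Quotient.mk (I t))) (fun h => by
        have h2 : (m.map (Ideal.Quotient.mk (I t))) ≤ IsLocalRing.maximalIdeal (R ⧸ I t) := by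
          refine Ideal.map_le_iff_le_comap.mpr fun z hz => ?_
          rw [Ideal.mem_comap, IsLocalRing.mem_maximalIdeal, mem_nonunits_iff]
          intro hu
          obtain ⟨w, hw⟩ := Ideal.Quotient.mk_surjective (↑hu.unit⁻¹ : R ⧸ I t)
          have h1 : Ideal.Quotient.mk (I t) (z * w) = 1 := by rw [map_mul, hw, IsUnit.mul_val_inv]
          rw [← map_one (Ideal.Quotient.mk (I t)), Ideal.Quotient.eq] at h1
          have : (1 : R) ∈ m := by
            rw [show (1 : R) = z * w - (z * w - 1) by ring]
            exact Ideal.sub_mem _ (Ideal.mul_mem_right _ _ hz) (IsLocalRing.le_maximalIdeal htop h1)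
          exact (IsLocalRing.maximalIdeal.isMaximal R).ne_top ((Ideal.eq_top_iff_one _).mpr this)
        rw [h] at h2
        exact (IsLocalRing.maximalIdeal.isMaximal _).ne_top (top_le_iff.mp h2))
      exact Ideal.Quotient.eq_zero_iff_mem.mp ((Submodule.eq_bot_iff _).mp h0 _ (Ideal.mem_iInf.mpr hmem))
    rwa [hinf] at this
  subst hL0
  have h1 : f 0 - f n ∈ m ^ n := by simpa using hf3 (Nat.zero_le n)
  have h2 : f n ∈ m ^ n := by simpa using hL' n
  have := Ideal.add_mem _ h1 h2
  rwa [sub_add_cancel] at this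

end Groth.Agent.S17754
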