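import Groth.Statements.S17756
import Groth.Agent.MatlisDual.Completion
-- import your own Groth.Agent.* helpers here

set_option autoImplicit false
universe u
open Matlis

namespace Groth.Agent.S17756

/-- Let R be a Noetherian local ring with maximal ideal m and residue field k, E an injective hull of k,
and M a finitely generated R-module with Matlis dual M^v = Hom_R(M, E). Then the minimal number of
generators of M equals the k-dimension of the socle of M^v, the submodule of elements of M^v killed
by m (stated as its length as an R-module). -/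
theorem result (R : Type u) [CommRing R] [IsNoetherianRing R] [IsLocalRing R] (E : Type u) [AddCommGroup E] [Module R E] (f : IsLocalRing.ResidueField R →ₗ[R] E) (hf : InjHull.IsInjectiveHull f) (M : Type u) [AddCommGroup M] [Module R M] [Module.Finite R M] : ((⊤ : Submodule R M).spanFinrank : ℕ∞) = Module.length R (LocCoh.torsionBy (IsLocalRing.maximalIdeal R) (M →ₗ[R] E)) := by
  let m := IsLocalRing.maximalIdeal R
  let : Field (R ⧸ m) := Ideal.Quotient.field _
  let Q := M ⧸ (m • ⊤ : Submodule R M)
  let π := (m • ⊤ : Submodule R M).mkQ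
  have hmem : ∀ φ : Q →ₗ[R] E, LinearMap.lcomp R E π φ ∈ LocCoh.torsionBy m (M →ₗ[R] E) := by
    intro φ
    rw [Submodule.mem_torsionBySet_iff]
    rintro ⟨a, ha⟩
    refine LinearMap.ext fun x => ?_
    change a • φ (π x) = 0
    rw [← map_smul, ← map_smul, show π (a • x) = 0 from
      (Submodule.Quotient.mk_eq_zero _).mpr (Submodule.smul_mem_smul ha Submodule.mem_top), map_zero]
  let e : (Q →ₗ[R] E) ≃ₗ[R] LocCoh.torsionBy m (M →ₗ[R] E) :=
    LinearEquiv.ofBijective ((LinearMap.lcomp R E π).codRestrict _ hmem)
      ⟨fun p q h => LinearMap.ext fun z => by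
        obtain ⟨x, rfl⟩ := Submodule.mkQ_surjective _ z
        exact LinearMap.congr_fun (congrArg Subtype.val h) x,
      fun φ => by
        have hle : (m • ⊤ : Submodule R M) ≤ LinearMap.ker (φ : M →ₗ[R] E) :=
          Submodule.smul_le.mpr fun a ha x _ => by
            rw [LinearMap.mem_ker, map_smul]
            exact LinearMap.congr_fun
              ((Submodule.mem_torsionBySet_iff _ _).mp φ.2 ⟨a, ha⟩) x
        exact ⟨Submodule.liftQ _ _ hle, Subtype.ext (Submodule.liftQ_mkQ _ _ hle)⟩⟩
  have hQ : Module.length R Q = (⊤ : Submodule R M).spanFinrank := by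
    rw [Module.length_eq_of_surjective (R := R ⧸ m) (M := Q) (S := R) Ideal.Quotient.mk_surjective,
      Module.length_eq_finrank (R ⧸ m) Q, IsLocalRing.spanFinrank_eq_finrank_quotient _ Module.Finite.fg_top]
    congr 1
    exact (LinearEquiv.finrank_eq ((Submodule.Quotient.equiv _ _ Submodule.topEquiv (by
      simp [Submodule.map_smul'', Submodule.map_top, m])).extendScalarsOfSurjective
      Ideal.Quotient.mk_surjective)).symm
  rw [← e.length_eq, MatlisDual.length_dual hf, hQ]
  exact Module.length_ne_top_iff.mp (by rw [hQ]; exact ENat.coe_ne_top _)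

end Groth.Agent.S17756
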