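import Groth.Statements.S17763
import Groth.Agent.LocCohBasic.CompareSupport
import Groth.Agent.LocDuality.CanonBasic
-- import your own Groth.Agent.* helpers here

set_option autoImplicit false
universe u
open LocCoh

namespace Groth.Agent.S17763

/-- Let R be a Noetherian local ring of Krull dimension d. Then the following are equivalent: (1)
H^d_I(R) = 0 for every ideal I of R such that R ⧸ I has positive dimension; (2) H^d_p(R) = 0 for
every prime ideal p of R such that R ⧸ p has dimension one. -/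
theorem result (R : Type u) [CommRing R] [IsNoetherianRing R] [IsLocalRing R] (d : ℕ) (hd : ringKrullDim R = d) : (∀ I : Ideal R, 0 < ringKrullDim (R ⧸ I) → Subsingleton (LocCoh.H I d R)) ↔ (∀ (p : Ideal R) [p.IsPrime], ringKrullDim (R ⧸ p) = 1 → Subsingleton (LocCoh.H p d R)) := by
  refine ⟨fun h p _ hp => h p (by rw [hp]; exact zero_lt_one), fun h I hI => ?_⟩
  classical
  have hIne : I ≠ IsLocalRing.maximalIdeal R ∧ I ≠ ⊤ := by
    refine ⟨fun e => ?_, fun e => ?_⟩
    · subst e
      rw [ringKrullDim_eq_zero_of_isField ((Ideal.Quotient.maximal_ideal_iff_isField_quotient _).mp (IsLocalRing.maximalIdeal.isMaximal R))] at hI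
      exact lt_irrefl _ hI
    · subst e
      have : Subsingleton (R ⧸ (⊤ : Ideal R)) := Ideal.Quotient.subsingleton_iff.mpr rfl
      rw [ringKrullDim_eq_bot_of_subsingleton] at hI
      exact absurd hI not_lt_bot
  obtain ⟨q₀, hq₀, hne⟩ : ∃ q : Ideal R, (q.IsPrime ∧ I ≤ q) ∧ q ≠ IsLocalRing.maximalIdeal R := by
    by_contra! hall
    have hrad : I.radical = IsLocalRing.maximalIdeal R := by
      refine le_antisymm (((IsLocalRing.maximalIdeal.isMaximal R).isPrime.radical_le_iff).mpr (IsLocalRing.le_maximalIdeal hIne.2)) ?_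
      rw [Ideal.radical_eq_sInf]
      exact le_sInf fun J ⟨hIJ, hJ⟩ => (hall J ⟨hJ, hIJ⟩).ge
    obtain ⟨N, hN⟩ := I.exists_radical_pow_le_of_fg (IsNoetherian.noetherian _)
    rw [hrad] at hN
    have : Nontrivial (R ⧸ I) := Ideal.Quotient.nontrivial_iff.mpr hIne.2
    have : IsLocalRing (R ⧸ I) := IsLocalRing.of_surjective' _ Ideal.Quotient.mk_surjective
    have : IsArtinianRing (R ⧸ I) := by
      refine (isArtinianRing_iff_isNilpotent_maximalIdeal _).mpr ⟨N, ?_⟩
      rw [← IsLocalRing.map_maximalIdeal_of_surjective _ Ideal.Quotient.mk_surjective, ← Ideal.map_pow]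
      exact le_bot_iff.mp ((Ideal.map_mono hN).trans (Ideal.map_quotient_self I).le)
    exact absurd (Ring.krullDimLE_iff.mp (inferInstance : Ring.KrullDimLE 0 (R ⧸ I))) (not_le.mpr hI)
  obtain ⟨p, ⟨⟨hp, hIp⟩, hpm⟩, hpmax⟩ := set_has_maximal_iff_noetherian.mpr inferInstance
    {q : Ideal R | (q.IsPrime ∧ I ≤ q) ∧ q ≠ IsLocalRing.maximalIdeal R} ⟨q₀, hq₀, hne⟩
  have hdim : ringKrullDim (R ⧸ p) = 1 := by
    have : IsLocalRing (R ⧸ p) := IsLocalRing.of_surjective' _ Ideal.Quotient.mk_surjective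
    refine le_antisymm ?_ ?_
    · rw [← IsLocalRing.maximalIdeal_height_eq_ringKrullDim]
      refine WithBot.coe_le_coe.mpr (show (IsLocalRing.maximalIdeal (R ⧸ p)).height ≤ ((1 : ℕ) : ℕ∞) from ?_)
      rw [Ideal.height_le_iff]
      intro Q hQ hlt
      rw [Nat.cast_one, ENat.lt_one_iff_eq_zero, Ideal.height_eq_zero_iff]
      refine ⟨⟨hQ, bot_le⟩, fun Q' ⟨hQ', _⟩ hle => ?_⟩
      have hQc : Q.comap (Ideal.Quotient.mk p) = p := by
        by_contra hne'
        have hpQ : p ≤ Q.comap (Ideal.Quotient.mk p) := fun r hr => by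
          rw [Ideal.mem_comap, Ideal.Quotient.eq_zero_iff_mem.mpr hr]; exact zero_mem _
        refine hpmax _ ⟨⟨hQ.comap _, hIp.trans hpQ⟩, fun e => ?_⟩ (lt_of_le_of_ne hpQ (Ne.symm hne'))
        apply hlt.ne
        rw [← Ideal.map_comap_of_surjective _ Ideal.Quotient.mk_surjective Q, e,
          IsLocalRing.map_maximalIdeal_of_surjective _ Ideal.Quotient.mk_surjective]
      rw [← Ideal.map_comap_of_surjective _ Ideal.Quotient.mk_surjective Q, hQc, Ideal.map_quotient_self]
      exact bot_le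
    · rw [← IsLocalRing.maximalIdeal_height_eq_ringKrullDim, ← WithBot.coe_one, WithBot.coe_le_coe,
        Order.one_le_iff_ne_zero]
      intro h0
      rw [Ideal.height_eq_zero_iff] at h0
      have h1 := le_bot_iff.mp (h0.2 ⟨(inferInstance : (⊥ : Ideal (R ⧸ p)).IsPrime), bot_le⟩ bot_le)
      apply hpm
      refine le_antisymm (IsLocalRing.le_maximalIdeal hp.ne_top) fun r hr => ?_
      rw [← Ideal.Quotient.eq_zero_iff_mem, ← Ideal.mem_bot, ← h1,
        ← IsLocalRing.map_maximalIdeal_of_surjective (Ideal.Quotient.mk p) Ideal.Quotient.mk_surjective]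
      exact Ideal.mem_map_of_mem _ hr
  have hsurj := Groth.Agent.LocCohBasic.surjective_HmapOfLE_aux p (ModuleCat.of R R) d I hIp fun q hIq hpq => ?_
  · exact @Function.Surjective.subsingleton _ _ _ (h p hdim) hsurj
  have hqm : q.asIdeal ≠ IsLocalRing.maximalIdeal R := fun e => hpq (e ▸ IsLocalRing.le_maximalIdeal hp.ne_top)
  refine Groth.Agent.LocCohBasic.subsingleton_of_supportDim_lt _ (ModuleCat.of _ (LocalizedModule q.asIdeal.primeCompl R)) ?_
  refine lt_of_le_of_lt (Module.supportDim_le_ringKrullDim _ _) ?_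
  rw [IsLocalization.AtPrime.ringKrullDim_eq_height q.asIdeal]
  have h2 := Ideal.height_strict_mono_of_isPrime (I := q.asIdeal) (lt_of_le_of_ne (IsLocalRing.le_maximalIdeal q.isPrime.ne_top) hqm)
  rw [← hd, ← IsLocalRing.maximalIdeal_height_eq_ringKrullDim]
  exact WithBot.coe_lt_coe.mpr h2

end Groth.Agent.S17763
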