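import Groth.Statements.S17764
import Groth.Agent.InjHullBasic.Noetherian
-- import your own Groth.Agent.* helpers here

set_option autoImplicit false
universe u
open InjHull

namespace Groth.Agent.S17764

/-- Let R be a commutative ring and M an R-module which is torsion-free (no nonzero element of R kills a
nonzero element of M) and divisible (multiplication by every nonzero element of R is surjective on
M). Then M is an injective R-module. (Over a ring with zero divisors the two hypotheses force M =
0.) -/
theorem result (R : Type u) [CommRing R] (M : Type u) [AddCommGroup M] [Module R M] [NoZeroSMulDivisors R M] (hdiv : ∀ r : R, r ≠ 0 → Function.Surjective (fun m : M => r • m)) : Module.Injective R M := by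
  refine Module.Baer.injective fun a g => ?_
  rcases subsingleton_or_nontrivial M with hM | hM
  · exact ⟨0, fun x hx => Subsingleton.elim _ _⟩
  by_cases ha : a = ⊥
  · subst ha
    refine ⟨0, fun x hx => ?_⟩
    obtain rfl : x = 0 := hx
    exact (map_zero g).symm
  obtain ⟨b, hb, hb0⟩ := Submodule.exists_mem_ne_zero_of_ne_bot ha
  obtain ⟨y, hy⟩ := hdiv b hb0 (g ⟨b, hb⟩)
  refine ⟨LinearMap.toSpanSingleton R M y, fun x hx => ?_⟩
  change x • y = g ⟨x, hx⟩
  have : b • (x • y - g ⟨x, hx⟩) = 0 := by
    rw [smul_sub, sub_eq_zero, smul_comm, show b • y = g ⟨b, hb⟩ from hy, ← map_smul, ← map_smul]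
    exact congrArg g (Subtype.ext (mul_comm x b))
  exact sub_eq_zero.mp ((NoZeroSMulDivisors.eq_zero_or_eq_zero_of_smul_eq_zero this).resolve_left hb0)

end Groth.Agent.S17764
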