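import Groth.Statements.S17765
import Groth.Agent.Depth.CM
import Groth.Agent.S0564
import Groth.Agent.CAlgReg.AusBuch
import Groth.Agent.CAlgReg.Serre
import Mathlib.RingTheory.Ideal.AssociatedPrime.Localization
-- import your own Groth.Agent.* helpers here

set_option autoImplicit false
universe u
open CategoryTheory
open LocCoh

namespace Groth.Agent.S17765

/-- Let B be a regular local ring, M a finitely generated B-module and p an associated prime ideal of M.
Then the height of p is at most the projective dimension of M: for every n such that M has
projective dimension at most n, ht p ≤ n. -/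
theorem result (B : Type u) [CommRing B] [IsRegularLocalRing B] (M : Type u) [AddCommGroup M] [Module B M] [Module.Finite B M] (p : Ideal B) (hp : p ∈ associatedPrimes B M) (n : ℕ) (hn : HasProjectiveDimensionLE (ModuleCat.of B M) n) : p.height ≤ n := by
  have hpp : p.IsPrime := hp.isPrime
  have : IsRegularLocalRing (Localization.AtPrime p) := S0564.result B p
  have : Nontrivial (LocalizedModule p.primeCompl M) :=
    Module.mem_support_iff.1 (Depth.mem_support_of_mem_associatedPrimes (M := M) hp)
  have hl : CAlgReg.PdLT (Localization.AtPrime p) (LocalizedModule p.primeCompl M) (n + 1) :=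
    CAlgReg.pdLT_congr (LocalizedModule.equivTensorProduct p.primeCompl M).symm
      (CAlgReg.pdLT_localization p.primeCompl n M hn)
  have hle := (projectiveDimension_le_iff (ModuleCat.of (Localization.AtPrime p) (LocalizedModule p.primeCompl M)) n).2 hl
  have hne : projectiveDimension (ModuleCat.of (Localization.AtPrime p) (LocalizedModule p.primeCompl M)) ≠ ⊥ :=
    fun h => not_subsingleton _ (ModuleCat.subsingleton_of_isZero ((projectiveDimension_eq_bot_iff _).1 h))
  obtain ⟨a, ha⟩ := WithBot.ne_bot_iff_exists.1 hne
  have han : a ≤ n := by rw [← ha] at hle; exact WithBot.coe_le_coe.1 hle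
  obtain ⟨e, rfl⟩ := ENat.ne_top_iff_exists.1 (ne_top_of_le_ne_top (ENat.natCast_ne_top n) han)
  have h1 := CAlgReg.auslander_buchsbaum (R := Localization.AtPrime p) (LocalizedModule p.primeCompl M) e ha.symm
  have h0 : LocCoh.depth (Localization.AtPrime p) (LocalizedModule p.primeCompl M) = 0 := by
    rw [Depth.depth_eq_zero_iff]
    exact Module.associatedPrimes.mem_associatedPrimes_atPrime_of_mem_associatedPrimes hp
  obtain ⟨d, hd⟩ := CAlgReg.exists_dim (R := Localization.AtPrime p)
  rw [h0, add_zero, CAlgReg.depth_self_eq_dim hd] at h1
  have h3 := IsLocalization.AtPrime.ringKrullDim_eq_height p (Localization.AtPrime p)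
  rw [hd] at h3
  have : p.height = (d : ℕ∞) := by exact_mod_cast h3.symm
  rw [this, h1]; exact han

end Groth.Agent.S17765
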