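import Groth.Statements.S17774
import Groth.Agent.LocDuality.Gorenstein
import Groth.Agent.LocCohBasic.ExtComparison
import Groth.Agent.S0341
import Groth.Agent.Depth.CM
-- import your own Groth.Agent.* helpers here

set_option autoImplicit false
universe u
open CategoryTheory Opposite
open LocCoh

namespace Groth.Agent.S17774

/-- Let (S, n) be a Gorenstein local ring, I an ideal of S of height g such that R = S ⧸ I is a
Cohen–Macaulay local ring, of Krull dimension d, and E an injective hull of the residue field of S.
Then the canonical module of R is Ext^g_S(R, S), in the following sense: the Matlis dual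
Hom_S(Ext^g_S(R, S), E) is isomorphic as an S-module to the top local cohomology H^d_n(R) of R
regarded as an S-module (existence of an S-linear isomorphism; Hom into E over S and local
cohomology with support in n agree with the corresponding notions over R for R-modules). -/
theorem result (S : Type u) [CommRing S] [LocCoh.IsGorensteinLocalRing S] (I : Ideal S) (g : ℕ) (hg : I.height = g) [LocCoh.IsCohenMacaulayLocalRing (S ⧸ I)] (d : ℕ) (hd : ringKrullDim (S ⧸ I) = d) (E : Type u) [AddCommGroup E] [Module S E] (f : IsLocalRing.ResidueField S →ₗ[S] E) (hf : InjHull.IsInjectiveHull f) : Nonempty ((((Ext S (ModuleCat.{u} S) g).obj (op (ModuleCat.of S (S ⧸ I)))).obj (ModuleCat.of S S) →ₗ[S] E) ≃ₗ[S] LocCoh.H (IsLocalRing.maximalIdeal S) d (S ⧸ I)) := by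
  obtain ⟨n, hn, -⟩ := Groth.Agent.GorenBasic.gorenstein_dim (R := S)
  have := S0341.result S
  have := Groth.Agent.Depth.isCohenMacaulayRing_of_local (R := S)
  have hne : I ≠ ⊤ := by
    rintro rfl
    exact not_nontrivial (S ⧸ (⊤ : Ideal S)) inferInstance
  have h1 := Groth.Agent.Depth.supportDim_eq_quotient_add_idealDepth S
    (Groth.Agent.Depth.isCohenMacaulayModule_self (R := S)) (IsLocalRing.le_maximalIdeal hne)
  rw [Module.supportDim_self_eq_ringKrullDim, hn, Groth.Agent.Depth.idealDepth_eq_height, hg,
    Module.supportDim_eq_of_equiv (Submodule.quotEquivOfEq _ I (by simp)),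
    Module.supportDim_quotient_eq_ringKrullDim, hd] at h1
  have hnd : n = d + g := by exact_mod_cast h1
  obtain ⟨D⟩ := Groth.Agent.LocDuality.nonempty_gorenstein_duality hn hf g (by omega) (S ⧸ I)
  rw [show n - g = d by omega] at D
  exact ⟨((((Groth.Agent.LocCohBasic.extNatIso S (ModuleCat.{u} S) g).app
    (Opposite.op (ModuleCat.of S (S ⧸ I)))).app (ModuleCat.of S S)).toLinearEquiv.congrLeft E S).trans D.symm⟩

end Groth.Agent.S17774
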