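import Groth.Statements.S17777
import Groth.Agent.KoszulCech.ExtCech
-- import your own Groth.Agent.* helpers here

set_option autoImplicit false
universe u
open CategoryTheory CategoryTheory.Limits
attribute [local instance] HasDerivedCategory.standard
open LocCoh

namespace Groth.Agent.S17777

/-- Let R be an arbitrary commutative ring, x_1, …, x_n a finite list of elements of R and M an R-module
such that some x_i acts bijectively on M (so M is an R_{x_i}-module). Then every cohomology module
of the extended Čech complex of M on x_1, …, x_n is zero, in all degrees. -/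
theorem result (R : Type u) [CommRing R] (fs : List R) (M : Type u) [AddCommGroup M] [Module R M] (f : R) (hf : f ∈ fs) (hu : Function.Bijective (fun m : M => f • m)) (q : ℤ) : IsZero (DerCA.extCechH fs (ModuleCat.of R M) q) := by
  open KoszulCech.ExtCech CochainComplex in
  suffices h : ∀ fs : List R, (∀ i : ℤ, Function.Bijective fun x : (DerCA.extCech (ModuleCat.of R M) fs).X i => f • x) ∧
      (f ∈ fs → ∀ q : ℤ, Ex (DerCA.extCech (ModuleCat.of R M) fs) q) from
    (exactAt_of_ex ((h fs).2 hf q)).isZero_homology
  intro gs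
  induction gs with
  | nil =>
    refine ⟨fun i => ?_, fun h => absurd h List.not_mem_nil⟩
    rcases eq_or_ne i 0 with rfl | hi
    · let e : ((DerCA.extCech (ModuleCat.of R M) []).X 0) ≃ₗ[R] M :=
        (HomologicalComplex.singleObjXSelf (ComplexShape.up ℤ) 0 (ModuleCat.of R M)).toLinearEquiv
      exact ⟨fun a b hab => e.injective (hu.1 (((e.map_smul f a).symm.trans (congrArg e hab)).trans (e.map_smul f b))),
        fun b => ⟨e.symm (Classical.choose (hu.2 (e b))), e.injective ((e.map_smul f _).trans
          ((congrArg (f • ·) (e.apply_symm_apply _)).trans (Classical.choose_spec (hu.2 (e b)))))⟩⟩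
    · have hs := ModuleCat.subsingleton_of_isZero
        (HomologicalComplex.isZero_single_obj_X (ComplexShape.up ℤ) 0 (ModuleCat.of R M) i hi)
      exact ⟨fun a b _ => hs.elim _ _, fun b => ⟨b, hs.elim _ _⟩⟩
  | cons g gs ih =>
    obtain ⟨hb, hex⟩ := ih
    let K := DerCA.extCech (ModuleCat.of R M) gs
    let φ := DerCA.locCxUnit (Submonoid.powers g) K
    let L := (DerCA.locCx (Submonoid.powers g)).obj K
    have hLb : ∀ i, Function.Bijective fun x : L.X i => f • x := fun i => by
      refine ⟨(injective_iff_map_eq_zero (LinearMap.lsmul R (L.X i) f)).2 fun x hx => ?_, fun x => ?_⟩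
      · change f • x = 0 at hx
        obtain ⟨y, k, hy⟩ := exists_li g K x
        have h0 : li g K i (f • y) = 0 := by rw [map_smul, ← hy, smul_comm, hx, smul_zero]
        obtain ⟨l, hl⟩ := (li_eq_zero_iff g K _).1 h0
        have hy0 : li g K i y = 0 := (li_eq_zero_iff g K _).2
          ⟨l, (hb i).1 (show f • (g ^ l • y) = f • (0 : K.X i) by rw [smul_comm, hl, smul_zero])⟩
        exact pow_inj g K k ((hy.trans hy0).trans (smul_zero _).symm)
      · obtain ⟨y, k, hy⟩ := exists_li g K x
        obtain ⟨z, hz⟩ := (hb i).2 y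
        obtain ⟨w, hw⟩ := pow_surj g K k (li g K i z)
        refine ⟨w, pow_inj g K k ?_⟩
        show g ^ k • f • w = g ^ k • x
        rw [smul_comm, hw, ← map_smul, hy]
        exact congrArg _ hz
    refine ⟨fun i => ?_, fun hmem q => ?_⟩
    · show Function.Bijective fun x : (mappingCone φ).X (i + -1) => f • x
      refine ⟨fun a b hab => ext φ rfl ((hb _).1 ?_) ((hLb _).1 ?_), fun x => ?_⟩
      · exact ((pf φ _ _ rfl).map_smul f a).symm.trans ((congrArg _ hab).trans ((pf φ _ _ rfl).map_smul f b))
      · exact ((ps φ _).map_smul f a).symm.trans ((congrArg _ hab).trans ((ps φ _).map_smul f b))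
      · obtain ⟨a, ha⟩ := (hb _).2 (pf φ _ _ rfl x)
        obtain ⟨b, hb'⟩ := (hLb _).2 (ps φ _ x)
        refine ⟨mk φ rfl a b, ext φ rfl ?_ ?_⟩
        · rw [map_smul, pf_mk]; exact ha
        · rw [map_smul, ps_mk]; exact hb'
    rcases List.mem_cons.1 hmem with rfl | hm
    · -- the unit is an isomorphism
      have hpk : ∀ (i : ℤ) (k : ℕ), Function.Bijective fun x : K.X i => f ^ k • x := fun i k => by
        induction k with
        | zero => simp only [pow_zero, one_smul]; exact Function.bijective_id
        | succ k ihk =>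
          have : (fun x : K.X i => f ^ (k + 1) • x) = (fun x => f • x) ∘ fun x => f ^ k • x := by
            funext x; simp [pow_succ', mul_smul]
          rw [this]; exact (hb i).comp ihk
      have hinj : ∀ i, Function.Injective (li f K i) := fun i => (injective_iff_map_eq_zero _).2 fun y hy => by
        obtain ⟨k, hk⟩ := (li_eq_zero_iff f K _).1 hy
        exact (hpk i k).1 (hk.trans (smul_zero _).symm)
      have hsurj : ∀ i, Function.Surjective (li f K i) := fun i a => by
        obtain ⟨y, k, hy⟩ := exists_li f K a
        obtain ⟨z, hz⟩ := (hpk i k).2 y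
        exact ⟨z, pow_inj f K k (by rw [← map_smul, hy]; exact congrArg _ hz)⟩
      intro p r hp hr x hx
      have hx' : (mappingCone φ).d (q + -1) (r + -1) x = 0 := neg_eq_zero.1 ((cocone_d φ q r x).symm.trans hx)
      have h1 : q + -1 + 1 = q := by omega
      have h2 : p + -1 + 1 = q + -1 := by omega
      obtain ⟨e, he⟩ := hsurj _ (ps φ (q + -1) x)
      refine ⟨-(mk φ h2 e 0 : (mappingCone φ).X (p + -1)), ?_⟩
      refine (cocone_d φ p q _).trans ?_
      show -((mappingCone φ).d (p + -1) (q + -1) (-(mk φ h2 e 0))) = x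
      rw [map_neg, neg_neg]
      have hq' : r + -1 = q := by omega
      rw [hq'] at hx'
      have hb0 := congrArg (ps φ q) hx'
      rw [ps_d φ (q + -1) q h1, map_zero, ← he, li_d] at hb0
      have hb1 : li f K q (pf φ (q + -1) q h1 x + K.d (q + -1) q e) = 0 := (map_add _ _ _).trans hb0
      refine ext φ h1 ?_ ?_
      · rw [pf_d φ _ _ _ h2 h1, pf_mk, neg_eq_iff_add_eq_zero, add_comm]
        exact hinj _ (hb1.trans (map_zero _).symm)
      · rw [ps_d φ _ _ h2, pf_mk, ps_mk, map_zero, add_zero]
        exact he
    · refine ex_cocone φ (hex hm q) fun p s hp _ hs c hc => ?_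
      obtain ⟨w, hw⟩ := ex_locCx g (hex hm p) s q hs hp c hc
      exact ⟨0, w, map_zero _, by rw [map_zero, zero_add, hw]⟩

end Groth.Agent.S17777
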