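import Groth.Statements.S17780
import Groth.Agent.AltSumLib.Basic

set_option autoImplicit false
universe u
open DRR

namespace Groth.Agent.S17780

/-- For x, y in a commutative ring and a natural number n, (n+1)! · x · y^n equals the sum over j = 0,
…, n of (−1)^(n−j) C(n, j) (x + j y)^(n+1), minus (n · (n+1)!/2) · y^(n+1). (The published identity
is stated in ℚ[x, y] with an overall factor 1/(n+1) and the coefficients C(n, j)(−1)^(n−j)/n!; it is
given here multiplied through by (n+1)!, which makes it an identity with integer coefficients valid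
in every commutative ring; n · (n+1)!/2 is an integer.) -/
theorem result (A : Type u) [CommRing A] (x y : A) (n : ℕ) :
    ((n + 1).factorial : A) * x * y ^ n =
      (∑ j ∈ Finset.range (n + 1), (-1 : A) ^ (n - j) * (n.choose j : A) * (x + (j : A) * y) ^ (n + 1))
        - ((n * (n + 1).factorial / 2 : ℕ) : A) * y ^ (n + 1) := by
  open Finset Groth.Agent.AltSumLib in
  have key : ∑ j ∈ range (n + 1), (-1 : A) ^ (n - j) * (n.choose j : A) * (x + (j : A) * y) ^ (n + 1)
      = ∑ m ∈ range (n + 1 + 1),
        ((n + 1).choose m : A) * x ^ (n + 1 - m) * y ^ m * ((f n m : ℤ) : A) := by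
    have hS : ∀ m ∈ range (n + 1 + 1), ((f n m : ℤ) : A) =
        ∑ j ∈ range (n + 1), (-1 : A) ^ (n - j) * (n.choose j : A) * (j : A) ^ m := fun m hm => by
      rw [← S_eq n m (Nat.lt_succ_iff.mp (mem_range.mp hm)), S]
      push_cast; rfl
    rw [sum_congr rfl fun m hm => congrArg (_ * ·) (hS m hm)]
    simp only [add_pow, mul_sum]
    rw [sum_comm]
    rw [← sum_range_reflect]
    refine sum_congr rfl fun m hm => sum_congr rfl fun j _ => ?_
    have hm' : m ≤ n + 1 := Nat.lt_succ_iff.mp (mem_range.mp hm)
    rw [show n + 1 + 1 - 1 - m = n + 1 - m by omega, Nat.choose_symm hm',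
      show n + 1 - (n + 1 - m) = m by omega, mul_pow]
    ring
  have h2 : n * (n + 1).factorial / 2 = (n + 1).choose 2 * n.factorial := by
    rw [Nat.choose_two_right, Nat.factorial_succ, ← mul_assoc,
      show (n + 1) * (n + 1 - 1) / 2 * n.factorial = (n + 1) * n / 2 * n.factorial by simp]
    rw [mul_comm n (n + 1)]
    exact (Nat.mul_div_right_comm (Nat.even_mul_succ_self n |>.two_dvd.trans (dvd_of_eq (mul_comm _ _))) _)
  rw [key, Finset.sum_range_succ, Finset.sum_range_succ, Finset.sum_eq_zero, zero_add, h2]
  · simp only [Groth.Agent.AltSumLib.f]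
    rw [if_pos trivial, if_neg (by omega), if_pos trivial, Nat.choose_succ_self_right, Nat.choose_self,
      show n + 1 - n = 1 by omega, Nat.sub_self, Nat.factorial_succ]
    push_cast; ring
  · intro m hm
    have := Finset.mem_range.mp hm
    simp only [Groth.Agent.AltSumLib.f]
    rw [if_neg (by omega), if_neg (by omega)]
    simp


end Groth.Agent.S17780
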