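import Groth.Statements.S17781
import Mathlib

set_option autoImplicit false
open Variety

namespace Groth.Agent.S17781

theorem dvd_choose_mul_gcd (d j : ℕ) (hd : 1 ≤ d) (hj : 1 ≤ j) : d ∣ d.choose j * Nat.gcd d j := by
  obtain ⟨i, rfl⟩ := Nat.exists_eq_add_of_le hj
  obtain ⟨e, rfl⟩ := Nat.exists_eq_add_of_le hd
  have h : (1 + e).choose (1 + i) * (1 + i) = (1 + e) * e.choose i := by
    have := Nat.add_one_mul_choose_eq e i
    rw [add_comm 1 e, add_comm 1 i]; linarith
  rw [← Nat.gcd_mul_left]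
  exact Nat.dvd_gcd (Dvd.intro_left _ rfl) ⟨_, h⟩

theorem choose_pred_prime_pow (p a d : ℕ) (hp : p.Prime) (hd : 1 ≤ d) (hpd : p ^ a ∣ d) :
    ∀ k < p ^ a, ¬ p ∣ (d - 1).choose k := by
  intro k
  induction k with
  | zero => intro _; simpa using hp.ne_one
  | succ k ih =>
    intro hk h
    apply ih (by omega)
    have hsum : d.choose (k + 1) = (d - 1).choose k + (d - 1).choose (k + 1) := by
      obtain ⟨e, rfl⟩ := Nat.exists_eq_add_of_le hd
      rw [Nat.add_sub_cancel_left, add_comm 1 e, Nat.choose_succ_succ']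
    have hp' : p ∣ d.choose (k + 1) := by
      by_contra hc
      have hcop : Nat.Coprime (p ^ a) (d.choose (k + 1)) := ((hp.coprime_iff_not_dvd).mpr hc).pow_left a
      have := hcop.dvd_of_dvd_mul_left (hpd.trans (dvd_choose_mul_gcd d (k + 1) hd (by omega)))
      have := Nat.le_of_dvd (by omega) (this.trans (Nat.gcd_dvd_right _ _))
      omega
    exact (Nat.dvd_add_left h).mp (hsum ▸ hp')


/-- Let d ≥ 1 and N ≥ 1 be integers and let I(d, N) be the greatest common divisor of the quotients d/δ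
over the divisors δ of d with 1 ≤ δ ≤ N. Then I(d, N) equals the greatest common divisor of the
integers χ(d, n) = 1 − (−1)^n C(d − 1, n) for 1 ≤ n ≤ N (χ(d, n) is the Euler characteristic of O_H
for a degree-d hypersurface H in projective n-space). Both greatest common divisors are taken in ℤ,
normalised to be non-negative. -/
theorem result (d N : ℕ) (hd : 1 ≤ d) (hN : 1 ≤ N) :
    (Finset.Icc 1 N).gcd (fun n => 1 - (-1 : ℤ) ^ n * ((d - 1).choose n : ℤ)) =
      ((Finset.Icc 1 N).filter (fun δ => δ ∣ d)).gcd (fun δ => ((d / δ : ℕ) : ℤ)) := by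
  have h0 : ∀ j, d.choose (j + 1) = (d - 1).choose j + (d - 1).choose (j + 1) := by
    obtain ⟨e, rfl⟩ := Nat.exists_eq_add_of_le hd
    intro j
    rw [Nat.add_sub_cancel_left, add_comm 1 e, Nat.choose_succ_succ']
  let L := (Finset.Icc 1 N).gcd (fun n => 1 - (-1 : ℤ) ^ n * ((d - 1).choose n : ℤ))
  let G := ((Finset.Icc 1 N).filter (fun δ => δ ∣ d)).gcd (fun δ => ((d / δ : ℕ) : ℤ))
  have hG : ∀ j, 1 ≤ j → j ≤ N → G ∣ (d.choose j : ℤ) := by
    intro j h1 h2
    have hgd := Nat.gcd_dvd_left d j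
    have hgj : Nat.gcd d j ≤ j := Nat.le_of_dvd h1 (Nat.gcd_dvd_right d j)
    have hg0 : 0 < Nat.gcd d j := Nat.gcd_pos_of_pos_left _ hd
    refine (Finset.gcd_dvd (b := Nat.gcd d j) (by simp; omega)).trans ?_
    refine Int.natCast_dvd_natCast.mpr ?_
    rw [Nat.div_dvd_iff_dvd_mul hgd hg0]
    rw [mul_comm]; exact dvd_choose_mul_gcd d j hd h1
  have h1 : G ∣ L := Finset.dvd_gcd fun n hn => by
    rw [Finset.mem_Icc] at hn
    have : ∀ n ≤ N, G ∣ 1 - (-1 : ℤ) ^ n * ((d - 1).choose n : ℤ) := by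
      intro n
      induction n with
      | zero => simp
      | succ n ih =>
        intro hn
        have e : 1 - (-1 : ℤ) ^ (n + 1) * ((d - 1).choose (n + 1) : ℤ) =
            (1 - (-1 : ℤ) ^ n * ((d - 1).choose n : ℤ)) + (-1) ^ n * (d.choose (n + 1) : ℤ) := by
          rw [h0]; push_cast; ring
        rw [e]
        exact dvd_add (ih (by omega)) (Dvd.dvd.mul_left (hG _ (by omega) hn) _)
    exact this n hn.2
  have hL : ∀ n ≤ N, L ∣ 1 - (-1 : ℤ) ^ n * ((d - 1).choose n : ℤ) := fun n hn => by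
    rcases Nat.eq_zero_or_pos n with rfl | h
    · simp
    · exact Finset.gcd_dvd (Finset.mem_Icc.mpr ⟨h, hn⟩)
  have hC : ∀ j, 1 ≤ j → j ≤ N → L ∣ (d.choose j : ℤ) := by
    intro j h1 h2
    obtain ⟨i, rfl⟩ := Nat.exists_eq_add_of_le' h1
    have e : (d.choose (i + 1) : ℤ) = (-1) ^ i * ((1 - (-1 : ℤ) ^ (i + 1) * ((d - 1).choose (i + 1) : ℤ)) - (1 - (-1 : ℤ) ^ i * ((d - 1).choose i : ℤ))) := by
      have hsq : ((-1 : ℤ) ^ i) * ((-1) ^ i) = 1 := by rw [← mul_pow]; simp
      rw [h0]; push_cast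
      linear_combination (norm := ring_nf) (-((d - 1).choose i : ℤ) - ((d - 1).choose (i + 1) : ℤ)) * hsq
    rw [e]
    exact Dvd.dvd.mul_left (dvd_sub (hL _ h2) (hL _ (by omega))) _
  refine dvd_antisymm_of_normalize_eq Finset.normalize_gcd Finset.normalize_gcd ?_ h1
  refine Finset.dvd_gcd fun δ hδ => ?_
  simp only [Finset.mem_filter, Finset.mem_Icc] at hδ
  obtain ⟨⟨hδ1, hδN⟩, hδd⟩ := hδ
  rw [← Int.natAbs_dvd, Int.natCast_dvd_natCast, Nat.dvd_div_iff_mul_dvd hδd]
  have hD : ∀ j, 1 ≤ j → j ≤ N → L.natAbs ∣ d.choose j := fun j a b => Int.natAbs_dvd_natAbs.mpr (hC j a b) |>.trans (by simp)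
  have hDd : L.natAbs ∣ d := by simpa using hD 1 le_rfl hN
  have hD0 : L.natAbs ≠ 0 := fun h => by rw [h, zero_dvd_iff] at hDd; omega
  rw [← Nat.factorization_le_iff_dvd (by positivity) (by omega)]
  intro p
  rw [Nat.factorization_mul (by omega) hD0, Finsupp.add_apply]
  by_cases hp : p.Prime
  swap
  · simp [Nat.factorization_eq_zero_of_not_prime _ hp]
  have hmono := (Nat.factorization_le_iff_dvd hD0 (by omega)).mpr hDd p
  let e := δ.factorization p
  rcases Nat.eq_zero_or_pos e with he | he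
  · simp only [e] at he; omega
  have hqδ : p ^ e ∣ δ := Nat.ordProj_dvd δ p
  have hq1 : 1 ≤ p ^ e := Nat.one_le_pow _ _ hp.pos
  have hq : p ^ e ≤ N := (Nat.le_of_dvd (by omega) hqδ).trans hδN
  have hqd : p ^ e ∣ d := hqδ.trans hδd
  have hnd := choose_pred_prime_pow p e d hp hd hqd (p ^ e - 1) (by omega)
  have hmul : d.choose (p ^ e) * p ^ e = d * (d - 1).choose (p ^ e - 1) := by
    have h := Nat.add_one_mul_choose_eq (d - 1) (p ^ e - 1)
    rw [Nat.sub_add_cancel hd, Nat.sub_add_cancel hq1] at h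
    exact h.symm
  have hne : d.choose (p ^ e) ≠ 0 := (Nat.choose_pos (Nat.le_of_dvd (by omega) hqd)).ne'
  have hv : (d.choose (p ^ e)).factorization p + e = d.factorization p := by
    have hC0 : (d - 1).choose (p ^ e - 1) ≠ 0 := fun h => hnd (by rw [h]; exact dvd_zero p)
    have h := congrArg (fun x : ℕ => x.factorization p) hmul
    beta_reduce at h
    rw [Nat.factorization_mul hne (by positivity), Nat.factorization_mul (by omega) hC0, Finsupp.add_apply, Finsupp.add_apply,
      hp.factorization_pow, Finsupp.single_eq_same, Nat.factorization_eq_zero_of_not_dvd hnd, add_zero] at h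
    exact h
  have := (Nat.factorization_le_iff_dvd hD0 hne).mpr (hD _ hq1 hq) p
  show δ.factorization p + _ ≤ _
  omega

end Groth.Agent.S17781
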