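import Groth.Statements.S17794
import Groth.Agent.FlatLocus.Scheme
import Groth.Agent.FpqcDescent.Flat
import Groth.Agent.GrpSch.OverBase
import Mathlib.CategoryTheory.Sites.LocallyBijective
-- import your own Groth.Agent.* helpers here

set_option autoImplicit false
universe u
open CategoryTheory CategoryTheory.Limits MonoidalCategory CartesianMonoidalCategory MonObj GrpObj AlgebraicGeometry
open GrpSch

namespace Groth.Agent.S17794

open Opposite

section

variable {S : Scheme.{u}} {G H N : Over S} (f : G ⟶ H)

/-- sheaf epimorphism in terms of covers -/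
instance : (Scheme.fppfPrecoverage.{u}).HasIsos :=
  ⟨fun f _ => (Scheme.singleton_mem_precoverage_iff (P := @Flat ⊓ @LocallyOfFinitePresentation) f).mpr
    ⟨(inferInstance : Surjective f).surj, inferInstance, inferInstance⟩⟩

theorem epi_repMap_iff :
    Epi (QuotSh.repMap Scheme.fppfPrecoverage f) ↔ ∀ (T : Over S) (a : T ⟶ H) (t : T.left),
      ∃ (U : Over S) (q : U ⟶ T), Flat q.left ∧ LocallyOfFinitePresentation q.left ∧
        t ∈ Set.range q.left ∧ ∃ l : U ⟶ G, l ≫ f = q ≫ a := by
  rw [← Sheaf.isLocallySurjective_iff_epi, Presheaf.isLocallySurjective_presheafToSheaf_map_iff]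
  constructor
  · intro h T a t
    have hS := h.imageSieve_mem (U := T) (ULift.up.{u + 1} a)
    rw [GrothendieckTopology.mem_over_iff,
      Precoverage.mem_toGrothendieck_iff_of_isStableUnderComposition] at hS
    obtain ⟨R, hR, hle⟩ := hS
    obtain ⟨I₀, Y, q, rfl⟩ := R.exists_eq_ofArrows
    obtain ⟨hj, hP⟩ := (Scheme.ofArrows_mem_precoverage_iff _).mp hR
    obtain ⟨j, hjt⟩ := hj t
    have hm := (Sieve.overEquiv_iff _ _).mp ((hle (Y j)) (q j) (Presieve.ofArrows.mk j))
    obtain ⟨⟨l⟩, hl⟩ := hm
    exact ⟨Over.mk (q j ≫ T.hom), Over.homMk (q j) rfl, (hP j).1, (hP j).2, hjt, l,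
      ULift.up_injective hl⟩
  · intro h
    refine ⟨fun {T} s => ?_⟩
    obtain ⟨a⟩ := s
    choose U q hq₁ hq₂ hq₃ l hl using h T a
    rw [GrothendieckTopology.mem_over_iff,
      Precoverage.mem_toGrothendieck_iff_of_isStableUnderComposition]
    refine ⟨Presieve.ofArrows (fun t => (U t).left) (fun t => (q t).left),
      (Scheme.ofArrows_mem_precoverage_iff _).mpr ⟨fun t => ⟨t, hq₃ t⟩, fun t => ⟨hq₁ t, hq₂ t⟩⟩, ?_⟩
    rintro _ _ ⟨t⟩
    rw [Sieve.overEquiv_iff]
    let c : Over.mk ((q t).left ≫ T.hom) ⟶ U t := Over.homMk (𝟙 _) (by simp)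
    refine ⟨ULift.up (c ≫ l t), ?_⟩
    change ULift.up ((c ≫ l t) ≫ f) = ULift.up _
    congr 1
    rw [Category.assoc, hl]
    exact Over.OverMorphism.ext (by simp [c])

variable [GrpObj G] [GrpObj H] [IsMonHom f]

theorem flat_of_section (i : N ⟶ G) (hi : AlgGrp.IsKernel i f) [Flat N.hom] {T : Over S} (a : T ⟶ H)
    (l : T ⟶ G) (hl : l ≫ f = a) {P : Over S} {p : P ⟶ G} {q : P ⟶ T} (hP : IsPullback p q f a) :
    Flat q.left := by
  have hone : ∀ W : Over S, toUnit W ≫ η[H] = (1 : W ⟶ H) := fun W => rfl
  let k : P ⟶ N := hi.lift (p * (q ≫ l)⁻¹) (toUnit P) (by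
    rw [MonObj.mul_comp, GrpObj.inv_comp, Category.assoc, hl, hP.w, mul_inv_cancel, hone])
  have hk : k ≫ i = p * (q ≫ l)⁻¹ := hi.lift_fst _ _ _
  have hsq : IsPullback k q (toUnit N) (toUnit T) := by
    refine IsPullback.of_isLimit' ⟨toUnit_unique _ _⟩ (PullbackCone.IsLimit.mk _
      (fun s => hP.lift ((s.fst ≫ i) * (s.snd ≫ l)) s.snd ?_) (fun s => ?_)
      (fun s => hP.lift_snd _ _ _) (fun s m hm₁ hm₂ => ?_))
    · rw [MonObj.mul_comp, Category.assoc, hi.w, ← Category.assoc, comp_toUnit, hone,
        _root_.one_mul, Category.assoc, hl]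
    · refine hi.hom_ext ?_ (toUnit_unique _ _)
      rw [Category.assoc, hk, MonObj.comp_mul, GrpObj.comp_inv, hP.lift_fst, ← Category.assoc,
        hP.lift_snd, mul_inv_cancel_right]
    · refine hP.hom_ext ?_ (hm₂.trans (hP.lift_snd _ _ _).symm)
      rw [hP.lift_fst, ← hm₁, ← hm₂, Category.assoc, hk, MonObj.comp_mul, GrpObj.comp_inv,
        ← Category.assoc, inv_mul_cancel_right]
  refine MorphismProperty.of_isPullback (P := @Flat) (Groth.Agent.GrpSch.isPullback_left hsq) ?_
  simpa using ‹Flat N.hom›

end

/-- Let S be a scheme and f : G → H a homomorphism of S-group schemes, both of finite presentation over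
S (locally of finite presentation, quasi-compact and quasi-separated), and let i : N → G be the
kernel of f (the square formed by i, f, the unit section of H and N → S is cartesian). Then f is
faithfully flat (flat and surjective) if and only if the map of representable sheaves h_G → h_H
induced by f on the big fppf site of S is an epimorphism of sheaves of sets and N is flat over S. -/
theorem result {S : Scheme.{u}} {G H N : Over S} [GrpObj G] [GrpObj H] (f : G ⟶ H) [IsMonHom f] [LocallyOfFinitePresentation G.hom] [QuasiCompact G.hom] [QuasiSeparated G.hom] [LocallyOfFinitePresentation H.hom] [QuasiCompact H.hom] [QuasiSeparated H.hom] (i : N ⟶ G) (hi : AlgGrp.IsKernel i f) : (Flat f.left ∧ Surjective f.left) ↔ (Epi (QuotSh.repMap Scheme.fppfPrecoverage f) ∧ Flat N.hom) := by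
  haveI : LocallyOfFinitePresentation (f.left ≫ H.hom) := by rw [Over.w f]; infer_instance
  haveI : LocallyOfFinitePresentation f.left :=
    Groth.Agent.FlatLocus.locallyOfFinitePresentation_of_comp f.left H.hom
  constructor
  · rintro ⟨hf, hs⟩
    refine ⟨(epi_repMap_iff f).mpr fun T a t => ?_, ?_⟩
    · let U := pullback f a
      have sq := Groth.Agent.GrpSch.isPullback_left (IsPullback.of_hasPullback f a)
      haveI : Surjective (pullback.snd f a).left := MorphismProperty.of_isPullback sq hs
      exact ⟨U, pullback.snd f a, MorphismProperty.of_isPullback sq hf,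
        MorphismProperty.of_isPullback sq ‹LocallyOfFinitePresentation f.left›,
        (pullback.snd f a).left.surjective t, pullback.fst f a, pullback.condition⟩
    · have := MorphismProperty.of_isPullback (P := @Flat) (Groth.Agent.GrpSch.isPullback_left hi) hf
      simpa using this
  · rintro ⟨he, hN⟩
    have h := fun y => (epi_repMap_iff f).mp he H (𝟙 H) y
    refine ⟨(Flat.iff_flat_stalkMap _).mpr fun x => ?_, ⟨fun y => ?_⟩⟩
    · obtain ⟨U, q, hq, -, ⟨v, hv⟩, l, hl⟩ := h (f.left x)
      rw [Category.comp_id] at hl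
      have hP := IsPullback.of_hasPullback f q
      have sq := Groth.Agent.GrpSch.isPullback_left hP
      haveI : Flat (pullback.snd f q).left := flat_of_section f i hi q l hl hP
      haveI : Flat (pullback.fst f q).left := MorphismProperty.of_isPullback sq.flip hq
      obtain ⟨z, hz1, hz2⟩ := Scheme.exists_preimage_of_isPullback sq x v hv.symm
      subst hz1
      have hff : ((pullback.fst f q).left.stalkMap z).hom.FaithfullyFlat := by
        algebraize [((pullback.fst f q).left.stalkMap z).hom]
        haveI : Module.Flat _ _ := Flat.stalkMap (pullback.fst f q).left z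
        haveI : IsLocalHom (algebraMap (G.left.presheaf.stalk ((pullback.fst f q).left z)) ((pullback f q).left.presheaf.stalk z)) :=
          inferInstanceAs (IsLocalHom ((pullback.fst f q).left.stalkMap z).hom)
        exact Module.FaithfullyFlat.of_flat_of_isLocalHom
      refine Groth.Agent.FpqcDescent.flat_of_comp_of_faithfullyFlat hff ?_
      rw [← CommRingCat.hom_comp, ← Scheme.Hom.stalkMap_comp]
      have key : ∀ (a b : (pullback f q).left ⟶ H.left), a = b → (b.stalkMap z).hom.Flat →
          (a.stalkMap z).hom.Flat := by rintro _ _ rfl h'; exact h'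
      refine key _ _ sq.w ?_
      haveI : Flat ((pullback.snd f q).left ≫ q.left) := inferInstance
      exact Flat.stalkMap _ z
    · obtain ⟨U, q, -, -, ⟨v, hv⟩, l, hl⟩ := h y
      exact ⟨l.left v, by
        rw [← hv, ← Scheme.Hom.comp_apply, ← Over.comp_left, hl, Category.comp_id]⟩

end Groth.Agent.S17794
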