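import Groth.Statements.S17797
import Mathlib

set_option autoImplicit false
universe u
open CAlg

namespace Groth.Agent.S17797

set_option maxHeartbeats 2000000 in
/-- Suppose k is a field of characteristic zero and S is a local domain that is an essentially
finite-type k-algebra. Then there are an extension field K of k, a K-algebra A of finite type and a
maximal ideal m of A such that S is isomorphic over k to the localization A_m. -/
theorem result (k : Type u) [Field k] [CharZero k] (S : Type u) [CommRing S] [IsDomain S] [IsLocalRing S] [Algebra k S] [Algebra.EssFiniteType k S] : ∃ (K : Type u) (_ : Field K) (_ : Algebra k K) (A : Type u) (_ : CommRing A) (_ : Algebra K A) (_ : Algebra k A) (_ : IsScalarTower k K A) (_ : Algebra.FiniteType K A) (m : Ideal A) (_ : m.IsMaximal), Nonempty (S ≃ₐ[k] Localization.AtPrime m) := by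
  classical
  obtain ⟨s, hx⟩ := exists_isTranscendenceBasis k (IsLocalRing.ResidueField S)
  let x : s → IsLocalRing.ResidueField S := Subtype.val
  choose t ht using fun i : s => IsLocalRing.residue_surjective (x i)
  let res : S →ₐ[k] IsLocalRing.ResidueField S := IsScalarTower.toAlgHom k S (IsLocalRing.ResidueField S)
  let φ : MvPolynomial s k →ₐ[k] S := MvPolynomial.aeval t
  have hcomp : res.comp φ = MvPolynomial.aeval x := MvPolynomial.algHom_ext fun i => by
    simp only [φ, res, AlgHom.comp_apply, MvPolynomial.aeval_X]
    exact ht i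
  have hunit : ∀ y : nonZeroDivisors (MvPolynomial s k), IsUnit (φ y) := fun y => by
    rw [← IsLocalRing.notMem_maximalIdeal, ← IsLocalRing.residue_eq_zero_iff]
    intro h
    refine nonZeroDivisors.ne_zero y.2 ((algebraicIndependent_iff_injective_aeval.1 hx.1) ?_)
    rw [map_zero]
    exact (AlgHom.congr_fun hcomp y).symm.trans h
  let K := IntermediateField.adjoin k (Set.range x)
  let ψ : FractionRing (MvPolynomial s k) →ₐ[k] S := IsLocalization.liftAlgHom (f := φ) hunit
  let ψK : K →ₐ[k] S := ψ.comp hx.1.reprField
  have hψ : res.comp ψ = (IsFractionRing.liftAlgHom (algebraicIndependent_iff_injective_aeval.2 hx.1) :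
      FractionRing (MvPolynomial s k) →ₐ[k] IsLocalRing.ResidueField S) :=
    IsLocalization.algHom_ext (nonZeroDivisors (MvPolynomial s k)) (AlgHom.ext fun y => by
      simp [ψ, Algebra.algHom, IsLocalization.lift_eq]
      exact AlgHom.congr_fun hcomp y)
  have hψK : ∀ z : K, IsLocalRing.residue S (ψK z) = (z : IsLocalRing.ResidueField S) := fun z => by
    have := AlgHom.congr_fun hx.1.liftAlgHom_comp_reprField z
    rw [← hψ] at this
    exact this
  letI : Algebra K S := ψK.toRingHom.toAlgebra
  haveI : IsScalarTower k K S := IsScalarTower.of_algebraMap_eq fun a => (ψK.commutes a).symm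
  haveI : IsScalarTower K S (IsLocalRing.ResidueField S) := IsScalarTower.of_algebraMap_eq fun z => (hψK z).symm
  haveI halg : Algebra.IsAlgebraic K (IsLocalRing.ResidueField S) := hx.isAlgebraic_field
  let σ : Finset S := Algebra.EssFiniteType.finset k S
  let A : Subalgebra K S := Algebra.adjoin K (σ : Set S)
  haveI : Algebra.FiniteType K A := (Subalgebra.fg_iff_finiteType A).1 ⟨σ, rfl⟩
  let g : A →ₐ[K] IsLocalRing.ResidueField S := (IsScalarTower.toAlgHom K S (IsLocalRing.ResidueField S)).comp A.val
  let m : Ideal A := RingHom.ker g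
  haveI hm : m.IsMaximal := Ideal.Quotient.maximal_of_isField _
    ((Ideal.quotientKerEquivRange g).toMulEquiv.isField (Subalgebra.isField_of_algebraic g.range))
  have hmem : ∀ a : A, a ∉ m ↔ IsUnit (a : S) := fun a => by
    rw [← IsLocalRing.notMem_maximalIdeal, ← IsLocalRing.residue_eq_zero_iff]
    exact Iff.rfl
  haveI : IsLocalization m.primeCompl S := by
    refine (isLocalization_iff _ _).2 ⟨fun a => (hmem a).1 a.2, ?_, fun {a b} h => ⟨1, by rw [Subtype.ext h]⟩⟩
    intro z
    obtain ⟨⟨b, c⟩, hbc⟩ := IsLocalization.surj (Algebra.EssFiniteType.submonoid k S) z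
    have hle : ∀ b : Algebra.EssFiniteType.subalgebra k S, (b : S) ∈ A := fun b =>
      (Algebra.adjoin_le (S := A.restrictScalars k) Algebra.subset_adjoin) b.2
    exact ⟨⟨⟨b, hle b⟩, ⟨⟨c, hle c.1⟩, (hmem _).2 c.2⟩⟩, hbc⟩
  refine ⟨K, inferInstance, inferInstance, A, inferInstance, inferInstance, inferInstance, inferInstance,
    inferInstance, m, hm, ⟨(IsLocalization.algEquiv m.primeCompl S (Localization.AtPrime m)).restrictScalars k⟩⟩

end Groth.Agent.S17797
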