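import Groth.Statements.S17825
import Mathlib

set_option autoImplicit false
universe u
open CategoryTheory CategoryTheory.Limits AlgebraicGeometry
open JacVar

namespace Groth.Agent.S17825

/-- Let S be a scheme, Y an S-scheme separated over S, F a presheaf of sets on the category of
S-schemes, f : h_Y ⟶ F a morphism from the functor of points of Y, and s : F ⟶ h_Y a section of f (s
followed by f is the identity). Then F is represented by a closed subscheme of Y: there are an
S-scheme Z, a morphism i : Z ⟶ Y over S which is a closed immersion, and an isomorphism F ≅ h_Z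
whose composite with h_i : h_Z ⟶ h_Y is s. (The published lemma treats the case where Y is the r-th
symmetric power of a curve, F the functor of degree-r invertible families modulo twisting and f the
divisor-class map.) -/
theorem result {S : Scheme.{u}} (Y : Over S) [IsSeparated Y.hom]
    (F : (Over S)ᵒᵖ ⥤ Type u) (f : yoneda.obj Y ⟶ F) (s : F ⟶ yoneda.obj Y) (hsf : s ≫ f = 𝟙 F) :
    ∃ (Z : Over S) (i : Z ⟶ Y), IsClosedImmersion i.left ∧
      ∃ e : F ≅ yoneda.obj Z, e.hom ≫ yoneda.map i = s := by
  let p : Y ⟶ Y := Yoneda.fullyFaithful.preimage (f ≫ s)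
  have hp : yoneda.map p = f ≫ s := Yoneda.fullyFaithful.map_preimage _
  have hpp : p ≫ p = p := Yoneda.fullyFaithful.map_injective (by
    rw [Functor.map_comp, hp, Category.assoc, ← Category.assoc s f s, hsf, Category.id_comp])
  let i := CategoryTheory.Limits.equalizer.ι (𝟙 Y) p
  have hi : i ≫ p = i := by
    have := CategoryTheory.Limits.equalizer.condition (𝟙 Y) p
    rw [Category.comp_id] at this
    exact this.symm
  let r : Y ⟶ CategoryTheory.Limits.equalizer (𝟙 Y) p := CategoryTheory.Limits.equalizer.lift p (by rw [Category.comp_id, hpp])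
  have hri : r ≫ i = p := CategoryTheory.Limits.equalizer.lift_ι _ _
  have hir : i ≫ r = 𝟙 _ := by
    rw [← cancel_mono i, Category.assoc, hri, hi, Category.id_comp]
  refine ⟨_, i, isClosedImmersion_equalizer_ι_left _ _,
    ⟨s ≫ yoneda.map r, yoneda.map i ≫ f, ?_, ?_⟩, ?_⟩
  · calc (s ≫ yoneda.map r) ≫ yoneda.map i ≫ f = s ≫ yoneda.map (r ≫ i) ≫ f := by
          rw [Functor.map_comp]; simp only [Category.assoc]
      _ = 𝟙 F := by rw [hri, hp]; simp only [Category.assoc]; rw [reassoc_of% hsf, hsf]
  · calc (yoneda.map i ≫ f) ≫ s ≫ yoneda.map r = yoneda.map i ≫ (f ≫ s) ≫ yoneda.map r := by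
          simp only [Category.assoc]
      _ = 𝟙 _ := by
          rw [← hp, ← Functor.map_comp, ← Functor.map_comp, ← Category.assoc, hi, hir, CategoryTheory.Functor.map_id]
  · show (s ≫ yoneda.map r) ≫ yoneda.map i = s
    rw [Category.assoc, ← Functor.map_comp, hri, hp, reassoc_of% hsf]

end Groth.Agent.S17825
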