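import Groth.Statements.S17833
import Groth.Agent.GrpSch.ExtIso

set_option autoImplicit false
universe u
open CategoryTheory MonoidalCategory CartesianMonoidalCategory MonObj GrpObj AlgebraicGeometry
open AlgGrp

namespace Groth.Agent.S17833

/-- Over an algebraically closed field k, let G be a connected smooth k-group scheme of finite type (in
the terminology of the notes, a smooth connected algebraic group), and H an affine normal subgroup
scheme of G such that the quotient G/H is an abelian variety: here j : H → G is the kernel of a flat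
surjective homomorphism q : G → Q of k-group schemes with Q proper over k, and H is affine. Then an
automorphism u of the algebraic group G which fixes H pointwise (j ∘ u = j) and induces the identity
of Q (q ∘ u = q) is the identity. Equivalently, the map from the group of automorphisms of G fixing
H pointwise to the automorphism group of G/H is injective. -/
theorem result (k : Type u) [Field k] [IsAlgClosed k]
    (G H Q : Over (Spec (CommRingCat.of k))) [GrpObj G] [GrpObj H] [GrpObj Q]
    [Smooth G.hom] [QuasiCompact G.hom] [ConnectedSpace ↥G.left]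
    [IsAffine H.left] [IsProper Q.hom]
    (j : H ⟶ G) [IsMonHom j] (q : G ⟶ Q) [IsMonHom q] [Flat q.left] [Surjective q.left]
    (hker : AlgGrp.IsKernel j q)
    (u : G ≅ G) [IsMonHom u.hom] (hH : j ≫ u.hom = j) (hQ : u.hom ≫ q = q) :
    u.hom = 𝟙 G := by
  haveI : QuasiCompact q.left := GrpSch.quasiCompact_left q
  let d : G ⟶ G := u.hom * (𝟙 G)⁻¹
  have hd : d ≫ q = toUnit G ≫ η[Q] := by
    rw [MonObj.mul_comp, GrpObj.inv_comp, hQ, Category.id_comp, mul_inv_cancel, Hom.one_def]
  let δ : G ⟶ H := hker.lift d (toUnit G) hd
  have hδ : δ ≫ j = d := hker.lift_fst _ _ _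
  obtain ⟨δ₁, hδ₁, -⟩ := GrpSch.Desc.exists_desc q δ fun T a b e => by
    refine hker.hom_ext ?_ (toUnit_unique _ _)
    have hn : (b⁻¹ * a) ≫ q = toUnit T ≫ η[Q] := by
      rw [MonObj.mul_comp, GrpObj.inv_comp, e, inv_mul_cancel, Hom.one_def]
    have ha : a = b * (hker.lift _ (toUnit T) hn ≫ j) := by rw [hker.lift_fst, mul_inv_cancel_left]
    simp only [Category.assoc, hδ, d, MonObj.comp_mul, GrpObj.comp_inv, Category.comp_id]
    rw [ha, MonObj.mul_comp, Category.assoc, hH, _root_.mul_inv_rev, _root_.mul_assoc, mul_inv_cancel_left]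
  haveI : AlgebraicGeometry.IsReduced G.left := SmoothReduced.isReduced_of_smooth_scheme G.hom
  haveI : AlgebraicGeometry.IsReduced Q.left := FpqcDescent.isReduced_of_flat_surjective q.left
  haveI : ConnectedSpace Q.left := q.left.surjective.connectedSpace q.left.continuous
  have hd1 : d = 1 := by
    rw [← hδ, ← hδ₁, GrpSch.ExtSection.eq_const η[Q] δ₁]
    have h1 : η[Q] ≫ δ₁ = η[G] ≫ δ := by rw [← hδ₁, ← Category.assoc, IsMonHom.one_hom (f := q)]
    have h2 : η[G] ≫ d = η[G] := by
      simp only [d, MonObj.comp_mul, GrpObj.comp_inv, Category.comp_id, IsMonHom.one_hom]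
      rw [mul_inv_cancel, GrpSch.eq_one_unit]
    rw [h1, Category.assoc, Category.assoc, Category.assoc, hδ, h2, ← Hom.one_def, MonObj.comp_one]
  exact mul_inv_eq_one.1 hd1

end Groth.Agent.S17833
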