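import Groth.Statements.S17839
import Groth.Agent.DimFunLift.Basic
import Groth.Agent.LeadExc.CatenaryCM
import Groth.Agent.LocCohBasic.FaltingsRegular
-- import your own Groth.Agent.* helpers here

set_option autoImplicit false
universe u
open CategoryTheory AlgebraicGeometry
open Cyc

set_option linter.style.haveILetI false

namespace Groth.Agent.S17839

/-- Let S be a locally Noetherian scheme all of whose local rings are regular and universally catenary,
and δS : S → ℤ the function with δS(s) = −dim O_{S,s}. Let f : X ⟶ S be locally of finite type and δ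
: X → ℤ the induced function, δ(x) = δS(f x) + trdeg_{κ(f x)} κ(x) — the S-dimension: for X
irreducible with generic point ξ, δ(ξ) is the transcendence degree of the function field of X over
κ(f ξ) minus dim O_{S, f ξ}. Then δ is a dimension function on X: it drops strictly along every
nontrivial specialization and by exactly one along immediate ones; equivalently, for irreducible
closed subsets V ⊆ W of X with generic points v and w, codim(V, W) = δ(w) − δ(v). (The published
statement fixes S Noetherian, excellent, regular and separated and X separated of finite type over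
S; its proof uses only the hypotheses listed.) -/
theorem result {X S : Scheme.{u}} (f : X ⟶ S)
    [LocallyOfFiniteType f] [IsLocallyNoetherian S]
    (hreg : ∀ s : S, IsRegularLocalRing (S.presheaf.stalk s))
    (huc : ∀ s : S, CAlg.IsUniversallyCatenary (S.presheaf.stalk s))
    (δS : S → ℤ) (hδS : ∀ s : S, ringKrullDim (S.presheaf.stalk s) = ((-δS s).toNat : WithBot ℕ∞) ∧ δS s ≤ 0)
    (δ : X → ℤ) (hδ : Cyc.DeltaCompat f δ δS) :
    Cyc.IsDimFun X δ := by
  refine DimFunLift.isDimFun_of_deltaCompat f δS ⟨inferInstance, huc, fun x y hxy hne => ?_⟩ δ hδ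
  obtain ⟨U, hU, hyU, -⟩ := exists_isAffineOpen_mem_and_subset (X := S) (x := y) (U := ⊤) trivial
  have hxU : x ∈ U := hxy.mem_open U.isOpen hyU
  haveI : IsNoetherianRing Γ(S, U) := IsLocallyNoetherian.component_noetherian ⟨U, hU⟩
  have hst : ∀ (z : S) (hz : z ∈ U),
      (hU.primeIdealOf ⟨z, hz⟩).asIdeal.height = ((-δS z).toNat : ℕ∞) := by
    intro z hz
    letI := TopCat.Presheaf.algebra_section_stalk S.presheaf (⟨z, hz⟩ : U)
    haveI : IsLocalization.AtPrime (S.presheaf.stalk z) (hU.primeIdealOf ⟨z, hz⟩).asIdeal :=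
      hU.isLocalization_stalk ⟨z, hz⟩
    have h := IsLocalization.AtPrime.ringKrullDim_eq_height (hU.primeIdealOf ⟨z, hz⟩).asIdeal (S.presheaf.stalk z)
    rw [(hδS z).1] at h
    exact_mod_cast h.symm
  haveI : IsRegularRing Γ(S, U) := ⟨fun p _ => by
    obtain ⟨z, hz, hzp⟩ := FlatEquidim.exists_point hU ⟨p, inferInstance⟩
    letI := TopCat.Presheaf.algebra_section_stalk S.presheaf (⟨z, hz⟩ : U)
    haveI := hU.isLocalization_stalk ⟨z, hz⟩
    obtain rfl : (hU.primeIdealOf ⟨z, hz⟩).asIdeal = p := congrArg PrimeSpectrum.asIdeal hzp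
    haveI := hreg z
    exact IsRegularLocalRing.of_ringEquiv (IsLocalization.algEquiv
      (hU.primeIdealOf ⟨z, hz⟩).asIdeal.primeCompl (S.presheaf.stalk z)
      (Localization.AtPrime (hU.primeIdealOf ⟨z, hz⟩).asIdeal)).toRingEquiv⟩
  have hne' : hU.primeIdealOf ⟨x, hxU⟩ ≠ hU.primeIdealOf ⟨y, hyU⟩ := fun he => hne
    ((hU.fromSpec_primeIdealOf ⟨x, hxU⟩).symm.trans
      ((congrArg hU.fromSpec he).trans (hU.fromSpec_primeIdealOf ⟨y, hyU⟩)))
  have hlt : hU.primeIdealOf ⟨x, hxU⟩ < hU.primeIdealOf ⟨y, hyU⟩ :=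
    lt_of_le_of_ne ((FlatEquidim.specializes_iff_le hU hyU hxU).1 hxy) hne'
  have hx := (hδS x).2
  have hy := (hδS y).2
  refine ⟨?_, fun himm => ?_⟩
  · have h := Ideal.height_add_one_le_of_lt_of_isPrime
      (show (hU.primeIdealOf ⟨x, hxU⟩).asIdeal < (hU.primeIdealOf ⟨y, hyU⟩).asIdeal from hlt)
    rw [hst x hxU, hst y hyU] at h
    have h' : (-δS x).toNat + 1 ≤ (-δS y).toNat := by exact_mod_cast h
    omega
  · have hcov : hU.primeIdealOf ⟨x, hxU⟩ ⋖ hU.primeIdealOf ⟨y, hyU⟩ := by
      refine ⟨hlt, fun Q h1 h2 => ?_⟩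
      obtain ⟨z, hz, rfl⟩ := FlatEquidim.exists_point hU Q
      rcases himm z ((FlatEquidim.specializes_iff_le hU hz hxU).2 h1.le)
        ((FlatEquidim.specializes_iff_le hU hyU hz).2 h2.le) with rfl | rfl
      · exact lt_irrefl _ h1
      · exact lt_irrefl _ h2
    have h := LeadExc.height_covBy LocCohBasic.isCohenMacaulayRing_of_isRegularRing hcov
    rw [hst x hxU, hst y hyU] at h
    have h' : (-δS y).toNat = (-δS x).toNat + 1 := by exact_mod_cast h
    omega

end Groth.Agent.S17839
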