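import Groth.Statements.S17849
import Mathlib

set_option autoImplicit false
open CategoryTheory
open GalLat

namespace Groth.Agent.S17849

set_option backward.isDefEq.respectTransparency.types false



section
open Representation

attribute [local instance 1100] Rep.hV2 Prod.instModule

theorem h1_zero_iff {G : Type} [Group G] (A : Rep ℤ G) :
    Limits.IsZero (groupCohomology A 1) ↔
      ∀ c : G → A.V, (∀ g h : G, c (g * h) = A.ρ g (c h) + c g) →
        ∃ m : A.V, ∀ g, c g = A.ρ g m - m := by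
  constructor
  · intro hz c hc
    haveI := ModuleCat.subsingleton_of_isZero hz
    have h0 : groupCohomology.H1π A ⟨c, (groupCohomology.mem_cocycles₁_iff c).2 hc⟩ = 0 :=
      Subsingleton.elim _ _
    rw [groupCohomology.H1π_eq_zero_iff] at h0
    obtain ⟨m, hm⟩ := h0
    exact ⟨m, fun g => (congrFun hm g).symm⟩
  · intro h
    haveI : Subsingleton (groupCohomology A 1) := by
      refine subsingleton_of_forall_eq 0 fun x => ?_
      induction x using groupCohomology.H1_induction_on with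
      | h c =>
        rw [groupCohomology.H1π_eq_zero_iff]
        obtain ⟨m, hm⟩ := h c ((groupCohomology.mem_cocycles₁_iff _).1 c.2)
        exact ⟨m, funext fun g => (hm g).symm⟩
    exact ModuleCat.isZero_of_subsingleton _

theorem exact_iff_function {G : Type} [Group G] (E : ShortComplex (Rep.{0} ℤ G)) :
    E.Exact ↔ Function.Exact E.f.hom E.g.hom := by
  rw [← ShortComplex.exact_map_iff_of_faithful E (forget₂ (Rep ℤ G) (ModuleCat ℤ))]
  exact ShortComplex.ShortExact.moduleCat_exact_iff_function_exact _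

/-- linear extension -/
noncomputable def linExt {X M : Type} [AddCommGroup M] [Module ℤ M] (e : X → M) :
    MonoidAlgebra ℤ X →ₗ[ℤ] M :=
  Finsupp.linearCombination ℤ e ∘ₗ (MonoidAlgebra.coeffLinearEquiv ℤ).toLinearMap

theorem linExt_single {X M : Type} [AddCommGroup M] [Module ℤ M] (e : X → M) (x : X) :
    linExt e (MonoidAlgebra.single x (1 : ℤ)) = e x := by
  simp [linExt, MonoidAlgebra.coeffLinearEquiv]
  exact (‹Module ℤ M›).one_smul (e x)

theorem splitting_of_h1 {G : Type} [Group G] (Λ : Rep ℤ G)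
    (h : ∀ H : Subgroup G, Limits.IsZero (groupCohomology (Rep.res H.subtype Λ) 1))
    (X : Type) [MulAction G X] (E : ShortComplex (Rep ℤ G))
    (hE : E.ShortExact) (a : E.X₁ ≅ Λ) (b : E.X₃ ≅ Rep.ofMulAction ℤ G X) :
    Nonempty E.Splitting := by
  classical
  haveI := hE.mono_f
  haveI := hE.epi_g
  have hinj := (Rep.mono_iff_injective E.f).1 inferInstance
  have hsur := (Rep.epi_iff_surjective E.g).1 inferInstance
  have hex := (exact_iff_function E).1 hE.exact
  have hbρ : ∀ (g : G) (y : X),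
      b.inv.hom (MonoidAlgebra.single (g • y) (1 : ℤ)) =
        E.X₃.ρ g (b.inv.hom (MonoidAlgebra.single y (1 : ℤ))) := by
    intro g y
    rw [← Rep.hom_comm_apply]
    congr 1
    exact (Representation.ofMulAction_single g y 1).symm
  -- an invariant lift of each orbit representative
  have key : ∀ x0 : X, ∃ e : E.X₂.V,
      E.g.hom e = b.inv.hom (MonoidAlgebra.single x0 (1 : ℤ)) ∧
        ∀ g : G, g • x0 = x0 → E.X₂.ρ g e = e := by
    intro x0
    obtain ⟨e, he⟩ := hsur (b.inv.hom (MonoidAlgebra.single x0 (1 : ℤ)))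
    have hker : ∀ g : MulAction.stabilizer G x0,
        ∃ d : E.X₁.V, E.f.hom d = E.X₂.ρ g e - e := by
      intro g
      refine (hex _).1 ?_
      rw [map_sub, Rep.hom_comm_apply, he, ← hbρ, g.2, sub_self]
    choose d hd using hker
    obtain ⟨m, hm⟩ := (h1_zero_iff _).1 (h (MulAction.stabilizer G x0))
      (fun g => a.hom.hom (d g)) (fun g g' => by
        show a.hom.hom (d (g * g')) = Λ.ρ (g : G) (a.hom.hom (d g')) + a.hom.hom (d g)
        rw [← Rep.hom_comm_apply, ← map_add]
        congr 1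
        apply hinj
        rw [map_add, Rep.hom_comm_apply, hd, hd, hd, map_sub, Subgroup.coe_mul, map_mul,
          Module.End.mul_apply]
        abel)
    refine ⟨e - E.f.hom (a.inv.hom m), ?_, fun g hg => ?_⟩
    · rw [map_sub, he]
      have h0 := hex.apply_apply_eq_zero (a.inv.hom m)
      rw [h0, sub_zero]
    · have h1 := congrArg a.inv.hom (hm ⟨g, hg⟩)
      rw [Rep.inv_hom_apply, map_sub] at h1
      change d ⟨g, hg⟩ = a.inv.hom (Λ.ρ g m) - a.inv.hom m at h1
      rw [Rep.hom_comm_apply] at h1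
      have h2 := hd ⟨g, hg⟩
      rw [h1, map_sub, Rep.hom_comm_apply] at h2
      rw [map_sub, sub_eq_sub_iff_sub_eq_sub]
      exact h2.symm
  choose e0 he0 hfix using key
  let rep : X → X := fun x => (⟦x⟧ : MulAction.orbitRel.Quotient G X).out
  have hrep : ∀ x : X, ∃ g : G, g • rep x = x := by
    intro x
    have h1 : (MulAction.orbitRel G X).r (rep x) x := Quotient.mk_out x
    obtain ⟨g, hg⟩ : rep x ∈ MulAction.orbit G x := h1
    exact ⟨g⁻¹, by rw [← hg, inv_smul_smul]⟩
  choose γ hγ using hrep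
  let ee : X → E.X₂.V := fun x => E.X₂.ρ (γ x) (e0 (rep x))
  have hee : ∀ (g : G) (x : X), ee (g • x) = E.X₂.ρ g (ee x) := by
    intro g x
    have hr : rep (g • x) = rep x := by
      show Quotient.out _ = Quotient.out _
      congr 1
      exact Quotient.sound ⟨g, rfl⟩
    show E.X₂.ρ (γ (g • x)) (e0 (rep (g • x))) = E.X₂.ρ g (E.X₂.ρ (γ x) (e0 (rep x)))
    rw [hr, ← Module.End.mul_apply, ← map_mul]
    have hst : ((g * γ x)⁻¹ * γ (g • x)) • rep x = rep x := by
      rw [mul_smul, inv_smul_eq_iff, mul_smul, hγ x, ← hr, hγ]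
    have h1 := congrArg (E.X₂.ρ (g * γ x)) (hfix _ _ hst)
    rw [← Module.End.mul_apply, ← map_mul, mul_inv_cancel_left] at h1
    exact h1
  let s0 : (Representation.ofMulAction ℤ G X).IntertwiningMap E.X₂.ρ :=
    ⟨linExt ee, fun g => by
      refine MonoidAlgebra.lhom_ext' fun x => LinearMap.ext_ring ?_
      simp [linExt_single, hee]⟩
  let s : E.X₃ ⟶ E.X₂ := b.hom ≫ Rep.ofHom s0
  refine ⟨ShortComplex.Splitting.ofExactOfSection E hE.exact s ?_ hE.mono_f⟩
  have h1 : Rep.ofHom s0 ≫ E.g = b.inv := by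
    refine Rep.hom_ext (Representation.IntertwiningMap.toLinearMap_injective _ _ ?_)
    refine MonoidAlgebra.lhom_ext' fun x => LinearMap.ext_ring ?_
    show E.g.hom (linExt ee (MonoidAlgebra.single x 1)) = b.inv.hom (MonoidAlgebra.single x 1)
    rw [linExt_single]
    show E.g.hom (E.X₂.ρ _ _) = _
    rw [Rep.hom_comm_apply, he0, ← hbρ, hγ]
  show (b.hom ≫ Rep.ofHom s0) ≫ E.g = 𝟙 _
  rw [Category.assoc, h1, b.hom_inv_id]

/-- the twisted action on `Λ × ℤ[X]` -/
noncomputable def twist {G : Type} [Group G] (Λ : Rep ℤ G) (X : Type) [MulAction G X]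
    (β : G → X → Λ.V) (hβ1 : ∀ x, β 1 x = 0)
    (hβ : ∀ g g' x, β (g * g') x = Λ.ρ g (β g' x) + β g (g' • x)) :
    Representation ℤ G (Λ.V × MonoidAlgebra ℤ X) where
  toFun g := LinearMap.prod
    (Λ.ρ g ∘ₗ LinearMap.fst _ _ _ + linExt (β g) ∘ₗ LinearMap.snd _ _ _)
    (Representation.ofMulAction ℤ G X g ∘ₗ LinearMap.snd _ _ _)
  map_one' := by
    have : linExt (β 1) = 0 := by
      refine MonoidAlgebra.lhom_ext' fun x => LinearMap.ext_ring ?_
      simp [linExt_single, hβ1]
    refine LinearMap.ext fun p => ?_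
    simp [this]
  map_mul' g g' := by
    have : linExt (β (g * g')) = Λ.ρ g ∘ₗ linExt (β g') +
        linExt (β g) ∘ₗ Representation.ofMulAction ℤ G X g' := by
      refine MonoidAlgebra.lhom_ext' fun x => LinearMap.ext_ring ?_
      simp [linExt_single, hβ]
    refine LinearMap.ext fun p => ?_
    simp [this, Module.End.mul_apply]
    abel

theorem h1_of_splitting {G : Type} [Group G] [Finite G] (Λ : Rep ℤ G)
    (h : ∀ (X : Type) [MulAction G X] [Finite X] (E : ShortComplex (Rep ℤ G)),
        E.ShortExact → Nonempty (E.X₁ ≅ Λ) → Nonempty (E.X₃ ≅ Rep.ofMulAction ℤ G X) →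
          Nonempty E.Splitting)
    (H : Subgroup G) : Limits.IsZero (groupCohomology (Rep.res H.subtype Λ) 1) := by
  classical
  rw [h1_zero_iff]
  intro c hc
  change H → Λ.V at c
  replace hc : ∀ g g' : H, c (g * g') = Λ.ρ (g : G) (c g') + c g := hc
  have hc1 : c 1 = 0 := by simpa using hc 1 1
  -- section of G → G ⧸ H with value 1 at the base point
  let x0 : G ⧸ H := ((1 : G) : G ⧸ H)
  let s : G ⧸ H → G := fun x => if x = x0 then 1 else x.out
  have hs : ∀ x, (s x : G ⧸ H) = x := fun x => by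
    by_cases hx : x = x0
    · simp [s, hx, x0]
    · simp only [s, if_neg hx]; exact QuotientGroup.out_eq' x
  have hmem : ∀ (g : G) (x : G ⧸ H), (s (g • x))⁻¹ * g * s x ∈ H := by
    intro g x
    rw [mul_assoc, ← QuotientGroup.eq, hs]
    conv_lhs => rw [← hs x]
    rfl
  let hh : G → G ⧸ H → H := fun g x => ⟨_, hmem g x⟩
  let β : G → G ⧸ H → Λ.V := fun g x => Λ.ρ (s (g • x)) (c (hh g x))
  have hβ1 : ∀ x, β 1 x = 0 := fun x => by
    have : hh 1 x = 1 := Subtype.ext (by simp [hh])
    simp [β, this, hc1]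
  have hβ : ∀ g g' x, β (g * g') x = Λ.ρ g (β g' x) + β g (g' • x) := by
    intro g g' x
    have h1 : hh (g * g') x = hh g (g' • x) * hh g' x :=
      Subtype.ext (by simp [hh, mul_smul]; group)
    have h2 : s (g • g' • x) * (hh g (g' • x) : G) = g * s (g' • x) := by
      simp [hh, mul_assoc]
    simp only [β, mul_smul, h1, hc, map_add]
    rw [← Module.End.mul_apply, ← map_mul, h2, map_mul, Module.End.mul_apply]
  let ρ := twist Λ (G ⧸ H) β hβ1 hβ
  let f0 : Λ.ρ.IntertwiningMap ρ := ⟨LinearMap.inl ℤ _ _, fun g => by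
    refine LinearMap.ext fun l => ?_
    simp [ρ, twist]⟩
  let g0 : ρ.IntertwiningMap (Representation.ofMulAction ℤ G (G ⧸ H)) := ⟨LinearMap.snd ℤ _ _, fun g => by
    refine LinearMap.ext fun l => ?_
    simp [ρ, twist]⟩
  let E : ShortComplex (Rep ℤ G) := ShortComplex.mk (Rep.ofHom f0) (Rep.ofHom g0) (by
    refine Rep.hom_ext (Representation.IntertwiningMap.toLinearMap_injective _ _ ?_)
    exact LinearMap.ext fun l => rfl)
  have hEx : E.ShortExact := by
    haveI : Mono E.f := (Rep.mono_iff_injective _).2 fun u v huv => (Prod.mk.inj huv).1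
    haveI : Epi E.g := (Rep.epi_iff_surjective _).2 fun v => ⟨((0 : Λ.V), v), rfl⟩
    refine ShortComplex.ShortExact.mk ((exact_iff_function E).2 ?_)
    rintro ⟨l, v⟩
    constructor
    · intro hv; change v = 0 at hv; exact ⟨l, by rw [hv]; rfl⟩
    · rintro ⟨l', hl⟩; rw [← hl]; rfl
  obtain ⟨σ⟩ := h (G ⧸ H) E hEx ⟨Iso.refl _⟩ ⟨Iso.refl _⟩
  let z : Λ.V × MonoidAlgebra ℤ (G ⧸ H) := σ.s.hom (MonoidAlgebra.single x0 (1 : ℤ))
  have hz : z.2 = MonoidAlgebra.single x0 (1 : ℤ) := by
    have := congrArg (fun φ => φ.hom (MonoidAlgebra.single x0 (1 : ℤ))) σ.s_g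
    exact this
  refine ⟨-z.1, fun g => ?_⟩
  have hgx : (g : G) • x0 = x0 := by
    show ((((g : G) * 1 : G)) : G ⧸ H) = ((1 : G) : G ⧸ H)
    rw [QuotientGroup.eq]; simp
  have h1 : σ.s.hom (Representation.ofMulAction ℤ G (G ⧸ H) (g : G) (MonoidAlgebra.single x0 (1 : ℤ)))
      = ρ (g : G) z := Rep.hom_comm_apply σ.s (g : G) _
  rw [Representation.ofMulAction_single, hgx] at h1
  have h2 := congrArg Prod.fst h1
  change z.1 = _ at h2
  have hs0 : s x0 = 1 := if_pos rfl
  have hb : β (g : G) x0 = c g := by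
    have : hh (g : G) x0 = g := Subtype.ext (by simp [hh, hgx, hs0])
    simp [β, hgx, hs0, this]
  have h3 : z.1 = Λ.ρ (g : G) z.1 + c g := by
    rw [h2]
    conv_lhs => simp [ρ, twist, hz, linExt_single, hb]
    rw [← h2]
  show c g = Λ.ρ (g : G) (-z.1) - -z.1
  rw [map_neg, sub_neg_eq_add]
  rw [eq_neg_add_iff_add_eq]
  exact h3.symm
end

/-- For a finite group Γ and a Γ-lattice Λ (finitely generated free ℤ-module with Γ-action) the
following are equivalent: (i) H¹(Γ', Λ) = 0 for every subgroup Γ' ≤ Γ; (ii) Ext¹ over ℤ[Γ] of P into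
Λ vanishes for every permutation lattice P = ℤ[X], X a finite Γ-set. Condition (ii) is stated
through Yoneda extensions: every short exact sequence 0 → Λ' → E → P → 0 of ℤ-linear
Γ-representations with Λ' ≅ Λ and P ≅ ℤ[X] splits. (These are the lattices called coflasque.) The
group, the lattice and the Γ-sets are taken in the lowest universe. -/
theorem result
    (Γ : Type) [Group Γ] [Finite Γ] (Λ : Rep ℤ Γ) [Module.Free ℤ Λ.V] [Module.Finite ℤ Λ.V] :
    (∀ Γ' : Subgroup Γ, Limits.IsZero (groupCohomology (Rep.res Γ'.subtype Λ) 1)) ↔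
      ∀ (X : Type) [MulAction Γ X] [Finite X] (E : ShortComplex (Rep ℤ Γ)),
        E.ShortExact → Nonempty (E.X₁ ≅ Λ) → Nonempty (E.X₃ ≅ Rep.ofMulAction ℤ Γ X) →
          Nonempty E.Splitting := by
  constructor
  · intro h X _ _ E hE h1 h3
    exact splitting_of_h1 Λ h X E hE h1.some h3.some
  · intro h Γ'
    exact h1_of_splitting Λ (fun X _ _ => h X) Γ'

end Groth.Agent.S17849
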