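import Groth.Statements.S17854
import Groth.Agent.Unram.Tower
import Mathlib

set_option autoImplicit false
open TensorProduct
universe u
open EtAlg

namespace Groth.Agent.S17854

open TensorProduct in
theorem exists_coordinates (k : Type u) [CommRing k] [IsLocalRing k] [Finite (IsLocalRing.ResidueField k)]
    (R : Type u) [CommRing R] [Algebra k R] [Algebra.FinitePresentation k R]
    (m : Ideal R) [m.IsMaximal] (hm : m.comap (algebraMap k R) = IsLocalRing.maximalIdeal k)
    (d : ℕ) (hd : 0 < d)
    (hdim : Module.finrank (R ⧸ m) ((R ⧸ m) ⊗[R] KaehlerDifferential k R) = d) :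
    ∃ x : Fin d → R, (∃ b : Module.Basis (Fin d) (R ⧸ m) ((R ⧸ m) ⊗[R] KaehlerDifferential k R),
        ∀ i, b i = (1 : R ⧸ m) ⊗ₜ KaehlerDifferential.D k R (x i)) ∧
      ∀ z : R ⧸ m, ∃ f : MvPolynomial (Fin d) k, Ideal.Quotient.mk m (MvPolynomial.aeval x f) = z := by
  classical
  letI : Field (R ⧸ m) := Ideal.Quotient.field m
  let ψ : IsLocalRing.ResidueField k →+* R ⧸ m :=
    Ideal.Quotient.lift _ ((Ideal.Quotient.mk m).comp (algebraMap k R)) fun a ha =>
      Ideal.Quotient.eq_zero_iff_mem.2 (show a ∈ m.comap (algebraMap k R) by rw [hm]; exact ha)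
  letI : Algebra (IsLocalRing.ResidueField k) (R ⧸ m) := ψ.toAlgebra
  haveI : IsScalarTower k (IsLocalRing.ResidueField k) (R ⧸ m) := IsScalarTower.of_algebraMap_eq fun a => rfl
  haveI : Algebra.FiniteType k R := inferInstance
  haveI : Algebra.FiniteType k (R ⧸ m) := inferInstance
  haveI : Algebra.FiniteType (IsLocalRing.ResidueField k) (R ⧸ m) :=
    Algebra.FiniteType.of_restrictScalars_finiteType k _ _
  haveI : Module.Finite (IsLocalRing.ResidueField k) (R ⧸ m) :=
    finite_of_finite_type_of_isJacobsonRing (IsLocalRing.ResidueField k) (R ⧸ m)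
  haveI : Finite (R ⧸ m) := Module.finite_of_finite (IsLocalRing.ResidueField k)
  obtain ⟨p, hp⟩ := CharP.exists (R ⧸ m)
  haveI := hp
  haveI : Fact p.Prime := ⟨CharP.char_is_prime (R ⧸ m) p⟩
  let v : R → (R ⧸ m) ⊗[R] KaehlerDifferential k R := fun r => (1 : R ⧸ m) ⊗ₜ KaehlerDifferential.D k R r
  have hpv : ∀ r, v (r ^ p) = 0 := fun r => by
    simp only [v, Derivation.leibniz_pow, ← Nat.cast_smul_eq_nsmul R, TensorProduct.tmul_smul]
    rw [← IsScalarTower.algebraMap_smul (R ⧸ m), map_natCast, CharP.cast_eq_zero, zero_smul]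
  have hroot : ∀ z : R ⧸ m, ∃ r : R, Ideal.Quotient.mk m (r ^ p) = z := fun z => by
    haveI : PerfectRing (R ⧸ m) p := PerfectRing.ofFiniteOfIsReduced p (R ⧸ m)
    obtain ⟨y, hy⟩ := surjective_frobenius (R ⧸ m) p z
    obtain ⟨r, rfl⟩ := Ideal.Quotient.mk_surjective y
    exact ⟨r, by rw [map_pow]; exact hy⟩
  have hspan : Submodule.span (R ⧸ m) (v '' (m : Set R)) = ⊤ := by
    refine eq_top_iff.2 fun z hz => ?_
    clear hz
    induction z using TensorProduct.induction_on with
    | zero => exact zero_mem _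
    | add a b ha hb => exact add_mem ha hb
    | tmul c w =>
      rw [show c ⊗ₜ[R] w = c • ((1 : R ⧸ m) ⊗ₜ[R] w) by rw [TensorProduct.smul_tmul', smul_eq_mul, mul_one]]
      refine Submodule.smul_mem _ _ ?_
      have h1 : w ∈ Submodule.span R (Set.range (KaehlerDifferential.D k R)) := by
        rw [KaehlerDifferential.span_range_derivation]; trivial
      induction h1 using Submodule.span_induction with
      | mem v' hv =>
        obtain ⟨r, rfl⟩ := hv
        obtain ⟨y, hy⟩ := hroot (Ideal.Quotient.mk m r)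
        have h3 : v (r - y ^ p) = v r := by
          have := hpv y
          simp only [v, map_sub, TensorProduct.tmul_sub] at this ⊢
          rw [this, sub_zero]
        show v r ∈ _
        rw [← h3]
        exact Submodule.subset_span ⟨_, Ideal.Quotient.eq.1 hy.symm, rfl⟩
      | zero => rw [TensorProduct.tmul_zero]; exact zero_mem _
      | add a b _ _ ha hb => rw [TensorProduct.tmul_add]; exact add_mem ha hb
      | smul r a _ ha =>
        rw [TensorProduct.tmul_smul, ← IsScalarTower.algebraMap_smul (R ⧸ m) r]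
        exact Submodule.smul_mem _ _ ha
  obtain ⟨s, hs, hsspan, hsli⟩ := exists_linearIndependent (R ⧸ m) (v '' (m : Set R))
  rw [hspan] at hsspan
  let b0 := Module.Basis.mk hsli (by rw [Subtype.range_coe, hsspan])
  haveI : Module.Finite (R ⧸ m) ((R ⧸ m) ⊗[R] KaehlerDifferential k R) := inferInstance
  haveI : Fintype s := hsli.setFinite.fintype
  have hcard : Fintype.card s = d := by rw [← hdim]; exact (Module.finrank_eq_card_basis b0).symm
  let e : Fin d ≃ s := (Fintype.equivFinOfCardEq hcard).symm
  choose y hy hyv using fun i : Fin d => hs (e i).2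
  obtain ⟨ζ, hζ⟩ := IsCyclic.exists_generator (α := (R ⧸ m)ˣ)
  obtain ⟨r0, hr0⟩ := hroot (ζ : R ⧸ m)
  let i0 : Fin d := ⟨0, hd⟩
  let x : Fin d → R := fun i => if i = i0 then y i + r0 ^ p else y i
  have hx : ∀ i, v (x i) = v (y i) := fun i => by
    simp only [x]
    split
    · have := hpv r0
      simp only [v, map_add, TensorProduct.tmul_add] at this ⊢
      rw [this, add_zero]
    · rfl
  refine ⟨x, ⟨b0.reindex e.symm, fun i => ?_⟩, fun z => ?_⟩
  · rw [Module.Basis.reindex_apply, Equiv.symm_symm, Module.Basis.mk_apply]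
    exact ((hx i).trans (hyv i)).symm
  · by_cases hz : z = 0
    · exact ⟨0, by rw [hz, map_zero, map_zero]⟩
    · obtain ⟨n, hn⟩ := (mem_powers_iff_mem_zpowers.2 (hζ (Units.mk0 z hz)) : _ ∈ Submonoid.powers ζ)
      refine ⟨MvPolynomial.X i0 ^ n, ?_⟩
      have h1 : Ideal.Quotient.mk m (x i0) = ζ := by
        simp only [x, if_true, map_add, hr0, Ideal.Quotient.eq_zero_iff_mem.2 (hy i0), zero_add]
      rw [map_pow, MvPolynomial.aeval_X, map_pow, h1, ← Units.val_pow_eq_pow_val]
      exact congrArg Units.val hn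

open TensorProduct in
theorem isEtaleAt_of_basis (k R : Type u) [CommRing k] [CommRing R] [Algebra k R] [Algebra.FinitePresentation k R]
    (m : Ideal R) [m.IsMaximal] [Algebra.IsSmoothAt k m] {d : ℕ} (x : Fin d → R)
    [Algebra (MvPolynomial (Fin d) k) R] [IsScalarTower k (MvPolynomial (Fin d) k) R]
    (b : Module.Basis (Fin d) (R ⧸ m) ((R ⧸ m) ⊗[R] KaehlerDifferential k R))
    (hb : ∀ i, b i = (1 : R ⧸ m) ⊗ₜ KaehlerDifferential.D k R (x i))
    (hX : ∀ i, algebraMap (MvPolynomial (Fin d) k) R (MvPolynomial.X i) = x i := by intro i; exact MvPolynomial.aeval_X _ i) :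
    Algebra.IsEtaleAt (MvPolynomial (Fin d) k) m := by
  classical
  let L := Localization.AtPrime m
  let K := IsLocalRing.ResidueField L
  haveI : Algebra.FormallySmooth k L := ‹Algebra.IsSmoothAt k m›
  haveI : Algebra.FormallyEtale R L := Algebra.FormallyEtale.of_isLocalization m.primeCompl
  haveI : Algebra.EssFiniteType R L := Algebra.EssFiniteType.of_isLocalization _ m.primeCompl
  haveI : Algebra.EssFiniteType k L := Algebra.EssFiniteType.comp k R L
  haveI : Module.Free L (KaehlerDifferential k L) := Module.free_of_flat_of_isLocalRing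
  show Algebra.FormallyEtale (MvPolynomial (Fin d) k) L
  rw [Groth.Agent.Unram.formallyEtale_iff_bijective k (MvPolynomial (Fin d) k) L,
    Groth.Agent.Unram.bijective_iff_of_basis
      (Algebra.TensorProduct.basis L (KaehlerDifferential.mvPolynomialBasis k (Fin d)))]
  have hv : (KaehlerDifferential.mapBaseChange k (MvPolynomial (Fin d) k) L) ∘
      (Algebra.TensorProduct.basis L (KaehlerDifferential.mvPolynomialBasis k (Fin d))) =
      fun i => KaehlerDifferential.D k L (algebraMap R L (x i)) := by
    funext i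
    rw [Function.comp_apply, Algebra.TensorProduct.basis_apply, KaehlerDifferential.mvPolynomialBasis_apply,
      KaehlerDifferential.mapBaseChange_tmul, one_smul, KaehlerDifferential.map_D,
      IsScalarTower.algebraMap_apply (MvPolynomial (Fin d) k) R L, hX]
  rw [hv]
  -- basis of `K ⊗ Ω_L`
  letI : Field (R ⧸ m) := Ideal.Quotient.field m
  let q : R ⧸ m →+* K := Ideal.Quotient.lift m ((IsLocalRing.residue L).comp (algebraMap R L)) fun a ha =>
    (IsLocalRing.residue_eq_zero_iff _).2 ((IsLocalization.AtPrime.to_map_mem_maximal_iff L m a).2 ha)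
  letI : Algebra (R ⧸ m) K := q.toAlgebra
  haveI : IsScalarTower R (R ⧸ m) K := IsScalarTower.of_algebraMap_eq fun a => rfl
  let B1 : Module.Basis (Fin d) K (K ⊗[L] KaehlerDifferential k L) :=
    ((Algebra.TensorProduct.basis K b).map
      ((TensorProduct.AlgebraTensorModule.cancelBaseChange R (R ⧸ m) K K (KaehlerDifferential k R)) ≪≫ₗ
        (TensorProduct.AlgebraTensorModule.cancelBaseChange R L K K (KaehlerDifferential k R)).symm ≪≫ₗ
        TensorProduct.AlgebraTensorModule.congr (LinearEquiv.refl K K)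
          (KaehlerDifferential.tensorKaehlerEquivOfFormallyEtale k R L)))
  have hB1 : ∀ i, B1 i = (1 : K) ⊗ₜ[L] KaehlerDifferential.D k L (algebraMap R L (x i)) := fun i => by
    simp [B1, hb]
  have hspan := IsLocalRing.span_eq_top_of_tmul_eq_basis (R := L)
    (f := fun i => KaehlerDifferential.D k L (algebraMap R L (x i))) B1 (fun i => (hB1 i).symm)
  refine ⟨linearIndependent_of_top_le_span_of_card_eq_finrank hspan.ge ?_, hspan⟩
  rw [Fintype.card_fin, ← Module.finrank_baseChange (R := K) (M' := KaehlerDifferential k L),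
    Module.finrank_eq_card_basis B1, Fintype.card_fin]


/-- In the case of a base with finite residue field, let k be a local ring whose residue field is
finite, R a finitely presented k-algebra and m a maximal ideal of R over the maximal ideal of k such
that R is smooth over k at m of relative dimension d > 0 (the module of Kähler differentials of R
over k has rank d at m). Then there are g ∉ m and an étale k-algebra homomorphism φ : k[x₁, …, x_d]
→ R[1/g] which induces an isomorphism of residue fields at m, i.e. k[x₁, …, x_d] → R[1/g]/m R[1/g]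
is surjective. The published statement is for any local ring k; this row takes the residue field of
k finite. -/
theorem result
    (k : Type u) [CommRing k] [IsLocalRing k] [Finite (IsLocalRing.ResidueField k)]
    (R : Type u) [CommRing R] [Algebra k R] [Algebra.FinitePresentation k R]
    (m : Ideal R) [m.IsMaximal] (hm : m.comap (algebraMap k R) = IsLocalRing.maximalIdeal k)
    [Algebra.IsSmoothAt k m] (d : ℕ) (hd : 0 < d)
    (hdim : Module.finrank (R ⧸ m) ((R ⧸ m) ⊗[R] KaehlerDifferential k R) = d) :
    ∃ g : R, g ∉ m ∧ ∃ φ : MvPolynomial (Fin d) k →ₐ[k] Localization.Away g,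
      φ.toRingHom.Etale ∧
      Function.Surjective
        ((Ideal.Quotient.mk (m.map (algebraMap R (Localization.Away g)))).comp φ.toRingHom) := by
  classical
  letI : Field (R ⧸ m) := Ideal.Quotient.field m
  obtain ⟨x, hbasis, hgen⟩ := exists_coordinates k R m hm d hd hdim
  letI : Algebra (MvPolynomial (Fin d) k) R := (MvPolynomial.aeval x).toRingHom.toAlgebra
  haveI : IsScalarTower k (MvPolynomial (Fin d) k) R := IsScalarTower.of_algHom (MvPolynomial.aeval x)
  haveI : Algebra.FinitePresentation (MvPolynomial (Fin d) k) R :=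
    Algebra.FinitePresentation.of_restrict_scalars_finitePresentation k (MvPolynomial (Fin d) k) R
  haveI : Algebra.IsEtaleAt (MvPolynomial (Fin d) k) m := by
    obtain ⟨b, hb⟩ := hbasis
    exact isEtaleAt_of_basis k R m x b hb
  obtain ⟨g, hg, hget⟩ := Algebra.exists_etale_of_isEtaleAt (R := MvPolynomial (Fin d) k) m
  let φ : MvPolynomial (Fin d) k →ₐ[k] Localization.Away g :=
    (IsScalarTower.toAlgHom k R (Localization.Away g)).comp (MvPolynomial.aeval x)
  refine ⟨g, hg, φ, ?_, fun z => ?_⟩
  · haveI := hget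
    have h := RingHom.etale_algebraMap.2 (inferInstance : Algebra.Etale (MvPolynomial (Fin d) k) (Localization.Away g))
    exact h
  · obtain ⟨z, rfl⟩ := Ideal.Quotient.mk_surjective z
    obtain ⟨⟨r, ⟨_, n, rfl⟩⟩, hr⟩ := IsLocalization.surj (Submonoid.powers g) z
    obtain ⟨w, hw⟩ := Ideal.Quotient.mk_surjective ((Ideal.Quotient.mk m (g ^ n))⁻¹)
    obtain ⟨f, hf⟩ := hgen (Ideal.Quotient.mk m (r * w))
    refine ⟨f, ?_⟩
    rw [RingHom.comp_apply, Ideal.Quotient.eq]
    have hgn : Ideal.Quotient.mk m (g ^ n) ≠ 0 := fun h0 =>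
      hg (‹m.IsMaximal›.isPrime.mem_of_pow_mem n (Ideal.Quotient.eq_zero_iff_mem.1 h0))
    have h1 : MvPolynomial.aeval x f * g ^ n - r ∈ m := by
      rw [← Ideal.Quotient.eq, map_mul, hf, map_mul, hw, mul_assoc, inv_mul_cancel₀ hgn, mul_one]
    have h2 := Ideal.mem_map_of_mem (algebraMap R (Localization.Away g)) h1
    rw [map_sub, map_mul] at h2
    simp only at hr
    rw [← hr, ← sub_mul] at h2
    exact (Ideal.mul_unit_mem_iff_mem _ (IsLocalization.map_units (Localization.Away g)
      (⟨g ^ n, n, rfl⟩ : Submonoid.powers g))).1 h2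

end Groth.Agent.S17854
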