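import Groth.Statements.S17855
import Groth.Agent.PatchG0.Lift

set_option autoImplicit false
open CategoryTheory CategoryTheory.Limits MonoidalCategory CartesianMonoidalCategory MonObj GrpObj AlgebraicGeometry
universe u
open NonAbH1

namespace Groth.Agent.S17855

open CategoryTheory CategoryTheory.Limits AlgebraicGeometry Polynomial CartesianMonoidalCategory MonoidalCategory
open scoped MonObj

namespace Groth.Agent.S17855.Aux

open Groth.Agent.PatchG0

variable {R : Type u} [CommRing R]

theorem away_of_mul {A B : Type u} [CommRing A] [CommRing B] [Algebra R A] [Algebra R B]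
    [Algebra A B] [IsScalarTower R A B] (x y : R) [IsLocalization.Away x A]
    [IsLocalization.Away (x * y) B] : IsLocalization.Away (algebraMap R A y) B := by
  have hxy := IsLocalization.Away.algebraMap_isUnit (S := B) (x * y)
  rw [map_mul, IsUnit.mul_iff] at hxy
  refine IsLocalization.Away.mk _ ?_ (fun z => ?_) (fun a b hab => ?_)
  · rw [← IsScalarTower.algebraMap_apply]
    exact hxy.2
  · obtain ⟨n, c, hc⟩ := IsLocalization.Away.surj (x * y) z
    refine ⟨n, algebraMap R A c * IsLocalization.Away.invSelf x ^ n, ?_⟩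
    have h := congrArg (fun t => algebraMap A B (t ^ n))
      (IsLocalization.Away.mul_invSelf (S := A) x)
    simp only [one_pow, map_one, mul_pow, map_mul, map_pow, ← IsScalarTower.algebraMap_apply] at h hc ⊢
    linear_combination (algebraMap A B (IsLocalization.Away.invSelf x) ^ n) * hc -
      (z * algebraMap R B y ^ n) * h
  · obtain ⟨i, a', ha⟩ := IsLocalization.Away.surj x a
    obtain ⟨j, b', hb⟩ := IsLocalization.Away.surj x b
    have h : algebraMap R B (a' * x ^ j) = algebraMap R B (b' * x ^ i) := by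
      simp only [IsScalarTower.algebraMap_apply R A B, map_mul, map_pow, ← ha, ← hb, hab]
      ring
    obtain ⟨n, hn⟩ := IsLocalization.Away.exists_of_eq (x * y) h
    refine ⟨n, ?_⟩
    have hu := ((IsLocalization.Away.algebraMap_isUnit (S := A) x).pow (n + i + j))
    refine hu.mul_left_cancel ?_
    have h' := congrArg (algebraMap R A) hn
    simp only [map_mul, map_pow, mul_pow, ← ha, ← hb] at h'
    linear_combination h'

/-- the `R`-morphism of spectra attached to an algebra map -/
noncomputable def ov {P Q : Type u} [CommRing P] [CommRing Q] [Algebra R P] [Algebra R Q]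
    (φ : P →ₐ[R] Q) :
    Over.mk (Spec.map (CommRingCat.ofHom (algebraMap R Q))) ⟶
      Over.mk (Spec.map (CommRingCat.ofHom (algebraMap R P))) :=
  Over.homMk (Spec.map (CommRingCat.ofHom φ.toRingHom)) (by
    simp only [Over.mk_hom]
    rw [← Spec.map_comp, ← CommRingCat.ofHom_comp]
    congr 2
    exact φ.comp_algebraMap)

theorem ov_comp {P Q T : Type u} [CommRing P] [CommRing Q] [CommRing T] [Algebra R P] [Algebra R Q]
    [Algebra R T] (φ : P →ₐ[R] Q) (ψ : Q →ₐ[R] T) : ov (ψ.comp φ) = ov ψ ≫ ov φ := by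
  apply Over.OverMorphism.ext
  show Spec.map _ = Spec.map _ ≫ Spec.map _
  rw [← Spec.map_comp, ← CommRingCat.ofHom_comp]
  rfl

theorem eq_ov {P Q : Type u} [CommRing P] [CommRing Q] [Algebra R P] [Algebra R Q]
    (t : Over.mk (Spec.map (CommRingCat.ofHom (algebraMap R Q))) ⟶
      Over.mk (Spec.map (CommRingCat.ofHom (algebraMap R P)))) (φ : P →ₐ[R] Q)
    (h : t.left = Spec.map (CommRingCat.ofHom φ.toRingHom)) : t = ov φ :=
  Over.OverMorphism.ext h

variable (R) in
/-- evaluation at `a` -/
noncomputable def evalAlg {P : Type u} [CommRing P] [Algebra R P] (a : P) : P[X] →ₐ[R] P :=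
  (Polynomial.aeval a).restrictScalars R

variable (R) in
/-- `X ↦ a X` -/
noncomputable def scaleAlg {P : Type u} [CommRing P] [Algebra R P] (a : P) : P[X] →ₐ[R] P[X] :=
  { scaleHom a with commutes' := fun x => by simp [scaleHom, Polynomial.algebraMap_apply] }

/-- the constant polynomials -/
noncomputable def constAlg (R : Type u) [CommRing R] (P : Type u) [CommRing P] [Algebra R P] :
    P →ₐ[R] P[X] :=
  { (C : P →+* P[X]) with commutes' := fun x => rfl }

@[simp] theorem scaleAlg_apply {P : Type u} [CommRing P] [Algebra R P] (a : P) (x : P[X]) :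
    scaleAlg R a x = scaleHom a x := rfl

@[simp] theorem evalAlg_apply {P : Type u} [CommRing P] [Algebra R P] (a : P) (x : P[X]) :
    evalAlg R a x = x.eval a := by simp [evalAlg]

@[simp] theorem constAlg_apply {P : Type u} [CommRing P] [Algebra R P] (x : P) :
    constAlg R P x = C x := rfl

variable (G : Over (Spec (CommRingCat.of R))) [LocallyOfFinitePresentation G.hom]

theorem exists_lift' {D E : Type u} [CommRing D] [CommRing E] [Algebra R D] [Algebra R E]
    [Algebra D E] [IsScalarTower R D E] (r : D) [IsLocalization.Away r E]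
    (g : Over.mk (Spec.map (CommRingCat.ofHom (algebraMap R E[X]))) ⟶ G)
    (e : Over.mk (Spec.map (CommRingCat.ofHom (algebraMap R D))) ⟶ G)
    (hge : ov (evalAlg R (0 : E)) ≫ g = ov (IsScalarTower.toAlgHom R D E) ≫ e) :
    ∃ (n : ℕ) (g' : Over.mk (Spec.map (CommRingCat.ofHom (algebraMap R D[X]))) ⟶ G),
      ov (Polynomial.mapAlgHom (IsScalarTower.toAlgHom R D E)) ≫ g' =
        ov (scaleAlg R (algebraMap D E r ^ n)) ≫ g := by
  obtain ⟨n, g', hf, hg'⟩ := exists_lift r G.hom
    (Spec.map (CommRingCat.ofHom (algebraMap R D))) g.left (by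
      rw [← Spec.map_comp, ← CommRingCat.ofHom_comp]
      refine (Over.w g).trans ?_
      simp only [Over.mk_hom]
      congr 2
      exact RingHom.ext fun x => congrArg C (IsScalarTower.algebraMap_apply R D E x))
    e.left (Over.w e) (by
      have h := congrArg (fun t => t.left) hge
      exact h)
  refine ⟨n, Over.homMk g' (hf.trans ?_), Over.OverMorphism.ext hg'⟩
  rw [← Spec.map_comp, ← CommRingCat.ofHom_comp]
  rfl

theorem ov_comp' {P Q T : Type u} [CommRing P] [CommRing Q] [CommRing T] [Algebra R P] [Algebra R Q]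
    [Algebra R T] {φ : P →ₐ[R] Q} {ψ : Q →ₐ[R] T} {χ : P →ₐ[R] T} (h : ψ.comp φ = χ) {Z : Over (Spec (CommRingCat.of R))}
    (z : Over.mk (Spec.map (CommRingCat.ofHom (algebraMap R P))) ⟶ Z) :
    ov ψ ≫ ov φ ≫ z = ov χ ≫ z := by
  rw [← h, ov_comp, Category.assoc]

theorem alg_ext {P Q : Type u} [CommRing P] [CommRing Q] [Algebra R P] [Algebra R Q]
    {φ ψ : P[X] →ₐ[R] Q} (hC : ∀ a, φ (C a) = ψ (C a)) (hX : φ X = ψ X) : φ = ψ := by
  refine AlgHom.ext fun x => ?_
  exact congrArg (fun f : P[X] →+* Q => f x)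
    (Polynomial.ringHom_ext (f := φ.toRingHom) (g := ψ.toRingHom) hC hX)

variable [GrpObj G] {r r' : R}

theorem main (hrr : Ideal.span ({r, r'} : Set R) = ⊤)
    (A A' B : Type u) [CommRing A] [CommRing A'] [CommRing B] [Algebra R A] [Algebra R A'] [Algebra R B]
    [IsLocalization.Away r A] [IsLocalization.Away r' A'] [IsLocalization.Away (r * r') B]
    [Algebra A B] [Algebra A' B] [IsScalarTower R A B] [IsScalarTower R A' B]
    (g : Over.mk (Spec.map (CommRingCat.ofHom (algebraMap R (B[X])))) ⟶ G)
    (hg : ov (evalAlg R (0 : B)) ≫ g = 1) :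
    ∃ (g₁ : Over.mk (Spec.map (CommRingCat.ofHom (algebraMap R A[X]))) ⟶ G)
      (g₂ : Over.mk (Spec.map (CommRingCat.ofHom (algebraMap R A'[X]))) ⟶ G),
      ov (evalAlg R (0 : A)) ≫ g₁ = 1 ∧ ov (evalAlg R (0 : A')) ≫ g₂ = 1 ∧
        g = (ov (Polynomial.mapAlgHom (IsScalarTower.toAlgHom R A B)) ≫ g₁) *
          (ov (Polynomial.mapAlgHom (IsScalarTower.toAlgHom R A' B)) ≫ g₂) := by
  classical
  haveI hAB : IsLocalization.Away (algebraMap R A r') B := away_of_mul r r'
  haveI hA'B : IsLocalization.Away (algebraMap R A' r) B := by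
    haveI : IsLocalization.Away (r' * r) B := by rw [mul_comm]; infer_instance
    exact away_of_mul r' r
  have sg : ov (scaleAlg R (0 : B)) ≫ g = 1 := by
    rw [show scaleAlg R (0 : B) = (constAlg R B).comp (evalAlg R (0 : B)) from
      alg_ext (fun a => by simp [scaleHom])
        (by simp [scaleHom]), ov_comp, Category.assoc, hg,
      MonObj.comp_one]
  obtain ⟨n, G₁, hG₁⟩ := exists_lift' G (E := B) (algebraMap R A r') g 1 (by
    rw [hg, MonObj.comp_one])
  letI : Algebra A'[X] B[X] := (mapRingHom (algebraMap A' B)).toAlgebra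
  haveI : IsScalarTower R A'[X] B[X] := IsScalarTower.of_algebraMap_eq fun x => by
    show algebraMap R B[X] x = mapRingHom (algebraMap A' B) (algebraMap R A'[X] x)
    simp [Polynomial.algebraMap_apply, ← IsScalarTower.algebraMap_apply]
  haveI : IsLocalization.Away (C (algebraMap R A' r)) B[X] := by
    have h := Polynomial.isLocalization (Submonoid.powers (algebraMap R A' r)) B
    rw [Submonoid.map_powers] at h
    exact h
  let ψ : B[X] →ₐ[R] B[X][X] :=
    { eval₂RingHom ((C : B[X] →+* B[X][X]).comp C) (C (X : B[X]) * (1 - X)) with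
      commutes' := fun x => by simp [Polynomial.algebraMap_apply] }
  let hh := (ov ψ ≫ g)⁻¹ * (ov (constAlg R B[X]) ≫ g)
  obtain ⟨m, H, hH⟩ := exists_lift' G (E := B[X]) (C (algebraMap R A' r)) hh 1 (by
    rw [MonObj.comp_one, MonObj.comp_mul, GrpObj.comp_inv, ov_comp' (φ := ψ) (χ := AlgHom.id R B[X]),
      ov_comp' (φ := constAlg R B[X]) (χ := AlgHom.id R B[X]), inv_mul_cancel]
    · exact AlgHom.ext fun x => by simp
    · exact alg_ext (fun a => by simp [ψ]) (by simp [ψ]))
  obtain ⟨u, v, huv⟩ := Ideal.mem_span_pair.1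
    ((Ideal.eq_top_iff_one _).1 (Ideal.span_pow_eq_top ({r, r'} : Set R) hrr (m + n)) |> fun h =>
      show (1 : R) ∈ Ideal.span {r ^ (m + n), r' ^ (m + n)} by simpa [Set.image_pair] using h)
  let k₁ := ov (scaleAlg R (algebraMap R A (v * r' ^ m))) ≫ G₁
  let k₂ := ov (evalAlg R (C (algebraMap R A' (u * r ^ n)))) ≫ H
  refine ⟨k₁ * (ov (scaleAlg R (0 : A)) ≫ G₁)⁻¹, k₂ * (ov (scaleAlg R (0 : A')) ≫ k₂)⁻¹, ?_, ?_, ?_⟩
  · rw [MonObj.comp_mul, GrpObj.comp_inv]
    simp only [k₁]
    rw [ov_comp' (φ := scaleAlg R (algebraMap R A (v * r' ^ m))) (χ := evalAlg R (0 : A)),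
      ov_comp' (φ := scaleAlg R (0 : A)) (χ := evalAlg R (0 : A)), mul_inv_cancel]
    all_goals exact alg_ext (fun a => by simp [scaleHom]) (by simp [scaleHom])
  · rw [MonObj.comp_mul, GrpObj.comp_inv,
      ov_comp' (φ := scaleAlg R (0 : A')) (χ := evalAlg R (0 : A')), mul_inv_cancel]
    exact alg_ext (fun a => by simp [scaleHom])
      (by simp [scaleHom])
  · let mA := Polynomial.mapAlgHom (IsScalarTower.toAlgHom R A B)
    let mA' := Polynomial.mapAlgHom (IsScalarTower.toAlgHom R A' B)
    let b := algebraMap R B (v * r' ^ (m + n))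
    have c1 : ∀ a : R, ov mA ≫ ov (scaleAlg R (algebraMap R A a)) ≫ G₁ =
        ov (scaleAlg R (algebraMap R B (a * r' ^ n))) ≫ g := fun a => by
      rw [ov_comp' (φ := scaleAlg R (algebraMap R A a)) (χ := (scaleAlg R (algebraMap R B a)).comp mA),
        ov_comp, Category.assoc, hG₁, ov_comp' (φ := scaleAlg R _)
          (χ := scaleAlg R (algebraMap R B (a * r' ^ n)))]
      · exact alg_ext (fun x => by simp [scaleHom])
          (by simp [scaleHom, eval₂_pow, ← IsScalarTower.algebraMap_apply]; ring)
      · exact alg_ext (fun x => by simp [mA, scaleHom])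
          (by simp [mA, scaleHom, ← IsScalarTower.algebraMap_apply])
    have e0 : ov mA ≫ ov (scaleAlg R (0 : A)) ≫ G₁ = 1 := by
      have := c1 0
      rwa [map_zero, zero_mul, map_zero, sg] at this
    have e1 : ov mA ≫ k₁ = ov (scaleAlg R b) ≫ g := by
      simp only [k₁]
      rw [c1, _root_.mul_assoc, ← pow_add]
    let ev : B[X][X] →ₐ[R] B[X] := evalAlg R (C (algebraMap R B (u * r ^ n)))
    have e2 : ov mA' ≫ k₂ = (ov (scaleAlg R b) ≫ g)⁻¹ * g := by
      have hb : algebraMap R B (u * r ^ (m + n)) = 1 - b := by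
        rw [eq_sub_iff_add_eq, ← map_add, huv, map_one]
      simp only [k₂]
      rw [ov_comp' (φ := evalAlg R (C (algebraMap R A' (u * r ^ n))))
        (χ := ev.comp (Polynomial.mapAlgHom (IsScalarTower.toAlgHom R A'[X] B[X]))),
        ov_comp, Category.assoc, hH, ov_comp' (φ := scaleAlg R _)
          (χ := evalAlg R (C (algebraMap R B (u * r ^ (m + n))))),
        MonObj.comp_mul, GrpObj.comp_inv, ov_comp' (φ := ψ) (χ := scaleAlg R b),
        ov_comp' (φ := constAlg R B[X]) (χ := AlgHom.id R B[X])]
      · congr 1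
        have : ov (AlgHom.id R B[X]) = 𝟙 _ := Over.OverMorphism.ext (Spec.map_id _)
        rw [this, Category.id_comp]
      · exact AlgHom.ext fun x => by simp
      · exact alg_ext (fun x => by simp [ψ, scaleHom])
          (by simp [ψ, scaleHom, hb])
      · exact alg_ext (fun x => by simp [ev, scaleHom])
          (by
            simp [ev, scaleHom, RingHom.algebraMap_toAlgebra,
              ← IsScalarTower.algebraMap_apply, pow_add]
            ring)
      · refine alg_ext (fun x => ?_) ?_
        · simp [ev, mA', RingHom.algebraMap_toAlgebra, Polynomial.coe_mapRingHom]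
        · simp [ev, mA', RingHom.algebraMap_toAlgebra, Polynomial.coe_mapRingHom,
            ← IsScalarTower.algebraMap_apply]
    have e3 : ov mA' ≫ ov (scaleAlg R (0 : A')) ≫ k₂ = 1 := by
      rw [ov_comp' (φ := scaleAlg R (0 : A')) (χ := (scaleAlg R (0 : B)).comp mA'), ov_comp,
        Category.assoc, e2, MonObj.comp_mul, GrpObj.comp_inv,
        ov_comp' (φ := scaleAlg R b) (χ := scaleAlg R (0 : B)), inv_mul_cancel]
      · exact alg_ext (fun x => by simp [scaleHom]) (by simp [scaleHom])
      · exact alg_ext (fun x => by simp [mA', scaleHom])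
          (by simp [mA', scaleHom])
    rw [MonObj.comp_mul, MonObj.comp_mul, GrpObj.comp_inv, GrpObj.comp_inv, e0, e1, e2, e3,
      inv_one, _root_.mul_one, _root_.mul_one, mul_inv_cancel_left]

end Groth.Agent.S17855.Aux


/-- For a group scheme locally of finite presentation, let R be a ring, G an R-group scheme locally of
finite presentation over S = Spec R, and r, r' ∈ R generating the unit ideal; let A = R[1/r], A' =
R[1/r'], B = R[1/rr']. For an R-algebra C write G₀(C) for the set of S-morphisms Spec C[T] → G whose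
restriction along T ↦ 0 (the S-morphism Spec C → Spec C[T]) is the unit. Then G₀(B) = G₀(A)·G₀(A'):
every g ∈ G₀(B) is the product, in the group of Spec B[T]-points of G, of the pullback of some g₁ ∈
G₀(A) and the pullback of some g₂ ∈ G₀(A') along Spec B[T] → Spec A[T], Spec A'[T]. The S-morphisms
induced by T ↦ 0 and by the localisation maps are taken as data determined by their underlying
scheme maps. The published statement also allows more general group functors and graded algebras. -/
theorem result
    (R : Type u) [CommRing R]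
    (G : Over (Spec (CommRingCat.of R))) [GrpObj G] [LocallyOfFinitePresentation G.hom]
    (r r' : R) (hrr : Ideal.span ({r, r'} : Set R) = ⊤)
    (A A' B : Type u) [CommRing A] [CommRing A'] [CommRing B] [Algebra R A] [Algebra R A'] [Algebra R B]
    [IsLocalization.Away r A] [IsLocalization.Away r' A'] [IsLocalization.Away (r * r') B]
    [Algebra A B] [Algebra A' B] [IsScalarTower R A B] [IsScalarTower R A' B]
    (eA : Over.mk (Spec.map (CommRingCat.ofHom (algebraMap R (A)))) ⟶ Over.mk (Spec.map (CommRingCat.ofHom (algebraMap R (Polynomial A)))))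
    (heA : eA.left = Spec.map (CommRingCat.ofHom (Polynomial.evalRingHom (0 : A))))
    (eA' : Over.mk (Spec.map (CommRingCat.ofHom (algebraMap R (A')))) ⟶ Over.mk (Spec.map (CommRingCat.ofHom (algebraMap R (Polynomial A')))))
    (heA' : eA'.left = Spec.map (CommRingCat.ofHom (Polynomial.evalRingHom (0 : A'))))
    (eB : Over.mk (Spec.map (CommRingCat.ofHom (algebraMap R (B)))) ⟶ Over.mk (Spec.map (CommRingCat.ofHom (algebraMap R (Polynomial B)))))
    (heB : eB.left = Spec.map (CommRingCat.ofHom (Polynomial.evalRingHom (0 : B))))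
    (tA : Over.mk (Spec.map (CommRingCat.ofHom (algebraMap R (Polynomial B)))) ⟶ Over.mk (Spec.map (CommRingCat.ofHom (algebraMap R (Polynomial A)))))
    (htA : tA.left = Spec.map (CommRingCat.ofHom (Polynomial.mapRingHom (algebraMap A B))))
    (tA' : Over.mk (Spec.map (CommRingCat.ofHom (algebraMap R (Polynomial B)))) ⟶ Over.mk (Spec.map (CommRingCat.ofHom (algebraMap R (Polynomial A')))))
    (htA' : tA'.left = Spec.map (CommRingCat.ofHom (Polynomial.mapRingHom (algebraMap A' B))))
    (g : Over.mk (Spec.map (CommRingCat.ofHom (algebraMap R (Polynomial B)))) ⟶ G) (hg : eB ≫ g = 1) :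
    ∃ (g₁ : Over.mk (Spec.map (CommRingCat.ofHom (algebraMap R (Polynomial A)))) ⟶ G) (g₂ : Over.mk (Spec.map (CommRingCat.ofHom (algebraMap R (Polynomial A')))) ⟶ G),
      eA ≫ g₁ = 1 ∧ eA' ≫ g₂ = 1 ∧ g = (tA ≫ g₁) * (tA' ≫ g₂) := by
  open Groth.Agent.S17855.Aux in
  have e_eA : eA = ov (evalAlg R (0 : A)) := eq_ov _ _ (heA.trans rfl)
  open Groth.Agent.S17855.Aux in
  have e_eA' : eA' = ov (evalAlg R (0 : A')) := eq_ov _ _ (heA'.trans rfl)
  open Groth.Agent.S17855.Aux in
  have e_eB : eB = ov (evalAlg R (0 : B)) := eq_ov _ _ (heB.trans rfl)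
  open Groth.Agent.S17855.Aux in
  have e_tA : tA = ov (Polynomial.mapAlgHom (IsScalarTower.toAlgHom R A B)) := eq_ov _ _ (htA.trans rfl)
  open Groth.Agent.S17855.Aux in
  have e_tA' : tA' = ov (Polynomial.mapAlgHom (IsScalarTower.toAlgHom R A' B)) := eq_ov _ _ (htA'.trans rfl)
  subst e_eA e_eA' e_eB e_tA e_tA'
  exact Groth.Agent.S17855.Aux.main G hrr A A' B g hg

end Groth.Agent.S17855
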