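import Groth.Statements.S17856
import Groth.Agent.AlgzPi.Descent

set_option autoImplicit false
set_option linter.style.haveILetI false
open CategoryTheory AlgebraicGeometry
universe u
open Algz

namespace Groth.Agent.S17856

open CategoryTheory.Limits in
lemma surj (X : Scheme.{u}) [CompactSpace X] [QuasiSeparatedSpace X]
    {ι : Type u} (A : ι → Type u) [∀ i, CommRing (A i)]
    (f : ∀ i, Spec (CommRingCat.of (A i)) ⟶ X) :
    ∃ g : Spec (CommRingCat.of (∀ i, A i)) ⟶ X,
      ∀ i, Spec.map (CommRingCat.ofHom (Pi.evalRingHom A i)) ≫ g = f i := by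
  classical
  let 𝒰 : X.OpenCover := X.affineCover.finiteSubcover
  have : ∀ j, IsAffine (𝒰.X j) := fun j => by dsimp [𝒰]; infer_instance
  let J : Type u := 𝒰.I₀
  letI : Fintype J := Fintype.ofFinite _
  -- partition of unity in each `A i`
  have hpart : ∀ i, ∃ a : J → A i, Ideal.span (Set.range a) = ⊤ ∧
      ∀ j, (PrimeSpectrum.basicOpen (a j) : Set (PrimeSpectrum (A i))) ⊆
        f i ⁻¹' Set.range (𝒰.f j) := by
    intro i
    let Z : J → Set (PrimeSpectrum (A i)) := fun j => (f i ⁻¹' Set.range (𝒰.f j))ᶜ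
    have hZ : ∀ j, IsClosed (Z j) := fun j =>
      ((𝒰.f j).opensRange.2.preimage (f i).continuous).isClosed_compl
    have hsup : (⨆ j, PrimeSpectrum.vanishingIdeal (Z j)) = (⊤ : Ideal (A i)) := by
      by_contra h
      obtain ⟨𝔪, h𝔪, hle⟩ := Ideal.exists_le_maximal _ h
      let x : PrimeSpectrum (A i) := ⟨𝔪, h𝔪.isPrime⟩
      obtain ⟨j, y, hy⟩ : ∃ j, (f i x) ∈ Set.range (𝒰.f j) :=
        ⟨_, 𝒰.covers (f i x)⟩
      have hx : x ∈ closure (Z j) := by
        rw [← PrimeSpectrum.zeroLocus_vanishingIdeal_eq_closure]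
        exact (le_trans (le_iSup (fun j => PrimeSpectrum.vanishingIdeal (Z j)) j) hle :)
      rw [(hZ j).closure_eq] at hx
      exact hx ⟨y, hy⟩
    obtain ⟨a, ha⟩ := (Submodule.mem_iSup_iff_exists_finsupp _ (1 : A i)).mp
      (hsup ▸ Submodule.mem_top)
    refine ⟨a, ?_, fun j x hx => ?_⟩
    · rw [Ideal.eq_top_iff_one, ← ha.2]
      exact Ideal.sum_mem _ fun j _ => Ideal.subset_span ⟨j, rfl⟩
    · by_contra hc
      exact hx ((PrimeSpectrum.mem_vanishingIdeal _ _).mp (ha.1 j) x hc)
  choose a ha hsub using hpart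
  let b : J → Π i, A i := fun j i => a i j
  have hb : ∀ i, Ideal.span (Set.range fun j => b j i) = ⊤ := ha
  -- the lifts to the affine pieces
  have hrange : ∀ p : ι × J,
      Set.range (Spec.map (CommRingCat.ofHom (algebraMap (A p.1)
        (Localization.Away (b p.2 p.1)))) ≫ f p.1) ⊆ Set.range (𝒰.f p.2) := by
    rintro p _ ⟨x, rfl⟩
    apply hsub p.1 p.2
    rw [← PrimeSpectrum.localization_away_comap_range (Localization.Away (b p.2 p.1))]
    exact ⟨x, rfl⟩
  obtain ⟨g₀, hg₀⟩ := pointsPi_surjective_of_isAffine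
    (fun p : ι × J => CommRingCat.of (Localization.Away (b p.2 p.1))) (∐ fun j : J => 𝒰.X j)
    (fun p => IsOpenImmersion.lift (𝒰.f p.2) _ (hrange p) ≫ Sigma.ι (fun j : J => 𝒰.X j) p.2)
  let h : Spec (CommRingCat.of (AlgzPi.Q b)) ⟶ X := g₀ ≫ Sigma.desc (fun j : J => 𝒰.f j)
  have hh : ∀ p : ι × J, Spec.map (CommRingCat.ofHom
      (Pi.evalRingHom (fun p : ι × J => Localization.Away (b p.2 p.1)) p)) ≫ h =
      Spec.map (CommRingCat.ofHom (algebraMap (A p.1) (Localization.Away (b p.2 p.1)))) ≫ f p.1 := by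
    intro p
    have := congrFun hg₀ p
    simp only [pointsPi] at this
    erw [reassoc_of% this, Sigma.ι_desc, IsOpenImmersion.lift_fac]
  let q : Spec (CommRingCat.of (AlgzPi.Q b)) ⟶ Spec (CommRingCat.of (∀ i, A i)) :=
    Spec.map (CommRingCat.ofHom (algebraMap (∀ i, A i) (AlgzPi.Q b)))
  haveI : Module.FaithfullyFlat (∀ i, A i) (AlgzPi.Q b) := AlgzPi.faithfullyFlat_Q b hb
  haveI : Flat q := by
    rw [HasRingHomProperty.Spec_iff (P := @Flat)]
    exact RingHom.flat_algebraMap_iff.mpr inferInstance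
  haveI : Surjective q := ⟨PrimeSpectrum.comap_surjective_of_faithfullyFlat⟩
  have hdesc : ∀ {Z : Scheme.{u}} (g₁ g₂ : Z ⟶ Spec (CommRingCat.of (AlgzPi.Q b))),
      g₁ ≫ q = g₂ ≫ q → g₁ ≫ h = g₂ ≫ h := by
    intro Z g₁ g₂ e
    suffices H : pullback.fst q q ≫ h = pullback.snd q q ≫ h by
      rw [← pullback.lift_fst g₁ g₂ e, Category.assoc, H, ← Category.assoc, pullback.lift_snd]
    rw [← cancel_epi (pullbackSpecIso (∀ i, A i) (AlgzPi.Q b) (AlgzPi.Q b)).inv,
      pullbackSpecIso_inv_fst_assoc, pullbackSpecIso_inv_snd_assoc]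
    haveI : IsIso (Spec.map (CommRingCat.ofHom (AlgzPi.toC b).toRingHom)) := by
      have : IsIso (CommRingCat.ofHom (AlgzPi.toC b).toRingHom) :=
        (ConcreteCategory.isIso_iff_bijective _).mpr (AlgzPi.toC_bijective b)
      infer_instance
    rw [← cancel_epi (Spec.map (CommRingCat.ofHom (AlgzPi.toC b).toRingHom))]
    apply pointsPi_injective (fun r : ι × (J × J) =>
      CommRingCat.of (Localization.Away (b r.2.1 r.1 * b r.2.2 r.1))) X
    funext r
    simp only [pointsPi]
    rw [← Spec.map_comp_assoc, ← Spec.map_comp_assoc, ← Spec.map_comp_assoc,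
      ← Spec.map_comp_assoc]
    simp only [← CommRingCat.ofHom_comp]
    have e1 : ((Pi.evalRingHom _ r).comp ((AlgzPi.toC b).toRingHom.comp
        Algebra.TensorProduct.includeLeftRingHom) :
          AlgzPi.Q b →+* Localization.Away (b r.2.1 r.1 * b r.2.2 r.1)) =
        (IsLocalization.Away.awayToAwayRight (b r.2.1 r.1) (b r.2.2 r.1)).comp
          (Pi.evalRingHom (fun p : ι × J => Localization.Away (b p.2 p.1)) (r.1, r.2.1)) := by
      ext x
      show AlgzPi.toC b (x ⊗ₜ[∀ i, A i] 1) r = _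
      rw [AlgzPi.toC, Algebra.TensorProduct.lift_tmul, map_one, mul_one]
      rfl
    have e2 : ((Pi.evalRingHom _ r).comp ((AlgzPi.toC b).toRingHom.comp
        (Algebra.TensorProduct.includeRight (R := ∀ i, A i) (A := AlgzPi.Q b)
          (B := AlgzPi.Q b)).toRingHom) :
          AlgzPi.Q b →+* Localization.Away (b r.2.1 r.1 * b r.2.2 r.1)) =
        (IsLocalization.Away.awayToAwayLeft (b r.2.2 r.1) (b r.2.1 r.1)).comp
          (Pi.evalRingHom (fun p : ι × J => Localization.Away (b p.2 p.1)) (r.1, r.2.2)) := by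
      ext x
      show AlgzPi.toC b (1 ⊗ₜ[∀ i, A i] x) r = _
      rw [AlgzPi.toC, Algebra.TensorProduct.lift_tmul, map_one, one_mul]
      rfl
    erw [e1, e2]
    rw [CommRingCat.ofHom_comp, CommRingCat.ofHom_comp, Spec.map_comp_assoc, Spec.map_comp_assoc]
    erw [hh (r.1, r.2.1), hh (r.1, r.2.2)]
    rw [← Spec.map_comp_assoc, ← Spec.map_comp_assoc, ← CommRingCat.ofHom_comp,
      ← CommRingCat.ofHom_comp]
    have k1 : (IsLocalization.Away.awayToAwayRight (b r.2.1 r.1) (b r.2.2 r.1) :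
        Localization.Away (b r.2.1 r.1) →+* Localization.Away (b r.2.1 r.1 * b r.2.2 r.1)).comp
        (algebraMap (A r.1) _) = algebraMap (A r.1) _ :=
      RingHom.ext fun x => IsLocalization.Away.awayToAwayRight_eq (b r.2.1 r.1) (b r.2.2 r.1) x
    have k2 : (IsLocalization.Away.awayToAwayLeft (b r.2.2 r.1) (b r.2.1 r.1) :
        Localization.Away (b r.2.2 r.1) →+* Localization.Away (b r.2.1 r.1 * b r.2.2 r.1)).comp
        (algebraMap (A r.1) _) = algebraMap (A r.1) _ :=
      RingHom.ext fun x => IsLocalization.Away.awayToAwayLeft_eq (b r.2.2 r.1) (b r.2.1 r.1) x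
    erw [k1, k2]
  refine ⟨EffectiveEpi.desc q h hdesc, fun i => ?_⟩
  refine Scheme.Cover.hom_ext (Scheme.affineOpenCoverOfSpanRangeEqTop
    (R := CommRingCat.of (A i)) (fun j : J => b j i) (hb i)).openCover _ _ fun j => ?_
  show Spec.map (CommRingCat.ofHom (algebraMap (A i) (Localization.Away (b j i)))) ≫ _ =
    Spec.map (CommRingCat.ofHom (algebraMap (A i) (Localization.Away (b j i)))) ≫ f i
  refine Eq.trans ?_ (hh (i, j))
  conv_rhs => rw [← EffectiveEpi.fac q h hdesc]
  rw [← Category.assoc, ← Category.assoc]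
  congr 1
  simp only [q, ← Spec.map_comp, ← CommRingCat.ofHom_comp]
  rfl

/-- Let `X` be a quasi-compact quasi-separated scheme and `A i` an arbitrary family of commutative
rings. Sending a morphism from the spectrum of the product ring to `X` to the family of its
composites with the morphisms `Spec (A i) ⟶ Spec (∏ A i)` induced by the projections is a bijection
onto the set of all families of morphisms `Spec (A i) ⟶ X`. (Both quasi-compactness and
quasi-separatedness of `X` are needed.) -/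
theorem result (X : Scheme.{u}) [CompactSpace X] [QuasiSeparatedSpace X]
    {ι : Type u} (A : ι → CommRingCat.{u}) :
    Function.Bijective (fun f : Spec (CommRingCat.of (∀ i, A i)) ⟶ X =>
      fun i : ι => Spec.map (CommRingCat.ofHom (Pi.evalRingHom (fun j => (A j : Type u)) i)) ≫ f) := by
  refine ⟨pointsPi_injective A X, fun f => ?_⟩
  obtain ⟨g, hg⟩ := surj X (fun i => (A i : Type u)) f
  exact ⟨g, funext hg⟩

end Groth.Agent.S17856
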