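import Groth.Statements.S17859
import Mathlib.RingTheory.Finiteness.Projective
import Mathlib.LinearAlgebra.Contraction
-- import your own Groth.Agent.* helpers here

set_option autoImplicit false
open CategoryTheory MonoidalCategory
universe u
open Algz

namespace Groth.Agent.S17859

/-- Over an affine scheme, that is for modules over a commutative ring `R`, a finitely generated
projective `R`-module `M`, viewed as an object of the monoidal category of `R`-modules (tensor
product over `R`), has a right dual. (The published statement is the equivalence, for quasi-coherent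
sheaves on a quasi-compact quasi-separated scheme, between being dualizable and being a vector
bundle; stated here is the affine case of the implication from vector bundle to dualizable. The
converse implication, that a module admitting a dual is finitely generated projective, is stated
separately and is not repeated here.) -/
theorem result (R : Type u) [CommRing R] (M : ModuleCat.{u} R)
    [Module.Finite R M] [Module.Projective R M] : Nonempty (HasRightDual M) := by
  obtain ⟨N, q, s, -, -, hqs⟩ := Module.Finite.exists_comp_eq_id_of_projective R M
  let x : Fin N → M := fun i => q (Pi.single i 1)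
  let φ : Fin N → Module.Dual R M := fun i => LinearMap.proj i ∘ₗ s
  have h1 : ∀ m : M, ∑ i, φ i m • x i = m := fun m => by
    conv_rhs => rw [← LinearMap.id_apply (R := R) (x := m), ← hqs, LinearMap.comp_apply, pi_eq_sum_univ' (s m), map_sum]
    simp [x, φ, map_smul]
  have h2 : ∀ ψ : Module.Dual R M, ∑ i, ψ (x i) • φ i = ψ := fun ψ => LinearMap.ext fun m => by
    conv_rhs => rw [← h1 m, map_sum]
    simp [map_smul, mul_comm]
  let coev : 𝟙_ (ModuleCat.{u} R) ⟶ M ⊗ ModuleCat.of R (Module.Dual R M) :=
    ModuleCat.ofHom (LinearMap.toSpanSingleton R _ (∑ i, (x i ⊗ₜ[R] φ i : TensorProduct R M (Module.Dual R M))))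
  let ev : ModuleCat.of R (Module.Dual R M) ⊗ M ⟶ 𝟙_ (ModuleCat.{u} R) := ModuleCat.ofHom (contractLeft R M)
  refine ⟨{ rightDual := ModuleCat.of R (Module.Dual R M), exact :=
    { coevaluation' := coev, evaluation' := ev, coevaluation_evaluation' := ?_, evaluation_coevaluation' := ?_ } }⟩
  · have hA : ∀ (ψ : Module.Dual R M) (c : R),
        LinearMap.rTensor (Module.Dual R M) (contractLeft R M)
          ((TensorProduct.assoc R (Module.Dual R M) M (Module.Dual R M)).symm
            (LinearMap.lTensor (Module.Dual R M)
              (LinearMap.toSpanSingleton R _ (∑ i, (x i ⊗ₜ[R] φ i : TensorProduct R M (Module.Dual R M))))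
              (ψ ⊗ₜ c))) = (1 : R) ⊗ₜ[R] (c • ψ) := fun ψ c => by
      conv_rhs => rw [← h2 ψ]
      simp [Finset.smul_sum, TensorProduct.tmul_sum, contractLeft_apply, TensorProduct.smul_tmul', map_sum,
        TensorProduct.tmul_smul, mul_comm]
    exact ModuleCat.hom_ext (TensorProduct.ext' hA)
  · have hB : ∀ (c : R) (m : M),
        LinearMap.lTensor M (contractLeft R M)
          (TensorProduct.assoc R M (Module.Dual R M) M
            (LinearMap.rTensor M
              (LinearMap.toSpanSingleton R _ (∑ i, (x i ⊗ₜ[R] φ i : TensorProduct R M (Module.Dual R M))))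
              (c ⊗ₜ m))) = (c • m) ⊗ₜ[R] (1 : R) := fun c m => by
      conv_rhs => rw [← h1 m]
      simp [Finset.smul_sum, TensorProduct.sum_tmul, contractLeft_apply, ← TensorProduct.smul_tmul', map_sum,
        smul_smul]
      refine Finset.sum_congr rfl fun i _ => ?_
      rw [mul_smul, ← TensorProduct.tmul_smul (φ i m) (x i) (1 : R), smul_eq_mul, mul_one]
    exact ModuleCat.hom_ext (TensorProduct.ext' hB)

end Groth.Agent.S17859
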