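import Groth.Statements.S17860
import Groth.Agent.GenCount.Basic
-- import your own Groth.Agent.* helpers here

set_option autoImplicit false
open CategoryTheory AlgebraicGeometry
universe u
open Algz

namespace Groth.Agent.S17860

/-- Let `R` be a commutative ring and `M` a finite `R`-module. Suppose `Spec R` is covered by opens `U
0, …, U (m-1)` (not necessarily affine) such that over each `U i` the restriction of the associated
sheaf of modules `M~` is a quotient of the free module of rank `n` (it is generated by `n` sections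
over `U i`). Then `M` is generated by `n * m` elements. -/
theorem result (R : CommRingCat.{u}) (M : ModuleCat.{u} R)
    [Module.Finite R M] (n m : ℕ) (U : Fin m → (Spec R).Opens) (hU : ⨆ i, U i = ⊤)
    (hgen : ∀ i, ∃ φ : FlatMod.freeMod (↑(U i)) n ⟶ (AlgebraicGeometry.tilde M).restrict (U i).ι, Epi φ) :
    ∃ s : Fin (n * m) → M, Submodule.span R (Set.range s) = ⊤ := by
  let Z : ℕ → Set (PrimeSpectrum R) := fun k => (⋃ (i : Fin m) (_ : k ≤ i.1), ((U i).1 : Set (PrimeSpectrum R)))ᶜ
  refine GenCount.exists_generators_of_strata_univ n Z (fun k => isClosed_compl_iff.2 (isOpen_iUnion fun i => isOpen_iUnion fun _ => (U i).isOpen)) ?_ m ?_ fun k hk I hI hsub => ?_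
  · simp only [Z, Nat.zero_le, Set.iUnion_true, Set.compl_empty_iff]
    refine Set.eq_univ_of_forall fun x => Set.mem_iUnion.2 ?_
    have hx : x ∈ (⊤ : (Spec R).Opens) := trivial
    rw [← hU] at hx
    exact TopologicalSpace.Opens.mem_iSup.1 hx
  · simp only [Z, Set.compl_univ_iff, Set.iUnion_eq_empty]
    exact fun i hi => absurd hi (by omega)
  · obtain ⟨φ, hφ⟩ := hgen ⟨k, hk⟩
    have hr : PrimeSpectrum.zeroLocus (I : Set R) ⊆ Set.range (U ⟨k, hk⟩).ι := fun x hx => by
      obtain ⟨h1, h2⟩ := hsub hx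
      simp only [Z, Set.mem_compl_iff, Set.mem_iUnion, not_exists, not_not] at h1 h2
      obtain ⟨i, hi, hxi⟩ : ∃ i : Fin m, k ≤ i.1 ∧ x ∈ (U i).carrier := by push Not at h2; exact h2
      obtain rfl : i = ⟨k, hk⟩ := Fin.ext (by by_contra hne; exact h1 i (by simp at hne ⊢; omega) hxi)
      exact (Scheme.Opens.range_ι (U ⟨k, hk⟩)).ge hxi
    obtain ⟨j, hj⟩ := GenCount.exists_factor R I hI (U ⟨k, hk⟩).ι hr
    exact GenCount.exists_generators_mod R M (U ⟨k, hk⟩).ι n (φ ≫ ((Scheme.Modules.restrictFunctorIsoPullback (U ⟨k, hk⟩).ι).app _).hom) I j hj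

end Groth.Agent.S17860
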