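import Groth.Statements.S17863
import Mathlib
-- import your own Groth.Agent.* helpers here

set_option autoImplicit false
open CategoryTheory AlgebraicGeometry
universe u
open Algz

namespace Groth.Agent.S17863

/-- Let `A` be a commutative ring which is `I`-adically complete for an ideal `I` and let `X` be a
quasi-affine scheme. Then the natural map from `X(A)` to compatible systems in the `X(A/I^n)` is
bijective: two morphisms `Spec A ⟶ X` with the same restriction to every `Spec (A/I^n)` are equal,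
and every family of morphisms `Spec (A/I^n) ⟶ X` compatible with the transition maps `Spec (A/I^n) ⟶
Spec (A/I^(n+1))` is the family of restrictions of a morphism `Spec A ⟶ X`. -/
theorem result (A : Type u) [CommRing A] (I : Ideal A) [IsAdicComplete I A]
    (X : Scheme.{u}) [X.IsQuasiAffine] :
    (∀ f g : Spec (CommRingCat.of A) ⟶ X,
      (∀ n : ℕ, Spec.map (CommRingCat.ofHom (Ideal.Quotient.mk (I ^ n))) ≫ f =
        Spec.map (CommRingCat.ofHom (Ideal.Quotient.mk (I ^ n))) ≫ g) → f = g) ∧
    (∀ e : ∀ n : ℕ, Spec (CommRingCat.of (A ⧸ I ^ n)) ⟶ X,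
      (∀ n : ℕ, Spec.map (CommRingCat.ofHom (Ideal.Quotient.factorPowSucc I n)) ≫ e (n + 1) = e n) →
      ∃ f : Spec (CommRingCat.of A) ⟶ X,
        ∀ n : ℕ, Spec.map (CommRingCat.ofHom (Ideal.Quotient.mk (I ^ n))) ≫ f = e n) := by
  let j := X.toSpecΓ
  refine ⟨fun f g h => ?_, fun e he => ?_⟩
  · refine (cancel_mono j).1 ?_
    obtain ⟨φ, hφ⟩ := Spec.map_surjective (f ≫ j)
    obtain ⟨ψ, hψ⟩ := Spec.map_surjective (g ≫ j)
    rw [← hφ, ← hψ]
    congr 1
    ext x
    have hn : ∀ n : ℕ, Ideal.Quotient.mk (I ^ n) (φ.hom x) = Ideal.Quotient.mk (I ^ n) (ψ.hom x) := by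
      intro n
      have h' : φ ≫ CommRingCat.ofHom (Ideal.Quotient.mk (I ^ n)) = ψ ≫ CommRingCat.ofHom (Ideal.Quotient.mk (I ^ n)) := by
        apply Spec.map_injective
        rw [Spec.map_comp, Spec.map_comp, hφ, hψ, ← Category.assoc, ← Category.assoc, h n]
      exact congrArg (fun F => F.hom x) h'
    refine sub_eq_zero.1 (IsHausdorff.haus (I := I) inferInstance _ fun n => ?_)
    rw [SModEq.zero, smul_eq_mul, Ideal.mul_top]
    exact (Ideal.Quotient.mk_eq_mk_iff_sub_mem _ _).1 (hn n)
  · choose φ hφ using fun n => Spec.map_surjective (e n ≫ j)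
    have hf : ∀ {m : ℕ}, (Ideal.Quotient.factorPow I (Nat.le_succ m)).comp (φ (m + 1)).hom = (φ m).hom := by
      intro m
      have h' : φ (m + 1) ≫ CommRingCat.ofHom (Ideal.Quotient.factorPowSucc I m) = φ m := by
        apply Spec.map_injective
        rw [Spec.map_comp, hφ, hφ, ← Category.assoc, he m]
      exact congrArg CommRingCat.Hom.hom h'
    let χ := IsAdicComplete.StrictMono.liftRingHom I (a := id) strictMono_id (fun n => (φ n).hom) hf
    have hχ : ∀ n, CommRingCat.ofHom χ ≫ CommRingCat.ofHom (Ideal.Quotient.mk (I ^ n)) = φ n := fun n =>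
      CommRingCat.hom_ext (IsAdicComplete.StrictMono.mk_comp_liftRingHom I (a := id) strictMono_id (fun n => (φ n).hom) hf)
    let g : Spec (CommRingCat.of A) ⟶ Spec Γ(X, ⊤) := Spec.map (CommRingCat.ofHom χ)
    have hg : ∀ n, Spec.map (CommRingCat.ofHom (Ideal.Quotient.mk (I ^ n))) ≫ g = e n ≫ j := fun n => by
      rw [← Spec.map_comp, hχ, hφ]
    have hrange : Set.range g ⊆ Set.range j := by
      rintro _ ⟨x, rfl⟩
      obtain ⟨m, hm, hxm⟩ := Ideal.exists_le_maximal x.asIdeal x.isPrime.ne_top
      let y : PrimeSpectrum A := ⟨m, hm.isPrime⟩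
      have hIm : I ^ 1 ≤ m := by
        rw [pow_one]
        exact (IsAdicComplete.le_jacobson_bot I).trans (sInf_le ⟨bot_le, hm⟩)
      have hy : y ∈ Set.range (PrimeSpectrum.comap (Ideal.Quotient.mk (I ^ 1))) := by
        rw [range_comap_of_surjective _ _ Ideal.Quotient.mk_surjective,
          Ideal.mk_ker, PrimeSpectrum.mem_zeroLocus]
        exact hIm
      obtain ⟨z, hz⟩ := hy
      have hgy : g y ∈ Set.range j := ⟨e 1 z, by
        rw [← Scheme.Hom.comp_apply, ← hg, Scheme.Hom.comp_apply]
        exact congrArg g hz⟩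
      exact (((PrimeSpectrum.le_iff_specializes x y).1 hxm).map g.continuous).mem_open j.isOpenEmbedding.isOpen_range hgy
    refine ⟨IsOpenImmersion.lift j g hrange, fun n => (cancel_mono j).1 ?_⟩
    rw [Category.assoc, IsOpenImmersion.lift_fac, hg]

end Groth.Agent.S17863
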