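import Groth.Statements.S17864
import Mathlib.RingTheory.Finiteness.Projective
-- import your own Groth.Agent.* helpers here

set_option autoImplicit false
universe u
open Algz

namespace Groth.Agent.S17864

/-- The full-faithfulness assertion. Let `A` be a commutative ring which is `I`-adically complete for an
ideal `I`, and `P`, `Q` finitely generated projective `A`-modules. An `A`-linear map `P → Q` is
determined by its reductions modulo the powers `I^n`, and every family of `A`-linear maps `P/I^n P →
Q/I^n Q` compatible with the transition maps is the family of reductions of an `A`-linear map `P →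
Q`. (The companion assertion, that compatible systems of finite projective modules over the rings
`A/I^n` lift to `A`, is not restated here.) -/
theorem result (A : Type u) [CommRing A] (I : Ideal A)
    [IsAdicComplete I A] (P Q : Type u) [AddCommGroup P] [Module A P] [Module.Finite A P]
    [Module.Projective A P] [AddCommGroup Q] [Module A Q] [Module.Finite A Q] [Module.Projective A Q] :
    (∀ f f' : P →ₗ[A] Q, (∀ n : ℕ, f.reduceModIdeal (I ^ n) = f'.reduceModIdeal (I ^ n)) → f = f') ∧
    (∀ g : ∀ n : ℕ, P ⧸ (I ^ n • ⊤ : Submodule A P) →ₗ[A] Q ⧸ (I ^ n • ⊤ : Submodule A Q),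
      (∀ n : ℕ, AdicCompletion.transitionMap I Q (Nat.le_succ n) ∘ₗ g (n + 1) =
        g n ∘ₗ AdicCompletion.transitionMap I P (Nat.le_succ n)) →
      ∃ f : P →ₗ[A] Q, ∀ n : ℕ, f.reduceModIdeal (I ^ n) = g n) := by
  obtain ⟨N, q, s, -, -, hqs⟩ := Module.Finite.exists_comp_eq_id_of_projective A Q
  have hqs' : ∀ y, q (s y) = y := LinearMap.congr_fun hqs
  have hcoord : ∀ (n : ℕ) (y : Q) (i : Fin N), y ∈ (I ^ n • ⊤ : Submodule A Q) → s y i ∈ I ^ n := fun n y i hy => by
    refine (Submodule.smul_le.2 fun c hc z _ => ?_ : (I ^ n • ⊤ : Submodule A Q) ≤ Submodule.comap (LinearMap.proj i ∘ₗ s) (I ^ n)) hy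
    show s (c • z) i ∈ I ^ n
    rw [map_smul, Pi.smul_apply, smul_eq_mul]
    exact Ideal.mul_mem_right _ _ hc
  have hback : ∀ (n : ℕ) (v : Fin N → A), (∀ i, v i ∈ I ^ n) → q v ∈ (I ^ n • ⊤ : Submodule A Q) := fun n v hv => by
    rw [pi_eq_sum_univ' v, map_sum]
    exact Submodule.sum_mem _ fun i _ => by rw [map_smul]; exact Submodule.smul_mem_smul (hv i) Submodule.mem_top
  have haus : ∀ y y' : Q, (∀ n, y - y' ∈ (I ^ n • ⊤ : Submodule A Q)) → y = y' := fun y y' h => by
    rw [← hqs' y, ← hqs' y']
    congr 1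
    funext i
    rw [← sub_eq_zero]
    refine IsHausdorff.haus' (I := I) _ fun n => ?_
    rw [SModEq.zero, smul_eq_mul, Ideal.mul_top]
    have := hcoord n _ i (h n)
    rwa [map_sub] at this
  refine ⟨fun f f' h => LinearMap.ext fun x => haus _ _ fun n => ?_, fun g hg => ?_⟩
  · exact (Submodule.Quotient.eq _).1 (LinearMap.congr_fun (h n) (Submodule.Quotient.mk x))
  have hlim : ∀ x : P, ∃ y : Q, ∀ n, (Submodule.Quotient.mk y : Q ⧸ (I ^ n • ⊤ : Submodule A Q)) = g n (Submodule.Quotient.mk x) := by
    intro x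
    choose y hy using fun n => Submodule.Quotient.mk_surjective _ (g n (Submodule.Quotient.mk x))
    have hstep : ∀ n, y (n + 1) - y n ∈ (I ^ n • ⊤ : Submodule A Q) := fun n => by
      rw [← Submodule.Quotient.eq, hy n]
      have h1 := LinearMap.congr_fun (hg n) (Submodule.Quotient.mk x)
      simp only [LinearMap.comp_apply] at h1
      rw [← hy (n + 1)] at h1
      exact h1
    have hcauchy : ∀ {m n : ℕ}, m ≤ n → y n - y m ∈ (I ^ m • ⊤ : Submodule A Q) := fun {m n} hmn => by
      induction n, hmn using Nat.le_induction with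
      | base => rw [sub_self]; exact zero_mem _
      | succ n hn ih =>
        rw [← sub_add_sub_cancel (y (n + 1)) (y n) (y m)]
        exact add_mem (Submodule.smul_mono_left (Ideal.pow_le_pow_right hn) (hstep n)) ih
    have hL : ∀ i, ∃ L : A, ∀ n, s (y n) i ≡ L [SMOD (I ^ n • ⊤ : Submodule A A)] := fun i =>
      IsPrecomplete.prec' _ fun {m n} hmn => by
        rw [SModEq.sub_mem, smul_eq_mul, Ideal.mul_top, ← neg_sub, neg_mem_iff]
        have := hcoord m _ i (hcauchy hmn)
        rwa [map_sub] at this
    choose L hL using hL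
    refine ⟨q L, fun n => ?_⟩
    rw [← hy n, Submodule.Quotient.eq, ← neg_sub, neg_mem_iff]
    conv => arg 2; arg 1; rw [← hqs' (y n)]
    rw [← map_sub]
    refine hback n _ fun i => ?_
    have := (SModEq.sub_mem.1 (hL i n))
    rwa [smul_eq_mul, Ideal.mul_top] at this
  choose F hF using hlim
  refine ⟨{ toFun := F, map_add' := fun x x' => haus _ _ fun n => ?_, map_smul' := fun c x => haus _ _ fun n => ?_ }, fun n => ?_⟩
  · rw [← Submodule.Quotient.eq, Submodule.Quotient.mk_add, hF, hF, hF, Submodule.Quotient.mk_add, map_add]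
  · rw [← Submodule.Quotient.eq, RingHom.id_apply, Submodule.Quotient.mk_smul, hF, hF, Submodule.Quotient.mk_smul, map_smul]
  · refine LinearMap.ext fun z => ?_
    obtain ⟨x, rfl⟩ := Submodule.Quotient.mk_surjective _ z
    exact hF x n

end Groth.Agent.S17864
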