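import Groth.Statements.S17865
import Mathlib.Topology.Constructible
import Mathlib.AlgebraicGeometry.Morphisms.QuasiSeparated
import Mathlib.AlgebraicGeometry.PullbackCarrier
import Mathlib.AlgebraicGeometry.Morphisms.Immersion
-- import your own Groth.Agent.* helpers here

set_option autoImplicit false
open CategoryTheory AlgebraicGeometry
universe u
open Algz

namespace Groth.Agent.S17865

/-- In the case of schemes. Let `f : U ⟶ Y` be a Nisnevich cover of length at most `m` of quasi-compact
quasi-separated schemes (an etale morphism together with a chain of `m` closed constructible subsets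
`∅ = Z_0 ⊆ ⋯ ⊆ Z_m = Y` such that `f` has a section over each `Z_(k+1) ∖ Z_k`), and `g : Y' ⟶ Y` a
morphism from a quasi-compact quasi-separated scheme. Then the base change `U ×_Y Y' ⟶ Y'` is a
Nisnevich cover of length at most `m`. (The original form is for quasi-compact quasi-separated
algebraic spaces; stated here for schemes.) -/
theorem result {U Y Y' : Scheme.{u}} (f : U ⟶ Y) (g : Y' ⟶ Y)
    [CompactSpace U] [QuasiSeparatedSpace U] [CompactSpace Y] [QuasiSeparatedSpace Y]
    [CompactSpace Y'] [QuasiSeparatedSpace Y'] (m : ℕ)
    (hf : W4c5algebraiztannaka.IsNisCoverLen f m) :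
    W4c5algebraiztannaka.IsNisCoverLen (Limits.pullback.snd f g) m := by
  obtain ⟨Z, h0, hm, hmono, hcc, hsec⟩ := hf.flag
  have := hf.etale
  have hg : QuasiCompact g := inferInstance
  refine ⟨inferInstance, fun k => g ⁻¹' (Z k), by simp [h0], by simp [hm],
    fun a b hab => Set.preimage_mono (hmono hab), fun k => ⟨(hcc k).1.preimage g.continuous, ?_⟩, ?_⟩
  · refine (hcc k).2.preimage g.continuous fun s hs hs' => ?_
    have h1 : IsCompact s := hs'.isCompact
    exact (g.isCompact_preimage (U := ⟨s, hs⟩) h1).isRetrocompact (hs.preimage g.continuous)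
  · intro k
    obtain ⟨T, h, s, hh, hr, hsh⟩ := hsec k
    have := hh
    refine ⟨Limits.pullback h g, Limits.pullback.snd h g,
      Limits.pullback.lift (Limits.pullback.fst h g ≫ s) (Limits.pullback.snd h g)
        (by rw [CategoryTheory.Category.assoc, hsh, Limits.pullback.condition]), inferInstance, ?_,
      Limits.pullback.lift_snd _ _ _⟩
    rw [show (Set.range fun t => Limits.pullback.snd h g t) = _ from AlgebraicGeometry.Scheme.Pullback.range_snd h g]
    exact congrArg (Set.preimage g) hr

end Groth.Agent.S17865
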