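import Groth.Statements.S17867
import Groth.Agent.GenCount.Basic
-- import your own Groth.Agent.* helpers here

set_option autoImplicit false
open CategoryTheory AlgebraicGeometry
universe u
open Algz

namespace Groth.Agent.S17867

/-- In the case of schemes. Let `R` be a commutative ring and `f : U ⟶ Spec R` a Nisnevich cover of
length at most `m`, with `U` a quasi-compact quasi-separated scheme, and let `M` be a finite
`R`-module. If the pullback `f^* M~` of the associated sheaf of modules is a quotient of the free
module of rank `N` on `U` (it is generated by `N` global sections), then `M` is generated by `N * m`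
elements. (Finite generation of `M` follows from the other hypotheses by faithfully flat descent and
is assumed here; the original form is for a Nisnevich cover by a quasi-compact quasi-separated
algebraic space, stated here for a scheme `U`.) -/
theorem result (R : CommRingCat.{u}) (M : ModuleCat.{u} R)
    [Module.Finite R M] {U : Scheme.{u}} [CompactSpace U] [QuasiSeparatedSpace U]
    (f : U ⟶ Spec R) (m N : ℕ) (hf : W4c5algebraiztannaka.IsNisCoverLen f m)
    (hgen : ∃ φ : FlatMod.freeMod U N ⟶ (Scheme.Modules.pullback f).obj (AlgebraicGeometry.tilde M), Epi φ) :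
    ∃ s : Fin (N * m) → M, Submodule.span R (Set.range s) = ⊤ := by
  obtain ⟨φ, hφ⟩ := hgen
  obtain ⟨Z, h0, hm, hmono, hcc, hsec⟩ := hf.flag
  refine GenCount.exists_generators_of_strata_univ N (fun k => Z ⟨min k m, by omega⟩) (fun k => (hcc _).1) ?_ m ?_ fun k hk I hI hsub => ?_
  · exact (congrArg Z (Fin.ext (by simp))).trans h0
  · exact (congrArg Z (Fin.ext (by simp))).trans hm
  · obtain ⟨T, g, s, hg, hr, hs⟩ := hsec ⟨k, hk⟩
    have hg' := hg
    have hr' : Set.range g = Z (Fin.succ ⟨k, hk⟩) \ Z (Fin.castSucc ⟨k, hk⟩) := hr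
    have e1 : (⟨min (k + 1) m, by omega⟩ : Fin (m + 1)) = Fin.succ ⟨k, hk⟩ := Fin.ext (by simp; omega)
    have e2 : (⟨min k m, by omega⟩ : Fin (m + 1)) = Fin.castSucc ⟨k, hk⟩ := Fin.ext (by simp; omega)
    replace hsub : PrimeSpectrum.zeroLocus (I : Set R) ⊆ (Z ⟨min (k + 1) m, by omega⟩ \ Z ⟨min k m, by omega⟩ : Set (Spec R)) := hsub
    rw [e1, e2, ← hr'] at hsub
    obtain ⟨j, hj⟩ := GenCount.exists_factor R I hI g hsub
    exact GenCount.exists_generators_mod R M f N φ I (j ≫ s) (by rw [Category.assoc, hs, hj])

end Groth.Agent.S17867
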