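import Groth.Statements.S17869
import Mathlib.Topology.Constructible
import Mathlib.AlgebraicGeometry.Morphisms.QuasiSeparated
import Mathlib.AlgebraicGeometry.IdealSheaf.Subscheme
import Mathlib.AlgebraicGeometry.Morphisms.Immersion
import Mathlib.Data.Fintype.Basic
-- import your own Groth.Agent.* helpers here

set_option autoImplicit false
open CategoryTheory AlgebraicGeometry
universe u
open Algz

namespace Groth.Agent.S17869

/-- In the case of schemes. Let `U` be a quasi-compact quasi-separated scheme and `V 0, …, V (k-1)`
quasi-compact open subschemes which cover `U`. Then the canonical morphism from the disjoint union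
`∐ V i` to `U` is a Nisnevich cover of length at most `k`. (The published example states more
generally that, for a Nisnevich cover of `Y` of length at most `m` with source `U`, the composite
from the disjoint union `∐ V i` to `Y` has length at most `m * k`; stated here is the case of the
identity of `U`, to which the published argument reduces, and the general bound follows by composing
Nisnevich covers. The original form is for quasi-compact quasi-separated algebraic spaces, with the
members of the cover quasi-compact; stated here for schemes.) -/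
theorem result {U : Scheme.{u}} [CompactSpace U] [QuasiSeparatedSpace U]
    (k : ℕ) (V : Fin k → U.Opens) (hV : ∀ i, IsCompact (V i : Set U)) (hcov : ⨆ i, V i = ⊤) :
    W4c5algebraiztannaka.IsNisCoverLen
      (Limits.Sigma.desc (fun i => (V i).ι) : (∐ fun i => ((V i : U.Opens) : Scheme.{u})) ⟶ U) k := by
  let Z : Fin (k + 1) → Set U := fun j => (⋃ i ∈ {i : Fin k | j.val ≤ i.val}, (V i : Set U))ᶜ
  have hop : ∀ j : Fin (k + 1), IsOpen (⋃ i ∈ {i : Fin k | j.val ≤ i.val}, (V i : Set U)) :=
    fun j => isOpen_biUnion fun i _ => (V i).2
  refine ⟨AlgebraicGeometry.IsZariskiLocalAtSource.sigmaDesc (fun i => inferInstance), Z, ?_, ?_, ?_, ?_, ?_⟩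
  · show (_ : Set U)ᶜ = ∅
    rw [Set.compl_empty_iff, Set.eq_univ_iff_forall]
    intro x
    have : x ∈ (⨆ i, V i : U.Opens) := by rw [hcov]; trivial
    obtain ⟨i, hi⟩ := TopologicalSpace.Opens.mem_iSup.1 this
    exact Set.mem_biUnion (show i ∈ {i : Fin k | (0 : Fin (k+1)).val ≤ i.val} by simp) hi
  · show (_ : Set U)ᶜ = Set.univ
    simp
  · intro a b hab
    exact Set.compl_subset_compl.2 (Set.biUnion_subset_biUnion_left fun i (hi : b.val ≤ i.val) =>
      le_trans (Fin.le_def.1 hab) hi)
  · intro j
    refine ⟨(hop j).isClosed_compl, Topology.IsConstructible.compl ?_⟩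
    exact ((Set.toFinite _).isCompact_biUnion fun i _ => hV i).isConstructible (hop j)
  · intro j
    have hsub : Z j.succ \ Z j.castSucc ⊆ (V j : Set U) := by
      rintro x ⟨h1, h2⟩
      simp only [Z, Set.mem_compl_iff, not_not, Set.mem_iUnion] at h1 h2
      obtain ⟨i, hi, hxi⟩ := h2
      by_cases hij : i = j
      · exact hij ▸ hxi
      · exfalso
        refine h1 ⟨i, ?_, hxi⟩
        have : i.val ≠ j.val := fun h => hij (Fin.ext h)
        simp only [Set.mem_setOf_eq, Fin.val_succ, Fin.val_castSucc] at hi ⊢
        omega
    let C : TopologicalSpace.Closeds ((V j : U.Opens) : Scheme.{u}) :=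
      ⟨(V j).ι ⁻¹' (Z j.succ), ((hop j.succ).isClosed_compl).preimage (V j).ι.continuous⟩
    let I := Scheme.IdealSheafData.vanishingIdeal C
    refine ⟨I.subscheme, I.subschemeι ≫ (V j).ι, I.subschemeι ≫ Limits.Sigma.ι
      (fun i => ((V i : U.Opens) : Scheme.{u})) j, inferInstance, ?_, ?_⟩
    · rw [show (Set.range fun t => (I.subschemeι ≫ (V j).ι) t) = (V j).ι '' Set.range I.subschemeι from by
        rw [← Set.range_comp]; rfl, AlgebraicGeometry.Scheme.IdealSheafData.range_subschemeι,
        AlgebraicGeometry.Scheme.IdealSheafData.coe_support_vanishingIdeal]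
      show (V j).ι '' ((V j).ι ⁻¹' Z j.succ) = _
      rw [Set.image_preimage_eq_inter_range, AlgebraicGeometry.Scheme.Opens.range_ι]
      ext x
      constructor
      · rintro ⟨h1, h2⟩
        refine ⟨h1, fun h => h ?_⟩
        exact Set.mem_biUnion (show j ∈ {i : Fin k | j.castSucc.val ≤ i.val} by simp) h2
      · exact fun h => ⟨h.1, hsub h⟩
    · rw [CategoryTheory.Category.assoc, Limits.Sigma.ι_desc]

end Groth.Agent.S17869
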