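import Groth.Statements.S17873
import Groth.Agent.Depth.SeqDepth
import Groth.Agent.Depth.CM
import Mathlib.RingTheory.Finiteness.Nakayama
-- import your own Groth.Agent.* helpers here

set_option autoImplicit false
universe u
open GRRSing

namespace Groth.Agent.S17873

/-- Let T be a Cohen–Macaulay Noetherian local ring, J a proper ideal of T, j the grade of J (the
J-depth of T, i.e. the supremum of the lengths of T-regular sequences inside J; a natural number
here) and c the minimal number of generators of J (equal to the dimension of J/𝔪J over the residue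
field). Then j ≤ c and there is a generating sequence t_1, …, t_c of J such that t_1, …, t_j is a
T-regular sequence. (The published statement does not exclude J = T; there c = 1 while the grade,
read as the depth of T, can exceed 1, so this row assumes J proper.) -/
theorem result {T : Type u} [CommRing T] [LocCoh.IsCohenMacaulayLocalRing T]
    (J : Ideal T) (hJ : J ≠ ⊤) (j : ℕ) (hj : LocCoh.idealDepth J T = j) :
    j ≤ Submodule.spanFinrank J ∧
      ∃ ts : List T, ts.length = Submodule.spanFinrank J ∧ Ideal.ofList ts = J ∧
        RingTheory.Sequence.IsRegular T (ts.take j) := by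
  classical
  have hm : J ≤ IsLocalRing.maximalIdeal T := IsLocalRing.le_maximalIdeal hJ
  have hne : J • (⊤ : Submodule T T) ≠ ⊤ := Groth.Agent.Depth.smul_top_ne_top_self hJ
  set c := Submodule.spanFinrank J with hc
  have key : ∀ k, k ≤ j → ∃ (ts : List T) (G : Finset T), ts.length = k ∧ (∀ x ∈ ts, x ∈ J) ∧
      RingTheory.Sequence.IsWeaklyRegular T ts ∧ k + G.card ≤ c ∧ Ideal.ofList ts ⊔ Ideal.span (G : Set T) = J := by
    intro k
    induction k with
    | zero =>
      intro _
      have hfg := J.fg_of_isNoetherianRing
      refine ⟨[], (Submodule.FG.finite_generators hfg).toFinset, rfl, by simp, .nil T T, ?_, ?_⟩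
      · rw [zero_add, ← Set.ncard_eq_toFinset_card _ (Submodule.FG.finite_generators hfg), Submodule.FG.generators_ncard hfg]
      · rw [Ideal.ofList_nil, bot_sup_eq, Set.Finite.coe_toFinset]
        exact Submodule.span_generators _
    | succ k ih =>
      intro hk
      obtain ⟨ts, G, hlen, hmem, hreg, hcard, hspan⟩ := ih (by omega)
      have hts : Ideal.ofList ts ≤ J := Groth.Agent.Depth.ofList_le hmem
      set I₀ := Ideal.ofList ts ⊔ IsLocalRing.maximalIdeal T * J with hI₀
      have hI₀J : I₀ ≠ J := by
        intro h
        have hJts : J ≤ Ideal.ofList ts :=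
          Submodule.le_of_le_smul_of_le_jacobson_bot (IsNoetherian.noetherian J)
            (IsLocalRing.maximalIdeal_le_jacobson ⊥) h.ge
        have h1 := Groth.Agent.Depth.idealDepth_ofList_le_length (M := T) ts fun x hx => hm (hmem x hx)
        rw [le_antisymm hts hJts, hj, hlen] at h1
        norm_cast at h1
        omega
      have hI₀le : I₀ ≤ J := sup_le hts Ideal.mul_le_right
      let s : Set (Ideal T) := insert I₀ (associatedPrimes T (T ⧸ Ideal.ofList ts • (⊤ : Submodule T T)))
      obtain ⟨x, hxJ, hx⟩ : ∃ x ∈ J, ∀ p ∈ s, x ∉ p := by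
        by_contra hcon
        push Not at hcon
        have hsub : (J : Set T) ⊆ ⋃ p ∈ s, (p : Set T) := fun x hx => by
          obtain ⟨p, hp, hxp⟩ := hcon x hx
          exact Set.mem_biUnion hp hxp
        obtain ⟨p, hp, hJp⟩ := (Ideal.subset_union_prime_finite ((associatedPrimes.finite T _).insert I₀) I₀ I₀
          (fun p hp h _ => by
            rcases hp with rfl | hp
            · exact absurd rfl h
            · exact hp.isPrime)).1 hsub
        rcases hp with rfl | hp
        · exact hI₀J (le_antisymm hI₀le hJp)
        · have h1 := Groth.Agent.Depth.idealDepth_quot_ofList_add_length ts T hreg hmem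
          have hne' : J • (⊤ : Submodule T (T ⧸ Ideal.ofList ts • (⊤ : Submodule T T))) ≠ ⊤ := by
            intro h
            rw [Groth.Agent.Depth.idealDepth_eq_top h, top_add, hj] at h1
            exact ENat.natCast_ne_top j h1.symm
          have h0 := (Groth.Agent.Depth.idealDepth_eq_zero_iff hne').2 ⟨p, hp, hJp⟩
          rw [h0, zero_add, hj, hlen] at h1
          norm_cast at h1
          omega
      have hxI₀ : x ∉ I₀ := hx I₀ (Set.mem_insert _ _)
      have hxreg : IsSMulRegular (T ⧸ Ideal.ofList ts • (⊤ : Submodule T T)) x := by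
        by_contra hc
        have : x ∈ ⋃ p ∈ associatedPrimes T (T ⧸ Ideal.ofList ts • (⊤ : Submodule T T)), (p : Set T) := by
          rw [biUnion_associatedPrimes_eq_compl_regular]; exact hc
        obtain ⟨p, hp, hxp⟩ := Set.mem_iUnion₂.1 this
        exact hx p (Set.mem_insert_of_mem _ hp) hxp
      obtain ⟨y, hy, z, hz, hyz⟩ := Submodule.mem_sup.1 (hspan.symm.le hxJ)
      obtain ⟨a, -, ha⟩ := Submodule.mem_span_finset.1 hz
      obtain ⟨g, hg, hgu⟩ : ∃ g ∈ G, IsUnit (a g) := by
        by_contra hc
        push Not at hc
        refine hxI₀ (hyz ▸ add_mem (Submodule.mem_sup_left hy) (Submodule.mem_sup_right ?_))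
        rw [← ha]
        exact sum_mem fun g hg => Ideal.mul_mem_mul ((IsLocalRing.mem_maximalIdeal _).2 (hc g hg))
          (hspan.le (Submodule.mem_sup_right (Ideal.subset_span hg)))
      refine ⟨ts ++ [x], G.erase g, by simp [hlen], ?_, ?_, ?_, ?_⟩
      · intro w hw
        rcases List.mem_append.1 hw with h | h
        · exact hmem w h
        · rw [List.mem_singleton.1 h]; exact hxJ
      · exact (RingTheory.Sequence.isWeaklyRegular_append_iff T ts [x]).2
          ⟨hreg, (RingTheory.Sequence.isWeaklyRegular_singleton_iff _ x).2 hxreg⟩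
      · have := Finset.card_erase_of_mem hg
        have := Finset.card_pos.2 ⟨g, hg⟩
        omega
      · rw [Ideal.ofList_append, Ideal.ofList_singleton]
        refine le_antisymm (sup_le (sup_le hts ((Ideal.span_singleton_le_iff_mem _).2 hxJ))
          ((Ideal.span_mono (Finset.coe_subset.2 (Finset.erase_subset g G))).trans (le_sup_right.trans hspan.le))) ?_
        conv_lhs => rw [← hspan]
        refine sup_le (le_sup_left.trans le_sup_left) (Ideal.span_le.2 fun w hw => ?_)
        by_cases hwg : w = g
        · subst hwg
          rw [← Finset.add_sum_erase G _ hg] at ha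
          obtain ⟨v, hv⟩ := hgu.exists_left_inv
          have hw' : w = v * (x - y - ∑ i ∈ G.erase w, a i • i) := by
            rw [← hyz, ← ha]
            simp only [smul_eq_mul]
            linear_combination (-w) * hv
          rw [SetLike.mem_coe]
          suffices h : v * (x - y - ∑ i ∈ G.erase w, a i • i) ∈
              Ideal.ofList ts ⊔ Ideal.span {x} ⊔ Ideal.span ((G.erase w : Finset T) : Set T) by rwa [← hw'] at h
          refine Ideal.mul_mem_left _ _ (sub_mem (sub_mem ?_ ?_) ?_)
          · exact Submodule.mem_sup_left (Submodule.mem_sup_right (Ideal.mem_span_singleton_self x))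
          · exact Submodule.mem_sup_left (Submodule.mem_sup_left hy)
          · exact Submodule.mem_sup_right (sum_mem fun i hi => Ideal.mul_mem_left _ _ (Ideal.subset_span hi))
        · exact Submodule.mem_sup_right (Ideal.subset_span (Finset.mem_erase.2 ⟨hwg, hw⟩))
  obtain ⟨ts, G, hlen, hmem, hreg, hcard, hspan⟩ := key j le_rfl
  refine ⟨by omega, ts ++ G.toList, ?_, ?_, ?_⟩
  · refine le_antisymm (by simp; omega) ?_
    have hJ' : J = Ideal.span ({r | r ∈ ts ++ G.toList} : Set T) := by
      rw [← hspan, Ideal.ofList, ← Ideal.span_union]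
      congr 1
      ext; simp
    rw [hc]
    conv_lhs => rw [hJ']
    refine (Submodule.spanFinrank_span_le_ncard_of_finite (List.finite_toSet _)).trans ?_
    rw [show {r | r ∈ ts ++ G.toList} = ↑(ts ++ G.toList).toFinset from by ext; simp, Set.ncard_coe_finset]
    exact List.toFinset_card_le _
  · rw [Ideal.ofList_append, show Ideal.ofList G.toList = Ideal.span (G : Set T) from by
      rw [Ideal.ofList]; congr 1; ext; simp, hspan]
  · rw [List.take_left' hlen]
    exact Groth.Agent.Depth.isRegular_of_isWeaklyRegular hne hreg hmem

end Groth.Agent.S17873
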