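import Groth.Statements.S17875
import Mathlib.RingTheory.Polynomial.Pochhammer
import Mathlib.Tactic.FieldSimp
import Mathlib.Tactic.Positivity
import Mathlib.Tactic.Ring
-- import your own Groth.Agent.* helpers here

set_option autoImplicit false
universe u
open Polynomial
open GRRSing

namespace Groth.Agent.S17875

/-- Let R be a commutative ℚ-algebra, r an element of R and δ a natural number with (r - 1) ^ (δ + 1) =
0. Write s(k, j) for the signed Stirling numbers of the first kind, the coefficients of x (x - 1) ⋯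
(x - k + 1) = Σ_j s(k, j) x ^ j. Then (i) for every natural number n, r ^ n = Σ_{k ≤ δ} [n (n - 1) ⋯
(n - k + 1) / k!] (r - 1) ^ k; and (ii) in the polynomial ring R[x], Σ_{k ≤ δ} [x (x - 1) ⋯ (x - k +
1) / k!] (r - 1) ^ k = Σ_{j ≤ δ} [Σ_{k ≤ δ} Σ_{u ≤ k} (-1) ^ (k - u) s(k, j) / (u! (k - u)!) · r ^
u] x ^ j. -/
theorem result {R : Type u} [CommRing R] [Algebra ℚ R]
    (r : R) (δ : ℕ) (hr : (r - 1) ^ (δ + 1) = 0) :
    (∀ n : ℕ, r ^ n = ∑ k ∈ Finset.range (δ + 1), ((descPochhammer ℚ k).eval (n : ℚ) / (k.factorial : ℚ)) • (r - 1) ^ k) ∧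
    (∑ k ∈ Finset.range (δ + 1), ((k.factorial : ℚ)⁻¹ • (descPochhammer R k * Polynomial.C ((r - 1) ^ k))) =
      ∑ j ∈ Finset.range (δ + 1), Polynomial.C (∑ k ∈ Finset.range (δ + 1), ∑ u ∈ Finset.range (k + 1),
        (((-1 : ℚ) ^ (k - u) * (((descPochhammer ℤ k).coeff j : ℤ) : ℚ)) / ((u.factorial * (k - u).factorial : ℕ) : ℚ)) • r ^ u) * Polynomial.X ^ j) := by
  classical
  have hbin : ∀ n : ℕ, r ^ n = ∑ k ∈ Finset.range (δ + 1), (n.choose k : R) * (r - 1) ^ k := fun n => by
    conv_lhs => rw [show r = (r - 1) + 1 by ring, add_pow]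
    simp only [one_pow, mul_one]
    refine ((Finset.sum_subset (Finset.range_mono (le_max_right (δ + 1) (n + 1))) fun k _ hk => by
        rw [Finset.mem_range, not_lt] at hk
        rw [Nat.choose_eq_zero_of_lt hk, Nat.cast_zero, mul_zero]).trans
      (Finset.sum_subset (Finset.range_mono (le_max_left (δ + 1) (n + 1))) fun k _ hk => by
        rw [Finset.mem_range, not_lt] at hk
        rw [pow_eq_zero_of_le hk hr, zero_mul]).symm).trans ?_
    exact Finset.sum_congr rfl fun k _ => mul_comm _ _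
  refine ⟨fun n => (hbin n).trans (Finset.sum_congr rfl fun k _ => ?_), ?_⟩
  · rw [Algebra.smul_def, ← Nat.cast_choose_eq_descPochhammer_div, map_natCast]
  ext j
  have hR : ∀ k, (descPochhammer R k).coeff j = (((descPochhammer ℤ k).coeff j : ℤ) : R) := fun k => by
    rw [← descPochhammer_map (Int.castRingHom R), Polynomial.coeff_map, eq_intCast]
  simp only [Polynomial.finset_sum_coeff, Polynomial.coeff_smul, Polynomial.coeff_mul_C, Polynomial.coeff_C_mul_X_pow]
  rw [Finset.sum_ite_eq (Finset.range (δ + 1)) j]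
  split_ifs with hj
  · refine Finset.sum_congr rfl fun k _ => ?_
    rw [hR, show r - 1 = r + (-1) by ring, add_pow, Finset.mul_sum, Finset.smul_sum]
    refine Finset.sum_congr rfl fun w hw => ?_
    have hwk : w ≤ k := Nat.lt_succ_iff.1 (Finset.mem_range.1 hw)
    have hq : ((k.choose w : ℕ) : ℚ) = (k.factorial : ℚ) / ((w.factorial * (k - w).factorial : ℕ) : ℚ) := by
      rw [eq_div_iff (by positivity), Nat.cast_mul, ← mul_assoc]
      exact_mod_cast Nat.choose_mul_factorial_mul_factorial hwk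
    rw [Algebra.smul_def, Algebra.smul_def, div_eq_mul_inv, map_mul, map_mul, map_pow, map_neg, map_one, map_intCast]
    have hk : algebraMap ℚ R (k.factorial : ℚ)⁻¹ * (k.choose w : R) = algebraMap ℚ R ((w.factorial * (k - w).factorial : ℕ) : ℚ)⁻¹ := by
      rw [← map_natCast (algebraMap ℚ R) (k.choose w), ← map_mul, hq]
      congr 1
      rw [div_eq_mul_inv, inv_mul_cancel_left₀ (Nat.cast_ne_zero.2 (Nat.factorial_ne_zero k))]
    rw [← hk]
    ring
  · refine Finset.sum_eq_zero fun k hk => ?_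
    rw [hR, Polynomial.coeff_eq_zero_of_natDegree_lt, Int.cast_zero, zero_mul, smul_zero]
    rw [descPochhammer_natDegree]
    simp only [Finset.mem_range] at hk hj
    omega

end Groth.Agent.S17875
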