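import Groth.Statements.S17878
import Mathlib.Analysis.SpecificLimits.Normed
import Mathlib.Data.Nat.Choose.Cast
-- import your own Groth.Agent.* helpers here

set_option autoImplicit false
universe u
open Filter Topology
open GRRSing

namespace Groth.Agent.S17878

/-- Let T be a nonzero commutative normed ℂ-algebra such that the map ℂ → T/nilradical(T) is surjective,
let P = Σ_j d_j x ^ j be a polynomial over T and put h_k = P(k). Let E_0, E_1, … be the rational
numbers with 2/(e^t + 1) = Σ_j E_j t ^ j / j! (so E_0 = 1, E_1 = -1/2). Then for every complex y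
with |y| < 1 the series Σ_k h_k y ^ k converges in T, and as y → -1 along real y in (-1, 1) its sum
tends to (1/2) Σ_j E_j d_j. (The published statement allows any norm topology on T as a complex
vector space; this row takes T a normed ℂ-algebra.) -/
theorem result {T : Type u} [NormedCommRing T] [NormedAlgebra ℂ T] [Nontrivial T]
    (hT : Function.Surjective (algebraMap ℂ (T ⧸ nilradical T)))
    (E : ℕ → ℚ) (hE : PowerSeries.mk (fun j => E j / (j.factorial : ℚ)) * (PowerSeries.exp ℚ + 1) = 2)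
    (P : Polynomial T) :
    (∀ y : ℂ, ‖y‖ < 1 → Summable (fun k : ℕ => y ^ k • P.eval (k : T))) ∧
    Tendsto (fun y : ℝ => ∑' k : ℕ, ((y : ℂ) ^ k) • P.eval (k : T)) (𝓝[Set.Ioo (-1 : ℝ) 1] (-1 : ℝ))
      (𝓝 ((2 : ℂ)⁻¹ • ∑ j ∈ Finset.range (P.natDegree + 1), ((E j : ℚ) : ℂ) • P.coeff j)) := by
  let S : ℕ → ℂ → ℂ := fun j y => ∑' k : ℕ, y ^ k * (k : ℂ) ^ j
  have hsum : ∀ (j : ℕ) (y : ℂ), ‖y‖ < 1 → Summable (fun k : ℕ => y ^ k * (k : ℂ) ^ j) := by
    intro j y hy
    simpa only [mul_comm] using summable_pow_mul_geometric_of_norm_lt_one (R := ℂ) j hy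
  have hterm : ∀ (y : ℂ) (k : ℕ), y ^ k • P.eval (k : T) =
      ∑ j ∈ Finset.range (P.natDegree + 1), (y ^ k * (k : ℂ) ^ j) • P.coeff j := by
    intro y k
    rw [Polynomial.eval_eq_sum_range, Finset.smul_sum]
    refine Finset.sum_congr rfl fun j _ => ?_
    rw [mul_smul]
    congr 1
    rw [Algebra.smul_def, map_pow, map_natCast, mul_comm]
  have hval : ∀ y : ℂ, ‖y‖ < 1 → HasSum (fun k : ℕ => y ^ k • P.eval (k : T))
      (∑ j ∈ Finset.range (P.natDegree + 1), S j y • P.coeff j) := by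
    intro y hy
    simp only [hterm y]
    exact hasSum_sum fun j _ => (hsum j y hy).hasSum.smul_const (P.coeff j)
  refine ⟨fun y hy => (hval y hy).summable, ?_⟩
  have hrec : ∀ (j : ℕ) (y : ℂ), ‖y‖ < 1 → (1 - y) * S j y =
      (0 : ℂ) ^ j + y * ∑ i ∈ Finset.range j, (Nat.choose j i : ℂ) * S i y := by
    intro j y hy
    have h1 : S j y = (0 : ℂ) ^ j + ∑' k : ℕ, y ^ (k + 1) * ((k + 1 : ℕ) : ℂ) ^ j := by
      show (∑' k : ℕ, y ^ k * (k : ℂ) ^ j) = _
      rw [(hsum j y hy).tsum_eq_zero_add]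
      simp
    have h2 : ∀ k : ℕ, y ^ (k + 1) * ((k + 1 : ℕ) : ℂ) ^ j =
        ∑ i ∈ Finset.range (j + 1), (y * (Nat.choose j i : ℂ)) * (y ^ k * (k : ℂ) ^ i) := by
      intro k
      push_cast
      rw [add_pow, Finset.mul_sum]
      refine Finset.sum_congr rfl fun i _ => ?_
      ring
    have h3 : (∑' k : ℕ, y ^ (k + 1) * ((k + 1 : ℕ) : ℂ) ^ j) =
        ∑ i ∈ Finset.range (j + 1), (y * (Nat.choose j i : ℂ)) * S i y := by
      rw [tsum_congr h2, Summable.tsum_finsetSum (fun i _ => (hsum i y hy).mul_left _)]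
      exact Finset.sum_congr rfl fun i _ => tsum_mul_left
    rw [h3, Finset.sum_range_succ, Nat.choose_self, Nat.cast_one, mul_one] at h1
    have h4 : ∑ i ∈ Finset.range j, (y * (Nat.choose j i : ℂ)) * S i y =
        y * ∑ i ∈ Finset.range j, (Nat.choose j i : ℂ) * S i y := by
      rw [Finset.mul_sum]
      exact Finset.sum_congr rfl fun i _ => by ring
    linear_combination h1 + h4
  have hErec : ∀ j : ℕ, 2 * E j = 2 * (0 : ℚ) ^ j - ∑ i ∈ Finset.range j, (Nat.choose j i : ℚ) * E i := by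
    intro j
    have h := congrArg (PowerSeries.coeff j) hE
    rw [mul_add, mul_one, map_add, PowerSeries.coeff_mul, Finset.Nat.sum_antidiagonal_eq_sum_range_succ_mk] at h
    have h2 : PowerSeries.coeff j (2 : PowerSeries ℚ) = 2 * (0 : ℚ) ^ j := by
      rw [← map_ofNat (PowerSeries.C : ℚ →+* PowerSeries ℚ) 2, PowerSeries.coeff_C]
      rcases j with _ | j <;> simp
    rw [h2] at h
    simp only [PowerSeries.coeff_mk, PowerSeries.coeff_exp, eq_ratCast, Rat.cast_id] at h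
    have hj : (j.factorial : ℚ) ≠ 0 := Nat.cast_ne_zero.mpr (Nat.factorial_ne_zero j)
    have h3 : (j.factorial : ℚ) * (∑ i ∈ Finset.range (j + 1),
        E i / (i.factorial : ℚ) * (1 / ((j - i).factorial : ℚ))) =
        ∑ i ∈ Finset.range (j + 1), (Nat.choose j i : ℚ) * E i := by
      rw [Finset.mul_sum]
      refine Finset.sum_congr rfl fun i hi => ?_
      rw [Nat.cast_choose ℚ (Nat.lt_succ_iff.mp (Finset.mem_range.mp hi))]
      field_simp
    rw [Finset.sum_range_succ, Finset.sum_range_succ _ j, Nat.choose_self, Nat.cast_one, one_mul] at h3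
    rw [Finset.sum_range_succ] at h
    have h4 : (j.factorial : ℚ) * (E j / (j.factorial : ℚ)) = E j := mul_div_cancel₀ _ hj
    have h5 : (j.factorial : ℚ) * (2 * (0 : ℚ) ^ j) = 2 * (0 : ℚ) ^ j := by
      rcases j with _ | j <;> simp
    linear_combination (j.factorial : ℚ) * h - h3 - h4 + h5
  have hl : ∀ᶠ y : ℝ in 𝓝[Set.Ioo (-1 : ℝ) 1] (-1 : ℝ), ‖(y : ℂ)‖ < 1 := by
    filter_upwards [self_mem_nhdsWithin] with y hy
    rw [Complex.norm_real, Real.norm_eq_abs, abs_lt]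
    exact hy
  have hlim : ∀ j : ℕ, Tendsto (fun y : ℝ => S j (y : ℂ)) (𝓝[Set.Ioo (-1 : ℝ) 1] (-1 : ℝ))
      (𝓝 ((2 : ℂ)⁻¹ * (E j : ℂ))) := by
    intro j
    induction j using Nat.strong_induction_on with
    | _ j ih =>
      have hy : Tendsto (fun y : ℝ => (y : ℂ)) (𝓝[Set.Ioo (-1 : ℝ) 1] (-1 : ℝ)) (𝓝 (-1 : ℂ)) := by
        have h := (Complex.continuous_ofReal.tendsto (-1 : ℝ)).mono_left
          (nhdsWithin_le_nhds (s := Set.Ioo (-1 : ℝ) 1))
        simpa using h
      have hR : Tendsto (fun y : ℝ => ((0 : ℂ) ^ j + (y : ℂ) * ∑ i ∈ Finset.range j, (Nat.choose j i : ℂ) * S i (y : ℂ)) * (1 - (y : ℂ))⁻¹)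
          (𝓝[Set.Ioo (-1 : ℝ) 1] (-1 : ℝ))
          (𝓝 (((0 : ℂ) ^ j + (-1) * ∑ i ∈ Finset.range j, (Nat.choose j i : ℂ) * ((2 : ℂ)⁻¹ * (E i : ℂ))) * (1 - (-1 : ℂ))⁻¹)) :=
        (tendsto_const_nhds.add (hy.mul (tendsto_finsetSum _ fun i hi =>
          (ih i (Finset.mem_range.mp hi)).const_mul _))).mul ((tendsto_const_nhds.sub hy).inv₀ (by norm_num))
      have hval2 : ((0 : ℂ) ^ j + (-1) * ∑ i ∈ Finset.range j, (Nat.choose j i : ℂ) * ((2 : ℂ)⁻¹ * (E i : ℂ))) * (1 - (-1 : ℂ))⁻¹ =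
          (2 : ℂ)⁻¹ * (E j : ℂ) := by
        have h := congrArg (fun q : ℚ => (q : ℂ)) (hErec j)
        push_cast at h
        have h2 : ∑ i ∈ Finset.range j, (Nat.choose j i : ℂ) * ((2 : ℂ)⁻¹ * (E i : ℂ)) =
            (2 : ℂ)⁻¹ * ∑ i ∈ Finset.range j, (Nat.choose j i : ℂ) * (E i : ℂ) := by
          rw [Finset.mul_sum]
          exact Finset.sum_congr rfl fun i _ => by ring
        rw [h2]
        norm_num
        linear_combination (-(1 : ℂ) / 4) * h
      rw [hval2] at hR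
      refine hR.congr' ?_
      filter_upwards [hl] with y hy
      rw [← hrec j _ hy, mul_comm (1 - (y : ℂ)), mul_assoc, mul_inv_cancel₀, mul_one]
      intro h
      rw [sub_eq_zero] at h
      rw [← h] at hy
      simp at hy
  refine Tendsto.congr' ?_ ?_ (f₁ := fun y : ℝ => ∑ j ∈ Finset.range (P.natDegree + 1), S j (y : ℂ) • P.coeff j)
  · filter_upwards [hl] with y hy
    exact (hval _ hy).tsum_eq.symm
  · rw [Finset.smul_sum]
    refine tendsto_finsetSum _ fun j _ => ?_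
    rw [← mul_smul]
    exact (hlim j).smul_const _

end Groth.Agent.S17878
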