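import Groth.Statements.S17881
import Mathlib.RingTheory.LocalRing.Basic
import Mathlib.RingTheory.Coprime.Basic
import Mathlib.Tactic.LinearCombination

set_option autoImplicit false
universe u
open CAlg

namespace Groth.Agent.S17881

/-- Let O be a subring of a nontrivial commutative ring A. The following are equivalent: (i) A is a
local ring, every non-unit of A belongs to O, and for every unit u of A one of u, u⁻¹ belongs to O —
equivalently O is the preimage in the local ring A of a valuation ring of the residue field of A,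
which makes O a semi-valuation ring with semi-fraction ring A; (ii) for all f, g in A generating the
unit ideal, either f ∈ gO or g ∈ fO. (A is taken nontrivial: over the zero ring (ii) holds and (i)
fails.) -/
theorem result (A : Type u) [CommRing A] [Nontrivial A]
    (O : Subring A) :
    (IsLocalRing A ∧ (∀ a : A, ¬ IsUnit a → a ∈ O) ∧ (∀ u : Aˣ, (u : A) ∈ O ∨ ((u⁻¹ : Aˣ) : A) ∈ O)) ↔
      ∀ f g : A, IsCoprime f g → (∃ o ∈ O, f = g * o) ∨ (∃ o ∈ O, g = f * o) := by
  constructor
  · rintro ⟨hloc, hnu, hu⟩ f g ⟨a, b, hab⟩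
    have key : ∀ f g : A, IsUnit f → (∃ o ∈ O, f = g * o) ∨ (∃ o ∈ O, g = f * o) := by
      intro f g hf
      by_cases hv : IsUnit ((↑hf.unit⁻¹ : A) * g)
      · rcases hu hv.unit with h | h
        · exact Or.inr ⟨_, h, by rw [IsUnit.unit_spec, ← mul_assoc, IsUnit.mul_val_inv, one_mul]⟩
        · refine Or.inl ⟨_, h, ?_⟩
          calc f = f * (((↑hf.unit⁻¹ : A) * g) * (↑hv.unit⁻¹ : A)) := by rw [IsUnit.mul_val_inv, mul_one]
            _ = (f * (↑hf.unit⁻¹ : A)) * (g * (↑hv.unit⁻¹ : A)) := by ring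
            _ = g * (↑hv.unit⁻¹ : A) := by rw [IsUnit.mul_val_inv, one_mul]
      · exact Or.inr ⟨_, hnu _ hv, by rw [← mul_assoc, IsUnit.mul_val_inv, one_mul]⟩
    rcases IsLocalRing.isUnit_or_isUnit_of_add_one hab with h | h
    · exact key f g (IsUnit.mul_iff.mp h).2
    · exact (key g f (IsUnit.mul_iff.mp h).2).symm
  · intro h
    refine ⟨IsLocalRing.of_isUnit_or_isUnit_one_sub_self fun a => ?_, fun a ha => ?_, fun u => ?_⟩
    · rcases h a (1 - a) ⟨1, 1, by ring⟩ with ⟨o, -, ho⟩ | ⟨o, -, ho⟩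
      · exact Or.inr (IsUnit.of_mul_eq_one (1 + o) (by linear_combination -ho))
      · exact Or.inl (IsUnit.of_mul_eq_one (1 + o) (by linear_combination -ho))
    · rcases h a 1 ⟨0, 1, by ring⟩ with ⟨o, ho, he⟩ | ⟨o, -, he⟩
      · rw [one_mul] at he; exact he ▸ ho
      · exact absurd (IsUnit.of_mul_eq_one o he.symm) ha
    · rcases h (u : A) 1 ⟨0, 1, by ring⟩ with ⟨o, ho, he⟩ | ⟨o, ho, he⟩
      · rw [one_mul] at he; exact Or.inl (he ▸ ho)
      · refine Or.inr ?_
        have : ((u⁻¹ : Aˣ) : A) = o := u.inv_eq_of_mul_eq_one_right he.symm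
        rw [this]; exact ho

end Groth.Agent.S17881
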