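import Groth.Statements.S17882
import Mathlib.LinearAlgebra.Matrix.Adjugate
import Mathlib.LinearAlgebra.Matrix.NonsingularInverse

set_option autoImplicit false
universe u
open CAlg

namespace Groth.Agent.S17882

/-- Let B be a commutative ring, r ≥ 1, N a finitely generated submodule of B^r, and n_1, …, n_r ∈ N.
Suppose the determinant of the matrix with rows n_1, …, n_r is a nonzerodivisor of B and that the
determinant of every matrix whose rows lie in N is a multiple of it (the image of the top exterior
power of N in that of B^r ≅ B is the principal ideal generated by n_1 ∧ ⋯ ∧ n_r, a nonzerodivisor).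
Then n_1, …, n_r are linearly independent over B and span N: N is free of rank r with this basis. -/
theorem result (B : Type u) [CommRing B] (r : ℕ) (hr : 0 < r)
    (N : Submodule B (Fin r → B)) (hN : N.FG) (n : Fin r → (Fin r → B)) (hn : ∀ i, n i ∈ N)
    (hgen : ∀ m : Fin r → (Fin r → B), (∀ i, m i ∈ N) →
      Matrix.det (Matrix.of m) ∈ Ideal.span {Matrix.det (Matrix.of n)})
    (hnzd : Matrix.det (Matrix.of n) ∈ nonZeroDivisors B) :
    LinearIndependent B n ∧ Submodule.span B (Set.range n) = N := by
  classical
  set D := Matrix.det (Matrix.of n) with hD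
  have cr : ∀ m : Fin r → B, D • m = ∑ i, ((Matrix.of n).updateRow i m).det • n i := by
    intro m
    have h1 := Matrix.mulVec_cramer (Matrix.of n).transpose m
    rw [Matrix.det_transpose] at h1
    rw [hD, ← h1]
    ext j
    simp [Matrix.mulVec, dotProduct, Matrix.cramer_apply, Matrix.updateCol_transpose, Matrix.det_transpose, mul_comm]
  have hli : LinearIndependent B n := by
    rw [Fintype.linearIndependent_iff]
    intro c hc i
    have h1 : Matrix.vecMul c (Matrix.of n) = 0 := by
      rw [← hc]; ext j; simp [Matrix.vecMul, dotProduct]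
    have h2 := congrArg (fun v => Matrix.vecMul v (Matrix.of n).adjugate) h1
    simp only [Matrix.vecMul_vecMul, Matrix.mul_adjugate, Matrix.vecMul_smul, Matrix.vecMul_one, Matrix.zero_vecMul] at h2
    exact (mem_nonZeroDivisors_iff_left.mp hnzd) _ (congrFun h2 i)
  refine ⟨hli, le_antisymm (Submodule.span_le.mpr (Set.range_subset_iff.mpr hn)) fun m hm => ?_⟩
  have hc : ∀ i, ∃ c, ((Matrix.of n).updateRow i m).det = c * D := by
    intro i
    have := hgen (Function.update n i m) (fun j => by
      by_cases h : j = i
      · subst h; simpa using hm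
      · simpa [h] using hn j)
    obtain ⟨c, hc⟩ := Ideal.mem_span_singleton'.mp this
    exact ⟨c, hc.symm⟩
  choose c hc using hc
  have : m = ∑ i, c i • n i := by
    ext j
    have h1 := congrFun (cr m) j
    simp only [hc, Pi.smul_apply, smul_eq_mul, Finset.sum_apply] at h1
    have h2 : D * (m j - ∑ i, c i * n i j) = 0 := by
      rw [mul_sub, h1, Finset.mul_sum, ← Finset.sum_sub_distrib]
      exact Finset.sum_eq_zero fun i _ => by ring
    simpa [sub_eq_zero, Finset.sum_apply] using (mem_nonZeroDivisors_iff_left.mp hnzd) _ h2
  rw [this]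
  exact Submodule.sum_mem _ fun i _ => Submodule.smul_mem _ _ (Submodule.subset_span ⟨i, rfl⟩)

end Groth.Agent.S17882
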