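import Groth.Statements.S17887
import Groth.Agent.ModPairLib.Prod
-- import your own Groth.Agent.* helpers here

set_option autoImplicit false
universe u
open CategoryTheory AlgebraicGeometry
open BlowUp

namespace Groth.Agent.S17887

/-- Let X be a Noetherian scheme, U ⊆ X an open subscheme that is schematically dense in X, I a
quasi-coherent ideal sheaf on X whose support does not meet U, and π : X' → X a blowing-up of X
along I. Then π⁻¹(U) is schematically dense in X'. -/
theorem result {X X' : Scheme.{u}} [IsNoetherian X]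
    (U : X.Opens) [IsSchemeTheoreticallyDominant U.ι] (𝓘 : X.IdealSheafData)
    (hU : Disjoint (𝓘.support : Set X) (U : Set X)) (π : X' ⟶ X) (hπ : BlowUp.IsBlowUp π 𝓘) :
    IsSchemeTheoreticallyDominant (π ⁻¹ᵁ U).ι := by
  open ModPairLib in
  let Ω := ModPair.interior 𝓘
  have hΩ : U ≤ Ω := fun x hx h => Set.disjoint_left.1 hU h hx
  haveI : QuasiCompact U.ι := inferInstance
  haveI : IsIso (π ∣_ Ω) := S1682.result 𝓘 π hπ
  haveI : IsSchemeTheoreticallyDominant (π ⁻¹ᵁ Ω).ι := by
    show IsSchemeTheoreticallyDominant (π ⁻¹ᵁ ModPair.interior 𝓘).ι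
    rw [← ModPairLib.interior_comap]; exact ModPairLib.std_interior hπ.1
  have hp : IsPullback (𝟙 (U : Scheme.{u})) (X.homOfLE hΩ) U.ι Ω.ι := by
    refine IsOpenImmersion.isPullback _ _ _ _ (by simp) ?_
    rw [Scheme.Opens.opensRange_ι, Scheme.opensRange_homOfLE]
  haveI : IsSchemeTheoreticallyDominant (X.homOfLE hΩ) := IsSchemeTheoreticallyDominant.of_isPullback hp
  haveI : QuasiCompact (X.homOfLE hΩ) := MorphismProperty.of_isPullback hp inferInstance
  have hle : π ⁻¹ᵁ U ≤ π ⁻¹ᵁ Ω := π.preimage_mono hΩ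
  haveI : IsSchemeTheoreticallyDominant (X'.homOfLE hle) := by
    refine IsSchemeTheoreticallyDominant.of_isPullback (f := X.homOfLE hΩ) (g := π ∣_ Ω)
      (pX := π ∣_ U) ?_
    exact IsPullback.of_bot (v₁₂ := X.homOfLE hΩ) (v₂₂ := Ω.ι)
      (v₁₁ := X'.homOfLE hle) (v₂₁ := (π ⁻¹ᵁ Ω).ι)
      (by rw [X'.homOfLE_ι, X.homOfLE_ι]; exact isPullback_morphismRestrict π U)
      (by rw [← cancel_mono Ω.ι]; simp)
      (isPullback_morphismRestrict π Ω)
  rw [← X'.homOfLE_ι hle]
  infer_instance

end Groth.Agent.S17887
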