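import Groth.Statements.S17889
import Groth.Agent.StrictTf.Basic
-- import your own Groth.Agent.* helpers here

set_option autoImplicit false
universe u
open CategoryTheory AlgebraicGeometry TopologicalSpace
open BlowUp

namespace Groth.Agent.S17889

/-- Let X be a Noetherian scheme, X₀ ⊆ X an open subscheme, p : Z → X a morphism of finite type with Z
Noetherian, and F ⊆ X, G ⊆ Z closed subsets with p⁻¹(F ∩ X₀) ∩ G = ∅. Let a be a quasi-coherent
ideal sheaf on X whose support does not meet X₀, which contains the vanishing ideal I_F of F, and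
which is contained in the kernel ideal of V(I_F·O_Z + I_G) → Z → X (the ideal of the
scheme-theoretic image under p of p⁻¹(F) ∩ G). Let π : X' → X be a blowing-up along a, Z' = Z ×_X X'
with projections π' : Z' → Z and p' : Z' → X'. Then p'⁻¹ of the closure in X' of π⁻¹(F ∩ X₀) is
disjoint from the closure in Z' of π'⁻¹(G ∩ p⁻¹(X₀)). Taking a to be that kernel ideal shows such an
a exists. -/
theorem result
    {X Z : Scheme.{u}} [IsNoetherian X] [IsNoetherian Z] (p : Z ⟶ X) [LocallyOfFiniteType p]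
    (X₀ : X.Opens) (F : Closeds X) (G : Closeds Z)
    (hFG : p.base ⁻¹' ((F : Set X) ∩ (X₀ : Set X)) ∩ (G : Set Z) = ∅)
    (𝔞 : X.IdealSheafData) (h₁ : Disjoint (𝔞.support : Set X) (X₀ : Set X))
    (h₂ : Scheme.IdealSheafData.vanishingIdeal F ≤ 𝔞)
    (h₃ : 𝔞 ≤ (((Scheme.IdealSheafData.vanishingIdeal F).comap p ⊔
      Scheme.IdealSheafData.vanishingIdeal G).subschemeι ≫ p).ker)
    {X' : Scheme.{u}} (π : X' ⟶ X) (hπ : BlowUp.IsBlowUp π 𝔞) :
    (Limits.pullback.snd p π).base ⁻¹' closure (π.base ⁻¹' ((F : Set X) ∩ (X₀ : Set X))) ∩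
      closure ((Limits.pullback.fst p π).base ⁻¹' ((G : Set Z) ∩ (p ⁻¹ᵁ X₀ : Set Z))) = ∅ := by
  open CategoryTheory.Limits in
  refine Set.eq_empty_iff_forall_notMem.2 fun z hzmem => ?_
  obtain ⟨hzF, hzG⟩ := hzmem
  let φ := Limits.pullback.snd p π
  let π' := Limits.pullback.fst p π
  have hcond : π' ≫ p = φ ≫ π := Limits.pullback.condition
  obtain ⟨V₀, V', W, hV'V, hW, e, hzW, he⟩ := StrictTf.exists_chart π 𝔞 hπ.1 φ z
  let S : Set X' := π.base ⁻¹' ((F : Set X) ∩ (X₀ : Set X))
  have hsF : F ≤ (Scheme.IdealSheafData.vanishingIdeal F).support :=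
    Scheme.IdealSheafData.le_support_iff_le_vanishingIdeal.2 le_rfl
  have hS : ∀ u ∈ S, π u ∈ (Scheme.IdealSheafData.vanishingIdeal F).support ∧ π u ∉ 𝔞.support := fun u hu =>
    ⟨hsF hu.1, fun h => Set.disjoint_left.1 h₁ h hu.2⟩
  let M := StrictTf.vanishAt W.1 hzW
  let ψ := (φ.appLE V'.1 W.1 hW).hom
  let ε := ψ e
  have hA : ((Scheme.IdealSheafData.vanishingIdeal F).comap (π' ≫ p)).ideal W ≤ Ideal.span {ε} * M := by
    rw [hcond]
    exact StrictTf.comap_le_span_mul π φ _ _ h₂ S hS V' he W hW hzW hzF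
  let D := (Scheme.IdealSheafData.vanishingIdeal F).comap p ⊔ Scheme.IdealSheafData.vanishingIdeal G
  have hD : 𝔞.comap p ≤ D := by
    refine Scheme.IdealSheafData.le_map_iff_comap_le.1 ((h₃.trans ?_))
    rw [show D = ((Scheme.IdealSheafData.vanishingIdeal F).comap p ⊔ Scheme.IdealSheafData.vanishingIdeal G) from rfl]
    exact le_of_eq rfl
  have heW : ε ∈ (D.comap π').ideal W := by
    have hD' : (𝔞.comap p).comap π' ≤ D.comap π' := Scheme.IdealSheafData.comap_mono (f := π') hD
    refine hD' W ?_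
    rw [← Scheme.IdealSheafData.comap_comp, hcond, Scheme.IdealSheafData.comap_comp,
      FpqcDescent.ideal_comap _ φ V' W hW, he]
    exact Ideal.mem_map_of_mem _ (Ideal.mem_span_singleton_self e)
  rw [Scheme.IdealSheafData.comap_sup, ← Scheme.IdealSheafData.comap_comp, Scheme.IdealSheafData.ideal_sup,
    Pi.sup_apply] at heW
  obtain ⟨m, hm, k, hk, hmk⟩ := Submodule.mem_sup.1 heW
  obtain ⟨μ, hμ, rfl⟩ := Ideal.mem_span_singleton_mul.1 (hA hm)
  have hh : z ∉ (Limits.pullback p π).basicOpen (1 - μ) := by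
    refine StrictTf.notMem_basicOpen_closure (fun w hw hwW hwb => ?_) hzG
    refine StrictTf.notMem_basicOpen ((Scheme.IdealSheafData.vanishingIdeal G).comap π') W hk (x := w) ?_ ?_
    · rw [Scheme.IdealSheafData.support_comap]
      show π' w ∈ (Scheme.IdealSheafData.vanishingIdeal G).support
      exact (Scheme.IdealSheafData.le_support_iff_le_vanishingIdeal.2 le_rfl : G ≤ (Scheme.IdealSheafData.vanishingIdeal G).support) hw.1
    · have e3 : k = ε * (1 - μ) := by linear_combination hmk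
      rw [e3, Scheme.basicOpen_mul]
      refine ⟨(StrictTf.mem_basicOpen_appLE hW e hwW).2
        (StrictTf.mem_basicOpen_of_notMem_support _ V' he (hW hwW) ?_), hwb⟩
      rw [Scheme.IdealSheafData.support_comap]
      show π (φ w) ∉ 𝔞.support
      intro hs
      refine Set.disjoint_left.1 h₁ hs ?_
      rw [← Scheme.Hom.comp_apply φ π, ← hcond, Scheme.Hom.comp_apply]
      exact hw.2
  have h1 : (1 : Γ(Limits.pullback p π, W.1)) ∈ M := by
    rw [show (1 : Γ(Limits.pullback p π, W.1)) = (1 - μ) + μ by ring]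
    exact add_mem ((StrictTf.mem_vanishAt hzW).2 hh) hμ
  exact (StrictTf.vanishAt_isPrime W.1 hzW).ne_top ((Ideal.eq_top_iff_one _).2 h1)

end Groth.Agent.S17889
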