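import Mathlib
import Groth.Statements.S17897
-- import your own Groth.Agent.* helpers here

set_option autoImplicit false
set_option backward.isDefEq.respectTransparency false
set_option backward.isDefEq.respectTransparency.types false
universe u
open CategoryTheory AlgebraicGeometry
open ValCrit

namespace Groth.Agent.S17897

/-- Let f : Y → X be a morphism of schemes (not assumed separated), R a valuation ring with fraction
field K, and i : Spec K → Y, φ : Spec R → X with i ≫ f = (Spec K → Spec R) ≫ φ. Let y be the point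
of Y hit by i and g : κ(y) → K the induced embedding, R' = g⁻¹(R) the induced valuation ring of κ(y)
and ρ : R' → R the restriction of g. Then φ factors uniquely through Spec R → Spec R': there is a
unique φ' : Spec R' → X with (Spec ρ) ≫ φ' = φ whose restriction to the generic point Spec κ(y) is
the canonical morphism Spec κ(y) → Y followed by f. (Here y and g are given as data with Spec g
followed by Spec κ(y) → Y equal to i, and ρ as data by its defining equation.) -/
theorem result {X Y : Scheme.{u}} (f : Y ⟶ X)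
    (K : Type u) [Field K] (R : ValuationSubring K)
    (i : Spec (CommRingCat.of K) ⟶ Y) (φ : Spec (CommRingCat.of ↥R) ⟶ X)
    (w : Spec.map (CommRingCat.ofHom R.subtype) ≫ φ = i ≫ f)
    (y : Y) (g : Y.residueField y ⟶ CommRingCat.of K) (hg : Spec.map g ≫ Y.fromSpecResidueField y = i)
    (ρ : ↥(R.comap g.hom) →+* ↥R)
    (hρ : ∀ x : ↥(R.comap g.hom), ((ρ x : ↥R) : K) = g.hom (x : ↑(Y.residueField y))) :
    ∃! φ' : Spec (CommRingCat.of ↥(R.comap g.hom)) ⟶ X,
      Spec.map (CommRingCat.ofHom ρ) ≫ φ' = φ ∧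
      Spec.map (CommRingCat.ofHom (R.comap g.hom).subtype) ≫ φ' = Y.fromSpecResidueField y ≫ f := by
  let x : X := φ (IsLocalRing.closedPoint ↥R)
  haveI : IsLocalHom ρ := by
    refine ⟨fun a ha => ?_⟩
    obtain ⟨v, hv⟩ := ha
    have h1 : g.hom (a : ↑(Y.residueField y)) ≠ 0 := by
      rw [← hρ, ← hv]; exact fun h => v.ne_zero (Subtype.ext h)
    have hmem : (a : ↑(Y.residueField y))⁻¹ ∈ R.comap g.hom := by
      show g.hom _ ∈ R
      rw [map_inv₀, ← hρ, ← hv]
      have hval : ((v⁻¹ : (↥R)ˣ) : ↥R).1 = ((v : ↥R).1)⁻¹ :=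
        eq_inv_of_mul_eq_one_left (congrArg Subtype.val v.inv_mul)
      exact hval ▸ ((v⁻¹ : (↥R)ˣ) : ↥R).2
    exact IsUnit.of_mul_eq_one ⟨_, hmem⟩ (Subtype.ext (mul_inv_cancel₀ fun h => h1 (by rw [h, map_zero])))
  have hclosed : Spec.map (CommRingCat.ofHom ρ) (IsLocalRing.closedPoint ↥R) =
      IsLocalRing.closedPoint ↥(R.comap g.hom) := Spec_closedPoint
  have hfy : f y ⤳ x := by
    let p : ↥(Spec (CommRingCat.of K)) := (⊥ : PrimeSpectrum K)
    have h1 := congrArg (fun l : Spec (CommRingCat.of K) ⟶ X => l p) w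
    simp only [← hg, Scheme.Hom.comp_apply, Scheme.fromSpecResidueField_apply] at h1
    rw [← h1]
    exact ((PrimeSpectrum.le_iff_specializes (R := ↥R) _ _).1 (IsLocalRing.le_maximalIdeal
      (PrimeSpectrum.isPrime _).ne_top)).map φ.continuous
  let c : X.presheaf.stalk x ⟶ Y.residueField y := X.presheaf.stalkSpecializes hfy ≫ f.stalkMap y ≫ Y.residue y
  have hc : Spec.map c ≫ X.fromSpecStalk x = Y.fromSpecResidueField y ≫ f := by
    simp only [c, Spec.map_comp, Category.assoc, Scheme.SpecMap_stalkSpecializes_fromSpecStalk,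
      Scheme.SpecMap_stalkMap_fromSpecStalk]
    rfl
  let ψ : X.presheaf.stalk x ⟶ CommRingCat.of ↥R := Scheme.stalkClosedPointTo φ
  have hψ : Spec.map ψ ≫ X.fromSpecStalk x = φ := Scheme.Spec_stalkClosedPointTo_fromSpecStalk φ
  have heq : ψ ≫ CommRingCat.ofHom R.subtype = c ≫ g := by
    refine Spec.map_injective ((cancel_mono (X.fromSpecStalk x)).1 ?_)
    rw [Spec.map_comp, Spec.map_comp, Category.assoc, Category.assoc, hψ, hc, w, ← hg, Category.assoc]
  have hmem : ∀ a, c.hom a ∈ R.comap g.hom := fun a => by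
    show g.hom (c.hom a) ∈ R
    rw [← CommRingCat.comp_apply, ← heq]
    exact (ψ.hom a).2
  let ψ' : X.presheaf.stalk x ⟶ CommRingCat.of ↥(R.comap g.hom) :=
    CommRingCat.ofHom (c.hom.codRestrict (R.comap g.hom).toSubring hmem)
  refine ⟨Spec.map ψ' ≫ X.fromSpecStalk x, ⟨?_, ?_⟩, ?_⟩
  · rw [← Spec.map_comp_assoc]
    conv_rhs => rw [← hψ]
    congr 2
    ext a
    refine (hρ (ψ'.hom a)).trans ?_
    exact (congr($(heq).hom a)).symm
  · rw [← Spec.map_comp_assoc]
    exact hc
  · rintro φ' ⟨h1, h2⟩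
    have key : ∀ (p : X), φ' (IsLocalRing.closedPoint ↥(R.comap g.hom)) = p →
        ∃ m : X.presheaf.stalk p ⟶ CommRingCat.of ↥(R.comap g.hom), Spec.map m ≫ X.fromSpecStalk p = φ' := by
      rintro p rfl; exact ⟨_, Scheme.Spec_stalkClosedPointTo_fromSpecStalk φ'⟩
    obtain ⟨m, hm⟩ := key x (by rw [← hclosed, ← Scheme.Hom.comp_apply, h1])
    have h3 : m ≫ CommRingCat.ofHom (R.comap g.hom).subtype = c := by
      refine Spec.map_injective ((cancel_mono (X.fromSpecStalk x)).1 ?_)
      rw [Spec.map_comp, Category.assoc, hm, hc, h2]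
    rw [← hm]
    congr 2
    ext a
    exact congr($(h3).hom a)

end Groth.Agent.S17897
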