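import Mathlib
import Groth.Statements.S17898
-- import your own Groth.Agent.* helpers here

set_option autoImplicit false
set_option backward.isDefEq.respectTransparency false
set_option backward.isDefEq.respectTransparency.types false
universe u
open CategoryTheory AlgebraicGeometry
open ValCrit

namespace Groth.Agent.S17898

/-- Let f : Y → X be a morphism of schemes (not assumed separated), K a field with valuation rings R ⊆
R' (inclusion ι), i : Spec K → Y and φ : Spec R → X a commutative square over f, and g : Spec R' → Y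
a lift of Spec R' → Spec R → X restricting to i on Spec K. Let K̃ be the residue field of R', R̃ ⊆
K̃ the image of R (a valuation ring of K̃) with the surjection σ : R → R̃. Then every h̃ : Spec R̃ →
Y whose restriction to Spec K̃ is Spec K̃ → Spec R' → Y (via g) and which lies over Spec R̃ → Spec R
→ X is induced by a unique h : Spec R → Y compatible with the whole diagram: h restricts to i on
Spec K, lies over φ, restricts to g along Spec R' → Spec R and to h̃ along Spec R̃ → Spec R. (ι, R̃,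
σ are given as data pinned by their defining equations.) -/
theorem result {X Y : Scheme.{u}} (f : Y ⟶ X)
    (K : Type u) [Field K] (R R' : ValuationSubring K) (hRR' : R ≤ R')
    (ι : ↥R →+* ↥R') (hι : ∀ x : ↥R, ((ι x : ↥R') : K) = (x : K))
    (i : Spec (CommRingCat.of K) ⟶ Y) (φ : Spec (CommRingCat.of ↥R) ⟶ X)
    (w : Spec.map (CommRingCat.ofHom R.subtype) ≫ φ = i ≫ f)
    (g : Spec (CommRingCat.of ↥R') ⟶ Y) (hg₁ : Spec.map (CommRingCat.ofHom R'.subtype) ≫ g = i)
    (hg₂ : g ≫ f = Spec.map (CommRingCat.ofHom ι) ≫ φ)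
    (Rt : ValuationSubring (IsLocalRing.ResidueField ↥R')) (σ : ↥R →+* ↥Rt) (hσs : Function.Surjective σ)
    (hσ : ∀ x : ↥R, ((σ x : ↥Rt) : IsLocalRing.ResidueField ↥R') = IsLocalRing.residue ↥R' (ι x))
    (ht : Spec (CommRingCat.of ↥Rt) ⟶ Y)
    (hht₁ : Spec.map (CommRingCat.ofHom Rt.subtype) ≫ ht =
      Spec.map (CommRingCat.ofHom (IsLocalRing.residue ↥R')) ≫ g)
    (hht₂ : ht ≫ f = Spec.map (CommRingCat.ofHom σ) ≫ φ) :
    ∃! h : Spec (CommRingCat.of ↥R) ⟶ Y, Spec.map (CommRingCat.ofHom R.subtype) ≫ h = i ∧ h ≫ f = φ ∧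
      Spec.map (CommRingCat.ofHom ι) ≫ h = g ∧ Spec.map (CommRingCat.ofHom σ) ≫ h = ht := by
  have fac : ∀ {W : Scheme.{u}} {A : CommRingCat.{u}} [IsLocalRing A] (l : Spec A ⟶ W) (p : W),
      l (IsLocalRing.closedPoint A) = p → ∃ m : W.presheaf.stalk p ⟶ A, Spec.map m ≫ W.fromSpecStalk p = l := by
    rintro W A _ l p rfl; exact ⟨_, Scheme.Spec_stalkClosedPointTo_fromSpecStalk l⟩
  let x₀ : Y := ht (IsLocalRing.closedPoint ↥Rt)
  let z : Y := g (IsLocalRing.closedPoint ↥R')
  obtain ⟨a, ha⟩ := fac (A := CommRingCat.of ↥R') g z rfl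
  obtain ⟨b, hb⟩ := fac (A := CommRingCat.of ↥Rt) ht x₀ rfl
  have hzx : z ⤳ x₀ := by
    let q : ↥(Spec (CommRingCat.of (IsLocalRing.ResidueField ↥R'))) := IsLocalRing.closedPoint (IsLocalRing.ResidueField ↥R')
    have h1 := congrArg (fun l : Spec (CommRingCat.of (IsLocalRing.ResidueField ↥R')) ⟶ Y => l q) hht₁
    simp only [Scheme.Hom.comp_apply] at h1
    haveI : IsLocalHom (CommRingCat.ofHom (IsLocalRing.residue ↥R')).hom :=
      inferInstanceAs (IsLocalHom (IsLocalRing.residue ↥R'))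
    have h2 : Spec.map (CommRingCat.ofHom (IsLocalRing.residue ↥R')) q = IsLocalRing.closedPoint ↥R' := Spec_closedPoint
    rw [h2] at h1
    show g _ ⤳ _
    rw [← h1]
    exact ((PrimeSpectrum.le_iff_specializes (R := ↥Rt) _ _).1 (IsLocalRing.le_maximalIdeal
      (PrimeSpectrum.isPrime _).ne_top)).map ht.continuous
  let c : Y.presheaf.stalk x₀ ⟶ CommRingCat.of ↥R' := Y.presheaf.stalkSpecializes hzx ≫ a
  have hc : Spec.map c ≫ Y.fromSpecStalk x₀ = g := by
    rw [Spec.map_comp, Category.assoc, Scheme.SpecMap_stalkSpecializes_fromSpecStalk, ha]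
  have hcb : c ≫ CommRingCat.ofHom (IsLocalRing.residue ↥R') = b ≫ CommRingCat.ofHom Rt.subtype := by
    refine Spec.map_injective ((cancel_mono (Y.fromSpecStalk x₀)).1 ?_)
    rw [Spec.map_comp c, Spec.map_comp b, Category.assoc, Category.assoc, hc, hb, hht₁]
  have hmR : ∀ v : ↥R', v ∈ IsLocalRing.maximalIdeal ↥R' → (v : K) ∈ R := by
    intro v hv
    rcases R.mem_or_inv_mem (v : K) with h | h
    · exact h
    · by_cases h0 : (v : K) = 0
      · rw [h0]; exact zero_mem _
      · exact absurd (IsUnit.of_mul_eq_one (⟨_, hRR' h⟩ : ↥R') (Subtype.ext (mul_inv_cancel₀ h0))) hv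
  have hd : ∀ e, ((c.hom e : ↥R') : K) ∈ R := by
    intro e
    obtain ⟨r, hr⟩ := hσs (b.hom e)
    have h1 : IsLocalRing.residue ↥R' (c.hom e - ι r) = 0 := by
      rw [map_sub, ← hσ, hr]
      exact sub_eq_zero.2 (congr($(hcb).hom e))
    have h2 := add_mem (hmR _ ((IsLocalRing.residue_eq_zero_iff _).1 h1)) r.2
    convert h2 using 1
    push_cast
    rw [hι]; ring
  let d : Y.presheaf.stalk x₀ ⟶ CommRingCat.of ↥R :=
    CommRingCat.ofHom ((R'.subtype.comp c.hom).codRestrict R.toSubring hd)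
  have hdι : d ≫ CommRingCat.ofHom ι = c := by
    ext e; exact (hι _)
  have hdσ : d ≫ CommRingCat.ofHom σ = b := by
    ext e
    refine (hσ _).trans ?_
    have := congr($(hdι).hom e)
    change IsLocalRing.residue ↥R' ((d ≫ CommRingCat.ofHom ι).hom e) = _
    rw [this]
    exact congr($(hcb).hom e)
  have hdK : d ≫ CommRingCat.ofHom R.subtype = c ≫ CommRingCat.ofHom R'.subtype := rfl
  have hσloc : Spec.map (CommRingCat.ofHom σ) (IsLocalRing.closedPoint ↥Rt) = IsLocalRing.closedPoint ↥R := by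
    haveI : IsLocalHom (CommRingCat.ofHom σ).hom := IsLocalHom.of_surjective σ hσs
    exact Spec_closedPoint
  have hcl : ∀ l : Spec (CommRingCat.of ↥R) ⟶ Y, Spec.map (CommRingCat.ofHom σ) ≫ l = ht →
      l (IsLocalRing.closedPoint ↥R) = x₀ := fun l hl => by
    rw [← hσloc, ← Scheme.Hom.comp_apply, hl]
  let h := Spec.map d ≫ Y.fromSpecStalk x₀
  have e1 : Spec.map (CommRingCat.ofHom R.subtype) ≫ h = i := by
    rw [← Spec.map_comp_assoc, hdK, Spec.map_comp c, Category.assoc, hc, hg₁]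
  have e3 : Spec.map (CommRingCat.ofHom ι) ≫ h = g := by
    rw [← Spec.map_comp_assoc, hdι, hc]
  have e4 : Spec.map (CommRingCat.ofHom σ) ≫ h = ht := by
    rw [← Spec.map_comp_assoc, hdσ, hb]
  have e2 : h ≫ f = φ := by
    obtain ⟨m₁, hm₁⟩ := fac (A := CommRingCat.of ↥R) (h ≫ f) (f x₀) (by rw [Scheme.Hom.comp_apply, hcl h e4])
    obtain ⟨m₂, hm₂⟩ := fac (A := CommRingCat.of ↥R) φ (f x₀) (by
      rw [← hσloc, ← Scheme.Hom.comp_apply, ← hht₂, Scheme.Hom.comp_apply])
    have : m₁ ≫ CommRingCat.ofHom R.subtype = m₂ ≫ CommRingCat.ofHom R.subtype := by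
      refine Spec.map_injective ((cancel_mono (X.fromSpecStalk (f x₀))).1 ?_)
      rw [Spec.map_comp, Spec.map_comp, Category.assoc, Category.assoc, hm₁, hm₂, ← Category.assoc, e1, w]
    have hm : m₁ = m₂ := by ext e; exact congr($(this).hom e)
    rw [← hm₁, ← hm₂, hm]
  refine ⟨h, ⟨e1, e2, e3, e4⟩, ?_⟩
  rintro h' ⟨f1, -, -, f4⟩
  obtain ⟨m, hm⟩ := fac (A := CommRingCat.of ↥R) h' x₀ (hcl h' f4)
  have : m ≫ CommRingCat.ofHom R.subtype = d ≫ CommRingCat.ofHom R.subtype := by
    refine Spec.map_injective ((cancel_mono (Y.fromSpecStalk x₀)).1 ?_)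
    rw [Spec.map_comp, Spec.map_comp, Category.assoc, Category.assoc, hm, f1, e1]
  have hmd : m = d := by ext e; exact congr($(this).hom e)
  rw [← hm, hmd]

end Groth.Agent.S17898
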