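import Groth.Statements.S17900
import Groth.Agent.MilnorLib.Criteria

set_option autoImplicit false
universe u
open TensorProduct
open Pinch

namespace Groth.Agent.S17900

/-- Let R be a commutative ring and let B' → B → A, B' → A' → A be a commutative square of R-algebras
which is a fibre square (B' = B ×_A A') with A' → A surjective. If B, A' and A are flat over R then
B' is flat over R. -/
theorem result (R B' B A' A : Type u) [CommRing R] [CommRing B'] [CommRing B] [CommRing A'] [CommRing A]
    [Algebra B' B] [Algebra B' A'] [Algebra B A] [Algebra A' A] [Algebra B' A]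
    [IsScalarTower B' B A] [IsScalarTower B' A' A]
    [Algebra R B'] [Algebra R B] [Algebra R A'] [Algebra R A]
    [IsScalarTower R B' B] [IsScalarTower R B' A'] [IsScalarTower R B' A] [IsScalarTower R B A] [IsScalarTower R A' A]
    (hsq : EtMil.IsFibreSquare B' B A' A)
    [Module.Flat R B] [Module.Flat R A'] [Module.Flat R A] :
    Module.Flat R B' := by
  let g : B' →ₗ[R] B × A' :=
    ((IsScalarTower.toAlgHom R B' B).toLinearMap).prod ((IsScalarTower.toAlgHom R B' A').toLinearMap)
  let f : B × A' →ₗ[R] A :=
    ((IsScalarTower.toAlgHom R B A).toLinearMap.comp (LinearMap.fst R B A')) -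
      ((IsScalarTower.toAlgHom R A' A).toLinearMap.comp (LinearMap.snd R B A'))
  haveI := MilnorLib.flat_prod (R := R) B A'
  refine MilnorLib.flat_of_exact g f (fun a => ?_) (fun x y h => ?_) (fun z => ⟨fun h => ?_, ?_⟩)
  · obtain ⟨a', ha'⟩ := hsq.1 a
    exact ⟨(0, -a'), by simp [f, ha']⟩
  · exact MilnorLib.eq_of_images hsq (congrArg Prod.fst h) (congrArg Prod.snd h)
  · obtain ⟨b', ⟨h1, h2⟩, -⟩ := hsq.2 z.1 z.2 (sub_eq_zero.1 h)
    exact ⟨b', Prod.ext h1 h2⟩
  · rintro ⟨b, rfl⟩
    show algebraMap B A (algebraMap B' B b) - algebraMap A' A (algebraMap B' A' b) = 0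
    rw [← IsScalarTower.algebraMap_apply, ← IsScalarTower.algebraMap_apply, sub_self]

end Groth.Agent.S17900
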