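import Groth.Statements.S17901
import Groth.Agent.MilnorLib.Basic

set_option autoImplicit false
universe u
open TensorProduct
open Pinch

namespace Groth.Agent.S17901

/-- Let R be a commutative ring and let B' → B → A, B' → A' → A be a fibre square of R-algebras (B' = B
×_A A') with A' → A surjective, where B, A' and A are flat over R. Then for every commutative
R-algebra R' the square obtained by applying R' ⊗_R − is again a fibre square: R' ⊗_R A' → R' ⊗_R A
is surjective and every pair of elements of R' ⊗_R B and R' ⊗_R A' with the same image in R' ⊗_R A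
is the image of a unique element of R' ⊗_R B'. (The published lemma concludes that the base-changed
square of spectra is co-cartesian in ringed spaces; this row states the ring form, surjective edge
and fibre product, which its proof establishes before translating it to ringed spaces.) -/
theorem result (R B' B A' A : Type u) [CommRing R] [CommRing B'] [CommRing B] [CommRing A'] [CommRing A]
    [Algebra B' B] [Algebra B' A'] [Algebra B A] [Algebra A' A] [Algebra B' A]
    [IsScalarTower B' B A] [IsScalarTower B' A' A]
    [Algebra R B'] [Algebra R B] [Algebra R A'] [Algebra R A]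
    [IsScalarTower R B' B] [IsScalarTower R B' A'] [IsScalarTower R B' A] [IsScalarTower R B A] [IsScalarTower R A' A]
    (hsq : EtMil.IsFibreSquare B' B A' A)
    [Module.Flat R B] [Module.Flat R A'] [Module.Flat R A]
    (R' : Type u) [CommRing R'] [Algebra R R'] :
    Function.Surjective (Algebra.TensorProduct.map (AlgHom.id R R') (IsScalarTower.toAlgHom R A' A)) ∧
    ∀ (x : R' ⊗[R] B) (y : R' ⊗[R] A'),
      Algebra.TensorProduct.map (AlgHom.id R R') (IsScalarTower.toAlgHom R B A) x =
        Algebra.TensorProduct.map (AlgHom.id R R') (IsScalarTower.toAlgHom R A' A) y →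
      ∃! z : R' ⊗[R] B',
        Algebra.TensorProduct.map (AlgHom.id R R') (IsScalarTower.toAlgHom R B' B) z = x ∧
        Algebra.TensorProduct.map (AlgHom.id R R') (IsScalarTower.toAlgHom R B' A') z = y := by
  let g : B' →ₗ[R] B × A' :=
    ((IsScalarTower.toAlgHom R B' B).toLinearMap).prod ((IsScalarTower.toAlgHom R B' A').toLinearMap)
  let f : B × A' →ₗ[R] A :=
    ((IsScalarTower.toAlgHom R B A).toLinearMap.comp (LinearMap.fst R B A')) -
      ((IsScalarTower.toAlgHom R A' A).toLinearMap.comp (LinearMap.snd R B A'))
  have hf : Function.Surjective f := fun a => by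
    obtain ⟨a', ha'⟩ := hsq.1 a
    exact ⟨(0, -a'), by simp [f, ha']⟩
  have hg : Function.Injective g := fun x y h =>
    MilnorLib.eq_of_images hsq (congrArg Prod.fst h) (congrArg Prod.snd h)
  have hex : Function.Exact g f := fun z => ⟨fun h => by
    obtain ⟨b', ⟨h1, h2⟩, -⟩ := hsq.2 z.1 z.2 (sub_eq_zero.1 h)
    exact ⟨b', Prod.ext h1 h2⟩, by
    rintro ⟨b, rfl⟩
    show algebraMap B A (algebraMap B' B b) - algebraMap A' A (algebraMap B' A' b) = 0
    rw [← IsScalarTower.algebraMap_apply, ← IsScalarTower.algebraMap_apply, sub_self]⟩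
  let P := TensorProduct.prodRight R R R' B A'
  let FB : R' ⊗[R] B →ₗ[R] R' ⊗[R] A := (IsScalarTower.toAlgHom R B A).toLinearMap.lTensor R'
  let FA : R' ⊗[R] A' →ₗ[R] R' ⊗[R] A := (IsScalarTower.toAlgHom R A' A).toLinearMap.lTensor R'
  have hFB : ∀ x, Algebra.TensorProduct.map (AlgHom.id R R') (IsScalarTower.toAlgHom R B A) x = FB x := fun x => by
    induction x using TensorProduct.induction_on with
    | zero => simp
    | tmul a b => rfl
    | add p q hp hq => simp only [map_add, hp, hq]
  have hFA : ∀ x, Algebra.TensorProduct.map (AlgHom.id R R') (IsScalarTower.toAlgHom R A' A) x = FA x := fun x => by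
    induction x using TensorProduct.induction_on with
    | zero => simp
    | tmul a b => rfl
    | add p q hp hq => simp only [map_add, hp, hq]
  have hfP : ∀ z, f.lTensor R' z = FB (P z).1 - FA (P z).2 := fun z => by
    induction z using TensorProduct.induction_on with
    | zero => simp
    | tmul a b => simp [f, FB, FA, P, TensorProduct.tmul_sub]
    | add p q hp hq => simp only [map_add, hp, hq, Prod.fst_add, Prod.snd_add]; abel
  have hgP : ∀ z, P (g.lTensor R' z) = (Algebra.TensorProduct.map (AlgHom.id R R') (IsScalarTower.toAlgHom R B' B) z,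
      Algebra.TensorProduct.map (AlgHom.id R R') (IsScalarTower.toAlgHom R B' A') z) := fun z => by
    induction z using TensorProduct.induction_on with
    | zero => simp only [map_zero]; rfl
    | tmul a b => simp [g, P]
    | add p q hp hq => simp only [map_add, hp, hq, Prod.mk_add_mk]
  have hinj := LinearMap.lTensor_injective_of_exact_of_flat f hf g hg hex R'
  refine ⟨fun y => ?_, fun x y hxy => ?_⟩
  · obtain ⟨w, hw⟩ := LinearMap.lTensor_surjective R' (g := (IsScalarTower.toAlgHom R A' A).toLinearMap) hsq.1 y
    exact ⟨w, by rw [hFA]; exact hw⟩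
  rw [hFB, hFA] at hxy
  obtain ⟨z, hz⟩ := (lTensor_exact R' hex hf (P.symm (x, y))).1 (by
    rw [hfP, P.apply_symm_apply, hxy, sub_self])
  have hPz : P (g.lTensor R' z) = (x, y) := by rw [hz, P.apply_symm_apply]
  rw [hgP] at hPz
  refine ⟨z, ⟨congrArg Prod.fst hPz, congrArg Prod.snd hPz⟩, fun w hw => hinj (P.injective ?_)⟩
  rw [hgP, hgP, hw.1, hw.2, ← hPz]

end Groth.Agent.S17901
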