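import Groth.Statements.S17902
import Mathlib

set_option autoImplicit false
universe u
open CAlg

namespace Groth.Agent.S17902

/-- Let A be a commutative ring, M a finitely generated projective A-module, n a natural number and P a
finite set of prime ideals of A such that for every p in P there is g outside p with M_g free of
rank n over A_g. Then there exist n elements of M and an open subset U of Spec A containing P such
that for every prime q in U the images of these elements in M_q form a basis of M_q over A_q. (The
published conclusion is that the associated sheaf is free of rank n on some open neighbourhood of P;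
the form given here, with n global elements of M, is what its proof produces.) -/
theorem result (A : Type u) [CommRing A] (M : Type u) [AddCommGroup M] [Module A M]
    [Module.Finite A M] [Module.Projective A M] (n : ℕ) (P : Finset (PrimeSpectrum A))
    (hP : ∀ p ∈ P, ∃ g : A, g ∉ p.asIdeal ∧
      Nonempty (Module.Basis (Fin n) (Localization.Away g) (LocalizedModule (Submonoid.powers g) M))) :
    ∃ (s : Fin n → M) (U : Set (PrimeSpectrum A)), IsOpen U ∧ (∀ p ∈ P, p ∈ U) ∧
      ∀ q ∈ U,
        LinearIndependent (Localization.AtPrime q.asIdeal)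
            (fun j => LocalizedModule.mkLinearMap q.asIdeal.primeCompl M (s j)) ∧
          Submodule.span (Localization.AtPrime q.asIdeal)
            (Set.range fun j => LocalizedModule.mkLinearMap q.asIdeal.primeCompl M (s j)) = ⊤ := by
  classical
  haveI : Module.FinitePresentation A M := Module.finitePresentation_of_projective A M
  have hrk : ∀ p ∈ P, Module.rankAtStalk (R := A) M p = n := by
    intro p hp
    obtain ⟨g, hg, ⟨b⟩⟩ := hP p hp
    obtain ⟨q, hq⟩ : ∃ q : PrimeSpectrum (Localization.Away g), q.comap (algebraMap A (Localization.Away g)) = p := by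
      have : p ∈ Set.range (PrimeSpectrum.comap (algebraMap A (Localization.Away g))) := by
        rw [PrimeSpectrum.localization_away_comap_range (Localization.Away g) g]; exact hg
      exact this
    haveI : Nontrivial (Localization.Away g) := nontrivial_of_ne 0 1 fun h => q.2.ne_top ((Ideal.eq_top_iff_one _).2 (h ▸ q.asIdeal.zero_mem))
    haveI : Module.Free (Localization.Away g) (LocalizedModule (Submonoid.powers g) M) := Module.Free.of_basis b
    haveI : Module.Finite (Localization.Away g) (LocalizedModule (Submonoid.powers g) M) := Module.Finite.of_basis b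
    rw [← hq, ← Module.rankAtStalk_isBaseChange (IsLocalizedModule.isBaseChange (Submonoid.powers g) (Localization.Away g)
      (LocalizedModule.mkLinearMap (Submonoid.powers g) M)) q, Module.rankAtStalk_eq_finrank_of_free]
    simp [Module.finrank_eq_card_basis b]
  -- bases of the fibres at the maximal elements of `P`
  let P' := P.filter fun p => ∀ p' ∈ P, p.asIdeal ≤ p'.asIdeal → p' = p
  have hfib : ∀ p : PrimeSpectrum A, ∃ m : Fin n → M, p ∈ P →
      Submodule.span p.asIdeal.ResidueField (Set.range fun j => (1 : p.asIdeal.ResidueField) ⊗ₜ[A] m j) = ⊤ := by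
    intro p
    by_cases hp : p ∈ P
    swap
    · exact ⟨fun _ => 0, fun h => absurd h hp⟩
    let K := p.asIdeal.ResidueField
    have htop : Submodule.span K (Set.range fun m : M => (1 : K) ⊗ₜ[A] m) = ⊤ := by
      refine eq_top_iff.2 fun z _ => ?_
      induction z using TensorProduct.induction_on with
      | zero => exact zero_mem _
      | add x y hx hy => exact add_mem (hx trivial) (hy trivial)
      | tmul r m =>
        rw [show r ⊗ₜ[A] m = r • ((1 : K) ⊗ₜ[A] m) by rw [TensorProduct.smul_tmul', smul_eq_mul, mul_one]]
        exact Submodule.smul_mem _ _ (Submodule.subset_span ⟨m, rfl⟩)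
    obtain ⟨b, hb, hbs, hbi⟩ := exists_linearIndependent K (Set.range fun m : M => (1 : K) ⊗ₜ[A] m)
    rw [htop] at hbs
    let B : Module.Basis b K (TensorProduct A K M) := Module.Basis.mk hbi (by rw [Subtype.range_coe, hbs])
    haveI : Fintype b := FiniteDimensional.fintypeBasisIndex B
    have hcard : Fintype.card b = n := by
      rw [← Module.finrank_eq_card_basis B, ← hrk p hp, Module.rankAtStalk_eq]
    let e := (Fintype.equivFinOfCardEq hcard).symm
    choose w hw using fun z : b => hb z.2
    refine ⟨fun j => w (e j), fun _ => eq_top_iff.2 ?_⟩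
    rw [← hbs]
    refine Submodule.span_le.2 fun z hz => Submodule.subset_span ⟨e.symm ⟨z, hz⟩, ?_⟩
    simp [hw]
  choose m hm using hfib
  have hc : ∀ p : PrimeSpectrum A, ∃ c : A, p ∈ P' → c ∉ p.asIdeal ∧ ∀ q ∈ P', q ≠ p → c ∈ q.asIdeal := by
    intro p
    by_cases hp : p ∈ P'
    swap
    · exact ⟨0, fun h => absurd h hp⟩
    obtain ⟨hpP, hmax⟩ := Finset.mem_filter.1 hp
    have : ¬ (∏ q ∈ P'.erase p, q.asIdeal) ≤ p.asIdeal := fun h => by
      obtain ⟨q, hq, hle⟩ := (p.2.prod_le).1 h
      obtain ⟨hne, hqP'⟩ := Finset.mem_erase.1 hq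
      exact hne ((Finset.mem_filter.1 hqP').2 p hpP hle).symm
    obtain ⟨c, hc, hcp⟩ := SetLike.not_le_iff_exists.1 this
    exact ⟨c, fun _ => ⟨hcp, fun q hq hne => Ideal.le_of_dvd (Finset.dvd_prod_of_mem _ (Finset.mem_erase.2 ⟨hne, hq⟩)) hc⟩⟩
  choose c hc using hc
  let s : Fin n → M := fun j => ∑ p ∈ P', c p • m p j
  let φ : (Fin n → A) →ₗ[A] M := Fintype.linearCombination A s
  let C := M ⧸ LinearMap.range φ
  have hsupp : ∀ p ∈ P', p ∉ Module.support A C := by
    intro p hp
    rw [Module.mem_support_iff_nontrivial_residueField_tensorProduct, not_nontrivial_iff_subsingleton]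
    let K := p.asIdeal.ResidueField
    let π : TensorProduct A K M →ₗ[K] TensorProduct A K C := (LinearMap.range φ).mkQ.baseChange K
    have hπ : π = 0 := by
      refine LinearMap.ext_on (hm p (Finset.mem_filter.1 hp).1) ?_
      rintro _ ⟨j, rfl⟩
      have h1 : π ((1 : K) ⊗ₜ[A] s j) = 0 := by
        show (1 : K) ⊗ₜ[A] (LinearMap.range φ).mkQ (s j) = 0
        rw [Submodule.mkQ_apply, (Submodule.Quotient.mk_eq_zero _).2 (show s j ∈ LinearMap.range φ from ⟨Pi.single j 1, by simp [φ]⟩), TensorProduct.tmul_zero]
      have h2 : (1 : K) ⊗ₜ[A] s j = algebraMap A K (c p) • ((1 : K) ⊗ₜ[A] m p j) := by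
        rw [TensorProduct.tmul_sum, Finset.sum_eq_single_of_mem p hp]
        · rw [TensorProduct.tmul_smul, algebraMap_smul]
        · intro q hq hne
          rw [TensorProduct.tmul_smul, ← algebraMap_smul K (c q), Ideal.algebraMap_residueField_eq_zero.2 ((hc q hq).2 p hp hne.symm), zero_smul]
      rw [h2, map_smul] at h1
      exact (smul_eq_zero.1 h1).resolve_left fun h => (hc p hp).1 (Ideal.algebraMap_residueField_eq_zero.1 h)
    refine subsingleton_of_forall_eq 0 fun z => ?_
    obtain ⟨w, rfl⟩ := LinearMap.lTensor_surjective K (Submodule.mkQ_surjective (LinearMap.range φ)) z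
    exact LinearMap.congr_fun hπ w
  refine ⟨s, (Module.support A C)ᶜ ∩ {q | Module.rankAtStalk (R := A) M q = n},
    Module.isClosed_support.isOpen_compl.inter (Module.isLocallyConstant_rankAtStalk.isOpen_fiber _),
    fun p hp => ⟨?_, hrk p hp⟩, fun q ⟨hq, hqn⟩ => ?_⟩
  · obtain ⟨p', hp', hle⟩ : ∃ p' ∈ P', p.asIdeal ≤ p'.asIdeal := by
      obtain ⟨p', hp', hmax⟩ := (P.filter fun r => p.asIdeal ≤ r.asIdeal).exists_maximal
        ⟨p, Finset.mem_filter.2 ⟨hp, le_rfl⟩⟩
      obtain ⟨h1, h2⟩ := Finset.mem_filter.1 hp'
      refine ⟨p', Finset.mem_filter.2 ⟨h1, fun r hr hle => ?_⟩, h2⟩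
      exact PrimeSpectrum.ext (le_antisymm (hmax (Finset.mem_filter.2 ⟨hr, h2.trans hle⟩) hle) hle)
    intro hmem
    exact hsupp p' hp' (Module.mem_support_mono hle hmem)
  · let R := Localization.AtPrime q.asIdeal
    let L := LocalizedModule.mkLinearMap q.asIdeal.primeCompl M
    have hspan : Submodule.span R (Set.range fun j => L (s j)) = ⊤ := by
      refine eq_top_iff.2 fun z _ => ?_
      induction z using LocalizedModule.induction_on with
      | h x t =>
        rw [Set.mem_compl_iff, Module.notMem_support_iff'] at hq
        obtain ⟨r, hr, hrx⟩ := hq (Submodule.Quotient.mk x)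
        obtain ⟨a, ha⟩ := (Submodule.Quotient.mk_eq_zero _).1 ((Submodule.Quotient.mk_smul _ r x).trans hrx)
        let d : q.asIdeal.primeCompl := t * ⟨r, show r ∈ q.asIdeal.primeCompl from hr⟩
        have : LocalizedModule.mk x t = Localization.mk 1 d • L (r • x) := by
          rw [LocalizedModule.mkLinearMap_apply, LocalizedModule.mk_smul_mk, one_smul, mul_one, LocalizedModule.mk_eq]
          exact ⟨1, by rw [one_smul, one_smul]; exact mul_smul (t : A) r x⟩
        rw [this, ← ha, Fintype.linearCombination_apply, map_sum]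
        refine Submodule.smul_mem _ _ (sum_mem fun j _ => ?_)
        rw [map_smul, ← algebraMap_smul R]
        exact Submodule.smul_mem _ _ (Submodule.subset_span ⟨j, rfl⟩)
    exact ⟨linearIndependent_of_top_le_span_of_card_eq_finrank hspan.ge (by simpa [Module.rankAtStalk] using hqn.symm), hspan⟩

end Groth.Agent.S17902
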