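import Groth.Statements.S17913
import Groth.Agent.GerbA.Local

set_option autoImplicit false
universe u
open CategoryTheory AlgebraicGeometry
open Gerb

namespace Groth.Agent.S17913

/-- Let S be a scheme, 𝒳 and 𝒴 gerbes over the big fppf site of schemes over S, φ : 𝒳 → 𝒴 and ψ : 𝒴 → 𝒳
functors over Sch_S, and x an object of 𝒳 over S itself such that φ is surjective on automorphism
groups along x: for every object x' of 𝒳 admitting a morphism to x (every pullback of x), every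
automorphism of φ(x') over the identity is φ(α) for some automorphism α of x' over the identity. Let
g : ψ(φ(x)) → x be an isomorphism lying over the identity such that conjugation by g after ψ ∘ φ is
the identity of the automorphism sheaf of x: whenever c : x' → x is a morphism of 𝒳 and g' :
ψ(φ(x')) → x' is the morphism over the identity with ψ(φ(c)) ≫ g = g' ≫ c, every automorphism α of
x' over the identity satisfies ψ(φ(α)) ≫ g' = g' ≫ α. Then φ ∘ ψ is isomorphic to the identity on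
every fibre of 𝒴: there are isomorphisms σ_z : φ(ψ(z)) → z for all objects z of 𝒴, lying over
identities and natural in morphisms lying over identities, so that φ and ψ are mutually
quasi-inverse on every fibre. (The published corollary does not assume that φ is surjective on
automorphism groups; its proof uses that φ is full, and without that hypothesis the conclusion fails
— take for 𝒳 the base category over itself, for 𝒴 the gerbe of torsors under the group of order two,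
for φ the trivial torsor and for ψ the structure functor. The published corollary also concludes
that ψ ∘ φ is isomorphic to the identity on every fibre of 𝒳; that part follows from the hypotheses
on g alone and is stated separately.) -/
theorem result (S : Scheme.{u}) (𝒳 𝒴 : AlgSt.Cat S)
    (h𝒳 : Gerb.IsGerbe (QuotSh.J Scheme.fppfPrecoverage S) 𝒳)
    (h𝒴 : Gerb.IsGerbe (QuotSh.J Scheme.fppfPrecoverage S) 𝒴)
    (φ : 𝒳 ⥤ᵇ 𝒴) (ψ : 𝒴 ⥤ᵇ 𝒳) (x : 𝒳.obj) (hx : 𝒳.p.obj x = Over.mk (𝟙 S))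
    (hφ : ∀ (x' : 𝒳.obj) (c : x' ⟶ x), Function.Surjective (Gerb.autMap φ x'))
    (g : ψ.obj (φ.obj x) ⟶ x) [IsIso g] (hg : 𝒳.p.IsHomLift (𝟙 (𝒳.p.obj x)) g)
    (hconj : ∀ (x' : 𝒳.obj) (c : x' ⟶ x) (g' : ψ.obj (φ.obj x') ⟶ x'), 𝒳.p.IsHomLift (𝟙 (𝒳.p.obj x')) g' →
      ψ.map (φ.map c) ≫ g = g' ≫ c → ∀ α : Gerb.AutO x', ψ.map (φ.map α.hom.1) ≫ g' = g' ≫ α.hom.1) :
    ∃ σ : ∀ z : 𝒴.obj, φ.obj (ψ.obj z) ⟶ z,
      (∀ z, IsIso (σ z) ∧ 𝒴.p.IsHomLift (𝟙 (𝒴.p.obj z)) (σ z)) ∧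
      (∀ (z z' : 𝒴.obj) (f : z ⟶ z'), 𝒴.p.IsHomLift (𝟙 (𝒴.p.obj z)) f →
        φ.map (ψ.map f) ≫ σ z' = σ z ≫ f) := by
  have hgr := h𝒴.1.1
  have hgr' := h𝒳.1.1
  haveI := hg
  have hT : ∀ U : Over S, Subsingleton (U ⟶ Over.mk (𝟙 S)) := fun U =>
    ⟨fun a b => Over.OverMorphism.ext (by
      have ha := Over.w a
      have hb := Over.w b
      simp only [Over.mk_hom, Category.comp_id] at ha hb
      exact ha.trans hb.symm)⟩
  have hy : 𝒴.p.obj (φ.obj x) = Over.mk (𝟙 S) := (φ.w_obj x).trans hx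
  have hφg : 𝒴.p.IsHomLift (𝟙 (𝒴.p.obj (φ.obj x))) (φ.map g) :=
    GerbA.lift_id_cast (φ.w_obj x).symm ((BasedFunctor.isHomLift_iff φ _ g).mpr hg)
  obtain ⟨σ, hσ, hnat⟩ := GerbA.exists_natIso h𝒴 (T := Over.mk (𝟙 S)) hT
    (fun U => Over.homMk U.hom (Category.comp_id _)) (BasedFunctor.comp ψ φ) hy (φ.map g) hφg
    (fun z c m hm hmc α => by
      haveI := hm
      haveI : 𝒴.p.IsHomLift (𝒴.p.map c) c := IsHomLift.map 𝒴.p c
      let e : 𝒴.p.obj z ⟶ 𝒳.p.obj x := 𝒴.p.map c ≫ eqToHom (φ.w_obj x)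
      haveI : 𝒴.p.IsHomLift e c := IsHomLift.of_fac _ _ _ rfl (φ.w_obj x) (by simp [e])
      obtain ⟨x₁, c₁, hc₁⟩ := Groth.Agent.StkGlue.exists_lift_at hgr' (rfl : 𝒳.p.obj x = _) e
      haveI := hc₁
      have hx₁ : 𝒳.p.obj x₁ = 𝒴.p.obj z := IsHomLift.domain_eq 𝒳.p e c₁
      haveI : 𝒴.p.IsHomLift e (φ.map c₁) := BasedFunctor.preserves_isHomLift φ e c₁
      haveI : 𝒴.p.IsHomLift (𝟙 (𝒴.p.obj z) ≫ e) c := by rw [Category.id_comp]; infer_instance
      obtain ⟨i, ⟨hi, hic⟩, -⟩ := Groth.Agent.StkGlue.existsUnique_fac hgr e (𝟙 (𝒴.p.obj z)) (φ.map c₁) c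
      haveI := hi
      haveI : IsIso i := Groth.Agent.Fib.isIso_of_isHomLift 𝒴.p hgr (𝟙 (𝒴.p.obj z)) i
      haveI : 𝒳.p.IsHomLift e (ψ.map (φ.map c₁)) := BasedFunctor.preserves_isHomLift ψ e _
      haveI : 𝒳.p.IsHomLift e (ψ.map (φ.map c₁) ≫ g) :=
        IsHomLift.comp_lift_id_right 𝒳.p e (ψ.map (φ.map c₁)) g
      haveI : 𝒳.p.IsHomLift (𝟙 (𝒴.p.obj z) ≫ e) (ψ.map (φ.map c₁) ≫ g) := by
        rw [Category.id_comp]; infer_instance
      obtain ⟨m₁, ⟨hm₁, hm₁c⟩, -⟩ :=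
        Groth.Agent.StkGlue.existsUnique_fac hgr' e (𝟙 (𝒴.p.obj z)) c₁ (ψ.map (φ.map c₁) ≫ g)
      haveI := hm₁
      haveI : 𝒴.p.IsHomLift (𝟙 (𝒴.p.obj z)) α.hom.1 := α.hom.2
      haveI : 𝒴.p.IsHomLift (𝟙 (𝒴.p.obj z)) (asIso i).hom := hi
      haveI : 𝒴.p.IsHomLift (𝟙 (𝒴.p.obj z)) (inv i) :=
        inferInstanceAs (𝒴.p.IsHomLift (𝟙 (𝒴.p.obj z)) (asIso i).inv)
      haveI : IsIso α.hom.1 := Groth.Agent.Fib.isIso_of_isHomLift 𝒴.p hgr (𝟙 (𝒴.p.obj z)) α.hom.1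
      let α₁ := inv i ≫ α.hom.1 ≫ i
      have hz : 𝒴.p.obj z = 𝒴.p.obj (φ.obj x₁) := hx₁.symm.trans (φ.w_obj x₁).symm
      have hα₁ : 𝒴.p.IsHomLift (𝟙 (𝒴.p.obj (φ.obj x₁))) α₁ := GerbA.lift_id_cast hz inferInstance
      obtain ⟨β, hβ⟩ := hφ x₁ c₁ (Groth.Agent.Fib.fiberIso 𝒴.p (asIso α₁) hα₁)
      have hβ' : φ.map β.hom.1 = α₁ := congrArg (fun u : Gerb.AutO (φ.obj x₁) => u.hom.1) hβ
      have hconj' := congrArg φ.map (hconj x₁ c₁ m₁ (GerbA.lift_id_cast hx₁.symm hm₁) hm₁c.symm β)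
      rw [CategoryTheory.Functor.map_comp, CategoryTheory.Functor.map_comp, hβ'] at hconj'
      suffices H : ∀ m' : φ.obj (ψ.obj z) ⟶ z, 𝒴.p.IsHomLift (𝟙 (𝒴.p.obj z)) m' →
          m' ≫ c = φ.map (ψ.map c) ≫ φ.map g →
          φ.map (ψ.map α.hom.1) ≫ m' = m' ≫ α.hom.1 from H m hm hmc.symm
      intro m hm hmc
      haveI := hm
      have hm' : m = φ.map (ψ.map i) ≫ φ.map m₁ ≫ inv i := by
        haveI : 𝒳.p.IsHomLift (𝟙 (𝒴.p.obj z)) (ψ.map i) := BasedFunctor.preserves_isHomLift ψ _ i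
        haveI : 𝒴.p.IsHomLift (𝟙 (𝒴.p.obj z)) (φ.map (ψ.map i)) := BasedFunctor.preserves_isHomLift φ _ _
        haveI : 𝒴.p.IsHomLift (𝟙 (𝒴.p.obj z)) (φ.map m₁) := BasedFunctor.preserves_isHomLift φ _ m₁
        haveI := Groth.Agent.Fib.isStronglyCartesian_of_isFibGrpd 𝒴.p hgr e c
        haveI : 𝒴.p.IsHomLift (𝟙 (𝒴.p.obj z)) (φ.map m₁ ≫ inv i) :=
          IsHomLift.comp_lift_id_left 𝒴.p (𝟙 (𝒴.p.obj z)) (inv i) (φ.map m₁)
        haveI : 𝒴.p.IsHomLift (𝟙 (𝒴.p.obj z)) (φ.map (ψ.map i) ≫ φ.map m₁ ≫ inv i) :=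
          IsHomLift.comp_lift_id_left 𝒴.p (𝟙 (𝒴.p.obj z)) (φ.map m₁ ≫ inv i) (φ.map (ψ.map i))
        refine CategoryTheory.Functor.IsStronglyCartesian.ext 𝒴.p e c (𝟙 (𝒴.p.obj z)) ?_
        have h1 : inv i ≫ c = φ.map c₁ := by rw [← hic, IsIso.inv_hom_id_assoc]
        rw [Category.assoc, Category.assoc, h1, ← CategoryTheory.Functor.map_comp φ.toFunctor m₁ c₁, hm₁c]
        rw [hmc, ← hic]
        simp only [CategoryTheory.Functor.map_comp, Category.assoc]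
      rw [hm']
      have e1 : α.hom.1 ≫ i = i ≫ α₁ := by simp [α₁]
      have e2 : inv i ≫ α.hom.1 = α₁ ≫ inv i := by simp [α₁]
      rw [← Category.assoc (φ.map (ψ.map α.hom.1)), ← CategoryTheory.Functor.map_comp,
        ← CategoryTheory.Functor.map_comp, e1]
      simp only [CategoryTheory.Functor.map_comp, Category.assoc]
      rw [e2, ← Category.assoc (φ.map m₁) α₁, ← hconj']
      simp only [Category.assoc])
  exact ⟨σ, hσ, fun z z' f _ => hnat z z' f⟩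

end Groth.Agent.S17913
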