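import Groth.Statements.S17933
import Groth.Agent.MultCrvLib.Modules

set_option autoImplicit false
universe u
open MultCrv

namespace Groth.Agent.S17933

/-- Let R be a discrete valuation ring, n ≥ 1, A = R[X]/(X^n) with z the class of X, and M a finitely
generated A-module. Then M is torsion-free as an R-module if and only if the submodule M^(1) of
elements killed by z is a free R-module. (This is the statement at a closed point of the sheaf
statement: for a primitive multiple curve of multiplicity n the local ring at a closed point is of
the form R[X]/(X^n) with R the local ring of the reduced smooth curve, torsion-freeness is the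
absence of sections with finite support, and local freeness on the reduced curve is freeness of the
stalk; the row is stated for every discrete valuation ring R.) -/
theorem result (R : Type u) [CommRing R] [IsDomain R] [IsDiscreteValuationRing R] (n : ℕ) (hn : 1 ≤ n) (M : Type u) [AddCommGroup M] [Module (MultCrv.Rn R n) M] [Module R M] [IsScalarTower R (MultCrv.Rn R n) M] [Module.Finite (MultCrv.Rn R n) M] : Module.IsTorsionFree R M ↔ Module.Free R ↥(MultCrv.filt2 R n M 1) := by
  constructor
  · exact fun h => Groth.Agent.MultCrvLib.free_submodule h _
  · intro h
    have hfin := Groth.Agent.MultCrvLib.finite_submodule (R := R) (MultCrv.filt2 R n M 1)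
    refine Groth.Agent.MultCrvLib.isTorsionFree_of_forall fun r hr m hm => ?_
    suffices hk : ∀ k, MultCrv.z R n ^ (k + 1) • m = 0 → MultCrv.z R n ^ k • m = 0 by
      have hall : ∀ k, k ≤ n → MultCrv.z R n ^ (n - k) • m = 0 := by
        intro k
        induction k with
        | zero =>
          intro _
          rw [Groth.Agent.MultCrvLib.z_pow_eq_zero (by omega)]
          exact zero_smul (MultCrv.Rn R n) m
        | succ k ih =>
          intro hk'
          refine hk _ ?_
          have := ih (by omega)
          rwa [show n - (k + 1) + 1 = n - k by omega]
      simpa using hall n le_rfl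
    intro k hk
    have hmem : MultCrv.z R n ^ k • m ∈ MultCrv.filt2 R n M 1 := by
      rw [MultCrv.filt2, Submodule.mem_torsionBy_iff, smul_smul, ← pow_add, add_comm]
      exact hk
    have h0 : r • (⟨_, hmem⟩ : MultCrv.filt2 R n M 1) = 0 := Subtype.ext (by
      rw [SetLike.val_smul_of_tower, Submodule.coe_zero, smul_comm, hm, smul_zero])
    exact congrArg Subtype.val (Groth.Agent.MultCrvLib.eq_zero_of_smul_eq_zero hr h0)

end Groth.Agent.S17933
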