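import Groth.Statements.S17962

set_option autoImplicit false
open CategoryTheory CategoryTheory.Limits AlgebraicGeometry
universe u
open Hensel

namespace Groth.Agent.S17962

/-- Let i : X₀ ⟶ X be a closed immersion such that (X, X₀) is a henselian couple, i.e. for every finite
morphism g : Y ⟶ X every open-closed subset of Y ×_X X₀ is the inverse image under the first
projection of exactly one open-closed subset of Y. Then for every finite morphism h : Y ⟶ X the
couple (Y, Y ×_X X₀), with the first projection as closed immersion, is again henselian. -/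
theorem result {X X₀ : Scheme.{u}}
    (i : X₀ ⟶ X) [IsClosedImmersion i]
    (hX : ∀ (Y : Scheme.{u}) (g : Y ⟶ X), IsFinite g →
      ∀ V : Set ↥(pullback g (i)), IsClopen V →
        ∃! U : Set ↥Y, IsClopen U ∧ (pullback.fst g (i)).base ⁻¹' U = V)
    {Y : Scheme.{u}} (h : Y ⟶ X) [IsFinite h] :
    ∀ (Z : Scheme.{u}) (g : Z ⟶ Y), IsFinite g →
      ∀ V : Set ↥(pullback g (pullback.fst h i)), IsClopen V →
        ∃! U : Set ↥Z, IsClopen U ∧ (pullback.fst g (pullback.fst h i)).base ⁻¹' U = V := by
  intro Z g hg V hV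
  let e := (pullbackRightPullbackFstIso h i g).hom.homeomorph
  have hfst : ∀ p, pullback.fst (g ≫ h) i (e p) = pullback.fst g (pullback.fst h i) p := fun p => by
    show pullback.fst (g ≫ h) i ((pullbackRightPullbackFstIso h i g).hom p) = _
    rw [← Scheme.Hom.comp_apply, pullbackRightPullbackFstIso_hom_fst]
  obtain ⟨U, ⟨hU, hUV⟩, huniq⟩ := hX Z (g ≫ h) inferInstance (e.symm ⁻¹' V) (hV.preimage e.symm.continuous)
  have key : ∀ U : Set Z, (pullback.fst (g ≫ h) i).base ⁻¹' U = e.symm ⁻¹' V ↔
      (pullback.fst g (pullback.fst h i)).base ⁻¹' U = V := fun U => by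
    constructor
    · intro hh
      ext p
      simpa [hfst] using Set.ext_iff.1 hh (e p)
    · intro hh
      ext p
      have := Set.ext_iff.1 hh (e.symm p)
      simpa [← hfst] using this
  exact ⟨U, ⟨hU, (key U).1 hUV⟩, fun U' hU' => huniq U' ⟨hU'.1, (key U').2 hU'.2⟩⟩

end Groth.Agent.S17962
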