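import Groth.Statements.S17964
import Mathlib.AlgebraicGeometry.Morphisms.Finite
import Mathlib.AlgebraicGeometry.PullbackCarrier
import Mathlib.AlgebraicGeometry.Limits
import Groth.Agent.ModPairLib.Coprod

set_option autoImplicit false
open CategoryTheory CategoryTheory.Limits AlgebraicGeometry
universe u
open Hensel

namespace Groth.Agent.S17964

/-- Let (X_j) be a family of schemes indexed by a type ι, with closed immersions i_j : X_{j,0} ⟶ X_j,
and consider the induced morphism of disjoint unions ∐ X_{j,0} ⟶ ∐ X_j. Then the couple (∐ X_j, ∐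
X_{j,0}) is henselian (for every finite morphism g : Y ⟶ ∐ X_j, every open-closed subset of the
fibre product of Y with ∐ X_{j,0} is the inverse image under the first projection of exactly one
open-closed subset of Y) if and only if each couple (X_j, X_{j,0}) is henselian. -/
theorem result {ι : Type u} (X X₀ : ι → Scheme.{u})
    (i : ∀ j, X₀ j ⟶ X j) [∀ j, IsClosedImmersion (i j)] :
    (∀ (Y : Scheme.{u}) (g : Y ⟶ ∐ X), IsFinite g →
      ∀ V : Set ↥(pullback g (Limits.Sigma.map i)), IsClopen V →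
        ∃! U : Set ↥Y, IsClopen U ∧ (pullback.fst g (Limits.Sigma.map i)).base ⁻¹' U = V) ↔
    ∀ j : ι, ∀ (Y : Scheme.{u}) (g : Y ⟶ X j), IsFinite g →
      ∀ V : Set ↥(pullback g (i j)), IsClopen V →
        ∃! U : Set ↥Y, IsClopen U ∧ (pullback.fst g (i j)).base ⁻¹' U = V := by
  classical
  let K : ∀ (Y : Type u) [TopologicalSpace Y], Set Y → Prop := fun Y _ Z =>
    ∀ V : Set Z, IsClopen V → ∃! U : Set Y, IsClopen U ∧ (Subtype.val : Z → Y) ⁻¹' U = V
  have hK : ∀ {Y A B : Scheme.{u}} (g : Y ⟶ B) (m : A ⟶ B) [IsClosedImmersion m],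
      (∀ V : Set ↥(CategoryTheory.Limits.pullback g m), IsClopen V →
        ∃! U : Set ↥Y, IsClopen U ∧ (CategoryTheory.Limits.pullback.fst g m).base ⁻¹' U = V) ↔
      K Y (g ⁻¹' Set.range m) := by
    intro Y A B g m _
    let F := CategoryTheory.Limits.pullback.fst g m
    let h : ↥(CategoryTheory.Limits.pullback g m) ≃ₜ Set.range F := F.isClosedEmbedding.isEmbedding.toHomeomorph
    have hr : Set.range F = g ⁻¹' Set.range m := Scheme.Pullback.range_fst g m
    rw [← hr]
    constructor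
    · intro H V hV
      obtain ⟨U, ⟨hU, hUV⟩, huni⟩ := H (h ⁻¹' V) (hV.preimage h.continuous)
      refine ⟨U, ⟨hU, ?_⟩, fun U' hU' => huni U' ⟨hU'.1, ?_⟩⟩
      · ext ⟨_, t, rfl⟩
        exact Set.ext_iff.1 hUV t
      · ext t
        exact Set.ext_iff.1 hU'.2 (h t)
    · intro H V hV
      obtain ⟨U, ⟨hU, hUV⟩, huni⟩ := H (h.symm ⁻¹' V) (hV.preimage h.symm.continuous)
      refine ⟨U, ⟨hU, ?_⟩, fun U' hU' => huni U' ⟨hU'.1, ?_⟩⟩
      · ext t
        have := Set.ext_iff.1 hUV (h t)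
        simp only [Set.mem_preimage, Homeomorph.symm_apply_apply] at this
        exact this
      · ext w
        obtain ⟨t, rfl⟩ := h.surjective w
        simp only [Set.mem_preimage, Homeomorph.symm_apply_apply]
        exact Set.ext_iff.1 hU'.2 t
  have hmor : ∀ {j} (x : X₀ j), (CategoryTheory.Limits.Sigma.map i) (CategoryTheory.Limits.Sigma.ι X₀ j x) =
      CategoryTheory.Limits.Sigma.ι X j (i j x) := fun x => by
    rw [← Scheme.Hom.comp_apply, CategoryTheory.Limits.Sigma.ι_map, Scheme.Hom.comp_apply]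
  have hcase : ∀ y, ∃ (j : ι) (x : X j), CategoryTheory.Limits.Sigma.ι X j x = y := fun y => Groth.Agent.ModPairLib.exists_sigmaι X y
  have hdisj : ∀ {j k} (x : X j) (y : X k), CategoryTheory.Limits.Sigma.ι X j x = CategoryTheory.Limits.Sigma.ι X k y → j = k :=
    fun x y h => congrArg Sigma.fst (Groth.Agent.ModPairLib.sigmaι_eq h)
  have hclosed : ∀ j, IsClosed (Set.range (CategoryTheory.Limits.Sigma.ι X j)) := by
    intro j
    rw [← isOpen_compl_iff]
    have : (Set.range (CategoryTheory.Limits.Sigma.ι X j))ᶜ = ⋃ (k : ι) (_ : k ≠ j), Set.range (CategoryTheory.Limits.Sigma.ι X k) := by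
      ext y
      obtain ⟨k, x, rfl⟩ := hcase y
      simp only [Set.mem_compl_iff, Set.mem_iUnion]
      constructor
      · intro h; exact ⟨k, fun e => h (by subst e; exact ⟨x, rfl⟩), x, rfl⟩
      · rintro ⟨l, hl, x', hx'⟩ ⟨z, hz⟩
        exact hl ((hdisj x' x hx').trans (hdisj z x hz).symm)
    rw [this]
    exact isOpen_iUnion fun k => isOpen_iUnion fun _ => (CategoryTheory.Limits.Sigma.ι X k).isOpenEmbedding.isOpen_range
  haveI : ∀ j, IsClosedImmersion (CategoryTheory.Limits.Sigma.ι X j) := fun j =>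
    IsClosedImmersion.of_isPreimmersion _ (hclosed j)
  have hpre : ∀ j, (CategoryTheory.Limits.Sigma.ι X j) ⁻¹' Set.range (CategoryTheory.Limits.Sigma.map i) = Set.range (i j) := by
    intro j
    ext x
    constructor
    · rintro ⟨z, hz⟩
      obtain ⟨k, w, rfl⟩ := Groth.Agent.ModPairLib.exists_sigmaι X₀ z
      rw [hmor] at hz
      obtain rfl := hdisj _ _ hz
      exact ⟨w, (CategoryTheory.Limits.Sigma.ι X k).isOpenEmbedding.injective hz⟩
    · rintro ⟨w, rfl⟩
      exact ⟨_, hmor w⟩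
  haveI : IsClosedImmersion (CategoryTheory.Limits.Sigma.map i) :=
    Groth.Agent.ModPairLib.sigmaMap_prop @IsClosedImmersion i fun j => inferInstance
  constructor
  · intro H j Y g hg
    haveI := hg
    rw [hK g (i j)]
    have h1 := (hK (g ≫ CategoryTheory.Limits.Sigma.ι X j) (CategoryTheory.Limits.Sigma.map i)).1 (H Y _ inferInstance)
    have e : (g ≫ CategoryTheory.Limits.Sigma.ι X j) ⁻¹' Set.range (CategoryTheory.Limits.Sigma.map i) = g ⁻¹' Set.range (i j) := by
      rw [← hpre j]; rfl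
    rwa [e] at h1
  · intro H Y g hg
    haveI := hg
    rw [hK g (CategoryTheory.Limits.Sigma.map i)]
    intro V hV
    let O : ι → Y.Opens := fun j => g ⁻¹ᵁ (CategoryTheory.Limits.Sigma.ι X j).opensRange
    have hO : ∀ j, IsClosed (O j : Set Y) := fun j => (hclosed j).preimage g.continuous
    have hcov : ∀ y : Y, ∃ j, y ∈ O j := fun y => by
      obtain ⟨j, x, hx⟩ := hcase (g y)
      exact ⟨j, x, hx⟩
    have hu : ∀ {j k} (y : Y), y ∈ O j → y ∈ O k → j = k := by
      rintro j k y ⟨a, ha⟩ ⟨b, hb⟩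
      exact hdisj a b (ha.trans hb.symm)
    haveI : ∀ j, IsClosedImmersion (O j).ι := fun j =>
      IsClosedImmersion.of_isPreimmersion _ (by rw [Scheme.Opens.range_ι]; exact hO j)
    let gj : ∀ j, (O j).toScheme ⟶ X j := fun j => IsOpenImmersion.lift (CategoryTheory.Limits.Sigma.ι X j) ((O j).ι ≫ g) (by
      rintro _ ⟨y, rfl⟩
      exact y.2)
    have hgj : ∀ j, gj j ≫ CategoryTheory.Limits.Sigma.ι X j = (O j).ι ≫ g := fun j => IsOpenImmersion.lift_fac _ _ _
    have hfin : ∀ j, IsFinite (gj j) := fun j => by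
      haveI : IsFinite (gj j ≫ CategoryTheory.Limits.Sigma.ι X j) := by rw [hgj]; infer_instance
      exact IsFinite.of_comp (gj j) (CategoryTheory.Limits.Sigma.ι X j)
    have hz : ∀ j, gj j ⁻¹' Set.range (i j) = (O j).ι ⁻¹' (g ⁻¹' Set.range (CategoryTheory.Limits.Sigma.map i)) := by
      intro j
      rw [← hpre j, ← Set.preimage_comp, ← Set.preimage_comp]
      congr 1
      ext y
      exact congrArg (fun m => m y) (hgj j)
    have loc : ∀ j, ∃! U : Set ↥(O j).toScheme, IsClopen U ∧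
        ∀ (y : (O j).toScheme) (hy : (O j).ι y ∈ g ⁻¹' Set.range (CategoryTheory.Limits.Sigma.map i)), y ∈ U ↔ (⟨_, hy⟩ : g ⁻¹' Set.range (CategoryTheory.Limits.Sigma.map i)) ∈ V := by
      intro j
      have h1 := (hK (gj j) (i j)).1 (H j _ (gj j) (hfin j))
      rw [hz j] at h1
      obtain ⟨U, ⟨hU, hUV⟩, huni⟩ := h1 ((fun y => (⟨(O j).ι y.1, y.2⟩ : g ⁻¹' Set.range (CategoryTheory.Limits.Sigma.map i))) ⁻¹' V)
        (hV.preimage (by fun_prop))
      exact ⟨U, ⟨hU, fun y hy => Set.ext_iff.1 hUV ⟨y, hy⟩⟩,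
        fun U' hU' => huni U' ⟨hU'.1, Set.ext fun y => hU'.2 y.1 y.2⟩⟩
    choose U hU huni using loc
    refine ⟨⋃ j, (O j).ι '' U j, ⟨⟨?_, isOpen_iUnion fun j => (O j).ι.isOpenEmbedding.isOpenMap _ (hU j).1.2⟩, ?_⟩, ?_⟩
    · rw [← isOpen_compl_iff]
      have : (⋃ j, (O j).ι '' U j)ᶜ = ⋃ j, (O j).ι '' (U j)ᶜ := by
        ext y
        obtain ⟨j, hj⟩ := hcov y
        simp only [Set.mem_compl_iff, Set.mem_iUnion, Set.mem_image]
        constructor
        · intro h; exact ⟨j, ⟨y, hj⟩, fun hm => h ⟨j, ⟨y, hj⟩, hm, rfl⟩, rfl⟩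
        · rintro ⟨k, z, hz, rfl⟩ ⟨l, w, hw, hwz⟩
          obtain rfl : l = k := hu ((O l).ι w) w.2 (by rw [hwz]; exact z.2)
          exact hz ((O l).ι.isOpenEmbedding.injective hwz ▸ hw)
      rw [this]
      exact isOpen_iUnion fun j => (O j).ι.isOpenEmbedding.isOpenMap _ (hU j).1.1.isOpen_compl
    · ext ⟨y, hy⟩
      obtain ⟨j, hj⟩ := hcov y
      simp only [Set.mem_preimage, Set.mem_iUnion, Set.mem_image]
      constructor
      · rintro ⟨k, z, hz, rfl⟩
        exact ((hU k).2 z hy).1 hz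
      · intro h
        exact ⟨j, ⟨y, hj⟩, ((hU j).2 ⟨y, hj⟩ hy).2 h, rfl⟩
    · rintro U' ⟨hU', hU'V⟩
      have he : ∀ j, (O j).ι ⁻¹' U' = U j := fun j => huni j _ ⟨hU'.preimage (O j).ι.continuous,
        fun y hy => Set.ext_iff.1 hU'V ⟨_, hy⟩⟩
      ext y
      obtain ⟨j, hj⟩ := hcov y
      simp only [Set.mem_iUnion, Set.mem_image]
      constructor
      · intro h; exact ⟨j, ⟨y, hj⟩, (he j).le h, rfl⟩
      · rintro ⟨k, z, hz, rfl⟩
        exact (he k).ge hz

end Groth.Agent.S17964
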