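import Groth.Statements.S17965
import Groth.Agent.HenselCouple.GlobalPair

set_option autoImplicit false
open CategoryTheory CategoryTheory.Limits AlgebraicGeometry
universe u
open Hensel

namespace Groth.Agent.S17965

/-- Let A be a Noetherian ring, I an ideal of A, f : X ⟶ Spec A a proper morphism, i : X₀ = X ×_{Spec A}
Spec (A/I) ⟶ X the first projection, and assume that (X, X₀) is a henselian couple (for every finite
morphism g : Y ⟶ X, every open-closed subset of Y ×_X X₀ is the inverse image under the first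
projection of exactly one open-closed subset of Y). Then (X, X₀) is proper over a henselian pair:
there exist a Noetherian ring A' with an ideal I' such that (A', I') is a henselian pair, a proper
morphism f' : X ⟶ Spec A' and a morphism t : X₀ ⟶ Spec (A'/I') such that the square formed by i, t,
f' and Spec (A'/I') ⟶ Spec A' is cartesian. (The published statement asserts only that X is proper
over some henselian pair; this row also asks the ring of that pair to be Noetherian, which holds for
the henselization of (A, I) that the proof uses.) -/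
theorem result
    (A : Type u) [CommRing A] [IsNoetherianRing A] (I : Ideal A) {X : Scheme.{u}}
    (f : X ⟶ Spec (CommRingCat.of A)) [IsProper f]
    (hX : ∀ (Y : Scheme.{u}) (g : Y ⟶ X), IsFinite g →
      ∀ V : Set ↥(pullback g (pullback.fst f (Spec.map (CommRingCat.ofHom (Ideal.Quotient.mk I))))), IsClopen V →
        ∃! U : Set ↥Y, IsClopen U ∧ (pullback.fst g (pullback.fst f (Spec.map (CommRingCat.ofHom (Ideal.Quotient.mk I))))).base ⁻¹' U = V) :
    ∃ (A' : Type u) (_ : CommRing A') (I' : Ideal A') (_ : HenselianRing A' I') (_ : IsNoetherianRing A')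
      (f' : X ⟶ Spec (CommRingCat.of A')) (_ : IsProper f')
      (t : pullback f (Spec.map (CommRingCat.ofHom (Ideal.Quotient.mk I))) ⟶ Spec (CommRingCat.of (A' ⧸ I'))),
      IsPullback (pullback.fst f (Spec.map (CommRingCat.ofHom (Ideal.Quotient.mk I)))) t f' (Spec.map (CommRingCat.ofHom (Ideal.Quotient.mk I'))) := by
  haveI := Groth.Agent.HenselCouple.isClosedImmersion_spec_quotient I
  haveI : CompactSpace X := QuasiCompact.compactSpace_of_compactSpace f
  haveI : QuasiSeparatedSpace X := quasiSeparatedSpace_of_quasiSeparated f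
  set i := pullback.fst f (Spec.map (CommRingCat.ofHom (Ideal.Quotient.mk I))) with hi
  set J := RingHom.ker i.appTop.hom with hJ
  have hh := Groth.Agent.HenselCouple.henselianRing_of_couple i hX
  letI := (Groth.Agent.HenselCouple.algMap f).toAlgebra
  haveI : Module.Finite A Γ(X, ⊤) :=
    RingHom.finite_algebraMap.1 (Groth.Agent.HenselCouple.finite_algMap f)
  haveI hN : IsNoetherianRing Γ(X, ⊤) := IsNoetherianRing.of_finite A _
  have hfac := Groth.Agent.HenselCouple.toSpecΓ_map_algMap f
  haveI : IsProper (X.toSpecΓ ≫ Spec.map (CommRingCat.ofHom (Groth.Agent.HenselCouple.algMap f))) := by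
    rw [hfac]; infer_instance
  haveI hp : IsProper X.toSpecΓ :=
    IsProper.of_comp X.toSpecΓ (Spec.map (CommRingCat.ofHom (Groth.Agent.HenselCouple.algMap f)))
  let k : (Γ(X, ⊤) : Type u) ⧸ J →+* Γ(pullback f (Spec.map (CommRingCat.ofHom (Ideal.Quotient.mk I))), ⊤) :=
    Ideal.Quotient.lift J i.appTop.hom fun a ha => ha
  let t : pullback f (Spec.map (CommRingCat.ofHom (Ideal.Quotient.mk I))) ⟶
      Spec (CommRingCat.of ((Γ(X, ⊤) : Type u) ⧸ J)) :=
    (pullback f (Spec.map (CommRingCat.ofHom (Ideal.Quotient.mk I)))).toSpecΓ ≫ Spec.map (CommRingCat.ofHom k)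
  have ht : i ≫ X.toSpecΓ = t ≫ Spec.map (CommRingCat.ofHom (Ideal.Quotient.mk J)) := by
    rw [Scheme.toSpecΓ_naturality, Category.assoc, ← Spec.map_comp]
    rfl
  refine ⟨(Γ(X, ⊤) : Type u), inferInstance, J, hh, hN, X.toSpecΓ, hp, t, ?_⟩
  let ψ : A ⧸ I →+* (Γ(X, ⊤) : Type u) ⧸ J := Ideal.quotientMap J (Groth.Agent.HenselCouple.algMap f)
    (Ideal.map_le_iff_le_comap.1 (Groth.Agent.HenselCouple.map_algMap_le_ker I f))
  have hψ : CommRingCat.ofHom (Ideal.Quotient.mk I) ≫ CommRingCat.ofHom ψ =
      CommRingCat.ofHom (Groth.Agent.HenselCouple.algMap f) ≫ CommRingCat.ofHom (Ideal.Quotient.mk J) := by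
    ext a
    rfl
  haveI : IsClosedImmersion (Spec.map (CommRingCat.ofHom (Ideal.Quotient.mk J))) :=
    Groth.Agent.HenselCouple.isClosedImmersion_spec_quotient J
  have hcond : ∀ s : PullbackCone X.toSpecΓ (Spec.map (CommRingCat.ofHom (Ideal.Quotient.mk J))),
      s.fst ≫ f = (s.snd ≫ Spec.map (CommRingCat.ofHom ψ)) ≫
        Spec.map (CommRingCat.ofHom (Ideal.Quotient.mk I)) := fun s => by
    rw [Category.assoc, ← Spec.map_comp, hψ, Spec.map_comp]
    conv_lhs => rw [← hfac]
    rw [← Category.assoc, s.condition, Category.assoc]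
  refine ⟨⟨ht⟩, ⟨PullbackCone.IsLimit.mk ht (fun s => pullback.lift s.fst _ (hcond s))
    (fun s => pullback.lift_fst _ _ _) (fun s => ?_) (fun s m h1 _ => ?_)⟩⟩
  · refine (cancel_mono (Spec.map (CommRingCat.ofHom (Ideal.Quotient.mk J)))).1 ?_
    rw [Category.assoc, ← ht, pullback.lift_fst_assoc, s.condition]
  · refine (cancel_mono i).1 ?_
    rw [h1, pullback.lift_fst]

end Groth.Agent.S17965
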