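import Groth.Statements.S17969
import Mathlib.RingTheory.Adjoin.PowerBasis
import Mathlib.LinearAlgebra.Matrix.Charpoly.Minpoly
import Mathlib.LinearAlgebra.Charpoly.ToMatrix
import Mathlib.RingTheory.Polynomial.GaussLemma
import Mathlib.RingTheory.Localization.BaseChange
import Mathlib.RingTheory.IntegralClosure.IsIntegralClosure.Basic

set_option autoImplicit false
universe u
open scoped TensorProduct
open CAlg

namespace Groth.Agent.S17969

/-- Let A be an integrally closed domain with fraction field K and B a commutative A-algebra which is
finite and torsion-free as an A-module and generated as an A-algebra by a single element x. Let P be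
the characteristic polynomial of multiplication by 1 ⊗ x on the finite free K-module K ⊗_A B. Then P
has coefficients in A, namely P is the image of a monic polynomial over A, and the kernel of the
A-algebra map A[T] → B sending T to x is generated by that polynomial, so that B is A[T]/(P). -/
theorem result
    (A : Type u) [CommRing A] [IsDomain A] [IsIntegrallyClosed A]
    (B : Type u) [CommRing B] [Algebra A B] [Module.Finite A B] [NoZeroSMulDivisors A B]
    (x : B) (hx : Algebra.adjoin A {x} = ⊤) :
    ∃ P : Polynomial A, P.Monic ∧
      Polynomial.map (algebraMap A (FractionRing A)) P =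
        (LinearMap.mulLeft (FractionRing A) ((1 : FractionRing A) ⊗ₜ[A] x)).charpoly ∧
      RingHom.ker (Polynomial.aeval x).toRingHom = Ideal.span {P} := by
  classical
  open Polynomial in
  let K := FractionRing A
  let j : B →ₐ[A] K ⊗[A] B := Algebra.TensorProduct.includeRight
  have hj : Function.Injective j := by
    have hloc : IsLocalizedModule (nonZeroDivisors A) (TensorProduct.mk A K B 1) :=
      (isLocalizedModule_iff_isBaseChange (nonZeroDivisors A) K _).mpr (TensorProduct.isBaseChange A B K)
    rw [injective_iff_map_eq_zero]
    intro b hb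
    obtain ⟨c, hc⟩ := (IsLocalizedModule.eq_zero_iff (nonZeroDivisors A) (TensorProduct.mk A K B 1)).mp hb
    exact (smul_eq_zero.mp hc).resolve_left (nonZeroDivisors.coe_ne_zero c)
  let x' : K ⊗[A] B := j x
  have hxi : IsIntegral A x := Algebra.IsIntegral.isIntegral x
  have hx' : IsIntegral K x' := (hxi.map j).tower_top
  have htop : Algebra.adjoin K {x'} = ⊤ := by
    refine eq_top_iff.mpr fun z _ => ?_
    induction z with
    | zero => exact Subalgebra.zero_mem _
    | add a b ha hb => exact Subalgebra.add_mem _ (ha trivial) (hb trivial)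
    | tmul c b =>
      have hb : j b ∈ Algebra.adjoin K {x'} := by
        have hb' : b ∈ Algebra.adjoin A {x} := hx ▸ Algebra.mem_top
        have : j b ∈ (Algebra.adjoin A {x}).map j := ⟨b, hb', rfl⟩
        rw [AlgHom.map_adjoin, Set.image_singleton] at this
        exact Algebra.adjoin_le (S := (Algebra.adjoin K {x'}).restrictScalars A) Algebra.subset_adjoin this
      have : c ⊗ₜ[A] b = c • j b := by
        show c ⊗ₜ[A] b = c • ((1 : K) ⊗ₜ[A] b)
        rw [TensorProduct.smul_tmul', smul_eq_mul, mul_one]
      rw [this]
      exact Subalgebra.smul_mem _ hb c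
  obtain ⟨Q, hQm, hQ⟩ := id hxi
  have hdvd : minpoly K x' ∣ Q.map (algebraMap A K) := by
    apply minpoly.dvd
    rw [Polynomial.aeval_map_algebraMap, Polynomial.aeval_algHom_apply, Polynomial.aeval_def, hQ, map_zero]
  obtain ⟨P, hP⟩ := IsIntegrallyClosed.eq_map_mul_C_of_dvd K hQm hdvd
  rw [(minpoly.monic hx').leadingCoeff, C_1, mul_one] at hP
  have hPm : P.Monic := Polynomial.monic_of_injective (IsFractionRing.injective A K) (hP ▸ minpoly.monic hx')
  refine ⟨P, hPm, ?_, ?_⟩
  · rw [hP]
    let pb : PowerBasis K (K ⊗[A] B) :=
      (Algebra.adjoin.powerBasis hx').map ((Subalgebra.equivOfEq _ _ htop).trans Subalgebra.topEquiv)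
    have hgen : pb.gen = x' := rfl
    have h1 := charpoly_leftMulMatrix pb
    rw [hgen] at h1
    rw [← h1, Algebra.leftMulMatrix_apply, LinearMap.charpoly_toMatrix]
    rfl
  · ext g
    rw [RingHom.mem_ker, Ideal.mem_span_singleton, ← map_dvd_map (algebraMap A K) (IsFractionRing.injective A K) hPm, hP,
      minpoly.dvd_iff, Polynomial.aeval_map_algebraMap, Polynomial.aeval_algHom_apply, map_eq_zero_iff j hj]
    rfl

end Groth.Agent.S17969
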