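import Groth.Statements.S17971
import Groth.Agent.HenselCouple.GlobalPair

set_option autoImplicit false
open CategoryTheory CategoryTheory.Limits AlgebraicGeometry
universe u
open Hensel

namespace Groth.Agent.S17971

/-- For a commutative ring A and an ideal I, the pair (A, I) is henselian if and only if the couple
(Spec A, Spec (A/I)) is henselian, i.e. if and only if for every finite morphism g : Y ⟶ Spec A
every open-closed subset of Y ×_{Spec A} Spec (A/I) is the inverse image under the first projection
of exactly one open-closed subset of Y. -/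
theorem result (A : Type u) [CommRing A] (I : Ideal A) :
    HenselianRing A I ↔
    ∀ (Y : Scheme.{u}) (g : Y ⟶ Spec (CommRingCat.of A)), IsFinite g →
      ∀ V : Set ↥(pullback g (Spec.map (CommRingCat.ofHom (Ideal.Quotient.mk I)))), IsClopen V →
        ∃! U : Set ↥Y, IsClopen U ∧ (pullback.fst g (Spec.map (CommRingCat.ofHom (Ideal.Quotient.mk I)))).base ⁻¹' U = V := by
  haveI hI := Groth.Agent.HenselCouple.isClosedImmersion_spec_quotient I
  constructor
  · intro h Y g hg V hV
    haveI : IsAffine Y := isAffine_of_isAffineHom g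
    letI := (Groth.Agent.HenselCouple.algMap g).toAlgebra
    haveI : Module.Finite A Γ(Y, ⊤) := by
      refine RingHom.finite_algebraMap.1 (RingHom.Finite.comp ?_ (RingHom.Finite.of_surjective _
        (ConcreteCategory.bijective_of_isIso (Scheme.ΓSpecIso (CommRingCat.of A)).inv).2))
      exact IsFinite.finite_app g ⊤ (isAffineOpen_top _)
    refine Groth.Agent.HenselCouple.existsUnique_clopen_of_bijOn g
      Groth.Agent.HenselCouple.toSpecΓ_connFibres_affine I
      (Groth.Agent.Hensel.idempotents_bijOn (Groth.Agent.Hensel.gabberRoot_of_henselianRing (I := I)) Γ(Y, ⊤))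
      _ (pullback.fst g (Spec.map (CommRingCat.ofHom (Ideal.Quotient.mk I)))).isClosedEmbedding ?_ V hV
    rw [Scheme.Pullback.range_fst, Groth.Agent.HenselCouple.range_spec_quotient]
  · intro hX
    have h := Groth.Agent.HenselCouple.henselianRing_of_couple
      (Spec.map (CommRingCat.ofHom (Ideal.Quotient.mk I))) hX
    set i := Spec.map (CommRingCat.ofHom (Ideal.Quotient.mk I)) with hi
    letI := (Scheme.ΓSpecIso (CommRingCat.of A)).hom.hom.toAlgebra
    have hsurj : Function.Surjective (algebraMap Γ(Spec (CommRingCat.of A), ⊤) A) :=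
      (ConcreteCategory.bijective_of_isIso (Scheme.ΓSpecIso (CommRingCat.of A)).hom).2
    haveI : Module.Finite Γ(Spec (CommRingCat.of A), ⊤) A :=
      RingHom.finite_algebraMap.1 (RingHom.Finite.of_surjective _ hsurj)
    have h' := Groth.Agent.Hensel.henselianRing_of_isIntegral (h := h) A
    have heq : (RingHom.ker i.appTop.hom).map (algebraMap Γ(Spec (CommRingCat.of A), ⊤) A) = I := by
      have hnat : ∀ a, (Scheme.ΓSpecIso (CommRingCat.of (A ⧸ I))).hom (i.appTop a) =
          Ideal.Quotient.mk I (algebraMap Γ(Spec (CommRingCat.of A), ⊤) A a) := fun a =>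
        RingHom.congr_fun (congrArg CommRingCat.Hom.hom
          (Scheme.ΓSpecIso_naturality (CommRingCat.ofHom (Ideal.Quotient.mk I)))) a
      refine le_antisymm (Ideal.map_le_iff_le_comap.2 fun a ha => ?_) fun x hx => ?_
      · rw [Ideal.mem_comap, ← Ideal.Quotient.eq_zero_iff_mem, ← hnat, show i.appTop a = 0 from ha, map_zero]
      · obtain ⟨a, rfl⟩ := hsurj x
        refine Ideal.mem_map_of_mem _ ((ConcreteCategory.bijective_of_isIso
          (Scheme.ΓSpecIso (CommRingCat.of (A ⧸ I))).hom).1 ?_)
        rw [map_zero]
        exact (hnat a).trans (Ideal.Quotient.eq_zero_iff_mem.2 hx)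
    exact heq ▸ h'

end Groth.Agent.S17971
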