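import Groth.Statements.S17974
import Mathlib.RingTheory.Unramified.Finite
import Mathlib.RingTheory.Ideal.IdempotentFG


set_option autoImplicit false
universe u
open Unram
open scoped TensorProduct

namespace Groth.Agent.S17974

/-- Let A be a commutative ring, B an unramified A-algebra (formally unramified and of finite type), C
an A-algebra, p a prime ideal of C, and u, v : B → C two A-algebra homomorphisms which agree after
composition with C → C/p. Then there is an element f of C not in p such that u and v agree after
composition with the localization map C → C[1/f]. -/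
theorem result
    (A : Type u) [CommRing A] (B : Type u) [CommRing B] [Algebra A B]
    [Algebra.FormallyUnramified A B] [Algebra.FiniteType A B]
    (C : Type u) [CommRing C] [Algebra A C] (p : Ideal C) [p.IsPrime]
    (u v : B →ₐ[A] C)
    (huv : (Ideal.Quotient.mk p).comp u.toRingHom = (Ideal.Quotient.mk p).comp v.toRingHom) :
    ∃ f : C, f ∉ p ∧
      (algebraMap C (Localization.Away f)).comp u.toRingHom =
        (algebraMap C (Localization.Away f)).comp v.toRingHom := by
  have hidem : IsIdempotentElem (KaehlerDifferential.ideal A B) :=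
    (Ideal.cotangent_subsingleton_iff _).mp (inferInstanceAs (Subsingleton Ω[B⁄A]))
  obtain ⟨e, he, hI⟩ := (Ideal.isIdempotentElem_iff_of_fg _
    (KaehlerDifferential.ideal_fg A B)).mp hidem
  let w : B ⊗[A] B →ₐ[A] C := Algebra.TensorProduct.productMap u v
  have hwI : ∀ z ∈ KaehlerDifferential.ideal A B, w z ∈ p := by
    intro z hz
    have : (Ideal.Quotient.mkₐ A p).comp w =
        ((Ideal.Quotient.mkₐ A p).comp u).comp (Algebra.TensorProduct.lmul' A) := by
      refine Algebra.TensorProduct.ext' fun a b => ?_
      simp only [AlgHom.comp_apply, w, Algebra.TensorProduct.productMap_apply_tmul,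
        Algebra.TensorProduct.lmul'_apply_tmul, map_mul]
      exact congrArg _ (RingHom.congr_fun huv b).symm
    rw [← Ideal.Quotient.eq_zero_iff_mem]
    refine (AlgHom.congr_fun this z).trans ?_
    rw [AlgHom.comp_apply, show Algebra.TensorProduct.lmul' A z = 0 from hz, map_zero]
  refine ⟨1 - w e, fun h => ‹p.IsPrime›.one_notMem ?_, RingHom.ext fun b => ?_⟩
  · simpa using add_mem h (hwI e (hI.ge (Ideal.subset_span rfl)))
  · have hb : (1 : B) ⊗ₜ[A] b - b ⊗ₜ[A] 1 ∈ KaehlerDifferential.ideal A B :=
      KaehlerDifferential.one_smul_sub_smul_one_mem_ideal A b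
    rw [hI, Ideal.submodule_span_eq, Ideal.mem_span_singleton'] at hb
    obtain ⟨c, hc⟩ := hb
    have h := congrArg w hc
    simp only [w, map_mul, map_sub, Algebra.TensorProduct.productMap_apply_tmul, map_one, one_mul,
      mul_one] at h
    rw [RingHom.comp_apply, RingHom.comp_apply, eq_comm, ← sub_eq_zero, ← map_sub]
    refine (IsLocalization.map_eq_zero_iff (Submonoid.powers (1 - w e)) _ _).mpr
      ⟨⟨_, Submonoid.mem_powers _⟩, ?_⟩
    change (1 - w e) * (v b - u b) = 0
    rw [← h, ← mul_assoc, mul_comm (1 - w e), mul_assoc, sub_mul, one_mul,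
      ← map_mul, he.eq, sub_self, mul_zero]

end Groth.Agent.S17974
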