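import Groth.Statements.S17975
import Mathlib.RingTheory.AdjoinRoot
import Mathlib.RingTheory.Nakayama
import Mathlib.RingTheory.LocalRing.ResidueField.Basic

set_option autoImplicit false
universe u
open Hensel

namespace Groth.Agent.S17975

/-- Let A be a local ring with maximal ideal m and residue field k, C a commutative A-algebra which is
finitely generated as an A-module, Q₀ a monic polynomial of degree n over k, e an A-algebra
isomorphism from C/mC to k[T]/(Q₀), and x an element of C whose class is sent by e to the class of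
T. Then x generates C as an A-algebra, and x is a root of a monic polynomial Q over A of degree n
whose reduction modulo m equals Q₀. -/
theorem result
    (A : Type u) [CommRing A] [IsLocalRing A] (C : Type u) [CommRing C] [Algebra A C] [Module.Finite A C]
    (Q₀ : Polynomial (IsLocalRing.ResidueField A)) (hQ₀ : Q₀.Monic)
    (e : (C ⧸ Ideal.map (algebraMap A C) (IsLocalRing.maximalIdeal A)) ≃ₐ[A] AdjoinRoot Q₀)
    (x : C) (hx : e (Ideal.Quotient.mk (Ideal.map (algebraMap A C) (IsLocalRing.maximalIdeal A)) x) = AdjoinRoot.root Q₀) :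
    Algebra.adjoin A {x} = ⊤ ∧
      ∃ Q : Polynomial A, Q.Monic ∧ Q.natDegree = Q₀.natDegree ∧
        Polynomial.map (IsLocalRing.residue A) Q = Q₀ ∧ Polynomial.aeval x Q = 0 := by
  set n := Q₀.natDegree
  have : Nontrivial (IsLocalRing.ResidueField A) := inferInstance
  have hN : Submodule.span A (Set.range fun i : Fin n ↦ x ^ (i : ℕ)) = ⊤ := by
    refine eq_top_iff.mpr (Submodule.le_of_le_smul_of_le_jacobson_bot Module.Finite.fg_top
      (IsLocalRing.jacobson_eq_maximalIdeal ⊥ bot_ne_top).ge fun c _ ↦ ?_)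
    obtain ⟨p, hp⟩ := AdjoinRoot.mk_surjective (e (Ideal.Quotient.mk (Ideal.map (algebraMap A C) (IsLocalRing.maximalIdeal A)) c))
    have hr : AdjoinRoot.mk Q₀ (p %ₘ Q₀) = e (Ideal.Quotient.mk (Ideal.map (algebraMap A C) (IsLocalRing.maximalIdeal A)) c) := by
      rw [← hp, AdjoinRoot.mk_eq_mk]
      exact ⟨-(p /ₘ Q₀), by linear_combination (Polynomial.modByMonic_add_div p Q₀)⟩
    choose a ha using fun i : Fin n ↦ IsLocalRing.residue_surjective (R := A) ((p %ₘ Q₀).coeff i)
    set c' := ∑ i : Fin n, a i • x ^ (i : ℕ)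
    have hc' : Ideal.Quotient.mk (Ideal.map (algebraMap A C) (IsLocalRing.maximalIdeal A)) c' = Ideal.Quotient.mk (Ideal.map (algebraMap A C) (IsLocalRing.maximalIdeal A)) c := by
      apply e.injective
      rw [← hr, ← Ideal.Quotient.mkₐ_eq_mk (R₁ := A)]
      simp only [c', map_sum, map_smul, map_pow]
      rw [Ideal.Quotient.mkₐ_eq_mk, hx]
      have hsum : p %ₘ Q₀ = ∑ i : Fin n, Polynomial.C ((p %ₘ Q₀).coeff i) * Polynomial.X ^ (i : ℕ) := by
        rw [Fin.sum_univ_eq_sum_range
          (fun i ↦ Polynomial.C ((p %ₘ Q₀).coeff i) * Polynomial.X ^ i)]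
        by_cases h0 : p %ₘ Q₀ = 0
        · simp [h0]
        refine Polynomial.as_sum_range_C_mul_X_pow' _ ((Polynomial.natDegree_lt_iff_degree_lt h0).mpr ?_)
        exact (Polynomial.degree_modByMonic_lt _ hQ₀).trans_eq (Polynomial.degree_eq_natDegree hQ₀.ne_zero)
      conv_rhs => rw [hsum, map_sum]
      refine Finset.sum_congr rfl fun i _ ↦ ?_
      rw [map_mul, map_pow, AdjoinRoot.mk_C, AdjoinRoot.mk_X, Algebra.smul_def, ← ha]
      rfl
    have hmem : c - c' ∈ IsLocalRing.maximalIdeal A • (⊤ : Submodule A C) := by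
      rw [Ideal.smul_top_eq_map]
      exact Ideal.Quotient.eq.mp hc'.symm
    rw [show c = c' + (c - c') by ring]
    exact Submodule.add_mem_sup (sum_mem fun i _ ↦ Submodule.smul_mem _ _
      (Submodule.subset_span ⟨i, rfl⟩)) hmem
  refine ⟨eq_top_iff.mpr fun c _ ↦ ?_, ?_⟩
  · have : c ∈ Submodule.span A (Set.range fun i : Fin n ↦ x ^ (i : ℕ)) := hN ▸ Submodule.mem_top
    exact Submodule.span_le.mpr (by
      rintro _ ⟨i, rfl⟩; exact pow_mem (Algebra.self_mem_adjoin_singleton A x) _ :
        Set.range (fun i : Fin n ↦ x ^ (i : ℕ)) ⊆ (Algebra.adjoin A {x}).toSubmodule) this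
  obtain ⟨a, ha⟩ := (Submodule.mem_span_range_iff_exists_fun A).mp
    (hN ▸ Submodule.mem_top : x ^ n ∈ Submodule.span A (Set.range fun i : Fin n ↦ x ^ (i : ℕ)))
  set s : Polynomial A := ∑ i : Fin n, Polynomial.C (a i) * Polynomial.X ^ (i : ℕ)
  have hs : s.degree < (n : WithBot ℕ) := Polynomial.degree_sum_fin_lt _
  set Q := Polynomial.X ^ n - s
  have hQm : Q.Monic := Polynomial.monic_X_pow_sub hs
  have hQd : Q.natDegree = n := Polynomial.natDegree_eq_of_degree_eq_some (by
    rw [Polynomial.degree_sub_eq_left_of_degree_lt (by rwa [Polynomial.degree_X_pow]),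
      Polynomial.degree_X_pow])
  have hQx : Polynomial.aeval x Q = 0 := by
    simp [Q, s, map_sum, ← ha, Algebra.smul_def]
  refine ⟨Q, hQm, hQd, ?_, hQx⟩
  have hdvd : Q₀ ∣ Q.map (IsLocalRing.residue A) := by
    rw [← AdjoinRoot.mk_eq_zero, ← AdjoinRoot.aeval_eq, Polynomial.aeval_def,
      Polynomial.eval₂_map, ← hx]
    have := congr(e (Ideal.Quotient.mkₐ A (Ideal.map (algebraMap A C) (IsLocalRing.maximalIdeal A)) $hQx))
    rw [map_zero, map_zero, ← Polynomial.aeval_algHom_apply, ← Polynomial.aeval_algHom_apply] at this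
    rw [← this, Polynomial.aeval_def]
    rfl
  exact (Polynomial.eq_of_monic_of_dvd_of_natDegree_le hQ₀ (hQm.map _) hdvd
    (by rw [hQm.natDegree_map, hQd]))

end Groth.Agent.S17975
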