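import Groth.Statements.S17977
import Groth.Agent.Hensel.EssentiallyEtale

set_option autoImplicit false
universe u
open EGA4loc

namespace Groth.Agent.S17977

/-- Let A be a local ring, B a local ring which is a local-etale A-algebra, and C a local ring with a
local structure map A → C. Then every A-algebra homomorphism B → C is local. (The source states this
for local ind-etale B, i.e. filtered colimits of local-etale algebras along local maps, and reduces
at once to the local-etale case stated here.) -/
theorem result (A : Type u) [CommRing A] [IsLocalRing A]
    (B : Type u) [CommRing B] [IsLocalRing B] [Algebra A B] (hB : EGA4loc.IsEssentiallyEtale A B)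
    (C : Type u) [CommRing C] [IsLocalRing C] [Algebra A C] [IsLocalHom (algebraMap A C)]
    (φ : B →ₐ[A] C) : IsLocalHom φ.toRingHom := by
  haveI : IsLocalHom (algebraMap A B) := by
    have h2 : IsLocalHom ((φ : B →ₐ[A] C).toRingHom.comp (algebraMap A B)) := by
      rw [AlgHom.toRingHom_eq_coe, φ.comp_algebraMap]; infer_instance
    exact isLocalHom_of_comp (algebraMap A B) φ.toRingHom
  exact Groth.Agent.Hensel.isLocalHom_of_isEssentiallyEtale hB
    (IsLocalRing.map_maximalIdeal_le (algebraMap A C)) φ

end Groth.Agent.S17977
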