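import Groth.Statements.S17979
import Mathlib.RingTheory.Polynomial.Basic
import Mathlib.RingTheory.AdjoinRoot
import Mathlib.RingTheory.Nakayama
import Mathlib.RingTheory.LocalRing.ResidueField.Basic

set_option autoImplicit false
universe u
open Hensel

namespace Groth.Agent.S17979

/-- Let A be a local ring with residue field k and Q, R polynomials over A with Q monic. If the images
of Q and R in k[T] generate the unit ideal, then Q and R already generate the unit ideal of A[T]. -/
theorem result (A : Type u) [CommRing A] [IsLocalRing A]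
    (Q R : Polynomial A) (hQ : Q.Monic)
    (h : IsCoprime (Polynomial.map (IsLocalRing.residue A) Q) (Polynomial.map (IsLocalRing.residue A) R)) :
    IsCoprime Q R := by
  set J : Ideal (AdjoinRoot Q) := Ideal.span {AdjoinRoot.mk Q R}
  have : Module.Finite A (AdjoinRoot Q) := hQ.finite_adjoinRoot
  have htop : J = ⊤ := by
    have hle : (⊤ : Submodule A (AdjoinRoot Q)) ≤ J.restrictScalars A ⊔
        IsLocalRing.maximalIdeal A • (⊤ : Submodule A (AdjoinRoot Q)) := by
      rintro z -
      obtain ⟨u, v, huv⟩ := h
      obtain ⟨u', hu'⟩ := Polynomial.map_surjective _ IsLocalRing.residue_surjective u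
      obtain ⟨v', hv'⟩ := Polynomial.map_surjective _ IsLocalRing.residue_surjective v
      obtain ⟨p, rfl⟩ := AdjoinRoot.mk_surjective z
      have hcoeff : ∀ i, (p - p * (v' * R) - p * u' * Q).coeff i ∈ IsLocalRing.maximalIdeal A := by
        intro i
        have : (p - p * (v' * R) - p * u' * Q).map (IsLocalRing.residue A) = 0 := by
          simp only [Polynomial.map_sub, Polynomial.map_mul, hu', hv']
          linear_combination (-(p.map (IsLocalRing.residue A))) * huv
        have := congr(Polynomial.coeff $this i)
        rwa [Polynomial.coeff_map, Polynomial.coeff_zero, IsLocalRing.residue_eq_zero_iff] at this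
      have hmem : AdjoinRoot.mk Q (p - p * (v' * R) - p * u' * Q) ∈
          IsLocalRing.maximalIdeal A • (⊤ : Submodule A (AdjoinRoot Q)) := by
        rw [Ideal.smul_top_eq_map, Submodule.restrictScalars_mem, ← AdjoinRoot.aeval_eq,
          Polynomial.aeval_eq_sum_range]
        refine sum_mem fun i _ ↦ ?_
        rw [Algebra.smul_def]
        exact Ideal.mul_mem_right _ _ (Ideal.mem_map_of_mem _ (hcoeff i))
      have hsplit : AdjoinRoot.mk Q p = AdjoinRoot.mk Q (p * v') * AdjoinRoot.mk Q R +
          AdjoinRoot.mk Q (p - p * (v' * R) - p * u' * Q) := by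
        simp only [map_sub, map_mul, AdjoinRoot.mk_self, mul_zero, sub_zero]
        ring
      rw [hsplit]
      exact Submodule.add_mem_sup (J.mul_mem_left _ (Ideal.mem_span_singleton_self _)) hmem
    have := Submodule.le_of_le_smul_of_le_jacobson_bot Module.Finite.fg_top
      (IsLocalRing.jacobson_eq_maximalIdeal ⊥ bot_ne_top).ge hle
    exact eq_top_iff.mpr fun z hz ↦ this (Submodule.mem_top : z ∈ (⊤ : Submodule A _))
  obtain ⟨c, hc⟩ := Ideal.mem_span_singleton'.mp ((Ideal.eq_top_iff_one J).mp htop)
  obtain ⟨c, rfl⟩ := AdjoinRoot.mk_surjective c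
  rw [← map_mul, ← map_one (AdjoinRoot.mk Q), AdjoinRoot.mk_eq_mk] at hc
  obtain ⟨d, hd⟩ := hc
  exact ⟨-d, c, by linear_combination hd⟩

end Groth.Agent.S17979
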