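import Groth.Statements.S1798
import Groth.Agent.FrameHom.Kill
-- import your own Groth.Agent.* helpers here

set_option autoImplicit false
universe u
open CategoryTheory AlgebraicGeometry
open LocCoh

namespace Groth.Agent.S1798

/-- Let A be a ring, J ⊆ I finitely generated ideals, U the open complement of V(I) in Spec A and p ≥ 0.
If some power of J kills H^p(U, O_U), then for each finite locally free O_U-module F some power of J
kills H^p(U, F). -/
theorem result (A : Type u) [CommRing A] (J I : Ideal A) (hJI : J ≤ I) (hJ : J.FG) (hI : I.FG) (p n : ℕ) (hO : ∀ a ∈ J ^ n, ∀ x : Coh.HH (↑(LocCoh.puncturedOpen A I)) (Coh.structureModule (↑(LocCoh.puncturedOpen A I))) p, a • x = 0) (F : (↑(LocCoh.puncturedOpen A I) : Scheme.{u}).Modules) (hF : FlatMod.IsFinLocFree F) : ∃ m : ℕ, ∀ a ∈ J ^ m, ∀ x : Coh.HH (↑(LocCoh.puncturedOpen A I)) F p, a • x = 0 := by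

  classical
  let U := LocCoh.puncturedOpen A I
  have hopen : ∀ f : A, (U.ι ⁻¹ᵁ (PrimeSpectrum.basicOpen f) : U.toScheme.Opens) =
      U.toScheme.basicOpen (Coh.toGlobal (U.toScheme ↘ Spec (CommRingCat.of A)) f : Γ(U.toScheme, ⊤)) := by
    intro f
    refine (congrArg (fun V : (Spec (CommRingCat.of A)).Opens => U.ι ⁻¹ᵁ V)
      (basicOpen_eq_of_affine (R := CommRingCat.of A) f).symm).trans ?_
    exact Scheme.preimage_basicOpen U.ι _
  have hc : IsCompact (U : Set (Spec (CommRingCat.of A))) := by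
    show IsCompact ((PrimeSpectrum.zeroLocus (R := A) (I : Set A))ᶜ)
    exact (PrimeSpectrum.isCompact_isOpen_iff_ideal.mpr ⟨I, hI, rfl⟩).1
  haveI : CompactSpace U.toScheme := isCompact_iff_compactSpace.mp hc
  haveI : QuasiSeparatedSpace U.toScheme :=
    QuasiSeparatedSpace.of_isOpenEmbedding U.ι.isOpenEmbedding
  have hloc : ∀ x : U.toScheme, ∃ (f : A) (k : ℕ)
      (e : Fin k → Γ(F, U.ι ⁻¹ᵁ (PrimeSpectrum.basicOpen f))),
      FrameHom.IsBasisOn F e ∧ x ∈ (U.ι ⁻¹ᵁ (PrimeSpectrum.basicOpen f) : U.toScheme.Opens) := by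
    intro x
    obtain ⟨W, k, hxW, ⟨t⟩⟩ := hF x
    obtain ⟨e, he⟩ := FrameHom.exists_isBasisOn_of_triv t
    obtain ⟨_, ⟨_, ⟨f, rfl⟩, rfl⟩, hxf, hfW⟩ :=
      PrimeSpectrum.isBasis_basic_opens.exists_subset_of_mem_open
        (show U.ι.base x ∈ ((U.ι ''ᵁ W : (Spec (CommRingCat.of A)).Opens) : Set _) from ⟨x, hxW, rfl⟩)
        (U.ι ''ᵁ W).2
    have hle : U.ι ⁻¹ᵁ (PrimeSpectrum.basicOpen f) ≤ W := fun y hy => by
      obtain ⟨z, hz, hzy⟩ := hfW hy
      rwa [U.ι.isOpenEmbedding.injective hzy] at hz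
    exact ⟨f, k, fun l => QCohBase.mres F hle (e l), he.res hle, hxf⟩
  choose f k e he hx using hloc
  obtain ⟨t, ht⟩ := CompactSpace.elim_nhds_subcover
    (fun x => ((U.ι ⁻¹ᵁ (PrimeSpectrum.basicOpen (f x)) : U.toScheme.Opens) : Set U.toScheme))
    (fun x => (U.ι ⁻¹ᵁ (PrimeSpectrum.basicOpen (f x))).2.mem_nhds (hx x))
  have hkill : ∀ x : U.toScheme, ∃ N : ℕ, ∀ b : A,
      (∀ z : Coh.HH U.toScheme (Coh.structureModule U.toScheme) p, b • z = 0) →
      ∀ y : Coh.HH U.toScheme F p, (f x ^ N * b) • y = 0 := by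
    intro x
    have hb := he x
    revert hb
    generalize e x = e₀
    revert e₀
    rw [hopen (f x)]
    intro e₀ hb
    exact FrameHom.exists_pow_mul_annihilates hF (f x) hb p
  choose N hN using hkill
  let C : Ideal A := (Module.annihilator A (Coh.HH U.toScheme F p)).colon (↑(J ^ n) : Set A)
  have hrad : J ≤ C.radical := by
    refine hJI.trans ?_
    rw [← PrimeSpectrum.zeroLocus_subset_zeroLocus_iff]
    intro P hP
    by_contra hPI
    have hmem : (⟨P, hPI⟩ : U.toScheme) ∈ ⋃ i ∈ t,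
        ((U.ι ⁻¹ᵁ (PrimeSpectrum.basicOpen (f i)) : U.toScheme.Opens) : Set U.toScheme) := by
      rw [ht]; trivial
    obtain ⟨i, _, hi⟩ := Set.mem_iUnion₂.mp hmem
    refine (P.isPrime.pow_mem_iff_mem (N i + 1) (Nat.succ_pos _)).not.mpr hi (hP ?_)
    refine Submodule.mem_colon.mpr fun a ha => Module.mem_annihilator.mpr fun y => ?_
    rw [smul_eq_mul, pow_succ', mul_assoc, mul_smul, hN i a (fun z => hO a ha z) y, smul_zero]
  obtain ⟨m, hm⟩ := Ideal.exists_pow_le_of_le_radical_of_fg hrad hJ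
  refine ⟨m + n, fun a ha => ?_⟩
  rw [pow_add] at ha
  intro y
  induction ha using Submodule.mul_induction_on' with
  | mem_mul_mem b hb c hc =>
    exact Module.mem_annihilator.mp (Submodule.mem_colon.mp (hm hb) c hc) y
  | add p _ q _ hp hq => rw [add_smul, hp, hq, add_zero]

end Groth.Agent.S1798
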