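import Groth.Statements.S17982
import Groth.Agent.Hensel.Product

set_option autoImplicit false
universe u
open Hensel

namespace Groth.Agent.S17982

/-- Let A be a local ring and B a commutative A-algebra which is finitely generated as an A-module. Then
B is ring-isomorphic to a finite product of local rings if and only if the canonical homomorphism
from B to the product of the localizations of B at its maximal ideals is bijective. -/
theorem result
    (A : Type u) [CommRing A] [IsLocalRing A] (B : Type u) [CommRing B] [Algebra A B] [Module.Finite A B] :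
    (∃ (ι : Type u) (_ : Fintype ι) (C : ι → Type u) (_ : ∀ j, CommRing (C j)),
        (∀ j, IsLocalRing (C j)) ∧ Nonempty (B ≃+* (∀ j, C j))) ↔
    Function.Bijective
      (RingHom.pi (fun n : MaximalSpectrum B => algebraMap B (Localization.AtPrime n.asIdeal))) := by
  open Groth.Agent.Hensel in
  constructor
  · rintro ⟨ι, _, C, _, hC, ⟨φ⟩⟩
    exact (bijective_pi_localization_of_surjOn (A := A) (surjOn_of_ringEquiv_pi _ φ)).2
  · intro hb
    have : Finite (MaximalSpectrum B) := by
      have : IsArtinianRing (B ⧸ Ideal.map (algebraMap A B) (IsLocalRing.maximalIdeal A)) := by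
        let : Algebra (IsLocalRing.ResidueField A)
            (B ⧸ Ideal.map (algebraMap A B) (IsLocalRing.maximalIdeal A)) :=
          (Ideal.quotientMap _ (algebraMap A B) Ideal.le_comap_map).toAlgebra
        have : IsScalarTower A (IsLocalRing.ResidueField A)
            (B ⧸ Ideal.map (algebraMap A B) (IsLocalRing.maximalIdeal A)) :=
          .of_algebraMap_eq fun x ↦ rfl
        have : Module.Finite (IsLocalRing.ResidueField A)
            (B ⧸ Ideal.map (algebraMap A B) (IsLocalRing.maximalIdeal A)) :=
          Module.Finite.of_restrictScalars_finite A _ _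
        exact .of_finite (IsLocalRing.ResidueField A) _
      have hm : ∀ m : MaximalSpectrum B,
          RingHom.ker (Ideal.Quotient.mk (Ideal.map (algebraMap A B) (IsLocalRing.maximalIdeal A))) ≤
            m.asIdeal := fun m ↦ by
        rw [Ideal.mk_ker]
        exact (map_le_jacobson_of_isIntegral
          (IsLocalRing.jacobson_eq_maximalIdeal ⊥ bot_ne_top).ge).trans
          (sInf_le ⟨bot_le, m.isMaximal⟩)
      refine Finite.of_injective (fun m : MaximalSpectrum B ↦
        (⟨m.asIdeal.map (Ideal.Quotient.mk _), Ideal.IsMaximal.map_of_surjective_of_ker_le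
          Ideal.Quotient.mk_surjective (hm m)⟩ : MaximalSpectrum
            (B ⧸ Ideal.map (algebraMap A B) (IsLocalRing.maximalIdeal A)))) fun m n hmn ↦ ?_
      have := congrArg (fun q : MaximalSpectrum _ ↦ q.asIdeal.comap
        (Ideal.Quotient.mk (Ideal.map (algebraMap A B) (IsLocalRing.maximalIdeal A)))) hmn
      simp only [Ideal.comap_map_of_surjective _ Ideal.Quotient.mk_surjective,
        ← RingHom.ker_eq_comap_bot, sup_eq_left.mpr (hm _)] at this
      exact MaximalSpectrum.ext this
    exact ⟨MaximalSpectrum B, Fintype.ofFinite _, fun n ↦ Localization.AtPrime n.asIdeal,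
      fun n ↦ inferInstance, fun n ↦ inferInstance, ⟨RingEquiv.ofBijective _ hb⟩⟩

end Groth.Agent.S17982
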