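import Groth.Statements.S17983
import Mathlib.Analysis.Complex.Polynomial.Basic
import Mathlib.Algebra.Polynomial.Reverse

set_option autoImplicit false
universe u
open WeilNum

namespace Groth.Agent.S17983

open Polynomial in
theorem reverse_X_sub_C' (z : ℂ) : (X - C z).reverse = 1 - C z * X := by
  rw [sub_eq_add_neg, ← C_neg, reverse, natDegree_X_add_C, reflect_add, reflect_C]
  simp [sub_eq_add_neg]

open Polynomial in
theorem quad_prod (q : ℝ) (s : Multiset ℂ) (hs : ∀ z ∈ s, z * (starRingEnd ℂ) z = (q : ℂ)) :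
    ((s + s.map (starRingEnd ℂ)).map (fun z => X - C z)).prod.comp (C (q : ℂ) * X) =
      C ((q : ℂ) ^ Multiset.card s) * ((s + s.map (starRingEnd ℂ)).map (fun z => X - C z)).prod.reverse := by
  induction s using Multiset.induction_on with
  | empty => simp [reverse]
  | cons z s ih =>
    rw [Multiset.map_cons, Multiset.cons_add, Multiset.add_cons, Multiset.map_cons, Multiset.map_cons, Multiset.prod_cons,
      Multiset.prod_cons, mul_comp, mul_comp, reverse_mul_of_domain, reverse_mul_of_domain, reverse_X_sub_C',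
      reverse_X_sub_C', ih (fun w hw => hs w (Multiset.mem_cons_of_mem hw)), Multiset.card_cons, pow_succ, C_mul]
    have hz : C z * C ((starRingEnd ℂ) z) = C (q : ℂ) := by rw [← C_mul, hs z (Multiset.mem_cons_self z s)]
    simp only [sub_comp, X_comp, C_comp]
    linear_combination (C ((q : ℂ) ^ Multiset.card s) * ((s + s.map (starRingEnd ℂ)).map (fun z => X - C z)).prod.reverse * (1 - C (q : ℂ) * X ^ 2)) * hz

/-- Let p be a prime number, e ≥ 1 and q = p^e. Let π be an element of a field of characteristic zero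
which is integral over ℤ, with minimal polynomial P over ℤ, and assume that every complex root of P
has absolute value √q and that no complex root of P is real (π is a nonreal Weil q-number). Then the
degree of P is even, say 2d, and writing a_j for the coefficient of x^j in P one has a_{d−r} = q^r ·
a_{d+r} for every 0 ≤ r ≤ d. -/
theorem result (p e : ℕ) [Fact p.Prime] (he : 0 < e)
    (K : Type u) [Field K] [CharZero K] (π : K) (hπ : IsIntegral ℤ π)
    (hweil : ∀ z ∈ (minpoly ℤ π).aroots ℂ, ‖z‖ = Real.sqrt ((p : ℝ) ^ e))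
    (hnr : ∀ z ∈ (minpoly ℤ π).aroots ℂ, z.im ≠ 0) :
    Even (minpoly ℤ π).natDegree ∧
      ∀ r ≤ (minpoly ℤ π).natDegree / 2,
        (minpoly ℤ π).coeff ((minpoly ℤ π).natDegree / 2 - r) =
          (p : ℤ) ^ (e * r) * (minpoly ℤ π).coeff ((minpoly ℤ π).natDegree / 2 + r) := by
  classical
  open Polynomial in
  set P := minpoly ℤ π with hPdef
  have hmon : P.Monic := minpoly.monic hπ
  set Q : ℂ[X] := P.map (algebraMap ℤ ℂ) with hQ
  have hdeg : Q.natDegree = P.natDegree := hmon.natDegree_map _
  have hQm : Q.Monic := hmon.map _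
  have hsplit : Q.Splits := IsAlgClosed.splits Q
  have hconj : Q.roots.map (starRingEnd ℂ) = Q.roots := by
    have h2 : Q.map (starRingEnd ℂ) = Q := by
      rw [hQ, Polynomial.map_map, Subsingleton.elim ((starRingEnd ℂ).comp (algebraMap ℤ ℂ)) (algebraMap ℤ ℂ)]
    conv_rhs => rw [← h2]
    exact (hsplit.roots_map (starRingEnd ℂ)).symm
  set s := Q.roots.filter (fun z => 0 < z.im) with hs
  have hm : Q.roots = s + s.map (starRingEnd ℂ) := by
    conv_lhs => rw [← Multiset.filter_add_not (fun z : ℂ => 0 < z.im) Q.roots]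
    congr 1
    conv_lhs => rw [← hconj, Multiset.filter_map]
    congr 1
    refine Multiset.filter_congr fun z hz => ?_
    have := hnr z hz
    simp only [Function.comp_apply, Complex.conj_im, not_lt]
    constructor <;> intro h
    · exact lt_of_le_of_ne (by linarith) (Ne.symm this)
    · linarith
  have hsq : ∀ z ∈ s, z * (starRingEnd ℂ) z = (((p : ℝ) ^ e : ℝ) : ℂ) := fun z hz => by
    have hn := hweil z (Multiset.mem_of_mem_filter hz)
    rw [Complex.mul_conj, Complex.normSq_eq_norm_sq, hn, Real.sq_sqrt (by positivity)]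
  have hprod : Q = ((s + s.map (starRingEnd ℂ)).map (fun z => Polynomial.X - Polynomial.C z)).prod := by
    rw [← hm]; exact hsplit.eq_prod_roots_of_monic hQm
  have hcard : P.natDegree = 2 * Multiset.card s := by
    rw [← hdeg, hsplit.natDegree_eq_card_roots, hm, Multiset.card_add, Multiset.card_map, two_mul]
  have key := quad_prod ((p : ℝ) ^ e) s hsq
  rw [← hprod] at key
  refine ⟨⟨_, hcard.trans (two_mul _)⟩, fun r hr => ?_⟩
  have h2 := congrArg (fun F => F.coeff (Multiset.card s - r)) key
  have hhalf : P.natDegree / 2 = Multiset.card s := by omega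
  rw [Polynomial.comp_C_mul_X_coeff, Polynomial.coeff_C_mul, Polynomial.coeff_reverse, hdeg,
    Polynomial.revAt_le (by omega), hQ, Polynomial.coeff_map, Polynomial.coeff_map,
    show P.natDegree - (Multiset.card s - r) = Multiset.card s + r by omega] at h2
  rw [hhalf]
  have hq0 : ((((p : ℝ) ^ e : ℝ)) : ℂ) ≠ 0 := by
    push_cast; exact pow_ne_zero _ (Nat.cast_ne_zero.2 (Fact.out : p.Prime).ne_zero)
  have h3 : (algebraMap ℤ ℂ) (P.coeff (Multiset.card s - r)) =
      ((((p : ℝ) ^ e : ℝ)) : ℂ) ^ r * (algebraMap ℤ ℂ) (P.coeff (Multiset.card s + r)) := by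
    refine mul_right_cancel₀ (pow_ne_zero (Multiset.card s - r) hq0) (h2.trans ?_)
    rw [mul_right_comm, ← pow_add]
    congr 2
    omega
  apply (algebraMap ℤ ℂ).injective_int
  rw [h3, map_mul, map_pow]
  push_cast
  rw [← pow_mul]

end Groth.Agent.S17983
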