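import Groth.Statements.S17984
import Mathlib
import Groth.Agent.WeilKerLib.Basic

set_option autoImplicit false
universe u
open MvPolynomial
open WeilNum

namespace Groth.Agent.S17984

/-- Let p be a prime, e ≥ 1 and q = p^e. Let (π_i) be a finite family of pairwise nonconjugate Weil
q-numbers: π_i is an element of a field K_i of characteristic zero, integral over ℤ with minimal
polynomial P_i, every complex root of P_i has absolute value √q, and P_i ≠ P_j for i ≠ j. Suppose
the total degree Σ_i deg P_i is even, equal to 2D (equivalently, the family contains either none or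
both of the rational Weil q-numbers ±q^{1/2}). Put P_w = ∏_i P_i and let h ∈ ℤ[F, V] (F = X_0, V =
X_1) be any polynomial with F^D · h ≡ P_w(F) modulo FV − q; such an h exists, is unique modulo FV −
q, and the product of the symmetric polynomials h_{π_i} is one. Then the kernel of the ring map ℤ[F,
V] → ∏_i K_i, F ↦ (π_i), V ↦ (q/π_i), whose image is the minimal central order R_w, is the ideal
generated by FV − q and h, and (FV − q, h) is a regular sequence in ℤ[F, V]: R_w is the complete
intersection ℤ[F, V]/(FV − q, h). -/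
theorem result (p e : ℕ) [Fact p.Prime] (he : 0 < e)
    (ι : Type) [Fintype ι] (K : ι → Type u) [∀ i, Field (K i)] [∀ i, CharZero (K i)] (π : ∀ i, K i)
    (hint : ∀ i, IsIntegral ℤ (π i))
    (hweil : ∀ i, ∀ z ∈ (minpoly ℤ (π i)).aroots ℂ, ‖z‖ = Real.sqrt ((p : ℝ) ^ e))
    (hinj : ∀ i j, minpoly ℤ (π i) = minpoly ℤ (π j) → i = j)
    (D : ℕ) (hD : ∑ i, (minpoly ℤ (π i)).natDegree = 2 * D)
    (h : MvPolynomial (Fin 2) ℤ)
    (hh : X 0 ^ D * h - Polynomial.aeval (X 0 : MvPolynomial (Fin 2) ℤ) (∏ i, minpoly ℤ (π i)) ∈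
      Ideal.span ({X 0 * X 1 - C ((p : ℤ) ^ e)} : Set (MvPolynomial (Fin 2) ℤ))) :
    RingHom.ker (MvPolynomial.aeval ![fun i => π i, fun i => ((p : K i) ^ e) / π i] :
        MvPolynomial (Fin 2) ℤ →ₐ[ℤ] ((i : ι) → K i)) =
        Ideal.span {X 0 * X 1 - C ((p : ℤ) ^ e), h} ∧
      RingTheory.Sequence.IsWeaklyRegular (MvPolynomial (Fin 2) ℤ) [X 0 * X 1 - C ((p : ℤ) ^ e), h] := by
  have hhq : 0 < p ^ e := pow_pos (Fact.out : p.Prime).pos e
  set q : ℕ := p ^ e with hq
  have hqz : ((p : ℤ) ^ e) = (q : ℤ) := by rw [hq]; push_cast; ring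
  rw [hqz] at hh ⊢
  have hm : ∀ i, (minpoly ℤ (π i)).Monic := fun i => minpoly.monic (hint i)
  have hw' : ∀ i, ∀ z ∈ (minpoly ℤ (π i)).aroots ℂ, ‖z‖ = Real.sqrt (q : ℕ) := by
    intro i z hz
    rw [hweil i z hz, hq]
    push_cast
    ring_nf
  set P : Polynomial ℤ := ∏ i, minpoly ℤ (π i) with hPdef
  have hPm : P.Monic := Polynomial.monic_prod_of_monic _ _ fun i _ => hm i
  have hPd : P.natDegree = 2 * D := by
    rw [hPdef, Polynomial.natDegree_prod_of_monic _ _ fun i _ => hm i, hD]
  have hPw : ∀ z ∈ P.aroots ℂ, ‖z‖ = Real.sqrt (q : ℕ) := by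
    intro z hz
    rw [Polynomial.mem_aroots] at hz
    obtain ⟨-, hz⟩ := hz
    rw [hPdef, map_prod, Finset.prod_eq_zero_iff] at hz
    obtain ⟨i, -, hi⟩ := hz
    exact hw' i z (Polynomial.mem_aroots.mpr ⟨(hm i).ne_zero, hi⟩)
  have hne : ∀ i, π i ≠ 0 := by
    intro i h0
    have h1 : Polynomial.aeval (0 : ℂ) (minpoly ℤ (π i)) = 0 := by
      have := minpoly.aeval ℤ (π i)
      rw [h0, Polynomial.aeval_def, Polynomial.eval₂_at_zero] at this
      have hc : (minpoly ℤ (0 : K i)).coeff 0 = 0 := by simpa using this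
      rw [h0, Polynomial.aeval_def, Polynomial.eval₂_at_zero, hc, map_zero]
    exact Groth.Agent.WeilKerLib.root_ne_zero hhq
      (hw' i 0 (Polynomial.mem_aroots.mpr ⟨(hm i).ne_zero, h1⟩)) rfl
  have hcast : ∀ i, ((q : ℕ) : K i) = (p : K i) ^ e := fun i => by rw [hq, Nat.cast_pow]
  let φ : MvPolynomial (Fin 2) ℤ →ₐ[ℤ] ((i : ι) → K i) :=
    MvPolynomial.aeval ![fun i => π i, fun i => ((p : K i) ^ e) / π i]
  have hφ0 : ∀ i, φ (X 0) i = π i := fun i => by simp [φ]
  have hφ1 : ∀ i, φ (X 1) i = (p : K i) ^ e / π i := fun i => by simp [φ]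
  have hz : φ (X 0 * X 1 - C (q : ℤ)) = 0 := by
    funext i
    have := hne i
    simp only [map_sub, map_mul, Pi.sub_apply, Pi.mul_apply, Pi.zero_apply, hφ0, hφ1]
    have hC : φ (C (q : ℤ)) i = (q : K i) := by simp [φ]
    rw [hC, hcast, mul_div_cancel₀ _ this, sub_self]
  have hI : ∀ a ∈ Ideal.span ({X 0 * X 1 - C (q : ℤ)} : Set (MvPolynomial (Fin 2) ℤ)), φ a = 0 := by
    intro a ha
    obtain ⟨b, rfl⟩ := Ideal.mem_span_singleton'.mp ha
    rw [map_mul, hz, mul_zero]
  have hpoly : ∀ (g : Polynomial ℤ) i,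
      φ (Polynomial.aeval (X 0 : MvPolynomial (Fin 2) ℤ) g) i = Polynomial.aeval (π i) g := by
    intro g i
    rw [← Polynomial.aeval_algHom_apply, Polynomial.aeval_pi_apply]; beta_reduce; rw [hφ0]
  have hφh : φ h = 0 := by
    funext i
    have h1 : φ (X 0 ^ D * h) i = φ (Polynomial.aeval (X 0 : MvPolynomial (Fin 2) ℤ) P) i := by
      have := hI _ hh
      rw [map_sub, sub_eq_zero] at this
      rw [this]
    rw [hpoly, map_mul, map_pow, Pi.mul_apply, Pi.pow_apply, hφ0] at h1
    have h2 : Polynomial.aeval (π i) P = 0 := by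
      rw [hPdef, map_prod]
      exact Finset.prod_eq_zero (Finset.mem_univ i) (minpoly.aeval ℤ _)
    rw [h2] at h1
    exact (mul_eq_zero.mp h1).resolve_left (pow_ne_zero _ (hne i))
  refine ⟨?_, ?_⟩
  · apply le_antisymm
    · intro f hf
      rw [RingHom.mem_ker] at hf
      change φ f = 0 at hf
      obtain ⟨N, g, hg⟩ := Groth.Agent.WeilKerLib.exists_reduce (q : ℤ) f
      have hg0 : ∀ i, Polynomial.aeval (π i) g = 0 := by
        intro i
        have := congrFun (hI _ hg) i
        rw [map_sub, map_mul, hf, mul_zero, zero_sub, Pi.neg_apply, hpoly, Pi.zero_apply,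
          neg_eq_zero] at this
        exact this
      have hdvd : P ∣ g := by
        have hprime : ∀ i, Prime (minpoly ℤ (π i)) := fun i =>
          UniqueFactorizationMonoid.irreducible_iff_prime.mp (minpoly.irreducible (hint i))
        rw [hPdef]
        apply Fintype.prod_dvd_of_isRelPrime
        · intro i j hij
          exact (hprime i).irreducible.isRelPrime_iff_not_dvd.mpr fun hd =>
            hij (hinj i j (Polynomial.eq_of_monic_of_associated (hm i) (hm j)
              ((hprime i).irreducible.associated_of_dvd (hprime j).irreducible hd)))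
        · intro i
          exact minpoly.isIntegrallyClosed_dvd (hint i) (hg0 i)
      obtain ⟨t, ht⟩ := hdvd
      have hmem : X 0 ^ N * f ∈ Ideal.span ({Groth.Agent.WeilKerLib.zeta (q : ℤ), h} :
          Set (MvPolynomial (Fin 2) ℤ)) := by
        have h1 := Ideal.span_mono (t := ({Groth.Agent.WeilKerLib.zeta (q : ℤ), h} : Set (MvPolynomial (Fin 2) ℤ))) (Set.singleton_subset_iff.mpr (Set.mem_insert _ _)) hg
        have h2 := Ideal.span_mono (t := ({Groth.Agent.WeilKerLib.zeta (q : ℤ), h} :
          Set (MvPolynomial (Fin 2) ℤ))) (Set.singleton_subset_iff.mpr (Set.mem_insert _ _)) hh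
        have h3 : X 0 ^ D * h * Polynomial.aeval (X 0 : MvPolynomial (Fin 2) ℤ) t ∈
            Ideal.span ({Groth.Agent.WeilKerLib.zeta (q : ℤ), h} : Set (MvPolynomial (Fin 2) ℤ)) :=
          Ideal.mul_mem_right _ _ (Ideal.mul_mem_left _ _ (Ideal.subset_span (by simp)))
        have := Ideal.add_mem _ (Ideal.sub_mem _ h1
          (Ideal.mul_mem_right (Polynomial.aeval (X 0 : MvPolynomial (Fin 2) ℤ) t) _ h2)) h3
        convert this using 1
        rw [ht, map_mul]
        ring
      clear hg
      induction N with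
      | zero => rw [pow_zero, one_mul] at hmem; exact hmem
      | succ n ih =>
        refine ih (Groth.Agent.WeilKerLib.cancel_J hhq hPm hPd hPw hh ?_)
        convert hmem using 1
        ring
    · rw [Ideal.span_le]
      intro a ha
      simp only [Set.mem_insert_iff, Set.mem_singleton_iff] at ha
      rcases ha with rfl | rfl
      · exact hz
      · exact hφh
  · rw [RingTheory.Sequence.isWeaklyRegular_cons_iff, RingTheory.Sequence.isWeaklyRegular_singleton_iff]
    have hz0 : (X 0 * X 1 - C (q : ℤ) : MvPolynomial (Fin 2) ℤ) ≠ 0 := by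
      intro h0
      have := congrArg (MvPolynomial.eval (0 : Fin 2 → ℤ)) h0
      simp at this
      omega
    refine ⟨fun a b hab => mul_left_cancel₀ hz0 hab, ?_⟩
    rw [isSMulRegular_quotient_iff_mem_of_smul_mem]
    intro a ha
    rw [← Submodule.ideal_span_singleton_smul, smul_eq_mul, Ideal.mul_top] at ha ⊢
    exact Groth.Agent.WeilKerLib.regular_h hhq hPm hh ha

end Groth.Agent.S17984
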