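import Groth.Statements.S17985
import Groth.Agent.WeilKerLib.Basic
import Groth.Agent.S17984
import Groth.Agent.GorenBasic.RingOps
import Mathlib

set_option autoImplicit false
universe u
open MvPolynomial
open WeilNum

namespace Groth.Agent.S17985

set_option backward.isDefEq.respectTransparency.types false
set_option maxHeartbeats 1000000
set_option synthInstance.maxHeartbeats 200000
open scoped Polynomial
open Groth.Agent.WeilKerLib

/-- existence of `h` and the functional equation as polynomial identity -/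
lemma exists_h {q : ℕ} {P : ℤ[X]} {D : ℕ} (hq : 0 < q) (hP : P.Monic) (hD : P.natDegree = 2 * D)
    (hweil : ∀ z ∈ P.aroots ℂ, ‖z‖ = Real.sqrt q) :
    ∃ (h : R2) (ε : ℤ), ε * ε = 1 ∧
      (∑ j ∈ Finset.range (2 * D + 1), Polynomial.monomial (2 * D - j) (P.coeff j * (q : ℤ) ^ j)) =
        Polynomial.C (ε * (q : ℤ) ^ D) * P ∧
      MvPolynomial.X 0 ^ D * h - Polynomial.aeval (MvPolynomial.X 0 : R2) P ∈ Ideal.span ({zeta (q : ℤ)} : Set R2) := by
  obtain ⟨ε, hε, hfe⟩ := exists_eps hP hD hweil
  set Q : ℤ[X] := ∑ j ∈ Finset.range (2 * D + 1), Polynomial.monomial (2 * D - j) (P.coeff j * (q : ℤ) ^ j)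
  have hQ : Q = Polynomial.C (ε * (q : ℤ) ^ D) * P := by
    apply Polynomial.map_injective (Int.castRingHom ℂ) Int.cast_injective
    apply Polynomial.eq_of_infinite_eval_eq
    apply Set.Infinite.mono (s := ({0} : Set ℂ)ᶜ) _ (Set.finite_singleton 0).infinite_compl
    intro x hx
    have hx0 : x ≠ 0 := hx
    show Polynomial.eval x _ = Polynomial.eval x _
    have e := hfe x hx0
    simp only [Polynomial.eval_map]
    change Polynomial.eval₂ (algebraMap ℤ ℂ) x Q = Polynomial.eval₂ (algebraMap ℤ ℂ) x _
    rw [← Polynomial.aeval_def, ← Polynomial.aeval_def, map_mul, Polynomial.aeval_C]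
    simp only [eq_intCast, Int.cast_mul, Int.cast_pow, Int.cast_natCast]
    rw [← e, Polynomial.aeval_eq_sum_range' (p := P) (n := 2 * D + 1) (by omega), Finset.mul_sum]
    simp only [Q, map_sum, Polynomial.aeval_monomial]
    refine Finset.sum_congr rfl fun j hj => ?_
    have hj' : j ≤ 2 * D := Nat.lt_succ_iff.mp (Finset.mem_range.mp hj)
    rw [zsmul_eq_mul, div_pow]
    simp only [eq_intCast, Int.cast_mul, Int.cast_pow, Int.cast_natCast]
    rw [← pow_sub_mul_pow x hj']
    field_simp
  have hc : ∀ i, i < D → P.coeff i = ε * P.coeff (2 * D - i) * (q : ℤ) ^ (D - i) := by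
    intro i hi
    have h1 : Q.coeff i = P.coeff (2 * D - i) * (q : ℤ) ^ (2 * D - i) := by
      simp only [Q, Polynomial.finsetSum_coeff, Polynomial.coeff_monomial]
      rw [Finset.sum_eq_single (2 * D - i)]
      · rw [if_pos (by omega)]
      · intro j hj hne
        rw [if_neg]
        have := Finset.mem_range.mp hj
        omega
      · intro hn; exact absurd (Finset.mem_range.mpr (by omega)) hn
    rw [hQ, Polynomial.coeff_C_mul, show 2 * D - i = (D - i) + D by omega, pow_add] at h1
    rw [show 2 * D - i = (D - i) + D by omega]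
    have hqD : ((q : ℤ) ^ D) ≠ 0 := pow_ne_zero _ (by exact_mod_cast hq.ne')
    apply mul_right_cancel₀ hqD
    linear_combination ε * h1 - P.coeff i * (q : ℤ) ^ D * hε
  refine ⟨∑ i ∈ Finset.range (2 * D + 1), if D ≤ i then MvPolynomial.C (P.coeff i) * MvPolynomial.X 0 ^ (i - D)
    else MvPolynomial.C (ε * P.coeff (2 * D - i)) * MvPolynomial.X 1 ^ (D - i), ε, hε, hQ, ?_⟩
  rw [Polynomial.aeval_eq_sum_range' (n := 2 * D + 1) (by omega), Finset.mul_sum, ← Finset.sum_sub_distrib]
  refine Ideal.sum_mem _ fun i _ => ?_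
  rw [MvPolynomial.smul_eq_C_mul]
  split_ifs with h
  · rw [← mul_left_comm, ← pow_add, Nat.add_sub_cancel' h, sub_self]
    exact zero_mem _
  · have hi : i < D := by omega
    rw [Ideal.mem_span_singleton, hc i hi]
    simp only [map_mul, map_pow]
    obtain ⟨t, ht⟩ := sub_dvd_pow_sub_pow (MvPolynomial.X 0 * MvPolynomial.X 1 : R2) (MvPolynomial.C (q : ℤ)) (D - i)
    refine ⟨MvPolynomial.C (ε * P.coeff (2 * D - i)) * MvPolynomial.X 0 ^ i * t, ?_⟩
    have e : MvPolynomial.X 0 ^ D = (MvPolynomial.X 0 ^ i * MvPolynomial.X 0 ^ (D - i) : R2) := by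
      rw [← pow_add, Nat.add_sub_cancel' hi.le]
    rw [zeta, e]
    rw [mul_pow] at ht
    simp only [map_mul]
    linear_combination (MvPolynomial.C ε * MvPolynomial.C (P.coeff (2 * D - i)) * MvPolynomial.X 0 ^ i) * ht

/-- finite torsion-free nonzero algebras over `ℤ` have dimension one -/
lemma dim_one (R : Type*) [CommRing R] [Algebra.IsIntegral ℤ R] (hinj : Function.Injective (algebraMap ℤ R)) :
    ringKrullDim R = 1 := by
  refine le_antisymm ?_ ?_
  · refine le_trans (Order.krullDim_le_of_strictMono (β := PrimeSpectrum ℤ)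
      (PrimeSpectrum.comap (algebraMap ℤ R)) ?_) (le_of_eq (IsPrincipalIdealRing.ringKrullDim_eq_one ℤ Int.not_isField))
    intro P Q hPQ
    obtain ⟨h1, h2⟩ := (lt_iff_le_and_ne.mp (show P.asIdeal < Q.asIdeal from hPQ))
    obtain ⟨x, hxQ, hxP⟩ := SetLike.exists_of_lt (show P.asIdeal < Q.asIdeal from hPQ)
    exact Ideal.comap_lt_comap_of_integral_mem_sdiff h1 ⟨hxQ, hxP⟩ (Algebra.IsIntegral.isIntegral x)
  · obtain ⟨P, -, hP, hPc⟩ := Ideal.exists_ideal_over_prime_of_isIntegral (S := R) (⊥ : Ideal ℤ) (⊥ : Ideal R)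
      (le_of_eq ((RingHom.injective_iff_ker_eq_bot _).mp hinj))
    have h2 : (Ideal.span {(2 : ℤ)}).IsPrime := (Ideal.span_singleton_prime two_ne_zero).mpr Int.prime_two
    obtain ⟨Q, hPQ, hQ, hQc⟩ := Ideal.exists_ideal_over_prime_of_isIntegral_of_isPrime (Ideal.span {(2 : ℤ)}) P
      (by rw [hPc]; exact bot_le)
    let p0 : PrimeSpectrum R := ⟨P, hP⟩
    let p1 : PrimeSpectrum R := ⟨Q, hQ⟩
    have hlt : p0 < p1 := by
      refine lt_of_le_of_ne hPQ fun he => ?_
      have : P = Q := congrArg PrimeSpectrum.asIdeal he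
      rw [this, hQc, Ideal.span_singleton_eq_bot] at hPc
      norm_num at hPc
    exact Order.LTSeries.length_le_krullDim (RelSeries.cons (RelSeries.singleton _ p1) p0 hlt)

/-- Let p be a prime, e ≥ 1 and q = p^e. Let (π_i) be a nonempty finite family of pairwise nonconjugate
Weil q-numbers: π_i is an element of a field K_i of characteristic zero, integral over ℤ with
minimal polynomial P_i, every complex root of P_i has absolute value √q, and P_i ≠ P_j for i ≠ j.
Suppose the total degree Σ_i deg P_i is even, equal to 2D. Let R_w be the minimal central order, the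
image of ℤ[F, V] → ∏_i K_i, F ↦ (π_i), V ↦ (q/π_i). Then R_w is free of rank 2D as a ℤ-module, has
Krull dimension 1, and is a Gorenstein ring (Noetherian, with all localizations at primes of finite
injective dimension over themselves). -/
theorem result (p e : ℕ) [Fact p.Prime] (he : 0 < e)
    (ι : Type) [Fintype ι] (K : ι → Type u) [∀ i, Field (K i)] [∀ i, CharZero (K i)] (π : ∀ i, K i)
    (hint : ∀ i, IsIntegral ℤ (π i))
    (hweil : ∀ i, ∀ z ∈ (minpoly ℤ (π i)).aroots ℂ, ‖z‖ = Real.sqrt ((p : ℝ) ^ e))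
    (hinj : ∀ i j, minpoly ℤ (π i) = minpoly ℤ (π j) → i = j)
    [Nonempty ι] (D : ℕ) (hD : ∑ i, (minpoly ℤ (π i)).natDegree = 2 * D) :
    Module.Free ℤ (MvPolynomial.aeval ![fun i => π i, fun i => ((p : K i) ^ e) / π i] :
        MvPolynomial (Fin 2) ℤ →ₐ[ℤ] ((i : ι) → K i)).range ∧
      Module.finrank ℤ (MvPolynomial.aeval ![fun i => π i, fun i => ((p : K i) ^ e) / π i] :
        MvPolynomial (Fin 2) ℤ →ₐ[ℤ] ((i : ι) → K i)).range = 2 * D ∧
      ringKrullDim (MvPolynomial.aeval ![fun i => π i, fun i => ((p : K i) ^ e) / π i] :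
        MvPolynomial (Fin 2) ℤ →ₐ[ℤ] ((i : ι) → K i)).range = 1 ∧
      LocCoh.IsGorensteinRing (MvPolynomial.aeval ![fun i => π i, fun i => ((p : K i) ^ e) / π i] :
        MvPolynomial (Fin 2) ℤ →ₐ[ℤ] ((i : ι) → K i)).range := by
  classical
  set q : ℕ := p ^ e with hq
  have hhq : 0 < q := pow_pos (Fact.out : p.Prime).pos e
  have hm : ∀ i, (minpoly ℤ (π i)).Monic := fun i => minpoly.monic (hint i)
  let P : ℤ[X] := ∏ i, minpoly ℤ (π i)
  have hPm : P.Monic := Polynomial.monic_prod_of_monic _ _ fun i _ => hm i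
  have hPd : P.natDegree = 2 * D := by
    simp only [P]; rw [Polynomial.natDegree_prod_of_monic _ _ fun i _ => hm i, hD]
  have hPw : ∀ z ∈ P.aroots ℂ, ‖z‖ = Real.sqrt (q : ℕ) := by
    intro z hz
    rw [Polynomial.mem_aroots] at hz
    obtain ⟨-, hz⟩ := hz
    simp only [P, map_prod, Finset.prod_eq_zero_iff] at hz
    obtain ⟨i, -, hi⟩ := hz
    rw [hweil i z (Polynomial.mem_aroots.mpr ⟨(hm i).ne_zero, hi⟩)]
    simp [hq]
  obtain ⟨h, ε, hε, hfe, hh⟩ := exists_h hhq hPm hPd hPw
  have hqz : ((p : ℤ) ^ e) = (q : ℤ) := by simp [hq]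
  have hker := (Groth.Agent.S17984.result p e he ι K π hint hweil hinj D hD h (by rw [hqz]; exact hh)).1
  rw [hqz] at hker
  set φ : MvPolynomial (Fin 2) ℤ →ₐ[ℤ] ((i : ι) → K i) :=
    MvPolynomial.aeval ![fun i => π i, fun i => ((p : K i) ^ e) / π i] with hφ
  have hne : ∀ i, π i ≠ 0 := by
    intro i h0
    have hc : (minpoly ℤ (π i)).coeff 0 = 0 := by
      have := minpoly.aeval ℤ (π i)
      rw [h0, Polynomial.aeval_def, Polynomial.eval₂_at_zero] at this
      simpa [h0] using this
    refine Groth.Agent.WeilKerLib.root_ne_zero (z := 0) hhq (hPw 0 ?_) rfl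
    refine Polynomial.mem_aroots.mpr ⟨hPm.ne_zero, ?_⟩
    simp only [P, map_prod]
    refine Finset.prod_eq_zero (Finset.mem_univ i) ?_
    rw [Polynomial.aeval_def, Polynomial.eval₂_at_zero, hc, map_zero]
  let a : (i : ι) → K i := fun i => π i
  let b : (i : ι) → K i := fun i => ((p : K i) ^ e) / π i
  have haP : Polynomial.aeval a P = 0 := by
    funext i
    rw [Polynomial.aeval_pi_apply]
    simp only [P, a, map_prod, Pi.zero_apply]
    exact Finset.prod_eq_zero (Finset.mem_univ i) (minpoly.aeval ℤ _)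
  have hbP : Polynomial.aeval b P = 0 := by
    funext i
    rw [Polynomial.aeval_pi_apply]
    have e1 := congrArg (Polynomial.aeval (π i)) hfe
    have e2 : Polynomial.aeval (π i) P = 0 := by
      have := congrFun haP i; rwa [Polynomial.aeval_pi_apply] at this
    rw [map_mul, e2, mul_zero, map_sum] at e1
    have e3 : π i ^ (2 * D) * Polynomial.aeval (b i) P = 0 := by
      rw [← e1, Polynomial.aeval_eq_sum_range' (n := 2 * D + 1) (by omega), Finset.mul_sum]
      refine Finset.sum_congr rfl fun j hj => ?_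
      have hj' : j ≤ 2 * D := Nat.lt_succ_iff.mp (Finset.mem_range.mp hj)
      rw [Polynomial.aeval_monomial, zsmul_eq_mul, ← pow_sub_mul_pow (π i) hj']
      have hbq : π i * b i = (q : K i) := by
        simp only [b, hq, Nat.cast_pow]; field_simp [hne i]
      simp only [eq_intCast, Int.cast_mul, Int.cast_pow, Int.cast_natCast]
      rw [← hbq]; ring
    exact (mul_eq_zero.mp e3).resolve_left (pow_ne_zero _ (hne i))
  have hadj : φ.range = Algebra.adjoin ℤ (Set.range ![a, b]) :=
    (Algebra.adjoin_range_eq_range_aeval ℤ _).symm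
  have hfin : Module.Finite ℤ φ.range := by
    suffices h : (Subalgebra.toSubmodule φ.range).FG from (Module.Finite.iff_fg (N := Subalgebra.toSubmodule φ.range)).mpr h
    rw [hadj]
    refine fg_adjoin_of_finite (Set.finite_range _) ?_
    rintro x ⟨j, rfl⟩
    fin_cases j
    · exact ⟨P, hPm, haP⟩
    · exact ⟨P, hPm, hbP⟩
  haveI := hfin
  haveI : Algebra.IsIntegral ℤ φ.range := Algebra.IsIntegral.of_finite ℤ _
  haveI htf : Module.IsTorsionFree ℤ φ.range := by
    refine ⟨fun r hr => fun x y hxy => Subtype.ext (funext fun i => ?_)⟩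
    have := congrFun (congrArg Subtype.val hxy) i
    simp only [zsmul_eq_mul, MulMemClass.coe_mul, Pi.mul_apply, SubringClass.coe_intCast, Pi.intCast_apply] at this
    exact mul_left_cancel₀ (by exact_mod_cast (isRegular_iff_ne_zero.mp hr)) this
  have hfree : Module.Free ℤ φ.range := inferInstance
  have hinjZ : Function.Injective (algebraMap ℤ φ.range) := by
    intro x y hxy
    have := congrFun (congrArg Subtype.val hxy) (Classical.arbitrary ι)
    simpa using this
  refine ⟨hfree, ?_, dim_one _ hinjZ, ?_⟩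
  · let F : φ.range := φ.rangeRestrict (MvPolynomial.X 0)
    let L : ℤ[X] →ₐ[ℤ] φ.range := Polynomial.aeval F
    have hL : ∀ g, (L g : (i : ι) → K i) = Polynomial.aeval a g := by
      intro g
      show φ.range.val (Polynomial.aeval F g) = _
      rw [← Polynomial.aeval_algHom_apply]
      congr 1
      simp [F, hφ, a]
    have hLP : Polynomial.aeval F P = 0 := Subtype.ext (by rw [hL, haP]; rfl)
    let j : AdjoinRoot P →ₐ[ℤ] φ.range := AdjoinRoot.liftAlgHom P (Algebra.ofId ℤ φ.range) F (by
      simpa [Polynomial.aeval_def] using hLP)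
    have hj : ∀ g, j (AdjoinRoot.mk P g) = L g := fun g => by
      simp [j, L, Polynomial.aeval_def]
    have jinj : Function.Injective j := by
      rw [injective_iff_map_eq_zero]
      intro x hx
      obtain ⟨g, rfl⟩ := AdjoinRoot.mk_surjective x
      rw [hj] at hx
      have hg : ∀ i, Polynomial.aeval (π i) g = 0 := fun i => by
        have h1 := congrFun ((hL g).symm.trans (congrArg Subtype.val hx)) i
        rwa [Polynomial.aeval_pi_apply] at h1
      rw [AdjoinRoot.mk_eq_zero]
      have hprime : ∀ i, Prime (minpoly ℤ (π i)) := fun i =>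
        UniqueFactorizationMonoid.irreducible_iff_prime.mp (minpoly.irreducible (hint i))
      apply Fintype.prod_dvd_of_isRelPrime
      · intro i j hij
        exact (hprime i).irreducible.isRelPrime_iff_not_dvd.mpr fun hd =>
          hij (hinj i j (Polynomial.eq_of_monic_of_associated (hm i) (hm j)
            ((hprime i).irreducible.associated_of_dvd (hprime j).irreducible hd)))
      · intro i
        exact minpoly.isIntegrallyClosed_dvd (hint i) (hg i)
    have h0 : P.coeff 0 ≠ 0 := by
      intro h0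
      refine Groth.Agent.WeilKerLib.root_ne_zero (z := 0) hhq (hPw 0 ?_) rfl
      exact Polynomial.mem_aroots.mpr ⟨hPm.ne_zero, by rw [Polynomial.aeval_def, Polynomial.eval₂_at_zero, h0, map_zero]⟩
    have hq0 : Module.finrank ℤ (φ.range ⧸ LinearMap.range j.toLinearMap) = 0 := by
      refine Module.finrank_eq_zero_iff_isTorsion.mpr ?_
      intro x
      obtain ⟨r, rfl⟩ := Submodule.Quotient.mk_surjective _ x
      obtain ⟨f, hf⟩ := φ.rangeRestrict_surjective r
      obtain ⟨N, g, hg⟩ := exists_reduce (q : ℤ) f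
      have hrel : F ^ N * r = L g := by
        have hm : φ.rangeRestrict (MvPolynomial.X 0 ^ N * f - Polynomial.aeval (MvPolynomial.X 0) g) = 0 := by
          apply Subtype.ext
          show φ _ = 0
          have : MvPolynomial.X 0 ^ N * f - Polynomial.aeval (MvPolynomial.X 0 : R2) g ∈ RingHom.ker φ := by
            rw [hker]; exact Ideal.span_mono (by intro y hy; left; exact hy) hg
          exact this
        rw [map_sub, map_mul, map_pow, ← Polynomial.aeval_algHom_apply, hf, sub_eq_zero] at hm
        exact hm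
      have hw : F * L P.divX = -(algebraMap ℤ φ.range (P.coeff 0)) := by
        have h1 := congrArg (Polynomial.aeval F) P.X_mul_divX_add
        rw [map_add, map_mul, Polynomial.aeval_X, Polynomial.aeval_C, hLP] at h1
        exact eq_neg_of_add_eq_zero_left h1
      refine ⟨⟨(-P.coeff 0) ^ N, mem_nonZeroDivisors_of_ne_zero (pow_ne_zero _ (neg_ne_zero.mpr h0))⟩, ?_⟩
      show ((-P.coeff 0) ^ N : ℤ) • (Submodule.Quotient.mk r : φ.range ⧸ LinearMap.range j.toLinearMap) = 0
      rw [← Submodule.Quotient.mk_smul, Submodule.Quotient.mk_eq_zero]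
      refine ⟨AdjoinRoot.mk P (P.divX ^ N * g), ?_⟩
      rw [AlgHom.toLinearMap_apply, hj, map_mul, map_pow, ← hrel, Algebra.smul_def, map_pow, map_neg, ← hw, mul_pow]
      ring
    have h2 := Submodule.finrank_quotient_add_finrank (LinearMap.range j.toLinearMap)
    rw [hq0, zero_add] at h2
    rw [← h2, LinearMap.finrank_range_of_inj jinj]
    exact ((AdjoinRoot.powerBasis' hPm).finrank).trans ((AdjoinRoot.powerBasis'_dim hPm).trans hPd)
  · let B := MvPolynomial (Fin 2) (ULift.{u} ℤ)
    let E : B ≃+* R2 := MvPolynomial.mapEquiv (Fin 2) ULift.ringEquiv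
    haveI : IsRegularRing (ULift.{u} ℤ) := IsRegularRing.of_ringEquiv (R := ℤ) ULift.ringEquiv.symm
    haveI hB : LocCoh.IsGorensteinRing B :=
      { isGorensteinLocalRing_localization := fun p _ =>
          Groth.Agent.GorenBasic.isGorensteinLocalRing_of_isRegularLocalRing (Localization.AtPrime p) }
    haveI : IsDomain (ULift.{u} ℤ) := MulEquiv.isDomain ℤ ULift.ringEquiv.toMulEquiv
    let z' : B := E.symm (zeta (q : ℤ))
    let h' : B := E.symm h
    have hz' : z' ≠ 0 := by
      intro h0
      have h1 := congrArg E h0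
      simp only [z', RingEquiv.apply_symm_apply, map_zero] at h1
      have := congrArg (MvPolynomial.eval (0 : Fin 2 → ℤ)) h1
      simp [zeta] at this
      omega
    haveI h1 : LocCoh.IsGorensteinRing (B ⧸ Ideal.span {z'}) :=
      Groth.Agent.GorenBasic.isGorensteinRing_quotient (fun x y hxy => mul_left_cancel₀ hz' hxy)
    have hreg : IsSMulRegular (B ⧸ Ideal.span {z'}) (Ideal.Quotient.mk (Ideal.span {z'}) h') := by
      rw [isSMulRegular_iff_right_eq_zero_of_smul]
      intro x hx
      obtain ⟨x, rfl⟩ := Ideal.Quotient.mk_surjective x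
      rw [smul_eq_mul, ← map_mul, Ideal.Quotient.eq_zero_iff_mem, Ideal.mem_span_singleton] at hx
      rw [Ideal.Quotient.eq_zero_iff_mem, Ideal.mem_span_singleton]
      have h2 := map_dvd E hx
      simp only [z', h', map_mul, RingEquiv.apply_symm_apply] at h2
      have h3 := regular_h hhq hPm hh (Ideal.mem_span_singleton.mpr h2)
      have h4 := map_dvd E.symm (Ideal.mem_span_singleton.mp h3)
      simpa [z'] using h4
    haveI h2 := Groth.Agent.GorenBasic.isGorensteinRing_quotient (R := B ⧸ Ideal.span {z'}) hreg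
    let ψ : B →+* φ.range := φ.rangeRestrict.toRingHom.comp E.toRingHom
    have hψ : Function.Surjective ψ := φ.rangeRestrict_surjective.comp E.surjective
    have hk : RingHom.ker ψ = Ideal.span {z'} ⊔ Ideal.span {h'} := by
      rw [← Ideal.span_union, Set.singleton_union]
      have : RingHom.ker ψ = (RingHom.ker φ).comap E.toRingHom := by
        ext x
        show φ.rangeRestrict (E x) = 0 ↔ φ (E x) = 0
        exact Subtype.ext_iff
      rw [this, hker]
      have hmap : (Ideal.span {zeta (q : ℤ), h}).comap E.toRingHom = (Ideal.span {zeta (q : ℤ), h}).map E.symm.toRingHom :=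
        (Ideal.map_symm E).symm
      rw [show (Ideal.span {MvPolynomial.X 0 * MvPolynomial.X 1 - MvPolynomial.C (q : ℤ), h} : Ideal R2) =
        Ideal.span {zeta (q : ℤ), h} from rfl, hmap, Ideal.map_span, Set.image_pair]
      rfl
    have e4 := (DoubleQuot.quotQuotEquivQuotSup (Ideal.span {z'}) (Ideal.span {h'})).trans
        ((Ideal.quotEquivOfEq hk.symm).trans (RingHom.quotientKerEquivOfSurjective hψ))
    rw [Ideal.map_span, Set.image_singleton] at e4
    exact Groth.Agent.GorenBasic.isGorensteinRing_of_ringEquiv (hR := h2) e4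

end Groth.Agent.S17985
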