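import Groth.Statements.S17987
import Groth.Agent.S17983
import Mathlib.NumberTheory.Padics.Complex
import Mathlib.Topology.Algebra.Valued.NormedValued
import Mathlib.RingTheory.Valuation.LocalSubring

set_option autoImplicit false
universe u
open scoped Classical
open WeilNum

namespace Groth.Agent.S17987

set_option backward.isDefEq.respectTransparency.types false
set_option maxHeartbeats 1000000 in
theorem one_poly (p : ℕ) [Fact p.Prime] (P : Polynomial ℤ) (hP : P.Monic) (d : ℕ) (hd : P.natDegree = 2 * d)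
    (hlow : ∀ j < d, (p : ℤ) ∣ P.coeff j) :
    2 * Multiset.card ((P.aroots (PadicAlgCl p)).filter (fun z => ‖z‖ = 1)) = P.natDegree ↔ ¬ (p : ℤ) ∣ P.coeff d := by
  classical
  let O := (NormedField.valuation (K := PadicAlgCl p)).valuationSubring
  have hmem : ∀ z : PadicAlgCl p, z ∈ O ↔ ‖z‖ ≤ 1 := fun z => Iff.rfl
  set Q : Polynomial (PadicAlgCl p) := P.map (algebraMap ℤ (PadicAlgCl p)) with hQ
  have hQs : Q.Splits := IsAlgClosed.splits Q
  have hQm : Q.Monic := hP.map _
  have hroots : P.aroots (PadicAlgCl p) = Q.roots := rfl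
  have hle : ∀ z ∈ Q.roots, z ∈ O := fun z hz => by
    have hi : IsIntegral O z := by
      refine ⟨P.map (algebraMap ℤ O), hP.map _, ?_⟩
      rw [Polynomial.eval₂_map]
      have h0 := (Polynomial.mem_roots hQm.ne_zero).1 hz
      rw [hQ, Polynomial.IsRoot, Polynomial.eval_map] at h0
      rwa [Subsingleton.elim ((algebraMap O (PadicAlgCl p)).comp (algebraMap ℤ O)) (algebraMap ℤ (PadicAlgCl p))]
    obtain ⟨w, hw⟩ := IsIntegrallyClosed.algebraMap_eq_of_integral hi
    rw [← hw]; exact w.2
  have hlift : ∀ m : Multiset (PadicAlgCl p), (∀ z ∈ m, z ∈ O) → ∃ s : Multiset O, s.map (fun z : O => (z : PadicAlgCl p)) = m := by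
    intro m
    induction m using Multiset.induction_on with
    | empty => exact fun _ => ⟨0, Multiset.map_zero _⟩
    | cons z m ih =>
      intro h
      obtain ⟨s, hs⟩ := ih fun w hw => h w (Multiset.mem_cons_of_mem hw)
      exact ⟨⟨z, h z (Multiset.mem_cons_self z m)⟩ ::ₘ s, by rw [Multiset.map_cons, hs]⟩
  obtain ⟨s, hsv⟩ := hlift Q.roots hle
  have hPO : P.map (algebraMap ℤ O) = (s.map fun z => Polynomial.X - Polynomial.C z).prod := by
    refine Polynomial.map_injective (algebraMap O (PadicAlgCl p)) (FaithfulSMul.algebraMap_injective O (PadicAlgCl p)) ?_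
    rw [Polynomial.map_map, Subsingleton.elim ((algebraMap O (PadicAlgCl p)).comp (algebraMap ℤ O)) (algebraMap ℤ (PadicAlgCl p)),
      ← hQ, hQs.eq_prod_roots_of_monic hQm, Polynomial.map_multiset_prod, Multiset.map_map, ← hsv, Multiset.map_map]
    congr 1
    exact Multiset.map_congr rfl fun z _ => by simp
  let r := IsLocalRing.residue O
  have hres : P.map (algebraMap ℤ (IsLocalRing.ResidueField O)) = ((s.map r).map fun z => Polynomial.X - Polynomial.C z).prod := by
    rw [Subsingleton.elim (algebraMap ℤ (IsLocalRing.ResidueField O)) (r.comp (algebraMap ℤ O)), ← Polynomial.map_map, hPO,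
      Polynomial.map_multiset_prod, Multiset.map_map, Multiset.map_map]
    congr 1
    exact Multiset.map_congr rfl fun z _ => by simp
  set R := P.map (algebraMap ℤ (IsLocalRing.ResidueField O)) with hR
  have hrz : ∀ z : O, r z = 0 ↔ ¬ ‖(z : PadicAlgCl p)‖ = 1 := fun z => by
    rw [IsLocalRing.residue_eq_zero_iff, IsLocalRing.mem_maximalIdeal, mem_nonunits_iff, not_iff_not]
    constructor
    · rintro ⟨w, rfl⟩
      have h1 : ‖((w : O) : PadicAlgCl p)‖ * ‖(((w⁻¹ : Oˣ) : O) : PadicAlgCl p)‖ = 1 := by
        rw [← norm_mul, ← MulMemClass.coe_mul, Units.mul_inv, OneMemClass.coe_one, norm_one]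
      have h2 := (hmem _).1 (w : O).2
      have h3 := (hmem _).1 ((w⁻¹ : Oˣ) : O).2
      nlinarith [norm_nonneg ((w : O) : PadicAlgCl p)]
    · intro h
      have hz0 : (z : PadicAlgCl p) ≠ 0 := fun h0 => by rw [h0, norm_zero] at h; exact zero_ne_one h
      exact IsUnit.of_mul_eq_one (⟨(z : PadicAlgCl p)⁻¹, (hmem _).2 (by rw [norm_inv, h, inv_one])⟩ : O)
        (Subtype.ext (mul_inv_cancel₀ hz0))
  have hcount : R.natTrailingDegree + Multiset.card (Q.roots.filter (fun z => ‖z‖ = 1)) = P.natDegree := by
    have hcard : Multiset.card Q.roots = P.natDegree := by rw [← hQs.natDegree_eq_card_roots, hQ, hP.natDegree_map]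
    rw [← Polynomial.rootMultiplicity_eq_natTrailingDegree', ← Polynomial.count_roots, hres,
      Polynomial.roots_multiset_prod_X_sub_C, Multiset.count_map, ← hcard, ← hsv, Multiset.filter_map,
      Multiset.card_map, Multiset.card_map]
    conv_rhs => rw [← Multiset.filter_add_not (fun z : O => ‖(z : PadicAlgCl p)‖ = 1) s, Multiset.card_add]
    rw [add_comm]
    congr 1
    exact congrArg _ (Multiset.filter_congr fun z _ => by rw [eq_comm]; exact hrz z)
  have hcoe : ∀ a : ℤ, (algebraMap ℤ (IsLocalRing.ResidueField O)) a = 0 ↔ (p : ℤ) ∣ a := by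
    have hp0 : ((p : ℕ) : IsLocalRing.ResidueField O) = 0 := by
      rw [← map_natCast r, hrz]
      intro h
      rw [show (((p : ℕ) : O) : PadicAlgCl p) = (p : PadicAlgCl p) from map_natCast (algebraMap O (PadicAlgCl p)) p,
        ← map_natCast (algebraMap ℚ_[p] (PadicAlgCl p)), PadicAlgCl.norm_extends, Padic.norm_p, inv_eq_one] at h
      exact (Fact.out : p.Prime).ne_one (by exact_mod_cast h)
    haveI : CharP (IsLocalRing.ResidueField O) p :=
      (CharP.charP_iff_prime_eq_zero (Fact.out : p.Prime)).2 hp0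
    exact fun a => CharP.intCast_eq_zero_iff (IsLocalRing.ResidueField O) p a
  have hR0 : R ≠ 0 := (hP.map _).ne_zero
  have hge : d ≤ R.natTrailingDegree := Polynomial.le_natTrailingDegree hR0 fun j hj => by
    rw [hR, Polynomial.coeff_map, hcoe]; exact hlow j hj
  rw [hroots]
  constructor
  · intro h hdvd
    have : R.natTrailingDegree = d := by omega
    have h1 : R.coeff d ≠ 0 := by rw [← this]; exact Polynomial.trailingCoeff_nonzero_iff_nonzero.2 hR0
    rw [hR, Polynomial.coeff_map] at h1
    exact h1 ((hcoe _).2 hdvd)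
  · intro h
    have h1 : R.natTrailingDegree ≤ d := Polynomial.natTrailingDegree_le_of_ne_zero (by
      rw [hR, Polynomial.coeff_map]; exact fun h0 => h ((hcoe _).1 h0))
    omega

/-- Let p be a prime, e ≥ 1 and q = p^e, and let (π_i) be a finite family of nonreal Weil q-numbers: π_i
lies in a field K_i of characteristic zero, is integral over ℤ with minimal polynomial P_i, every
complex root of P_i has absolute value √q, and no complex root of P_i is real; in particular deg P_i
= 2d_i is even. Call π_i ordinary when exactly half of the roots of P_i in an algebraic closure of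
ℚ_p, counted with multiplicity, are p-adic units (have absolute value 1). Then all π_i are ordinary
if and only if p does not divide ∏_i a_{d_i}, the product of the middle coefficients of the P_i
(this product is the value at F = V = 0 of the symmetric polynomial h_w of the family). -/
theorem result (p e : ℕ) [Fact p.Prime] (he : 0 < e)
    (ι : Type) [Fintype ι] (K : ι → Type u) [∀ i, Field (K i)] [∀ i, CharZero (K i)] (π : ∀ i, K i)
    (hint : ∀ i, IsIntegral ℤ (π i))
    (hweil : ∀ i, ∀ z ∈ (minpoly ℤ (π i)).aroots ℂ, ‖z‖ = Real.sqrt ((p : ℝ) ^ e))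
    (hnr : ∀ i, ∀ z ∈ (minpoly ℤ (π i)).aroots ℂ, z.im ≠ 0) :
    (∀ i, 2 * Multiset.card (((minpoly ℤ (π i)).aroots (PadicAlgCl p)).filter (fun z => ‖z‖ = 1)) = (minpoly ℤ (π i)).natDegree) ↔
      ¬ ((p : ℤ) ∣ ∏ i, (minpoly ℤ (π i)).coeff ((minpoly ℤ (π i)).natDegree / 2)) := by
  classical
  have key : ∀ i, 2 * Multiset.card (((minpoly ℤ (π i)).aroots (PadicAlgCl p)).filter (fun z => ‖z‖ = 1)) = (minpoly ℤ (π i)).natDegree ↔
      ¬ (p : ℤ) ∣ (minpoly ℤ (π i)).coeff ((minpoly ℤ (π i)).natDegree / 2) := fun i => by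
    obtain ⟨⟨d, hd⟩, hco⟩ := Groth.Agent.S17983.result p e he (K i) (π i) (hint i) (hweil i) (hnr i)
    refine one_poly p _ (minpoly.monic (hint i)) _ (by omega) fun j hj => ?_
    have h := hco ((minpoly ℤ (π i)).natDegree / 2 - j) (by omega)
    rw [show (minpoly ℤ (π i)).natDegree / 2 - ((minpoly ℤ (π i)).natDegree / 2 - j) = j by omega] at h
    rw [h]
    exact Dvd.dvd.mul_right (dvd_pow_self _ (Nat.mul_ne_zero he.ne' (by omega))) _
  have hpp : Prime (p : ℤ) := Nat.prime_iff_prime_int.1 Fact.out
  rw [hpp.dvd_finsetProd_iff]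
  simp only [Finset.mem_univ, true_and, not_exists]
  exact forall_congr' key

end Groth.Agent.S17987
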