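import Groth.Statements.S17999
import Mathlib
import Groth.Agent.WeilKerLib.Basic
import Groth.Agent.WeilKerLib.Pic

set_option autoImplicit false
universe u
open MvPolynomial
open WeilNum

namespace Groth.Agent.S17999

theorem integral_div {K : Type u} [Field K] [CharZero K] (q : ℕ) (hq : 0 < q) (x : K)
    (hint : IsIntegral ℤ x)
    (hweil : ∀ z ∈ (minpoly ℤ x).aroots ℂ, ‖z‖ = Real.sqrt q) :
    x ≠ 0 ∧ IsIntegral ℤ ((q : K) / x) := by
  have hxQ : IsIntegral ℚ x := hint.tower_top
  haveI := IntermediateField.adjoin.finiteDimensional hxQ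
  let E := IntermediateField.adjoin ℚ ({x} : Set K)
  let σ : E →ₐ[ℚ] ℂ := IsAlgClosed.lift
  let g : E := ⟨x, IntermediateField.mem_adjoin_simple_self ℚ x⟩
  have hr : Polynomial.aeval (σ g) (minpoly ℤ x) = 0 := by
    have h1 : Polynomial.aeval g (minpoly ℤ x) = 0 := by
      apply (E.val).injective
      rw [map_zero]
      have := Polynomial.aeval_algHom_apply (E.val.toRingHom.toIntAlgHom) g (minpoly ℤ x)
      exact this.symm.trans (minpoly.aeval ℤ x)
    have := Polynomial.aeval_algHom_apply (σ.toRingHom.toIntAlgHom) g (minpoly ℤ x)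
    rw [h1, map_zero] at this
    exact this
  have hn := hweil (σ g) (Polynomial.mem_aroots.mpr ⟨(minpoly.monic hint).ne_zero, hr⟩)
  have hσ := Groth.Agent.WeilKerLib.root_ne_zero hq hn
  have hg : g ≠ 0 := fun h => hσ (by rw [h, map_zero])
  have hx : x ≠ 0 := fun h => hg (Subtype.ext h)
  refine ⟨hx, ?_⟩
  have h2 : IsIntegral ℤ (σ ((q : E) / g)) := by
    rw [map_div₀, map_natCast, ← Groth.Agent.WeilKerLib.conj_root hn, mul_div_cancel_left₀ _ hσ]
    exact IsIntegral.map (starRingEnd ℂ).toIntAlgHom ⟨minpoly ℤ x, minpoly.monic hint, hr⟩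
  have h3 : IsIntegral ℤ ((q : E) / g) :=
    (isIntegral_algHom_iff σ.toRingHom.toIntAlgHom σ.injective).mp h2
  have h4 := h3.map E.val.toRingHom.toIntAlgHom
  simpa [map_div₀, g, E] using h4

theorem integral_pi {ι : Type} [Fintype ι] {K : ι → Type u} [∀ i, Field (K i)] (x : ∀ i, K i)
    (h : ∀ i, IsIntegral ℤ (x i)) : IsIntegral ℤ x := by
  refine ⟨∏ i, minpoly ℤ (x i), Polynomial.monic_prod_of_monic _ _ fun i _ => minpoly.monic (h i), ?_⟩
  funext i
  rw [← Polynomial.aeval_def, Polynomial.aeval_pi_apply]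
  show Polynomial.aeval (x i) (∏ j, minpoly ℤ (x j)) = 0
  rw [map_prod]
  exact Finset.prod_eq_zero (Finset.mem_univ i) (minpoly.aeval ℤ _)

/-- The case of finite sets of Weil numbers; let p be a prime, e ≥ 1 and q = p^e; let (π_j)_{j ∈ J} be a
finite family of pairwise nonconjugate Weil q-numbers (π_j in a field K_j of characteristic zero,
integral over ℤ with minimal polynomial P_j, all complex roots of P_j of absolute value √q, P_i ≠
P_j for i ≠ j), and let e : J' → J be an injective map selecting a subfamily. Let I_w, resp. I_v, be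
the kernel of ℤ[F, V] → ∏_{j ∈ J} K_j, resp. → ∏_{j' ∈ J'} K_{e(j')}, sending F ↦ (π_j) and V ↦
(q/π_j); then I_w ⊆ I_v and ℤ[F,V]/I_w → ℤ[F,V]/I_v is the natural surjection R_w → R_v of minimal
central orders. Then the induced homomorphism of Picard groups Pic(R_w) → Pic(R_v) is surjective.
The published statement concerns the Picard groups of the pro-rings attached to arbitrary subsets V
⊆ W of Weil q-number classes; only the case of finite sets is stated here. -/
theorem result (p e : ℕ) [Fact p.Prime] (he : 0 < e)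
    (J J' : Type) [Fintype J] [Fintype J'] (emb : J' → J) (hemb : Function.Injective emb)
    (K : J → Type u) [∀ j, Field (K j)] [∀ j, CharZero (K j)] (ϖ : ∀ j, K j)
    (hint : ∀ j, IsIntegral ℤ (ϖ j))
    (hweil : ∀ j, ∀ z ∈ (minpoly ℤ (ϖ j)).aroots ℂ, ‖z‖ = Real.sqrt ((p : ℝ) ^ e))
    (hinj : ∀ i j, minpoly ℤ (ϖ i) = minpoly ℤ (ϖ j) → i = j)
    (hle : RingHom.ker (MvPolynomial.aeval ![fun j => ϖ j, fun j => ((p : K j) ^ e) / ϖ j] :
          MvPolynomial (Fin 2) ℤ →ₐ[ℤ] ((j : J) → K j)) ≤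
        RingHom.ker (MvPolynomial.aeval ![fun j' => ϖ (emb j'), fun j' => ((p : K (emb j')) ^ e) / ϖ (emb j')] :
          MvPolynomial (Fin 2) ℤ →ₐ[ℤ] ((j' : J') → K (emb j')))) :
    Function.Surjective (CommRing.Pic.mapRingHom (Ideal.Quotient.factor hle)) := by
  classical
  have hq : 0 < p ^ e := pow_pos (Fact.out : p.Prime).pos e
  have hw' : ∀ j, ∀ z ∈ (minpoly ℤ (ϖ j)).aroots ℂ, ‖z‖ = Real.sqrt ((p ^ e : ℕ) : ℝ) := by
    intro j z hz
    rw [hweil j z hz]; push_cast; ring_nf
  have hdiv : ∀ j, IsIntegral ℤ (((p : K j) ^ e) / ϖ j) := by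
    intro j
    have := (integral_div (p ^ e) hq (ϖ j) (hint j) (hw' j)).2
    simpa using this
  let φw : MvPolynomial (Fin 2) ℤ →ₐ[ℤ] ((j : J) → K j) :=
    MvPolynomial.aeval ![fun j => ϖ j, fun j => ((p : K j) ^ e) / ϖ j]
  let φv : MvPolynomial (Fin 2) ℤ →ₐ[ℤ] ((j' : J') → K (emb j')) :=
    MvPolynomial.aeval ![fun j' => ϖ (emb j'), fun j' => ((p : K (emb j')) ^ e) / ϖ (emb j')]
  have hvw : ∀ (f : MvPolynomial (Fin 2) ℤ) (i : J'), φv f i = φw f (emb i) := by
    intro f i
    induction f using MvPolynomial.induction_on with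
    | C a => simp [φv, φw]
    | add a b ha hb => simp [map_add, ha, hb]
    | mul_X a k ha =>
      simp only [map_mul, Pi.mul_apply, ha]
      congr 1
      fin_cases k <;> simp [φv, φw]
  haveI hfin : Module.Finite ℤ (MvPolynomial (Fin 2) ℤ ⧸ RingHom.ker φv) := by
    have hfg : φv.range.toSubmodule.FG := by
      rw [← Algebra.adjoin_range_eq_range_aeval]
      refine fg_adjoin_of_finite (Set.finite_range _) ?_
      rintro _ ⟨k, rfl⟩
      fin_cases k
      · exact integral_pi _ fun i => hint _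
      · exact integral_pi _ fun i => hdiv _
    haveI : Module.Finite ℤ φv.range := Module.Finite.iff_fg.mpr hfg
    exact Module.Finite.equiv (Ideal.quotientKerEquivRange φv).symm.toLinearEquiv
  let g : Polynomial ℤ := ∏ j ∈ Finset.univ.filter (fun j => j ∉ Set.range emb), minpoly ℤ (ϖ j)
  have hga : ∀ j, φw (Polynomial.aeval (X 0 : MvPolynomial (Fin 2) ℤ) g) j
      = Polynomial.aeval (ϖ j) g := by
    intro j
    rw [← Polynomial.aeval_algHom_apply, Polynomial.aeval_pi_apply]
    simp [φw]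
  refine Groth.Agent.WeilKerLib.pic_map_surjective (Ideal.Quotient.factor hle)
    (Ideal.Quotient.factor_surjective hle) (fun i => K (emb i))
    (fun i => (Pi.evalRingHom (fun i => K (emb i)) i).comp
      (Ideal.Quotient.lift (RingHom.ker φv) φv.toRingHom fun _ ha => ha)) ?_
    (Ideal.Quotient.mk _ (Polynomial.aeval (X 0 : MvPolynomial (Fin 2) ℤ) g)) ?_ ?_
  · intro s hs
    obtain ⟨f, rfl⟩ := Ideal.Quotient.mk_surjective s
    refine Ideal.Quotient.eq_zero_iff_mem.mpr ?_
    show φv f = 0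
    funext i
    exact hs i
  · intro x hx
    obtain ⟨f, rfl⟩ := Ideal.Quotient.mk_surjective x
    rw [Ideal.Quotient.factor_mk, Ideal.Quotient.eq_zero_iff_mem, RingHom.mem_ker] at hx
    rw [← map_mul, Ideal.Quotient.eq_zero_iff_mem, RingHom.mem_ker]
    change φv f = 0 at hx
    show φw _ = 0
    funext j
    rw [map_mul, Pi.mul_apply, hga, Pi.zero_apply]
    by_cases hj : j ∈ Set.range emb
    · obtain ⟨i, rfl⟩ := hj
      rw [← hvw, hx, Pi.zero_apply, mul_zero]
    · have : Polynomial.aeval (ϖ j) g = 0 := by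
        rw [map_prod]
        exact Finset.prod_eq_zero (i := j) (Finset.mem_filter.mpr ⟨Finset.mem_univ _, hj⟩) (minpoly.aeval ℤ _)
      rw [this, zero_mul]
  · intro i h0
    change φv (Polynomial.aeval (X 0 : MvPolynomial (Fin 2) ℤ) g) i = 0 at h0
    rw [hvw, hga, map_prod, Finset.prod_eq_zero_iff] at h0
    obtain ⟨j, hj, hz⟩ := h0
    simp only [Finset.mem_filter, Finset.mem_univ, true_and, Set.mem_range, not_exists] at hj
    refine hj i (hinj _ _ ?_)
    have hd := minpoly.isIntegrallyClosed_dvd (hint (emb i)) hz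
    exact Polynomial.eq_of_monic_of_associated (minpoly.monic (hint _)) (minpoly.monic (hint _))
      ((minpoly.irreducible (hint _)).associated_of_dvd (minpoly.irreducible (hint _)) hd)

end Groth.Agent.S17999
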