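import Groth.Statements.S18003
import Groth.Agent.WeilKerLib.Basic
import Groth.Agent.S17984
import Groth.Agent.S17985
import Mathlib

set_option autoImplicit false
universe u
open MvPolynomial
open WeilNum

namespace Groth.Agent.S18003

set_option backward.isDefEq.respectTransparency.types false
set_option maxHeartbeats 1000000
open Groth.Agent.WeilKerLib

/-- Let p be a prime, e ≥ 1 and q = p^e; let (π_i) be a finite family of pairwise nonconjugate Weil
q-numbers (π_i in a field K_i of characteristic zero, integral over ℤ with minimal polynomial P_i,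
all complex roots of P_i of absolute value √q, P_i ≠ P_j for i ≠ j) of even total degree Σ_i deg
P_i, P_w = ∏_i P_i, and R_w ⊆ ∏_i K_i the minimal central order, the image of ℤ[F, V] → ∏_i K_i, F ↦
(π_i), V ↦ (q/π_i). Let T be a finitely generated free ℤ-module and F_T an endomorphism of T. Then
there exists an R_w-module structure on the additive group T in which the class of F acts as F_T if
and only if P_w(F_T) = 0 (equivalently: F_T is semisimple after tensoring with ℚ, with eigenvalues
among the conjugates of the π_i) and there is an endomorphism V_T of T with F_T ∘ V_T = q. When it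
exists the structure is determined by F_T (the class of V acts as V_T = q·F_T⁻¹), and reflexive
R_w-modules are exactly the ℤ-free finitely generated ones, so this identifies the objects of
Refl(R_w) with such pairs (T, F_T); the uniqueness remark is not part of the formal statement. -/
theorem result (p e : ℕ) [Fact p.Prime] (he : 0 < e)
    (ι : Type) [Fintype ι] (K : ι → Type u) [∀ i, Field (K i)] [∀ i, CharZero (K i)] (π : ∀ i, K i)
    (hint : ∀ i, IsIntegral ℤ (π i))
    (hweil : ∀ i, ∀ z ∈ (minpoly ℤ (π i)).aroots ℂ, ‖z‖ = Real.sqrt ((p : ℝ) ^ e))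
    (hinj : ∀ i j, minpoly ℤ (π i) = minpoly ℤ (π j) → i = j)
    (D : ℕ) (hD : ∑ i, (minpoly ℤ (π i)).natDegree = 2 * D)
    (T : Type) [AddCommGroup T] [Module.Finite ℤ T] [Module.Free ℤ T] (FT : T →ₗ[ℤ] T) :
    (∃ _ : Module (MvPolynomial.aeval ![fun i => π i, fun i => ((p : K i) ^ e) / π i] :
        MvPolynomial (Fin 2) ℤ →ₐ[ℤ] ((i : ι) → K i)).range T,
        ∀ t : T, (⟨(MvPolynomial.aeval ![fun i => π i, fun i => ((p : K i) ^ e) / π i] :
        MvPolynomial (Fin 2) ℤ →ₐ[ℤ] ((i : ι) → K i)) (X 0), AlgHom.mem_range_self _ _⟩ : (MvPolynomial.aeval ![fun i => π i, fun i => ((p : K i) ^ e) / π i] :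
        MvPolynomial (Fin 2) ℤ →ₐ[ℤ] ((i : ι) → K i)).range) • t = FT t) ↔
      (Polynomial.aeval FT (∏ i, minpoly ℤ (π i)) = 0 ∧
        ∃ VT : T →ₗ[ℤ] T, FT ∘ₗ VT = ((p : ℤ) ^ e) • LinearMap.id) := by
  classical
  set q : ℕ := p ^ e with hq
  have hhq : 0 < q := pow_pos (Fact.out : p.Prime).pos e
  have hm : ∀ i, (minpoly ℤ (π i)).Monic := fun i => minpoly.monic (hint i)
  set P : Polynomial ℤ := ∏ i, minpoly ℤ (π i) with hP
  have hPm : P.Monic := Polynomial.monic_prod_of_monic _ _ fun i _ => hm i
  have hPd : P.natDegree = 2 * D := by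
    rw [hP, Polynomial.natDegree_prod_of_monic _ _ fun i _ => hm i, hD]
  have hPw : ∀ z ∈ P.aroots ℂ, ‖z‖ = Real.sqrt (q : ℕ) := by
    intro z hz
    rw [Polynomial.mem_aroots] at hz
    obtain ⟨-, hz⟩ := hz
    simp only [hP, map_prod, Finset.prod_eq_zero_iff] at hz
    obtain ⟨i, -, hi⟩ := hz
    rw [hweil i z (Polynomial.mem_aroots.mpr ⟨(hm i).ne_zero, hi⟩)]
    simp [hq]
  obtain ⟨h, ε, hε, hfe, hh⟩ := Groth.Agent.S17985.exists_h hhq hPm hPd hPw
  have hqz : ((p : ℤ) ^ e) = (q : ℤ) := by simp [hq]
  have hker := (Groth.Agent.S17984.result p e he ι K π hint hweil hinj D hD h (by rw [hqz]; exact hh)).1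
  rw [hqz] at hker ⊢
  set φ : MvPolynomial (Fin 2) ℤ →ₐ[ℤ] ((i : ι) → K i) :=
    MvPolynomial.aeval ![fun i => π i, fun i => ((p : K i) ^ e) / π i] with hφ
  have hPF : Polynomial.aeval (φ.rangeRestrict (MvPolynomial.X 0)) P = 0 := by
    rw [Polynomial.aeval_algHom_apply]
    apply Subtype.ext
    show φ (Polynomial.aeval (MvPolynomial.X 0) P) = 0
    rw [← Polynomial.aeval_algHom_apply]
    funext i
    rw [Polynomial.aeval_pi_apply, hP]
    simp only [map_prod, Pi.zero_apply]
    exact Finset.prod_eq_zero (Finset.mem_univ i) (by simp [hφ])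
  have hzF : φ.rangeRestrict (zeta (q : ℤ)) = 0 := by
    apply Subtype.ext
    have : zeta (q : ℤ) ∈ RingHom.ker φ := by rw [hker]; exact Ideal.subset_span (Or.inl rfl)
    exact this
  constructor
  · rintro ⟨inst, hF⟩
    letI := inst
    let μ : φ.range →+* Module.End ℤ T :=
      { toFun := fun r =>
          ({ toFun := fun t => r • t, map_zero' := smul_zero r, map_add' := smul_add r } : T →+ T).toIntLinearMap
        map_one' := LinearMap.ext fun t => one_smul φ.range t
        map_mul' := fun r s => LinearMap.ext fun t => mul_smul r s t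
        map_zero' := LinearMap.ext fun t => zero_smul φ.range t
        map_add' := fun r s => LinearMap.ext fun t => add_smul r s t }
    have hμ : μ (φ.rangeRestrict (MvPolynomial.X 0)) = FT := LinearMap.ext fun t => hF t
    refine ⟨?_, μ (φ.rangeRestrict (MvPolynomial.X 1)), ?_⟩
    · have : μ.toIntAlgHom (Polynomial.aeval (φ.rangeRestrict (MvPolynomial.X 0)) P) =
          Polynomial.aeval FT P := by
        rw [← Polynomial.aeval_algHom_apply]; congr
      rw [← this, hPF, map_zero]
    · rw [← hμ, ← Module.End.mul_eq_comp, ← map_mul, ← map_mul]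
      have : φ.rangeRestrict (MvPolynomial.X 0 * MvPolynomial.X 1) = φ.rangeRestrict (MvPolynomial.C (q : ℤ)) := by
        rw [← sub_eq_zero, ← map_sub]; exact hzF
      rw [this, ← MvPolynomial.algebraMap_eq, AlgHom.commutes, eq_intCast, map_intCast]
      ext t; simp
  · rintro ⟨hP0, VT, hV⟩
    have hV' : FT * VT = algebraMap ℤ (Module.End ℤ T) (q : ℤ) := by
      rw [Module.End.mul_eq_comp, hV]; rfl
    have hinjF : Function.Injective FT := by
      have hd : LinearMap.det FT * LinearMap.det VT = (q : ℤ) ^ Module.finrank ℤ T := by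
        rw [← LinearMap.det_comp, hV, LinearMap.det_smul, LinearMap.det_id, mul_one]
      have hd0 : LinearMap.det FT ≠ 0 := by
        intro h0
        rw [h0, zero_mul] at hd
        exact pow_ne_zero _ (by exact_mod_cast hhq.ne') hd.symm
      rw [← LinearMap.ker_eq_bot]
      by_contra hc
      exact hd0 (LinearMap.det_eq_zero_iff_ker_ne_bot.mpr hc)
    have hcancel : ∀ A : Module.End ℤ T, FT * A = 0 → A = 0 := fun A hA =>
      LinearMap.ext fun t => hinjF (by
        have := LinearMap.congr_fun hA t
        simpa using this)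
    have hcomm : FT * VT = VT * FT := by
      have : FT * (VT * FT - algebraMap ℤ (Module.End ℤ T) (q : ℤ)) = 0 := by
        rw [mul_sub, ← mul_assoc, hV', Algebra.commutes, sub_self]
      rw [hV', sub_eq_zero.mp (hcancel _ this)]
    let S : Subalgebra ℤ (Module.End ℤ T) := Algebra.adjoin ℤ {FT, VT}
    letI : CommRing S := Algebra.adjoinCommRingOfComm ℤ (by
      rintro a ha b hb
      simp only [Set.mem_insert_iff, Set.mem_singleton_iff] at ha hb
      rcases ha with rfl | rfl <;> rcases hb with rfl | rfl <;> first | rfl | exact hcomm | exact hcomm.symm)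
    let sF : S := ⟨FT, Algebra.subset_adjoin (Or.inl rfl)⟩
    let sV : S := ⟨VT, Algebra.subset_adjoin (Or.inr rfl)⟩
    let ψ : R2 →+* S := MvPolynomial.eval₂Hom (Int.castRingHom S) ![sF, sV]
    let Ψ : R2 →+* Module.End ℤ T := S.val.toRingHom.comp ψ
    have hX0 : Ψ (MvPolynomial.X 0) = FT := by simp [Ψ, ψ, sF]
    have hX1 : Ψ (MvPolynomial.X 1) = VT := by simp [Ψ, ψ, sV]
    have hz : Ψ (zeta (q : ℤ)) = 0 := by
      simp only [zeta, map_sub, map_mul, hX0, hX1, hV']
      rw [← MvPolynomial.algebraMap_eq, show algebraMap ℤ R2 (q : ℤ) = ((q : ℤ) : R2) by simp, map_intCast]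
      simp
    have hΨh : Ψ h = 0 := by
      obtain ⟨t, ht⟩ := Ideal.mem_span_singleton.mp hh
      have h1 : Ψ (MvPolynomial.X 0 ^ D * h) = 0 := by
        have e1 : Ψ (Polynomial.aeval (MvPolynomial.X 0 : R2) P) = 0 := by
          have : Ψ.toIntAlgHom (Polynomial.aeval (MvPolynomial.X 0 : R2) P) = Polynomial.aeval FT P := by
            rw [← Polynomial.aeval_algHom_apply]; congr
          exact this.trans hP0
        have e2 := congrArg Ψ ht
        rwa [map_sub, e1, sub_zero, map_mul Ψ (zeta (q : ℤ)), hz, zero_mul] at e2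
      rw [map_mul, map_pow, hX0] at h1
      have key : ∀ (n : ℕ) (A : Module.End ℤ T), FT ^ n * A = 0 → A = 0 := by
        intro n
        induction n with
        | zero => intro A hA; simpa using hA
        | succ n ih => intro A hA; refine ih A (hcancel _ ?_); rw [← mul_assoc, ← pow_succ']; exact hA
      exact key D _ h1
    have hle : RingHom.ker φ.rangeRestrict.toRingHom ≤ RingHom.ker Ψ := by
      intro x hx
      have hx' : x ∈ RingHom.ker φ := congrArg Subtype.val hx
      rw [hker] at hx'
      obtain ⟨a, b, rfl⟩ := Ideal.mem_span_pair.mp hx'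
      have hz' : Ψ (MvPolynomial.X 0 * MvPolynomial.X 1 - MvPolynomial.C (q : ℤ)) = 0 := hz
      rw [RingHom.mem_ker, map_add, map_mul, map_mul, hz', hΨh, mul_zero, mul_zero, add_zero]
    let g := Function.surjInv φ.rangeRestrict_surjective
    let ρ : φ.range →+* Module.End ℤ T :=
      RingHom.liftOfRightInverse φ.rangeRestrict.toRingHom g (Function.rightInverse_surjInv _) ⟨Ψ, hle⟩
    refine ⟨Module.compHom T ρ, fun t => ?_⟩
    have hρ : ρ (φ.rangeRestrict (MvPolynomial.X 0)) = FT :=
      (RingHom.liftOfRightInverse_comp_apply φ.rangeRestrict.toRingHom g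
        (Function.rightInverse_surjInv _) ⟨Ψ, hle⟩ (MvPolynomial.X 0)).trans hX0
    exact LinearMap.congr_fun hρ t

end Groth.Agent.S18003
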