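import Mathlib.Algebra.CharP.Two
import Mathlib.Tactic.LinearCombination
import Mathlib.Algebra.Polynomial.RingDivision
import Groth.Statements.S18019

set_option autoImplicit false
universe u
open ClassStk

namespace Groth.Agent.S18019

open Polynomial in
/-- Let R be an integral domain of characteristic 2 and let a be a nonzero element of R, so that x ↦ x +
a defines an R-algebra involution of the polynomial ring R[x] (an action of the group of order two).
A polynomial f is invariant, f(x + a) = f(x), if and only if f belongs to the R-subalgebra generated
by u = x (x + a); in other words the ring of invariants is the polynomial ring R[u]. -/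
theorem result (R : Type u) [CommRing R] [IsDomain R]
    [CharP R 2] (a : R) (ha : a ≠ 0) (f : Polynomial R) :
    f.comp (X + C a) = f ↔ f ∈ Algebra.adjoin R ({X * (X + C a)} : Set (Polynomial R)) := by
  have h2 : C a + C a = 0 := by rw [← map_add, CharTwo.add_self_eq_zero, map_zero]
  have hu : (X * (X + C a)).comp (X + C a) = X * (X + C a) := by
    simp only [mul_comp, add_comp, X_comp, C_comp]
    linear_combination (X + C a) * h2
  constructor
  · induction hn : f.natDegree using Nat.strong_induction_on generalizing f with
    | _ n IH =>
      intro hf
      let h := f - C (f.coeff 0)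
      have hh : h.comp (X + C a) = h := by simp [h, sub_comp, hf]
      have h0 : h.eval 0 = 0 := by simp [h, ← coeff_zero_eq_eval_zero]
      have ha0 : h.eval a = 0 := by
        have := congrArg (eval 0) hh
        rw [eval_comp] at this
        simpa [h0] using this
      obtain ⟨q, hq⟩ : X ∣ h := X_dvd_iff.2 (by rw [coeff_zero_eq_eval_zero]; exact h0)
      obtain ⟨r, hr⟩ : (X + C a) ∣ q := by
        have hqa : q.eval a = 0 := by
          rw [hq, eval_mul, eval_X, mul_eq_zero] at ha0
          exact ha0.resolve_left ha
        have h := dvd_iff_isRoot.2 (show q.IsRoot a from hqa)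
        rwa [sub_eq_add_neg, neg_eq_of_add_eq_zero_left h2] at h
      have hne : X * (X + C a) ≠ (0 : Polynomial R) := mul_ne_zero X_ne_zero (X_add_C_ne_zero a)
      have hrr : r.comp (X + C a) = r := by
        have := hh
        rw [hq, hr, ← mul_assoc, mul_comp, hu] at this
        exact mul_left_cancel₀ hne this
      have hf' : f = C (f.coeff 0) + X * (X + C a) * r := by
        rw [mul_assoc, ← hr, ← hq]; simp [h]
      rw [hf']
      refine Subalgebra.add_mem _ (Subalgebra.algebraMap_mem _ _)
        (Subalgebra.mul_mem _ (Algebra.subset_adjoin rfl) ?_)
      by_cases hr0 : r = 0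
      · rw [hr0]; exact Subalgebra.zero_mem _
      refine IH r.natDegree ?_ r rfl hrr
      have hd : f.natDegree = 2 + r.natDegree := by
        conv_lhs => rw [hf']
        rw [natDegree_C_add, natDegree_mul hne hr0, natDegree_mul X_ne_zero (X_add_C_ne_zero a), natDegree_X,
          natDegree_X_add_C]
      omega
  · intro hf
    induction hf using Algebra.adjoin_induction with
    | mem x hx => rw [Set.mem_singleton_iff.1 hx]; exact hu
    | algebraMap r => exact C_comp
    | add x y _ _ hx hy => rw [add_comp, hx, hy]
    | mul x y _ _ hx hy => rw [mul_comp, hx, hy]

end Groth.Agent.S18019
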