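import Groth.Statements.S1802
import Groth.Agent.S0356
import Groth.Agent.SerreAff.Relative
import Groth.Agent.Devissage.Vanishing
import Groth.Agent.Devissage.General
import Groth.Agent.LocCohBasic.Cd
import Groth.Agent.LocCohBasic.Vanish
-- import your own Groth.Agent.* helpers here

set_option autoImplicit false
universe u
open AlgebraicGeometry
open LocCoh

namespace Groth.Agent.S1802

/-- For a Noetherian ring. Let I be an ideal of a Noetherian ring A with cd(A, I) = 1, i.e. H^i_I(M) = 0
for all modules M and all i ≥ 2 but H^1_I(M) ≠ 0 for some M. Then the open subscheme Spec A minus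
V(I) is nonempty and affine. -/
theorem result (A : Type u) [CommRing A] [IsNoetherianRing A] (I : Ideal A) (h1 : LocCoh.CdLE A I 1) (h0 : ¬ LocCoh.CdLE A I 0) : Nonempty (↑(LocCoh.puncturedOpen A I) : Scheme.{u}) ∧ IsAffine (↑(LocCoh.puncturedOpen A I) : Scheme.{u}) := by
  refine ⟨?_, ?_⟩
  · by_contra hne
    rw [not_nonempty_iff] at hne
    refine h0 fun M _ _ i hi => ?_
    have hnil : I ≤ (⊥ : Ideal A).radical := fun x hx => by
      rw [Ideal.radical_eq_sInf, Submodule.mem_sInf]
      intro p hp
      by_contra hxp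
      exact hne.false ⟨(⟨p, hp.2⟩ : PrimeSpectrum A), fun h => hxp (h hx)⟩
    obtain ⟨e⟩ := LocCohBasic.nonempty_iso_of_radical_eq I (J := (⊥ : Ideal A))
      (le_antisymm (Ideal.radical_le_radical_iff.2 hnil) (Ideal.radical_mono bot_le)) i
    exact (e.app (ModuleCat.of A M)).toLinearEquiv.toEquiv.subsingleton_congr.2 (LocCohBasic.cdLE_bot M i hi)
  · show IsAffineOpen (LocCoh.puncturedOpen A I)
    let U := LocCoh.puncturedOpen A I
    refine SerreAff.isAffineOpen_of_idealExactOn
      (show IsCompact ((PrimeSpectrum.zeroLocus (R := A) (I : Set A))ᶜ) from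
        (PrimeSpectrum.isCompact_isOpen_iff_ideal.mpr ⟨I, I.fg_of_isNoetherianRing, rfl⟩).1) ?_
    intro T hT j _ hqc
    have hadd : (Scheme.Modules.restrictFunctor U.ι).Additive :=
      ⟨fun {M N f g} => Scheme.Modules.hom_ext _ _ fun W => rfl⟩
    have hmono : (Scheme.Modules.restrictFunctor U.ι).PreservesMonomorphisms :=
      ⟨fun {M N} f hf => Devissage.mono_of_app_injective _ fun W =>
        QCohBase.app_injective_of_mono f (U.ι ''ᵁ W)⟩
    have hcol : CategoryTheory.Limits.PreservesColimitsOfSize.{0, 0} (Scheme.Modules.restrictFunctor U.ι) :=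
      (Scheme.Modules.restrictAdjunction U.ι).leftAdjoint_preservesColimits
    have hhom := (Scheme.Modules.restrictFunctor U.ι).preservesHomology_of_preservesMonos_and_cokernels
    have hlim : CategoryTheory.Limits.PreservesFiniteLimits (Scheme.Modules.restrictFunctor U.ι) :=
      (Scheme.Modules.restrictFunctor U.ι).preservesFiniteLimits_of_preservesHomology
    have hS := hT.map_of_exact (Scheme.Modules.restrictFunctor U.ι)
    let X1 : (Spec (CommRingCat.of A)).Modules := T.X₁
    have hiso : CategoryTheory.IsIso (Scheme.Modules.fromTildeΓ (R := CommRingCat.of A) X1) :=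
      @Scheme.Modules.isIso_fromTildeΓ_of_isQuasicoherent (CommRingCat.of A) X1 hqc
    let N : Type u := (moduleSpecΓFunctor (R := CommRingCat.of A)).obj X1
    obtain ⟨e⟩ := S0356.result A I N 1 le_rfl
    have hz : Subsingleton (LocCoh.H I 2 N) := h1 N 2 (by omega)
    have hv := Devissage.subsingleton_HH_of_iso ((Scheme.Modules.restrictFunctor U.ι).mapIso (CategoryTheory.asIso (Scheme.Modules.fromTildeΓ (R := CommRingCat.of A) X1))) 1
      (e.toEquiv.subsingleton)
    have hsurj := SerreAff.sections_surjective_of_H1 hS hv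
    have himg : U.ι ''ᵁ ⊤ = U := by simp
    show Function.Surjective (T.g.app U)
    rw [← himg]
    exact hsurj

end Groth.Agent.S1802
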