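import Groth.Statements.S18020
import Groth.Agent.InertiaK.Basic

set_option autoImplicit false
open W4c5stacksedinertia

namespace Groth.Agent.S18020

open W4c5stacksedinertia in
/-- In the rational vector space K with basis the isomorphism classes of finite groups (the class of a
group standing for its classifying groupoid), the inertia operator, which sends the class of a
finite group to the sum over its conjugacy classes of the classes of the centralizers of
representatives, preserves the subspace spanned by the classes of groups of order at most `n`. -/
theorem result (n : ℕ) (v : K) (hv : v ∈ Kle n) :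
    inertia v ∈ Kle n := by
  classical
  rw [inertia, inertiaR, Finsupp.linearCombination_apply]
  refine Submodule.sum_mem _ fun i hi => Submodule.smul_mem _ _ ?_
  have hin : i.card ≤ n := ((Finsupp.mem_supported ℚ v).mp hv) hi
  haveI := Groth.Agent.InertiaK.fintypeOrbit i.rep 1
  rw [inertiaROf, finsum_eq_sum_of_fintype]
  refine Submodule.sum_mem _ fun O _ => Finsupp.single_mem_supported ℚ _ ?_
  obtain ⟨e⟩ := Groth.Agent.InertiaK.nonempty_rep_equiv
    (Subgroup.centralizer (Set.range (Quotient.out (s := CommTuple.setoid i.rep 1) O).1))
  show Idx.card _ ≤ n
  rw [Idx.card, Nat.card_congr e.toEquiv]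
  exact (Subgroup.card_le_card_group _).trans hin

end Groth.Agent.S18020
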