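import Groth.Statements.S18021
import Groth.Agent.InertiaK.Eigen

set_option autoImplicit false
open W4c5stacksedinertia

namespace Groth.Agent.S18021

open W4c5stacksedinertia in
/-- In the rational vector space K with basis the isomorphism classes of finite groups (the class of a
group standing for its classifying groupoid), the inertia operator is diagonalizable with spectrum
the positive integers: the eigenspaces attached to natural numbers span everything, and a rational
number is an eigenvalue if and only if it is a positive integer. -/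
theorem result :
    (⨆ n : ℕ, Module.End.eigenspace inertia (n : ℚ)) = ⊤ ∧
    ∀ μ : ℚ, Module.End.HasEigenvalue inertia μ ↔ ∃ n : ℕ, 0 < n ∧ μ = (n : ℚ) := by
  refine ⟨eq_top_iff.2 fun v _ => ?_, fun μ => ⟨fun h => ?_, ?_⟩⟩
  · rw [← Groth.Agent.InertiaK.sum_proj v]
    exact finsum_induction _ (Submodule.zero_mem _) (fun _ _ => Submodule.add_mem _) fun k =>
      Submodule.mem_iSup_of_mem k (Groth.Agent.InertiaK.proj_mem k)
  · obtain ⟨v, hv, hne⟩ := h.exists_hasEigenvector
    rw [Module.End.mem_eigenspace_iff] at hv
    obtain ⟨N, hN⟩ := Groth.Agent.InertiaK.exists_bound v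
    have h₀ := hN N le_rfl
    rw [Groth.Agent.InertiaK.inertiaR_of_eigen hv, smul_eq_zero] at h₀
    obtain ⟨j, -, hj⟩ := Finset.prod_eq_zero_iff.1 (h₀.resolve_right hne)
    obtain rfl : μ = (j : ℚ) := sub_eq_zero.1 hj
    refine ⟨j, Nat.pos_of_ne_zero fun h0 => ?_, rfl⟩
    subst h0
    exact hne (Groth.Agent.InertiaK.eigenvalue_pos (by simpa using hv))
  · rintro ⟨n, hn, rfl⟩
    haveI : NeZero n := ⟨hn.ne'⟩
    refine Module.End.hasEigenvalue_of_hasEigenvector (x := cl (Multiplicative (ZMod n))) ⟨?_, ?_⟩
    · rw [Module.End.mem_eigenspace_iff, Groth.Agent.InertiaK.inertia_cl_of_comm]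
      rw [Nat.card_congr Multiplicative.toAdd, Nat.card_zmod]
    · simp [cl]

end Groth.Agent.S18021
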