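import Groth.Statements.S18024
import Groth.Agent.InertiaK.Eigen

set_option autoImplicit false
open W4c5stacksedinertia

namespace Groth.Agent.S18024

open W4c5stacksedinertia in
/-- In the rational vector space K with basis the isomorphism classes of finite groups (the class of a
group standing for its classifying groupoid), for every `r` the kernel of `inertiaR r` is the span
of the eigenspaces of the inertia operator with eigenvalue a natural number `k < r`. -/
theorem result (r : ℕ) :
    LinearMap.ker (inertiaR r) = ⨆ k ∈ Finset.range r, Module.End.eigenspace inertia (k : ℚ) := by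
  refine le_antisymm (fun v hv => ?_) (iSup₂_le fun k hk v hv => ?_)
  · rw [LinearMap.mem_ker] at hv
    rw [← Groth.Agent.InertiaK.sum_proj v]
    refine finsum_induction _ (Submodule.zero_mem _) (fun _ _ => Submodule.add_mem _) fun k => ?_
    rcases lt_or_ge k r with h | h
    · exact Submodule.mem_iSup_of_mem k (Submodule.mem_iSup_of_mem (Finset.mem_range.2 h) (Groth.Agent.InertiaK.proj_mem k))
    · rw [finsum_eq_zero_of_forall_eq_zero]
      · exact Submodule.zero_mem _
      intro r'
      rcases lt_or_ge r' k with h' | h'
      · simp [Groth.Agent.InertiaK.coeff, Nat.choose_eq_zero_of_lt h']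
      · rw [Groth.Agent.InertiaK.inertiaR_eq_zero_of_le hv (h.trans h'), smul_zero]
  · rw [Module.End.mem_eigenspace_iff] at hv
    rw [LinearMap.mem_ker, Groth.Agent.InertiaK.inertiaR_of_eigen hv, Groth.Agent.InertiaK.prod_sub_eq,
      Nat.choose_eq_zero_of_lt (Finset.mem_range.1 hk)]
    simp

end Groth.Agent.S18024
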