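import Groth.Statements.S18026
import Groth.Agent.Hensel.Split
import Mathlib.AlgebraicGeometry.Morphisms.Etale
import Mathlib.AlgebraicGeometry.Morphisms.Finite
import Mathlib.AlgebraicGeometry.Morphisms.UniversallyOpen
import Mathlib.RingTheory.Localization.Away.Lemmas
import Mathlib.AlgebraicGeometry.Morphisms.QuasiFinite

set_option autoImplicit false
universe u
open Hensel

namespace Groth.Agent.S18026

open AlgebraicGeometry CategoryTheory in
/-- Let `A` be a henselian discrete valuation ring and `f : T ⟶ Spec A` an étale surjective morphism of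
schemes. Then some open subscheme `U` of `T` is finite over `Spec A` and still maps onto it; in
particular `U → Spec A` is a finite étale cover sitting inside `T` as an open subscheme (étaleness
of the restriction is automatic, and surjectivity records that `U` meets the closed fibre). (The
published statement asks for an open component of `T` finite étale over `Spec A`; when `T` is not
separated — two copies of `Spec A` glued along the generic point — no open and closed subset of `T`
is finite over `Spec A`, while the published proof constructs an open subscheme, the spectrum of the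
local ring of `T` at a point of the closed fibre; so this row asks only for an open subscheme.) -/
theorem result
    (A : Type u) [CommRing A] [IsDomain A] [IsDiscreteValuationRing A] [HenselianLocalRing A]
    (T : Scheme.{u}) (f : T ⟶ Spec (CommRingCat.of A)) [Etale f] [Surjective f] :
    ∃ U : T.Opens, IsFinite (U.ι ≫ f) ∧ Surjective (U.ι ≫ f) := by
  obtain ⟨x, hx⟩ := f.surjective (IsLocalRing.closedPoint A)
  obtain ⟨_, ⟨U, hU : IsAffineOpen U, rfl⟩, hxU, -⟩ :=
    T.isBasis_affineOpens.exists_subset_of_mem_open (Set.mem_univ x) isOpen_univ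
  let φ : CommRingCat.of A ⟶ Γ(T, U) := Spec.preimage (hU.fromSpec ≫ f)
  have hφ : Spec.map φ = hU.fromSpec ≫ f := Spec.map_preimage _
  have het : φ.hom.Etale := by
    rw [← HasRingHomProperty.Spec_iff (P := @Etale), hφ]
    infer_instance
  algebraize [φ.hom]
  have het' : Algebra.Etale A Γ(T, U) := het
  obtain ⟨q, hq⟩ : x ∈ Set.range hU.fromSpec := hU.range_fromSpec.symm ▸ hxU
  have hqm : q.asIdeal.comap (algebraMap A Γ(T, U)) = IsLocalRing.maximalIdeal A := by
    have : (Spec.map φ) q = IsLocalRing.closedPoint A := by
      rw [hφ, Scheme.Hom.comp_apply, hq]; exact hx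
    exact congrArg PrimeSpectrum.asIdeal this
  haveI : Algebra.QuasiFiniteAt A q.asIdeal := inferInstance
  obtain ⟨e, he, hfin, hmem, -⟩ := Groth.Agent.Hensel.exists_idem_split (R := A) (S := Γ(T, U))
  have heq : e ∉ q.asIdeal := hmem q ⟨hqm.symm⟩ inferInstance
  haveI : IsLocalization.Away e (Γ(T, U) ⧸ Ideal.span ({1 - e} : Set Γ(T, U))) :=
    IsLocalization.Away.quotient_of_isIdempotentElem he
  let π : Γ(T, U) ⟶ CommRingCat.of (Γ(T, U) ⧸ Ideal.span ({1 - e} : Set Γ(T, U))) :=
    CommRingCat.ofHom (algebraMap _ _)
  haveI : IsOpenImmersion (Spec.map π) := IsOpenImmersion.of_isLocalization e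
  let j := Spec.map π ≫ hU.fromSpec
  have hjf : j ≫ f = Spec.map (φ ≫ π) := by
    rw [Spec.map_comp, hφ]
    exact CategoryTheory.Category.assoc _ _ _
  have hfin' : IsFinite (j ≫ f) := by
    rw [hjf, IsFinite.SpecMap_iff]
    exact RingHom.finite_algebraMap.2 hfin
  haveI : Etale (j ≫ f) := inferInstance
  have hsurj : Surjective (j ≫ f) := by
    have hopen : IsOpen (Set.range (j ≫ f)) := (j ≫ f).isOpenMap.isOpen_range
    obtain ⟨q', hq'⟩ : q ∈ Set.range (Spec.map π) := by
      have hr := PrimeSpectrum.localization_away_comap_range (Γ(T, U) ⧸ Ideal.span ({1 - e} : Set Γ(T, U))) e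
      exact hr.ge heq
    have hc : IsLocalRing.closedPoint A ∈ Set.range (j ≫ f) :=
      ⟨q', by rw [Scheme.Hom.comp_apply, Scheme.Hom.comp_apply, hq', hq, hx]⟩
    refine ⟨fun y => ?_⟩
    have hs : y ⤳ IsLocalRing.closedPoint A :=
      (PrimeSpectrum.le_iff_specializes y _).1 (IsLocalRing.le_maximalIdeal y.isPrime.ne_top)
    exact hs.mem_open hopen hc
  refine ⟨j.opensRange, ?_, ?_⟩
  · rw [← Scheme.Hom.isoOpensRange_inv_comp j, CategoryTheory.Category.assoc]
    infer_instance
  · rw [← Scheme.Hom.isoOpensRange_inv_comp j, CategoryTheory.Category.assoc]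
    infer_instance

end Groth.Agent.S18026
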