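import Groth.Statements.S18027
import Groth.Agent.GrpSch.Neutral
import Groth.Agent.GrpSch.Dim
import Mathlib.AlgebraicGeometry.Noetherian
import Mathlib.RingTheory.Ideal.KrullsHeightTheorem

set_option autoImplicit false
universe u
open CategoryTheory MonoidalCategory CartesianMonoidalCategory MonObj GrpObj AlgebraicGeometry CategoryTheory.Limits
open AlgGrp

namespace Groth.Agent.S18027

/-- Let `k` be a field and `u : G ⟶ H` a homomorphism of smooth `k`-group schemes which is a closed
immersion, where `G` and `H` have the same dimension. Then `u` carries the connected component of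
the identity of `G` onto the connected component of the identity of `H`; as `u` is a closed
immersion and `H` is reduced, `u` therefore restricts to an isomorphism between the identity
components. (The second printed assertion, on the groups of components, is not included.) -/
theorem result (k : Type u) [Field k]
    (G H : Over (Spec (CommRingCat.of k))) [GrpObj G] [GrpObj H]
    [Smooth G.hom] [Smooth H.hom] (u : G ⟶ H) [IsMonHom u] [IsClosedImmersion u.left]
    (hdim : topologicalKrullDim ↥G.left = topologicalKrullDim ↥H.left)
    (t : ↥((𝟙_ (Over (Spec (CommRingCat.of k)))).left)) :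
    ⇑u.left.base '' connectedComponent (η[G].left.base t) = connectedComponent (η[H].left.base t) := by
  obtain rfl : t = IsLocalRing.closedPoint k := Subsingleton.elim (α := PrimeSpectrum k) _ _
  set eG := η[G].left.base (IsLocalRing.closedPoint k)
  set eH := η[H].left.base (IsLocalRing.closedPoint k)
  rw [Groth.Agent.GrpSch.connectedComponent_eq, Groth.Agent.GrpSch.connectedComponent_eq]
  have he : u.left eG = eH := by
    change (η[G] ≫ u).left (IsLocalRing.closedPoint k) = _
    rw [IsMonHom.one_hom]
  have himg : IsIrreducible (u.left '' irreducibleComponent eG) :=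
    isIrreducible_irreducibleComponent.image _ u.left.continuous.continuousOn
  have hsub : u.left '' irreducibleComponent eG ⊆ irreducibleComponent eH :=
    Groth.Agent.GrpSch.subset_component H himg ⟨eG, mem_irreducibleComponent, he⟩
  refine Set.Subset.antisymm hsub ?_
  by_contra hne
  have hcl : IsClosed (u.left '' irreducibleComponent eG) :=
    u.left.isClosedEmbedding.isClosedMap _ isClosed_irreducibleComponent
  have hξG := (irreducibleComponent_mem_irreducibleComponents eG).1.isGenericPoint_genericPoint
    isClosed_irreducibleComponent
  have hξH := (irreducibleComponent_mem_irreducibleComponents eH).1.isGenericPoint_genericPoint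
    isClosed_irreducibleComponent
  set ξG := (irreducibleComponent_mem_irreducibleComponents eG).1.genericPoint
  set ξH := (irreducibleComponent_mem_irreducibleComponents eH).1.genericPoint
  have hmono : StrictMono (fun z : G.left => u.left z) := fun a b hab => by
    have hba : b ⤳ a := hab.le
    refine lt_of_le_not_ge (hba.map u.left.continuous) fun h => hab.not_ge ?_
    exact u.left.isClosedEmbedding.isInducing.specializes_iff.1 h
  have hcG : IsClosed ({eG} : Set G.left) := by
    have := isClosedImmersion_of_comp_eq_id G.hom η[G].left (Over.w η[G])
    convert η[G].left.isClosedEmbedding.isClosed_range using 1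
    ext y
    constructor
    · rintro rfl; exact ⟨_, rfl⟩
    · rintro ⟨p, rfl⟩
      exact congrArg η[G].left (Subsingleton.elim (α := PrimeSpectrum k) p (IsLocalRing.closedPoint k))
  have hcH : IsClosed ({eH} : Set H.left) := by
    rw [← he]
    convert u.left.isClosedEmbedding.isClosedMap _ hcG using 1
    simp
  have hfin : Order.coheight eG ≠ ⊤ := by
    have : IsLocallyNoetherian G.left := LocallyOfFiniteType.isLocallyNoetherian G.hom
    have h1 := ringKrullDim_le_spanFinrank_maximalIdeal (G.left.presheaf.stalk eG)
    rw [AlgebraicGeometry.ringKrullDim_stalk_eq_coheight] at h1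
    have h2 := WithBot.coe_le_coe.1 h1
    exact ne_top_of_le_ne_top (ENat.natCast_ne_top _) h2
  obtain ⟨d, hd⟩ := ENat.ne_top_iff_exists.1 hfin
  obtain ⟨p, hp, hlen⟩ := Order.exists_series_of_le_coheight eG hd.le
  -- the series in `H` can be extended by the generic point
  have hlast : u.left p.last < ξH := by
    have hpl : p.last ⤳ eG := by rw [← hp]; exact p.head_le_last
    have hmem : u.left p.last ∈ irreducibleComponent eH := by
      refine hsub ⟨_, ?_, rfl⟩
      obtain ⟨Z, hZ, hle⟩ := exists_mem_irreducibleComponents_subset_of_isIrreducible _
        (isIrreducible_singleton (x := p.last)).closure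
      have := Groth.Agent.GrpSch.eq_of_mem_irreducibleComponents G hZ
        (irreducibleComponent_mem_irreducibleComponents eG) (hle hpl.mem_closure) mem_irreducibleComponent
      exact this ▸ hle (subset_closure rfl)
    refine lt_of_le_not_ge (hξH.specializes hmem) fun h => hne ?_
    have hh : u.left p.last ⤳ ξH := h
    intro y hy
    refine ((hh.trans (hξH.specializes hy)).mem_closed hcl ⟨p.last, ?_, rfl⟩)
    obtain ⟨Z, hZ, hle⟩ := exists_mem_irreducibleComponents_subset_of_isIrreducible _
      (isIrreducible_singleton (x := p.last)).closure
    have := Groth.Agent.GrpSch.eq_of_mem_irreducibleComponents G hZ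
      (irreducibleComponent_mem_irreducibleComponents eG) (hle hpl.mem_closure) mem_irreducibleComponent
    exact this ▸ hle (subset_closure rfl)
  let q := (p.map _ hmono).snoc ξH (by simpa using hlast)
  have hq : (q.length : ℕ∞) ≤ Order.coheight eH := Order.length_le_coheight (by
    simp [q, hp]; exact le_of_eq he.symm)
  have h1 := Groth.Agent.GrpSch.coheight_eq_topologicalKrullDim G hcG
  have h2 := Groth.Agent.GrpSch.coheight_eq_topologicalKrullDim H hcH
  rw [hdim, ← h2, WithBot.coe_inj, ← hd] at h1
  rw [← h1, show q.length = d + 1 by simp [q, hlen]] at hq
  exact absurd (Nat.cast_le.1 hq) (by omega)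

end Groth.Agent.S18027
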