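import Groth.Statements.S18029
import Groth.Agent.GenFree.Scheme
import Groth.Agent.GrpSch.Cat
import Mathlib.AlgebraicGeometry.Morphisms.SchemeTheoreticallyDominant

set_option backward.isDefEq.respectTransparency.types false

set_option autoImplicit false
universe u
open CategoryTheory CategoryTheory.Limits MonoidalCategory CartesianMonoidalCategory MonObj GrpObj AlgebraicGeometry CategoryTheory.Limits
open AlgGrp

namespace Groth.Agent.S18029Aux

open CategoryTheory MonoidalCategory CartesianMonoidalCategory MonObj GrpObj AlgebraicGeometry CategoryTheory.Limits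

variable {S S' : Scheme.{u}} (f : S' ⟶ S) {G : Over S} [GrpObj G]

/-- points of a base change -/
noncomputable def ptHom (T : Over S') : (T ⟶ Red.bc f G) →* ((Over.map f).obj T ⟶ G) :=
  (MonoidHom.inverse
    { toFun := (Over.mapPullbackAdj f).homEquiv T G
      map_one' := by rw [Adjunction.homEquiv_unit]; simp [Functor.map_one, MonObj.comp_one]
      map_mul' := fun a b => by
        rw [Adjunction.homEquiv_unit, Adjunction.homEquiv_unit, Adjunction.homEquiv_unit, Functor.map_mul,
          MonObj.comp_mul] }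
    ((Over.mapPullbackAdj f).homEquiv T G).symm ((Over.mapPullbackAdj f).homEquiv T G).left_inv
    ((Over.mapPullbackAdj f).homEquiv T G).right_inv)

theorem ptHom_left (T : Over S') (a : T ⟶ Red.bc f G) :
    (ptHom f T a).left = a.left ≫ pullback.fst G.hom f := by
  change (((Over.mapPullbackAdj f).homEquiv T G).symm a).left = _
  rw [Adjunction.homEquiv_counit]
  simp [Over.mapPullbackAdj]

/-- a closed immersion which is schematically dominated is an isomorphism -/
theorem isIso_of_std {P T W : Scheme.{u}} (c : P ⟶ T) [IsClosedImmersion c] (w : W ⟶ P) (a : W ⟶ T)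
    (h : w ≫ c = a) [IsSchemeTheoreticallyDominant a] : IsIso c := by
  refine IsClosedImmersion.isIso_iff_ker_eq_bot.2 (le_bot_iff.1 ?_)
  rw [← a.ker_eq_bot, ← h]
  exact Scheme.Hom.le_ker_comp w c

end Groth.Agent.S18029Aux

namespace Groth.Agent.S18029

/-- Closed subgroups of the generic fibre spread out. Let `X` be an integral scheme with generic point
`η : Spec K(X) ⟶ X`, `G` an affine `X`-group scheme locally of finite presentation and `H_η` a
closed subgroup scheme of the generic fibre `G_η = G ×_X Spec K(X)`. Then there are a non-empty open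
`U ⊆ X` (through which `η` factors) and a closed subgroup scheme `H_U` of `G ×_X U` whose generic
fibre is `H_η`: a cartesian square presents `H_η` as `H_U ×_U Spec K(X)`, compatibly with the
embeddings into `G`. -/
theorem result
    (X : Scheme.{u}) [IsIntegral X] (G : Over X) [GrpObj G]
    [IsAffineHom G.hom] [LocallyOfFinitePresentation G.hom]
    (Hη : Over (Spec X.functionField)) [GrpObj Hη]
    (i : Hη ⟶ Red.bc (X.fromSpecStalk (genericPoint X)) G) [IsMonHom i] [IsClosedImmersion i.left] :
    ∃ (U : X.Opens) (ηU : Spec X.functionField ⟶ (U : Scheme.{u})) (HU : Over (U : Scheme.{u}))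
      (_ : GrpObj HU) (j : HU ⟶ Red.bc U.ι G) (φ : Hη.left ⟶ HU.left),
      ηU ≫ U.ι = X.fromSpecStalk (genericPoint X) ∧ IsMonHom j ∧ IsClosedImmersion j.left ∧
      IsPullback φ Hη.hom HU.hom ηU ∧
      φ ≫ j.left ≫ pullback.fst G.hom U.ι = i.left ≫ pullback.fst G.hom (X.fromSpecStalk (genericPoint X)) := by
  classical
  let x := genericPoint X
  let e : Spec X.functionField ⟶ X := X.fromSpecStalk x
  haveI : QuasiCompact G.hom := inferInstance
  obtain ⟨V, hV, hxV⟩ : ∃ V : X.Opens, IsAffineOpen V ∧ x ∈ V := by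
    obtain ⟨V, hV, hxV, -⟩ := TopologicalSpace.Opens.isBasis_iff_nbhd.1 X.isBasis_affineOpens (show x ∈ (⊤ : X.Opens) from trivial)
    exact ⟨V, hV, hxV⟩
  haveI : IsAffine (V : Scheme.{u}) := hV
  have hrange : ∀ (O : X.Opens), x ∈ O → Set.range e ⊆ Set.range O.ι := fun O hO => by
    rw [Scheme.Opens.range_ι, X.range_fromSpecStalk]
    exact fun y hy => hy.mem_open O.2 hO
  let eV : Spec X.functionField ⟶ V := IsOpenImmersion.lift V.ι e (hrange V hxV)
  have heV : eV ≫ V.ι = e := IsOpenImmersion.lift_fac _ _ _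
  haveI : Mono e := inferInstanceAs (Mono (X.fromSpecStalk x))
  haveI : Flat e := by
    have : Flat (hV.fromSpecStalk hxV) := by
      unfold IsAffineOpen.fromSpecStalk
      haveI : IsAffine (V : Scheme.{u}) := hV
      haveI : Flat (Spec.map (X.presheaf.germ V x hxV)) := by
        refine (HasRingHomProperty.Spec_iff (P := @Flat)).2 ?_
        algebraize [(X.presheaf.germ V x hxV).hom]
        haveI := hV.isLocalization_stalk ⟨x, hxV⟩
        exact IsLocalization.flat _ (hV.primeIdealOf ⟨x, hxV⟩).asIdeal.primeCompl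
      infer_instance
    rwa [hV.fromSpecStalk_eq_fromSpecStalk] at this
  have hsqV : IsPullback (𝟙 (Spec X.functionField)) eV e V.ι := by
    refine ⟨⟨by rw [Category.id_comp, heV]⟩, ⟨PullbackCone.IsLimit.mk _ (fun t => t.fst)
      (fun t => Category.comp_id _) (fun t => ?_) (fun t m h1 _ => (Category.comp_id m).symm.trans h1)⟩⟩
    rw [← cancel_mono V.ι, Category.assoc, heV, t.condition]
  haveI : Flat eV := MorphismProperty.of_isPullback hsqV ‹Flat e›
  haveI : Mono eV := mono_of_mono_fac heV
  haveI : QuasiCompact eV := inferInstance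
  -- the closure of the subgroup over `V`
  let GV : Scheme.{u} := pullback G.hom V.ι
  haveI : IsAffine GV := isAffine_of_isAffineHom (pullback.snd G.hom V.ι)
  have hqη : IsPullback (pullback.lift (pullback.fst G.hom e) (pullback.snd G.hom e ≫ eV)
      (by rw [Category.assoc, heV, pullback.condition]) : pullback G.hom e ⟶ GV)
      (pullback.snd G.hom e) (pullback.snd G.hom V.ι) eV := by
    refine IsPullback.of_right ?_ (pullback.lift_snd _ _ _) (IsPullback.of_hasPullback G.hom V.ι)
    rw [pullback.lift_fst, heV]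
    exact IsPullback.of_hasPullback G.hom e
  obtain ⟨qη, hqηdef⟩ : ∃ q : pullback G.hom e ⟶ GV, q = pullback.lift (pullback.fst G.hom e)
      (pullback.snd G.hom e ≫ eV) (by rw [Category.assoc, heV, pullback.condition]) := ⟨_, rfl⟩
  rw [← hqηdef] at hqη
  haveI : Mono qη := MorphismProperty.of_isPullback (P := MorphismProperty.monomorphisms _) hqη.flip ‹Mono eV›
  haveI : Flat qη := MorphismProperty.of_isPullback hqη.flip ‹Flat eV›
  let il : Hη.left ⟶ pullback G.hom e := i.left
  haveI : IsClosedImmersion il := ‹IsClosedImmersion i.left›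
  let c : Hη.left ⟶ GV := il ≫ qη
  haveI : QuasiCompact qη := MorphismProperty.of_isPullback hqη.flip ‹QuasiCompact eV›
  haveI : QuasiCompact c := inferInstance
  let zV : c.image ⟶ V := c.imageι ≫ pullback.snd G.hom V.ι
  haveI : LocallyOfFiniteType zV := inferInstance
  haveI : QuasiCompact zV := inferInstance
  obtain ⟨U₀, hU₀, hflat, -⟩ := GenFree.exists_dense_flat zV
  let U : X.Opens := V.ι ''ᵁ U₀
  have hUV : U ≤ V := V.ι_image_le U₀
  let w : (U : Scheme.{u}) ⟶ V := X.homOfLE hUV
  have hw : w ≫ V.ι = U.ι := X.homOfLE_ι hUV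
  have hxU : x ∈ U := by
    refine ((genericPoint_spec X).mem_open_set_iff U.2).2 ?_
    rw [Set.univ_inter]
    obtain ⟨v, hv⟩ := hU₀.nonempty_iff.2 ⟨⟨x, hxV⟩⟩
    exact ⟨V.ι v, v, hv, rfl⟩
  let ηU : Spec X.functionField ⟶ U := IsOpenImmersion.lift U.ι e (hrange U hxU)
  have hηU : ηU ≫ U.ι = e := IsOpenImmersion.lift_fac _ _ _
  have hηw : ηU ≫ w = eV := by rw [← cancel_mono V.ι, Category.assoc, hw, hηU, heV]
  haveI : IsIntegral (U : Scheme.{u}) := @isIntegral_of_isOpenImmersion _ _ U.ι _ _ ⟨⟨x, hxU⟩⟩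
  haveI : QuasiCompact ηU := by
    haveI : QuasiSeparatedSpace (U : Scheme.{u}) :=
      w.isOpenEmbedding.quasiSeparatedSpace
    exact quasiCompact_of_compactSpace ηU
  haveI : IsSchemeTheoreticallyDominant ηU := by
    haveI : IsDominant ηU := ⟨by
      intro y
      have hy : genericPoint X ⤳ U.ι y := genericPoint_specializes _
      have hc : ηU (IsLocalRing.closedPoint X.functionField) = ⟨x, hxU⟩ := by
        apply U.ι.isOpenEmbedding.injective
        rw [← Scheme.Hom.comp_apply, hηU]
        exact X.fromSpecStalk_closedPoint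
      have : (⟨x, hxU⟩ : U) ⤳ y := U.ι.isOpenEmbedding.isInducing.specializes_iff.1 hy
      rw [← hc] at this
      exact closure_mono (Set.singleton_subset_iff.2 (Set.mem_range_self _)) this.mem_closure⟩
    exact IsSchemeTheoreticallyDominant.of_isDominant ηU
  -- the subgroup over `U`
  let zU : pullback zV w ⟶ U := pullback.snd zV w
  haveI : Flat zU := by
    let r : (U : Scheme.{u}) ⟶ U₀ := IsOpenImmersion.lift U₀.ι w (by
      rintro _ ⟨y, rfl⟩
      rw [Scheme.Opens.range_ι]
      obtain ⟨v, hv, hvy⟩ := (y : U).2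
      have : w y = v := V.ι.isOpenEmbedding.injective (by rw [← Scheme.Hom.comp_apply, hw]; exact hvy.symm)
      rw [this]; exact hv)
    have hr : r ≫ U₀.ι = w := IsOpenImmersion.lift_fac _ _ _
    have big : IsPullback (pullback.snd zV w) (pullback.fst zV w) (r ≫ U₀.ι) zV := by
      rw [hr]; exact (IsPullback.of_hasPullback zV w).flip
    have hbot := (isPullback_morphismRestrict zV U₀)
    let l : pullback zV w ⟶ (zV ⁻¹ᵁ U₀ : Scheme.{u}) := hbot.lift (pullback.snd zV w ≫ r) (pullback.fst zV w)
      (by rw [Category.assoc, hr, pullback.condition])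
    have hsq : IsPullback (pullback.snd zV w) l r (zV ∣_ U₀) := by
      refine IsPullback.of_bot ?_ (hbot.lift_fst _ _ _).symm hbot
      rw [hbot.lift_snd]
      exact big
    exact MorphismProperty.of_isPullback hsq.flip hflat
  let HU : Over (U : Scheme.{u}) := Over.mk zU
  let q : pullback G.hom U.ι ⟶ GV := pullback.lift (pullback.fst G.hom U.ι) (pullback.snd G.hom U.ι ≫ w)
    (by rw [Category.assoc, hw, pullback.condition])
  have hq : IsPullback q (pullback.snd G.hom U.ι) (pullback.snd G.hom V.ι) w := by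
    refine IsPullback.of_right ?_ (pullback.lift_snd _ _ _) (IsPullback.of_hasPullback G.hom V.ι)
    rw [pullback.lift_fst, hw]
    exact IsPullback.of_hasPullback G.hom U.ι
  let jl : pullback zV w ⟶ pullback G.hom U.ι := hq.lift (pullback.fst zV w ≫ c.imageι) (pullback.snd zV w)
    (by rw [Category.assoc]; exact pullback.condition)
  have hjq : jl ≫ q = pullback.fst zV w ≫ c.imageι := hq.lift_fst _ _ _
  have hjs : jl ≫ pullback.snd G.hom U.ι = pullback.snd zV w := hq.lift_snd _ _ _
  haveI : IsClosedImmersion jl := by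
    have : IsPullback (pullback.fst zV w) jl c.imageι q := by
      refine IsPullback.of_bot ?_ hjq.symm hq
      rw [hjs]
      exact IsPullback.of_hasPullback zV w
    exact MorphismProperty.of_isPullback this inferInstance
  let j : HU ⟶ Red.bc U.ι G := Over.homMk jl hjs
  haveI : IsClosedImmersion j.left := ‹IsClosedImmersion jl›
  haveI : Mono j := Over.mono_of_mono_left j
  have hcw : (c.toImage) ≫ zV = (Hη.hom ≫ ηU) ≫ w := by
    rw [Category.assoc, hηw, ← Category.assoc c.toImage, c.toImage_imageι]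
    change (il ≫ qη) ≫ _ = _
    rw [Category.assoc, hqη.w, ← Category.assoc, ← Over.w i]
    rfl
  let φ : Hη.left ⟶ HU.left := pullback.lift c.toImage (Hη.hom ≫ ηU) hcw
  have hφ : φ ≫ j.left ≫ pullback.fst G.hom U.ι = i.left ≫ pullback.fst G.hom e := by
    have : φ ≫ jl ≫ q = il ≫ qη := by
      rw [hjq, pullback.lift_fst_assoc, c.toImage_imageι]
    have h2 := congrArg (fun m => m ≫ pullback.fst G.hom V.ι) this
    simp only [Category.assoc, q, hqηdef, pullback.lift_fst] at h2
    exact h2
  have hgen : IsPullback φ Hη.hom HU.hom ηU := by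
    let p : pullback c.imageι qη ⟶ c.image := pullback.fst _ _
    let s : pullback c.imageι qη ⟶ pullback G.hom e := pullback.snd _ _
    let l : Hη.left ⟶ pullback c.imageι qη := pullback.lift c.toImage il c.toImage_imageι
    have hls : l ≫ s = il := pullback.lift_snd _ _ _
    haveI : IsClosedImmersion s := MorphismProperty.pullback_snd _ _ inferInstance
    haveI : IsClosedImmersion (l ≫ s) := by rw [hls]; infer_instance
    haveI : IsClosedImmersion l := IsClosedImmersion.of_comp l s
    haveI : Flat p := MorphismProperty.pullback_fst _ _ ‹Flat qη›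
    haveI : Mono p := inferInstanceAs (Mono (pullback.fst _ _))
    have hlp : l ≫ p = c.toImage := pullback.lift_fst _ _ _
    have hP : IsPullback l (𝟙 _) p c.toImage := by
      refine ⟨⟨by rw [hlp, Category.id_comp]⟩, ⟨PullbackCone.IsLimit.mk _ (fun t => t.snd)
        (fun t => ?_) (fun t => Category.comp_id _) (fun t m _ h2 => (Category.comp_id m).symm.trans h2)⟩⟩
      rw [← cancel_mono p, Category.assoc, hlp, t.condition]
    haveI : IsAffine c.image := isAffine_of_isAffineHom c.imageι
    haveI : IsSchemeTheoreticallyDominant c.toImage := ⟨Scheme.IdealSheafData.ext_of_isAffine (by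
      rw [Scheme.Hom.ker_apply, Scheme.IdealSheafData.ideal_bot]
      exact (RingHom.injective_iff_ker_eq_bot _).1 (c.toImage_app_injective ⟨⊤, isAffineOpen_top GV⟩))⟩
    haveI : QuasiCompact c.toImage := inferInstance
    haveI : IsSchemeTheoreticallyDominant l := IsSchemeTheoreticallyDominant.of_isPullback hP.flip
    haveI : IsIso l := S18029Aux.isIso_of_std l (𝟙 _) l (Category.id_comp _)
    have h1 : IsPullback c.toImage Hη.hom zV eV := by
      have h0 := (IsPullback.of_hasPullback c.imageι qη).paste_vert hqη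
      refine h0.of_iso (asIso l).symm (Iso.refl _) (Iso.refl _) (Iso.refl _) ?_ ?_ (by simp [zV]) (by simp)
      · simp only [Iso.symm_hom, asIso_inv, Iso.refl_hom, Category.comp_id]
        rw [IsIso.eq_inv_comp]
        exact hlp
      · simp only [Iso.symm_hom, asIso_inv, Iso.refl_hom, Category.comp_id]
        rw [IsIso.eq_inv_comp, ← Category.assoc, show l ≫ pullback.snd c.imageι qη = il from hls]
        exact Over.w i
    refine IsPullback.of_right ?_ (pullback.lift_snd _ _ _) (IsPullback.of_hasPullback zV w)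
    rw [pullback.lift_fst, hηw]
    exact h1
  -- generic points
  let Tη : Over (U : Scheme.{u}) → Over (Spec X.functionField) := fun T => Over.mk (pullback.snd T.hom ηU)
  let ι' : ∀ T : Over (U : Scheme.{u}), (Over.map e).obj (Tη T) ⟶ (Over.map U.ι).obj T := fun T =>
    Over.homMk (pullback.fst T.hom ηU) (by
      change pullback.fst T.hom ηU ≫ T.hom ≫ U.ι = pullback.snd T.hom ηU ≫ e
      rw [pullback.condition_assoc, hηU])
  let Ψ : ∀ T : Over (U : Scheme.{u}), (T ⟶ Red.bc U.ι G) → ((Over.map e).obj (Tη T) ⟶ G) := fun T f =>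
    ι' T ≫ S18029Aux.ptHom U.ι T f
  let Good : ∀ T : Over (U : Scheme.{u}), (T ⟶ Red.bc U.ι G) → Prop := fun T f =>
    ∃ z : Tη T ⟶ Hη, S18029Aux.ptHom e (Tη T) (z ≫ i) = Ψ T f
  have hfac : ∀ (T : Over (U : Scheme.{u})) [Flat T.hom] (f : T ⟶ Red.bc U.ι G), Good T f → ∃ z, z ≫ j = f := by
    intro T _ f hf
    obtain ⟨z, hz⟩ := hf
    have h1 : pullback.fst T.hom ηU ≫ f.left = (z.left ≫ φ) ≫ j.left := by
      apply pullback.hom_ext
      · have h := congrArg (·.left) hz
        simp only [Ψ, Over.comp_left, S18029Aux.ptHom_left] at h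
        rw [Category.assoc, Category.assoc, Category.assoc, hφ, ← Category.assoc z.left]
        exact h.symm
      · rw [Category.assoc, Category.assoc, Category.assoc]
        change _ ≫ f.left ≫ (Red.bc U.ι G).hom = z.left ≫ φ ≫ j.left ≫ (Red.bc U.ι G).hom
        rw [Over.w f, Over.w j, hgen.w, ← Category.assoc z.left]
        change _ = (z.left ≫ Hη.hom) ≫ ηU
        rw [Over.w z]
        exact pullback.condition
    haveI : IsClosedImmersion (pullback.fst f.left j.left) := MorphismProperty.pullback_fst _ _ inferInstance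
    haveI : IsIso (pullback.fst f.left j.left) := S18029Aux.isIso_of_std _
      (pullback.lift (pullback.fst T.hom ηU) (z.left ≫ φ) h1) _ (pullback.lift_fst _ _ _)
    refine ⟨Over.homMk (inv (pullback.fst f.left j.left) ≫ pullback.snd f.left j.left) ?_, Over.OverMorphism.ext ?_⟩
    · rw [← Over.w j, Category.assoc, ← pullback.condition_assoc, IsIso.inv_hom_id_assoc, Over.w f]
    · change (inv (pullback.fst f.left j.left) ≫ pullback.snd f.left j.left) ≫ j.left = f.left
      rw [Category.assoc, ← pullback.condition, IsIso.inv_hom_id_assoc]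
  have hgood : ∀ {T : Over (U : Scheme.{u})} (g : T ⟶ HU), Good T (g ≫ j) := fun {T} g => by
    refine ⟨Over.homMk (hgen.lift (pullback.fst T.hom ηU ≫ g.left) (pullback.snd T.hom ηU)
      (by rw [Category.assoc, Over.w g]; exact pullback.condition)) (hgen.lift_snd _ _ _), Over.OverMorphism.ext ?_⟩
    simp only [Ψ, Over.comp_left, S18029Aux.ptHom_left, Category.assoc]
    rw [← hφ]
    exact (Category.assoc _ _ _).symm.trans ((congrArg (· ≫ j.left ≫ pullback.fst G.hom U.ι) (hgen.lift_fst _ _ _)).trans (Category.assoc _ _ _))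
  obtain ⟨eH, heH⟩ := @hfac (𝟙_ _) (inferInstanceAs (Flat (𝟙 _))) η[Red.bc U.ι G] ⟨1, by
    rw [MonObj.one_comp, map_one]
    change 1 = ι' _ ≫ S18029Aux.ptHom U.ι _ _
    rw [← Category.id_comp η[Red.bc U.ι G], ← toUnit_unique (toUnit (𝟙_ _)) (𝟙 _), ← Hom.one_def, map_one,
      MonObj.comp_one]⟩
  haveI : Flat (HU ⊗ HU).hom := MorphismProperty.comp_mem (W := @Flat) (pullback.fst zU zU) zU
    (MorphismProperty.pullback_fst _ _ ‹Flat zU›) ‹Flat zU›
  obtain ⟨mH, hmH⟩ := hfac (HU ⊗ HU) ((fst HU HU ≫ j) * (snd HU HU ≫ j)) (by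
    obtain ⟨z₁, hz₁⟩ := hgood (fst HU HU)
    obtain ⟨z₂, hz₂⟩ := hgood (snd HU HU)
    refine ⟨z₁ * z₂, ?_⟩
    simp only [Ψ] at hz₁ hz₂ ⊢
    rw [MonObj.mul_comp, map_mul, map_mul, MonObj.comp_mul, hz₁, hz₂])
  haveI : Flat HU.hom := ‹Flat zU›
  obtain ⟨nH, hnH⟩ := hfac HU j⁻¹ (by
    obtain ⟨z₁, hz₁⟩ := hgood (𝟙 HU)
    refine ⟨z₁⁻¹, ?_⟩
    simp only [Ψ, Category.id_comp] at hz₁ ⊢
    rw [GrpObj.inv_comp, map_inv, map_inv, GrpObj.comp_inv, hz₁])
  letI : GrpObj HU := GrpSch.grpObjOfMono j eH heH mH hmH nH hnH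
  have hmon : IsMonHom j := ⟨heH, by
    change mH ≫ j = _
    rw [hmH, Hom.mul_def]
    simp⟩
  exact ⟨U, ηU, HU, inferInstance, j, φ, hηU, hmon, inferInstance, hgen, hφ⟩

end Groth.Agent.S18029
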