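import Groth.Statements.S1803
import Groth.Agent.FlatOverBC.GorAlg
import Groth.Agent.FlatOverBC.CMScheme

set_option autoImplicit false
universe u
open scoped TensorProduct
open Goren

namespace Groth.Agent.S1803

/-- Let k'/k be any field extension, C a k-algebra of finite type, q a prime of C ⊗_k k' and p its
contraction to C. Then C_p is Gorenstein if and only if (C ⊗_k k')_q is Gorenstein. -/
theorem result (k k' : Type u) [Field k] [Field k'] [Algebra k k'] (C : Type u) [CommRing C] [Algebra k C] [Algebra.FiniteType k C] (q : PrimeSpectrum (C ⊗[k] k')) : LocCoh.IsGorensteinLocalRing (Localization.AtPrime (q.asIdeal.comap (algebraMap C (C ⊗[k] k')))) ↔ LocCoh.IsGorensteinLocalRing (Localization.AtPrime q.asIdeal) := by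
  let p := q.asIdeal.comap (algebraMap C (C ⊗[k] k'))
  let A := Localization.AtPrime p
  let Q := Localization.AtPrime q.asIdeal
  have : IsNoetherianRing C := Algebra.FiniteType.isNoetherianRing k C
  have hFT : Algebra.FiniteType k' (k' ⊗[k] C) := inferInstance
  have : IsNoetherianRing (k' ⊗[k] C) := Algebra.FiniteType.isNoetherianRing k' _
  have : IsNoetherianRing (C ⊗[k] k') :=
    isNoetherianRing_of_ringEquiv (k' ⊗[k] C) (Algebra.TensorProduct.comm k k' C).toRingEquiv
  have : IsNoetherianRing A := IsLocalization.isNoetherianRing p.primeCompl A inferInstance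
  have : IsNoetherianRing Q := IsLocalization.isNoetherianRing q.asIdeal.primeCompl Q inferInstance
  let fA : A →+* Q := Localization.localRingHom p q.asIdeal (algebraMap C (C ⊗[k] k')) rfl
  let fB : k' →+* Q := (algebraMap (C ⊗[k] k') Q).comp
    (Algebra.TensorProduct.includeRight : k' →ₐ[k] C ⊗[k] k').toRingHom
  have hu : IsLocalHom fB := ⟨fun b hb => isUnit_iff_ne_zero.mpr fun h => by
    subst h
    exact not_isUnit_zero (map_zero fB ▸ hb)⟩
  have : IsLocalHom (algebraMap k A) := ⟨fun b hb => isUnit_iff_ne_zero.mpr fun h => by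
    subst h
    exact not_isUnit_zero (map_zero (algebraMap k A) ▸ hb)⟩
  have : IsLocalHom (algebraMap k k') := ⟨fun b hb => isUnit_iff_ne_zero.mpr fun h => by
    subst h
    exact not_isUnit_zero (map_zero (algebraMap k k') ▸ hb)⟩
  have hgA : ∀ r : k, fA (algebraMap k A r) = algebraMap k Q r := by
    intro r
    rw [IsScalarTower.algebraMap_apply k C A, Localization.localRingHom_to_map,
      ← IsScalarTower.algebraMap_apply k C (C ⊗[k] k'), ← IsScalarTower.algebraMap_apply]
  let gA : A →ₐ[k] Q := { fA with commutes' := hgA }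
  let ψ : A ⊗[k] k' →ₐ[k] Q := Algebra.TensorProduct.lift gA
    ((IsScalarTower.toAlgHom k (C ⊗[k] k') Q).comp Algebra.TensorProduct.includeRight)
    fun _ _ => Commute.all _ _
  let ι : C ⊗[k] k' →ₐ[k] A ⊗[k] k' :=
    Algebra.TensorProduct.map (IsScalarTower.toAlgHom k C A) (AlgHom.id k k')
  have hcomp : ψ.comp ι = IsScalarTower.toAlgHom k (C ⊗[k] k') Q := by
    refine Algebra.TensorProduct.ext (AlgHom.ext fun c => ?_) (AlgHom.ext fun b => ?_)
    · change fA (algebraMap C A c) * algebraMap (C ⊗[k] k') Q ((1 : C) ⊗ₜ[k] (1 : k')) = _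
      rw [Localization.localRingHom_to_map, ← Algebra.TensorProduct.one_def, map_one, mul_one]
      rfl
    · change fA (algebraMap C A 1) * algebraMap (C ⊗[k] k') Q ((1 : C) ⊗ₜ[k] b) = _
      rw [map_one, map_one, one_mul]
      rfl
  letI := ι.toRingHom.toAlgebra
  letI := ψ.toRingHom.toAlgebra
  have : IsScalarTower C (C ⊗[k] k') (A ⊗[k] k') := IsScalarTower.of_algebraMap_eq fun c => by
    change algebraMap C A c ⊗ₜ[k] (1 : k') = ι (c ⊗ₜ[k] (1 : k'))
    exact (Algebra.TensorProduct.map_tmul (IsScalarTower.toAlgHom k C A) (AlgHom.id k k') c 1).symm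
  have : IsLocalization (Algebra.algebraMapSubmonoid (C ⊗[k] k') p.primeCompl) (A ⊗[k] k') := by
    rw [Algebra.isLocalization_iff_isPushout _ A]
    refine Algebra.IsPushout.symm (Algebra.IsPushout.tensorProduct_tensorProduct k k' C A ?_)
    exact (by
      refine RingHom.ext fun b => ?_
      exact (Algebra.TensorProduct.map_tmul (IsScalarTower.toAlgHom k C A) (AlgHom.id k k') 1 b).trans
        (by simp))
  have : IsScalarTower (C ⊗[k] k') (A ⊗[k] k') Q :=
    IsScalarTower.of_algebraMap_eq fun t => (DFunLike.congr_fun hcomp t).symm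
  have hψ : ψ.toRingHom.Flat :=
    (Module.flat_iff_of_isLocalization (A ⊗[k] k')
      (Algebra.algebraMapSubmonoid (C ⊗[k] k') p.primeCompl) Q).mpr inferInstance
  have hψs : ψ.toRingHom.SurjectiveOnStalks := by
    refine RingHom.SurjectiveOnStalks.of_comp (f := ι.toRingHom) ?_
    rw [show ψ.toRingHom.comp ι.toRingHom = algebraMap (C ⊗[k] k') Q from
      congrArg AlgHom.toRingHom hcomp]
    exact RingHom.surjectiveOnStalks_of_isLocalization q.asIdeal.primeCompl Q
  have hm : (IsLocalRing.maximalIdeal k).map (algebraMap k A) = ⊥ := by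
    rw [(IsLocalRing.isField_iff_maximalIdeal_eq).mp (Field.toIsField k), Ideal.map_bot]
  have hmB : (IsLocalRing.maximalIdeal k').map fB = ⊥ := by
    rw [(IsLocalRing.isField_iff_maximalIdeal_eq).mp (Field.toIsField k'), Ideal.map_bot]
  have key := Groth.Agent.FlatOverBC.isGorensteinLocalRing_fibre_iff ψ.toRingHom hψ hψs fA fB
    (fun a => by
      change fA a * algebraMap (C ⊗[k] k') Q ((1 : C) ⊗ₜ[k] (1 : k')) = _
      rw [← Algebra.TensorProduct.one_def, map_one, mul_one])
    (fun b => by
      change fA 1 * algebraMap (C ⊗[k] k') Q ((1 : C) ⊗ₜ[k] b) = _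
      rw [map_one, one_mul]
      rfl)
    inferInstance inferInstance
    (Or.inl (by
      have : Algebra.EssFiniteType k A :=
        Algebra.EssFiniteType.comp k C A
      exact Groth.Agent.FlatOverBC.essFiniteType_residueField k A))
  exact ⟨fun h => Groth.Agent.GorenSG.gorenstein_of_ringEquiv
      ((RingEquiv.quotientBot Q).symm.trans (Ideal.quotEquivOfEq hmB.symm))
      (key.mpr (Groth.Agent.GorenSG.gorenstein_of_ringEquiv
        ((Ideal.quotEquivOfEq hm).trans (RingEquiv.quotientBot A)) h)),
    fun h => Groth.Agent.GorenSG.gorenstein_of_ringEquiv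
      ((RingEquiv.quotientBot A).symm.trans (Ideal.quotEquivOfEq hm.symm))
      (key.mp (Groth.Agent.GorenSG.gorenstein_of_ringEquiv
        ((Ideal.quotEquivOfEq hmB).trans (RingEquiv.quotientBot Q)) h))⟩

end Groth.Agent.S1803
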