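import Groth.Statements.S18040
import Mathlib.GroupTheory.CosetCover
-- import your own Groth.Agent.* helpers here

set_option autoImplicit false
universe u
open AdjLin

namespace Groth.Agent.S18040

/-- Let k be an algebraically closed field of characteristic zero and Z a finite set of points of
projective 3-space over k, realised as points of the projectivization of k⁴, a homogeneous form in
four variables being evaluated at the chosen representative of a point (its vanishing does not
depend on the choice). Suppose Z has the Cayley–Bacharach property in degree n: every form of degree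
n vanishing at all points of Z but one vanishes at that point as well. Then for every m ≤ n, either
there is a nonzero form of degree n − m vanishing at every point of Z, or the rank of the evaluation
map from forms of degree m to functions on Z is at most the number of points of Z minus the
dimension of the space of forms of degree n − m. -/
theorem result (k : Type u) [Field k] [IsAlgClosed k] [CharZero k]
    (Z : Finset (Projectivization k (Fin 4 → k))) (n : ℕ)
    (hCB : (∀ z ∈ Z, ∀ p : MvPolynomial (Fin 4) k, p.IsHomogeneous n →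
      (∀ z' ∈ Z, z' ≠ z → MvPolynomial.eval z'.rep p = 0) → MvPolynomial.eval z.rep p = 0))
    (m : ℕ) (hm : m ≤ n) :
    (∃ s : MvPolynomial (Fin 4) k, s.IsHomogeneous (n - m) ∧ s ≠ 0 ∧ ∀ z ∈ Z, MvPolynomial.eval z.rep s = 0) ∨
      Module.finrank k (LinearMap.range
          ((LinearMap.pi fun z : ↥Z => (MvPolynomial.aeval (R := k) z.1.rep).toLinearMap) ∘ₗ
            (MvPolynomial.homogeneousSubmodule (Fin 4) k m).subtype)) +
        Module.finrank k ↥(MvPolynomial.homogeneousSubmodule (Fin 4) k (n - m)) ≤ Z.card := by
  classical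
  by_cases hex : ∃ s : MvPolynomial (Fin 4) k, s.IsHomogeneous (n - m) ∧ s ≠ 0 ∧ ∀ z ∈ Z, MvPolynomial.eval z.rep s = 0
  · exact Or.inl hex
  refine Or.inr ?_
  let ev : MvPolynomial (Fin 4) k →ₗ[k] (↥Z → k) :=
    LinearMap.pi fun z : ↥Z => (MvPolynomial.aeval (R := k) z.1.rep).toLinearMap
  have hev : ∀ p z, ev p z = MvPolynomial.eval z.1.rep p := fun p z => by
    simp [ev, MvPolynomial.aeval_def, MvPolynomial.eval₂_id]
  let E : ℕ → Submodule k (↥Z → k) := fun d => (MvPolynomial.homogeneousSubmodule (Fin 4) k d).map ev
  let Φ := (E n).dualAnnihilator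
  let single : ↥Z → (↥Z → k) := fun z => Pi.single z 1
  have hne : ∀ z : ↥Z, ∃ φ : Φ, φ.1 (single z) ≠ 0 := fun z => by
    have hz : single z ∉ E n := by
      rintro ⟨p, hp, hpz⟩
      have h0 := hCB z.1 z.2 p hp fun z' hz' hne' => by
        have := congrFun hpz ⟨z', hz'⟩
        rw [hev] at this
        rw [this]
        simp [single, Subtype.ext_iff, hne']
      have h1 := congrFun hpz z
      rw [hev, h0] at h1
      simp [single] at h1
    obtain ⟨φ, hφ1, hφ2⟩ := Submodule.exists_dual_map_eq_bot_of_notMem hz inferInstance
    exact ⟨⟨φ, (Submodule.mem_dualAnnihilator φ).2 fun w hw => by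
      have := Submodule.mem_map_of_mem (f := φ) hw
      rwa [hφ2, Submodule.mem_bot] at this⟩, hφ1⟩
  let bad : ↥Z → Subspace k Φ := fun z => LinearMap.ker ((LinearMap.applyₗ (single z)).comp Φ.subtype)
  obtain ⟨φ, hφ⟩ : ∃ φ : Φ, ∀ z : ↥Z, φ.1 (single z) ≠ 0 := by
    by_contra hall
    push Not at hall
    obtain ⟨z, hz⟩ := Subspace.exists_eq_top_of_iUnion_eq_univ (p := bad)
      (Set.eq_univ_of_forall fun φ => Set.mem_iUnion.2 (hall φ))
    obtain ⟨φ, hφ⟩ := hne z
    exact hφ (show φ ∈ bad z from hz ▸ trivial)
  let T : (↥Z → k) →ₗ[k] Module.Dual k (↥Z → k) := (LinearMap.mul k (↥Z → k)).compr₂ φ.1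
  have hTinj : Function.Injective T := by
    rw [injective_iff_map_eq_zero]
    intro u hu
    funext z
    have h1 : φ.1 (u * single z) = 0 := LinearMap.congr_fun hu (single z)
    have h2 : u * single z = u z • single z := by
      funext w
      rcases eq_or_ne w z with rfl | hw
      · simp [single]
      · simp [single, hw]
    rw [h2, map_smul, smul_eq_mul, mul_eq_zero] at h1
    exact h1.resolve_right (hφ z)
  have hle : (E m).map T ≤ (E (n - m)).dualAnnihilator := by
    rintro _ ⟨_, ⟨a, ha, rfl⟩, rfl⟩
    refine (Submodule.mem_dualAnnihilator _).2 ?_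
    rintro _ ⟨b, hb, rfl⟩
    show φ.1 (ev a * ev b) = 0
    have h1 : ev (a * b) = ev a * ev b := funext fun z => by simp [hev]
    rw [← h1]
    refine (Submodule.mem_dualAnnihilator _).1 φ.2 _ ⟨a * b, ?_, rfl⟩
    have := MvPolynomial.IsHomogeneous.mul (φ := a) (ψ := b) ha hb
    rwa [Nat.add_sub_cancel' hm] at this
  have h1 : Module.finrank k (E m) ≤ Module.finrank k (E (n - m)).dualAnnihilator := by
    rw [LinearEquiv.finrank_eq (Submodule.equivMapOfInjective T hTinj (E m))]
    exact Submodule.finrank_mono hle
  have h2 := Subspace.finrank_add_finrank_dualAnnihilator_eq (E (n - m))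
  rw [Module.finrank_fintype_fun_eq_card, Fintype.card_coe] at h2
  have h3 : Module.finrank k ↥(MvPolynomial.homogeneousSubmodule (Fin 4) k (n - m)) = Module.finrank k (E (n - m)) := by
    have hinj : Function.Injective (ev ∘ₗ (MvPolynomial.homogeneousSubmodule (Fin 4) k (n - m)).subtype) := by
      rw [injective_iff_map_eq_zero]
      intro s hs
      by_contra hs0
      exact hex ⟨s.1, s.2, fun h => hs0 (Subtype.ext h), fun z hz => by
        have := congrFun hs ⟨z, hz⟩
        simpa [hev] using this⟩
    rw [← LinearMap.finrank_range_of_inj hinj, LinearMap.range_comp, Submodule.range_subtype]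
  rw [LinearMap.range_comp, Submodule.range_subtype]
  show Module.finrank k (E m) + _ ≤ _
  omega

end Groth.Agent.S18040
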