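import Groth.Statements.S18041
import Mathlib.GroupTheory.CosetCover
-- import your own Groth.Agent.* helpers here

set_option autoImplicit false
universe u
open AdjLin

namespace Groth.Agent.S18041

/-- Let k be an algebraically closed field of characteristic zero, n ≥ 1, and Z a nonempty finite set of
points of projective 3-space over k (points of the projectivization of k⁴, forms in four variables
being evaluated at the chosen representative). Suppose Z has the Cayley–Bacharach property in degree
n: every form of degree n vanishing at all points of Z but one vanishes at that point as well. Then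
Z has at least n + 2 points; and if Z has at most 2n + 1 points, all points of Z lie on one line
(their lines in k⁴ lie in a common 2-dimensional subspace). (The source states this for an arbitrary
zero-dimensional subscheme with length in place of cardinality; only the reduced case is stated
here. The lower bound needs Z nonempty: the empty set has the Cayley–Bacharach property vacuously.) -/
theorem result (k : Type u) [Field k] [IsAlgClosed k] [CharZero k]
    (Z : Finset (Projectivization k (Fin 4 → k))) (hZ : Z.Nonempty) (n : ℕ) (hn : 1 ≤ n)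
    (hCB : (∀ z ∈ Z, ∀ p : MvPolynomial (Fin 4) k, p.IsHomogeneous n →
      (∀ z' ∈ Z, z' ≠ z → MvPolynomial.eval z'.rep p = 0) → MvPolynomial.eval z.rep p = 0)) :
    n + 2 ≤ Z.card ∧
      (Z.card ≤ 2 * n + 1 → ∃ W : Submodule k (Fin 4 → k), Module.finrank k ↥W = 2 ∧ ∀ z ∈ Z, z.submodule ≤ W) := by
  classical
  have hsub : ∀ (W : Submodule k (Fin 4 → k)) (S : Finset (Projectivization k (Fin 4 → k))),
      (∀ z ∈ S, ¬ z.submodule ≤ W) → ∃ l : MvPolynomial (Fin 4) k, l.IsHomogeneous 1 ∧
        (∀ z : Projectivization k (Fin 4 → k), z.submodule ≤ W → MvPolynomial.eval z.rep l = 0) ∧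
        ∀ z ∈ S, MvPolynomial.eval z.rep l ≠ 0 := by
    intro W S hS
    let bad : ↥S → Subspace k W.dualAnnihilator := fun z =>
      LinearMap.ker ((LinearMap.applyₗ z.1.rep).comp W.dualAnnihilator.subtype)
    obtain ⟨φ, hφ⟩ : ∃ φ : W.dualAnnihilator, ∀ z : ↥S, φ.1 z.1.rep ≠ 0 := by
      by_contra hall
      push Not at hall
      obtain ⟨z, hz⟩ := Subspace.exists_eq_top_of_iUnion_eq_univ (p := bad)
        (Set.eq_univ_of_forall fun φ => Set.mem_iUnion.2 (hall φ))
      have hzW : z.1.rep ∉ W := fun h => hS z.1 z.2 (by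
        rw [Projectivization.submodule_eq, Submodule.span_le, Set.singleton_subset_iff]; exact h)
      obtain ⟨φ, hφ1, hφ2⟩ := Submodule.exists_dual_map_eq_bot_of_notMem hzW inferInstance
      refine hφ1 ?_
      have hmem : φ ∈ W.dualAnnihilator := (Submodule.mem_dualAnnihilator φ).2 fun w hw => by
        have := Submodule.mem_map_of_mem (f := φ) hw
        rwa [hφ2, Submodule.mem_bot] at this
      exact LinearMap.mem_ker.1 (show (⟨φ, hmem⟩ : W.dualAnnihilator) ∈ bad z from hz ▸ trivial)
    have hev : ∀ v : Fin 4 → k, MvPolynomial.eval v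
        (∑ i, MvPolynomial.C (φ.1 (Pi.single i 1)) * MvPolynomial.X i) = φ.1 v := fun v => by
      conv_rhs => rw [← Finset.univ_sum_single v]
      simp only [map_sum, map_mul, MvPolynomial.eval_C, MvPolynomial.eval_X]
      refine Finset.sum_congr rfl fun i _ => ?_
      rw [show (Pi.single i (v i) : Fin 4 → k) = v i • Pi.single i 1 from by rw [← Pi.single_smul, smul_eq_mul, mul_one],
        map_smul, smul_eq_mul, mul_comm]
    refine ⟨∑ i, MvPolynomial.C (φ.1 (Pi.single i 1)) * MvPolynomial.X i,
      MvPolynomial.IsHomogeneous.sum _ _ 1 fun i _ => MvPolynomial.isHomogeneous_C_mul_X _ i,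
      fun z hz => ?_, fun z hz => ?_⟩
    · rw [hev]
      refine (Submodule.mem_dualAnnihilator _).1 φ.2 _ (hz ?_)
      rw [Projectivization.submodule_eq]; exact Submodule.mem_span_singleton_self _
    · rw [hev]; exact hφ ⟨z, hz⟩
  let CB : ℕ → Finset (Projectivization k (Fin 4 → k)) → Prop := fun m S =>
    ∀ z ∈ S, ∀ p : MvPolynomial (Fin 4) k, p.IsHomogeneous m →
      (∀ z' ∈ S, z' ≠ z → MvPolynomial.eval z'.rep p = 0) → MvPolynomial.eval z.rep p = 0
  have hcut : ∀ (m : ℕ) (S : Finset (Projectivization k (Fin 4 → k))) (W : Submodule k (Fin 4 → k)),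
      CB (m + 1) S → CB m (S.filter fun z => ¬ z.submodule ≤ W) := by
    intro m S W h z hz p hp hvan
    obtain ⟨l, hl, hlW, hlS⟩ := hsub W (S.filter fun z => ¬ z.submodule ≤ W) fun z hz => (Finset.mem_filter.1 hz).2
    have := h z (Finset.mem_filter.1 hz).1 (l * p) (by rw [add_comm]; exact hl.mul hp) fun z' hz' hne => by
      rw [map_mul]
      by_cases hW : z'.submodule ≤ W
      · rw [hlW z' hW, zero_mul]
      · rw [hvan z' (Finset.mem_filter.2 ⟨hz', hW⟩) hne, mul_zero]
    rw [map_mul, mul_eq_zero] at this
    exact this.resolve_left (hlS z hz)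
  have htwo : ∀ (m : ℕ) (S : Finset (Projectivization k (Fin 4 → k))), CB m S → S.Nonempty → 2 ≤ S.card := by
    intro m S h hS
    by_contra hlt
    obtain ⟨z, rfl⟩ := Finset.card_eq_one.1 (show S.card = 1 from by have := hS.card_pos; omega)
    obtain ⟨i, hi⟩ := Function.ne_iff.1 z.rep_nonzero
    have := h z (Finset.mem_singleton_self z) (MvPolynomial.X i ^ m) (MvPolynomial.isHomogeneous_X_pow i m)
      fun z' hz' hne => absurd (Finset.mem_singleton.1 hz') hne
    rw [map_pow, MvPolynomial.eval_X] at this
    exact hi (eq_zero_of_pow_eq_zero this)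
  have hrank : ∀ z w : Projectivization k (Fin 4 → k), z ≠ w → Module.finrank k ↥(z.submodule ⊔ w.submodule) = 2 := by
    intro z w hzw
    have hinf : z.submodule ⊓ w.submodule = ⊥ := by
      by_contra hne
      have h1 : z.submodule ⊓ w.submodule = z.submodule := Submodule.eq_of_le_of_finrank_le inf_le_left (by
        rw [Projectivization.finrank_submodule]
        exact Submodule.one_le_finrank_iff.2 hne)
      have h2 : z.submodule = w.submodule := Submodule.eq_of_le_of_finrank_le (inf_eq_left.1 h1) (by
        rw [Projectivization.finrank_submodule, Projectivization.finrank_submodule])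
      exact hzw (Projectivization.submodule_injective h2)
    have := Submodule.finrank_sup_add_finrank_inf_eq z.submodule w.submodule
    rw [hinf, finrank_bot, Projectivization.finrank_submodule, Projectivization.finrank_submodule, add_zero] at this
    exact this
  suffices H : ∀ (m : ℕ) (S : Finset (Projectivization k (Fin 4 → k))), CB m S → S.Nonempty →
      m + 2 ≤ S.card ∧ (S.card ≤ 2 * m + 1 →
        ∃ W : Submodule k (Fin 4 → k), Module.finrank k ↥W = 2 ∧ ∀ z ∈ S, z.submodule ≤ W) from H n Z hCB hZ
  intro m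
  induction m with
  | zero => exact fun S h hS => ⟨htwo 0 S h hS, fun hc => absurd (htwo 0 S h hS) (by omega)⟩
  | succ m ih =>
    intro S h hS
    obtain ⟨z₀, hz₀⟩ := hS
    obtain ⟨z₁, hz₁, hne⟩ := Finset.exists_mem_ne (show 1 < S.card from htwo _ S h ⟨z₀, hz₀⟩) z₀
    have h1 : m + 1 + 2 ≤ S.card := by
      have h2 := (ih _ (hcut m S z₀.submodule h) ⟨z₁, Finset.mem_filter.2 ⟨hz₁, fun hle => hne
        (Projectivization.submodule_injective (Submodule.eq_of_le_of_finrank_le hle (by
          rw [Projectivization.finrank_submodule, Projectivization.finrank_submodule])))⟩⟩).1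
      have h3 : (S.filter fun z => ¬ z.submodule ≤ z₀.submodule).card < S.card :=
        Finset.card_lt_card (Finset.filter_ssubset.2 ⟨z₀, hz₀, not_not.2 le_rfl⟩)
      omega
    refine ⟨h1, fun hc => ?_⟩
    let cnt : Projectivization k (Fin 4 → k) × Projectivization k (Fin 4 → k) → ℕ := fun q =>
      (S.filter fun z => z.submodule ≤ q.1.submodule ⊔ q.2.submodule).card
    obtain ⟨⟨a, b⟩, hab, hmax⟩ := Finset.exists_max_image ((S ×ˢ S).filter fun q => q.1 ≠ q.2) cnt
      ⟨(z₁, z₀), Finset.mem_filter.2 ⟨Finset.mem_product.2 ⟨hz₁, hz₀⟩, hne⟩⟩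
    rw [Finset.mem_filter, Finset.mem_product] at hab
    refine ⟨_, hrank a b hab.2, fun z hz => ?_⟩
    by_contra hout
    have hb2 : 2 ≤ cnt (a, b) := by
      refine le_trans (le_of_eq (Finset.card_pair hab.2).symm) (Finset.card_le_card fun x hx => ?_)
      simp only [Finset.mem_insert, Finset.mem_singleton] at hx
      rcases hx with rfl | rfl
      · exact Finset.mem_filter.2 ⟨hab.1.1, le_sup_left⟩
      · exact Finset.mem_filter.2 ⟨hab.1.2, le_sup_right⟩
    set S' := S.filter fun z => ¬ z.submodule ≤ a.submodule ⊔ b.submodule with hS'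
    have hsum : cnt (a, b) + S'.card = S.card := Finset.card_filter_add_card_filter_not _
    obtain ⟨h4, h5⟩ := ih S' (hcut m S _ h) ⟨z, Finset.mem_filter.2 ⟨hz, hout⟩⟩
    obtain ⟨W, hW, hWall⟩ := h5 (by omega)
    obtain ⟨u, hu, v, hv, huv⟩ := Finset.one_lt_card.1 (show 1 < S'.card by omega)
    have hWeq : u.submodule ⊔ v.submodule = W :=
      Submodule.eq_of_le_of_finrank_le (sup_le (hWall u hu) (hWall v hv)) (by rw [hW, hrank u v huv])
    have h6 := hmax (u, v) (Finset.mem_filter.2 ⟨Finset.mem_product.2
      ⟨(Finset.mem_filter.1 hu).1, (Finset.mem_filter.1 hv).1⟩, huv⟩)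
    have h7 : S'.card ≤ cnt (u, v) := Finset.card_le_card fun x hx =>
      Finset.mem_filter.2 ⟨(Finset.mem_filter.1 hx).1, show x.submodule ≤ u.submodule ⊔ v.submodule from hWeq ▸ hWall x hx⟩
    omega

end Groth.Agent.S18041
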