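import Groth.Statements.S18049
import Mathlib.Data.Nat.GCD.Basic
import Mathlib.Tactic.Linarith
import Mathlib.Tactic.IntervalCases
import Mathlib.Tactic.Ring

set_option autoImplicit false
open STCI

namespace Groth.Agent.S18049

/-- For natural numbers 0 < k < N such that k does not divide N, ⌊N/k⌋ ≤ (N - k)/gcd(k, N); stated here
in the equivalent cleared form ⌊N/k⌋ · gcd(k, N) ≤ N - k. -/
theorem result (k N : ℕ) (hk : 0 < k) (hkN : k < N) (hndvd : ¬ k ∣ N) :
    N / k * Nat.gcd k N ≤ N - k := by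
  obtain ⟨a, ha⟩ := Nat.gcd_dvd_left k N
  obtain ⟨b, hb⟩ := Nat.gcd_dvd_right k N
  generalize hgd : Nat.gcd k N = g at ha hb ⊢
  subst ha hb
  have hg : 0 < g := Nat.pos_of_mul_pos_right hk
  have ha1 : 2 ≤ a := by
    rcases Nat.lt_or_ge a 2 with h | h
    · interval_cases a
      · simp at hk
      · exact absurd (Dvd.intro b (by ring)) hndvd
    · exact h
  rw [Nat.mul_div_mul_left _ _ hg, ← Nat.mul_sub, mul_comm]
  refine Nat.mul_le_mul_left g ?_
  have hab : a < b := Nat.lt_of_mul_lt_mul_left hkN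
  have h1 : 1 ≤ b / a := Nat.div_pos hab.le (by omega)
  have h2 : b / a * a + b % a = b := Nat.div_add_mod' b a
  have h3 : b % a ≠ 0 := fun h => hndvd (Nat.mul_dvd_mul_left g (Nat.dvd_of_mod_eq_zero h))
  have h4 : a + b / a ≤ b := by nlinarith [Nat.pos_of_ne_zero h3]
  omega

end Groth.Agent.S18049
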