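import Groth.Statements.S18053
import Mathlib.Algebra.BigOperators.Intervals
import Mathlib.Algebra.BigOperators.Field
import Mathlib.Tactic.Linarith
import Mathlib.Tactic.IntervalCases
import Mathlib.Algebra.Order.BigOperators.Group.Finset
import Mathlib.Tactic.Positivity
import Mathlib.Topology.Algebra.InfiniteSum.Basic
import Mathlib.Analysis.Normed.Group.Basic

set_option autoImplicit false
open STCI

namespace Groth.Agent.S18053

/-- Let (p_k)_{k ≥ 1} be a sequence of nonnegative integers and n a nonnegative integer such that (i)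
p_1 ≤ 9 - (2/5)n, (ii) p_1 ≥ p_2 ≥ p_3 ≥ ⋯, (iii) Σ_k p_k ≤ 19 - n, and (iv) n/4 + Σ_{k ≥ 1}
p_k/(k(k+1)) ≥ 6. Then n = 0 and (p_k) is one of (9, 8, 2), (9, 9), (9, 9, 1) (followed by zeros).
Here the sequence is indexed from 0 (so p 0 is p_1 and the weight of p k is 1/((k+1)(k+2))), (iii)
is stated for every partial sum, and the series in (iv) is the real sum Σ' over all k. -/
theorem result (p : ℕ → ℕ) (n : ℕ)
    (h1 : (p 0 : ℝ) ≤ 9 - (2 / 5 : ℝ) * n) (h2 : Antitone p)
    (h3 : ∀ m : ℕ, ((∑ k ∈ Finset.range m, p k : ℕ) : ℝ) ≤ 19 - (n : ℝ))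
    (h4 : (6 : ℝ) ≤ (n : ℝ) / 4 + ∑' k : ℕ, (p k : ℝ) / (((k : ℝ) + 1) * ((k : ℝ) + 2))) :
    n = 0 ∧ (p = (fun k => if k = 0 then 9 else if k = 1 then 8 else if k = 2 then 2 else 0)
      ∨ p = (fun k => if k = 0 then 9 else if k = 1 then 9 else 0)
      ∨ p = (fun k => if k = 0 then 9 else if k = 1 then 9 else if k = 2 then 1 else 0)) := by
  have hzero : ∀ k, 19 ≤ k → p k = 0 := fun k hk => by
    by_contra h
    have h' : ∀ j ∈ Finset.range (k + 1), 1 ≤ p j := fun j hj =>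
      (Nat.one_le_iff_ne_zero.mpr h).trans (h2 (Finset.mem_range_succ_iff.mp hj))
    have hc := Finset.card_nsmul_le_sum _ _ 1 h'
    simp only [Finset.card_range, smul_eq_mul, mul_one] at hc
    have h3' := h3 (k + 1)
    have : ((k + 1 : ℕ) : ℝ) ≤ (∑ j ∈ Finset.range (k + 1), p j : ℕ) := by exact_mod_cast hc
    have hk' : (19 : ℝ) ≤ k := by exact_mod_cast hk
    push_cast at this h3'
    linarith [(n : ℕ).cast_nonneg (α := ℝ)]
  rw [tsum_eq_sum (s := Finset.range (3 + 16)) fun k hk => by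
    rw [hzero k (by simpa using hk)]; simp] at h4
  have hS := h3 (3 + 16)
  rw [Finset.sum_range_add, Nat.cast_add, Nat.cast_sum (Finset.range 16)] at hS
  rw [Finset.sum_range_add] at h4
  have hrest : ∑ x ∈ Finset.range 16, (p (3 + x) : ℝ) / ((((3 + x : ℕ) : ℝ) + 1) * (((3 + x : ℕ) : ℝ) + 2))
      ≤ (∑ x ∈ Finset.range 16, (p (3 + x) : ℝ)) / 20 := by
    rw [Finset.sum_div]
    refine Finset.sum_le_sum fun x _ => ?_
    refine div_le_div_of_nonneg_left (Nat.cast_nonneg _) (by norm_num) ?_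
    push_cast
    nlinarith [(x : ℕ).cast_nonneg (α := ℝ)]
  have hR : (0 : ℝ) ≤ ∑ x ∈ Finset.range 16, (p (3 + x) : ℝ) := by positivity
  generalize hT : ∑ x ∈ Finset.range 16,
    (p (3 + x) : ℝ) / ((((3 + x : ℕ) : ℝ) + 1) * (((3 + x : ℕ) : ℝ) + 2)) = T at h4 hrest
  generalize hU : ∑ x ∈ Finset.range 16, (p (3 + x) : ℝ) = U at hS hrest hR
  simp only [Finset.sum_range_succ, Finset.sum_range_zero, zero_add] at hS h4
  norm_num at hS h4 hrest
  have hp1 : p 1 ≤ p 0 := h2 (by omega)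
  have hp2 : p 2 ≤ p 1 := h2 (by omega)
  have hp1' : (p 1 : ℝ) ≤ p 0 := by exact_mod_cast hp1
  have hn2 : (n : ℝ) ≤ 2 := by
    by_contra h
    have : (3 : ℝ) ≤ n := by
      have h' : 2 < n := by exact_mod_cast not_le.mp h
      exact_mod_cast h'
    linarith
  have h0 : p 0 = 9 := by
    by_contra h
    rcases Nat.lt_or_gt_of_ne h with hlt | hgt
    · have : (p 0 : ℝ) ≤ 8 := by exact_mod_cast Nat.lt_succ_iff.mp hlt
      linarith
    · have : (10 : ℝ) ≤ p 0 := by exact_mod_cast hgt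
      linarith [(n : ℕ).cast_nonneg (α := ℝ)]
  have hn : n = 0 := by
    by_contra h
    have : (1 : ℝ) ≤ n := by exact_mod_cast Nat.one_le_iff_ne_zero.mpr h
    rw [h0] at h1; push_cast at h1; linarith
  subst hn
  rw [h0] at hp1 hp1' hS h4
  push_cast at hp1' hS h4
  norm_num at hp1' hS h4
  have h8 : 8 ≤ p 1 := by
    by_contra h
    have : (p 1 : ℝ) ≤ 7 := by exact_mod_cast (by omega : p 1 ≤ 7)
    linarith
  have hcases : (p 1 = 8 ∧ p 2 = 2) ∨ (p 1 = 9 ∧ p 2 ≤ 1) := by
    have hsum : p 1 + p 2 ≤ 10 := by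
      have : (p 1 : ℝ) + p 2 ≤ 10 := by push_cast at hS; linarith
      exact_mod_cast this
    rcases (by omega : p 1 = 8 ∨ p 1 = 9) with h | h
    · left
      refine ⟨h, le_antisymm (by omega) ?_⟩
      by_contra h'
      have : (p 2 : ℝ) ≤ 1 := by exact_mod_cast (by omega : p 2 ≤ 1)
      have h'' : (p 1 : ℝ) = 8 := by exact_mod_cast h
      push_cast at hS h4
      linarith
    · right
      exact ⟨h, by omega⟩
  have htail : ∀ k, 3 ≤ k → p k = 0 := fun k hk => by
    by_cases hp2z : p 2 = 0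
    · exact Nat.le_zero.mp (hp2z ▸ h2 (by omega : 2 ≤ k))
    by_contra h
    have h3' := h3 4
    have hk3 : 1 ≤ p 3 := (Nat.one_le_iff_ne_zero.mpr h).trans (h2 hk)
    simp only [Finset.sum_range_succ, Finset.sum_range_zero, zero_add] at h3'
    have : p 0 + p 1 + p 2 + p 3 ≤ 19 := by
      have := h3'; push_cast at this
      exact_mod_cast (by push_cast; linarith : ((p 0 + p 1 + p 2 + p 3 : ℕ) : ℝ) ≤ (19 : ℕ))
    omega
  refine ⟨rfl, ?_⟩
  rcases hcases with ⟨a, b⟩ | ⟨a, b⟩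
  · left
    funext k
    rcases k with _ | _ | _ | k <;> simp [h0, a, b, htail]
  · right
    rcases (by omega : p 2 = 0 ∨ p 2 = 1) with c | c
    · left
      funext k
      rcases k with _ | _ | _ | k <;> simp [h0, a, c, htail]
    · right
      funext k
      rcases k with _ | _ | _ | k <;> simp [h0, a, c, htail]

end Groth.Agent.S18053
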