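import Groth.Statements.S18054
import Mathlib.Tactic.Linarith
import Mathlib.Tactic.LinearCombination
import Mathlib.Tactic.IntervalCases
import Mathlib.Algebra.Order.Ring.Int

set_option autoImplicit false
open STCI

namespace Groth.Agent.S18054

/-- Let s, t, d, g be integers with t ≥ s ≥ 4, d ≥ 1, g ≥ 0 and d dividing st; put n = st/d and assume n
≥ 2; put r = d[n(s - 4) + t] + (2 - 2g)n and assume r ≤ (s/3)(2s² - 6s + 7) - 1. Then d ≤ g + 3.
(The bound is written cleared of the denominator 3; s(2s² - 6s + 7) is always divisible by 3, so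
this is the same condition.) -/
theorem result (s t d g n : ℤ) (hs : 4 ≤ s) (hst : s ≤ t) (hd : 1 ≤ d) (hg : 0 ≤ g)
    (hn : s * t = d * n) (hn2 : 2 ≤ n)
    (hr : 3 * (d * (n * (s - 4) + t) + (2 - 2 * g) * n) ≤ s * (2 * s ^ 2 - 6 * s + 7) - 3) :
    d ≤ g + 3 := by
  by_contra hcon
  push Not at hcon
  have hg2 : 10 - 2 * d ≤ 2 - 2 * g := by omega
  have hn0 : 0 ≤ n := by omega
  have h1 : 3 * (d * (n * (s - 4) + t) + (10 - 2 * d) * n) ≤ s * (2 * s ^ 2 - 6 * s + 7) - 3 := by
    have := mul_le_mul_of_nonneg_right hg2 hn0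
    linarith
  have hd4 : 4 ≤ d := by omega
  have key : 3 * t * (s * (s - 6) * d + d ^ 2 + 10 * s) ≤ d * (s * (2 * s ^ 2 - 6 * s + 7) - 3) := by
    have h2 := mul_le_mul_of_nonneg_left h1 (by omega : (0 : ℤ) ≤ d)
    have h3 : d * (3 * (d * (n * (s - 4) + t) + (10 - 2 * d) * n))
        = 3 * t * (s * (s - 6) * d + d ^ 2 + 10 * s) := by
      linear_combination -(3 * (d * (s - 6) + 10)) * hn
    linarith
  have hF : 0 ≤ s * (s - 6) * d + d ^ 2 + 10 * s := by
    have h4 : 0 ≤ ((s - 3) ^ 2) * d := mul_nonneg (sq_nonneg _) (by omega)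
    nlinarith [sq_nonneg (2 * d - 9)]
  have key2 : s * (d * (s ^ 2 - 12 * s - 7) + 3 * d ^ 2 + 30 * s) ≤ -3 * d := by
    have := mul_nonneg (by omega : (0 : ℤ) ≤ t - s) hF
    linarith
  rcases lt_or_ge s 5 with hs5 | hs5
  · obtain rfl : s = 4 := by omega
    have hd5 : 5 < d := by
      by_contra h
      interval_cases d <;> norm_num at key2
    have hd8 : d < 8 := by
      by_contra h
      push Not at h
      nlinarith [mul_nonneg (by omega : (0 : ℤ) ≤ d - 8) (by omega : (0 : ℤ) ≤ d - 5)]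
    interval_cases d <;> omega
  · have hpos : 0 ≤ d * (s ^ 2 - 12 * s - 7) + 3 * d ^ 2 + 30 * s := by
      rcases lt_or_ge s 13 with h | h
      · interval_cases s <;> nlinarith [sq_nonneg (d - 5), sq_nonneg (d - 6), sq_nonneg (d - 7), sq_nonneg (d - 8), sq_nonneg (d - 9), sq_nonneg (d - 4)]
      · have : 0 ≤ d * (s ^ 2 - 12 * s - 7) := mul_nonneg (by omega) (by nlinarith)
        nlinarith [sq_nonneg d]
    have := mul_nonneg (by omega : (0 : ℤ) ≤ s) hpos
    linarith

end Groth.Agent.S18054
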