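import Groth.Statements.S18055
import Mathlib.Tactic.Linarith
import Mathlib.Tactic.Ring
import Mathlib.Tactic.LinearCombination
import Mathlib.Tactic.NormNum
import Mathlib.Algebra.Order.Ring.Int

set_option autoImplicit false
set_option maxHeartbeats 2000000
open STCI

namespace Groth.Agent.S18055

/-- Let d ≥ 1, g ≥ 0 and 1 ≤ s ≤ t be integers with d dividing st, put n = st/d and r = d[n(s - 4) + t]
+ (2 - 2g)n, and assume n ≥ 2, r > 0 and (n - 1) divides r. Then s < 2d² and t < 2d⁴. This is the
statement about the degree data (d, g the degree and genus of the curve, s ≤ t the degrees of the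
two surfaces) to which the published proof reduces the degree bound: there the divisibility and
positivity express that r/(n - 1), the common value of the type numbers of the pair, is a positive
integer; the geometric hypotheses themselves are not part of this row. -/
theorem result (d g s t n : ℤ) (hd : 1 ≤ d) (hg : 0 ≤ g) (hs : 1 ≤ s) (hst : s ≤ t)
    (hn : s * t = d * n) (hn2 : 2 ≤ n)
    (hpos : 0 < d * (n * (s - 4) + t) + (2 - 2 * g) * n)
    (hdvd : (n - 1) ∣ d * (n * (s - 4) + t) + (2 - 2 * g) * n) :
    s < 2 * d ^ 2 ∧ t < 2 * d ^ 4 := by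
  obtain ⟨c, hc⟩ : ∃ c, c = d * (s - 4) + (2 - 2 * g) := ⟨_, rfl⟩
  have hr : d * (n * (s - 4) + t) + (2 - 2 * g) * n = n * c + d * t := by rw [hc]; ring
  rw [hr] at hpos hdvd
  have hn0 : 0 < n := by omega
  have hcs : 0 < c * s + d ^ 2 := by
    have h1 : 0 < (n * c + d * t) * s := mul_pos hpos (by omega)
    have h2 : (n * c + d * t) * s = n * (c * s + d ^ 2) := by linear_combination d * hn
    rw [h2] at h1
    exact pos_of_mul_pos_right h1 hn0.le
  obtain ⟨k, hk⟩ := hdvd
  obtain ⟨m, hm⟩ : ∃ m, m = k - c := ⟨_, rfl⟩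
  have hm' : c + d * t = (n - 1) * m := by rw [hm]; linear_combination hk
  have hct : 0 < c + d * t := by
    have h1 : 0 < (c + d * t) * s := by
      have h2 : (c + d * t) * s = c * s + d ^ 2 * n := by linear_combination d * hn
      have h3 : 0 ≤ d ^ 2 * (n - 1) := mul_nonneg (sq_nonneg d) (by omega)
      rw [h2]; nlinarith
    exact pos_of_mul_pos_left h1 (by omega)
  have hmpos : 1 ≤ m := pos_of_mul_pos_right (hm' ▸ hct) (by omega)
  have key : d * c + d ^ 2 * t = m * (s * t - d) := by linear_combination d * hm' - m * hn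
  have hst' : d < s * t := by rw [hn]; nlinarith
  have hcub : c ≤ d * s - 2 * d := by rw [hc]; nlinarith
  have hmain : s * t - d ≤ d ^ 2 * (s + t) - 2 * d ^ 2 := by
    have h1 : d * c ≤ d * (d * s - 2 * d) := mul_le_mul_of_nonneg_left hcub (by omega)
    have h2 : 0 ≤ (m - 1) * (s * t - d) := mul_nonneg (by omega) (by omega)
    nlinarith
  have hd1 : 1 * 1 ≤ d * d := mul_le_mul hd hd zero_le_one (by omega)
  have hlt : s * t < d ^ 2 * (s + t) := by nlinarith
  have hs2 : s < 2 * d ^ 2 := by
    by_contra h
    push Not at h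
    have h1 : 2 * d ^ 2 * t ≤ s * t := mul_le_mul_of_nonneg_right h (by omega)
    have h2 : 0 ≤ d ^ 2 * (t - s) := mul_nonneg (sq_nonneg d) (by omega)
    nlinarith
  refine ⟨hs2, ?_⟩
  have hd4 : d ^ 3 ≤ d ^ 4 := by nlinarith [mul_nonneg (pow_nonneg (by omega : (0 : ℤ) ≤ d) 3) (by omega : (0 : ℤ) ≤ d - 1)]
  rcases lt_or_ge (d ^ 2) s with hsd | hsd
  · have h1 : 0 ≤ (s - d ^ 2 - 1) * t := mul_nonneg (by omega) (by omega)
    nlinarith
  obtain ⟨u, hu⟩ : ∃ u, u = m * s - d ^ 2 := ⟨_, rfl⟩
  have htu : t * u = d * c + d * m := by rw [hu]; linear_combination -key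
  rcases lt_trichotomy u 0 with hneg | hzero | hposu
  · have h1 : t ≤ -(d * c) := by nlinarith [mul_nonneg (by omega : (0 : ℤ) ≤ t) (by omega : (0 : ℤ) ≤ -u - 1)]
    have h2 : -(d * c) * s < d * d ^ 2 := by nlinarith
    have h3 : 0 ≤ -(d * c) * (s - 1) := mul_nonneg (by nlinarith) (by omega)
    nlinarith
  · exfalso
    subst hzero
    rw [mul_zero] at htu
    have hcm : c = -m := by
      have : d * (c + m) = 0 := by linear_combination -htu
      rcases mul_eq_zero.mp this with h | h <;> omega
    subst hcm
    linarith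
  · have hms : m * s = u + d ^ 2 := by omega
    have hA : t * u * s = d * c * s + d * (u + d ^ 2) := by rw [htu, ← hms]; ring
    rcases le_or_gt c 0 with hc0 | hc0
    · rcases eq_or_lt_of_le hd with rfl | hd2
      · have hs1 : s = 1 := by omega
        subst hs1
        have hc1 : c ≤ -1 := by omega
        have h1 : t * u ≤ u := by linarith only [hA, hc1]
        have h2 : t ≤ 1 := le_of_mul_le_mul_right (by linarith) hposu
        norm_num; omega
      · have hdcs : d * c * s ≤ 0 :=
          mul_nonpos_of_nonpos_of_nonneg (mul_nonpos_of_nonneg_of_nonpos (by omega) hc0) (by omega)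
        have h1 : t * u ≤ d * (u + d ^ 2) := by
          have := le_mul_of_one_le_right (mul_nonneg (by omega : (0 : ℤ) ≤ t) hposu.le) hs
          linarith only [this, hA, hdcs]
        have h3 : t ≤ d + d ^ 3 := by
          refine le_of_mul_le_mul_right ?_ hposu
          have := mul_nonneg (pow_nonneg (by omega : (0 : ℤ) ≤ d) 3) (by omega : (0 : ℤ) ≤ u - 1)
          linarith only [this, h1]
        have h4 : d < d ^ 3 := by
          have := mul_pos (mul_pos (by omega : (0 : ℤ) < d) (by omega : (0 : ℤ) < d - 1)) (by omega : (0 : ℤ) < d + 1)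
          linarith only [this]
        linarith only [h3, h4, hd4]
    · have hdc : 0 ≤ d * c * s := mul_nonneg (mul_nonneg (by omega) hc0.le) (by omega)
      have hd3 : 0 ≤ d ^ 3 := pow_nonneg (by omega) 3
      have h3 : t * s ≤ d * c * s + d + d ^ 3 := by
        refine le_of_mul_le_mul_right ?_ hposu
        have := mul_nonneg (add_nonneg hdc hd3) (by omega : (0 : ℤ) ≤ u - 1)
        linarith only [this, hA]
      have hs3 : 4 ≤ s := by
        by_contra h
        have : d * (s - 4) ≤ d * (-1) := mul_le_mul_of_nonneg_left (by omega) (by omega)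
        rcases eq_or_lt_of_le hd with rfl | hd2 <;> omega
      have h4 : d * c * s ≤ d ^ 4 * s := by
        refine mul_le_mul_of_nonneg_right ?_ (by omega)
        have : d * s ≤ d * d ^ 2 := mul_le_mul_of_nonneg_left hsd (by omega)
        have : c ≤ d * d ^ 2 := by linarith only [this, hcub, hd]
        have := mul_le_mul_of_nonneg_left this (by omega : (0 : ℤ) ≤ d)
        linarith only [this]
      have h7 : d ^ 4 * 4 ≤ d ^ 4 * s := mul_le_mul_of_nonneg_left hs3 (pow_nonneg (by omega) 4)
      have h8 : d ≤ d ^ 3 := le_self_pow₀ hd (by omega)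
      by_contra h
      push Not at h
      have h5 : 2 * d ^ 4 * s ≤ t * s := mul_le_mul_of_nonneg_right h (by omega)
      linarith only [h3, h4, h5, h7, h8, hd4, pow_pos (by omega : (0 : ℤ) < d) 4]

end Groth.Agent.S18055
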