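import Groth.Statements.S18057
import Groth.Agent.STCILib.Smooth
import Groth.Agent.Unram.LocalLift
import Mathlib.AlgebraicGeometry.Noetherian
import Mathlib.AlgebraicGeometry.Morphisms.Flat
import Mathlib.RingTheory.Flat.FaithfullyFlat.Basic
import Mathlib.RingTheory.KrullDimension.Zero

set_option autoImplicit false
universe u
open STCI

namespace Groth.Agent.S18057

open AlgebraicGeometry CategoryTheory in
/-- For a morphism f : X' → X between irreducible Noetherian schemes that is flat and formally smooth,
with X defined over a field (rendered: the ring of global sections of X contains a subring that is a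
field, which for nonempty X is the same as giving a morphism from X to the spectrum of a field), the
local rings of X' and X at their generic points η', η (Artinian local rings) satisfy length
O_{X',η'} = length O_{X,η}. Formal smoothness is the infinitesimal lifting property against
square-zero thickenings of affine schemes. -/
theorem result {X' X : Scheme.{u}} (f : X' ⟶ X)
    [IrreducibleSpace ↥X'] [IrreducibleSpace ↥X] [IsNoetherian X'] [IsNoetherian X] [Flat f]
    (hf : MoreMor.IsFormallySmoothHom f) (hK : ∃ K : Subring Γ(X, ⊤), IsField K) :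
    Module.length (X'.presheaf.stalk (genericPoint X')) (X'.presheaf.stalk (genericPoint X'))
      = Module.length (X.presheaf.stalk (genericPoint X)) (X.presheaf.stalk (genericPoint X)) := by
  have hmain : ∀ x : ↥X', x = genericPoint X' →
      Module.length (X'.presheaf.stalk x) (X'.presheaf.stalk x)
        = Module.length (X.presheaf.stalk (genericPoint X)) (X.presheaf.stalk (genericPoint X)) := by
    intro x hx
    have hgx : ∀ y : ↥X', x ⤳ y := fun y => by rw [hx]; exact (genericPoint_spec X').specializes trivial
    have hone : ∀ p : PrimeSpectrum (X'.presheaf.stalk x), p.asIdeal = IsLocalRing.maximalIdeal _ := by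
      intro p
      have h1 : X'.fromSpecStalk x p ⤳ x := by
        have : X'.fromSpecStalk x p ∈ Set.range (X'.fromSpecStalk x) := ⟨p, rfl⟩
        rwa [Scheme.range_fromSpecStalk] at this
      have h2 : X'.fromSpecStalk x p = x := (h1.antisymm (hgx _)).eq
      have h3 : p = IsLocalRing.closedPoint _ :=
        (X'.fromSpecStalk x).isEmbedding.injective (h2.trans Scheme.fromSpecStalk_closedPoint.symm)
      rw [h3]
      rfl
    have hA' : IsArtinianRing (X'.presheaf.stalk x) := by
      have : Ring.KrullDimLE 0 (X'.presheaf.stalk x) := by
        refine Ring.krullDimLE_zero_iff.mpr fun P hP => ?_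
        rw [show P = IsLocalRing.maximalIdeal _ from hone ⟨P, hP⟩]
        exact IsLocalRing.maximalIdeal.isMaximal _
      exact IsNoetherianRing.isArtinianRing_of_krullDimLE_zero
    let φ := f.stalkMap x
    let _ := φ.hom.toAlgebra
    have hflat : Module.Flat (X.presheaf.stalk (f x)) (X'.presheaf.stalk x) := Flat.stalkMap f x
    have hff : Module.FaithfullyFlat (X.presheaf.stalk (f x)) (X'.presheaf.stalk x) := by
      have : IsLocalHom (algebraMap (X.presheaf.stalk (f x)) (X'.presheaf.stalk x)) :=
        inferInstanceAs (IsLocalHom φ.hom)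
      exact Module.FaithfullyFlat.of_flat_of_isLocalHom
    have hone' : ∀ p : PrimeSpectrum (X.presheaf.stalk (f x)), p = IsLocalRing.closedPoint _ := by
      intro p
      obtain ⟨q, rfl⟩ := PrimeSpectrum.comap_surjective_of_faithfullyFlat
        (A := X.presheaf.stalk (f x)) (B := X'.presheaf.stalk x) p
      rw [show q = IsLocalRing.closedPoint _ from PrimeSpectrum.ext (hone q)]
      exact IsLocalRing.comap_closedPoint _
    have hA : IsArtinianRing (X.presheaf.stalk (f x)) := by
      have : Ring.KrullDimLE 0 (X.presheaf.stalk (f x)) := by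
        refine Ring.krullDimLE_zero_iff.mpr fun P hP => ?_
        rw [show P = IsLocalRing.maximalIdeal _ from congrArg PrimeSpectrum.asIdeal (hone' ⟨P, hP⟩)]
        exact IsLocalRing.maximalIdeal.isMaximal _
      exact IsNoetherianRing.isArtinianRing_of_krullDimLE_zero
    have hgen : f x = genericPoint X := by
      have hg : genericPoint X ⤳ f x := (genericPoint_spec X).specializes trivial
      obtain ⟨p, hp⟩ : genericPoint X ∈ Set.range (X.fromSpecStalk (f x)) := by
        rw [Scheme.range_fromSpecStalk]; exact hg
      rw [hone' p, Scheme.fromSpecStalk_closedPoint] at hp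
      exact hp
    have hfs : Algebra.FormallySmooth (X.presheaf.stalk (f x)) (X'.presheaf.stalk x) := by
      change φ.hom.FormallySmooth
      rw [Groth.Agent.Unram.formallySmooth_iff_lift_local]
      intro B B' _ _ _ _ ψ hψ hker a b ha hc
      let e := RingHom.quotientKerEquivOfSurjective hψ
      let α := Spec.map (CommRingCat.ofHom a) ≫ X'.fromSpecStalk x
      let β := Spec.map (CommRingCat.ofHom b) ≫ X.fromSpecStalk (f x)
      have hsq : Spec.map (CommRingCat.ofHom ψ) ≫ β = α ≫ f :=
        (Groth.Agent.Unram.stalk_fac_comm_iff f (CommRingCat.ofHom a) (CommRingCat.ofHom b)).mpr hc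
      have he : CommRingCat.ofHom (Ideal.Quotient.mk (RingHom.ker ψ)) ≫ CommRingCat.ofHom e.toRingHom
          = CommRingCat.ofHom ψ := rfl
      have he' : CommRingCat.ofHom e.toRingHom ≫ CommRingCat.ofHom e.symm.toRingHom = 𝟙 _ :=
        CommRingCat.hom_ext (RingHom.ext e.symm_apply_apply)
      have he'' : CommRingCat.ofHom ψ ≫ CommRingCat.ofHom e.symm.toRingHom
          = CommRingCat.ofHom (Ideal.Quotient.mk (RingHom.ker ψ)) := by
        rw [← he, Category.assoc, he', Category.comp_id]
      obtain ⟨l, hl1, hl2⟩ := hf B' (RingHom.ker ψ) hker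
        (Spec.map (CommRingCat.ofHom e.symm.toRingHom) ≫ α) β (by
          rw [← he'', Spec.map_comp, Category.assoc, hsq]; simp only [α, Category.assoc])
      have hl1' : Spec.map (CommRingCat.ofHom ψ) ≫ l = α := by
        rw [← he, Spec.map_comp, Category.assoc, hl1, ← Category.assoc, ← Spec.map_comp,
          show CommRingCat.ofHom e.symm.toRingHom ≫ CommRingCat.ofHom e.toRingHom = 𝟙 _ from
            CommRingCat.hom_ext (RingHom.ext e.apply_symm_apply), Spec.map_id, Category.id_comp]
      have hlx : l (IsLocalRing.closedPoint B') = x := by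
        exact (Groth.Agent.Unram.closedPoint_of_comm hψ (𝟙 X') α l
          (hl1'.trans (Category.comp_id α).symm)).trans
          (Groth.Agent.Unram.stalk_fac_closedPoint x B (CommRingCat.ofHom a))
      obtain ⟨c, hclo, hceq⟩ := Groth.Agent.Unram.exists_stalk_fac x B' l hlx
      refine ⟨c.hom, ?_, ?_⟩
      · refine congrArg CommRingCat.Hom.hom (?_ : c ≫ CommRingCat.ofHom ψ = CommRingCat.ofHom a)
        refine Groth.Agent.Unram.stalk_fac_injective x ?_
        rw [Spec.map_comp, Category.assoc, hceq, hl1']
      · refine congrArg CommRingCat.Hom.hom (?_ : φ ≫ c = CommRingCat.ofHom b)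
        refine Groth.Agent.Unram.stalk_fac_injective (f x) ?_
        rw [Spec.map_comp, Category.assoc, Scheme.SpecMap_stalkMap_fromSpecStalk, ← Category.assoc, hceq, hl2]
    rw [← hgen]
    exact (Groth.Agent.STCILib.length_eq_of_flat_formallySmooth _ _).symm
  exact hmain _ rfl

end Groth.Agent.S18057
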