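import Groth.Statements.S18063
import Groth.Agent.NeronLib.SchDom

set_option backward.isDefEq.respectTransparency.types false

set_option autoImplicit false
universe u
open CategoryTheory MonoidalCategory CartesianMonoidalCategory MonObj GrpObj AlgebraicGeometry CategoryTheory.Limits
open AlgGrp

namespace Groth.Agent.S18063

/-- A is a discrete valuation ring, K denotes its field of fractions and k its residue field, and G is
an A-group scheme that is flat, separated and of finite presentation. If the generic fibre G_K is
commutative, then the special fibre G_k is commutative. (The published statement does not require G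
separated over A, and its proof argues by density of the generic fibre; without separatedness the
conclusion fails: gluing copies of Spec A indexed by a finite non-abelian group along their common
generic point gives a flat group scheme of finite presentation over A whose generic fibre is the
trivial group and whose special fibre is that non-abelian constant group. So G is taken separated
here.) -/
theorem result (A : Type u) [CommRing A] [IsDomain A] [IsDiscreteValuationRing A]
    (K : Type u) [Field K] [Algebra A K] [IsFractionRing A K]
    (G : Over (Spec (CommRingCat.of A))) [GrpObj G] [Flat G.hom] [LocallyOfFinitePresentation G.hom] [QuasiCompact G.hom]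
    [IsSeparated G.hom] [IsCommMonObj (Red.bc (Spec.map (CommRingCat.ofHom (algebraMap A K))) G)] :
    IsCommMonObj (Red.bc (Spec.map (CommRingCat.ofHom (algebraMap A (IsLocalRing.ResidueField A)))) G) := by
  let s := Spec.map (CommRingCat.ofHom (algebraMap A K))
  haveI : IsCommMonObj G := by
    refine ⟨?_⟩
    have hF : (Over.pullback s).map ((β_ G G).hom ≫ μ[G]) = (Over.pullback s).map μ[G] := by
      rw [← cancel_epi (Functor.LaxMonoidal.μ (Over.pullback s) G G), Functor.map_comp]
      rw [← Category.assoc, Functor.LaxBraided.braided, Category.assoc]
      exact IsCommMonObj.mul_comm (Red.bc s G)
    have hdom : IsSchemeTheoreticallyDominant s := by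
      rw [isSchemeTheoreticallyDominant_iff_isDominant, isDominant_iff, DenseRange]
      exact (PrimeSpectrum.denseRange_comap_iff_ker_le_nilRadical _).2
        (((RingHom.injective_iff_ker_eq_bot _).1 (IsFractionRing.injective A K)).trans_le bot_le)
    haveI : Flat (G ⊗ G).hom :=
      inferInstanceAs (Flat (pullback.fst G.hom G.hom ≫ G.hom))
    have e := congrArg (fun k => CommaMorphism.left k ≫ pullback.fst G.hom s) hF
    ext1
    refine Groth.Agent.NeronLib.ext_of_schemeTheoreticallyDominant G.hom (by rw [Over.w, Over.w]) (pullback.fst (G ⊗ G).hom s) ?_
    simpa only [Over.pullback_map_left, pullback.lift_fst] using e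
  infer_instance

end Groth.Agent.S18063
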