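import Groth.Statements.S18068
import Groth.Agent.GrpSch.ImageQuot
import Groth.Agent.GrpSch.AntiHom
import Groth.Agent.GrpSch.SmoothGeomRed
import Groth.Agent.GrpSch.FlatSurj
import Groth.Agent.GrpSch.SepPoints
import Groth.Agent.GrpSch.Desc

set_option autoImplicit false
universe u
open CategoryTheory MonoidalCategory CartesianMonoidalCategory MonObj GrpObj AlgebraicGeometry CategoryTheory.Limits
open AlgGrp
open Groth.Agent (SmoothReduced.isReduced_of_smooth_scheme)

namespace Groth.Agent.S18068

/-- Let k be a field and f : G → H an isogeny (a surjective homomorphism with finite kernel, i.e.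
surjective and finite) of connected commutative algebraic groups over k. Then G is anti-affine (O(G)
= k) if and only if H is anti-affine. -/
theorem result (k : Type u) [Field k]
    (G H : Over (Spec (CommRingCat.of k))) [GrpObj G] [Smooth G.hom] [QuasiCompact G.hom] [ConnectedSpace ↥G.left] [IsCommMonObj G]
    [GrpObj H] [Smooth H.hom] [QuasiCompact H.hom] [ConnectedSpace ↥H.left] [IsCommMonObj H]
    (f : G ⟶ H) [IsMonHom f] [Surjective f.left] [IsFinite f.left] :
    Function.Bijective ((Scheme.ΓSpecIso (CommRingCat.of k)).inv ≫ G.hom.appTop).hom ↔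
      Function.Bijective ((Scheme.ΓSpecIso (CommRingCat.of k)).inv ≫ H.hom.appTop).hom := by
  haveI : GeometricallyReduced H.hom := GrpSch.geometricallyReduced_of_smooth H.hom
  haveI hff : Flat f.left := (GrpSch.FlatSurj.flat_of_surjective (f := f)).1
  haveI : LocallyOfFinitePresentation f.left := by
    haveI : IsLocallyNoetherian H.left := LocallyOfFiniteType.isLocallyNoetherian H.hom
    infer_instance
  obtain ⟨_, _⟩ := GrpSch.AffEnv.exists_grpObj G
  obtain ⟨_, _⟩ := GrpSch.AffEnv.exists_grpObj H
  constructor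
  · intro hG
    refine GrpSch.AntiHom.bijective_of_toAff_eq_one H ?_
    haveI : Epi f := GrpSch.Desc.epi_of_effectiveEpi_left f
    rw [← cancel_epi f, MonObj.comp_one]
    exact GrpSch.AntiHom.eq_one G _ hG _
  · intro hH
    haveI := GrpSch.SepPoints.isSeparated_grp H
    have h0 : IsPullback (Limits.pullback.fst f η[H]) (toUnit _) f η[H] := by
      have h := IsPullback.of_hasPullback f η[H]
      rwa [toUnit_unique (Limits.pullback.snd f η[H]) (toUnit _)] at h
    have hl := GrpSch.isPullback_left h0
    haveI : IsClosedImmersion (Limits.pullback.fst f η[H]).left := by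
      haveI : IsClosedImmersion η[H].left := by
        haveI : IsClosedImmersion (η[H].left ≫ H.hom) := by
          rw [Over.w η[H]]
          exact inferInstanceAs (IsClosedImmersion (𝟙 (Spec (CommRingCat.of k))))
        exact IsClosedImmersion.of_comp η[H].left H.hom
      exact MorphismProperty.of_isPullback (P := @IsClosedImmersion) hl.flip inferInstance
    haveI : IsFinite (toUnit (Limits.pullback f η[H])).left :=
      MorphismProperty.of_isPullback (P := @IsFinite) hl ‹IsFinite f.left›
    haveI : Mono (Limits.pullback.fst f η[H]) := (Over.forget _).mono_of_mono_map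
      (show Mono (Limits.pullback.fst f η[H]).left from inferInstance)
    obtain ⟨_, _⟩ := GrpSch.exists_grpObj_of_isKernel h0
    obtain ⟨R, _, r, _, hR, _, _, _, hloc⟩ := GrpSch.ImageQuot.exists_affine_hom (Limits.pullback.fst f η[H])
      (fun T g n => ⟨n, mul_inv_cancel_comm g _⟩) f h0
    haveI := hR
    obtain ⟨P, p, n, m, hps, hm, hp⟩ := hloc G (𝟙 G) (by
      rw [GrpSch.AntiHom.eq_one H R hH r, MonObj.comp_one, MonObj.comp_one])
    have hu : p ≫ GrpSch.AffEnv.toAff G = n ≫ Limits.pullback.fst f η[H] ≫ GrpSch.AffEnv.toAff G := by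
      rw [← Category.comp_id p, hp, MonObj.mul_comp, hm, _root_.one_mul, Category.assoc]
    haveI := GrpSch.AffEnv.compactSpace_left G
    haveI := GrpSch.AffEnv.quasiSeparatedSpace_left G
    haveI := GrpSch.AffEnv.isIso_toAff_appTop G
    have hinj : Function.Injective (GrpSch.AffEnv.toAff G).left.appTop.hom :=
      (ConcreteCategory.bijective_of_isIso (GrpSch.AffEnv.toAff G).left.appTop).1
    haveI := (GrpSch.AffThm.flat_surjective _ hinj).2
    haveI := (GrpSch.AffThm.locallyOfFiniteType _ hinj).1
    haveI : Finite ↥(Limits.pullback f η[H]).left := by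
      refine Set.finite_univ_iff.1 ((Scheme.Hom.finite_preimage_singleton
        (toUnit (Limits.pullback f η[H])).left (IsLocalRing.closedPoint k)).subset fun x _ => ?_)
      exact Subsingleton.elim (α := ↥(Spec (CommRingCat.of k))) _ _
    haveI : Finite ↥(GrpSch.AffEnv.aff G).left := by
      refine Finite.of_surjective ((Limits.pullback.fst f η[H] ≫ GrpSch.AffEnv.toAff G).left) fun a => ?_
      obtain ⟨b, rfl⟩ := (GrpSch.AffEnv.toAff G).left.surjective a
      obtain ⟨c, rfl⟩ := p.left.surjective b
      exact ⟨n.left c, by rw [← Scheme.Hom.comp_apply, ← Scheme.Hom.comp_apply, ← Over.comp_left,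
        ← Over.comp_left, hu]⟩
    haveI : JacobsonSpace ↥(GrpSch.AffEnv.aff G).left :=
      LocallyOfFiniteType.jacobsonSpace (GrpSch.AffEnv.aff G).hom
    haveI : ConnectedSpace ↥(GrpSch.AffEnv.aff G).left :=
      (GrpSch.AffEnv.toAff G).left.surjective.connectedSpace (GrpSch.AffEnv.toAff G).left.continuous
    haveI hs : Subsingleton ↥(GrpSch.AffEnv.aff G).left := PreconnectedSpace.trivial_of_discrete
    haveI : IsReduced G.left := SmoothReduced.isReduced_of_smooth_scheme G.hom
    haveI hs' : Subsingleton (PrimeSpectrum Γ(G.left, ⊤)) := hs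
    haveI : Nonempty ↥G.left := ⟨η[G].left (IsLocalRing.closedPoint k)⟩
    haveI : Nontrivial Γ(G.left, ⊤) :=
      (G.left.presheaf.germ ⊤ (η[G].left (IsLocalRing.closedPoint k)) trivial).hom.domain_nontrivial
    have hfield : IsField Γ(G.left, ⊤) := by
      by_contra hnf
      obtain ⟨I, hI, hI'⟩ := Ring.not_isField_iff_exists_prime.1 hnf
      obtain ⟨z, hz, hz0⟩ := Submodule.exists_mem_ne_zero_of_ne_bot hI
      refine hz0 (IsReduced.eq_zero z (nilpotent_iff_mem_prime.2 fun J hJ => ?_))
      rwa [show J = I from congrArg PrimeSpectrum.asIdeal (Subsingleton.elim (⟨J, hJ⟩ : PrimeSpectrum Γ(G.left, ⊤)) ⟨I, hI'⟩)]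
    have hsec : (Scheme.ΓSpecIso (CommRingCat.of k)).inv ≫ G.hom.appTop ≫ η[G].left.appTop ≫
        (Scheme.ΓSpecIso (CommRingCat.of k)).hom = 𝟙 _ := by
      rw [← Category.assoc G.hom.appTop, ← Scheme.Hom.comp_appTop, Over.w η[G],
        show (𝟙_ (Over (Spec (CommRingCat.of k)))).hom = 𝟙 _ from rfl, Scheme.Hom.id_appTop]
      erw [Category.id_comp, Iso.inv_hom_id]
    letI := hfield.toField
    refine ⟨RingHom.injective _, fun z => ⟨(η[G].left.appTop ≫ (Scheme.ΓSpecIso (CommRingCat.of k)).hom).hom z,
      (η[G].left.appTop ≫ (Scheme.ΓSpecIso (CommRingCat.of k)).hom).hom.injective ?_⟩⟩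
    exact RingHom.congr_fun (congrArg CommRingCat.Hom.hom hsec) _

end Groth.Agent.S18068
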