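import Groth.Statements.S18069
import Groth.Agent.GrpSch.AntiAffine

set_option autoImplicit false
universe u
open CategoryTheory MonoidalCategory CartesianMonoidalCategory MonObj GrpObj AlgebraicGeometry CategoryTheory.Limits
open AlgGrp

namespace Groth.Agent.S18069

/-- Let k be a field and G₁, G₂ connected k-group schemes of finite type. Then G₁ × G₂ is anti-affine,
i.e. O(G₁ × G₂) = k, if and only if G₁ and G₂ are both anti-affine. -/
theorem result (k : Type u) [Field k]
    (G₁ G₂ : Over (Spec (CommRingCat.of k))) [GrpObj G₁] [LocallyOfFiniteType G₁.hom] [QuasiCompact G₁.hom] [ConnectedSpace ↥G₁.left]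
    [GrpObj G₂] [LocallyOfFiniteType G₂.hom] [QuasiCompact G₂.hom] [ConnectedSpace ↥G₂.left] :
    Function.Bijective ((Scheme.ΓSpecIso (CommRingCat.of k)).inv ≫ (G₁ ⊗ G₂).hom.appTop).hom ↔
      Function.Bijective ((Scheme.ΓSpecIso (CommRingCat.of k)).inv ≫ G₁.hom.appTop).hom ∧ Function.Bijective ((Scheme.ΓSpecIso (CommRingCat.of k)).inv ≫ G₂.hom.appTop).hom := by
  haveI := Groth.Agent.GrpSch.Rigidity.isLocallyNoetherian_left G₁
  haveI := Groth.Agent.GrpSch.Rigidity.isLocallyNoetherian_left G₂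
  haveI : CompactSpace G₂.left := QuasiCompact.compactSpace_of_compactSpace G₂.hom
  have key : ∀ {A : Over (Spec (CommRingCat.of k))} (π : G₁ ⊗ G₂ ⟶ A) (s : A ⟶ G₁ ⊗ G₂),
      s ≫ π = 𝟙 A →
      Function.Bijective ((Scheme.ΓSpecIso (CommRingCat.of k)).inv ≫ (G₁ ⊗ G₂).hom.appTop).hom →
      Function.Bijective ((Scheme.ΓSpecIso (CommRingCat.of k)).inv ≫ A.hom.appTop).hom := by
    intro A π s hs hb
    have hinj : Function.Injective π.left.appTop.hom := by
      have h1 : π.left.appTop ≫ s.left.appTop = 𝟙 _ := by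
        rw [← Scheme.Hom.comp_appTop, ← Over.comp_left, hs, Over.id_left, Scheme.Hom.id_appTop]
      intro a b hab
      have h2 := congrArg s.left.appTop.hom hab
      rwa [← RingHom.comp_apply, ← RingHom.comp_apply, ← CommRingCat.hom_comp, h1] at h2
    rw [← Over.w π, Scheme.Hom.comp_appTop, ← Category.assoc, CommRingCat.hom_comp, RingHom.coe_comp] at hb
    exact ⟨hb.injective.of_comp, hb.surjective.of_comp_left hinj⟩
  refine ⟨fun h => ⟨key (fst G₁ G₂) (lift (𝟙 G₁) 1) (lift_fst _ _) h,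
    key (snd G₁ G₂) (lift 1 (𝟙 G₂)) (lift_snd _ _) h⟩, fun ⟨h1, h2⟩ => ?_⟩
  haveI := Groth.Agent.GrpSch.Rigidity.bijective_snd_appTop G₁ G₂ h1
  rw [← Over.w (snd G₁ G₂), Scheme.Hom.comp_appTop, ← Category.assoc, CommRingCat.hom_comp, RingHom.coe_comp]
  exact ((ConcreteCategory.isIso_iff_bijective (snd G₁ G₂).left.appTop).mp inferInstance).comp h2

end Groth.Agent.S18069
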