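import Groth.Statements.S18070
import Groth.Agent.GrpSch.AntiHom
import Groth.Agent.GrpSch.AffThm
import Groth.Agent.GrpSch.Desc

set_option autoImplicit false
universe u
open CategoryTheory MonoidalCategory CartesianMonoidalCategory MonObj GrpObj AlgebraicGeometry CategoryTheory.Limits
open AlgGrp

namespace Groth.Agent.S18070

/-- Let k be a field and 1 → G₁ → G → G₂ → 1 an exact sequence of k-group schemes of finite type with
G₁, G₂ connected (i : G₁ → G a homomorphism and closed immersion which is the kernel of the flat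
surjective homomorphism q : G → G₂). Anti-affineness passes from G to the quotient G₂; in the other
direction, G is anti-affine whenever G₁ and G₂ both are. -/
theorem result (k : Type u) [Field k]
    (G₁ G G₂ : Over (Spec (CommRingCat.of k))) [GrpObj G₁] [LocallyOfFiniteType G₁.hom] [QuasiCompact G₁.hom] [ConnectedSpace ↥G₁.left]
    [GrpObj G] [LocallyOfFiniteType G.hom] [QuasiCompact G.hom]
    [GrpObj G₂] [LocallyOfFiniteType G₂.hom] [QuasiCompact G₂.hom] [ConnectedSpace ↥G₂.left]
    (i : G₁ ⟶ G) [IsMonHom i] [IsClosedImmersion i.left] (q : G ⟶ G₂) [IsMonHom q] [Surjective q.left] [Flat q.left]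
    (hex : AlgGrp.IsKernel i q) :
    (Function.Bijective ((Scheme.ΓSpecIso (CommRingCat.of k)).inv ≫ G.hom.appTop).hom → Function.Bijective ((Scheme.ΓSpecIso (CommRingCat.of k)).inv ≫ G₂.hom.appTop).hom) ∧
    (Function.Bijective ((Scheme.ΓSpecIso (CommRingCat.of k)).inv ≫ G₁.hom.appTop).hom → Function.Bijective ((Scheme.ΓSpecIso (CommRingCat.of k)).inv ≫ G₂.hom.appTop).hom → Function.Bijective ((Scheme.ΓSpecIso (CommRingCat.of k)).inv ≫ G.hom.appTop).hom) := by
  haveI := GrpSch.SepPoints.isSeparated_grp G₂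
  constructor
  · intro hG
    have hinj := GrpSch.AffThm.appTop_injective_of_flat_surjective q.left
    have e : G₂.hom.appTop ≫ q.left.appTop = G.hom.appTop := by
      rw [← Scheme.Hom.comp_appTop, Over.w q]
    have hG' : Function.Bijective (((Scheme.ΓSpecIso (CommRingCat.of k)).inv ≫ G₂.hom.appTop) ≫ q.left.appTop).hom := by
      rw [Category.assoc, e]; exact hG
    constructor
    · exact fun x y hxy => hG'.1 (congrArg q.left.appTop.hom hxy)
    · intro z
      obtain ⟨c, hc⟩ := hG'.2 (q.left.appTop.hom z)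
      exact ⟨c, hinj hc⟩
  · intro h₁ h₂
    obtain ⟨_, _⟩ := GrpSch.AffEnv.exists_grpObj G
    have hi : i ≫ GrpSch.AffEnv.toAff G = 1 := GrpSch.AntiHom.eq_one G₁ _ h₁ _
    haveI : IsLocallyNoetherian G₂.left := LocallyOfFiniteType.isLocallyNoetherian G₂.hom
    haveI : LocallyOfFiniteType q.left := by
      have h : LocallyOfFiniteType (q.left ≫ G₂.hom) := by rw [Over.w q]; infer_instance
      exact locallyOfFiniteType_of_comp q.left G₂.hom
    haveI : LocallyOfFinitePresentation q.left := inferInstance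
    obtain ⟨r, hr, -⟩ := GrpSch.Desc.exists_desc q (GrpSch.AffEnv.toAff G) (fun T a b hab => by
      obtain ⟨z, hz⟩ := (GrpSch.isKernel_factors_iff hex (a⁻¹ * b)).2 (by
        rw [MonObj.mul_comp, GrpObj.inv_comp, hab, inv_mul_cancel])
      have h := congrArg (· ≫ GrpSch.AffEnv.toAff G) hz
      simp only [Category.assoc, hi, MonObj.comp_one, MonObj.mul_comp, GrpObj.inv_comp] at h
      exact inv_mul_eq_one.1 h.symm)
    obtain ⟨y, hy⟩ := GrpSch.AntiHom.exists_eq_toUnit_comp G₂ _ h₂ r
    have hy' : y = η[GrpSch.AffEnv.aff G] := by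
      rw [← IsMonHom.one_hom (f := GrpSch.AffEnv.toAff G), ← hr, ← hy, ← Category.assoc, ← Category.assoc,
        toUnit_unique ((η[G] ≫ q) ≫ toUnit G₂) (𝟙 _), Category.id_comp]
    refine GrpSch.AntiHom.bijective_of_toAff_eq_one G ?_
    rw [← hr, ← hy, hy', ← Hom.one_def, MonObj.comp_one]

end Groth.Agent.S18070
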