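import Groth.Statements.S18074
import Groth.Agent.GrpSch.AntiPart
import Groth.Agent.GrpSch.QuasiAffineGrp

set_option autoImplicit false
universe u
open CategoryTheory MonoidalCategory CartesianMonoidalCategory MonObj GrpObj AlgebraicGeometry CategoryTheory.Limits
open AlgGrp

namespace Groth.Agent.S18074

/-- Let k be a field and G a non-trivial k-group scheme of finite type. Then G is non-affine with every
closed subgroup scheme H ≠ G affine if and only if G is anti-affine and every anti-affine closed
subgroup scheme H ≠ G of G is trivial. -/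
theorem result (k : Type u) [Field k]
    (G : Over (Spec (CommRingCat.of k))) [GrpObj G] [LocallyOfFiniteType G.hom] [QuasiCompact G.hom] (hG : ¬ Red.IsTrivialGrp G) :
    (¬ IsAffine G.left ∧ ∀ (H : Over (Spec (CommRingCat.of k))) [GrpObj H] (h : H ⟶ G) [IsMonHom h] [IsClosedImmersion h.left], ¬ IsIso h → IsAffine H.left) ↔
    (Function.Bijective ((Scheme.ΓSpecIso (CommRingCat.of k)).inv ≫ G.hom.appTop).hom ∧ ∀ (H : Over (Spec (CommRingCat.of k))) [GrpObj H] (h : H ⟶ G) [IsMonHom h] [IsClosedImmersion h.left], ¬ IsIso h → Function.Bijective ((Scheme.ΓSpecIso (CommRingCat.of k)).inv ≫ H.hom.appTop).hom → Red.IsTrivialGrp H) := by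
  have htriv : ∀ (M : Over (Spec (CommRingCat.of k))), IsAffine M.left →
      Function.Bijective ((Scheme.ΓSpecIso (CommRingCat.of k)).inv ≫ M.hom.appTop).hom → IsIso M.hom := by
    intro M hA hM
    haveI := hA
    haveI : IsIso M.hom.appTop := by
      haveI : IsIso ((Scheme.ΓSpecIso (CommRingCat.of k)).inv ≫ M.hom.appTop) :=
        (ConcreteCategory.isIso_iff_bijective _).2 hM
      exact IsIso.of_isIso_comp_left (Scheme.ΓSpecIso (CommRingCat.of k)).inv _
    exact (MorphismProperty.arrow_mk_iso_iff (MorphismProperty.isomorphisms Scheme.{u})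
      (arrowIsoSpecΓOfIsAffine M.hom)).2 (inferInstanceAs (IsIso (Spec.map M.hom.appTop)))
  -- the largest anti-affine subgroup: if it is trivial the group is affine
  have hker : ∀ (M : Over (Spec (CommRingCat.of k))) [GrpObj M] [LocallyOfFiniteType M.hom]
      [QuasiCompact M.hom], ∃ (K : Over (Spec (CommRingCat.of k))) (_ : GrpObj K) (n : K ⟶ M),
      IsMonHom n ∧ IsClosedImmersion n.left ∧
      Function.Bijective ((Scheme.ΓSpecIso (CommRingCat.of k)).inv ≫ K.hom.appTop).hom ∧
      (IsIso K.hom → IsAffine M.left) := by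
    intro M _ _ _
    obtain ⟨_, _⟩ := Groth.Agent.GrpSch.AffEnv.exists_grpObj M
    obtain ⟨K, hK, n, hn, hnc, -, -, hKb, hKn⟩ := Groth.Agent.GrpSch.AntiPart.exists_ker M
    refine ⟨K, hK, n, hn, hnc, hKb, fun hi => ?_⟩
    haveI : IsIso (toUnit K) := by
      haveI : IsIso ((Over.forget _).map (toUnit K)) := by
        show IsIso (toUnit K).left
        rw [show (toUnit K).left = K.hom from (Category.comp_id _).symm.trans (Over.w (toUnit K))]
        exact hi
      exact isIso_of_reflects_iso (toUnit K) (Over.forget _)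
    haveI : Mono (Groth.Agent.GrpSch.AffEnv.toAff M) := ⟨fun {T} a b hab => by
      obtain ⟨l, hl⟩ := (hKn T (a⁻¹ * b)).2 (by
        rw [MonObj.mul_comp, GrpObj.inv_comp, hab, inv_mul_cancel])
      rw [show l = 1 from (cancel_mono (toUnit K)).1 (toUnit_unique _ _), MonObj.one_comp] at hl
      exact inv_mul_eq_one.1 hl.symm⟩
    haveI : Mono (Groth.Agent.GrpSch.AffEnv.toAff M).left := Over.mono_left_of_mono _
    exact Groth.Agent.GrpSch.QuasiAffineGrp.isAffine_of_mono M (Groth.Agent.GrpSch.AffEnv.toAff M)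
  obtain ⟨K, hKg, n, hn, hnc, hKb, hKt⟩ := hker G
  haveI := hn; haveI := hnc
  refine ⟨fun ⟨hna, hall⟩ => ?_, fun ⟨hGb, hall⟩ => ⟨fun hA => hG (htriv G hA hGb), ?_⟩⟩
  · have hni : IsIso n := by
      by_contra hni
      exact hna (hKt (htriv K (hall K n hni) hKb))
    have hGb : Function.Bijective ((Scheme.ΓSpecIso (CommRingCat.of k)).inv ≫ G.hom.appTop).hom := by
      haveI : IsIso n.left := inferInstanceAs (IsIso ((Over.forget _).map n))
      haveI : IsIso ((Scheme.ΓSpecIso (CommRingCat.of k)).inv ≫ K.hom.appTop) :=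
        (ConcreteCategory.isIso_iff_bijective _).2 hKb
      refine (ConcreteCategory.isIso_iff_bijective _).1 ?_
      rw [show G.hom = inv n.left ≫ K.hom by rw [IsIso.eq_inv_comp, Over.w n], Scheme.Hom.comp_appTop,
        ← Category.assoc]
      haveI : IsIso (inv n.left).appTop := inferInstanceAs (IsIso (Scheme.Γ.map (inv n.left).op))
      exact IsIso.comp_isIso' ‹_› ‹_›
    exact ⟨hGb, fun H _ h _ _ hne hHb => htriv H (hall H h hne) hHb⟩
  · intro H _ h _ _ hne
    haveI : LocallyOfFiniteType H.hom := by rw [← Over.w h]; infer_instance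
    haveI : QuasiCompact H.hom := by rw [← Over.w h]; infer_instance
    obtain ⟨L, hLg, m, hm, hmc, hLb, hLt⟩ := hker H
    haveI := hm; haveI := hmc
    haveI : IsClosedImmersion (m ≫ h).left := by rw [Over.comp_left]; infer_instance
    refine hLt (hall L (m ≫ h) (fun hi => hne ?_) hLb)
    haveI : Mono h := (Over.forget _).mono_of_mono_map (show Mono h.left from inferInstance)
    haveI : IsSplitEpi h := IsSplitEpi.mk' ⟨inv (m ≫ h) ≫ m, by rw [Category.assoc, IsIso.inv_hom_id]⟩
    exact isIso_of_mono_of_isSplitEpi h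

end Groth.Agent.S18074
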