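import Groth.Statements.S1809
import Groth.Agent.DualCx.CMLocusSch
import Groth.Agent.S0372

set_option autoImplicit false
set_option linter.style.haveILetI false
universe u
open CategoryTheory CategoryTheory.Limits AlgebraicGeometry
attribute [local instance] HasDerivedCategory.standard
open Dual

namespace Groth.Agent.S1809

/-- Let X be a locally Noetherian scheme and ω a dualizing complex on X (affine-locally the derived
tilde of a dualizing complex of the ring; exactness of restriction of module sheaves to opens and of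
M ↦ M~ is assumed through instance binders). Then for every point x the local ring O_{X,x} is
Cohen–Macaulay if and only if exactly one cohomology sheaf of ω has nonzero stalk at x; and the set
of points whose local ring is Cohen–Macaulay is open. -/
theorem result (X : Scheme.{u}) [IsLocallyNoetherian X] [∀ (U : Scheme.{u}) (j : U ⟶ X) [IsOpenImmersion j], PreservesFiniteLimits (Scheme.Modules.restrictFunctor j)] [∀ (R : CommRingCat.{u}), PreservesFiniteLimits (tilde.functor R)] (ω : DCoh.D X) (hω : Dual2.IsDualizingSch X ω) : (∀ x : X, LocCoh.IsCohenMacaulayLocalRing (X.presheaf.stalk x) ↔ ∃! i : ℤ, Nontrivial ((DCoh.HD ω i).presheaf.stalk x)) ∧ IsOpen {x : X | LocCoh.IsCohenMacaulayLocalRing (X.presheaf.stalk x)} := by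
  have hchart : ∀ x : X, ∃ (R : CommRingCat.{u}) (j : Spec R ⟶ X) (_ : IsOpenImmersion j) (p : Spec R) (ω' : Dual.D R),
      j.base p = x ∧ Dual.IsDualizing R ω' ∧ Nonempty ((DCoh.restrictD j).obj ω ≅ (DCoh.tildeD R).obj ω') := fun x => by
    obtain ⟨R, j, hj, p, hp, -⟩ := DCohBridge.exists_affine_chart (⊤ : X.Opens) x trivial
    obtain ⟨ω', hω', he⟩ := hω R j
    exact ⟨R, j, hj, p, ω', hp, hω', he⟩
  refine ⟨fun x => ?_, ?_⟩
  · obtain ⟨R, j, hj, p, ω', rfl, hω', ⟨e⟩⟩ := hchart x
    haveI := hω'.isNoetherianRing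
    obtain ⟨hs, hcm⟩ := DualCx.chart_iff ω j ω' hω' e p
    simp only [hs, hcm]
    exact DualCx.cmLocal_iff_existsUnique hω' p
  · rw [isOpen_iff_forall_mem_open]
    intro x hx
    obtain ⟨R, j, hj, p, ω', rfl, hω', ⟨e⟩⟩ := hchart x
    haveI := hω'.isNoetherianRing
    have key : ∀ q : Spec R, LocCoh.IsCohenMacaulayLocalRing (X.presheaf.stalk (j.base q)) ↔
        LocCoh.IsCohenMacaulayLocalRing (Localization.AtPrime q.asIdeal) := fun q =>
      (DualCx.chart_iff ω j ω' hω' e q).2
    refine ⟨j.base '' {q : Spec R | LocCoh.IsCohenMacaulayLocalRing (Localization.AtPrime q.asIdeal)}, ?_,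
      j.isOpenEmbedding.isOpenMap _ (Groth.Agent.S0372.result R ω' hω').1, p, (key p).mp hx, rfl⟩
    rintro _ ⟨q, hq, rfl⟩
    exact (key q).mpr hq

end Groth.Agent.S1809
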