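import Groth.Statements.S18096
import Groth.Agent.GrpSch.RepGLn
import Groth.Agent.GrpSch.AntiHom

set_option autoImplicit false
universe u
open CategoryTheory MonoidalCategory CartesianMonoidalCategory MonObj GrpObj AlgebraicGeometry CategoryTheory.Limits
open AlgGrp

namespace Groth.Agent.S18096

/-- Let k be a field and G a k-group scheme of finite type. Then G is anti-affine, i.e. O(G) = k, if and
only if every finite-dimensional linear representation of G is trivial, i.e. for every n every
homomorphism G → GL_{n,k} is trivial. -/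
theorem result (k : Type u) [Field k]
    (G : Over (Spec (CommRingCat.of k))) [GrpObj G] [LocallyOfFiniteType G.hom] [QuasiCompact G.hom] :
    Function.Bijective ((Scheme.ΓSpecIso (CommRingCat.of k)).inv ≫ G.hom.appTop).hom ↔
      ∀ (n : ℕ) (ρ : G ⟶ FrB.GLn n (Spec (CommRingCat.of k))), IsMonHom ρ → ρ = 1 := by
  obtain ⟨_, _⟩ := Groth.Agent.GrpSch.AffEnv.exists_grpObj G
  have hGLn : ∀ n : ℕ, IsAffine (FrB.GLn n (Spec (CommRingCat.of k))).left := fun n => by
    haveI : IsAffine (FrB.GLZ.{u} n).left := inferInstanceAs (IsAffine (Spec _))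
    haveI : IsAffineHom (FrB.GLZ.{u} n).hom := isAffineHom_of_isAffine _
    haveI : IsAffineHom (FrB.GLn n (Spec (CommRingCat.of k))).hom :=
      MorphismProperty.pullback_snd (P := @IsAffineHom) _ _ ‹_›
    exact isAffine_of_isAffineHom (FrB.GLn n (Spec (CommRingCat.of k))).hom
  refine ⟨fun hG n ρ hρ => ?_, fun h => Groth.Agent.GrpSch.AntiHom.bijective_of_toAff_eq_one G ?_⟩
  · haveI := hGLn n
    haveI := hρ
    exact Groth.Agent.GrpSch.AntiHom.eq_one G _ hG ρ
  haveI hA : IsAffine (Groth.Agent.GrpSch.AffEnv.aff G).left := by infer_instance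
  obtain ⟨⟨HB⟩, ⟨eB⟩⟩ := (essImage_hopfSpec (G := Grp.mk (Groth.Agent.GrpSch.AffEnv.aff G))).2 hA
  let iB : Groth.Agent.NormalQuot.specGrp k HB ≅ Groth.Agent.GrpSch.AffEnv.aff G :=
    ⟨eB.hom.hom.hom, eB.inv.hom.hom, congrArg (fun z => z.hom.hom) eB.hom_inv_id,
      congrArg (fun z => z.hom.hom) eB.inv_hom_id⟩
  haveI : IsMonHom iB.inv := eB.inv.hom.isMonHom_hom
  haveI : IsMonHom iB.hom := eB.hom.hom.isMonHom_hom
  haveI := Groth.Agent.GrpSch.AffEnv.compactSpace_left G
  haveI := Groth.Agent.GrpSch.AffEnv.quasiSeparatedSpace_left G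
  haveI := Groth.Agent.GrpSch.AffEnv.isIso_toAff_appTop G
  have hsurj : Function.Surjective (algebraMap k HB) :=
    Groth.Agent.GrpSch.RepGLn.surjective_algebraMap fun n ρ hρ => by
      haveI := hρ
      haveI := hGLn n
      have h1 := h n (Groth.Agent.GrpSch.AffEnv.toAff G ≫ iB.inv ≫ ρ) inferInstance
      obtain ⟨d, -, hd⟩ := Groth.Agent.GrpSch.AffEnv.existsUnique_desc (Groth.Agent.GrpSch.AffEnv.toAff G)
        (1 : G ⟶ FrB.GLn n (Spec (CommRingCat.of k)))
      have h2 : iB.inv ≫ ρ = 1 :=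
        (hd (iB.inv ≫ ρ) h1).trans (hd 1 (MonObj.comp_one (Groth.Agent.GrpSch.AffEnv.toAff G))).symm
      haveI : IsIso iB.inv := iB.isIso_inv
      rw [← cancel_epi iB.inv, h2, MonObj.comp_one]
  haveI : Mono (toUnit (Groth.Agent.NormalQuot.specGrp k HB)) := by
    haveI : IsClosedImmersion (Groth.Agent.NormalQuot.specGrp k HB).hom :=
      IsClosedImmersion.spec_of_surjective (CommRingCat.ofHom (algebraMap k HB)) hsurj
    haveI : Mono ((Over.forget _).map (toUnit (Groth.Agent.NormalQuot.specGrp k HB))) := by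
      show Mono (toUnit (Groth.Agent.NormalQuot.specGrp k HB)).left
      rw [show (toUnit (Groth.Agent.NormalQuot.specGrp k HB)).left = (Groth.Agent.NormalQuot.specGrp k HB).hom from
        (Category.comp_id _).symm.trans (Over.w (toUnit _))]
      infer_instance
    exact (Over.forget _).mono_of_mono_map ‹_›
  haveI : IsIso iB.inv := iB.isIso_inv
  rw [← cancel_mono iB.inv, ← cancel_mono (toUnit (Groth.Agent.NormalQuot.specGrp k HB))]
  exact toUnit_unique _ _

end Groth.Agent.S18096
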