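import Groth.Statements.S1812
import Groth.Agent.RGammaLib.HDIHom
-- import your own Groth.Agent.* helpers here

set_option autoImplicit false
set_option backward.isDefEq.respectTransparency false
universe u
open CategoryTheory
attribute [local instance] HasDerivedCategory.standard
open LocCoh

namespace Groth.Agent.S1812

/-- Let A be a ring, I a finitely generated ideal and K an object of D(A); assume the total right
derived functor RΓ_I of the I-power torsion functor exists. Then for every q the A-module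
H^q(RΓ_I(K)) is isomorphic to the direct limit over n of the A-modules of maps A/I^n → K[q] in D(A). -/
theorem result (A : Type u) [CommRing A] (I : Ideal A) (hI : I.FG) [DRing.HasRgammaI I] (K : Dual.D A) (q : ℤ) : Nonempty (Dual.HD A ((DRing.RgammaI I).obj K) q ≃ₗ[A] Dual2.HDI A I K q) := by
  obtain ⟨C, hC, -, ⟨e⟩⟩ := RGammaLib.exists_model K
  haveI := hC
  haveI := RGammaLib.isIso_eta_kInj I C hC
  let G := (RGammaLib.gammaC I).obj C
  let L : DRing.Cx A := C⟦q⟧
  let eK : DerivedCategory.Q.obj L ≅ K⟦q⟧ :=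
    (DerivedCategory.Q.commShiftIso q).app C ≪≫ (shiftFunctor (Dual.D A) q).mapIso e
  let eF : RGammaLib.homDiag I L ≅
      (localCohomology.ringModIdeals (localCohomology.idealPowersDiagram I) ⋙
        DerivedCategory.singleFunctor (ModuleCat.{u} A) 0).op ⋙ (linearYoneda A (Dual.D A)).obj (K⟦q⟧) :=
    Functor.isoWhiskerLeft _ ((linearYoneda A (Dual.D A)).mapIso eK)
  obtain ⟨e1⟩ := RGammaLib.nonempty_colimit_equiv I L
  have e2 : Dual2.HDI A I K q ≅ Limits.colimit (RGammaLib.homDiag I L) :=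
    (Limits.HasColimit.isoOfNatIso eF).symm
  have hq : ∀ j : ℤ, 0 + q = j → ∀ X : Dual.D A, Nonempty (Dual.HD A X (0 + q) ≃ₗ[A] Dual.HD A X j) := by
    rintro _ rfl X; exact ⟨LinearEquiv.refl _ _⟩
  obtain ⟨e3⟩ := hq q (zero_add q) ((DRing.RgammaI I).obj K)
  let e4 : Dual.HD A ((DRing.RgammaI I).obj K) (0 + q) ≃ₗ[A] Dual.HD A (DerivedCategory.Q.obj G) (0 + q) :=
    ((DerivedCategory.homologyFunctor (ModuleCat.{u} A) (0 + q)).mapIso
      ((DRing.RgammaI I).mapIso e.symm ≪≫ (asIso (RGammaLib.eta I C)).symm)).toLinearEquiv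
  let e5 := RGammaLib.hdIso G (-1 + q) (0 + q) (1 + q) (by omega) (by omega)
  let S := G.sc' (-1 + q) (0 + q) (1 + q)
  let T := S.g.hom.ker ⧸ LinearMap.range S.moduleCatToCycles
  have hsign : ∀ (i j : ℤ) (y : C.X (i + q)), (L.d i j) y = q.negOnePow • (C.d (i + q) (j + q)) y := fun i j y => rfl
  have hker : ∀ x : RGammaLib.cyc I L, (⟨x.1, x.2.1⟩ : G.X (0 + q)) ∈ S.g.hom.ker := fun x => by
    have hd : q.negOnePow • (C.d (0 + q) (1 + q)) x.1 = 0 := (hsign 0 1 x.1).symm.trans x.2.2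
    exact LinearMap.mem_ker.2 (Subtype.ext ((smul_eq_zero_iff_eq _).1 hd))
  let θ : RGammaLib.cyc I L →ₗ[A] T :=
    (LinearMap.range S.moduleCatToCycles).mkQ ∘ₗ
      { toFun := fun x => ⟨⟨x.1, x.2.1⟩, hker x⟩, map_add' := fun _ _ => rfl, map_smul' := fun _ _ => rfl }
  have hθs : Function.Surjective θ := fun t => by
    obtain ⟨⟨⟨z, hz⟩, hz0⟩, rfl⟩ := Submodule.mkQ_surjective _ t
    refine ⟨⟨z, hz, ?_⟩, rfl⟩
    have h0 : (C.d (0 + q) (1 + q)) z = 0 := congrArg Subtype.val (LinearMap.mem_ker.1 hz0)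
    exact LinearMap.mem_ker.2 ((hsign 0 1 z).trans (by rw [h0, smul_zero]))
  have hθk : LinearMap.ker θ = (RGammaLib.bnd I L).comap (RGammaLib.cyc I L).subtype := by
    ext x
    refine (LinearMap.mem_ker.trans (Submodule.Quotient.mk_eq_zero _)).trans ⟨?_, ?_⟩
    · rintro ⟨y, hy⟩
      have hy' : (C.d (-1 + q) (0 + q)) y.1 = x.1 := congrArg Subtype.val (congrArg Subtype.val hy)
      refine ⟨(q.negOnePow : ℤ) • y.1, zsmul_mem y.2 _, ?_⟩
      refine (hsign (-1) 0 _).trans ?_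
      rw [Units.smul_def, map_zsmul, hy', smul_smul, Int.units_coe_mul_self, one_smul]
      rfl
    · rintro ⟨y, hy, hyx⟩
      have hy' : q.negOnePow • (C.d (-1 + q) (0 + q)) y = x.1 := (hsign (-1) 0 y).symm.trans hyx
      refine ⟨⟨(q.negOnePow : ℤ) • y, zsmul_mem hy _⟩, Subtype.ext (Subtype.ext ?_)⟩
      show (C.d (-1 + q) (0 + q)) ((q.negOnePow : ℤ) • y) = x.1
      rw [map_zsmul, ← hy', Units.smul_def]
  exact ⟨e3.symm ≪≫ₗ e4 ≪≫ₗ e5 ≪≫ₗ (θ.quotKerEquivOfSurjective hθs).symm ≪≫ₗ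
    Submodule.quotEquivOfEq _ _ hθk ≪≫ₗ e1 ≪≫ₗ e2.symm.toLinearEquiv⟩

end Groth.Agent.S1812
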