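import Groth.Statements.S18121
import Mathlib.RingTheory.AdjoinRoot
import Mathlib.Algebra.MvPolynomial.Eval

set_option autoImplicit false
universe u
open Pinch

namespace Groth.Agent.S18121

/-- Let B be a commutative ring, b an element of B, B' := B[z]/(z^2 - b) the rank-two B-algebra with z^2
= b, and Ψ : B[u, v] → B'[t] the B-algebra homomorphism with u ↦ z t and v ↦ t. Then the kernel of Ψ
is the principal ideal generated by u^2 - b v^2, and a polynomial of B'[t] lies in the image of Ψ as
soon as its constant coefficient lies in B. Equivalently, B[u, v]/(u^2 - b v^2) is the fibre product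
of B'[t] and B over B' (for t ↦ 0 and the inclusion of B): the pinching of Spec B' × 𝔸¹ along Spec
B' × {0} by the double cover Spec B' → Spec B is the hypersurface u^2 = b v^2 over B; for B = K[w]
and b = w this is the pinch point u^2 = v^2 w. -/
theorem result (B : Type u) [CommRing B] (b : B) :
    letI Ψ : MvPolynomial (Fin 2) B →ₐ[B] Polynomial (AdjoinRoot (Polynomial.X ^ 2 - Polynomial.C b)) :=
      MvPolynomial.aeval
        ![Polynomial.C (AdjoinRoot.root (Polynomial.X ^ 2 - Polynomial.C b)) * Polynomial.X, Polynomial.X]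
    RingHom.ker Ψ.toRingHom =
        Ideal.span {MvPolynomial.X 0 ^ 2 - MvPolynomial.C b * MvPolynomial.X 1 ^ 2} ∧
      ∀ G : Polynomial (AdjoinRoot (Polynomial.X ^ 2 - Polynomial.C b)),
        (∃ c : B, G.coeff 0 = algebraMap B (AdjoinRoot (Polynomial.X ^ 2 - Polynomial.C b)) c) →
          G ∈ Ψ.range := by
  classical
  rcases subsingleton_or_nontrivial B with hB | hB
  · constructor
    · exact Subsingleton.elim _ _
    · intro G _
      have : (1 : MvPolynomial (Fin 2) B) = 0 := Subsingleton.elim _ _
      have h10 := congrArg (MvPolynomial.aeval (R := B) ![Polynomial.C (AdjoinRoot.root (Polynomial.X ^ 2 - Polynomial.C b)) * Polynomial.X, Polynomial.X]) this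
      rw [map_one, map_zero] at h10
      rw [show G = 0 by rw [← one_mul G, h10, zero_mul]]
      exact zero_mem _
  let f : Polynomial B := Polynomial.X ^ 2 - Polynomial.C b
  have hf : f.Monic := Polynomial.monic_X_pow_sub_C b two_ne_zero
  let z : AdjoinRoot f := AdjoinRoot.root f
  let Ψ : MvPolynomial (Fin 2) B →ₐ[B] Polynomial (AdjoinRoot f) :=
    MvPolynomial.aeval ![Polynomial.C z * Polynomial.X, Polynomial.X]
  have hz : z ^ 2 = algebraMap B (AdjoinRoot f) b := by
    have := AdjoinRoot.eval₂_root f
    simp only [f, Polynomial.eval₂_sub, Polynomial.eval₂_pow, Polynomial.eval₂_X, Polynomial.eval₂_C, sub_eq_zero] at this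
    exact this
  have hind : ∀ a c : B, algebraMap B (AdjoinRoot f) a + algebraMap B (AdjoinRoot f) c * z = 0 → a = 0 ∧ c = 0 := by
    intro a c h
    have h' : AdjoinRoot.mk f (Polynomial.C a + Polynomial.C c * Polynomial.X) = 0 := by
      rw [map_add, map_mul, AdjoinRoot.mk_C, AdjoinRoot.mk_C, AdjoinRoot.mk_X]
      exact h
    have h0 : Polynomial.C a + Polynomial.C c * Polynomial.X = 0 := by
      by_contra hne
      refine (hf.not_dvd_of_natDegree_lt hne ?_) (AdjoinRoot.mk_eq_zero.1 h')
      rw [Polynomial.natDegree_X_pow_sub_C, add_comm]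
      exact Polynomial.natDegree_linear_le.trans_lt one_lt_two
    exact ⟨by simpa using congrArg (Polynomial.coeff · 0) h0, by simpa using congrArg (Polynomial.coeff · 1) h0⟩
  have hrep : ∀ x : AdjoinRoot f, ∃ a c : B, x = algebraMap B _ a + algebraMap B _ c * z := by
    intro x
    induction x using AdjoinRoot.induction_on with
    | ih p =>
      induction p using Polynomial.induction_on' with
      | add p q hp hq =>
        obtain ⟨a, c, hp⟩ := hp
        obtain ⟨a', c', hq⟩ := hq
        exact ⟨a + a', c + c', by rw [map_add, hp, hq, map_add, map_add]; ring⟩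
      | monomial n r =>
        induction n with
        | zero => exact ⟨r, 0, by rw [Polynomial.monomial_zero_left, AdjoinRoot.mk_C, map_zero, zero_mul, add_zero]; rfl⟩
        | succ n ih =>
          obtain ⟨a, c, h⟩ := ih
          refine ⟨c * b, a, ?_⟩
          rw [← Polynomial.monomial_mul_X, map_mul, h, AdjoinRoot.mk_X, map_mul, ← hz]
          ring
  let rel : MvPolynomial (Fin 2) B := MvPolynomial.X 0 ^ 2 - MvPolynomial.C b * MvPolynomial.X 1 ^ 2
  let ι : Polynomial B →ₐ[B] MvPolynomial (Fin 2) B := Polynomial.aeval (MvPolynomial.X 1)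
  have hrel : Ψ rel = 0 := by
    simp only [rel, Ψ, map_sub, map_mul, map_pow, MvPolynomial.aeval_X, MvPolynomial.aeval_C,
      Matrix.cons_val_zero, Matrix.cons_val_one]
    rw [mul_pow, ← map_pow, hz]
    exact sub_self _
  have hι : ∀ p : Polynomial B, Ψ (ι p) = p.map (algebraMap B (AdjoinRoot f)) := by
    intro p
    show Ψ (Polynomial.aeval (MvPolynomial.X 1) p) = _
    rw [← Polynomial.aeval_algHom_apply, show Ψ (MvPolynomial.X 1) = Polynomial.X from MvPolynomial.aeval_X _ _,
      Polynomial.aeval_X_left_eq_map]
  have hnf : ∀ F : MvPolynomial (Fin 2) B, ∃ p q : Polynomial B,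
      F - (ι p + MvPolynomial.X 0 * ι q) ∈ Ideal.span {rel} := by
    intro F
    induction F using MvPolynomial.induction_on with
    | C a =>
      refine ⟨Polynomial.C a, 0, ?_⟩
      simp [ι]
    | add F G hF hG =>
      obtain ⟨p, q, hF⟩ := hF
      obtain ⟨p', q', hG⟩ := hG
      refine ⟨p + p', q + q', ?_⟩
      convert Ideal.add_mem _ hF hG using 1
      simp only [map_add]; ring
    | mul_X F i hF =>
      obtain ⟨p, q, hF⟩ := hF
      fin_cases i
      · refine ⟨Polynomial.C b * Polynomial.X ^ 2 * q, p, ?_⟩
        convert Ideal.add_mem _ (Ideal.mul_mem_right (MvPolynomial.X 0) _ hF)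
          (Ideal.mul_mem_right (ι q) _ (Ideal.mem_span_singleton_self rel)) using 1
        simp [ι, rel]; ring
      · refine ⟨p * Polynomial.X, q * Polynomial.X, ?_⟩
        convert Ideal.mul_mem_right (MvPolynomial.X 1) _ hF using 1
        simp [ι]; ring
  constructor
  · refine le_antisymm (fun F hF => ?_) ((Ideal.span_singleton_le_iff_mem _).2 hrel)
    obtain ⟨p, q, h⟩ := hnf F
    obtain ⟨w, hw⟩ := Ideal.mem_span_singleton'.1 h
    have hF' : Ψ F = 0 := hF
    have h1 := congrArg Ψ hw
    rw [map_mul, hrel, mul_zero, map_sub, hF', map_add, map_mul, hι, hι,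
      show Ψ (MvPolynomial.X 0) = Polynomial.C z * Polynomial.X from MvPolynomial.aeval_X _ _] at h1
    have h2 : p.map (algebraMap B (AdjoinRoot f)) + Polynomial.C z * Polynomial.X * q.map (algebraMap B _) = 0 := by
      linear_combination h1
    have hpq : ∀ n, p.coeff n = 0 ∧ q.coeff n = 0 := by
      have hq : ∀ n, q.coeff n = 0 := fun n => by
        have := congrArg (Polynomial.coeff · (n + 1)) h2
        simp only [Polynomial.coeff_add, Polynomial.coeff_map, Polynomial.coeff_zero, mul_assoc,
          Polynomial.coeff_C_mul, Polynomial.coeff_X_mul] at this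
        rw [mul_comm] at this
        exact (hind _ _ this).2
      intro n
      refine ⟨?_, hq n⟩
      have := congrArg (Polynomial.coeff · n) h2
      rw [show q = 0 from Polynomial.ext (by simpa using hq)] at this
      simp only [Polynomial.map_zero, mul_zero, add_zero, Polynomial.coeff_map, Polynomial.coeff_zero] at this
      exact (hind _ 0 (by rw [this, map_zero, zero_mul, add_zero])).1
    have hp0 : p = 0 := Polynomial.ext fun n => by simpa using (hpq n).1
    have hq0 : q = 0 := Polynomial.ext fun n => by simpa using (hpq n).2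
    rw [hp0, hq0, map_zero, mul_zero, add_zero, sub_zero] at h
    exact h
  · rintro G ⟨c₀, hc₀⟩
    have hX : ∀ H : Polynomial (AdjoinRoot f), Polynomial.X * H ∈ Ψ.range := by
      intro H
      induction H using Polynomial.induction_on' with
      | add p q hp hq => rw [mul_add]; exact add_mem hp hq
      | monomial n r =>
        obtain ⟨a, c, rfl⟩ := hrep r
        refine ⟨MvPolynomial.C a * MvPolynomial.X 1 ^ (n + 1) + MvPolynomial.C c * MvPolynomial.X 0 * MvPolynomial.X 1 ^ n, ?_⟩
        show Ψ _ = _
        simp only [Ψ, map_add, map_mul, map_pow, MvPolynomial.aeval_X, MvPolynomial.aeval_C,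
          Matrix.cons_val_zero, Matrix.cons_val_one, ← Polynomial.C_mul_X_pow_eq_monomial]
        rw [IsScalarTower.algebraMap_apply B (AdjoinRoot f) (Polynomial (AdjoinRoot f)) a,
          IsScalarTower.algebraMap_apply B (AdjoinRoot f) (Polynomial (AdjoinRoot f)) c,
          Polynomial.algebraMap_eq]
        ring
    rw [← Polynomial.X_mul_divX_add G, hc₀]
    refine add_mem (hX _) ⟨MvPolynomial.C c₀, ?_⟩
    exact (MvPolynomial.aeval_C _ _).trans (IsScalarTower.algebraMap_apply B (AdjoinRoot f) (Polynomial (AdjoinRoot f)) c₀)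

end Groth.Agent.S18121
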