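import Groth.Statements.S18122
import Mathlib.Algebra.MvPolynomial.Derivation
import Mathlib.Algebra.MvPolynomial.Division
import Mathlib.Tactic.LinearCombination
import Mathlib.RingTheory.MvPolynomial.Basic
import Mathlib.RingTheory.Derivation.Basic

set_option autoImplicit false
universe u
open Pinch

namespace Groth.Agent.S18122

/-- Let K be a field in which 2 ≠ 0, S = K[x, y], and R ⊆ S the K-subalgebra generated by x^2, x y and
y; R is the coordinate ring of the pinch point u^2 = v^2 w (u = x y, v = y, w = x^2) and S is its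
normalization. Then restriction along R ⊆ S is a bijection from the K-derivations S → S onto the
K-derivations R → S: every K-derivation R → S extends uniquely to S. In sheaf terms, the natural
injective map from the tangent sheaf of the normalization to the dual of the pulled-back sheaf of
differentials of the pinch point is an isomorphism. (The text works over an algebraically closed
field of characteristic different from 2 and for every semi-smooth variety; only this model case is
stated, and the computation uses only 2 ≠ 0.) -/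
theorem result
    (K : Type u) [Field K] [NeZero (2 : K)] :
    letI R : Subalgebra K (MvPolynomial (Fin 2) K) :=
      Algebra.adjoin K {MvPolynomial.X 0 ^ 2, MvPolynomial.X 0 * MvPolynomial.X 1, MvPolynomial.X 1}
    ∀ δ : Derivation K R (MvPolynomial (Fin 2) K),
      ∃! D : Derivation K (MvPolynomial (Fin 2) K) (MvPolynomial (Fin 2) K),
        ∀ r : R, D (r : MvPolynomial (Fin 2) K) = δ r := by
  classical
  intro δ
  let x : MvPolynomial (Fin 2) K := MvPolynomial.X 0
  let y : MvPolynomial (Fin 2) K := MvPolynomial.X 1
  let R : Subalgebra K (MvPolynomial (Fin 2) K) := Algebra.adjoin K {x ^ 2, x * y, y}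
  let r1 : R := ⟨x ^ 2, Algebra.subset_adjoin (by simp)⟩
  let r2 : R := ⟨x * y, Algebra.subset_adjoin (by simp)⟩
  let r3 : R := ⟨y, Algebra.subset_adjoin (by simp)⟩
  have e0 : r2 * r2 = r1 * r3 * r3 := Subtype.ext (show x * y * (x * y) = x ^ 2 * y * y by ring)
  have e1 := congrArg δ e0
  simp only [Derivation.leibniz, smul_add] at e1
  change (x * y) * δ r2 + (x * y) * δ r2 = x ^ 2 * y * δ r3 + (y * (x ^ 2 * δ r3) + y * (y * δ r1)) at e1
  have hy0 : y ≠ 0 := MvPolynomial.X_ne_zero 1
  have hx0 : x ≠ 0 := MvPolynomial.X_ne_zero 0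
  have e2 : y * δ r1 = 2 * x * (δ r2 - x * δ r3) :=
    mul_left_cancel₀ hy0 (by linear_combination (-1 : MvPolynomial (Fin 2) K) * e1)
  have hdvd : x ∣ δ r1 := by
    refine (((MvPolynomial.X_prime (R := K) (i := (0 : Fin 2))).dvd_mul (a := y)).1 ⟨2 * (δ r2 - x * δ r3), e2.trans (by ring)⟩).resolve_left ?_
    rintro ⟨w, hw⟩
    have := congrArg (MvPolynomial.eval ![(0 : K), 1]) hw
    simp [x, y] at this
  obtain ⟨a', ha'⟩ := hdvd
  let h : MvPolynomial (Fin 2) K := MvPolynomial.C (2 : K)⁻¹
  have h2 : (2 : MvPolynomial (Fin 2) K) * h = 1 := by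
    rw [show (2 : MvPolynomial (Fin 2) K) = MvPolynomial.C 2 from (map_ofNat MvPolynomial.C 2).symm, ← map_mul,
      mul_inv_cancel₀ (NeZero.ne 2), map_one]
  let D := MvPolynomial.mkDerivation K ![h * a', δ r3]
  have hDx : D x = h * a' := MvPolynomial.mkDerivation_X _ _ _
  have hDy : D y = δ r3 := MvPolynomial.mkDerivation_X _ _ _
  have h2x : (2 : MvPolynomial (Fin 2) K) * x ≠ 0 := mul_ne_zero (left_ne_zero_of_mul (h2 ▸ one_ne_zero)) hx0
  have hgen : ∀ r : R, D (r : MvPolynomial (Fin 2) K) = δ r := by
    rintro ⟨r, hr⟩
    change D r = _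
    induction hr using Algebra.adjoin_induction with
    | mem z hz =>
      rcases hz with rfl | rfl | rfl
      · show D (x ^ 2) = δ r1
        refine (congrArg D (sq x)).trans ?_
        rw [Derivation.leibniz, hDx, smul_eq_mul, ha']
        linear_combination x * a' * h2
      · show D (x * y) = δ r2
        rw [Derivation.leibniz, hDx, hDy, smul_eq_mul, smul_eq_mul]
        apply mul_left_cancel₀ h2x
        linear_combination e2 + x * a' * y * h2 - y * ha'
      · exact hDy
    | algebraMap a => exact (Derivation.map_algebraMap D a).trans (Derivation.map_algebraMap δ a).symm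
    | add u v hu' hv' hu hv =>
      rw [map_add, hu, hv]
      exact (map_add δ (⟨u, hu'⟩ : R) ⟨v, hv'⟩).symm
    | mul u v hu' hv' hu hv =>
      rw [Derivation.leibniz, hu, hv]
      exact (δ.leibniz (⟨u, hu'⟩ : R) ⟨v, hv'⟩).symm
  refine ⟨D, hgen, fun D' hD' => MvPolynomial.derivation_ext fun i => ?_⟩
  fin_cases i
  · show D' x = D x
    apply mul_left_cancel₀ h2x
    have e3 := (hD' r1).trans (hgen r1).symm
    change D' (x ^ 2) = D (x ^ 2) at e3
    rw [sq, Derivation.leibniz, Derivation.leibniz, smul_eq_mul, smul_eq_mul] at e3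
    linear_combination e3
  · exact ((hD' r3).trans (hgen r3).symm)

end Groth.Agent.S18122
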