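import Groth.Statements.S18123
import Mathlib.Algebra.Polynomial.Expand
import Mathlib.Algebra.MvPolynomial.Derivation
import Mathlib.RingTheory.Derivation.Basic

set_option autoImplicit false
universe u
open Pinch

namespace Groth.Agent.S18123

/-- Let K be a field in which 2 ≠ 0, S = K[x, y], and R ⊆ S the K-subalgebra generated by x^2, x y, y,
the coordinate ring of the pinch point with normalization S, obtained by gluing the plane along the
line y = 0 via x ↦ -x. A K-derivation D of S maps R into R if and only if D(y) is a multiple of y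
and D(x) = y s + x p(x^2) for some s in S and some polynomial p in one variable. Every K-derivation
R → S extends uniquely to S, and under this identification the derivations mapping R into R form the
image of the tangent sheaf of the pinch point in that of its normalization; so this image contains y
times all derivations of S, and modulo those it is spanned by the odd multiples x^(2k+1) ∂/∂x, the
part of the tangent sheaf of the line y = 0 invariant under x ↦ -x. (The text works over an
algebraically closed field of characteristic different from 2; the computation uses only 2 ≠ 0.) -/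
theorem result
    (K : Type u) [Field K] [NeZero (2 : K)]
    (D : Derivation K (MvPolynomial (Fin 2) K) (MvPolynomial (Fin 2) K)) :
    letI x : MvPolynomial (Fin 2) K := MvPolynomial.X 0
    letI y : MvPolynomial (Fin 2) K := MvPolynomial.X 1
    letI R : Subalgebra K (MvPolynomial (Fin 2) K) := Algebra.adjoin K {x ^ 2, x * y, y}
    (∀ r ∈ R, D r ∈ R) ↔
      (D y ∈ Ideal.span {y} ∧
        ∃ (s : MvPolynomial (Fin 2) K) (p : Polynomial K), D x = y * s + x * Polynomial.aeval (x ^ 2) p) := by
  classical
  let x : MvPolynomial (Fin 2) K := MvPolynomial.X 0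
  let y : MvPolynomial (Fin 2) K := MvPolynomial.X 1
  let R : Subalgebra K (MvPolynomial (Fin 2) K) := Algebra.adjoin K {x ^ 2, x * y, y}
  show (∀ r ∈ R, D r ∈ R) ↔ _
  let π : MvPolynomial (Fin 2) K →ₐ[K] Polynomial K := MvPolynomial.aeval ![Polynomial.X, 0]
  let ι : Polynomial K →ₐ[K] MvPolynomial (Fin 2) K := Polynomial.aeval x
  have gx2 : x ^ 2 ∈ R := Algebra.subset_adjoin (by simp)
  have gxy : x * y ∈ R := Algebra.subset_adjoin (by simp)
  have gy : y ∈ R := Algebra.subset_adjoin (by simp)
  have hy : ∀ F, y * F ∈ R ∧ x * (y * F) ∈ R := by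
    intro F
    induction F using MvPolynomial.induction_on with
    | C a => exact ⟨R.mul_mem gy (R.algebraMap_mem a), by rw [← mul_assoc]; exact R.mul_mem gxy (R.algebraMap_mem a)⟩
    | add F G hF hG => exact ⟨by rw [mul_add]; exact R.add_mem hF.1 hG.1,
        by rw [mul_add, mul_add]; exact R.add_mem hF.2 hG.2⟩
    | mul_X F i hF =>
      fin_cases i
      · refine ⟨?_, ?_⟩
        · convert hF.2 using 1
          simp [x]; ring
        · convert R.mul_mem gx2 hF.1 using 1
          simp [x]; ring
      · refine ⟨?_, ?_⟩
        · convert R.mul_mem gy hF.1 using 1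
          simp [y]; ring
        · convert R.mul_mem gy hF.2 using 1
          simp [y]; ring
  have hker : ∀ F, ∃ G, F = y * G + ι (π F) := by
    intro F
    induction F using MvPolynomial.induction_on with
    | C a => exact ⟨0, by simp [π, ι]⟩
    | add F G hF hG =>
      obtain ⟨A, hA⟩ := hF
      obtain ⟨B, hB⟩ := hG
      exact ⟨A + B, by rw [map_add, map_add]; conv_lhs => rw [hA, hB]
                       ring⟩
    | mul_X F i hF =>
      obtain ⟨A, hA⟩ := hF
      fin_cases i
      · refine ⟨A * x, ?_⟩
        conv_lhs => rw [hA]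
        simp [π, ι, x]; ring
      · refine ⟨F, ?_⟩
        simp [π, ι, y]; ring
  have hmem : ∀ F ∈ R, ∃ p : Polynomial K, π F = Polynomial.expand K 2 p := by
    intro F hF
    have hle : R ≤ (Polynomial.expand K 2).range.comap π := by
      refine Algebra.adjoin_le ?_
      rintro _ (rfl | rfl | rfl)
      · exact ⟨Polynomial.X, by simp [π, x]⟩
      · exact ⟨0, by simp [π, x, y]⟩
      · exact ⟨0, by simp [π, y]⟩
    obtain ⟨p, hp⟩ := hle hF
    exact ⟨p, hp.symm⟩
  have heven : ∀ p : Polynomial K, ι (Polynomial.expand K 2 p) = Polynomial.aeval (x ^ 2) p := fun p =>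
    Polynomial.expand_aeval 2 p x
  have haev : ∀ p : Polynomial K, Polynomial.aeval (x ^ 2) p ∈ R := by
    intro p
    induction p using Polynomial.induction_on' with
    | add p q hp hq => rw [map_add]; exact R.add_mem hp hq
    | monomial n a => rw [Polynomial.aeval_monomial]; exact R.mul_mem (R.algebraMap_mem a) (R.pow_mem gx2 n)
  constructor
  · intro h
    obtain ⟨a, ha⟩ := hmem _ (h _ gy)
    obtain ⟨c, hc⟩ := hmem _ (h _ gxy)
    obtain ⟨d, hd⟩ := hmem _ (h _ gx2)
    have hc' : Polynomial.X * π (D y) = Polynomial.expand K 2 c := by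
      rw [← hc, Derivation.leibniz, map_add, smul_eq_mul, smul_eq_mul, map_mul, map_mul]
      simp [π, x, y]
    have h0 : π (D y) = 0 := by
      ext n
      rcases Nat.even_or_odd n with he | ho
      · have h1 := congrArg (Polynomial.coeff · (n + 1)) hc'
        simp only [Polynomial.coeff_X_mul, Polynomial.coeff_expand two_pos] at h1
        rw [if_neg (by rcases he with ⟨k, rfl⟩; omega)] at h1
        simpa using h1
      · rw [ha, Polynomial.coeff_expand two_pos, if_neg (by rcases ho with ⟨k, rfl⟩; omega)]
        simp
    refine ⟨?_, ?_⟩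
    · obtain ⟨G, hG⟩ := hker (D y)
      rw [h0, map_zero, add_zero] at hG
      exact Ideal.mem_span_singleton.2 ⟨G, hG⟩
    · have hd' : Polynomial.X * π (D x) = Polynomial.expand K 2 (Polynomial.C (2 : K)⁻¹ * d) := by
        rw [map_mul, Polynomial.expand_C, ← hd, show x ^ 2 = x * x from sq x, Derivation.leibniz, map_add, smul_eq_mul,
          map_mul]
        simp only [π, x, MvPolynomial.aeval_X, Matrix.cons_val_zero]
        rw [← two_mul, ← mul_assoc (Polynomial.C _)]
        rw [show (2 : Polynomial K) = Polynomial.C 2 from (map_ofNat Polynomial.C 2).symm, ← Polynomial.C_mul,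
          inv_mul_cancel₀ (NeZero.ne 2), Polynomial.C_1, one_mul]
      have hq0 : (Polynomial.C (2 : K)⁻¹ * d).coeff 0 = 0 := by
        have h1 := congrArg (Polynomial.coeff · 0) hd'
        simp [Polynomial.coeff_expand two_pos] at h1
        simpa using h1
      obtain ⟨q, hq⟩ := Polynomial.X_dvd_iff.2 hq0
      rw [hq, map_mul, Polynomial.expand_X, sq, mul_assoc] at hd'
      have hx := mul_left_cancel₀ Polynomial.X_ne_zero hd'
      obtain ⟨G, hG⟩ := hker (D x)
      refine ⟨G, q, ?_⟩
      conv_lhs => rw [hG, hx, map_mul, heven]
      simp [ι, x, y]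
  · rintro ⟨hDy, s, p, hDx⟩
    obtain ⟨t, ht⟩ := Ideal.mem_span_singleton.1 hDy
    change D y = y * t at ht
    change D x = y * s + x * Polynomial.aeval (x ^ 2) p at hDx
    intro r hr
    induction hr using Algebra.adjoin_induction with
    | mem z hz =>
      rcases hz with rfl | rfl | rfl
      · rw [show x ^ 2 = x * x from sq x, Derivation.leibniz, smul_eq_mul, hDx]
        have : x * (y * s + x * Polynomial.aeval (x ^ 2) p) = x * (y * s) + x ^ 2 * Polynomial.aeval (x ^ 2) p := by ring
        rw [this]
        have hm := R.add_mem (hy s).2 (R.mul_mem gx2 (haev p))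
        exact R.add_mem hm hm
      · rw [Derivation.leibniz, smul_eq_mul, smul_eq_mul, hDx, ht]
        exact R.add_mem (hy t).2 (hy _).1
      · rw [ht]; exact (hy t).1
    | algebraMap a => rw [Derivation.map_algebraMap]; exact R.zero_mem
    | add u v _ _ hu hv => rw [map_add]; exact R.add_mem hu hv
    | mul u v hu' hv' hu hv =>
      rw [Derivation.leibniz, smul_eq_mul, smul_eq_mul]
      exact R.add_mem (R.mul_mem hu' hv) (R.mul_mem hv' hu)

end Groth.Agent.S18123
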