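import Groth.Statements.S18125
import Mathlib.Algebra.MvPolynomial.Division
import Mathlib.RingTheory.Ideal.Colon
import Mathlib.Tactic.LinearCombination

set_option autoImplicit false
universe u
open Pinch

namespace Groth.Agent.S18125

/-- Let K be a field in which 2 ≠ 0, n ≥ 0, S = K[u, v, w, t_1, …, t_n] (u, v, w the first three
variables), h = u^2 - v^2 w the equation of the pinch-point model, and Jac the ideal generated by h
and its three partial derivatives 2u, -2vw, -v^2, which cuts out the scheme-theoretic singular locus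
of {h = 0}. Then the ideal (u, v) of the double locus is Jac + (v), and the colon ideal of Jac by
(v) is (u, v, w). Consequently (u, v)/Jac, the ideal of the double locus restricted to the singular
locus, is an invertible sheaf on the pinch locus u = v = w = 0: it is free of rank one over K[t_1,
…, t_n] on the class of v. (The text states this for every semi-smooth variety and reduces to this
model; K algebraically closed is not needed for the model computation.) -/
theorem result
    (K : Type u) [Field K] [NeZero (2 : K)] (n : ℕ) :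
    letI u : MvPolynomial (Fin (n + 3)) K := MvPolynomial.X 0
    letI v : MvPolynomial (Fin (n + 3)) K := MvPolynomial.X 1
    letI w : MvPolynomial (Fin (n + 3)) K := MvPolynomial.X 2
    letI Jac : Ideal (MvPolynomial (Fin (n + 3)) K) :=
      Ideal.span {u ^ 2 - v ^ 2 * w, 2 * u, -(2 * v * w), -(v ^ 2)}
    Ideal.span {u, v} = Jac ⊔ Ideal.span {v} ∧ Jac.colon (Ideal.span {v}) = Ideal.span {u, v, w} := by
  classical
  let u : MvPolynomial (Fin (n + 3)) K := MvPolynomial.X 0
  let v : MvPolynomial (Fin (n + 3)) K := MvPolynomial.X 1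
  let w : MvPolynomial (Fin (n + 3)) K := MvPolynomial.X 2
  let Jac : Ideal (MvPolynomial (Fin (n + 3)) K) :=
      Ideal.span {u ^ 2 - v ^ 2 * w, 2 * u, -(2 * v * w), -(v ^ 2)}
  show Ideal.span {u, v} = Jac ⊔ Ideal.span {v} ∧ Jac.colon (Ideal.span {v}) = Ideal.span {u, v, w}
  let h : MvPolynomial (Fin (n + 3)) K := MvPolynomial.C (2 : K)⁻¹
  have h2 : (2 : MvPolynomial (Fin (n + 3)) K) * h = 1 := by
    rw [show (2 : MvPolynomial (Fin (n + 3)) K) = MvPolynomial.C 2 from (map_ofNat MvPolynomial.C 2).symm, ← map_mul,
      mul_inv_cancel₀ (NeZero.ne 2), map_one]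
  have hu : u ∈ Jac := by
    have : (2 * u) ∈ Jac := Ideal.subset_span (by simp)
    convert Jac.mul_mem_left h this using 1
    linear_combination -u * h2
  have hvw : v * w ∈ Jac := by
    have : -(2 * v * w) ∈ Jac := Ideal.subset_span (by simp)
    convert Jac.mul_mem_left (-h) this using 1
    linear_combination -(v * w) * h2
  have hvv : v * v ∈ Jac := by
    have : -(v ^ 2) ∈ Jac := Ideal.subset_span (by simp)
    convert Jac.neg_mem this using 1
    ring
  have hJ : ∀ g ∈ Jac, ∃ a b c, g = a * u + b * (v * v) + c * (v * w) := by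
    intro g hg
    induction hg using Submodule.span_induction with
    | mem x hx =>
      rcases hx with rfl | rfl | rfl | rfl
      · exact ⟨u, -w, 0, by ring⟩
      · exact ⟨2, 0, 0, by ring⟩
      · exact ⟨0, 0, -2, by ring⟩
      · exact ⟨0, -1, 0, by ring⟩
    | zero => exact ⟨0, 0, 0, by ring⟩
    | add x y _ _ hx hy =>
      obtain ⟨a, b, c, rfl⟩ := hx
      obtain ⟨a', b', c', rfl⟩ := hy
      exact ⟨a + a', b + b', c + c', by ring⟩
    | smul r x _ hx =>
      obtain ⟨a, b, c, rfl⟩ := hx
      exact ⟨r * a, r * b, r * c, by rw [smul_eq_mul]; ring⟩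
  refine ⟨le_antisymm ?_ (sup_le (fun g hg => ?_) (Ideal.span_mono (by simp))), le_antisymm (fun g hg => ?_) ?_⟩
  · rw [Ideal.span_le]
    rintro _ (rfl | rfl)
    · exact Ideal.mem_sup_left hu
    · exact Ideal.mem_sup_right (Ideal.mem_span_singleton_self _)
  · obtain ⟨a, b, c, rfl⟩ := hJ g hg
    exact Ideal.mem_span_pair.2 ⟨a, b * v + c * w, by ring⟩
  · have hgv : g * v ∈ Jac := Submodule.mem_colon.1 hg v (Ideal.mem_span_singleton_self v)
    obtain ⟨a, b, c, habc⟩ := hJ _ hgv
    have hdvd : u ∣ (g - b * v - c * w) * v := ⟨a, by linear_combination habc⟩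
    obtain ⟨t, ht⟩ := ((MvPolynomial.X_prime (R := K) (i := (0 : Fin (n + 3)))).dvd_mul.1 hdvd).resolve_right (by
      rintro ⟨t, ht⟩
      have := congrArg (MvPolynomial.eval (fun i : Fin (n + 3) => if i = 1 then (1 : K) else 0)) ht
      simp [u, v] at this)
    have hg : g = t * u + b * v + c * w := by linear_combination ht
    rw [hg]
    exact add_mem (add_mem (Ideal.mul_mem_left _ _ (Ideal.subset_span (by simp)))
      (Ideal.mul_mem_left _ _ (Ideal.subset_span (by simp)))) (Ideal.mul_mem_left _ _ (Ideal.subset_span (by simp)))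
  · rw [Ideal.span_le]
    intro x hx
    refine Submodule.mem_colon.2 fun z hz => ?_
    obtain ⟨r, rfl⟩ := Ideal.mem_span_singleton'.1 hz
    show x * (r * v) ∈ Jac
    rw [mul_left_comm]
    refine Jac.mul_mem_left r ?_
    rcases hx with rfl | rfl | rfl
    · exact Jac.mul_mem_right v hu
    · exact hvv
    · rw [mul_comm]; exact hvw

end Groth.Agent.S18125
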