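import Groth.Statements.S18128
import Groth.Agent.McCoy.BE

set_option autoImplicit false
universe u
open CAlg

namespace Groth.Agent.S18128

/-- Local step of Buchsbaum–Eisenbud: let R be a Noetherian local ring with maximal ideal m, and 0 →
R^(n_e) → ⋯ → R^(n_1) → R^(n_0) a complex of finite free modules, the map R^(n_(i+1)) → R^(n_i)
being given by the matrix A i, with 1 ≤ e and e at most the depth of R (there is an R-regular
sequence of length e inside m). If for every prime ideal p ≠ m the complex of matrices over R_p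
obtained by localization is exact at R_p^(n_e), …, R_p^(n_1), then the complex is exact at R^(n_e),
…, R^(n_1). -/
theorem result
    {R : Type u} [CommRing R] [IsLocalRing R] [IsNoetherianRing R]
    (e : ℕ) (he : 1 ≤ e) (n : ℕ → ℕ) (A : (i : ℕ) → Matrix (Fin (n i)) (Fin (n (i + 1))) R)
    (hA : ∀ i, i + 2 ≤ e → A i * A (i + 1) = 0)
    (rs : List R) (hlen : rs.length = e) (hmem : ∀ x ∈ rs, x ∈ IsLocalRing.maximalIdeal R)
    (hreg : RingTheory.Sequence.IsRegular R rs)
    (hloc : ∀ (p : Ideal R) [p.IsPrime], p ≠ IsLocalRing.maximalIdeal R →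
      LinearMap.ker ((A (e - 1)).map (algebraMap R (Localization.AtPrime p))).mulVecLin = ⊥ ∧
        ∀ i, i + 2 ≤ e →
          LinearMap.ker ((A i).map (algebraMap R (Localization.AtPrime p))).mulVecLin =
            LinearMap.range ((A (i + 1)).map (algebraMap R (Localization.AtPrime p))).mulVecLin) :
    LinearMap.ker (A (e - 1)).mulVecLin = ⊥ ∧
      ∀ i, i + 2 ≤ e → LinearMap.ker (A i).mulVecLin = LinearMap.range (A (i + 1)).mulVecLin := by
  classical
  rw [← Groth.Agent.McCoy.isExact_iff e n A he]
  refine Groth.Agent.McCoy.isExact_of_punctured e n A e ?_ (fun i hi hei => absurd hei (by omega))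
    (fun i _ => Groth.Agent.McCoy.nxt_le_ker e n A hA i) ?_
  · rw [← hlen]
    exact Groth.Agent.Depth.le_idealDepth_of_isWeaklyRegular hreg.toIsWeaklyRegular hmem
  intro i hi v hv
  obtain ⟨N, hN⟩ := Groth.Agent.McCoy.exists_pow_le_of_forall_prime
    ((Groth.Agent.McCoy.nxt e n A i).colon {v}) (by
    intro Q hQ hJQ
    by_contra hne
    haveI := hQ
    have hex : Groth.Agent.McCoy.IsExact e n
        (Groth.Agent.McCoy.mapCx n A (Localization.AtPrime Q)) :=
      (Groth.Agent.McCoy.isExact_iff e n _ he).2 (hloc Q hne)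
    have hv' : algebraMap R (Localization.AtPrime Q) ∘ v ∈ LinearMap.ker
        (Groth.Agent.McCoy.mapCx n A (Localization.AtPrime Q) i).mulVecLin := by
      rw [LinearMap.mem_ker, Matrix.mulVecLin_apply]
      funext l
      rw [← RingHom.map_mulVec]
      rw [LinearMap.mem_ker, Matrix.mulVecLin_apply] at hv
      rw [hv, Pi.zero_apply, map_zero, Pi.zero_apply]
    rw [hex i hi] at hv'
    obtain ⟨t, ht, htv⟩ := Groth.Agent.McCoy.exists_smul_mem_nxt e n A Q.primeCompl _ hv'
    exact ht (hJQ (Submodule.mem_colon_singleton.2 htv)))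
  exact ⟨N, fun x hx => Submodule.mem_colon_singleton.1 (hN hx)⟩

end Groth.Agent.S18128
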