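import Groth.Statements.S18153
import Mathlib

set_option autoImplicit false
universe u w
open FrobAlg

namespace Groth.Agent.S18153

open MvPolynomial

theorem coeff_det_monomial {p : ℕ} [Fact p.Prime] {R : Type u} [CommRing R] [CharP R p] {m : ℕ} (hm : 0 < m)
    {σ : Type w} (d : Fin m → (Fin m ⊕ σ →₀ ℕ)) (c : Fin m → R) :
    MvPolynomial.coeff
        (Finsupp.sumElim (Finsupp.equivFunOnFinite.symm fun _ : Fin m => p - 1) (0 : σ →₀ ℕ))
        (Matrix.of fun i j : Fin m => MvPolynomial.pderiv (Sum.inl j) (monomial (d i) (c i))).det = 0 := by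
  classical
  set T := Finsupp.sumElim (Finsupp.equivFunOnFinite.symm fun _ : Fin m => p - 1) (0 : σ →₀ ℕ) with hT
  rw [Matrix.det_apply', coeff_sum]
  let M : Matrix (Fin m) (Fin m) R := Matrix.of fun i j => c i * (d i (Sum.inl j) : R)
  let δ : Fin m ⊕ σ →₀ ℕ := ∑ j : Fin m, Finsupp.single (Sum.inl j) 1
  have hterm : ∀ π : Equiv.Perm (Fin m),
      coeff T ((Equiv.Perm.sign π : MvPolynomial (Fin m ⊕ σ) R) *
        ∏ i, Matrix.of (fun i j : Fin m => MvPolynomial.pderiv (Sum.inl j) (monomial (d i) (c i))) (π i) i) =
      if ∑ i, d i = T + δ then (Equiv.Perm.sign π : R) * ∏ i, M (π i) i else 0 := by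
    intro π
    rw [← map_intCast (C : R →+* MvPolynomial (Fin m ⊕ σ) R), coeff_C_mul]
    have hp' : ∏ i, Matrix.of (fun i j : Fin m => MvPolynomial.pderiv (Sum.inl j) (monomial (d i) (c i))) (π i) i =
        monomial (∑ i, (d (π i) - Finsupp.single (Sum.inl i) 1)) (∏ i, M (π i) i) := by
      simp only [Matrix.of_apply, pderiv_monomial, M]
      induction (Finset.univ : Finset (Fin m)) using Finset.induction_on with
      | empty => simp
      | insert a s ha ih => rw [Finset.prod_insert ha, ih, monomial_mul, Finset.prod_insert ha, Finset.sum_insert ha]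
    rw [hp', coeff_monomial]
    by_cases hz : ∀ i, 1 ≤ d (π i) (Sum.inl i)
    · have he : ∑ i, (d (π i) - Finsupp.single (Sum.inl i) 1) + δ = ∑ i, d i := by
        rw [← Finset.sum_add_distrib, ← Equiv.sum_comp π d]
        exact Finset.sum_congr rfl fun i _ => tsub_add_cancel_of_le (Finsupp.single_le_iff.mpr (hz i))
      rw [← he]
      simp only [add_left_inj, mul_ite, mul_zero]
    · push_neg at hz
      obtain ⟨i, hi⟩ := hz
      have : ∏ i, M (π i) i = 0 := Finset.prod_eq_zero (Finset.mem_univ i) (by
        simp [M, show d (π i) (Sum.inl i) = 0 by omega])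
      simp [this]
  rw [Finset.sum_congr rfl fun π _ => hterm π]
  by_cases h : ∑ i, d i = T + δ
  · simp only [if_pos h]
    rw [← Matrix.det_apply']
    have hM : M = Matrix.of fun i j => c i * (Matrix.of fun i j => (d i (Sum.inl j) : R)) i j := rfl
    rw [hM, Matrix.det_mul_column]
    suffices (Matrix.of fun i j : Fin m => (d i (Sum.inl j) : R)).det = 0 by rw [this, mul_zero]
    let i0 : Fin m := ⟨0, hm⟩
    rw [← Matrix.det_updateRow_sum _ i0 (fun _ => (1 : R)) |>.trans (one_smul _ _)]
    refine Matrix.det_eq_zero_of_row_eq_zero i0 fun j => ?_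
    rw [Matrix.updateRow_self]
    simp only [Finset.sum_apply, one_smul, Matrix.of_apply, ← Nat.cast_sum]
    have := DFunLike.congr_fun h (Sum.inl j)
    simp only [Finsupp.finsetSum_apply, Finsupp.add_apply, δ, Finsupp.single_apply, Sum.inl.injEq,
      Finset.sum_ite_eq', Finset.mem_univ, if_true, T] at this
    rw [this, show (Finsupp.sumElim (Finsupp.equivFunOnFinite.symm fun _ : Fin m => p - 1) (0 : σ →₀ ℕ))
      (Sum.inl j) + 1 = p by simp; have := (Fact.out : p.Prime).one_lt; omega, CharP.cast_eq_zero]
  · simp [if_neg h]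


/-- Let R be a commutative ring of prime characteristic p and f_1, …, f_m (m ≥ 1) polynomials over R in
the variables t_1, …, t_m and a further, possibly empty, family of variables s_a. Then in the m × m
Jacobian determinant det(∂f_i/∂t_j) with respect to the t-variables, the coefficient of the monomial
t_1^{p-1} ⋯ t_m^{p-1} (all s-exponents zero) vanishes. (In the source this is the claim, for formal
power series in n ≥ m variables over the base field, to which the proof of the proposition reduces;
the coefficient in question only involves truncations of the f_i, so the polynomial form over any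
ring of characteristic p is the same assertion.) -/
theorem result
    (p : ℕ) [Fact p.Prime] (R : Type u) [CommRing R] [CharP R p]
    {m : ℕ} (hm : 0 < m) (σ : Type w) (f : Fin m → MvPolynomial (Fin m ⊕ σ) R) :
    MvPolynomial.coeff
        (Finsupp.sumElim (Finsupp.equivFunOnFinite.symm fun _ : Fin m => p - 1) (0 : σ →₀ ℕ))
        (Matrix.of fun i j : Fin m => MvPolynomial.pderiv (Sum.inl j) (f i)).det = 0 := by
  classical
  have hsum : ∀ i, (fun j => MvPolynomial.pderiv (Sum.inl j) (f i)) =
      ∑ d ∈ (f i).support, fun j => MvPolynomial.pderiv (Sum.inl j) (MvPolynomial.monomial d ((f i).coeff d)) := by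
    intro i
    funext j
    rw [Finset.sum_apply, ← map_sum, ← (f i).as_sum]
  have h := (Matrix.detRowAlternating (R := MvPolynomial (Fin m ⊕ σ) R) (n := Fin m)).toMultilinearMap.map_sum_finset
    (fun (i : Fin m) d => fun j => MvPolynomial.pderiv (Sum.inl j) (MvPolynomial.monomial d ((f i).coeff d)))
    (fun i => (f i).support)
  simp only [← hsum] at h
  rw [show (Matrix.of fun i j : Fin m => MvPolynomial.pderiv (Sum.inl j) (f i)).det = _ from h, MvPolynomial.coeff_sum]
  exact Finset.sum_eq_zero fun r _ => coeff_det_monomial hm r fun i => (f i).coeff (r i)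

end Groth.Agent.S18153
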