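import Groth.Statements.S18155
import Mathlib
import Groth.Agent.CAlgH.FrobW2
import Groth.Agent.AlgSpLoc.EtaleLift

set_option autoImplicit false
universe u v
open FrobAlg

namespace Groth.Agent.S18155

open TensorProduct

theorem exists_lift_hom {R S T C : Type v} [CommRing R] [CommRing S] [CommRing T] [CommRing C] [Algebra R S]
    [Algebra.FormallySmooth R S] (g : R →+* T) (q : T →+* C) (hq : Function.Surjective q)
    (hnil : IsNilpotent (RingHom.ker q)) (f : S →+* C) (hf : f.comp (algebraMap R S) = q.comp g) :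
    ∃ Φ : S →+* T, Φ.comp (algebraMap R S) = g ∧ q.comp Φ = f := by
  letI : Algebra R T := g.toAlgebra
  letI : Algebra R C := (q.comp g).toAlgebra
  let q' : T →ₐ[R] C := ⟨q, fun _ => rfl⟩
  let f' : S →ₐ[R] C := ⟨f, fun r => RingHom.congr_fun hf r⟩
  let L := Algebra.FormallySmooth.liftOfSurjective f' q' hq hnil
  exact ⟨L, RingHom.ext fun r => L.commutes r,
    RingHom.ext fun x => Algebra.FormallySmooth.liftOfSurjective_apply f' q' hq hnil x⟩

theorem tensor_quot_surj (B : Type v) [CommRing B] (K : Ideal B) (S : Type v) [CommRing S] [Algebra B S]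
    (t : (B ⧸ K) ⊗[B] S) : ∃ s : S, (1 : B ⧸ K) ⊗ₜ[B] s = t := by
  induction t using TensorProduct.induction_on with
  | zero => exact ⟨0, TensorProduct.tmul_zero _ _⟩
  | tmul a s =>
    obtain ⟨b, rfl⟩ := Ideal.Quotient.mk_surjective a
    refine ⟨b • s, ?_⟩
    rw [TensorProduct.tmul_smul, TensorProduct.smul_tmul']
    congr 1
    rw [Algebra.smul_def, mul_one]; rfl
  | add x y hx hy =>
    obtain ⟨a, rfl⟩ := hx; obtain ⟨b, rfl⟩ := hy
    exact ⟨a + b, TensorProduct.tmul_add _ _ _⟩

theorem one_tmul_eq_zero_iff_mem (B : Type v) [CommRing B] (K : Ideal B) (S : Type v) [CommRing S] [Algebra B S]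
    (s : S) : (1 : B ⧸ K) ⊗ₜ[B] s = 0 ↔ s ∈ K.map (algebraMap B S) := by
  rw [← Ideal.Quotient.eq_zero_iff_mem, ← (TensorProduct.comm B (B ⧸ K) S).map_eq_zero_iff,
    TensorProduct.comm_tmul, ← map_eq_zero_iff _ (Algebra.TensorProduct.quotIdealMapEquivTensorQuot S K).injective,
    Algebra.TensorProduct.quotIdealMapEquivTensorQuot_mk]


/-- Let k be an algebraically closed field of characteristic p, A a commutative k-algebra and C an étale
A-algebra. If A admits a flat lifting over W_2(k) together with a lift of Frobenius, then so does C.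
(The source states this for an étale cover Y → X of smooth varieties over k; its argument uses only
that Y is étale over X, and the affine case is stated here with no smoothness or finiteness
hypothesis on A over k.) -/
theorem result
    (p : ℕ) [Fact p.Prime] (k : Type u) [Field k] [IsAlgClosed k] [CharP k p]
    (A C : Type v) [CommRing A] [CommRing C] [Algebra k A] [Algebra k C]
    [Algebra A C] [IsScalarTower k A C] [Algebra.Etale A C]
    (hA : FrobAlg.IsFLiftable p k A) : FrobAlg.IsFLiftable p k C := by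
  obtain ⟨B, _, ι, π, Φ, hF⟩ := hA
  let K := RingHom.ker π
  let e0 : B ⧸ K ≃+* A := RingHom.quotientKerEquivOfSurjective hF.surj
  have he0 : ∀ b, e0 (Ideal.Quotient.mk K b) = π b := fun b => rfl
  letI : Algebra (B ⧸ K) A := e0.toRingHom.toAlgebra
  letI : Algebra (B ⧸ K) C := ((algebraMap A C).comp e0.toRingHom).toAlgebra
  haveI : IsScalarTower (B ⧸ K) A C := IsScalarTower.of_algebraMap_eq fun _ => rfl
  haveI : Algebra.Etale (B ⧸ K) A :=
    Algebra.Etale.of_equiv (AlgEquiv.ofRingEquiv (R := B ⧸ K) (f := e0) fun _ => rfl)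
  haveI : Algebra.Etale (B ⧸ K) C := Algebra.Etale.comp (B ⧸ K) A C
  obtain ⟨S, _, _, hS, ⟨e⟩⟩ := Groth.Agent.AlgSpLoc.exists_etale_lift B K C
  let π' : S →+* C := e.toAlgHom.toRingHom.comp
    (Algebra.TensorProduct.includeRight (R := B) (A := B ⧸ K) (B := S)).toRingHom
  have hπ' : ∀ s, π' s = e ((1 : B ⧸ K) ⊗ₜ[B] s) := fun _ => rfl
  have hsurj : Function.Surjective π' := fun c => by
    obtain ⟨s, hs⟩ := tensor_quot_surj B K S (e.symm c)
    exact ⟨s, by rw [hπ', hs, AlgEquiv.apply_symm_apply]⟩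
  have hker : RingHom.ker π' = K.map (algebraMap B S) := Ideal.ext fun s => by
    rw [RingHom.mem_ker, hπ', map_eq_zero_iff _ e.injective, one_tmul_eq_zero_iff_mem]
  have halg : ∀ b, π' (algebraMap B S b) = algebraMap A C (π b) := fun b => by
    rw [hπ', show (1 : B ⧸ K) ⊗ₜ[B] algebraMap B S b =
      algebraMap (B ⧸ K) ((B ⧸ K) ⊗[B] S) (Ideal.Quotient.mk K b) by
        rw [Algebra.algebraMap_eq_smul_one, TensorProduct.tmul_smul, TensorProduct.smul_tmul',
          Algebra.smul_def, mul_one]; rfl,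
      AlgEquiv.commutes]
    rfl
  have hp0 : (p : C) = 0 := by rw [← map_natCast (algebraMap k C), CharP.cast_eq_zero, map_zero]
  let fr : C →+* C :=
    { toFun := fun c => c ^ p
      map_one' := one_pow _
      map_mul' := fun x y => mul_pow x y p
      map_zero' := zero_pow (Fact.out : p.Prime).ne_zero
      map_add' := fun x y => by
        obtain ⟨r, hr⟩ := exists_add_pow_prime_eq (R := C) (Fact.out : p.Prime) x y
        rw [hr, hp0, zero_mul, zero_mul, zero_mul, add_zero] }
  have hnil : IsNilpotent (RingHom.ker π') := by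
    refine ⟨2, ?_⟩
    rw [hker, show K = Ideal.span {(p : B)} from (Groth.Agent.CAlgH.FrobW2.isLift_iff.mp hF.toIsLift).2.2.1,
      ← Ideal.map_pow, Ideal.span_singleton_pow, pow_two,
      Groth.Agent.CAlgH.FrobW2.natCast_mul_natCast hF.toIsLift, Ideal.span_singleton_zero, Ideal.map_bot]
    rfl
  obtain ⟨Φ', hΦ1, hΦ2⟩ := exists_lift_hom ((algebraMap B S).comp Φ) π' hsurj hnil (fr.comp π')
    (RingHom.ext fun b => by
      show π' (algebraMap B S b) ^ p = π' (algebraMap B S (Φ b))
      rw [halg, halg, hF.red, map_pow])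
  refine ⟨S, inferInstance, (algebraMap B S).comp ι, π', Φ', ⟨⟨?_, hsurj, ?_, ?_⟩, ?_, ?_⟩⟩
  · exact RingHom.Flat.comp hF.flat (RingHom.flat_algebraMap_iff.mpr inferInstance)
  · rw [hker, ← Ideal.map_map, ← hF.ker_eq]
  · refine RingHom.ext fun w => ?_
    show π' (algebraMap B S (ι w)) = algebraMap k C _
    rw [halg, show π (ι w) = algebraMap k A (FrobAlg.res p k w) from RingHom.congr_fun hF.comm w,
      ← IsScalarTower.algebraMap_apply]
  · refine RingHom.ext fun w => ?_
    show Φ' (algebraMap B S (ι w)) = algebraMap B S (ι (FrobAlg.sigma p k w))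
    rw [show Φ' (algebraMap B S (ι w)) = algebraMap B S (Φ (ι w)) from RingHom.congr_fun hΦ1 (ι w)]
    exact congrArg (algebraMap B S) (RingHom.congr_fun hF.semi w)
  · exact fun b => RingHom.congr_fun hΦ2 b

end Groth.Agent.S18155
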