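import Groth.Statements.S18156
import Mathlib

set_option autoImplicit false
universe u v
open CAlg

namespace Groth.Agent.S18156

/-- Let k be a field and A a regular local ring that is a k-algebra, with maximal ideal m and m-adic
completion Â. Then every k-derivation D of A into itself extends to a k-derivation D̂ of Â into
itself along the canonical map ρ : A → Â, in the sense that D̂(ρ(a)) = ρ(D(a)) for every a ∈ A. (The
source works throughout over an algebraically closed field of characteristic p; neither assumption
enters this statement.) -/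
theorem result
    (k : Type u) [Field k] (A : Type v) [CommRing A] [Algebra k A] [IsRegularLocalRing A]
    (D : Derivation k A A) :
    ∃ Dhat : Derivation k (AdicCompletion (IsLocalRing.maximalIdeal A) A)
        (AdicCompletion (IsLocalRing.maximalIdeal A) A),
      ∀ a : A, Dhat (algebraMap A (AdicCompletion (IsLocalRing.maximalIdeal A) A) a) =
        algebraMap A (AdicCompletion (IsLocalRing.maximalIdeal A) A) (D a) := by
  let m := IsLocalRing.maximalIdeal A
  let π : ∀ n, A →ₐ[k] A ⧸ (m ^ n • ⊤ : Ideal A) := fun n => Ideal.Quotient.mkₐ k _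
  have hsurj : ∀ n, Function.Surjective (π n) := fun n => Ideal.Quotient.mk_surjective
  have hmem : ∀ n (a : A), π n a = 0 ↔ a ∈ m ^ n := fun n a => by
    show Ideal.Quotient.mk _ a = 0 ↔ _
    rw [Ideal.Quotient.eq_zero_iff_mem, smul_eq_mul, Ideal.mul_top]
  have hD : ∀ n (a : A), a ∈ m ^ (n + 1) → D a ∈ m ^ n := by
    intro n
    induction n with
    | zero => intro a _; rw [pow_zero, Ideal.one_eq_top]; trivial
    | succ n ih =>
      intro a ha
      rw [pow_succ] at ha
      refine Submodule.mul_induction_on ha (fun u hu v hv => ?_) (fun u v hu hv => ?_)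
      · rw [D.leibniz, smul_eq_mul, smul_eq_mul]
        refine add_mem (Ideal.mul_mem_right _ _ hu) ?_
        rw [pow_succ, mul_comm v]
        exact Ideal.mul_mem_mul (ih u hu) hv
      · rw [map_add]; exact add_mem hu hv
  have hcong : ∀ n (a b : A), π (n + 1) a = π (n + 1) b → π n (D a) = π n (D b) := by
    intro n a b h
    rw [← sub_eq_zero, ← map_sub, hmem, ← map_sub D]
    exact hD n _ ((hmem _ _).1 (by rw [map_sub, h, sub_self]))
  let σ : ∀ n, AdicCompletion m A → A := fun n x => Function.surjInv (hsurj n) (x.val n)
  have hσ : ∀ n x, π n (σ n x) = x.val n := fun n x => Function.surjInv_eq (hsurj n) _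
  let F : AdicCompletion m A → AdicCompletion m A := fun x => ⟨fun n => π n (D (σ (n + 1) x)), by
    intro a b hab
    show AdicCompletion.transitionMap m A hab (Ideal.Quotient.mk _ (D (σ (b + 1) x))) = π a (D (σ (a + 1) x))
    have e : π (a + 1) (σ (b + 1) x) = π (a + 1) (σ (a + 1) x) := by
      rw [hσ, ← x.property (show a + 1 ≤ b + 1 by omega), ← hσ]
      rfl
    exact hcong a _ _ e⟩
  have hF : ∀ x n a, π (n + 1) a = x.val (n + 1) → (F x).val n = π n (D a) := fun x n a h =>
    hcong n _ _ ((hσ (n + 1) x).trans h.symm)
  let L : AdicCompletion m A →ₗ[k] AdicCompletion m A :=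
    { toFun := F
      map_add' := fun x y => AdicCompletion.ext fun n => by
        rw [hF (x + y) n (σ (n + 1) x + σ (n + 1) y) (by rw [map_add, hσ, hσ]; rfl)]
        show _ = (F x).val n + (F y).val n
        rw [map_add, map_add]
      map_smul' := fun c x => AdicCompletion.ext fun n => by
        rw [hF (c • x) n (c • σ (n + 1) x) (by rw [map_smul, hσ]; rfl)]
        show _ = c • (F x).val n
        rw [D.map_smul, map_smul] }
  refine ⟨Derivation.mk' L fun x y => AdicCompletion.ext fun n => ?_, fun a => AdicCompletion.ext fun n => ?_⟩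
  · show (F (x * y)).val n = x.val n * (F y).val n + y.val n * (F x).val n
    have hx : π n (σ (n + 1) x) = x.val n := by
      rw [← x.property (Nat.le_succ n), ← hσ]; rfl
    have hy : π n (σ (n + 1) y) = y.val n := by
      rw [← y.property (Nat.le_succ n), ← hσ]; rfl
    rw [hF (x * y) n (σ (n + 1) x * σ (n + 1) y) (by rw [map_mul, hσ, hσ]; rfl), D.leibniz]
    show π n (σ (n + 1) x * D (σ (n + 1) y) + σ (n + 1) y * D (σ (n + 1) x)) = _
    rw [map_add, map_mul, map_mul, hx, hy]
  · show (F (algebraMap A (AdicCompletion m A) a)).val n = _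
    rw [hF _ n a rfl]
    rfl

end Groth.Agent.S18156
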