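import Groth.Statements.S1816
import Groth.Agent.RGammaLib.Torsion
-- import your own Groth.Agent.* helpers here

set_option autoImplicit false
universe u
open CategoryTheory
attribute [local instance] HasDerivedCategory.standard
open LocCoh

namespace Groth.Agent.S1816

/-- First statement, for a Noetherian ring (where RΓ with support in V(I) is RΓ_I). Let A be a
Noetherian ring, I and J ideals, and assume the total right derived functors RΓ_I, RΓ_J and RΓ_{I+J}
exist. Then for every K in D(A), RΓ_J(RΓ_I(K)) is isomorphic to RΓ_{I+J}(K). -/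
theorem result (A : Type u) [CommRing A] [IsNoetherianRing A] (I J : Ideal A) [DRing.HasRgammaI I] [DRing.HasRgammaI J] [DRing.HasRgammaI (I ⊔ J)] (K : Dual.D A) : Nonempty ((DRing.RgammaI J).obj ((DRing.RgammaI I).obj K) ≅ (DRing.RgammaI (I ⊔ J)).obj K) := by
  obtain ⟨C, hC, hinj, ⟨e⟩⟩ := RGammaLib.exists_model K
  haveI := hinj
  haveI := RGammaLib.isIso_eta_kInj I C hC
  haveI := RGammaLib.isIso_eta_kInj (I ⊔ J) C hC
  haveI : ∀ n, Injective (((RGammaLib.gammaC I).obj C).X n) := fun n =>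
    inferInstanceAs (Injective ((DRing.gammaI I).obj (C.X n)))
  haveI := RGammaLib.isIso_eta J ((RGammaLib.gammaC I).obj C)
  let t : (RGammaLib.gammaC J).obj ((RGammaLib.gammaC I).obj C) ≅ (RGammaLib.gammaC (I ⊔ J)).obj C :=
    HomologicalComplex.Hom.isoOfComponents (fun n => LinearEquiv.toModuleIso
      { toFun := fun x => ⟨x.1.1, Groth.Agent.LocCohBasic.mem_torsionSub_sup.2 ⟨x.1.2, by
            obtain ⟨m, hm⟩ := x.2
            exact ⟨m, fun a ha => congrArg Subtype.val (hm a ha)⟩⟩⟩
        map_add' := fun _ _ => rfl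
        map_smul' := fun _ _ => rfl
        invFun := fun x => ⟨⟨x.1, (Groth.Agent.LocCohBasic.mem_torsionSub_sup.1 x.2).1⟩, by
            obtain ⟨m, hm⟩ := (Groth.Agent.LocCohBasic.mem_torsionSub_sup.1 x.2).2
            exact ⟨m, fun a ha => Subtype.ext (hm a ha)⟩⟩
        left_inv := fun _ => rfl
        right_inv := fun _ => rfl }) (fun n m _ => rfl)
  exact ⟨(DRing.RgammaI J).mapIso ((DRing.RgammaI I).mapIso e.symm ≪≫ (asIso (RGammaLib.eta I C)).symm) ≪≫
    (asIso (RGammaLib.eta J _)).symm ≪≫ DerivedCategory.Q.mapIso t ≪≫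
    asIso (RGammaLib.eta (I ⊔ J) C) ≪≫ (DRing.RgammaI (I ⊔ J)).mapIso e⟩

end Groth.Agent.S1816
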