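import Groth.Statements.S1817
import Groth.Agent.RGammaLib.Torsion
-- import your own Groth.Agent.* helpers here

set_option autoImplicit false
universe u
open CategoryTheory
attribute [local instance] HasDerivedCategory.standard
open LocCoh

namespace Groth.Agent.S1817

/-- First statement, for a Noetherian ring (where the functor with supports in V(I) is RΓ_I). Let A be a
Noetherian ring and I an ideal, and assume RΓ_I exists as a total right derived functor. Then every
RΓ_I(K) has I-power torsion cohomology modules, and the resulting functor from D(A) to the full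
subcategory of such objects is right adjoint to the inclusion. -/
theorem result (A : Type u) [CommRing A] [IsNoetherianRing A] (I : Ideal A) [DRing.HasRgammaI I] : ∃ h : ∀ K : Dual.D A, (fun L : Dual.D A => ∀ i : ℤ, LocCoh.IsPowerTorsion I (Dual.HD A L i)) ((DRing.RgammaI I).obj K), Nonempty (ObjectProperty.ι (fun L : Dual.D A => ∀ i : ℤ, LocCoh.IsPowerTorsion I (Dual.HD A L i)) ⊣ ObjectProperty.lift (fun L : Dual.D A => ∀ i : ℤ, LocCoh.IsPowerTorsion I (Dual.HD A L i)) (DRing.RgammaI I) h) := by
  refine ⟨fun K j => RGammaLib.isPowerTorsion_RgammaI I K j, ⟨CategoryTheory.Adjunction.mkOfHomEquiv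
    { homEquiv := fun L K =>
        { toFun := fun f => ObjectProperty.homMk
            ((@asIso _ _ _ _ _ (RGammaLib.isIso_ε_of_torsion I L.obj L.property)).inv ≫ (DRing.RgammaI I).map f)
          invFun := fun g => g.hom ≫ (DRing.RgammaIε I).app K
          left_inv := fun f => ?_
          right_inv := fun g => ?_ }
      homEquiv_naturality_left_symm := fun f g => ?_
      homEquiv_naturality_right := fun f g => ?_ }⟩⟩
  · haveI := RGammaLib.isIso_ε_of_torsion I L.obj L.property
    dsimp only [ObjectProperty.homMk]
    rw [Category.assoc, asIso_inv, IsIso.inv_comp_eq]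
    exact (DRing.RgammaIε I).naturality f
  · haveI := RGammaLib.isIso_ε_of_torsion I L.obj L.property
    refine ObjectProperty.hom_ext _ ?_
    dsimp only [ObjectProperty.homMk]
    rw [asIso_inv, IsIso.inv_comp_eq, Functor.map_comp, RGammaLib.map_ε]
    exact (DRing.RgammaIε I).naturality g.hom
  · exact CategoryTheory.Category.assoc f.hom g.hom _
  · refine ObjectProperty.hom_ext _ ?_
    show _ ≫ (DRing.RgammaI I).map (f ≫ g) = (_ ≫ (DRing.RgammaI I).map f) ≫ (DRing.RgammaI I).map g
    rw [Functor.map_comp]
    exact (Category.assoc _ _ _).symm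

end Groth.Agent.S1817
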