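import Groth.Statements.S18174
import Mathlib
import Groth.Agent.FunFldLib.LimitSeries

set_option autoImplicit false
open FunFld

namespace Groth.Agent.S18174

/-- Let `k` be an algebraically closed field of characteristic zero and `K/k` a function field of one
variable (the function field of a smooth projective curve over `k`). A `g^r_d` is a divisor `D` of
degree `d` with a subspace `V ⊆ L(D)` of dimension `r + 1`; for a place `P` and `n ≥ 0`, `V(-nP) = V
∩ L(D - nP)` is the space of members vanishing to order at least `n` at `P`, so `dim V(-nP)` counts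
the vanishing orders `m_0 < ⋯ < m_r` of `V` at `P` that are at least `n`, and the weight of `V` at
`P` is `∑_{n=1}^{d} dim V(-nP) - r(r+1)/2`. Aspects `(D_Y, V_Y)` on `K_Y` and `(D_Z, V_Z)` on `K_Z`
of a limit `g^r_d` on two components meeting in a node (a place `P` of `K_Y` and a place `Q` of
`K_Z`) are compatible there when `m_i(V_Y, P) + m_{r-i}(V_Z, Q) = d` for every `i`, equivalently
`dim V_Y(-nP) + dim V_Z(-(d+1-n)Q) = r + 1` for `0 ≤ n ≤ d + 1`. Let the component `Y` (function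
field `K_Y`, aspect `(D_Y, V_Y)`) meet at the node `P` a chain of components `W_0, …, W_{n-1}`, `n ≥
1`, with aspects `(D_j, V_j)`, where `W_j` carries the node place `A_j` towards `Y` (for `j = 0`) or
towards `W_{j-1}`, and the node place `B_j ≠ A_j` towards `W_{j+1}` (for `j + 1 < n`); assume `W_0,
…, W_{n-2}` have genus `0`, `W_{n-1}` has positive genus, and consecutive aspects are compatible at
every node. Then `V_Y` has at least a cusp at `P`: `m_1(V_Y, P) ≥ 2`, that is `dim V_Y(-2P) ≥ r`.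
(The source assumes moreover that `Y` is rational; its argument does not use this, so that
hypothesis is omitted here.) (The source states this for curves over the complex numbers.) -/
theorem result
    (k : Type*) [Field k] [IsAlgClosed k] [CharZero k]
    (KY : Type*) [Field KY] [Algebra k KY] (hKY : FunFld.IsFunctionField k KY)
    (n : ℕ) (hn : 0 < n)
    (W : Fin n → Type*) [∀ j, Field (W j)] [∀ j, Algebra k (W j)]
    (hW : ∀ j, FunFld.IsFunctionField k (W j))
    (hrat : ∀ j : Fin n, (j : ℕ) + 1 < n → FunFld.genus k (W j) = 0)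
    (hpos : ∀ j : Fin n, (j : ℕ) + 1 = n → 0 < FunFld.genus k (W j))
    (d r : ℕ) (DY : FunFld.Divisor k KY) (hDY : DY.deg = d)
    (VY : Submodule k KY) (hVY : VY ≤ FunFld.L DY) (hVYr : Module.finrank k ↥VY = r + 1)
    (D : ∀ j, FunFld.Divisor k (W j)) (hD : ∀ j, (D j).deg = d)
    (V : ∀ j, Submodule k (W j)) (hV : ∀ j, V j ≤ FunFld.L (D j))
    (hVr : ∀ j, Module.finrank k ↥(V j) = r + 1)
    (P : FunFld.Place k KY) (A B : ∀ j, FunFld.Place k (W j))
    (hAB : ∀ j : Fin n, (j : ℕ) + 1 < n → A j ≠ B j)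
    (hcomp0 : ∀ m : ℕ, m ≤ d + 1 →
      Module.finrank k ↥(VY ⊓ FunFld.L (DY - Finsupp.single P ((m : ℤ)))) +
        Module.finrank k ↥((V ⟨0, hn⟩) ⊓ FunFld.L ((D ⟨0, hn⟩) - Finsupp.single (A ⟨0, hn⟩) ((d : ℤ) + 1 - m))) = r + 1)
    (hcomp : ∀ (j : Fin n) (hj : (j : ℕ) + 1 < n) (m : ℕ), m ≤ d + 1 →
      Module.finrank k ↥((V j) ⊓ FunFld.L ((D j) - Finsupp.single (B j) ((m : ℤ)))) +
        Module.finrank k ↥((V ⟨(j : ℕ) + 1, hj⟩) ⊓ FunFld.L ((D ⟨(j : ℕ) + 1, hj⟩) - Finsupp.single (A ⟨(j : ℕ) + 1, hj⟩) ((d : ℤ) + 1 - m))) = r + 1) :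
    r ≤ Module.finrank k ↥(VY ⊓ FunFld.L (DY - Finsupp.single P ((2 : ℤ)))) := by
  classical
  rcases Nat.eq_zero_or_pos d with rfl | hd
  · have := Groth.Agent.FunFldLib.two_vsum_ge hKY hDY hVY hVYr P
    simp [Groth.Agent.FunFldLib.vsum] at this
    subst this
    exact Nat.zero_le _
  obtain ⟨n, rfl⟩ : ∃ N, n = N + 1 := ⟨n - 1, by omega⟩
  have hpos' := hpos (Fin.last n) rfl
  have hAB' : ∀ i : Fin (n + 1), 0 < (i : ℕ) → (i : ℕ) < n → A i ≠ B i := fun i _ h => hAB i (by omega)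
  have hcomp' : ∀ (l : Fin n) (m : ℕ), m ≤ d + 1 →
      Groth.Agent.FunFldLib.dimAt (V l.castSucc) (D l.castSucc) (B l.castSucc) (m : ℤ) +
        Groth.Agent.FunFldLib.dimAt (V l.succ) (D l.succ) (A l.succ) ((d : ℤ) + 1 - m) = r + 1 :=
    fun l m hm => hcomp l.castSucc (by simp) m hm
  have key : Groth.Agent.FunFldLib.dimAt (V 0) (D 0) (A 0) ((d : ℤ) - 1) ≤ 1 := by
    rcases Nat.eq_zero_or_pos n with rfl | hn'
    · haveI := Groth.Agent.FunFldLib.finite_L (hW 0).1 (D 0 - Finsupp.single (A 0) ((d : ℤ) - 1))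
      refine (Submodule.finrank_mono inf_le_right).trans (Groth.Agent.FunFldLib.ell_le_one_of_deg_one (hW 0) hpos' ?_)
      rw [Groth.Agent.FunFldLib.deg_sub, Groth.Agent.FunFldLib.deg_single,
        Groth.Agent.FunFldLib.deg_eq_one (hW 0) _, hD]
      push_cast; ring
    · have h1 := Groth.Agent.FunFldLib.cusp_of_chain hW hD hV hVr hAB' hcomp' hpos' ⟨0, hn'⟩
      have h2 := Groth.Agent.FunFldLib.dimAt_add_le (hW 0) (hD 0) (hV 0) (hVr 0) (hAB 0 (by simp; omega))
        (a := (d : ℤ) - 1) (b := 2) (by omega)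
      change r ≤ Groth.Agent.FunFldLib.dimAt (V 0) (D 0) (B 0) 2 at h1
      omega
  have h0 := hcomp0 2 (by omega)
  rw [show (d : ℤ) + 1 - ((2 : ℕ) : ℤ) = (d : ℤ) - 1 by push_cast; ring] at h0
  change _ + Groth.Agent.FunFldLib.dimAt (V 0) (D 0) (A 0) ((d : ℤ) - 1) = r + 1 at h0
  push_cast at h0
  omega

end Groth.Agent.S18174
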