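import Groth.Statements.S18177
import Mathlib
import Groth.Agent.FunFldLib.LimitSeries

set_option autoImplicit false
open FunFld

namespace Groth.Agent.S18177

/-- Let `k` be an algebraically closed field of characteristic zero and `K/k` a function field of one
variable (the function field of a smooth projective curve over `k`). A `g^r_d` is a divisor `D` of
degree `d` with a subspace `V ⊆ L(D)` of dimension `r + 1`; for a place `P` and `n ≥ 0`, `V(-nP) = V
∩ L(D - nP)` is the space of members vanishing to order at least `n` at `P`, so `dim V(-nP)` counts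
the vanishing orders `m_0 < ⋯ < m_r` of `V` at `P` that are at least `n`, and the weight of `V` at
`P` is `∑_{n=1}^{d} dim V(-nP) - r(r+1)/2`. Let `(D, V)` be a `g^r_d` with `r ≥ 1` and `P ≠ Q`
places at which the weights are large: `w(V, P) + w(V, Q) ≥ (r+1)(d-r) - (r-1)`, that is `(r+1)d + 1
≤ ∑_{n=1}^{d} dim V(-nP) + ∑_{n=1}^{d} dim V(-nQ) + r`. Then `V` contains members with divisors `m_i
Q + (d - m_i) P` for two different indices `i`, and hence `m(Q - P)` is a principal divisor for some
`1 ≤ m ≤ d`. (In the source `K` is an elliptic tail of a degenerate curve, `P` its node and `Q` the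
limit of the moving ramification point, the weight hypothesis coming from `ρ ≤ 0`; it concludes that
only finitely many `Q` are possible. The torsion assertion holds in any genus and is what is stated
here.) (The source states this for curves over the complex numbers.) -/
theorem result
    (k : Type*) [Field k] [IsAlgClosed k] [CharZero k]
    (K : Type*) [Field K] [Algebra k K] (hK : FunFld.IsFunctionField k K)
    (d r : ℕ) (hr : 1 ≤ r) (D : FunFld.Divisor k K) (hD : D.deg = d)
    (V : Submodule k K) (hV : V ≤ FunFld.L D) (hVr : Module.finrank k ↥V = r + 1)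
    (P Q : FunFld.Place k K) (hPQ : P ≠ Q)
    (hw : (r + 1) * d + 1 ≤
      (∑ n ∈ Finset.range d, Module.finrank k ↥(V ⊓ FunFld.L (D - Finsupp.single P ((n : ℤ) + 1)))) +
        (∑ n ∈ Finset.range d, Module.finrank k ↥(V ⊓ FunFld.L (D - Finsupp.single Q ((n : ℤ) + 1)))) + r) :
    ∃ m : ℕ, 1 ≤ m ∧ m ≤ d ∧ ∃ h : K, h ≠ 0 ∧
      FunFld.div k h = Finsupp.single Q (m : ℤ) - Finsupp.single P (m : ℤ) := by
  classical
  set dP := fun z : ℤ => Groth.Agent.FunFldLib.dimAt V D P z with hdP
  set dQ := fun z : ℤ => Groth.Agent.FunFldLib.dimAt V D Q z with hdQ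
  haveI := Groth.Agent.FunFldLib.finite_V hK hV
  have h0 : ∀ R : FunFld.Place k K, Groth.Agent.FunFldLib.dimAt V D R 0 = r + 1 := fun R => by
    show Module.finrank k ↥(V ⊓ FunFld.L (D - Finsupp.single R 0)) = r + 1
    rw [Finsupp.single_zero, sub_zero, inf_eq_left.2 hV, hVr]
  let I : ℕ → Submodule k K := fun m =>
    (V ⊓ FunFld.L (D - Finsupp.single P (m : ℤ))) ⊓ (V ⊓ FunFld.L (D - Finsupp.single Q ((d : ℤ) - m)))
  have hdiv : ∀ m : ℕ, ∀ f ∈ I m, f ≠ 0 →
      FunFld.div k f + D = Finsupp.single P (m : ℤ) + Finsupp.single Q ((d : ℤ) - m) := by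
    intro m f hf hf0
    refine Groth.Agent.FunFldLib.div_eq_of_ge hK hf0 ((Groth.Agent.FunFldLib.mem_L_iff hf0).2 fun R => ?_) ?_
    · have h1 := (Groth.Agent.FunFldLib.mem_L_iff hf0).1 hf.1.2 R
      have h2 := (Groth.Agent.FunFldLib.mem_L_iff hf0).1 hf.2.2 R
      have h3 := (Groth.Agent.FunFldLib.mem_L_iff hf0).1 (hV hf.1.1) R
      simp only [Finsupp.sub_apply, Finsupp.add_apply, Finsupp.single_apply] at h1 h2 ⊢
      by_cases hR : P = R
      · subst hR; rw [if_pos rfl] at h1 ⊢; rw [if_neg (Ne.symm hPQ)] at h2 ⊢; omega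
      · by_cases hR' : Q = R
        · subst hR'; rw [if_pos rfl] at h2 ⊢; rw [if_neg hR] at h1 ⊢; omega
        · rw [if_neg hR, if_neg hR']; omega
    · rw [Groth.Agent.FunFldLib.deg_add, Groth.Agent.FunFldLib.deg_single, Groth.Agent.FunFldLib.deg_single,
        Groth.Agent.FunFldLib.deg_eq_one hK P, Groth.Agent.FunFldLib.deg_eq_one hK Q, hD]
      push_cast; omega
  have hI1 : ∀ m : ℕ, Module.finrank k ↥(I m) ≤ 1 := by
    intro m
    set E := D - (Finsupp.single P (m : ℤ) + Finsupp.single Q ((d : ℤ) - m))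
    haveI := Groth.Agent.FunFldLib.finite_L hK.1 E
    refine (Submodule.finrank_mono ?_).trans (Groth.Agent.FunFldLib.ell_le_one_of_deg_zero hK (D := E) ?_)
    · intro f hf
      by_cases hf0 : f = 0
      · rw [hf0]; exact zero_mem _
      refine (Groth.Agent.FunFldLib.mem_L_iff hf0).2 fun R => le_of_eq ?_
      have := congrArg (fun X : FunFld.Divisor k K => X R) (hdiv m f hf hf0)
      simp only [Finsupp.add_apply, Groth.Agent.FunFldLib.div_apply hK.1] at this
      simp only [E, Finsupp.sub_apply, Finsupp.add_apply]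
      omega
    · rw [Groth.Agent.FunFldLib.deg_sub, Groth.Agent.FunFldLib.deg_add, Groth.Agent.FunFldLib.deg_single,
        Groth.Agent.FunFldLib.deg_single, Groth.Agent.FunFldLib.deg_eq_one hK P, Groth.Agent.FunFldLib.deg_eq_one hK Q, hD]
      push_cast; ring
  have hexc : ∀ m : ℕ, dP (m : ℤ) + dQ ((d : ℤ) - m) ≤ r + 1 + Module.finrank k ↥(I m) := by
    intro m
    have h := Submodule.finrank_sup_add_finrank_inf_eq (V ⊓ FunFld.L (D - Finsupp.single P (m : ℤ)))
      (V ⊓ FunFld.L (D - Finsupp.single Q ((d : ℤ) - m)))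
    have h2 := Submodule.finrank_mono (show (V ⊓ FunFld.L (D - Finsupp.single P (m : ℤ))) ⊔
      (V ⊓ FunFld.L (D - Finsupp.single Q ((d : ℤ) - m))) ≤ V from sup_le inf_le_left inf_le_left)
    simp only [hdP, hdQ, Groth.Agent.FunFldLib.dimAt, I]
    omega
  have hsum : ∑ m ∈ Finset.range (d + 1), (dP (m : ℤ) + dQ ((d : ℤ) - m)) + r ≥ (r + 1) * (d + 2) + 1 := by
    rw [Finset.sum_add_distrib]
    have eQ : ∑ m ∈ Finset.range (d + 1), dQ ((d : ℤ) - m) = ∑ m ∈ Finset.range (d + 1), dQ (m : ℤ) := by
      rw [← Finset.sum_range_reflect (fun m : ℕ => dQ (m : ℤ))]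
      refine Finset.sum_congr rfl fun m hm => ?_
      rw [Finset.mem_range] at hm
      congr 1
      omega
    rw [eQ, Finset.sum_range_succ', Finset.sum_range_succ' (fun m : ℕ => dQ (m : ℤ))]
    simp only [hdP, hdQ, Nat.cast_zero, h0, Nat.cast_succ]
    simp only [Groth.Agent.FunFldLib.dimAt]
    ring_nf
    ring_nf at hw
    omega
  have htwo : 2 ≤ ((Finset.range (d + 1)).filter fun m => I m ≠ ⊥).card := by
    have h1 : ∑ m ∈ Finset.range (d + 1), Module.finrank k ↥(I m) ≤
        ((Finset.range (d + 1)).filter fun m => I m ≠ ⊥).card := by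
      rw [Finset.card_filter]
      refine Finset.sum_le_sum fun m _ => ?_
      split_ifs with h
      · exact hI1 m
      · rw [not_not.1 h, finrank_bot]
    have h2 := Finset.sum_le_sum fun m (_ : m ∈ Finset.range (d + 1)) => hexc m
    rw [Finset.sum_add_distrib (f := fun _ => r + 1), Finset.sum_const, Finset.card_range, smul_eq_mul] at h2
    nlinarith
  obtain ⟨a, ha, b, hb, hab⟩ := Finset.one_lt_card.1 htwo
  wlog hlt : a < b generalizing a b
  · exact this b hb a ha (Ne.symm hab) (by omega)
  rw [Finset.mem_filter, Finset.mem_range] at ha hb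
  obtain ⟨f, hf, hf0⟩ := Submodule.exists_mem_ne_zero_of_ne_bot ha.2
  obtain ⟨g, hg, hg0⟩ := Submodule.exists_mem_ne_zero_of_ne_bot hb.2
  refine ⟨b - a, by omega, by omega, f / g, div_ne_zero hf0 hg0, ?_⟩
  refine Finsupp.ext fun R => ?_
  have h1 := congrArg (fun X : FunFld.Divisor k K => X R) (hdiv a f hf hf0)
  have h2 := congrArg (fun X : FunFld.Divisor k K => X R) (hdiv b g hg hg0)
  simp only [Finsupp.add_apply, Groth.Agent.FunFldLib.div_apply hK.1, Finsupp.single_apply] at h1 h2
  simp only [Groth.Agent.FunFldLib.div_apply hK.1, Finsupp.sub_apply, Finsupp.single_apply,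
    Groth.Agent.FunFldLib.ord_div R hf0 hg0]
  split_ifs at h1 h2 ⊢ <;> omega

end Groth.Agent.S18177
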