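import Groth.Statements.S18187
import Mathlib.RingTheory.Flat.Basic
import Groth.Agent.ArtHull.General
import Groth.Agent.ArtHull.Cond
-- import your own Groth.Agent.* helpers here

set_option autoImplicit false
universe u v
open CategoryTheory
open T1Lift

namespace Groth.Agent.S18187

/-- In the set-valued case, let k be a field of characteristic zero and F a functor on local Artinian
k-algebras with residue field k such that F(k) is one point, F satisfies the Rim–Schlessinger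
condition (for every fibre-product square A' ×_A A'' with A'' → A surjective the comparison map F(A'
×_A A'') → F(A') ×_{F(A)} F(A'') is bijective), and F has an obstruction theory with values in a
k-vector space V which is moreover functorial for every commutative square of surjections whose
kernels are killed by the maximal ideal. Write A_m = k[t]/(t^(m+1)), B_m = A_m[y]/(y²), α : A_(m+1)
→ A_m and ξ : B_(m+1) → B_m for t ↦ t, β : B_m → A_m for y ↦ 0 and ε : A_(m+1) → B_m for t ↦ t + y.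
Then an element X ∈ F(A_(n+1)) lifts to F(A_(n+2)) along α if and only if there is Y ∈ F(B_(n+1))
with F(β) Y = X and F(ξ) Y = F(ε) X, i.e. if and only if the element of the first-order tangent set
T¹(F(α)X / A_n) defined by F(ε) X lies in the image of T¹(X / A_(n+1)). (Stated here for functors
with values in sets; the version for predeformation categories in groupoids satisfying the
Rim–Schlessinger condition specialises to it. The functoriality of the obstruction theory for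
arbitrary commutative squares is an explicit hypothesis, pinned through linear maps between the
kernels that agree with the given ring map.) -/
theorem result (k : Type u) [Field k] [CharZero k]
    (F : ArtFun.Art k k ⥤ Type v) (h0 : ArtFun.H0 F)
    (hRS : ∀ ⦃P A A' A'' : ArtFun.Art k k⦄ (p' : P ⟶ A') (p'' : P ⟶ A'') (f' : A' ⟶ A) (f'' : A'' ⟶ A)
      (h : ArtFun.Art.IsFibreProd p' p'' f' f''), Function.Surjective f'' → Function.Bijective (ArtFun.cmp F h))
    (V : Type u) [AddCommGroup V] [Module k V] (O : ArtFun.ObsTheory F V)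
    (hnat : ∀ ⦃A' A C' C : ArtFun.Art k k⦄ (φ : A' ⟶ A) (hφ : ArtFun.Art.IsSemismallExt φ)
      (ψ : C' ⟶ C) (hψ : ArtFun.Art.IsSemismallExt ψ) (g' : A' ⟶ C') (g : A ⟶ C), φ ≫ g = g' ≫ ψ →
      ∀ (ℓ : ↥(RingHom.ker φ.toAlgHom) →ₗ[k] ↥(RingHom.ker ψ.toAlgHom)),
        (∀ j : ↥(RingHom.ker φ.toAlgHom), ((ℓ j : ↥(RingHom.ker ψ.toAlgHom)) : C') = g' (j : A')) →
        ∀ u : F.obj A, O.obs ψ hψ (F.map g u) = LinearMap.lTensor V ℓ (O.obs φ hφ u))
    (n : ℕ) (X : F.obj (T1Lift.A k (n + 1))) :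
    (∃ X' : F.obj (T1Lift.A k (n + 2)), F.map (T1Lift.α k (n + 1)) X' = X) ↔
      ∃ Y : F.obj (T1Lift.B k (n + 1)), F.map (T1Lift.β k (n + 1)) Y = X ∧
        F.map (T1Lift.ξ k n) Y = F.map (T1Lift.ε k n) X := by
  have hap : ∀ {C D : ArtFun.Art k k} {φ φ' : C ⟶ D}, φ = φ' → ∀ x, φ.toAlgHom x = φ'.toAlgHom x :=
    fun h x => by rw [h]
  have hmk : ∀ m (p : Polynomial k), T1Lift.αAlg k m (AdjoinRoot.mk _ p) = AdjoinRoot.mk _ p := fun m p => by
    rw [← AdjoinRoot.aeval_eq p, ← Polynomial.aeval_algHom_apply, ← AdjoinRoot.aeval_eq p]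
    exact congrArg (fun r => Polynomial.aeval r p) (T1Lift.αAlg_t k m)
  have hαs : ∀ m, Function.Surjective (T1Lift.αAlg k m) := fun m a => by
    obtain ⟨p, rfl⟩ := AdjoinRoot.mk_surjective a
    exact ⟨_, hmk m p⟩
  have hker : ∀ m (a : T1Lift.Tr k (m + 1)), T1Lift.αAlg k m a = 0 →
      ∃ c : k, a = c • T1Lift.t k (m + 1) ^ (m + 1) := fun m a ha => by
    obtain ⟨p, rfl⟩ := AdjoinRoot.mk_surjective a
    rw [hmk, AdjoinRoot.mk_eq_zero] at ha
    obtain ⟨q, rfl⟩ := ha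
    obtain ⟨b, hb⟩ := T1Lift.eq_algebraMap_add_t_mul k (m + 1) (AdjoinRoot.mk _ q)
    refine ⟨T1Lift.resA k (m + 1) (AdjoinRoot.mk _ q), ?_⟩
    rw [map_mul, map_pow, AdjoinRoot.mk_X]
    conv_lhs => rw [hb]
    rw [mul_add, ← mul_assoc, ← pow_succ, T1Lift.t_pow, zero_mul, add_zero, Algebra.smul_def, mul_comm]
  have htne : ∀ m, T1Lift.t k (m + 1) ^ (m + 1) ≠ 0 := fun m h => by
    rw [show T1Lift.t k (m + 1) = AdjoinRoot.mk _ Polynomial.X from AdjoinRoot.mk_X.symm, ← map_pow,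
      AdjoinRoot.mk_eq_zero,
      pow_dvd_pow_iff Polynomial.X_ne_zero Polynomial.not_isUnit_X] at h
    omega
  have hkill : ∀ m (a b : T1Lift.Tr k (m + 1)), T1Lift.resA k (m + 1) a = 0 → T1Lift.αAlg k m b = 0 → a * b = 0 :=
    fun m a b ha hb => by
      obtain ⟨c, rfl⟩ := hker m b hb
      obtain ⟨a', ha'⟩ := T1Lift.eq_algebraMap_add_t_mul k (m + 1) a
      rw [ha', ha, map_zero, zero_add, mul_smul_comm, mul_right_comm, ← pow_succ', T1Lift.t_pow, zero_mul,
        smul_zero]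
  have w₁ : T1Lift.ε k (n + 1) ≫ T1Lift.β k (n + 1) = T1Lift.α k (n + 1) := by
    refine ArtFun.Art.hom_ext (AdjoinRoot.algHom_ext ?_)
    change (T1Lift.εAlg k (n + 1) (T1Lift.t k (n + 1 + 1))).fst = T1Lift.αAlg k (n + 1) (T1Lift.t k (n + 1 + 1))
    rw [T1Lift.εAlg_t, T1Lift.αAlg_t, TrivSqZeroExt.fst_add, TrivSqZeroExt.fst_inl, DualNumber.fst_eps, add_zero]
  have w₂ : T1Lift.ε k (n + 1) ≫ T1Lift.ξ k n = T1Lift.α k (n + 1) ≫ T1Lift.ε k n := by
    refine ArtFun.Art.hom_ext (AdjoinRoot.algHom_ext ?_)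
    change T1Lift.dualMap k (T1Lift.αAlg k n) (T1Lift.εAlg k (n + 1) (T1Lift.t k (n + 1 + 1))) =
      T1Lift.εAlg k n (T1Lift.αAlg k (n + 1) (T1Lift.t k (n + 1 + 1)))
    rw [T1Lift.εAlg_t, T1Lift.αAlg_t, T1Lift.εAlg_t, map_add]
    congr 1
    · exact TrivSqZeroExt.ext (T1Lift.αAlg_t k n) (map_zero _)
    · exact TrivSqZeroExt.ext (map_zero _) (map_one _)
  have w₃ : T1Lift.ε k n ≫ T1Lift.β k n = T1Lift.α k n := by
    refine ArtFun.Art.hom_ext (AdjoinRoot.algHom_ext ?_)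
    change (T1Lift.εAlg k n (T1Lift.t k (n + 1))).fst = T1Lift.αAlg k n (T1Lift.t k (n + 1))
    rw [T1Lift.εAlg_t, T1Lift.αAlg_t, TrivSqZeroExt.fst_add, TrivSqZeroExt.fst_inl, DualNumber.fst_eps, add_zero]
  constructor
  · rintro ⟨X', rfl⟩
    refine ⟨F.map (T1Lift.ε k (n + 1)) X', ?_, ?_⟩
    · rw [ArtHull.map_map_apply, w₁]
    · rw [ArtHull.map_map_apply, ArtHull.map_map_apply, w₂]
  rintro ⟨Y, hY₁, hY₂⟩
  obtain ⟨P, q₁, q₂, hP⟩ := ArtHull.exists_fibreProd_of_surjective (T1Lift.β k n) (T1Lift.α k n) (hαs n)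
  obtain ⟨ψ, hψ₁, hψ₂⟩ := ArtHull.fibreProd_liftHom hP (T1Lift.ξ k n) (T1Lift.β k (n + 1))
    (ArtFun.Art.hom_ext (AlgHom.ext fun _ => rfl))
  obtain ⟨g, hg₁, hg₂⟩ := ArtHull.fibreProd_liftHom hP (T1Lift.ε k n) (𝟙 _)
    (w₃.trans (Category.id_comp _).symm)
  have hψs : Function.Surjective ψ := fun z => by
    let x : DualNumber (T1Lift.Tr k n) := q₁ z
    let a : T1Lift.Tr k (n + 1) := q₂ z
    obtain ⟨b, hb⟩ := hαs n x.snd
    let w : DualNumber (T1Lift.Tr k (n + 1)) := TrivSqZeroExt.inl a + TrivSqZeroExt.inr b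
    refine ⟨w, hP.inj _ _ ?_ ?_⟩
    · refine (hap hψ₁ w).trans ?_
      change T1Lift.dualMap k (T1Lift.αAlg k n) w = x
      refine TrivSqZeroExt.ext ?_ ?_
      · change T1Lift.αAlg k n w.fst = x.fst
        rw [show w.fst = a by simp [w]]
        exact (hP.w_apply z).symm
      · change T1Lift.αAlg k n w.snd = x.snd
        rw [show w.snd = b by simp [w], hb]
    · refine (hap hψ₂ w).trans ?_
      change w.fst = a
      simp [w]
  have hψe : ArtFun.Art.IsSemismallExt ψ := by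
    refine ⟨hψs, le_bot_iff.1 (Ideal.mul_le.2 fun c hc d hd => ?_)⟩
    have hd₁ : T1Lift.dualMap k (T1Lift.αAlg k n) (d : DualNumber (T1Lift.Tr k (n + 1))) = 0 :=
      (hap hψ₁ d).symm.trans
        ((congrArg q₁.toAlgHom (RingHom.mem_ker.1 hd)).trans (map_zero _))
    have hd₂ : (d : DualNumber (T1Lift.Tr k (n + 1))).fst = 0 :=
      (hap hψ₂ d).symm.trans
        ((congrArg q₂.toAlgHom (RingHom.mem_ker.1 hd)).trans (map_zero _))
    have hc' : T1Lift.resA k (n + 1) (c : DualNumber (T1Lift.Tr k (n + 1))).fst = 0 :=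
      (ArtFun.Art.mem_maximalIdeal_iff _ c).1 hc
    have key : ∀ c d : DualNumber (T1Lift.Tr k (n + 1)), d.fst = 0 → c.fst * d.snd = 0 → c * d = 0 :=
      fun c d h₁ h₂ => TrivSqZeroExt.ext (by rw [TrivSqZeroExt.fst_mul, h₁, mul_zero]; rfl)
        (by simp [TrivSqZeroExt.snd_mul, h₁, h₂])
    exact (Submodule.mem_bot _).2 (key c d hd₂ (hkill n _ _ hc'
      (congrArg TrivSqZeroExt.snd hd₁ : T1Lift.αAlg k n (d : DualNumber (T1Lift.Tr k (n + 1))).snd = _)))
  have hφe : ArtFun.Art.IsSemismallExt (T1Lift.α k (n + 1)) := by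
    refine ⟨hαs (n + 1), le_bot_iff.1 (Ideal.mul_le.2 fun c hc d hd => ?_)⟩
    exact (Submodule.mem_bot _).2 (hkill (n + 1) c d ((ArtFun.Art.mem_maximalIdeal_iff _ c).1 hc)
      (RingHom.mem_ker.1 hd))
  have w₄ : T1Lift.α k (n + 1) ≫ g = T1Lift.ε k (n + 1) ≫ ψ := by
    refine ArtFun.Art.hom_ext (AlgHom.ext fun a => hP.inj _ _ ?_ ?_)
    · exact (fun H => hap H a) (show (T1Lift.α k (n + 1) ≫ g) ≫ q₁ = (T1Lift.ε k (n + 1) ≫ ψ) ≫ q₁ by
        rw [Category.assoc, hg₁, Category.assoc, hψ₁, w₂])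
    · exact (fun H => hap H a) (show (T1Lift.α k (n + 1) ≫ g) ≫ q₂ = (T1Lift.ε k (n + 1) ≫ ψ) ≫ q₂ by
        rw [Category.assoc, hg₂, Category.assoc, hψ₂, w₁, Category.comp_id])
  let ℓ : ↥(RingHom.ker (T1Lift.α k (n + 1)).toAlgHom) →ₗ[k] ↥(RingHom.ker ψ.toAlgHom) :=
    { toFun := fun j => ⟨(T1Lift.ε k (n + 1)).toAlgHom j, by
        rw [RingHom.mem_ker]
        refine (hap w₄ (j : (T1Lift.A k (n + 1 + 1)).carrier)).symm.trans ?_
        exact (congrArg g.toAlgHom (RingHom.mem_ker.1 j.2)).trans (map_zero _)⟩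
      map_add' := fun a b => Subtype.ext (map_add (T1Lift.ε k (n + 1)).toAlgHom _ _)
      map_smul' := fun c a => Subtype.ext (map_smul (T1Lift.ε k (n + 1)).toAlgHom c _) }
  have hℓ : Function.Injective ℓ := by
    rw [← LinearMap.ker_eq_bot, LinearMap.ker_eq_bot']
    intro j hj
    obtain ⟨c, hc⟩ := hker (n + 1) (j : (T1Lift.A k (n + 1 + 1)).carrier) (RingHom.mem_ker.1 j.2)
    have h1 : (T1Lift.εAlg k (n + 1) (c • T1Lift.t k (n + 1 + 1) ^ (n + 1 + 1))).snd = 0 := by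
      rw [← hc]
      exact congrArg TrivSqZeroExt.snd (congrArg Subtype.val hj)
    rw [map_smul, map_pow, T1Lift.εAlg_t, TrivSqZeroExt.snd_smul, TrivSqZeroExt.snd_pow] at h1
    simp only [TrivSqZeroExt.fst_add, TrivSqZeroExt.fst_inl, DualNumber.fst_eps, add_zero,
      TrivSqZeroExt.snd_add, TrivSqZeroExt.snd_inl, DualNumber.snd_eps, zero_add, smul_eq_mul, mul_one,
      Nat.pred_succ, nsmul_eq_mul] at h1
    refine Subtype.ext (hc.trans ?_)
    rcases eq_or_ne c 0 with rfl | hc0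
    · exact zero_smul _ _
    · rw [smul_eq_zero_iff_right hc0] at h1
      refine absurd ((IsUnit.mul_right_eq_zero ?_).1 h1) (htne n)
      rw [← map_natCast (algebraMap k (T1Lift.Tr k (n + 1)))]
      exact (Ne.isUnit (Nat.cast_ne_zero.2 (Nat.succ_ne_zero _))).map _
  have hflat : Function.Injective (LinearMap.lTensor V ℓ) := Module.Flat.lTensor_preserves_injective_linearMap ℓ hℓ
  rw [← O.obs_eq_zero_iff _ hφe]
  apply hflat
  rw [← hnat (T1Lift.α k (n + 1)) hφe ψ hψe (T1Lift.ε k (n + 1)) g w₄ ℓ (fun _ => rfl), map_zero,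
    O.obs_eq_zero_iff]
  refine ⟨Y, (hRS _ _ _ _ hP (hαs n)).1 ((ArtHull.cmp_eq_iff hP).mpr ⟨?_, ?_⟩)⟩
  · rw [ArtHull.map_map_apply, hψ₁, ArtHull.map_map_apply, hg₁, hY₂]
  · rw [ArtHull.map_map_apply, hψ₂, ArtHull.map_map_apply, hg₂, hY₁, ArtHull.map_id_elt]

end Groth.Agent.S18187
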