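import Groth.Statements.S18189
import Groth.Agent.DedSum.Basic

set_option autoImplicit false
open OrbRR

namespace Groth.Agent.S18189

/-- Let N ≥ 1 be a natural number, let ζ ∈ ℂ be a primitive N-th root of unity, and put f(i) = i(i −
N)/2 + (N² − 1)/12 for 0 ≤ i < N. For every natural number m the complex number ε_m = (1/N)
∑_{i=0}^{N−1} f(i) ζ^{mi}, an eigenvalue of the symmetric circulant N × N matrix with (i, j) entry
f(j − i)/N, is real and nonnegative. -/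
theorem result (N : ℕ) (hN : 0 < N) (ζ : ℂ)
    (hζ : IsPrimitiveRoot ζ N) (m : ℕ) :
    (∑ i ∈ Finset.range N,
        ((i : ℂ) * ((i : ℂ) - (N : ℂ)) / 2 + ((N : ℂ) ^ 2 - 1) / 12) / (N : ℂ) * ζ ^ (m * i)).im = 0 ∧
    0 ≤ (∑ i ∈ Finset.range N,
        ((i : ℂ) * ((i : ℂ) - (N : ℂ)) / 2 + ((N : ℂ) ^ 2 - 1) / 12) / (N : ℂ) * ζ ^ (m * i)).re := by
  have hN0 : (N : ℂ) ≠ 0 := Nat.cast_ne_zero.2 (by omega)
  have hf : ∀ i ∈ Finset.range N, ((i : ℂ) * ((i : ℂ) - (N : ℂ)) / 2 + ((N : ℂ) ^ 2 - 1) / 12) / (N : ℂ) * ζ ^ (m * i) =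
      ∑ l ∈ Finset.Ioo 0 N, ((ζ ^ l * ζ ^ m) ^ i) / (2 - ζ ^ l - (ζ ^ l)⁻¹) / (N : ℂ) := fun i hi => by
    rw [← Groth.Agent.DedSum.formula (by norm_num) N i (Finset.mem_range.1 hi) ζ hζ, Finset.sum_div, Finset.sum_mul]
    exact Finset.sum_congr rfl fun l _ => by rw [mul_pow, ← pow_mul, ← pow_mul]; ring
  have hz : ∀ y : ℂ, y ^ N = 1 → y ≠ 1 → ∑ i ∈ Finset.range N, y ^ i = 0 := fun y h1 h2 => by
    rw [geom_sum_eq h2, h1, sub_self, zero_div]
  rw [Finset.sum_congr rfl hf, Finset.sum_comm]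
  simp only [← Finset.sum_div]
  by_cases hm : N ∣ m
  · rw [Finset.sum_eq_zero fun l hl => by
      rw [Finset.mem_Ioo] at hl
      rw [(hζ.pow_eq_one_iff_dvd m).2 hm, mul_one, hz _ (by rw [← pow_mul, mul_comm, pow_mul, hζ.pow_eq_one, one_pow])
        (hζ.pow_ne_one_of_pos_of_lt (by omega) hl.2), zero_div]]
    simp
  · obtain ⟨l₀, hl₀, hinv⟩ : ∃ l₀ ∈ Finset.Ioo 0 N, ζ ^ l₀ * ζ ^ m = 1 := by
      have h1 : m % N ≠ 0 := fun h => hm (Nat.dvd_of_mod_eq_zero h)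
      have h2 := Nat.mod_lt m hN
      refine ⟨N - m % N, Finset.mem_Ioo.2 ⟨by omega, by omega⟩, ?_⟩
      rw [← pow_add, hζ.pow_eq_one_iff_dvd]
      exact ⟨m / N + 1, by have := Nat.div_add_mod m N; rw [mul_add, mul_one]; omega⟩
    rw [Finset.sum_eq_single l₀]
    · rw [hinv]
      simp only [one_pow, Finset.sum_const, Finset.card_range, nsmul_eq_mul, mul_one]
      rw [div_div, mul_comm, ← div_div, div_self hN0]
      have hn : ‖ζ ^ l₀‖ = 1 := by rw [norm_pow, hζ.norm'_eq_one (by omega), one_pow]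
      rw [Complex.inv_eq_conj hn]
      have hre : (ζ ^ l₀).re ≤ 1 := (Complex.re_le_norm _).trans hn.le
      generalize hzz : ζ ^ l₀ = z at hre ⊢
      have : (2 : ℂ) - z - (starRingEnd ℂ) z = ((2 - 2 * z.re : ℝ) : ℂ) := by
        apply Complex.ext <;> simp <;> ring
      rw [this, ← Complex.ofReal_one, ← Complex.ofReal_div]
      exact ⟨Complex.ofReal_im _, by rw [Complex.ofReal_re]; exact div_nonneg zero_le_one (by linarith)⟩
    · intro l hl hne
      rw [Finset.mem_Ioo] at hl hl₀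
      rw [hz, zero_div]
      · rw [mul_pow, ← pow_mul, ← pow_mul, mul_comm l N, mul_comm m N, pow_mul, pow_mul, hζ.pow_eq_one, one_pow, one_pow, mul_one]
      · intro h
        have hm0 : ζ ^ m ≠ 0 := pow_ne_zero _ (hζ.ne_zero (by omega))
        exact hne (hζ.pow_inj hl.2 hl₀.2 (mul_right_cancel₀ hm0 (h.trans hinv.symm)))
    · intro h; exact absurd hl₀ h

end Groth.Agent.S18189
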