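import Groth.Statements.S18190
import Mathlib


set_option autoImplicit false
open OrbRR

namespace Groth.Agent.S18190

private noncomputable def g (N : ℕ) (x : ZMod N) : ℝ :=
  ((x.val : ℝ) * ((x.val : ℝ) - (N : ℝ))) / 2 + ((N : ℝ) ^ 2 - 1) / 12

private theorem g_symm (N : ℕ) [NeZero N] (x : ZMod N) : g N (-x) = g N x := by
  rcases eq_or_ne x 0 with rfl | hx
  · rw [neg_zero]
  · have : NeZero x := ⟨hx⟩
    unfold g
    rw [ZMod.val_neg_of_ne_zero, Nat.cast_sub (ZMod.val_lt x).le]
    ring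

private theorem g_diff (N : ℕ) [NeZero N] (x : ZMod N) :
    g N (x + 1) - 2 * g N x + g N (x - 1) = 1 - (N : ℝ) * (if x = 0 then 1 else 0) := by
  have hval : ∀ (j : ℕ), j ≤ N → g N (j : ZMod N) =
      ((j : ℝ) * ((j : ℝ) - N)) / 2 + ((N : ℝ) ^ 2 - 1) / 12 := by
    intro j hj
    rcases hj.lt_or_eq with h | rfl
    · unfold g; rw [ZMod.val_natCast_of_lt h]
    · unfold g; simp
  obtain ⟨k, hk, rfl⟩ : ∃ k, k < N ∧ (k : ZMod N) = x := ⟨x.val, ZMod.val_lt x, ZMod.natCast_zmod_val x⟩
  rcases Nat.eq_zero_or_pos k with rfl | hpos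
  · have hN : 1 ≤ N := hk
    have h1 : g N (((0 : ℕ) : ZMod N) + 1) = g N ((1 : ℕ) : ZMod N) := by simp
    have h2 : g N (((0 : ℕ) : ZMod N) - 1) = g N ((1 : ℕ) : ZMod N) := by
      rw [← g_symm N ((1 : ℕ) : ZMod N)]; simp
    rw [h1, h2, hval 1 hN, hval 0 (Nat.zero_le _)]
    simp only [Nat.cast_zero, Nat.cast_one, if_true]
    ring
  · have hne : (k : ZMod N) ≠ 0 := by
      intro h
      have := ZMod.val_natCast_of_lt hk
      rw [h, ZMod.val_zero] at this
      omega
    have h1 : (k : ZMod N) + 1 = ((k + 1 : ℕ) : ZMod N) := by push_cast; rfl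
    have h2 : (k : ZMod N) - 1 = ((k - 1 : ℕ) : ZMod N) := by
      rw [Nat.cast_sub hpos]; simp
    rw [h1, h2, hval _ hk, hval _ hk.le, hval _ (by omega), if_neg hne, Nat.cast_sub hpos]
    push_cast
    ring

private theorem g_sum (N : ℕ) [NeZero N] : ∑ x : ZMod N, g N x = 0 := by
  have key : ∀ M : ℕ, ∑ j ∈ Finset.range M, (((j : ℝ) * ((j : ℝ) - N)) / 2 + ((N : ℝ) ^ 2 - 1) / 12) =
      ((M : ℝ) - 1) * M * (2 * M - 1) / 12 - (N : ℝ) * (((M : ℝ) - 1) * M) / 4 + M * (((N : ℝ) ^ 2 - 1) / 12) := by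
    intro M
    induction M with
    | zero => simp
    | succ M ih => rw [Finset.sum_range_succ, ih]; push_cast; ring
  have h : ∑ x : ZMod N, g N x =
      ∑ j ∈ Finset.range N, (((j : ℝ) * ((j : ℝ) - N)) / 2 + ((N : ℝ) ^ 2 - 1) / 12) := by
    refine Finset.sum_nbij' (fun x : ZMod N => x.val) (fun j => (j : ZMod N)) ?_ ?_ ?_ ?_ ?_
    · intro x _; simp [ZMod.val_lt]
    · intro j _; simp
    · intro x _; simp
    · intro j hj; exact ZMod.val_natCast_of_lt (Finset.mem_range.1 hj)
    · intro x _; rfl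
  rw [h, key]
  ring



/-- Let N ≥ 1 and let f : ℤ/Nℤ → ℚ be f(x) = x(x − N)/2 + (N² − 1)/12, where x is read as its
representative with 0 ≤ x < N. The real N × N matrix indexed by ℤ/Nℤ whose (i, j) entry is f(j −
i)/N, a symmetric circulant matrix, is positive semidefinite. -/
theorem result (N : ℕ) [NeZero N] :
    (Matrix.of fun i j : ZMod N =>
        ((((j - i).val : ℝ) * (((j - i).val : ℝ) - (N : ℝ))) / 2 + ((N : ℝ) ^ 2 - 1) / 12) / (N : ℝ)).PosSemidef := by
  classical
  have hN : (0 : ℝ) < N := by exact_mod_cast Nat.pos_of_ne_zero (NeZero.ne N)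
  rw [Matrix.posSemidef_iff_dotProduct_mulVec]
  refine ⟨?_, fun v => ?_⟩
  · ext i j
    simp only [Matrix.conjTranspose_apply, Matrix.of_apply, star_trivial]
    have := g_symm N (j - i)
    rw [neg_sub] at this
    simp only [g] at this
    rw [this]
  · simp only [star_trivial]
    set u : ZMod N → ℝ := fun i => ∑ j, g N (j - i) / N * v j with hu
    have hm : ∀ i, (Matrix.of fun i j : ZMod N =>
        ((((j - i).val : ℝ) * (((j - i).val : ℝ) - (N : ℝ))) / 2 + ((N : ℝ) ^ 2 - 1) / 12) / (N : ℝ)).mulVec v i = u i :=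
      fun i => rfl
    have hsum : ∑ i, u i = 0 := by
      simp only [hu]
      rw [Finset.sum_comm]
      refine Finset.sum_eq_zero fun j _ => ?_
      rw [← Finset.sum_mul, ← Finset.sum_div,
        Fintype.sum_equiv (Equiv.subLeft j) (fun i => g N (j - i)) (g N) (fun i => rfl), g_sum]
      simp
    have hlap : ∀ i, v i = (∑ j, v j) / N - (u (i + 1) - 2 * u i + u (i - 1)) := by
      intro i
      have : u (i + 1) - 2 * u i + u (i - 1) =
          ∑ j, (1 - (N : ℝ) * (if j - i = 0 then 1 else 0)) / N * v j := by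
        simp only [hu, Finset.mul_sum, ← Finset.sum_sub_distrib, ← Finset.sum_add_distrib]
        refine Finset.sum_congr rfl fun j _ => ?_
        rw [← g_diff N (j - i), show j - (i + 1) = j - i - 1 by abel,
          show j - (i - 1) = j - i + 1 by abel]
        ring
      rw [this]
      simp only [sub_div, mul_ite, mul_one, mul_zero, sub_eq_zero, ite_div, zero_div, sub_mul, ite_mul,
        zero_mul, Finset.sum_sub_distrib, Finset.sum_ite_eq', Finset.mem_univ, if_true]
      rw [div_self hN.ne', one_mul, ← Finset.mul_sum]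
      ring
    simp only [dotProduct, hm]
    have e1 : ∑ i, v i * u i = ∑ i, (u (i + 1) - u i) ^ 2 := by
      have s1 : ∑ i, u i * u (i - 1) = ∑ i, u (i + 1) * u i :=
        (Fintype.sum_equiv (Equiv.addRight (1 : ZMod N)) _ _ (fun i => by simp)).symm
      have s2 : ∑ i, u (i + 1) ^ 2 = ∑ i, u i ^ 2 :=
        Fintype.sum_equiv (Equiv.addRight (1 : ZMod N)) (fun i => u (i + 1) ^ 2) (fun i => u i ^ 2) (fun i => rfl)
      calc ∑ i, v i * u i = ∑ i, ((∑ j, v j) / N - (u (i + 1) - 2 * u i + u (i - 1))) * u i :=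
            Finset.sum_congr rfl fun i _ => by rw [← hlap i]
        _ = (∑ j, v j) / N * ∑ i, u i - ∑ i, u (i + 1) * u i + 2 * ∑ i, u i ^ 2 - ∑ i, u i * u (i - 1) := by
            simp only [Finset.mul_sum, ← Finset.sum_sub_distrib, ← Finset.sum_add_distrib]
            exact Finset.sum_congr rfl fun i _ => by ring
        _ = ∑ i, (u (i + 1) - u i) ^ 2 := by
            rw [hsum, s1]
            simp only [sub_sq, Finset.sum_add_distrib, Finset.sum_sub_distrib, s2]
            simp only [mul_assoc, ← Finset.mul_sum]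
            ring
    rw [e1]
    positivity

end Groth.Agent.S18190
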