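import Groth.Statements.S18196
import Groth.Agent.LocImmLib.Basic
set_option linter.style.haveILetI false
-- import your own Groth.Agent.* helpers here

set_option autoImplicit false
universe u
open LocImm

namespace Groth.Agent.S18196

open CategoryTheory AlgebraicGeometry in
/-- Let `f : X ⟶ Y` and `g : Y ⟶ Z` be morphisms of Noetherian schemes with `g` separated and `f ≫ g` a
localizing immersion (localizing and injective on points). If `f` is proper then `f` is a closed
immersion. -/
theorem result {X Y Z : Scheme.{u}} [IsNoetherian X] [IsNoetherian Y] [IsNoetherian Z]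
    (f : X ⟶ Y) (g : Y ⟶ Z) (hfg : LocImm.IsLocImmersion (f ≫ g)) [IsSeparated g] [IsProper f] : IsClosedImmersion f := by
  haveI : ∀ x, IsIso ((f ≫ g).stalkMap x) := LocImmLib.isIso_stalkMap hfg.1
  have hinj : Function.Injective f := fun a b h => hfg.2 (congrArg g h)
  exact
    { stalkMap_surjective := fun x b => by
        obtain ⟨a, ha⟩ := (ConcreteCategory.bijective_of_isIso ((f ≫ g).stalkMap x)).2 b
        exact ⟨g.stalkMap (f x) a, by rw [← ha, Scheme.Hom.stalkMap_comp]; rfl⟩
      isClosedEmbedding := .of_continuous_injective_isClosedMap f.continuous hinj f.isClosedMap }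

end Groth.Agent.S18196
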