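import Groth.Statements.S18202
import Groth.Agent.LocImmLib.Affine
set_option linter.style.haveILetI false
-- import your own Groth.Agent.* helpers here

set_option autoImplicit false
universe u
open LocImm

namespace Groth.Agent.S18202

open CategoryTheory AlgebraicGeometry Limits in
/-- Let `f : X ⟶ Y` be a localizing immersion (localizing and injective on points) of Noetherian schemes
and `g : Y' ⟶ Y` a morphism with `Y'` Noetherian. Then the base change `X ×_Y Y' ⟶ Y'` is a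
localizing immersion. -/
theorem result {X Y Y' : Scheme.{u}} [IsNoetherian X] [IsNoetherian Y] [IsNoetherian Y']
    (f : X ⟶ Y) (g : Y' ⟶ Y) (hf : LocImm.IsLocImmersion f) : LocImm.IsLocImmersion (pullback.snd f g) := by
  haveI : IsPreimmersion f := LocImmLib.isPreimmersion hf
  haveI : IsIso (pullback.diagonal (pullback.snd f g)) := (pullback.isIso_diagonal_iff _).2 inferInstance
  haveI : UniversallyInjective (pullback.snd f g) := (UniversallyInjective.iff_diagonal _).2 inferInstance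
  refine ⟨fun z => ?_, (pullback.snd f g).injective⟩
  obtain ⟨D, hxD, hD, hpre, hloc⟩ := LocImmLib.exists_affine_preimage hf (pullback.fst f g z)
  have hz : pullback.snd f g z ∈ g ⁻¹ᵁ D := by
    show g (pullback.snd f g z) ∈ D
    rwa [← Scheme.Hom.comp_apply, ← pullback.condition, Scheme.Hom.comp_apply]
  obtain ⟨_, ⟨U', hU', rfl⟩, hzU, hUD⟩ :=
    Y'.isBasis_affineOpens.exists_subset_of_mem_open hz (g ⁻¹ᵁ D).2
  replace hUD : U' ≤ g ⁻¹ᵁ D := hUD
  have H := IsPullback.of_hasPullback f g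
  let V' := pullback.fst f g ⁻¹ᵁ (f ⁻¹ᵁ D) ⊓ pullback.snd f g ⁻¹ᵁ U'
  haveI : IsAffine (D : Scheme.{u}) := hD
  haveI : IsAffine (U' : Scheme.{u}) := hU'
  haveI : IsAffine ((f ⁻¹ᵁ D : X.Opens) : Scheme.{u}) := hpre
  have hV' : IsAffineOpen V' :=
    .of_isIso (Scheme.Hom.isPullback_resLE H hUD le_rfl (UY := V') rfl).isoPullback.hom
  have hpo := (isIso_pushoutSection_iff H hUD le_rfl (UY := V') rfl).mp
    (isIso_pushoutSection_of_isAffineOpen H hUD le_rfl rfl hD hU' hpre)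
  refine ⟨⟨U', hU'⟩, ⟨V', hV'⟩, ⟨hxD, hzU⟩, inf_le_right, ?_⟩
  rw [Scheme.Hom.app_eq_appLE] at hloc
  let φ := f.appLE D (f ⁻¹ᵁ D) le_rfl
  let ψ := g.appLE D U' hUD
  let α := (pullback.snd f g).appLE U' V' inf_le_right
  let β := (pullback.fst f g).appLE (f ⁻¹ᵁ D) V' inf_le_left
  letI := φ.hom.toAlgebra
  letI := ψ.hom.toAlgebra
  letI := α.hom.toAlgebra
  letI := β.hom.toAlgebra
  letI := (ψ ≫ α).hom.toAlgebra
  haveI : IsScalarTower Γ(Y, D) Γ(Y', U') Γ(pullback f g, V') := .of_algebraMap_eq' rfl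
  haveI : IsScalarTower Γ(Y, D) Γ(X, f ⁻¹ᵁ D) Γ(pullback f g, V') :=
    .of_algebraMap_eq' (congrArg CommRingCat.Hom.hom hpo.w.symm)
  obtain ⟨S, hS⟩ := hloc
  exact ⟨Algebra.algebraMapSubmonoid Γ(Y', U') S, (Algebra.isLocalization_iff_isPushout S Γ(X, f ⁻¹ᵁ D)
    (T := Γ(Y', U')) (B := Γ(pullback f g, V'))).2 (CommRingCat.isPushout_iff_isPushout.1 hpo.flip)⟩

end Groth.Agent.S18202
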