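import Groth.Statements.S18206
import Groth.Agent.LocImmLib.Affine
import Groth.Agent.FpqcDescent.IdealComap
set_option linter.style.haveILetI false
-- import your own Groth.Agent.* helpers here

set_option autoImplicit false
universe u
open LocImm

namespace Groth.Agent.S18206

open CategoryTheory AlgebraicGeometry in
/-- Let `f : X ⟶ Y` be a localizing immersion (localizing and injective on points) of Noetherian
schemes. Then every quasi-coherent ideal sheaf `I` on `X` is the inverse image ideal `J·O_X` of some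
quasi-coherent ideal sheaf `J` on `Y` (all such ideals are coherent, the schemes being Noetherian). -/
theorem result {X Y : Scheme.{u}} [IsNoetherian X] [IsNoetherian Y]
    (f : X ⟶ Y) (hf : LocImm.IsLocImmersion f) (I : X.IdealSheafData) : ∃ J : Y.IdealSheafData, J.comap f = I := by
  haveI : QuasiCompact f := inferInstance
  choose D hxD hD hpre hloc using fun x => LocImmLib.exists_affine_preimage hf x
  refine ⟨I.map f, le_antisymm (Scheme.IdealSheafData.comap_map_le _ _) ?_⟩
  refine Scheme.IdealSheafData.le_of_iSup_eq_top (fun x => (⟨f ⁻¹ᵁ D x, hpre x⟩ : X.affineOpens))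
    (eq_top_iff.2 fun x _ => TopologicalSpace.Opens.mem_iSup.2 ⟨x, hxD x⟩) fun x => ?_
  rw [FpqcDescent.ideal_comap (I.map f) f ⟨D x, hD x⟩ ⟨f ⁻¹ᵁ D x, hpre x⟩ le_rfl, ← Scheme.Hom.app_eq_appLE]
  have h1 : (I.map f).ideal ⟨D x, hD x⟩ = (I.ideal ⟨f ⁻¹ᵁ D x, hpre x⟩).comap (f.app (D x)).hom := by
    rw [show I.map f = (I.subschemeι ≫ f).ker from rfl, Scheme.Hom.ker_apply,
      show (I.subschemeι ≫ f).app (D x) = f.app (D x) ≫ I.subschemeι.app (f ⁻¹ᵁ D x) from Scheme.Hom.comp_app _ _ _,
      ← I.ker_subschemeι_app ⟨f ⁻¹ᵁ D x, hpre x⟩]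
    exact (RingHom.comap_ker _ _).symm
  rw [h1]
  letI := (f.app (D x)).hom.toAlgebra
  obtain ⟨S, hS⟩ := hloc x
  exact (IsLocalization.map_comap S Γ(X, f ⁻¹ᵁ D x) _).ge

end Groth.Agent.S18206
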