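import Groth.Statements.S18208
import Groth.Agent.LocImmLib.Affine
set_option linter.style.haveILetI false
-- import your own Groth.Agent.* helpers here

set_option autoImplicit false
universe u
open LocImm

namespace Groth.Agent.S18208

open CategoryTheory AlgebraicGeometry in
/-- A morphism `f : X ⟶ Y` of Noetherian schemes is a localizing immersion (localizing and injective on
points) if and only if every point of `f(X)` has an affine open neighbourhood `V` in `Y` whose
preimage `f⁻¹V` is affine with `Γ(Y, V) → Γ(X, f⁻¹V)` a localizing ring map (its target is the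
localization of its source at some submonoid). In particular such an `f` is quasi-affine. -/
theorem result {X Y : Scheme.{u}} [IsNoetherian X] [IsNoetherian Y] (f : X ⟶ Y) :
    LocImm.IsLocImmersion f ↔ ∀ x : X, ∃ V : Y.Opens, f x ∈ V ∧ IsAffineOpen V ∧ IsAffineOpen (f ⁻¹ᵁ V) ∧ LocImm.IsLocHom (f.app V).hom := by
  refine ⟨fun h x => LocImmLib.exists_affine_preimage h x, fun h => ⟨fun x => ?_, fun a b hab => ?_⟩⟩
  · obtain ⟨V, hxV, hV, hpre, hloc⟩ := h x
    exact ⟨⟨V, hV⟩, ⟨f ⁻¹ᵁ V, hpre⟩, hxV, le_rfl, by rwa [← Scheme.Hom.app_eq_appLE]⟩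
  · obtain ⟨V, haV, hV, hpre, hloc⟩ := h a
    letI := (f.app V).hom.toAlgebra
    obtain ⟨S, hS⟩ := hloc
    haveI : IsPreimmersion (Spec.map (f.app V)) :=
      IsPreimmersion.of_isLocalization (R := Γ(Y, V)) (S := Γ(X, f ⁻¹ᵁ V)) S
    haveI := hV.isOpenImmersion_fromSpec
    obtain ⟨p, hp⟩ : a ∈ Set.range hpre.fromSpec := by rw [hpre.range_fromSpec]; exact haV
    obtain ⟨q, hq⟩ : b ∈ Set.range hpre.fromSpec := by
      rw [hpre.range_fromSpec]
      show f b ∈ V
      exact (show f a = f b from hab) ▸ haV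
    have h1 : Spec.map (f.app V) ≫ hV.fromSpec = hpre.fromSpec ≫ f := by
      rw [Scheme.Hom.app_eq_appLE]
      exact hV.SpecMap_appLE_fromSpec f hpre le_rfl
    haveI hpi : IsPreimmersion (hpre.fromSpec ≫ f) := h1 ▸ inferInstance
    have : p = q := (hpre.fromSpec ≫ f).isEmbedding.injective (by
      rw [Scheme.Hom.comp_apply, Scheme.Hom.comp_apply, hp, hq]; exact hab)
    rw [← hp, ← hq, this]

end Groth.Agent.S18208
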