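import Groth.Statements.S18238
import Mathlib
-- import your own Groth.Agent.* helpers here

set_option autoImplicit false
set_option backward.isDefEq.respectTransparency.types false
universe u
open DiagMon

namespace Groth.Agent.S18238

open MvPolynomial in
lemma ker_eq_bot_of_smooth {R A σ : Type*} [CommRing R] [CommRing A] [Algebra R A] [Algebra.Smooth R A] [Finite σ]
    (φ : MvPolynomial σ R →ₐ[R] A) (hφ : Function.Surjective φ)
    (h : RingHom.ker φ.toRingHom ≤ idealOfVars σ R ^ 2) : RingHom.ker φ.toRingHom = ⊥ := by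
  set J := RingHom.ker φ.toRingHom with hJ
  set m := idealOfVars σ R with hm
  have hJm : J ≤ m := h.trans (Ideal.pow_le_self (by norm_num))
  let g : (MvPolynomial σ R ⧸ (m * J)) →ₐ[R] A := Ideal.Quotient.liftₐ (m * J) φ
    (fun a ha => (Ideal.mul_le_right (I := m) (J := J) : m * J ≤ J) ha)
  have hg : Function.Surjective g := fun a => by
    obtain ⟨p, rfl⟩ := hφ a
    exact ⟨Ideal.Quotient.mk _ p, rfl⟩
  let π := Ideal.Quotient.mkₐ R (m * J)
  have hker : RingHom.ker g.toRingHom = J.map π := by
    refine le_antisymm (fun x hx => ?_) (Ideal.map_le_iff_le_comap.mpr fun x hx => hx)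
    obtain ⟨p, rfl⟩ := Ideal.Quotient.mk_surjective x
    exact Ideal.mem_map_of_mem π hx
  have hmJ : ∀ a ∈ m, ∀ b ∈ J, π a * π b = 0 := fun a ha b hb => by
    rw [← map_mul]; exact Ideal.Quotient.eq_zero_iff_mem.mpr (Ideal.mul_mem_mul ha hb)
  have hnil : IsNilpotent (RingHom.ker g) := by
    refine ⟨2, ?_⟩
    change RingHom.ker g.toRingHom ^ 2 = 0
    rw [hker, ← Ideal.map_pow, Ideal.zero_eq_bot, eq_bot_iff, Ideal.map_le_iff_le_comap, pow_two]
    refine (Ideal.mul_mono_left hJm).trans fun x hx => ?_
    exact Ideal.Quotient.eq_zero_iff_mem.mpr hx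
  let σ' := Algebra.FormallySmooth.liftOfSurjective (AlgHom.id R A) g hg hnil
  let ψ := σ'.comp φ
  have hsub : ∀ p, ∃ j ∈ J, ψ p = π p + π j := fun p => by
    have : ψ p - π p ∈ J.map π := by
      rw [← hker]
      change g (ψ p - π p) = 0
      rw [map_sub]
      change g (σ' (φ p)) - φ p = 0
      rw [Algebra.FormallySmooth.liftOfSurjective_apply]
      exact sub_self _
    obtain ⟨j, hj, e⟩ := (Ideal.mem_map_iff_of_surjective π Ideal.Quotient.mk_surjective).mp this
    exact ⟨j, hj, by rw [e, add_sub_cancel]⟩
  have hsq : ∀ p ∈ m ^ 2, ψ p = π p := by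
    intro p hp
    rw [pow_two] at hp
    induction hp using Submodule.mul_induction_on' with
    | mem_mul_mem a ha b hb =>
      obtain ⟨i, hi, ea⟩ := hsub a
      obtain ⟨j, hj, eb⟩ := hsub b
      rw [map_mul, map_mul, ea, eb, add_mul, mul_add, mul_add, hmJ a ha j hj, hmJ i (hJm hi) j hj,
        mul_comm (π i), hmJ b hb i hi]
      abel
    | add x _ y _ hx hy => rw [map_add, map_add, hx, hy]
  have hle : J ≤ m • J := fun p hp => by
    rw [smul_eq_mul, ← Ideal.Quotient.eq_zero_iff_mem]
    change π p = 0
    rw [← hsq p (h hp)]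
    change σ' (φ p) = 0
    rw [show φ p = 0 from hp, map_zero]
  haveI : Algebra.FinitePresentation R A := inferInstance
  obtain ⟨r, hr, hann⟩ := Submodule.exists_sub_one_mem_and_smul_eq_zero_of_fg_of_le_smul m J
    (Algebra.FinitePresentation.ker_fG_of_surjective φ hφ) hle
  rw [eq_bot_iff]
  intro p hp
  rw [Ideal.mem_bot]
  have h0 : r * p = 0 := hann p hp
  have key : ∀ n, ∀ q : MvPolynomial σ R, r * q = 0 → q ∈ m ^ n := by
    intro n
    induction n with
    | zero => intro q _; simp
    | succ n ih =>
      intro q hq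
      have : q = -((r - 1) * q) := by linear_combination hq
      rw [this, pow_succ']
      exact neg_mem (Ideal.mul_mem_mul hr (ih q hq))
  by_contra hp0
  obtain ⟨d, hd⟩ := MvPolynomial.support_nonempty.mpr hp0
  have := (mem_pow_idealOfVars_iff _ p).mp (key (Finsupp.degree d + 1) p h0) d hd
  omega

/-- Let R be a commutative ring and N a fine and sharp commutative monoid (finitely generated,
cancellative, and 0 its only invertible element). If the diagonalizable monoid scheme A(N)_R = Spec
R[N] is smooth over Spec R, then it is a vector bundle over Spec R: the monoid algebra R[N] is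
isomorphic as an R-algebra to the symmetric algebra of a finitely generated projective R-module
(existence of such a module and isomorphism). (Affine base; the published statement is over an
arbitrary base scheme S.) -/
theorem result (R : Type u) [CommRing R] (N : Type)
    [AddCommMonoid N] [AddMonoid.FG N] [IsCancelAdd N] (hsharp : ∀ n : N, IsAddUnit n → n = 0)
    [Algebra.Smooth R (AddMonoidAlgebra R N)] :
    ∃ (P : Type u) (_ : AddCommGroup P) (_ : Module R P), Module.Finite R P ∧ Module.Projective R P ∧
      Nonempty (AddMonoidAlgebra R N ≃ₐ[R] SymmetricAlgebra R P) := by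
  classical
  obtain ⟨s₀, hs₀⟩ := (AddMonoid.FG.fg_top (M := N))
  obtain ⟨s, hsm, hmin⟩ := Finset.exists_min_image (s₀.powerset.filter fun t : Finset N => AddSubmonoid.closure (t : Set N) = ⊤)
    Finset.card ⟨s₀, by simp [hs₀]⟩
  rw [Finset.mem_filter, Finset.mem_powerset] at hsm
  have hnot : ∀ a ∈ s, a ∉ AddSubmonoid.closure ((s.erase a : Finset N) : Set N) := by
    intro a ha hcl
    have := hmin (s.erase a) (Finset.mem_filter.mpr ⟨Finset.mem_powerset.mpr ((Finset.erase_subset a s).trans hsm.1), by
      refine top_le_iff.mp (hsm.2 ▸ (AddSubmonoid.closure_le.mpr fun x hx => ?_))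
      by_cases hxa : x = a
      · exact hxa ▸ hcl
      · exact AddSubmonoid.subset_closure (Finset.mem_coe.mpr (Finset.mem_erase.mpr ⟨hxa, hx⟩))⟩)
    rw [Finset.card_erase_of_mem ha] at this
    have := Finset.card_pos.mpr ⟨a, ha⟩
    omega
  have hne : ∀ a ∈ s, a ≠ 0 := fun a ha h => hnot a ha (h ▸ zero_mem _)
  have hadd : ∀ a b : N, a + b = 0 → a = 0 := fun a b h =>
    hsharp a (IsAddUnit.of_add_eq_zero b h)
  let ι := {a : N // a ∈ s}
  let e : (ι →₀ ℕ) →+ N := Finsupp.liftAddHom fun i => multiplesHom N i.1
  have e1 : ∀ (i : ι) (k : ℕ), e (Finsupp.single i k) = k • i.1 := fun i k => by simp [e]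
  have e0 : ∀ d : ι →₀ ℕ, e d = 0 → d = 0 := by
    intro d hd
    by_contra hd0
    obtain ⟨i, hi⟩ := Finsupp.support_nonempty_iff.mpr hd0
    have : d = Finsupp.single i 1 + (d - Finsupp.single i 1) := by
      rw [add_tsub_cancel_of_le]
      exact Finsupp.single_le_iff.mpr (Nat.one_le_iff_ne_zero.mpr (Finsupp.mem_support_iff.mp hi))
    rw [this, map_add, e1, one_smul] at hd
    exact hne _ i.2 (hadd _ _ hd)
  have eg : ∀ (d : ι →₀ ℕ) (i : ι), e d = i.1 → d = Finsupp.single i 1 := by
    intro d i hd
    by_cases hdi : d i = 0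
    · exfalso
      suffices hmem : e d ∈ AddSubmonoid.closure ((s.erase i.1 : Finset N) : Set N) from
        hnot _ i.2 (by rwa [hd] at hmem)
      rw [show e d = d.sum fun j k => k • j.1 from rfl]
      refine AddSubmonoid.sum_mem _ fun j hj => AddSubmonoid.nsmul_mem _ (AddSubmonoid.subset_closure ?_) _
      refine Finset.mem_coe.mpr (Finset.mem_erase.mpr ⟨fun h => ?_, j.2⟩)
      exact (Finsupp.mem_support_iff.mp hj) (Subtype.ext h ▸ hdi)
    · have h1 : d = Finsupp.single i 1 + (d - Finsupp.single i 1) := by
        rw [add_tsub_cancel_of_le]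
        exact Finsupp.single_le_iff.mpr (Nat.one_le_iff_ne_zero.mpr hdi)
      rw [h1, map_add, e1, one_smul, add_eq_left] at hd
      rw [h1, e0 _ hd, add_zero]
  let φ : MvPolynomial ι R →ₐ[R] AddMonoidAlgebra R N :=
    MvPolynomial.aeval fun i => AddMonoidAlgebra.single i.1 1
  have hφm : ∀ (d : ι →₀ ℕ) (c : R), φ (MvPolynomial.monomial d c) = AddMonoidAlgebra.single (e d) c := by
    intro d
    induction d using Finsupp.induction with
    | zero => intro c; simp [φ, AddMonoidAlgebra.coe_algebraMap]
    | single_add i k d _ _ ih =>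
      intro c
      rw [map_add, e1, MvPolynomial.monomial_single_add, map_mul, map_pow, ih]
      simp [φ, AddMonoidAlgebra.single_pow, AddMonoidAlgebra.single_mul_single]
  have hφ : Function.Surjective φ := by
    intro x
    induction x using AddMonoidAlgebra.induction_linear with
    | zero => exact ⟨0, map_zero _⟩
    | add a b ha hb => obtain ⟨a', rfl⟩ := ha; obtain ⟨b', rfl⟩ := hb; exact ⟨a' + b', map_add _ _ _⟩
    | single a c =>
      have ha : a ∈ AddMonoidHom.mrange e := by
        refine (show AddSubmonoid.closure (s : Set N) ≤ AddMonoidHom.mrange e from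
          AddSubmonoid.closure_le.mpr fun x hx => ⟨Finsupp.single ⟨x, hx⟩ 1, by simp [e1]⟩) ?_
        rw [hsm.2]; trivial
      obtain ⟨d, rfl⟩ := ha
      exact ⟨MvPolynomial.monomial d c, hφm d c⟩
  have hsq : RingHom.ker φ.toRingHom ≤ MvPolynomial.idealOfVars ι R ^ 2 := by
    intro p hp
    rw [MvPolynomial.mem_pow_idealOfVars_iff']
    intro d hd
    have hcoeff : ∀ a : N, (φ p).coeff a = ∑ x ∈ p.support, if e x = a then p.coeff x else 0 := by
      intro a
      conv_lhs => rw [p.as_sum, map_sum, AddMonoidAlgebra.coeff_sum, Finsupp.finsetSum_apply]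
      exact Finset.sum_congr rfl fun x _ => by simp [hφm, Finsupp.single_apply]
    have huniq : ∀ x, e x = e d → x = d := by
      by_cases hd0 : d = 0
      · subst hd0; intro x hx; exact e0 x (by simpa using hx)
      · obtain ⟨i, hi⟩ := Finsupp.support_nonempty_iff.mpr hd0
        have : d = Finsupp.single i 1 := by
          have h1 : d = Finsupp.single i 1 + (d - Finsupp.single i 1) := by
            rw [add_tsub_cancel_of_le]
            exact Finsupp.single_le_iff.mpr (Nat.one_le_iff_ne_zero.mpr (Finsupp.mem_support_iff.mp hi))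
          have h2 := congrArg Finsupp.degree h1
          rw [map_add, Finsupp.degree_single] at h2
          rw [h1, (Finsupp.degree_eq_zero_iff _).mp (show Finsupp.degree (d - Finsupp.single i 1) = 0 by omega), add_zero]
        subst this
        intro x hx
        exact eg x i (by simpa [e1] using hx)
    have := hcoeff (e d)
    rw [show φ p = 0 from hp] at this
    rw [Finset.sum_eq_single d (fun x _ hx => if_neg fun h => hx (huniq x h))
      (fun h => by simpa using h), if_pos rfl] at this
    simpa using this.symm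
  have hker := ker_eq_bot_of_smooth φ hφ hsq
  refine ⟨ι →₀ R, inferInstance, inferInstance, inferInstance, inferInstance, ⟨?_⟩⟩
  exact (AlgEquiv.ofBijective φ ⟨(RingHom.injective_iff_ker_eq_bot φ.toRingHom).mpr hker, hφ⟩).symm.trans
    (SymmetricAlgebra.equivMvPolynomial Finsupp.basisSingleOne).symm

end Groth.Agent.S18238
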