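import Groth.Statements.S18247
import Mathlib

set_option autoImplicit false
universe u
open W4c5m1nsnscurves
open Curves

namespace Groth.Agent.S18247

/-- Case n = 5: the coordinate ring of U_5 over ℤ (m = 2 indices, standing for the points 4 and 5;
generators a, c, c̄, c_4, c̄_4, c_5, c̄_5, c_{45}, c_{54} with the linear and the two quadratic
relations for the one pair of indices, and no triple) is the polynomial ring on a, c_4, c̄_4, c_5,
c̄_5, c_{45}: the ℤ-algebra map from the polynomial ring in six variables sending the variables to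
these six classes, in this order, is bijective. -/
theorem result :
    Function.Bijective (MvPolynomial.aeval (R := ℤ) (S₁ := URing ℤ 2)
      ![ugen ℤ 2 .a, ugen ℤ 2 (.ci 0), ugen ℤ 2 (.cbi 0), ugen ℤ 2 (.ci 1), ugen ℤ 2 (.cbi 1),
        ugen ℤ 2 (.cij 0 1 Fin.zero_ne_one)]) := by
  let y : Fin 6 → MvPolynomial (Fin 6) ℤ := MvPolynomial.X
  let s : MvPolynomial (Fin 6) ℤ := y 0 + y 1 + y 2 + y 3 + y 4 - y 5
  let g : UGen 2 → MvPolynomial (Fin 6) ℤ := fun u => match u with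
    | .a => y 0
    | .c => s * y 3 + y 5 * y 1 - y 1 * y 3
    | .cb => s * y 2 + y 5 * y 4 - y 2 * y 4
    | .ci i => if i = 0 then y 1 else y 3
    | .cbi i => if i = 0 then y 2 else y 4
    | .cij i _ _ => if i = 0 then y 5 else s
  have hrel : Ideal.span (URel ℤ 2) ≤ RingHom.ker (MvPolynomial.aeval (R := ℤ) g) := by
    rw [Ideal.span_le]
    rintro p (((⟨⟨⟨i, j⟩, hq⟩, rfl⟩ | ⟨⟨⟨i, j⟩, hq⟩, rfl⟩) | ⟨⟨⟨i, j⟩, hq⟩, rfl⟩) | ⟨⟨⟨i, j, l⟩, h1, h2, h3⟩, rfl⟩)
    all_goals (rw [SetLike.mem_coe, RingHom.mem_ker])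
    · fin_cases i <;> fin_cases j <;> first | exact absurd rfl hq | (simp [g, s] <;> ring)
    · fin_cases i <;> fin_cases j <;> first | exact absurd rfl hq | (simp [g, s] <;> ring)
    · fin_cases i <;> fin_cases j <;> first | exact absurd rfl hq | (simp [g, s] <;> ring)
    · exfalso; simp only [] at h1 h2 h3; omega
  let ψ : URing ℤ 2 →ₐ[ℤ] MvPolynomial (Fin 6) ℤ := Ideal.Quotient.liftₐ _ (MvPolynomial.aeval g) hrel
  let φ := MvPolynomial.aeval (R := ℤ) (S₁ := URing ℤ 2)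
      ![ugen ℤ 2 .a, ugen ℤ 2 (.ci 0), ugen ℤ 2 (.cbi 0), ugen ℤ 2 (.ci 1), ugen ℤ 2 (.cbi 1),
        ugen ℤ 2 (.cij 0 1 Fin.zero_ne_one)]
  have h1 : ψ.comp φ = AlgHom.id ℤ _ := MvPolynomial.algHom_ext fun i => by
    simp only [AlgHom.comp_apply, φ, MvPolynomial.aeval_X, AlgHom.id_apply]
    fin_cases i <;> (show ψ (Ideal.Quotient.mk _ _) = _) <;> simp [ψ, g, y]
  have hs : φ s = ugen ℤ 2 (.cij 1 0 Fin.zero_ne_one.symm) := by
    have e : Ideal.Quotient.mk (Ideal.span (URel ℤ 2)) (MvPolynomial.X (UGen.cij (0 : Fin 2) 1 Fin.zero_ne_one) + MvPolynomial.X (.cij 1 0 (Ne.symm Fin.zero_ne_one)) -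
      (MvPolynomial.X .a + MvPolynomial.X (.ci 0) + MvPolynomial.X (.cbi 0) + MvPolynomial.X (.ci 1) + MvPolynomial.X (.cbi 1))) = 0 :=
      Ideal.Quotient.eq_zero_iff_mem.mpr (Ideal.subset_span (Or.inl (Or.inl (Or.inl ⟨⟨(0, 1), Fin.zero_ne_one⟩, rfl⟩))))
    simp only [map_sub, map_add] at e
    simp [φ, s, y, ugen]
    linear_combination -e
  have h2 : ∀ x, φ (ψ x) = x := by
    intro x
    obtain ⟨p, rfl⟩ := Ideal.Quotient.mk_surjective x
    suffices (φ.comp ψ).comp (Ideal.Quotient.mkₐ ℤ _) = Ideal.Quotient.mkₐ ℤ _ from AlgHom.congr_fun this p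
    refine MvPolynomial.algHom_ext fun u => ?_
    show φ (MvPolynomial.aeval g (MvPolynomial.X u)) = ugen ℤ 2 u
    rw [MvPolynomial.aeval_X]
    cases u with
    | a => simp [φ, g, y]
    | c =>
      have e : Ideal.Quotient.mk (Ideal.span (URel ℤ 2)) (MvPolynomial.X (UGen.cij (1 : Fin 2) 0 (Ne.symm Fin.zero_ne_one)) * MvPolynomial.X (.ci 1) + MvPolynomial.X (.cij 0 1 Fin.zero_ne_one) * MvPolynomial.X (.ci 0) -
        MvPolynomial.X (.ci 0) * MvPolynomial.X (.ci 1) - MvPolynomial.X .c) = 0 :=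
        Ideal.Quotient.eq_zero_iff_mem.mpr (Ideal.subset_span (Or.inl (Or.inl (Or.inr ⟨⟨(0, 1), Fin.zero_ne_one⟩, rfl⟩))))
      simp only [map_sub, map_add, map_mul] at e
      simp [g, map_add, map_sub, map_mul, hs]
      simp [φ, y, ugen] at e ⊢
      linear_combination e
    | cb =>
      have e : Ideal.Quotient.mk (Ideal.span (URel ℤ 2)) (MvPolynomial.X (UGen.cij (1 : Fin 2) 0 (Ne.symm Fin.zero_ne_one)) * MvPolynomial.X (.cbi 0) + MvPolynomial.X (.cij 0 1 Fin.zero_ne_one) * MvPolynomial.X (.cbi 1) -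
        MvPolynomial.X (.cbi 0) * MvPolynomial.X (.cbi 1) - MvPolynomial.X .cb) = 0 :=
        Ideal.Quotient.eq_zero_iff_mem.mpr (Ideal.subset_span (Or.inl (Or.inr ⟨⟨(0, 1), Fin.zero_ne_one⟩, rfl⟩)))
      simp only [map_sub, map_add, map_mul] at e
      simp [g, map_add, map_sub, map_mul, hs]
      simp [φ, y, ugen] at e ⊢
      linear_combination e
    | ci i => fin_cases i <;> simp [φ, g, y]
    | cbi i => fin_cases i <;> simp [φ, g, y]
    | cij i j h =>
      fin_cases i <;> fin_cases j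
      · exact absurd rfl h
      · simp [φ, g, y]
      · simp [g, hs]
      · exact absurd rfl h
  exact ⟨Function.LeftInverse.injective (g := ψ) fun p => AlgHom.congr_fun h1 p, fun x => ⟨ψ x, h2 x⟩⟩

end Groth.Agent.S18247
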