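import Groth.Statements.S18251
import Groth.Agent.Algebra.MonomialBasisQuotient
import Mathlib.RingTheory.MvPolynomial.MonomialOrder.DegLex
-- import your own Groth.Agent.* helpers here

set_option autoImplicit false
universe u
open W4c5m1nsnscurves
open Curves

namespace Groth.Agent.S18251

open MvPolynomial

/-- Degree-lexicographic order in which the second variable is the bigger one. -/
noncomputable def ord : MonomialOrder (Fin 2) :=
  (MonomialOrder.degLex : MonomialOrder (Fin 2)ᵒᵈ)

/-- The exponent vector `(i, j)`. -/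
noncomputable def ex (i j : ℕ) : Fin 2 →₀ ℕ := Finsupp.single 0 i + Finsupp.single 1 j

lemma ex_apply_zero (i j : ℕ) : ex i j 0 = i := by simp [ex]

lemma ex_apply_one (i j : ℕ) : ex i j 1 = j := by simp [ex]

lemma monomial_ex {R : Type u} [CommRing R] (i j : ℕ) (r : R) :
    monomial (ex i j) r = C r * X 0 ^ i * X 1 ^ j := by
  rw [X_pow_eq_monomial, X_pow_eq_monomial, C_mul_monomial, monomial_mul, ex]
  simp

lemma degree_ex (i j : ℕ) : (ex i j).degree = i + j := by
  simp [ex, Finsupp.degree_single]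

lemma lt_lead (i j : ℕ) (h : i + j < 3 ∨ i + j = 3 ∧ j < 2) :
    ord.toSyn (ex i j) < ord.toSyn (ex 1 2) := by
  show toDegLex (α := (Fin 2)ᵒᵈ →₀ ℕ) (ex i j) < toDegLex (α := (Fin 2)ᵒᵈ →₀ ℕ) (ex 1 2)
  rw [Finsupp.DegLex.lt_iff]
  have h1 : Finsupp.degree (ex i j : (Fin 2)ᵒᵈ →₀ ℕ) = i + j := degree_ex i j
  have h2 : Finsupp.degree (ex 1 2 : (Fin 2)ᵒᵈ →₀ ℕ) = 3 := degree_ex 1 2
  rcases h with h | ⟨h, hj⟩
  · left
    exact h1.trans_lt (h.trans_eq h2.symm)
  · right
    refine ⟨h1.trans (h.trans h2.symm), ?_⟩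
    refine ⟨OrderDual.toDual (1 : Fin 2), fun k hk => ?_, ?_⟩
    · exfalso
      have hk' : (1 : Fin 2) < OrderDual.ofDual k := hk
      omega
    · show ex i j 1 < ex 1 2 1
      rw [ex_apply_one, ex_apply_one]; exact hj

/-- Exponents of the monomials in `cmon3`. -/
noncomputable def idx : Option (ℕ ⊕ (Fin 2 × ℕ)) → Fin 2 →₀ ℕ
  | none => ex 0 0
  | some (Sum.inl k) => ex (k + 1) 1
  | some (Sum.inr (y, k)) => if y = 0 then ex (k + 1) 0 else ex 0 (k + 1)

lemma idx_injective : Function.Injective idx := by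
  intro s t h
  have h0 := DFunLike.congr_fun h 0
  have h1 := DFunLike.congr_fun h 1
  rcases s with _ | (k | ⟨y, k⟩) <;> rcases t with _ | (l | ⟨z, l⟩) <;>
    simp only [idx] at h0 h1 <;>
    (try fin_cases y) <;> (try fin_cases z) <;>
    simp [ex_apply_zero, ex_apply_one] at h0 h1 ⊢ <;> omega

lemma idx_std (s : Option (ℕ ⊕ (Fin 2 × ℕ))) : ¬ ex 1 2 ≤ idx s := by
  intro h
  have h0 := h 0
  have h1 := h 1
  rcases s with _ | (k | ⟨y, k⟩) <;> simp only [idx] at h0 h1 <;> (try fin_cases y) <;>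
    simp [ex_apply_zero, ex_apply_one] at h0 h1

lemma idx_cover (c : Fin 2 →₀ ℕ) (hc : ¬ ex 1 2 ≤ c) : ∃ s, idx s = c := by
  have hc' : c = ex (c 0) (c 1) := by
    ext k; fin_cases k <;> simp [ex_apply_zero, ex_apply_one]
  have hor : c 0 = 0 ∨ c 1 ≤ 1 := by
    by_contra hh
    refine hc fun k => ?_
    fin_cases k <;> simp [ex_apply_zero, ex_apply_one] <;> omega
  rw [hc']
  rcases hi : c 0 with _ | i
  · rcases hj : c 1 with _ | j
    · exact ⟨none, rfl⟩
    · exact ⟨some (Sum.inr (1, j)), by simp [idx]⟩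
  · rcases hj : c 1 with _ | j
    · exact ⟨some (Sum.inr (0, i)), by simp [idx]⟩
    · obtain rfl : j = 0 := by omega
      exact ⟨some (Sum.inl i), by simp [idx]⟩

/-- Case n = 3: let R be a commutative ring and a, b, c, d elements of R (a point of U_3, which is
affine 4-space, so no condition is imposed). Then in the R-algebra R[x_2, x_3]/(x_2 x_3² − x_2² x_3
− a x_2 x_3 − b x_2 − c x_3 − d) the classes of the monomials 1, x_2^k x_3, x_2^k and x_3^k (k ≥ 1)
are linearly independent over R and span, i.e. form an R-basis. -/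
theorem result (R : Type u) [CommRing R] (a b c d : R) :
    LinearIndependent R (cmon3 R a b c d) ∧
      Submodule.span R (Set.range (cmon3 R a b c d)) = ⊤ := by
  rcases subsingleton_or_nontrivial R with hR | hR
  · have : Subsingleton (CurveAlg3 R a b c d) := Module.subsingleton R _
    exact ⟨linearIndependent_iff.2 fun l _ => Subsingleton.elim _ _, Subsingleton.elim _ _⟩
  let f : MvPolynomial (Fin 2) R := X 0 * X 1 ^ 2 - X 0 ^ 2 * X 1 -
    (C a * X 0 * X 1 + C b * X 0 + C c * X 1 + C d)
  let g : MvPolynomial (Fin 2) R := monomial (ex 2 1) (-1) + monomial (ex 1 1) (-a) +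
    monomial (ex 1 0) (-b) + monomial (ex 0 1) (-c) + monomial (ex 0 0) (-d)
  have hfg : f = monomial (ex 1 2) 1 + g := by
    simp only [f, g, monomial_ex, map_neg, map_one]; ring
  have hmon : ord.Monic f ∧ ord.degree f = ex 1 2 := by
    have hD : ord.degree (monomial (ex 1 2) (1 : R)) = ex 1 2 := by
      classical simp [MonomialOrder.degree_monomial]
    have hg : ord.toSyn (ord.degree g) < ord.toSyn (ord.degree (monomial (ex 1 2) (1 : R))) := by
      rw [hD]
      classical
      refine (ord.degree_lt_iff ?_).2 fun e he => ?_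
      · have := lt_lead 0 0 (by omega)
        simpa [ex] using this
      · obtain h | h | h | h | h : e = ex 2 1 ∨ e = ex 1 1 ∨ e = ex 1 0 ∨ e = ex 0 1 ∨ e = ex 0 0 := by
          by_contra hh
          simp only [not_or] at hh
          obtain ⟨q1, q2, q3, q4, q5⟩ := hh
          simp [g, mem_support_iff, Ne.symm q1, Ne.symm q2, Ne.symm q3, Ne.symm q4, Ne.symm q5] at he
        all_goals subst h; exact lt_lead _ _ (by omega)
    rw [hfg]
    exact ⟨(ord.monic_monomial_one).add_of_lt hg, by rw [ord.degree_add_of_lt hg, hD]⟩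
  have hfam : cmon3 R a b c d =
      fun s => Ideal.Quotient.mk (Ideal.span {f}) (monomial (idx s) (1 : R)) := by
    funext s
    rcases s with _ | (k | ⟨y, k⟩)
    · simp [cmon3, idx, monomial_ex]
    · simp [cmon3, idx, monomial_ex, f]
    · fin_cases y <;> simp [cmon3, idx, monomial_ex, f]
  obtain ⟨hm, hdeg⟩ := hmon
  rw [hfam]
  exact ⟨MonomialBasisQuotient.linearIndependent ord hm idx idx_injective
      (fun s => hdeg ▸ idx_std s),
    MonomialBasisQuotient.span_eq_top ord hm idx (fun e he => idx_cover e (hdeg ▸ he))⟩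

end Groth.Agent.S18251
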