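import Groth.Statements.S18256
import Groth.Agent.ArtHull.Versal
import Groth.Agent.ArtHull.Deform
import Groth.Prelude.Def_ArtFun3
-- import your own Groth.Agent.* helpers here

set_option autoImplicit false
set_option backward.isDefEq.respectTransparency false
universe u
open ArtFun

namespace Groth.Agent.S18256

open CategoryTheory TensorProduct in
/-- Let R be an Artinian local ring with residue field k and M a finitely generated R-module. Suppose
that for every small extension p : A' → A of local Artinian R-algebras with residue field k (p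
surjective, its kernel I a nonzero principal ideal killed by the maximal ideal of A'), the map M ⊗_R
I → M ⊗_R A' induced by the inclusion I ⊆ A' is injective (equivalently, the sequence 0 → M ⊗_R I →
M ⊗_R A' → M ⊗_R A → 0 is exact). Then M is a free R-module. (The printed conclusion reads free over
the residue field; the proof establishes freeness over R, which is what is stated here.) -/
theorem result
    (R : Type u) [CommRing R] [IsArtinianRing R] [IsLocalRing R]
    (k : Type u) [Field k] [Algebra R k] (hk : Function.Surjective (algebraMap R k))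
    (M : Type u) [AddCommGroup M] [Module R M] [Module.Finite R M]
    (h : ∀ (A' A : ArtFun.Art R k) (p : A' ⟶ A), ArtFun.Art.IsSmallExt p →
      Function.Injective
        (LinearMap.lTensor M (((RingHom.ker p.toAlgHom).restrictScalars R).subtype))) :
    Module.Free R M := by
  have hflat : Module.Flat R M := by
    rw [Module.Flat.iff_lTensor_injective']
    intro I
    induction I using WellFoundedLT.induction with
    | _ I ih =>
    rcases eq_or_ne I ⊥ with rfl | hI
    · exact Function.injective_of_subsingleton _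
    obtain ⟨I₀, hlt, hmax⟩ := (wellFounded_gt (α := Ideal R)).has_min {J | J < I} ⟨⊥, bot_lt_iff_ne_bot.2 hI⟩ |>
      fun ⟨J, hJ, hmax⟩ => (⟨J, hJ, fun L hL => hmax L hL⟩ : ∃ J, J < I ∧ ∀ L, L < I → ¬ J < L)
    obtain ⟨x, hxI, hx0⟩ := SetLike.exists_of_lt hlt
    have hgen : I₀ ⊔ Ideal.span {x} = I := by
      by_contra hne
      exact hmax _ (lt_of_le_of_ne (sup_le hlt.le ((Ideal.span_singleton_le_iff_mem _).2 hxI)) hne)
        (left_lt_sup.2 fun h => hx0 (h (Ideal.mem_span_singleton_self x)))
    obtain ⟨N, hN⟩ := (isArtinianRing_iff_isNilpotent_maximalIdeal R).mp inferInstance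
    have hIne : I₀ ≠ ⊤ := ne_top_of_lt hlt
    have hmx : ∀ r ∈ IsLocalRing.maximalIdeal R, r * x ∈ I₀ := by
      intro r hr
      by_contra hrx
      have hgen' : x ∈ I₀ ⊔ Ideal.span {r * x} := by
        by_contra h
        have hle : I₀ ⊔ Ideal.span {r * x} ≤ I :=
          sup_le hlt.le ((Ideal.span_singleton_le_iff_mem _).2 (I.mul_mem_left r hxI))
        exact hmax _ (lt_of_le_of_ne hle fun e => h (e ▸ hxI))
          (left_lt_sup.2 fun h' => hrx (h' (Ideal.mem_span_singleton_self _)))
      obtain ⟨i, hi, w, hw, hsum⟩ := Submodule.mem_sup.1 hgen'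
      obtain ⟨c, rfl⟩ := Ideal.mem_span_singleton'.1 hw
      have hu : IsUnit (1 - c * r) := by
        by_contra hu
        exact (IsLocalRing.maximalIdeal.isMaximal R).ne_top ((Ideal.eq_top_iff_one _).2 (by
          have := add_mem ((IsLocalRing.mem_maximalIdeal _).2 hu) ((IsLocalRing.maximalIdeal R).mul_mem_left c hr)
          rwa [sub_add_cancel] at this))
      obtain ⟨v, hv⟩ := hu.exists_left_inv
      exact hx0 (by
        rw [show x = v * i + (v * (1 - c * r) - 1) * (-x) + v * (x - i - c * (r * x)) by ring, hv, sub_self,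
          zero_mul, add_zero, sub_sub, hsum, sub_self, mul_zero, add_zero]
        exact I₀.mul_mem_left v hi)
    let resk : R →ₐ[R] k := Algebra.ofId R k
    have hres0 : ∀ r, resk r = 0 ↔ r ∈ IsLocalRing.maximalIdeal R := fun r => by
      have hmax' : (RingHom.ker (algebraMap R k)).IsMaximal := RingHom.ker_isMaximal_of_surjective _ hk
      rw [← IsLocalRing.eq_maximalIdeal hmax', RingHom.mem_ker]
      rfl
    let Ro : ArtFun.Art R k := { carrier := R, res := resk, res_surjective := hk }
    have hle : I₀ ≤ IsLocalRing.maximalIdeal Ro := IsLocalRing.le_maximalIdeal hIne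
    have hItop : I ≤ IsLocalRing.maximalIdeal R ∨ I = ⊤ := by
      rcases eq_or_ne I ⊤ with h | h
      · exact Or.inr h
      · exact Or.inl (IsLocalRing.le_maximalIdeal h)
    rcases hItop with hIm | rfl
    swap
    · exact fun a b e => (TensorProduct.congr (LinearEquiv.refl R M) Submodule.topEquiv).injective
        ((TensorProduct.rid R M).injective (by
          have : ∀ z : M ⊗[R] (⊤ : Ideal R),
            TensorProduct.rid R M (TensorProduct.congr (LinearEquiv.refl R M) Submodule.topEquiv z) =
              TensorProduct.rid R M (LinearMap.lTensor M (⊤ : Ideal R).subtype z) := fun z => by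
            induction z using TensorProduct.induction_on with
            | zero => simp
            | add u v hu hv => simp [hu, hv]
            | tmul m i => simp
          rw [this, this, e]))
    let q := ArtFun.Art.quotMk Ro I₀ hle
    have hle' : I ≤ IsLocalRing.maximalIdeal Ro := hIm
    let p : ArtFun.Art.quot Ro I₀ hle ⟶ ArtFun.Art.quot Ro I hle' :=
      ArtFun.Art.quotFactor hle (ArtFun.Art.quotMk Ro I hle') (fun r hr => Ideal.Quotient.eq_zero_iff_mem.2 (hlt.le hr))
    have hkerp : ∀ r : R, Ideal.Quotient.mk I₀ r ∈ RingHom.ker p.toAlgHom ↔ r ∈ I := fun r =>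
      RingHom.mem_ker.trans Ideal.Quotient.eq_zero_iff_mem
    have hp : ArtFun.Art.IsSmallExt p := by
      refine ⟨fun a => ?_, fun h0 => ?_, ⟨⟨Ideal.Quotient.mk I₀ x, ?_⟩⟩, ?_⟩
      · obtain ⟨r, rfl⟩ := Ideal.Quotient.mk_surjective a
        exact ⟨Ideal.Quotient.mk I₀ r, rfl⟩
      · have := (hkerp x).2 hxI
        rw [h0, Ideal.mem_bot] at this
        exact hx0 (Ideal.Quotient.eq_zero_iff_mem.1 this)
      · refine le_antisymm (fun z hz => ?_) ((Ideal.span_singleton_le_iff_mem _).2 ((hkerp x).2 hxI))
        obtain ⟨r, rfl⟩ := Ideal.Quotient.mk_surjective z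
        have hr : r ∈ I₀ ⊔ Ideal.span {x} := hgen.symm ▸ (hkerp r).1 hz
        obtain ⟨i, hi, w, hw, rfl⟩ := Submodule.mem_sup.1 hr
        obtain ⟨c, rfl⟩ := Ideal.mem_span_singleton'.1 hw
        have e : Ideal.Quotient.mk I₀ (i + c * x) = Ideal.Quotient.mk I₀ c * Ideal.Quotient.mk I₀ x := by
          rw [← map_mul, Ideal.Quotient.eq, add_sub_cancel_right]; exact hi
        rw [e]
        exact Ideal.mul_mem_left _ _ (Ideal.mem_span_singleton_self _)
      · rw [← le_bot_iff, Ideal.mul_le]
        intro a ha z hz
        obtain ⟨a, rfl⟩ := Ideal.Quotient.mk_surjective a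
        obtain ⟨z, rfl⟩ := Ideal.Quotient.mk_surjective z
        have ha' : a ∈ IsLocalRing.maximalIdeal R := (hres0 a).1 ((ArtFun.Art.mem_maximalIdeal_iff (ArtFun.Art.quot Ro I₀ hle) _).1 ha)
        have hz' : z ∈ I₀ ⊔ Ideal.span {x} := hgen.symm ▸ (hkerp z).1 hz
        obtain ⟨i, hi, w, hw, rfl⟩ := Submodule.mem_sup.1 hz'
        obtain ⟨c, rfl⟩ := Ideal.mem_span_singleton'.1 hw
        rw [Ideal.mem_bot]
        refine (map_mul _ _ _).symm.trans (Ideal.Quotient.eq_zero_iff_mem.2 ?_)
        rw [mul_add, show a * (c * x) = c * (a * x) by ring]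
        exact add_mem (I₀.mul_mem_left _ hi) (I₀.mul_mem_left _ (hmx a ha'))
    have hinj := h _ _ p hp
    let ι : I₀ →ₗ[R] I := Submodule.inclusion hlt.le
    let π : I →ₗ[R] ↥((RingHom.ker p.toAlgHom).restrictScalars R) :=
      { toFun := fun r => ⟨Ideal.Quotient.mk I₀ r.1, (hkerp r.1).2 r.2⟩
        map_add' := fun r s => Subtype.ext (map_add _ _ _)
        map_smul' := fun c r => Subtype.ext (map_mul (Ideal.Quotient.mk I₀) c r.1) }
    have hex : Function.Exact ι π := fun r =>
      ⟨fun hr => ⟨⟨r.1, Ideal.Quotient.eq_zero_iff_mem.1 (congrArg Subtype.val hr)⟩, rfl⟩,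
        fun ⟨s, hs⟩ => hs ▸ Subtype.ext (Ideal.Quotient.eq_zero_iff_mem.2 s.2)⟩
    have hπ : Function.Surjective π := fun z => by
      obtain ⟨r, hr⟩ := Ideal.Quotient.mk_surjective z.1
      exact ⟨⟨r, (hkerp r).1 (hr.symm ▸ z.2)⟩, Subtype.ext hr⟩
    have hexT := lTensor_exact M hex hπ
    rw [injective_iff_map_eq_zero]
    intro z hz
    have hπz : LinearMap.lTensor M π z = 0 := by
      apply hinj
      rw [map_zero, ← LinearMap.comp_apply, ← LinearMap.lTensor_comp]
      let proj : R →ₗ[R] ↥(ArtFun.Art.quot Ro I₀ hle) :=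
        { toFun := fun r => Ideal.Quotient.mk I₀ r
          map_add' := map_add _
          map_smul' := fun c r => map_mul (Ideal.Quotient.mk I₀) c r }
      rw [show ((RingHom.ker p.toAlgHom).restrictScalars R).subtype.comp π = proj.comp (Submodule.subtype I) from
        LinearMap.ext fun r => rfl, LinearMap.lTensor_comp, LinearMap.comp_apply, hz, map_zero]
    obtain ⟨w, rfl⟩ := (hexT z).1 hπz
    have : w = 0 := (ih I₀ hlt) (by
      rw [map_zero, ← hz, ← LinearMap.comp_apply, ← LinearMap.lTensor_comp]
      rfl)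
    rw [this, map_zero]
  exact Module.free_of_flat_of_isLocalRing

end Groth.Agent.S18256
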