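-- statement InvQ.GrothFrozen.S18265 (Groth/Statements/S18265.lean; the theorem InvQ.isIntegrallyClosed_pointSetInvariants);
import Groth.Statements.S18265
import Mathlib

set_option autoImplicit false
universe u
open InvQ

namespace Groth.Agent.S18265

/-- Let k be an algebraically closed field and n, m natural numbers, and let R be the ring of polynomial
functions of m vectors of k^(n+1) invariant under the special linear group SL(n+1, k) acting on all
the vectors at once and under the rescalings of the individual vectors by units with product 1
(equivalently: invariant and homogeneous of one and the same degree in each vector) — the graded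
ring of invariant sections whose Proj is the quotient variety of ordered m-point sets in projective
n-space. Then R is integrally closed in its field of fractions; hence that quotient variety is
normal. (Only the normality assertion of the source's statement is given here; its dimension,
rationality and singular-locus assertions are not.) -/
theorem result (k : Type u) [Field k] [IsAlgClosed k] (n m : ℕ) :
    IsIntegrallyClosed (W4c5pointsetsdelpezzo.invRing k n m) := by
  rw [isIntegrallyClosed_iff (FractionRing (W4c5pointsetsdelpezzo.invRing k n m))]
  intro x hx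
  let S := W4c5pointsetsdelpezzo.invRing k n m
  let P := W4c5pointsetsdelpezzo.TupleRing k n m
  let L := FractionRing P
  let ι : FractionRing S →ₐ[S] L := IsFractionRing.liftAlgHom (g := (Algebra.ofId S L)) (fun a b h => Subtype.ext (IsFractionRing.injective P L h))
  have hxP : IsIntegral P (ι x) := (hx.map ι).tower_top
  obtain ⟨y, hy⟩ := IsIntegrallyClosed.isIntegral_iff.1 hxP
  obtain ⟨a, b, hb, rfl⟩ := IsFractionRing.div_surjective (A := S) x
  have hb0 : (b : P) ≠ 0 := fun h => nonZeroDivisors.ne_zero hb (Subtype.ext h)
  have hab : y * (b : P) = (a : P) := by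
    apply IsFractionRing.injective P L
    rw [map_mul, hy, map_div₀, AlgHom.commutes, AlgHom.commutes]
    exact div_mul_cancel₀ _ (fun h => hb0 (IsFractionRing.injective P L (h.trans (map_zero _).symm)))
  have hmem : y ∈ S := by
    have key : ∀ f : P →ₐ[k] P, f (a : P) = a → f (b : P) = b → f y = y := fun f ha hb' =>
      mul_right_cancel₀ hb0 (by rw [← hb', ← map_mul, hb', hab, ha])
    obtain ⟨ha1, ha2⟩ := Algebra.mem_inf.1 a.2
    obtain ⟨hb1, hb2⟩ := Algebra.mem_inf.1 b.2
    rw [Algebra.mem_iInf] at ha1 ha2 hb1 hb2
    refine Algebra.mem_inf.2 ⟨Algebra.mem_iInf.2 fun g => ?_, Algebra.mem_iInf.2 fun s => ?_⟩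
    · rw [AlgHom.mem_equalizer]; exact key _ (ha1 g) (hb1 g)
    · rw [AlgHom.mem_equalizer]; exact key _ (ha2 s) (hb2 s)
  refine ⟨⟨y, hmem⟩, ?_⟩
  rw [eq_div_iff (fun h => hb0 (congrArg Subtype.val (IsFractionRing.injective S (FractionRing S) (h.trans (map_zero _).symm)))), ← map_mul]
  exact congrArg _ (Subtype.ext hab)

end Groth.Agent.S18265
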