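import Groth.Statements.S19202
import Mathlib

set_option autoImplicit false
universe u
open CategoryTheory AlgebraicGeometry
open FlatMor Scheme.IdealSheafData

namespace Groth.Agent.S19202

/-- Let R be a Dedekind domain, X and Y schemes over Spec R with X flat over Spec R, and f : X → Y a
morphism over Spec R. Then the scheme-theoretic image of f, i.e. the closed subscheme of Y cut out
by the kernel ideal sheaf of f, is flat over Spec R. (The published statement takes the base to be a
non-singular curve and f proper; this row takes the spectrum of any Dedekind domain and any morphism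
f over it.) -/
theorem result (R : Type u) [CommRing R] [IsDedekindDomain R]
    {X Y : Scheme.{u}} (p : X ⟶ Spec (CommRingCat.of R)) (q : Y ⟶ Spec (CommRingCat.of R))
    (f : X ⟶ Y) (w : f ≫ q = p) [Flat p] : Flat (f.imageι ≫ q) := by
  classical
  -- the image of `r` in the sections of `Y`
  let ρ : ∀ W : Y.Opens, R →+* Γ(Y, W) := fun W =>
    ((Scheme.ΓSpecIso (CommRingCat.of R)).inv ≫ q.appLE ⊤ W le_top).hom
  have ρres : ∀ {W W' : Y.Opens} (h : W' ≤ W) (r : R),
      Y.presheaf.map (homOfLE h).op (ρ W r) = ρ W' r := by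
    intro W W' h r
    show (q.appLE ⊤ W le_top ≫ Y.presheaf.map (homOfLE h).op) _ = _
    rw [Scheme.Hom.appLE_map]
    rfl
  -- sections of `X` have no torsion
  have hX : ∀ (W : Y.Opens) (r : R), r ≠ 0 → ∀ y : Γ(X, f ⁻¹ᵁ W), f.app W (ρ W r) * y = 0 → y = 0 := by
    intro W r hr y hy
    obtain ⟨S, hS, hS'⟩ := TopologicalSpace.Opens.isBasis_iff_cover.mp X.isBasis_affineOpens (f ⁻¹ᵁ W)
    refine X.IsSheaf.section_ext fun x hx => ?_
    obtain ⟨_, ⟨U, hU, rfl⟩, hxU, hUW⟩ :=
      X.isBasis_affineOpens.exists_subset_of_mem_open (SetLike.mem_coe.mpr hx) (f ⁻¹ᵁ W).isOpen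
    refine ⟨U, hUW, hxU, ?_⟩
    rw [map_zero]
    let ψ : CommRingCat.of R ⟶ Γ(X, U) := (Scheme.ΓSpecIso (CommRingCat.of R)).inv ≫ p.appLE ⊤ U le_top
    have hψ : ψ.hom.Flat := RingHom.Flat.comp
      (RingHom.Flat.of_bijective (ConcreteCategory.bijective_of_isIso (Scheme.ΓSpecIso (CommRingCat.of R)).inv))
      (HasRingHomProperty.appLE @Flat p inferInstance ⟨⊤, isAffineOpen_top _⟩ ⟨U, hU⟩ le_top)
    let _ := ψ.hom.toAlgebra
    have : Module.Flat R Γ(X, U) := RingHom.flat_algebraMap_iff.mp hψ
    have hψρ : ψ r = X.presheaf.map (homOfLE hUW).op (f.app W (ρ W r)) := by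
      have : ψ = ((Scheme.ΓSpecIso (CommRingCat.of R)).inv ≫ q.appLE ⊤ W le_top) ≫
          f.app W ≫ X.presheaf.map (homOfLE hUW).op := by
        dsimp only [ψ]
        subst w
        rw [Category.assoc, show f.app W ≫ X.presheaf.map (homOfLE hUW).op = f.appLE W U hUW from rfl,
          Scheme.Hom.appLE_comp_appLE]
      exact congr(($this).hom r)
    have hz : r • X.presheaf.map (homOfLE hUW).op y = 0 := by
      rw [Algebra.smul_def]
      show ψ r * _ = 0
      rw [hψρ, ← map_mul, hy, map_zero]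
    exact ((IsRegular.of_ne_zero hr).isSMulRegular (M := Γ(X, U))).right_eq_zero_of_smul hz
  -- the ideal of sections killed into the kernel by `r`
  have key : ∀ (r : R), r ≠ 0 → ∀ (W : Y.affineOpens) (a : Γ(Y, W)),
      ρ W.1 r * a ∈ f.ker.ideal W → a ∈ f.ker.ideal W := by
    intro r hr
    let J : Y.IdealSheafData :=
      { ideal := fun W => Submodule.comap (LinearMap.mulLeft Γ(Y, W) (ρ W.1 r)) (f.ker.ideal W)
        map_ideal_basicOpen := by
          intro W g
          have : (Y.presheaf.map (homOfLE (Y.basicOpen_le g)).op).hom = algebraMap _ _ := rfl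
          have inst := W.2.isLocalization_basicOpen g
          rw [this]
          ext x
          obtain ⟨x, s, rfl⟩ := IsLocalization.exists_mk'_eq (.powers g) x
          rw [IsLocalization.mk'_mem_map_algebraMap_iff]
          show (∃ t ∈ Submonoid.powers g, ρ W.1 r * (t * x) ∈ f.ker.ideal W) ↔
            ρ (Y.basicOpen g) r * IsLocalization.mk' Γ(Y, Y.basicOpen g) x s ∈
              f.ker.ideal (Y.affineBasicOpen g)
          rw [← ρres (W := W.1) (Y.basicOpen_le g) r, ← f.ker.map_ideal_basicOpen W g]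
          show _ ↔ (Y.presheaf.map (homOfLE (Y.basicOpen_le g)).op).hom (ρ W.1 r) * _ ∈ _
          rw [this, IsLocalization.mul_mk'_eq_mk'_of_mul]
          refine Iff.trans ?_ (IsLocalization.mk'_mem_map_algebraMap_iff (M := Submonoid.powers g)
            (S := Γ(Y, Y.basicOpen g)) (f.ker.ideal W) _ s).symm
          refine exists_congr fun t => and_congr_right fun _ => ?_
          rw [mul_left_comm] }
    intro W a ha
    have hJ : J ≤ f.ker := by
      refine le_ofIdeals_iff.mpr fun W b hb => ?_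
      have hb' := f.ideal_ker_le W hb
      rw [RingHom.mem_ker, LinearMap.mulLeft_apply, map_mul] at hb'
      exact hX W.1 r hr _ hb'
    exact hJ W ha
  rw [IsZariskiLocalAtSource.iff_of_openCover (P := @Flat) f.ker.subschemeCover.openCover]
  intro W
  have hfs : f.ker.subschemeCover.f W ≫ f.imageι ≫ q =
      Spec.map ((Scheme.ΓSpecIso (CommRingCat.of R)).inv ≫ q.appLE ⊤ W.1 le_top ≫
        CommRingCat.ofHom (Ideal.Quotient.mk (f.ker.ideal W))) := by
    have h2 := IsAffineOpen.SpecMap_appLE_fromSpec q (isAffineOpen_top _) W.2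
      (le_top : W.1 ≤ q ⁻¹ᵁ ⊤)
    rw [IsAffineOpen.fromSpec_top, Scheme.isoSpec_Spec_inv] at h2
    rw [← Category.assoc, Scheme.IdealSheafData.subschemeCover_map_subschemeι,
      Scheme.IdealSheafData.glueDataObjι_ι, Spec.map_comp, Spec.map_comp]
    refine (Category.assoc _ _ _).trans ?_
    refine Eq.trans ?_ (Category.assoc _ _ _).symm
    exact congrArg (Spec.map _ ≫ ·) h2.symm
  show Flat (f.ker.subschemeCover.f W ≫ f.imageι ≫ q)
  rw [hfs]
  refine (HasRingHomProperty.Spec_iff (P := @Flat)).mpr ?_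
  let φ : R →+* Γ(Y, W.1) ⧸ f.ker.ideal W := (Ideal.Quotient.mk _).comp (ρ W.1)
  show φ.Flat
  let _ := φ.toAlgebra
  have : Module.IsTorsionFree R (Γ(Y, W.1) ⧸ f.ker.ideal W) := by
    refine ⟨fun r hr a b hab => ?_⟩
    obtain ⟨a, rfl⟩ := Ideal.Quotient.mk_surjective a
    obtain ⟨b, rfl⟩ := Ideal.Quotient.mk_surjective b
    simp only [Algebra.smul_def] at hab
    change Ideal.Quotient.mk _ (ρ W.1 r) * _ = Ideal.Quotient.mk _ (ρ W.1 r) * _ at hab
    rw [← map_mul, ← map_mul, Ideal.Quotient.eq, ← mul_sub] at hab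
    exact Ideal.Quotient.eq.mpr (key r hr.ne_zero W _ hab)
  exact RingHom.flat_algebraMap_iff.mpr inferInstance

end Groth.Agent.S19202
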