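import Mathlib
import Groth.Agent.S19202
import Groth.Statements.S18266
-- import your own Groth.Agent.* helpers here

set_option autoImplicit false
set_option backward.isDefEq.respectTransparency false
set_option backward.isDefEq.respectTransparency.types false
universe u
open CategoryTheory Limits AlgebraicGeometry
open FDesc

namespace Groth.Agent.S18266

/-- Let A be a discrete valuation ring, η the generic point of Spec A, and f : X → Spec A a morphism
from an arbitrary scheme X. The scheme-theoretic closure of the generic fibre X_η in X (the flat
completion) is flat over Spec A, and it is the largest closed subscheme of X flat over Spec A: for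
every closed immersion i : Z → X with Z flat over Spec A, the ideal sheaf of the flat completion is
contained in the ideal sheaf of i. -/
theorem result (A : Type u) [CommRing A] [IsDomain A]
    [IsDiscreteValuationRing A] {X : Scheme.{u}} (f : X ⟶ Spec (CommRingCat.of A))
    (η : ↥(Spec (CommRingCat.of A))) (hη : η.asIdeal = ⊥) :
    Flat ((f.fiberι η).imageι ≫ f) ∧
      ∀ (Z : Scheme.{u}) (i : Z ⟶ X), IsClosedImmersion i → Flat (i ≫ f) → (f.fiberι η).ker ≤ i.ker := by
  haveI : Subsingleton (Spec (CommRingCat.of ((Spec (CommRingCat.of A)).residueField η))) := inferInstanceAs (Subsingleton (PrimeSpectrum _))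
  let j := (Spec (CommRingCat.of A)).fromSpecResidueField η
  haveI : IsDominant j := by
    refine ⟨?_⟩
    show Dense (Set.range j)
    rw [Scheme.range_fromSpecResidueField, dense_iff_closure_eq, Set.eq_univ_iff_forall]
    intro y
    rw [← specializes_iff_mem_closure]
    exact (PrimeSpectrum.le_iff_specializes η y).1 (show η.asIdeal ≤ y.asIdeal by rw [hη]; exact bot_le)
  haveI : IsSchemeTheoreticallyDominant j := IsSchemeTheoreticallyDominant.of_isDominant j
  haveI : Flat j := by
    obtain ⟨φ, hφ⟩ := Spec.map_surjective j
    rw [← hφ, Flat.SpecMap_iff]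
    have hinj : Function.Injective φ.hom := by
      rw [injective_iff_map_eq_zero]
      intro a ha
      have hη' : Spec.map φ (IsLocalRing.closedPoint _) = η := by rw [hφ]; exact Scheme.fromSpecResidueField_apply _ _
      have h1 : a ∈ (Spec.map φ (IsLocalRing.closedPoint _)).asIdeal := by
        show φ.hom a ∈ IsLocalRing.maximalIdeal _
        rw [ha]; exact Ideal.zero_mem _
      rw [hη', hη] at h1
      exact h1
    algebraize [φ.hom]
    haveI : Module.IsTorsionFree A ((Spec (CommRingCat.of A)).residueField η) :=
      Module.isTorsionFree_iff_algebraMap_injective.2 hinj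
    exact (inferInstance : Module.Flat A ((Spec (CommRingCat.of A)).residueField η))
  refine ⟨?_, fun Z i hi hfl => ?_⟩
  · haveI : Flat (f.fiberι η ≫ f) := by rw [Scheme.Hom.fiberι, pullback.condition]; infer_instance
    exact Groth.Agent.S19202.result A (f.fiberι η ≫ f) f (f.fiberι η) rfl
  · haveI : Flat (i ≫ f) := hfl
    let m : pullback j (i ≫ f) ⟶ f.fiber η := pullback.lift (pullback.snd j (i ≫ f) ≫ i) (pullback.fst j (i ≫ f))
      (by rw [Category.assoc, ← pullback.condition])
    calc (f.fiberι η).ker ≤ (m ≫ f.fiberι η).ker := Scheme.Hom.le_ker_comp _ _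
      _ = (pullback.snd j (i ≫ f) ≫ i).ker := by rw [show m ≫ f.fiberι η = pullback.snd j (i ≫ f) ≫ i from pullback.lift_fst _ _ _]
      _ = i.ker := by
        rw [← Scheme.IdealSheafData.map_ker, (pullback.snd j (i ≫ f)).ker_eq_bot, Scheme.IdealSheafData.map_bot]

end Groth.Agent.S18266
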