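import Groth.Statements.S18267
import Groth.Agent.ProperFinLocus.Curve
import Groth.Agent.ProjUPLib.QProjAmple
import Groth.Agent.S1535

set_option autoImplicit false
open CategoryTheory CategoryTheory.Limits AlgebraicGeometry
open ZCorr

namespace Groth.Agent.S18267

/-- Over the complex numbers, suppose C is a quasi-projective curve that is smooth and irreducible and X
is a projective variety that is smooth and irreducible; take Z to be an integral closed subscheme of
C × X of dimension one whose projection to C is surjective (a non-vertical irreducible component of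
a correspondence from C to X). Then the projection Z → C is finite and flat. -/
theorem result
    (C X : Scheme.{0}) [C.Over (Spec (CommRingCat.of ℂ))] [X.Over (Spec (CommRingCat.of ℂ))]
    [AlgebraicGeometry.IsIntegral C] [Smooth (C ↘ Spec (CommRingCat.of ℂ))] (hC : RelProj.IsHQuasiProjective (C ↘ Spec (CommRingCat.of ℂ)))
    (hdimC : topologicalKrullDim C = 1)
    [AlgebraicGeometry.IsIntegral X] [Smooth (X ↘ Spec (CommRingCat.of ℂ))] (hX : RelProj.IsHProjective (X ↘ Spec (CommRingCat.of ℂ)))
    {Z : Scheme.{0}} (i : Z ⟶ pullback (C ↘ Spec (CommRingCat.of ℂ)) (X ↘ Spec (CommRingCat.of ℂ))) [IsClosedImmersion i]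
    [AlgebraicGeometry.IsIntegral Z] (hdimZ : topologicalKrullDim Z = 1)
    (hsurj : Function.Surjective ⇑(i ≫ pullback.fst (C ↘ Spec (CommRingCat.of ℂ)) (X ↘ Spec (CommRingCat.of ℂ)))) :
    IsFinite (i ≫ pullback.fst (C ↘ Spec (CommRingCat.of ℂ)) (X ↘ Spec (CommRingCat.of ℂ))) ∧
      Flat (i ≫ pullback.fst (C ↘ Spec (CommRingCat.of ℂ)) (X ↘ Spec (CommRingCat.of ℂ))) := by
  obtain ⟨N, j, hj, hjq⟩ := hX
  have := Groth.Agent.ProjUPLib.isProper_toBase.{0} N (Spec (CommRingCat.of ℂ))
  have hXp : IsProper (X ↘ Spec (CommRingCat.of ℂ)) := by rw [← hjq]; exact MorphismProperty.comp_mem _ _ _ (inferInstance : IsProper j) this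
  set f := i ≫ pullback.fst (C ↘ Spec (CommRingCat.of ℂ)) (X ↘ Spec (CommRingCat.of ℂ))
  have hf : IsProper f := by
    have : IsProper (pullback.fst (C ↘ Spec (CommRingCat.of ℂ)) (X ↘ Spec (CommRingCat.of ℂ))) :=
      MorphismProperty.pullback_fst _ _ hXp
    exact MorphismProperty.comp_mem _ _ _ inferInstance this
  have : IsLocallyNoetherian C := LocallyOfFiniteType.isLocallyNoetherian (C ↘ Spec (CommRingCat.of ℂ))
  obtain ⟨z, hz⟩ := hsurj (genericPoint C)
  have hgen : f (genericPoint Z) = genericPoint C := by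
    refine (Specializes.antisymm ?_ (genericPoint_specializes _)).eq
    rw [← hz]
    exact (genericPoint_specializes z).map f.continuous
  exact ⟨Groth.Agent.ProperFinLocus.finite_of_curve f (C ↘ Spec (CommRingCat.of ℂ)) (by exact_mod_cast hdimC) (by exact_mod_cast hdimZ) hgen,
    Groth.Agent.ProperFinLocus.flat_of_regular_curve f (fun c => Groth.Agent.S1535.result ℂ C c) hdimC.le hgen⟩

end Groth.Agent.S18267
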