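import Groth.Statements.S18283
import Mathlib

set_option autoImplicit false
universe u v
open CAlgX

namespace Groth.Agent.S18283

/-- Let A be a commutative ring, ι a finite index type, H a finite set of indices (the head indices) and
c : ι → ι → A a table of coefficients; for j ∈ H put f_j = e_j − Σ_{i ∉ H} c_{ji} e_i in the free
module A^ι, so that each f_j has head e_j with coefficient 1 and tail supported outside H. If a
submodule M of A^ι contains every f_j with j ∈ H, then M is the A-span of these f_j if and only if
every wedge product of |H|+1 elements of M vanishes in the (|H|+1)-st exterior power of A^ι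
(equivalently, every (|H|+1)-minor of every matrix whose rows lie in M vanishes). The published
statement is the case where A is a Noetherian algebra over a field of characteristic zero, A^ι is
the degree-(m+1) part of the polynomial ring over A with its basis of terms, H is the set of
degree-(m+1) terms of a strongly stable monomial ideal generated in degree m, and M is the
degree-(m+1) part of an ideal generated by a marked set on that monomial ideal; this row allows any
commutative ring and any submodule containing the marked polynomials. -/
theorem result
    {A : Type u} [CommRing A] {ι : Type v} [Fintype ι] [DecidableEq ι]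
    (H : Finset ι) (c : ι → ι → A) (M : Submodule A (ι → A))
    (hf : ∀ j ∈ H, (Pi.single j (1 : A) - ∑ i ∈ Hᶜ, c j i • Pi.single i (1 : A)) ∈ M) :
    M = Submodule.span A ((fun j => Pi.single j (1 : A) - ∑ i ∈ Hᶜ, c j i • Pi.single i (1 : A)) '' ↑H)
      ↔ ∀ v : Fin (H.card + 1) → ι → A, (∀ k, v k ∈ M) →
          exteriorPower.ιMulti A (H.card + 1) v = 0 := by
  classical
  let f : ι → ι → A := fun j => Pi.single j (1 : A) - ∑ i ∈ Hᶜ, c j i • Pi.single i (1 : A)
  have hfH : ∀ j, ∀ l ∈ H, f j l = if l = j then 1 else 0 := by
    intro j l hl
    simp only [f, Pi.sub_apply, Finset.sum_apply, Pi.smul_apply, smul_eq_mul, Pi.single_apply]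
    rw [Finset.sum_eq_zero fun i hi => ?_, sub_zero]
    rw [if_neg, mul_zero]
    rintro rfl
    exact Finset.mem_compl.mp hi hl
  let e : Fin H.card ≃ H := H.equivFin.symm
  constructor
  · intro hM v hv
    let L : (H → A) →ₗ[A] (ι → A) := Fintype.linearCombination A fun j : H => f j
    have hz : (exteriorPower.ιMulti A (H.card + 1)).compLinearMap L = 0 := by
      refine Module.Basis.ext_alternating (Pi.basisFun A H) fun w hw => ?_
      have h1 := Fintype.card_le_of_injective w hw
      simp only [Fintype.card_fin, Fintype.card_coe] at h1
      omega
    have hrange : M = LinearMap.range L := by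
      rw [hM, Fintype.range_linearCombination, Set.image_eq_range]
      rfl
    choose w hw using fun k => LinearMap.mem_range.mp (hrange ▸ hv k)
    have h2 := congrArg (fun g => g w) hz
    simp only [AlternatingMap.compLinearMap_apply, AlternatingMap.zero_apply] at h2
    rwa [show (fun k => L (w k)) = v from funext hw] at h2
  · intro h
    refine le_antisymm (fun m hm => ?_) (Submodule.span_le.mpr (by rintro _ ⟨j, hj, rfl⟩; exact hf j hj))
    let S := Submodule.span A (f '' ↑H)
    have hS : ∑ j ∈ H, m j • f j ∈ S :=
      Submodule.sum_mem _ fun j hj => S.smul_mem _ (Submodule.subset_span ⟨j, hj, rfl⟩)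
    suffices m - ∑ j ∈ H, m j • f j = 0 by rw [sub_eq_zero.mp this]; exact hS
    have hm' : m - ∑ j ∈ H, m j • f j ∈ M := M.sub_mem hm (Submodule.sum_mem _ fun j hj => M.smul_mem _ (hf j hj))
    have hH : ∀ l ∈ H, (m - ∑ j ∈ H, m j • f j) l = 0 := by
      intro l hl
      simp only [Pi.sub_apply, Finset.sum_apply, Pi.smul_apply, smul_eq_mul, hfH _ l hl, mul_ite, mul_one, mul_zero]
      rw [Finset.sum_ite_eq, if_pos hl, sub_self]
    generalize m - ∑ j ∈ H, m j • f j = x at hm' hH
    funext i
    let P : (ι → A) →ₗ[A] (Fin (H.card + 1) → A) :=
      LinearMap.pi (Fin.cons (LinearMap.proj i) fun k => LinearMap.proj ((e k : H) : ι))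
    let v : Fin (H.card + 1) → ι → A := Fin.cons x fun k => f (e k : H)
    have hv : ∀ k, v k ∈ M := fun k => by
      induction k using Fin.cases with
      | zero => exact hm'
      | succ k => exact hf _ (e k).2
    have h1 := congrArg (exteriorPower.alternatingMapLinearEquiv (Matrix.detRowAlternating.compLinearMap P)) (h v hv)
    rw [exteriorPower.alternatingMapLinearEquiv_apply_ιMulti, map_zero] at h1
    change Matrix.det (Matrix.of fun k => P (v k)) = 0 at h1
    rw [Matrix.det_of_lowerTriangular] at h1
    · rw [Fin.prod_univ_succ, Finset.prod_eq_one fun k _ => ?_, mul_one] at h1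
      · simpa [P, v] using h1
      · simp [P, v, hfH _ _ (e k).2]
    · intro k l hkl
      simp only [OrderDual.toDual_lt_toDual] at hkl
      induction k using Fin.cases with
      | zero =>
        induction l using Fin.cases with
        | zero => exact absurd hkl (lt_irrefl _)
        | succ l => simp [P, v, hH _ (e l).2]
      | succ k =>
        induction l using Fin.cases with
        | zero => exact absurd hkl (by simp)
        | succ l =>
          simp only [Matrix.of_apply, P, v, LinearMap.pi_apply, Fin.cons_succ, LinearMap.proj_apply, hfH _ _ (e l).2]
          rw [if_neg]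
          exact fun h => hkl.ne' (by rw [e.injective (Subtype.ext h)])

end Groth.Agent.S18283
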