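import Groth.Statements.S1830
import Groth.Agent.SyntLCI.Field
import Groth.Agent.SyntLCI.RelFibre
import Groth.Agent.GrpSyntomic.Gorenstein
import Groth.Agent.GorenBasic.RingOps


set_option autoImplicit false
universe u
open CategoryTheory
open scoped TensorProduct
attribute [local instance] HasDerivedCategory.standard
open Goren

namespace Groth.Agent.S1830

/-- A flat local complete intersection ring map has Gorenstein fibres: let A → B be a flat ring
homomorphism which is a local complete intersection. Then for every prime p of A the fibre ring B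
⊗_A κ(p) is a Gorenstein ring. (This is the affine form of the statement that a syntomic morphism is
a Gorenstein morphism.) -/
theorem result (A B : Type u) [CommRing A] [CommRing B] [Algebra A B] [Module.Flat A B] (hl : LCI.IsLCI A B) (p : PrimeSpectrum A) : LocCoh.IsGorensteinRing (B ⊗[A] p.asIdeal.ResidueField) := by
  have hs : Synt.IsSyntomic A B := (Groth.Agent.SyntLCI.isSyntomic_iff A B).2 ⟨inferInstance, hl⟩
  have hfib : LCI.IsLCI p.asIdeal.ResidueField (p.asIdeal.Fiber B) :=
    (Groth.Agent.SyntLCI.isLCIOver_iff_isLCI _ _).1 (hs.2.2 p)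
  obtain ⟨hft, hci⟩ := (Groth.Agent.SyntLCI.isLCI_iff _ _).1 hfib
  haveI : IsNoetherianRing (p.asIdeal.Fiber B) := Algebra.FiniteType.isNoetherianRing p.asIdeal.ResidueField _
  haveI : LocCoh.IsGorensteinRing (p.asIdeal.Fiber B) :=
    ⟨fun q _ => Groth.Agent.GrpSyntomic.gorenstein_of_isCIOver (hci ⟨q, inferInstance⟩)⟩
  exact Groth.Agent.GorenBasic.isGorensteinRing_of_ringEquiv
    (R := p.asIdeal.Fiber B) (Algebra.TensorProduct.comm A p.asIdeal.ResidueField B).toRingEquiv

end Groth.Agent.S1830
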