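import Groth.Statements.S18317
import Groth.Agent.SchDescent.Cover
import Groth.Agent.SmoothReduced.Basic
import Mathlib.AlgebraicGeometry.Sites.Proetale
import Mathlib.AlgebraicGeometry.Morphisms.QuasiFinite
import Mathlib.AlgebraicGeometry.Artinian

set_option autoImplicit false
universe u
open CategoryTheory AlgebraicGeometry
open NonAbH1

set_option backward.isDefEq.respectTransparency.types false
open CategoryTheory.Limits MonoidalCategory CartesianMonoidalCategory MonObj GrpObj

namespace Groth.Agent.S18317

/-- Let K be a field and G a finite connected K-group scheme (G → Spec K finite, G connected as a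
topological space). Then every G-torsor X over Spec K for the étale topology (a K-scheme with an
action of G whose shear map G ×_K X → X ×_K X is an isomorphism and which acquires a section over
the members of some étale covering of Spec K) is trivial: X has a K-point. -/
theorem result (K : Type u) [Field K]
    (G X : Over (Spec (CommRingCat.of K))) [GrpObj G] [IsFinite G.hom] [ConnectedSpace G.left]
    (a : AlgGrp.Action G X) (h : NonAbH1.IsTorsorFor Scheme.etalePrecoverage a) :
    NonAbH1.HasSectionOver X (𝟙 (Spec (CommRingCat.of K))) := by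
  obtain ⟨hps, R, hR, hsec⟩ := h
  haveI : IsLocallyArtinian (Spec (CommRingCat.of K)) := inferInstance
  haveI : IsLocallyArtinian G.left := IsLocallyArtinian.of_locallyQuasiFinite G.hom
  haveI : DiscreteTopology G.left := inferInstance
  haveI : Subsingleton G.left := by
    haveI : PreconnectedSpace G.left := inferInstance
    exact preconnectedSpace_iff_univ.mp inferInstance |>.subsingleton |> Set.subsingleton_univ_iff.mp
  let e : Spec (CommRingCat.of K) ⟶ G.left := (η[G] : 𝟙_ (Over (Spec (CommRingCat.of K))) ⟶ G).left
  have he : e ≫ G.hom = 𝟙 _ := Over.w (η[G] : 𝟙_ (Over (Spec (CommRingCat.of K))) ⟶ G)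
  haveI : IsClosedImmersion (e ≫ G.hom) := by rw [he]; infer_instance
  haveI : IsClosedImmersion e := IsClosedImmersion.of_comp e G.hom
  haveI : Surjective e := ⟨fun x => ⟨Classical.arbitrary _, Subsingleton.elim _ _⟩⟩
  have htriv : ∀ (T : Over (Spec (CommRingCat.of K))) [IsReduced T.left] (g : T ⟶ G),
      g = toUnit T ≫ η[G] := by
    intro T _ g
    haveI : IsIso (pullback.fst g.left e) := isIso_of_isClosedImmersion_of_surjective _
    ext
    have h1 : (inv (pullback.fst g.left e) ≫ pullback.snd g.left e) ≫ e = g.left := by
      rw [Category.assoc, ← pullback.condition, IsIso.inv_hom_id_assoc]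
    have h2 : inv (pullback.fst g.left e) ≫ pullback.snd g.left e = T.hom := by
      have := congrArg (· ≫ G.hom) h1
      simp only [Category.assoc, he] at this
      erw [Category.comp_id] at this
      rw [this]; exact Over.w g
    rw [← h1, h2]
    rfl
  haveI : IsIso (lift a.act (snd G X)) := hps
  let κ := {q : Σ Y : Scheme.{u}, Y ⟶ Spec (CommRingCat.of K) // R q.2}
  let z : ∀ k : κ, k.1.1 ⟶ Spec (CommRingCat.of K) := fun k => k.1.2
  have hzR : Presieve.ofArrows _ z = R := by
    funext Y
    ext g
    exact ⟨fun ⟨i⟩ => i.2, fun hg => Presieve.ofArrows.mk (⟨⟨Y, g⟩, hg⟩ : κ)⟩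
  have hz : SchDescent.IsCover z := by
    show Presieve.ofArrows _ z ∈ _
    rw [hzR]
    exact Scheme.proetalePrecoverage_le_fpqcPrecoverage _ (Scheme.etalePrecoverage_le_proetalePrecoverage _ hR)
  have het : ∀ k, Etale (z k) := by
    have : Presieve.ofArrows _ z ∈ Scheme.etalePrecoverage (Spec (CommRingCat.of K)) := by rw [hzR]; exact hR
    exact ((Scheme.ofArrows_mem_precoverage_iff (P := @Etale)).mp this).2
  choose s hs using fun k : κ => hsec k.1.2 k.2
  obtain ⟨t, ht, -⟩ := SchDescent.existsUnique_glue hz s (by
    intro k k' T p q hpq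
    haveI := het k
    haveI := het k'
    let P := pullback (z k) (z k')
    let T' : Over (Spec (CommRingCat.of K)) := Over.mk (pullback.fst (z k) (z k') ≫ z k)
    haveI : IsReduced T'.left :=
      SmoothReduced.isReduced_of_smooth_scheme (pullback.fst (z k) (z k') ≫ z k)
    let x1 : T' ⟶ X := Over.homMk (pullback.fst (z k) (z k') ≫ s k)
      ((Category.assoc _ _ _).trans (congrArg (pullback.fst (z k) (z k') ≫ ·) (hs k)))
    let x2 : T' ⟶ X := Over.homMk (pullback.snd (z k) (z k') ≫ s k')
      (((Category.assoc _ _ _).trans (congrArg (pullback.snd (z k) (z k') ≫ ·) (hs k'))).trans pullback.condition.symm)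
    let m : T' ⟶ G ⊗ X := lift x1 x2 ≫ inv (lift a.act (snd G X))
    have hm : m ≫ lift a.act (snd G X) = lift x1 x2 := by
      show (lift x1 x2 ≫ _) ≫ _ = _
      rw [Category.assoc, IsIso.inv_hom_id, Category.comp_id]
    have hm1 : m ≫ a.act = x1 := by
      have := congrArg (· ≫ fst X X) hm
      simpa using this
    have hm2 : m ≫ snd G X = x2 := by
      have := congrArg (· ≫ snd X X) hm
      simpa using this
    have hmG : m = lift (toUnit T' ≫ η[G]) x2 := by
      apply CartesianMonoidalCategory.hom_ext
      · rw [lift_fst]; exact htriv T' _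
      · rw [lift_snd]; exact hm2
    have hx : x1 = x2 := by
      rw [← hm1, hmG]
      have : lift (toUnit T' ≫ η[G]) x2 = lift (toUnit T') x2 ≫ η[G] ▷ X := by
        apply CartesianMonoidalCategory.hom_ext <;> simp
      rw [this, Category.assoc, a.one_act]
      simp
    have := congrArg (fun w => pullback.lift p q hpq ≫ w.left) hx
    simp only [x1, x2, Over.homMk_left] at this
    calc p ≫ s k = (pullback.lift p q hpq ≫ pullback.fst (z k) (z k')) ≫ s k := by rw [pullback.lift_fst]
      _ = (pullback.lift p q hpq ≫ pullback.snd (z k) (z k')) ≫ s k' := by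
        rw [Category.assoc, Category.assoc]; exact this
      _ = q ≫ s k' := by rw [pullback.lift_snd])
  refine ⟨t, SchDescent.hom_ext hz fun k => ?_⟩
  rw [← Category.assoc, ht k, Category.comp_id]
  exact hs k

end Groth.Agent.S18317
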