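import Groth.Statements.S18319
import Groth.Agent.S18317
import Mathlib.AlgebraicGeometry.AlgClosed.Basic
import Mathlib.RingTheory.Etale.Field

set_option autoImplicit false
universe u
open CategoryTheory AlgebraicGeometry
open NonAbH1

set_option backward.isDefEq.respectTransparency.types false
open CategoryTheory.Limits

namespace Groth.Agent.S18319

/-- Let K be a perfect field and G a finite connected K-group scheme (G → Spec K finite, G connected).
Then every G-torsor X over Spec K for the fppf topology (simply transitive action, a section over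
the members of some fppf covering of Spec K) is trivial: X has a K-point. -/
theorem result (K : Type u) [Field K]
    [PerfectField K] (G X : Over (Spec (CommRingCat.of K))) [GrpObj G] [IsFinite G.hom] [ConnectedSpace G.left]
    (a : AlgGrp.Action G X) (h : NonAbH1.IsTorsorFor Scheme.fppfPrecoverage a) :
    NonAbH1.HasSectionOver X (𝟙 (Spec (CommRingCat.of K))) := by
  obtain ⟨hps, R, hR, hsec⟩ := h
  let κ := {q : Σ Y : Scheme.{u}, Y ⟶ Spec (CommRingCat.of K) // R q.2}
  have hzR : Presieve.ofArrows (fun k : κ => k.1.1) (fun k => k.1.2) = R := by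
    funext Y
    ext g
    exact ⟨fun ⟨i⟩ => i.2, fun hg => Presieve.ofArrows.mk (⟨⟨Y, g⟩, hg⟩ : κ)⟩
  have hR' := (Scheme.ofArrows_mem_precoverage_iff (P := @Flat ⊓ @LocallyOfFinitePresentation)).mp
    (show Presieve.ofArrows (fun k : κ => k.1.1) (fun k => k.1.2) ∈ Scheme.fppfPrecoverage _ from hzR.symm ▸ hR)
  obtain ⟨k, y, -⟩ := hR'.1 (Classical.arbitrary _)
  let f := k.1.2
  haveI : LocallyOfFinitePresentation f := (hR'.2 k).2
  haveI : Nonempty k.1.1 := ⟨y⟩
  haveI : JacobsonSpace k.1.1 := LocallyOfFiniteType.jacobsonSpace f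
  obtain ⟨x, -, hx⟩ := nonempty_inter_closedPoints (X := k.1.1) Set.univ_nonempty isOpen_univ.isLocallyClosed
  let q := k.1.1.fromSpecResidueField x ≫ f
  let φ := Spec.preimage q
  have hq : Spec.map φ = q := Spec.map_preimage q
  haveI : IsFinite q := by
    rw [mem_closedPoints_iff, isClosed_singleton_iff_isClosedImmersion] at hx
    rw [isFinite_iff_locallyOfFiniteType_of_jacobsonSpace]
    infer_instance
  have hφ : φ.hom.Finite := by rw [← IsFinite.SpecMap_iff, hq]; infer_instance
  haveI hetq : Etale q := by
    rw [← hq, HasRingHomProperty.Spec_iff (P := @Etale)]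
    algebraize [φ.hom]
    haveI : Algebra.IsSeparable (CommRingCat.of K) (k.1.1.residueField x) := by
      haveI : Algebra.IsAlgebraic K (k.1.1.residueField x) := Algebra.IsAlgebraic.of_finite K _
      exact Algebra.IsAlgebraic.isSeparable_of_perfectField
    haveI : Algebra.FormallyEtale (CommRingCat.of K) (k.1.1.residueField x) :=
      Algebra.FormallyEtale.of_isSeparable _ _
    haveI : Algebra.FinitePresentation (CommRingCat.of K) (k.1.1.residueField x) :=
      Algebra.FinitePresentation.of_finiteType.mp inferInstance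
    exact ⟨inferInstance, inferInstance⟩
  obtain ⟨s, hs⟩ := hsec f k.2
  refine Groth.Agent.S18317.result K G X a ⟨hps, Presieve.singleton q, ?_, ?_⟩
  · show Presieve.singleton q ∈ Scheme.precoverage @Etale _
    rw [← Presieve.ofArrows_pUnit.{0} q]
    refine (Scheme.ofArrows_mem_precoverage_iff (P := @Etale)).mpr ⟨fun p => ⟨PUnit.unit, Classical.arbitrary _, Subsingleton.elim _ _⟩, fun _ => hetq⟩
  · rintro S' g ⟨⟩
    exact ⟨k.1.1.fromSpecResidueField x ≫ s, by rw [Category.assoc, hs]⟩

end Groth.Agent.S18319
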