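import Groth.Statements.S18318
import Groth.Agent.S18319
import Mathlib.Topology.Separation.Connected
import Mathlib.AlgebraicGeometry.Morphisms.QuasiCompact
import Mathlib.AlgebraicGeometry.Sites.Fpqc
import Mathlib.RingTheory.Noetherian.Nilpotent
import Mathlib.AlgebraicGeometry.Noetherian

set_option autoImplicit false
universe u
open CategoryTheory AlgebraicGeometry
open NonAbH1

set_option backward.isDefEq.respectTransparency.types false
open CategoryTheory.Limits MonoidalCategory CartesianMonoidalCategory MonObj GrpObj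
open scoped TensorProduct

namespace Groth.Agent.S18318

/-- Let K be a field of exponential characteristic p and G a finite connected K-group scheme. Then there
is an integer n ≥ 0 such that every G-torsor X over Spec K for the fppf topology (simply transitive
action, a section over the members of some fppf covering) becomes trivial over the purely
inseparable extension K^{1/p^n} of K: equivalently, X admits a K-morphism from Spec K regarded as a
K-scheme through the n-th iterate x ↦ x^(p^n) of the Frobenius endomorphism of K. The source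
moreover bounds n by p^n ≤ (#G)!; only the existence of a uniform n is stated here. In particular (p
= 1, characteristic zero) every such torsor is trivial. -/
theorem result (K : Type u) [Field K]
    (p : ℕ) [ExpChar K p] (G : Over (Spec (CommRingCat.of K))) [GrpObj G] [IsFinite G.hom] [ConnectedSpace G.left] :
    ∃ n : ℕ, ∀ (X : Over (Spec (CommRingCat.of K))) (a : AlgGrp.Action G X), NonAbH1.IsTorsorFor Scheme.fppfPrecoverage a →
      NonAbH1.HasSectionOver X (Spec.map (CommRingCat.ofHom (iterateFrobenius K p n))) := by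
  haveI : IsLocallyArtinian G.left := IsLocallyArtinian.of_locallyQuasiFinite G.hom
  haveI : DiscreteTopology G.left := inferInstance
  haveI : PreconnectedSpace G.left := inferInstance
  haveI : Subsingleton G.left := PreconnectedSpace.trivial_of_discrete
  haveI : IsAffine G.left := isAffine_of_isAffineHom G.hom
  haveI : IsLocallyNoetherian G.left := LocallyOfFiniteType.isLocallyNoetherian G.hom
  haveI : IsNoetherianRing Γ(G.left, ⊤) := IsLocallyNoetherian.component_noetherian ⟨⊤, isAffineOpen_top _⟩
  obtain ⟨N, hN⟩ := IsNoetherianRing.isNilpotent_nilradical Γ(G.left, ⊤)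
  rcases (expChar_pos K p).nat_succ_le.eq_or_lt with hp | hp
  · subst hp
    haveI : CharZero K := charZero_of_expChar_one' K
    refine ⟨0, fun X a h => ?_⟩
    obtain ⟨s, hs⟩ := Groth.Agent.S18319.result K G X a h
    refine ⟨s, hs.trans ?_⟩
    rw [iterateFrobenius_zero]
    exact (Spec.map_id _).symm
  obtain ⟨n, hn⟩ : ∃ n : ℕ, N ≤ p ^ n := ⟨N, (Nat.lt_pow_self hp).le⟩
  let e : Spec (CommRingCat.of K) ⟶ G.left := (η[G] : 𝟙_ (Over (Spec (CommRingCat.of K))) ⟶ G).left
  have he : e ≫ G.hom = 𝟙 _ := Over.w (η[G] : 𝟙_ (Over (Spec (CommRingCat.of K))) ⟶ G)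
  have htriv : ∀ (T : Over (Spec (CommRingCat.of K))) (g : T ⟶ G),
      (∀ a ∈ nilradical Γ(G.left, ⊤), g.left.appTop a = 0) → g = toUnit T ≫ η[G] := by
    intro T g hg
    ext1
    show g.left = T.hom ≫ e
    apply ext_of_isAffine
    ext a
    let c := G.hom.appTop (e.appTop a)
    have hc : e.appTop c = e.appTop a := by
      show (G.hom.appTop ≫ e.appTop) (e.appTop a) = _
      rw [← Scheme.Hom.comp_appTop, he]
      rfl
    have hnil : a - c ∈ nilradical Γ(G.left, ⊤) := by
      rw [mem_nilradical, Scheme.isNilpotent_iff_basicOpen_eq_bot]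
      refine eq_bot_iff.mpr fun y hy => ?_
      let z : ↥(Spec (CommRingCat.of K)) := Classical.arbitrary _
      have : z ∈ e ⁻¹ᵁ (G.left.basicOpen (a - c)) := by
        show e z ∈ G.left.basicOpen (a - c)
        rwa [Subsingleton.elim (e z) y]
      rw [Scheme.preimage_basicOpen_top, map_sub, hc, sub_self, Scheme.basicOpen_zero] at this
      exact this
    have h1 := hg _ hnil
    rw [map_sub, sub_eq_zero] at h1
    refine h1.trans ?_
    show (G.hom.appTop ≫ g.left.appTop) (e.appTop a) = (T.hom ≫ e).appTop a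
    rw [← Scheme.Hom.comp_appTop, Over.w g]
    rfl
  refine ⟨n, fun X a h => ?_⟩
  obtain ⟨hps, S, hS, hsec⟩ := h
  haveI : IsIso (lift a.act (snd G X)) := hps
  let κ := {q : Σ Y : Scheme.{u}, Y ⟶ Spec (CommRingCat.of K) // S q.2}
  have hzR : Presieve.ofArrows (fun k : κ => k.1.1) (fun k => k.1.2) = S := by
    funext Y
    ext g
    exact ⟨fun ⟨i⟩ => i.2, fun hg => Presieve.ofArrows.mk (⟨⟨Y, g⟩, hg⟩ : κ)⟩
  have hR' := (Scheme.ofArrows_mem_precoverage_iff (P := @Flat ⊓ @LocallyOfFinitePresentation)).mp
    (show Presieve.ofArrows (fun k : κ => k.1.1) (fun k => k.1.2) ∈ Scheme.fppfPrecoverage _ from hzR.symm ▸ hS)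
  obtain ⟨k, y, -⟩ := hR'.1 (Classical.arbitrary _)
  obtain ⟨s, -⟩ := hsec k.1.2 k.2
  let x : X.left := s y
  let q := X.left.fromSpecResidueField x ≫ X.hom
  let φ := Spec.preimage q
  have hq : Spec.map φ = q := Spec.map_preimage q
  let L : Type u := X.left.residueField x
  letI : Algebra K L := φ.hom.toAlgebra
  let R : Type u := TensorProduct K L L
  let i1 : CommRingCat.of L ⟶ CommRingCat.of R := CommRingCat.ofHom Algebra.TensorProduct.includeLeftRingHom
  let i2 : CommRingCat.of L ⟶ CommRingCat.of R :=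
    CommRingCat.ofHom (Algebra.TensorProduct.includeRight : L →ₐ[K] R).toRingHom
  have hi : φ ≫ i1 = φ ≫ i2 := by
    ext b
    show (algebraMap K L b) ⊗ₜ[K] (1 : L) = (1 : L) ⊗ₜ[K] (algebraMap K L b)
    rw [Algebra.algebraMap_eq_smul_one, TensorProduct.smul_tmul]
  let T : Over (Spec (CommRingCat.of K)) := Over.mk (Spec.map (φ ≫ i1))
  let y1 : T ⟶ X := Over.homMk (Spec.map i1 ≫ X.left.fromSpecResidueField x) (by
    show _ = Spec.map (φ ≫ i1)
    rw [Category.assoc, Spec.map_comp, hq])
  let y2 : T ⟶ X := Over.homMk (Spec.map i2 ≫ X.left.fromSpecResidueField x) (by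
    show _ = Spec.map (φ ≫ i1)
    rw [Category.assoc, hi, Spec.map_comp, hq])
  let m : T ⟶ G ⊗ X := lift y1 y2 ≫ inv (lift a.act (snd G X))
  have hm : m ≫ lift a.act (snd G X) = lift y1 y2 := by
    show (lift y1 y2 ≫ _) ≫ _ = _
    rw [Category.assoc, IsIso.inv_hom_id, Category.comp_id]
  have hm1 : m ≫ a.act = y1 := by
    have := congrArg (· ≫ fst X X) hm
    simpa using this
  have hm2 : m ≫ snd G X = y2 := by
    have := congrArg (· ≫ snd X X) hm
    simpa using this
  let ψ : Γ(G.left, ⊤) →+* R :=
    ((m ≫ fst G X).left.appTop ≫ (Scheme.ΓSpecIso (CommRingCat.of R)).hom).hom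
  let J : Ideal R := (nilradical Γ(G.left, ⊤)).map ψ
  have hJ : J ^ N = ⊥ := by rw [← Ideal.map_pow, hN]; exact Ideal.map_bot
  let π : CommRingCat.of R ⟶ CommRingCat.of (R ⧸ J) := CommRingCat.ofHom (Ideal.Quotient.mk J)
  let T' : Over (Spec (CommRingCat.of K)) := Over.mk (Spec.map π ≫ T.hom)
  let t : T' ⟶ T := Over.homMk (Spec.map π)
  have hkey : t ≫ y1 = t ≫ y2 := by
    have hg : t ≫ m ≫ fst G X = toUnit T' ≫ η[G] := by
      apply htriv
      intro b hb
      apply (Scheme.ΓSpecIso (CommRingCat.of (R ⧸ J))).commRingCatIsoToRingEquiv.injective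
      show ((m ≫ fst G X).left.appTop ≫ (Spec.map π).appTop ≫ (Scheme.ΓSpecIso (CommRingCat.of (R ⧸ J))).hom) b =
        (Scheme.ΓSpecIso (CommRingCat.of (R ⧸ J))).hom 0
      rw [Scheme.ΓSpecIso_naturality, map_zero]
      show Ideal.Quotient.mk J (ψ b) = 0
      exact Ideal.Quotient.eq_zero_iff_mem.mpr (Ideal.mem_map_of_mem ψ hb)
    have hmG : t ≫ m = lift (toUnit T') (t ≫ y2) ≫ η[G] ▷ X := by
      apply CartesianMonoidalCategory.hom_ext
      · simp [hg]
      · simp [hm2]
    rw [← hm1, ← Category.assoc, hmG, Category.assoc, a.one_act]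
    simp
  have hmod : ∀ l : L, i1 l - i2 l ∈ J := by
    intro l
    have h1 := congrArg (fun w => w.left) hkey
    simp only [t, y1, y2, Over.comp_left, Over.homMk_left] at h1
    rw [← Category.assoc, ← Category.assoc, cancel_mono, ← Spec.map_comp, ← Spec.map_comp] at h1
    rw [← Ideal.Quotient.eq_zero_iff_mem, map_sub, sub_eq_zero]
    exact congrArg (fun w => w l) (Spec.map_injective h1)
  haveI : ExpChar L p := expChar_of_injective_algebraMap (algebraMap K L).injective p
  haveI : Nontrivial R := inferInstance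
  haveI : ExpChar R p := expChar_of_injective_algebraMap (algebraMap K R).injective p
  have hpow : ∀ l : L, iterateFrobenius L p n l ∈ (algebraMap K L).range := by
    intro l
    have h0 : (i1 (l ^ p ^ n) : R) = i2 (l ^ p ^ n) := by
      rw [map_pow, map_pow, ← sub_eq_zero, ← sub_pow_expChar_pow]
      have := Ideal.pow_mem_pow (hmod l) (p ^ n)
      have h2 := Ideal.pow_le_pow_right hn this
      rw [hJ] at h2
      exact h2
    obtain ⟨f, hf⟩ := LinearMap.exists_leftInverse_of_injective (Algebra.linearMap K L)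
      (LinearMap.ker_eq_bot.mpr (algebraMap K L).injective)
    have hf1 : f 1 = 1 := by simpa using LinearMap.congr_fun hf 1
    refine ⟨f (l ^ p ^ n), ?_⟩
    have h3 := congrArg (fun r : R => TensorProduct.lid K L (TensorProduct.map f LinearMap.id r)) h0
    change TensorProduct.lid K L (TensorProduct.map f LinearMap.id ((l ^ p ^ n) ⊗ₜ[K] (1 : L))) =
      TensorProduct.lid K L (TensorProduct.map f LinearMap.id ((1 : L) ⊗ₜ[K] (l ^ p ^ n))) at h3
    simp only [TensorProduct.map_tmul, TensorProduct.lid_tmul, LinearMap.id_apply, hf1, one_smul] at h3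
    rw [iterateFrobenius_def, Algebra.algebraMap_eq_smul_one]
    exact h3
  let E := RingEquiv.ofBijective (algebraMap K L).rangeRestrict
    ⟨fun u v huv => (algebraMap K L).injective (Subtype.ext_iff.mp huv), (algebraMap K L).rangeRestrict_surjective⟩
  let χ : CommRingCat.of L ⟶ CommRingCat.of K :=
    CommRingCat.ofHom (E.symm.toRingHom.comp ((iterateFrobenius L p n).codRestrict _ hpow))
  refine ⟨Spec.map χ ≫ X.left.fromSpecResidueField x, ?_⟩
  rw [Category.assoc]
  show Spec.map χ ≫ q = _
  rw [← hq, ← Spec.map_comp]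
  congr 1
  ext b
  apply E.injective
  show E (E.symm _) = _
  rw [RingEquiv.apply_symm_apply]
  apply Subtype.ext
  show (algebraMap K L b) ^ p ^ n = algebraMap K L (b ^ p ^ n)
  rw [map_pow]

end Groth.Agent.S18318
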