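import Groth.Statements.S18334
import Groth.Agent.RedModuli.Basic
import Groth.Agent.AlgStB.OfSp

set_option autoImplicit false
universe u
open AlgSt

namespace Groth.Agent.S18334

open CategoryTheory AlgebraicGeometry in
/-- Let S be a locally Noetherian scheme and 𝒳 an algebraic stack of finite type over S with finite
diagonal over S, and let π : 𝒳 → M be its coarse moduli space (here: a categorical moduli space in
algebraic spaces, which for finite inertia is the Keel–Mori one). If 𝒳 is reduced then the algebraic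
space M is reduced. -/
theorem result (S : Scheme.{u}) [IsLocallyNoetherian S]
    (𝒳 : AlgSt.Cat S) (h𝒳 : AlgSt.IsAlgStack Scheme.fppfPrecoverage 𝒳)
    (hft : AlgSt.LocQ (AlgSp.LocP @LocallyOfFiniteType) (FibCat.toSelf 𝒳)) (hqc : AlgSt.IsQuasiCompact 𝒳)
    (hΔ : AlgSt.RepByAlgSpWith AlgSp.IsFiniteMor (FibCat.diag (FibCat.toSelf 𝒳)))
    (hI : AlgSt.RepByAlgSpWith AlgSp.IsFiniteMor (FibCat.inertiaToBase (FibCat.toSelf 𝒳)))
    (hred : AlgSt.SmoothLocally (fun X => AlgebraicGeometry.IsReduced X) 𝒳)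
    (M : AlgSp.Sp S) (π : 𝒳 ⥤ᵇ AlgSt.ofSp M) (hπ : AlgSt.IsCatModuli π) :
    AlgSp.EtaleLocally (fun U => AlgebraicGeometry.IsReduced U) M := by
  obtain ⟨hM, huniv⟩ := hπ
  obtain ⟨Z, i, hi, hr, hrange⟩ := Groth.Agent.AlgSpRedSub.exists_redSub ⟨M, hM⟩ isClosed_univ
  obtain ⟨φ, ⟨e⟩⟩ := Groth.Agent.RedModuli.exists_factor h𝒳 hred π i.hom hi (Set.range_eq_univ.1 hrange)
  obtain ⟨g, ⟨eg⟩, -⟩ := huniv Z.obj Z.property φ
  obtain ⟨g₀, -, huniq⟩ := huniv M hM π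
  have h1 : g ≫ i.hom = g₀ := huniq _ ⟨(Groth.Agent.Fib.isoWhiskerRight eg (AlgSt.ofSpMap i.hom) ≪≫ e :)⟩
  have h2 : 𝟙 M = g₀ := huniq _ ⟨eqToIso rfl⟩
  haveI : Mono i.hom := Groth.Agent.AlgSpc.mono_of_repWith
    (fun _ _ k (hk : IsClosedImmersion k) => (inferInstance : Mono k)) hi
  haveI : IsSplitEpi i.hom := IsSplitEpi.mk' ⟨g, h1.trans h2.symm⟩
  haveI : IsIso i.hom := isIso_of_mono_of_isSplitEpi _
  obtain ⟨U, p, hp, hps, hU⟩ := hr
  exact ⟨U, p ≫ i.hom, Groth.Agent.AlgSpc.repWith_comp hp (Groth.Agent.AlgSpc.repWith_iso i.hom),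
    Groth.Agent.AlgSpc.repWith_comp hps (Groth.Agent.AlgSpc.repWith_iso i.hom), hU⟩

end Groth.Agent.S18334
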