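import Groth.Statements.S18343
import Groth.Agent.ArtLift.StalkKer


set_option autoImplicit false
universe u
open CategoryTheory CategoryTheory.Limits AlgebraicGeometry
open MultCurve

namespace Groth.Agent.S18343

open CategoryTheory CategoryTheory.Limits AlgebraicGeometry IsLocalRing

theorem exists_fac {Y : Scheme.{u}} {R : CommRingCat.{u}} [IsLocalRing R] (l : Spec R ⟶ Y) (d : Y)
    (h : l (closedPoint R) = d) :
    ∃ v : Y.presheaf.stalk d ⟶ R, Spec.map v ≫ Y.fromSpecStalk d = l := by
  subst h
  exact ⟨_, Scheme.Spec_stalkClosedPointTo_fromSpecStalk l⟩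

theorem stalk_surjective {D C X : Scheme.{u}} (i : D ⟶ C) [IsClosedImmersion i] (f : C ⟶ X)
    [IsClosedImmersion (i ≫ f)] (hsq : i.ker ^ 2 = ⊥) (hker : (i ≫ f).ker.comap f = i.ker) (d : D) :
    Function.Surjective (f.stalkMap (i d)).hom := by
  set ψ := i.stalkMap d with hψ
  set φ := f.stalkMap (i d) with hφ
  have hcomp : (i ≫ f).stalkMap d = φ ≫ ψ := Scheme.Hom.stalkMap_comp i f d
  have hsurj : Function.Surjective (φ ≫ ψ).hom := by
    rw [← hcomp]; exact (i ≫ f).stalkMap_surjective d
  set J := RingHom.ker ψ.hom with hJ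
  set I := RingHom.ker (φ ≫ ψ).hom with hI
  set K := I.map φ.hom with hK
  have hKJ : K ≤ J := Ideal.map_le_iff_le_comap.mpr (fun a ha => ha)
  have hJJ : ∀ a ∈ J, ∀ b ∈ J, a * b = 0 := by
    obtain ⟨U, hU, hxU, -⟩ := exists_isAffineOpen_mem_and_subset (X := C) (x := i d) (U := ⊤) trivial
    intro a ha b hb
    have hk := Groth.Agent.ArtLift.ker_stalkMap_eq_map i ⟨U, hU⟩ d hxU
    rw [hJ, hψ, hk] at ha hb
    have h2 := Ideal.mul_mem_mul ha hb
    have hz : i.ker.ideal ⟨U, hU⟩ * i.ker.ideal ⟨U, hU⟩ = ⊥ := by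
      have := congrArg (fun K => Scheme.IdealSheafData.ideal K ⟨U, hU⟩) hsq
      simpa [Scheme.IdealSheafData.ideal_pow, pow_two] using this
    rw [← Ideal.map_mul, hz, Ideal.map_bot] at h2
    exact h2
  have hKtop : K ≠ ⊤ := fun h => RingHom.ker_ne_top ψ.hom (top_le_iff.mp (h ▸ hKJ))
  let Q : CommRingCat.{u} := CommRingCat.of (C.presheaf.stalk (i d) ⧸ K)
  let w : C.presheaf.stalk (i d) ⟶ Q := CommRingCat.ofHom (Ideal.Quotient.mk K)
  haveI : Nontrivial Q := Ideal.Quotient.nontrivial_iff.mpr hKtop
  haveI : IsLocalRing Q := IsLocalRing.of_surjective' (Ideal.Quotient.mk K) Ideal.Quotient.mk_surjective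
  have hle : RingHom.ker (φ ≫ ψ).hom ≤ RingHom.ker (φ ≫ w).hom := fun a ha =>
    Ideal.Quotient.eq_zero_iff_mem.mpr (Ideal.mem_map_of_mem φ.hom ha)
  let χ : D.presheaf.stalk d ⟶ Q :=
    CommRingCat.ofHom ((φ ≫ ψ).hom.liftOfSurjective hsurj ⟨(φ ≫ w).hom, hle⟩)
  have hχ : (φ ≫ ψ) ≫ χ = φ ≫ w :=
    CommRingCat.hom_ext ((φ ≫ ψ).hom.liftOfSurjective_comp hsurj ⟨(φ ≫ w).hom, hle⟩)
  let t : Spec Q ⟶ C := Spec.map w ≫ C.fromSpecStalk (i d)
  let s : Spec Q ⟶ D := Spec.map χ ≫ D.fromSpecStalk d
  have hst : t ≫ f = s ≫ (i ≫ f) := by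
    simp only [t, s, Category.assoc]
    rw [← Scheme.SpecMap_stalkMap_fromSpecStalk f, ← Scheme.SpecMap_stalkMap_fromSpecStalk (i ≫ f),
      ← Category.assoc, ← Category.assoc, ← Spec.map_comp, ← Spec.map_comp, hcomp]
    exact congrArg (fun m => Spec.map m ≫ X.fromSpecStalk (f (i d))) hχ.symm
  have hkert : i.ker ≤ t.ker := by
    rw [← hker]
    have hw : t ≫ f = (s ≫ (i ≫ f).toImage) ≫ (i ≫ f).ker.subschemeι := by
      exact hst.trans ((congrArg (s ≫ ·) (i ≫ f).toImage_imageι.symm).trans (Category.assoc _ _ _).symm)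
    have h0 : pullback.lift t _ hw ≫ pullback.fst f (i ≫ f).ker.subschemeι = t := pullback.lift_fst _ _ _
    rw [← h0]
    exact Scheme.Hom.le_ker_comp _ _
  let l := IsClosedImmersion.lift i t hkert
  have hl : l ≫ i = t := IsClosedImmersion.lift_fac i t hkert
  have hcp : l (closedPoint Q) = d := by
    apply i.isClosedEmbedding.injective
    rw [← Scheme.Hom.comp_apply, hl]
    show (C.fromSpecStalk (i d)) ((Spec.map w) (closedPoint Q)) = i d
    haveI : IsLocalHom w.hom := .of_surjective _ Ideal.Quotient.mk_surjective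
    have : (Spec.map w) (closedPoint Q) = closedPoint (C.presheaf.stalk (i d)) :=
      IsLocalRing.comap_closedPoint w.hom
    rw [this]; exact Scheme.fromSpecStalk_closedPoint
  obtain ⟨v, hv⟩ := exists_fac l d hcp
  have hwv : w = ψ ≫ v := by
    apply Spec.map_injective
    rw [← cancel_mono (C.fromSpecStalk (i d)), Spec.map_comp, Category.assoc, hψ,
      Scheme.SpecMap_stalkMap_fromSpecStalk, ← Category.assoc, hv]
    exact hl.symm
  have hJK : J ≤ K := fun a ha => Ideal.Quotient.eq_zero_iff_mem.mp (by
    show w.hom a = 0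
    rw [hwv, CommRingCat.hom_comp, RingHom.comp_apply, (RingHom.mem_ker.mp ha), map_zero])
  have hJr : ∀ j ∈ K, j ∈ φ.hom.range := by
    intro j hj
    induction hj using Submodule.span_induction with
    | mem x hx => obtain ⟨a, _, rfl⟩ := hx; exact ⟨a, rfl⟩
    | zero => exact zero_mem _
    | add x y _ _ hx hy => exact add_mem hx hy
    | smul c x hxK hx =>
      obtain ⟨a, ha⟩ := hsurj (ψ.hom c)
      have hc : c - φ.hom a ∈ J := by
        rw [hJ, RingHom.mem_ker, map_sub, ← ha]; exact sub_self _
      have h0 := hJJ _ hc _ (hKJ hxK)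
      rw [sub_mul, sub_eq_zero] at h0
      rw [smul_eq_mul, h0]
      exact mul_mem ⟨a, rfl⟩ hx
  intro b
  obtain ⟨a, ha⟩ := hsurj (ψ.hom b)
  have hb : b - φ.hom a ∈ J := by
    rw [hJ, RingHom.mem_ker, map_sub, ← ha]; exact sub_self _
  obtain ⟨a', ha'⟩ := hJr _ (hJK hb)
  exact ⟨a' + a, by rw [map_add, ha', sub_add_cancel]⟩

theorem surjective_of_sq {D C : Scheme.{u}} (i : D ⟶ C) [IsClosedImmersion i] (hsq : i.ker ^ 2 = ⊥) :
    Function.Surjective i := by
  intro x
  have h : x ∈ i.ker.support := by
    have := congrArg Scheme.IdealSheafData.support hsq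
    rw [pow_two, Scheme.IdealSheafData.support_mul, sup_idem, Scheme.IdealSheafData.support_bot] at this
    rw [this]; trivial
  have h' : x ∈ closure (Set.range i) := by
    rw [← SetLike.mem_coe, Scheme.Hom.support_ker] at h; exact h
  rwa [i.isClosedEmbedding.isClosed_range.closure_eq] at h'

theorem aux (D C X : Scheme.{u}) (i : D ⟶ C) [IsClosedImmersion i] (hsq : i.ker ^ 2 = ⊥) (f : C ⟶ X) :
    IsClosedImmersion f ↔ (IsClosedImmersion (i ≫ f) ∧ (i ≫ f).ker.comap f = i.ker) := by
  constructor
  · intro hf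
    haveI : IsClosedImmersion (i ≫ f) := inferInstance
    refine ⟨inferInstance, ?_⟩
    let p := pullback.fst f (i ≫ f).ker.subschemeι
    let q := pullback.snd f (i ≫ f).ker.subschemeι
    show p.ker = i.ker
    have hp : p = (q ≫ inv (i ≫ f).toImage) ≫ i := by
      rw [← cancel_mono f]
      simp only [p, q, Category.assoc]
      rw [pullback.condition]
      congr 1
      rw [IsIso.eq_inv_comp]
      exact (i ≫ f).toImage_imageι
    have hi : i = pullback.lift i (i ≫ f).toImage (i ≫ f).toImage_imageι.symm ≫ p :=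
      (pullback.lift_fst _ _ _).symm
    apply le_antisymm
    · conv_rhs => rw [hi]
      exact Scheme.Hom.le_ker_comp _ _
    · conv_rhs => rw [hp]
      exact Scheme.Hom.le_ker_comp _ _
  · rintro ⟨hg, hker⟩
    haveI := hg
    have hs := surjective_of_sq i hsq
    let e := i.isClosedEmbedding.isEmbedding.toHomeomorphOfSurjective hs
    have hemb : Topology.IsClosedEmbedding f := by
      have : (f : C → X) = (i ≫ f) ∘ e.symm := by
        funext x
        obtain ⟨d, rfl⟩ := hs x
        simp only [Function.comp_apply, Scheme.Hom.comp_apply]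
        exact congrArg f (e.apply_symm_apply (i d)).symm
      rw [this]
      exact (i ≫ f).isClosedEmbedding.comp e.symm.isClosedEmbedding
    haveI : SurjectiveOnStalks f := ⟨fun x => by
      obtain ⟨d, rfl⟩ := hs x
      exact stalk_surjective i f hsq hker d⟩
    haveI : IsPreimmersion f := ⟨hemb.isEmbedding⟩
    exact IsClosedImmersion.of_isPreimmersion f hemb.isClosed_range


/-- Suppose C is a ribbon on the reduced scheme D via the closed immersion i : D ⟶ C (meaning the ideal
of D squares to zero and is locally generated by a single section z whose annihilator lies in (z)),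
and consider an arbitrary morphism of schemes f : C ⟶ X. The morphism f is a closed immersion
exactly when two things hold: the composite i ≫ f, i.e. f restricted to D, is a closed immersion,
and pulling back along f the ideal of the scheme-theoretic image of D in X yields the entire ideal
of D in C. This second requirement amounts to surjectivity of the map α_f that sends the pullback of
the conormal sheaf of the image of D in X onto the conormal bundle of D in C. (The statement is
given for arbitrary schemes and any morphism f; the published version assumes all schemes are of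
finite type over a field and D is connected, but the proof relies on neither assumption.) -/
theorem result (D C X : Scheme.{u}) (i : D ⟶ C)
    (hR : MultCurve.IsRibbon i) (f : C ⟶ X) :
    IsClosedImmersion f ↔ (IsClosedImmersion (i ≫ f) ∧ (i ≫ f).ker.comap f = i.ker) := by
  haveI := hR.1.1
  exact aux D C X i hR.1.2.1 f

end Groth.Agent.S18343
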