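import Groth.Statements.S1835
import Groth.Agent.S14503
import Groth.Agent.DetLen.Lattice

set_option autoImplicit false
universe u
open CycAlg
open scoped Pointwise

namespace Groth.Agent.S1835

/-- Let R be a Noetherian local ring of dimension 1, a a nonzerodivisor in the maximal ideal and b a
nonzerodivisor. There is an integer n such that whenever b = a^m c in some finite extension ring R ⊆
R', one has m ≤ n. -/
theorem result (R : Type u) [CommRing R] [IsNoetherianRing R] [IsLocalRing R] (hR : ringKrullDim R = 1) (a b : R) (ha : a ∈ nonZeroDivisors R) (ham : a ∈ IsLocalRing.maximalIdeal R) (hb : b ∈ nonZeroDivisors R) : ∃ n : ℕ, ∀ (R' : Type u) [CommRing R'] [Algebra R R'], Function.Injective (algebraMap R R') → Module.Finite R R' → ∀ (m : ℕ) (c : R'), algebraMap R R' b = algebraMap R R' a ^ m * c → m ≤ n := by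
  classical
  have : Nontrivial R := IsLocalRing.toNontrivial
  obtain ⟨p, hp⟩ := Ideal.nonempty_minimalPrimes (I := (⊥ : Ideal R)) bot_ne_top
  haveI hpp : p.IsPrime := hp.1.1
  have hnz : ∀ x ∈ nonZeroDivisors R, Ideal.Quotient.mk p x ≠ 0 := fun x hx h =>
    Set.disjoint_left.mp (Ideal.disjoint_nonZeroDivisors_of_mem_minimalPrimes hp)
      (Ideal.Quotient.eq_zero_iff_mem.mp h) hx
  haveI : IsLocalRing (R ⧸ p) := IsLocalRing.of_surjective' (Ideal.Quotient.mk p) Ideal.Quotient.mk_surjective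
  haveI : Ring.KrullDimLE 1 R := Ring.krullDimLE_iff.2 hR.le
  haveI : Ring.KrullDimLE 1 (R ⧸ p) := Ring.krullDimLE_iff.2
    ((ringKrullDim_quotient_le p).trans hR.le)
  have hdim : ringKrullDim (R ⧸ p) = 1 := by
    refine le_antisymm ((ringKrullDim_quotient_le p).trans hR.le) ?_
    by_contra hlt
    haveI : Ring.KrullDimLE 0 (R ⧸ p) := by
      rw [Ring.krullDimLE_iff]
      have h1 := lt_of_not_ge hlt
      generalize ringKrullDim (R ⧸ p) = d at h1 ⊢
      cases d with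
      | bot => simp
      | coe x =>
        norm_cast at h1 ⊢
        exact le_of_eq (Order.lt_one_iff.mp h1)
    have hf : IsField (R ⧸ p) := Ring.KrullDimLE.isField_of_isDomain
    obtain ⟨y, hy⟩ := hf.mul_inv_cancel (hnz a ha)
    obtain ⟨y, rfl⟩ := Ideal.Quotient.mk_surjective y
    rw [← map_mul, ← map_one (Ideal.Quotient.mk p), Ideal.Quotient.eq] at hy
    exact (IsLocalRing.maximalIdeal.isMaximal R).ne_top ((Ideal.eq_top_iff_one _).mpr (by
      simpa using Ideal.sub_mem _ (Ideal.mul_mem_right y _ ham) (IsLocalRing.le_maximalIdeal hpp.ne_top hy)))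
  refine ⟨(Ring.ord (R ⧸ p) (Ideal.Quotient.mk p b)).toNat, fun R' _ _ hinj hfin m c hbc => ?_⟩
  haveI := hfin
  obtain ⟨P, hPp, hPc⟩ : ∃ P : Ideal R', P.IsPrime ∧ P.comap (algebraMap R R') = p := by
    haveI : Algebra.IsIntegral R R' := inferInstance
    obtain ⟨P, -, hP1, hP2⟩ := Ideal.exists_ideal_over_prime_of_isIntegral p (⊥ : Ideal R') (by
      intro x hx
      rw [Ideal.mem_comap, Ideal.mem_bot] at hx
      rw [hinj (hx.trans (map_zero _).symm)]
      exact p.zero_mem)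
    exact ⟨P, hP1, hP2⟩
  let g : (R ⧸ p) →+* (R' ⧸ P) := Ideal.quotientMap P (algebraMap R R') hPc.ge
  letI : Algebra (R ⧸ p) (R' ⧸ P) := g.toAlgebra
  have hginj : Function.Injective (algebraMap (R ⧸ p) (R' ⧸ P)) := Ideal.quotientMap_injective' (H := hPc.ge) hPc.le
  haveI : IsScalarTower R (R ⧸ p) (R' ⧸ P) := IsScalarTower.of_algebraMap_eq fun x => rfl
  haveI : Module.Finite (R ⧸ p) (R' ⧸ P) := Module.Finite.of_restrictScalars_finite R _ _
  haveI : FaithfulSMul (R ⧸ p) (R' ⧸ P) := (faithfulSMul_iff_algebraMap_injective _ _).mpr hginj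
  let K := FractionRing (R ⧸ p)
  let L := FractionRing (R' ⧸ P)
  letI : Algebra K L := FractionRing.liftAlgebra (R ⧸ p) L
  haveI : FiniteDimensional K L := Module.Finite.of_isLocalization (R ⧸ p) (R' ⧸ P) (nonZeroDivisors (R ⧸ p))
  have key : ∀ x : R ⧸ p, x ≠ 0 → Module.length (R ⧸ p) ((R' ⧸ P) ⧸ Ideal.span {algebraMap (R ⧸ p) (R' ⧸ P) x}) < ⊤ ∧
      ((Module.length (R ⧸ p) ((R' ⧸ P) ⧸ Ideal.span {algebraMap (R ⧸ p) (R' ⧸ P) x})).toNat : ℤ) =
        (Module.finrank K L : ℤ) * ((Ring.ord (R ⧸ p) x).toNat : ℤ) := by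
    intro x hx
    obtain ⟨h1, h2⟩ := Groth.Agent.S14503.result (R ⧸ p) hdim (R' ⧸ P) hginj K L (algebraMap _ _ x)
      ((map_ne_zero_iff _ hginj).mpr hx)
    refine ⟨h1, ?_⟩
    rw [h2, ← IsScalarTower.algebraMap_apply (R ⧸ p) (R' ⧸ P) L, IsScalarTower.algebraMap_apply (R ⧸ p) K L,
      Algebra.norm_algebraMap, ← map_pow, Groth.Agent.DetLen.ordFrac_algebraMap K (pow_ne_zero _ hx),
      Ring.ord_pow (mem_nonZeroDivisors_of_ne_zero hx), nsmul_eq_mul, ENat.toNat_mul, ENat.toNat_natCast]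
    push_cast; rfl
  obtain ⟨hA1, hA2⟩ := key _ (hnz a ha)
  obtain ⟨hB1, hB2⟩ := key _ (hnz b hb)
  set A' := algebraMap (R ⧸ p) (R' ⧸ P) (Ideal.Quotient.mk p a) with hA'
  have hA'0 : A' ≠ 0 := (map_ne_zero_iff _ hginj).mpr (hnz a ha)
  have hB' : algebraMap (R ⧸ p) (R' ⧸ P) (Ideal.Quotient.mk p b) = A' ^ m * Ideal.Quotient.mk P c := by
    show Ideal.Quotient.mk P (algebraMap R R' b) = Ideal.Quotient.mk P (algebraMap R R' a) ^ m * _
    rw [hbc, map_mul, map_pow]
  have hstep : ∀ j : ℕ, (j : ℕ∞) * Module.length (R ⧸ p) ((R' ⧸ P) ⧸ Ideal.span {A'}) ≤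
      Module.length (R ⧸ p) ((R' ⧸ P) ⧸ Ideal.span {A' ^ j}) := by
    intro j
    induction j with
    | zero => simp
    | succ j ih =>
      have h := Module.length_eq_add_of_exact ((Ideal.mulQuot A' (Ideal.span {A' ^ j})).restrictScalars (R ⧸ p))
        ((Ideal.quotOfMul A' (Ideal.span {A' ^ j})).restrictScalars (R ⧸ p))
        (Ideal.mulQuot_injective _ (mem_nonZeroDivisors_of_ne_zero hA'0))
        (Ideal.quotOfMul_surjective _) (Ideal.exact_mulQuot_quotOfMul _)
      have e : A' • Ideal.span {A' ^ j} = Ideal.span {A' ^ (j + 1)} := by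
        rw [← Submodule.ideal_span_singleton_smul, smul_eq_mul, Ideal.span_singleton_mul_span_singleton, pow_succ']
      rw [e] at h
      rw [h, Nat.cast_succ, add_mul, one_mul]
      exact add_le_add ih le_rfl
  have hle : Module.length (R ⧸ p) ((R' ⧸ P) ⧸ Ideal.span {A' ^ m}) ≤
      Module.length (R ⧸ p) ((R' ⧸ P) ⧸ Ideal.span {algebraMap (R ⧸ p) (R' ⧸ P) (Ideal.Quotient.mk p b)}) := by
    have hsub : Ideal.span {algebraMap (R ⧸ p) (R' ⧸ P) (Ideal.Quotient.mk p b)} ≤ Ideal.span {A' ^ m} :=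
      Ideal.span_singleton_le_span_singleton.mpr (hB' ▸ dvd_mul_right (A' ^ m) _)
    let F : ((R' ⧸ P) ⧸ Ideal.span {algebraMap (R ⧸ p) (R' ⧸ P) (Ideal.Quotient.mk p b)}) →ₗ[R ⧸ p]
        ((R' ⧸ P) ⧸ Ideal.span {A' ^ m}) := (Submodule.factor hsub).restrictScalars (R ⧸ p)
    exact Module.length_le_of_surjective F (Submodule.factor_surjective hsub)
  have hfinal := ENat.toNat_le_toNat ((hstep m).trans hle) hB1.ne
  rw [ENat.toNat_mul, ENat.toNat_natCast] at hfinal
  have hord : 1 ≤ (Ring.ord (R ⧸ p) (Ideal.Quotient.mk p a)).toNat := by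
    rw [Nat.one_le_iff_ne_zero, ne_eq, ENat.toNat_eq_zero, not_or]
    refine ⟨fun h => ?_, Ring.ord_ne_top (mem_nonZeroDivisors_of_ne_zero (hnz a ha))⟩
    rw [Ring.ord, Module.length_eq_zero_iff, Submodule.Quotient.subsingleton_iff, Ideal.span_singleton_eq_top] at h
    obtain ⟨y, hy⟩ := h.exists_left_inv
    obtain ⟨y, rfl⟩ := Ideal.Quotient.mk_surjective y
    rw [← map_mul, ← map_one (Ideal.Quotient.mk p), Ideal.Quotient.eq] at hy
    exact (IsLocalRing.maximalIdeal.isMaximal R).ne_top ((Ideal.eq_top_iff_one _).mpr (by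
      simpa using Ideal.sub_mem _ (Ideal.mul_mem_left _ y ham) (IsLocalRing.le_maximalIdeal hpp.ne_top hy)))
  have hd : 0 < Module.finrank K L := Module.finrank_pos
  have hA3 : (Module.length (R ⧸ p) ((R' ⧸ P) ⧸ Ideal.span {A'})).toNat =
      Module.finrank K L * (Ring.ord (R ⧸ p) (Ideal.Quotient.mk p a)).toNat := by exact_mod_cast hA2
  have hB3 : (Module.length (R ⧸ p) ((R' ⧸ P) ⧸ Ideal.span {algebraMap (R ⧸ p) (R' ⧸ P) (Ideal.Quotient.mk p b)})).toNat =
      Module.finrank K L * (Ring.ord (R ⧸ p) (Ideal.Quotient.mk p b)).toNat := by exact_mod_cast hB2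
  rw [hA3, hB3] at hfinal
  refine Nat.le_of_mul_le_mul_left (le_trans ?_ hfinal) hd
  rw [mul_comm m, mul_assoc]
  exact Nat.mul_le_mul_left _ (Nat.le_mul_of_pos_left m hord)

end Groth.Agent.S1835
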