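import Groth.Statements.S9370


set_option autoImplicit false
universe u
open OmegaSh

namespace Groth.Agent.S9370

open AlgebraicGeometry CategoryTheory Opposite

theorem app_res {X' S' : Scheme.{u}} {f' : X' ⟶ S'} {Ω' : X'.Modules} (d' : OmegaSh.Der f' Ω')
    {U V : X'.Opens} (i : op U ⟶ op V) (s : Γ(X', U)) :
    d'.app V (X'.presheaf.map i s) = Ω'.presheaf.map i (d'.app U s) :=
  d'.d_map i s

/-- `d' ∘ h♯` as a derivation into `h_* Ω'`. -/
noncomputable def pushDer {X S X' S' : Scheme.{u}} (f : X ⟶ S) (f' : X' ⟶ S') (h : X' ⟶ X) (b : S' ⟶ S)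
    (hsq : f' ≫ b = h ≫ f) (Ω' : X'.Modules) (d' : OmegaSh.Der f' Ω') :
    OmegaSh.Der f ((Scheme.Modules.pushforward h).obj Ω') where
  d {U} := (d'.app (h ⁻¹ᵁ U.unop)).comp (h.app U.unop).hom.toAddMonoidHom
  d_mul {U} a c := by
    change d'.app _ ((h.app U.unop).hom (a * c)) = _
    rw [map_mul]
    exact d'.d_mul _ _
  d_map {U V} i x := by
    change d'.app _ ((X.presheaf.map i ≫ h.app V.unop) x) = _
    rw [Scheme.Hom.naturality]
    exact app_res d' _ _
  d_app {V} a := by
    have key : ∀ (g g' : X' ⟶ S) (e : g = g'), d'.app _ (g.app V.unop a) = 0 →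
        d'.app _ (g'.app V.unop a) = 0 := by
      rintro g _ rfl h0; exact h0
    refine key (f' ≫ b) (h ≫ f) hsq ?_
    exact d'.d_app (b.app V.unop a)


open AlgebraicGeometry CategoryTheory in
/-- For a commutative square h : X' → X over S' → S, with d : O_X → Ω the universal derivation of X/S
and d' : O_{X'} → Ω' the universal derivation of X'/S', there is a unique O_{X'}-linear c : h^*Ω →
Ω' with c(h^* d s) = d'(h♯ s) for all local functions s on X. -/
theorem result {X S X' S' : Scheme.{u}} (f : X ⟶ S) (f' : X' ⟶ S') (h : X' ⟶ X) (b : S' ⟶ S)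
    (hsq : f' ≫ b = h ≫ f) (Ω : X.Modules) (d : OmegaSh.Der f Ω) (hd : OmegaSh.IsUniversal d)
    (Ω' : X'.Modules) (d' : OmegaSh.Der f' Ω') (hd' : OmegaSh.IsUniversal d') :
    ∃! c : (Scheme.Modules.pullback h).obj Ω ⟶ Ω', OmegaSh.IsDiffCompat h d d' c := by
  obtain ⟨α, hα, hu⟩ := hd _ (pushDer f f' h b hsq Ω' d')
  let adj := Scheme.Modules.pullbackPushforwardAdjunction h
  have hiff : ∀ c : (Scheme.Modules.pullback h).obj Ω ⟶ Ω', OmegaSh.IsDiffCompat h d d' c ↔
      d.postcomp (adj.homEquiv _ _ c).val = pushDer f f' h b hsq Ω' d' := by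
    intro c
    rw [adj.homEquiv_unit]
    constructor
    · intro hc
      apply PresheafOfModules.Derivation.ext
      funext U
      apply AddMonoidHom.ext
      intro s
      exact hc U.unop s
    · intro hc U s
      exact PresheafOfModules.Derivation.congr_d hc (X := Opposite.op U) s
  refine ⟨(adj.homEquiv _ _).symm α, ?_, fun c hc => ?_⟩
  · exact (hiff _).mpr (by rw [Equiv.apply_symm_apply]; exact hα)
  · rw [Equiv.eq_symm_apply]
    exact hu _ ((hiff c).mp hc)

end Groth.Agent.S9370
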