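import Groth.Statements.S9371
import Groth.Agent.QCohBase.Exact


set_option autoImplicit false
universe u
open OmegaSh

namespace Groth.Agent.S9371

open AlgebraicGeometry CategoryTheory CategoryTheory.Limits Opposite

theorem iSect_inj {X : Scheme.{u}} (I : X.IdealSheafData) (V : X.Opens) :
    Function.Injective (OmegaSh.idealSect I V) := by
  intro a b h
  haveI : Mono (ClSub.idealModι I) := inferInstanceAs (Mono (kernel.ι _))
  exact Groth.Agent.QCohBase.app_injective_of_mono (ClSub.idealModι I) V h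

theorem ker_le {Z X Z' X' : Scheme.{u}} (i : Z ⟶ X) (i' : Z' ⟶ X') (g : X ⟶ X') (gZ : Z ⟶ Z')
    (hsq : gZ ≫ i' = i ≫ g) : i'.ker ≤ i.ker.map g :=
  (Scheme.Hom.le_ker_comp gZ i').trans_eq (by rw [hsq, Scheme.Hom.ker_comp])

theorem push_zero {X X' : Scheme.{u}} (g : X ⟶ X') (I : X.IdealSheafData) (I' : X'.IdealSheafData)
    (h : I' ≤ I.map g) :
    (ClSub.idealModι I' ≫ ClSub.unitToPush g) ≫
      (Scheme.Modules.pushforward g).map (ClSub.toSubscheme I) = 0 := by
  refine Scheme.Modules.hom_ext _ _ fun U => ?_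
  ext t
  have key : ∀ (a b : I.subscheme ⟶ X') (e : a = b) (x : Γ(X', U)), b.app U x = 0 → a.app U x = 0 := by
    rintro a _ rfl x h0; exact h0
  refine key (I.subschemeι ≫ g) _ (Scheme.IdealSheafData.subschemeMap_subschemeι I I' g h).symm
    (OmegaSh.idealSect I' U t) ?_
  have h0 : I'.subschemeι.app U (OmegaSh.idealSect I' U t) = 0 :=
    ConcreteCategory.congr_hom (congrArg (fun ψ => ψ.app U) (kernel.condition (ClSub.toSubscheme I'))) t
  rw [Scheme.Hom.comp_app]
  exact (congrArg ((Scheme.IdealSheafData.subschemeMap I I' g h).app (I'.subschemeι ⁻¹ᵁ U)) h0).trans (map_zero _)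

/-- `g♯` on ideals. -/
noncomputable def idealMap {X X' : Scheme.{u}} (g : X ⟶ X') (I : X.IdealSheafData) (I' : X'.IdealSheafData)
    (h : I' ≤ I.map g) : ClSub.idealMod I' ⟶ (Scheme.Modules.pushforward g).obj (ClSub.idealMod I) :=
  kernel.lift ((Scheme.Modules.pushforward g).map (ClSub.toSubscheme I))
      (ClSub.idealModι I' ≫ ClSub.unitToPush g) (push_zero g I I' h) ≫
    (PreservesKernel.iso (Scheme.Modules.pushforward g) (ClSub.toSubscheme I)).inv

theorem idealMap_ι {X X' : Scheme.{u}} (g : X ⟶ X') (I : X.IdealSheafData) (I' : X'.IdealSheafData)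
    (h : I' ≤ I.map g) :
    idealMap g I I' h ≫ (Scheme.Modules.pushforward g).map (ClSub.idealModι I) =
      ClSub.idealModι I' ≫ ClSub.unitToPush g := by
  exact (Category.assoc _ _ _).trans ((congrArg (kernel.lift _ _ (push_zero g I I' h) ≫ ·)
    (PreservesKernel.iso_inv_ι (Scheme.Modules.pushforward g) (ClSub.toSubscheme I))).trans (kernel.lift_ι _ _ _))

theorem idealSect_idealMap {X X' : Scheme.{u}} (g : X ⟶ X') (I : X.IdealSheafData) (I' : X'.IdealSheafData)
    (h : I' ≤ I.map g) (U : X'.Opens) (t : Γ(ClSub.idealMod I', U)) :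
    OmegaSh.idealSect I (g ⁻¹ᵁ U) ((idealMap g I I' h).app U t) = g.app U (OmegaSh.idealSect I' U t) :=
  ConcreteCategory.congr_hom (congrArg (fun ψ => ψ.app U) (idealMap_ι g I I' h)) t

theorem aux {Z X Z' X' : Scheme.{u}} (i : Z ⟶ X) (i' : Z' ⟶ X') (g : X ⟶ X') (gZ : Z ⟶ Z')
    (hsq : gZ ≫ i' = i ≫ g) :
    ∃! φ : (Scheme.Modules.pullback gZ).obj (Omega.conormal i') ⟶ Omega.conormal i,
      OmegaSh.IsConormalMap i i' g gZ φ := by
  let A := Scheme.Modules.pullbackPushforwardAdjunction i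
  let A' := Scheme.Modules.pullbackPushforwardAdjunction i'
  let B := Scheme.Modules.pullbackPushforwardAdjunction gZ
  let C := Omega.conormal i
  let T : ClSub.idealMod i'.ker ⟶
      (Scheme.Modules.pushforward i').obj ((Scheme.Modules.pushforward gZ).obj C) :=
    idealMap g i.ker i'.ker (ker_le i i' g gZ hsq) ≫
      (Scheme.Modules.pushforward g).map (A.unit.app (ClSub.idealMod i.ker)) ≫
      (Scheme.Modules.pushforwardComp i g).hom.app C ≫
      (Scheme.Modules.pushforwardCongr hsq.symm).hom.app C ≫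
      (Scheme.Modules.pushforwardComp gZ i').inv.app C
  have hle : ∀ U' : X'.Opens, gZ ⁻¹ᵁ (i' ⁻¹ᵁ U') = i ⁻¹ᵁ (g ⁻¹ᵁ U') := fun U' =>
    congrArg (fun m : Z ⟶ X' => m ⁻¹ᵁ U') hsq
  have hT : ∀ (U' : X'.Opens) (t : Γ(ClSub.idealMod i'.ker, U')),
      T.app U' t = C.presheaf.map (homOfLE (hle U').le).op
        (OmegaSh.conormalSect i (g ⁻¹ᵁ U') ((idealMap g i.ker i'.ker (ker_le i i' g gZ hsq)).app U' t)) := by
    intro U' t
    simp only [T, Scheme.Modules.Hom.comp_app, Scheme.Modules.pushforwardComp_hom_app_app,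
      Scheme.Modules.pushforwardComp_inv_app_app, Scheme.Modules.pushforwardCongr_hom_app_app,
      Category.id_comp, Category.comp_id]
    rfl
  let φ := (B.homEquiv _ _).symm ((A'.homEquiv _ _).symm T)
  have happ : ∀ (ψ : (Scheme.Modules.pullback gZ).obj (Omega.conormal i') ⟶ C) (U' : X'.Opens)
      (t : Γ(ClSub.idealMod i'.ker, U')),
      (A'.homEquiv _ _ (B.homEquiv _ _ ψ)).app U' t =
        ψ.app (gZ ⁻¹ᵁ (i' ⁻¹ᵁ U'))
          (OmegaSh.pullSect gZ (Omega.conormal i') (i' ⁻¹ᵁ U') (OmegaSh.conormalSect i' U' t)) := by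
    intro ψ U' t
    rw [A'.homEquiv_unit, B.homEquiv_unit]
    rfl
  have hφ : A'.homEquiv _ _ (B.homEquiv _ _ φ) = T := by
    show A'.homEquiv _ _ (B.homEquiv _ _ ((B.homEquiv _ _).symm ((A'.homEquiv _ _).symm T))) = T
    rw [Equiv.apply_symm_apply, Equiv.apply_symm_apply]
  refine ⟨φ, ⟨hsq, fun U' s' s hs V h₁ h₂ => ?_⟩, fun ψ hψ => ?_⟩
  · have e : s = (idealMap g i.ker i'.ker (ker_le i i' g gZ hsq)).app U' s' :=
      iSect_inj _ _ (hs.trans (idealSect_idealMap g i.ker i'.ker _ U' s').symm)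
    rw [← happ φ U' s', hφ, hT, e, ← CategoryTheory.comp_apply, ← Functor.map_comp]
    rfl
  · apply (B.homEquiv _ _).injective
    apply (A'.homEquiv _ _).injective
    refine Eq.trans ?_ hφ.symm
    refine Scheme.Modules.hom_ext _ _ fun U' => ?_
    ext t
    refine (happ ψ U' t).trans (Eq.trans ?_ (hT U' t).symm)
    have h0 := hψ.2 U' t _ (idealSect_idealMap g i.ker i'.ker (ker_le i i' g gZ hsq) U' t)
      (gZ ⁻¹ᵁ (i' ⁻¹ᵁ U')) le_rfl (hle U').le
    refine Eq.trans ?_ h0
    show _ = C.presheaf.map (𝟙 _) _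
    rw [CategoryTheory.Functor.map_id]
    rfl


open AlgebraicGeometry CategoryTheory in
/-- For a commutative square with i : Z → X, i' : Z' → X' quasi-compact immersions, g : X → X' and gZ :
Z → Z', there is a unique map of O_Z-modules gZ^* C_{Z'/X'} → C_{Z/X} compatible with g♯ on sections
of the defining ideals. (The published statement allows arbitrary immersions; this row assumes i and
i' quasi-compact.) -/
theorem result {Z X Z' X' : Scheme.{u}} (i : Z ⟶ X) (i' : Z' ⟶ X') [IsImmersion i] [IsImmersion i']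
    [QuasiCompact i] [QuasiCompact i'] (g : X ⟶ X') (gZ : Z ⟶ Z') (hsq : gZ ≫ i' = i ≫ g) :
    ∃! φ : (Scheme.Modules.pullback gZ).obj (Omega.conormal i') ⟶ Omega.conormal i,
      OmegaSh.IsConormalMap i i' g gZ φ := by
  exact aux i i' g gZ hsq

end Groth.Agent.S9371
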