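import Groth.Statements.S18351
import Groth.Agent.S9370
import Groth.Agent.S9371


set_option autoImplicit false
universe w u
open CategoryTheory CategoryTheory.Limits AlgebraicGeometry
open MultCurve

namespace Groth.Agent.S18351

open Opposite Groth.Agent.S9370 Groth.Agent.S9371

theorem nat_res {X : Scheme.{u}} {M N : X.Modules} (φ : M ⟶ N) {U V : X.Opens} (i : op U ⟶ op V) (x : Γ(M, U)) :
    φ.app V (M.presheaf.map i x) = N.presheaf.map i (φ.app U x) :=
  ConcreteCategory.congr_hom (φ.mapPresheaf.naturality i) x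

theorem pullbackId_inv_app {X : Scheme.{u}} (M : X.Modules) (U : X.Opens) (x : Γ(M, U)) :
    ((Scheme.Modules.pullbackId X).inv.app M).app U x = OmegaSh.pullSect (𝟙 X) M U x := by
  have h := unit_conjugateEquiv Adjunction.id (Scheme.Modules.pullbackPushforwardAdjunction (𝟙 X))
    (Scheme.Modules.pullbackId X).hom M
  rw [Scheme.Modules.conjugateEquiv_pullbackId_hom] at h
  have h2 := ConcreteCategory.congr_hom (congrArg (fun ψ => ψ.app U) h) x
  have h3 := congrArg (((Scheme.Modules.pullbackId X).inv.app M).app U) h2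
  refine h3.trans ?_
  exact ConcreteCategory.congr_hom
    (congrArg (fun ψ => ψ.app U) ((Scheme.Modules.pullbackId X).hom_inv_id_app M)) _

theorem exists_map {D C C' S : Scheme.{u}} (i : D ⟶ C) (i' : D ⟶ C') (g : C ⟶ C') (hgi : i ≫ g = i')
    (pC : C ⟶ S) (pC' : C' ⟶ S) (hgk : g ≫ pC' = pC) (pD : D ⟶ S)
    (Ω₁ : C.Modules) (d₁ : OmegaSh.Der pC Ω₁) (Ω₁' : C'.Modules) (d₁' : OmegaSh.Der pC' Ω₁')
    (hd₁' : OmegaSh.IsUniversal d₁')
    (Ω₂ : D.Modules) (d₂ : OmegaSh.Der pD Ω₂)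
    (φ : Omega.conormal i ⟶ (Scheme.Modules.pullback i).obj Ω₁) (hφ : OmegaSh.IsConormalDiff i d₁ φ)
    (c : (Scheme.Modules.pullback i).obj Ω₁ ⟶ Ω₂) (hc : OmegaSh.IsDiffCompat i d₁ d₂ c)
    (φ' : Omega.conormal i' ⟶ (Scheme.Modules.pullback i').obj Ω₁') (hφ' : OmegaSh.IsConormalDiff i' d₁' φ')
    (c' : (Scheme.Modules.pullback i').obj Ω₁' ⟶ Ω₂) (hc' : OmegaSh.IsDiffCompat i' d₁' d₂ c')
    (α : (Scheme.Modules.pullback (𝟙 D)).obj (Omega.conormal i') ⟶ Omega.conormal i)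
    (hα : OmegaSh.IsConormalMap i i' g (𝟙 D) α) :
    ∃ τ : (Scheme.Modules.pullback i').obj Ω₁' ⟶ (Scheme.Modules.pullback i).obj Ω₁,
      ((Scheme.Modules.pullbackId D).inv.app (Omega.conormal i') ≫ α) ≫ φ = φ' ≫ τ ∧ τ ≫ c = c' := by
  let adj := Scheme.Modules.pullbackPushforwardAdjunction i'
  let N := (Scheme.Modules.pullback i).obj Ω₁
  obtain ⟨a, ha, -⟩ := hd₁' _ (pushDer pC' pC g (𝟙 S) (by rw [Category.comp_id, hgk]) Ω₁ d₁)
  let L : Ω₁' ⟶ (Scheme.Modules.pushforward i').obj N :=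
    a ≫ (Scheme.Modules.pushforward g).map ((Scheme.Modules.pullbackPushforwardAdjunction i).unit.app Ω₁) ≫
      (Scheme.Modules.pushforwardComp i g).hom.app N ≫ (Scheme.Modules.pushforwardCongr hgi).hom.app N
  have hle : ∀ U : C'.Opens, i' ⁻¹ᵁ U = i ⁻¹ᵁ (g ⁻¹ᵁ U) := fun U =>
    congrArg (fun m : D ⟶ C' => m ⁻¹ᵁ U) hgi.symm
  have hL : ∀ (U : C'.Opens) (s : Γ(C', U)), L.app U (d₁'.app U s) =
      N.presheaf.map (homOfLE (hle U).le).op (OmegaSh.pullSect i Ω₁ (g ⁻¹ᵁ U) (d₁.app (g ⁻¹ᵁ U) (g.app U s))) := by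
    intro U s
    have h0 : a.app U (d₁'.app U s) = d₁.app (g ⁻¹ᵁ U) (g.app U s) :=
      PresheafOfModules.Derivation.congr_d ha (X := op U) s
    rw [← h0]
    simp only [L, Scheme.Modules.Hom.comp_app, Scheme.Modules.pushforwardComp_hom_app_app,
      Scheme.Modules.pushforwardCongr_hom_app_app, Category.id_comp, Category.comp_id]
    rfl
  let τ := (adj.homEquiv _ _).symm L
  have hτ : ∀ (U : C'.Opens) (y : Γ(Ω₁', U)), τ.app (i' ⁻¹ᵁ U) (OmegaSh.pullSect i' Ω₁' U y) = L.app U y := by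
    intro U y
    have h0 : adj.homEquiv _ _ τ = L := Equiv.apply_symm_apply _ _
    rw [adj.homEquiv_unit] at h0
    exact ConcreteCategory.congr_hom (congrArg (fun ψ => ψ.app U) h0) y
  refine ⟨τ, ?_, ?_⟩
  · apply (adj.homEquiv _ _).injective
    refine Scheme.Modules.hom_ext _ _ fun U => ?_
    ext t
    rw [adj.homEquiv_unit, adj.homEquiv_unit]
    have hidl : i'.ker ≤ i.ker.map g := ker_le i i' g (𝟙 D) hα.1
    let s := (idealMap g i.ker i'.ker hidl).app U t
    have hs := idealSect_idealMap g i.ker i'.ker hidl U t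
    show φ.app (i' ⁻¹ᵁ U) (α.app (i' ⁻¹ᵁ U)
        (((Scheme.Modules.pullbackId D).inv.app (Omega.conormal i')).app (i' ⁻¹ᵁ U) (OmegaSh.conormalSect i' U t))) =
      τ.app (i' ⁻¹ᵁ U) (φ'.app (i' ⁻¹ᵁ U) (OmegaSh.conormalSect i' U t))
    rw [hφ' U t, hτ, hL]
    have e : OmegaSh.idealSect i.ker (g ⁻¹ᵁ U) s = g.app U (OmegaSh.idealSect i'.ker U t) := hs
    rw [← e, ← hφ (g ⁻¹ᵁ U) s, ← nat_res φ]
    refine congrArg (φ.app (i' ⁻¹ᵁ U)) ?_
    have h1 := hα.2 U t s e (i' ⁻¹ᵁ U) le_rfl (hle U).le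
    refine Eq.trans ?_ h1
    rw [pullbackId_inv_app]
    show _ = (Omega.conormal i).presheaf.map (𝟙 _) _
    rw [CategoryTheory.Functor.map_id]
    rfl
  · apply (adj.homEquiv _ _).injective
    refine (hd₁' _ (d₁'.postcomp (adj.homEquiv _ _ c').val)).unique ?_ rfl
    apply PresheafOfModules.Derivation.ext
    funext U
    apply AddMonoidHom.ext
    intro s
    rw [adj.homEquiv_unit, adj.homEquiv_unit]
    show c.app (i' ⁻¹ᵁ U.unop) (τ.app (i' ⁻¹ᵁ U.unop) (OmegaSh.pullSect i' Ω₁' U.unop (d₁'.app U.unop s))) =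
      c'.app (i' ⁻¹ᵁ U.unop) (OmegaSh.pullSect i' Ω₁' U.unop (d₁'.app U.unop s))
    rw [hτ, hL, nat_res c, hc, hc', ← app_res d₂]
    congr 1
    subst hgi
    rw [Scheme.Hom.comp_app]
    show D.presheaf.map (𝟙 _) _ = _
    rw [CategoryTheory.Functor.map_id]
    rfl


/-- Let k be a field and D a reduced connected scheme locally of finite type over k with a universal
k-derivation d₂ : O_D → Ω₂. Let C and C′ be ribbons on D over k (k-schemes locally of finite type
with closed immersions i, i′ of D over k making them ribbons), each with its restricted cotangent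
sequence presented by a universal k-derivation (d₁, resp. d₁′), the map from the conormal bundle (𝓛,
resp. 𝓛′) induced by it and the map to Ω₂ compatible with d₂, assumed short exact, with classes e_C
∈ Ext¹(Ω₂, 𝓛) and e_{C′} ∈ Ext¹(Ω₂, 𝓛′). Let g : C ⟶ C′ be a morphism over D and over k, and let α :
𝓛′ → 𝓛 be the map of conormal bundles induced by g (pulled back along the identity of D). Then
e_{C′} composed with α equals e_C: together with the restriction to D of the differential of g, α is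
a morphism from the restricted cotangent sequence of C′ to that of C. (This is the form in which the
blow-up morphism X ⟶ C of a ribbon C along an effective Cartier divisor of D relates the two
classes; that such a blow-up X is again a ribbon on D, with conormal bundle 𝓛(δ), is a separate
statement, and the identification of α with multiplication by the section of δ is not asserted here.
Valid for every morphism of ribbons over D.) -/
theorem result (k : Type u) [Field k] (D : Scheme.{u})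
    (pD : D ⟶ Spec (CommRingCat.of k)) [LocallyOfFiniteType pD] [ConnectedSpace D]
    (Ω₂ : D.Modules) (d₂ : OmegaSh.Der pD Ω₂) (hd₂ : OmegaSh.IsUniversal d₂) [HasExt.{w} D.Modules]
    (C : Scheme.{u}) (i : D ⟶ C) (pC : C ⟶ Spec (CommRingCat.of k)) [LocallyOfFiniteType pC]
    (hp : i ≫ pC = pD) (hR : MultCurve.IsRibbon i)
    (Ω₁ : C.Modules) (d₁ : OmegaSh.Der pC Ω₁) (hd₁ : OmegaSh.IsUniversal d₁)
    (φ : Omega.conormal i ⟶ (Scheme.Modules.pullback i).obj Ω₁) (hφ : OmegaSh.IsConormalDiff i d₁ φ)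
    (c : (Scheme.Modules.pullback i).obj Ω₁ ⟶ Ω₂) (hc : OmegaSh.IsDiffCompat i d₁ d₂ c)
    (hw : φ ≫ c = 0) (hS : (ShortComplex.mk φ c hw).ShortExact)
    (C' : Scheme.{u}) (i' : D ⟶ C') (pC' : C' ⟶ Spec (CommRingCat.of k)) [LocallyOfFiniteType pC']
    (hp' : i' ≫ pC' = pD) (hR' : MultCurve.IsRibbon i')
    (Ω₁' : C'.Modules) (d₁' : OmegaSh.Der pC' Ω₁') (hd₁' : OmegaSh.IsUniversal d₁')
    (φ' : Omega.conormal i' ⟶ (Scheme.Modules.pullback i').obj Ω₁') (hφ' : OmegaSh.IsConormalDiff i' d₁' φ')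
    (c' : (Scheme.Modules.pullback i').obj Ω₁' ⟶ Ω₂) (hc' : OmegaSh.IsDiffCompat i' d₁' d₂ c')
    (hw' : φ' ≫ c' = 0) (hS' : (ShortComplex.mk φ' c' hw').ShortExact)
    (g : C ⟶ C') (hgi : i ≫ g = i') (hgk : g ≫ pC' = pC)
    (α : (Scheme.Modules.pullback (𝟙 D)).obj (Omega.conormal i') ⟶ Omega.conormal i)
    (hα : OmegaSh.IsConormalMap i i' g (𝟙 D) α) :
    hS'.extClass.comp (Abelian.Ext.mk₀ ((Scheme.Modules.pullbackId D).inv.app (Omega.conormal i') ≫ α)) (add_zero 1) =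
      hS.extClass := by
  obtain ⟨τ, h₁, h₂⟩ := exists_map i i' g hgi pC pC' hgk pD Ω₁ d₁ Ω₁' d₁' hd₁' Ω₂ d₂ φ hφ c hc φ' hφ' c' hc' α hα
  have := ShortComplex.ShortExact.extClass_naturality hS' hS
    { τ₁ := (Scheme.Modules.pullbackId D).inv.app (Omega.conormal i') ≫ α, τ₂ := τ, τ₃ := 𝟙 Ω₂,
      comm₁₂ := h₁
      comm₂₃ := h₂.trans (Category.comp_id c').symm }
  refine this.trans ?_
  exact Abelian.Ext.mk₀_id_comp _

end Groth.Agent.S18351
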