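import Groth.Statements.S18363
import Mathlib

set_option autoImplicit false
universe u
open CategoryTheory
open CAlg
open scoped Pointwise

namespace Groth.Agent.S18363

/-- Let R be a Noetherian local ring with maximal ideal m, and P, Q ideals of R such that P + Q contains
a power of m while R/P and R/Q are both reduced of Krull dimension one. Let I and J be nonzero
finitely generated R-modules with P·I = 0 and Q·J = 0, such that every element of R whose class in
R/P is a non-zero-divisor acts injectively on I, and every element whose class in R/Q is a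
non-zero-divisor acts injectively on J. Then the group Ext¹_R(I, J) is nonzero. (This is the stalk
statement behind the existence of a non-split extension of a torsion-free rank-one sheaf on a
subcurve Y by one on a subcurve Z of a reduced projective curve, at a point where Y and Z meet
without sharing a component; in that situation the modules moreover have rank one at the generic
points of their supports and P ∩ Q = 0, two assumptions the argument does not use.) -/
theorem result
    (R : Type u) [CommRing R] [IsNoetherianRing R] [IsLocalRing R]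
    (P Q : Ideal R) (hPQ : ∃ n : ℕ, IsLocalRing.maximalIdeal R ^ n ≤ P ⊔ Q)
    [IsReduced (R ⧸ P)] [IsReduced (R ⧸ Q)]
    (hPdim : ringKrullDim (R ⧸ P) = 1) (hQdim : ringKrullDim (R ⧸ Q) = 1)
    (I J : Type u) [AddCommGroup I] [Module R I] [Module.Finite R I] [Nontrivial I]
    [AddCommGroup J] [Module R J] [Module.Finite R J] [Nontrivial J]
    (hPI : ∀ p ∈ P, ∀ x : I, p • x = 0) (hQJ : ∀ q ∈ Q, ∀ y : J, q • y = 0)
    (hItf : ∀ r : R, Ideal.Quotient.mk P r ∈ nonZeroDivisors (R ⧸ P) → ∀ x : I, r • x = 0 → x = 0)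
    (hJtf : ∀ r : R, Ideal.Quotient.mk Q r ∈ nonZeroDivisors (R ⧸ Q) → ∀ y : J, r • y = 0 → y = 0) :
    Nontrivial (Abelian.Ext (ModuleCat.of R I) (ModuleCat.of R J) 1) := by
  obtain ⟨n, hn⟩ := hPQ
  set m := IsLocalRing.maximalIdeal R
  have hQtop : Q ≠ ⊤ := fun h => by
    haveI : Subsingleton (R ⧸ Q) := Ideal.Quotient.subsingleton_iff.mpr h
    rw [ringKrullDim_eq_bot_of_subsingleton] at hQdim
    simp at hQdim
  have havoid : ¬ ((P : Set R) ⊆ ⋃ q ∈ ((Ideal.finite_minimalPrimes_of_isNoetherianRing R Q).toFinset : Set (Ideal R)), (q : Set R)) := by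
    intro h
    obtain ⟨q, hq, hPq⟩ := (Ideal.subset_union_prime (f := id) ⊥ ⊥ (fun q hq _ _ => ((Set.Finite.mem_toFinset _).mp hq).1.1)).mp h
    rw [Set.Finite.mem_toFinset] at hq
    haveI := hq.1.1
    have hmq : m ≤ q := Ideal.IsPrime.le_of_pow_le (hn.trans (sup_le hPq hq.1.2))
    haveI : Ring.KrullDimLE 0 (R ⧸ Q) := Ring.krullDimLE_zero_iff.mpr fun P' hP' => by
      have h1 : P'.comap (Ideal.Quotient.mk Q) ≤ q :=
        (IsLocalRing.le_maximalIdeal (Ideal.comap_ne_top _ hP'.ne_top)).trans hmq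
      have h2 : Q ≤ P'.comap (Ideal.Quotient.mk Q) := fun z hz => by
        rw [Ideal.mem_comap, Ideal.Quotient.eq_zero_iff_mem.mpr hz]; exact zero_mem _
      have h3 : (P'.comap (Ideal.Quotient.mk Q)).IsMaximal := by
        rw [le_antisymm h1 (hq.2 ⟨inferInstance, h2⟩ h1), ← le_antisymm hmq (IsLocalRing.le_maximalIdeal hq.1.1.ne_top)]
        infer_instance
      rw [← Ideal.map_comap_of_surjective _ Ideal.Quotient.mk_surjective P']
      exact (Ideal.map_eq_top_or_isMaximal_of_surjective _ Ideal.Quotient.mk_surjective h3).resolve_left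
        (by rw [Ideal.map_comap_of_surjective _ Ideal.Quotient.mk_surjective]; exact hP'.ne_top)
    have := Ring.krullDimLE_iff.mp ‹Ring.KrullDimLE 0 (R ⧸ Q)›
    rw [hQdim] at this
    norm_cast at this
  obtain ⟨x, hxP, hxq⟩ := Set.not_subset.mp havoid
  simp only [Set.mem_iUnion, Set.Finite.coe_toFinset, SetLike.mem_coe, not_exists] at hxq
  have hxreg : Ideal.Quotient.mk Q x ∈ nonZeroDivisors (R ⧸ Q) := by
    refine mem_nonZeroDivisors_iff_right.mpr fun z hz => ?_
    obtain ⟨z, rfl⟩ := Ideal.Quotient.mk_surjective z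
    rw [← map_mul, Ideal.Quotient.eq_zero_iff_mem] at hz
    rw [Ideal.Quotient.eq_zero_iff_mem, ← ((Ideal.isRadical_iff_quotient_reduced Q).mpr inferInstance).radical,
      ← Ideal.sInf_minimalPrimes, Ideal.mem_sInf]
    exact fun {q} hq => (hq.1.1.mem_or_mem (hq.1.2 hz)).resolve_right (hxq q hq)
  have hxm : x ∈ m := by
    by_contra hu
    obtain ⟨i, hi⟩ := exists_ne (0 : I)
    exact hi ((IsUnit.smul_eq_zero (IsLocalRing.notMem_maximalIdeal.mp hu)).mp (hPI x hxP i))
  have hJreg : IsSMulRegular J x := (isSMulRegular_iff_right_eq_zero_of_smul ).mpr (hJtf x hxreg)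
  -- socle of J / xJ
  haveI hnt : Nontrivial (J ⧸ x • (⊤ : Submodule R J)) := by
    rw [Submodule.Quotient.nontrivial_iff]
    intro h
    have h2 : (⊤ : Submodule R J) ≤ (Ideal.span {x}) • ⊤ := by rw [Submodule.ideal_span_singleton_smul, h]
    exact top_ne_bot (Submodule.eq_bot_of_le_smul_of_le_jacobson_bot (Ideal.span {x}) ⊤ Module.Finite.fg_top h2
      ((Ideal.span_le.mpr (Set.singleton_subset_iff.mpr hxm)).trans (IsLocalRing.maximalIdeal_le_jacobson _)))
  obtain ⟨q', hq'⟩ := associatedPrimes.nonempty R (J ⧸ x • (⊤ : Submodule R J))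
  obtain ⟨hq'p, f, hf⟩ := (isAssociatedPrime_iff_exists_injective_linearMap _ _).mp hq'
  have hann : ∀ r : R, (∀ y : J ⧸ x • (⊤ : Submodule R J), r • y = 0) → r ∈ q' := fun r hr => by
    rw [← Ideal.Quotient.eq_zero_iff_mem]
    refine hf ?_
    rw [map_zero, show Ideal.Quotient.mk q' r = r • Ideal.Quotient.mk q' (1 : R) by
      rw [map_one, Algebra.smul_def, mul_one]; rfl, map_smul, hr]
  have hxq' : x ∈ q' := hann x fun y => by
    obtain ⟨y, rfl⟩ := Submodule.Quotient.mk_surjective _ y
    rw [← Submodule.Quotient.mk_smul, Submodule.Quotient.mk_eq_zero]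
    exact Submodule.smul_mem_pointwise_smul _ x _ trivial
  have hQq' : Q ≤ q' := fun r hr => hann r fun y => by
    obtain ⟨y, rfl⟩ := Submodule.Quotient.mk_surjective _ y
    rw [← Submodule.Quotient.mk_smul, hQJ r hr, Submodule.Quotient.mk_zero]
  have hq'm : q' = m := by
    haveI : Ring.KrullDimLE 1 (R ⧸ Q) := Ring.krullDimLE_iff.mpr (le_of_eq hQdim)
    haveI := hq'p
    haveI hp : (q'.map (Ideal.Quotient.mk Q)).IsPrime :=
      Ideal.map_isPrime_of_surjective Ideal.Quotient.mk_surjective (by rwa [Ideal.mk_ker])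
    have hc : (q'.map (Ideal.Quotient.mk Q)).comap (Ideal.Quotient.mk Q) = q' := by
      rw [Ideal.comap_map_of_surjective _ Ideal.Quotient.mk_surjective, ← RingHom.ker_eq_comap_bot, Ideal.mk_ker,
        sup_eq_left.mpr hQq']
    rcases (Ring.krullDimLE_one_iff.mp inferInstance _ hp).symm with h | h
    · rw [← hc]
      exact IsLocalRing.eq_maximalIdeal (Ideal.comap_isMaximal_of_surjective _ Ideal.Quotient.mk_surjective)
    · exfalso
      refine hxq q' ?_ hxq'
      rw [Ideal.minimalPrimes_eq_comap]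
      exact ⟨_, h, hc⟩
  subst hq'm
  -- a simple quotient of I
  obtain ⟨N, hN, -⟩ := (eq_top_or_exists_le_coatom (⊥ : Submodule R I)).resolve_left bot_ne_top
  haveI : IsSimpleModule R (I ⧸ N) := isSimpleModule_iff_isCoatom.mpr hN
  obtain ⟨m', hm', ⟨e⟩⟩ := isSimpleModule_iff_quot_maximal.mp ‹IsSimpleModule R (I ⧸ N)›
  obtain rfl := IsLocalRing.eq_maximalIdeal hm'
  let g : I →ₗ[R] J ⧸ x • (⊤ : Submodule R J) := f ∘ₗ e.toLinearMap ∘ₗ N.mkQ
  have hS : ((ModuleCat.of R J).smulShortComplex x).ShortExact := hJreg.smulShortComplex_shortExact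
  let φ : ModuleCat.of R I ⟶ ((ModuleCat.of R J).smulShortComplex x).X₃ := ModuleCat.ofHom g
  refine nontrivial_of_ne ((Abelian.Ext.mk₀ φ).comp hS.extClass (zero_add 1)) 0 fun h0 => ?_
  obtain ⟨y, hy⟩ := Abelian.Ext.covariant_sequence_exact₃ _ hS (Abelian.Ext.mk₀ φ) (zero_add 1) h0
  obtain ⟨ψ, rfl⟩ := (Abelian.Ext.mk₀_bijective _ _).2 y
  rw [Abelian.Ext.mk₀_comp_mk₀] at hy
  let ψ' : I →ₗ[R] J := ψ.hom
  have hψ' : ∀ i : I, ψ' i = 0 := fun i => hJtf x hxreg _ (by
    rw [← map_smul, hPI x hxP i, map_zero])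
  have hψ : ∀ i : I, ψ.hom i = 0 := hψ'
  have hg : ∀ i : I, g i = 0 := fun i => by
    have h := ConcreteCategory.congr_hom ((Abelian.Ext.mk₀_bijective _ _).1 hy) i
    refine h.symm.trans ?_
    show ((ModuleCat.of R J).smulShortComplex x).g.hom (ψ.hom i) = 0
    rw [hψ, map_zero]
  obtain ⟨i, hi⟩ := N.mkQ_surjective (e.symm 1)
  have := hg i
  simp only [g, LinearMap.comp_apply, LinearEquiv.coe_coe, hi, LinearEquiv.apply_symm_apply] at this
  exact one_ne_zero (hf (this.trans (map_zero f).symm))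

end Groth.Agent.S18363
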