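import Groth.Statements.S18364
import Mathlib

set_option autoImplicit false
universe u
open CAlg

namespace Groth.Agent.S18364

theorem exists_mul_pow_mem {A : Type u} [CommRing A] {I P : Ideal A} (hP : P ∈ I.minimalPrimes) {b : A} (hb : b ∈ P) :
    ∃ t ∉ P, ∃ k : ℕ, t * b ^ k ∈ I := by
  haveI := hP.1.1
  by_contra h
  push Not at h
  have hdis : Disjoint (I : Set A) ↑(P.primeCompl ⊔ Submonoid.powers b) := by
    rw [Set.disjoint_right]
    intro x hx hxI
    obtain ⟨t, ht, _, ⟨k, rfl⟩, rfl⟩ := Submonoid.mem_sup.1 hx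
    exact h t ht k hxI
  obtain ⟨Q, hQ, hIQ, hQd⟩ := Ideal.exists_le_prime_disjoint I _ hdis
  have hQP : Q ≤ P := fun x hx => by
    by_contra hxP
    exact Set.disjoint_right.1 hQd (Submonoid.mem_sup_left (show x ∈ P.primeCompl from hxP)) hx
  exact Set.disjoint_right.1 hQd (Submonoid.mem_sup_right (Submonoid.mem_powers b)) (hP.2 ⟨hQ, hIQ⟩ hQP hb)

theorem exists_sep {A : Type u} [CommRing A] (π : A) {ι : Type} [Finite ι] (𝔓 : ι → Ideal A) [∀ i, (𝔓 i).IsPrime]
    (h𝔓 : ∀ i, 𝔓 i ∈ (Ideal.span {π}).minimalPrimes) (h𝔓inj : Function.Injective 𝔓) (Y : Set ι) {i : ι} (hi : i ∉ Y) :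
    ∃ s ∉ 𝔓 i, ∀ j ∈ Y, ∃ t ∉ 𝔓 j, t * s ∈ Ideal.span {π} := by
  classical
  haveI := Fintype.ofFinite ι
  have h : ∀ j ∈ Y, ∃ b ∉ 𝔓 i, ∃ t ∉ 𝔓 j, t * b ∈ Ideal.span {π} := by
    intro j hj
    have hne : ¬ 𝔓 j ≤ 𝔓 i := fun hle =>
      hi ((h𝔓inj (le_antisymm hle ((h𝔓 i).2 (h𝔓 j).1 hle))) ▸ hj)
    obtain ⟨b, hb, hbi⟩ := SetLike.not_le_iff_exists.1 hne
    obtain ⟨t, ht, k, hk⟩ := exists_mul_pow_mem (h𝔓 j) hb
    exact ⟨b ^ k, fun hmem => hbi (Ideal.IsPrime.mem_of_pow_mem inferInstance _ hmem), t, ht, hk⟩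
  choose b hb t ht hbt using h
  refine ⟨∏ j : Y, b j.1 j.2, ?_, fun j hj => ⟨t j hj, ht j hj, ?_⟩⟩
  · exact (𝔓 i).primeCompl.prod_mem (fun j _ => hb j.1 j.2)
  · rw [← Finset.mul_prod_erase Finset.univ (fun k : Y => b k.1 k.2) (Finset.mem_univ ⟨j, hj⟩), ← mul_assoc]
    exact Ideal.mul_mem_right _ _ (hbt j hj)


/-- Let A be a Noetherian ring, π an element of A, and (𝔓_i)_{i ∈ ι} an injective finite family listing
exactly the minimal prime ideals over (π). Let M be a finitely generated A-module and M̄ = M/πM. For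
a subset T of ι let K(T) ⊆ M̄ be the submodule of elements whose image in the localisation of M̄ at
𝔓_i is zero for every i ∈ T, and N(T) ⊆ M its preimage in M. Assume K(ι) = 0, i.e. no nonzero
element of M̄ vanishes at all the minimal primes (every associated prime of M̄ is one of the 𝔓_i).
Then for every subset Y of ι with complement Z one has N(Y) ∩ N(Z) = πM, and the same construction
applied to the module N(Y) instead of M — the preimage in N(Y) of the elements of N(Y)/πN(Y)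
vanishing at every 𝔓_i with i ∈ Z — is, as a submodule of M, equal to N(Y) ∩ N(Z). (Geometric
meaning: A is the local ring of a flat family of curves over a discrete valuation ring with
uniformizer π at a point of the reduced special fibre, M the stalk of a torsion-free rank-one sheaf
I, Y a set of components of the special fibre through the point, and N(Y) the stalk of the kernel
I^Y of I → I(s)_Y; the statement is (I^Y)^Z = I^Y ∩ I^Z = πI. Reducedness of A/πA, flatness and rank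
one are not used.) -/
theorem result
    (A : Type u) [CommRing A] [IsNoetherianRing A] (π : A)
    (ι : Type) [Finite ι] (𝔓 : ι → Ideal A) [∀ i, (𝔓 i).IsPrime]
    (h𝔓 : ∀ i, 𝔓 i ∈ (Ideal.span {π}).minimalPrimes) (h𝔓inj : Function.Injective 𝔓)
    (h𝔓surj : ∀ 𝔔 ∈ (Ideal.span {π}).minimalPrimes, ∃ i, 𝔓 i = 𝔔)
    (M : Type u) [AddCommGroup M] [Module A M] [Module.Finite A M]
    (K : Set ι → Submodule A (M ⧸ Ideal.span {π} • (⊤ : Submodule A M)))
    (hK : ∀ T : Set ι, K T = ⨅ i ∈ T, LinearMap.ker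
      (LocalizedModule.mkLinearMap (𝔓 i).primeCompl (M ⧸ Ideal.span {π} • (⊤ : Submodule A M))))
    (htf : K Set.univ = ⊥)
    (N : Set ι → Submodule A M)
    (hN : ∀ T : Set ι, N T = (K T).comap (Submodule.mkQ (Ideal.span {π} • (⊤ : Submodule A M))))
    (Y : Set ι) :
    N Y ⊓ N Yᶜ = Ideal.span {π} • (⊤ : Submodule A M) ∧
    Submodule.map (N Y).subtype
      ((⨅ i ∈ Yᶜ, LinearMap.ker (LocalizedModule.mkLinearMap (𝔓 i).primeCompl
          (↥(N Y) ⧸ Ideal.span {π} • (⊤ : Submodule A ↥(N Y))))).comap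
        (Submodule.mkQ (Ideal.span {π} • (⊤ : Submodule A ↥(N Y)))))
      = N Y ⊓ N Yᶜ := by
  classical
  have memK : ∀ (T : Set ι) (z : M ⧸ Ideal.span {π} • (⊤ : Submodule A M)),
      z ∈ K T ↔ ∀ i ∈ T, ∃ s ∉ 𝔓 i, s • z = 0 := by
    intro T z
    rw [hK]
    simp only [Submodule.mem_iInf]
    refine forall₂_congr fun i _ => ?_
    rw [LinearMap.mem_ker, IsLocalizedModule.eq_zero_iff (𝔓 i).primeCompl]
    exact ⟨fun ⟨s, hs⟩ => ⟨s, s.2, hs⟩, fun ⟨s, hs, h⟩ => ⟨⟨s, hs⟩, h⟩⟩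
  have memN : ∀ (T : Set ι) (x : M), x ∈ N T ↔ ∀ i ∈ T, ∃ s ∉ 𝔓 i, s • x ∈ Ideal.span {π} • (⊤ : Submodule A M) := by
    intro T x
    rw [hN, Submodule.mem_comap, memK]
    refine forall₂_congr fun i _ => ?_
    simp only [Submodule.mkQ_apply, ← Submodule.Quotient.mk_smul, Submodule.Quotient.mk_eq_zero]
  have hfirst : N Y ⊓ N Yᶜ = Ideal.span {π} • (⊤ : Submodule A M) := by
    refine le_antisymm ?_ (le_inf ?_ ?_)
    · intro x hx
      have hall : x ∈ N Set.univ := (memN _ x).2 fun i _ => by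
        by_cases hi : i ∈ Y
        · exact (memN Y x).1 hx.1 i hi
        · exact (memN Yᶜ x).1 hx.2 i hi
      rw [hN, Submodule.mem_comap, htf, Submodule.mem_bot, Submodule.mkQ_apply, Submodule.Quotient.mk_eq_zero] at hall
      exact hall
    all_goals
      intro x hx
      rw [memN]
      intro i _
      exact ⟨1, fun h => Ideal.IsPrime.ne_top inferInstance ((Ideal.eq_top_iff_one _).2 h), by rwa [one_smul]⟩
  refine ⟨hfirst, le_antisymm ?_ ?_⟩
  · rintro _ ⟨x, hx, rfl⟩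
    refine ⟨x.2, (memN Yᶜ _).2 fun i hi => ?_⟩
    rw [SetLike.mem_coe, Submodule.mem_comap, Submodule.mem_iInf] at hx
    have hxi := Submodule.mem_iInf _ |>.1 (hx i) hi
    rw [LinearMap.mem_ker, IsLocalizedModule.eq_zero_iff (𝔓 i).primeCompl, Subtype.exists] at hxi
    obtain ⟨s, hs, hsx⟩ := hxi
    refine ⟨s, hs, ?_⟩
    rw [Submodule.mkQ_apply, Submonoid.mk_smul, ← Submodule.Quotient.mk_smul, Submodule.Quotient.mk_eq_zero] at hsx
    have := Submodule.mem_map_of_mem (f := (N Y).subtype) hsx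
    rw [Submodule.map_smul''] at this
    exact Submodule.smul_mono le_rfl le_top this
  · intro x hx
    have hxY : x ∈ N Y := hx.1
    refine ⟨⟨x, hxY⟩, ?_, rfl⟩
    rw [SetLike.mem_coe, Submodule.mem_comap, Submodule.mem_iInf]
    intro i
    rw [Submodule.mem_iInf]
    intro hi
    rw [LinearMap.mem_ker, IsLocalizedModule.eq_zero_iff (𝔓 i).primeCompl, Subtype.exists]
    obtain ⟨s, hs, hsep⟩ := exists_sep π 𝔓 h𝔓 h𝔓inj Y (i := i) hi
    refine ⟨s, hs, ?_⟩
    rw [Submodule.mkQ_apply]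
    show s • (Submodule.Quotient.mk (⟨x, hxY⟩ : N Y) : ↥(N Y) ⧸ Ideal.span {π} • (⊤ : Submodule A ↥(N Y))) = 0
    rw [← Submodule.Quotient.mk_smul, Submodule.Quotient.mk_eq_zero]
    rw [hfirst, Submodule.ideal_span_singleton_smul, Submodule.mem_smul_pointwise_iff_exists] at hx
    obtain ⟨m, -, rfl⟩ := hx
    have hsm : s • m ∈ N Y := (memN Y _).2 fun j hj => by
      obtain ⟨t, ht, hts⟩ := hsep j hj
      exact ⟨t, ht, by rw [← mul_smul]; exact Submodule.smul_mem_smul hts Submodule.mem_top⟩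
    have heq : s • (⟨π • m, hxY⟩ : N Y) = π • (⟨s • m, hsm⟩ : N Y) := Subtype.ext (smul_comm s π m)
    rw [heq]
    exact Submodule.smul_mem_smul (Ideal.mem_span_singleton_self π) Submodule.mem_top

end Groth.Agent.S18364
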