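import Groth.Statements.S18365
import Mathlib

set_option autoImplicit false
universe u
open CAlg

namespace Groth.Agent.S18365

/-- Let A be a Noetherian ring, π an element of A, (𝔓_i)_{i ∈ ι} an injective finite family listing
exactly the minimal prime ideals over (π), and M a finitely generated A-module on which π acts
injectively; put M̄ = M/πM. For T ⊆ ι let K(T) ⊆ M̄ be the submodule of elements whose image in the
localisation of M̄ at 𝔓_i vanishes for every i ∈ T, and N(T) ⊆ M its preimage; assume K(ι) = 0.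
Suppose that M̄ decomposes at Y, i.e. K(Y) + K(Yᶜ) = M̄, and that for a subset Z the module
N(Y)/πN(Y) decomposes at Z, i.e. its submodule of elements vanishing at every 𝔓_i (i ∈ Z) and its
submodule of elements vanishing at every 𝔓_i (i ∉ Z) together span it. Then M̄ decomposes at Z: K(Z)
+ K(Zᶜ) = M̄. (Geometric meaning: for a flat family of curves over a discrete valuation ring with
uniformizer π, I a torsion-free rank-one sheaf flat over the base, Y a subcurve of the special fibre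
X(s) at which I(s) decomposes and I^Y = ker(I → I(s)_Y): if I^Y(s) decomposes at a subcurve Z then
so does I(s); decomposition of a sheaf at Z is the surjectivity of I(s) → I(s)_Z ⊕ I(s)_{Z^c},
checked on stalks. Reducedness of the special fibre and rank one are not used.) -/
theorem result
    (A : Type u) [CommRing A] [IsNoetherianRing A] (π : A)
    (ι : Type) [Finite ι] (𝔓 : ι → Ideal A) [∀ i, (𝔓 i).IsPrime]
    (h𝔓 : ∀ i, 𝔓 i ∈ (Ideal.span {π}).minimalPrimes) (h𝔓inj : Function.Injective 𝔓)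
    (h𝔓surj : ∀ 𝔔 ∈ (Ideal.span {π}).minimalPrimes, ∃ i, 𝔓 i = 𝔔)
    (M : Type u) [AddCommGroup M] [Module A M] [Module.Finite A M]
    (hπ : ∀ m : M, π • m = 0 → m = 0)
    (K : Set ι → Submodule A (M ⧸ Ideal.span {π} • (⊤ : Submodule A M)))
    (hK : ∀ T : Set ι, K T = ⨅ i ∈ T, LinearMap.ker
      (LocalizedModule.mkLinearMap (𝔓 i).primeCompl (M ⧸ Ideal.span {π} • (⊤ : Submodule A M))))
    (htf : K Set.univ = ⊥)
    (N : Set ι → Submodule A M)
    (hN : ∀ T : Set ι, N T = (K T).comap (Submodule.mkQ (Ideal.span {π} • (⊤ : Submodule A M))))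
    (Y Z : Set ι) (hY : K Y ⊔ K Yᶜ = ⊤)
    (K' : Set ι → Submodule A (↥(N Y) ⧸ Ideal.span {π} • (⊤ : Submodule A ↥(N Y))))
    (hK' : ∀ T : Set ι, K' T = ⨅ i ∈ T, LinearMap.ker
      (LocalizedModule.mkLinearMap (𝔓 i).primeCompl (↥(N Y) ⧸ Ideal.span {π} • (⊤ : Submodule A ↥(N Y)))))
    (hZ : K' Z ⊔ K' Zᶜ = ⊤) :
    K Z ⊔ K Zᶜ = ⊤ := by
  classical
  have one_notMem : ∀ i, (1 : A) ∉ 𝔓 i := fun i h => Ideal.IsPrime.ne_top inferInstance ((Ideal.eq_top_iff_one _).2 h)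
  have mul_notMem : ∀ i {a b : A}, a ∉ 𝔓 i → b ∉ 𝔓 i → a * b ∉ 𝔓 i := fun i {a b} ha hb h =>
    (Ideal.IsPrime.mem_or_mem inferInstance h).elim ha hb
  have memN : ∀ (T : Set ι) (x : M), x ∈ N T ↔ ∀ i ∈ T, ∃ s ∉ 𝔓 i, s • x ∈ Ideal.span {π} • (⊤ : Submodule A M) := by
    intro T x
    rw [hN, Submodule.mem_comap, hK]
    simp only [Submodule.mem_iInf]
    refine forall₂_congr fun i _ => ?_
    rw [LinearMap.mem_ker, IsLocalizedModule.eq_zero_iff (𝔓 i).primeCompl]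
    simp only [Submodule.mkQ_apply, Submonoid.smul_def, ← Submodule.Quotient.mk_smul, Submodule.Quotient.mk_eq_zero]
    exact ⟨fun ⟨s, hs⟩ => ⟨s, s.2, hs⟩, fun ⟨s, hs, h⟩ => ⟨⟨s, hs⟩, h⟩⟩
  have memK' : ∀ (T : Set ι) (x : N Y), Submodule.Quotient.mk x ∈ K' T →
      ∀ i ∈ T, ∃ s ∉ 𝔓 i, ∃ n ∈ N Y, s • (x : M) = π • n := by
    intro T x hx i hi
    rw [hK', Submodule.mem_iInf] at hx
    have h := (Submodule.mem_iInf _).1 (hx i) hi
    rw [LinearMap.mem_ker, IsLocalizedModule.eq_zero_iff (𝔓 i).primeCompl] at h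
    obtain ⟨s, hs⟩ := h
    rw [Submonoid.smul_def, ← Submodule.Quotient.mk_smul, Submodule.Quotient.mk_eq_zero,
      Submodule.ideal_span_singleton_smul, Submodule.mem_smul_pointwise_iff_exists] at hs
    obtain ⟨n, -, hn⟩ := hs
    exact ⟨s, s.2, n, n.2, (congrArg Subtype.val hn).symm⟩
  have hsplit : ∀ a ∈ N Y, ∃ a1 a2 : M, a = a1 + a2 ∧ a1 ∈ N Y ∧ a2 ∈ N Y ∧
      (∀ i ∈ Z, ∃ s ∉ 𝔓 i, ∃ n ∈ N Y, s • a1 = π • n) ∧ (∀ i ∈ Zᶜ, ∃ s ∉ 𝔓 i, ∃ n ∈ N Y, s • a2 = π • n) := by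
    intro a ha
    let L := Ideal.span {π} • (⊤ : Submodule A ↥(N Y))
    obtain ⟨u, hu, v, hv, huv⟩ := Submodule.mem_sup.1
      (hZ ▸ Submodule.mem_top : (Submodule.Quotient.mk (p := L) (⟨a, ha⟩ : N Y)) ∈ K' Z ⊔ K' Zᶜ)
    obtain ⟨u, rfl⟩ := Submodule.Quotient.mk_surjective L u
    have hv' : v = Submodule.Quotient.mk ((⟨a, ha⟩ : N Y) - u) := by
      rw [Submodule.Quotient.mk_sub]; exact eq_sub_of_add_eq' huv
    refine ⟨u, a - u, by abel, u.2, sub_mem ha u.2, memK' Z u hu, ?_⟩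
    exact memK' Zᶜ ((⟨a, ha⟩ : N Y) - u) (hv' ▸ hv)
  have hdecY : ∀ x : M, ∃ u w : M, x = u + w ∧ u ∈ N Y ∧ w ∈ N Yᶜ := by
    intro x
    obtain ⟨u, hu, v, hv, huv⟩ := Submodule.mem_sup.1
      (hY ▸ Submodule.mem_top : (Submodule.Quotient.mk x) ∈ K Y ⊔ K Yᶜ)
    obtain ⟨u, rfl⟩ := Submodule.Quotient.mk_surjective _ u
    refine ⟨u, x - u, by abel, by rw [hN]; exact hu, ?_⟩
    rw [hN, Submodule.mem_comap, Submodule.mkQ_apply, Submodule.Quotient.mk_sub, ← eq_sub_of_add_eq' huv]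
    exact hv
  have hpi : ∀ n : M, π • n ∈ Ideal.span {π} • (⊤ : Submodule A M) := fun n =>
    Submodule.smul_mem_smul (Ideal.mem_span_singleton_self π) Submodule.mem_top
  -- elements of `N Y` decompose
  have hA : ∀ a ∈ N Y, a ∈ N Z ⊔ N Zᶜ := by
    intro a ha
    obtain ⟨a1, a2, rfl, -, -, h1, h2⟩ := hsplit a ha
    refine Submodule.add_mem_sup ((memN Z a1).2 fun i hi => ?_) ((memN Zᶜ a2).2 fun i hi => ?_)
    · obtain ⟨s, hs, n, -, hn⟩ := h1 i hi; exact ⟨s, hs, hn ▸ hpi n⟩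
    · obtain ⟨s, hs, n, -, hn⟩ := h2 i hi; exact ⟨s, hs, hn ▸ hpi n⟩
  have hpiY : ∀ b, π • b ∈ N Y := fun b => (memN Y _).2 fun i _ => ⟨1, one_notMem i, by rw [one_smul]; exact hpi b⟩
  -- the key step
  have hkey : ∀ T : Set ι, ∀ b1 : M, (∀ i ∈ T, ∃ s ∉ 𝔓 i, ∃ n ∈ N Y, s • (π • b1) = π • n) →
      ∃ u w, b1 = u + w ∧ u ∈ N Y ∧ w ∈ N T := by
    intro T b1 hb1
    obtain ⟨u, w, rfl, hu, hw⟩ := hdecY b1
    refine ⟨u, w, rfl, hu, (memN T w).2 fun i hi => ?_⟩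
    by_cases hiY : i ∈ Y
    · obtain ⟨s, hs, n, hn, hsn⟩ := hb1 i hi
      have hsn' : s • (u + w) = n := by
        rw [← sub_eq_zero]
        exact hπ _ (by rw [smul_sub, smul_comm π s (u + w), hsn, sub_self])
      obtain ⟨t, ht, htn⟩ := (memN Y n).1 hn i hiY
      obtain ⟨r, hr, hru⟩ := (memN Y u).1 hu i hiY
      refine ⟨r * (t * s), mul_notMem i hr (mul_notMem i ht hs), ?_⟩
      have e : (r * (t * s)) • w = r • (t • n) - (t * s) • (r • u) := by
        rw [← hsn']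
        module
      rw [e]
      exact sub_mem (Submodule.smul_mem _ _ htn) (Submodule.smul_mem _ _ hru)
    · exact (memN Yᶜ w).1 hw i hiY
  have hall : ∀ x : M, x ∈ N Z ⊔ N Zᶜ := by
    intro x
    obtain ⟨a, b, rfl, ha, hb⟩ := hdecY x
    refine add_mem (hA a ha) ?_
    obtain ⟨c1, c2, hc, hc1Y, -, h1, h2⟩ := hsplit (π • b) (hpiY b)
    have hc1 : c1 ∈ Ideal.span {π} • (⊤ : Submodule A M) := by
      have hall : c1 ∈ N Set.univ := (memN _ c1).2 fun i _ => by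
        by_cases hiY : i ∈ Y
        · exact (memN Y c1).1 hc1Y i hiY
        by_cases hiZ : i ∈ Z
        · obtain ⟨s, hs, n, -, hn⟩ := h1 i hiZ; exact ⟨s, hs, hn ▸ hpi n⟩
        · obtain ⟨s, hs, n, -, hn⟩ := h2 i hiZ
          refine ⟨s, hs, ?_⟩
          rw [show c1 = π • b - c2 by rw [hc]; abel, smul_sub, hn]
          exact sub_mem (Submodule.smul_mem _ _ (hpi b)) (hpi n)
      rw [hN, Submodule.mem_comap, htf, Submodule.mem_bot, Submodule.mkQ_apply, Submodule.Quotient.mk_eq_zero] at hall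
      exact hall
    rw [Submodule.ideal_span_singleton_smul, Submodule.mem_smul_pointwise_iff_exists] at hc1
    obtain ⟨b1, -, rfl⟩ := hc1
    have hc2 : c2 = π • (b - b1) := by rw [smul_sub, hc]; abel
    subst hc2
    obtain ⟨u, w, hb1, hu, hw⟩ := hkey Z b1 h1
    obtain ⟨u', w', hb2, hu', hw'⟩ := hkey Zᶜ (b - b1) h2
    rw [show b = (u + u') + (w + w') by rw [← sub_add_cancel b b1, hb2, hb1]; abel]
    exact add_mem (hA _ (add_mem hu hu')) (Submodule.add_mem_sup hw hw')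
  rw [eq_top_iff]
  intro z _
  obtain ⟨x, rfl⟩ := Submodule.Quotient.mk_surjective _ z
  obtain ⟨y1, hy1, y2, hy2, rfl⟩ := Submodule.mem_sup.1 (hall x)
  rw [Submodule.Quotient.mk_add]
  rw [hN] at hy1 hy2
  exact Submodule.add_mem_sup hy1 hy2

end Groth.Agent.S18365
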