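import Groth.Statements.S18366
import Groth.Agent.GrpSch.DensePoints

set_option autoImplicit false
universe u
open CategoryTheory CategoryTheory.Limits AlgebraicGeometry
open Variety

namespace Groth.Agent.S18366

/-- Let k be a separably closed field and X a non-empty k-scheme of finite type which is geometrically
reduced. Then X has a k-rational point, i.e. the structure morphism admits a section. (Non-emptiness
is part of the hypotheses: the empty scheme is geometrically reduced of finite type and has no
point. The published statement does not assume X non-empty; this row does, since the empty scheme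
has no rational point.) -/
theorem result (k : Type u) [Field k] [IsSepClosed k]
    {X : Scheme.{u}} (f : X ⟶ Spec (CommRingCat.of k)) [LocallyOfFiniteType f] [QuasiCompact f] [GeometricallyReduced f]
    [Nonempty X] :
    ∃ s : Spec (CommRingCat.of k) ⟶ X, s ≫ f = 𝟙 (Spec (CommRingCat.of k)) := by
  haveI : LocallyOfFinitePresentation f := inferInstance
  obtain ⟨x, hx⟩ := (Groth.Agent.GrpSch.DensePoints.dense_smoothLocus f).nonempty
  let U := f.smoothLocus
  haveI : Smooth (U.ι ≫ f) := by
    haveI : LocallyOfFinitePresentation (U.ι ≫ f) := inferInstance
    refine Scheme.Hom.smoothLocus_eq_top_iff.mp ?_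
    rw [← Scheme.Hom.preimage_smoothLocus_eq]
    exact U.ι_preimage_self
  obtain ⟨r, hr, -⟩ := Groth.Agent.GrpSch.SepPoints.exists_section_mem (U.ι ≫ f) (U := (⊤ : U.toScheme.Opens))
    (x := ⟨x, hx⟩) trivial
  exact ⟨r ≫ U.ι, (Category.assoc _ _ _).trans hr⟩


end Groth.Agent.S18366
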