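import Groth.Statements.S18370
import Mathlib

set_option autoImplicit false
universe u
open CategoryTheory CategoryTheory.Limits MonoidalCategory CartesianMonoidalCategory MonObj GrpObj AlgebraicGeometry
open GrpSch

namespace Groth.Agent.S18370

/-- Let S be a scheme and G a commutative S-group scheme which is killed by a natural number n, i.e. the
n-th power map of G is the trivial homomorphism, and let n = a·b with a and b coprime. If i_a : G_a
→ G and i_b : G_b → G are scheme-theoretic kernels of the a-th and b-th power maps of G, then the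
morphism G_a ×_S G_b → G sending (x, y) to i_a(x)·i_b(y) is an isomorphism of S-schemes. (The
published statement assumes n ≠ 0; the case n = 0, where {a, b} = {0, 1} and one kernel is all of G
while the other is trivial, is included here.) -/
theorem result {S : Scheme.{u}} (G Ga Gb : Over S)
    [GrpObj G] [IsCommMonObj G] (n a b : ℕ) (hn : n = a * b) (hab : Nat.Coprime a b)
    (hG : (𝟙 G) ^ n = 1)
    (ia : Ga ⟶ G) (hia : AlgGrp.IsKernel ia ((𝟙 G) ^ a))
    (ib : Gb ⟶ G) (hib : AlgGrp.IsKernel ib ((𝟙 G) ^ b)) :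
    IsIso ((fst Ga Gb ≫ ia) * (snd Ga Gb ≫ ib)) := by
  obtain ⟨u, v, huv⟩ : ∃ u v : ℤ, u * a + v * b = 1 := ⟨Int.gcdA a b, Int.gcdB a b, by
    have := Int.gcd_eq_gcd_ab a b
    rw [Int.gcd_natCast_natCast, Nat.coprime_iff_gcd_eq_one.mp hab] at this
    push_cast at this
    linarith⟩
  have hpow : ∀ {X : Over S} (x : X ⟶ G), x ^ (n : ℤ) = 1 := fun x => by
    rw [zpow_natCast]
    simpa only [MonObj.comp_pow, Category.comp_id, MonObj.comp_one] using congrArg (fun w => x ≫ w) hG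
  have hlift : ∀ {H : Over S} (i : H ⟶ G) (c : ℕ), AlgGrp.IsKernel i ((𝟙 G) ^ c) → ∀ {X : Over S} (x : X ⟶ G), x ^ (c : ℤ) = 1 → ∃ y, y ≫ i = x := by
    intro H i c hi X x hx
    refine ⟨hi.lift x (toUnit X) ?_, hi.lift_fst _ _ _⟩
    rw [MonObj.comp_pow, Category.comp_id, ← zpow_natCast, hx, Hom.one_def]
  have hker : ∀ {H : Over S} (i : H ⟶ G) (c : ℕ), AlgGrp.IsKernel i ((𝟙 G) ^ c) → i ^ (c : ℤ) = 1 := by
    intro H i c hi
    have := hi.w
    rw [MonObj.comp_pow, Category.comp_id] at this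
    rw [zpow_natCast, this, Hom.one_def]
  have hcancel : ∀ {H : Over S} (i : H ⟶ G) (c : ℕ), AlgGrp.IsKernel i ((𝟙 G) ^ c) → ∀ {X : Over S} (p q : X ⟶ H), p ≫ i = q ≫ i → p = q :=
    fun i c hi X p q h => hi.hom_ext h (toUnit_unique _ _)
  obtain ⟨pa, hpa⟩ := hlift ia a hia ((𝟙 G) ^ (v * b)) (by
    rw [← zpow_mul, show v * (b:ℤ) * a = (n:ℤ) * v by rw [hn]; push_cast; ring, zpow_mul, hpow, one_zpow])
  obtain ⟨pb, hpb⟩ := hlift ib b hib ((𝟙 G) ^ (u * a)) (by
    rw [← zpow_mul, show u * (a:ℤ) * b = (n:ℤ) * u by rw [hn]; push_cast; ring, zpow_mul, hpow, one_zpow])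
  set m := (fst Ga Gb ≫ ia) * (snd Ga Gb ≫ ib) with hm
  have ha0 : (fst Ga Gb ≫ ia) ^ (a : ℤ) = 1 := by rw [← GrpObj.comp_zpow, hker ia a hia, MonObj.comp_one]
  have hb0 : (snd Ga Gb ≫ ib) ^ (b : ℤ) = 1 := by rw [← GrpObj.comp_zpow, hker ib b hib, MonObj.comp_one]
  have h1 : ∀ {X : Over S} (x : X ⟶ G) (c : ℕ) (w : ℤ), x ^ (c : ℤ) = 1 → x ^ (w * c) = 1 := fun x c w h => by
    rw [_root_.mul_comm, zpow_mul, h, one_zpow]
  refine ⟨lift pa pb, ?_, ?_⟩
  · apply CartesianMonoidalCategory.hom_ext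
    · apply hcancel ia a hia
      rw [Category.assoc, Category.assoc, lift_fst_assoc, hpa, GrpObj.comp_zpow, Category.comp_id, hm, mul_zpow,
        h1 _ _ v hb0, _root_.mul_one, Category.id_comp]
      conv_rhs => rw [← zpow_one (fst Ga Gb ≫ ia), ← huv, zpow_add, h1 _ _ u ha0, _root_.one_mul]
    · apply hcancel ib b hib
      rw [Category.assoc, Category.assoc, lift_snd_assoc, hpb, GrpObj.comp_zpow, Category.comp_id, hm, mul_zpow,
        h1 _ _ u ha0, _root_.one_mul, Category.id_comp]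
      conv_rhs => rw [← zpow_one (snd Ga Gb ≫ ib), ← huv, zpow_add, h1 _ _ v hb0, _root_.mul_one]
  · rw [hm, MonObj.comp_mul, lift_fst_assoc, lift_snd_assoc, hpa, hpb, ← zpow_add, _root_.add_comm, huv, zpow_one]

end Groth.Agent.S18370
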