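-- statement PhiStab.GrothFrozen.S18376 (Groth/Statements/S18376.lean; the theorem PhiStab.forall_isStable_imp_isSemistable_iff_inClosedPolytope);
import Groth.Statements.S18376
import Groth.Agent.PhiStabLib.Stab

set_option autoImplicit false
universe u
open PhiStab Groth.Agent.PhiStabLib

namespace Groth.Agent.S18376

open PhiStab in
/-- Let (V, E, ends) be a connected finite multigraph, b an integer, and φ₁, φ₂ real weightings of the
vertices with Σ_v φ₁ v = Σ_v φ₂ v = b, φ₁ nondegenerate. Then every φ₁-stable sheaf datum (m, N) of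
total degree b is φ₂-semistable if and only if φ₂ lies in the closed stability polytope of φ₁, that
is, for every elementary vertex set S and every integer d with d - Σ_{v ∈ S} φ₁ v + cut S / 2 > 0
one has d - Σ_{v ∈ S} φ₂ v + cut S / 2 ≥ 0. Membership in the closure of the polytope is expressed
by this half-space condition, the form in which the source's proof uses it; the sheaves of degree g
- 1 = b on stable pointed curves with this dual graph enter through their combinatorial data. -/
theorem result {V E : Type u} [Fintype V] [Fintype E] [DecidableEq V] [DecidableEq E]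
    (ends : E → V × V)
    (hconn : LabGraph.Connected ends) (b : ℤ) (φ₁ φ₂ : V → ℝ) (h₁ : (∑ v : V, φ₁ v) = (b : ℝ))
    (h₂ : (∑ v : V, φ₂ v) = (b : ℝ)) (hnd : Nondegenerate ends φ₁) :
    (∀ (m : V → ℤ) (N : Finset E), totDeg m N = b → IsStable ends φ₁ m N → IsSemistable ends φ₂ m N) ↔
      InClosedPolytope ends φ₁ φ₂ := by
  classical
  have hel : ∀ S : Finset V, IsElementary ends S → S.Nonempty ∧ S ≠ Finset.univ := by
    rintro S ⟨⟨⟨s⟩, -⟩, ⟨t⟩, -⟩
    exact ⟨⟨s.1, s.2⟩, fun h => Finset.mem_compl.1 t.2 (Finset.eq_univ_iff_forall.1 h t.1)⟩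
  constructor
  · intro h S hS d hd
    obtain ⟨hne, hne'⟩ := hel S hS
    obtain ⟨T, hT, hcut⟩ := exists_tree_of_elementary ends hconn hS
    obtain ⟨m, ⟨htot, hst⟩, -⟩ := existsUnique_stable ends T hT b φ₁ h₁ hnd
    have hss := h m Tᶜ htot hst S hne hne'
    have hg := sum_gfun ends φ₁ m Tᶜ (by rw [h₁, htot])
    have hst' := (isStable_iff ends φ₁ m Tᶜ).1 hst
    rw [compl_compl] at hst'
    have hlt := defect_lt_one ends hT _ hg hst' hcut hne hne'
    have he := defect_eq ends φ₁ m Tᶜ S
    rw [compl_compl] at he
    have hle : degOn ends m Tᶜ S ≤ d := by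
      have : (degOn ends m Tᶜ S : ℝ) < (d : ℝ) + 1 := by
        simp only [ell] at hd
        linarith
      exact Int.lt_add_one_iff.1 (by exact_mod_cast this)
    have hle' : (degOn ends m Tᶜ S : ℝ) ≤ (d : ℝ) := by exact_mod_cast hle
    simp only [ell]
    linarith
  · intro h m N htot hst
    have hg := sum_gfun ends φ₂ m N (by rw [h₂, htot])
    rw [isSemistable_iff]
    exact defect_of_elementary ends hconn _ hg _ (fun x => 0 ≤ x) (fun _ _ => add_nonneg) fun S hS => by
      obtain ⟨hne, hne'⟩ := hel S hS
      have h1 := h S hS (degOn ends m N S) (by simp only [ell]; have := hst S hne hne'; linarith)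
      simp only [ell] at h1
      rw [defect_eq]
      linarith

end Groth.Agent.S18376
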