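import Groth.Statements.S18379
import Groth.Agent.VerlindeCombLib.Vanish

set_option autoImplicit false
open VerlindeComb Finset

namespace Groth.Agent.S18379

/-- Let r, k ≥ 1 be integers. Summing over all integer vectors v with r + k > v_1 > v_2 > ⋯ > v_{r-1} >
v_r = 0, one has Σ_v ∏_{i<j} (2 sin(π (v_i - v_j) / (r + k)))² = r (r + k)^{r-1}; that is, the
genus-zero Verlinde number of rank r and level k with no parabolic points, defined as (r (r +
k)^{r-1})⁻¹ times this sum, equals 1. Indices are 0-based below: v i stands for v_{i+1}. -/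
theorem result (r k : ℕ) (hr : 1 ≤ r) (hk : 1 ≤ k) :
    (∑ v ∈ (Finset.univ : Finset (Fin r → Fin (r + k))).filter
        (fun v : Fin r → Fin (r + k) => StrictAnti v ∧ ∀ i : Fin r, (i : ℕ) = r - 1 → (v i : ℕ) = 0),
      ∏ p ∈ (Finset.univ : Finset (Fin r × Fin r)).filter (fun p => p.1 < p.2),
        ((2 : ℝ) * Real.sin (Real.pi * ((v p.1 : ℕ) - (v p.2 : ℕ) : ℝ) / ((r : ℝ) + k))) ^ 2) =
      (r : ℝ) * ((r : ℝ) + k) ^ (r - 1) := by
  classical
  rcases Nat.eq_or_lt_of_le hr with rfl | hr2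
  · rw [sum_eq_single (fun _ : Fin 1 => (⟨0, by omega⟩ : Fin (1 + k)))]
    · rw [show (univ.filter (fun p : Fin 1 × Fin 1 => p.1 < p.2)) = ∅ from by decide]
      simp
    · intro v hv hne
      refine absurd (funext fun i => Fin.ext ?_) hne
      exact (mem_filter.mp hv).2.2 i (by omega)
    · intro h
      refine absurd (mem_filter.mpr ⟨mem_univ _, fun i j hij => ?_, fun i _ => rfl⟩) h
      exact absurd hij (by rw [Subsingleton.elim i j]; exact lt_irrefl _)
  obtain ⟨m, rfl⟩ : ∃ m, r = m + 2 := ⟨r - 2, by omega⟩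
  set N := m + 2 + k with hN
  haveI : NeZero N := ⟨by omega⟩
  let δ : Fin (m + 2) → ℕ := fun i => m + 2 - 1 - (i : ℕ)
  let μ : Fin (m + 2) → ℤ := fun i => ((δ i : ℕ) : ℤ)
  let z : (Fin (m + 2) → ℕ) → Fin (m + 2) → ℂ := fun v j =>
    Complex.exp (2 * Real.pi * Complex.I * (v j : ℂ) / (((m + 2 : ℕ) : ℂ) + k))
  have hz : ∀ v j, z v j =
      Complex.exp (2 * Real.pi * Complex.I * (v j : ℂ) / (((m + 2 : ℕ) : ℂ) + k)) := fun _ _ => rfl
  have hzpow : ∀ (v : Fin (m + 2) → ℕ) (j : Fin (m + 2)) (n : ℕ),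
      z v j ^ n = VerlindeCombLib.e N ((n : ℤ) * (v j : ℤ)) := by
    intro v j n
    rw [hz, VerlindeCombLib.e, ← Complex.exp_nat_mul]
    congr 1
    push_cast [hN]
    ring
  set c := ((univ : Finset (Fin (m + 2) × Fin (m + 2))).filter (fun p => p.1 < p.2)).card with hc
  have ha : ((m + 2 : ℕ) : ℤ) * ((m + 1 : ℕ) : ℤ) = ∑ i, μ i + ∑ i, μ i := by
    have h2 : (∑ i : Fin (m + 2), δ i) * 2 = (m + 2) * (m + 1) := by
      rw [Fin.sum_univ_eq_sum_range (fun i => m + 2 - 1 - i) (m + 2),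
        sum_range_reflect (fun i => i) (m + 2), sum_range_id_mul_two]
      rfl
    rw [← Nat.cast_mul, ← h2]
    simp only [μ, Nat.cast_mul, Nat.cast_sum]
    push_cast; ring
  set T := ((m + 2 : ℕ) : ℤ) * ((m + 1 : ℕ) : ℤ) with hT
  have key : ∀ v ∈ VerlindeCombLib.vset m N,
      VerlindeCombLib.GI N T μ μ (VerlindeCombLib.lift v) = (-1 : ℂ) ^ c *
        ((∏ p ∈ (univ : Finset (Fin (m + 2) × Fin (m + 2))).filter (fun p => p.1 < p.2),
          ((2 : ℝ) * Real.sin (Real.pi * (((v p.1 : ℕ) : ℝ) - ((v p.2 : ℕ) : ℝ)) /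
            (((m + 2 : ℕ) : ℝ) + k))) ^ 2 : ℝ) : ℂ) := by
    intro v hv
    set w : Fin (m + 2) → ℕ := fun j => (v j : ℕ) with hw
    set F := (univ : Finset (Fin (m + 2) × Fin (m + 2))).filter (fun p => p.1 < p.2) with hF
    set Δ := (Matrix.of fun i j : Fin (m + 2) => z w j ^ (δ i)).det with hΔ
    have hΔ2 : Δ ^ 2 = (∏ p ∈ F, (z w p.2 - z w p.1)) ^ 2 := by
      have e1 : (Matrix.of fun i j : Fin (m + 2) => z w j ^ (δ i)) =
          ((Matrix.vandermonde (z w)).transpose).submatrix Fin.revPerm id := by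
        ext i j
        simp only [Matrix.of_apply, Matrix.submatrix_apply, Matrix.transpose_apply,
          Matrix.vandermonde_apply, Fin.revPerm_apply, Fin.val_rev, id_eq, δ]
        congr 1
        omega
      rw [hΔ, e1, Matrix.det_permute, Matrix.det_transpose, Matrix.det_vandermonde, mul_pow,
        ← Int.cast_pow, ← Units.val_pow_eq_pow_val, Int.units_sq, Units.val_one, Int.cast_one,
        one_mul, hF, prod_filter, Fintype.prod_prod_type]
      congr 1
      refine prod_congr rfl fun i _ => ?_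
      rw [← prod_filter]
      exact prod_congr (by ext j; simp) fun j _ => rfl
    have hpair : ∀ p ∈ F, (((2 : ℝ) * Real.sin (Real.pi * ((w p.1 : ℝ) - (w p.2 : ℝ)) /
        (((m + 2 : ℕ) : ℝ) + k))) ^ 2 : ℝ) * (z w p.1 * z w p.2) =
        -((z w p.2 - z w p.1) ^ 2 : ℂ) := by
      intro p _
      rw [hz, hz]
      push_cast
      rw [Complex.sin, show (2 : ℂ) * Real.pi * Complex.I * (w p.1 : ℂ) / ((m : ℂ) + 2 + k) =
          (Real.pi * (w p.1 : ℂ) / ((m : ℂ) + 2 + k)) * Complex.I +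
            (Real.pi * (w p.1 : ℂ) / ((m : ℂ) + 2 + k)) * Complex.I by ring,
        show (2 : ℂ) * Real.pi * Complex.I * (w p.2 : ℂ) / ((m : ℂ) + 2 + k) =
          (Real.pi * (w p.2 : ℂ) / ((m : ℂ) + 2 + k)) * Complex.I +
            (Real.pi * (w p.2 : ℂ) / ((m : ℂ) + 2 + k)) * Complex.I by ring,
        show (Real.pi : ℂ) * ((w p.1 : ℂ) - (w p.2 : ℂ)) / ((m : ℂ) + 2 + k) =
          (Real.pi * (w p.1 : ℂ) / ((m : ℂ) + 2 + k)) -
            (Real.pi * (w p.2 : ℂ) / ((m : ℂ) + 2 + k)) by ring]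
      generalize (Real.pi * (w p.1 : ℂ) / ((m : ℂ) + 2 + k)) = a
      generalize (Real.pi * (w p.2 : ℂ) / ((m : ℂ) + 2 + k)) = b
      simp only [neg_mul, neg_sub, sub_mul, Complex.exp_sub, Complex.exp_add]
      have := Complex.exp_ne_zero (a * Complex.I)
      have := Complex.exp_ne_zero (b * Complex.I)
      field_simp
      ring_nf
      rw [Complex.I_sq]
      ring
    have hprod : ∏ p ∈ F, (z w p.1 * z w p.2) = ∏ j, z w j ^ (m + 1) := by
      rw [prod_mul_distrib, hF, prod_filter, prod_filter, Fintype.prod_prod_type,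
        Fintype.prod_prod_type_right]
      simp only []
      rw [← prod_mul_distrib]
      refine prod_congr rfl fun i _ => ?_
      rw [← prod_mul_distrib]
      have : ∀ j : Fin (m + 2), (if i < j then z w i else 1) * (if j < i then z w i else 1) =
          if j ∈ ({i}ᶜ : Finset (Fin (m + 2))) then z w i else 1 := by
        intro j
        rcases lt_trichotomy i j with h | h | h
        · simp [h, h.ne', not_lt.mpr h.le]
        · simp [h]
        · simp [h, h.ne, not_lt.mpr h.le]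
      simp only [this]
      rw [prod_ite_mem, univ_inter, prod_const, card_compl, card_singleton, Fintype.card_fin]
      rfl
    have hA : VerlindeCombLib.A N μ (VerlindeCombLib.lift v) = Δ := by
      rw [hΔ]; simp only [hzpow]; rfl
    have hu : (∏ j, VerlindeCombLib.u (m + 2) N T (VerlindeCombLib.lift v j)) *
        ∏ j, z w j ^ (m + 1) = 1 := by
      simp only [hzpow, VerlindeCombLib.e, VerlindeCombLib.u]
      rw [← prod_mul_distrib]
      refine prod_eq_one fun j _ => ?_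
      rw [← Complex.exp_add, ← Complex.exp_zero]
      congr 1
      simp only [VerlindeCombLib.lift, hw, hT]
      push_cast [hN]
      have : ((m : ℂ) + 2 + k) ≠ 0 := by exact_mod_cast (show m + 2 + k ≠ 0 by omega)
      have : ((m : ℂ) + 2) ≠ 0 := by exact_mod_cast (show m + 2 ≠ 0 by omega)
      field_simp
      ring
    have hPv : ((∏ p ∈ F, ((2 : ℝ) * Real.sin (Real.pi * ((w p.1 : ℝ) - (w p.2 : ℝ)) /
        (((m + 2 : ℕ) : ℝ) + k))) ^ 2 : ℝ) : ℂ) * ∏ j, z w j ^ (m + 1) = (-1) ^ c * Δ ^ 2 := by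
      rw [Complex.ofReal_prod, ← hprod, ← prod_mul_distrib, prod_congr rfl hpair, prod_neg,
        hΔ2, prod_pow]
    set Pr : ℂ := ((∏ p ∈ F, ((2 : ℝ) * Real.sin (Real.pi * ((w p.1 : ℝ) - (w p.2 : ℝ)) /
        (((m + 2 : ℕ) : ℝ) + k))) ^ 2 : ℝ) : ℂ) with hPr
    change _ = (-1 : ℂ) ^ c * Pr
    rw [VerlindeCombLib.GI, hA]
    set U := ∏ j, VerlindeCombLib.u (m + 2) N T (VerlindeCombLib.lift v j)
    have hs : ((-1 : ℂ) ^ c) * (-1) ^ c = 1 := by rw [← mul_pow]; norm_num
    linear_combination (-(U * (-1 : ℂ) ^ c)) * hPv + ((-1 : ℂ) ^ c * Pr) * hu - (U * Δ ^ 2) * hs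
  have hall := VerlindeCombLib.periodic_identity (N := N) ((m + 1 : ℕ) : ℤ) μ μ ha
  rw [← hT, sum_congr rfl key, ← mul_sum] at hall
  set S := ∑ v ∈ VerlindeCombLib.vset m N,
    ((∏ p ∈ (univ : Finset (Fin (m + 2) × Fin (m + 2))).filter (fun p => p.1 < p.2),
      ((2 : ℝ) * Real.sin (Real.pi * (((v p.1 : ℕ) : ℝ) - ((v p.2 : ℕ) : ℝ)) /
        (((m + 2 : ℕ) : ℝ) + k))) ^ 2 : ℝ) : ℂ) with hS
  have hdiag : ∀ σ τ : Equiv.Perm (Fin (m + 2)),
      ∏ j, ∑ x : Fin N, VerlindeCombLib.e N ((μ (σ j) + μ (τ j) - ((m + 1 : ℕ) : ℤ)) * ((x : ℕ) : ℤ)) =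
      if τ = σ.trans Fin.revPerm then (N : ℂ) ^ (m + 2) else 0 := by
    intro σ τ
    have hd : ∀ j, μ (σ j) + μ (τ j) - ((m + 1 : ℕ) : ℤ) =
        ((m + 1 : ℕ) : ℤ) - ((σ j : ℕ) : ℤ) - ((τ j : ℕ) : ℤ) := by
      intro j
      have := (σ j).isLt; have := (τ j).isLt
      simp only [μ, δ]
      omega
    split_ifs with h
    · subst h
      have : ∀ j, μ (σ j) + μ ((σ.trans Fin.revPerm) j) - ((m + 1 : ℕ) : ℤ) = 0 := by
        intro j
        rw [hd]
        have := (σ j).isLt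
        simp only [Equiv.trans_apply, Fin.revPerm_apply, Fin.val_rev]
        omega
      simp only [this, zero_mul, VerlindeCombLib.e_zero]
      simp
    · obtain ⟨j, hj⟩ : ∃ j, τ j ≠ (σ.trans Fin.revPerm) j := not_forall.mp fun h' => h (Equiv.ext h')
      refine prod_eq_zero (mem_univ j) (VerlindeCombLib.sum_e_mul (NeZero.ne N) fun ⟨q, hq⟩ => hj ?_)
      rw [hd] at hq
      have := (σ j).isLt; have := (τ j).isLt
      have : q = 0 := by
        have hN' : (N : ℤ) = m + 2 + k := by omega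
        rcases lt_trichotomy q 0 with hq0 | hq0 | hq0
        · exfalso
          have : (N : ℤ) * q ≤ (N : ℤ) * (-1) := mul_le_mul_of_nonneg_left (by omega) (by omega)
          omega
        · exact hq0
        · exfalso
          have : (N : ℤ) * 1 ≤ (N : ℤ) * q := mul_le_mul_of_nonneg_left (by omega) (by omega)
          omega
      subst this
      refine Fin.ext ?_
      simp only [Equiv.trans_apply, Fin.revPerm_apply, Fin.val_rev]
      omega
  have hsgn : ∀ σ : Equiv.Perm (Fin (m + 2)),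
      ((Equiv.Perm.sign σ : ℤ) : ℂ) * (Equiv.Perm.sign (σ.trans Fin.revPerm) : ℤ) =
        (Equiv.Perm.sign (Fin.revPerm (n := m + 2)) : ℤ) := by
    intro σ
    rw [← Int.cast_mul, ← Units.val_mul, Equiv.Perm.sign_trans, ← mul_assoc, mul_comm _ (Equiv.Perm.sign Fin.revPerm),
      mul_assoc, Int.units_mul_self, mul_one]
  simp only [hdiag, mul_ite, mul_zero, sum_ite_eq', mem_univ, if_true, hsgn, sum_const, card_univ,
    Fintype.card_perm, Fintype.card_fin, nsmul_eq_mul] at hall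
  have hSt : ((univ : Finset (Equiv.Perm (Fin (m + 2)))).filter
      (fun π => π (Fin.last _) = Fin.last _)).card = Nat.factorial (m + 1) := by
    rw [← Fintype.card_subtype]
    have e : {π : Equiv.Perm (Fin (m + 2)) // π (Fin.last _) = Fin.last _} ≃
        Equiv.Perm {x : Fin (m + 2) // x ≠ Fin.last _} := by
      refine (Equiv.subtypeEquivRight fun π => ?_).trans
        (Equiv.Perm.subtypeEquivSubtypePerm (fun x : Fin (m + 2) => x ≠ Fin.last _)).symm
      simp
    rw [Fintype.card_congr e, Fintype.card_perm]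
    simp
  rw [hSt, Nat.factorial_succ (m + 1)] at hall
  have hN0 : (N : ℂ) ≠ 0 := Nat.cast_ne_zero.mpr (NeZero.ne N)
  have hf0 : ((Nat.factorial (m + 1) : ℕ) : ℂ) ≠ 0 := Nat.cast_ne_zero.mpr (Nat.factorial_ne_zero _)
  obtain ⟨x, hx, hx0⟩ : ∃ x : ℝ, S = (x : ℂ) ∧ 0 ≤ x :=
    ⟨_, (Complex.ofReal_sum _ _).symm, sum_nonneg fun v _ => prod_nonneg fun p _ => sq_nonneg _⟩
  have hval : ∃ s : ℝ, (s = 1 ∨ s = -1) ∧ x = s * (((m + 2 : ℕ) : ℝ) * ((N : ℝ)) ^ (m + 1)) := by
    refine ⟨(-1) ^ c * ((Equiv.Perm.sign (Fin.revPerm (n := m + 2)) : ℤ) : ℝ), ?_, ?_⟩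
    · rcases Int.units_eq_one_or (Equiv.Perm.sign (Fin.revPerm (n := m + 2))) with h | h <;>
        rcases neg_one_pow_eq_or ℝ c with h' | h' <;> simp [h, h']
    · have hs : ((-1 : ℂ) ^ c) * (-1) ^ c = 1 := by rw [← mul_pow]; norm_num
      apply Complex.ofReal_injective
      rw [← hx]
      apply mul_left_cancel₀ (mul_ne_zero hN0 hf0)
      push_cast at hall ⊢
      linear_combination (-1 : ℂ) ^ c * hall - ((N : ℂ) * (Nat.factorial (m + 1) : ℂ) * S) * hs
  obtain ⟨s, hs, hxs⟩ := hval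
  have hpos : (0 : ℝ) < ((m + 2 : ℕ) : ℝ) * ((N : ℝ)) ^ (m + 1) := by positivity
  have hs1 : s = 1 := by
    rcases hs with h | h
    · exact h
    · rw [h] at hxs; nlinarith
  rw [hs1, one_mul] at hxs
  have e2 : ((m + 2 : ℕ) : ℝ) + k = (N : ℝ) := by push_cast [hN]; ring
  apply Complex.ofReal_injective
  rw [Complex.ofReal_sum, e2, show m + 2 - 1 = m + 1 from rfl, ← hxs, ← hx]
  rw [hS]
  refine sum_congr rfl fun v _ => ?_
  rw [e2]

end Groth.Agent.S18379
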