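import Groth.Statements.S18380
import Groth.Agent.LeadInv.Cartier
import Mathlib.RingTheory.Artinian.Algebra
import Mathlib.AlgebraicGeometry.Morphisms.Proper
import Groth.Agent.ProjCoord.Extra
import Groth.Agent.ModPairLib.Charts
-- import your own Groth.Agent.* helpers here

set_option autoImplicit false
universe u
open Divisors

namespace Groth.Agent.S18380

open CategoryTheory AlgebraicGeometry in
/-- Let k be an algebraically closed field of characteristic 0 and M a scheme, smooth and projective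
over k. Let D₁ and D₂ be effective Cartier divisors on M, given by invertible ideal sheaves with
I_{D₂} ⊆ I_{D₁} (so D₁ is a closed subscheme of D₂). If I_{D₁} and I_{D₂} are isomorphic as
O_M-modules, that is D₁ and D₂ are linearly equivalent, then D₁ = D₂. The published statement is an
equivalence, for effective divisors on a smooth proper Deligne–Mumford stack with equal divisor
classes; its proof reduces to a smooth projective scheme, the case stated here, and the other
direction is immediate. -/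
theorem result (k : Type u) [Field k] [IsAlgClosed k] [CharZero k]
    (M : Scheme.{u}) (f : M ⟶ Spec (CommRingCat.of k)) [Smooth f]
    (hproj : Neron.IsProjectiveOver k (Over.mk f))
    (D₁ D₂ : M.IdealSheafData) (h₁ : BlowUp.IsEffCartierIdeal D₁) (h₂ : BlowUp.IsEffCartierIdeal D₂)
    (hle : D₂ ≤ D₁) (hiso : Nonempty (ClSub.idealMod D₁ ≅ ClSub.idealMod D₂)) :
    D₁ = D₂ := by
  open Groth.Agent.GenLocus Groth.Agent.QCohBase in
  haveI hP : IsProper f := by
    obtain ⟨n, i, hi, h⟩ := hproj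
    have hh : i ≫ CohB1.ProjSpaceOver.toBase n (Spec (CommRingCat.of k)) = f := h
    rw [← hh]
    haveI : IsProper (CohB1.ProjSpace.toSpec n (ULift.{u} ℤ)) := ProjCoord.isProper_baseMap (n := n) (R := ULift.{u} ℤ)
    haveI : IsProper (CohB1.ProjSpaceOver.toBase n (Spec (CommRingCat.of k))) := by
      delta CohB1.ProjSpaceOver.toBase CohB1.ProjSpaceOver
      infer_instance
    infer_instance
  have hint : ∀ a ∈ nonZeroDivisors Γ(M, ⊤), IsUnit a := by
    intro a ha
    letI : Algebra k Γ(M, ⊤) := ((Scheme.ΓSpecIso (CommRingCat.of k)).inv ≫ f.appTop).hom.toAlgebra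
    have h1 : ((Scheme.ΓSpecIso (CommRingCat.of k)).inv ≫ f.appTop).hom.IsIntegral :=
      RingHom.isIntegral_respectsIso.2 f.appTop.hom (Scheme.ΓSpecIso (CommRingCat.of k)).symm.commRingCatIsoToRingEquiv
        (isIntegral_appTop_of_universallyClosed f)
    exact IsArtinianRing.isUnit_of_isIntegral_of_nonZeroDivisor (R := k) (h1 a) ha
  obtain ⟨φ⟩ := hiso
  let P1 : M.Modules := ClSub.idealMod D₁
  -- a common chart with the ratio
  have chart : ∀ x : M, ∃ (V : M.affineOpens) (_ : x ∈ V.1) (c : Γ(M, V.1)), c ∈ nonZeroDivisors Γ(M, V.1) ∧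
      (∀ t, OmegaSh.idealSect D₂ V.1 (φ.hom.app V.1 t) = c * OmegaSh.idealSect D₁ V.1 t) ∧
      ∃ g : Γ(M, V.1), g ∈ nonZeroDivisors Γ(M, V.1) ∧ (∃ t, OmegaSh.idealSect D₁ V.1 t = g) ∧
        D₁.ideal V = Ideal.span {g} ∧ D₂.ideal V = Ideal.span {c * g} := by
    intro x
    obtain ⟨W, hxW, -, hW⟩ := ModPairLib.exists_span h₁ x ⊤ trivial
    obtain ⟨g, hg⟩ := hW W le_rfl
    have hg0 := ModPairLib.nzd_of_span h₁ W hg
    obtain ⟨t₁, ht₁⟩ := (LeadInv.exists_iSect_iff_mem D₁ W g).2 (hg ▸ Ideal.mem_span_singleton_self g)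
    have hmem : OmegaSh.idealSect D₂ W.1 (φ.hom.app W.1 t₁) ∈ D₁.ideal W :=
      hle W ((LeadInv.exists_iSect_iff_mem D₂ W _).1 ⟨_, rfl⟩)
    rw [hg, Ideal.mem_span_singleton] at hmem
    obtain ⟨c, hc⟩ := hmem
    have hall : ∀ t, OmegaSh.idealSect D₂ W.1 (φ.hom.app W.1 t) = c * OmegaSh.idealSect D₁ W.1 t := by
      intro t
      obtain ⟨r, hr⟩ := Ideal.mem_span_singleton'.1 (hg ▸ (LeadInv.exists_iSect_iff_mem D₁ W _).1 ⟨t, rfl⟩)
      have ht : t = r • t₁ := LeadInv.iSect_inj D₁ W.1 (by rw [LeadInv.iSect_smul, ht₁]; exact hr.symm)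
      rw [ht, Scheme.Modules.Hom.app_smul, LeadInv.iSect_smul, LeadInv.iSect_smul, ht₁, hc]
      ring
    have h2 : D₂.ideal W = Ideal.span {c * g} := by
      refine le_antisymm (fun a ha => ?_) ((Ideal.span_singleton_le_iff_mem _).2 ?_)
      · obtain ⟨s, rfl⟩ := (LeadInv.exists_iSect_iff_mem D₂ W a).2 ha
        have hs : φ.hom.app W.1 (φ.inv.app W.1 s) = s :=
          congrArg (fun ψ => Scheme.Modules.Hom.app ψ W.1 s) φ.inv_hom_id
        rw [← hs, hall]
        obtain ⟨r, hr⟩ := Ideal.mem_span_singleton'.1 (hg ▸ (LeadInv.exists_iSect_iff_mem D₁ W _).1 ⟨φ.inv.app W.1 s, rfl⟩)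
        exact Ideal.mem_span_singleton'.2 ⟨r, by rw [← hr]; ring⟩
      · refine (LeadInv.exists_iSect_iff_mem D₂ W _).1 ⟨φ.hom.app W.1 t₁, ?_⟩
        rw [hall, ht₁]
    exact ⟨W, hxW, c, (mul_mem_nonZeroDivisors.1 (ModPairLib.nzd_of_span h₂ W h2)).1, hall, g, hg0,
      ⟨t₁, ht₁⟩, hg, h2⟩
  choose V hxV c hc0 hall g hg0 htg hg h2 using chart
  -- glue the ratio
  haveI : M.IsSeparated := ⟨by
    rw [show CategoryTheory.Limits.terminal.from M = f ≫ CategoryTheory.Limits.terminal.from _ from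
      CategoryTheory.Limits.terminal.hom_ext _ _]
    infer_instance⟩
  have key : ∀ (w : M) (O : M.affineOpens) (hO : O.1 ≤ (V w).1) (s : Γ(P1, O.1)),
      OmegaSh.idealSect D₂ O.1 (φ.hom.app O.1 s) =
        M.presheaf.map (homOfLE hO).op (c w) * OmegaSh.idealSect D₁ O.1 s := by
    intro w O hO s
    obtain ⟨u, hu⟩ := htg w
    have hmem : OmegaSh.idealSect D₁ O.1 s ∈ D₁.ideal O := (LeadInv.exists_iSect_iff_mem D₁ O _).1 ⟨s, rfl⟩
    rw [← D₁.map_ideal (U := O) (V := V w) hO, hg, Ideal.map_span, Set.image_singleton] at hmem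
    obtain ⟨r, hr⟩ := Ideal.mem_span_singleton'.1 hmem
    have hs : s = r • mres P1 hO u := LeadInv.iSect_inj D₁ O.1 (by
      rw [LeadInv.iSect_smul, LeadInv.iSect_mres, hu]; exact hr.symm)
    have hnat : φ.hom.app O.1 (mres P1 hO u) = mres (ClSub.idealMod D₂) hO (φ.hom.app (V w).1 u) :=
      congr($((φ.hom.mapPresheaf).naturality (homOfLE hO).op).hom u)
    rw [hs, Scheme.Modules.Hom.app_smul, LeadInv.iSect_smul, LeadInv.iSect_smul, hnat,
      LeadInv.iSect_mres, LeadInv.iSect_mres, hall, map_mul]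
    ring
  have hcompat : TopCat.Presheaf.IsCompatible M.sheaf.1 (fun x => (V x).1) c := by
    intro x y
    let O : M.affineOpens := ⟨(V x).1 ⊓ (V y).1, (V x).2.inf (V y).2⟩
    obtain ⟨t, ht⟩ := htg x
    let tO := mres P1 (inf_le_left : O.1 ≤ (V x).1) t
    have hxy := (key x O inf_le_left tO).symm.trans (key y O inf_le_right tO)
    have hg' : OmegaSh.idealSect D₁ O.1 tO = M.presheaf.map (homOfLE (inf_le_left : O.1 ≤ (V x).1)).op (g x) := by
      rw [LeadInv.iSect_mres, ht]
    rw [hg'] at hxy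
    refine TopCat.Presheaf.section_ext M.sheaf O.1 _ _ fun z hz => ?_
    have h' := congrArg (M.presheaf.germ O.1 z hz) hxy
    rw [map_mul, map_mul, M.presheaf.germ_res_apply (homOfLE (inf_le_left : O.1 ≤ (V x).1)) z hz (g x)] at h'
    exact (mul_cancel_right_mem_nonZeroDivisors (DivPts.germ_mem_nonZeroDivisors (V x).2 hz.1 (hg0 x))).1 h'
  obtain ⟨h, hh, -⟩ := M.sheaf.existsUnique_gluing' (fun x => (V x).1) ⊤ (fun x => homOfLE le_top)
    (fun x _ => TopologicalSpace.Opens.mem_iSup.2 ⟨x, hxV x⟩) c hcompat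
  have hu : IsUnit h := by
    refine hint h (mem_nonZeroDivisors_iff_right.2 fun a ha => ?_)
    refine TopCat.Sheaf.eq_of_locally_eq' M.sheaf (fun x => (V x).1) ⊤ (fun x => homOfLE le_top)
      (fun x _ => TopologicalSpace.Opens.mem_iSup.2 ⟨x, hxV x⟩) _ _ fun x => ?_
    let ρ := (M.presheaf.map (homOfLE (le_top : (V x).1 ≤ ⊤)).op).hom
    have h3 : ρ a * ρ h = 0 := by
      refine (map_mul ρ a h).symm.trans ?_
      exact (congrArg ρ ha).trans (map_zero ρ)
    rw [show ρ h = c x from hh x] at h3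
    exact (mem_nonZeroDivisors_iff_right.1 (hc0 x) _ h3).trans (map_zero ρ).symm
  refine ModPairLib.ext_of_charts fun x => ⟨V x, hxV x, ?_⟩
  rw [hg, h2, Ideal.span_singleton_mul_left_unit]
  exact hh x ▸ hu.map (M.presheaf.map (homOfLE (le_top : (V x).1 ≤ ⊤)).op).hom

end Groth.Agent.S18380
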