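import Groth.Statements.S18383
import Groth.Agent.GrpSch.OverBase

set_option autoImplicit false
universe u
open CategoryTheory CategoryTheory.Limits MonoidalCategory CartesianMonoidalCategory MonObj GrpObj AlgebraicGeometry
open GrpSch

namespace Groth.Agent.S18383

/-- Let S be a scheme, H an S-group scheme and i : G → H a homomorphism of S-group schemes which is a
closed immersion (G a closed subgroup scheme of H). Then the left-translation action of G on H is
strictly free: the S-morphism G ×_S H → H ×_S H, (g, h) ↦ (i(g)·h, h), is a closed immersion. -/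
theorem result {S : Scheme.{u}} (G H : Over S)
    [GrpObj G] [GrpObj H] (i : G ⟶ H) [IsMonHom i] [IsClosedImmersion i.left] :
    IsClosedImmersion (CartesianMonoidalCategory.lift ((i ▷ H) ≫ μ[H]) (snd G H)).left := by
  have pb : IsPullback (CartesianMonoidalCategory.lift ((i ▷ H) ≫ μ[H]) (snd G H)) (fst G H)
      (fst H H * (snd H H)⁻¹) i := by
    rw [Groth.Agent.GrpSch.whiskerRight_mul]
    have w : CartesianMonoidalCategory.lift ((fst G H ≫ i) * snd G H) (snd G H) ≫
        (fst H H * (snd H H)⁻¹) = fst G H ≫ i := by
      rw [MonObj.comp_mul, GrpObj.comp_inv, lift_fst, lift_snd, mul_inv_cancel_right]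
    refine IsPullback.of_isLimit' ⟨w⟩ (Limits.PullbackCone.IsLimit.mk _
      (fun s => CartesianMonoidalCategory.lift s.snd (s.fst ≫ snd H H)) (fun s => ?_)
      (fun s => lift_fst _ _) (fun s m hm₁ hm₂ => ?_))
    · have hs : s.snd ≫ i = (s.fst ≫ fst H H) * (s.fst ≫ snd H H)⁻¹ := by
        rw [← GrpObj.comp_inv, ← MonObj.comp_mul, s.condition]
      apply CartesianMonoidalCategory.hom_ext
      · simp [MonObj.comp_mul, hs]
      · simp
    · apply CartesianMonoidalCategory.hom_ext
      · simp [hm₂]
      · simp [← hm₁]
  exact MorphismProperty.of_isPullback (P := @IsClosedImmersion)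
    (Groth.Agent.GrpSch.isPullback_left pb).flip ‹_›

end Groth.Agent.S18383
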