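-- statement LVCorr.GrothFrozen.S18386 (Groth/Statements/S18386.lean; the theorem LVCorr.idealSheaf_pow_eq_bot_of_pow_eq_pow_succ);
import Groth.Statements.S18386
import Groth.Agent.LVCorrLib.Idem

set_option autoImplicit false
universe u
open LVCorr

namespace Groth.Agent.S18386

open AlgebraicGeometry in
/-- Let X be a connected Noetherian scheme and I a quasi-coherent sheaf of ideals on X, different from
the structure sheaf, such that I^k = I^(k+1) for some natural number k. Then I^k = 0. -/
theorem result (X : Scheme.{u}) [AlgebraicGeometry.IsNoetherian X]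
    [ConnectedSpace X] (I : X.IdealSheafData) (hI : I ≠ ⊤) (k : ℕ)
    (h : I ^ k = I ^ (k + 1)) : I ^ k = ⊥ := by
  refine LVCorrLib.pow_eq_bot_of_support I k h.le ?_
  rcases isClopen_iff.1 ⟨I.support.isClosed, LVCorrLib.isOpen_support I k h.le⟩ with h0 | h0
  · exact absurd (((Scheme.IdealSheafData.support_eq_bot_iff (I := I)).1 (SetLike.coe_injective h0))) hI
  · exact h0

end Groth.Agent.S18386
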