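-- statement LVCorr.GrothFrozen.S18387 (Groth/Statements/S18387.lean; the theorem LVCorr.nilradical_pow_finrank_eq_bot);
import Groth.Statements.S18387
import Mathlib

set_option autoImplicit false
universe u
open LVCorr

namespace Groth.Agent.S18387

/-- In the affine form which its proof establishes. Let A be a commutative algebra over a field F which
is finite-dimensional of dimension d over F. Then the d-th power of the nilradical of A vanishes.
(Applied to the fibre algebra A = B/mB of a quasi-finite morphism over a closed point with maximal
ideal m, this says that the d-th power of the radical of mB lies in mB, i.e. the ramification of the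
morphism at that point is at most the degree d of the fibre.) -/
theorem result (F A : Type u) [Field F] [CommRing A] [Algebra F A]
    [FiniteDimensional F A] : nilradical A ^ Module.finrank F A = ⊥ := by
  classical
  set I := nilradical A with hI
  obtain ⟨N, hN⟩ : IsNilpotent I := (haveI := IsArtinianRing.of_finite F A; IsArtinianRing.isNilpotent_nilradical)
  have key : ∀ j : ℕ, I ^ j = ⊥ ∨ Module.finrank F ((I ^ j).restrictScalars F) + j ≤ Module.finrank F A := fun j => by
    induction j with
    | zero => right; exact Submodule.finrank_le _
    | succ j ih =>
      rcases ih with h | h
      · left; rw [pow_succ, h, Ideal.bot_mul]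
      by_cases he : I ^ (j + 1) = I ^ j
      · left
        have hst : ∀ m, I ^ (j + m) = I ^ j := fun m => by
          induction m with
          | zero => rfl
          | succ m ih => rw [← add_assoc, pow_succ, ih, ← pow_succ, he]
        rw [he, ← hst N, pow_add, hN, mul_zero, Ideal.zero_eq_bot]
      · right
        have hlt : (I ^ (j + 1)).restrictScalars F < (I ^ j).restrictScalars F :=
          lt_of_le_of_ne (fun x hx => Ideal.pow_le_pow_right (Nat.le_succ j) hx) fun h2 => he (Submodule.restrictScalars_injective F _ _ h2)
        have := Submodule.finrank_lt_finrank_of_lt hlt
        omega
  rcases key (Module.finrank F A) with h | h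
  · exact h
  · have := Submodule.finrank_eq_zero.1 (show Module.finrank F ((I ^ Module.finrank F A).restrictScalars F) = 0 by omega)
    exact (Submodule.restrictScalars_eq_bot_iff F A A).1 this

end Groth.Agent.S18387
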