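-- statement LVCorr.GrothFrozen.S18389 (Groth/Statements/S18389.lean; the theorem LVCorr.preimage_eq_image_preimage_of_dense_of_proper_restrict);
import Groth.Statements.S18389
import Mathlib

set_option autoImplicit false
universe u
open LVCorr

namespace Groth.Agent.S18389

open AlgebraicGeometry CategoryTheory in
/-- Let j : C → C̄ be an open immersion with dense image and jX : X → X̄ an open immersion, and let c₁ :
C → X and c̄₁ : C̄ → X̄ satisfy j followed by c̄₁ equals c₁ followed by jX, with c̄₁ separated. Let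
U be an open subset of X such that c₁⁻¹(U) is dense in C and the restriction c₁⁻¹(U) → U of c₁ is
proper. Then c̄₁⁻¹(jX(U)) = j(c₁⁻¹(U)) as open subsets of C̄. (In the source all schemes are
separated of finite type over a field, C̄ and X̄ are compactifications of a correspondence and of X,
so that c̄₁ is automatically separated.) -/
theorem result {C Cb X Xb : Scheme.{u}}
    (j : C ⟶ Cb) [IsOpenImmersion j] (hj : DenseRange j.base)
    (jX : X ⟶ Xb) [IsOpenImmersion jX] (c₁ : C ⟶ X) (cb₁ : Cb ⟶ Xb) [IsSeparated cb₁]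
    (h : j ≫ cb₁ = c₁ ≫ jX) (U : X.Opens) (hU : Dense ((c₁ ⁻¹ᵁ U : C.Opens) : Set C))
    [IsProper (c₁ ∣_ U)] :
    cb₁ ⁻¹ᵁ (jX ''ᵁ U) = j ''ᵁ (c₁ ⁻¹ᵁ U) := by
  have hh : ∀ z, cb₁.base (j.base z) = jX.base (c₁.base z) := fun z => by
    have := congrArg (fun φ : C ⟶ Xb => φ.base z) h
    simpa using this
  have hsub : ∀ z ∈ c₁ ⁻¹ᵁ U, j.base z ∈ cb₁ ⁻¹ᵁ (jX ''ᵁ U) := fun z hz => ⟨c₁.base z, hz, (hh z).symm⟩
  let V := cb₁ ⁻¹ᵁ (jX ''ᵁ U)
  have hle : c₁ ⁻¹ᵁ U ≤ j ⁻¹ᵁ V := fun z hz => hsub z hz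
  let g : (c₁ ⁻¹ᵁ U).toScheme ⟶ V.toScheme := j.resLE V (c₁ ⁻¹ᵁ U) hle
  have hg : g ≫ (cb₁ ∣_ (jX ''ᵁ U)) = (c₁ ∣_ U) ≫ (jX.isoImage U).hom := by
    rw [← cancel_mono (jX ''ᵁ U).ι]
    rw [Category.assoc, Category.assoc, morphismRestrict_ι, Scheme.Hom.isoImage_hom_ι, morphismRestrict_ι_assoc]
    show j.resLE V (c₁ ⁻¹ᵁ U) hle ≫ V.ι ≫ cb₁ = _
    rw [Scheme.Hom.resLE_comp_ι_assoc, h]
  haveI : UniversallyClosed (g ≫ (cb₁ ∣_ (jX ''ᵁ U))) := by rw [hg]; infer_instance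
  haveI : UniversallyClosed g := .of_comp_of_isSeparated g (cb₁ ∣_ (jX ''ᵁ U))
  refine le_antisymm (fun v hv => ?_) ?_
  · have hcl : IsClosed (Set.range g.base) := g.isClosedMap.isClosed_range
    have hd : Dense (j.base '' ((c₁ ⁻¹ᵁ U : C.Opens) : Set C)) := hj.dense_image j.continuous hU
    have hmem : (⟨v, hv⟩ : V) ∈ Set.range g.base := by
      rw [← hcl.closure_eq, V.ι.isOpenEmbedding.isInducing.closure_eq_preimage_closure_image]
      change V.ι.base ⟨v, hv⟩ ∈ closure (V.ι.base '' Set.range g.base)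
      refine closure_minimal ?_ isClosed_closure (hd _)
      rintro _ ⟨z, hz, rfl⟩
      refine subset_closure ⟨g.base ⟨z, hz⟩, ⟨_, rfl⟩, ?_⟩
      exact congrArg (fun φ : (c₁ ⁻¹ᵁ U).toScheme ⟶ Cb => φ.base ⟨z, hz⟩) (Scheme.Hom.resLE_comp_ι j _)
    obtain ⟨⟨z, hz⟩, hzv⟩ := hmem
    refine ⟨z, hz, ?_⟩
    have h1 := congrArg (fun φ : (c₁ ⁻¹ᵁ U).toScheme ⟶ Cb => φ.base ⟨z, hz⟩) (Scheme.Hom.resLE_comp_ι j (show c₁ ⁻¹ᵁ U ≤ j ⁻¹ᵁ V from fun z hz => hsub z hz))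
    have h2 := congrArg V.ι.base hzv
    exact h1.symm.trans h2
  · rintro _ ⟨z, hz, rfl⟩
    exact hsub z hz

end Groth.Agent.S18389
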