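-- statement LVCorr.GrothFrozen.S18390 (Groth/Statements/S18390.lean; the theorem LVCorr.exists_map_pow_le_pow_succ_iff_forall_pow_mem);
import Groth.Statements.S18390
import Mathlib

set_option autoImplicit false
universe u
open LVCorr

namespace Groth.Agent.S18390

/-- In the affine, ring-theoretic form which its proof establishes. Let φ : A' → A be a ring
homomorphism, I' a finitely generated ideal of A' and I an ideal of A containing the image of I'.
Then some power I'^k is mapped into I^(k+1) if and only if for every n ≥ 1 and every a ∈ I'^n there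
is a k with φ(a)^k ∈ I^(nk+1). (Geometrically, for a morphism f : (X, Z) → (X', Z') of pairs with Z
a closed subscheme of the preimage of Z', the normal cone of Z in X is the spectrum of the
associated graded algebra of I, and the second condition says that the induced map of normal cones
sends the normal cone of Z set-theoretically into the zero section Z'; the source states the
equivalence in that language.) -/
theorem result (A' A : Type u) [CommRing A'] [CommRing A]
    (φ : A' →+* A) (I' : Ideal A') (hI' : I'.FG) (I : Ideal A) (hle : I'.map φ ≤ I) :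
    (∃ k : ℕ, (I' ^ k).map φ ≤ I ^ (k + 1)) ↔
      ∀ n : ℕ, 1 ≤ n → ∀ a ∈ I' ^ n, ∃ k : ℕ, 1 ≤ k ∧ φ a ^ k ∈ I ^ (n * k + 1) := by
  classical
  constructor
  · rintro ⟨k, hk⟩ n hn a ha
    refine ⟨k + 1, by omega, ?_⟩
    have h1 : φ (a ^ k) ∈ I ^ ((k + 1) * n) := by
      have : a ^ k ∈ (I' ^ k) ^ n := by
        rw [← pow_mul, mul_comm, pow_mul]; exact Ideal.pow_mem_pow ha k
      rw [pow_mul]
      exact Ideal.pow_right_mono hk n ((Ideal.map_pow φ (I' ^ k) n).le (Ideal.mem_map_of_mem φ this))
    have h2 : φ a ∈ I ^ n := Ideal.pow_right_mono hle n ((Ideal.map_pow φ I' n).le (Ideal.mem_map_of_mem φ ha))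
    rw [pow_succ (φ a), ← map_pow]
    have := Ideal.mul_mem_mul h1 h2
    rw [← pow_add] at this
    refine Ideal.pow_le_pow_right ?_ this
    have := mul_comm n k
    rw [Nat.add_mul, one_mul, Nat.mul_add, mul_one]
    omega
  · intro h
    obtain ⟨s, hs⟩ := hI'
    have hpick : ∀ a : s, ∃ k : ℕ, 1 ≤ k ∧ φ a.1 ^ k ∈ I ^ (k + 1) := fun a => by
      have := h 1 le_rfl a.1 (by rw [pow_one, ← hs]; exact Ideal.subset_span a.2)
      simpa using this
    choose k hk1 hk using hpick
    have hmem : ∀ a : s, φ a.1 ∈ I := fun a => hle (Ideal.mem_map_of_mem φ (by rw [← hs]; exact Ideal.subset_span a.2))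
    refine ⟨(∑ a, k a) + 1, ?_⟩
    rw [Ideal.map_le_iff_le_comap, ← hs, Ideal.span, Submodule.span_pow, Submodule.span_le]
    intro x hx
    rw [SetLike.mem_coe, Ideal.mem_comap]
    obtain ⟨f, rfl⟩ := Set.mem_pow.1 hx
    let g : Fin ((∑ a, k a) + 1) → s := fun i => ⟨(f i).1, (f i).2⟩
    obtain ⟨a, ha⟩ : ∃ a, k a ≤ (Finset.univ.filter fun i => g i = a).card := by
      by_contra hc
      push_neg at hc
      have h1 := Finset.card_eq_sum_card_fiberwise (f := g) (s := Finset.univ) (t := Finset.univ) fun _ _ => Finset.mem_univ _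
      rw [Finset.card_univ, Fintype.card_fin] at h1
      have h2 : ∑ a, (Finset.univ.filter fun i => g i = a).card ≤ ∑ a, k a := Finset.sum_le_sum fun a _ => (hc a).le
      omega
    obtain ⟨T, hT, hTc⟩ := Finset.exists_subset_card_eq ha
    rw [List.prod_ofFn, map_prod, ← Finset.prod_sdiff (Finset.subset_univ T), mul_comm,
      Finset.prod_congr rfl (fun i hi => show φ (f i).1 = φ a.1 by rw [← (Finset.mem_filter.1 (hT hi)).2]), Finset.prod_const, hTc]
    have h2 : ∏ i ∈ Finset.univ \ T, φ (f i).1 ∈ I ^ (Finset.univ \ T).card := by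
      rw [← Finset.prod_const]
      exact Ideal.prod_mem_prod fun i _ => hmem (g i)
    have := Ideal.mul_mem_mul (hk a) h2
    rw [← pow_add] at this
    refine Ideal.pow_le_pow_right ?_ this
    have := Finset.card_sdiff_of_subset (Finset.subset_univ T)
    rw [Finset.card_univ, Fintype.card_fin, hTc] at this
    omega

end Groth.Agent.S18390
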