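import Groth.Statements.S18391
import Mathlib

set_option autoImplicit false
universe u
open LVCorr

namespace Groth.Agent.S18391

/-- Let A be a normal (integrally closed) Noetherian domain and z an element of A such that the radical
of the principal ideal (z) is prime. Then there exist elements w, t of A and a natural number r,
with w not in the radical of (z), such that in the localization A[1/w] the ideal generated by z
equals the ideal generated by t^r and the ideal generated by t is prime. (The condition on w is the
one the printed proof produces and the later use of the lemma needs.) -/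
theorem result (A : Type u) [CommRing A] [IsDomain A]
    [IsNoetherianRing A] [IsIntegrallyClosed A] (z : A) (hz : (Ideal.span {z}).radical.IsPrime) :
    ∃ (w t : A) (r : ℕ), w ∉ (Ideal.span {z}).radical ∧
      Ideal.span {algebraMap A (Localization.Away w) z} =
        Ideal.span {algebraMap A (Localization.Away w) t ^ r} ∧
      (Ideal.span {algebraMap A (Localization.Away w) t}).IsPrime := by
  classical
  obtain ⟨P, hP⟩ : ∃ P, P = (Ideal.span {z}).radical := ⟨_, rfl⟩
  rw [← hP] at hz ⊢
  haveI := hz
  have hzP : z ∈ P := hP ▸ Ideal.le_radical (Ideal.mem_span_singleton_self z)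
  by_cases hz0 : z = 0
  · have hP0 : P = ⊥ := by
      rw [hP, hz0, Ideal.span_singleton_eq_bot.2 rfl]
      exact Ideal.IsRadical.radical (fun x ⟨n, hn⟩ => Ideal.mem_bot.2 (eq_zero_of_pow_eq_zero (Ideal.mem_bot.1 hn)))
    refine ⟨1, 0, 1, ?_, ?_, ?_⟩
    · rw [hP0]; simp
    · simp [hz0]
    · haveI : IsDomain (Localization.Away (1 : A)) :=
        IsLocalization.isDomain_localization (powers_le_nonZeroDivisors_of_noZeroDivisors one_ne_zero)
      rw [map_zero, Ideal.span_singleton_eq_bot.2 rfl]
      exact Ideal.isPrime_bot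
  have hmin : P ∈ (Ideal.span {z}).minimalPrimes := by
    refine ⟨⟨hz, hP ▸ Ideal.le_radical⟩, fun Q hQ _ => ?_⟩
    rw [hP]
    exact (Ideal.radical_mono hQ.2).trans hQ.1.radical.le
  have hht : P.height ≤ 1 := by
    refine Ideal.height_le_one_of_isPrincipal_of_mem_minimalPrimes (Ideal.span {z}) P hmin
  have hne : P ≠ ⊥ := fun h => hz0 (by rw [h] at hzP; exact Ideal.mem_bot.1 hzP)
  have hdim : Ring.KrullDimLE 1 (Localization.AtPrime P) := by
    rw [Ring.krullDimLE_iff, IsLocalization.AtPrime.ringKrullDim_eq_height P (Localization.AtPrime P)]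
    exact_mod_cast hht
  haveI : IsNoetherianRing (Localization.AtPrime P) := IsLocalization.isNoetherianRing P.primeCompl _ inferInstance
  haveI : IsDomain (Localization.AtPrime P) :=
    IsLocalization.isDomain_of_le_nonZeroDivisors _ P.primeCompl_le_nonZeroDivisors
  haveI : IsIntegrallyClosed (Localization.AtPrime P) :=
    isIntegrallyClosed_of_isLocalization (Localization.AtPrime P) P.primeCompl P.primeCompl_le_nonZeroDivisors
  haveI : Ring.DimensionLEOne (Localization.AtPrime P) := ⟨fun {p} hp hprime => by
    rcases (Ring.krullDimLE_one_iff.1 hdim) p hprime with h | h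
    · rw [minimalPrimes_eq_minimals] at h
      exact absurd (le_bot_iff.1 (h.2 (y := (⊥ : Ideal _)) Ideal.isPrime_bot bot_le)) hp
    · exact h⟩
  haveI : IsDedekindDomain (Localization.AtPrime P) := {}
  haveI : IsPrincipalIdealRing (Localization.AtPrime P) :=
    IsPrincipalIdealRing.of_finite_maximals ((Set.finite_singleton (IsLocalRing.maximalIdeal _)).subset
      (fun I hI => IsLocalRing.eq_maximalIdeal hI))
  obtain ⟨π, hπ⟩ := (inferInstance : (IsLocalRing.maximalIdeal (Localization.AtPrime P)).IsPrincipal).principal
  obtain ⟨⟨t, s₀⟩, hts⟩ := IsLocalization.surj P.primeCompl π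
  have hu0 := IsLocalization.map_units (Localization.AtPrime P) s₀
  have hmax : IsLocalRing.maximalIdeal (Localization.AtPrime P) =
      Ideal.span {algebraMap A (Localization.AtPrime P) t} := by
    rw [hπ, ← hts]
    exact (Ideal.span_singleton_mul_right_unit hu0 π).symm
  have htP : t ∈ P := (IsLocalization.AtPrime.to_map_mem_maximal_iff (Localization.AtPrime P) P t).1
    (hmax ▸ Ideal.mem_span_singleton_self _)
  have ht0 : t ≠ 0 := by
    intro h
    rw [h, map_zero, Ideal.span_singleton_eq_bot.2 rfl] at hmax
    obtain ⟨x, hx, hx0⟩ := Submodule.exists_mem_ne_zero_of_ne_bot hne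
    have := (IsLocalization.AtPrime.to_map_mem_maximal_iff (Localization.AtPrime P) P x).2 hx
    rw [hmax, Ideal.mem_bot] at this
    exact hx0 (IsLocalization.injective (Localization.AtPrime P) P.primeCompl_le_nonZeroDivisors (by rw [this, map_zero]))
  have hgen : ∀ x ∈ P, ∃ s ∉ P, ∃ a, s * x = a * t := by
    intro x hx
    have := (IsLocalization.AtPrime.to_map_mem_maximal_iff (Localization.AtPrime P) P x).2 hx
    rw [hmax, Ideal.mem_span_singleton'] at this
    obtain ⟨y, hy⟩ := this
    obtain ⟨⟨a, s⟩, has⟩ := IsLocalization.surj P.primeCompl y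
    refine ⟨s, s.2, a, IsLocalization.injective (Localization.AtPrime P) P.primeCompl_le_nonZeroDivisors ?_⟩
    rw [map_mul, map_mul, ← hy, ← has]; ring
  choose! S hS a ha using hgen
  obtain ⟨G, hG⟩ := (inferInstance : IsNoetherian A A).noetherian P
  have hirr : Irreducible (algebraMap A (Localization.AtPrime P) t) := by
    have hnf : ¬ IsField (Localization.AtPrime P) := fun h => by
      rw [IsLocalRing.isField_iff_maximalIdeal_eq, hmax, Ideal.span_singleton_eq_bot] at h
      exact ht0 (IsLocalization.injective (Localization.AtPrime P) P.primeCompl_le_nonZeroDivisors (by rw [h, map_zero]))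
    haveI : IsDiscreteValuationRing (Localization.AtPrime P) :=
      { not_a_field' := fun h => hnf (IsLocalRing.isField_iff_maximalIdeal_eq.2 h) }
    exact (IsDiscreteValuationRing.irreducible_iff_uniformizer _).2 hmax
  haveI : IsDiscreteValuationRing (Localization.AtPrime P) :=
    { not_a_field' := fun h => by
        rw [hmax, Ideal.span_singleton_eq_bot] at h
        exact ht0 (IsLocalization.injective (Localization.AtPrime P) P.primeCompl_le_nonZeroDivisors (by rw [h, map_zero])) }
  have hz1 : algebraMap A (Localization.AtPrime P) z ≠ 0 := fun h => hz0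
    (IsLocalization.injective (Localization.AtPrime P) P.primeCompl_le_nonZeroDivisors (by rw [h, map_zero]))
  obtain ⟨r, u, hu⟩ := IsDiscreteValuationRing.eq_unit_mul_pow_irreducible hz1 hirr
  obtain ⟨⟨b, s⟩, hbs⟩ := IsLocalization.surj P.primeCompl (u : Localization.AtPrime P)
  have hbP : b ∉ P := fun hb => by
    have := (IsLocalization.AtPrime.to_map_mem_maximal_iff (Localization.AtPrime P) P b).2 hb
    rw [← hbs] at this
    exact this (u.isUnit.mul (IsLocalization.map_units (Localization.AtPrime P) s))
  have hkey : (s : A) * z = b * t ^ r := by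
    apply IsLocalization.injective (Localization.AtPrime P) P.primeCompl_le_nonZeroDivisors
    rw [map_mul, map_mul, map_pow, hu, ← hbs]; ring
  obtain ⟨w, hw⟩ : ∃ w, w = (s : A) * b * ∏ g ∈ G, S g := ⟨_, rfl⟩
  have hwP : w ∉ P := by
    rw [hw]
    refine hz.mul_notMem (hz.mul_notMem s.2 hbP) ?_
    rw [Ideal.IsPrime.prod_mem_iff]
    rintro ⟨g, hg, hg'⟩
    exact hS g (hG ▸ Submodule.subset_span hg) hg'
  have hdvdw : ∀ y, y ∣ w → IsUnit (algebraMap A (Localization.Away w) y) := fun y hy =>
    isUnit_of_dvd_unit (map_dvd _ hy) (IsLocalization.Away.algebraMap_isUnit w)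
  refine ⟨w, t, r, hwP, ?_, ?_⟩
  · have h1 := congrArg (algebraMap A (Localization.Away w)) hkey
    rw [map_mul, map_mul, map_pow] at h1
    rw [← Ideal.span_singleton_mul_left_unit (hdvdw s (hw ▸ Dvd.intro _ (by ring : (s : A) * (b * ∏ g ∈ G, S g) = _))) (algebraMap A (Localization.Away w) z),
      h1, Ideal.span_singleton_mul_left_unit (hdvdw b (hw ▸ Dvd.intro _ (by ring : b * ((s : A) * ∏ g ∈ G, S g) = _)))]
  · have hmap : Ideal.span {algebraMap A (Localization.Away w) t} = P.map (algebraMap A (Localization.Away w)) := by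
      apply le_antisymm
      · rw [Ideal.span_le, Set.singleton_subset_iff]; exact Ideal.mem_map_of_mem _ htP
      · rw [← hG, Ideal.map_span, Ideal.span_le]
        rintro _ ⟨g, hg, rfl⟩
        have hgP : g ∈ P := hG ▸ Submodule.subset_span hg
        have h1 := congrArg (algebraMap A (Localization.Away w)) (ha g hgP)
        rw [map_mul, map_mul] at h1
        rw [SetLike.mem_coe, ← Ideal.unit_mul_mem_iff_mem _ (hdvdw (S g) (hw ▸ Dvd.dvd.mul_left (Finset.dvd_prod_of_mem _ hg) _)), h1]
        exact Ideal.mul_mem_left _ _ (Ideal.mem_span_singleton_self _)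
    rw [hmap]
    refine IsLocalization.isPrime_of_isPrime_disjoint (Submonoid.powers w) _ P hz ?_
    rw [Set.disjoint_left]
    rintro _ ⟨m, rfl⟩ hm
    exact hwP (hz.mem_of_pow_mem m hm)

end Groth.Agent.S18391
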