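-- statement LVCorr.GrothFrozen.S18392 (Groth/Statements/S18392.lean; the theorem LVCorr.exists_basicOpen_mul_subset_of_radical_span_isPrime);
import Groth.Statements.S18392
import Mathlib

set_option autoImplicit false
universe u
open LVCorr

namespace Groth.Agent.S18392

/-- Let A be a normal (integrally closed) Noetherian domain and z an element of A such that the radical
of (z) is prime. Then for every non-empty open subset V of Spec A contained in the basic open set
D(z) (that is, every non-empty open subset of Spec A[1/z]) there is an element x of A, not in the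
radical of (z), such that the basic open set D(xz) = Spec A[1/xz] is contained in V. -/
theorem result (A : Type u) [CommRing A]
    [IsDomain A] [IsNoetherianRing A] [IsIntegrallyClosed A] (z : A)
    (hz : (Ideal.span {z}).radical.IsPrime) (V : Set (PrimeSpectrum A)) (hV : IsOpen V)
    (hVz : V ⊆ (PrimeSpectrum.basicOpen z : Set (PrimeSpectrum A))) (hne : V.Nonempty) :
    ∃ x : A, x ∉ (Ideal.span {z}).radical ∧
      ((PrimeSpectrum.basicOpen (x * z) : TopologicalSpace.Opens (PrimeSpectrum A)) :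
        Set (PrimeSpectrum A)) ⊆ V := by
  classical
  set P := (Ideal.span {z}).radical with hP
  haveI := hz
  obtain ⟨J, hJ⟩ := (PrimeSpectrum.isClosed_iff_zeroLocus_ideal _).1 hV.isClosed_compl
  have hVJ : ∀ Q : PrimeSpectrum A, Q ∈ V ↔ ¬ J ≤ Q.asIdeal := fun Q => by
    rw [← not_not (a := Q ∈ V)]
    refine not_congr ?_
    show Q ∈ Vᶜ ↔ _
    rw [hJ, PrimeSpectrum.mem_zeroLocus, SetLike.coe_subset_coe]
  obtain ⟨Q₀, hQ₀⟩ := hne
  have hz0 : z ≠ 0 := fun h => hVz hQ₀ (h ▸ Q₀.asIdeal.zero_mem)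
  have hzP : z ∈ P := Ideal.le_radical (Ideal.mem_span_singleton_self z)
  have hJ0 : J ≠ ⊥ := fun h => (hVJ Q₀).1 hQ₀ (h ▸ bot_le)
  have hmin : P ∈ (Ideal.span {z}).minimalPrimes :=
    ⟨⟨hz, Ideal.le_radical⟩, fun q hq _ => hq.1.radical_le_iff.2 hq.2⟩
  have hP1 := Ideal.height_le_one_of_isPrincipal_of_mem_minimalPrimes (Ideal.span {z}) P hmin
  let S := (Ideal.finite_minimalPrimes_of_isNoetherianRing A J).toFinset.erase P
  have hS : ∀ Q ∈ S, ∃ q ∈ Q, q ∉ P := by
    intro Q hQ
    obtain ⟨hne', hQJ⟩ := Finset.mem_erase.1 hQ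
    have hQ' := (Set.Finite.mem_toFinset _).1 hQJ
    haveI := hQ'.1.1
    refine SetLike.not_le_iff_exists.1 fun hle => ?_
    have h2 : Q.height + 1 ≤ 1 := le_trans (Order.add_one_le_of_lt (Ideal.height_strict_mono_of_isPrime (lt_of_le_of_ne hle hne'))) hP1
    have h3 : Q.height ≠ 0 := fun h => hJ0 (le_bot_iff.1 ((Ideal.height_eq_zero_iff_eq_bot.1 h) ▸ hQ'.1.2))
    have h4 : (1 : ℕ∞) + 1 ≤ Q.height + 1 := add_le_add (Order.one_le_iff_ne_zero.2 h3) le_rfl
    exact absurd (h4.trans h2) (by norm_num)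
  choose! q hq using hS
  refine ⟨∏ Q ∈ S, q Q, fun h => ?_, fun Q hQ => ?_⟩
  · obtain ⟨Q, hQ, h'⟩ := (Ideal.IsPrime.prod_mem_iff).1 h
    exact (hq Q hQ).2 h'
  · refine (hVJ Q).2 fun hJQ => ?_
    obtain ⟨Q', hQ', hle⟩ := Ideal.exists_minimalPrimes_le (I := J) (J := Q.asIdeal) hJQ
    refine hQ (hle ?_)
    by_cases he : Q' = P
    · exact he ▸ P.mul_mem_left _ hzP
    · have hm : Q' ∈ S := Finset.mem_erase.2 ⟨he, (Set.Finite.mem_toFinset _).2 hQ'⟩
      rw [← Finset.prod_erase_mul _ _ hm, mul_right_comm]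
      exact Q'.mul_mem_left _ (hq Q' hm).1

end Groth.Agent.S18392
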