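-- statement LVCorr.GrothFrozen.S18393 (Groth/Statements/S18393.lean; the theorem LVCorr.locallyInvariant_iff_closure_image_disjoint);
import Groth.Statements.S18393
import Mathlib

set_option autoImplicit false
universe u v
open LVCorr

namespace Groth.Agent.S18393

/-- Stated for the underlying continuous maps. Let c₁, c₂ : C → X be continuous maps with C a Noetherian
topological space, let Z be a closed subset of X and B the closure in C of c₂⁻¹(Z) ∖ c₁⁻¹(Z). Call Z
locally invariant when every point x of Z has an open neighbourhood U such that every y in C with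
c₂(y) ∈ Z ∩ U and c₁(y) ∈ U satisfies c₁(y) ∈ Z. Then Z is locally invariant if and only if for
every irreducible subset T of B the closures of c₁(T) and of c₂(T) in X are disjoint. (The source
states this for a correspondence c = (c₁, c₂) : C → X × X of separated schemes of finite type over
an algebraically closed field and for the irreducible components of B; the condition for all
irreducible subsets of B is the same condition.) -/
theorem result {C : Type u} {X : Type v}
    [TopologicalSpace C] [TopologicalSpace X] [TopologicalSpace.NoetherianSpace C]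
    (c₁ c₂ : C → X) (hc₁ : Continuous c₁) (hc₂ : Continuous c₂) (Z : Set X) (hZ : IsClosed Z) :
    (∀ x ∈ Z, ∃ U : Set X, IsOpen U ∧ x ∈ U ∧
        ∀ y : C, c₂ y ∈ Z → c₂ y ∈ U → c₁ y ∈ U → c₁ y ∈ Z) ↔
      ∀ T : Set C, T ⊆ closure (c₂ ⁻¹' Z \ c₁ ⁻¹' Z) → IsIrreducible T →
        closure (c₁ '' T) ∩ closure (c₂ '' T) = ∅ := by
  constructor
  · intro h T hT hTirr
    rw [Set.eq_empty_iff_forall_notMem]
    rintro x ⟨hx1, hx2⟩
    have hB : closure (c₂ ⁻¹' Z \ c₁ ⁻¹' Z) ⊆ c₂ ⁻¹' Z :=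
      closure_minimal Set.sdiff_subset (hZ.preimage hc₂)
    have hxZ : x ∈ Z := closure_minimal (Set.image_subset_iff.2 (hT.trans hB)) hZ hx2
    obtain ⟨U, hU, hxU, hy⟩ := h x hxZ
    have h1 : (T ∩ c₁ ⁻¹' U).Nonempty := by
      obtain ⟨_, hw, ⟨t, ht, rfl⟩⟩ := mem_closure_iff.1 hx1 U hU hxU
      exact ⟨t, ht, hw⟩
    have h2 : (T ∩ c₂ ⁻¹' U).Nonempty := by
      obtain ⟨_, hw, ⟨t, ht, rfl⟩⟩ := mem_closure_iff.1 hx2 U hU hxU
      exact ⟨t, ht, hw⟩
    obtain ⟨y₀, hy₀T, hy₀⟩ := hTirr.isPreirreducible _ _ (hU.preimage hc₁) (hU.preimage hc₂) h1 h2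
    obtain ⟨y, hyU, hyB⟩ := mem_closure_iff.1 (hT hy₀T) _ ((hU.preimage hc₁).inter (hU.preimage hc₂)) hy₀
    exact hyB.2 (hy y hyB.1 hyU.2 hyU.1)
  · intro h x hx
    obtain ⟨S, hSfin, hScl, hSirr, hSeq⟩ := TopologicalSpace.NoetherianSpace.exists_finite_set_isClosed_irreducible
      (isClosed_closure (s := c₂ ⁻¹' Z \ c₁ ⁻¹' Z))
    refine ⟨(⋃ T ∈ {T ∈ S | x ∉ closure (c₁ '' T)}, closure (c₁ '' T))ᶜ ∩
      (⋃ T ∈ {T ∈ S | x ∉ closure (c₂ '' T)}, closure (c₂ '' T))ᶜ, ?_, ?_, ?_⟩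
    · exact ((hSfin.subset fun T hT => hT.1).isClosed_biUnion fun T _ => isClosed_closure).isOpen_compl.inter
        ((hSfin.subset fun T hT => hT.1).isClosed_biUnion fun T _ => isClosed_closure).isOpen_compl
    · simp only [Set.mem_inter_iff, Set.mem_compl_iff, Set.mem_iUnion, not_exists]
      exact ⟨fun T hT => hT.2, fun T hT => hT.2⟩
    · intro y hy2 hy2U hy1U
      by_contra hy1
      obtain ⟨T, hTS, hyT⟩ : ∃ T ∈ S, y ∈ T := by
        have := subset_closure (show y ∈ c₂ ⁻¹' Z \ c₁ ⁻¹' Z from ⟨hy2, hy1⟩)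
        rwa [hSeq, Set.mem_sUnion] at this
      have hT1 : x ∈ closure (c₁ '' T) := by
        by_contra hne
        exact hy1U.1 (Set.mem_biUnion (x := T) ⟨hTS, hne⟩ (subset_closure ⟨y, hyT, rfl⟩))
      have hT2 : x ∈ closure (c₂ '' T) := by
        by_contra hne
        exact hy2U.2 (Set.mem_biUnion (x := T) ⟨hTS, hne⟩ (subset_closure ⟨y, hyT, rfl⟩))
      have hTB : T ⊆ closure (c₂ ⁻¹' Z \ c₁ ⁻¹' Z) := hSeq ▸ Set.subset_sUnion_of_mem hTS
      exact Set.eq_empty_iff_forall_notMem.1 (h T hTB (hSirr T hTS)) x ⟨hT1, hT2⟩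

end Groth.Agent.S18393
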