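import Groth.Statements.S18399
import Mathlib
import Groth.Agent.CAlgH.TameAction

set_option autoImplicit false
universe u
open CAlg

namespace Groth.Agent.S18399

/-- Let k be a field and A a regular local k-algebra with residue field k (the structure map from k onto
the residue field of A is surjective), let σ be a k-algebra endomorphism of A of finite order n with
n invertible in k, and let I_σ be the ideal of A generated by the elements f - σ f. Then I_σ is
generated by finitely many elements of the maximal ideal whose classes in the cotangent space m/m^2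
are linearly independent over the residue field. (Such elements are part of a regular system of
parameters of A, hence part of a regular sequence, which is the printed conclusion; the generators
with independent classes are what the argument produces.) -/
theorem result {k : Type u} [Field k] {A : Type u} [CommRing A] [Algebra k A] [IsRegularLocalRing A] (hres : Function.Surjective ⇑(algebraMap k (IsLocalRing.ResidueField A))) (σ : A →ₐ[k] A) (n : ℕ) (hσ : ∀ a : A, (⇑σ)^[n] a = a) (hn : (n : k) ≠ 0) : ∃ (m : ℕ) (f : Fin m → ↥(IsLocalRing.maximalIdeal A)), Ideal.span (Set.range fun i : Fin m => (f i : A)) = Ideal.span (Set.range fun a : A => a - σ a) ∧ LinearIndependent (IsLocalRing.ResidueField A) (fun i : Fin m => (IsLocalRing.maximalIdeal A).toCotangent (f i)) := by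
  classical
  let S : A →ₗ[k] A := σ.toLinearMap
  have hS : ∀ i a, (S ^ i) a = (⇑σ)^[i] a := fun i a => by rw [Module.End.pow_apply]; rfl
  let P : A →ₗ[k] A := (n : k)⁻¹ • ∑ i ∈ Finset.range n, S ^ i
  let L : A →ₗ[k] A := LinearMap.id - P
  have hP : ∀ a, P a = (n : k)⁻¹ • ∑ i ∈ Finset.range n, (⇑σ)^[i] a := fun a => by simp [P, hS]
  have hPσ : ∀ a, P (σ a) = P a := fun a => by
    rw [hP, hP]; congr 1
    have e1 := Finset.sum_range_succ (fun i => (⇑σ)^[i] a) n
    have e2 := Finset.sum_range_succ' (fun i => (⇑σ)^[i] a) n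
    simp only [Function.iterate_zero, id_eq, hσ] at e1 e2
    have : ∑ i ∈ Finset.range n, (⇑σ)^[i] (σ a) = ∑ i ∈ Finset.range n, (⇑σ)^[i + 1] a :=
      Finset.sum_congr rfl fun i _ => (Function.iterate_succ_apply (⇑σ) i a).symm
    rw [this]
    exact add_right_cancel (e2.symm.trans e1)
  have hσP : ∀ a, σ (P a) = P a := fun a => by
    conv_rhs => rw [← hPσ]
    rw [hP, hP, map_smul, map_sum]
    congr 1
    exact Finset.sum_congr rfl fun i _ => by
      rw [← Function.iterate_succ_apply' (⇑σ), Function.iterate_succ_apply]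
  have hiter : ∀ (i : ℕ) (x : A), σ x = x → (⇑σ)^[i] x = x := fun i x hx => Function.iterate_fixed hx i
  have hPinv : ∀ a, σ a = a → P a = a := fun a ha => by
    rw [hP, Finset.sum_congr rfl (fun i _ => hiter i a ha), Finset.sum_const, Finset.card_range,
      ← Nat.cast_smul_eq_nsmul k, inv_smul_smul₀ hn]
  have hL : ∀ a, L a = (n : k)⁻¹ • ∑ i ∈ Finset.range n, (a - (⇑σ)^[i] a) := fun a => by
    show a - P a = _
    rw [Finset.sum_sub_distrib, smul_sub, Finset.sum_const, Finset.card_range,
      ← Nat.cast_smul_eq_nsmul k, inv_smul_smul₀ hn, hP]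
  have hI : ∀ i a, a - (⇑σ)^[i] a ∈ Ideal.span (Set.range fun a : A => a - σ a) := by
    intro i
    induction i with
    | zero => intro a; simp
    | succ i ih =>
      intro a
      have e : a - (⇑σ)^[i + 1] a = (a - σ a) + (σ a - (⇑σ)^[i] (σ a)) := by
        rw [Function.iterate_succ_apply]; abel
      rw [e]
      exact add_mem (Ideal.subset_span ⟨a, rfl⟩) (ih _)
  have hJ : Ideal.span (Set.range fun a : A => a - σ a) = Ideal.span (Set.range L) := by
    refine le_antisymm (Ideal.span_le.2 ?_) (Ideal.span_le.2 ?_)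
    · rintro _ ⟨a, rfl⟩
      have e : a - σ a = L a - L (σ a) := by
        show _ = (a - P a) - (σ a - P (σ a))
        rw [hPσ]; abel
      show a - σ a ∈ _
      rw [e]
      exact sub_mem (Ideal.subset_span ⟨_, rfl⟩) (Ideal.subset_span ⟨_, rfl⟩)
    · rintro _ ⟨a, rfl⟩
      rw [hL, SetLike.mem_coe, Algebra.smul_def]
      exact Ideal.mul_mem_left _ _ (Ideal.sum_mem _ fun i _ => hI i a)
  have hσbij : Function.Bijective σ := by
    obtain ⟨n', rfl⟩ : ∃ n', n = n' + 1 :=
      ⟨n - 1, by have : n ≠ 0 := (by rintro rfl; simp at hn); omega⟩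
    refine ⟨fun x y h => ?_, fun y => ⟨(⇑σ)^[n'] y, ?_⟩⟩
    · rw [← hσ x, ← hσ y, Function.iterate_succ_apply, h, ← Function.iterate_succ_apply]
    · rw [← Function.iterate_succ_apply' (⇑σ), hσ]
  have hσM : ∀ a, a - σ a ∈ IsLocalRing.maximalIdeal A := by
    intro a
    obtain ⟨c, hc⟩ := hres (IsLocalRing.residue A a)
    have hx : a - algebraMap k A c ∈ IsLocalRing.maximalIdeal A := by
      rw [← IsLocalRing.residue_eq_zero_iff, map_sub, sub_eq_zero, ← hc]
      rfl
    have h := Groth.Agent.CAlgH.TameAction.map_mem_maximalIdeal σ.toRingHom hσbij hx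
    simp only [AlgHom.toRingHom_eq_coe, RingHom.coe_coe, map_sub, AlgHom.commutes] at h
    simpa using sub_mem hx h
  have hJM : Ideal.span (Set.range fun a : A => a - σ a) ≤ IsLocalRing.maximalIdeal A :=
    Ideal.span_le.2 (by rintro _ ⟨a, rfl⟩; exact hσM a)
  obtain ⟨s, hs, hli⟩ := Groth.Agent.CAlgH.TameAction.exists_generators hres L
    (fun a => by
      show (a - P a) - P (a - P a) = a - P a
      rw [map_sub, hPinv (P a) (hσP a)]; abel)
    (fun a => hJM (by rw [hJ]; exact Ideal.subset_span ⟨a, rfl⟩))
    (fun a ha b hb => by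
      rw [hL, ← hJ, Algebra.smul_def]
      refine Ideal.mul_mem_left _ _ (Ideal.sum_mem _ fun i _ => ?_)
      have hib : (⇑σ)^[i] b ∈ IsLocalRing.maximalIdeal A := by
        simpa using sub_mem hb (hJM (hI i b))
      have e : a * b - (⇑σ)^[i] (a * b) =
          (⇑σ)^[i] b * (a - (⇑σ)^[i] a) + a * (b - (⇑σ)^[i] b) := by
        rw [iterate_map_mul]; ring
      rw [e]
      exact add_mem (Ideal.mul_mem_mul hib (hI i a)) (Ideal.mul_mem_mul ha (hI i b)))
  refine ⟨s.card, fun j => (s.equivFin.symm j).1, ?_, ?_⟩
  · rw [hJ, ← hs]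
    congr 1
    ext x
    constructor
    · rintro ⟨j, rfl⟩
      exact ⟨_, (s.equivFin.symm j).2, rfl⟩
    · rintro ⟨y, hy, rfl⟩
      exact ⟨s.equivFin ⟨y, hy⟩, by simp⟩
  · exact hli.linearIndependent.comp _ s.equivFin.symm.injective

end Groth.Agent.S18399
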