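import Groth.Statements.S1840
import Groth.Agent.CycDetRank.Nonzero
import Mathlib.LinearAlgebra.ExteriorPower.Basis


set_option autoImplicit false
universe u v
open CycDet

namespace Groth.Agent.S1840

/-- Let M be a finite-dimensional vector space over the residue field κ of a local ring R, viewed as an
R-module. There is a κ-linear isomorphism from det_κ(M) to the top exterior power of M sending the
symbol of an admissible tuple (e₁, …, e_l) to e₁ ∧ … ∧ e_l. -/
theorem result (R : Type u) [CommRing R] [IsLocalRing R] (M : Type v) [AddCommGroup M] [Module R M] [Module (IsLocalRing.ResidueField R) M] [IsScalarTower R (IsLocalRing.ResidueField R) M] [Module.Finite (IsLocalRing.ResidueField R) M] : ∃ Φ : CycDet.Det R M ≃ₗ[IsLocalRing.ResidueField R] (⋀[IsLocalRing.ResidueField R]^((Module.length R M).toNat) M), ∀ e : CycDet.Adm R M (Module.length R M).toNat, Φ (CycDet.symbol R M e) = exteriorPower.ιMulti (IsLocalRing.ResidueField R) ((Module.length R M).toNat) e.1 := by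
  classical
  have hlenκ : Module.length R M = (Module.finrank (IsLocalRing.ResidueField R) M : ℕ∞) := by
    rw [← Module.length_eq_finrank (IsLocalRing.ResidueField R) M]
    exact (Module.length_eq_of_surjective (R := IsLocalRing.ResidueField R) (S := R) (M := M) IsLocalRing.residue_surjective)
  set l := (Module.length R M).toNat with hl
  have hl' : l = Module.finrank (IsLocalRing.ResidueField R) M := by rw [hl, hlenκ, ENat.toNat_coe]
  have hfin : IsFiniteLength R M := by
    rw [← Module.length_ne_top_iff]
    rw [hlenκ]; exact ENat.coe_ne_top _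
  have hkill : ∀ r ∈ IsLocalRing.maximalIdeal R, ∀ x : M, r • x = 0 := fun r hr x => by
    rw [← algebraMap_smul (IsLocalRing.ResidueField R) r x]
    rw [show algebraMap R (IsLocalRing.ResidueField R) r = 0 from (IsLocalRing.residue_eq_zero_iff r).2 hr,
      zero_smul]
  let g : CycDet.Adm R M l → ⋀[IsLocalRing.ResidueField R]^l M :=
    fun e => exteriorPower.ιMulti (IsLocalRing.ResidueField R) l e.1
  let G := Finsupp.linearCombination (IsLocalRing.ResidueField R) g
  have hzero : ∀ (e : Fin l → M) (a : Fin l) (x : M), x ∈ CycDet.spanBefore R M e a →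
      exteriorPower.ιMulti (IsLocalRing.ResidueField R) l (Function.update e a x) = 0 := by
    intro e a x hx
    induction hx using Submodule.span_induction with
    | mem x hx =>
      obtain ⟨j, hj, rfl⟩ := hx
      refine AlternatingMap.map_eq_zero_of_eq _ _ (i := j) (j := a) ?_ (fun h => by subst h; simp at hj)
      rw [Function.update_of_ne (fun h => by subst h; simp at hj), Function.update_self]
    | zero => exact AlternatingMap.map_update_zero _ _ _
    | add x y _ _ hx hy => rw [AlternatingMap.map_update_add, hx, hy, add_zero]
    | smul c x _ hx =>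
      rw [← algebraMap_smul (IsLocalRing.ResidueField R) c x, AlternatingMap.map_update_smul, hx, smul_zero]
  have hker : Submodule.span (IsLocalRing.ResidueField R) (CycDet.relSet R M l) ≤ LinearMap.ker G := by
    rw [Submodule.span_le]
    rintro x ((⟨e, a, ha, rfl⟩ | ⟨e, e', a, c, h, h', rfl⟩) | ⟨e, e', a, b, hab, h, he', rfl⟩)
    · rw [SetLike.mem_coe, LinearMap.mem_ker]
      simp only [G, CycDet.sym, Finsupp.linearCombination_single, one_smul]
      have := hzero e.1 a (e.1 a) ha
      rwa [Function.update_eq_self] at this
    · rw [SetLike.mem_coe, LinearMap.mem_ker]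
      simp only [G, CycDet.sym, map_sub, LinearMap.map_smul, Finsupp.linearCombination_single, one_smul]
      have h0 := hzero e.1 a _ h'
      rw [AlternatingMap.map_update_sub, Function.update_eq_self,
        ← algebraMap_smul (IsLocalRing.ResidueField R) (c : R) (e'.1 a),
        AlternatingMap.map_update_smul] at h0
      have : Function.update e.1 a (e'.1 a) = e'.1 := by
        funext j
        by_cases hj : j = a
        · subst hj; rw [Function.update_self]
        · rw [Function.update_of_ne hj, h j hj]
      rw [this] at h0
      exact h0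
    · rw [SetLike.mem_coe, LinearMap.mem_ker]
      simp only [G, CycDet.sym, map_add, Finsupp.linearCombination_single, one_smul, g]
      rw [show e'.1 = e.1 ∘ Equiv.swap a b from he', add_comm]
      exact AlternatingMap.map_swap_add _ _ (fun hh => by subst hh; omega)
  let Φ : CycDet.Det R M →ₗ[IsLocalRing.ResidueField R] ⋀[IsLocalRing.ResidueField R]^l M :=
    Submodule.liftQ _ G hker
  have hΦ : ∀ e, Φ (CycDet.symbol R M e) = exteriorPower.ιMulti (IsLocalRing.ResidueField R) l e.1 := fun e => by
    show G (CycDet.sym R M e) = _
    simp [G, CycDet.sym, g]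
  have hsurj : Function.Surjective Φ := by
    rw [← LinearMap.range_eq_top, eq_top_iff, ← exteriorPower.ιMulti_span]
    refine Submodule.span_le.2 ?_
    rintro _ ⟨v, rfl⟩
    exact ⟨CycDet.symbol R M ⟨v, fun i r hr => by rw [hkill r hr]; exact zero_mem _⟩, hΦ _⟩
  have : Module.Finite (IsLocalRing.ResidueField R) (CycDet.Det R M) :=
    Module.rank_lt_aleph0_iff.1 (lt_of_le_of_lt (CycDetRank.rank_det_le_one hfin) Cardinal.one_lt_aleph0)
  have hinj : Function.Injective Φ := by
    refine (LinearMap.injective_iff_surjective_of_finrank_eq_finrank ?_).2 hsurj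
    refine le_antisymm ?_ (LinearMap.finrank_le_finrank_of_surjective hsurj)
    rw [exteriorPower.finrank_eq, hl', Nat.choose_self]
    have := CycDetRank.rank_det_le_one hfin
    rw [← Module.finrank_eq_rank] at this
    exact_mod_cast this
  exact ⟨LinearEquiv.ofBijective Φ ⟨hinj, hsurj⟩, hΦ⟩

end Groth.Agent.S1840
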