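import Groth.Statements.S18402
import Groth.Agent.FEtLib.FullCrit

set_option autoImplicit false
universe u
open Pi1

namespace Groth.Agent.S18402

open AlgebraicGeometry CategoryTheory CategoryTheory.Limits in
/-- Let X be an irreducible scheme and π : W ⟶ X a flat morphism whose fibre over every field-valued
point of X is irreducible (so every fibre is geometrically irreducible and π is surjective). Then
for every finite étale cover Z of X with Z connected, the base change of Z along π is connected.
Ranging over all finite étale covers of X, this says that the monodromy group of each cover (the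
image of the fundamental group in the permutations of a geometric fibre) is unchanged by pullback
along π. The published statement asserts that equality of monodromy groups, for generically finite,
generically étale covers between irreducible algebraic stacks. -/
theorem result {X W : Scheme.{u}}
    [IrreducibleSpace X] (π : W ⟶ X) [Flat π] [GeometricallyIrreducible π]
    (Z : FEt.Cat X) [ConnectedSpace Z.left] :
    ConnectedSpace ↥(pullback Z.hom π) := by
  let e := pullback.fst Z.hom π
  have hfib : ∀ z, _root_.IsPreconnected (e ⁻¹' {z}) := fun z => by
    rw [← e.range_fiberι, ← Set.image_univ]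
    exact (IrreducibleSpace.isIrreducible_univ _).isConnected.isPreconnected.image _
      (e.fiberι _).continuous.continuousOn
  obtain ⟨hfin, hgen⟩ := FEtLib.exists_gen_fiber Z
  haveI : Nonempty ↥(pullback Z.hom π) := ⟨(e.surjective (Classical.arbitrary Z.left)).choose⟩
  refine connectedSpace_iff_univ.mpr ⟨Set.univ_nonempty, ?_⟩
  haveI : PreconnectedSpace ↥(pullback Z.hom π) := by
    refine preconnectedSpace_iff_clopen.mpr fun W hW => ?_
    let S : Set Z.left := {z | (e ⁻¹' {z} ∩ W).Nonempty}
    have hsub : ∀ p, p ∈ W ↔ e p ∈ S := fun p =>
      ⟨fun hp => ⟨p, rfl, hp⟩, fun hz => (hfib _).subset_isClopen hW hz rfl⟩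
    have hS : IsClopen S := FEtLib.isClopen_of_stable hfin hgen fun a b hab => by
      obtain ⟨q, rfl⟩ := e.surjective b
      obtain ⟨p, hpq, rfl⟩ := Flat.generalizingMap e hab
      rw [← hsub, ← hsub]
      exact ⟨fun h => hpq.mem_closed hW.1 h, fun h => hpq.mem_open hW.2 h⟩
    rcases isClopen_iff.mp hS with h | h
    · left; ext p; simp [hsub p, h]
    · right; ext p; simp [hsub p, h]
  exact isPreconnected_univ

end Groth.Agent.S18402
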