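import Groth.Statements.S18405
import Groth.Agent.CubicLead.HesseFlex
import Mathlib.Analysis.Complex.Polynomial.Basic

set_option autoImplicit false
universe u
open Cubic

namespace Groth.Agent.S18405

open MvPolynomial in
/-- Let f be a nonzero homogeneous cubic in three variables over ℂ whose plane curve is smooth (at every
nonzero zero of f some partial derivative is nonzero), and let A be an invertible matrix whose
linear substitution X_i ↦ Σ_j A_ij X_j multiplies f by a constant, so that v ↦ A·v is a projective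
automorphism of the curve. If A·v is proportional to v for every flex v of the curve (every nonzero
zero v of f through which some line meets the curve with multiplicity three: there is w linearly
independent from v with f(v + t·w) = t³·f(w) for all t), then A is a scalar matrix: the projective
automorphisms of a smooth plane cubic act faithfully on its flexes. -/
theorem result (f : MvPolynomial (Fin 3) ℂ) (hf : f.IsHomogeneous 3)
    (hf0 : f ≠ 0) (hsm : ∀ v : Fin 3 → ℂ, v ≠ 0 → eval v f = 0 → ∃ i : Fin 3, eval v (pderiv i f) ≠ 0)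
    (A : Matrix (Fin 3) (Fin 3) ℂ) (hA : IsUnit A.det)
    (hAf : ∃ c : ℂ, aeval (fun i : Fin 3 => ∑ j : Fin 3, C (A i j) * X j) f = C c * f)
    (hfix : ∀ v : Fin 3 → ℂ, v ≠ 0 → eval v f = 0 →
      (∃ w : Fin 3 → ℂ, LinearIndependent ℂ ![v, w] ∧ ∀ t : ℂ, eval (v + t • w) f = t ^ 3 * eval w f) →
      ∃ d : ℂ, A.mulVec v = d • v) :
    ∃ c : ℂ, A = c • (1 : Matrix (Fin 3) (Fin 3) ℂ) := by
  obtain ⟨c, hc⟩ := CubicLead.exists_coeff hf
  obtain ⟨T, s, K, hT, hs, hK, hTf⟩ := CubicLead.exists_hesse hc hsm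
  obtain ⟨r, hr⟩ := IsAlgClosed.exists_eq_mul_self (-3 : ℂ)
  have hw : ((-1 + r) / 2 : ℂ) ^ 2 + (-1 + r) / 2 + 1 = 0 := by linear_combination -hr / 4
  let E := LinearEquiv.ofBijective T ⟨hT, LinearMap.injective_iff_surjective.1 hT⟩
  let B : (Fin 3 → ℂ) →ₗ[ℂ] (Fin 3 → ℂ) :=
    E.symm.toLinearMap ∘ₗ Matrix.toLin' A ∘ₗ T
  have hfixB : ∀ v, v ≠ 0 → CubicLead.IsBase v → ∃ d : ℂ, B v = d • v := by
    intro v hv hb
    have hTv : T v ≠ 0 := fun h => hv (hT (by rw [h, map_zero]))
    have hzero : eval v (HesseCubic.form s) = 0 := by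
      obtain ⟨γ, x, hγ, h | h | h⟩ := hb <;> rw [h]
      · exact (CubicLead.base_spec hγ s).1
      · exact (CubicLead.base_spec hγ s).2.1
      · exact (CubicLead.base_spec hγ s).2.2
    obtain ⟨d, hd⟩ := hfix (T v) hTv (by rw [hTf, hzero, mul_zero])
      (CubicLead.Flex.map hT hTf (CubicLead.flex_of_isBase hv hb))
    refine ⟨d, ?_⟩
    show E.symm (Matrix.toLin' A (T v)) = d • v
    rw [Matrix.toLin'_apply, hd, map_smul]
    exact congrArg (d • ·) (E.symm_apply_apply v)
  refine ⟨B (Pi.single 0 1) 0, ?_⟩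
  apply Matrix.toLin'.injective
  refine LinearMap.ext fun y => ?_
  obtain ⟨x, rfl⟩ := E.surjective y
  have := congrArg E (CubicLead.eq_smul_of_fix hw B hfixB x)
  rw [map_smul] at this
  rw [map_smul, LinearMap.smul_apply, Matrix.toLin'_one, LinearMap.id_apply, ← this]
  exact (E.apply_symm_apply _).symm

end Groth.Agent.S18405
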