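import Groth.Statements.S18406
import Groth.Agent.CubicLead.HesseFlex
import Mathlib.Analysis.Complex.Polynomial.Basic

set_option autoImplicit false
universe u
open Cubic

namespace Groth.Agent.S18406

open MvPolynomial in
/-- Let f be a nonzero homogeneous cubic in three variables over ℂ whose plane curve is smooth (at every
nonzero zero of f some partial derivative is nonzero), and let v and v′ be flexes of the curve, that
is nonzero zeros of f through each of which some line meets the curve with multiplicity three (there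
is a vector w linearly independent from the point with f(point + t·w) = t³·f(w) for every t). Then a
projective automorphism of the curve carries the point of v to the point of v′: there are an
invertible matrix A whose substitution X_i ↦ Σ_j A_ij X_j multiplies f by a constant c, and a
constant d with A·v = d·v′. (The published statement gives more: a subgroup of the projective
automorphism group isomorphic to C₃ × C₃ acts simply transitively on the nine flexes; only
transitivity is stated here.) -/
theorem result (f : MvPolynomial (Fin 3) ℂ) (hf : f.IsHomogeneous 3)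
    (hf0 : f ≠ 0) (hsm : ∀ v : Fin 3 → ℂ, v ≠ 0 → eval v f = 0 → ∃ i : Fin 3, eval v (pderiv i f) ≠ 0)
    (v v' : Fin 3 → ℂ) (hv : v ≠ 0) (hv' : v' ≠ 0) (hfv : eval v f = 0) (hfv' : eval v' f = 0)
    (hflex : (∃ w : Fin 3 → ℂ, LinearIndependent ℂ ![v, w] ∧ ∀ t : ℂ, eval (v + t • w) f = t ^ 3 * eval w f))
    (hflex' : (∃ w : Fin 3 → ℂ, LinearIndependent ℂ ![v', w] ∧ ∀ t : ℂ, eval (v' + t • w) f = t ^ 3 * eval w f)) :
    ∃ (A : Matrix (Fin 3) (Fin 3) ℂ) (c d : ℂ), IsUnit A.det ∧
      aeval (fun i : Fin 3 => ∑ j : Fin 3, C (A i j) * X j) f = C c * f ∧ A.mulVec v = d • v' := by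
  obtain ⟨c, hc⟩ := CubicLead.exists_coeff hf
  obtain ⟨T, s, K, hT, hs, hK, hTf⟩ := CubicLead.exists_hesse hc hsm
  let E := LinearEquiv.ofBijective T ⟨hT, LinearMap.injective_iff_surjective.1 hT⟩
  have hE : ∀ y, eval y f = K * eval (E.symm y) (HesseCubic.form s) := fun y => by
    rw [← hTf]; exact congrArg (fun z => eval z f) (E.apply_symm_apply y).symm
  have key : ∀ u : Fin 3 → ℂ, u ≠ 0 → eval u f = 0 →
      (∃ w : Fin 3 → ℂ, LinearIndependent ℂ ![u, w] ∧
        ∀ t : ℂ, eval (u + t • w) f = t ^ 3 * eval w f) → CubicLead.IsBase (E.symm u) := by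
    intro u hu hfu hflx
    have hu' : E.symm u ≠ 0 := fun h => hu (E.symm.map_eq_zero_iff.1 h)
    refine CubicLead.isBase_of_flex hs hu' ((mul_eq_zero.1 ((hE u).symm.trans hfu)).resolve_left hK) ?_
    exact CubicLead.Flex.map (f := HesseCubic.form s) (g := f) (K := K⁻¹)
      (T := E.symm.toLinearMap) E.symm.injective
      (fun y => by rw [hE y, inv_mul_cancel_left₀ hK]; rfl) hflx
  have hv1 : E.symm v ≠ 0 := fun h => hv (E.symm.map_eq_zero_iff.1 h)
  have hv1' : E.symm v' ≠ 0 := fun h => hv' (E.symm.map_eq_zero_iff.1 h)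
  obtain ⟨S, a, ha, hS, hSv⟩ := CubicLead.exists_symm_base hv1 (key v hv hfv hflex) s
  obtain ⟨S', a', ha', hS', hSv'⟩ := CubicLead.exists_symm_base hv1' (key v' hv' hfv' hflex') s
  let M : (Fin 3 → ℂ) ≃ₗ[ℂ] (Fin 3 → ℂ) := E.symm ≪≫ₗ (S.symm ≪≫ₗ (S' ≪≫ₗ E))
  refine ⟨LinearMap.toMatrix' M.toLinearMap, 1, a * a'⁻¹, ?_, ?_, ?_⟩
  · rw [← Matrix.isUnit_iff_isUnit_det, ← Matrix.mulVec_injective_iff_isUnit]
    have : (LinearMap.toMatrix' M.toLinearMap).mulVec = ⇑M := by
      funext x
      rw [← Matrix.toLin'_apply, Matrix.toLin'_toMatrix']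
      rfl
    rw [this]; exact M.injective
  · rw [CubicLead.aeval_matrix_eq_iff]
    intro x
    rw [← Matrix.toLin'_apply, Matrix.toLin'_toMatrix', map_one, one_mul]
    show eval (E (S' (S.symm (E.symm x)))) f = eval x f
    rw [hE, hE x, E.symm_apply_apply, hS']
    conv_rhs => rw [← S.apply_symm_apply (E.symm x), hS]
  · rw [← Matrix.toLin'_apply, Matrix.toLin'_toMatrix']
    show E (S' (S.symm (E.symm v))) = _
    have h1 : E.symm v = a • S ![0, 1, -1] := by rw [hSv, smul_inv_smul₀ ha]
    rw [h1, map_smul, S.symm_apply_apply, map_smul, hSv', map_smul, map_smul,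
      E.apply_symm_apply, smul_smul]

end Groth.Agent.S18406
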