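import Groth.Statements.S18409
import Mathlib.RingTheory.MvPolynomial.EulerIdentity
import Mathlib.LinearAlgebra.Dimension.Constructions
import Mathlib.LinearAlgebra.FiniteDimensional.Lemmas
import Mathlib.LinearAlgebra.FiniteDimensional.Basic
import Mathlib.Tactic

set_option autoImplicit false
universe u
open Cubic

namespace Groth.Agent.S18409

open MvPolynomial

section

abbrev V := Fin 4 → ℂ

/-- An Eckardt point. -/
abbrev Eck (f : MvPolynomial (Fin 4) ℂ) (e : V) : Prop :=
  ∃ U : Fin 3 → Submodule ℂ V, Function.Injective U ∧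
    ∀ i : Fin 3, Module.finrank ℂ ↥(U i) = 2 ∧ e ∈ U i ∧ ∀ u ∈ U i, eval u f = 0

lemma euler_split {g : MvPolynomial (Fin 4) ℂ} {n : ℕ} (h : g.IsHomogeneous (n + 1)) :
    g = ∑ i, C ((n + 1 : ℂ)⁻¹) * (X i * pderiv i g) := by
  rw [← Finset.mul_sum, h.sum_X_mul_pderiv, nsmul_eq_mul, ← map_natCast (C (σ := Fin 4) (R := ℂ)),
    ← mul_assoc, ← map_mul, Nat.cast_add, Nat.cast_one,
    inv_mul_cancel₀ (Nat.cast_add_one_ne_zero n), map_one, one_mul]

lemma exists_coeff {f : MvPolynomial (Fin 4) ℂ} (hf : f.IsHomogeneous 3) :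
    ∃ c : Fin 4 → Fin 4 → Fin 4 → ℂ,
      f = ∑ i, ∑ j, ∑ k, C (c i j k) * (X i * X j * X k) := by
  refine ⟨fun i j k => 3⁻¹ * 2⁻¹ * coeff 0 (pderiv k (pderiv j (pderiv i f))), ?_⟩
  conv_lhs => rw [euler_split (n := 2) hf]
  refine Finset.sum_congr rfl fun i _ => ?_
  have h1 : (pderiv i f).IsHomogeneous 2 := hf.pderiv
  conv_lhs => rw [euler_split (n := 1) h1]
  simp only [Finset.mul_sum]
  refine Finset.sum_congr rfl fun j _ => ?_
  have h2 : (pderiv j (pderiv i f)).IsHomogeneous 1 := h1.pderiv
  conv_lhs => rw [euler_split (n := 0) h2]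
  simp only [Finset.mul_sum]
  refine Finset.sum_congr rfl fun k _ => ?_
  have h3 : (pderiv k (pderiv j (pderiv i f))).IsHomogeneous 0 := h2.pderiv
  conv_lhs => rw [totalDegree_eq_zero_iff_eq_C.1 (Nat.le_zero.1 h3.totalDegree_le)]
  simp only [map_mul]
  norm_num
  ring

variable (c : Fin 4 → Fin 4 → Fin 4 → ℂ)

/-- The trilinear form. -/
def tri (u v w : V) : ℂ := ∑ i, ∑ j, ∑ k, c i j k * (u i * v j * w k)

lemma tri_add₁ (u u' v w : V) : tri c (u + u') v w = tri c u v w + tri c u' v w := by
  simp [tri, add_mul, mul_add, Finset.sum_add_distrib]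
lemma tri_add₂ (u v v' w : V) : tri c u (v + v') w = tri c u v w + tri c u v' w := by
  simp [tri, add_mul, mul_add, Finset.sum_add_distrib]
lemma tri_add₃ (u v w w' : V) : tri c u v (w + w') = tri c u v w + tri c u v w' := by
  simp [tri, mul_add, Finset.sum_add_distrib]
lemma tri_smul₁ (a : ℂ) (u v w : V) : tri c (a • u) v w = a * tri c u v w := by
  simp [tri, Finset.mul_sum, mul_assoc, mul_left_comm]
lemma tri_smul₂ (a : ℂ) (u v w : V) : tri c u (a • v) w = a * tri c u v w := by
  simp [tri, Finset.mul_sum, mul_assoc, mul_left_comm]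
lemma tri_smul₃ (a : ℂ) (u v w : V) : tri c u v (a • w) = a * tri c u v w := by
  simp [tri, Finset.mul_sum, mul_assoc, mul_left_comm]

/-- Coefficient of `t`. -/
def quad (e v : V) : ℂ := tri c v v e + tri c v e v + tri c e v v
/-- Polar of `quad`. -/
def pol (e v w : V) : ℂ :=
  tri c v w e + tri c w v e + tri c v e w + tri c w e v + tri c e v w + tri c e w v
/-- Coefficient of `t²`. -/
def lin (e v : V) : ℂ := tri c v e e + tri c e v e + tri c e e v

lemma expand (e v : V) (t : ℂ) : tri c (v + t • e) (v + t • e) (v + t • e) =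
    tri c v v v + t * quad c e v + t ^ 2 * lin c e v + t ^ 3 * tri c e e e := by
  simp only [quad, lin, tri_add₁, tri_add₂, tri_add₃, tri_smul₁, tri_smul₂, tri_smul₃]
  ring

lemma quad_comb (e v w : V) (a b : ℂ) : quad c e (a • v + b • w) =
    a ^ 2 * quad c e v + a * b * pol c e v w + b ^ 2 * quad c e w := by
  simp only [quad, pol, tri_add₁, tri_add₂, tri_add₃, tri_smul₁, tri_smul₂, tri_smul₃]
  ring

lemma quad_add_self (e v : V) (a : ℂ) :
    quad c e (v + a • e) = quad c e v + 2 * a * lin c e v + 3 * a ^ 2 * tri c e e e := by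
  simp only [quad, lin, tri_add₁, tri_add₂, tri_add₃, tri_smul₁, tri_smul₂, tri_smul₃]
  ring

lemma pol_self (e w : V) : pol c e w e = 2 * lin c e w := by
  simp only [pol, lin]
  ring

/-- `lin` as a linear map. -/
def linL (e : V) : V →ₗ[ℂ] ℂ where
  toFun := lin c e
  map_add' v w := by simp only [lin, tri_add₁, tri_add₂, tri_add₃]; ring
  map_smul' a v := by
    simp only [lin, tri_smul₁, tri_smul₂, tri_smul₃, smul_eq_mul, RingHom.id_apply]; ring

/-- `pol` as a linear map. -/
def polL (e v : V) : V →ₗ[ℂ] ℂ where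
  toFun := pol c e v
  map_add' w w' := by simp only [pol, tri_add₁, tri_add₂, tri_add₃]; ring
  map_smul' a w := by
    simp only [pol, tri_smul₁, tri_smul₂, tri_smul₃, smul_eq_mul, RingHom.id_apply]; ring

end

/-- At an Eckardt point of a smooth cubic surface the surface is preserved by a harmonic homology. -/
lemma exists_split (f : MvPolynomial (Fin 4) ℂ) (hf : f.IsHomogeneous 3)
    (hsm : ∀ v : V, v ≠ 0 → eval v f = 0 → ∃ i : Fin 4, eval v (pderiv i f) ≠ 0)
    (e : V) (he : e ≠ 0) (hE : Eck f e) :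
    ∃ l m : V →ₗ[ℂ] ℂ, l e = 0 ∧ m e = 2 ∧
      ∀ (v : V) (t : ℂ), eval (v + t • e) f = eval v f + l v * (t * m v + t ^ 2) := by
  classical
  obtain ⟨c, hc⟩ := exists_coeff hf
  have hev : ∀ v : V, eval v f = tri c v v v := by
    intro v; rw [hc]; simp [tri]
  obtain ⟨U, hU, hU'⟩ := hE
  have h0 : tri c e e e = 0 := by rw [← hev]; exact (hU' 0).2.2 e (hU' 0).2.1
  have hexp : ∀ (v : V) (t : ℂ),
      eval (v + t • e) f = eval v f + t * quad c e v + t ^ 2 * lin c e v := by
    intro v t; rw [hev, hev, expand, h0]; ring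
  have hle : lin c e e = 0 := by simp only [lin, h0]; ring
  have hl : linL c e ≠ 0 := by
    intro h
    obtain ⟨i, hi⟩ := hsm e he (by rw [hev, h0])
    apply hi
    have hgrad : eval e (pderiv i f) = lin c e (Pi.single i 1) := by
      rw [hc]
      simp only [map_sum, Derivation.leibniz, pderiv_C, pderiv_X, lin, tri, smul_eq_mul,
        map_add, map_mul, eval_C, eval_X, map_zero, mul_zero, add_zero,
        ← Finset.sum_add_distrib]
      refine Finset.sum_congr rfl fun x _ => Finset.sum_congr rfl fun y _ =>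
        Finset.sum_congr rfl fun z _ => ?_
      simp only [Pi.single_apply, apply_ite (eval e), map_one, map_zero, eq_comm (a := i)]
      ring
    rw [hgrad]
    exact LinearMap.congr_fun h _
  have hline : ∀ i, ∀ u ∈ U i, quad c e u = 0 ∧ lin c e u = 0 := by
    intro i u hu
    have H : ∀ t : ℂ, t * quad c e u + t ^ 2 * lin c e u = 0 := by
      intro t
      have := hexp u t
      rw [(hU' i).2.2 _ ((U i).add_mem hu ((U i).smul_mem t (hU' i).2.1)),
        (hU' i).2.2 u hu] at this
      linear_combination -this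
    constructor
    · linear_combination (H 1 - H (-1)) / 2
    · linear_combination (H 1 + H (-1)) / 2
  have hex : ∀ i, ∃ u, u ∈ U i ∧ u ∉ Submodule.span ℂ {e} ∧ U i = Submodule.span ℂ {e, u} := by
    intro i
    have hne : ¬ U i ≤ Submodule.span ℂ {e} := by
      intro h
      have := Submodule.finrank_mono h
      rw [(hU' i).1, finrank_span_singleton he] at this
      omega
    obtain ⟨u, hu, hu'⟩ := SetLike.not_le_iff_exists.1 hne
    refine ⟨u, hu, hu', (Submodule.eq_of_le_of_finrank_le ?_ ?_).symm⟩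
    · rw [Submodule.span_le]
      rintro x (rfl | rfl)
      · exact (hU' i).2.1
      · exact hu
    · rw [(hU' i).1]
      have hli : LinearIndependent ℂ ![e, u] := by
        rw [LinearIndependent.pair_iff' he]
        intro a h
        exact hu' (h ▸ Submodule.smul_mem _ a (Submodule.mem_span_singleton_self e))
      have := finrank_span_eq_card hli
      rw [Fintype.card_fin, Matrix.range_cons_cons_empty] at this
      exact this.ge
  choose u hu hu' hUe using hex
  have hmem : ∀ i (a b : ℂ), a • e + b • u i ∈ U i := fun i a b =>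
    (U i).add_mem ((U i).smul_mem a (hU' i).2.1) ((U i).smul_mem b (hu i))
  have hli : LinearIndependent ℂ ![u 1, e, u 0] := by
    rw [show (![u 1, e, u 0] : Fin 3 → V) = Fin.cons (u 1) ![e, u 0] from rfl,
      linearIndependent_finCons]
    refine ⟨?_, fun h => ?_⟩
    · rw [LinearIndependent.pair_iff' he]
      intro a h
      exact hu' 0 (h ▸ Submodule.smul_mem _ a (Submodule.mem_span_singleton_self e))
    · have h1 : u 1 ∈ U 0 := by
        rw [hUe 0]; simpa [Matrix.range_cons, Matrix.range_empty, Set.pair_comm] using h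
      have : U 1 ≤ U 0 := by
        rw [hUe 1, Submodule.span_le]
        rintro x (rfl | rfl)
        · exact (hU' 0).2.1
        · exact h1
      have h01 : U 1 = U 0 := Submodule.eq_of_le_of_finrank_le this (by rw [(hU' 0).1, (hU' 1).1])
      exact absurd (hU h01) (by decide)
  have hker : LinearMap.ker (linL c e) = Submodule.span ℂ (Set.range ![u 1, e, u 0]) := by
    refine (Submodule.eq_of_le_of_finrank_le ?_ ?_).symm
    · rw [Submodule.span_le]
      rintro x ⟨k, rfl⟩
      fin_cases k
      · exact (hline 1 _ (hu 1)).2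
      · exact hle
      · exact (hline 0 _ (hu 0)).2
    · rw [finrank_span_eq_card hli, Fintype.card_fin]
      have h4 : Module.finrank ℂ V = 4 := Module.finrank_fin_fun ℂ
      have := Submodule.finrank_lt (s := LinearMap.ker (linL c e)) fun h => hl (LinearMap.ker_eq_top.1 h)
      omega
  have hker' : ∀ v, lin c e v = 0 → ∃ a b d : ℂ, v = a • u 1 + b • e + d • u 0 := by
    intro v hv
    have : v ∈ LinearMap.ker (linL c e) := hv
    rw [hker, Submodule.mem_span_range_iff_exists_fun] at this
    obtain ⟨g, hg⟩ := this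
    exact ⟨g 0, g 1, g 2, by rw [← hg, Fin.sum_univ_three]; rfl⟩
  have hq : ∀ a b d : ℂ, quad c e (a • u 1 + b • e + d • u 0) =
      a * d * pol c e (u 1) (u 0) := by
    intro a b d
    have hl2 : lin c e (a • u 1 + d • u 0) = 0 := by
      show linL c e _ = 0
      rw [map_add, map_smul, map_smul, show linL c e (u 1) = 0 from (hline 1 _ (hu 1)).2,
        show linL c e (u 0) = 0 from (hline 0 _ (hu 0)).2]
      simp
    rw [show a • u 1 + b • e + d • u 0 = (a • u 1 + d • u 0) + b • e by abel, quad_add_self,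
      hl2, h0, quad_comb, (hline 1 _ (hu 1)).1, (hline 0 _ (hu 0)).1]
    ring
  have hP : pol c e (u 1) (u 0) = 0 := by
    obtain ⟨a, b, d, h⟩ := hker' (u 2) (hline 2 _ (hu 2)).2
    have hq2 := (hline 2 _ (hu 2)).1
    rw [h, hq] at hq2
    rcases mul_eq_zero.1 hq2 with h' | h'
    · rcases mul_eq_zero.1 h' with h'' | h''
      · exfalso
        have : u 2 ∈ U 0 := by rw [h, h'', zero_smul, zero_add]; exact hmem 0 b d
        have hle : U 2 ≤ U 0 := by
          rw [hUe 2, Submodule.span_le]
          rintro x (rfl | rfl)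
          · exact (hU' 0).2.1
          · exact this
        have : U 2 = U 0 := Submodule.eq_of_le_of_finrank_le hle (by rw [(hU' 0).1, (hU' 2).1])
        exact absurd (hU this) (by decide)
      · exfalso
        have : u 2 ∈ U 1 := by
          rw [h, h'', zero_smul, add_zero, add_comm]; exact hmem 1 b a
        have hle : U 2 ≤ U 1 := by
          rw [hUe 2, Submodule.span_le]
          rintro x (rfl | rfl)
          · exact (hU' 1).2.1
          · exact this
        have : U 2 = U 1 := Submodule.eq_of_le_of_finrank_le hle (by rw [(hU' 1).1, (hU' 2).1])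
        exact absurd (hU this) (by decide)
    · exact h'
  have hquad0 : ∀ v, lin c e v = 0 → quad c e v = 0 := by
    intro v hv
    obtain ⟨a, b, d, rfl⟩ := hker' v hv
    rw [hq, hP, mul_zero]
  obtain ⟨w, hw⟩ : ∃ w, lin c e w = 1 := by
    obtain ⟨w₀, hw₀⟩ := DFunLike.ne_iff.1 hl
    refine ⟨(linL c e w₀)⁻¹ • w₀, ?_⟩
    show linL c e _ = 1
    rw [map_smul, smul_eq_mul, inv_mul_cancel₀ hw₀]
  let m : V →ₗ[ℂ] ℂ := (quad c e w - pol c e w w) • linL c e + polL c e w
  have hm : ∀ v, quad c e v = lin c e v * m v := by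
    intro v
    set a := lin c e v with ha
    set k := v - a • w with hk
    have hk0 : lin c e k = 0 := by
      show linL c e (v - a • w) = 0
      rw [map_sub, map_smul, smul_eq_mul, show linL c e w = 1 from hw]
      simp [ha, linL]
    have hv : v = a • w + (1 : ℂ) • k := by rw [hk, one_smul, add_sub_cancel]
    have hp : pol c e w k = pol c e w v - a * pol c e w w := by
      show polL c e w (v - a • w) = _
      rw [map_sub, map_smul]; rfl
    calc quad c e v = quad c e (a • w + (1 : ℂ) • k) := by rw [← hv]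
      _ = a * ((quad c e w - pol c e w w) * a + pol c e w v) := by
          rw [quad_comb, hquad0 k hk0, hp]; ring
      _ = a * m v := rfl
  refine ⟨linL c e, m, hle, ?_, fun v t => ?_⟩
  · show (quad c e w - pol c e w w) * lin c e e + pol c e w e = 2
    rw [hle, pol_self, hw]; ring
  · rw [hexp, hm]
    show _ = _ + lin c e v * _
    ring


open MvPolynomial in
/-- Let f be a nonzero homogeneous cubic in four variables over ℂ whose surface S = V_+(f) ⊂ P³ is
smooth (at every nonzero zero of f some partial derivative is nonzero); a line on S is a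
2-dimensional subspace of ℂ⁴ on which f vanishes, and an Eckardt point of S is a nonzero vector
lying on three distinct lines on S. Let e and e′ be Eckardt points of S that are not proportional
and let L be their span, a plane in ℂ⁴, i.e. the line of P³ through the two points. Then exactly one
of the two cases occurs: either f vanishes identically on L (the line lies on S), or L contains a
third Eckardt point e″, proportional to neither e nor e′, and every zero of f in L is proportional
to e, e′ or e″ (the line meets S in exactly three points, all Eckardt points). -/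
theorem result (f : MvPolynomial (Fin 4) ℂ) (hf : f.IsHomogeneous 3)
    (hf0 : f ≠ 0) (hsm : ∀ v : Fin 4 → ℂ, v ≠ 0 → eval v f = 0 → ∃ i : Fin 4, eval v (pderiv i f) ≠ 0)
    (e e' : Fin 4 → ℂ) (he : e ≠ 0) (he' : e' ∉ Submodule.span ℂ {e})
    (hE : (∃ U : Fin 3 → Submodule ℂ (Fin 4 → ℂ), Function.Injective U ∧
        ∀ i : Fin 3, Module.finrank ℂ ↥(U i) = 2 ∧ e ∈ U i ∧ ∀ u ∈ U i, eval u f = 0))
    (hE' : (∃ U : Fin 3 → Submodule ℂ (Fin 4 → ℂ), Function.Injective U ∧
        ∀ i : Fin 3, Module.finrank ℂ ↥(U i) = 2 ∧ e' ∈ U i ∧ ∀ u ∈ U i, eval u f = 0)) :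
    Xor (∀ u ∈ Submodule.span ℂ {e, e'}, eval u f = 0)
      (∃ e'' : Fin 4 → ℂ, e'' ∈ Submodule.span ℂ {e, e'} ∧ e'' ∉ Submodule.span ℂ {e} ∧ e'' ∉ Submodule.span ℂ {e'} ∧
        (∃ U : Fin 3 → Submodule ℂ (Fin 4 → ℂ), Function.Injective U ∧
        ∀ i : Fin 3, Module.finrank ℂ ↥(U i) = 2 ∧ e'' ∈ U i ∧ ∀ u ∈ U i, eval u f = 0) ∧
        ∀ u ∈ Submodule.span ℂ {e, e'}, eval u f = 0 →
          u ∈ Submodule.span ℂ {e} ∨ u ∈ Submodule.span ℂ {e'} ∨ u ∈ Submodule.span ℂ {e''}) := by
  obtain ⟨l, m, hle, hme, hexp⟩ := exists_split f hf hsm e he hE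
  have hef : eval e f = 0 := by
    obtain ⟨U, -, h⟩ := hE
    exact (h 0).2.2 e (h 0).2.1
  have he'f : eval e' f = 0 := by
    obtain ⟨U, -, h⟩ := hE'
    exact (h 0).2.2 e' (h 0).2.1
  have he'0 : e' ≠ 0 := fun h => he' (by simp [h])
  have hformula : ∀ a b : ℂ, eval (b • e' + a • e) f = b * l e' * a * (a + b * m e') := by
    intro a b
    have h3 : eval (b • e') f = 0 := by
      obtain ⟨U, -, h⟩ := hE'
      exact (h 0).2.2 _ ((U 0).smul_mem b (h 0).2.1)
    rw [hexp, h3, map_smul, map_smul, smul_eq_mul, smul_eq_mul]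
    ring
  have hspan : ∀ u ∈ Submodule.span ℂ {e, e'}, ∃ a b : ℂ, u = b • e' + a • e := by
    intro u hu
    obtain ⟨a, b, h⟩ := Submodule.mem_span_pair.1 hu
    exact ⟨a, b, by rw [← h, add_comm]⟩
  have hmem : ∀ a b : ℂ, b • e' + a • e ∈ Submodule.span ℂ {e, e'} := fun a b =>
    Submodule.mem_span_pair.2 ⟨a, b, add_comm _ _⟩
  have huniq : ∀ a b a' b' : ℂ, b • e' + a • e = b' • e' + a' • e → b = b' ∧ a = a' := by
    intro a b a' b' h
    by_cases hb : b = b'
    · subst hb
      exact ⟨rfl, smul_left_injective ℂ he (add_left_cancel h)⟩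
    · exfalso
      apply he'
      refine Submodule.mem_span_singleton.2 ⟨(b - b')⁻¹ * (a' - a), ?_⟩
      have : (b - b') • e' = (a' - a) • e := by
        rw [sub_smul, sub_smul, sub_eq_sub_iff_add_eq_add, h, add_comm]
      rw [mul_smul, ← this, inv_smul_smul₀ (sub_ne_zero.2 hb)]
  by_cases hl : l e' = 0
  · left
    refine ⟨fun u hu => ?_, ?_⟩
    · obtain ⟨a, b, rfl⟩ := hspan u hu
      rw [hformula, hl]; ring
    · rintro ⟨e'', he'', hne, hne', -, hall⟩
      obtain ⟨α, β, rfl⟩ := hspan e'' he''
      have hβ : β ≠ 0 := fun h => hne (by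
        rw [h, zero_smul, zero_add]
        exact Submodule.smul_mem _ _ (Submodule.mem_span_singleton_self e))
      obtain ⟨a, ha0, ha⟩ : ∃ a : ℂ, a ≠ 0 ∧ a * β ≠ α := by
        by_cases h : (1 : ℂ) * β = α
        · exact ⟨2, two_ne_zero, fun h' => hβ (by linear_combination h' - h)⟩
        · exact ⟨1, one_ne_zero, h⟩
      rcases hall ((1 : ℂ) • e' + a • e) (hmem a 1) (by rw [hformula, hl]; ring) with h | h | h
      · obtain ⟨r, hr⟩ := Submodule.mem_span_singleton.1 h
        have := (huniq a 1 r 0 (by rw [zero_smul, zero_add, hr])).1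
        exact one_ne_zero this
      · obtain ⟨r, hr⟩ := Submodule.mem_span_singleton.1 h
        exact ha0 (huniq a 1 0 r (by rw [zero_smul, add_zero, hr])).2
      · obtain ⟨r, hr⟩ := Submodule.mem_span_singleton.1 h
        obtain ⟨h1, h2⟩ := huniq a 1 (r * α) (r * β) (by
          rw [mul_smul, mul_smul, ← smul_add, hr])
        exact ha (by linear_combination β * h2 - α * h1)
  · right
    have hm : m e' ≠ 0 := by
      intro hm0
      obtain ⟨l', m', -, -, hexp'⟩ := exists_split f hf hsm e' he'0 hE'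
      have h1 : ∀ t : ℂ, l' e * (t * m' e + t ^ 2) = t * l e' := by
        intro t
        have := hexp' e t
        rw [hef, zero_add, add_comm, ← one_smul ℂ e, hformula, hm0, one_smul] at this
        linear_combination -this
      have h2 : l' e = 0 := by linear_combination (h1 1 + h1 (-1)) / 2
      have := h1 1
      rw [h2, zero_mul] at this
      exact hl (by linear_combination -this)
    let e'' : Fin 4 → ℂ := (1 : ℂ) • e' + (-m e') • e
    let σ : (Fin 4 → ℂ) →ₗ[ℂ] (Fin 4 → ℂ) := LinearMap.id - m.smulRight e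
    have hσ : ∀ v, σ v = v + (-m v) • e := fun v => by
      simp [σ, sub_eq_add_neg, neg_smul]
    have hσσ : ∀ v, σ (σ v) = v := by
      intro v
      rw [hσ, hσ, map_add, map_smul, hme, smul_eq_mul, add_assoc, ← add_smul,
        show -m v + -(m v + -m v * 2) = 0 by ring, zero_smul, add_zero]
    have hσf : ∀ v, eval (σ v) f = eval v f := by
      intro v; rw [hσ, hexp]; ring
    have hσe' : σ e' = e'' := by rw [hσ]; simp [e'']
    refine ⟨⟨e'', hmem _ _, ?_, ?_, ?_, ?_⟩, fun hLS => ?_⟩
    · intro h
      obtain ⟨r, hr⟩ := Submodule.mem_span_singleton.1 h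
      exact one_ne_zero (huniq (-m e') 1 r 0 (by rw [zero_smul, zero_add, hr])).1
    · intro h
      obtain ⟨r, hr⟩ := Submodule.mem_span_singleton.1 h
      exact hm (neg_eq_zero.1 (huniq (-m e') 1 0 r (by rw [zero_smul, add_zero, hr])).2)
    · obtain ⟨U, hU, hU'⟩ := hE'
      let S : (Fin 4 → ℂ) ≃ₗ[ℂ] (Fin 4 → ℂ) :=
        LinearEquiv.ofLinear σ σ (LinearMap.ext hσσ) (LinearMap.ext hσσ)
      refine ⟨fun i => (U i).map (S : (Fin 4 → ℂ) →ₗ[ℂ] (Fin 4 → ℂ)),
        fun i j h => hU (Submodule.map_injective_of_injective S.injective h), fun i => ⟨?_, ?_, ?_⟩⟩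
      · rw [LinearEquiv.finrank_map_eq]; exact (hU' i).1
      · exact hσe' ▸ Submodule.mem_map_of_mem (hU' i).2.1
      · rintro _ ⟨u, hu, rfl⟩
        exact (hσf u).trans ((hU' i).2.2 u hu)
    · intro u hu hu0
      obtain ⟨a, b, rfl⟩ := hspan u hu
      rw [hformula] at hu0
      rcases mul_eq_zero.1 hu0 with h | h
      · rcases mul_eq_zero.1 h with h | h
        · rcases mul_eq_zero.1 h with h | h
          · left; rw [h, zero_smul, zero_add]
            exact Submodule.smul_mem _ _ (Submodule.mem_span_singleton_self e)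
          · exact absurd h hl
        · right; left; rw [h, zero_smul, add_zero]
          exact Submodule.smul_mem _ _ (Submodule.mem_span_singleton_self e')
      · right; right
        refine Submodule.mem_span_singleton.2 ⟨b, ?_⟩
        rw [show a = -(b * m e') by linear_combination h]
        simp [e'', smul_add, smul_smul, neg_smul, mul_comm]
    · have := hLS _ (hmem 1 1)
      have h' := hLS _ (hmem 2 1)
      rw [hformula] at this h'
      apply hl
      linear_combination h' / 2 - this

end Groth.Agent.S18409
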