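import Groth.Statements.S18411
import Groth.Agent.CubicLead.Eckardt
import Mathlib.Analysis.Complex.Polynomial.Basic

set_option autoImplicit false
universe u
open Cubic

namespace Groth.Agent.S18411

open MvPolynomial in
/-- Let f be a nonzero homogeneous cubic in four variables over ℂ whose surface S = V_+(f) ⊂ P³ is
smooth (at every nonzero zero of f some partial derivative is nonzero); a line on S is a
2-dimensional subspace of ℂ⁴ on which f vanishes, and an Eckardt point of S is a nonzero vector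
lying on three distinct lines on S. Let e, e′, e″ be pairwise non-proportional Eckardt points of S
spanning a single plane L = span(e, e′) of ℂ⁴ on which f does not vanish identically (three
collinear Eckardt points whose line is not on S), and let A, A′, A″ be their Eckardt involutions: an
involutory matrix A (A² = 1) whose +1-eigenspace is a hyperplane and with A·e = −e, such that the
substitution X_i ↦ Σ_j A_ij X_j multiplies f by a constant — that is, a projective involution
preserving S whose fixed locus is the disjoint union of a plane and the point of e, and likewise for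
e′ and e″. Then the three involutions generate, as projective transformations, a group isomorphic to
the symmetric group on three letters: the product A·A′ is not a scalar matrix, its cube is, and A″
is a scalar multiple of A·A′·A. -/
theorem result (f : MvPolynomial (Fin 4) ℂ) (hf : f.IsHomogeneous 3)
    (hf0 : f ≠ 0) (hsm : ∀ v : Fin 4 → ℂ, v ≠ 0 → eval v f = 0 → ∃ i : Fin 4, eval v (pderiv i f) ≠ 0)
    (e e' e'' : Fin 4 → ℂ) (he : e ≠ 0) (he' : e' ∉ Submodule.span ℂ {e})
    (he''1 : e'' ∉ Submodule.span ℂ {e}) (he''2 : e'' ∉ Submodule.span ℂ {e'}) (he''L : e'' ∈ Submodule.span ℂ {e, e'})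
    (hE : (∃ U : Fin 3 → Submodule ℂ (Fin 4 → ℂ), Function.Injective U ∧
        ∀ i : Fin 3, Module.finrank ℂ ↥(U i) = 2 ∧ e ∈ U i ∧ ∀ u ∈ U i, eval u f = 0))
    (hE' : (∃ U : Fin 3 → Submodule ℂ (Fin 4 → ℂ), Function.Injective U ∧
        ∀ i : Fin 3, Module.finrank ℂ ↥(U i) = 2 ∧ e' ∈ U i ∧ ∀ u ∈ U i, eval u f = 0))
    (hE'' : (∃ U : Fin 3 → Submodule ℂ (Fin 4 → ℂ), Function.Injective U ∧
        ∀ i : Fin 3, Module.finrank ℂ ↥(U i) = 2 ∧ e'' ∈ U i ∧ ∀ u ∈ U i, eval u f = 0))
    (hL : ¬ ∀ u ∈ Submodule.span ℂ {e, e'}, eval u f = 0)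
    (A A' A'' : Matrix (Fin 4) (Fin 4) ℂ)
    (hA : A * A = 1 ∧ Module.finrank ℂ ↥(LinearMap.ker (Matrix.toLin' A - LinearMap.id)) = 3 ∧
        A.mulVec e = -e ∧ ∃ c : ℂ, aeval (fun i : Fin 4 => ∑ j : Fin 4, C (A i j) * X j) f = C c * f)
    (hA' : A' * A' = 1 ∧ Module.finrank ℂ ↥(LinearMap.ker (Matrix.toLin' A' - LinearMap.id)) = 3 ∧
        A'.mulVec e' = -e' ∧ ∃ c : ℂ, aeval (fun i : Fin 4 => ∑ j : Fin 4, C (A' i j) * X j) f = C c * f)
    (hA'' : A'' * A'' = 1 ∧ Module.finrank ℂ ↥(LinearMap.ker (Matrix.toLin' A'' - LinearMap.id)) = 3 ∧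
        A''.mulVec e'' = -e'' ∧ ∃ c : ℂ, aeval (fun i : Fin 4 => ∑ j : Fin 4, C (A'' i j) * X j) f = C c * f) :
    (¬ ∃ c : ℂ, A * A' = c • (1 : Matrix (Fin 4) (Fin 4) ℂ)) ∧ (∃ c : ℂ, (A * A') ^ 3 = c • (1 : Matrix (Fin 4) (Fin 4) ℂ)) ∧
      ∃ c : ℂ, A'' = c • (A * A' * A) := by
  obtain ⟨c, hc⟩ := CubicLead.exists_coeff hf
  have he'0 : e' ≠ 0 := fun h => he' (by simp [h])
  have hfe : eval e f = 0 := by simpa using CubicLead.Eck.eval_smul hE 1
  have hfe' : eval e' f = 0 := by simpa using CubicLead.Eck.eval_smul hE' 1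
  have hfe'' : eval e'' f = 0 := by simpa using CubicLead.Eck.eval_smul hE'' 1
  have he''0 : e'' ≠ 0 := fun h => he''1 (by simp [h])
  obtain ⟨m, hs⟩ := CubicLead.exists_split hc hsm he hE
  obtain ⟨m', hs'⟩ := CubicLead.exists_split hc hsm he'0 hE'
  obtain ⟨m'', hs''⟩ := CubicLead.exists_split hc hsm he''0 hE''
  have hform : ∀ x y : ℂ, eval (y • e' + x • e) f =
      y * CubicLead.grad c e e' * x * (x + y * m e') := by
    intro x y
    rw [hs.2.2.2, CubicLead.Eck.eval_smul hE', map_smul, map_smul, smul_eq_mul, smul_eq_mul]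
    ring
  have hl : CubicLead.grad c e e' ≠ 0 := fun h0 => hL fun u hu => by
    obtain ⟨x, y, rfl⟩ := Submodule.mem_span_pair.1 hu
    rw [add_comm, hform, h0]; ring
  have hab := CubicLead.ab_eq_one hs hs' hl
  have hA1 := CubicLead.IsInv.eq_refl hc hsm he hfe hs hA
  have hA2 := CubicLead.IsInv.eq_refl hc hsm he'0 hfe' hs' hA'
  have hA3 := CubicLead.IsInv.eq_refl hc hsm he''0 hfe'' hs'' hA''
  have hb : m' e ≠ 0 := fun h0 => by rw [h0, mul_zero] at hab; exact zero_ne_one hab
  have hcomp : ∀ v, A.mulVec (A'.mulVec (A.mulVec v)) =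
      v - (m' v - m' e * m v) • (e' - m e' • e) := by
    intro v
    simp only [hA1, hA2, CubicLead.refl_apply, map_sub, map_smul, smul_eq_mul, hs.2.2.1]
    have hb' : m' e = (m e')⁻¹ := eq_inv_of_mul_eq_one_right hab
    have ha0 : m e' ≠ 0 := fun h0 => by rw [h0, zero_mul] at hab; exact zero_ne_one hab
    match_scalars <;> (try simp only [hb']) <;> (try field_simp) <;> (try ring)
  refine ⟨?_, ⟨1, ?_⟩, ⟨1, ?_⟩⟩
  · rintro ⟨x, hx⟩
    have h1 := congrArg (fun M => Matrix.mulVec M e) hx
    simp only [← Matrix.mulVec_mulVec, Matrix.smul_mulVec, Matrix.one_mulVec, hA1, hA2,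
      CubicLead.refl_apply, map_sub, map_smul, smul_eq_mul, hs.2.2.1] at h1
    apply he'
    refine Submodule.mem_span_singleton.2
      ⟨(m' e)⁻¹ * (1 - (2 - m' e * m e') - x), ?_⟩
    rw [mul_smul, inv_smul_eq_iff₀ hb]
    linear_combination (norm := module) h1
  · rw [one_smul]
    apply Matrix.toLin'.injective
    refine LinearMap.ext fun v => ?_
    have hba : m' e * m e' = 1 := by rw [mul_comm, hab]
    simp only [pow_succ, pow_zero, one_mul, Matrix.toLin'_mul, Matrix.toLin'_one,
      LinearMap.comp_apply, LinearMap.id_apply, Matrix.toLin'_apply]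
    rw [hcomp]
    simp only [hA1, hA2, CubicLead.refl_apply, map_sub, map_smul, smul_eq_mul, hs.2.2.1,
      hs'.2.2.1]
    have hb' : m' e = (m e')⁻¹ := eq_inv_of_mul_eq_one_right hab
    have ha0 : m e' ≠ 0 := fun h0 => by rw [h0, zero_mul] at hab; exact zero_ne_one hab
    match_scalars <;> (try simp only [hb']) <;> (try field_simp) <;> (try ring)
  · have hx0 : e' - m e' • e ≠ 0 := fun h0 => he' (Submodule.mem_span_singleton.2
      ⟨m e', (sub_eq_zero.1 h0).symm⟩)
    obtain ⟨x, y, hxy⟩ := Submodule.mem_span_pair.1 he''L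
    have hy : y ≠ 0 := fun h0 => he''1 (by
      rw [← hxy, h0, zero_smul, add_zero]
      exact Submodule.smul_mem _ _ (Submodule.mem_span_singleton_self e))
    have hx : x = -(y * m e') := by
      have := hfe''
      rw [← hxy, add_comm, hform] at this
      rcases mul_eq_zero.1 this with h0 | h0
      · rcases mul_eq_zero.1 h0 with h1 | h1
        · exact absurd h1 (mul_ne_zero hy hl)
        · exact absurd (show e'' ∈ Submodule.span ℂ {e'} by
            rw [← hxy, h1, zero_smul, zero_add]
            exact Submodule.smul_mem _ _ (Submodule.mem_span_singleton_self e')) he''2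
      · linear_combination h0
    have he'' : e'' = y • (e' - m e' • e) := by rw [← hxy, hx]; module
    let μ : (Fin 4 → ℂ) →ₗ[ℂ] ℂ := y⁻¹ • (m' - m' e • m)
    have hμe : μ e'' = 2 := by
      simp only [μ, he'', map_smul, map_sub, LinearMap.smul_apply, LinearMap.sub_apply,
        smul_eq_mul, hs.2.2.1, hs'.2.2.1]
      field_simp
      ring
    have hB : ∀ v, A.mulVec (A'.mulVec (A.mulVec v)) = CubicLead.refl μ e'' v := by
      intro v
      rw [hcomp, CubicLead.refl_apply]
      simp only [μ, he'', LinearMap.smul_apply, LinearMap.sub_apply, smul_eq_mul, smul_smul]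
      congr 2
      field_simp
    have hfB : ∀ v, eval (CubicLead.refl μ e'' v) f = eval v f := by
      intro v
      rw [← hB]
      simp only [hA1, hA2, hs.refl_eval, hs'.refl_eval]
    have hB' := CubicLead.isInv_refl he''0 hμe hfB
    have hBs := CubicLead.IsInv.eq_refl hc hsm he''0 hfe'' hs'' hB'
    rw [one_smul]
    apply Matrix.toLin'.injective
    refine LinearMap.ext fun v => ?_
    simp only [Matrix.toLin'_mul, LinearMap.comp_apply, Matrix.toLin'_apply, hB]
    rw [hA3, ← hBs, ← Matrix.toLin'_apply, Matrix.toLin'_toMatrix']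

end Groth.Agent.S18411
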