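import Groth.Statements.S18412
import Groth.Agent.CubicLead.HesseFlex
import Mathlib.Analysis.Complex.Polynomial.Basic
import Mathlib.LinearAlgebra.Matrix.Permutation
import Mathlib.SetTheory.Cardinal.Finite
import Mathlib.Data.Fintype.Perm

set_option autoImplicit false
universe u
open Cubic

namespace Groth.Agent.S18412

open MvPolynomial Groth.Agent.CubicLead

section
variable {K : Type*} [Field K] [CharZero K]

/-- The symmetric trilinear form of the Hesse cubic. -/
def T3 (k : K) (x y z : Fin 3 → K) : K :=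
  x 0 * y 0 * z 0 + x 1 * y 1 * z 1 + x 2 * y 2 * z 2
    - k / 2 * (x 0 * y 1 * z 2 + x 0 * y 2 * z 1 + x 1 * y 0 * z 2 + x 1 * y 2 * z 0
      + x 2 * y 0 * z 1 + x 2 * y 1 * z 0)

lemma polarize (k : K) (x y z : Fin 3 → K) :
    6 * T3 k x y z = eval (x + y + z) (HesseCubic.form k) - eval (x + y) (HesseCubic.form k)
      - eval (y + z) (HesseCubic.form k) - eval (x + z) (HesseCubic.form k)
      + eval x (HesseCubic.form k) + eval y (HesseCubic.form k) + eval z (HesseCubic.form k) := by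
  simp [eval_form, T3]
  ring

lemma dot_polarMat (k : K) (x y z : Fin 3 → K) :
    ∑ i, ∑ j, y i * polarMat k x i j * z j = T3 k x y z := by
  simp [Fin.sum_univ_three, polarMat, T3]
  ring

/-- The Hessian covariance. -/
lemma prod_mulVec {k : K} (hk : k ^ 3 ≠ 1) {B : Matrix (Fin 3) (Fin 3) K} {c : K}
    (hB : B.det = 1) (h : ∀ x, eval (B.mulVec x) (HesseCubic.form k) =
      c * eval x (HesseCubic.form k)) (x : Fin 3 → K) :
    B.mulVec x 0 * B.mulVec x 1 * B.mulVec x 2 = c ^ 3 * (x 0 * x 1 * x 2)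
      + k ^ 2 * (c - c ^ 3) / (4 * (1 - k ^ 3)) * eval x (HesseCubic.form k) := by
  have hT : ∀ u v w, T3 k (B.mulVec u) (B.mulVec v) (B.mulVec w) = c * T3 k u v w := by
    intro u v w
    have h1 := polarize k (B.mulVec u) (B.mulVec v) (B.mulVec w)
    simp only [← Matrix.mulVec_add, h] at h1
    have h2 := polarize k u v w
    linear_combination h1 / 6 - c * h2 / 6
  have hM : B.transpose * polarMat k (B.mulVec x) * B = c • polarMat k x := by
    ext i j
    have h1 := hT x (Pi.single i 1) (Pi.single j 1)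
    rw [← dot_polarMat, ← dot_polarMat] at h1
    rw [Matrix.mulVec_single_one, Matrix.mulVec_single_one] at h1
    simp only [Matrix.col_apply] at h1
    rw [Matrix.smul_apply, smul_eq_mul]
    simp only [Matrix.mul_apply, Matrix.transpose_apply, Finset.sum_mul]
    rw [Finset.sum_comm, h1]
    congr 1
    simp [Pi.single_apply]
  have hd := congrArg Matrix.det hM
  rw [Matrix.det_mul, Matrix.det_mul, Matrix.det_transpose, hB, Matrix.det_smul, Fintype.card_fin,
    det_polarMat, det_polarMat, h, one_mul, mul_one] at hd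
  have hne : 1 - k ^ 3 ≠ 0 := sub_ne_zero.2 (Ne.symm hk)
  field_simp
  linear_combination 4 * hd

/-- A member `a * S - 3 b * P` of the pencil which is singular. -/
lemma sing_root {a b : K} {x : Fin 3 → K} (hx : x ≠ 0)
    (h : ∀ y : Fin 3 → K, ∃ β γ : K, ∀ t : K,
      a * ((x 0 + t * y 0) ^ 3 + (x 1 + t * y 1) ^ 3 + (x 2 + t * y 2) ^ 3)
        - 3 * b * ((x 0 + t * y 0) * (x 1 + t * y 1) * (x 2 + t * y 2)) = t ^ 2 * β + t ^ 3 * γ) :
    a = 0 ∨ b ^ 3 = a ^ 3 := by
  have key : ∀ y : Fin 3 → K, (a * x 0 ^ 2 - b * x 1 * x 2) * y 0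
      + (a * x 1 ^ 2 - b * x 0 * x 2) * y 1 + (a * x 2 ^ 2 - b * x 0 * x 1) * y 2 = 0 := by
    intro y
    obtain ⟨β, γ, hy⟩ := h y
    have e0 := hy 0
    have e1 := hy 1
    have e2 := hy (-1)
    have e3 := hy 2
    linear_combination (6 * e1 - 2 * e2 - e3 - 3 * e0) / 18
  have k0 : a * x 0 ^ 2 = b * x 1 * x 2 := by
    have := key (Pi.single 0 1); simp at this; linear_combination this
  have k1 : a * x 1 ^ 2 = b * x 0 * x 2 := by
    have := key (Pi.single 1 1); simp at this; linear_combination this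
  have k2 : a * x 2 ^ 2 = b * x 0 * x 1 := by
    have := key (Pi.single 2 1); simp at this; linear_combination this
  rcases eq_or_ne a 0 with ha | ha
  · exact Or.inl ha
  refine Or.inr ?_
  have hsq : ∀ v : K, a * v ^ 2 = 0 → v = 0 := fun v hv =>
    eq_zero_of_pow_eq_zero ((mul_eq_zero.1 hv).resolve_left ha)
  have hp : x 0 * x 1 * x 2 ≠ 0 := by
    intro hp
    apply hx
    rcases mul_eq_zero.1 hp with h' | h2
    · rcases mul_eq_zero.1 h' with h0 | h1
      · have h1 := hsq _ (k1.trans (by rw [h0]; ring))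
        have h2 := hsq _ (k2.trans (by rw [h0]; ring))
        funext i; fin_cases i <;> assumption
      · have h0 := hsq _ (k0.trans (by rw [h1]; ring))
        have h2 := hsq _ (k2.trans (by rw [h1]; ring))
        funext i; fin_cases i <;> assumption
    · have h0 := hsq _ (k0.trans (by rw [h2]; ring))
      have h1 := hsq _ (k1.trans (by rw [h2]; ring))
      funext i; fin_cases i <;> assumption
  have : (x 0 * x 1 * x 2) ^ 2 * (b ^ 3 - a ^ 3) = 0 := by
    linear_combination (-(a * x 1 ^ 2) * (a * x 2 ^ 2)) * k0 - (b * x 1 * x 2) * (a * x 2 ^ 2) * k1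
      - (b * x 1 * x 2) * (b * x 0 * x 2) * k2
  exact sub_eq_zero.1 ((mul_eq_zero.1 this).resolve_left (pow_ne_zero 2 hp))

/-- Roots of unity of order three. -/
lemma cube_cases {w : K} (hw : w ^ 2 + w + 1 = 0) {r : K} (hr : r ^ 3 = 1) :
    r = 1 ∨ r = w ∨ r = w ^ 2 := by
  have : (r - 1) * ((r - w) * (r - w ^ 2)) = 0 := by
    linear_combination hr + (r - r ^ 2 + (r - 1) * (w - 1)) * hw
  rcases mul_eq_zero.1 this with h | h
  · exact Or.inl (sub_eq_zero.1 h)
  · exact Or.inr ((mul_eq_zero.1 h).imp sub_eq_zero.1 sub_eq_zero.1)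

end

/-- A primitive cube root of unity. -/
lemma exists_omega : ∃ w : ℂ, w ^ 2 + w + 1 = 0 := by
  obtain ⟨r, hr⟩ := IsAlgClosed.exists_eq_mul_self (-3 : ℂ)
  exact ⟨(-1 + r) / 2, by linear_combination -hr / 4⟩

/-- The exceptional parameters. -/
noncomputable def excl (w : ℂ) : Finset ℂ := by
  classical
  exact insert 0 ({1, w, w ^ 2} ∪ (({1, w, w ^ 2} : Finset ℂ) ×ˢ ({1, w, w ^ 2} : Finset ℂ) ×ˢ
    (({1, w, w ^ 2} : Finset ℂ) ×ˢ ({1, w, w ^ 2} : Finset ℂ))).biUnion fun p =>
      (Polynomial.C (1 : ℂ) * Polynomial.X ^ 2 + Polynomial.C (-(p.1 + p.2.1)) * Polynomial.X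
        + Polynomial.C (p.1 * p.2.2.1 - p.2.2.2 * p.2.2.1 + p.2.2.2 * p.2.1)).roots.toFinset)

/-- For a generic parameter the pencil is fixed member by member. -/
lemma coeff_eq_zero {w : ℂ} (hw : w ^ 2 + w + 1 = 0) {k : ℂ} (hk : k ∉ excl w)
    {B : Matrix (Fin 3) (Fin 3) ℂ} {c g : ℂ} (hB : B.det = 1) (hc : c ≠ 0)
    (h : ∀ x, eval (B.mulVec x) (HesseCubic.form k) = c * eval x (HesseCubic.form k))
    (hP : ∀ x, B.mulVec x 0 * B.mulVec x 1 * B.mulVec x 2 =
      c ^ 3 * (x 0 * x 1 * x 2) + g * eval x (HesseCubic.form k)) : g = 0 := by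
  classical
  have hw3 : w ^ 3 = 1 := by linear_combination (w - 1) * hw
  have hmem : ∀ r : ℂ, r ^ 3 = 1 → r ∈ ({1, w, w ^ 2} : Finset ℂ) := fun r hr => by
    rcases cube_cases hw hr with rfl | rfl | rfl <;> simp
  simp only [excl, Finset.mem_insert, Finset.mem_union, not_or, Finset.mem_biUnion] at hk
  have hk1 : k ^ 3 ≠ 1 := fun h1 => by
    have := hmem k h1
    simp only [Finset.mem_insert, Finset.mem_singleton] at this
    rcases this with h' | h' | h'
    · exact hk.2.1.1 h'
    · exact hk.2.1.2.1 h'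
    · exact hk.2.1.2.2 (by simp [h'])
  by_contra hg
  have hunit : IsUnit B := (Matrix.isUnit_iff_isUnit_det B).2 (by rw [hB]; exact isUnit_one)
  have hinv : ∀ u, ∃ x, B.mulVec x = u := Matrix.mulVec_surjective_iff_isUnit.2 hunit
  have hdual : ∀ (u : Fin 3 → ℂ) (x y : Fin 3 → ℂ) (t : ℂ), B.mulVec x = u →
      B.mulVec (fun i => x i + t * y i) = fun i => u i + t * B.mulVec y i := by
    intro u x y t hu
    rw [show (fun i => x i + t * y i) = x + t • y from rfl, Matrix.mulVec_add, Matrix.mulVec_smul,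
      hu]
    rfl
  set b₀ := g * k - c ^ 3 / 3 with hb₀
  obtain ⟨x₀, hx₀⟩ := hinv ![1, 0, 0]
  have hρ := sing_root (a := g) (b := b₀) (x := x₀)
    (fun h0 => by rw [h0, Matrix.mulVec_zero] at hx₀; simpa using congrFun hx₀ 0)
    (fun y => ⟨B.mulVec y 1 * B.mulVec y 2, B.mulVec y 0 * B.mulVec y 1 * B.mulVec y 2,
      fun t => by
        have h1 := hP (fun i => x₀ i + t * y i)
        rw [hdual _ _ y t hx₀, eval_form] at h1
        simp only [Matrix.cons_val_zero, Matrix.cons_val_one, Matrix.cons_val] at h1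
        rw [hb₀]
        linear_combination -h1⟩)
  replace hρ := hρ.resolve_left hg
  set ρ := b₀ / g with hρdef
  have hρ3 : ρ ^ 3 = 1 := by rw [hρdef, div_pow, hρ, div_self (pow_ne_zero 3 hg)]
  have hb : b₀ = ρ * g := by rw [hρdef]; field_simp
  -- images of the triangles
  have himg : ∀ t : ℂ, t ^ 3 = 1 → c + 3 * k * g - 3 * t * g = 0 ∨
      ∃ σ : ℂ, σ ^ 3 = 1 ∧
        c * k + 3 * k * g * ρ - 3 * t * g * ρ = σ * (c + 3 * k * g - 3 * t * g) := by
    intro t ht
    obtain ⟨x₁, hx₁⟩ := hinv ![1, 1, t ^ 2]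
    have hr := sing_root (a := c + 3 * k * g - 3 * t * g)
      (b := c * k + 3 * k * g * ρ - 3 * t * g * ρ) (x := x₁)
      (fun h0 => by rw [h0, Matrix.mulVec_zero] at hx₁; simpa using congrFun hx₁ 0)
      (fun y => by
        refine ⟨3 * (B.mulVec y 0 ^ 2 + B.mulVec y 1 ^ 2 + t ^ 2 * B.mulVec y 2 ^ 2)
          - 3 * t * (B.mulVec y 1 * B.mulVec y 2 + B.mulVec y 0 * B.mulVec y 2
            + t ^ 2 * B.mulVec y 0 * B.mulVec y 1),
          eval (B.mulVec y) (HesseCubic.form t), fun s => ?_⟩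
        have h1 := hP (fun i => x₁ i + s * y i)
        have h2 := h (fun i => x₁ i + s * y i)
        rw [hdual _ _ y s hx₁, eval_form] at h1 h2
        rw [eval_form] at h2
        simp only [Matrix.cons_val_zero, Matrix.cons_val_one, Matrix.cons_val] at h1 h2
        rw [eval_form]
        set z0 := x₁ 0 + s * y 0
        set z1 := x₁ 1 + s * y 1
        set z2 := x₁ 2 + s * y 2
        linear_combination -h2 - (3 * k - 3 * t) * h1
          + (9 * (k - t) * (z0 * z1 * z2)) * (hb₀.symm.trans hb)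
          + (t ^ 3 - 2 + 3 * s * t * B.mulVec y 2 - 3 * s * (B.mulVec y 0 + B.mulVec y 1)) * ht)
    refine hr.imp id fun h3 => ?_
    rcases eq_or_ne (c + 3 * k * g - 3 * t * g) 0 with h0 | h0
    · refine ⟨1, one_pow 3, ?_⟩
      rw [h0, zero_pow three_ne_zero] at h3
      rw [h0, eq_zero_of_pow_eq_zero h3, mul_zero]
    · exact ⟨(c * k + 3 * k * g * ρ - 3 * t * g * ρ) / (c + 3 * k * g - 3 * t * g),
        by rw [div_pow, h3, div_self (pow_ne_zero 3 h0)], (div_mul_cancel₀ _ h0).symm⟩
  have hdist : (1 : ℂ) ≠ w ∧ (1 : ℂ) ≠ w ^ 2 ∧ w ≠ w ^ 2 := by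
    have h3 : (3 : ℂ) ≠ 0 := three_ne_zero
    refine ⟨?_, ?_, ?_⟩ <;> intro he <;> apply h3
    · linear_combination hw + (w + 2) * he
    · linear_combination -(w - 1) * he - (w - 2) * hw
    · linear_combination 4 * hw - (2 * w + 1) * (hw + he)
  -- one triangle goes to the coordinate triangle
  obtain ⟨t₀, ht₀, hA₀⟩ : ∃ t : ℂ, t ^ 3 = 1 ∧ c + 3 * k * g - 3 * t * g = 0 := by
    by_contra hh
    simp only [not_exists, not_and] at hh
    have hsig : ∀ t : ℂ, t ^ 3 = 1 → ∃ σ : ℂ, (σ = ρ * w ∨ σ = ρ * w ^ 2) ∧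
        c * k + 3 * k * g * ρ - 3 * t * g * ρ = σ * (c + 3 * k * g - 3 * t * g) := by
      intro t ht
      obtain ⟨σ, hσ, he⟩ := (himg t ht).resolve_left (hh t ht)
      refine ⟨σ, ?_, he⟩
      have hρ0 : ρ ≠ 0 := fun h0 => by rw [h0] at hρ3; norm_num at hρ3
      rcases cube_cases hw (r := σ / ρ) (by rw [div_pow, hσ, hρ3, div_one]) with h' | h' | h'
      · exfalso
        rw [div_eq_one_iff_eq hρ0] at h'
        rw [h'] at he
        have : c * (k - ρ) = 0 := by linear_combination he
        rcases mul_eq_zero.1 this with h0 | h0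
        · exact hc h0
        · exact hk1 (by rw [sub_eq_zero.1 h0, hρ3])
      · left; rw [← h']; field_simp
      · right; rw [← h']; field_simp
    obtain ⟨σ1, hσ1, he1⟩ := hsig 1 (one_pow 3)
    obtain ⟨σ2, hσ2, he2⟩ := hsig w hw3
    obtain ⟨σ3, hσ3, he3⟩ := hsig (w ^ 2) (by linear_combination (w ^ 3 + 1) * hw3)
    have hρ0 : ρ ≠ 0 := fun h0 => by rw [h0] at hρ3; norm_num at hρ3
    have hcl : ∀ (t t' σ : ℂ), σ ≠ ρ →
        c * k + 3 * k * g * ρ - 3 * t * g * ρ = σ * (c + 3 * k * g - 3 * t * g) →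
        c * k + 3 * k * g * ρ - 3 * t' * g * ρ = σ * (c + 3 * k * g - 3 * t' * g) → t = t' := by
      intro t t' σ hs e e'
      have : 3 * g * (σ - ρ) * (t - t') = 0 := by linear_combination e - e'
      exact sub_eq_zero.1 ((mul_eq_zero.1 this).resolve_left
        (mul_ne_zero (mul_ne_zero three_ne_zero hg) (sub_ne_zero.2 hs)))
    have n1 : ρ * w ≠ ρ := fun e => hdist.1 (mul_left_cancel₀ hρ0 (e.trans (mul_one ρ).symm)).symm
    have n2 : ρ * w ^ 2 ≠ ρ := fun e =>
      hdist.2.1 (mul_left_cancel₀ hρ0 (e.trans (mul_one ρ).symm)).symm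
    rcases hσ1 with rfl | rfl <;> rcases hσ2 with rfl | rfl <;> rcases hσ3 with rfl | rfl
    all_goals first
      | exact hdist.1 (hcl _ _ _ (by assumption) he1 he2)
      | exact hdist.2.1 (hcl _ _ _ (by assumption) he1 he3)
      | exact hdist.2.2 (hcl _ _ _ (by assumption) he2 he3)
  have ht₁ : (t₀ * w) ^ 3 = 1 := by rw [mul_pow, ht₀, hw3, one_mul]
  have hne : t₀ * w ≠ t₀ := fun e => by
    have ht0 : t₀ ≠ 0 := fun h0 => by rw [h0] at ht₀; norm_num at ht₀
    exact hdist.1 (mul_left_cancel₀ ht0 (e.trans (mul_one t₀).symm)).symm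
  obtain ⟨σ, hσ, he⟩ := (himg _ ht₁).resolve_left (fun h1 => by
    have : 3 * g * (t₀ * w - t₀) = 0 := by linear_combination hA₀ - h1
    exact mul_ne_zero (mul_ne_zero three_ne_zero hg) (sub_ne_zero.2 hne) this)
  -- `k` is a root of one of finitely many quadratics
  apply hk.2.2
  refine ⟨(t₀, ρ, σ, t₀ * w), ?_, ?_⟩
  · simp only [Finset.mem_product]
    exact ⟨hmem _ ht₀, hmem _ hρ3, hmem _ hσ, hmem _ ht₁⟩
  · rw [Multiset.mem_toFinset, Polynomial.mem_roots]
    · have h3 : 3 * g * (k ^ 2 - (t₀ + ρ) * k + (t₀ * σ - t₀ * w * σ + t₀ * w * ρ)) = 0 := by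
        linear_combination -he + (k - σ) * hA₀
      have h4 := (mul_eq_zero.1 h3).resolve_left (mul_ne_zero three_ne_zero hg)
      simp only [Polynomial.IsRoot, Polynomial.eval_add, Polynomial.eval_mul, Polynomial.eval_C,
        Polynomial.eval_pow, Polynomial.eval_X]
      linear_combination h4
    · intro h0
      have := congrArg (fun p => Polynomial.coeff p 2) h0
      simp [Polynomial.coeff_X, Polynomial.coeff_C] at this

/-- A matrix carrying the coordinate triangle to a multiple of itself is monomial. -/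
lemma exists_monomial {B : Matrix (Fin 3) (Fin 3) ℂ} {a : ℂ} (hB : B.det = 1)
    (hP : ∀ x, B.mulVec x 0 * B.mulVec x 1 * B.mulVec x 2 = a * (x 0 * x 1 * x 2)) :
    ∃ (σ : Equiv.Perm (Fin 3)) (q : Fin 3 → ℂ), B = Matrix.diagonal q * σ.permMatrix ℂ := by
  classical
  let row : Fin 3 → (Fin 3 → ℂ) →ₗ[ℂ] ℂ := fun i => (LinearMap.proj i).comp (Matrix.toLin' B)
  let cut : Fin 3 → (Fin 3 → ℂ) →ₗ[ℂ] (Fin 3 → ℂ) := fun j =>
    LinearMap.pi fun l => if l = j then 0 else LinearMap.proj l
  have hcut : ∀ j, ∃ i, ∀ l, l ≠ j → B i l = 0 := by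
    intro j
    have hprod : ∀ x, (row 0).comp (cut j) x * (row 1).comp (cut j) x * (row 2).comp (cut j) x
        = 0 := by
      intro x
      show B.mulVec (cut j x) 0 * B.mulVec (cut j x) 1 * B.mulVec (cut j x) 2 = 0
      rw [hP]
      fin_cases j <;> simp [cut]
    have hz : ∀ i, (row i).comp (cut j) = 0 → ∀ l, l ≠ j → B i l = 0 := by
      intro i hi l hl
      have hcl : cut j (Pi.single l 1) = Pi.single l 1 := by
        funext m
        simp only [cut, LinearMap.pi_apply]
        split_ifs with hm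
        · subst hm; simp [Ne.symm hl]
        · rfl
      have := LinearMap.congr_fun hi (Pi.single l 1)
      simp only [LinearMap.comp_apply, hcl, LinearMap.zero_apply] at this
      simpa [row] using this
    by_cases h0 : (row 0).comp (cut j) = 0
    · exact ⟨0, hz 0 h0⟩
    by_cases h1 : (row 1).comp (cut j) = 0
    · exact ⟨1, hz 1 h1⟩
    exact ⟨2, hz 2 (eq_zero_of_mul_mul_eq_zero h0 h1 hprod)⟩
  choose τ hτ using hcut
  have hinj : Function.Injective τ := by
    intro j j' he
    by_contra hne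
    have hz : ∀ l, B (τ j) l = 0 := by
      intro l
      by_cases hl : l = j
      · rw [he]; exact hτ j' l (by rw [hl]; exact hne)
      · exact hτ j l hl
    exact one_ne_zero (hB.symm.trans (Matrix.det_eq_zero_of_row_eq_zero (τ j) hz))
  let e : Equiv.Perm (Fin 3) := Equiv.ofBijective τ (Finite.injective_iff_bijective.1 hinj)
  refine ⟨e.symm, fun i => B i (e.symm i), ?_⟩
  ext i l
  rw [Matrix.diagonal_mul]
  simp only [Equiv.Perm.permMatrix, Equiv.toPEquiv_apply, PEquiv.toMatrix_apply, Option.mem_def,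
    Option.some.injEq]
  split_ifs with hl
  · rw [hl, mul_one]
  · rw [mul_zero]
    have := hτ (e.symm i) l (Ne.symm hl)
    rwa [show τ (e.symm i) = i from e.apply_symm_apply i] at this

lemma mulVec_monomial (σ : Equiv.Perm (Fin 3)) (q x : Fin 3 → ℂ) (i : Fin 3) :
    (Matrix.diagonal q * σ.permMatrix ℂ).mulVec x i = q i * x (σ i) := by
  rw [← Matrix.mulVec_mulVec, Matrix.mulVec_diagonal, Matrix.permMatrix_mulVec]
  rfl

lemma form_monomial (σ : Equiv.Perm (Fin 3)) (q x : Fin 3 → ℂ) (k : ℂ) :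
    eval ((Matrix.diagonal q * σ.permMatrix ℂ).mulVec x) (HesseCubic.form k) =
      (∑ i, q i ^ 3 * x (σ i) ^ 3) - 3 * k * ((∏ i, q i) * ∏ i, x i) := by
  rw [← Equiv.prod_comp σ x, ← Finset.prod_mul_distrib]
  simp [eval_form, mulVec_monomial, Fin.sum_univ_three, Fin.prod_univ_three]
  ring


open MvPolynomial in
/-- For all k ∈ ℂ outside a finite set, the Hesse cubic h_k = X₀³ + X₁³ + X₂³ − 3k·X₀X₁X₂ has exactly 18
projective automorphisms; spelled without quotients as: the matrices A of determinant 1 whose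
substitution X_i ↦ Σ_j A_ij X_j carries h_k to a constant multiple of h_k are exactly 54 in number
(every projective class has three lifts of determinant one, so 54 = 3 · 18). As every smooth plane
cubic over ℂ is projectively equivalent to some h_k, this is the statement that the general smooth
plane cubic has a projective automorphism group of order 18. -/
theorem result :
    ∃ T : Finset ℂ, ∀ k : ℂ, k ∉ T →
      Nat.card {A : Matrix (Fin 3) (Fin 3) ℂ // A.det = 1 ∧
        ∃ c : ℂ, aeval (fun i : Fin 3 => ∑ j : Fin 3, C (A i j) * X j) (HesseCubic.form k) =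
          C c * HesseCubic.form k} = 54 := by
  classical
  obtain ⟨w, hw⟩ := exists_omega
  refine ⟨excl w, fun k hk => ?_⟩
  have hw3 : w ^ 3 = 1 := by linear_combination (w - 1) * hw
  have hk' := hk
  simp only [excl, Finset.mem_insert, Finset.mem_union, not_or] at hk'
  have hk0 : k ≠ 0 := hk'.1
  have hk1 : k ^ 3 ≠ 1 := fun h1 => by
    have h2 := hk'.2.1
    rcases cube_cases hw h1 with h' | h' | h' <;> simp [h'] at h2
  let sg : Equiv.Perm (Fin 3) → ℂ := fun σ => ((Equiv.Perm.sign σ : ℤ) : ℂ)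
  have hsg : ∀ σ, sg σ * sg σ = 1 := fun σ => by
    simp only [sg, ← Int.cast_mul, Int.units_coe_mul_self, Int.cast_one]
  have hsg3 : ∀ σ, sg σ ^ 3 = sg σ := fun σ => by linear_combination sg σ * hsg σ
  let q : Equiv.Perm (Fin 3) × Fin 3 × Fin 3 → Fin 3 → ℂ := fun p =>
    ![sg p.1 * w ^ (p.2.1 : ℕ), sg p.1 * w ^ (p.2.2 : ℕ),
      sg p.1 * w ^ (2 * (p.2.1 : ℕ) + 2 * (p.2.2 : ℕ))]
  have hwpow : ∀ i : ℕ, (w ^ i) ^ 3 = 1 := fun i => by
    rw [← pow_mul, mul_comm, pow_mul, hw3, one_pow]
  have hq3 : ∀ p i, q p i ^ 3 = sg p.1 := by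
    intro p i
    fin_cases i <;> simp [q, mul_pow, hsg3, hwpow]
  have hqprod : ∀ p, ∏ i, q p i = sg p.1 := by
    intro p
    simp only [Fin.prod_univ_three, q, Matrix.cons_val_zero, Matrix.cons_val_one, Matrix.cons_val]
    rw [show sg p.1 * w ^ (p.2.1 : ℕ) * (sg p.1 * w ^ (p.2.2 : ℕ)) *
      (sg p.1 * w ^ (2 * (p.2.1 : ℕ) + 2 * (p.2.2 : ℕ))) =
        sg p.1 ^ 3 * ((w ^ (p.2.1 : ℕ)) ^ 3 * (w ^ (p.2.2 : ℕ)) ^ 3) by ring,
      hwpow, hwpow, hsg3]
    ring
  have hdet : ∀ (σ : Equiv.Perm (Fin 3)) (r : Fin 3 → ℂ),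
      (Matrix.diagonal r * σ.permMatrix ℂ).det = (∏ i, r i) * sg σ := fun σ r => by
    rw [Matrix.det_mul, Matrix.det_diagonal, Matrix.det_permutation]
  have hΦ : ∀ p, (Matrix.diagonal (q p) * p.1.permMatrix ℂ).det = 1 ∧
      ∃ c : ℂ, aeval (fun i : Fin 3 => ∑ j : Fin 3,
        C ((Matrix.diagonal (q p) * p.1.permMatrix ℂ) i j) * X j) (HesseCubic.form k) =
          C c * HesseCubic.form k := by
    intro p
    refine ⟨by rw [hdet, hqprod, hsg], sg p.1, ?_⟩
    rw [aeval_matrix_eq_iff]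
    intro x
    rw [form_monomial, map_mul, eval_C, eval_form, hqprod]
    simp only [hq3]
    rw [← Finset.mul_sum, Equiv.sum_comp p.1 (fun i => x i ^ 3)]
    simp [Fin.sum_univ_three, Fin.prod_univ_three]
    ring
  have hwinj : ∀ i j : Fin 3, w ^ (i : ℕ) = w ^ (j : ℕ) → i = j := by
    have h3 : (3 : ℂ) ≠ 0 := three_ne_zero
    have a1 : (1 : ℂ) ≠ w := fun he => h3 (by linear_combination hw + (w + 2) * he)
    have a2 : (1 : ℂ) ≠ w ^ 2 := fun he =>
      a1 (by linear_combination -w * he - hw3)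
    have a3 : w ≠ w ^ 2 := fun he => a1 (by linear_combination w ^ 2 * he + (w - 1) * hw3)
    intro i j hij
    fin_cases i <;> fin_cases j <;> simp [-sq_eq_one_iff] at hij ⊢
    all_goals first
      | exact a1 hij | exact a1 hij.symm | exact a2 hij | exact a2 hij.symm
      | exact a3 hij | exact a3 hij.symm
  let Φ : Equiv.Perm (Fin 3) × Fin 3 × Fin 3 →
      {A : Matrix (Fin 3) (Fin 3) ℂ // A.det = 1 ∧
        ∃ c : ℂ, aeval (fun i : Fin 3 => ∑ j : Fin 3, C (A i j) * X j) (HesseCubic.form k) =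
          C c * HesseCubic.form k} := fun p => ⟨_, hΦ p⟩
  have hne : ∀ p i, q p i ≠ 0 := fun p i h0 => by
    have := hq3 p i
    rw [h0, zero_pow three_ne_zero] at this
    exact mul_ne_zero (a := sg p.1) (b := sg p.1) (left_ne_zero_of_mul_eq_one (hsg p.1))
      (left_ne_zero_of_mul_eq_one (hsg p.1)) (by rw [← this, mul_zero])
  have hbij : Function.Bijective Φ := by
    constructor
    · intro p p' hpp
      have hM : ∀ (x : Fin 3 → ℂ) (i : Fin 3), q p i * x (p.1 i) = q p' i * x (p'.1 i) := fun x i => by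
        have := congrArg (fun A => A.1.mulVec x i) hpp
        simpa only [Φ, mulVec_monomial] using this
      have hσ : p.1 = p'.1 := by
        ext i : 1
        by_contra hcon
        have := hM (Pi.single (p.1 i) 1) i
        rw [Pi.single_eq_same, Pi.single_eq_of_ne (Ne.symm hcon), mul_one, mul_zero] at this
        exact hne p i this
      have hqq : ∀ i, q p i = q p' i := fun i => by
        have := hM 1 i
        simpa using this
      have h0 := hqq 0
      have h1 := hqq 1
      simp only [q, Matrix.cons_val_zero, Matrix.cons_val_one, hσ] at h0 h1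
      have hs0 : sg p'.1 ≠ 0 := left_ne_zero_of_mul_eq_one (hsg p'.1)
      exact Prod.ext hσ (Prod.ext (hwinj _ _ (mul_left_cancel₀ hs0 h0))
        (hwinj _ _ (mul_left_cancel₀ hs0 h1)))
    · rintro ⟨B, hB, c, hc⟩
      rw [aeval_matrix_eq_iff] at hc
      simp only [map_mul, eval_C] at hc
      have hc0 : c ≠ 0 := by
        rintro rfl
        obtain ⟨x, hx⟩ := Matrix.mulVec_surjective_iff_isUnit.2
          ((Matrix.isUnit_iff_isUnit_det B).2 (by rw [hB]; exact isUnit_one))
          (Pi.single 0 1)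
        have := hc x
        rw [hx, eval_form] at this
        simp at this
      have hP := prod_mulVec hk1 hB hc
      have hg := coeff_eq_zero hw hk hB hc0 hc hP
      simp only [hg, zero_mul, add_zero] at hP
      obtain ⟨σ, r, rfl⟩ := exists_monomial hB hP
      have hr3 : ∀ i, r i ^ 3 = c := by
        intro i
        have := hc (Pi.single (σ i) 1)
        rw [form_monomial, eval_form, Fin.prod_univ_three] at this
        rw [Finset.sum_eq_single i (fun j _ hj => by
          rw [Pi.single_eq_of_ne (σ.injective.ne hj), zero_pow three_ne_zero, mul_zero])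
          (fun h => absurd (Finset.mem_univ i) h)] at this
        generalize σ i = m at this
        fin_cases m <;> simpa [Fin.prod_univ_three] using this
      have hprod : ∏ i, r i = c := by
        have := hc 1
        rw [form_monomial, eval_form] at this
        simp only [hr3, Pi.one_apply, one_pow, mul_one, Finset.prod_const_one, Finset.sum_const,
          Finset.card_univ, Fintype.card_fin, nsmul_eq_mul] at this
        have h3 : 3 * k * (∏ i, r i - c) = 0 := by push_cast at this; linear_combination -this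
        exact sub_eq_zero.1 ((mul_eq_zero.1 h3).resolve_left (mul_ne_zero three_ne_zero hk0))
      rw [hdet, hprod] at hB
      have hcs : c = sg σ := by linear_combination sg σ * hB - c * hsg σ
      have hroot : ∀ i, ∃ j : Fin 3, r i = sg σ * w ^ (j : ℕ) := by
        intro i
        have h1 : (sg σ * r i) ^ 3 = 1 := by rw [mul_pow, hsg3, hr3, hcs, hsg]
        have h2 : r i = sg σ * (sg σ * r i) := by rw [← mul_assoc, hsg, one_mul]
        rcases cube_cases hw h1 with h | h | h
        · exact ⟨0, by rw [h] at h2; simpa using h2⟩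
        · exact ⟨1, by rw [h] at h2; simpa using h2⟩
        · exact ⟨2, by rw [h] at h2; simpa using h2⟩
      obtain ⟨i, hi⟩ := hroot 0
      obtain ⟨j, hj⟩ := hroot 1
      refine ⟨(σ, i, j), Subtype.ext ?_⟩
      show Matrix.diagonal (q (σ, i, j)) * σ.permMatrix ℂ = _
      congr 2
      have h2 : q (σ, i, j) 2 = r 2 := by
        have e1 := hqprod (σ, i, j)
        rw [← hcs, ← hprod, Fin.prod_univ_three, Fin.prod_univ_three,
          show q (σ, i, j) 0 = r 0 from hi.symm, show q (σ, i, j) 1 = r 1 from hj.symm] at e1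
        refine mul_left_cancel₀ ?_ e1
        intro h0
        rw [Fin.prod_univ_three, h0, zero_mul] at hprod
        exact hc0 hprod.symm
      funext l
      fin_cases l
      · exact hi.symm
      · exact hj.symm
      · exact h2
  rw [← Nat.card_congr (Equiv.ofBijective Φ hbij), Nat.card_prod, Nat.card_prod, Nat.card_fin,
    Nat.card_eq_fintype_card, Fintype.card_perm, Fintype.card_fin]
  rfl

end Groth.Agent.S18412
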