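import Groth.Statements.S18423
import Groth.Agent.Unram.Discriminant
import Groth.Agent.S0249
import Mathlib.RingTheory.Unramified.Locus
import Mathlib.RingTheory.Kaehler.TensorProduct

set_option autoImplicit false
universe u v
open Pi1
open scoped TensorProduct

namespace Groth.Agent.S18423

/-- Let A be a Noetherian local ring of Krull dimension at least 2 and B a finite flat commutative
A-algebra. If B is etale over A at every prime of B lying over a non-maximal prime of A (that is,
Spec B is etale over the punctured spectrum of A), then B is etale over A. -/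
theorem result (A : Type u) (B : Type v) [CommRing A] [CommRing B]
    [Algebra A B] [IsNoetherianRing A] [IsLocalRing A] (hdim : (2 : WithBot ℕ∞) ≤ ringKrullDim A)
    [Module.Finite A B] [Module.Flat A B]
    (h : ∀ q : PrimeSpectrum B, q.asIdeal.comap (algebraMap A B) ≠ IsLocalRing.maximalIdeal A →
      Algebra.IsEtaleAt A q.asIdeal) :
    Algebra.Etale A B := by
  classical
  have : Module.Free A B := Module.free_of_flat_of_isLocalRing
  let b := Module.Free.chooseBasis A B
  rw [Unram.etale_iff_isUnit_discr b]
  by_contra hu
  obtain ⟨p, hp, hfp', hht⟩ := S0249.result A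
    (le_trans (by norm_num) hdim) _ ((IsLocalRing.mem_maximalIdeal _).mpr hu)
  have hpm : p ≠ IsLocalRing.maximalIdeal A := by
    rintro rfl
    rw [← IsLocalRing.maximalIdeal_height_eq_ringKrullDim, hht] at hdim
    exact absurd (WithBot.coe_le_coe.mp hdim) (by norm_num)
  let J : Ideal A := (Module.annihilator B Ω[B⁄A]).comap (algebraMap A B)
  have hJ : ¬ J ≤ p := by
    intro hle
    obtain ⟨Q, hQ, hQp, hQc⟩ := Ideal.exists_ideal_over_prime_of_isIntegral p _ hle
    have het : Algebra.IsEtaleAt A Q := h ⟨Q, hQp⟩ (by rw [hQc]; exact hpm)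
    have hu' : (⟨Q, hQp⟩ : PrimeSpectrum B) ∈ Algebra.unramifiedLocus A B :=
      (inferInstance : Algebra.FormallyUnramified A (Localization.AtPrime Q))
    rw [Algebra.unramifiedLocus_eq_compl_support, Set.mem_compl_iff, Module.support_eq_zeroLocus] at hu'
    exact hu' hQ
  obtain ⟨s, hsJ, hsp⟩ := SetLike.not_le_iff_exists.mp hJ
  let R := Localization.AtPrime p
  have hu1 : IsUnit (algebraMap A R s) := IsLocalization.map_units R (⟨s, hsp⟩ : p.primeCompl)
  have hsub : Subsingleton (R ⊗[A] Ω[B⁄A]) := by
    refine subsingleton_of_forall_eq 0 fun x => ?_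
    have h0 : algebraMap A R s • x = 0 := by
      induction x using TensorProduct.induction_on with
      | zero => simp
      | add x y hx hy => simp [smul_add, hx, hy]
      | tmul r w =>
        rw [algebraMap_smul, TensorProduct.smul_tmul', TensorProduct.smul_tmul, ← algebraMap_smul B,
          Module.mem_annihilator.mp hsJ w, TensorProduct.tmul_zero]
    exact hu1.smul_eq_zero.mp h0
  letI : Algebra B (R ⊗[A] B) := Algebra.TensorProduct.rightAlgebra
  have e := (KaehlerDifferential.isBaseChange A R B (R ⊗[A] B)).equiv
  have : Algebra.FormallyUnramified R (R ⊗[A] B) := ⟨e.toEquiv.symm.subsingleton⟩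
  have hfp : Module.FinitePresentation R (R ⊗[A] B) := Module.finitePresentation_of_projective _ _
  have : Algebra.Etale R (R ⊗[A] B) := Algebra.Etale.of_formallyUnramified_of_flat
  have hdu := Unram.isUnit_discr_of_etale (Algebra.TensorProduct.basis R b)
  rw [Unram.discr_baseChange] at hdu
  exact (IsLocalization.AtPrime.isUnit_to_map_iff R p _).mp hdu hfp'

end Groth.Agent.S18423
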