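import Groth.Statements.S18426
import Groth.Agent.EGA2Curve.RelNormal
import Groth.Agent.DivPts.NormalIso


set_option autoImplicit false
set_option backward.isDefEq.respectTransparency false
universe u
open Pi1

namespace Groth.Agent.S18426

open AlgebraicGeometry CategoryTheory CategoryTheory.Limits in
/-- Suppose X is an integral scheme that is Noetherian and normal, write K for its function field, and
take L to be a finite separable extension of K. Then the normalization of X in L, namely the
relative normalization of the morphism Spec L → Spec K → X, is finite over X. (That this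
normalization is a normal integral scheme with function field L is not restated.) -/
theorem result {X : Scheme.{u}} [IsIntegral X] [IsNoetherian X]
    (hX : Pi1.IsNormalScheme X) (L : Type u) [Field L] [Algebra X.functionField L] [FiniteDimensional X.functionField L]
    [Algebra.IsSeparable X.functionField L]
    [QuasiCompact (Spec.map (CommRingCat.ofHom (algebraMap X.functionField L)) ≫ X.fromSpecStalk (genericPoint X))]
    [QuasiSeparated (Spec.map (CommRingCat.ofHom (algebraMap X.functionField L)) ≫ X.fromSpecStalk (genericPoint X))] :
    IsFinite (Spec.map (CommRingCat.ofHom (algebraMap X.functionField L)) ≫ X.fromSpecStalk (genericPoint X)).fromNormalization := by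
  let φ : X.functionField →+* L := algebraMap X.functionField L
  let g := Spec.map (CommRingCat.ofHom φ) ≫ X.fromSpecStalk (genericPoint X)
  refine { finite_app := fun U hU => ?_ }
  rcases isEmpty_or_nonempty U with hUe | hUn
  · have hbot : U = ⊥ := by
      ext a; simpa using fun ha => hUe.false ⟨a, ha⟩
    subst hbot
    haveI : Subsingleton Γ(g.normalization, g.fromNormalization ⁻¹ᵁ (⊥ : X.Opens)) := by
      rw [Scheme.Hom.preimage_bot]; infer_instance
    exact RingHom.Finite.of_surjective _ fun b => ⟨0, Subsingleton.elim _ _⟩
  obtain ⟨⟨z, hz⟩⟩ := hUn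
  have hη : genericPoint X ∈ U := (genericPoint_specializes z).mem_open U.2 hz
  obtain ⟨c⟩ := Groth.Agent.EGA2Curve.nonempty_chart (φ := φ) (g := g) rfl hU hη
  haveI : Nonempty U := ⟨⟨z, hz⟩⟩
  haveI : IsNoetherianRing Γ(X, U) := IsLocallyNoetherian.component_noetherian ⟨U, hU⟩
  haveI : IsIntegrallyClosed Γ(X, U) := Groth.Agent.DivPts.isIntegrallyClosed_sections hX hU
  letI : Algebra Γ(X, U) X.functionField := (X.presheaf.germ U _ hη).hom.toAlgebra
  haveI : IsFractionRing Γ(X, U) X.functionField := functionField_isFractionRing_of_isAffineOpen X U hU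
  letI : Algebra Γ(X, U) L := (φ.comp (X.presheaf.germ U _ hη).hom).toAlgebra
  haveI : IsScalarTower Γ(X, U) X.functionField L := IsScalarTower.of_algebraMap_eq fun _ => rfl
  haveI : Module.Finite Γ(X, U) (integralClosure Γ(X, U) L) :=
    IsIntegralClosure.finite Γ(X, U) X.functionField L (integralClosure Γ(X, U) L)
  letI : Algebra Γ(X, U) Γ(g.normalization, g.fromNormalization ⁻¹ᵁ U) := (g.fromNormalization.app U).hom.toAlgebra
  let θ : Γ(g.normalization, g.fromNormalization ⁻¹ᵁ U) →ₗ[Γ(X, U)] integralClosure Γ(X, U) L :=
    { toFun := fun b => ⟨c.θ b, (c.range (c.θ b)).1 ⟨b, rfl⟩⟩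
      map_add' := fun a b => Subtype.ext (map_add c.θ a b)
      map_smul' := fun r a => Subtype.ext (by
        show c.θ (r • a) = r • c.θ a
        rw [Algebra.smul_def, Algebra.smul_def, map_mul]
        exact congrArg (· * c.θ a) (c.comp r)) }
  exact Module.Finite.of_injective θ fun a b h => c.inj (congrArg Subtype.val h)

end Groth.Agent.S18426
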