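import Groth.Statements.S18428
import Mathlib

set_option autoImplicit false
universe u
open scoped FintypeCatDiscrete
open Pi1

namespace Groth.Agent.S18428

open CategoryTheory
open scoped CategoryTheory.PreGaloisCategory

variable {G : Type u} [Group G] [TopologicalSpace G] [IsTopologicalGroup G]

/-- finite sets with continuous action -/
abbrev GSet (G : Type u) [Group G] [TopologicalSpace G] := ContAction FintypeCat.{u} G
/-- the forgetful functor -/
abbrev FF (G : Type u) [Group G] [TopologicalSpace G] : GSet G ⥤ FintypeCat.{u} :=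
  forget₂ (ContAction FintypeCat.{u} G) FintypeCat.{u}

/-- a finite set with a continuous action -/
noncomputable def mkObj (X : Type u) [Finite X] [MulAction G X]
    (h : ∀ x : X, IsOpen (MulAction.stabilizer G x : Set G)) : (GSet G) :=
  ⟨Action.FintypeCat.ofMulAction G (FintypeCat.of X), by
    rw [Action.isContinuous_def]
    haveI : DiscreteTopology ((forget₂ (Action FintypeCat G) TopCat).obj
        (Action.FintypeCat.ofMulAction G (FintypeCat.of X))) := ⟨rfl⟩
    refine continuous_def.2 fun U _ => isOpen_prod_iff.2 fun g x hgx => ?_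
    refine ⟨(fun k => g⁻¹ * k) ⁻¹' (MulAction.stabilizer G (show X from x) : Set G), {x},
      (h x).preimage (continuous_const_mul _), isOpen_discrete _, ?_, rfl, ?_⟩
    · show g⁻¹ * g ∈ MulAction.stabilizer G (show X from x)
      rw [inv_mul_cancel]; exact one_mem _
    · rintro ⟨k, y⟩ ⟨hk, hy⟩
      rw [show y = x from hy]
      have hk' : (g⁻¹ * k) • (show X from x) = x := hk
      rw [mul_smul, inv_smul_eq_iff] at hk'
      show (k • (show X from x) : X) ∈ (U : Set X)
      rw [hk']
      exact hgx⟩

theorem isOpen_fibre (X : (GSet G)) (x : X.obj.V) (y : X.obj.V) :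
    IsOpen {g : G | (X.obj.ρ g).hom x = y} := by
  have hc := (Action.isContinuous_def X.obj).1 X.property
  have : Continuous fun g : G => ((CategoryTheory.forget₂ FintypeCat TopCat).map (X.obj.ρ g)) x :=
    hc.comp (Continuous.prodMk_left _)
  haveI hd : DiscreteTopology ((CategoryTheory.forget₂ FintypeCat TopCat).obj X.obj.V) := ⟨rfl⟩
  exact (isOpen_discrete ({y} : Set ((CategoryTheory.forget₂ FintypeCat TopCat).obj X.obj.V))).preimage this

theorem ρ_mul (X : (GSet G)) (a b : G) (x : X.obj.V) :
    (X.obj.ρ (a * b)).hom x = (X.obj.ρ a).hom ((X.obj.ρ b).hom x) := by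
  rw [map_mul]; rfl

theorem natural (φ : Aut (FF G)) {X Y : (GSet G)} (f : X ⟶ Y) (x : X.obj.V) :
    φ.hom.app Y (f.hom.hom x) = f.hom.hom (φ.hom.app X x) :=
  NatTrans.naturality_apply φ.hom f x

/-- the action of `g` on every object -/
noncomputable def act : G →* Aut (FF G) where
  toFun g := NatIso.ofComponents (fun X => Action.ρAut X.obj g) (fun {X Y} f => (f.hom.comm g).symm)
  map_one' := by
    apply Iso.ext; apply NatTrans.ext; funext X
    exact congrArg Iso.hom (map_one (Action.ρAut X.obj))
  map_mul' g g' := by
    apply Iso.ext; apply NatTrans.ext; funext X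
    exact congrArg Iso.hom (map_mul (Action.ρAut X.obj) g g')

theorem act_app (g : G) (X : (GSet G)) (x : X.obj.V) : (act g).hom.app X x = (X.obj.ρ g).hom x := rfl

theorem continuous_act : Continuous (act (G := G)) := by
  rw [(PreGaloisCategory.autEmbedding_isClosedEmbedding (FF G)).isInducing.continuous_iff, continuous_pi_iff]
  intro X
  rw [continuous_discrete_rng]
  intro b
  have hpre : (fun g : G => PreGaloisCategory.autEmbedding (FF G) (act g) X) ⁻¹' {b} =
      ⋂ x : X.obj.V, {g : G | (X.obj.ρ g).hom x = b.hom x} := by
    ext g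
    simp only [Set.mem_preimage, Set.mem_singleton_iff, Set.mem_iInter, Set.mem_setOf_eq]
    refine ⟨fun h x => ?_, fun h => Iso.ext (ConcreteCategory.hom_ext _ _ h)⟩
    rw [← act_app, ← h]
    rfl
  show IsOpen ((fun g : G => PreGaloisCategory.autEmbedding (FF G) (act g) X) ⁻¹' {b})
  rw [hpre]
  exact isOpen_iInter_of_finite fun x => isOpen_fibre X x _

theorem exists_agree (φ : Aut (FF G)) (I : Finset (GSet G)) :
    ∃ g : G, ∀ X ∈ I, ∀ x : X.obj.V, φ.hom.app X x = (X.obj.ρ g).hom x := by
  let P := ∀ X : I, Equiv.Perm X.1.obj.V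
  let π : G →* P :=
    { toFun := fun g X =>
        { toFun := fun x => (X.1.obj.ρ g).hom x
          invFun := fun x => (X.1.obj.ρ g⁻¹).hom x
          left_inv := fun x => by
            show (X.1.obj.ρ g⁻¹).hom ((X.1.obj.ρ g).hom x) = x
            rw [← ρ_mul, inv_mul_cancel, map_one]; rfl
          right_inv := fun x => by
            show (X.1.obj.ρ g).hom ((X.1.obj.ρ g⁻¹).hom x) = x
            rw [← ρ_mul, mul_inv_cancel, map_one]; rfl }
      map_one' := by
        funext X; ext x
        show (X.1.obj.ρ 1).hom x = x
        rw [map_one]; rfl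
      map_mul' := fun g g' => by
        funext X; ext x
        show (X.1.obj.ρ (g * g')).hom x = (X.1.obj.ρ g).hom ((X.1.obj.ρ g').hom x)
        rw [map_mul]; rfl }
  have hN : IsOpen (π.ker : Set G) := by
    have : (π.ker : Set G) = ⋂ X : I, ⋂ x : X.1.obj.V, {g : G | (X.1.obj.ρ g).hom x = x} := by
      ext g
      simp only [SetLike.mem_coe, MonoidHom.mem_ker, Set.mem_iInter, Set.mem_setOf_eq]
      refine ⟨fun h X x => ?_, fun h => funext fun X => Equiv.ext (h X)⟩
      exact congrArg (fun p : P => p X x) h
    rw [this]
    exact isOpen_iInter_of_finite fun X => isOpen_iInter_of_finite fun x => isOpen_fibre _ x x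
  let Q := G ⧸ π.ker
  haveI : Finite P := Pi.finite
  haveI : Finite Q := Finite.of_equiv _ (QuotientGroup.quotientKerEquivRange π).symm.toEquiv
  have hst : ∀ q : Q, IsOpen (MulAction.stabilizer G q : Set G) := fun q => by
    refine Subgroup.isOpen_mono (H₁ := π.ker) (fun n hn => ?_) hN
    induction q using QuotientGroup.induction_on with
    | _ k =>
      show ((n * k : G) : Q) = (k : Q)
      rw [eq_comm, QuotientGroup.eq, ← mul_assoc]
      have h0 := (inferInstance : π.ker.Normal).conj_mem n hn k⁻¹
      rwa [inv_inv] at h0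
  let T : (GSet G) := mkObj Q hst
  obtain ⟨g, hg⟩ := QuotientGroup.mk_surjective (show Q from φ.hom.app T ((1 : G) : Q))
  refine ⟨g, fun X hX x => ?_⟩
  have hker : ∀ a b : G, (a : Q) = (b : Q) → (X.obj.ρ a).hom x = (X.obj.ρ b).hom x := fun a b hab => by
    have : π a = π b := by
      have h0 : a⁻¹ * b ∈ π.ker := QuotientGroup.eq.1 hab
      rw [MonoidHom.mem_ker, map_mul, map_inv, inv_mul_eq_one] at h0
      exact h0
    exact congrArg (fun p : P => p ⟨X, hX⟩ x) this
  let f : T ⟶ X := ObjectProperty.homMk
    { hom := FintypeCat.homMk fun q : Q => Quotient.liftOn' q (fun a => (X.obj.ρ a).hom x)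
        fun a b hab => hker a b (Quotient.sound' hab)
      comm := fun a => by
        refine FintypeCat.hom_ext _ _ fun q => ?_
        change Q at q
        induction q using QuotientGroup.induction_on with
        | _ k =>
          show (X.obj.ρ (a * k)).hom x = (X.obj.ρ a).hom ((X.obj.ρ k).hom x)
          rw [map_mul]; rfl }
  have h := natural φ f ((1 : G) : Q)
  have h1 : f.hom.hom ((1 : G) : Q) = x := by
    show (X.obj.ρ (1 : G)).hom x = x
    rw [map_one]; rfl
  rw [h1] at h
  rw [h]
  show f.hom.hom (φ.hom.app T ((1 : G) : Q)) = _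
  exact congrArg (fun q : Q => f.hom.hom q) hg.symm

theorem denseRange_act : DenseRange (act (G := G)) := by
  intro φ
  rw [mem_closure_iff]
  intro U hU hφ
  obtain ⟨V, hV, rfl⟩ := isOpen_induced_iff.1 hU
  obtain ⟨I, u, ho, ha⟩ := isOpen_pi_iff.1 hV _ hφ
  obtain ⟨g, hg⟩ := exists_agree φ I
  refine ⟨act g, ha fun X hX => ?_, g, rfl⟩
  have : PreGaloisCategory.autEmbedding (FF G) (act g) X = PreGaloisCategory.autEmbedding (FF G) φ X :=
    Iso.ext (ConcreteCategory.hom_ext _ _ fun x => (hg X hX x).symm)
  rw [this]
  exact (ho X hX).2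

theorem factor (Q : Type u) [Group Q] [Finite Q] [TopologicalSpace Q] [DiscreteTopology Q]
    (π : G →* Q) (hπ : Continuous π) :
    ∃! ψ : Aut (FF G) →* Q, Continuous ψ ∧ ψ.comp act = π := by
  letI : MulAction G Q := MulAction.compHom Q π
  have hst : ∀ q : Q, IsOpen (MulAction.stabilizer G q : Set G) := fun q => by
    have : (MulAction.stabilizer G q : Set G) = π ⁻¹' {1} := by
      ext g
      show π g * q = q ↔ π g ∈ ({1} : Set Q)
      simp
    rw [this]
    exact (isOpen_discrete _).preimage hπ
  let T : (GSet G) := mkObj Q hst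
  let rt : Q → (T ⟶ T) := fun q => ObjectProperty.homMk
    { hom := FintypeCat.homMk fun x : Q => (x * q : Q)
      comm := fun a => by
        refine FintypeCat.hom_ext _ _ fun x => ?_
        show π a * (show Q from x) * q = π a * ((show Q from x) * q)
        rw [mul_assoc] }
  let ev : Aut (FF G) → Q := fun φ => φ.hom.app T (1 : Q)
  have hev : ∀ (φ : Aut (FF G)) (q : Q), (φ.hom.app T q : Q) = ev φ * q := fun φ q => by
    have h0 := natural φ (rt q) (1 : Q)
    rw [show (rt q).hom.hom (1 : Q) = q from one_mul q] at h0
    exact h0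
  let ψ : Aut (FF G) →* Q :=
    { toFun := ev
      map_one' := rfl
      map_mul' := fun φ φ' => hev φ (ev φ') }
  have hcont : Continuous ψ := by
    have h0 : Continuous fun φ : Aut (FF G) => PreGaloisCategory.autEmbedding (FF G) φ T :=
      (continuous_apply T).comp (PreGaloisCategory.autEmbedding_isClosedEmbedding (FF G)).continuous
    let ev' : Aut ((FF G).obj T) → Q := fun a => a.hom (1 : Q)
    have h1 : Continuous ev' := continuous_of_discreteTopology
    exact h1.comp h0
  have hcomp : ψ.comp act = π := MonoidHom.ext fun g => mul_one (π g)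
  refine ⟨ψ, ⟨hcont, hcomp⟩, fun ψ' ⟨hc', hcomp'⟩ => ?_⟩
  exact MonoidHom.ext fun φ => congrFun (denseRange_act.equalizer hc' hcont
    (funext fun g => (DFunLike.congr_fun hcomp' g).trans (DFunLike.congr_fun hcomp g).symm)) φ



open CategoryTheory in
/-- Let G be a topological group, consider the category of finite sets (with the discrete topology)
equipped with a continuous action of G, and let F be the forgetful functor to finite sets, so that
Aut(F) is a profinite group. Then the homomorphism ι : G → Aut(F) letting g act on every finite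
continuous G-set exists and is continuous, has dense image, and every continuous homomorphism from G
to a finite discrete group factors uniquely through ι by a continuous homomorphism on Aut(F). As
Aut(F) is profinite, these properties say that ι induces an isomorphism of topological groups from
the profinite completion of G (the limit of the quotients G/U by open normal subgroups of finite
index) onto Aut(F). -/
theorem result (G : Type u) [Group G]
    [TopologicalSpace G] [IsTopologicalGroup G] :
    ∃ ι : G →* Aut (forget₂ (ContAction FintypeCat.{u} G) FintypeCat.{u}),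
      Continuous ι ∧
      (∀ (g : G) (X : ContAction FintypeCat.{u} G) (x : X.obj.V), (ι g).hom.app X x = (X.obj.ρ g).hom x) ∧
      DenseRange ι ∧
      ∀ (Q : Type u) [Group Q] [Finite Q] [TopologicalSpace Q] [DiscreteTopology Q] (π : G →* Q),
        Continuous π → ∃! ψ : Aut (forget₂ (ContAction FintypeCat.{u} G) FintypeCat.{u}) →* Q,
          Continuous ψ ∧ ψ.comp ι = π := by
  exact ⟨act, continuous_act, act_app, denseRange_act, fun Q _ _ _ _ π hπ => factor Q π hπ⟩

end Groth.Agent.S18428
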