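import Groth.Statements.S18429
import Mathlib

set_option autoImplicit false
universe u
open SpinCurv

namespace Groth.Agent.S18429

/-- Let n ≥ 1 and r ≥ 2 be integers and let e_0, …, e_{nr} be integers with e_0 = e_{nr} = 0 (the
coefficients of a chain of nr - 1 exceptional curves joining two non-exceptional components with
coefficient zero) such that at every interior index 1 ≤ j ≤ nr - 1 the second difference e_{j-1} - 2
e_j + e_{j+1} (the degree of the divisor Σ e_i E_i on the j-th curve of the chain) is divisible by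
r. Then there are integers e'_0, …, e'_{nr}, with e'_j ≡ e_j modulo r for every interior j, with
e'_0 = e'_{nr} = 0 and every e'_j ≤ 0, whose second differences at the interior indices are each 0
or r, and are nonzero at no two distinct interior indices. -/
theorem result (n r : ℕ) (hn : 1 ≤ n) (hr : 2 ≤ r)
    (e : ℕ → ℤ) (he0 : e 0 = 0) (henr : e (n * r) = 0)
    (hdiv : ∀ j : ℕ, 1 ≤ j → j < n * r → (r : ℤ) ∣ e (j - 1) - 2 * e j + e (j + 1)) :
    ∃ e' : ℕ → ℤ, e' 0 = 0 ∧ e' (n * r) = 0 ∧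
      (∀ j : ℕ, 1 ≤ j → j < n * r → (r : ℤ) ∣ e' j - e j) ∧
      (∀ j : ℕ, j ≤ n * r → e' j ≤ 0) ∧
      (∀ j : ℕ, 1 ≤ j → j < n * r →
        (e' (j - 1) - 2 * e' j + e' (j + 1) = 0 ∨ e' (j - 1) - 2 * e' j + e' (j + 1) = r)) ∧
      (∀ j j' : ℕ, 1 ≤ j → j < n * r → 1 ≤ j' → j' < n * r →
        e' (j - 1) - 2 * e' j + e' (j + 1) ≠ 0 → e' (j' - 1) - 2 * e' j' + e' (j' + 1) ≠ 0 → j = j') := by
  let a : ℤ := e 1 % r
  have hr0 : (0 : ℤ) < r := by omega
  have ha : 0 ≤ a ∧ a < r := ⟨Int.emod_nonneg _ (by omega), Int.emod_lt_of_pos _ hr0⟩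
  have key : ∀ j, j ≤ n * r → (r : ℤ) ∣ e j - a * j ∧ (j + 1 ≤ n * r → (r : ℤ) ∣ e (j + 1) - a * (j + 1)) := by
    intro j
    induction j with
    | zero =>
      intro _
      refine ⟨by simp [he0], fun _ => ?_⟩
      simp only [a]; simpa using Int.dvd_self_sub_emod
    | succ j ih =>
      intro hj
      obtain ⟨h1, h2⟩ := ih (by omega)
      refine ⟨by push_cast; exact h2 hj, fun hj' => ?_⟩
      have h3 := hdiv (j + 1) (by omega) (by omega)
      rw [Nat.add_sub_cancel] at h3
      have := dvd_add (dvd_sub h3 h1) (dvd_add (h2 hj) (h2 hj))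
      exact Eq.subst (motive := fun x => (r : ℤ) ∣ x) (by push_cast; ring) this
  let e' : ℕ → ℤ := fun j => (a - r) * j + r * max 0 ((j : ℤ) - n * a)
  have hd : ∀ j, 1 ≤ j → e' (j - 1) - 2 * e' j + e' (j + 1) = if (j : ℤ) = n * a then (r : ℤ) else 0 := by
    intro j hj
    obtain ⟨i, rfl⟩ := Nat.exists_eq_add_of_le' hj
    simp only [e', Nat.add_sub_cancel]
    push_cast
    have hM : max 0 ((i : ℤ) - n * a) - 2 * max 0 ((i : ℤ) + 1 - n * a) + max 0 ((i : ℤ) + 1 + 1 - n * a) = if (i : ℤ) + 1 = n * a then 1 else 0 := by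
      generalize (n : ℤ) * a = N
      split_ifs <;> omega
    split_ifs with h
    · rw [if_pos h] at hM; linear_combination (r : ℤ) * hM
    · rw [if_neg h] at hM; linear_combination (r : ℤ) * hM
  have hna : (n : ℤ) * a ≤ n * r := mul_le_mul_of_nonneg_left ha.2.le (by omega)
  refine ⟨e', ?_, ?_, fun j h1 h2 => ?_, fun j hj => ?_, fun j h1 h2 => ?_, fun j j' h1 _ h3 _ h5 h6 => ?_⟩
  · have : max 0 ((0 : ℤ) - n * a) = 0 := max_eq_left (by nlinarith)
    simp only [e', Nat.cast_zero, this, mul_zero, add_zero]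
  · have : max 0 ((n : ℤ) * r - n * a) = n * r - n * a := max_eq_right (by linarith)
    simp only [e', Nat.cast_mul, this]; ring
  · have := dvd_sub ((Dvd.intro (max 0 ((j : ℤ) - n * a) - j) rfl : (r : ℤ) ∣ r * _)) (key j h2.le).1
    exact Eq.subst (motive := fun x => (r : ℤ) ∣ x) (by simp only [e']; ring) this
  · simp only [e']
    rcases le_total ((j : ℤ) - n * a) 0 with h | h
    · rw [max_eq_left h]; nlinarith
    · rw [max_eq_right h]
      have hj' : (j : ℤ) ≤ n * r := by exact_mod_cast hj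
      nlinarith [mul_le_mul_of_nonneg_left hj' ha.1]
  · rw [hd j h1]; split_ifs <;> simp
  · rw [hd j h1] at h5
    rw [hd j' h3] at h6
    by_cases c : (j : ℤ) = n * a
    · by_cases c' : (j' : ℤ) = n * a
      · exact_mod_cast c.trans c'.symm
      · simp [c'] at h6
    · simp [c] at h5

end Groth.Agent.S18429
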