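import Groth.Statements.S18431
import Mathlib.Algebra.Ring.GeomSum
import Mathlib.RingTheory.LocalRing.ResidueField.Basic

set_option autoImplicit false
universe u
open SpinCurv

namespace Groth.Agent.S18431

/-- Let R be a Noetherian local ring in which the natural number r is invertible and let ξ, ζ ∈ R
satisfy ξ^r = 1 and ζ^r = 1. Then either ξ = ζ, or ξ - ζ is a unit of R. (Consequently an element of
R annihilated by ξ - ζ is zero unless ξ = ζ. In the published setting R is moreover complete; the
step does not use completeness.) -/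
theorem result (R : Type u) [CommRing R] [IsNoetherianRing R] [IsLocalRing R]
    (r : ℕ) (hr : IsUnit (r : R)) (ξ ζ : R) (hξ : ξ ^ r = 1) (hζ : ζ ^ r = 1) :
    ξ = ζ ∨ IsUnit (ξ - ζ) := by
  refine or_iff_not_imp_right.mpr fun hu => ?_
  have hm : ξ - ζ ∈ IsLocalRing.maximalIdeal R := hu
  have hs : IsUnit (∑ i ∈ Finset.range r, ξ ^ i * ζ ^ (r - 1 - i)) := by
    rw [← IsLocalRing.residue_ne_zero_iff_isUnit]
    have e : IsLocalRing.residue R ξ = IsLocalRing.residue R ζ := by
      rw [← sub_eq_zero, ← map_sub]; exact (IsLocalRing.residue_eq_zero_iff _).mpr hm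
    have hterm : ∀ i ∈ Finset.range r, IsLocalRing.residue R (ξ ^ i * ζ ^ (r - 1 - i)) =
        IsLocalRing.residue R ζ ^ (r - 1) := fun i hi => by
      rw [map_mul, map_pow, map_pow, e, ← pow_add]
      congr 1
      have := Finset.mem_range.mp hi
      omega
    rw [map_sum, Finset.sum_congr rfl hterm, Finset.sum_const, Finset.card_range, nsmul_eq_mul,
      ← map_natCast (IsLocalRing.residue R), ← map_pow, ← map_mul,
      IsLocalRing.residue_ne_zero_iff_isUnit]
    refine hr.mul ?_
    rcases r with _ | r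
    · simp
    · exact (IsUnit.of_mul_eq_one (ζ ^ r) (by rw [← pow_succ', hζ])).pow _
  have h0 : (∑ i ∈ Finset.range r, ξ ^ i * ζ ^ (r - 1 - i)) * (ξ - ζ) = 0 := by
    rw [geom_sum₂_mul, hξ, hζ, sub_self]
  exact sub_eq_zero.mp ((hs.mul_right_eq_zero).mp h0)

end Groth.Agent.S18431
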