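import Groth.Statements.S18434
import Mathlib

set_option autoImplicit false
universe u
open SpinCurv

namespace Groth.Agent.S18434

/-- Let k be a field, u, v ≥ 1 integers and w ∈ k nonzero. In the ring A = k[[x, y]]/(xy), the quotient
A/(x^u, w y^v) has dimension u + v - 1 over k (a basis is 1, x, …, x^{u-1}, y, …, y^{v-1}); this is
the length of the cokernel at the node of a map whose image is generated by x^u and w y^v. -/
theorem result (k : Type u) [Field k] (u v : ℕ) (hu : 1 ≤ u) (hv : 1 ≤ v)
    (w : k) (hw : w ≠ 0) :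
    Module.finrank k (SpinCurv.NodeRing k 0 ⧸
      Ideal.span {SpinCurv.NodeRing.x k 0 ^ u, algebraMap k (SpinCurv.NodeRing k 0) w * SpinCurv.NodeRing.y k 0 ^ v}) =
      u + v - 1 := by
  classical
  let P := MvPowerSeries (Fin 2) k
  let I : Ideal P := Ideal.span {MvPowerSeries.X 0 * MvPowerSeries.X 1 - MvPowerSeries.C (0 : k)}
  let K : Ideal (P ⧸ I) := Ideal.span {SpinCurv.NodeRing.x k 0 ^ u, algebraMap k (SpinCurv.NodeRing k 0) w * SpinCurv.NodeRing.y k 0 ^ v}
  let L : P →ₗ[k] (Fin u → k) × (Fin (v - 1) → k) :=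
    (LinearMap.pi fun i : Fin u => MvPowerSeries.coeff (Finsupp.single 0 (i : ℕ))).prod
      (LinearMap.pi fun j : Fin (v - 1) => MvPowerSeries.coeff (Finsupp.single 1 ((j : ℕ) + 1)))
  let T : Set P := {MvPowerSeries.X 0 * MvPowerSeries.X 1, MvPowerSeries.X 0 ^ u, MvPowerSeries.X 1 ^ v}
  have h1 : ∀ p, L p = 0 → p ∈ Ideal.span T := by
    intro p hp
    have ha : ∀ i < u, MvPowerSeries.coeff (Finsupp.single 0 i) p = 0 := fun i hi => congrFun (congrArg Prod.fst hp) ⟨i, hi⟩
    have hb : ∀ j, 0 < j → j < v → MvPowerSeries.coeff (Finsupp.single 1 j) p = 0 := fun j h0 hj => by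
      have := congrFun (congrArg Prod.snd hp) ⟨j - 1, by omega⟩
      change MvPowerSeries.coeff (Finsupp.single 1 (j - 1 + 1)) p = 0 at this
      rwa [Nat.sub_add_cancel h0] at this
    have sgl : ∀ m : Fin 2 →₀ ℕ, (m 1 = 0 → m = Finsupp.single 0 (m 0)) ∧ (m 0 = 0 → m = Finsupp.single 1 (m 1)) := fun m =>
      ⟨fun h => Finsupp.ext fun l => by fin_cases l <;> simp [h], fun h => Finsupp.ext fun l => by fin_cases l <;> simp [h]⟩
    let r1 : P := fun m => if m 1 = 0 then MvPowerSeries.coeff m p else 0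
    let r2 : P := fun m => if m 1 ≠ 0 ∧ m 0 = 0 then MvPowerSeries.coeff m p else 0
    let r3 : P := fun m => if m 1 ≠ 0 ∧ m 0 ≠ 0 then MvPowerSeries.coeff m p else 0
    have hp' : p = r1 + r2 + r3 := by
      ext m
      simp only [map_add]
      show _ = (if m 1 = 0 then _ else 0) + (if m 1 ≠ 0 ∧ m 0 = 0 then _ else 0) + (if m 1 ≠ 0 ∧ m 0 ≠ 0 then _ else 0)
      by_cases a : m 1 = 0 <;> by_cases b : m 0 = 0 <;> simp [a, b]
    obtain ⟨c1, e1⟩ : MvPowerSeries.X 0 ^ u ∣ r1 := MvPowerSeries.X_pow_dvd_iff.mpr fun m hm => by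
      show (if m 1 = 0 then _ else 0) = (0 : k)
      split_ifs with h
      · rw [(sgl m).1 h]; exact ha _ hm
      · rfl
    obtain ⟨c2, e2⟩ : MvPowerSeries.X 1 ^ v ∣ r2 := MvPowerSeries.X_pow_dvd_iff.mpr fun m hm => by
      show (if m 1 ≠ 0 ∧ m 0 = 0 then _ else 0) = (0 : k)
      split_ifs with h
      · rw [(sgl m).2 h.2]; exact hb _ (Nat.pos_of_ne_zero h.1) hm
      · rfl
    obtain ⟨c, e3⟩ : MvPowerSeries.X 0 ∣ r3 := MvPowerSeries.X_dvd_iff.mpr fun m hm => by
      show (if m 1 ≠ 0 ∧ m 0 ≠ 0 then _ else 0) = (0 : k)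
      simp [hm]
    obtain ⟨c3, e4⟩ : MvPowerSeries.X 1 ∣ c := MvPowerSeries.X_dvd_iff.mpr fun m hm => by
      have h : MvPowerSeries.coeff (Finsupp.single 0 1 + m) r3 = MvPowerSeries.coeff m c := by
        rw [e3, MvPowerSeries.X, MvPowerSeries.coeff_add_monomial_mul, one_mul]
      rw [← h]
      show ite _ _ _ = (0 : k)
      simp [hm]
    rw [hp', e1, e2, e3, e4]
    refine add_mem (add_mem ?_ ?_) ?_
    · exact Ideal.mul_mem_right _ _ (Ideal.subset_span (by simp [T]))
    · exact Ideal.mul_mem_right _ _ (Ideal.subset_span (by simp [T]))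
    · rw [← mul_assoc]; exact Ideal.mul_mem_right _ _ (Ideal.subset_span (by simp [T]))
  have h2 : ∀ p ∈ Ideal.span T, L p = 0 := by
    intro p hp
    have hx : ∀ (c : P) (m : Fin 2 →₀ ℕ), m 0 = 0 ∨ m 1 = 0 → MvPowerSeries.coeff m (MvPowerSeries.X 0 * MvPowerSeries.X 1 * c) = 0 := fun c m h => by
      rcases h with h | h
      · exact MvPowerSeries.X_dvd_iff.mp ((dvd_mul_right _ _).mul_right c) m h
      · exact MvPowerSeries.X_dvd_iff.mp ((dvd_mul_left _ _).mul_right c) m h
    induction hp using Submodule.span_induction with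
    | mem p hp =>
      rcases hp with rfl | rfl | rfl
      · refine Prod.ext (funext fun i => ?_) (funext fun j => ?_)
        · simpa [L] using hx 1 (Finsupp.single 0 (i : ℕ)) (Or.inr (by simp))
        · simpa [L] using hx 1 (Finsupp.single 1 ((j : ℕ) + 1)) (Or.inl (by simp))
      · refine Prod.ext (funext fun i => ?_) (funext fun j => ?_) <;> refine MvPowerSeries.X_pow_dvd_iff.mp dvd_rfl _ ?_
        · simpa using i.2
        · simp; omega
      · refine Prod.ext (funext fun i => ?_) (funext fun j => ?_) <;> refine MvPowerSeries.X_pow_dvd_iff.mp dvd_rfl _ ?_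
        · simp; omega
        · have := j.2; simp; omega
    | zero => exact map_zero L
    | add a b _ _ ha hb => rw [map_add, ha, hb, add_zero]
    | smul c a hTa ha =>
      refine Prod.ext (funext fun i => ?_) (funext fun j => ?_)
      · show MvPowerSeries.coeff _ (c * a) = 0
        rw [MvPowerSeries.coeff_mul]
        refine Finset.sum_eq_zero fun x hx' => ?_
        rw [Finset.HasAntidiagonal.mem_antidiagonal] at hx'
        have h0 : x.2 1 = 0 ∧ x.2 0 ≤ (i : ℕ) := by
          have e0 := DFunLike.congr_fun hx' (0 : Fin 2)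
          have e1 := DFunLike.congr_fun hx' (1 : Fin 2)
          simp at e0 e1; omega
        have := congrFun (congrArg Prod.fst ha) ⟨x.2 0, by have := i.2; omega⟩
        rw [show x.2 = Finsupp.single 0 (x.2 0) from Finsupp.ext fun l => by fin_cases l <;> simp [h0.1]]
        simp [L] at this
        rw [this, mul_zero]
      · show MvPowerSeries.coeff _ (c * a) = 0
        rw [MvPowerSeries.coeff_mul]
        refine Finset.sum_eq_zero fun x hx' => ?_
        rw [Finset.HasAntidiagonal.mem_antidiagonal] at hx'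
        have h0 : x.2 0 = 0 ∧ x.2 1 ≤ (j : ℕ) + 1 := by
          have e0 := DFunLike.congr_fun hx' (0 : Fin 2)
          have e1 := DFunLike.congr_fun hx' (1 : Fin 2)
          simp at e0 e1; omega
        rcases Nat.eq_zero_or_pos (x.2 1) with hz | hz
        · have := congrFun (congrArg Prod.fst ha) ⟨0, by omega⟩
          rw [show x.2 = Finsupp.single 0 0 from Finsupp.ext fun l => by fin_cases l <;> simp [h0.1, hz]]
          simp [L] at this
          simp [this]
        · have := congrFun (congrArg Prod.snd ha) ⟨x.2 1 - 1, by have := j.2; omega⟩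
          rw [show x.2 = Finsupp.single 1 (x.2 1) from Finsupp.ext fun l => by fin_cases l <;> simp [h0.1]]
          change MvPowerSeries.coeff (Finsupp.single 1 (x.2 1 - 1 + 1)) a = 0 at this
          rw [Nat.sub_add_cancel hz] at this
          rw [this, mul_zero]
  have hK : (K.comap (Ideal.Quotient.mk I)).restrictScalars k = LinearMap.ker L := by
    have hT : K.comap (Ideal.Quotient.mk I) = Ideal.span T := by
      have hu' : IsUnit (MvPowerSeries.C (σ := Fin 2) w : P) := (isUnit_iff_ne_zero.mpr hw).map _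
      rw [show K = (Ideal.span {MvPowerSeries.X 0 ^ u, MvPowerSeries.C w * MvPowerSeries.X 1 ^ v}).map (Ideal.Quotient.mk I) by
        rw [Ideal.map_span, Set.image_pair, map_pow, map_mul (Ideal.Quotient.mk I), map_pow]; rfl,
        Ideal.comap_map_of_surjective _ Ideal.Quotient.mk_surjective, ← RingHom.ker_eq_comap_bot, Ideal.mk_ker, ← Ideal.span_union]
      refine le_antisymm (Ideal.span_le.mpr ?_) (Ideal.span_le.mpr ?_)
      · rintro x ((rfl | rfl) | rfl)
        · exact Ideal.subset_span (by simp [T])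
        · exact Ideal.mul_mem_left _ _ (Ideal.subset_span (by simp [T]))
        · rw [map_zero, sub_zero]; exact Ideal.subset_span (by simp [T])
      · rintro x (rfl | rfl | rfl)
        · exact Ideal.subset_span (by simp)
        · exact Ideal.subset_span (by simp)
        · exact (Ideal.unit_mul_mem_iff_mem _ hu').mp (Ideal.subset_span (by simp))
    ext p
    rw [Submodule.restrictScalars_mem, hT, LinearMap.mem_ker]
    exact ⟨h2 p, h1 p⟩
  have hL : Function.Surjective L := fun g => by
    let p : P := fun m => if h : m 1 = 0 ∧ m 0 < u then g.1 ⟨m 0, h.2⟩ else if h : m 1 - 1 < v - 1 then g.2 ⟨m 1 - 1, h⟩ else 0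
    refine ⟨p, Prod.ext (funext fun i => ?_) (funext fun j => ?_)⟩
    · show p (Finsupp.single 0 (i : ℕ)) = _
      simp [p]
    · show p (Finsupp.single 1 ((j : ℕ) + 1)) = _
      simp [p]
  let Φ : P →ₗ[k] (P ⧸ I) ⧸ K := ((Ideal.Quotient.mkₐ k K).comp (Ideal.Quotient.mkₐ k I)).toLinearMap
  have hΦ : Function.Surjective Φ := fun z => by
    obtain ⟨y, rfl⟩ := Ideal.Quotient.mk_surjective z
    obtain ⟨p, rfl⟩ := Ideal.Quotient.mk_surjective y
    exact ⟨p, rfl⟩
  have hker : LinearMap.ker Φ = LinearMap.ker L := by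
    rw [← hK]
    ext p
    exact Ideal.Quotient.eq_zero_iff_mem
  rw [← LinearEquiv.finrank_eq (LinearMap.quotKerEquivOfSurjective Φ hΦ),
    LinearEquiv.finrank_eq (Submodule.quotEquivOfEq _ _ hker), LinearEquiv.finrank_eq (LinearMap.quotKerEquivOfSurjective L hL),
    Module.finrank_prod, Module.finrank_fin_fun, Module.finrank_fin_fun]
  omega

end Groth.Agent.S18434
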