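import Groth.Statements.S18435
import Mathlib

set_option autoImplicit false
universe u
open SpinCurv

namespace Groth.Agent.S18435

/-- Let k be a field and A = k[x, y]/(xy) the node, with the two affine charts U = Spec k[s, y]/(sy) and
V = Spec k[t, x]/(tx) of the curve obtained by the (p, q)-construction with p = q = 0, glued along
k[s, s⁻¹] by t = s⁻¹ (y ↦ 0 from U, x ↦ 0 from V), and with A → O(U) given by x ↦ 0, y ↦ y and A →
O(V) by x ↦ x, y ↦ 0. A global section of O(1) is a pair (g, f) with g = s f on U ∩ V. If such a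
pair is annihilated by both x and y (acting through the two restriction maps), then g = 0 and f = 0;
so the module of global sections of O(1) has no nonzero element killed by the maximal ideal (x, y),
i.e. its direct image on the node is torsion-free there. All three coordinate rings are written as
the quotient of the polynomial ring in two variables by the product of the variables, and the four
restriction homomorphisms are k-algebra maps pinned by their values on generators. (The published
proof reduces the torsion-freeness of the direct image of O(1), for general R, p, q, to exactly this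
case of a field with p = q = 0.) -/
theorem result (k : Type u) [Field k]
    (rU : SpinCurv.PolyNodeRing k 0 →ₐ[k] SpinCurv.PolyNodeRing k 0)
    (hrUx : rU (SpinCurv.PolyNodeRing.x k 0) = 0)
    (hrUy : rU (SpinCurv.PolyNodeRing.y k 0) = SpinCurv.PolyNodeRing.y k 0)
    (rV : SpinCurv.PolyNodeRing k 0 →ₐ[k] SpinCurv.PolyNodeRing k 0)
    (hrVx : rV (SpinCurv.PolyNodeRing.x k 0) = SpinCurv.PolyNodeRing.y k 0)
    (hrVy : rV (SpinCurv.PolyNodeRing.y k 0) = 0)
    (gU : SpinCurv.PolyNodeRing k 0 →ₐ[k] LaurentPolynomial k)
    (hgUs : gU (SpinCurv.PolyNodeRing.x k 0) = LaurentPolynomial.T 1)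
    (hgUy : gU (SpinCurv.PolyNodeRing.y k 0) = 0)
    (gV : SpinCurv.PolyNodeRing k 0 →ₐ[k] LaurentPolynomial k)
    (hgVt : gV (SpinCurv.PolyNodeRing.x k 0) = LaurentPolynomial.T (-1))
    (hgVx : gV (SpinCurv.PolyNodeRing.y k 0) = 0)
    (g f : SpinCurv.PolyNodeRing k 0) (hsec : gU g = LaurentPolynomial.T 1 * gV f)
    (hx : rU (SpinCurv.PolyNodeRing.x k 0) * g = 0 ∧ rV (SpinCurv.PolyNodeRing.x k 0) * f = 0)
    (hy : rU (SpinCurv.PolyNodeRing.y k 0) * g = 0 ∧ rV (SpinCurv.PolyNodeRing.y k 0) * f = 0) :
    g = 0 ∧ f = 0 := by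
  classical
  let mk : MvPolynomial (Fin 2) k →ₐ[k] SpinCurv.PolyNodeRing k 0 := Ideal.Quotient.mkₐ k _
  let x := SpinCurv.PolyNodeRing.x k 0
  let y := SpinCurv.PolyNodeRing.y k 0
  have hxy : x * y = 0 := by
    show Ideal.Quotient.mk _ (MvPolynomial.X 0) * Ideal.Quotient.mk _ (MvPolynomial.X 1) = 0
    rw [← map_mul, Ideal.Quotient.eq_zero_iff_mem]
    exact Ideal.mem_span_singleton.mpr ⟨1, by simp⟩
  let ev : MvPolynomial (Fin 2) k →ₐ[k] Polynomial k := MvPolynomial.aeval ![Polynomial.X, 0]
  let up : Polynomial k →ₐ[k] SpinCurv.PolyNodeRing k 0 := Polynomial.aeval x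
  have key : ∀ z, y * z = 0 → ∃ Q : Polynomial k, z = x * up Q := by
    intro z hz
    obtain ⟨p, rfl⟩ := Ideal.Quotient.mk_surjective z
    rw [show y = Ideal.Quotient.mk _ (MvPolynomial.X 1) from rfl, ← map_mul, Ideal.Quotient.eq_zero_iff_mem, Ideal.mem_span_singleton'] at hz
    obtain ⟨q, hq⟩ := hz
    have hp : p = MvPolynomial.X 0 * q := mul_left_cancel₀ (MvPolynomial.X_ne_zero (1 : Fin 2)) (by
      rw [← hq, map_zero, sub_zero]; ring)
    refine ⟨ev q, ?_⟩
    subst hp
    rw [map_mul]
    show x * mk q = x * up (ev q)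
    clear hq
    induction q using MvPolynomial.induction_on with
    | C c => simp [mk, ev, up]
    | add a b ha hb => rw [map_add, map_add, map_add, mul_add, mul_add, ha, hb]
    | mul_X a i ha =>
      rw [map_mul, map_mul, map_mul]
      fin_cases i
      · show x * (mk a * x) = x * (up (ev a) * up (ev (MvPolynomial.X 0)))
        simp only [ev, up, MvPolynomial.aeval_X, Matrix.cons_val_zero, Polynomial.aeval_X]
        linear_combination x * ha
      · show x * (mk a * y) = x * (up (ev a) * up (ev (MvPolynomial.X 1)))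
        simp only [ev, up, MvPolynomial.aeval_X, Matrix.cons_val_one, Matrix.cons_val_fin_one, map_zero, mul_zero]
        linear_combination mk a * hxy
  obtain ⟨Q, rfl⟩ := key g (by simpa [hrUy, y] using hy.1)
  obtain ⟨P, rfl⟩ := key f (by simpa [hrVx, y] using hx.2)
  have eU : gU.comp up = (Polynomial.toLaurentAlg : Polynomial k →ₐ[k] LaurentPolynomial k) :=
    Polynomial.algHom_ext (by simp [up, x, hgUs, Polynomial.toLaurent_X])
  have eV : gV.comp up = (LaurentPolynomial.invert : LaurentPolynomial k ≃ₐ[k] _).toAlgHom.comp Polynomial.toLaurentAlg :=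
    Polynomial.algHom_ext (by simp [up, x, hgVt, Polynomial.toLaurent_X])
  have h1 := AlgHom.congr_fun eU Q
  have h2 := AlgHom.congr_fun eV P
  simp only [AlgHom.comp_apply] at h1 h2
  rw [map_mul, map_mul, hgUs, hgVt, h1, h2, ← mul_assoc, ← LaurentPolynomial.T_add, add_neg_cancel, LaurentPolynomial.T_zero, one_mul] at hsec
  have hQ : Q = 0 := by
    have hr : P.reverse = Polynomial.X ^ (P.natDegree + 1) * Q := Polynomial.toLaurent_injective (by
      rw [LaurentPolynomial.toLaurent_reverse, map_mul, Polynomial.toLaurent_X_pow, ← Polynomial.toLaurentAlg_apply]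
      have h := congrArg (· * LaurentPolynomial.T (R := k) (P.natDegree : ℤ)) hsec
      push_cast
      rw [LaurentPolynomial.T_add]
      simp only [Polynomial.toLaurentAlg_apply] at h ⊢
      change LaurentPolynomial.T (R := k) 1 * Polynomial.toLaurent Q * _ = LaurentPolynomial.invert (Polynomial.toLaurent P) * _ at h
      linear_combination -h)
    by_contra hQ
    have h := Polynomial.reverse_natDegree_le P
    rw [hr, Polynomial.natDegree_mul (pow_ne_zero _ Polynomial.X_ne_zero) hQ, Polynomial.natDegree_X_pow] at h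
    omega
  subst hQ
  have hP : P = 0 := by
    refine Polynomial.toLaurent_injective ?_
    rw [map_zero]
    refine LaurentPolynomial.invert.injective ?_
    rw [map_zero]
    simpa using hsec.symm
  simp [hP]

end Groth.Agent.S18435
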