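import Groth.Statements.S18457
import Mathlib.Tactic
import Mathlib.Algebra.Order.Chebyshev
-- import your own Groth.Agent.* helpers here

set_option autoImplicit false
open Finset
open Surf

namespace Groth.Agent.S18457

/-- In the Picard lattice of the plane blown up at n ≤ 8 points, with basis h, e_1, …, e_n, form h² = 1,
e_i² = −1, all other products 0, and anticanonical class D = 3h − Σ e_i, let d·h − Σ a_i e_i be a
class with all a_i ≥ 0 (the class of the strict transform of a degree-d plane curve having
multiplicity a_i at the i-th point) which is a (−2)-class orthogonal to D, that is d² − Σ a_i² = −2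
and 3d = Σ a_i. Then one of the following holds: d = 1 and every a_i is 0 or 1 with exactly three
equal to 1; d = 2 and every a_i is 0 or 1 with exactly six equal to 1; d = 3, n = 8, and one a_i
equals 2 while the remaining seven equal 1. The published statement is geometric: under the
general-position hypotheses on the points, no smooth rational curve on the blown-up plane is
orthogonal to D; this row is the lattice enumeration its proof carries out (a line through three of
the points, a conic through six, a cubic through all eight and singular at one). -/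
theorem result (n : ℕ) (hn : n ≤ 8)
    (d : ℤ) (a : Fin n → ℤ) (ha : ∀ i, 0 ≤ a i)
    (hsq : d ^ 2 - ∑ i, (a i) ^ 2 = -2) (hK : 3 * d = ∑ i, a i) :
    (d = 1 ∧ (∀ i, a i = 0 ∨ a i = 1) ∧ (Finset.univ.filter (fun i => a i = 1)).card = 3) ∨
      (d = 2 ∧ (∀ i, a i = 0 ∨ a i = 1) ∧ (Finset.univ.filter (fun i => a i = 1)).card = 6) ∨
      (d = 3 ∧ n = 8 ∧ ∃ j, a j = 2 ∧ ∀ i, i ≠ j → a i = 1) := by
  have hS1 : ∑ i, a i = 3 * d := hK.symm
  have hS2 : ∑ i, a i ^ 2 = d ^ 2 + 2 := by linarith
  have hn' : (n : ℤ) ≤ 8 := by exact_mod_cast hn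
  have hd0 : 0 ≤ d := by
    have := Finset.sum_nonneg (s := Finset.univ) (fun i _ => ha i)
    linarith
  have hq : ∑ i, a i * (a i - 1) = d ^ 2 + 2 - 3 * d := by
    simp only [mul_sub, mul_one, Finset.sum_sub_distrib, ← pow_two]
    linarith
  have hnn : ∀ i, 0 ≤ a i * (a i - 1) := fun i => by
    rcases (ha i).eq_or_lt with h | h
    · simp [← h]
    · exact mul_nonneg h.le (by omega)
  have hd4 : d ≤ 3 := by
    have hcs : (∑ i, a i) ^ 2 ≤ (n : ℤ) * ∑ i, a i ^ 2 := by
      have := sq_sum_le_card_mul_sum_sq (s := Finset.univ) (f := a)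
      simpa using this
    rw [hS1, hS2] at hcs
    by_contra h
    push Not at h
    have hd : d = 4 := by nlinarith
    subst hd
    have hge : ∀ i, (1 : ℤ) ≤ (2 * a i - 3) ^ 2 := fun i => by
      rcases (show 2 * a i - 3 ≤ -1 ∨ 1 ≤ 2 * a i - 3 by omega) with h | h <;> nlinarith
    have hs := Finset.sum_le_sum (s := Finset.univ) (fun i _ => hge i)
    have he : ∑ i, (2 * a i - 3) ^ 2 = 4 * ∑ i, a i ^ 2 - 12 * ∑ i, a i + 9 * n := by
      simp only [Finset.mul_sum, ← Finset.sum_sub_distrib]
      rw [show (9 : ℤ) * n = ∑ _i : Fin n, (9 : ℤ) by simp [mul_comm], ← Finset.sum_add_distrib]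
      exact Finset.sum_congr rfl fun i _ => by ring
    rw [he, hS1, hS2] at hs
    simp at hs
    linarith
  have hcard : ∀ (c : ℤ), (∀ i, a i = 0 ∨ a i = 1) → ∑ i, a i = c →
      ((Finset.univ.filter (fun i => a i = 1)).card : ℤ) = c := fun c h01 hc => by
    rw [← hc, Finset.card_filter, Nat.cast_sum]
    refine Finset.sum_congr rfl fun i _ => ?_
    rcases h01 i with h | h <;> simp [h]
  have h01of : (∑ i, a i * (a i - 1) = 0) → ∀ i, a i = 0 ∨ a i = 1 := fun h i =>
    (mul_eq_zero.1 ((Finset.sum_eq_zero_iff_of_nonneg (fun i _ => hnn i)).1 h i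
      (Finset.mem_univ i))).imp id (fun h => by omega)
  interval_cases d
  · exfalso
    have h0 := (Finset.sum_eq_zero_iff_of_nonneg (fun i _ => ha i)).1 (by simpa using hS1)
    simp [h0] at hS2
  · refine Or.inl ⟨rfl, h01of (by simpa using hq), ?_⟩
    exact_mod_cast hcard 3 (h01of (by simpa using hq)) (by simpa using hS1)
  · refine Or.inr (Or.inl ⟨rfl, h01of (by simpa using hq), ?_⟩)
    exact_mod_cast hcard 6 (h01of (by simpa using hq)) (by simpa using hS1)
  · refine Or.inr (Or.inr ⟨rfl, ?_⟩)
    norm_num at hq hS1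
    obtain ⟨j, hj⟩ : ∃ j, a j * (a j - 1) ≠ 0 := by
      by_contra! h
      simp [h] at hq
    have hj2 : a j = 2 := by
      have hle : a j * (a j - 1) ≤ 2 :=
        hq ▸ Finset.single_le_sum (fun i _ => hnn i) (Finset.mem_univ j)
      have h1 : a j ≠ 0 := fun h => hj (by simp [h])
      have h2 : a j ≠ 1 := fun h => hj (by simp [h])
      have h3 := ha j
      have : a j ≤ 2 := by nlinarith
      omega
    have hrest : ∀ i, i ≠ j → a i = 0 ∨ a i = 1 := fun i hi => by
      have h := Finset.add_sum_erase Finset.univ (fun i => a i * (a i - 1)) (Finset.mem_univ j)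
      rw [hq] at h
      simp only [hj2] at h
      have h' : ∑ i ∈ Finset.univ.erase j, a i * (a i - 1) = 0 := by linarith
      exact (mul_eq_zero.1 ((Finset.sum_eq_zero_iff_of_nonneg (fun i _ => hnn i)).1 h' i
        (Finset.mem_erase.2 ⟨hi, Finset.mem_univ i⟩))).imp id (fun h => by omega)
    have hsum' : ∑ i ∈ Finset.univ.erase j, a i = 7 := by
      have h := Finset.add_sum_erase Finset.univ a (Finset.mem_univ j)
      rw [hS1, hj2] at h
      linarith
    have hbd : ∀ i ∈ Finset.univ.erase j, a i ≤ 1 := fun i hi => by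
      rcases hrest i (Finset.mem_erase.1 hi).1 with h | h <;> simp [h]
    have hc := Finset.sum_le_card_nsmul _ a 1 hbd
    rw [hsum', nsmul_eq_mul, mul_one, Finset.card_erase_of_mem (Finset.mem_univ j),
      Finset.card_univ, Fintype.card_fin] at hc
    have hn8 : n = 8 := by
      have := j.2
      omega
    subst hn8
    refine ⟨rfl, j, hj2, fun i hi => ?_⟩
    rcases hrest i hi with h | h
    · exfalso
      have hlt : ∑ k ∈ Finset.univ.erase j, a k < ∑ k ∈ Finset.univ.erase j, (1 : ℤ) :=
        Finset.sum_lt_sum hbd ⟨i, Finset.mem_erase.2 ⟨hi, Finset.mem_univ i⟩, by rw [h]; norm_num⟩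
      rw [hsum'] at hlt
      simp [Finset.card_erase_of_mem] at hlt
    · exact h

end Groth.Agent.S18457
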