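import Groth.Statements.S1846
import Mathlib.RingTheory.HopfAlgebra.Basic
import Mathlib.RingTheory.HopfAlgebra.Convolution
import Mathlib.RingTheory.Kaehler.Basic
import Mathlib.RingTheory.Ideal.Cotangent
import Mathlib.LinearAlgebra.Dimension.Free
import Mathlib.RingTheory.TensorProduct.Free
-- import your own Groth.Agent.* helpers here

set_option autoImplicit false
universe u v
open GrpSch

namespace Groth.Agent.S1846

open TensorProduct Coalgebra HopfAlgebra

section
variable (K : Type u) [Field K] (B : Type v) [CommRing B] [HopfAlgebra K B]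

abbrev augIdeal : Ideal B := RingHom.ker (Bialgebra.counitAlgHom K B).toRingHom

lemma mem_augIdeal (x : B) : x - algebraMap K B (counit x) ∈ augIdeal K B := by
  change (Bialgebra.counitAlgHom K B) (x - algebraMap K B (counit x)) = 0
  rw [map_sub, AlgHom.commutes]
  exact sub_self _

noncomputable def proj : B →ₗ[K] (augIdeal K B).Cotangent where
  toFun x := (augIdeal K B).toCotangent ⟨x - algebraMap K B (counit x), mem_augIdeal K B x⟩
  map_add' x y := by
    rw [← map_add]; congr 1; apply Subtype.ext
    simp only [Submodule.coe_add, map_add]; abel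
  map_smul' r x := by
    rw [RingHom.id_apply, ← LinearMap.map_smul_of_tower]; congr 1; apply Subtype.ext
    change r • x - algebraMap K B (counit (r • x)) = r • (x - algebraMap K B (counit x))
    rw [map_smul, smul_eq_mul, map_mul, smul_sub, Algebra.smul_def r (algebraMap K B _)]

lemma proj_mul (x y : B) :
    proj K B (x * y) = counit (R := K) x • proj K B y + counit (R := K) y • proj K B x := by
  simp only [proj, LinearMap.coe_mk, AddHom.coe_mk]
  rw [← LinearMap.map_smul_of_tower, ← LinearMap.map_smul_of_tower, ← map_add, Ideal.toCotangent_eq]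
  simp only [Submodule.coe_add, Submodule.coe_smul_of_tower, Algebra.smul_def, pow_two,
    Bialgebra.counit_mul, map_mul]
  convert Ideal.mul_mem_mul (mem_augIdeal K B x) (mem_augIdeal K B y) using 1
  ring

/-- the invariant derivation -/
noncomputable def DB : B →ₗ[K] B ⊗[K] (augIdeal K B).Cotangent :=
  (proj K B).lTensor B ∘ₗ comul

lemma DB_mul (x y : B) : DB K B (x * y) = x • DB K B y + y • DB K B x := by
  classical
  let rx := ℛ K x
  let ry := ℛ K y
  have hx : ∑ i ∈ rx.index, counit (R := K) (rx.right i) • rx.left i = x := by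
    simpa only [map_sum, TensorProduct.lid_tmul, TensorProduct.comm_tmul, one_smul] using
      congrArg (fun z => TensorProduct.lid K B (TensorProduct.comm K B K z)) (sum_tmul_counit_eq rx)
  have hy : ∑ i ∈ ry.index, counit (R := K) (ry.right i) • ry.left i = y := by
    simpa only [map_sum, TensorProduct.lid_tmul, TensorProduct.comm_tmul, one_smul] using
      congrArg (fun z => TensorProduct.lid K B (TensorProduct.comm K B K z)) (sum_tmul_counit_eq ry)
  have key : DB K B (x * y) =
      ∑ i ∈ rx.index, ∑ j ∈ ry.index, (rx.left i * ry.left j) ⊗ₜ[K]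
        (counit (R := K) (rx.right i) • proj K B (ry.right j) +
          counit (R := K) (ry.right j) • proj K B (rx.right i)) := by
    simp only [DB, LinearMap.comp_apply, Bialgebra.comul_mul, ← rx.eq, ← ry.eq, Finset.sum_mul_sum,
      Algebra.TensorProduct.tmul_mul_tmul, map_sum, LinearMap.lTensor_tmul, proj_mul]
  rw [key]
  have hDx : DB K B x = ∑ i ∈ rx.index, rx.left i ⊗ₜ[K] proj K B (rx.right i) := by
    simp only [DB, LinearMap.comp_apply, ← rx.eq, map_sum, LinearMap.lTensor_tmul]
  have hDy : DB K B y = ∑ i ∈ ry.index, ry.left i ⊗ₜ[K] proj K B (ry.right i) := by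
    simp only [DB, LinearMap.comp_apply, ← ry.eq, map_sum, LinearMap.lTensor_tmul]
  rw [hDx, hDy]
  refine Eq.trans ?_ (congrArg₂ (· + ·) (congrArg (· • (∑ i ∈ ry.index, ry.left i ⊗ₜ[K] proj K B (ry.right i))) hx)
    (congrArg (· • (∑ i ∈ rx.index, rx.left i ⊗ₜ[K] proj K B (rx.right i))) hy))
  simp only [Finset.sum_smul, Finset.smul_sum, TensorProduct.smul_tmul', smul_eq_mul,
    TensorProduct.tmul_add, Finset.sum_add_distrib]
  congr 1
  · rw [Finset.sum_comm]
    refine Finset.sum_congr rfl fun i _ => Finset.sum_congr rfl fun j _ => ?_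
    rw [smul_mul_assoc, ← TensorProduct.smul_tmul' (R := K), TensorProduct.tmul_smul]
  · refine Finset.sum_congr rfl fun i _ => Finset.sum_congr rfl fun j _ => ?_
    rw [smul_mul_assoc, ← TensorProduct.smul_tmul' (R := K), TensorProduct.tmul_smul, mul_comm]

noncomputable def derB : Derivation K B (B ⊗[K] (augIdeal K B).Cotangent) :=
  Derivation.mk' (DB K B) (DB_mul K B)

/-- `x ↦ ∑ S(x₁) d x₂` -/
noncomputable def omega : B →ₗ[K] Ω[B⁄K] :=
  TensorProduct.lift (LinearMap.mk₂ K (fun a b => antipode K a • KaehlerDifferential.D K B b)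
    (fun a a' b => by rw [map_add, add_smul]) (fun r a b => by rw [map_smul, smul_assoc])
    (fun a b b' => by rw [map_add, smul_add]) (fun r a b => by
      rw [(KaehlerDifferential.D K B).map_smul, smul_comm])) ∘ₗ comul

lemma omega_eq {ι : Type*} {x : B} (r : Repr K x ι) :
    omega K B x = ∑ i ∈ r.index, antipode K (r.left i) • KaehlerDifferential.D K B (r.right i) := by
  simp [omega, ← r.eq]

lemma omega_one : omega K B 1 = 0 := by
  simp [omega, Bialgebra.comul_one, Algebra.TensorProduct.one_def]

lemma omega_mul (x y : B) :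
    omega K B (x * y) = counit (R := K) x • omega K B y + counit (R := K) y • omega K B x := by
  classical
  let rx := ℛ K x
  let ry := ℛ K y
  have key : omega K B (x * y) = ∑ i ∈ rx.index, ∑ j ∈ ry.index,
      (antipode K (rx.left i * ry.left j)) • KaehlerDifferential.D K B (rx.right i * ry.right j) := by
    simp [omega, Bialgebra.comul_mul, ← rx.eq, ← ry.eq, Finset.sum_mul_sum]
  rw [key, ← algebraMap_smul B (counit (R := K) x), ← algebraMap_smul B (counit (R := K) y),
    ← sum_antipode_mul_eq_algebraMap_counit rx, ← sum_antipode_mul_eq_algebraMap_counit ry,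
    omega_eq K B rx, omega_eq K B ry]
  simp only [Finset.sum_smul, Finset.smul_sum, HopfAlgebra.antipode_mul_antidistrib, Derivation.leibniz, Finset.sum_mul,
    smul_add, smul_smul, Finset.sum_add_distrib]
  congr 1
  all_goals first
    | (refine Finset.sum_congr rfl fun i _ => Finset.sum_congr rfl fun j _ => ?_; congr 1; ring1)
    | (rw [Finset.sum_comm]; refine Finset.sum_congr rfl fun i _ => Finset.sum_congr rfl fun j _ => ?_; congr 1; ring1)

noncomputable def omegaBar : (augIdeal K B).Cotangent →ₗ[K] Ω[B⁄K] :=
  Submodule.liftQ (Submodule.restrictScalars K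
      (augIdeal K B • (⊤ : Submodule B (augIdeal K B))))
    (omega K B ∘ₗ (augIdeal K B).subtype.restrictScalars K) (by
      intro z hz
      rw [Submodule.restrictScalars_mem] at hz
      rw [LinearMap.mem_ker]
      refine Submodule.smul_induction_on hz (fun a ha b _ => ?_) fun a b ha hb => by rw [map_add, ha, hb, add_zero]
      change omega K B (a * b.1) = 0
      rw [omega_mul, show counit (R := K) a = 0 from ha, show counit (R := K) b.1 = 0 from b.2,
        zero_smul, zero_smul, add_zero]) ∘ₗ
    LinearMap.id

lemma omegaBar_proj (x : B) : omegaBar K B (proj K B x) = omega K B x := by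
  change omega K B (x - algebraMap K B (counit x)) = _
  rw [Algebra.algebraMap_eq_smul_one, map_sub, map_smul, omega_one, smul_zero, sub_zero]

noncomputable def back : B ⊗[K] (augIdeal K B).Cotangent →ₗ[B] Ω[B⁄K] :=
  TensorProduct.AlgebraTensorModule.lift
    (LinearMap.toSpanSingleton B _ (omegaBar K B))

lemma back_tmul (b : B) (v) : back K B (b ⊗ₜ v) = b • omegaBar K B v := rfl

lemma back_DB (x : B) : back K B (DB K B x) = KaehlerDifferential.D K B x := by
  classical
  let r := ℛ K x
  let T : B ⊗[K] (B ⊗[K] B) →ₗ[K] Ω[B⁄K] :=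
    TensorProduct.lift (LinearMap.mk₂ K (fun a z => (a : B) •
      TensorProduct.lift (LinearMap.mk₂ K (fun p q => antipode K p • KaehlerDifferential.D K B q)
        (fun a a' b => by rw [map_add, add_smul]) (fun r a b => by rw [map_smul, smul_assoc])
        (fun a b b' => by rw [map_add, smul_add]) (fun r a b => by
          rw [(KaehlerDifferential.D K B).map_smul, smul_comm])) z)
      (fun a a' z => add_smul _ _ _) (fun r a z => smul_assoc _ _ _)
      (fun a z z' => by rw [map_add, smul_add]) (fun r a z => by rw [map_smul, smul_comm]))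
  have h := congrArg T (sum_tmul_tmul_eq r (fun i => ℛ K (r.left i)) (fun i => ℛ K (r.right i)))
  simp only [map_sum, T, TensorProduct.lift.tmul, LinearMap.mk₂_apply, smul_smul] at h
  have hl : back K B (DB K B x) = ∑ i ∈ r.index, r.left i • omega K B (r.right i) := by
    simp [DB, ← r.eq, back_tmul, omegaBar_proj]
  rw [hl]
  simp only [omega_eq K B (ℛ K (r.right _)), Finset.smul_sum, smul_smul]
  rw [← h]
  simp only [← Finset.sum_smul, sum_mul_antipode_eq_algebraMap_counit, algebraMap_smul]
  simp only [← (KaehlerDifferential.D K B).map_smul, ← map_sum, sum_counit_smul]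

lemma lift_omega (x : B) :
    (derB K B).liftKaehlerDifferential (omega K B x) = 1 ⊗ₜ proj K B x := by
  classical
  let r := ℛ K x
  let T : B ⊗[K] (B ⊗[K] B) →ₗ[K] B ⊗[K] (augIdeal K B).Cotangent :=
    TensorProduct.map (LinearMap.mul' K B) (proj K B) ∘ₗ
      (TensorProduct.assoc K B B B).symm.toLinearMap ∘ₗ (antipode K).rTensor (B ⊗[K] B)
  have h := congrArg T (sum_tmul_tmul_eq r (fun i => ℛ K (r.left i)) (fun i => ℛ K (r.right i)))
  simp only [map_sum, T, LinearMap.comp_apply, LinearMap.rTensor_tmul, LinearEquiv.coe_coe,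
    TensorProduct.assoc_symm_tmul, TensorProduct.map_tmul, LinearMap.mul'_apply] at h
  rw [omega_eq K B r, map_sum]
  simp only [map_smul, Derivation.liftKaehlerDifferential_comp_D, derB, Derivation.coe_mk', DB,
    LinearMap.comp_apply, ← (ℛ K (r.right _)).eq, map_sum, LinearMap.lTensor_tmul,
    Finset.smul_sum, TensorProduct.smul_tmul', smul_eq_mul]
  rw [← h]
  simp only [← TensorProduct.sum_tmul, sum_antipode_mul_eq_algebraMap_counit,
    Algebra.algebraMap_eq_smul_one, TensorProduct.smul_tmul, ← map_smul]
  rw [← TensorProduct.tmul_sum, ← map_sum]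
  conv_rhs => rw [← sum_counit_smul r]

theorem free_kaehler : Module.Free B (Ω[B⁄K]) := by
  refine Module.Free.of_equiv (LinearEquiv.ofLinearMap (back K B) (derB K B).liftKaehlerDifferential ?_ ?_)
  · apply LinearMap.ext_on (KaehlerDifferential.span_range_derivation K B)
    rintro _ ⟨x, rfl⟩
    rw [LinearMap.comp_apply, Derivation.liftKaehlerDifferential_comp_D]
    exact back_DB K B x
  · apply TensorProduct.AlgebraTensorModule.ext
    intro b v
    obtain ⟨⟨z, hz⟩, rfl⟩ := (augIdeal K B).toCotangent_surjective v
    have hzv : (augIdeal K B).toCotangent ⟨z, hz⟩ = proj K B z := by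
      change _ = (augIdeal K B).toCotangent _
      congr 1; apply Subtype.ext
      change z = z - algebraMap K B (counit z)
      rw [show counit (R := K) z = 0 from hz, map_zero, sub_zero]
    rw [LinearMap.comp_apply, back_tmul, map_smul, hzv, omegaBar_proj, lift_omega,
      TensorProduct.smul_tmul', smul_eq_mul, mul_one]
    rfl

end

/-- Affine case of the last sentence: for a group scheme over a field the module of differentials is a
free module; stated for an affine group scheme Spec B, i.e. for a commutative Hopf algebra B over a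
field K: Ω_{B/K} is a free B-module. -/
theorem result (K : Type u) [Field K] (B : Type v) [CommRing B] [HopfAlgebra K B] : Module.Free B (Ω[B⁄K]) := by
  exact free_kaehler K B

end Groth.Agent.S1846
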