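import Groth.Statements.S18464
import Mathlib
import Groth.Agent.PlanePts.Basic

set_option autoImplicit false
universe u
open CategoryTheory CategoryTheory.Limits AlgebraicGeometry
open LefPen

namespace Groth.Agent.S18464

/-- Let k be an infinite field, r a natural number, d ≥ 1 an integer, and m ≥ C(r+d, d), the number of
monomials of degree d in r+1 variables. In the space of m-tuples of vectors of k^(r+1) (homogeneous
coordinate vectors of m points of projective r-space; a zero vector is allowed and imposes no
condition), the tuples such that the only form of degree d vanishing at all of them is the zero form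
make up a Zariski-open subset which contains the non-vanishing locus of a not identically zero
polynomial function, so a dense open subset. (The published statement is the openness and density of
the corresponding locus in the m-fold product of projective r-space over the ground field; here the
ground field is any infinite field and the statement is made on coordinate vectors.) -/
theorem result (k : Type u) [Field k] [Infinite k]
    (r d m : ℕ) (hd : 1 ≤ d) (hm : Nat.choose (r + d) d ≤ m) :
    LefPen.IsZOpen k {x : Fin m → (Fin (r + 1) → k) |
      ∀ G : LefPen.Form r k d, (∀ i : Fin m, MvPolynomial.aeval (x i) G.1 = 0) → G = 0} ∧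
    LefPen.IsGeneric k {x : Fin m → (Fin (r + 1) → k) |
      ∀ G : LefPen.Form r k d, (∀ i : Fin m, MvPolynomial.aeval (x i) G.1 = 0) → G = 0} := by
  classical
  let V := Fin m → (Fin (r + 1) → k)
  have hNdim : Module.finrank k (LefPen.Form r k d) = Nat.choose (r + d) d := by
    have h := Groth.Agent.PlanePts.finrank_hom k r d
    rw [add_comm d r] at h
    rw [show Nat.choose (r + d) d = Nat.choose (r + d) r from (Nat.choose_symm_add).symm]
    exact h
  haveI hfd : FiniteDimensional k (LefPen.Form r k d) :=
    Module.finite_of_finrank_pos (hNdim ▸ Nat.choose_pos (Nat.le_add_left d r))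
  let N := Module.finrank k (LefPen.Form r k d)
  let B : Module.Basis (Fin N) k (LefPen.Form r k d) := Module.finBasis k _
  let ev : (Fin (r + 1) → k) → Module.Dual k (LefPen.Form r k d) := fun y =>
    (MvPolynomial.aeval y).toLinearMap.comp (Submodule.subtype _)
  have hpoly : ∀ (e : Fin N → Fin m), LefPen.IsPolyFun k
      (fun x : V => (Matrix.of fun i j : Fin N => ev (x (e i)) (B j)).det) := by
    intro e
    unfold LefPen.IsPolyFun
    set A := Algebra.adjoin k (Set.range (fun l : Module.Dual k V => (l : V → k)))
    have hent : ∀ i j : Fin N, (fun x : V => ev (x (e i)) (B j)) ∈ A := by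
      intro i j
      let y : Fin (r + 1) → (V → k) := fun l x => x (e i) l
      have h : (fun x : V => ev (x (e i)) (B j)) = MvPolynomial.aeval y ((B j : LefPen.Form r k d) : MvPolynomial (Fin (r + 1)) k) := by
        funext x
        have h2 := MvPolynomial.comp_aeval y (Pi.evalAlgHom k (fun _ : V => k) x)
        exact (DFunLike.congr_fun h2 _).symm
      rw [h]
      have hle : (MvPolynomial.aeval y).range ≤ A := by
        rw [← Algebra.adjoin_range_eq_range_aeval]
        refine Algebra.adjoin_le ?_
        rintro _ ⟨l, rfl⟩
        exact Algebra.subset_adjoin ⟨((LinearMap.proj l : (Fin (r + 1) → k) →ₗ[k] k).comp (LinearMap.proj (e i)) : V →ₗ[k] k), rfl⟩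
      exact hle ⟨_, rfl⟩
    have hfun : (fun x : V => (Matrix.of fun i j : Fin N => ev (x (e i)) (B j)).det) =
        (Matrix.of fun i j : Fin N => fun x : V => ev (x (e i)) (B j)).det := by
      funext x
      exact (((Pi.evalRingHom (fun _ : V => k) x).map_det
        (Matrix.of fun i j : Fin N => fun x : V => ev (x (e i)) (B j))).trans rfl).symm
    rw [hfun, Matrix.det_apply]
    exact A.sum_mem fun σ _ => zsmul_mem (A.prod_mem fun i _ => hent _ _) _
  have hgood : ∀ (e : Fin N → Fin m) (x : V),
      (Matrix.of fun i j : Fin N => ev (x (e i)) (B j)).det ≠ 0 →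
      ∀ G : LefPen.Form r k d, (∀ i : Fin m, MvPolynomial.aeval (x i) G.1 = 0) → G = 0 := by
    intro e x hdet G hG
    have hc := Matrix.eq_zero_of_mulVec_eq_zero hdet (v := fun j => B.repr G j) (funext fun i => by
      have h : ev (x (e i)) G = 0 := hG (e i)
      conv_lhs at h => rw [← B.sum_repr G, map_sum]
      simp only [map_smul, smul_eq_mul] at h
      simpa [Matrix.mulVec, dotProduct, mul_comm] using h)
    exact B.repr.injective (Finsupp.ext fun j => by simpa using congrFun hc j)
  have hex : ∀ (ι : Type u) (x : ι → (Fin (r + 1) → k)),
      (∀ G : LefPen.Form r k d, (∀ i, MvPolynomial.aeval (x i) G.1 = 0) → G = 0) →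
      ∃ e : Fin N → ι, (Matrix.of fun i j : Fin N => ev (x (e i)) (B j)).det ≠ 0 := by
    intro ι x hx
    have hspan : Submodule.span k (Set.range fun i => ev (x i)) = ⊤ := by
      suffices h0 : (Submodule.span k (Set.range fun i => ev (x i))).dualCoannihilator = ⊥ by
        rw [← Subspace.dualCoannihilator_dualAnnihilator_eq (W := Submodule.span k (Set.range fun i => ev (x i))), h0,
          Submodule.dualAnnihilator_bot]
      rw [eq_bot_iff]
      intro G hG
      rw [Submodule.mem_dualCoannihilator] at hG
      exact hx G fun i => hG _ (Submodule.subset_span ⟨i, rfl⟩)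
    obtain ⟨f, hf, -, hli⟩ := Submodule.exists_fun_fin_finrank_span_eq k (Set.range fun i => ev (x i))
    have hNe : Module.finrank k (Submodule.span k (Set.range fun i => ev (x i))) = N := by
      rw [hspan, finrank_top, Subspace.dual_finrank_eq]
    choose e he using hf
    refine ⟨fun i => e (Fin.cast hNe.symm i), fun hdet => ?_⟩
    obtain ⟨c, hc0, hc⟩ := Matrix.exists_vecMul_eq_zero_iff.2 hdet
    have h0 : ∑ i, c i • f (Fin.cast hNe.symm i) = 0 := by
      refine B.ext fun j => ?_
      have := congrFun hc j
      simp only [Matrix.vecMul, dotProduct, Matrix.of_apply, he, Pi.zero_apply] at this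
      simpa [LinearMap.sum_apply] using this
    exact hc0 (funext (Fintype.linearIndependent_iff.1 (hli.comp _ (Fin.cast_injective _)) c h0))
  refine ⟨fun v hv => ?_, ?_⟩
  · obtain ⟨e, he⟩ := hex (ULift.{u} (Fin m)) (fun i => v i.down) fun G hG => hv G fun i => hG ⟨i⟩
    exact ⟨_, hpoly (fun i => (e i).down), he, fun w hw => hgood _ w hw⟩
  · obtain ⟨e, he⟩ := hex (Fin (r + 1) → k) id fun G hG =>
      Subtype.ext (MvPolynomial.funext fun y => by simpa using hG y)
    have hNm : N ≤ m := hNdim.le.trans hm
    refine ⟨_, hpoly (Fin.castLE hNm), ⟨fun i => if h : (i : ℕ) < N then e ⟨i, h⟩ else 0, ?_⟩,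
      fun w hw => hgood _ w hw⟩
    simpa using he

end Groth.Agent.S18464
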