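import Groth.Statements.S18465

set_option autoImplicit false
universe u v w x
open WildLef

namespace Groth.Agent.S18465

/-- Let f : G₁ → G₂ be a homomorphism of groups, ρ : G₂ → Γ a homomorphism with finite image G, and A a
nontrivial commutative ring. Let G₂ act on the group algebra A[G] through ρ followed by the left
regular representation, and G₁ through f. If the elements of A[G] fixed by G₁ coincide with those
fixed by G₂, then ρ ∘ f and ρ have the same image. (The published statement has Γ a general linear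
group GL_r(A); over the zero ring that group is trivial, so requiring A nontrivial and allowing any
target group loses nothing.) -/
theorem result
    {G₁ : Type u} {G₂ : Type v} {Γ : Type w} [Group G₁] [Group G₂] [Group Γ]
    (f : G₁ →* G₂) (ρ : G₂ →* Γ) [Finite ρ.range] (A : Type x) [CommRing A] [Nontrivial A]
    (h : {x : MonoidAlgebra A ρ.range | ∀ g : G₁, MonoidAlgebra.of A ρ.range (ρ.rangeRestrict (f g)) * x = x} =
      {x : MonoidAlgebra A ρ.range | ∀ g : G₂, MonoidAlgebra.of A ρ.range (ρ.rangeRestrict g) * x = x}) :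
    (ρ.comp f).range = ρ.range := by
  classical
  refine le_antisymm ?_ ?_
  · rintro _ ⟨g, rfl⟩; exact ⟨f g, rfl⟩
  by_contra hne
  obtain ⟨γ, hγ, hγ'⟩ := SetLike.not_le_iff_exists.mp hne
  obtain ⟨g₂, rfl⟩ := hγ
  have := Fintype.ofFinite ρ.range
  let H : Subgroup ρ.range := (ρ.rangeRestrict.comp f).range
  let x : MonoidAlgebra A ρ.range := ∑ t ∈ Finset.univ.filter (· ∈ H), MonoidAlgebra.of A ρ.range t
  have hx : x ∈ {x : MonoidAlgebra A ρ.range |
      ∀ g : G₁, MonoidAlgebra.of A ρ.range (ρ.rangeRestrict (f g)) * x = x} := by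
    intro g
    have hg : ρ.rangeRestrict (f g) ∈ H := ⟨g, rfl⟩
    simp only [x, Finset.mul_sum, ← map_mul]
    refine Finset.sum_equiv (Equiv.mulLeft (ρ.rangeRestrict (f g))) ?_ (fun _ _ => rfl)
    intro t
    simp [H.mul_mem_cancel_left hg]
  rw [h] at hx
  have hg₂ : ρ.rangeRestrict g₂ ∉ H := by
    rintro ⟨g, hg⟩
    exact hγ' ⟨g, congrArg Subtype.val hg⟩
  have h1 := congrArg (fun z : MonoidAlgebra A ρ.range => z.coeff (ρ.rangeRestrict g₂)) (hx g₂)
  simp only [x, Finset.mul_sum, ← map_mul] at h1
  simp [MonoidAlgebra.of_apply, Finsupp.single_apply, hg₂] at h1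

end Groth.Agent.S18465
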