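import Groth.Statements.S18470
import Groth.Agent.OortTate.Basic

set_option autoImplicit false
universe u v
open OortTate

namespace Groth.Agent.S18470

/-- Let R be a commutative ring and A a commutative Hopf algebra over R which is finitely generated and
projective as an R-module (a finite locally free group scheme G = Spec A, not assumed commutative),
and let A^D = Hom_R(A, R) be the dual algebra with its Hopf structure (the Cartier dual when A is
cocommutative), whose counit is evaluation at 1. Then restriction of linear forms to the
augmentation ideal I = ker ε_A of A is a bijection from the augmentation ideal of A^D onto the dual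
module Hom_R(I, R): the dual of the augmentation ideal of G is the augmentation ideal of the dual.
The published statement is for a group scheme of order p over a Λ_p-algebra; the argument uses only
the splitting A = R·1 ⊕ ker ε. -/
theorem result
    (R : Type u) [CommRing R] (A : Type v) [CommRing A] [HopfAlgebra R A]
    [Module.Finite R A] [Module.Projective R A] :
    Function.Bijective (fun f : LinearMap.ker (Bialgebra.counitAlgHom R (CartDual.D R A)).toLinearMap =>
      ((CartDual.toDual R A) (f : CartDual.D R A)).comp
        (LinearMap.ker (Bialgebra.counitAlgHom R A).toLinearMap).subtype) := by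
  have hker : ∀ f : CartDual.D R A, f ∈ LinearMap.ker
      (Bialgebra.counitAlgHom R (CartDual.D R A)).toLinearMap ↔ f 1 = 0 := fun f => Iff.rfl
  let q : A →ₗ[R] A := LinearMap.id -
    LinearMap.toSpanSingleton R A 1 ∘ₗ (Bialgebra.counitAlgHom R A).toLinearMap
  have hq : ∀ a, q a ∈ LinearMap.ker (Bialgebra.counitAlgHom R A).toLinearMap := fun a => by
    simp [q, LinearMap.mem_ker]
  refine ⟨fun f g h => ?_, fun g => ?_⟩
  · apply Subtype.ext
    apply WithConv.ofConv_injective
    ext a
    have h1 : (f : CartDual.D R A).ofConv (q a) = (g : CartDual.D R A).ofConv (q a) :=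
      LinearMap.congr_fun h ⟨q a, hq a⟩
    have hf : (f : CartDual.D R A).ofConv 1 = 0 := (hker _).1 f.2
    have hg : (g : CartDual.D R A).ofConv 1 = 0 := (hker _).1 g.2
    simpa [q, hf, hg] using h1
  · refine ⟨⟨WithConv.toConv (g ∘ₗ q.codRestrict _ hq), (hker _).2 ?_⟩, ?_⟩
    · show g (q.codRestrict _ hq 1) = 0
      rw [show q.codRestrict _ hq 1 = 0 from Subtype.ext (show q 1 = (0 : A) by simp [q]), map_zero]
    · refine LinearMap.ext fun a => ?_
      show g (q.codRestrict _ hq a) = g a
      congr 1
      refine Subtype.ext ?_
      show q a = a
      have ha := LinearMap.mem_ker.1 a.2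
      simp only [AlgHom.toLinearMap_apply, Bialgebra.counitAlgHom_apply] at ha
      simp [q, ha]

end Groth.Agent.S18470
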