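import Groth.Statements.S18472
import Mathlib.RingTheory.Smooth.Fiber
import Mathlib.RingTheory.Kaehler.Basic
import Mathlib.RingTheory.HopfAlgebra.Convolution
import Mathlib.Algebra.Module.FinitePresentation
import Mathlib.RingTheory.Finiteness.ModuleFinitePresentation

set_option autoImplicit false
universe u v
open Hopf

namespace Groth.Agent.S18472

open scoped TensorProduct


/-- Let R be a commutative ring and A a commutative Hopf algebra over R which is finitely generated and
projective as an R-module (a finite locally free group scheme G = Spec A over Spec R), and let I =
ker ε be its augmentation ideal. Then A is étale over R if and only if I² = I. (The published text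
calls G finite flat, meaning that A is finitely generated and projective.) -/
theorem result
    (R : Type u) [CommRing R] (A : Type v) [CommRing A] [HopfAlgebra R A]
    [Module.Finite R A] [Module.Projective R A] :
    Algebra.Etale R A ↔
      RingHom.ker (Bialgebra.counitAlgHom R A) ^ 2 = RingHom.ker (Bialgebra.counitAlgHom R A) := by
  constructor
  · intro h
    refine le_antisymm (Ideal.pow_le_self two_ne_zero) fun a ha => ?_
    set I := RingHom.ker (Bialgebra.counitAlgHom R A) with hI
    let φ : A →ₗ[R] A ⧸ I ^ 2 := (Ideal.Quotient.mkₐ R (I ^ 2)).toLinearMap ∘ₗ
      (LinearMap.id - LinearMap.toSpanSingleton R A 1 ∘ₗ (Bialgebra.counitAlgHom R A).toLinearMap)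
    have hφ : ∀ x, φ x = Ideal.Quotient.mk (I ^ 2) (x - algebraMap R A (Bialgebra.counitAlgHom R A x)) := fun x => by
      simp [φ, Algebra.algebraMap_eq_smul_one]
    letI : Module A R := Module.compHom R (Bialgebra.counitAlgHom R A).toRingHom
    have hmem : ∀ x : A, x - algebraMap R A (Bialgebra.counitAlgHom R A x) ∈ I := fun x => by
      rw [hI, RingHom.mem_ker, map_sub, AlgHom.commutes, Algebra.algebraMap_self_apply, sub_self]
    let mk := Ideal.Quotient.mk (I ^ 2)
    -- the module `I / I²` with `A` acting through the counit
    let N := { q : A ⧸ I ^ 2 // q ∈ I.map mk }
    let D₀ : A → (I.map mk : Ideal (A ⧸ I ^ 2)) := fun x => ⟨φ x, hφ x ▸ Ideal.mem_map_of_mem _ (hmem x)⟩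
    let D : Derivation R A (I.map mk : Ideal (A ⧸ I ^ 2)) :=
      Derivation.mk' { toFun := D₀, map_add' := fun x y => Subtype.ext (map_add φ x y),
                       map_smul' := fun r x => Subtype.ext (map_smul φ r x) } fun x y => by
        apply Subtype.ext
        show φ (x * y) = mk x * φ y + mk y * φ x
        have hxy : mk ((x - algebraMap R A (Bialgebra.counitAlgHom R A x)) *
            (y - algebraMap R A (Bialgebra.counitAlgHom R A y))) = 0 :=
          Ideal.Quotient.eq_zero_iff_mem.2 (by rw [sq]; exact Ideal.mul_mem_mul (hmem x) (hmem y))
        rw [hφ, hφ, hφ, ← map_mul, ← map_mul, ← map_add]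
        refine sub_eq_zero.1 ?_
        rw [← map_sub, ← neg_eq_zero, ← map_neg, ← hxy]
        congr 1
        simp only [map_mul]
        ring
    have hD : D a = 0 := by
      have : Subsingleton (KaehlerDifferential R A) :=
        Algebra.FormallyUnramified.subsingleton_kaehlerDifferential
      rw [← D.liftKaehlerDifferential_comp_D, Subsingleton.elim (KaehlerDifferential.D R A a) 0, map_zero]
    have h0 : φ a = 0 := congrArg Subtype.val hD
    rwa [hφ, Ideal.Quotient.eq_zero_iff_mem, RingHom.mem_ker.1 ha, map_zero, sub_zero] at h0
  · intro h
    have : Algebra.FormallyUnramified R A := by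
      rw [Algebra.formallyUnramified_iff]
      refine ⟨fun w w' => ?_⟩
      suffices hz : ∀ w : KaehlerDifferential R A, w = 0 by rw [hz w, hz w']
      intro w
      let d := KaehlerDifferential.D R A
      let T : A ⊗[R] A →ₗ[R] KaehlerDifferential R A :=
        TensorProduct.lift (((LinearMap.lsmul A (KaehlerDifferential R A)).restrictScalars₁₂ R R).compl₂
          d.toLinearMap ∘ₗ HopfAlgebra.antipode R)
      let D' : A →ₗ[R] KaehlerDifferential R A := T ∘ₗ Coalgebra.comul
      have hT : ∀ x y, T (x ⊗ₜ y) = HopfAlgebra.antipode R x • d y := fun x y => rfl
      let S' : A ⊗[R] A →ₗ[R] A := LinearMap.mul' R A ∘ₗ (HopfAlgebra.antipode R).rTensor A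
      have hTm : ∀ u v, T (u * v) = S' u • T v + S' v • T u := by
        intro u v
        induction u using TensorProduct.induction_on with
        | zero => simp
        | add u u' hu hu' => simp only [add_mul, map_add, hu, hu', smul_add, add_smul]; abel
        | tmul x y =>
          induction v using TensorProduct.induction_on with
          | zero => simp
          | add v v' hv hv' => simp only [mul_add, map_add, hv, hv', smul_add, add_smul]; abel
          | tmul x' y' =>
            rw [Algebra.TensorProduct.tmul_mul_tmul, hT, hT, hT, Derivation.leibniz,
              HopfAlgebra.antipode_mul_distrib]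
            simp only [S', LinearMap.comp_apply, LinearMap.rTensor_tmul, LinearMap.mul'_apply, smul_add, smul_smul]
            congr 1 <;> · congr 1; ring
      have hS' : ∀ x, S' (Coalgebra.comul x) = algebraMap R A (Coalgebra.counit x) :=
        HopfAlgebra.mul_antipode_rTensor_comul_apply
      have hD' : ∀ x y, D' (x * y) = algebraMap R A (Coalgebra.counit (R := R) x) • D' y +
          algebraMap R A (Coalgebra.counit (R := R) y) • D' x := fun x y => by
        show T (Coalgebra.comul (x * y)) = _
        rw [Bialgebra.comul_mul, hTm, hS', hS']
        rfl
      have hI : ∀ x ∈ RingHom.ker (Bialgebra.counitAlgHom R A), D' x = 0 := by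
        intro x hx
        rw [← h, sq] at hx
        induction hx using Submodule.mul_induction_on' with
        | mem_mul_mem m hm n hn =>
          rw [hD', show Coalgebra.counit (R := R) m = 0 from hm, show Coalgebra.counit (R := R) n = 0 from hn,
            map_zero, zero_smul, zero_smul, add_zero]
        | add m _ n _ hm hn => rw [map_add, hm, hn, add_zero]
      have h1 : D' 1 = 0 := by
        show T (Coalgebra.comul 1) = 0
        rw [Bialgebra.comul_one, Algebra.TensorProduct.one_def, hT, d.map_one_eq_zero, smul_zero]
      have hall : ∀ x, D' x = 0 := fun x => by
        rw [← sub_add_cancel x (Bialgebra.counitAlgHom R A x • (1 : A)), map_add, map_smul, h1, smul_zero, add_zero]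
        exact hI _ (by rw [RingHom.mem_ker, map_sub, map_smul, map_one, smul_eq_mul, mul_one, sub_self])
      have hd : ∀ x, d x = 0 := by
        intro x
        -- `d x = ∑ x₁ • D' x₂`
        let U : A ⊗[R] A →ₗ[R] KaehlerDifferential R A :=
          TensorProduct.lift (((LinearMap.lsmul A (KaehlerDifferential R A)).restrictScalars₁₂ R R).compl₂ D')
        let V : A ⊗[R] (A ⊗[R] A) →ₗ[R] KaehlerDifferential R A :=
          TensorProduct.lift (((LinearMap.lsmul A (KaehlerDifferential R A)).restrictScalars₁₂ R R).compl₂ T)
        let W : A ⊗[R] A →ₗ[R] KaehlerDifferential R A :=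
          TensorProduct.lift (((LinearMap.lsmul A (KaehlerDifferential R A)).restrictScalars₁₂ R R).compl₂ d.toLinearMap)
        have hU : U (Coalgebra.comul x) = 0 := by
          induction Coalgebra.comul (R := R) x using TensorProduct.induction_on with
          | zero => simp
          | add a b ha hb => rw [map_add, ha, hb, add_zero]
          | tmul a b =>
            show a • D' b = 0
            rw [hall, smul_zero]
        have e1 : ∀ z : A ⊗[R] A, U z = V (LinearMap.lTensor A Coalgebra.comul z) := by
          intro z
          induction z using TensorProduct.induction_on with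
          | zero => simp
          | add a b ha hb => simp only [map_add, ha, hb]
          | tmul a b => rfl
        have e2 : ∀ z : (A ⊗[R] A) ⊗[R] A, V (TensorProduct.assoc R A A A z) =
            W (LinearMap.rTensor A (LinearMap.mul' R A ∘ₗ (HopfAlgebra.antipode R).lTensor A) z) := by
          intro z
          induction z using TensorProduct.induction_on with
          | zero => simp
          | add a b ha hb => simp only [map_add, ha, hb]
          | tmul ab c =>
            induction ab using TensorProduct.induction_on with
            | zero => simp
            | add a b ha hb => simp only [TensorProduct.add_tmul, map_add, ha, hb]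
            | tmul a b =>
              show a • (HopfAlgebra.antipode R b • d c) = (a * HopfAlgebra.antipode R b) • d c
              rw [smul_smul]
        have e3 : ∀ z : A ⊗[R] A, W (LinearMap.rTensor A (LinearMap.mul' R A ∘ₗ (HopfAlgebra.antipode R).lTensor A)
            (LinearMap.rTensor A Coalgebra.comul z)) =
            d (TensorProduct.lid R A (LinearMap.rTensor A Coalgebra.counit z)) := by
          intro z
          induction z using TensorProduct.induction_on with
          | zero => simp
          | add a b ha hb => simp only [map_add, ha, hb]
          | tmul a b =>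
            show (LinearMap.mul' R A ((HopfAlgebra.antipode R).lTensor A (Coalgebra.comul a))) • d b = _
            rw [HopfAlgebra.mul_antipode_lTensor_comul_apply, algebraMap_smul]
            simp
        rw [e1, ← Coalgebra.coassoc_apply, e2, e3, Coalgebra.rTensor_counit_comul] at hU
        simpa using hU
      have hw := KaehlerDifferential.span_range_derivation R A
      have : w ∈ Submodule.span A (Set.range d) := hw ▸ Submodule.mem_top
      induction this using Submodule.span_induction with
      | mem y hy => obtain ⟨x, rfl⟩ := hy; exact hd x
      | zero => rfl
      | add y z _ _ hy hz => rw [hy, hz, add_zero]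
      | smul c y _ hy => rw [hy, smul_zero]
    have : Module.FinitePresentation R A := Module.finitePresentation_of_projective R A
    have : Algebra.FinitePresentation R A := Algebra.FinitePresentation.of_finitePresentation R A
    exact Algebra.Etale.of_formallyUnramified_of_flat

end Groth.Agent.S18472
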