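import Groth.Statements.S18475
import Groth.Agent.S18478

set_option autoImplicit false
universe u
open OortTate

namespace Groth.Agent.S18475

/-- Let p be a prime, R a commutative ring containing u with u(p − 1) = 1, and χ a homomorphism from the
units of ℤ/p to the units of R such that χ(m) − 1 is a unit for every m ≠ 1 (the situation of an
algebra over the subring Λ_p of the p-adic integers generated by the Teichmüller values and 1/(p(p −
1)), with χ the Teichmüller character, which is the published setting); assume moreover χ(m) ≡ m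
modulo pR for every m. Let A and A' be commutative and cocommutative Hopf algebras over R, finitely
generated and projective as R-modules of rank p at every prime (group schemes G, G' of order p over
Spec R), with dual Hopf algebras A^D = Hom_R(A, R) and A'^D (the Cartier duals; for a unit m of ℤ/p
the power map [m] acts on all four algebras). Suppose the χ-eigenspaces of the augmentation ideals
are free of rank one with chosen generators: I_1(A) = R·x and I_1(A^D) = R·ξ with ξ(x) = 1, and
similarly I_1(A') = R·x', I_1(A'^D) = R·ξ' with ξ'(x') = 1 (this is the case of a local base R);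
write x^p = α x, ξ^p = β ξ, x'^p = α' x', ξ'^p = β' ξ' with α, β, α', β' ∈ R. If there is a unit v
of R with α' = v^{p−1} α and β' = v^{−(p−1)} β, then A and A' are isomorphic as bialgebras over R,
i.e. G ≅ G'. (This is the injectivity of the classification map G ↦ (I_1, a, b) in the case where
the invertible module I_1 is free, the case the copy spells out; the general statement compares
triples consisting of an invertible module with two maps.) The published argument obtains
commutativity and p-torsion of G over a locally Noetherian base; this row allows any commutative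
ring R, over which both still hold. -/
theorem result
    (p : ℕ) [Fact p.Prime] (R : Type u) [CommRing R] (u : R) (hu : u * ((p - 1 : ℕ) : R) = 1)
    (χ : (ZMod p)ˣ →* Rˣ) (hχ : ∀ m : (ZMod p)ˣ, m ≠ 1 → IsUnit ((χ m : R) - 1))
    (hχp : ∀ m : (ZMod p)ˣ, ((χ m : Rˣ) : R) - (((m : ZMod p).val : ℕ) : R) ∈ Ideal.span ({(p : R)} : Set R))
    (A : Type u) [CommRing A] [HopfAlgebra R A] [Coalgebra.IsCocomm R A] [Module.Finite R A]
    [Module.Projective R A] (hrk : ∀ q : PrimeSpectrum R, Module.rankAtStalk A q = p)
    (A' : Type u) [CommRing A'] [HopfAlgebra R A'] [Coalgebra.IsCocomm R A'] [Module.Finite R A']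
    [Module.Projective R A'] (hrk' : ∀ q : PrimeSpectrum R, Module.rankAtStalk A' q = p)
    (x : A) (hx : Submodule.span R {x} = OortTate.eigenAug R A p χ 1)
    (ξ : CartDual.D R A) (hξ : Submodule.span R {ξ} = OortTate.eigenAug R (CartDual.D R A) p χ 1)
    (hxξ : CartDual.toDual R A ξ x = 1)
    (x' : A') (hx' : Submodule.span R {x'} = OortTate.eigenAug R A' p χ 1)
    (ξ' : CartDual.D R A') (hξ' : Submodule.span R {ξ'} = OortTate.eigenAug R (CartDual.D R A') p χ 1)
    (hxξ' : CartDual.toDual R A' ξ' x' = 1)
    (α β α' β' : R) (hα : x ^ p = α • x) (hβ : ξ ^ p = β • ξ) (hα' : x' ^ p = α' • x')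
    (hβ' : ξ' ^ p = β' • ξ')
    (v : Rˣ) (hαv : α' = ((v ^ (p - 1) : Rˣ) : R) * α) (hβv : β' = ((v⁻¹ ^ (p - 1) : Rˣ) : R) * β) :
    Nonempty (A ≃ₐc[R] A') := by
  classical
  have hp2 := (Fact.out : p.Prime).two_le
  set c : R := ((v⁻¹ : Rˣ) : R) with hcdef
  have hcv : c * (v : R) = 1 := by rw [hcdef, Units.inv_mul]
  have hmem : x ∈ OortTate.eigenAug R A p χ 1 := hx ▸ Submodule.mem_span_singleton_self x
  have hmem' : x' ∈ OortTate.eigenAug R A' p χ 1 := hx' ▸ Submodule.mem_span_singleton_self x'
  have hbij : Function.Bijective (LinearMap.toSpanSingleton R (OortTate.eigenAug R A p χ 1) ⟨x, hmem⟩) := by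
    refine ⟨fun r s h => ?_, fun y => ?_⟩
    · have h1 := congrArg (fun z : OortTate.eigenAug R A p χ 1 => CartDual.toDual R A ξ (z : A)) h
      simp only [LinearMap.toSpanSingleton_apply, SetLike.val_smul, map_smul, hxξ, smul_eq_mul, mul_one] at h1
      exact h1
    · obtain ⟨r, hr⟩ := Submodule.mem_span_singleton.1 (show (y : A) ∈ Submodule.span R {x} from hx.symm ▸ y.2)
      exact ⟨r, Subtype.ext hr⟩
  have hbij' : Function.Bijective (LinearMap.toSpanSingleton R (OortTate.eigenAug R A' p χ 1) ⟨x', hmem'⟩) := by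
    refine ⟨fun r s h => ?_, fun y => ?_⟩
    · have h1 := congrArg (fun z : OortTate.eigenAug R A' p χ 1 => CartDual.toDual R A' ξ' (z : A')) h
      simp only [LinearMap.toSpanSingleton_apply, SetLike.val_smul, map_smul, hxξ', smul_eq_mul, mul_one] at h1
      exact h1
    · obtain ⟨r, hr⟩ := Submodule.mem_span_singleton.1 (show (y : A') ∈ Submodule.span R {x'} from hx'.symm ▸ y.2)
      exact ⟨r, Subtype.ext hr⟩
  let e := LinearEquiv.ofBijective _ hbij
  let e' := LinearEquiv.ofBijective _ hbij'
  let θ : OortTate.eigenAug R A p χ 1 ≃ₗ[R] OortTate.eigenAug R A' p χ 1 :=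
    e.symm ≪≫ₗ LinearEquiv.smulOfUnit v⁻¹ ≪≫ₗ e'
  have hθr : ∀ r : R, θ (e r) = e' (c * r) := fun r => by
    simp only [θ, LinearEquiv.trans_apply, LinearEquiv.symm_apply_apply]
    rfl
  have hcp : ∀ a : R, c ^ p * (((v ^ (p - 1) : Rˣ) : R) * a) = c * a := fun a => by
    have h1 : c ^ p = c ^ (p - 1) * c := by
      rw [← pow_succ]
      congr 1
      omega
    rw [h1, Units.val_pow_eq_pow_val,
      show c ^ (p - 1) * c * ((v : R) ^ (p - 1) * a) = (c * (v : R)) ^ (p - 1) * (c * a) by rw [mul_pow]; ring,
      hcv, one_pow, one_mul]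
  refine Groth.Agent.S18478.result p R u hu χ hχ hχp A hrk A' hrk' θ (fun f g hg => ?_)
    fun φ φ' ψ ψ' hφ hψ hψ' y => ?_
  · obtain ⟨s, rfl⟩ := e.surjective g
    choose r hr using fun i => e.surjective (f i)
    simp only [← hr] at hg ⊢
    simp only [hθr]
    have hev : ∀ t : R, ((e t : OortTate.eigenAug R A p χ 1) : A) = t • x := fun t => rfl
    have hev' : ∀ t : R, ((e' t : OortTate.eigenAug R A' p χ 1) : A') = t • x' := fun t => rfl
    simp only [hev, hev'] at hg ⊢
    rw [Finset.prod_smul, Finset.prod_const, Finset.card_univ, Fintype.card_fin, hα, smul_smul] at hg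
    rw [Finset.prod_smul, Finset.prod_const, Finset.card_univ, Fintype.card_fin, hα', smul_smul,
      Finset.prod_mul_distrib, Finset.prod_const, Finset.card_univ, Fintype.card_fin, hαv]
    have h1 := congrArg (CartDual.toDual R A ξ) hg
    simp only [map_smul, hxξ, smul_eq_mul, mul_one] at h1
    congr 1
    rw [h1, show c ^ p * (∏ i, r i) * (((v ^ (p - 1) : Rˣ) : R) * α) =
      (∏ i, r i) * (c ^ p * (((v ^ (p - 1) : Rˣ) : R) * α)) by ring, hcp]
    ring
  · obtain ⟨t, rfl⟩ := e.surjective y
    have hspan : ∀ φ : OortTate.eigenAug R (CartDual.D R A) p χ 1, ∃ a : R, a • ξ = (φ : CartDual.D R A) :=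
      fun φ => Submodule.mem_span_singleton.1 (hξ.symm ▸ φ.2)
    have hspan' : ∀ φ : OortTate.eigenAug R (CartDual.D R A') p χ 1, ∃ a : R, a • ξ' = (φ : CartDual.D R A') :=
      fun φ => Submodule.mem_span_singleton.1 (hξ'.symm ▸ φ.2)
    choose a ha using fun i => hspan (φ i)
    choose b hb using fun i => hspan' (φ' i)
    have hev : ∀ t : R, ((e t : OortTate.eigenAug R A p χ 1) : A) = t • x := fun t => rfl
    have hev' : ∀ t : R, ((e' t : OortTate.eigenAug R A' p χ 1) : A') = t • x' := fun t => rfl
    have hab : ∀ i, a i = b i * c := fun i => by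
      have h1 := hφ i (e 1)
      rw [hθr, hev, hev', ← ha, ← hb, one_smul, mul_one] at h1
      simp only [map_smul, LinearMap.smul_apply, hxξ, hxξ', smul_eq_mul, mul_one] at h1
      rw [h1]
      ring
    simp only [← ha] at hψ
    simp only [← hb] at hψ'
    rw [Finset.prod_smul, Finset.prod_const, Finset.card_univ, Fintype.card_fin, hβ, smul_smul] at hψ
    rw [Finset.prod_smul, Finset.prod_const, Finset.card_univ, Fintype.card_fin, hβ', smul_smul] at hψ'
    rw [hθr, hev, hev', hψ, hψ']
    simp only [map_smul, LinearMap.smul_apply, hxξ, hxξ', smul_eq_mul, mul_one]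
    simp only [hab, Finset.prod_mul_distrib, Finset.prod_const, Finset.card_univ, Fintype.card_fin]
    have hβ2 : β = ((v ^ (p - 1) : Rˣ) : R) * β' := by
      rw [hβv, ← mul_assoc, ← Units.val_mul, ← mul_pow, mul_inv_cancel, one_pow, Units.val_one, one_mul]
    rw [hβ2, show (∏ i, b i) * c ^ p * (((v ^ (p - 1) : Rˣ) : R) * β') =
      (∏ i, b i) * (c ^ p * (((v ^ (p - 1) : Rˣ) : R) * β')) by ring, hcp]
    ring

end Groth.Agent.S18475
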