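import Groth.Statements.S18484
import Mathlib.AlgebraicGeometry.Morphisms.SchemeTheoreticallyDominant
-- import your own Groth.Agent.* helpers here

set_option autoImplicit false
universe u
open CategoryTheory CategoryTheory.Limits AlgebraicGeometry MonObj
open Neron

namespace Groth.Agent.S18484

/-- Let R be a Dedekind domain with fraction field K, X a Spec R-scheme which is a Néron model of its
generic fibre X_K, and i : G → X a closed immersion with G smooth over Spec R. Then G is a Néron
model of its generic fibre G_K: smooth, separated, of finite type, and for every smooth Spec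
R-scheme Y restriction to generic fibres is a bijection from R-morphisms Y → G onto K-morphisms Y_K
→ G_K. (The source states this for a closed subgroup scheme of a Néron model; the group laws play no
part and are not assumed. The converse direction of the source, that a Néron model is a closed
subgroup of a Néron model, is immediate and not stated.) -/
theorem result (R : Type u) [CommRing R] [IsDedekindDomain R]
    (X G : Over (Spec (CommRingCat.of R))) (hX : Neron.IsNeronModelOf R X ((Neron.genericFibre R).obj X) (Iso.refl _))
    (i : G ⟶ X) [IsClosedImmersion i.left] [Smooth G.hom] :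
    Neron.IsNeronModelOf R G ((Neron.genericFibre R).obj G) (Iso.refl _) := by
  obtain ⟨-, hsep, hlft, hqc, hm⟩ := hX
  have : IsSeparated (i.left ≫ X.hom) := inferInstance
  have hGs : IsSeparated G.hom := by rw [← Over.w i]; infer_instance
  have hGq : QuasiCompact G.hom := by rw [← Over.w i]; infer_instance
  have hGl : LocallyOfFiniteType G.hom := by rw [← Over.w i]; infer_instance
  refine ⟨inferInstance, hGs, hGl, hGq, fun Y hY => ?_⟩
  have : Mono i.left := inferInstance
  refine ⟨fun g g' hg => ?_, fun h => ?_⟩
  · have hg' : (Neron.genericFibre R).map g = (Neron.genericFibre R).map g' := by simpa using hg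
    have : g ≫ i = g' ≫ i := (hm Y hY).injective (by simp [Functor.map_comp, hg'])
    refine Over.OverMorphism.ext ((cancel_mono i.left).1 ?_)
    exact congrArg (fun k => k.left) this
  · obtain ⟨g, hg⟩ := (hm Y hY).surjective (h ≫ (Neron.genericFibre R).map i)
    have hg' : (Neron.genericFibre R).map g = h ≫ (Neron.genericFibre R).map i := by simpa using hg
    let z := pullback.fst g.left i.left
    let q := pullback.fst Y.hom (Neron.genPt R)
    have : IsDominant (Neron.genPt R) := ⟨(PrimeSpectrum.denseRange_comap_iff_ker_le_nilRadical (algebraMap R (FractionRing R))).2 (by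
      rw [(RingHom.injective_iff_ker_eq_bot _).1 (IsFractionRing.injective R (FractionRing R))]
      exact bot_le)⟩
    have : IsSchemeTheoreticallyDominant (Neron.genPt R) := IsSchemeTheoreticallyDominant.of_isDominant _
    have : Flat Y.hom := inferInstance
    have : IsSchemeTheoreticallyDominant q := inferInstance
    have hfac : h.left ≫ pullback.fst G.hom (Neron.genPt R) ≫ i.left = q ≫ g.left := by
      have h' := congrArg (fun k => k.left ≫ pullback.fst X.hom (Neron.genPt R)) hg'
      simp only [Over.pullback_map_left, Over.comp_left, Category.assoc, pullback.lift_fst] at h'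
      exact h'.symm
    let l := pullback.lift q (h.left ≫ pullback.fst G.hom (Neron.genPt R)) (by rw [Category.assoc]; exact hfac.symm) 
    have hl : l ≫ z = q := pullback.lift_fst _ _ _
    have : IsIso z := by
      rw [IsClosedImmersion.isIso_iff_ker_eq_bot]
      refine le_bot_iff.1 ?_
      rw [← q.ker_eq_bot, ← hl]
      exact Scheme.Hom.le_ker_comp l z
    have hcond : inv z ≫ pullback.snd g.left i.left ≫ i.left = g.left := by
      rw [IsIso.inv_comp_eq]
      exact pullback.condition.symm
    let k : Y ⟶ G := Over.homMk (inv z ≫ pullback.snd g.left i.left) (by
      rw [← Over.w i, Category.assoc]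
      calc inv z ≫ pullback.snd g.left i.left ≫ i.left ≫ X.hom = (inv z ≫ pullback.snd g.left i.left ≫ i.left) ≫ X.hom := by simp
        _ = g.left ≫ X.hom := by rw [hcond]
        _ = Y.hom := Over.w g)
    have hk : k ≫ i = g := Over.OverMorphism.ext (by
      show (inv z ≫ pullback.snd g.left i.left) ≫ i.left = g.left
      rw [Category.assoc, hcond])
    refine ⟨k, ?_⟩
    have : Mono i := (Over.forget _).mono_of_mono_map (f := i) (inferInstanceAs (Mono i.left))
    simp only [Iso.refl_hom, Category.comp_id]
    rw [← cancel_mono ((Neron.genericFibre R).map i), ← Functor.map_comp, hk, hg']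

end Groth.Agent.S18484
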