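import Groth.Statements.S18485
import Mathlib
-- import your own Groth.Agent.* helpers here

set_option autoImplicit false
set_option backward.isDefEq.respectTransparency.types false
universe u
open CategoryTheory CategoryTheory.Limits AlgebraicGeometry MonObj
open Neron

namespace Groth.Agent.S18485

section
open TensorProduct
variable (R : Type u) [CommRing R] [IsDomain R] (A : Type u) [CommRing A] [Algebra R A] [Module.Flat R A]

lemma quasiFinite_of_generic [Module.Finite (FractionRing R) (FractionRing R ⊗[R] A)] :
    Algebra.QuasiFinite R A := by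
  refine ⟨fun P hP => ?_⟩
  haveI := hP
  let k := P.ResidueField
  have hspan : Submodule.span k (Set.range fun a : A => (1 : k) ⊗ₜ[R] a) = ⊤ := by
    rw [eq_top_iff]
    intro z _
    induction z with
    | zero => exact zero_mem _
    | tmul c a =>
      rw [show c ⊗ₜ[R] a = c • ((1 : k) ⊗ₜ[R] a) by rw [TensorProduct.smul_tmul', smul_eq_mul, _root_.mul_one]]
      exact Submodule.smul_mem _ _ (Submodule.subset_span ⟨a, rfl⟩)
    | add x y hx hy => exact add_mem (hx trivial) (hy trivial)
  obtain ⟨B, hB, hBs, hBi⟩ := exists_linearIndependent k (Set.range fun a : A => (1 : k) ⊗ₜ[R] a)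
  rw [hspan] at hBs
  choose a ha using fun b : B => hB b.2
  let Rp := Localization.AtPrime P
  have h1 : LinearIndependent k (TensorProduct.mk Rp k (Rp ⊗[R] A) 1 ∘ fun b : B => (1 : Rp) ⊗ₜ[R] a b) := by
    let e := (TensorProduct.AlgebraTensorModule.cancelBaseChange R Rp k k A).symm
    have := hBi.map' e.toLinearMap (LinearEquiv.ker e)
    suffices heq : (TensorProduct.mk Rp k (Rp ⊗[R] A) 1 ∘ fun b : B => (1 : Rp) ⊗ₜ[R] a b) = e.toLinearMap ∘ ((↑) : B → k ⊗[R] A) by
      rw [heq]; exact this
    funext b
    show (1 : k) ⊗ₜ[Rp] ((1 : Rp) ⊗ₜ[R] a b) = e (b : k ⊗[R] A)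
    rw [← ha b]
    rfl
  have h2 : LinearIndependent Rp (fun b : B => (1 : Rp) ⊗ₜ[R] a b) :=
    Module.IsLocalRing.linearIndependent_of_flat _ h1
  have hinj : Function.Injective (algebraMap R Rp) :=
    IsLocalization.injective Rp P.primeCompl_le_nonZeroDivisors
  have h3 : LinearIndependent R (fun b : B => (1 : Rp) ⊗ₜ[R] a b) :=
    h2.restrict_scalars (by simpa [Algebra.smul_def] using hinj)
  have h4 : LinearIndependent R a := LinearIndependent.of_comp (TensorProduct.mk R Rp A 1) h3
  have h5 := h4.of_isLocalizedModule (Rₛ := FractionRing R) (S := nonZeroDivisors R)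
    (f := TensorProduct.mk R (FractionRing R) A 1)
  haveI : Finite B := h5.finite
  have hBfin : B.Finite := Set.toFinite B
  exact ⟨⟨hBfin.toFinset, by rw [Set.Finite.coe_toFinset]; exact hBs⟩⟩

end

section
open CategoryTheory CategoryTheory.Limits AlgebraicGeometry
lemma lqf_spec (R : Type u) [CommRing R] [IsDomain R] (A : CommRingCat.{u}) (φ : CommRingCat.of R ⟶ A)
    (hflat : Flat (Spec.map φ))
    (hK : LocallyQuasiFinite (pullback.snd (Spec.map φ) (Neron.genPt R))) :
    LocallyQuasiFinite (Spec.map φ) := by
  have hfl : φ.hom.Flat := (HasRingHomProperty.Spec_iff (P := @Flat)).mp hflat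
  refine (HasRingHomProperty.Spec_iff (P := @LocallyQuasiFinite)).mpr ?_
  algebraize [φ.hom]
  have hK' : LocallyQuasiFinite (pullback.fst (Neron.genPt R) (Spec.map φ)) := by
    rw [← pullbackSymmetry_hom_comp_snd]
    exact MorphismProperty.comp_mem _ _ _ inferInstance hK
  have h2 : LocallyQuasiFinite ((pullbackSpecIso R (FractionRing R) A).inv ≫
      pullback.fst (Neron.genPt R) (Spec.map φ)) :=
    MorphismProperty.comp_mem _ _ _ inferInstance hK'
  have h2' : LocallyQuasiFinite (Spec.map (CommRingCat.ofHom
      (algebraMap (FractionRing R) (TensorProduct R (FractionRing R) A)))) :=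
    pullbackSpecIso_inv_fst' R (FractionRing R) A ▸ h2
  have h3 := (HasRingHomProperty.Spec_iff (P := @LocallyQuasiFinite)).mp h2'
  rw [CommRingCat.hom_ofHom, RingHom.quasiFinite_algebraMap] at h3
  haveI := h3
  haveI := Module.Finite.of_quasiFinite (R := FractionRing R) (S := TensorProduct R (FractionRing R) A)
  exact quasiFinite_of_generic R A

lemma piece {X Y S T : Scheme.{u}} (j : X ⟶ Y) (hj : IsOpenImmersion j) (h : Y ⟶ S) (g : T ⟶ S)
    (hf : Flat h) (h0 : LocallyQuasiFinite (pullback.snd h g)) :
    Flat (j ≫ h) ∧ LocallyQuasiFinite (pullback.snd (j ≫ h) g) := by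
  refine ⟨inferInstance, ?_⟩
  rw [← pullbackRightPullbackFstIso_inv_snd_snd]
  infer_instance

end

/-- Let R be a Dedekind domain with fraction field K and H a Spec R-scheme which is flat and locally of
finite type over Spec R. If the generic fibre H_K is locally quasi-finite over K, then H is locally
quasi-finite over Spec R. (The published statement is about the schematic closure, in an S-group
algebraic space of finite type over a connected Dedekind scheme S, of a finite subgroup of the
generic fibre, which it asserts to be a quasi-finite S-group; this row is the statement about flat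
schemes locally of finite type over an affine Dedekind base on which that rests. Locally
quasi-finite is meant here without a finite type clause, which is assumed separately.) -/
theorem result (R : Type u) [CommRing R]
    [IsDedekindDomain R] (H : Over (Spec (CommRingCat.of R))) [Flat H.hom] [LocallyOfFiniteType H.hom]
    [LocallyQuasiFinite ((Neron.genericFibre R).obj H).hom] : LocallyQuasiFinite H.hom := by
  refine (IsZariskiLocalAtSource.iff_of_openCover (P := @LocallyQuasiFinite) H.left.affineCover).mpr fun i => ?_
  obtain ⟨φ, hφ⟩ := Spec.map_surjective (H.left.affineCover.f i ≫ H.hom)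
  obtain ⟨hF, hQ⟩ := piece (H.left.affineCover.f i) (H.left.affineCover.map_prop i) H.hom (Neron.genPt R)
    inferInstance ‹LocallyQuasiFinite ((Neron.genericFibre R).obj H).hom›
  refine (congrArg (fun f => LocallyQuasiFinite f) hφ).mp (lqf_spec R _ φ ?_ ?_)
  · exact (congrArg (fun f => Flat f) hφ).mpr hF
  · exact (congrArg (fun f => LocallyQuasiFinite (pullback.snd f (Neron.genPt R))) hφ).mpr hQ

end Groth.Agent.S18485
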