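import Groth.Statements.S18487
import Groth.Agent.TorsorDesc.Generic

set_option autoImplicit false
universe u
open CategoryTheory CategoryTheory.Limits AlgebraicGeometry MonObj
open NonAbH1

namespace Groth.Agent.S18487

open AlgebraicGeometry CategoryTheory CategoryTheory.Limits MonoidalCategory CartesianMonoidalCategory MonObj

set_option backward.isDefEq.respectTransparency.types false

theorem aux_section {R : Type u} [CommRing R] [IsDedekindDomain R] {G X : Over (Spec (CommRingCat.of R))}
    [GrpObj G] [IsProper G.hom] [Flat G.hom] {a : AlgGrp.Action G X}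
    (hX : NonAbH1.IsTorsorFor Scheme.fpqcPrecoverage a) (s : Spec (CommRingCat.of (FractionRing R)) ⟶ X.left)
    (hs : s ≫ X.hom = Neron.genPt R) : NonAbH1.HasSectionOver X (𝟙 (Spec (CommRingCat.of R))) := by
  let c := Neron.genPt R
  let σ0 : (Over.map c).obj (Over.mk (𝟙 (Spec (CommRingCat.of (FractionRing R))))) ⟶ X :=
    Over.homMk s (hs.trans (Category.id_comp _).symm)
  let toOne : ∀ T' : Over (Spec (CommRingCat.of (FractionRing R))),
      T' ⟶ Over.mk (𝟙 (Spec (CommRingCat.of (FractionRing R)))) := fun T' => Over.homMk T'.hom (Category.comp_id _)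
  let st : ∀ T' : Over (Spec (CommRingCat.of (FractionRing R))), (Over.map c).obj T' ⟶ X :=
    fun T' => (Over.map c).map (toOne T') ≫ σ0
  have hst : ∀ {T' T'' : Over (Spec (CommRingCat.of (FractionRing R)))} (q : T'' ⟶ T'),
      (Over.map c).map q ≫ st T' = st T'' := fun {T' T''} q => by
    rw [← Category.assoc, ← Functor.map_comp]
    congr 2
    exact Over.OverMorphism.ext (Over.w q)
  let x0 : (Over.map c).obj (Red.bc c G) ⟶ G := (Over.mapPullbackAdj c).counit.app G
  let φ : Red.bc c G ⟶ Red.bc c X :=
    (Over.mapPullbackAdj c).homEquiv (Red.bc c G) X (TorsorDesc.act a x0 (st _))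
  have hpt : ∀ {T' : Over (Spec (CommRingCat.of (FractionRing R)))} (x : (Over.map c).obj T' ⟶ G),
      TorsorDesc.ptMap c φ x = TorsorDesc.act a x (st T') := fun {T'} x => by
    rw [TorsorDesc.ptMap, Adjunction.homEquiv_naturality_left_symm, Equiv.symm_apply_apply, TorsorDesc.comp_act, hst]
    congr 1
    exact ((Over.mapPullbackAdj c).homEquiv_counit _ _ _).symm.trans (Equiv.symm_apply_apply _ _)
  have hφ : ((NonAbH1.trivialAction G).bc c).act ≫ φ = (Red.bc c G ◁ φ) ≫ (a.bc c).act := by
    let he := fun (Y : Over (Spec (CommRingCat.of R))) => (Over.mapPullbackAdj c).homEquiv (Red.bc c G ⊗ Red.bc c G) Y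
    let g := (he G).symm (fst (Red.bc c G) (Red.bc c G))
    let x := (he G).symm (snd (Red.bc c G) (Red.bc c G))
    have hfst : fst (Red.bc c G) (Red.bc c G) = he G g := ((he G).apply_symm_apply _).symm
    have hsnd : snd (Red.bc c G) (Red.bc c G) = he G x := ((he G).apply_symm_apply _).symm
    have hid : lift (he G g) (he G x) = 𝟙 _ := by rw [← hfst, ← hsnd, lift_fst_snd]
    have hφx : ∀ z, he G z ≫ φ = he X (TorsorDesc.ptMap c φ z) := fun z =>
      (((Over.mapPullbackAdj c).homEquiv _ X).apply_symm_apply _).symm
    rw [← Category.id_comp (((NonAbH1.trivialAction G).bc c).act ≫ φ),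
      ← Category.id_comp ((Red.bc c G ◁ φ) ≫ _), ← hid, lift_whiskerLeft_assoc, ← Category.assoc,
      AlgGrp.Action.lift_homEquiv_bc_act, hφx, hφx, AlgGrp.Action.lift_homEquiv_bc_act, hpt, hpt]
    exact congrArg _ (TorsorDesc.act_act a g x (st _)).symm
  have htriv : NonAbH1.IsTorsorFor Scheme.fpqcPrecoverage (NonAbH1.trivialAction G) :=
    NonAbH1.isTorsorFor_trivialAction G _
  obtain ⟨ψ, -⟩ := TorsorDesc.exists_extension htriv hX φ hφ
  exact ⟨η[G].left ≫ ψ.left, by rw [Category.assoc, Over.w ψ]; exact Over.w η[G]⟩


/-- Let R be a Dedekind domain with fraction field K, G a proper flat group scheme over Spec R, and P a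
Spec R-scheme with an action of G making it a G-torsor for the fppf topology (a pseudo-torsor
acquiring sections on the members of an fppf covering family). If P acquires a section over the
generic point Spec K → Spec R, then P has a section over Spec R: a generically trivial torsor is
trivial. (The source allows any connected Dedekind scheme as base and torsors that are fppf sheaves,
shown there to be schemes; the affine base and scheme torsors are stated.) -/
theorem result (R : Type u) [CommRing R] [IsDedekindDomain R]
    (G : Over (Spec (CommRingCat.of R))) [GrpObj G] [IsProper G.hom] [Flat G.hom]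
    (P : NonAbH1.TorsorSch G Scheme.fppfPrecoverage) (h : NonAbH1.HasSectionOver P.X (Neron.genPt R)) :
    NonAbH1.HasSectionOver P.X (𝟙 (Spec (CommRingCat.of R))) := by
  obtain ⟨s, hs⟩ := h
  exact aux_section (a := P.act)
    ⟨P.isTorsor.1, by obtain ⟨_, R', h1, h2⟩ := P.isTorsor; exact ⟨R', Scheme.fppfPrecoverage_le_fpqcPrecoverage _ h1, h2⟩⟩ s hs

end Groth.Agent.S18487
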