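import Groth.Statements.S18488
import Groth.Agent.TorsorDesc.Generic

set_option autoImplicit false
universe u
open CategoryTheory CategoryTheory.Limits AlgebraicGeometry MonObj
open NonAbH1

namespace Groth.Agent.S18488

open AlgebraicGeometry CategoryTheory CategoryTheory.Limits MonoidalCategory CartesianMonoidalCategory

set_option backward.isDefEq.respectTransparency.types false

theorem aux_ptMap {R : Type u} [CommRing R] [IsDomain R] {X Y : Over (Spec (CommRingCat.of R))}
    (φ : Red.bc (Neron.genPt R) X ⟶ Red.bc (Neron.genPt R) Y) (ψ : X ⟶ Y)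
    (h : pullback.fst X.hom (Neron.genPt R) ≫ ψ.left = φ.left ≫ pullback.fst Y.hom (Neron.genPt R))
    {T' : Over (Spec (CommRingCat.of (FractionRing R)))} (x : (Over.map (Neron.genPt R)).obj T' ⟶ X) :
    x ≫ ψ = TorsorDesc.ptMap (Neron.genPt R) φ x := by
  apply Over.OverMorphism.ext
  conv_lhs => rw [← ((Over.mapPullbackAdj (Neron.genPt R)).homEquiv T' X).symm_apply_apply x]
  simp only [TorsorDesc.ptMap, Adjunction.homEquiv_counit]
  refine (Category.assoc _ _ _).trans ?_
  refine Eq.trans ?_ (Category.assoc _ _ _).symm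
  exact congrArg (_ ≫ ·) h

theorem aux_ext {R : Type u} [CommRing R] [IsDomain R] {X Y : Over (Spec (CommRingCat.of R))}
    [Flat X.hom] [IsSeparated Y.hom] {f g : X ⟶ Y}
    (h : pullback.fst X.hom (Neron.genPt R) ≫ f.left = pullback.fst X.hom (Neron.genPt R) ≫ g.left) : f = g := by
  have := TorsorDesc.isSTD_genPt (R := R)
  exact Over.OverMorphism.ext (NeronLib.ext_of_schemeTheoreticallyDominant Y.hom (by rw [Over.w f, Over.w g])
    (pullback.fst X.hom (Neron.genPt R)) h)

theorem aux_equivIso {R : Type u} [CommRing R] [IsDedekindDomain R] {G X Y : Over (Spec (CommRingCat.of R))}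
    [GrpObj G] [IsProper G.hom] [Flat G.hom] {a : AlgGrp.Action G X} {b : AlgGrp.Action G Y}
    (hX : NonAbH1.IsTorsorFor Scheme.fpqcPrecoverage a) (hY : NonAbH1.IsTorsorFor Scheme.fpqcPrecoverage b)
    (e : NonAbH1.EquivIso (a.bc (Neron.genPt R)) (b.bc (Neron.genPt R))) : Nonempty (NonAbH1.EquivIso a b) := by
  have : IsProper X.hom := TorsorDesc.of_isTorsorFor @IsProper a hX ‹_›
  have : Flat X.hom := TorsorDesc.of_isTorsorFor @Flat a hX ‹_›
  have : IsProper Y.hom := TorsorDesc.of_isTorsorFor @IsProper b hY ‹_›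
  have : Flat Y.hom := TorsorDesc.of_isTorsorFor @Flat b hY ‹_›
  obtain ⟨ψ, hψ⟩ := TorsorDesc.exists_extension hX hY e.iso.hom e.comm
  have hinv : (b.bc (Neron.genPt R)).act ≫ e.iso.inv =
      (Red.bc (Neron.genPt R) G ◁ e.iso.inv) ≫ (a.bc (Neron.genPt R)).act := by
    rw [← cancel_mono e.iso.hom, Category.assoc, Category.assoc, e.comm, ← MonoidalCategory.whiskerLeft_comp_assoc]
    simp
  obtain ⟨ψ', hψ'⟩ := TorsorDesc.exists_extension hY hX e.iso.inv hinv
  refine ⟨⟨⟨ψ, ψ', aux_ext ?_, aux_ext ?_⟩, ?_⟩⟩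
  · rw [Over.comp_left, ← Category.assoc, hψ, Category.assoc, hψ', ← Category.assoc, ← Over.comp_left,
      e.iso.hom_inv_id]
    exact (Category.id_comp _).trans (Category.comp_id _).symm
  · rw [Over.comp_left, ← Category.assoc, hψ', Category.assoc, hψ, ← Category.assoc, ← Over.comp_left,
      e.iso.inv_hom_id]
    exact (Category.id_comp _).trans (Category.comp_id _).symm
  · have : Flat (G ⊗ X).hom := inferInstanceAs (Flat (pullback.fst G.hom X.hom ≫ G.hom))
    refine aux_ext ?_
    let T' : Over (Spec (CommRingCat.of (FractionRing R))) := Red.bc (Neron.genPt R) (G ⊗ X)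
    let z : (Over.map (Neron.genPt R)).obj T' ⟶ G ⊗ X := (Over.mapPullbackAdj (Neron.genPt R)).counit.app (G ⊗ X)
    have key : z ≫ a.act ≫ ψ = z ≫ (G ◁ ψ) ≫ b.act := by
      have hz : z = lift (z ≫ fst G X) (z ≫ snd G X) := by
        apply CartesianMonoidalCategory.hom_ext <;> simp
      rw [← Category.assoc, aux_ptMap _ _ hψ]
      conv_lhs => rw [hz]
      conv_rhs => rw [hz, lift_whiskerLeft_assoc, aux_ptMap _ _ hψ]
      exact TorsorDesc.ptMap_act (Neron.genPt R) e.iso.hom e.comm _ _
    have hk := congr(CommaMorphism.left $key)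
    exact hk


/-- Let R be a Dedekind domain with fraction field K and G a proper flat group scheme over Spec R. Then
restriction to the generic fibre, from the set of classes of G-torsors for the fppf topology (Spec
R-schemes with a G-action, pseudo-torsors trivialised on an fppf covering family, up to equivariant
isomorphism) to the set of classes of G_K-torsors, is injective. (The source allows any connected
Dedekind scheme as base and all fppf torsors, which it shows to be schemes; the affine base and
torsors representable by schemes are stated.) -/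
theorem result (R : Type u) [CommRing R] [IsDedekindDomain R]
    (G : Over (Spec (CommRingCat.of R))) [GrpObj G] [IsProper G.hom] [Flat G.hom] :
    Function.Injective (NonAbH1.H1Sch.bcMap (Neron.genPt R) G Scheme.fppfPrecoverage) := by
  intro x y h
  induction x using Quot.ind with
  | mk P =>
  induction y using Quot.ind with
  | mk Q =>
  obtain ⟨e⟩ := TorsorDesc.nonempty_equivIso_of_cl_eq (P := P.bc (Neron.genPt R)) (Q := Q.bc (Neron.genPt R)) h
  obtain ⟨e'⟩ := aux_equivIso
    ⟨P.isTorsor.1, by obtain ⟨_, R', h1, h2⟩ := P.isTorsor; exact ⟨R', Scheme.fppfPrecoverage_le_fpqcPrecoverage _ h1, h2⟩⟩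
    ⟨Q.isTorsor.1, by obtain ⟨_, R', h1, h2⟩ := Q.isTorsor; exact ⟨R', Scheme.fppfPrecoverage_le_fpqcPrecoverage _ h1, h2⟩⟩ e
  exact Quot.sound ⟨e'⟩

end Groth.Agent.S18488
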