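import Groth.Statements.S18490
import Mathlib.AlgebraicGeometry.Morphisms.Immersion
import Mathlib.AlgebraicGeometry.Morphisms.Flat
import Mathlib.AlgebraicGeometry.Morphisms.Separated


set_option autoImplicit false
universe u
open CategoryTheory CategoryTheory.Limits AlgebraicGeometry
open FlatMor

namespace Groth.Agent.S18490

/-- Let f : X → S and g : Y → S be morphisms of schemes and suppose that g has a section y : S → Y. If
the structure morphism X ×_S Y → S (first projection followed by f) is quasi-compact, then so is f;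
likewise for locally of finite type, for separated, and for flat. (Finite type, also listed in the
source, is the conjunction of the first two.) -/
theorem result {X Y S : Scheme.{u}} (f : X ⟶ S) (g : Y ⟶ S)
    (y : S ⟶ Y) (hy : y ≫ g = 𝟙 S) :
    (QuasiCompact (pullback.fst f g ≫ f) → QuasiCompact f) ∧
    (LocallyOfFiniteType (pullback.fst f g ≫ f) → LocallyOfFiniteType f) ∧
    (IsSeparated (pullback.fst f g ≫ f) → IsSeparated f) ∧
    (Flat (pullback.fst f g ≫ f) → Flat f) := by
  let p := pullback.fst f g
  let s : X ⟶ pullback f g := pullback.lift (𝟙 X) (f ≫ y) (by simp [hy])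
  have hs : s ≫ p = 𝟙 X := pullback.lift_fst ..
  have hs' : IsImmersion s := by
    have : IsImmersion (s ≫ p) := by rw [hs]; infer_instance
    exact IsImmersion.of_comp s p
  have hf : f = s ≫ (p ≫ f) := by rw [← Category.assoc, hs, Category.id_comp]
  have hsx : ∀ x, p (s x) = x := fun x ↦ by
    have h1 := Scheme.Hom.comp_apply s p x
    rw [hs] at h1
    exact h1.symm
  refine ⟨fun h ↦ ⟨fun U hU hU' ↦ ?_⟩, fun h ↦ ?_, fun h ↦ ?_, fun h ↦ ?_⟩
  · have hc := h.isCompact_preimage U hU hU'
    convert hc.image p.continuous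
    ext x
    refine ⟨fun hx ↦ ⟨s x, show f (p (s x)) ∈ U by rwa [hsx], hsx x⟩, ?_⟩
    rintro ⟨z, hz, rfl⟩
    exact hz
  · rw [hf]
    exact MorphismProperty.comp_mem _ _ _ inferInstance h
  · rw [hf]
    exact MorphismProperty.comp_mem _ _ _ inferInstance h
  · rw [Flat.iff_flat_stalkMap]
    intro x
    have hx : p (s x) = x := hsx x
    suffices (f.stalkMap (p (s x))).hom.Flat by rwa [hx] at this
    have hA := Flat.stalkMap (p ≫ f) (s x)
    rw [Scheme.Hom.stalkMap_comp] at hA
    change ((p.stalkMap (s x)).hom.comp (f.stalkMap (p (s x))).hom).Flat at hA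
    have hiso : IsIso (p.stalkMap (s x) ≫ s.stalkMap x) := by
      rw [← Scheme.Hom.stalkMap_comp]
      have : ∀ q : X ⟶ X, q = 𝟙 X → IsIso (q.stalkMap x) := by rintro q rfl; infer_instance
      exact this _ hs
    have hinv : ∀ a, ((s.stalkMap x) ≫ inv (p.stalkMap (s x) ≫ s.stalkMap x)).hom
        ((p.stalkMap (s x)).hom a) = a := fun a ↦ by
      have h2 := IsIso.hom_inv_id (p.stalkMap (s x) ≫ s.stalkMap x)
      rw [Category.assoc] at h2
      exact congr($(h2) a)
    set ψ := (f.stalkMap (p (s x))).hom
    set π := (p.stalkMap (s x)).hom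
    set r := ((s.stalkMap x) ≫ inv (p.stalkMap (s x) ≫ s.stalkMap x)).hom
    algebraize [ψ, π, π.comp ψ]
    have : Module.Flat _ _ := hA
    exact Module.Flat.of_retract
      (IsScalarTower.toAlgHom _ _ _).toLinearMap
      { toFun := r
        map_add' := r.map_add
        map_smul' := fun c a ↦ by
          simp only [Algebra.smul_def, map_mul, RingHom.id_apply]
          congr 1
          exact hinv (ψ c) }
      (LinearMap.ext hinv)

end Groth.Agent.S18490
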