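import Groth.Statements.S18505
import Mathlib
import Groth.Agent.DivPts.NormalIso

set_option autoImplicit false
universe u
open CategoryTheory MonoidalCategory CartesianMonoidalCategory MonObj GrpObj AlgebraicGeometry Topology
open EqInt

namespace Groth.Agent.S18505

open Groth.Agent

/-- Over an algebraically closed field k of characteristic zero, let an affine group scheme G of finite
type act on a normal variety X (integral, separated, of finite type over k, with integrally closed
local rings) and let (Y, φ) be a geometric quotient of X by G with Y separated of finite type over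
k. Then Y is normal. (The other two conditions of the published criterion are immediate from the
definition of a geometric quotient, and its converse rests on a result quoted there without proof;
only this implication is stated. A geometric quotient is taken here with φ universally submersive.) -/
theorem result (k : Type u) [Field k] [IsAlgClosed k] [CharZero k]
    (G X Y : Over (Spec (CommRingCat.of k))) [GrpObj G] [IsAffine G.left] [LocallyOfFiniteType G.hom]
    [LocallyOfFiniteType X.hom] [QuasiCompact X.hom] [IsSeparated X.hom] [IsIntegral X.left]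
    (hX : Pi1.IsNormalScheme X.left)
    [LocallyOfFiniteType Y.hom] [QuasiCompact Y.hom] [IsSeparated Y.hom]
    (a : AlgGrp.Action G X) (φ : X ⟶ Y) (h : GIT.IsGeomQuot a φ) :
    Pi1.IsNormalScheme Y.left := by
  haveI : Surjective φ.left := ⟨h.surj⟩
  haveI : IsReduced Y.left := ⟨fun U => isReduced_of_injective (φ.left.app U).hom (h.sections U).1⟩
  haveI : IrreducibleSpace Y.left :=
    { isPreirreducible_univ := by
        rw [← h.surj.range_eq, ← Set.image_univ]
        exact (IrreducibleSpace.isIrreducible_univ X.left).2.image _ φ.left.continuous.continuousOn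
      toNonempty := ⟨φ.left.base (genericPoint X.left)⟩ }
  haveI : IsIntegral Y.left := isIntegral_of_irreducibleSpace_of_isReduced _
  have key : ∀ (V : Y.left.Opens), IsAffineOpen V → Nonempty V → IsIntegrallyClosed Γ(Y.left, V) := by
    intro V hV hne
    obtain ⟨⟨y₀, hy₀⟩⟩ := hne
    haveI : Nonempty V := ⟨⟨y₀, hy₀⟩⟩
    obtain ⟨x₀, hx₀⟩ := h.surj y₀
    let U := φ.left ⁻¹ᵁ V
    have hx₀U : x₀ ∈ U := show φ.left.base x₀ ∈ V by rw [hx₀]; exact hy₀
    haveI : Nonempty U := ⟨⟨x₀, hx₀U⟩⟩
    haveI := functionField_isFractionRing_of_isAffineOpen Y.left V hV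
    let jV : Γ(Y.left, V) →+* X.left.functionField := (X.left.germToFunctionField U).hom.comp (φ.left.app V).hom
    have hjV : Function.Injective jV := (Scheme.germToFunctionField_injective X.left U).comp (h.sections V).1
    let L : Y.left.functionField →+* X.left.functionField := IsFractionRing.lift hjV
    refine (isIntegrallyClosed_iff Y.left.functionField).mpr fun {z} hz => ?_
    have hw : ∀ a, L (algebraMap Γ(Y.left, V) Y.left.functionField a) = jV a := fun a => IsFractionRing.lift_algebraMap hjV a
    -- `L z` is a section of every affine open in the preimage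
    let I := {W : X.left.affineOpens // W.1 ≤ U ∧ Nonempty W.1}
    have hloc : ∀ i : I, ∃ c : Γ(X.left, i.1.1), haveI := i.2.2; X.left.germToFunctionField i.1.1 c = L z := fun i => by
      haveI := i.2.2
      haveI := functionField_isFractionRing_of_isAffineOpen X.left i.1.1 i.1.2
      haveI := DivPts.isIntegrallyClosed_sections hX i.1.2
      refine IsIntegrallyClosed.algebraMap_eq_of_integral (K := X.left.functionField) ?_
      obtain ⟨P, hP, hP0⟩ := hz
      refine ⟨P.map ((X.left.presheaf.map (homOfLE i.2.1).op).hom.comp (φ.left.app V).hom), hP.map _, ?_⟩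
      rw [Polynomial.eval₂_map]
      have e : (algebraMap Γ(X.left, i.1.1) X.left.functionField).comp ((X.left.presheaf.map (homOfLE i.2.1).op).hom.comp (φ.left.app V).hom) =
          L.comp (algebraMap Γ(Y.left, V) Y.left.functionField) := RingHom.ext fun a =>
        (TopCat.Presheaf.germ_res_apply X.left.presheaf (homOfLE i.2.1) _ _ _).trans (hw a).symm
      rw [e, ← Polynomial.hom_eval₂, hP0, map_zero]
    choose c hc using hloc
    obtain ⟨C, hC, -⟩ := X.left.sheaf.existsUnique_gluing' (fun i : I => i.1.1) U (fun i => homOfLE i.2.1) (by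
      intro x hx
      obtain ⟨W, hW, hxW, hWU⟩ := exists_isAffineOpen_mem_and_subset hx
      exact TopologicalSpace.Opens.mem_iSup.mpr ⟨⟨⟨W, hW⟩, hWU, ⟨⟨x, hxW⟩⟩⟩, hxW⟩) c (by
      intro i j
      haveI := i.2.2; haveI := j.2.2
      have hgen : ∀ W : X.left.Opens, Nonempty W → genericPoint X.left ∈ W := fun W ⟨⟨x, hx⟩⟩ =>
        ((genericPoint_spec X.left).mem_open_set_iff W.2).mpr ⟨x, Set.mem_univ x, hx⟩
      have hm : genericPoint X.left ∈ i.1.1 ⊓ j.1.1 := ⟨hgen _ i.2.2, hgen _ j.2.2⟩
      refine germ_injective_of_isIntegral (X := X.left) (U := i.1.1 ⊓ j.1.1) _ hm ?_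
      exact ((TopCat.Presheaf.germ_res_apply X.left.presheaf _ _ hm _).trans (hc i)).trans
        ((TopCat.Presheaf.germ_res_apply X.left.presheaf _ _ hm _).trans (hc j)).symm)
    change Γ(X.left, φ.left ⁻¹ᵁ V) at C
    obtain ⟨W₀, hW₀, hxW₀, hW₀U⟩ := exists_isAffineOpen_mem_and_subset hx₀U
    have hCz : X.left.germToFunctionField U C = L z := by
      haveI : Nonempty W₀ := ⟨⟨x₀, hxW₀⟩⟩
      rw [← hc ⟨⟨W₀, hW₀⟩, hW₀U, inferInstance⟩, ← hC ⟨⟨W₀, hW₀⟩, hW₀U, inferInstance⟩]
      exact (TopCat.Presheaf.germ_res_apply X.left.presheaf _ _ _ _).symm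
    obtain ⟨p, q, hq, hpq⟩ := IsFractionRing.div_surjective Γ(Y.left, V) z
    have hq0 : (φ.left.app V) q ≠ 0 := fun h0 => nonZeroDivisors.ne_zero hq ((h.sections V).1 (h0.trans (map_zero (φ.left.app V).hom).symm))
    have hCq : C * φ.left.app V q = φ.left.app V p := by
      refine Scheme.germToFunctionField_injective X.left U ?_
      rw [map_mul, hCz, ← hpq, map_div₀, hw, hw]
      exact div_mul_cancel₀ _ ((map_ne_zero_iff _ (Scheme.germToFunctionField_injective X.left U)).mpr hq0)
    -- invariance
    have hCinv : GIT.IsInvSection a φ V C := by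
      have hinv : ∀ b, GIT.IsInvSection a φ V (φ.left.app V b) := fun b => by
        have hr := (h.sections V).2
        exact (hr ▸ Set.mem_range_self b : φ.left.app V b ∈ {f | GIT.IsInvSection a φ V f})
      have hp := hinv p
      have hq' := hinv q
      unfold GIT.IsInvSection at hp hq' ⊢
      rw [← hCq, map_mul, map_mul, hq'] at hp
      haveI : Flat (snd G X).left := inferInstanceAs (Flat (Limits.pullback.snd G.hom X.hom))
      refine TopCat.Presheaf.section_ext (G ⊗ X).left.sheaf _ _ _ fun w hw' => ?_
      have hg := congrArg ((G ⊗ X).left.presheaf.germ _ w hw') hp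
      rw [map_mul, map_mul] at hg
      have hwU : (snd G X).left.base w ∈ U := hw'.2
      have hreg : IsSMulRegular ((G ⊗ X).left.presheaf.stalk w)
          (((snd G X).left.stalkMap w) (X.left.presheaf.germ U _ hwU (φ.left.app V q))) := by
        letI := ((snd G X).left.stalkMap w).hom.toAlgebra
        haveI : Module.Flat (X.left.presheaf.stalk ((snd G X).left.base w)) ((G ⊗ X).left.presheaf.stalk w) :=
          Flat.stalkMap (snd G X).left w
        have h0 : X.left.presheaf.germ U _ hwU (φ.left.app V q) ≠ 0 := fun h0 =>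
          hq0 (germ_injective_of_isIntegral (X := X.left) _ hwU (h0.trans (map_zero _).symm))
        exact (IsSMulRegular.of_ne_zero h0 : IsSMulRegular (X.left.presheaf.stalk ((snd G X).left.base w)) _).of_flat
      have eb : (G ⊗ X).left.presheaf.germ _ w hw' ((snd G X).left.appLE U
          (a.act.left ⁻¹ᵁ U ⊓ (snd G X).left ⁻¹ᵁ U) inf_le_right (φ.left.app V q)) =
          ((snd G X).left.stalkMap w) (X.left.presheaf.germ U _ hwU (φ.left.app V q)) := by
        rw [Scheme.Hom.germ_stalkMap_apply, Scheme.Hom.appLE, CommRingCat.comp_apply]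
        exact TopCat.Presheaf.germ_res_apply _ _ _ _ _
      rw [eb] at hg
      exact hreg (((mul_comm _ _).trans hg).trans (mul_comm _ _))
    obtain ⟨b, hb⟩ : C ∈ Set.range (φ.left.app V) := by rw [(h.sections V).2]; exact hCinv
    refine ⟨b, L.injective ?_⟩
    rw [hw, ← hCz, ← hb]
    rfl
  intro y
  obtain ⟨V, hV, hyV, -⟩ := exists_isAffineOpen_mem_and_subset (X := Y.left) (U := ⊤) (x := y) trivial
  haveI := key V hV ⟨⟨y, hyV⟩⟩
  haveI : Nonempty V := ⟨⟨y, hyV⟩⟩
  letI := (Y.left.presheaf.germ V y hyV).hom.toAlgebra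
  haveI : IsLocalization.AtPrime (Y.left.presheaf.stalk y) (hV.primeIdealOf ⟨y, hyV⟩).asIdeal :=
    hV.isLocalization_stalk ⟨y, hyV⟩
  exact ⟨inferInstance, isIntegrallyClosed_of_isLocalization (Y.left.presheaf.stalk y) (hV.primeIdealOf ⟨y, hyV⟩).asIdeal.primeCompl
    (Ideal.primeCompl_le_nonZeroDivisors _)⟩

end Groth.Agent.S18505
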