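import Groth.Statements.S18510
import Mathlib
import Groth.Agent.GrpSch.BundleMap
import Groth.Agent.GITQuot.FpqcTorsor
import Groth.Agent.FpqcDescent.Basic

set_option autoImplicit false
universe u
open CategoryTheory MonoidalCategory CartesianMonoidalCategory MonObj GrpObj AlgebraicGeometry Topology
open EqInt

namespace Groth.Agent.S18510

set_option backward.isDefEq.respectTransparency.types false
open Groth.Agent CategoryTheory.Limits

/-- An equivariant morphism of principal bundles is cartesian. -/
lemma isPullback_of_equivariant {S : Scheme.{u}} {G A B QA QB : Over S} [GrpObj G]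
    (a : AlgGrp.Action G A) (b : AlgGrp.Action G B) (f : A ⟶ B) (hf : AlgGrp.Action.IsEquivariant a b f)
    (qA : A ⟶ QA) (hA : GIT.IsInvariant a qA) (hAi : IsIso (GIT.PsiY a qA hA))
    [Flat qA.left] [Surjective qA.left] [QuasiCompact qA.left]
    (qB : B ⟶ QB) (hB : GIT.IsInvariant b qB) (hBi : IsIso (GIT.PsiY b qB hB))
    (fG : QA ⟶ QB) (hfG : qA ≫ fG = f ≫ qB) :
    IsPullback f.left qA.left qB.left fG.left := by
  have hq := GrpSch.BundleMap.isPullback_of_psiY a qA hA hAi
  have hr := GrpSch.BundleMap.isPullback_of_psiY b qB hB hBi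
  have hpl : qA.left ≫ fG.left = f.left ≫ qB.left := by rw [← Over.comp_left, hfG, Over.comp_left]
  let c := pullback.lift (f := qB.left) (g := fG.left) f.left qA.left hpl.symm
  have hc1 : c ≫ pullback.fst qB.left fG.left = f.left := pullback.lift_fst _ _ _
  have hc2 : c ≫ pullback.snd qB.left fG.left = qA.left := pullback.lift_snd _ _ _
  have hbig : IsPullback ((a.act.left ≫ c) ≫ pullback.fst qB.left fG.left) (snd G A).left qB.left
      (qA.left ≫ fG.left) := by
    have h := (GrpSch.BundleMap.isPullback_whiskerLeft_snd G f).paste_horiz hr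
    rw [← Over.comp_left (f := G ◁ f) (g := b.act), ← hf, Over.comp_left, ← hpl] at h
    rw [Category.assoc, hc1]
    exact h
  have hsq2 : IsPullback (a.act.left ≫ c) (snd G A).left (pullback.snd qB.left fG.left) qA.left :=
    IsPullback.of_right hbig (by rw [Category.assoc, hc2]; exact hq.w) (IsPullback.of_hasPullback qB.left fG.left)
  haveI : Surjective (a.act.left ≫ c) := MorphismProperty.of_isPullback hsq2.flip ‹Surjective qA.left›
  haveI : Flat (a.act.left ≫ c) := MorphismProperty.of_isPullback hsq2.flip ‹Flat qA.left›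
  haveI : QuasiCompact (a.act.left ≫ c) := MorphismProperty.of_isPullback hsq2.flip ‹QuasiCompact qA.left›
  have hc : IsPullback a.act.left (𝟙 _) c (a.act.left ≫ c) := by
    refine IsPullback.of_bot ?_ (Category.id_comp _).symm hsq2
    rw [Category.id_comp, hc2]
    exact hq
  haveI : IsIso c := MorphismProperty.of_isPullback_of_descendsAlong
    (P := MorphismProperty.isomorphisms Scheme.{u}) (Q := @Surjective ⊓ @Flat ⊓ @QuasiCompact)
    hc.flip ⟨⟨‹_›, ‹_›⟩, ‹_›⟩ (inferInstanceAs (IsIso (𝟙 _)))
  exact IsPullback.of_iso_pullback ⟨hpl.symm⟩ (asIso c) hc1 hc2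


/-- Over a field k, let an affine group scheme G of finite type act on X, on Y and on U (quasi-separated
schemes of finite type over k), let f : X → Y be G-equivariant, and let q_X : X × U → X_G and q_Y :
Y × U → Y_G be principal bundle quotients for the diagonal actions (each is invariant, flat and
surjective, and (σ, p₂) into the fibre square over the quotient is an isomorphism), X_G and Y_G
being quasi-separated of finite type over k. Let f_G : X_G → Y_G satisfy f_G ∘ q_X = q_Y ∘ (f ×
id_U) as maps X × U → Y_G. If f is proper, resp. flat, resp. smooth, then so is f_G. (Stated for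
schemes; the source allows algebraic spaces and also treats regular embeddings and local complete
intersection morphisms, which are not stated here.) -/
theorem result (k : Type u) [Field k]
    (G X Y U XG YG : Over (Spec (CommRingCat.of k))) [GrpObj G] [IsAffine G.left] [LocallyOfFiniteType G.hom]
    [LocallyOfFiniteType X.hom] [QuasiCompact X.hom] [QuasiSeparated X.hom]
    [LocallyOfFiniteType Y.hom] [QuasiCompact Y.hom] [QuasiSeparated Y.hom]
    [LocallyOfFiniteType U.hom] [QuasiCompact U.hom] [QuasiSeparated U.hom]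
    [LocallyOfFiniteType XG.hom] [QuasiCompact XG.hom] [QuasiSeparated XG.hom]
    [LocallyOfFiniteType YG.hom] [QuasiCompact YG.hom] [QuasiSeparated YG.hom]
    (a : AlgGrp.Action G X) (aY : AlgGrp.Action G Y) (b : AlgGrp.Action G U)
    (f : X ⟶ Y) (hf : AlgGrp.Action.IsEquivariant a aY f)
    (qX : X ⊗ U ⟶ XG) (hqX : GIT.IsInvariant (a.prod b) qX) [Flat qX.left] [Surjective qX.left]
    (hcX : IsIso (GIT.PsiY (a.prod b) qX hqX))
    (qY : Y ⊗ U ⟶ YG) (hqY : GIT.IsInvariant (aY.prod b) qY) [Flat qY.left] [Surjective qY.left]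
    (hcY : IsIso (GIT.PsiY (aY.prod b) qY hqY))
    (fG : XG ⟶ YG) (hfG : qX ≫ fG = (f ▷ U) ≫ qY) :
    (IsProper f.left → IsProper fG.left) ∧ (Flat f.left → Flat fG.left) ∧
      (Smooth f.left → Smooth fG.left) := by
  haveI : QuasiCompact (X ⊗ U).hom := GrpSch.BundleMap.quasiCompact_tensor X U
  haveI : QuasiCompact (Y ⊗ U).hom := GrpSch.BundleMap.quasiCompact_tensor Y U
  haveI : QuasiCompact (qX.left ≫ XG.hom) := by rw [Over.w]; infer_instance
  haveI : QuasiCompact (qY.left ≫ YG.hom) := by rw [Over.w]; infer_instance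
  haveI : QuasiCompact qX.left := QuasiCompact.of_comp qX.left XG.hom
  haveI : QuasiCompact qY.left := QuasiCompact.of_comp qY.left YG.hom
  have heq : AlgGrp.Action.IsEquivariant (a.prod b) (aY.prod b) (f ▷ U) := by
    refine AlgGrp.Action.hom_ext_lift₂ fun T g p => ?_
    obtain ⟨x, u, rfl⟩ : ∃ x u, p = lift x u := ⟨p ≫ fst X U, p ≫ snd X U, by rw [← comp_lift, lift_fst_snd, Category.comp_id]⟩
    rw [← Category.assoc, AlgGrp.Action.lift_prod_act, lift_whiskerRight, lift_whiskerLeft_assoc, lift_whiskerRight,
      AlgGrp.Action.lift_prod_act, Category.assoc, hf, lift_whiskerLeft_assoc]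
  have sq := isPullback_of_equivariant (a.prod b) (aY.prod b) (f ▷ U) heq qX hqX hcX qY hqY hcY fG hfG
  have hbc : IsPullback (fst X U).left (f ▷ U).left f.left (fst Y U).left := by
    refine IsPullback.of_right (h₁₂ := Limits.pullback.snd Y.hom U.hom) (v₁₃ := U.hom) (h₂₂ := Y.hom) ?_
      (Over.whiskerRight_left_fst f) (IsPullback.of_hasPullback Y.hom U.hom).flip |>.flip
    rw [Over.whiskerRight_left_snd, Over.w f]
    exact (IsPullback.of_hasPullback X.hom U.hom).flip
  have hQ : (@Surjective ⊓ @Flat ⊓ @QuasiCompact : MorphismProperty Scheme.{u}) qY.left := ⟨⟨‹_›, ‹_›⟩, ‹_›⟩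
  haveI := GITQuot.descendsAlong_flat.{u}
  exact ⟨fun h => MorphismProperty.of_isPullback_of_descendsAlong (P := @IsProper) sq hQ (MorphismProperty.of_isPullback hbc h),
    fun h => MorphismProperty.of_isPullback_of_descendsAlong (P := @Flat) sq hQ (MorphismProperty.of_isPullback hbc h),
    fun h => MorphismProperty.of_isPullback_of_descendsAlong (P := @Smooth) sq hQ (MorphismProperty.of_isPullback hbc h)⟩

end Groth.Agent.S18510
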