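import Groth.Statements.S18519
import Mathlib
import Groth.Agent.CSA.Splitting

set_option autoImplicit false
universe u
open scoped TensorProduct
open Brauer

namespace Groth.Agent.S18519

/-- For a field K with maximal abelian extension K_ab, cd(K_ab) ≤ 1 if and only if for every etale
K-algebra E the restriction map Br(E) ⟶ Br(E ⊗_K K_ab) is trivial; the same holds with the maximal
solvable extension. Stated here for an arbitrary separable algebraic extension F of K in place of
K_ab (the published lemma takes for F the maximal abelian or the maximal solvable extension of K;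
this row allows any separable algebraic extension), with cd(F) ≤ 1 unfolded by the Brauer-group
criterion (every finite separable extension of F has trivial Brauer group) and with etale algebras
replaced by their field factors: (a) every finite-dimensional central division algebra over a finite
separable extension F′ of F is F′ itself; if and only if (b) for every finite separable extension E
of K, every finite-dimensional central division algebra D over E and every field M containing E and
F compatibly over K, the base change M ⊗_E D is isomorphic over M to a matrix algebra over M. -/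
theorem result
    (K F : Type u) [Field K] [Field F] [Algebra K F] [Algebra.IsSeparable K F] :
    (∀ (F' : Type u) [Field F'] [Algebra F F'] [FiniteDimensional F F'] [Algebra.IsSeparable F F']
        (D : Type u) [DivisionRing D] [Algebra F' D] [Algebra.IsCentral F' D] [FiniteDimensional F' D],
        Module.finrank F' D = 1) ↔
    (∀ (E : Type u) [Field E] [Algebra K E] [FiniteDimensional K E] [Algebra.IsSeparable K E]
        (D : Type u) [DivisionRing D] [Algebra E D] [Algebra.IsCentral E D] [FiniteDimensional E D]
        (M : Type u) [Field M] [Algebra K M] [Algebra E M] [Algebra F M] [IsScalarTower K E M]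
        [IsScalarTower K F M],
        ∃ n : ℕ, Nonempty ((M ⊗[E] D) ≃ₐ[M] Matrix (Fin n) (Fin n) M)) := by
  classical
  constructor
  · intro h E _ _ _ _ D _ _ _ _ M _ _ _ _ _ _
    let S : Set M := Set.range (algebraMap E M)
    let F' : IntermediateField F M := IntermediateField.adjoin F S
    let ι : E →+* F' := (algebraMap E M).codRestrict F' (fun e => IntermediateField.subset_adjoin F S ⟨e, rfl⟩)
    letI : Algebra E F' := ι.toAlgebra
    haveI : IsScalarTower E F' M := IsScalarTower.of_algebraMap_eq fun _ => rfl
    have hsep : ∀ x ∈ S, IsSeparable F x := by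
      rintro _ ⟨e, rfl⟩
      have h1 : IsSeparable K (algebraMap E M e) := by
        exact (Algebra.IsSeparable.isSeparable K e).map (IsScalarTower.toAlgHom K E M) (algebraMap E M).injective
      exact IsSeparable.tower_top F h1
    haveI : FiniteDimensional F F' := by
      obtain ⟨s, hs⟩ : (⊤ : Submodule K E).FG := Module.Finite.fg_top
      have hle : F' = IntermediateField.adjoin F ((algebraMap E M) '' (s : Set E)) := by
        refine le_antisymm (IntermediateField.adjoin_le_iff.2 ?_) (IntermediateField.adjoin.mono _ _ _ (Set.image_subset_range _ _))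
        rintro _ ⟨e, rfl⟩
        have he : e ∈ Submodule.span K (s : Set E) := hs ▸ Submodule.mem_top
        induction he using Submodule.span_induction with
        | mem x hx => exact IntermediateField.subset_adjoin F _ ⟨x, hx, rfl⟩
        | zero => rw [map_zero]; exact zero_mem _
        | add x y _ _ hx hy => rw [map_add]; exact add_mem hx hy
        | smul r x _ hx =>
          rw [Algebra.smul_def, map_mul, ← IsScalarTower.algebraMap_apply, IsScalarTower.algebraMap_apply K F M]
          exact mul_mem (IntermediateField.algebraMap_mem _ _) hx
      rw [hle]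
      haveI : Finite ((algebraMap E M) '' (s : Set E) : Set M) := (s.finite_toSet.image _).to_subtype
      exact IntermediateField.finiteDimensional_adjoin fun x hx => (hsep x (Set.image_subset_range _ _ hx)).isIntegral
    haveI : Algebra.IsSeparable F F' := (IntermediateField.isSeparable_adjoin_iff_isSeparable F M).2 hsep
    obtain ⟨m, D', _, _, _, _, hm, -, -, -, ⟨e⟩⟩ := Groth.Agent.CSA.exists_matrix_division F' (F' ⊗[E] D)
    have h1 : Module.finrank F' D' = 1 := h F' D'
    let e' : D' ≃ₐ[F'] F' := (AlgEquiv.ofBijective (Algebra.ofId F' D')
      ⟨(algebraMap F' D').injective, fun y => by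
        obtain ⟨c, hc⟩ := (finrank_eq_one_iff_of_nonzero' (1 : D') one_ne_zero).1 h1 y
        exact ⟨c, (Algebra.algebraMap_eq_smul_one c).trans hc⟩⟩).symm
    refine ⟨m, ⟨(Groth.Agent.CSA.cancelTower E F' D M).symm.trans
      ((Algebra.TensorProduct.congr AlgEquiv.refl (e.trans e'.mapMatrix)).trans
        ((Groth.Agent.CSA.baseChangeMatrix F' M F' m).trans
          (Algebra.TensorProduct.rid F' M M).mapMatrix))⟩⟩
  · intro h F' _ _ _ _ D _ _ _ _
    letI : Algebra K F' := ((algebraMap F F').comp (algebraMap K F)).toAlgebra
    haveI : IsScalarTower K F F' := IsScalarTower.of_algebraMap_eq fun _ => rfl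
    haveI : Algebra.IsSeparable K F' := Algebra.IsSeparable.trans K F F'
    let b := Module.finBasis F' D
    let S : Set F' := (Set.range fun t : Fin (Module.finrank F' D) × Fin (Module.finrank F' D) × Fin (Module.finrank F' D) =>
      b.repr (b t.1 * b t.2.1) t.2.2) ∪ Set.range (fun i => b.repr 1 i)
    let E : IntermediateField K F' := IntermediateField.adjoin K S
    haveI : Finite S := ((Set.finite_range _).union (Set.finite_range _)).to_subtype
    haveI : FiniteDimensional K E :=
      IntermediateField.finiteDimensional_adjoin fun x _ => Algebra.IsIntegral.isIntegral x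
    haveI : Algebra.IsSeparable K E := Algebra.isSeparable_tower_bot_of_isSeparable K E F'
    letI : Algebra E D := Algebra.compHom D (algebraMap E F')
    haveI : IsScalarTower E F' D := IsScalarTower.of_algebraMap_eq fun _ => rfl
    have hconst : ∀ i j l, b.repr (b i * b j) l ∈ E := fun i j l =>
      IntermediateField.subset_adjoin K S (Or.inl ⟨(i, j, l), rfl⟩)
    have hone : ∀ i, b.repr 1 i ∈ E := fun i => IntermediateField.subset_adjoin K S (Or.inr ⟨i, rfl⟩)
    let V : Submodule E D :=
      { carrier := {x | ∀ i, b.repr x i ∈ E}
        add_mem' := fun hx hy i => by rw [map_add, Finsupp.add_apply]; exact add_mem (hx i) (hy i)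
        zero_mem' := fun i => by rw [map_zero, Finsupp.zero_apply]; exact zero_mem _
        smul_mem' := fun c x hx i => by
          rw [← algebraMap_smul F' c x, map_smul, Finsupp.smul_apply]
          exact mul_mem c.2 (hx i) }
    have hmul : ∀ x y, x ∈ V → y ∈ V → x * y ∈ V := by
      intro x y hx hy l
      rw [← b.sum_repr x, ← b.sum_repr y, Finset.sum_mul_sum, map_sum, Finset.sum_apply']
      refine sum_mem fun i _ => ?_
      rw [map_sum, Finset.sum_apply']
      refine sum_mem fun j _ => ?_
      rw [smul_mul_smul_comm, map_smul, Finsupp.smul_apply]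
      exact mul_mem (mul_mem (hx i) (hy j)) (hconst i j l)
    let A0 : Subalgebra E D := V.toSubalgebra hone hmul
    have hbV : ∀ i, b i ∈ A0 := fun i j => by
      rw [b.repr_self, Finsupp.single_apply]; split_ifs <;> simp [one_mem, zero_mem]
    have hspan : ∀ x : A0, x = ∑ i, (⟨_, x.2 i⟩ : E) • (⟨b i, hbV i⟩ : A0) := fun x => Subtype.ext (by
      rw [AddSubmonoidClass.coe_finset_sum]
      conv_lhs => rw [← b.sum_repr (x : D)]
      exact Finset.sum_congr rfl fun i _ => (algebraMap_smul F' (⟨_, x.2 i⟩ : E) (b i)))
    haveI hT : IsScalarTower E F' D := IsScalarTower.of_algebraMap_eq fun _ => rfl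
    have hbE : LinearIndependent E (fun i => b i) := by
      refine Fintype.linearIndependent_iff.2 fun g hg i => ?_
      have h0 : ∑ i, (g i : F') • b i = 0 := by
        rw [← hg]
        exact Finset.sum_congr rfl fun i _ => algebraMap_smul F' (g i) (b i)
      exact Subtype.ext (Fintype.linearIndependent_iff.1 b.linearIndependent _ h0 i)
    have hli : LinearIndependent E (fun i => (⟨b i, hbV i⟩ : A0)) :=
      LinearIndependent.of_comp A0.val.toLinearMap hbE
    let b0 : Module.Basis _ E A0 := Module.Basis.mk hli fun x _ => by
      rw [hspan x]
      exact Submodule.sum_mem _ fun i _ => Submodule.smul_mem _ _ (Submodule.subset_span ⟨i, rfl⟩)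
    haveI : FiniteDimensional E A0 := Module.Finite.of_basis b0
    letI : DivisionRing A0 := divisionRingOfFiniteDimensional E A0
    haveI : Algebra.IsCentral E A0 := ⟨fun z hz => by
      rw [Subalgebra.mem_center_iff] at hz
      have hc : (z : D) ∈ Subalgebra.center F' D := by
        rw [Subalgebra.mem_center_iff]
        intro y
        rw [← b.sum_repr y, Finset.sum_mul, Finset.mul_sum]
        refine Finset.sum_congr rfl fun i _ => ?_
        rw [smul_mul_assoc, mul_smul_comm]
        exact congrArg _ (congrArg Subtype.val (hz ⟨b i, hbV i⟩))
      obtain ⟨f, hf⟩ := Algebra.IsCentral.out (K := F') (D := D) hc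
      obtain ⟨i, hi⟩ : ∃ i, b.repr 1 i ≠ 0 := by
        by_contra h0
        push Not at h0
        exact one_ne_zero (b.repr.injective (Finsupp.ext fun i => by rw [h0 i, map_zero, Finsupp.zero_apply]))
      have hfE : f ∈ E := by
        have h2 := z.2 i
        rw [← hf] at h2
        change b.repr (algebraMap F' D f) i ∈ E at h2
        rw [Algebra.algebraMap_eq_smul_one, map_smul, Finsupp.smul_apply, smul_eq_mul] at h2
        have := mul_mem h2 (inv_mem (hone i))
        rwa [mul_assoc, mul_inv_cancel₀ hi, mul_one] at this
      exact ⟨⟨f, hfE⟩, Subtype.ext hf⟩⟩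
    obtain ⟨n, ⟨e⟩⟩ := h E A0 F'
    haveI : @IsScalarTower E F' D (Algebra.toSMul : SMul E F') Algebra.toSMul Algebra.toSMul :=
      ⟨fun a b c => hT.smul_assoc a b c⟩
    let ψ : F' ⊗[E] A0 →ₐ[F'] D :=
      Algebra.TensorProduct.lift (Algebra.ofId F' D) A0.val (fun f x => Algebra.commutes f (x : D))
    have hsurj : Function.Surjective ψ := by
      intro y
      refine ⟨∑ i, b.repr y i ⊗ₜ[E] (⟨b i, hbV i⟩ : A0), ?_⟩
      rw [map_sum]
      conv_rhs => rw [← b.sum_repr y]
      refine Finset.sum_congr rfl fun i _ => ?_
      simp only [ψ, Algebra.TensorProduct.lift_tmul, Algebra.ofId_apply, Algebra.smul_def]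
      rfl
    have hdim : Module.finrank F' (F' ⊗[E] A0) = Module.finrank F' D := by
      rw [Module.finrank_baseChange, Module.finrank_eq_card_basis b0, Fintype.card_fin]
    have hbij : Function.Bijective ψ :=
      ⟨(LinearMap.injective_iff_surjective_of_finrank_eq_finrank hdim (f := ψ.toLinearMap)).2 hsurj, hsurj⟩
    let eD : D ≃ₐ[F'] Matrix (Fin n) (Fin n) F' := (AlgEquiv.ofBijective ψ hbij).symm.trans e
    have hfr : Module.finrank F' D = n * n := by
      rw [eD.toLinearEquiv.finrank_eq, Module.finrank_matrix]
      simp
    have hn : n < 2 := by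
      by_contra hn
      push Not at hn
      let i0 : Fin n := ⟨0, by omega⟩
      let i1 : Fin n := ⟨1, by omega⟩
      have hne : i0 ≠ i1 := by simp [i0, i1]
      have hz : eD.symm (Matrix.single i0 i1 1) * eD.symm (Matrix.single i0 i1 1) = 0 := by
        rw [← map_mul, Matrix.single_mul_single_of_ne (h := hne.symm), map_zero]
      rcases mul_eq_zero.1 hz with h0 | h0 <;>
      · rw [map_eq_zero_iff _ eD.symm.injective] at h0
        have := congrFun (congrFun h0 i0) i1
        simp at this
    have hpos : 0 < Module.finrank F' D := Module.finrank_pos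
    rw [hfr] at hpos ⊢
    interval_cases n <;> simp_all

end Groth.Agent.S18519
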