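import Groth.Statements.S18535
import Mathlib
import Groth.Agent.QuotSch.GaloisRing
import Groth.Agent.WEtale.Olivier
import Groth.Agent.Hensel.Local

set_option autoImplicit false
universe u
open EtAlg

namespace Groth.Agent.S18535

/-- Let R be a complete Noetherian local normal domain with maximal ideal m, let S be a normal domain
containing R on which a finite group G acts by R-algebra automorphisms, faithfully and with ring of
invariants exactly R (so that S is the integral closure of R in some finite Galois extension, with
group G, of Frac R), and let n be a maximal ideal of S over m. Then the inertia subgroup of n in G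
(the elements g with g s - s ∈ n for all s ∈ S) is trivial if and only if mS = n and the residue
field S/n is finite and separable over R/m. -/
theorem result
    (R S G : Type u) [CommRing R] [CommRing S] [IsDomain R] [IsDomain S]
    [IsNoetherianRing R] [IsLocalRing R] [IsIntegrallyClosed R]
    [IsAdicComplete (IsLocalRing.maximalIdeal R) R]
    [Algebra R S] [FaithfulSMul R S] [IsIntegrallyClosed S]
    [Group G] [Finite G] [MulSemiringAction G S] [SMulCommClass G R S] [IsGaloisGroup G R S]
    (n : Ideal S) [n.IsMaximal] [n.LiesOver (IsLocalRing.maximalIdeal R)] :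
    n.toAddSubgroup.inertia G = ⊥ ↔
      ((IsLocalRing.maximalIdeal R).map (algebraMap R S) = n ∧
        Module.Finite (R ⧸ IsLocalRing.maximalIdeal R) (S ⧸ n) ∧
        Algebra.IsSeparable (R ⧸ IsLocalRing.maximalIdeal R) (S ⧸ n)) := by
  classical
  haveI : Algebra.IsInvariant R S G := IsGaloisGroup.isInvariant
  haveI : Algebra.IsIntegral R S := Algebra.IsInvariant.isIntegral R S G
  haveI : HenselianLocalRing R := Groth.Agent.Hensel.henselianLocalRing_iff_henselianRing.2 inferInstance
  haveI : IsLocalRing S := Groth.Agent.WEtale.Olivier.isLocalRing_of_isIntegral (A := R)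
  have hinj : Function.Injective (algebraMap R S) := FaithfulSMul.algebraMap_injective R S
  -- S is module-finite over R
  let L := FractionRing S
  letI : Algebra (FractionRing R) L := FractionRing.liftAlgebra R L
  letI := IsFractionRing.mulSemiringAction G S L
  haveI := IsGaloisGroup.to_isFractionRing_of_isIntegral G R S (FractionRing R) L
  haveI : FiniteDimensional (FractionRing R) L := IsGaloisGroup.finiteDimensional G (FractionRing R) L
  haveI : IsGalois (FractionRing R) L := IsGaloisGroup.isGalois G (FractionRing R) L
  haveI : IsIntegralClosure S R L := IsIntegralClosure.of_isIntegrallyClosed S R L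
  haveI : Module.Finite R S := IsIntegralClosure.finite R (FractionRing R) L S
  haveI : IsLocalHom (algebraMap R S) := RingHom.IsIntegral.isLocalHom Algebra.IsIntegral.isIntegral hinj
  haveI : Algebra.EssFiniteType R S := inferInstance
  obtain rfl : n = IsLocalRing.maximalIdeal S := IsLocalRing.eq_maximalIdeal inferInstance
  have hmem : ∀ g : G, g ∈ (IsLocalRing.maximalIdeal S).toAddSubgroup.inertia G ↔
      ∀ s : S, g • s - s ∈ IsLocalRing.maximalIdeal S := fun g => Iff.rfl
  constructor
  · intro hI
    have hfree : Groth.Agent.QuotSch.GaloisRing.IsFree S G := by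
      intro g hg
      obtain ⟨s, hs⟩ : ∃ s : S, g • s - s ∉ IsLocalRing.maximalIdeal S := by
        by_contra h
        push Not at h
        exact hg (by
          have hg' := (hmem g).2 h
          rw [hI] at hg'
          exact hg')
      refine Ideal.eq_top_of_isUnit_mem _ (Ideal.subset_span ⟨s, rfl⟩) ?_
      by_contra hu
      exact hs (by rw [← neg_sub]; exact Ideal.neg_mem_iff _ |>.2 ((IsLocalRing.mem_maximalIdeal _).2 hu))
    obtain ⟨hφ, -, -⟩ := Groth.Agent.QuotSch.GaloisRing.phi_injective_and_projective (A := R) hfree hinj
    obtain ⟨z, hz⟩ := Groth.Agent.QuotSch.GaloisRing.exists_single (A := R) hfree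
    haveI : Algebra.FormallyUnramified R S := by
      rw [Algebra.FormallyUnramified.iff_exists_tensorProduct]
      refine ⟨z, fun s => hφ (funext fun g => ?_), ?_⟩
      · rw [map_mul, map_sub, map_zero, hz, Pi.mul_apply, Pi.sub_apply, Pi.zero_apply]
        rcases eq_or_ne g 1 with rfl | hg
        · simp
        · rw [Pi.single_eq_of_ne hg, mul_zero]
      · have key : ∀ w : TensorProduct R S S, Algebra.TensorProduct.lmul' R w = Groth.Agent.QuotSch.GaloisRing.phi R S G w 1 := by
          intro w
          induction w with
          | zero => simp
          | tmul a b => simp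
          | add a b ha hb => simp [map_add, ha, hb]
        rw [key, hz, Pi.single_eq_same]
    obtain ⟨hsep, hmap⟩ := Algebra.FormallyUnramified.iff_map_maximalIdeal_eq.1 ‹Algebra.FormallyUnramified R S›
    exact ⟨hmap, inferInstance, hsep⟩
  · rintro ⟨hmap, -, hsep⟩
    haveI : Algebra.IsSeparable (IsLocalRing.ResidueField R) (IsLocalRing.ResidueField S) := hsep
    haveI : Algebra.FormallyUnramified R S := Algebra.FormallyUnramified.of_map_maximalIdeal hmap
    rw [eq_bot_iff]
    intro g hg
    rw [Subgroup.mem_bot]
    rw [hmem] at hg
    haveI : FaithfulSMul G S := IsGaloisGroup.faithful R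
    refine FaithfulSMul.eq_of_smul_eq_smul (α := S) fun s => ?_
    let ψ : TensorProduct R S S →ₐ[R] S := Algebra.TensorProduct.lift (AlgHom.id R S)
      (MulSemiringAction.toAlgHom R S g) fun _ _ => Commute.all _ _
    have hψ : ∀ w : TensorProduct R S S, ψ w - Algebra.TensorProduct.lmul' R w ∈ IsLocalRing.maximalIdeal S := by
      intro w
      induction w with
      | zero => simp
      | tmul a b =>
        simp only [ψ, Algebra.TensorProduct.lift_tmul, AlgHom.id_apply, MulSemiringAction.toAlgHom_apply,
          Algebra.TensorProduct.lmul'_apply_tmul, ← mul_sub]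
        exact Ideal.mul_mem_left _ _ (hg b)
      | add a b ha hb => simpa [map_add, add_sub_add_comm] using add_mem ha hb
    have hunit : IsUnit (ψ (Algebra.FormallyUnramified.elem R S)) := by
      have h1 := hψ (Algebra.FormallyUnramified.elem R S)
      rw [Algebra.FormallyUnramified.lmul_elem] at h1
      by_contra hu
      have h2 := sub_mem ((IsLocalRing.mem_maximalIdeal _).2 hu) h1
      rw [sub_sub_cancel] at h2
      exact (IsLocalRing.maximalIdeal.isMaximal S).ne_top ((Ideal.eq_top_iff_one _).2 h2)
    have h3 := congrArg ψ (Algebra.FormallyUnramified.one_tmul_sub_tmul_one_mul_elem (R := R) s)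
    rw [map_mul, map_sub, map_zero, hunit.mul_left_eq_zero, sub_eq_zero] at h3
    simpa [ψ] using h3

end Groth.Agent.S18535
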