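import Groth.Statements.S18538
import Mathlib

set_option autoImplicit false
universe u
open EtAlg

namespace Groth.Agent.S18538

open TensorProduct


/-- Let A ⊆ B be an injective finite extension of integrally closed domains, with fraction fields K ⊆ L
and L separable over K. Then A → B → B ⊗_A B is exact, the second map being b ↦ b ⊗ 1 - 1 ⊗ b: every
element of B whose two images in B ⊗_A B agree comes from A. -/
theorem result
    (A B K L : Type u) [CommRing A] [CommRing B] [IsDomain A] [IsDomain B]
    [IsIntegrallyClosed A] [IsIntegrallyClosed B] [Algebra A B] [FaithfulSMul A B] [Module.Finite A B]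
    [Field K] [Field L] [Algebra A K] [IsFractionRing A K] [Algebra B L] [IsFractionRing B L]
    [Algebra K L] [Algebra A L] [IsScalarTower A K L] [IsScalarTower A B L]
    [Algebra.IsSeparable K L] :
    Algebra.IsEffective A B := by
  intro b
  refine ⟨?_, Algebra.TensorProduct.includeLeftSubRight_zero_of_mem_range⟩
  intro hb
  rw [Algebra.TensorProduct.includeLeftSubRight_apply, sub_eq_zero] at hb
  let φ : B →ₐ[A] L := IsScalarTower.toAlgHom A B L
  let ψ : TensorProduct A B B →ₐ[A] TensorProduct K L L := Algebra.TensorProduct.productMap
    (((Algebra.TensorProduct.includeLeft : L →ₐ[K] TensorProduct K L L).restrictScalars A).comp φ)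
    (((Algebra.TensorProduct.includeRight : L →ₐ[K] TensorProduct K L L).restrictScalars A).comp φ)
  have h : (algebraMap B L b) ⊗ₜ[K] (1 : L) = (1 : L) ⊗ₜ[K] (algebraMap B L b) := by
    simpa [ψ, φ] using congrArg ψ hb
  have hE := Algebra.IsEffective.of_faithfullyFlat (R := K) (S := L)
  have hx : algebraMap B L b ∈ Set.range (algebraMap K L) := by
    have := (hE (algebraMap B L b)).1 (by rw [Algebra.TensorProduct.includeLeftSubRight_apply, h, sub_self])
    simpa using this
  obtain ⟨x, hx⟩ := hx
  have hint : IsIntegral A x := by
    apply (isIntegral_algebraMap_iff (algebraMap K L).injective).1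
    rw [hx]
    exact (IsIntegral.of_finite A b).map φ
  obtain ⟨a, ha⟩ := IsIntegrallyClosed.isIntegral_iff.1 hint
  refine ⟨a, IsFractionRing.injective B L ?_⟩
  rw [Algebra.linearMap_apply, ← IsScalarTower.algebraMap_apply A B L, ← hx, ← ha, ← IsScalarTower.algebraMap_apply A K L]

end Groth.Agent.S18538
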