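import Groth.Statements.S18539
import Mathlib.RingTheory.Regular.RegularSequence

set_option autoImplicit false
universe u v w
open CAlg

namespace Groth.Agent.S18539

/-- For a commutative ring R, R-modules M and N and elements r₁, r₂ of R such that r₁ is a
non-zero-divisor on N and r₂ is a non-zero-divisor on N/r₁N, the element r₁ is a non-zero-divisor on
the module Hom_R(M, N) and r₂ is a non-zero-divisor on Hom_R(M, N)/r₁Hom_R(M, N). (Weak regularity
on both sides: no condition that the quotient by (r₁, r₂) is nonzero, which would fail for M = 0.) -/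
theorem result
    (R : Type u) [CommRing R] (M : Type v) (N : Type w)
    [AddCommGroup M] [Module R M] [AddCommGroup N] [Module R N]
    (r₁ r₂ : R) (h : RingTheory.Sequence.IsWeaklyRegular N [r₁, r₂]) :
    RingTheory.Sequence.IsWeaklyRegular (M →ₗ[R] N) [r₁, r₂] := by
  rw [RingTheory.Sequence.isWeaklyRegular_cons_iff] at h ⊢
  obtain ⟨h1, h2⟩ := h
  rw [RingTheory.Sequence.isWeaklyRegular_cons_iff] at h2 ⊢
  have hreg : IsSMulRegular (M →ₗ[R] N) r₁ := fun f g hfg => LinearMap.ext fun m => h1 (LinearMap.congr_fun hfg m)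
  refine ⟨hreg, ?_, RingTheory.Sequence.IsWeaklyRegular.nil _ _⟩
  intro x y hxy
  obtain ⟨f, rfl⟩ := Submodule.Quotient.mk_surjective _ x
  obtain ⟨g, rfl⟩ := Submodule.Quotient.mk_surjective _ y
  rw [Submodule.Quotient.eq]
  simp only [← Submodule.Quotient.mk_smul] at hxy
  rw [Submodule.Quotient.eq, ← smul_sub] at hxy
  obtain ⟨u, -, hu⟩ := Submodule.mem_smul_pointwise_iff_exists _ _ _ |>.mp hxy
  have hmem : ∀ m, ∃ z : N, r₁ • z = (f - g) m := by
    intro m
    have : (Submodule.Quotient.mk ((f - g) m) : QuotSMulTop r₁ N) = 0 := by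
      apply h2.1
      show r₂ • _ = r₂ • _
      rw [smul_zero, ← Submodule.Quotient.mk_smul, Submodule.Quotient.mk_eq_zero, ← LinearMap.smul_apply, ← hu]
      exact Submodule.smul_mem_pointwise_smul (u m) r₁ ⊤ Submodule.mem_top
    obtain ⟨z, -, hz⟩ := Submodule.mem_smul_pointwise_iff_exists _ _ _ |>.mp ((Submodule.Quotient.mk_eq_zero _).mp this)
    exact ⟨z, hz⟩
  choose z hz using hmem
  refine Submodule.mem_smul_pointwise_iff_exists _ _ _ |>.mpr ⟨{
    toFun := z
    map_add' := fun a b => h1 (by show r₁ • _ = r₁ • _; rw [smul_add, hz, hz, hz, map_add])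
    map_smul' := fun c a => h1 (by show r₁ • _ = r₁ • _; rw [RingHom.id_apply, smul_comm, hz, hz, map_smul]) }, Submodule.mem_top, ?_⟩
  exact LinearMap.ext hz

end Groth.Agent.S18539
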