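import Groth.Statements.S18543
import Groth.Agent.HopfFF.Galois
import Mathlib.RingTheory.HopfAlgebra.Convolution
import Mathlib.RingTheory.Artinian.Module
import Mathlib.RingTheory.Etale.Field
import Mathlib.FieldTheory.IsAlgClosed.AlgebraicClosure
import Mathlib.RingTheory.TensorProduct.Basic
import Mathlib.LinearAlgebra.Dual.Lemmas

set_option autoImplicit false
universe u
open Hopf

namespace Groth.Agent.S18543

open scoped TensorProduct in
theorem exists_point {k : Type u} [Field k] [IsAlgClosed k] {R : Type u} [CommRing R] [Algebra k R]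
    [FiniteDimensional k R] [_root_.IsReduced R] {a : R} (h : ∀ χ : R →ₐ[k] k, χ a = 0) : a = 0 := by
  refine (nilpotent_iff_mem_prime.2 fun P hP => ?_).eq_zero
  haveI : IsArtinianRing R := IsArtinianRing.of_finite k R
  haveI : P.IsMaximal := IsArtinianRing.isMaximal_of_isPrime P
  let e := AlgEquiv.ofBijective (Algebra.ofId k (R ⧸ P))
    ⟨(algebraMap k (R ⧸ P)).injective, IsAlgClosed.algebraMap_bijective_of_isIntegral.2⟩
  have := h (e.symm.toAlgHom.comp (Ideal.Quotient.mkₐ k P))
  exact Ideal.Quotient.eq_zero_iff_mem.1 (e.symm.map_eq_zero_iff.1 this)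

open scoped TensorProduct
set_option maxRecDepth 4000 in
open WithConv in
theorem pow_card_eq_zero {p : ℕ} [Fact p.Prime] {k : Type u} [Field k] [CharP k p] {A : Type u} [CommRing A]
    [HopfAlgebra k A] [Coalgebra.IsCocomm k A] [Module.Finite k A] [Algebra.Etale k A] {n : ℕ}
    (hA : Module.finrank k A = p ^ n) (φ : WithConv (A →ₗ[k] k)) (hφ : φ.ofConv 1 = 0) : φ ^ p ^ n = 0 := by
  classical
  let K := AlgebraicClosure k
  haveI : _root_.IsReduced (K ⊗[k] A) := Algebra.FormallyUnramified.isReduced_of_field K (K ⊗[k] A)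
  haveI : Finite (A →ₐ[k] K) := inferInstance
  cases nonempty_fintype (A →ₐ[k] K)
  let π : K ⊗[k] A →ₗ[K] ((A →ₐ[k] K) → K) :=
    LinearMap.pi fun χ => (AlgHom.liftEquiv k K A K χ).toLinearMap
  have hπ : Function.Injective π := (injective_iff_map_eq_zero π).2 fun a ha => exists_point fun χ => by
    obtain ⟨χ₀, rfl⟩ := (AlgHom.liftEquiv k K A K).surjective χ
    exact congrFun ha χ₀
  have hd : Module.finrank K (K ⊗[k] A) = p ^ n := by rw [Module.finrank_baseChange, hA]
  have hle : Module.finrank K ((A →ₐ[k] K) → K) ≤ Module.finrank K (K ⊗[k] A) := by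
    rw [Module.finrank_fintype_fun_eq_card, ← Nat.card_eq_fintype_card, hd, ← hA]
    exact card_algHom_le_finrank k A K
  have heq := le_antisymm (LinearMap.finrank_le_finrank_of_injective hπ) hle
  let e := LinearEquiv.ofBijective π ⟨hπ, (LinearMap.injective_iff_surjective_of_finrank_eq_finrank heq).1 hπ⟩
  have hcard : Fintype.card (A →ₐ[k] K) = p ^ n := by
    rw [← hd, heq, Module.finrank_fintype_fun_eq_card]
  have hG : ∀ g : A →ₐ[k] K, (toConv g.toLinearMap : WithConv (A →ₗ[k] K)) ^ p ^ n = 1 := fun g => by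
    haveI : Finite (WithConv (A →ₐ[k] K)) := Finite.of_equiv _ (WithConv.equiv (A →ₐ[k] K)).symm
    have h1 : (toConv g : WithConv (A →ₐ[k] K)) ^ p ^ n = 1 := by
      let uu : WithConv (A →ₐ[k] K) → (WithConv (A →ₐ[k] K))ˣ := fun x =>
        ⟨x, Groth.Agent.HopfFF.inv' x, Groth.Agent.HopfFF.mul_inv' x, Groth.Agent.HopfFF.inv'_mul x⟩
      rw [← hcard, ← Nat.card_eq_fintype_card, ← Nat.card_congr (WithConv.equiv (A →ₐ[k] K)),
        Nat.card_congr (⟨uu, Units.val, fun x => rfl, fun x => Units.ext rfl⟩ : WithConv (A →ₐ[k] K) ≃ (WithConv (A →ₐ[k] K))ˣ)]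
      exact congrArg Units.val (pow_card_eq_one' (x := uu (toConv g)))
    have h2 := AlgHom.toLinearMap_convPow (toConv g : WithConv (A →ₐ[k] K)) (p ^ n)
    rw [h1] at h2
    simpa using h2.symm
  let ψ : WithConv (A →ₗ[k] K) := toConv (Algebra.linearMap k K ∘ₗ φ.ofConv)
  have hψpow : ∀ m : ℕ, ψ ^ m = toConv (Algebra.linearMap k K ∘ₗ (φ ^ m).ofConv) := by
    intro m
    induction m with
    | zero =>
      rw [pow_zero, pow_zero]
      refine WithConv.ofConv_injective (LinearMap.ext fun a => ?_)
      simp [LinearMap.convOne_def]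
    | succ m ih =>
      rw [pow_succ, pow_succ, ih]
      refine WithConv.ofConv_injective ?_
      exact (LinearMap.algHom_comp_convMul_distrib (Algebra.ofId k K) (φ ^ m) φ).symm
  let Ψ : K ⊗[k] A →ₗ[K] K := LinearMap.liftBaseChangeEquiv K ψ.ofConv
  let c : (A →ₐ[k] K) → K := fun g => Ψ (e.symm (Pi.single g 1))
  have hψc : ψ = ∑ g, c g • toConv g.toLinearMap := by
    refine WithConv.ofConv_injective (LinearMap.ext fun a => ?_)
    rw [WithConv.ofConv_sum, LinearMap.sum_apply]
    simp only [WithConv.ofConv_smul, LinearMap.smul_apply, WithConv.ofConv_toConv, AlgHom.toLinearMap_apply,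
      smul_eq_mul]
    have h1 : Ψ ((1 : K) ⊗ₜ[k] a) = ψ.ofConv a := by
      show LinearMap.liftBaseChange K ψ.ofConv _ = _
      simp
    have h2 : e ((1 : K) ⊗ₜ[k] a) = ∑ g : A →ₐ[k] K, g a • (Pi.single g (1 : K) : (A →ₐ[k] K) → K) := by
      funext χ
      rw [Finset.sum_apply]
      simp [e, π, Pi.single_apply]
    rw [← h1, ← e.symm_apply_apply ((1 : K) ⊗ₜ[k] a), h2, map_sum, map_sum]
    exact Finset.sum_congr rfl fun g _ => by rw [map_smul, map_smul, smul_eq_mul, mul_comm]
  haveI : Nontrivial A := (Bialgebra.counitAlgHom k A).toRingHom.domain_nontrivial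
  have hinj : Function.Injective (algebraMap k (WithConv (A →ₗ[k] K))) := fun a b hab => by
    have h := congrArg (fun f : WithConv (A →ₗ[k] K) => f.ofConv 1) hab
    simp only [LinearMap.convAlgebraMap_apply, WithConv.ofConv, Algebra.algebraMap_eq_smul_one (R := k) (A := WithConv (A →ₗ[k] K))] at h
    simpa [LinearMap.convOne_def, Algebra.algebraMap_eq_smul_one, smul_smul] using h
  haveI : CharP (WithConv (A →ₗ[k] K)) p := charP_of_injective_algebraMap hinj p
  haveI : CharP K p := charP_of_injective_algebraMap (algebraMap k K).injective p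
  have hsum : ∑ g, c g = 0 := by
    have h := congrArg (fun f : WithConv (A →ₗ[k] K) => f.ofConv 1) hψc
    simpa [WithConv.ofConv_sum, LinearMap.sum_apply, ψ, hφ] using h.symm
  have hψ0 : ψ ^ p ^ n = 0 := by
    rw [hψc, sum_pow_char_pow]
    simp only [smul_pow, hG, ← Finset.sum_smul]
    rw [← sum_pow_char_pow, hsum, zero_pow (pow_ne_zero _ (Fact.out : p.Prime).ne_zero), zero_smul]
  refine WithConv.ofConv_injective (LinearMap.ext fun a => (algebraMap k K).injective ?_)
  have h := congrArg (fun f : WithConv (A →ₗ[k] K) => f.ofConv a) ((hψpow _).symm.trans hψ0)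
  simpa using h


/-- Let p be a prime number, k a field of characteristic p and A a finite-dimensional commutative,
cocommutative Hopf algebra over k — the coordinate ring of a finite commutative group scheme G over
k — such that A is étale over k and dim_k A = p^n for some n (G is an étale group scheme of p-power
order). Then the Cartier dual A^∨ = Hom_k(A, k), with its convolution ring structure, is a local
ring; that is, the Cartier dual group scheme G^∨ = Spec A^∨ is infinitesimal (its underlying space
is a single point). -/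
theorem result (p : ℕ) [Fact p.Prime]
    (k : Type u) [Field k] [CharP k p] (A : Type u) [CommRing A] [HopfAlgebra k A] [Coalgebra.IsCocomm k A]
    [Module.Finite k A] [Algebra.Etale k A] (n : ℕ) (hA : Module.finrank k A = p ^ n) :
    IsLocalRing (CartDual.D k A) := by
  haveI : Nontrivial A := (Bialgebra.counitAlgHom k A).toRingHom.domain_nontrivial
  haveI : Nontrivial (CartDual.D k A) := ⟨0, 1, fun h => by
    have h' := congrArg (fun f : CartDual.D k A => f.ofConv 1) h
    simp [LinearMap.convOne_def] at h'⟩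
  refine IsLocalRing.of_isUnit_or_isUnit_one_sub_self fun φ => ?_
  by_cases h : φ.ofConv 1 = 0
  · exact Or.inr (IsNilpotent.isUnit_one_sub ⟨_, pow_card_eq_zero hA φ h⟩)
  · refine Or.inl ?_
    have hn : IsNilpotent (φ - φ.ofConv 1 • (1 : CartDual.D k A)) :=
      ⟨_, pow_card_eq_zero hA _ (by simp [LinearMap.convOne_def])⟩
    have hu : IsUnit (φ.ofConv 1 • (1 : CartDual.D k A)) := by
      rw [← Algebra.algebraMap_eq_smul_one]; exact (isUnit_iff_ne_zero.2 h).map _
    simpa using IsNilpotent.isUnit_add_right_of_commute hn hu (Commute.all _ _)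

end Groth.Agent.S18543
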