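import Groth.Statements.S18544
import Mathlib

set_option autoImplicit false
universe u
open CAlg

namespace Groth.Agent.S18544

open MvPolynomial Matrix

variable {F : Type u} [Field F] [IsAlgClosed F] [CharZero F]

/-- A polynomial function which is multiplicative is a power. -/
theorem eq_pow_of_multiplicative (g : Polynomial F) (h1 : g.eval 1 = 1)
    (h : ∀ a b : F, g.eval (a * b) = g.eval a * g.eval b) : ∃ m : ℕ, ∀ a : F, g.eval a = a ^ m := by
  refine ⟨g.natDegree, fun a => ?_⟩
  have hc : ∀ b : F, g.comp (Polynomial.C b * Polynomial.X) = Polynomial.C (g.eval b) * g := fun b =>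
    Polynomial.funext fun a => by simp [h b a]
  have := congrArg (fun q => q.coeff g.natDegree) (hc a)
  simp only [Polynomial.comp_C_mul_X_coeff, Polynomial.coeff_C_mul] at this
  have hne : g.coeff g.natDegree ≠ 0 := Polynomial.leadingCoeff_ne_zero.mpr fun e => by simp [e] at h1
  exact mul_right_cancel₀ hne (this.symm.trans (mul_comm _ _))

/-- A polynomial function turning sums into products is constant. -/
theorem eq_one_of_additive (g : Polynomial F)
    (h : ∀ a b : F, g.eval (a + b) = g.eval a * g.eval b) (h1 : g.eval 0 = 1) (a : F) : g.eval a = 1 := by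
  have hc : g.comp (Polynomial.C 2 * Polynomial.X) = g * g := Polynomial.funext fun a => by simp [two_mul, h a a]
  have hd := congrArg Polynomial.natDegree hc
  have h0 : g ≠ 0 := fun e => by simp [e] at h1
  rw [Polynomial.natDegree_comp, Polynomial.natDegree_C_mul_X 2 two_ne_zero, Polynomial.natDegree_mul h0 h0] at hd
  obtain ⟨c, rfl⟩ := Polynomial.natDegree_eq_zero.mp (show g.natDegree = 0 by omega)
  simpa using h1

/-- Let F be an algebraically closed field of characteristic zero, n a natural number, and N a nonzero
polynomial over F in the n² matrix entries whose evaluation on n × n matrices is multiplicative,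
N(xy) = N(x)·N(y) for all x, y (a norm form on the matrix algebra M_n(F) over F). Then N is a
natural power of the determinant: for some m, N(x) = det(x)^m for every matrix x. The published
statement concerns norm forms of any central simple algebra over a subfield; this row is the case of
the full matrix algebra over an algebraically closed field, which is the case its proof treats. -/
theorem result (F : Type u) [Field F] [IsAlgClosed F]
    [CharZero F] (n : ℕ) (N : MvPolynomial (Fin n × Fin n) F) (hN : N ≠ 0)
    (hmul : ∀ x y : Matrix (Fin n) (Fin n) F,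
      MvPolynomial.eval (fun ij : Fin n × Fin n => (x * y) ij.1 ij.2) N =
        MvPolynomial.eval (fun ij : Fin n × Fin n => x ij.1 ij.2) N * MvPolynomial.eval (fun ij : Fin n × Fin n => y ij.1 ij.2) N) :
    ∃ m : ℕ, ∀ x : Matrix (Fin n) (Fin n) F,
      MvPolynomial.eval (fun ij : Fin n × Fin n => x ij.1 ij.2) N = x.det ^ m := by
  classical
  let ev : Matrix (Fin n) (Fin n) F → F := fun x => MvPolynomial.eval (fun ij => x ij.1 ij.2) N
  have hev : ∀ x y, ev (x * y) = ev x * ev y := hmul
  have h1 : ev 1 = 1 := by
    obtain ⟨v, hv⟩ : ∃ v, MvPolynomial.eval v N ≠ 0 := by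
      by_contra! h
      exact hN (MvPolynomial.funext fun v => by simpa using h v)
    have h : ev (Matrix.of fun i j => v (i, j)) = ev (Matrix.of fun i j => v (i, j)) * ev 1 := by
      rw [← hev, mul_one]
    have hne : ev (Matrix.of fun i j => v (i, j)) ≠ 0 := hv
    exact mul_left_cancel₀ hne (h.symm.trans (mul_one _).symm)
  -- restriction to an affine line
  have hline : ∀ X Y : Matrix (Fin n) (Fin n) F, ∃ g : Polynomial F, ∀ a, g.eval a = ev (X + a • Y) := by
    intro X Y
    refine ⟨MvPolynomial.eval₂ Polynomial.C (fun ij => Polynomial.C (X ij.1 ij.2) + Polynomial.C (Y ij.1 ij.2) * Polynomial.X) N, fun a => ?_⟩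
    rw [← Polynomial.coe_evalRingHom, MvPolynomial.eval₂_comp_left]
    show MvPolynomial.eval₂ _ _ N = MvPolynomial.eval _ N
    rw [show (Polynomial.evalRingHom a).comp Polynomial.C = RingHom.id F from RingHom.ext fun c => Polynomial.eval_C,
      MvPolynomial.eval₂_id]
    congr 2
    funext ij
    simp only [Function.comp_apply, map_add, map_mul, Polynomial.coe_evalRingHom, Polynomial.eval_C, Polynomial.eval_X, Polynomial.eval_add, Polynomial.eval_mul, Matrix.add_apply, Matrix.smul_apply, smul_eq_mul]; ring
  have htrans : ∀ (i j : Fin n), i ≠ j → ∀ c, ev (Matrix.transvection i j c) = 1 := by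
    intro i j hij c
    obtain ⟨g, hg⟩ := hline 1 (Matrix.single i j 1)
    have hg' : ∀ a, g.eval a = ev (Matrix.transvection i j a) := fun a => by
      rw [hg, Matrix.transvection, Matrix.smul_single, smul_eq_mul, mul_one]
    rw [← hg']
    exact eq_one_of_additive g (fun a b => by rw [hg', hg', hg', ← hev, Matrix.transvection_mul_transvection_same i j hij])
      (by rw [hg', Matrix.transvection_zero, h1]) c
  let sl : Fin n → F → Matrix (Fin n) (Fin n) F := fun i a => Matrix.diagonal (Function.update 1 i a)
  have hsl : ∀ i, ∃ m : ℕ, ∀ a, ev (sl i a) = a ^ m := by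
    intro i
    obtain ⟨g, hg⟩ := hline (sl i 0) (Matrix.single i i 1)
    have hg' : ∀ a, g.eval a = ev (sl i a) := fun a => by
      rw [hg]
      congr 1
      ext k l
      simp only [sl, Matrix.add_apply, Matrix.smul_apply, Matrix.diagonal_apply, Matrix.single_apply, smul_eq_mul]
      rcases eq_or_ne k l with rfl | hkl
      · rcases eq_or_ne k i with rfl | hk
        · simp
        · simp [hk, hk.symm]
      · rw [if_neg hkl, if_neg hkl, if_neg (fun h => hkl (h.1.symm.trans h.2)), mul_zero, add_zero]
    obtain ⟨m, hm⟩ := eq_pow_of_multiplicative g (by rw [hg']; simp only [sl]; rw [Function.update_eq_self_iff.mpr (by rfl)]; simpa using h1)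
      (fun a b => by
        rw [hg', hg', hg', ← hev]
        simp only [sl, Matrix.diagonal_mul_diagonal]
        congr 2
        funext k
        rcases eq_or_ne k i with rfl | hk <;> simp_all)
    exact ⟨m, fun a => by rw [← hg', hm]⟩
  choose m hm using hsl
  -- conjugation by permutation matrices
  have hsame : ∀ i j, m i = m j := by
    intro i j
    let σ : Equiv.Perm (Fin n) := Equiv.swap i j
    let P : Matrix (Fin n) (Fin n) F := σ.permMatrix F
    have hPP : P * P = 1 := by
      simp only [P, Equiv.Perm.permMatrix, ← PEquiv.toMatrix_trans, ← Equiv.toPEquiv_trans]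
      rw [show σ.trans σ = Equiv.refl _ from Equiv.ext fun k => Equiv.swap_apply_self i j k, Equiv.toPEquiv_refl,
        PEquiv.toMatrix_refl]
    have hconj : P * sl i 2 * P = sl j 2 := by
      simp only [P, sl, Equiv.Perm.permMatrix, PEquiv.toMatrix_toPEquiv_mul, PEquiv.mul_toMatrix_toPEquiv]
      ext k l
      simp only [Matrix.submatrix_apply, id_eq, Matrix.diagonal_apply, σ, Equiv.symm_swap]
      simp only [(Equiv.swap i j).apply_eq_iff_eq]
      split_ifs with h
      · subst h
        rcases eq_or_ne k j with rfl | hkj
        · simp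
        · have : Equiv.swap i j k ≠ i := fun h => hkj (by simpa using congrArg (Equiv.swap i j) h)
          simp [this, hkj]
      · rfl
    have h2 : (2 : F) ^ m i = (2 : F) ^ m j := by
      rw [← hm, ← hm, ← hconj, hev, hev, mul_comm (ev P), mul_assoc, ← hev, hPP, h1, mul_one]
    have : ((2 ^ m i : ℕ) : F) = ((2 ^ m j : ℕ) : F) := by push_cast; exact h2
    exact Nat.pow_right_injective le_rfl (Nat.cast_injective this)
  rcases Nat.eq_zero_or_pos n with rfl | hn
  · exact ⟨0, fun x => by rw [pow_zero]; exact (congrArg ev (Subsingleton.elim x 1)).trans h1⟩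
  refine ⟨m ⟨0, hn⟩, fun x => ?_⟩
  refine Matrix.diagonal_transvection_induction (fun y => ev y = y.det ^ m ⟨0, hn⟩) x ?_ ?_ ?_
  · intro D _
    have key : ∀ s : Finset (Fin n), ev (Matrix.diagonal fun k => if k ∈ s then D k else 1) = ∏ k ∈ s, D k ^ m ⟨0, hn⟩ := by
      intro s
      induction s using Finset.induction_on with
      | empty => simpa using h1
      | insert a s ha ih =>
        rw [Finset.prod_insert ha, ← ih, ← hsame a ⟨0, hn⟩, ← hm, ← hev]
        congr 1
        simp only [sl, Matrix.diagonal_mul_diagonal]
        congr 1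
        funext k
        rcases eq_or_ne k a with rfl | hk <;> simp_all
    rw [Matrix.det_diagonal, ← Finset.prod_pow, ← key Finset.univ]
    simp
  · intro t
    rw [t.det, one_pow]
    exact htrans t.i t.j t.hij t.c
  · intro A B hA hB
    rw [hev, hA, hB, Matrix.det_mul, mul_pow]

end Groth.Agent.S18544
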