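import Groth.Statements.S18550
import Groth.Agent.DerCat.Ghost

set_option autoImplicit false
set_option backward.isDefEq.respectTransparency false
set_option backward.defeqAttrib.useBackward true
open CategoryTheory Limits
universe w v u
open CohDer

namespace Groth.Agent.S18550

/-- Let A be an abelian category, X an object of its derived category whose cohomology objects H^i(X)
are zero for all integers i outside the interval [a, a + n], and f : X → X an endomorphism in the
derived category such that H^i(f) = 0 for every i. Then f^(n+1) = 0. (The source works in the
bounded derived category; the statement in D(A) for an object with cohomology bounded in this way is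
the same assertion, the bounded derived category being a full subcategory.) -/
theorem result (A : Type u) [Category.{v} A] [Abelian A]
    [HasDerivedCategory.{w} A] (X : DerivedCategory A) (a : ℤ) (n : ℕ)
    (hX : ∀ i : ℤ, i < a ∨ a + n < i → IsZero ((DerivedCategory.homologyFunctor A i).obj X))
    (f : CategoryTheory.End X) (hf : ∀ i : ℤ, (DerivedCategory.homologyFunctor A i).map f = 0) :
    f ^ (n + 1) = 0 := by
  have : X.IsLE (a + n) := (DerivedCategory.isLE_iff X _).2 fun i hi => hX i (Or.inr hi)
  have : X.IsGE a := (DerivedCategory.isGE_iff X a).2 fun i hi => hX i (Or.inl hi)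
  let F : ∀ i : ℕ, X ⟶ X := fun i => ((f ^ i : End X) : X ⟶ X)
  obtain ⟨g, hg⟩ := DerCat.exists_factor_of_chain (fun _ => X) (fun _ => f) F rfl (a + n) (n + 1)
    (fun i _ => by
      show (f ^ (i + 1) : End X) = f * f ^ i
      rw [pow_succ']) inferInstance (fun i _ => hf _)
  have hz := Triangulated.TStructure.isZero_truncLE_obj_of_isGE (DerivedCategory.TStructure.t (C := A))
    (a + n - ((n + 1 : ℕ) : ℤ)) a (by omega) X
  show F (n + 1) = 0
  rw [← hg, hz.eq_of_tgt g 0, zero_comp]

end Groth.Agent.S18550
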