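import Groth.Statements.S1857
import Groth.Agent.DimFunLift.RelDim

set_option autoImplicit false
universe u
open CategoryTheory AlgebraicGeometry
open Cyc

namespace Groth.Agent.S1857

/-- For flat morphisms f : X → Y and g : Y → Z locally of finite type of relative dimensions r and s,
the composite has relative dimension r + s and (g ∘ f)^* = f^* ∘ g^* on k-cycles (equality of
coefficient functions). Here a pair (X, δ) with Cyc.IsSetup plays the role of a scheme locally of
finite type over a fixed base with a dimension function (X locally Noetherian with universally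
catenary local rings, δ a dimension function), and Cyc.DeltaCompat records that the dimension
function upstairs is the induced one. -/
theorem result (X Y Z : Scheme.{u}) (δX : X → ℤ) (δY : Y → ℤ) (δZ : Z → ℤ) (hX : Cyc.IsSetup X δX) (hY : Cyc.IsSetup Y δY) (hZ : Cyc.IsSetup Z δZ) (f : X ⟶ Y) (g : Y ⟶ Z) [Flat f] [LocallyOfFiniteType f] [Flat g] [LocallyOfFiniteType g] (r s : ℕ) (hr : Cyc.HasRelDim f r) (hs : Cyc.HasRelDim g s) (hf : Cyc.DeltaCompat f δX δY) (hg : Cyc.DeltaCompat g δY δZ) (k : ℤ) : Cyc.HasRelDim (f ≫ g) (r + s) ∧ ∀ α : AlgebraicCycle Z ℤ, α ∈ Cyc.Zk Z δZ k → Cyc.pullFun f δX δY r (Cyc.pullFun g δY δZ s ⇑α) = Cyc.pullFun (f ≫ g) δX δZ ((r : ℤ) + s) ⇑α := by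
  refine ⟨DimFunLift.hasRelDim_comp f g hr hs, fun α _ => funext fun x => ?_⟩
  obtain ⟨n1, hn1, hd1⟩ := hf x
  obtain ⟨n2, hn2, hd2⟩ := hg (f x)
  obtain ⟨m1, hm1, hle1⟩ := DimFunLift.mapTrdeg_le f hr x
  obtain ⟨m2, hm2, hle2⟩ := DimFunLift.mapTrdeg_le g hs (f x)
  have e1 : n1 = m1 := Nat.cast_injective (R := Cardinal.{u}) (hn1.symm.trans hm1)
  have e2 : n2 = m2 := Nat.cast_injective (R := Cardinal.{u}) (hn2.symm.trans hm2)
  unfold Cyc.pullFun
  by_cases h : δX x = δZ ((f ≫ g) x) + ((r : ℤ) + s)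
  · have h' : δX x = δZ (g (f x)) + ((r : ℤ) + s) := h
    have hx1 : δX x = δY (f x) + r := by omega
    have hx2 : δY (f x) = δZ (g (f x)) + s := by omega
    rw [if_pos hx1, if_pos hx2, if_pos h, DimFunLift.length_comp f g x, ENat.toNat_mul, Nat.cast_mul,
      ← mul_assoc]
    rfl
  · have h' : ¬ δX x = δZ (g (f x)) + ((r : ℤ) + s) := h
    rw [if_neg h]
    split_ifs with h1 h2
    · exact absurd (by omega) h'
    · rw [zero_mul]
    · rfl

end Groth.Agent.S1857
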