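import Groth.Statements.S18573
import Groth.Agent.GrpSch.ProjShear


set_option autoImplicit false
universe u
open CategoryTheory AlgebraicGeometry
open REq

namespace Groth.Agent.S18573

open AlgebraicGeometry CategoryTheory MvPolynomial in
theorem irreducible_p1 (K : Type u) [Field K] : IrreducibleSpace (REq.P1K K) := by
  obtain ⟨m, hm, hm'⟩ := ProjBC.exists_iso 1 K
  have hI : IsIntegral (Proj (CohB1.polyGrading 1 K)) :=
    (EGA2G.proj_isIntegral_iff _ fun f _ h => h.eq_zero).2
      ⟨⟨X 0, HomogeneousIdeal.mem_irrelevant_of_mem _ one_pos (isHomogeneous_X K 0), X_ne_zero 0⟩,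
        fun f _ g _ h => mul_eq_zero.1 h⟩
  haveI := hm
  haveI : IsIntegral (CohB1.ProjSpace 1 K) := hI
  haveI : IrreducibleSpace (CohB1.ProjSpace 1 K) := inferInstance
  exact (Scheme.homeoOfIso (asIso m)).irreducibleSpace_iff.1 inferInstance

open AlgebraicGeometry CategoryTheory in
theorem link_invariant {k : Type u} [Field k] {Y : Scheme.{u}} (g : Y ⟶ Spec (CommRingCat.of k)) (K : Type u)
    [Field K] [Algebra k K] {V W : Set Y} (hV : IsClosed V) (hW : IsClosed W) (hVW : V ∪ W = Set.univ)
    (hT : ∀ z : REq.Pts g K, ¬ (Set.range z.1.base ⊆ V ∩ W)) {A B : REq.Pts g K} (h : REq.ElemLink g K A B) :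
    (Set.range A.1.base ⊆ V ↔ Set.range B.1.base ⊆ V) := by
  obtain ⟨U, f, a, b, -, -, -, ha, hb⟩ := h
  haveI := irreducible_p1 K
  have hU : IsPreirreducible (U : Set (REq.P1K K)) :=
    (IrreducibleSpace.isIrreducible_univ _).isPreirreducible.open_subset U.isOpen (Set.subset_univ _)
  haveI : PreirreducibleSpace ↥(U : Scheme.{u}) := Subtype.preirreducibleSpace hU
  have hpre := isPreirreducible_iff_isClosed_union_isClosed.1 (PreirreducibleSpace.isPreirreducible_univ (X := (U : Scheme.{u})))
    (f.base ⁻¹' V) (f.base ⁻¹' W) (hV.preimage f.continuous) (hW.preimage f.continuous)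
    (fun x _ => by rw [← Set.preimage_union, hVW]; trivial)
  have hr : ∀ (c : Spec (CommRingCat.of K) ⟶ (U : Scheme.{u})) (S : Set Y), Set.univ ⊆ f.base ⁻¹' S →
      Set.range (c ≫ f).base ⊆ S := fun c S hS => by
    rintro _ ⟨x, rfl⟩; exact hS (Set.mem_univ (c x))
  rw [← ha, ← hb]
  rcases hpre with h1 | h1
  · exact iff_of_true (hr a V h1) (hr b V h1)
  · refine iff_of_false (fun h2 => hT A (ha ▸ Set.subset_inter h2 (hr a W h1)))
      (fun h2 => hT B (hb ▸ Set.subset_inter h2 (hr b W h1)))


/-- Let Y be a scheme over a field k and K a field containing k. Let V and W be closed subsets of Y with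
V ∪ W = Y such that no K-point of Y has its image in V ∩ W. If p is a K-point of Y lying in V and q
a K-point of Y lying in W, then p and q are not R-equivalent on Y. (The published step concerns
k-points of the special fibre of a proper flat scheme over a discrete valuation ring, that is K = k;
this row is stated for any scheme Y over k and K-points for any field K containing k.) -/
theorem result (k : Type u) [Field k] (Y : Scheme.{u})
    (g : Y ⟶ Spec (CommRingCat.of k)) (K : Type u) [Field K] [Algebra k K]
    (V W : Set Y) (hV : IsClosed V) (hW : IsClosed W) (hVW : V ∪ W = Set.univ)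
    (hT : ∀ z : REq.Pts g K, ¬ (Set.range z.1.base ⊆ V ∩ W))
    (p q : REq.Pts g K) (hp : Set.range p.1.base ⊆ V) (hq : Set.range q.1.base ⊆ W) :
    ¬ REq.REquiv g K p q := by
  intro h
  have key : ∀ A B, REq.REquiv g K A B → (Set.range A.1.base ⊆ V ↔ Set.range B.1.base ⊆ V) := fun A B h => by
    induction h with
    | rel A B h => exact link_invariant g K hV hW hVW hT h
    | refl => exact Iff.rfl
    | symm _ _ _ ih => exact ih.symm
    | trans _ _ _ _ _ ih1 ih2 => exact ih1.trans ih2
  exact hT q (Set.subset_inter ((key p q h).1 hp) hq)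

end Groth.Agent.S18573
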