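import Mathlib
import Groth.Statements.S18580
-- import your own Groth.Agent.* helpers here

set_option autoImplicit false
set_option backward.isDefEq.respectTransparency false
set_option backward.isDefEq.respectTransparency.types false
universe u
open EtBase

namespace Groth.Agent.S18580

open AlgebraicGeometry CategoryTheory in
/-- Let Y be a connected scheme and f : X ⟶ Y a separated morphism that is unramified (locally of finite
type and formally unramified). Then the sections of f correspond bijectively to the connected
components of X mapping isomorphically onto Y: there is a bijection from the set of sections s of f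
to the set of open subschemes U of X whose underlying set is a connected component of X and for
which U ⟶ X ⟶ Y is an isomorphism, sending s to its image. In particular every section is an
isomorphism onto a connected component of X and is determined by its image. (A connected component
mapping isomorphically onto Y is the image of a section, hence open, so restricting to open
components loses nothing. The published statement also assumes Y Noetherian; that hypothesis plays
no role and is omitted.) -/
theorem result {X Y : Scheme.{u}} (f : X ⟶ Y)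
    [FormallyUnramified f] [LocallyOfFiniteType f] [IsSeparated f] [ConnectedSpace Y] :
    ∃ e : {s : Y ⟶ X // s ≫ f = 𝟙 Y} ≃
        {U : X.Opens // (∃ x : X, (U : Set X) = connectedComponent x) ∧ IsIso (U.ι ≫ f)},
      ∀ s : {s : Y ⟶ X // s ≫ f = 𝟙 Y}, ((e s).1 : Set X) = Set.range s.1 := by
  classical
  have hsec : ∀ s : {s : Y ⟶ X // s ≫ f = 𝟙 Y}, IsOpenImmersion s.1 ∧ IsClosedImmersion s.1 := by
    rintro ⟨s, hs⟩
    let k : X ⟶ Limits.pullback f f := Limits.pullback.lift (f ≫ s) (𝟙 X)
      (by rw [Category.assoc, hs, Category.comp_id, Category.id_comp])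
    have w : s ≫ Limits.pullback.diagonal f = s ≫ k := by
      apply Limits.pullback.hom_ext
      · simp [k, reassoc_of% hs]
      · simp [k]
    have h : IsPullback s s (Limits.pullback.diagonal f) k :=
      ⟨⟨w⟩, ⟨Limits.PullbackCone.IsLimit.mk _ (fun c => c.snd ≫ f) (fun c => by
        have h1 := congrArg (· ≫ Limits.pullback.fst f f) c.condition
        simpa [k] using h1.symm) (fun c => by
        have h1 := congrArg (· ≫ Limits.pullback.fst f f) c.condition
        have h2 := congrArg (· ≫ Limits.pullback.snd f f) c.condition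
        simp [k] at h1 h2
        rw [Category.assoc, ← h1, h2]) (fun c m _ h2 => by
        rw [← h2, Category.assoc, hs, Category.comp_id])⟩⟩
    exact ⟨MorphismProperty.of_isPullback (P := @IsOpenImmersion) h inferInstance,
      MorphismProperty.of_isPullback (P := @IsClosedImmersion) h inferInstance⟩
  have hcomp : ∀ s : {s : Y ⟶ X // s ≫ f = 𝟙 Y}, ∃ x : X, Set.range s.1 = connectedComponent x := by
    intro s
    haveI := (hsec s).1
    haveI := (hsec s).2
    obtain ⟨y₀⟩ := (inferInstance : Nonempty Y)
    refine ⟨s.1 y₀, (IsPreconnected.subset_connectedComponent ?_ (Set.mem_range_self y₀)).antisymm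
      (IsClopen.connectedComponent_subset ⟨s.1.isClosedEmbedding.isClosed_range,
        s.1.isOpenEmbedding.isOpen_range⟩ (Set.mem_range_self y₀))⟩
    exact isPreconnected_range s.1.continuous
  have hrange : ∀ s : {s : Y ⟶ X // s ≫ f = 𝟙 Y}, ∃ U : X.Opens, (U : Set X) = Set.range s.1 :=
    fun s => haveI := (hsec s).1; ⟨s.1.opensRange, rfl⟩
  choose U hU using hrange
  have hiso : ∀ s : {s : Y ⟶ X // s ≫ f = 𝟙 Y}, IsIso ((U s).ι ≫ f) := by
    intro s
    haveI := (hsec s).1
    let g := IsOpenImmersion.lift (U s).ι s.1 (by rw [Scheme.Opens.range_ι, hU])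
    have hg : g ≫ (U s).ι = s.1 := IsOpenImmersion.lift_fac _ _ _
    refine ⟨g, ?_, by rw [reassoc_of% hg, s.2]⟩
    haveI : IsOpenImmersion g := IsOpenImmersion.of_comp g (U s).ι
    haveI : IsIso g := by
      refine (isIso_iff_isOpenImmersion_and_epi_base g).mpr ⟨inferInstance,
        (TopCat.epi_iff_surjective _).mpr fun u => ?_⟩
      obtain ⟨y, hy⟩ : u.1 ∈ Set.range s.1 := by rw [← hU]; exact u.2
      refine ⟨y, (U s).ι.isOpenEmbedding.injective ?_⟩
      rw [← Scheme.Hom.comp_apply, hg]
      exact hy
    rw [← cancel_epi g, Category.assoc, reassoc_of% hg, reassoc_of% s.2, Category.comp_id]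
  let e0 : {s : Y ⟶ X // s ≫ f = 𝟙 Y} →
      {V : X.Opens // (∃ x : X, (V : Set X) = connectedComponent x) ∧ IsIso (V.ι ≫ f)} :=
    fun s => ⟨U s, (hcomp s).imp fun x hx => (hU s).trans hx, hiso s⟩
  refine ⟨Equiv.ofBijective e0 ⟨fun s t h => Subtype.ext ?_, fun V => ?_⟩, hU⟩
  · have hV : U s = U t := congrArg Subtype.val h
    haveI := hiso s
    obtain ⟨a, ha⟩ : ∃ a, a ≫ (U s).ι = s.1 :=
      ⟨IsOpenImmersion.lift (U s).ι s.1 (by rw [Scheme.Opens.range_ι, hU]), IsOpenImmersion.lift_fac _ _ _⟩
    obtain ⟨c, hc⟩ : ∃ c, c ≫ (U s).ι = t.1 :=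
      ⟨IsOpenImmersion.lift (U s).ι t.1 (by rw [Scheme.Opens.range_ι, hV, hU]), IsOpenImmersion.lift_fac _ _ _⟩
    have hac : a = c := by
      rw [← cancel_mono ((U s).ι ≫ f), reassoc_of% ha, reassoc_of% hc, s.2, t.2]
    rw [← ha, hac, hc]
  · haveI := V.2.2
    refine ⟨⟨inv (V.1.ι ≫ f) ≫ V.1.ι, by rw [Category.assoc, IsIso.inv_hom_id]⟩,
      Subtype.ext (SetLike.coe_injective ?_)⟩
    refine (hU _).trans ?_
    rw [Scheme.Hom.comp_base, TopCat.coe_comp, Set.range_comp,
      Set.range_eq_univ.mpr (inv (V.1.ι ≫ f)).surjective, Set.image_univ, Scheme.Opens.range_ι]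

end Groth.Agent.S18580
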