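import Groth.Statements.S18589
import Mathlib.RingTheory.WittVector.StructurePolynomial
import Mathlib.RingTheory.MvPolynomial.WeightedHomogeneous

set_option autoImplicit false
open CAlg

namespace Groth.Agent.S18589

/-- For a prime p and every natural number n, the n-th Witt addition polynomial over the integers (the
polynomial S_n with (x + y)_n = S_n(x_0, y_0, …, x_n, y_n) for p-typical Witt vectors x, y) is
weighted homogeneous of weighted degree p ^ n for the grading in which the variables x_i and y_i
have weight p ^ i. -/
theorem result (p : ℕ) [Fact p.Prime] (n : ℕ) :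
    MvPolynomial.IsWeightedHomogeneous (fun i : Fin 2 × ℕ => p ^ i.2) (WittVector.wittAdd p n) (p ^ n) := by
  classical
  open MvPolynomial in
  let w : Fin 2 × ℕ → ℕ := fun i => p ^ i.2
  let Φ : MvPolynomial (Fin 2) ℚ := X 0 + X 1
  have hW : ∀ (b : Fin 2) (n : ℕ), IsWeightedHomogeneous w (rename (fun i => (b, i)) (wittPolynomial p ℚ n)) (p ^ n) := by
    intro b n
    rw [wittPolynomial_eq_sum_C_mul_X_pow, map_sum]
    refine IsWeightedHomogeneous.sum _ _ _ fun i hi => ?_
    rw [map_mul, rename_C, map_pow (rename _), rename_X]
    refine IsWeightedHomogeneous.C_mul ?_ _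
    have h := (isWeightedHomogeneous_X ℚ w (b, i)).pow (p ^ (n - i))
    have : p ^ (n - i) * p ^ i = p ^ n := by
      rw [← pow_add, Nat.sub_add_cancel (by simpa [Nat.lt_succ_iff] using Finset.mem_range.mp hi)]
    simpa [w, this, mul_comm] using h
  have hrat : ∀ n, IsWeightedHomogeneous w (wittStructureRat p Φ n) (p ^ n) := by
    intro n
    induction n using Nat.strong_induction_on with
    | _ n ih =>
      rw [wittStructureRat_rec]
      refine IsWeightedHomogeneous.C_mul (IsWeightedHomogeneous.sub ?_ ?_) _
      · simp only [Φ, map_add, bind₁_X_right]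
        exact (hW 0 n).add (hW 1 n)
      · refine IsWeightedHomogeneous.sum _ _ _ fun i hi => IsWeightedHomogeneous.C_mul ?_ _
        have hin := Finset.mem_range.mp hi
        have h := (ih i hin).pow (p ^ (n - i))
        have : p ^ (n - i) * p ^ i = p ^ n := by rw [← pow_add, Nat.sub_add_cancel hin.le]
        simpa [this, mul_comm] using h
  intro d hd
  have hmap := map_wittStructureInt p (X 0 + X 1 : MvPolynomial (Fin 2) ℤ) n
  simp only [map_add, map_X] at hmap
  refine hrat n (d := d) ?_
  rw [← hmap, coeff_map]
  simpa [WittVector.wittAdd] using hd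

end Groth.Agent.S18589
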