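import Groth.Statements.S18590
import Mathlib

set_option autoImplicit false
universe u
open CAlg

namespace Groth.Agent.S18590

open WittVector

theorem coeff_teichmuller_mul (p : ℕ) [Fact p.Prime] {R : Type*} [CommRing R] (t : R) (x : WittVector p R)
    (n : ℕ) : (teichmuller p t * x).coeff n = t ^ p ^ n * x.coeff n := by
  let T : MvPolynomial (Option ℕ) ℤ := MvPolynomial.X none
  let Y : WittVector p (MvPolynomial (Option ℕ) ℤ) := WittVector.mk p fun i => MvPolynomial.X (some i)
  let Z : WittVector p (MvPolynomial (Option ℕ) ℤ) := WittVector.mk p fun i => T ^ p ^ i * MvPolynomial.X (some i)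
  have key : teichmuller p T * Y = Z := by
    apply WittVector.map_injective (MvPolynomial.map (Int.castRingHom ℚ))
      (MvPolynomial.map_injective _ Int.cast_injective)
    haveI : Invertible (p : MvPolynomial (Option ℕ) ℚ) :=
      (invertibleOfNonzero (Nat.cast_ne_zero.mpr (Fact.out : p.Prime).ne_zero : (p : ℚ) ≠ 0)).map MvPolynomial.C |>.copy _ (map_natCast MvPolynomial.C p).symm
    refine (ghostMap.bijective_of_invertible p (MvPolynomial (Option ℕ) ℚ)).1 (funext fun m => ?_)
    simp only [ghostMap_apply, map_mul, map_teichmuller, ghostComponent_teichmuller]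
    simp only [ghostComponent_apply, wittPolynomial_eq_sum_C_mul_X_pow, map_sum, map_mul, map_pow, MvPolynomial.aeval_C,
      MvPolynomial.aeval_X, map_coeff, Finset.mul_sum]
    refine Finset.sum_congr rfl fun i hi => ?_
    simp only [Z, Y, T, WittVector.coeff_mk, map_mul, map_pow, mul_pow, ← pow_mul, ← pow_add, MvPolynomial.map_X]
    rw [Nat.add_sub_cancel' (Nat.lt_succ_iff.mp (Finset.mem_range.mp hi))]
    ring
  let f : MvPolynomial (Option ℕ) ℤ →+* R :=
    MvPolynomial.eval₂Hom (Int.castRingHom R) fun o => o.elim t x.coeff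
  have hY : WittVector.map f Y = x := by ext i; simp [f, Y]
  have hT : f T = t := by simp [f, T]
  have := congrArg (fun z => (WittVector.map f z).coeff n) key
  simp only [map_mul, map_teichmuller, hY, hT] at this
  rw [this]
  simp [f, Z, T]

/-- Let p be a prime, A a commutative ring, K a commutative A-algebra of characteristic p and M_0, M_1,
M_2, … A-submodules of K with M_i · M_j ⊆ M_(i+j) for all i, j. Then the subset of the ring W(K) of
p-typical Witt vectors consisting of the vectors whose n-th coordinate lies in M_(p^n) for every n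
is closed under addition and under multiplication by the image of W(A) under W of the structure map;
in other words it is a W(A)-submodule of W(K). (The published statement is the case of an integral
normal noetherian scheme X of characteristic p with function field K, an affine open subset U with
coordinate ring A, and M_k the module of sections over U of the divisorial sheaf of k·D for a real
Weil divisor D on X; these form such a multiplicative family, and the subset is then the module of
sections over U of the Witt divisorial sheaf of D inside W(K). Only the two stated properties of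
that family enter.) -/
theorem result
    (p : ℕ) [Fact p.Prime] (A K : Type u) [CommRing A] [CommRing K] [Algebra A K] [CharP K p]
    (M : ℕ → Submodule A K)
    (hmul : ∀ (i j : ℕ) (a b : K), a ∈ M i → b ∈ M j → a * b ∈ M (i + j)) :
    (∀ φ ψ : WittVector p K, (∀ n : ℕ, φ.coeff n ∈ M (p ^ n)) → (∀ n : ℕ, ψ.coeff n ∈ M (p ^ n)) →
        ∀ n : ℕ, (φ + ψ).coeff n ∈ M (p ^ n)) ∧
      (∀ (x : WittVector p A) (φ : WittVector p K), (∀ n : ℕ, φ.coeff n ∈ M (p ^ n)) →
        ∀ n : ℕ, (WittVector.map (algebraMap A K) x * φ).coeff n ∈ M (p ^ n)) := by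
  classical
  let M' : ℕ → Submodule A K := fun i => if i = 0 then 1 ⊔ M 0 else M i
  have hM' : ∀ i j a b, a ∈ M' i → b ∈ M' j → a * b ∈ M' (i + j) := by
    have h0 : ∀ j a b, a ∈ (1 : Submodule A K) ⊔ M 0 → b ∈ M j → a * b ∈ M j := by
      intro j a b ha hb
      obtain ⟨y, hy, z, hz, rfl⟩ := Submodule.mem_sup.mp ha
      obtain ⟨r, rfl⟩ := Submodule.mem_one.mp hy
      rw [add_mul, ← Algebra.smul_def]
      exact add_mem (Submodule.smul_mem _ r hb) (zero_add j ▸ hmul 0 j z b hz hb)
    intro i j a b ha hb
    rcases Nat.eq_zero_or_pos i with rfl | hi <;> rcases Nat.eq_zero_or_pos j with rfl | hj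
    · simp only [M', if_pos, add_zero] at ha hb ⊢
      obtain ⟨y, hy, z, hz, rfl⟩ := Submodule.mem_sup.mp hb
      obtain ⟨r, rfl⟩ := Submodule.mem_one.mp hy
      rw [mul_add, mul_comm a, ← Algebra.smul_def]
      exact add_mem (Submodule.smul_mem _ r ha) (Submodule.mem_sup_right (h0 0 a z ha hz))
    · simp only [M', if_pos, if_neg hj.ne', zero_add] at ha hb ⊢
      exact h0 j a b ha hb
    · simp only [M', if_pos, if_neg hi.ne', add_zero] at ha hb ⊢
      rw [mul_comm]
      exact h0 i b a hb ha
    · simp only [M', if_neg hi.ne', if_neg hj.ne', if_neg (by omega : i + j ≠ 0)] at ha hb ⊢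
      exact hmul i j a b ha hb
  let S : Subring (Polynomial K) :=
    { carrier := {f | ∀ i, f.coeff i ∈ M' i}
      mul_mem' := fun {f g} hf hg i => by
        rw [Polynomial.coeff_mul]
        exact sum_mem fun c hc => (Finset.HasAntidiagonal.mem_antidiagonal.mp hc) ▸ hM' _ _ _ _ (hf _) (hg _)
      one_mem' := fun i => by
        rw [Polynomial.coeff_one]
        split_ifs with h
        · subst h; exact Submodule.mem_sup_left (Submodule.mem_one.mpr ⟨1, map_one _⟩)
        · exact zero_mem _
      add_mem' := fun {f g} hf hg i => by rw [Polynomial.coeff_add]; exact add_mem (hf i) (hg i)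
      zero_mem' := fun i => by rw [Polynomial.coeff_zero]; exact zero_mem _
      neg_mem' := fun {f} hf i => by rw [Polynomial.coeff_neg]; exact neg_mem (hf i) }
  have hpn : ∀ n, p ^ n ≠ 0 := fun n => pow_ne_zero _ (Fact.out : p.Prime).ne_zero
  have hmon : ∀ n (a : K), a ∈ M (p ^ n) → Polynomial.monomial (p ^ n) a ∈ S := by
    intro n a ha i
    rw [Polynomial.coeff_monomial]
    split_ifs with h
    · subst h; simpa only [M', if_neg (hpn n)] using ha
    · exact zero_mem _
  let Φ : ∀ φ : WittVector p K, (∀ n, φ.coeff n ∈ M (p ^ n)) → WittVector p S := fun φ hφ =>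
    WittVector.mk p fun n => ⟨Polynomial.monomial (p ^ n) (φ.coeff n), hmon n _ (hφ n)⟩
  have hlift : ∀ (φ : WittVector p K) (hφ : ∀ n, φ.coeff n ∈ M (p ^ n)),
      WittVector.map S.subtype (Φ φ hφ) = teichmuller p Polynomial.X * WittVector.map Polynomial.C φ := by
    intro φ hφ
    ext n : 1
    rw [coeff_teichmuller_mul]
    simp [Φ, Polynomial.X_pow_mul, Polynomial.C_mul_X_pow_eq_monomial]
  have hout : ∀ (z : WittVector p S) (w : WittVector p K),
      WittVector.map S.subtype z = teichmuller p Polynomial.X * WittVector.map Polynomial.C w →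
        ∀ n, w.coeff n ∈ M (p ^ n) := by
    intro z w h n
    have h1 := congrArg (fun t => t.coeff n) h
    simp only [coeff_teichmuller_mul, WittVector.map_coeff] at h1
    have h2 := (z.coeff n).2 (p ^ n)
    rw [show ((z.coeff n : S) : Polynomial K) = _ from h1, Polynomial.X_pow_mul,
      Polynomial.coeff_mul_X_pow'] at h2
    simpa only [M', if_neg (hpn n), le_refl, if_true, Nat.sub_self, Polynomial.coeff_C_zero] using h2
  refine ⟨fun φ ψ hφ hψ => hout (Φ φ hφ + Φ ψ hψ) _ ?_, fun x φ hφ => ?_⟩
  · rw [map_add, map_add, hlift φ hφ, hlift ψ hψ, mul_add]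
  · let ι : A →+* S := (algebraMap A (Polynomial K)).codRestrict S fun a i => by
      rw [Polynomial.algebraMap_apply, Polynomial.coeff_C]
      split_ifs with h
      · subst h; exact Submodule.mem_sup_left (Submodule.mem_one.mpr ⟨a, rfl⟩)
      · exact zero_mem _
    refine hout (WittVector.map ι x * Φ φ hφ) _ ?_
    have hι : WittVector.map S.subtype (WittVector.map ι x) =
        WittVector.map Polynomial.C (WittVector.map (algebraMap A K) x) := by
      ext n
      simp [ι, Polynomial.algebraMap_apply]
    rw [map_mul, map_mul, hlift φ hφ, hι]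
    ring

end Groth.Agent.S18590
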