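import Groth.Statements.S18596
import Mathlib
import Groth.Agent.EtRamBC.Gen
import Groth.Agent.EtRamIdx.Basic

set_option autoImplicit false
universe u
open EtRam

namespace Groth.Agent.S18596

open AlgebraicGeometry CategoryTheory CategoryTheory.Limits TensorProduct

open IsLocalRing in
lemma tame_of_finite_etale {K F : Type u} [Field K] [Field F] (A : ValuationSubring K) [IsDiscreteValuationRing A] (g : K →+* F)
    (T : Type u) [CommRing T] [Algebra A T] [Module.Finite A T] [Algebra.Etale A T] (ρ : T →+* F)
    (hρ : ∀ a : A, ρ (algebraMap A T a) = g a) (hgen : ∀ z : F, ∃ s t, ρ t ≠ 0 ∧ z * ρ t = ρ s) :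
    EtRam.IsTamelyRamified A (g.comp A.subtype) := by
  classical
  intro W hW
  intro hloc
  letI : Algebra A W := (RingHom.codRestrict (g.comp A.subtype) W hW.1).toAlgebra
  haveI : IsLocalHom (algebraMap A W) := hloc
  have hAW : Function.Injective (algebraMap A W) := fun a b hab =>
    Subtype.ext (g.injective (congrArg Subtype.val hab))
  have hmem : ∀ t, ρ t ∈ W := by
    intro t
    obtain ⟨P, hP, hP0⟩ := Algebra.IsIntegral.isIntegral (R := A) t
    obtain ⟨w, hw⟩ := (IsIntegrallyClosed.isIntegral_iff (R := W) (x := ρ t)).mp ⟨P.map (algebraMap A W), hP.map _, by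
      rw [Polynomial.eval₂_map, show (algebraMap W F).comp (algebraMap A W) = ρ.comp (algebraMap A T) from RingHom.ext fun a => (hρ a).symm,
        ← Polynomial.hom_eval₂, hP0, map_zero]⟩
    rw [← hw]; exact w.2
  let θ : T →ₐ[A] W := { RingHom.codRestrict ρ W hmem with commutes' := fun a => Subtype.ext (hρ a) }
  obtain ⟨π, hπ'⟩ := IsDiscreteValuationRing.exists_irreducible A
  have hπ := (IsDiscreteValuationRing.irreducible_iff_uniformizer π).mp hπ'
  let R := ResidueField A ⊗[A] T
  let red : T →+* R := (Algebra.TensorProduct.includeRight : T →ₐ[A] R).toRingHom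
  let ψA : R →ₐ[ResidueField A] ResidueField W :=
    Algebra.TensorProduct.lift (Algebra.ofId _ _) ((IsScalarTower.toAlgHom A W (ResidueField W)).comp θ) (fun _ _ => Commute.all _ _)
  have hred : Function.Surjective red := by
    intro r
    induction r using TensorProduct.induction_on with
    | zero => exact ⟨0, map_zero _⟩
    | tmul x y =>
      obtain ⟨a, rfl⟩ := residue_surjective x
      refine ⟨a • y, ?_⟩
      show (1 : ResidueField A) ⊗ₜ[A] (a • y) = _
      rw [← TensorProduct.smul_tmul, ← Algebra.algebraMap_eq_smul_one]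
      rfl
    | add x y hx hy => obtain ⟨a, rfl⟩ := hx; obtain ⟨b, rfl⟩ := hy; exact ⟨a + b, map_add _ _ _⟩
  have hker : ∀ t, red t = 0 → ∃ t', θ t = algebraMap A W π * θ t' := by
    intro t ht
    haveI := Algebra.FormallyUnramified.base_change (R := A) (A := T) (ResidueField A)
    have h1 : t ∈ RingHom.ker (Algebra.TensorProduct.includeRight : T →ₐ[A] R) := ht
    have h2 : t ∈ (maximalIdeal A).map (algebraMap A T) := by
      have h4 : (Submodule.Quotient.mk t : T ⧸ (maximalIdeal A • (⊤ : Submodule A T))) = 0 := by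
        have h5 : TensorProduct.quotTensorEquivQuotSMul T (maximalIdeal A) ((1 : A ⧸ maximalIdeal A) ⊗ₜ[A] t) = Submodule.Quotient.mk t := by
          rw [← map_one (Ideal.Quotient.mk (maximalIdeal A))]
          exact (TensorProduct.quotTensorEquivQuotSMul_mk_tmul (maximalIdeal A) 1 t).trans (by rw [one_smul])
        rw [← h5, show ((1 : A ⧸ maximalIdeal A) ⊗ₜ[A] t) = (0 : (A ⧸ maximalIdeal A) ⊗[A] T) from ht, map_zero]
      rw [Submodule.Quotient.mk_eq_zero, Ideal.smul_top_eq_map] at h4
      exact h4
    rw [hπ, Ideal.map_span, Set.image_singleton] at h2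
    obtain ⟨t', rfl⟩ := Ideal.mem_span_singleton.mp h2
    exact ⟨t', by rw [map_mul, θ.commutes]⟩
  haveI : IsReduced R := Algebra.FormallyUnramified.isReduced_of_field (ResidueField A) R
  haveI : IsArtinianRing R := IsArtinianRing.of_finite (ResidueField A) R
  haveI : Ring.KrullDimLE 0 R := inferInstance
  have hψ : ∀ t, ψA (red t) = residue W (θ t) := fun t => by
    show ψA ((1 : ResidueField A) ⊗ₜ[A] t) = _
    rw [Algebra.TensorProduct.lift_tmul, map_one, one_mul]; rfl
  have hπW : ¬ IsUnit (algebraMap A W π) := fun h => hπ'.not_isUnit ((isUnit_map_iff (algebraMap A W) π).mp h)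
  obtain ⟨hmax, hsurj⟩ := EtRamBC.mainGen (B := A) θ.toRingHom red hred ψA.toRingHom hψ (algebraMap A W π) hπW
    ((map_ne_zero_iff _ hAW).mpr hπ'.ne_zero) hker hAW
    (fun t => ((Algebra.IsIntegral.isIntegral (R := A) t).map θ).isAlgebraic)
    (fun w => by
      obtain ⟨s, t, ht, hst⟩ := hgen (w : F)
      exact ⟨s, t, fun h0 => ht (congrArg Subtype.val h0), Subtype.ext hst⟩)
    1 π hπ' (by rw [pow_one])
  refine ⟨?_, fun p hp hc => ?_⟩
  · show Algebra.IsSeparable (ResidueField A) (ResidueField W)
    haveI : Algebra.FormallyUnramified (ResidueField A) (ResidueField W) := Algebra.FormallyUnramified.of_surjective ψA hsurj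
    haveI : Module.Finite (ResidueField A) (ResidueField W) := Module.Finite.of_surjective ψA.toLinearMap hsurj
    exact Algebra.FormallyUnramified.isSeparable _ _
  · show ¬ p ∣ Ideal.ramificationIdx' (maximalIdeal A) (maximalIdeal W)
    rw [EtRamIdx.eq_of_associated hπ hmax ((map_ne_zero_iff _ hAW).mpr hπ'.ne_zero) (n := 1) (by rw [pow_one])]
    intro hd
    exact hp.one_lt.ne' (Nat.dvd_one.mp hd)


open AlgebraicGeometry CategoryTheory in
/-- Let k be a perfect field, X a k-scheme proper over k and f : Y ⟶ X finite étale. Curve-tameness of f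
asks that the pullback of f to any regular k-curve mapping to X be tamely ramified at every place of
the curve's function field at infinity; proper targets make every finite étale cover curve-tame.
Stated here unfolded at a single place, in the form the argument yields: for every point y of Y with
image x, and every discrete valuation ring A of the residue field κ(x) through which Spec κ(x) ⟶
Spec k factors, the finite separable extension κ(y) of κ(x) is tamely ramified with respect to A. -/
theorem result
    (k : Type u) [Field k] [PerfectField k] {X Y : Scheme.{u}} (s : X ⟶ Spec (CommRingCat.of k))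
    [IsProper s] (f : Y ⟶ X) [IsFinite f] [Etale f] (y : Y)
    (A : ValuationSubring (X.residueField (f.base y))) [IsDiscreteValuationRing A]
    (a : Spec (CommRingCat.of A) ⟶ Spec (CommRingCat.of k))
    (ha : Spec.map (CommRingCat.ofHom A.subtype) ≫ a = X.fromSpecResidueField (f.base y) ≫ s) :
    EtRam.IsTamelyRamified A ((f.residueFieldMap y).hom.comp A.subtype) := by
  classical
  let S : ValuativeCommSq s :=
    { R := A
      K := X.residueField (f.base y)
      i₁ := X.fromSpecResidueField (f.base y)
      i₂ := a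
      commSq := ⟨by rw [← ha]; rfl⟩ }
  have hlift : S.commSq.HasLift := by
    have hs : IsProper s := inferInstance
    rw [IsProper.eq_valuativeCriterion] at hs
    exact (ValuativeCriterion.eq ▸ hs.1.1.1).1 S
  obtain ⟨⟨⟨l, hl₁, hl₂⟩⟩⟩ := hlift
  let P := pullback f l
  haveI : IsAffine P := isAffine_of_isAffineHom (pullback.snd f l)
  let T := Γ(P, ⊤)
  have hy : Y.fromSpecResidueField y ≫ f =
      (Spec.map (f.residueFieldMap y) ≫ Spec.map (CommRingCat.ofHom A.subtype)) ≫ l := by
    rw [← Scheme.Hom.SpecMap_residueFieldMap_fromSpecResidueField, Category.assoc]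
    congr 1
    exact hl₁.symm
  let q : Spec (Y.residueField y) ⟶ P := pullback.lift _ _ hy
  let u : Spec (Γ(P, ⊤)) ⟶ Spec (CommRingCat.of A) := P.isoSpec.inv ≫ pullback.snd f l
  obtain ⟨φ, hφ⟩ : ∃ φ : CommRingCat.of A ⟶ Γ(P, ⊤), Spec.map φ = u := ⟨Spec.preimage u, Spec.map_preimage u⟩
  obtain ⟨ρ, hρ⟩ : ∃ ρ : Γ(P, ⊤) ⟶ Y.residueField y, Spec.map ρ = q ≫ P.isoSpec.hom :=
    ⟨Spec.preimage _, Spec.map_preimage _⟩
  haveI hfin : IsFinite (Spec.map φ) := by rw [hφ]; infer_instance
  haveI het : Etale (Spec.map φ) := by rw [hφ]; infer_instance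
  letI : Algebra A Γ(P, ⊤) := φ.hom.toAlgebra
  haveI : Module.Finite A Γ(P, ⊤) := by
    have := (IsFinite.SpecMap_iff φ).mp hfin
    exact RingHom.finite_algebraMap.mp this
  haveI : Algebra.Etale A Γ(P, ⊤) := by
    have := (HasRingHomProperty.Spec_iff (P := @Etale)).mp het
    exact RingHom.etale_algebraMap.mp this
  have hcomp : φ ≫ ρ = CommRingCat.ofHom A.subtype ≫ f.residueFieldMap y := by
    apply Spec.map_injective
    rw [Spec.map_comp, Spec.map_comp, hρ, hφ, Category.assoc, Iso.hom_inv_id_assoc, pullback.lift_snd]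
    rfl
  haveI hq : SurjectiveOnStalks q := by
    haveI : SurjectiveOnStalks (q ≫ pullback.fst f l) := by rw [pullback.lift_fst]; infer_instance
    exact SurjectiveOnStalks.of_comp q (pullback.fst f l)
  haveI hρs : SurjectiveOnStalks (Spec.map ρ) := by rw [hρ]; infer_instance
  refine tame_of_finite_etale A (f.residueFieldMap y).hom Γ(P, ⊤) ρ.hom (fun a => ?_) (fun z => ?_)
  · exact congrArg (fun h : CommRingCat.of A ⟶ Y.residueField y => h.hom a) hcomp
  · have hsos := (SurjectiveOnStalks.Spec_iff (φ := ρ)).mp hρs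
    obtain ⟨x, r, c, hc, hr, e⟩ := (RingHom.surjective_localRingHom_iff (f := ρ.hom) (⊥ : Ideal (Y.residueField y))).mp (hsos ⊥ Ideal.isPrime_bot) z
    rw [Ideal.mem_bot] at hc hr
    refine ⟨x, r, hr, ?_⟩
    rw [mul_comm]
    exact mul_left_cancel₀ hc (by rw [← mul_assoc]; exact e)

end Groth.Agent.S18596
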