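import Groth.Statements.S18597
import Mathlib
import Groth.Agent.EtRamIdx.Basic
import Groth.Agent.NagataNorm.Basic

set_option autoImplicit false
universe u
open EtRam

namespace Groth.Agent.S18597

set_option maxHeartbeats 2000000
set_option synthInstance.maxHeartbeats 100000
open AlgebraicGeometry CategoryTheory IsLocalRing
open scoped Pointwise

/-- A Galois extension of degree prime to the residue characteristic is tame. -/
lemma tame_of_galois {F E : Type u} [Field F] [Field E] (A : ValuationSubring F) [IsDiscreteValuationRing A] [Algebra F E]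
    [FiniteDimensional F E] [IsGalois F E]
    (hn : ∀ p : ℕ, p.Prime → CharP (ResidueField A) p → ¬ p ∣ Module.finrank F E) :
    EtRam.IsTamelyRamified A ((algebraMap F E).comp A.subtype) := by
  classical
  intro V hV
  letI : Algebra A V := (RingHom.codRestrict ((algebraMap F E).comp A.subtype) V hV.1).toAlgebra
  intro hloc
  letI : Algebra A E := ((algebraMap F E).comp A.subtype).toAlgebra
  haveI : IsScalarTower A F E := IsScalarTower.of_algebraMap_eq fun _ => rfl
  haveI : IsScalarTower A V E := IsScalarTower.of_algebraMap_eq fun _ => rfl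
  let B := integralClosure A E
  haveI : IsDedekindDomain B := IsIntegralClosure.isDedekindDomain A F E B
  haveI : IsFractionRing B E := IsIntegralClosure.isFractionRing_of_finite_extension A F E B
  haveI : Module.Finite A B := IsIntegralClosure.finite A F E B
  letI := IsIntegralClosure.MulSemiringAction A F E B
  haveI : IsGaloisGroup (E ≃ₐ[F] E) A B := IsGaloisGroup.of_isFractionRing _ _ _ F E
  have hBV : ∀ b : B, (b : E) ∈ V := fun b => by
    obtain ⟨P, hP, hP0⟩ := b.2
    obtain ⟨w, hw⟩ := (IsIntegrallyClosed.isIntegral_iff (R := V) (x := (b : E))).mp ⟨P.map (algebraMap A V), hP.map _, by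
      rw [Polynomial.eval₂_map, ← IsScalarTower.algebraMap_eq]; exact hP0⟩
    rw [← hw]; exact w.2
  let θ₀ : B →ₐ[A] V := { RingHom.codRestrict (B.val : B →+* E) V hBV with commutes' := fun _ => rfl }
  let m : Ideal B := (maximalIdeal V).comap θ₀
  haveI : m.IsPrime := Ideal.IsPrime.comap θ₀
  set p := maximalIdeal A with hp
  haveI hlies : m.LiesOver p := ⟨by
    ext a
    rw [Ideal.under, Ideal.mem_comap, Ideal.mem_comap, θ₀.commutes, mem_maximalIdeal, mem_maximalIdeal, mem_nonunits_iff, mem_nonunits_iff,
      isUnit_map_iff]⟩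
  haveI : m.IsMaximal := Ideal.IsMaximal.of_liesOver_isMaximal m p
  haveI : Module.Flat A B := by
    haveI : Module.IsTorsionFree A B := Module.isTorsionFree_iff_faithfulSMul.mpr ((faithfulSMul_iff_algebraMap_injective A B).mpr fun x y h =>
      Subtype.ext ((algebraMap F E).injective (congrArg Subtype.val h)))
    infer_instance
  have hcount := Ideal.ncard_primesOver_mul_ramificationIdxIn_mul_inertiaDegIn p B (E ≃ₐ[F] E)
  rw [IsGalois.card_aut_eq_finrank, Ideal.ramificationIdxIn_eq_ramificationIdx p m (E ≃ₐ[F] E),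
    Ideal.inertiaDegIn_eq_inertiaDeg p m (E ≃ₐ[F] E)] at hcount
  -- the local ring at `m` is `V`
  let S := Localization.AtPrime m
  have hm0 : m ≠ ⊥ := Ideal.ne_bot_of_liesOver_of_ne_bot (IsDiscreteValuationRing.not_a_field A) m
  haveI : IsDiscreteValuationRing S := IsLocalization.AtPrime.isDiscreteValuationRing_of_dedekind_domain B hm0 S
  have hu : ∀ b : m.primeCompl, IsUnit (θ₀ (b : B)) := fun b => by
    by_contra h
    exact b.2 ((mem_maximalIdeal _).mpr h)
  let θ : S →ₐ[A] V := IsLocalization.liftAlgHom (M := m.primeCompl) (f := θ₀) hu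
  have hθb : ∀ b : B, θ (algebraMap B S b) = θ₀ b := fun b => IsLocalization.lift_eq (M := m.primeCompl) hu b
  have hθ : Function.Injective θ := by
    rw [injective_iff_map_eq_zero]
    intro s hs
    obtain ⟨⟨b, t⟩, ht⟩ := IsLocalization.surj m.primeCompl s
    have h := congrArg θ ht
    rw [map_mul, hs, zero_mul, hθb] at h
    have hb : b = 0 := Subtype.ext (show ((θ₀ b : V) : E) = ((0 : V) : E) from congrArg _ h.symm)
    rw [hb, map_zero] at ht
    exact (IsUnit.mul_left_eq_zero (IsLocalization.map_units S t)).mp ht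
  haveI hθloc : IsLocalHom θ := ⟨fun s hs => by
    obtain ⟨⟨b, t⟩, ht⟩ := IsLocalization.surj m.primeCompl s
    have h := congrArg θ ht
    rw [map_mul, hθb, hθb] at h
    have hb : b ∈ m.primeCompl := fun hbm => (mem_maximalIdeal _).mp (Ideal.mem_comap.mp hbm) (h ▸ hs.mul (hu t))
    exact isUnit_of_mul_isUnit_left (ht ▸ IsLocalization.map_units S ⟨b, hb⟩)⟩
  have hθsurj : Function.Surjective θ := by
    intro x
    obtain ⟨a, b, hb, hab⟩ := IsFractionRing.div_surjective B (x : E)
    have hb0 : (b : E) ≠ 0 := fun h => nonZeroDivisors.ne_zero hb (Subtype.ext h)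
    have hx : x * θ (algebraMap B S b) = θ (algebraMap B S a) := by
      rw [hθb, hθb]
      refine Subtype.ext ?_
      show (x : E) * (b : E) = (a : E)
      rw [← hab]
      exact div_mul_cancel₀ _ hb0
    have hbS : θ (algebraMap B S b) ≠ 0 := by
      rw [hθb]; exact fun h => hb0 (congrArg Subtype.val h)
    haveI : ValuationRing S := inferInstance
    rcases ((ValuationRing.iff_dvd_total (R := S)).mp inferInstance).total (algebraMap B S b) (algebraMap B S a) with ⟨c, hc⟩ | ⟨c, hc⟩
    · refine ⟨c, mul_left_cancel₀ hbS ?_⟩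
      rw [← map_mul, ← hc, ← hx, mul_comm]
    · rw [hc, map_mul] at hx
      have ha0 : θ (algebraMap B S a) ≠ 0 := fun h => hbS (by rw [hc, map_mul, h, zero_mul])
      have hxc : x * θ c = 1 := mul_right_cancel₀ ha0 (by rw [one_mul, mul_assoc, mul_comm (θ c)]; exact hx)
      obtain ⟨u, rfl⟩ := isUnit_of_map_unit θ c (IsUnit.of_mul_eq_one_right x hxc)
      refine ⟨↑u⁻¹, ?_⟩
      calc θ ↑u⁻¹ = x * θ ↑u * θ ↑u⁻¹ := by rw [hxc, one_mul]
        _ = x := by rw [mul_assoc, ← map_mul, Units.mul_inv, map_one, mul_one]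
  let e : S ≃ₐ[A] V := AlgEquiv.ofBijective θ ⟨hθ, hθsurj⟩
  -- residue degree
  letI := Localization.AtPrime.algebraOfLiesOver p m
  haveI : Module.Finite p.ResidueField m.ResidueField := inferInstance
  let i₀ : ResidueField A →+* p.ResidueField := algebraMap (A ⧸ p) p.ResidueField
  have hi : Function.Bijective i₀ := p.bijective_algebraMap_quotient_residueField
  let i : ResidueField A ≃+* p.ResidueField := RingEquiv.ofBijective i₀ hi
  let j : ResidueField V ≃+* m.ResidueField := ResidueField.mapEquiv (e.symm : V ≃ₐ[A] S).toRingEquiv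
  have hcomm : (algebraMap p.ResidueField m.ResidueField).comp (i : ResidueField A →+* p.ResidueField) =
      (j : ResidueField V →+* m.ResidueField).comp (algebraMap (ResidueField A) (ResidueField V)) := by
    refine Ideal.Quotient.ringHom_ext (RingHom.ext fun a => ?_)
    show algebraMap p.ResidueField m.ResidueField (algebraMap A p.ResidueField a) = residue S (e.symm (algebraMap A V a))
    rw [e.symm.commutes, ← IsScalarTower.algebraMap_apply]
    rfl
  have hf : Module.finrank (ResidueField A) (ResidueField V) = m.inertiaDeg A := by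
    rw [Ideal.inertiaDeg_eq p m]
    exact Algebra.finrank_eq_of_equiv_equiv i j hcomm
  -- ramification index
  have hes : m.ramificationIdx A ≠ 0 := (Ideal.ramificationIdx_pos m A).ne'
  have hram : Ideal.ramificationIdx' p (maximalIdeal V) = m.ramificationIdx A := by
    obtain ⟨t, ht⟩ := IsDiscreteValuationRing.exists_irreducible S
    have htm : maximalIdeal S = Ideal.span {t} := (IsDiscreteValuationRing.irreducible_iff_uniformizer t).mp ht
    obtain ⟨π, hπ⟩ := IsDiscreteValuationRing.exists_irreducible A
    have hπm : p = Ideal.span {π} := (IsDiscreteValuationRing.irreducible_iff_uniformizer π).mp hπ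
    have hπ0 : algebraMap A S π ≠ 0 := fun h0 => by
      have := congrArg (fun s => ((θ s : V) : E)) h0
      simp only [θ.commutes, map_zero] at this
      exact hπ.ne_zero (Subtype.ext ((algebraMap F E).injective (this.trans (map_zero (algebraMap F E)).symm)))
    obtain ⟨n, hn'⟩ := IsDiscreteValuationRing.associated_pow_irreducible hπ0 ht
    have hlen : m.ramificationIdx A = n := by
      rw [Ideal.ramificationIdx_eq p m, hπm, Ideal.map_span, Set.image_singleton,
        Ideal.span_singleton_eq_span_singleton.mpr hn', ← Ideal.span_singleton_pow, ← htm,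
        IsDiscreteValuationRing.length_quotient_pow_maximalIdeal]
      rfl
    rw [hlen]
    refine EtRamIdx.eq_of_associated hπm (t := e t) ?_ ((map_ne_zero_iff _ e.injective).mpr ht.ne_zero) ?_
    · have hirr : Irreducible (e t) := (MulEquiv.irreducible_iff (e : S ≃* V)).mpr ht
      haveI : IsDiscreteValuationRing V := IsDiscreteValuationRing.RingEquivClass.isDiscreteValuationRing e
      exact (IsDiscreteValuationRing.irreducible_iff_uniformizer _).mp hirr
    · rw [← e.commutes, ← map_pow]
      exact hn'.map (e : S ≃ₐ[A] V).toRingHom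
  haveI : Module.Finite (ResidueField A) (ResidueField V) := FiniteDimensional.of_finrank_pos (by rw [hf]; exact Ideal.inertiaDeg_pos m A)
  refine ⟨?_, fun q hq hc hdvd => hn q hq hc ?_⟩
  · rcases CharP.exists (ResidueField A) with ⟨q, hc⟩
    rcases CharP.char_is_prime_or_zero (ResidueField A) q with hq | rfl
    · refine ⟨fun x => ?_⟩
      have hxi : IsIntegral (ResidueField A) x := Algebra.IsIntegral.isIntegral x
      refine (Polynomial.separable_iff_derivative_ne_zero (minpoly.irreducible hxi)).mpr fun h0 => hn q hq hc ?_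
      have h1 : q ∣ (minpoly (ResidueField A) x).natDegree := by
        have h := congrArg (fun P => P.coeff ((minpoly (ResidueField A) x).natDegree - 1)) h0
        simp only [Polynomial.coeff_derivative, Polynomial.coeff_zero] at h
        have hpos := minpoly.natDegree_pos hxi
        rw [Nat.sub_add_cancel hpos, (minpoly.monic hxi).coeff_natDegree, one_mul, ← Nat.cast_add_one, Nat.sub_add_cancel hpos] at h
        exact (CharP.cast_eq_zero_iff (ResidueField A) q _).mp h
      rw [← hcount]
      exact Dvd.dvd.mul_left (Dvd.dvd.mul_left (hf ▸ h1.trans (minpoly.degree_dvd hxi)) _) _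
    · haveI : CharZero (ResidueField A) := CharP.charP_to_charZero _
      infer_instance
  · rw [← hcount]
    exact Dvd.dvd.mul_left (Dvd.dvd.mul_right (hram ▸ hdvd) _) _
open Groth.Agent


open AlgebraicGeometry CategoryTheory in
/-- Let k be a perfect field and X a k-scheme. A finite étale cover of X by a torsor under a finite
group of order prime to the characteristic of k is curve-tame, i.e. tamely ramified at every place
at infinity of every regular k-curve mapping to X. Stated here unfolded at a single place and for a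
connected Galois cover Z ⟶ X (the X-automorphisms of Z act transitively on geometric fibres) whose
automorphism group has order invertible in k: for every point z of Z with image x and every discrete
valuation ring A of the residue field κ(x) through which Spec κ(x) ⟶ Spec k factors (so A contains k
and has the residue characteristic of k), the finite separable extension κ(z) of κ(x) is tamely
ramified with respect to A. Without the factorisation through Spec A the claim fails already for X =
Spec ℚ, Z = Spec ℚ(√2) and A = ℤ localised at 2. (The published statement is for torsors under a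
finite abelian group of order prime to the characteristic; a connected component of such a torsor is
a Galois cover of this kind.) -/
theorem result
    (k : Type u) [Field k] [PerfectField k] {X : Scheme.{u}} (s : X ⟶ Spec (CommRingCat.of k))
    (Z : FEt.Cat X) (hZ : PiSp.IsGaloisCover Z) (hn : (Nat.card (Aut Z) : k) ≠ 0) (z : Z.left)
    (A : ValuationSubring (X.residueField (Z.hom.base z))) [IsDiscreteValuationRing A]
    (a : Spec (CommRingCat.of A) ⟶ Spec (CommRingCat.of k))
    (ha : Spec.map (CommRingCat.ofHom A.subtype) ≫ a = X.fromSpecResidueField (Z.hom.base z) ≫ s) :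
    EtRam.IsTamelyRamified A ((Z.hom.residueFieldMap z).hom.comp A.subtype) := by
  classical
  haveI : Finite (Aut Z) := Nat.finite_of_card_ne_zero fun h => hn (by rw [h, Nat.cast_zero])
  obtain ⟨-, hgal⟩ := hZ
  haveI : IsFinite Z.hom := Z.prop.1
  haveI : Etale Z.hom := Z.prop.2
  let F := X.residueField (Z.hom.base z)
  let E := Z.left.residueField z
  letI : Algebra F E := (Z.hom.residueFieldMap z).hom.toAlgebra
  let f₀ : Z.left ⟶ X := Z.hom
  haveI : Etale f₀ := Z.prop.2
  haveI : Algebra.IsSeparable F E := by exact (inferInstance : letI : Algebra (X.residueField (f₀.base z)) (Z.left.residueField z) := (f₀.residueFieldMap z).hom.toAlgebra; Algebra.IsSeparable (X.residueField (f₀.base z)) (Z.left.residueField z))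
  haveI : Algebra.EssFiniteType F E := RingHom.essFiniteType_algebraMap.mp (NagataNorm.residueFieldMap_essFiniteType Z.hom z)
  haveI : FiniteDimensional F E := Algebra.finite_of_essFiniteType_of_isAlgebraic
  set ι := Z.left.fromSpecResidueField z with hι
  have hιf : ι ≫ Z.hom = Spec.map (Z.hom.residueFieldMap z) ≫ X.fromSpecResidueField (Z.hom.base z) :=
    (Scheme.Hom.SpecMap_residueFieldMap_fromSpecResidueField Z.hom z).symm
  have huniq : ∀ {C : CommRingCat.{u}} (f g : E ⟶ C), Spec.map f ≫ ι = Spec.map g ≫ ι → f = g := fun f g h =>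
    Spec.map_injective ((cancel_mono ι).mp h)
  let R : Aut Z → (E →ₐ[F] E) → Prop := fun g τ => ι ≫ g.hom.left = Spec.map (CommRingCat.ofHom τ.toRingHom) ≫ ι
  have hRuniq : ∀ g τ τ', R g τ → R g τ' → τ = τ' := fun g τ τ' h h' =>
    AlgHom.coe_ringHom_injective (congrArg CommRingCat.Hom.hom (huniq _ _ (h.symm.trans h')))
  have hRone : R 1 (AlgHom.id F E) := by
    show ι ≫ 𝟙 _ = Spec.map (𝟙 E) ≫ ι
    rw [Spec.map_id, Category.id_comp, Category.comp_id]
  have hRmul : ∀ g h τ τ', R g τ → R h τ' → R (g * h) (τ'.comp τ) := fun g h τ τ' hg hh => by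
    show ι ≫ (h.hom ≫ g.hom).left = Spec.map (CommRingCat.ofHom τ.toRingHom ≫ CommRingCat.ofHom τ'.toRingHom) ≫ ι
    show ι ≫ h.hom.left ≫ g.hom.left = _
    rw [reassoc_of% (hh : ι ≫ h.hom.left = _), (hg : ι ≫ g.hom.left = _), Spec.map_comp, Category.assoc]
  let H : Submonoid (Aut Z) :=
    { carrier := {g | ∃ τ, R g τ}
      one_mem' := ⟨_, hRone⟩
      mul_mem' := fun ⟨τ, hτ⟩ ⟨τ', hτ'⟩ => ⟨_, hRmul _ _ τ τ' hτ hτ'⟩ }
  let Hg : Subgroup (Aut Z) :=
    { H with
      inv_mem' := fun {g} hg => by
        have h1 : g⁻¹ = g ^ (orderOf g - 1) := by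
          refine inv_eq_of_mul_eq_one_right ?_
          rw [← pow_succ', Nat.sub_add_cancel (orderOf_pos g), pow_orderOf_eq_one]
        rw [h1]
        exact H.pow_mem hg _ }
  choose τ hτ using fun g : Hg => (g.2 : ∃ τ, R g.1 τ)
  let σ : Hg → (E ≃ₐ[F] E) := fun g => AlgEquiv.ofBijective (τ g⁻¹) (τ g⁻¹).bijective
  have hσ : ∀ g h, σ (g * h) = σ g * σ h := fun g h => AlgEquiv.ext fun x => by
    show τ (g * h)⁻¹ x = τ g⁻¹ (τ h⁻¹ x)
    have e := hRuniq _ _ _ (hτ (g * h)⁻¹) (by
      rw [show ((g * h)⁻¹ : Hg).1 = (h⁻¹ : Hg).1 * (g⁻¹ : Hg).1 from mul_inv_rev g.1 h.1]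
      exact hRmul _ _ _ _ (hτ h⁻¹) (hτ g⁻¹))
    rw [e]; rfl
  let Φ : Hg →* (E ≃ₐ[F] E) := MonoidHom.mk' σ hσ
  -- every embedding comes from a deck transformation fixing `z`
  let Ω := AlgebraicClosure E
  let e : E →ₐ[F] Ω := IsScalarTower.toAlgHom F E Ω
  have hemb : ∀ f : E →ₐ[F] Ω, ∃ g : Hg, e.comp (Φ g).toAlgHom = f := by
    intro f
    let ξ : Spec (CommRingCat.of Ω) ⟶ X := Spec.map (CommRingCat.ofHom (algebraMap F Ω)) ≫ X.fromSpecResidueField (Z.hom.base z)
    have hpt : ∀ φ : E →ₐ[F] Ω, (Spec.map (CommRingCat.ofHom φ.toRingHom) ≫ ι) ≫ Z.hom = ξ := fun φ => by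
      rw [Category.assoc, hιf, ← Category.assoc, ← Spec.map_comp]
      congr 2
      ext x
      exact φ.commutes x
    obtain ⟨g, hg⟩ := hgal Ω ξ ⟨_, hpt e⟩ ⟨_, hpt f⟩
    have hg' : (Spec.map (CommRingCat.ofHom e.toRingHom) ≫ ι) ≫ g.hom.left = Spec.map (CommRingCat.ofHom f.toRingHom) ≫ ι :=
      congrArg Subtype.val hg
    have hgz : g.hom.left.base z = z := by
      have h := congrArg (fun φ : Spec (CommRingCat.of Ω) ⟶ Z.left => φ.base (IsLocalRing.closedPoint Ω)) hg'
      simp only [Scheme.Hom.comp_base, TopCat.comp_app] at h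
      erw [Scheme.fromSpecResidueField_apply, Scheme.fromSpecResidueField_apply] at h
      exact h
    obtain ⟨ρ, hρ⟩ : ∃ ρ : E ⟶ E, ι ≫ g.hom.left = Spec.map ρ ≫ ι := by
      refine ⟨(Z.left.residueFieldCongr hgz.symm).hom ≫ g.hom.left.residueFieldMap z, ?_⟩
      rw [Spec.map_comp, Category.assoc, Scheme.residueFieldCongr_fromSpecResidueField, Scheme.Hom.SpecMap_residueFieldMap_fromSpecResidueField]
    have hρF : Z.hom.residueFieldMap z ≫ ρ = Z.hom.residueFieldMap z := by
      refine Spec.map_injective ((cancel_mono (X.fromSpecResidueField (Z.hom.base z))).mp ?_)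
      rw [Spec.map_comp, Category.assoc, ← hιf, ← Category.assoc, ← hρ, Category.assoc, MorphismProperty.Over.w]
    let ρA : E →ₐ[F] E := { ρ.hom with commutes' := fun x => ConcreteCategory.congr_hom hρF x }
    have hgH : g ∈ Hg := ⟨ρA, hρ⟩
    have hf : e.comp ρA = f := by
      refine AlgHom.coe_ringHom_injective (congrArg CommRingCat.Hom.hom (huniq (C := CommRingCat.of Ω) (ρ ≫ CommRingCat.ofHom e.toRingHom) (CommRingCat.ofHom f.toRingHom) ?_))
      rw [Spec.map_comp, Category.assoc, ← hρ]
      exact (Category.assoc _ _ _).symm.trans hg'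
    refine ⟨⟨g, hgH⟩⁻¹, ?_⟩
    rw [← hf]
    congr 1
    show τ (⟨g, hgH⟩⁻¹)⁻¹ = ρA
    rw [inv_inv]
    exact hRuniq _ _ _ (hτ ⟨g, hgH⟩) hρ
  have hcard : Nat.card (E ≃ₐ[F] E) = Module.finrank F E := by
    rw [← Field.finSepDegree_eq_finrank_of_isSeparable F E]
    show _ = Nat.card (Field.Emb F E)
    refine Nat.card_eq_of_bijective (fun s => e.comp s.toAlgHom) ⟨fun s t h => AlgEquiv.ext fun x => e.toRingHom.injective (DFunLike.congr_fun h x), fun f => ?_⟩
    obtain ⟨g, hg⟩ := hemb f
    exact ⟨Φ g, hg⟩
  haveI : IsGalois F E := IsGalois.of_card_aut_eq_finrank F E hcard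
  have hsurj : Function.Surjective Φ := fun s => by
    obtain ⟨g, hg⟩ := hemb (e.comp s.toAlgHom)
    exact ⟨g, AlgEquiv.ext fun x => e.toRingHom.injective (DFunLike.congr_fun hg x)⟩
  have hdvd : Module.finrank F E ∣ Nat.card (Aut Z) :=
    hcard ▸ (Subgroup.card_dvd_of_surjective Φ hsurj).trans Hg.card_subgroup_dvd_card
  refine tame_of_galois (F := F) (E := E) A fun p hp hc hpd => hn ?_
  obtain ⟨c, hc'⟩ := hpd.trans hdvd
  let χ : k →+* ResidueField A := (residue A).comp (Spec.preimage a).hom
  refine χ.injective ?_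
  rw [map_natCast, map_zero, hc', Nat.cast_mul, CharP.cast_eq_zero, zero_mul]

end Groth.Agent.S18597
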