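import Groth.Statements.S1861
import Groth.Agent.FlatEquidim.Scheme
import Groth.Agent.DimTheory.Scheme

set_option autoImplicit false
universe u
open CategoryTheory AlgebraicGeometry
open Cyc

namespace Groth.Agent.S1861

/-- Let f : X → Y be flat, locally of finite type, of relative dimension r, y a point of Y and x a point
of X that is generic in an irreducible component of f⁻¹ of the closure of y (that is, x lies in that
closed set and has no proper generalization in it). Then f(x) = y and δX(x) = δY(y) + r. Here a pair
(X, δ) with Cyc.IsSetup plays the role of a scheme locally of finite type over a fixed base with a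
dimension function (X locally Noetherian with universally catenary local rings, δ a dimension
function), and Cyc.DeltaCompat records that the dimension function upstairs is the induced one. -/
theorem result (X Y : Scheme.{u}) (δX : X → ℤ) (δY : Y → ℤ) (hX : Cyc.IsSetup X δX) (hY : Cyc.IsSetup Y δY) (f : X ⟶ Y) [Flat f] [LocallyOfFiniteType f] (r : ℕ) (hr : Cyc.HasRelDim f r) (hδ : Cyc.DeltaCompat f δX δY) (y : Y) (x : X) (hx : f x ∈ closure ({y} : Set Y)) (hmax : ∀ x' : X, f x' ∈ closure ({y} : Set Y) → x' ⤳ x → x' = x) : f x = y ∧ δX x = δY y + r := by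
  have hfx : f x = y := by
    obtain ⟨x', hx', hfx'⟩ := Flat.generalizingMap f (show y ⤳ f x from specializes_iff_mem_closure.2 hx)
    have h := hmax x' (by rw [hfx']; exact subset_closure rfl) hx'
    rw [← h]; exact hfx'
  refine ⟨hfx, ?_⟩
  have : LocallyOfFiniteType (f.fiberToSpecResidueField (f x)) := MorphismProperty.pullback_snd _ _ ‹_›
  have hm : ∀ w : f.fiber (f x), w ⤳ f.asFiber x → w = f.asFiber x := fun w hw => by
    refine (f.fiberι (f x)).isEmbedding.injective ?_
    rw [f.fiberι_asFiber]
    refine hmax _ ?_ ?_
    · rw [FlatEquidim.fiberι_apply_eq, hfx]; exact subset_closure rfl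
    · have h := hw.map (f.fiberι (f x)).continuous
      rwa [f.fiberι_asFiber] at h
  have hT : closure {f.asFiber x} ∈ irreducibleComponents ↥(f.fiber (f x)) := by
    refine ⟨isIrreducible_singleton.closure, fun Z hZ hle => ?_⟩
    have hsp : hZ.genericPoint ⤳ f.asFiber x :=
      specializes_iff_mem_closure.2 (by
        rw [hZ.genericPoint_closure_eq]; exact subset_closure (hle (subset_closure rfl)))
    rw [← hm _ hsp, hZ.genericPoint_closure_eq]
    exact subset_closure
  have hd := hr (f x) _ hT
  rw [DimTheory.topologicalKrullDim_closure] at hd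
  obtain ⟨n, hn, hn'⟩ := DimTheory.exists_height_eq (k := Y.residueField (f x)) (f.fiberToSpecResidueField (f x)) (f.asFiber x)
  rw [hn'] at hd
  obtain rfl : n = r := by exact_mod_cast hd
  rw [FlatEquidim.resTrdeg_fiber_eq, f.fiberι_asFiber] at hn
  obtain ⟨m, hm1, hm2⟩ := hδ x
  have hmn : m = n := Nat.cast_injective (R := Cardinal.{u}) (hm1.symm.trans hn)
  subst hmn
  rw [hm2, hfx]

end Groth.Agent.S1861
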