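import Groth.Statements.S18614
import Groth.Agent.LinTopLib.Basic
import Mathlib.LinearAlgebra.Dual.Lemmas

set_option autoImplicit false
universe u v
open LinTop

namespace Groth.Agent.S18614

/-- Let k be a field carrying the discrete topology and M a separated topological k-module with a
k-linear topology (the open k-submodules form a basis of neighbourhoods of zero and M is a
topological additive group). For a closed submodule M₁, the perpendicular of the perpendicular of
M₁, both taken with respect to the pairing of M with its continuous dual (the continuous k-linear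
maps M → k), is M₁ itself: an element killed by every continuous functional vanishing on M₁ belongs
to M₁. -/
theorem result (k : Type u) (M : Type v) [Field k]
    [TopologicalSpace k] [DiscreteTopology k] [AddCommGroup M] [Module k M] [TopologicalSpace M]
    [IsTopologicalAddGroup M] [IsLinearTopology k M] [T2Space M]
    (M₁ : Submodule k M) (hM₁ : IsClosed (M₁ : Set M)) (x : M)
    (hx : ∀ φ : M →L[k] k, (∀ m ∈ M₁, φ m = 0) → φ x = 0) : x ∈ M₁ := by
  by_contra hxM
  have hx' : x ∉ closure (M₁ : Set M) := by rwa [hM₁.closure_eq]
  rw [Groth.Agent.LinTopLib.mem_closure_iff_of_hasBasis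
    (IsLinearTopology.hasBasis_open_submodule k) M₁] at hx'
  push Not at hx'
  obtain ⟨U, hU, hxU⟩ := hx'
  obtain ⟨f, hf, hfU⟩ := (M₁ ⊔ U).exists_dual_map_eq_bot_of_notMem hxU inferInstance
  have hker : ∀ m ∈ M₁ ⊔ U, f m = 0 := fun m hm =>
    (Submodule.mem_bot k).mp (hfU ▸ Submodule.mem_map_of_mem hm)
  have hc : Continuous f := by
    refine continuous_of_continuousAt_zero f ?_
    rw [ContinuousAt, map_zero, nhds_discrete k, Filter.tendsto_pure]
    exact Filter.mem_of_superset (hU.mem_nhds U.zero_mem) fun m hm => hker m (Submodule.mem_sup_right hm)
  exact hf (hx ⟨f, hc⟩ fun m hm => hker m (Submodule.mem_sup_left hm))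

end Groth.Agent.S18614
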