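import Groth.Statements.S18615
import Groth.Agent.LinTopLib.Basic
import Mathlib.LinearAlgebra.Dual.Lemmas

set_option autoImplicit false
universe u v
open LinTop

namespace Groth.Agent.S18615

/-- Let k be a field carrying the discrete topology and M a separated topological k-module with a
k-linear topology (open k-submodules form a basis of neighbourhoods of zero, M a topological
additive group). For closed submodules M₁ ⊆ M₂ there is a short exact sequence 0 → M₂^⊥ → M₁^⊥ →
(M₂/M₁)^* → 0 of plain k-modules, where ⊥ denotes the annihilator in the continuous dual of M and *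
the continuous dual. Stated here as its one non-formal part, surjectivity on the right: every
continuous functional on M₂ (subspace topology) that vanishes on M₁ is the restriction of a
continuous functional on M vanishing on M₁ (continuous functionals on M₂/M₁ being the continuous
functionals on M₂ that kill M₁). -/
theorem result (k : Type u) (M : Type v) [Field k]
    [TopologicalSpace k] [DiscreteTopology k] [AddCommGroup M] [Module k M] [TopologicalSpace M]
    [IsTopologicalAddGroup M] [IsLinearTopology k M] [T2Space M]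
    (M₁ M₂ : Submodule k M) (h₁₂ : M₁ ≤ M₂) (hM₁ : IsClosed (M₁ : Set M))
    (hM₂ : IsClosed (M₂ : Set M)) (ψ : M₂ →L[k] k)
    (hψ : ∀ m : M₂, (m : M) ∈ M₁ → ψ m = 0) :
    ∃ φ : M →L[k] k, (∀ m ∈ M₁, φ m = 0) ∧ ∀ m : M₂, φ (m : M) = ψ m := by
  obtain ⟨V, hV, hVψ⟩ : ∃ V : Submodule k M, IsOpen (V : Set M) ∧
      ∀ m : M₂, (m : M) ∈ V → ψ m = 0 := by
    have h0 : ψ ⁻¹' {0} ∈ nhds (0 : M₂) :=
      ψ.continuous.tendsto' 0 0 (map_zero ψ) ((isOpen_discrete ({0} : Set k)).mem_nhds rfl)
    rw [nhds_subtype_eq_comap, Filter.mem_comap] at h0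
    obtain ⟨t, ht, hts⟩ := h0
    obtain ⟨V, hV, hVt⟩ := (IsLinearTopology.hasBasis_open_submodule k).mem_iff.mp ht
    exact ⟨V, hV, fun m hm => hts (hVt hm)⟩
  let q : M₂ →ₗ[k] M ⧸ (M₁ ⊔ V) := (M₁ ⊔ V).mkQ.comp M₂.subtype
  have hq : LinearMap.ker q ≤ LinearMap.ker (ψ : M₂ →ₗ[k] k) := fun m hm => by
    obtain ⟨a, ha, b, hb, hab⟩ := Submodule.mem_sup.mp ((Submodule.Quotient.mk_eq_zero _).mp hm)
    have hb2 : b ∈ M₂ := by
      rw [eq_sub_of_add_eq' hab]
      exact sub_mem m.2 (h₁₂ ha)
    have hm' : m = ⟨a, h₁₂ ha⟩ + ⟨b, hb2⟩ := Subtype.ext hab.symm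
    rw [LinearMap.mem_ker, hm', map_add]
    exact (congrArg₂ (· + ·) (hψ _ ha) (hVψ _ hb)).trans (add_zero 0)
  obtain ⟨g, hg⟩ := LinearMap.exists_extend
    (((LinearMap.ker q).liftQ (ψ : M₂ →ₗ[k] k) hq).comp q.quotKerEquivRange.symm.toLinearMap)
  let f : M →ₗ[k] k := g.comp (M₁ ⊔ V).mkQ
  have hker : ∀ m ∈ M₁ ⊔ V, f m = 0 := fun m hm => by
    change g ((M₁ ⊔ V).mkQ m) = 0
    rw [show (M₁ ⊔ V).mkQ m = 0 from (Submodule.Quotient.mk_eq_zero _).mpr hm, map_zero]
  have hc : Continuous f := by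
    refine continuous_of_continuousAt_zero f ?_
    rw [ContinuousAt, map_zero, nhds_discrete k, Filter.tendsto_pure]
    exact Filter.mem_of_superset (hV.mem_nhds V.zero_mem) fun m hm => hker m (Submodule.mem_sup_right hm)
  refine ⟨⟨f, hc⟩, fun m hm => hker m (Submodule.mem_sup_left hm), fun m => ?_⟩
  change g (q m) = ψ m
  refine (DFunLike.congr_fun hg (⟨q m, m, rfl⟩ : LinearMap.range q)).trans ?_
  simp only [LinearMap.comp_apply, LinearEquiv.coe_toLinearMap]
  rw [show q.quotKerEquivRange.symm (⟨q m, m, rfl⟩ : LinearMap.range q) = Submodule.Quotient.mk m from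
    q.quotKerEquivRange.symm_apply_eq.mpr (Subtype.ext (q.quotKerEquivRange_apply_mk m).symm)]
  rfl

end Groth.Agent.S18615
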