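import Groth.Statements.S18617
import Groth.Prelude.Def_LocRes

set_option autoImplicit false
universe u
open LocRes

namespace Groth.Agent.S18617

/-- The published statement is that, for a complete separated linearly topologized commutative algebra K
over a field of characteristic zero, the separated de Rham complex of K tensored with the exterior
algebra on symbols α_1, ..., α_n maps quasi-isomorphically to the separated de Rham complex of the
iterated Laurent series ring K((t_1, ..., t_n)), α_i going to dlog t_i; this row is the case K = k
and n = 1, unpacked: over a field k of characteristic 0, a formal Laurent series f in k((t)) has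
term-by-term derivative zero if and only if it is the constant series on its coefficient of degree
0, and a Laurent series g is the derivative of some Laurent series if and only if its residue (the
coefficient of t⁻¹) vanishes; so H⁰ of the complex k((t)) → k((t)) dt is k and H¹ is the line
spanned by the class of dt/t, on which the residue is 1. -/
theorem result (k : Type u) [Field k] [CharZero k] :
    (∀ f : LaurentSeries k, LocRes.D k f = 0 ↔ f = HahnSeries.C (f.coeff 0)) ∧
      ∀ g : LaurentSeries k, (∃ f : LaurentSeries k, LocRes.D k f = g) ↔ LocRes.res k g = 0 := by
  constructor
  · intro f
    constructor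
    · intro h
      ext i
      rcases eq_or_ne i 0 with rfl | hi
      · simp
      · have h1 := congrArg (fun s : LaurentSeries k => s.coeff (i - 1)) h
        simp only [LocRes.D_coeff, HahnSeries.coeff_zero, sub_add_cancel, zsmul_eq_mul, mul_eq_zero, Int.cast_eq_zero, hi,
          false_or] at h1
        rw [HahnSeries.C_apply, HahnSeries.coeff_single_of_ne hi, h1]
    · intro h
      rw [h, LocRes.D_apply, LocRes.derivative_C]
  · intro g
    constructor
    · rintro ⟨f, rfl⟩
      rw [LocRes.res_apply, LocRes.D_coeff, neg_add_cancel, zero_smul]
    · intro h
      refine ⟨{ coeff := fun i => g.coeff (i - 1) / (i : k), isPWO_support' := ?_ }, ?_⟩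
      · refine Set.IsPWO.mono (g.isPWO_support.image_of_monotone (f := fun i : ℤ => i + 1) (fun a b hab => add_le_add_left hab 1 |>.trans_eq rfl)) ?_
        intro i hi
        refine ⟨i - 1, ?_, sub_add_cancel i 1⟩
        simp only [HahnSeries.mem_support, Function.mem_support, ne_eq] at hi ⊢
        exact fun h0 => hi (by rw [h0, zero_div])
      · ext i
        rw [LocRes.D_coeff]
        simp only [add_sub_cancel_right, zsmul_eq_mul]
        rcases eq_or_ne i (-1) with rfl | hi
        · simp only [LocRes.res_apply] at h
          simp [h]
        · rw [mul_div_cancel₀ _ (Int.cast_ne_zero.2 (by omega))]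

end Groth.Agent.S18617
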