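import Groth.Statements.S1862
import Groth.Agent.FlatOverBC.NoethFibre
import Mathlib.RingTheory.AlgebraicIndependent.Transcendental
import Mathlib.FieldTheory.IntermediateField.Adjoin.Algebra

set_option autoImplicit false
universe u
open CategoryTheory AlgebraicGeometry
open Cyc

namespace Groth.Agent.S1862

/-- Let f : X → Y be a morphism locally of finite type of integral schemes with δX(η_X) = δY(η_Y). Then
either the image of f is not dense, or f maps the generic point to the generic point and the induced
extension of residue fields there (the function fields) is finite. Here a pair (X, δ) with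
Cyc.IsSetup plays the role of a scheme locally of finite type over a fixed base with a dimension
function (X locally Noetherian with universally catenary local rings, δ a dimension function), and
Cyc.DeltaCompat records that the dimension function upstairs is the induced one. -/
theorem result (X Y : Scheme.{u}) [IsIntegral X] [IsIntegral Y] (δX : X → ℤ) (δY : Y → ℤ) (hX : Cyc.IsSetup X δX) (hY : Cyc.IsSetup Y δY) (f : X ⟶ Y) [LocallyOfFiniteType f] (hδ : Cyc.DeltaCompat f δX δY) (heq : δX (genericPoint X) = δY (genericPoint Y)) : ¬ Dense (Set.range f) ∨ (f (genericPoint X) = genericPoint Y ∧ (f.residueFieldMap (genericPoint X)).hom.Finite) := by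
  by_cases hd : Dense (Set.range f)
  · right
    have hgen : f (genericPoint X) = genericPoint Y := by
      refine (genericPoint_spec Y).eq ?_ |>.symm
      refine Set.eq_univ_of_univ_subset ?_
      rw [← hd.closure_eq]
      refine closure_minimal (fun y ⟨x, hxy⟩ => ?_) isClosed_closure
      rw [← hxy]
      have hx : x ∈ closure ({genericPoint X} : Set X) := by rw [genericPoint_closure]; trivial
      have := image_closure_subset_closure_image f.continuous ⟨x, hx, rfl⟩
      rwa [Set.image_singleton] at this
    refine ⟨hgen, ?_⟩
    letI := (f.residueFieldMap (genericPoint X)).hom.toAlgebra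
    obtain ⟨n, hn, he⟩ := hδ (genericPoint X)
    have hn0 : n = 0 := by rw [heq, hgen] at he; omega
    rw [hn0, Nat.cast_zero, trdeg_eq_zero_iff] at hn
    haveI := hn
    haveI : Algebra.EssFiniteType (Y.residueField (f (genericPoint X))) (X.residueField (genericPoint X)) :=
      RingHom.essFiniteType_algebraMap.1
        (Groth.Agent.FlatOverBC.essFiniteType_residueFieldMap f (genericPoint X))
    exact (Algebra.finite_of_essFiniteType_of_isAlgebraic :
      Module.Finite (Y.residueField (f (genericPoint X))) (X.residueField (genericPoint X)))
  · exact Or.inl hd


end Groth.Agent.S1862
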