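import Groth.Statements.S1863
import Groth.Agent.CycLib.DivFun

set_option autoImplicit false
universe u
open CategoryTheory AlgebraicGeometry
open Cyc

namespace Groth.Agent.S1863

/-- Let U ⊆ X be open and α, β k-cycles on X whose restrictions to U are rationally equivalent on U (for
the restricted dimension function). Then there is a k-cycle γ on X vanishing on U with α rationally
equivalent to β + γ. Here a pair (X, δ) with Cyc.IsSetup plays the role of a scheme locally of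
finite type over a fixed base with a dimension function (X locally Noetherian with universally
catenary local rings, δ a dimension function). -/
theorem result (X : Scheme.{u}) (δ : X → ℤ) (hX : Cyc.IsSetup X δ) (U : X.Opens) (k : ℤ) (α β : AlgebraicCycle X ℤ) (hα : α ∈ Cyc.Zk X δ k) (hβ : β ∈ Cyc.Zk X δ k) (αU βU : AlgebraicCycle (↑U : Scheme.{u}) ℤ) (hαU : ∀ u : ↥U, αU u = α (U.ι u)) (hβU : ∀ u : ↥U, βU u = β (U.ι u)) (h : Cyc.RatEquiv (fun u : ↥U => δ (U.ι u)) k αU βU) : ∃ γ : AlgebraicCycle X ℤ, γ ∈ Cyc.Zk X δ k ∧ (∀ x : X, x ∈ U → γ x = 0) ∧ Cyc.RatEquiv δ k α (β + γ) := by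
  obtain ⟨ι, ξ, f, hξ, hf, hfin, hsum⟩ := h
  obtain ⟨hN, -, hdim⟩ := hX
  haveI := hN
  let g : (i : ι) → X.residueField (U.ι (ξ i)) := fun i =>
    (asIso (U.ι.residueFieldMap (ξ i))).commRingCatIsoToRingEquiv.symm (f i)
  have hg : ∀ i, U.ι.residueFieldMap (ξ i) (g i) = f i := fun i =>
    (asIso (U.ι.residueFieldMap (ξ i))).commRingCatIsoToRingEquiv.apply_symm_apply (f i)
  let D : X → ℤ := fun x => ∑ᶠ i, Cyc.divFun δ (U.ι (ξ i)) (g i) x
  have hD0 : ∀ i x, Cyc.divFun δ (U.ι (ξ i)) (g i) x ≠ 0 → U.ι (ξ i) ⤳ x ∧ δ x = k := fun i x hx => by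
    unfold Cyc.divFun at hx
    split_ifs at hx with h'
    · exact ⟨h'.1, by linarith [h'.2, hξ i]⟩
    · exact absurd rfl hx
  have hfinW : ∀ V : X.Opens, IsAffineOpen V → {i | U.ι (ξ i) ∈ V}.Finite := fun V hV => by
    haveI : TopologicalSpace.NoetherianSpace (V : Set X) := Groth.Agent.VarLib.noetherianSpace_of_isAffineOpen hV
    choose O hO hOmem hOfin using hfin
    let T : Set (V : Set X) := Subtype.val ⁻¹' (U : Set X)
    have hT : IsCompact T := TopologicalSpace.NoetherianSpace.isCompact T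
    obtain ⟨t, ht⟩ := hT.elim_finite_subcover (fun u : (U : Scheme.{u}) => Subtype.val ⁻¹' (U.ι '' O u))
      (fun u => (U.ι.isOpenEmbedding.isOpenMap _ (hO u)).preimage continuous_subtype_val) (fun v hv => by
        exact Set.mem_iUnion.2 ⟨⟨v.1, hv⟩, ⟨v.1, hv⟩, hOmem _, rfl⟩)
    refine (t.finite_toSet.biUnion fun u _ => hOfin u).subset fun i hi => ?_
    obtain ⟨u, hu, hmem⟩ := Set.mem_iUnion₂.1 (ht (show (⟨_, hi⟩ : (V : Set X)) ∈ T from (ξ i).2))
    obtain ⟨w, hw, hwe⟩ := hmem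
    refine Set.mem_biUnion hu ⟨ξ i, subset_closure rfl, ?_⟩
    rw [← U.ι.isOpenEmbedding.injective hwe]
    exact hw
  have hmemV : ∀ (V : X.Opens) i x, x ∈ V → Cyc.divFun δ (U.ι (ξ i)) (g i) x ≠ 0 → U.ι (ξ i) ∈ V :=
    fun V i x hxV hx => (hD0 i x hx).1.mem_open V.2 hxV
  have hDfin : ∀ z : X, ∃ t ∈ nhds z, Set.Finite (t ∩ D.support) := fun z => by
    obtain ⟨V, hV, hzV, -⟩ := AlgebraicGeometry.exists_isAffineOpen_mem_and_subset (U := ⊤) (x := z) trivial
    refine ⟨(V : Set X), V.2.mem_nhds hzV, ?_⟩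
    refine ((hfinW V hV).biUnion fun i _ => Groth.Agent.CycLib.finite_divFun hdim (U.ι (ξ i)) (g i) hV).subset ?_
    rintro x ⟨hxV, hx⟩
    obtain ⟨i, hi⟩ := not_forall.1 fun h => hx (finsum_eq_zero_of_forall_eq_zero h)
    exact Set.mem_biUnion (hmemV V i x hxV hi) ⟨hxV, hi⟩
  let Dc : AlgebraicCycle X ℤ := ⟨D, fun _ _ => trivial, fun z _ => hDfin z⟩
  have hDk : ∀ x, δ x ≠ k → D x = 0 := fun x hx => by
    refine finsum_eq_zero_of_forall_eq_zero fun i => ?_
    by_contra hne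
    exact hx (hD0 i x hne).2
  refine ⟨α - β - Dc, fun x hx => ?_, fun x hx => ?_, ι, fun i => U.ι (ξ i), g, hξ, fun i => ?_, fun x => ?_, fun x => ?_⟩
  · simp only [Function.locallyFinsuppWithin.coe_sub, Pi.sub_apply, hα x hx, hβ x hx, sub_self, zero_sub, neg_eq_zero]
    exact hDk x hx
  · have h1 : αU ⟨x, hx⟩ - βU ⟨x, hx⟩ = ∑ᶠ i, Cyc.divFun (fun u : ↥U => δ (U.ι u)) (ξ i) (f i) ⟨x, hx⟩ := by
      simpa using hsum ⟨x, hx⟩
    rw [hαU, hβU] at h1
    have h2 : D x = α x - β x := by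
      refine Eq.trans ?_ h1.symm
      refine finsum_congr fun i => ?_
      rw [← hg i]
      exact (Groth.Agent.CycLib.divFun_of_isOpenImmersion U.ι δ ⟨x, hx⟩ (ξ i) (g i)).symm
    show α x - β x - D x = 0
    rw [h2, sub_self]
  · exact fun e => hf i (by rw [← hg i, e, map_zero])
  · obtain ⟨V, hV, hzV, -⟩ := AlgebraicGeometry.exists_isAffineOpen_mem_and_subset (U := ⊤) (x := x) trivial
    refine ⟨(V : Set X), V.2, hzV, (hfinW V hV).subset ?_⟩
    rintro i ⟨w, hw, hwV⟩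
    exact (specializes_iff_mem_closure.2 hw).mem_open V.2 hwV
  · show α x - (β x + (α x - β x - D x)) = D x
    ring

end Groth.Agent.S1863
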