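import Groth.Statements.S1864
import Groth.Agent.GrpSch.ProfinitePts

set_option autoImplicit false
universe u v
open CategoryTheory MonoidalCategory CartesianMonoidalCategory MonObj GrpObj AlgebraicGeometry
open GrpSch

namespace Groth.Agent.S1864

/-- Let G be a group scheme locally of finite type over an algebraically closed field and g₁, …, g_n
finitely many closed points of G. Then some affine open of G contains all the g_i. -/
theorem result (K : Type u) [Field K] [IsAlgClosed K] (G : Over (Spec (CommRingCat.of K))) [GrpObj G] [LocallyOfFiniteType G.hom] (n : ℕ) (g : Fin n → G.left) (hg : ∀ i, IsClosed ({g i} : Set G.left)) : ∃ U : G.left.Opens, IsAffineOpen U ∧ ∀ i, g i ∈ U := by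
  classical
  open Groth.Agent.GrpSch Groth.Agent.GrpSch.Saturation Groth.Agent.GrpSch.ProfinitePts in
  choose p hp using fun i => exists_ratPoint G (hg i)
  have haff : ∀ i, ∃ U : G.left.Opens, IsAffineOpen U ∧ g i ∈ U := fun i => by
    obtain ⟨_, ⟨W, hW, rfl⟩, hxW, -⟩ :=
      G.left.isBasis_affineOpens.exists_subset_of_mem_open (Set.mem_univ (g i)) isOpen_univ
    exact ⟨W, hW, hxW⟩
  choose U hU hgU using haff
  obtain ⟨V, hV, hVs⟩ := Groth.Agent.GrpSch.Saturation.exists_affine_sat G Finset.univ U
    (fun i _ => hU i)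
  open Groth.Agent.GrpSch Groth.Agent.GrpSch.ProfinitePts in
  let W : Set G.left := ⋂ i, (rightTranslate (p i)).hom.left ⁻¹' (V : Set G.left)
  have hW : IsOpen W := isOpen_iInter_of_finite fun i => V.2.preimage (Scheme.Hom.continuous _)
  have hne : W.Nonempty :=
    ⟨_, Set.mem_iInter.2 fun i => Groth.Agent.GrpSch.ProfinitePts.rightTranslate_gen_mem (p i) V.2
      (by rw [hp i]; exact hVs i (Finset.mem_univ i) (hgU i))⟩
  obtain ⟨y, hy⟩ := Groth.Agent.GrpSch.exists_ratPoint_mem G hW hne
  have : IsIso (Groth.Agent.GrpSch.translate y).hom.left :=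
    inferInstanceAs (IsIso ((Over.forget _).map (Groth.Agent.GrpSch.translate y).hom))
  refine ⟨(Groth.Agent.GrpSch.translate y).hom.left ⁻¹ᵁ V, hV.preimage_of_isIso _, fun i => ?_⟩
  have h := Set.mem_iInter.1 hy i
  have e : y ≫ (Groth.Agent.GrpSch.ProfinitePts.rightTranslate (p i)).hom
      = p i ≫ (Groth.Agent.GrpSch.translate y).hom := by
    rw [Groth.Agent.GrpSch.comp_translate, Groth.Agent.GrpSch.ProfinitePts.rightTranslate,
      MonObj.comp_mul, Category.comp_id, comp_toUnit_assoc,
      toUnit_unique (toUnit (𝟙_ _)) (𝟙 _), Category.id_comp, Category.id_comp]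
  change (Groth.Agent.GrpSch.translate y).hom.left (g i) ∈ V
  rw [← hp i, ← Groth.Agent.GrpSch.comp_left_apply, ← e]
  exact h

end Groth.Agent.S1864
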