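import Groth.Statements.S18653
import Mathlib
import Groth.Agent.DimTheory.Algebra

set_option autoImplicit false
universe u
open GrLC

namespace Groth.Agent.S18653

/-- Let R be a graded ring defined over an algebraically closed field k which is an integral domain of
dimension one. Then R is isomorphic to a semigroup ring (the subring of k[T] spanned by the
monomials T^h, h in an additive submonoid H of ℕ); moreover, if R is generated over k by R_1, then R
is a polynomial ring k[T]. Here a graded ring defined over k is a commutative k-algebra of finite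
type graded in nonnegative degrees by k-subspaces with degree-zero part k·1; the isomorphisms
asserted are ring isomorphisms. -/
theorem result (k : Type u) [Field k] [IsAlgClosed k] (R : Type u) [CommRing R] [IsDomain R] [Algebra k R] (𝒜 : ℤ → Submodule k R) [GradedAlgebra 𝒜] (hpos : ∀ n : ℤ, n < 0 → 𝒜 n = ⊥) (h0 : 𝒜 0 = Submodule.span k {(1 : R)}) [Algebra.FiniteType k R] (h1 : ringKrullDim R = 1) : (∃ H : AddSubmonoid ℕ, Nonempty (R ≃+* AddMonoidAlgebra k H)) ∧ (Ideal.span (⋃ n ∈ Set.Ioi (0 : ℤ), (𝒜 n : Set R)) = Ideal.span ((𝒜 1 : Submodule k R) : Set R) → Nonempty (R ≃+* Polynomial k)) := by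
  classical
  let K := FractionRing R
  obtain ⟨n₁, hn₁, htr⟩ := DimTheory.exists_trdeg_eq k R
  have hn₁' : n₁ = 1 := by rw [h1] at hn₁; exact_mod_cast hn₁.symm
  subst hn₁'
  -- two elements of the same positive degree are proportional
  have hprop : ∀ (N : ℤ) (y z : R), 0 < N → y ∈ 𝒜 N → z ∈ 𝒜 N → z ≠ 0 → ∃ c : k, y = c • z := by
    intro N y z hN hy hz hz0
    have hdep : ¬ AlgebraicIndependent k ![y, z] := fun h => by
      have := h.lift_cardinalMk_le_trdeg
      rw [htr] at this
      simp at this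
    rw [algebraicIndependent_iff] at hdep
    push Not at hdep
    obtain ⟨F, hF, hF0⟩ := hdep
    obtain ⟨m₀, hm₀⟩ := MvPolynomial.support_nonempty.2 hF0
    let d := m₀ 0 + m₀ 1
    let S := F.support.filter fun m => m 0 + m 1 = d
    have hmem : ∀ m : Fin 2 →₀ ℕ, MvPolynomial.coeff m F • (y ^ m 0 * z ^ m 1) ∈ 𝒜 (((m 0 + m 1 : ℕ) : ℤ) * N) := fun m => by
      refine Submodule.smul_mem _ _ ?_
      have := SetLike.mul_mem_graded (SetLike.pow_mem_graded (m 0) hy) (SetLike.pow_mem_graded (m 1) hz)
      simpa [add_mul] using this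
    have hsum : ∑ m ∈ S, MvPolynomial.coeff m F • (y ^ m 0 * z ^ m 1) = 0 := by
      have h := congrArg (GradedRing.proj 𝒜 ((d : ℤ) * N)) hF
      rw [MvPolynomial.aeval_def, MvPolynomial.eval₂_eq'] at h
      simp only [map_sum, map_zero, GradedRing.proj_apply, Fin.prod_univ_two,
        Matrix.cons_val_zero, Matrix.cons_val_one, ← Algebra.smul_def] at h
      rw [Finset.sum_filter]
      refine Eq.trans (Finset.sum_congr rfl fun m _ => ?_) h
      split_ifs with hmd
      · rw [DirectSum.decompose_of_mem_same 𝒜 (hmd ▸ hmem m)]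
      · rw [DirectSum.decompose_of_mem_ne 𝒜 (hmem m)]
        intro e
        exact hmd (by exact_mod_cast mul_right_cancel₀ hN.ne' e)
    have hzK : algebraMap R K z ≠ 0 := (map_ne_zero_iff _ (IsFractionRing.injective R K)).2 hz0
    let w := algebraMap R K y / algebraMap R K z
    let q : Polynomial k := ∑ m ∈ S, Polynomial.monomial (m 0) (MvPolynomial.coeff m F)
    have hq0 : q ≠ 0 := fun e => by
      have h := congrArg (fun p => Polynomial.coeff p (m₀ 0)) e
      simp only [q, Polynomial.finsetSum_coeff, Polynomial.coeff_monomial, Polynomial.coeff_zero] at h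
      rw [Finset.sum_eq_single m₀, if_pos rfl] at h
      · exact MvPolynomial.mem_support_iff.1 hm₀ h
      · intro m hm hne
        rw [if_neg]
        intro e0
        have := (Finset.mem_filter.1 hm).2
        refine hne (Finsupp.ext fun i => ?_)
        fin_cases i
        · exact e0
        · show m 1 = m₀ 1
          simp only [d] at this; omega
      · intro h'; exact absurd (Finset.mem_filter.2 ⟨hm₀, rfl⟩ : m₀ ∈ S) h'
    have hw : Polynomial.aeval w q = 0 := by
      have h := congrArg (algebraMap R K) hsum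
      rw [map_zero, map_sum] at h
      have h2 : algebraMap R K z ^ d * Polynomial.aeval w q = 0 := by
        rw [← h]
        simp only [q, map_sum, Finset.mul_sum, Polynomial.aeval_monomial, Algebra.smul_def, map_mul, map_pow,
          ← IsScalarTower.algebraMap_apply]
        rw [Finset.mul_sum]
        refine Finset.sum_congr rfl fun m hm => ?_
        rw [show d = m 1 + m 0 by rw [← (Finset.mem_filter.1 hm).2, add_comm], pow_add]
        simp only [w, div_pow]
        rw [div_eq_mul_inv]
        linear_combination (algebraMap k K (MvPolynomial.coeff m F) * algebraMap R K y ^ m 0 * algebraMap R K z ^ m 1) * mul_inv_cancel₀ (pow_ne_zero (m 0) hzK)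
      exact (mul_eq_zero.1 h2).resolve_left (pow_ne_zero _ hzK)
    obtain ⟨c, hc⟩ := minpoly.mem_range_of_degree_eq_one k w
      (IsAlgClosed.degree_eq_one_of_irreducible _ (minpoly.irreducible (IsAlgebraic.isIntegral ⟨q, hq0, hw⟩)))
    refine ⟨c, IsFractionRing.injective R K ?_⟩
    rw [Algebra.smul_def, map_mul, ← IsScalarTower.algebraMap_apply, hc, div_mul_cancel₀ _ hzK]
  have hprop' : ∀ (N : ℕ) (y z : R), y ∈ 𝒜 N → z ∈ 𝒜 N → z ≠ 0 → ∃ c : k, y = c • z := by
    intro N y z hy hz hz0
    rcases Nat.eq_zero_or_pos N with rfl | hN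
    · rw [Nat.cast_zero, h0, Submodule.mem_span_singleton] at hy hz
      obtain ⟨a, rfl⟩ := hy
      obtain ⟨b, rfl⟩ := hz
      refine ⟨a / b, ?_⟩
      rw [smul_smul, div_mul_cancel₀]
      rintro rfl
      exact hz0 (zero_smul _ _)
    · exact hprop N y z (by exact_mod_cast hN) hy hz hz0
  -- the semigroup
  let H : AddSubmonoid ℕ :=
    { carrier := {n | 𝒜 (n : ℤ) ≠ ⊥}
      zero_mem' := by
        simp only [Set.mem_setOf_eq, Nat.cast_zero, h0, ne_eq, Submodule.span_singleton_eq_bot, one_ne_zero, not_false_eq_true]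
      add_mem' := fun {a b} ha hb => by
        obtain ⟨x, hx, hx0⟩ := Submodule.exists_mem_ne_zero_of_ne_bot ha
        obtain ⟨x', hx', hx'0⟩ := Submodule.exists_mem_ne_zero_of_ne_bot hb
        intro e
        have := SetLike.mul_mem_graded hx hx'
        rw [← Nat.cast_add, e, Submodule.mem_bot] at this
        exact mul_ne_zero hx0 hx'0 this }
  -- its group is cyclic, generated by a difference
  let D : AddSubgroup ℤ :=
    { carrier := {z | ∃ a ∈ H, ∃ b ∈ H, z = (a : ℤ) - b}
      zero_mem' := ⟨0, H.zero_mem, 0, H.zero_mem, by simp⟩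
      add_mem' := by
        rintro _ _ ⟨a, ha, b, hb, rfl⟩ ⟨a', ha', b', hb', rfl⟩
        exact ⟨a + a', H.add_mem ha ha', b + b', H.add_mem hb hb', by push_cast; ring⟩
      neg_mem' := by
        rintro _ ⟨a, ha, b, hb, rfl⟩
        exact ⟨b, hb, a, ha, by ring⟩ }
  obtain ⟨g₀, hg₀⟩ := Int.subgroup_cyclic D
  let g := g₀.natAbs
  obtain ⟨da, hda, db, hdb, hgab⟩ : (g : ℤ) ∈ D := by
    rw [hg₀, ← AddSubgroup.zmultiples_eq_closure, Int.mem_zmultiples_iff]
    exact Int.dvd_natAbs.2 dvd_rfl
  have hdvd : ∀ n ∈ H, g ∣ n := fun n hn => by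
    have : (n : ℤ) ∈ D := ⟨n, hn, 0, H.zero_mem, by simp⟩
    rw [hg₀, ← AddSubgroup.zmultiples_eq_closure, Int.mem_zmultiples_iff] at this
    exact Int.natAbs_dvd_natAbs.2 this |>.trans (by simp)
  obtain ⟨p, hp, hp0⟩ := Submodule.exists_mem_ne_zero_of_ne_bot hda
  obtain ⟨q, hq, hq0⟩ := Submodule.exists_mem_ne_zero_of_ne_bot hdb
  have hu : ∀ n : H, ∃ r : R, r ∈ 𝒜 ((n : ℕ) : ℤ) ∧ r * q ^ ((n : ℕ) / g) = p ^ ((n : ℕ) / g) := by
    intro n
    obtain ⟨r₀, hr₀, hr₀0⟩ := Submodule.exists_mem_ne_zero_of_ne_bot n.2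
    set j := (n : ℕ) / g with hjdef
    have hj : j * g = (n : ℕ) := Nat.div_mul_cancel (hdvd n n.2)
    have h1' : r₀ * q ^ j ∈ 𝒜 (((n : ℕ) + j * db : ℕ) : ℤ) := by
      have := SetLike.mul_mem_graded hr₀ (SetLike.pow_mem_graded j hq)
      simpa using this
    have h2' : p ^ j ∈ 𝒜 (((n : ℕ) + j * db : ℕ) : ℤ) := by
      have h := SetLike.pow_mem_graded j hp
      rwa [show j • (da : ℤ) = (((n : ℕ) + j * db : ℕ) : ℤ) by
        rw [nsmul_eq_mul, ← hj]; push_cast; rw [show (da : ℤ) = g + db by omega]; ring] at h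
    obtain ⟨c, hc⟩ := hprop' _ _ _ h2' h1' (mul_ne_zero hr₀0 (pow_ne_zero _ hq0))
    exact ⟨c • r₀, Submodule.smul_mem _ _ hr₀, by rw [smul_mul_assoc]; exact hc.symm⟩
  choose u humem hueq using hu
  have hu0 : ∀ n, u n ≠ 0 := fun n e => by
    have := hueq n
    rw [e, zero_mul] at this
    exact pow_ne_zero _ hp0 this.symm
  have humul : ∀ a b : H, u (a + b) = u a * u b := fun a b => by
    apply mul_right_cancel₀ (pow_ne_zero (((a + b : H) : ℕ) / g) hq0)
    rw [hueq, AddSubmonoid.coe_add, Nat.add_div_of_dvd_right (hdvd a a.2), pow_add, pow_add,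
      mul_mul_mul_comm, hueq, hueq]
  have hu1 : u 0 = 1 := by
    have := hueq 0
    simpa using this
  let φ : AddMonoidAlgebra k H →ₐ[k] R := AddMonoidAlgebra.lift k R H
    { toFun := fun n => u n.toAdd
      map_one' := hu1
      map_mul' := fun a b => humul _ _ }
  have hφ : ∀ (n : H) (c : k), φ (AddMonoidAlgebra.single n c) = c • u n := fun n c => AddMonoidAlgebra.lift_single _ _ _
  have hcoef : ∀ (f : AddMonoidAlgebra k H) (n : H),
      ((DirectSum.decompose 𝒜 (φ f)) ((n : ℕ) : ℤ) : R) = f.coeff n • u n := by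
    intro f n
    induction f using AddMonoidAlgebra.induction_linear with
    | zero => simp
    | add a b ha hb => simp [ha, hb, add_smul]
    | single m c =>
      rw [hφ]
      by_cases hmn : m = n
      · subst hmn
        rw [DirectSum.decompose_of_mem_same 𝒜 (Submodule.smul_mem _ c (humem m))]
        simp
      · rw [DirectSum.decompose_of_mem_ne 𝒜 (Submodule.smul_mem _ c (humem m))]
        · simp [AddMonoidAlgebra.coeff_single, Finsupp.single_eq_of_ne (Ne.symm hmn)]
        · exact fun e => hmn (Subtype.ext (by exact_mod_cast e))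
  have hinj : Function.Injective φ := by
    intro a b hab
    apply AddMonoidAlgebra.coeff_injective
    ext n
    have := hcoef a n
    rw [hab, hcoef b n] at this
    exact (smul_left_injective k (hu0 n) this).symm
  have hsurj : Function.Surjective φ := by
    intro x
    show x ∈ φ.range
    rw [← DirectSum.sum_support_decompose 𝒜 x]
    refine Subalgebra.sum_mem _ fun i _ => ?_
    by_cases hx0 : (DirectSum.decompose 𝒜 x i : R) = 0
    · rw [hx0]; exact zero_mem _
    have hi : 0 ≤ i := by
      by_contra hi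
      have := (DirectSum.decompose 𝒜 x i).2
      exact hx0 ((Submodule.mem_bot k).1 (SetLike.le_def.1 (hpos i (not_le.1 hi)).le this))
    obtain ⟨n, rfl⟩ := Int.eq_ofNat_of_zero_le hi
    have hnH : n ∈ H := fun e => hx0 (by
      have := (DirectSum.decompose 𝒜 x n).2
      exact (Submodule.mem_bot k).1 (SetLike.le_def.1 e.le this))
    obtain ⟨c, hc⟩ := hprop' n _ _ (DirectSum.decompose 𝒜 x n).2 (humem ⟨n, hnH⟩) (hu0 _)
    exact ⟨AddMonoidAlgebra.single ⟨n, hnH⟩ c, by rw [hc]; exact hφ _ _⟩
  let e : R ≃+* AddMonoidAlgebra k H := (AlgEquiv.ofBijective φ ⟨hinj, hsurj⟩).symm.toRingEquiv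
  refine ⟨⟨H, ⟨e⟩⟩, fun hgen => ?_⟩
  have h11 : (1 : ℕ) ∈ H := by
    intro e1
    have e1' : 𝒜 (1 : ℤ) = ⊥ := e1
    rw [e1'] at hgen
    replace hgen := hgen.trans (show Ideal.span ((⊥ : Submodule k R) : Set R) = ⊥ by simp)
    have hfld : IsField R := by
      refine ⟨⟨0, 1, zero_ne_one⟩, mul_comm, fun {x} hx => ?_⟩
      have hx' : x ∈ Submodule.span k {(1 : R)} := by
        rw [← DirectSum.sum_support_decompose 𝒜 x]
        refine Submodule.sum_mem _ fun i _ => ?_
        rcases lt_trichotomy i 0 with hi | rfl | hi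
        · have := (DirectSum.decompose 𝒜 x i).2
          replace this := (Submodule.mem_bot k).1 (SetLike.le_def.1 (hpos i hi).le this)
          rw [this]; exact zero_mem _
        · rw [← h0]; exact (DirectSum.decompose 𝒜 x 0).2
        · have : (DirectSum.decompose 𝒜 x i : R) ∈ Ideal.span (⋃ n ∈ Set.Ioi (0 : ℤ), (𝒜 n : Set R)) :=
            Ideal.subset_span (Set.mem_biUnion (show i ∈ Set.Ioi (0 : ℤ) from hi) (DirectSum.decompose 𝒜 x i).2)
          rw [hgen, Ideal.mem_bot] at this
          rw [this]; exact zero_mem _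
      obtain ⟨c, rfl⟩ := Submodule.mem_span_singleton.1 hx'
      refine ⟨c⁻¹ • 1, ?_⟩
      have hc : c ≠ 0 := fun h => hx (by rw [h, zero_smul])
      rw [smul_mul_smul_comm, mul_inv_cancel₀ hc, one_mul, one_smul]
    letI := hfld.toField
    rw [ringKrullDim_eq_zero_of_field] at h1
    exact zero_ne_one h1
  have htop : H = ⊤ := top_unique fun n _ => by simpa using H.nsmul_mem h11 n
  let eH : H ≃+ ℕ := (AddEquiv.addSubmonoidCongr htop).trans AddSubmonoid.topEquiv
  exact ⟨e.trans (((AddMonoidAlgebra.domCongr k k eH).toRingEquiv).trans (Polynomial.toFinsuppIso k).symm)⟩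

end Groth.Agent.S18653
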