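import Groth.Statements.S18654
import Groth.Agent.GrSegreLib.PosGr
-- import your own Groth.Agent.* helpers here

set_option autoImplicit false
universe u
open GrLC

namespace Groth.Agent.S18654

/-- Let R be a graded ring defined over a field k = R_0 which is Cohen–Macaulay and generated over k by
R_1, with dim R ≥ 1, and write H(n, R) = dim_k R_n. Then H(n + 1, R) ≥ H(n, R) for every integer n.
Here 'graded ring defined over a field' means R = ⊕_{n ≥ 0} R_n is Noetherian with R_0 a field, and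
m = R_+ is its unique graded maximal ideal. -/
theorem result (R : Type u) [CommRing R] [LocCoh.IsCohenMacaulayRing R] (𝒜 : ℤ → AddSubgroup R) [GradedRing 𝒜] (hpos : ∀ n : ℤ, n < 0 → 𝒜 n = ⊥) (h0 : IsField (GrLC.deg0 𝒜)) (hstd : Ideal.span (⋃ n ∈ Set.Ioi (0 : ℤ), (𝒜 n : Set R)) = Ideal.span ((𝒜 1 : AddSubgroup R) : Set R)) (h1 : 1 ≤ ringKrullDim R) (n : ℤ) : Module.finrank (GrLC.deg0 𝒜) (GrLC.comp 𝒜 𝒜 n) ≤ Module.finrank (GrLC.deg0 𝒜) (GrLC.comp 𝒜 𝒜 (n + 1)) := by
  classical
  haveI : Nontrivial R := by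
    by_contra hn
    rw [not_nontrivial_iff_subsingleton] at hn
    simp [ringKrullDim_eq_bot_of_subsingleton] at h1
  letI : Field (GrLC.deg0 𝒜) := h0.toField
  set M := Ideal.span ((𝒜 1 : AddSubgroup R) : Set R) with hM
  obtain ⟨r, x, hx, hxM⟩ : ∃ (r : ℕ) (x : Fin r → R), (∀ i, x i ∈ 𝒜 1) ∧ Ideal.span (Set.range x) = M := by
    obtain ⟨t, ht, hts⟩ := (Submodule.fg_span_iff_fg_span_finset_subset _).1 (IsNoetherian.noetherian M)
    refine ⟨t.card, fun i => (t.equivFin.symm i : R), fun i => ht (t.equivFin.symm i).2, ?_⟩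
    rw [Set.range_comp' Subtype.val t.equivFin.symm, t.equivFin.symm.surjective.range_eq, Set.image_univ, Subtype.range_coe]
    exact hts.symm
  have hproj : ∀ (m e : ℤ) (a b : R), b ∈ 𝒜 e → GradedRing.proj 𝒜 m (a * b) = GradedRing.proj 𝒜 (m - e) a * b := by
    intro m e a b hb
    have h := DirectSum.coe_decompose_mul_add_of_right_mem 𝒜 (a := a) (i := m - e) hb
    rw [sub_add_cancel] at h
    rw [GradedRing.proj_apply, GradedRing.proj_apply]
    exact h
  have hmem : ∀ (m : ℤ) (a : R), GradedRing.proj 𝒜 m a ∈ 𝒜 m := fun m a => by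
    rw [GradedRing.proj_apply]; exact (DirectSum.decompose 𝒜 a m).2
  have hneg : ∀ (m : ℤ) (a : R), m < 0 → a ∈ 𝒜 m → a = 0 := fun m a hm ha => by
    rw [hpos m hm] at ha; exact AddSubgroup.mem_bot.1 ha
  have hstep : ∀ (m : ℤ) (a : R), 0 < m → a ∈ 𝒜 m → ∃ c : Fin r → R, (∀ i, c i ∈ 𝒜 (m - 1)) ∧ ∑ i, c i * x i = a := by
    intro m a hm ha
    have : a ∈ Ideal.span (Set.range x) := by
      rw [hxM, ← hstd]
      exact Ideal.subset_span (Set.mem_iUnion₂.2 ⟨m, hm, ha⟩)
    obtain ⟨c, hc⟩ := Ideal.mem_span_range_iff_exists_fun.1 this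
    refine ⟨fun i => GradedRing.proj 𝒜 (m - 1) (c i), fun i => hmem _ _, ?_⟩
    calc ∑ i, GradedRing.proj 𝒜 (m - 1) (c i) * x i = GradedRing.proj 𝒜 m (∑ i, c i * x i) := by
          rw [map_sum]; exact Finset.sum_congr rfl fun i _ => (hproj m 1 _ _ (hx i)).symm
      _ = a := by rw [hc, GradedRing.proj_apply, DirectSum.decompose_of_mem_same 𝒜 ha]
  have hM0 : ∀ a ∈ M, GradedRing.proj 𝒜 0 a = 0 := by
    intro a ha
    suffices ∀ c : R, GradedRing.proj 𝒜 0 (c * a) = 0 by simpa using this 1
    rw [hM] at ha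
    induction ha using Submodule.span_induction with
    | mem y hy => intro c; rw [hproj 0 1 c y hy, hneg (0 - 1) _ (by norm_num) (hmem _ _), zero_mul]
    | zero => intro c; rw [mul_zero, map_zero]
    | add y z _ _ hy hz => intro c; rw [mul_add, map_add, hy, hz, add_zero]
    | smul t y _ hy => intro c; rw [smul_eq_mul, ← mul_assoc]; exact hy _
  have hunit : ∀ a : R, a ∈ 𝒜 0 → a ≠ 0 → IsUnit a := fun a ha hne =>
    (isUnit_iff_ne_zero.2 (fun h => hne (congrArg Subtype.val h) : (⟨a, ha⟩ : GrLC.deg0 𝒜) ≠ 0)).map (GrLC.deg0 𝒜).subtype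
  have hsub : ∀ a : R, a - GradedRing.proj 𝒜 0 a ∈ M := by
    intro a
    have hs := DirectSum.sum_support_decompose 𝒜 a
    set F := (DirectSum.decompose 𝒜 a).support
    have he : a - GradedRing.proj 𝒜 0 a = ∑ i ∈ F.filter (fun i => i ≠ 0), (DirectSum.decompose 𝒜 a i : R) := by
      conv_lhs => rw [← hs, map_sum]
      rw [← Finset.sum_sub_distrib, Finset.sum_filter]
      refine Finset.sum_congr rfl fun i _ => ?_
      rw [GradedRing.proj_apply]
      by_cases hi : i = 0
      · subst hi; rw [if_neg (by simp), DirectSum.decompose_of_mem_same 𝒜 (SetLike.coe_mem _), sub_self]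
      · rw [if_pos hi, DirectSum.decompose_of_mem_ne 𝒜 (SetLike.coe_mem _) hi, sub_zero]
    rw [he]
    refine Ideal.sum_mem _ fun i hi => ?_
    rcases lt_or_gt_of_ne (Finset.mem_filter.1 hi).2 with hi | hi
    · rw [hneg i _ hi (SetLike.coe_mem _)]; exact zero_mem _
    · rw [← hstd]; exact Ideal.subset_span (Set.mem_iUnion₂.2 ⟨i, hi, SetLike.coe_mem _⟩)
  have hMtop : M ≠ ⊤ := fun h => by
    have := hM0 1 (h ▸ Submodule.mem_top)
    rw [GradedRing.proj_apply, DirectSum.decompose_of_mem_same 𝒜 SetLike.GradedOne.one_mem] at this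
    exact one_ne_zero this
  have hle : ∀ P : Ideal R, P ∈ minimalPrimes R → P ≤ M := by
    intro P hP a ha
    haveI := hP.1.1
    have hhom : P.IsHomogeneous 𝒜 := by
      have he : (P.homogeneousCore 𝒜).toIdeal = P :=
        le_antisymm (Ideal.toIdeal_homogeneousCore_le 𝒜 P)
          (hP.2 ⟨Ideal.IsPrime.homogeneousCore inferInstance, bot_le⟩ (Ideal.toIdeal_homogeneousCore_le 𝒜 P))
      exact he ▸ (P.homogeneousCore 𝒜).isHomogeneous
    have h0a : GradedRing.proj 𝒜 0 a ∈ P := by rw [GradedRing.proj_apply]; exact hhom 0 ha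
    by_cases hz : GradedRing.proj 𝒜 0 a = 0
    · simpa [hz] using hsub a
    · exact absurd (Ideal.eq_top_of_isUnit_mem P h0a (hunit _ (hmem 0 a) hz)) (Ideal.IsPrime.ne_top inferInstance)
  have hmax : M.IsMaximal := Ideal.isMaximal_iff.2 ⟨fun h => hMtop ((Ideal.eq_top_iff_one _).2 h), fun J a hJ haM haJ => by
    have hne : GradedRing.proj 𝒜 0 a ≠ 0 := fun h => haM (by simpa [h] using hsub a)
    have : GradedRing.proj 𝒜 0 a ∈ J := by
      have := J.sub_mem haJ (hJ (hsub a)); rwa [sub_sub_cancel] at this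
    exact (Ideal.eq_top_iff_one _).1 (Ideal.eq_top_of_isUnit_mem J this (hunit _ (hmem 0 a) hne))⟩
  have hann : ∀ c : R, (∀ i, c * x i = 0) → c = 0 := by
    intro c hc
    by_contra hne
    obtain ⟨Q, hQ, hQle⟩ := exists_le_isAssociatedPrime_of_isNoetherianRing R c hne
    haveI : Q.IsPrime := IsAssociatedPrime.isPrime hQ
    have hMQ : M ≤ Q := by
      rw [← hxM, Ideal.span_le]
      rintro _ ⟨i, rfl⟩
      exact hQle (Submodule.mem_colon_singleton.2 ((Submodule.mem_bot R).2 (by rw [smul_eq_mul, mul_comm, hc i])))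
    have hMQ' : M = Q := hmax.eq_of_le (Ideal.IsPrime.ne_top inferInstance) hMQ
    have hmin : M ∈ minimalPrimes R :=
      hMQ' ▸ Ideal.height_eq_zero_iff.1 (Groth.Agent.PosGr.height_eq_zero_of_mem_assPrimes hQ)
    have hdim : ∀ P ∈ minimalPrimes R, ringKrullDim (R ⧸ P) ≤ 0 := by
      intro P hP
      have : P = M := le_antisymm (hle P hP) (hmin.2 hP.1 (hle P hP))
      subst this
      haveI := hmax
      letI := Ideal.Quotient.field M
      rw [ringKrullDim_eq_zero_of_field]
    exact absurd (h1.trans (Groth.Agent.GrSegreLib.dim_le_of_minimalPrimes hdim)) (by simp)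
  have hfin : ∀ m : ℤ, Module.Finite (GrLC.deg0 𝒜) (GrLC.comp 𝒜 𝒜 m) := by
    have hz : ∀ m : ℤ, m < 0 → Module.Finite (GrLC.deg0 𝒜) (GrLC.comp 𝒜 𝒜 m) := fun m hm => by
      haveI : Subsingleton (GrLC.comp 𝒜 𝒜 m) :=
        ⟨fun a b => Subtype.ext ((hneg m _ hm a.2).trans (hneg m _ hm b.2).symm)⟩
      infer_instance
    have hk : ∀ m : ℕ, (GrLC.comp 𝒜 𝒜 (m : ℤ)).FG := by
      intro m
      induction m with
      | zero =>
        refine ⟨{1}, le_antisymm (Submodule.span_le.2 ?_) ?_⟩
        · rw [Finset.coe_singleton, Set.singleton_subset_iff]; exact (SetLike.GradedOne.one_mem : (1 : R) ∈ 𝒜 0)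
        · intro a ha
          rw [Finset.coe_singleton]
          exact Submodule.mem_span_singleton.2 ⟨⟨a, ha⟩, mul_one a⟩
      | succ m ih =>
        have he : GrLC.comp 𝒜 𝒜 ((m + 1 : ℕ) : ℤ) =
            ⨆ i, (GrLC.comp 𝒜 𝒜 (m : ℤ)).map (LinearMap.mulRight (GrLC.deg0 𝒜) (x i)) := by
          refine le_antisymm (fun a ha => ?_) (iSup_le fun i => ?_)
          · obtain ⟨c, hc, rfl⟩ := hstep _ a (by omega) ha
            refine Submodule.sum_mem _ fun i _ => ?_
            refine Submodule.mem_iSup_of_mem i ⟨c i, ?_, rfl⟩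
            have h2 := hc i
            rwa [Nat.cast_succ, add_sub_cancel_right] at h2
          · rintro _ ⟨c, hc, rfl⟩
            show c * x i ∈ 𝒜 ((m + 1 : ℕ) : ℤ)
            rw [Nat.cast_succ]
            exact SetLike.mul_mem_graded hc (hx i)
        rw [he]
        exact Submodule.fg_iSup _ fun i => ih.map _
    intro m
    by_cases hm : m < 0
    · exact hz m hm
    · have := hk m.toNat
      rw [Int.toNat_of_nonneg (by omega)] at this
      exact Module.Finite.iff_fg.2 this
  haveI := hfin n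
  haveI := hfin (n + 1)
  let P : Polynomial R := ∑ i : Fin r, Polynomial.monomial (i : ℕ) (x i)
  have hPc : ∀ a : ℕ, P.coeff a ∈ 𝒜 1 := fun a => by
    simp only [P, Polynomial.finsetSum_coeff, Polynomial.coeff_monomial]
    exact AddSubgroup.sum_mem _ fun i _ => by split_ifs <;> [exact hx i; exact zero_mem _]
  have hPdeg : P.natDegree ≤ r := Polynomial.natDegree_sum_le_of_forall_le _ _ fun i _ =>
    (Polynomial.natDegree_monomial_le _).trans i.2.le
  have hreg : ∀ Q : Polynomial R, P * Q = 0 → Q = 0 := fun Q hQ =>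
    Polynomial.eq_zero_of_mul_eq_zero_of_smul P (fun a ha => hann a fun i => by
      have := congrArg (fun p => Polynomial.coeff p (i : ℕ)) ha
      simpa [P, Polynomial.coeff_monomial, Fin.val_inj] using this) Q hQ
  have key : ∀ N : ℕ, N * Module.finrank (GrLC.deg0 𝒜) (GrLC.comp 𝒜 𝒜 n) ≤
      (N + r) * Module.finrank (GrLC.deg0 𝒜) (GrLC.comp 𝒜 𝒜 (n + 1)) := by
    intro N
    let q : (Fin N → GrLC.comp 𝒜 𝒜 n) → Polynomial R := fun v => ∑ j : Fin N, Polynomial.monomial (j : ℕ) (v j : R)
    have hqc : ∀ v (a : ℕ), (P * q v).coeff a ∈ 𝒜 (n + 1) := by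
      intro v a
      rw [Polynomial.coeff_mul]
      refine AddSubgroup.sum_mem _ fun p _ => ?_
      rw [add_comm n 1]
      refine SetLike.mul_mem_graded (hPc _) ?_
      simp only [q, Polynomial.finsetSum_coeff, Polynomial.coeff_monomial]
      exact AddSubgroup.sum_mem _ fun j _ => by split_ifs <;> [exact (v j).2; exact zero_mem _]
    let Φ : (Fin N → GrLC.comp 𝒜 𝒜 n) →ₗ[GrLC.deg0 𝒜] (Fin (N + r) → GrLC.comp 𝒜 𝒜 (n + 1)) :=
      { toFun := fun v a => ⟨(P * q v).coeff a, hqc v a⟩
        map_add' := fun v w => by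
          funext a; apply Subtype.ext
          simp [q, Finset.sum_add_distrib, mul_add]
        map_smul' := fun c v => by
          funext a; apply Subtype.ext
          have : q (c • v) = Polynomial.C (c : R) * q v := by
            simp [q, Finset.mul_sum, Polynomial.C_mul_monomial, Subring.smul_def]
          show (P * q (c • v)).coeff a = _
          rw [this, mul_left_comm, Polynomial.coeff_C_mul]
          rfl }
    have hΦ : Function.Injective Φ := by
      refine (injective_iff_map_eq_zero Φ).2 fun v hv => ?_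
      have hzero : P * q v = 0 := by
        ext a
        by_cases ha : a < N + r
        · exact congrArg Subtype.val (congrFun hv ⟨a, ha⟩)
        · rw [Polynomial.coeff_zero]
          rcases Nat.eq_zero_or_pos N with rfl | hN
          · simp [q]
          · refine Polynomial.coeff_eq_zero_of_natDegree_lt (lt_of_le_of_lt Polynomial.natDegree_mul_le ?_)
            have : (q v).natDegree ≤ N - 1 := Polynomial.natDegree_sum_le_of_forall_le _ _ fun j _ =>
              (Polynomial.natDegree_monomial_le _).trans (by omega)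
            omega
      funext j
      apply Subtype.ext
      have := congrArg (fun p => Polynomial.coeff p (j : ℕ)) (hreg _ hzero)
      simpa [q, Polynomial.coeff_monomial, Fin.val_inj] using this
    have := LinearMap.finrank_le_finrank_of_injective hΦ
    simpa [Module.finrank_pi_fintype] using this
  set A := Module.finrank (GrLC.deg0 𝒜) (GrLC.comp 𝒜 𝒜 n)
  set B := Module.finrank (GrLC.deg0 𝒜) (GrLC.comp 𝒜 𝒜 (n + 1))
  by_contra hlt
  have := key (r * B + 1)
  have hAB : B + 1 ≤ A := Nat.lt_of_not_le hlt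
  have := Nat.mul_le_mul_left (r * B + 1) hAB
  nlinarith

end Groth.Agent.S18654
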