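import Groth.Statements.S18660
import Groth.Agent.GrSegreLib.Socle
import Groth.Agent.GrSegreLib.Segre

set_option autoImplicit false
universe u
open scoped TensorProduct
open GrSegre Groth.Agent.PosGr

namespace Groth.Agent.S18660

/-- Let R and S be standard graded rings defined over a field k which are Cohen–Macaulay of dimension 1,
and assume R is not a polynomial ring over k. If the Segre product T = R # S is a Gorenstein ring,
then S is a polynomial ring k[T] and R is a Gorenstein ring. Here a graded ring defined over k is a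
commutative k-algebra of finite type, graded in nonnegative degrees by k-subspaces with degree-zero
part k·1, standard graded when its irrelevant ideal is generated by the degree-one piece;
'polynomial ring' means k-algebra isomorphic to k[T]; the Segre product T = ⊕_n R_n ⊗_k S_n is
presented abstractly as a graded k-algebra T with an injective k-algebra homomorphism ψ : T → R ⊗_k
S carrying T_n onto the k-span of the elementary tensors a ⊗ b with a ∈ R_n, b ∈ S_n. -/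
theorem result (k : Type u) [Field k] (R : Type u) [CommRing R] [Algebra k R] (𝒜 : ℤ → Submodule k R) [GradedAlgebra 𝒜] (hposR : ∀ n : ℤ, n < 0 → 𝒜 n = ⊥) (h0R : 𝒜 0 = Submodule.span k {(1 : R)}) [Algebra.FiniteType k R] (S : Type u) [CommRing S] [Algebra k S] (ℬ : ℤ → Submodule k S) [GradedAlgebra ℬ] (hposS : ∀ n : ℤ, n < 0 → ℬ n = ⊥) (h0S : ℬ 0 = Submodule.span k {(1 : S)}) [Algebra.FiniteType k S] (T : Type u) [CommRing T] [Algebra k T] (𝒯 : ℤ → Submodule k T) [GradedAlgebra 𝒯] (ψ : T →ₐ[k] TensorProduct k R S) (hψ : Function.Injective ψ) (hdegT : ∀ n : ℤ, (𝒯 n).map ψ.toLinearMap = Submodule.span k {x : TensorProduct k R S | ∃ a ∈ 𝒜 n, ∃ b ∈ ℬ n, x = a ⊗ₜ[k] b}) [LocCoh.IsCohenMacaulayRing R] [LocCoh.IsCohenMacaulayRing S] (hstdR : Ideal.span (⋃ n ∈ Set.Ioi (0 : ℤ), (𝒜 n : Set R)) = Ideal.span ((𝒜 1 : Submodule k R) : Set R)) (hstdS : Ideal.span (⋃ n ∈ Set.Ioi (0 : ℤ), (ℬ n : Set S)) = Ideal.span ((ℬ 1 : Submodule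 k S) : Set S)) (hr : ringKrullDim R = 1) (hs : ringKrullDim S = 1) (hR : IsEmpty (R ≃ₐ[k] Polynomial k)) [LocCoh.IsGorensteinRing T] : Nonempty (S ≃ₐ[k] Polynomial k) ∧ LocCoh.IsGorensteinRing R := by
  classical
  haveI : Nontrivial R := by
    by_contra hn
    rw [not_nontrivial_iff_subsingleton] at hn
    simp [ringKrullDim_eq_bot_of_subsingleton] at hr
  haveI : Nontrivial S := by
    by_contra hn
    rw [not_nontrivial_iff_subsingleton] at hn
    simp [ringKrullDim_eq_bot_of_subsingleton] at hs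
  haveI : Nontrivial T := by
    by_contra hn
    rw [not_nontrivial_iff_subsingleton] at hn
    have h1 : (1 : R ⊗[k] S) = 0 := by rw [← map_one ψ, Subsingleton.elim (1 : T) 0, map_zero]
    have h2 : Function.Injective (Algebra.TensorProduct.includeLeft : R →ₐ[k] R ⊗[k] S) :=
      Algebra.TensorProduct.includeLeft_injective (RingHom.injective _)
    exact one_ne_zero (h2 (by rw [map_one, map_zero, h1]))
  have hstdR' : pos 𝒜 = Ideal.span ((𝒜 1 : Submodule k R) : Set R) := by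
    rw [← hstdR]; exact congrArg Ideal.span (by ext a; simp [Set.mem_Ioi])
  have hstdS' : pos ℬ = Ideal.span ((ℬ 1 : Submodule k S) : Set S) := by
    rw [← hstdS]; exact congrArg Ideal.span (by ext a; simp [Set.mem_Ioi])
  have hposT := segre_pos 𝒜 ℬ 𝒯 ψ hψ hdegT hposR
  have h0T := segre_zero 𝒜 ℬ 𝒯 ψ hψ hdegT h0R h0S
  have hlift := segre_lift 𝒜 ℬ 𝒯 ψ hdegT
  have hSpoly : Nonempty (S ≃ₐ[k] Polynomial k) := by
    by_contra hSn
    haveI : Algebra.FiniteType k T := GrSegreLib.finiteType 𝒜 ℬ 𝒯 ψ hdegT hψ hposR hposS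
    have hdimT : ringKrullDim T ≤ 1 := by
      have h1 := GrSegreLib.ringKrullDim_le 𝒜 ℬ 𝒯 ψ hdegT hposR hposS h0R h0S hψ 1 1 (by exact_mod_cast hr) (by exact_mod_cast hs)
      exact h1.trans (by norm_num)
    obtain ⟨e, x, he, hxe, hx⟩ := exists_regular 𝒜 hposR h0R (by rw [hr])
    obtain ⟨f, s₀, hf, hs₀f, hs₀⟩ := exists_regular ℬ hposS h0S (by rw [hs])
    set D : ℕ := e * f with hD
    have hDpos : 0 < D := Nat.mul_pos he hf
    have hX : x ^ f ∈ 𝒜 (D : ℤ) := by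
      have h := SetLike.pow_mem_graded f hxe
      rwa [nsmul_eq_mul, ← Nat.cast_mul, mul_comm] at h
    have hY : s₀ ^ e ∈ ℬ (D : ℤ) := by
      have h := SetLike.pow_mem_graded e hs₀f
      rwa [nsmul_eq_mul, ← Nat.cast_mul] at h
    have hXreg : IsSMulRegular R (x ^ f) := hx.pow f
    have hYreg : IsSMulRegular S (s₀ ^ e) := hs₀.pow e
    set X := x ^ f
    set Y := s₀ ^ e
    have hmulinj : ∀ (u : R) (v : S), IsSMulRegular R u → IsSMulRegular S v →
        ∀ z z' : R ⊗[k] S, u ⊗ₜ[k] v * z = u ⊗ₜ[k] v * z' → z = z' := by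
      intro u v hu hv z z' hz
      have h := TensorProduct.map_injective_of_flat_flat (LinearMap.mulLeft k u) (LinearMap.mulLeft k v) hu hv
      have he : TensorProduct.map (LinearMap.mulLeft k u) (LinearMap.mulLeft k v) = LinearMap.mulLeft k (u ⊗ₜ[k] v) :=
        TensorProduct.ext' fun p q => by simp
      rw [he] at h
      exact h hz
    obtain ⟨a, haD, ha⟩ := hlift _ _ _ hX hY
    have hareg : IsSMulRegular T a := fun t t' htt => hψ (hmulinj _ _ hXreg hYreg _ _ (by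
      rw [← ha, ← map_mul, ← map_mul]; exact congrArg ψ htt))
    have hapos : a ∈ pos 𝒯 := mem_pos_of_mem 𝒯 (by omega) haD
    let P : ℕ → Prop := fun j => ∀ n : ℕ, j ≤ n →
      (∀ r ∈ 𝒜 ((n : ℤ) + D), ∃ w ∈ 𝒜 (n : ℤ), r = X * w) ∧ (∀ r ∈ ℬ ((n : ℤ) + D), ∃ w ∈ ℬ (n : ℤ), r = Y * w)
    have hex : ∃ j, P j := by
      obtain ⟨N₁, hN₁⟩ := exists_large_mem_span 𝒜 hr.le hX hXreg
      obtain ⟨N₂, hN₂⟩ := exists_large_mem_span ℬ hs.le hY hYreg
      refine ⟨(max N₁ N₂).toNat, fun n hn => ⟨fun r hr' => ?_, fun r hr' => ?_⟩⟩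
      · obtain ⟨w, hw, hwe⟩ := hN₁ _ (by omega) r hr'
        exact ⟨w, by rwa [add_sub_cancel_right] at hw, hwe⟩
      · obtain ⟨w, hw, hwe⟩ := hN₂ _ (by omega) r hr'
        exact ⟨w, by rwa [add_sub_cancel_right] at hw, hwe⟩
    have hρ := Nat.find_spec hex
    rcases Nat.eq_zero_or_pos (Nat.find hex) with h0 | hpos'
    · rw [h0] at hρ
      refine hR.false ((polynomial_of_line 𝒜 hposR h0R (by rw [hr]) hstdR' D hDpos X hXreg fun r hrD => ?_).some)
      obtain ⟨w, hw, rfl⟩ := (hρ 0 le_rfl).1 r (by simpa using hrD)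
      obtain ⟨c, rfl⟩ := exists_algebraMap_eq 𝒜 h0R (by simpa using hw)
      exact ⟨c, by rw [Algebra.smul_def, mul_comm]⟩
    obtain ⟨m, hm⟩ : ∃ m, Nat.find hex = m + 1 := ⟨Nat.find hex - 1, by omega⟩
    rw [hm] at hρ
    have hnot := Nat.find_min hex (show m < Nat.find hex by omega)
    have hb : ∀ (r : R) (σ : S), r ∈ 𝒜 ((m : ℤ) + D) → σ ∈ ℬ ((m : ℤ) + D) →
        ∀ b : T, ψ b = r ⊗ₜ[k] σ → ∀ p ∈ pos 𝒯, p * b ∈ Ideal.span {a} := by
      intro r σ hrm hσm b hb p hp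
      induction hp using Submodule.span_induction with
      | zero => rw [zero_mul]; exact zero_mem _
      | add p p' _ _ h h' => rw [add_mul]; exact add_mem h h'
      | smul c p _ h => rw [smul_eq_mul, mul_assoc]; exact Ideal.mul_mem_left _ _ h
      | mem p hp =>
        obtain ⟨j, hj, hp⟩ := hp
        have h1 : ψ p ∈ Submodule.span k {z : R ⊗[k] S | ∃ u ∈ 𝒜 j, ∃ v ∈ ℬ j, z = u ⊗ₜ[k] v} := by
          rw [← hdegT j]; exact ⟨p, hp, rfl⟩
        have h2 : ∃ w : T, ψ p * ψ b = ψ a * ψ w := by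
          generalize ψ p = z at h1 ⊢
          induction h1 using Submodule.span_induction with
          | mem z hz =>
            obtain ⟨u, hu, v, hv, rfl⟩ := hz
            obtain ⟨q, hq⟩ : ∃ q : ℕ, (q : ℤ) = j + m := ⟨(j + m).toNat, by omega⟩
            obtain ⟨w, hw, hwe⟩ := (hρ q (by omega)).1 (u * r) (by
              have h3 := SetLike.mul_mem_graded hu hrm
              rwa [show j + ((m : ℤ) + D) = (q : ℤ) + D by omega] at h3)
            obtain ⟨w₂, hw₂, hwe₂⟩ := (hρ q (by omega)).2 (v * σ) (by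
              have h3 := SetLike.mul_mem_graded hv hσm
              rwa [show j + ((m : ℤ) + D) = (q : ℤ) + D by omega] at h3)
            obtain ⟨w', -, hw'⟩ := hlift (q : ℤ) w w₂ hw hw₂
            refine ⟨w', ?_⟩
            rw [hb, ha, hw', Algebra.TensorProduct.tmul_mul_tmul, Algebra.TensorProduct.tmul_mul_tmul, hwe, hwe₂]
          | zero => exact ⟨0, by simp⟩
          | add z z' _ _ hz hz' =>
            obtain ⟨w, hw⟩ := hz
            obtain ⟨w', hw'⟩ := hz'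
            exact ⟨w + w', by rw [map_add, add_mul, mul_add, hw, hw']⟩
          | smul c z _ hz =>
            obtain ⟨w, hw⟩ := hz
            exact ⟨c • w, by rw [map_smul, mul_smul_comm, smul_mul_assoc, hw]⟩
        obtain ⟨w, hw⟩ := h2
        rw [← map_mul, ← map_mul] at hw
        exact Ideal.mem_span_singleton.2 ⟨w, hψ hw⟩
    have hcomp : ∀ b ∈ 𝒯 ((m : ℤ) + D), b ∈ Ideal.span {a} →
        ∃ z ∈ Submodule.span k {z : R ⊗[k] S | ∃ u ∈ 𝒜 (m : ℤ), ∃ v ∈ ℬ (m : ℤ), z = u ⊗ₜ[k] v}, ψ b = X ⊗ₜ[k] Y * z := by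
      intro b hbm hb'
      obtain ⟨w, rfl⟩ := Ideal.mem_span_singleton.1 hb'
      have h3 := cmp_mul_left 𝒯 haD w ((m : ℤ) + D)
      rw [cmp_of_mem 𝒯 hbm, if_pos rfl, add_sub_cancel_right] at h3
      exact ⟨ψ (cmp 𝒯 (m : ℤ) w), by rw [← hdegT]; exact ⟨_, cmp_mem 𝒯 _ w, rfl⟩, by rw [h3, map_mul, ha]⟩
    have hline : ∀ {U : Type u} [CommRing U] [Algebra k U] [Nontrivial U] (𝒰 : ℤ → Submodule k U) [GradedAlgebra 𝒰],
        (∀ n : ℤ, n < 0 → 𝒰 n = ⊥) → 𝒰 0 = Submodule.span k {(1 : U)} → 1 ≤ ringKrullDim U →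
        pos 𝒰 = Ideal.span ((𝒰 1 : Submodule k U) : Set U) → IsEmpty (U ≃ₐ[k] Polynomial k) →
        ∀ (Z : U), Z ∈ 𝒰 (D : ℤ) → IsSMulRegular U Z →
          ∃ σ₁ ∈ 𝒰 ((m : ℤ) + D), ∃ σ₂ ∈ 𝒰 ((m : ℤ) + D), σ₁ ≠ 0 ∧ ∀ c : k, σ₂ - c • σ₁ ≠ 0 := by
      intro U _ _ _ 𝒰 _ hp h0 hd hstd hU Z hZ hZreg
      by_contra hcon
      push Not at hcon
      have hZm : ∀ q : ℕ, Z ^ (q + 1) ∈ 𝒰 (((q + 1) * D : ℕ) : ℤ) := fun q => by
        have h := SetLike.pow_mem_graded (q + 1) hZ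
        rwa [nsmul_eq_mul, ← Nat.cast_mul] at h
      obtain ⟨g, hg⟩ : ∃ g : U, ∀ z ∈ 𝒰 ((m + D : ℕ) : ℤ), ∃ c : k, z = c • g := by
        by_cases h : ∃ g ∈ 𝒰 ((m : ℤ) + D), g ≠ 0
        · obtain ⟨g, hgm, hg⟩ := h
          refine ⟨g, fun z hz => ?_⟩
          obtain ⟨c, hc⟩ := hcon g hgm z (by exact_mod_cast hz) hg
          exact ⟨c, sub_eq_zero.1 hc⟩
        · push Not at h
          exact ⟨0, fun z hz => ⟨0, by rw [zero_smul]; exact h z (by exact_mod_cast hz)⟩⟩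
      obtain ⟨y, hy, hynil, hyq⟩ := line_above 𝒰 hp h0 hd hstd (by omega : 0 < m + D) g hg
      refine hU.false ((polynomial_of_line 𝒰 hp h0 hd hstd D hDpos Z hZreg fun r hrD => ?_).some)
      have hbig : m + D ≤ (m + D + 1) * D := le_trans (Nat.le_mul_of_pos_right _ hDpos) (Nat.mul_le_mul_right _ (Nat.le_succ _))
      have hbig2 : (m + D + 1) * D ≤ (m + D + 1) * D + D := Nat.le_add_right _ _
      obtain ⟨c₁, hc₁⟩ := hyq _ (le_trans hbig hbig2) (Z ^ (m + D + 1) * r) (by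
        have h := SetLike.mul_mem_graded (hZm (m + D)) hrD
        rwa [← Nat.cast_add] at h)
      obtain ⟨c₂, hc₂⟩ := hyq _ (le_trans hbig hbig2) (Z ^ (m + D + 1) * Z) (by
        have h := SetLike.mul_mem_graded (hZm (m + D)) hZ
        rwa [← Nat.cast_add] at h)
      have hc0 : c₂ ≠ 0 := fun e => by
        rw [e, zero_smul, ← pow_succ] at hc₂
        exact one_ne_zero ((hZreg.pow (m + D + 1 + 1)) (show Z ^ (m + D + 1 + 1) • (1 : U) = Z ^ (m + D + 1 + 1) • 0 by simp [hc₂]))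
      refine ⟨c₁ * c₂⁻¹, hZreg.pow (m + D + 1) ?_⟩
      show Z ^ (m + D + 1) * r = Z ^ (m + D + 1) * ((c₁ * c₂⁻¹) • Z)
      rw [hc₁, mul_smul_comm, hc₂, smul_smul, mul_assoc, inv_mul_cancel₀ hc0, mul_one]
    have hS0 : IsEmpty (S ≃ₐ[k] Polynomial k) := ⟨fun φ => hSn ⟨φ⟩⟩
    obtain ⟨n, hn, hnn⟩ : ∃ n, m ≤ n ∧ ¬ ((∀ r ∈ 𝒜 ((n : ℤ) + D), ∃ w ∈ 𝒜 (n : ℤ), r = X * w) ∧
        (∀ r ∈ ℬ ((n : ℤ) + D), ∃ w ∈ ℬ (n : ℤ), r = Y * w)) := by
      by_contra hc
      push Not at hc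
      exact hnot fun n hn => hc n hn
    have hnm : n = m := by
      by_contra h
      exact hnn (hρ n (by omega))
    subst hnm
    rcases not_and_or.1 hnn with hbad | hbad <;> push Not at hbad <;> obtain ⟨r, hrm, hrX⟩ := hbad
    · obtain ⟨σ₁, hσ₁, σ₂, hσ₂, hσne, hσind⟩ := hline ℬ hposS h0S (by rw [hs]) hstdS' hS0 Y hY hYreg
      obtain ⟨b₁, hb₁m, hb₁⟩ := hlift _ r σ₁ hrm hσ₁
      obtain ⟨b₂, hb₂m, hb₂⟩ := hlift _ r σ₂ hrm hσ₂
      have hnotmem : ∀ (b : T) (σ : S), b ∈ 𝒯 ((n : ℤ) + D) → ψ b = r ⊗ₜ[k] σ → σ ≠ 0 → b ∉ Ideal.span {a} := by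
        intro b σ hbm hbσ hσ hmem
        obtain ⟨z, hz, hbz⟩ := hcomp b hbm hmem
        obtain ⟨φ, hφ⟩ := Module.Projective.exists_dual_eq_one k hσ
        let F : R ⊗[k] S →ₗ[k] R := (TensorProduct.rid k R).toLinearMap ∘ₗ TensorProduct.map LinearMap.id φ
        have hFz : ∃ w ∈ 𝒜 (n : ℤ), F (X ⊗ₜ[k] Y * z) = X * w := by
          clear hbz
          induction hz using Submodule.span_induction with
          | mem z hz =>
            obtain ⟨u, hu, v, -, rfl⟩ := hz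
            exact ⟨φ (Y * v) • u, Submodule.smul_mem _ _ hu, by simp [F, mul_smul_comm]⟩
          | zero => exact ⟨0, zero_mem _, by simp⟩
          | add z z' _ _ h h' =>
            obtain ⟨w, hw, hwe⟩ := h
            obtain ⟨w', hw', hwe'⟩ := h'
            exact ⟨w + w', add_mem hw hw', by rw [mul_add, map_add, hwe, hwe', mul_add]⟩
          | smul c z _ h =>
            obtain ⟨w, hw, hwe⟩ := h
            exact ⟨c • w, Submodule.smul_mem _ c hw, by rw [mul_smul_comm, map_smul, hwe, mul_smul_comm]⟩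
        obtain ⟨w, hw, hwe⟩ := hFz
        rw [← hbz, hbσ] at hwe
        exact hrX w hw (by simpa [F, hφ] using hwe)
      obtain ⟨c, hc⟩ := socle_line 𝒯 hposT h0T hdimT hapos hareg b₁ b₂ (hb r σ₁ hrm hσ₁ b₁ hb₁) (hb r σ₂ hrm hσ₂ b₂ hb₂)
        (hnotmem b₁ σ₁ hb₁m hb₁ hσne)
      exact hnotmem (b₂ - c • b₁) (σ₂ - c • σ₁) (sub_mem hb₂m (Submodule.smul_mem _ c hb₁m))
        (by rw [map_sub, map_smul, hb₁, hb₂, TensorProduct.tmul_sub, TensorProduct.tmul_smul]) (hσind c) hc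
    · obtain ⟨σ₁, hσ₁, σ₂, hσ₂, hσne, hσind⟩ := hline 𝒜 hposR h0R (by rw [hr]) hstdR' hR X hX hXreg
      obtain ⟨b₁, hb₁m, hb₁⟩ := hlift _ σ₁ r hσ₁ hrm
      obtain ⟨b₂, hb₂m, hb₂⟩ := hlift _ σ₂ r hσ₂ hrm
      have hnotmem : ∀ (b : T) (σ : R), b ∈ 𝒯 ((n : ℤ) + D) → ψ b = σ ⊗ₜ[k] r → σ ≠ 0 → b ∉ Ideal.span {a} := by
        intro b σ hbm hbσ hσ hmem
        obtain ⟨z, hz, hbz⟩ := hcomp b hbm hmem
        obtain ⟨φ, hφ⟩ := Module.Projective.exists_dual_eq_one k hσ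
        let F : R ⊗[k] S →ₗ[k] S := (TensorProduct.lid k S).toLinearMap ∘ₗ TensorProduct.map φ LinearMap.id
        have hFz : ∃ w ∈ ℬ (n : ℤ), F (X ⊗ₜ[k] Y * z) = Y * w := by
          clear hbz
          induction hz using Submodule.span_induction with
          | mem z hz =>
            obtain ⟨u, -, v, hv, rfl⟩ := hz
            exact ⟨φ (X * u) • v, Submodule.smul_mem _ _ hv, by simp [F, mul_smul_comm]⟩
          | zero => exact ⟨0, zero_mem _, by simp⟩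
          | add z z' _ _ h h' =>
            obtain ⟨w, hw, hwe⟩ := h
            obtain ⟨w', hw', hwe'⟩ := h'
            exact ⟨w + w', add_mem hw hw', by rw [mul_add, map_add, hwe, hwe', mul_add]⟩
          | smul c z _ h =>
            obtain ⟨w, hw, hwe⟩ := h
            exact ⟨c • w, Submodule.smul_mem _ c hw, by rw [mul_smul_comm, map_smul, hwe, mul_smul_comm]⟩
        obtain ⟨w, hw, hwe⟩ := hFz
        rw [← hbz, hbσ] at hwe
        exact hrX w hw (by simpa [F, hφ] using hwe)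
      obtain ⟨c, hc⟩ := socle_line 𝒯 hposT h0T hdimT hapos hareg b₁ b₂ (hb σ₁ r hσ₁ hrm b₁ hb₁) (hb σ₂ r hσ₂ hrm b₂ hb₂)
        (hnotmem b₁ σ₁ hb₁m hb₁ hσne)
      exact hnotmem (b₂ - c • b₁) (σ₂ - c • σ₁) (sub_mem hb₂m (Submodule.smul_mem _ c hb₁m))
        (by rw [map_sub, map_smul, hb₁, hb₂, TensorProduct.sub_tmul, TensorProduct.smul_tmul']) (hσind c) hc
  refine ⟨hSpoly, ?_⟩
  let ψ' : T →ₐ[k] S ⊗[k] R := (Algebra.TensorProduct.comm k R S).toAlgHom.comp ψ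
  have hψ' : Function.Injective ψ' := (Algebra.TensorProduct.comm k R S).injective.comp hψ
  have hdegT' : ∀ n : ℤ, (𝒯 n).map ψ'.toLinearMap = Submodule.span k {x : S ⊗[k] R | ∃ a ∈ ℬ n, ∃ b ∈ 𝒜 n, x = a ⊗ₜ[k] b} := by
    intro n
    rw [show ψ'.toLinearMap = (Algebra.TensorProduct.comm k R S).toAlgHom.toLinearMap ∘ₗ ψ.toLinearMap from rfl,
      Submodule.map_comp, hdegT, Submodule.map_span]
    congr 1
    ext z
    constructor
    · rintro ⟨_, ⟨a, ha, b, hb, rfl⟩, rfl⟩; exact ⟨b, hb, a, ha, by simp⟩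
    · rintro ⟨b, hb, a, ha, rfl⟩; exact ⟨_, ⟨a, ha, b, hb, rfl⟩, by simp⟩
  obtain ⟨E⟩ := segre_equiv ℬ 𝒜 𝒯 ψ' hψ' hdegT' hposS h0S hstdS' hposR hSpoly.some
  exact GorenBasic.isGorensteinRing_of_ringEquiv E

end Groth.Agent.S18660
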