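import Groth.Statements.S18664
import Groth.Agent.GrSegreLib.PosGr
import Groth.Agent.GrSegreLib.Segre

set_option autoImplicit false
universe u
open scoped TensorProduct
open GrSegre Groth.Agent.PosGr

namespace Groth.Agent.S18664

/-- Let R and S be standard graded rings defined over a field k which are Cohen–Macaulay, with dim R = 1
and dim S ≥ 2. Then the Segre product T = R # S is a Cohen–Macaulay ring if and only if R is a
polynomial ring over k (in one variable). Here a graded ring defined over k is a commutative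
k-algebra of finite type, graded in nonnegative degrees by k-subspaces with degree-zero part k·1,
standard graded when its irrelevant ideal is generated by the degree-one piece; the Segre product T
= ⊕_n R_n ⊗_k S_n is presented abstractly as a graded k-algebra T with an injective k-algebra
homomorphism ψ : T → R ⊗_k S carrying T_n onto the k-span of the elementary tensors a ⊗ b with a ∈
R_n, b ∈ S_n. -/
theorem result (k : Type u) [Field k] (R : Type u) [CommRing R] [Algebra k R] (𝒜 : ℤ → Submodule k R) [GradedAlgebra 𝒜] (hposR : ∀ n : ℤ, n < 0 → 𝒜 n = ⊥) (h0R : 𝒜 0 = Submodule.span k {(1 : R)}) [Algebra.FiniteType k R] (S : Type u) [CommRing S] [Algebra k S] (ℬ : ℤ → Submodule k S) [GradedAlgebra ℬ] (hposS : ∀ n : ℤ, n < 0 → ℬ n = ⊥) (h0S : ℬ 0 = Submodule.span k {(1 : S)}) [Algebra.FiniteType k S] (T : Type u) [CommRing T] [Algebra k T] (𝒯 : ℤ → Submodule k T) [GradedAlgebra 𝒯] (ψ : T →ₐ[k] TensorProduct k R S) (hψ : Function.Injective ψ) (hdegT : ∀ n : ℤ, (𝒯 n).map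 ψ.toLinearMap = Submodule.span k {x : TensorProduct k R S | ∃ a ∈ 𝒜 n, ∃ b ∈ ℬ n, x = a ⊗ₜ[k] b}) [LocCoh.IsCohenMacaulayRing R] [LocCoh.IsCohenMacaulayRing S] (hstdR : Ideal.span (⋃ n ∈ Set.Ioi (0 : ℤ), (𝒜 n : Set R)) = Ideal.span ((𝒜 1 : Submodule k R) : Set R)) (hstdS : Ideal.span (⋃ n ∈ Set.Ioi (0 : ℤ), (ℬ n : Set S)) = Ideal.span ((ℬ 1 : Submodule k S) : Set S)) (hr : ringKrullDim R = 1) (hs : 2 ≤ ringKrullDim S) : LocCoh.IsCohenMacaulayRing T ↔ Nonempty (R ≃ₐ[k] Polynomial k) := by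
  classical
  haveI : Nontrivial R := by
    by_contra hn
    rw [not_nontrivial_iff_subsingleton] at hn
    simp [ringKrullDim_eq_bot_of_subsingleton] at hr
  haveI : Nontrivial S := by
    by_contra hn
    rw [not_nontrivial_iff_subsingleton] at hn
    simp [ringKrullDim_eq_bot_of_subsingleton] at hs
  haveI : Nontrivial T := by
    by_contra hn
    rw [not_nontrivial_iff_subsingleton] at hn
    have h1 : (1 : R ⊗[k] S) = 0 := by rw [← map_one ψ, Subsingleton.elim (1 : T) 0, map_zero]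
    have h2 : Function.Injective (Algebra.TensorProduct.includeLeft : R →ₐ[k] R ⊗[k] S) :=
      Algebra.TensorProduct.includeLeft_injective (RingHom.injective _)
    exact one_ne_zero (h2 (by rw [map_one, map_zero, h1]))
  have hstdR' : pos 𝒜 = Ideal.span ((𝒜 1 : Submodule k R) : Set R) := by
    rw [← hstdR]; exact congrArg Ideal.span (by ext a; simp [Set.mem_Ioi])
  have hposT : ∀ n : ℤ, n < 0 → 𝒯 n = ⊥ := by
    intro n hn
    apply Submodule.map_injective_of_injective (f := ψ.toLinearMap) hψ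
    rw [hdegT, Submodule.map_bot, Submodule.span_eq_bot]
    rintro _ ⟨a, ha, b, -, rfl⟩
    rw [eq_zero_of_neg 𝒜 hposR hn ha, TensorProduct.zero_tmul]
  have h0T : 𝒯 0 = Submodule.span k {(1 : T)} := by
    apply Submodule.map_injective_of_injective (f := ψ.toLinearMap) hψ
    rw [hdegT, Submodule.map_span, Set.image_singleton]
    refine le_antisymm (Submodule.span_le.2 ?_) (Submodule.span_le.2 (Set.singleton_subset_iff.2 ?_))
    · rintro _ ⟨a, ha, b, hb, rfl⟩
      obtain ⟨c, rfl⟩ := exists_algebraMap_eq 𝒜 h0R ha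
      obtain ⟨d, rfl⟩ := exists_algebraMap_eq ℬ h0S hb
      refine Submodule.mem_span_singleton.2 ⟨c * d, ?_⟩
      rw [AlgHom.toLinearMap_apply, map_one, Algebra.algebraMap_eq_smul_one, Algebra.algebraMap_eq_smul_one,
        TensorProduct.smul_tmul_smul, Algebra.TensorProduct.one_def]
    · refine Submodule.subset_span ⟨1, SetLike.GradedOne.one_mem, 1, SetLike.GradedOne.one_mem, ?_⟩
      simp [Algebra.TensorProduct.one_def]
  have hlift : ∀ (n : ℤ) (a : R) (b : S), a ∈ 𝒜 n → b ∈ ℬ n → ∃ t ∈ 𝒯 n, ψ t = a ⊗ₜ[k] b := by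
    intro n a b ha hb
    have : a ⊗ₜ[k] b ∈ (𝒯 n).map ψ.toLinearMap := by
      rw [hdegT]; exact Submodule.subset_span ⟨a, ha, b, hb, rfl⟩
    obtain ⟨t, ht, hte⟩ := this
    exact ⟨t, ht, hte⟩
  constructor
  · intro hT
    haveI := hT
    haveI : Algebra.FiniteType k T := GrSegreLib.finiteType 𝒜 ℬ 𝒯 ψ hdegT hψ hposR hposS
    obtain ⟨n, g, -, -, hn⟩ := DimTheory.exists_normalization k S
    have hn2 : 2 ≤ n := by rw [hn] at hs; exact_mod_cast hs
    have hdimT : ringKrullDim T = n := by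
      have h1 := GrSegreLib.ringKrullDim_le 𝒜 ℬ 𝒯 ψ hdegT hposR hposS h0R h0S hψ 1 n (by exact_mod_cast hr) hn
      have h2 := GrSegreLib.le_ringKrullDim 𝒜 ℬ 𝒯 ψ hdegT hposR hposS h0R h0S hψ 1 n (by exact_mod_cast hr) hn le_rfl (by omega)
      rw [show 1 + n - 1 = n by omega] at h1 h2
      exact le_antisymm h1 h2
    haveI := pos_isMaximal 𝒯 hposT h0T
    have hht : (2 : ℕ∞) ≤ (pos 𝒯).height := by
      obtain ⟨P, hP, hPdim⟩ := GrSegreLib.exists_minimalPrime_dim hdimT
      haveI : P.IsPrime := hP.1.1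
      have hker : RingHom.ker (Ideal.Quotient.mk P) ≤ pos 𝒯 := by
        rw [Ideal.mk_ker]; exact minimalPrime_le_pos 𝒯 hposT h0T hP
      set m := (pos 𝒯).map (Ideal.Quotient.mk P) with hm
      haveI : m.IsMaximal := Ideal.IsMaximal.map_of_surjective_of_ker_le Ideal.Quotient.mk_surjective hker
      haveI : Algebra.FiniteType k (T ⧸ P) :=
        Algebra.FiniteType.trans (inferInstance : Algebra.FiniteType k T) inferInstance
      have h := DimTheory.height_add_ringKrullDim_quotient' k (A := T ⧸ P) m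
      letI := Ideal.Quotient.field m
      rw [ringKrullDim_eq_zero_of_field, zero_add, hPdim] at h
      have h' : m.height = n := WithBot.coe_inj.1 (by exact_mod_cast h)
      have hc : m.comap (Ideal.Quotient.mk P) = pos 𝒯 := by
        rw [hm, Ideal.comap_map_of_surjective _ Ideal.Quotient.mk_surjective, ← RingHom.ker_eq_comap_bot]
        exact sup_eq_left.2 hker
      have hle : m.height ≤ (pos 𝒯).height := by
        rw [← hc, show m.height = _ from PrimeSpectrum.height_eq_orderHeight ⟨m, inferInstance⟩,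
          show (m.comap (Ideal.Quotient.mk P)).height = _ from
            PrimeSpectrum.height_eq_orderHeight (PrimeSpectrum.comap (Ideal.Quotient.mk P) ⟨m, inferInstance⟩)]
        exact Order.height_le_height_apply_of_strictMono
          (fun q : PrimeSpectrum (T ⧸ P) => PrimeSpectrum.comap (Ideal.Quotient.mk P) q)
          (fun a b hab => (Ideal.comap_mono (le_of_lt hab)).lt_of_ne fun e => hab.ne (PrimeSpectrum.ext (Ideal.comap_injective_of_surjective _ Ideal.Quotient.mk_surjective e))) ⟨m, inferInstance⟩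
      rw [h'] at hle
      exact le_trans (by exact_mod_cast hn2) hle
    obtain ⟨e, x, he, hxe, hx⟩ := exists_regular 𝒜 hposR h0R (by rw [hr])
    obtain ⟨f, s₀, hf, hs₀f, hs₀⟩ := exists_regular ℬ hposS h0S (le_trans (by norm_num) hs)
    set D : ℕ := e * f with hD
    have hDpos : 0 < D := Nat.mul_pos he hf
    have hX : x ^ f ∈ 𝒜 (D : ℤ) := by
      have h := SetLike.pow_mem_graded f hxe
      rwa [nsmul_eq_mul, ← Nat.cast_mul, mul_comm] at h
    have hS : s₀ ^ e ∈ ℬ (D : ℤ) := by
      have h := SetLike.pow_mem_graded e hs₀f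
      rwa [nsmul_eq_mul, ← Nat.cast_mul] at h
    have hXreg : IsSMulRegular R (x ^ f) := hx.pow f
    have hSreg : IsSMulRegular S (s₀ ^ e) := hs₀.pow e
    have hmulinj : ∀ (u : R) (v : S), IsSMulRegular R u → IsSMulRegular S v →
        ∀ z z' : R ⊗[k] S, u ⊗ₜ[k] v * z = u ⊗ₜ[k] v * z' → z = z' := by
      intro u v hu hv z z' hz
      have h := TensorProduct.map_injective_of_flat_flat (LinearMap.mulLeft k u) (LinearMap.mulLeft k v) hu hv
      have he : TensorProduct.map (LinearMap.mulLeft k u) (LinearMap.mulLeft k v) = LinearMap.mulLeft k (u ⊗ₜ[k] v) :=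
        TensorProduct.ext' fun p q => by simp
      rw [he] at h
      exact h hz
    obtain ⟨N, hN⟩ := exists_large_mem_span 𝒜 hr.le hX hXreg
    have key : ∀ r ∈ 𝒜 (D : ℤ), ∃ c : k, r = c • x ^ f := by
      intro r hrD
      obtain ⟨a, haD, ha⟩ := hlift _ _ _ hX hS
      obtain ⟨b, hbD, hb⟩ := hlift _ _ _ hrD hS
      have hareg : IsSMulRegular T a := fun t t' htt => hψ (hmulinj _ _ hXreg hSreg _ _ (by
        rw [← ha, ← map_mul, ← map_mul]; exact congrArg ψ htt))
      have hbt : ∀ (m : ℤ), N ≤ m → ∀ t ∈ 𝒯 m, b * t ∈ Ideal.span {a} := by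
        intro m hm t ht
        have h1 : ψ t ∈ Submodule.span k {z : R ⊗[k] S | ∃ u ∈ 𝒜 m, ∃ v ∈ ℬ m, z = u ⊗ₜ[k] v} := by
          rw [← hdegT m]; exact ⟨t, ht, rfl⟩
        have h2 : ∃ w : T, ψ b * ψ t = ψ a * ψ w := by
          generalize ψ t = z at h1 ⊢
          induction h1 using Submodule.span_induction with
          | mem z hz =>
            obtain ⟨u, hu, v, hv, rfl⟩ := hz
            obtain ⟨w, hw, hwe⟩ := hN ((D : ℤ) + m) (by omega) (r * u) (SetLike.mul_mem_graded hrD hu)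
            rw [add_sub_cancel_left] at hw
            obtain ⟨w', -, hw'⟩ := hlift m w v hw hv
            refine ⟨w', ?_⟩
            rw [hb, ha, hw', Algebra.TensorProduct.tmul_mul_tmul, Algebra.TensorProduct.tmul_mul_tmul, hwe]
          | zero => exact ⟨0, by simp⟩
          | add z z' _ _ hz hz' =>
            obtain ⟨w, hw⟩ := hz
            obtain ⟨w', hw'⟩ := hz'
            exact ⟨w + w', by rw [map_add, mul_add, mul_add, hw, hw']⟩
          | smul c z _ hz =>
            obtain ⟨w, hw⟩ := hz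
            exact ⟨c • w, by rw [map_smul, mul_smul_comm, mul_smul_comm, hw]⟩
        obtain ⟨w, hw⟩ := h2
        rw [← map_mul, ← map_mul] at hw
        exact Ideal.mem_span_singleton.2 ⟨w, hψ hw⟩
      have hmem : b ∈ Ideal.span {a} := by
        by_contra hb0
        haveI := GrassLib.isCohenMacaulayRing_quotient_span a hareg
        obtain ⟨Q, hQ, hann⟩ := exists_le_isAssociatedPrime_of_isNoetherianRing (T ⧸ Ideal.span {a})
          (Ideal.Quotient.mk (Ideal.span {a}) b) (fun h => hb0 (Ideal.Quotient.eq_zero_iff_mem.1 h))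
        haveI : Q.IsPrime := IsAssociatedPrime.isPrime hQ
        have hle : pos 𝒯 ≤ Q.comap (Ideal.Quotient.mk (Ideal.span {a})) := by
          refine Ideal.span_le.2 fun t ⟨m, hm, ht⟩ => ?_
          refine Ideal.IsPrime.mem_of_pow_mem inferInstance (N.toNat + 1) ?_
          rw [Ideal.mem_comap]
          refine hann ?_
          rw [Submodule.mem_colon_singleton, Submodule.mem_bot, smul_eq_mul, ← map_mul, Ideal.Quotient.eq_zero_iff_mem, mul_comm]
          refine hbt _ ?_ _ (SetLike.pow_mem_graded (N.toNat + 1) ht)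
          rw [nsmul_eq_mul]
          push_cast
          nlinarith [Int.self_le_toNat N, Int.natCast_nonneg N.toNat]
        have heq : pos 𝒯 = Q.comap (Ideal.Quotient.mk (Ideal.span {a})) :=
          Ideal.IsMaximal.eq_of_le inferInstance (Ideal.IsPrime.ne_top inferInstance) hle
        have hQmin : Q ∈ minimalPrimes (T ⧸ Ideal.span {a}) :=
          Ideal.height_eq_zero_iff.1 (height_eq_zero_of_mem_assPrimes hQ)
        have hmin : pos 𝒯 ∈ (Ideal.span {a}).minimalPrimes := by
          rw [Ideal.minimalPrimes_eq_comap, heq]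
          exact ⟨Q, hQmin, rfl⟩
        have h1 := Ideal.height_le_one_of_isPrincipal_of_mem_minimalPrimes (Ideal.span {a}) (pos 𝒯) hmin
        exact absurd (le_trans hht h1) (by norm_num)
      obtain ⟨w, hw⟩ := Ideal.mem_span_singleton.1 hmem
      have h := cmp_mul_left 𝒯 haD w (D : ℤ)
      rw [← hw, cmp_of_mem 𝒯 hbD, if_pos rfl, sub_self] at h
      obtain ⟨c, hc⟩ := exists_algebraMap_eq 𝒯 h0T (cmp_mem 𝒯 0 w)
      refine ⟨c, ?_⟩
      have h3 : r ⊗ₜ[k] (s₀ ^ e) = (c • x ^ f) ⊗ₜ[k] (s₀ ^ e) := by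
        rw [← hb, h, ← hc, mul_comm, ← Algebra.smul_def, map_smul, ha, TensorProduct.smul_tmul']
      have h4 : ∀ q : R, q ⊗ₜ[k] (s₀ ^ e) = (1 : R) ⊗ₜ[k] (s₀ ^ e) * q ⊗ₜ[k] (1 : S) := fun q => by simp
      rw [h4, h4 (c • x ^ f)] at h3
      exact Algebra.TensorProduct.includeLeft_injective (S := k) (RingHom.injective (algebraMap k S))
        (hmulinj _ _ (fun p q hpq => by simpa using hpq) hSreg _ _ h3)
    obtain ⟨y, hy, hynil⟩ := exists_not_nilpotent_deg_one 𝒜 hposR h0R (by rw [hr]) hstdR'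
    have hyD : y ^ D ∈ 𝒜 (D : ℤ) := by
      have h := SetLike.pow_mem_graded D hy
      rwa [nsmul_one] at h
    obtain ⟨c, hc⟩ := key _ hyD
    have hc0 : c ≠ 0 := fun h => hynil ⟨D, by rw [hc, h, zero_smul]⟩
    have hyreg : IsSMulRegular R y := by
      refine (IsSMulRegular.pow_iff hDpos).1 ?_
      intro p q hpq
      simp only [smul_eq_mul, hc, smul_mul_assoc] at hpq
      exact hXreg (IsUnit.smul_left_cancel (isUnit_iff_ne_zero.2 hc0) |>.1 hpq)
    have h1 : ∀ z ∈ 𝒜 1, ∃ d : k, z = d • y := by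
      intro z hz
      obtain ⟨D', hD'⟩ : ∃ D', D = D' + 1 := ⟨D - 1, by omega⟩
      have hzD : y ^ D' * z ∈ 𝒜 (D : ℤ) := by
        have h := SetLike.mul_mem_graded (SetLike.pow_mem_graded D' hy) hz
        rwa [nsmul_one, show (D' : ℤ) + 1 = D by rw [hD']; push_cast; ring] at h
      obtain ⟨c', hc'⟩ := key _ hzD
      refine ⟨c' * c⁻¹, hyreg.pow D' ?_⟩
      show y ^ D' * z = y ^ D' * ((c' * c⁻¹) • y)
      rw [hc', mul_smul_comm, ← pow_succ, ← hD', hc, smul_smul, mul_assoc, inv_mul_cancel₀ hc0, mul_one]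
    exact ⟨(AlgEquiv.ofBijective _ (aeval_bijective 𝒜 hposR h0R hstdR' hy hyreg h1)).symm⟩
  · rintro ⟨φ⟩
    obtain ⟨y, hy, hyreg, h1⟩ := exists_generator_of_algEquiv 𝒜 hposR h0R hstdR' φ
    have hsp := mem_span_pow 𝒜 hposR h0R hstdR' hy h1
    let E := AlgEquiv.ofBijective _ (aeval_bijective 𝒜 hposR h0R hstdR' hy hyreg h1)
    let ρ : R →ₐ[k] k := (Polynomial.aeval (1 : k)).comp E.symm.toAlgHom
    have hρ : ρ y = 1 := by
      have : E.symm y = Polynomial.X := by
        rw [AlgEquiv.symm_apply_eq]; simp [E]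
      simp [ρ, this]
    let θ : T →ₐ[k] S := (Algebra.TensorProduct.lift ((Algebra.ofId k S).comp ρ) (AlgHom.id k S)
      (fun _ _ => Commute.all _ _)).comp ψ
    have hθ : ∀ (n : ℤ) (z : T), z ∈ 𝒯 n → θ z ∈ ℬ n ∧ (θ z = 0 → z = 0) := by
      intro n z hz
      have h1 : ψ z ∈ Submodule.span k {w : R ⊗[k] S | ∃ a ∈ 𝒜 n, ∃ b ∈ ℬ n, w = a ⊗ₜ[k] b} := by
        rw [← hdegT n]; exact ⟨z, hz, rfl⟩
      have h2 : ∃ σ ∈ ℬ n, ψ z = (y ^ n.toNat) ⊗ₜ[k] σ := by
        generalize ψ z = w at h1 ⊢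
        induction h1 using Submodule.span_induction with
        | mem w hw =>
          obtain ⟨a, ha, b, hb, rfl⟩ := hw
          by_cases hn : n < 0
          · exact ⟨0, zero_mem _, by rw [eq_zero_of_neg 𝒜 hposR hn ha]; simp⟩
          · obtain ⟨c, rfl⟩ := hsp n.toNat a (by rwa [show ((n.toNat : ℕ) : ℤ) = n by omega])
            exact ⟨c • b, Submodule.smul_mem _ c hb, by rw [TensorProduct.smul_tmul]⟩
        | zero => exact ⟨0, zero_mem _, by simp⟩
        | add w w' _ _ hw hw' =>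
          obtain ⟨σ, hσ, rfl⟩ := hw
          obtain ⟨σ', hσ', rfl⟩ := hw'
          exact ⟨σ + σ', add_mem hσ hσ', by rw [TensorProduct.tmul_add]⟩
        | smul c w _ hw =>
          obtain ⟨σ, hσ, rfl⟩ := hw
          exact ⟨c • σ, Submodule.smul_mem _ c hσ, by rw [TensorProduct.tmul_smul]⟩
      obtain ⟨σ, hσ, hzσ⟩ := h2
      have hval : θ z = σ := by simp [θ, hzσ, hρ]
      exact ⟨hval ▸ hσ, fun h => hψ (by rw [hzσ, ← hval, h, TensorProduct.tmul_zero, map_zero])⟩
    have hbij : Function.Bijective θ := by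
      constructor
      · refine (injective_iff_map_eq_zero θ).2 fun t ht => ?_
        obtain ⟨F, hF⟩ := exists_sum_cmp 𝒯 t
        rw [← hF]
        refine Finset.sum_eq_zero fun i hi => (hθ i _ (cmp_mem 𝒯 i t)).2 ?_
        have h := congrArg (cmp ℬ i) ht
        rw [← hF, map_sum, map_sum, map_zero, Finset.sum_eq_single i (fun j _ hj => by
          rw [cmp_of_mem ℬ (hθ j _ (cmp_mem 𝒯 j t)).1, if_neg hj]) (fun h' => absurd hi h'),
          cmp_of_mem ℬ (hθ i _ (cmp_mem 𝒯 i t)).1, if_pos rfl] at h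
        exact h
      · intro σ
        obtain ⟨F, hF⟩ := exists_sum_cmp ℬ σ
        rw [← AlgHom.mem_range, ← hF]
        refine Subalgebra.sum_mem _ fun i _ => ?_
        by_cases hi : i < 0
        · rw [eq_zero_of_neg ℬ hposS hi (cmp_mem ℬ i σ)]; exact Subalgebra.zero_mem _
        · have hyi : y ^ i.toNat ∈ 𝒜 i := by
            have h := SetLike.pow_mem_graded i.toNat hy
            rwa [nsmul_one, show ((i.toNat : ℕ) : ℤ) = i by omega] at h
          obtain ⟨t, -, ht⟩ := hlift i _ _ hyi (cmp_mem ℬ i σ)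
          exact ⟨t, by simp [θ, ht, hρ]⟩
    exact GrassLib.isCohenMacaulayRing_of_ringEquiv (RingEquiv.ofBijective θ hbij).symm

end Groth.Agent.S18664
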