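import Groth.Statements.S18668
import Groth.Agent.FunFldLib.GrSect

set_option autoImplicit false
universe u
open GrSect

namespace Groth.Agent.S18668

/-- Let X be a complete smooth curve of genus g ≥ 1 over an algebraically closed field k, P a closed
point, R = R_{X,P} = ⊕_{n ≥ 0} H^0(X, O_X(nP)) and H = H_{X,P} its Weierstrass semigroup. For any
nonzero t of degree one in R, t is prime in R and the quotient R/tR is isomorphic to k[H], the
semigroup algebra of H. Here the complete smooth curve X over the algebraically closed field k is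
given by its function field K/k (a function field of one variable in which k is algebraically
closed), the closed point P by a place of K/k, g ≥ 1 is the genus, H^0(X, O_X(nP)) = L(nP), and
R_{X,P} = ⊕_{n ≥ 0} L(nP)·T^n is realised as the k-subalgebra of K[T] of polynomials whose
coefficient of T^n lies in L(nP); the Weierstrass semigroup H_{X,P} is the set of n ≥ 0 with ℓ(nP) =
ℓ((n−1)P) + 1. The isomorphism is stated as a k-algebra isomorphism with the semigroup algebra of
the additive submonoid of ℕ generated by H_{X,P} (which is H_{X,P} itself). -/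
theorem result (k : Type u) [Field k] [IsAlgClosed k] (K : Type u) [Field K] [Algebra k K] (hK : FunFld.IsFunctionField k K) (hg : 1 ≤ FunFld.genus k K) (P : FunFld.Place k K) (t : ↥(W4c6gradedringsgw.sectRing (Finsupp.single P 1 : FunFld.Divisor k K))) (a : K) (ha : a ≠ 0) (ht : (t : Polynomial K) = Polynomial.C a * Polynomial.X) : Prime t ∧ Nonempty ((↥(W4c6gradedringsgw.sectRing (Finsupp.single P 1 : FunFld.Divisor k K)) ⧸ Ideal.span {t}) ≃ₐ[k] AddMonoidAlgebra k ↥(AddSubmonoid.closure (W4c6gradedringsgw.poleOrders P))) := by
  obtain ⟨π, hπ⟩ := FunFldLib.exists_unif hK P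
  have hker := FunFldLib.ker_grHom hK hg P hπ t ha ht
  have htne : t ≠ 0 := fun h => by
    rw [h, ZeroMemClass.coe_zero] at ht
    exact mul_ne_zero (Polynomial.C_ne_zero.2 ha) Polynomial.X_ne_zero ht.symm
  refine ⟨(Ideal.span_singleton_prime htne).1 (hker ▸ RingHom.ker_isPrime _), ⟨?_⟩⟩
  refine ((Ideal.quotientEquivAlgOfEq k hker.symm).trans (Ideal.quotientKerEquivRange (FunFldLib.grHom hK P hπ))).trans ?_
  refine ((AlgEquiv.ofInjective
    (((Polynomial.toFinsuppIsoAlg k).symm.toAlgHom).comp
      (AddMonoidAlgebra.mapDomainAlgHom k k (AddSubmonoid.closure (W4c6gradedringsgw.poleOrders P)).subtype)) ?_).trans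
    (Subalgebra.equivOfEq _ _ (FunFldLib.semigroup_range hK P hπ))).symm
  exact (Polynomial.toFinsuppIsoAlg k).symm.injective.comp (AddMonoidAlgebra.mapDomain_injective Subtype.val_injective)

end Groth.Agent.S18668
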