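import Groth.Statements.S18669
import Groth.Agent.GorenSG.Affine
import Groth.Agent.GorenSG.Semigroup

set_option autoImplicit false
universe u
open GrSect

namespace Groth.Agent.S18669

/-- Let X be a complete smooth curve of genus g ≥ 1 over an algebraically closed field k and P a closed
point. Then R_{X,P} = ⊕_{n ≥ 0} H^0(X, O_X(nP)) is a Gorenstein ring if and only if the Weierstrass
semigroup H_{X,P} is symmetric, i.e. there is an integer d such that an integer n lies in H_{X,P}
exactly when d − n does not. Here the complete smooth curve X over the algebraically closed field k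
is given by its function field K/k (a function field of one variable in which k is algebraically
closed), the closed point P by a place of K/k, g ≥ 1 is the genus, H^0(X, O_X(nP)) = L(nP), and
R_{X,P} = ⊕_{n ≥ 0} L(nP)·T^n is realised as the k-subalgebra of K[T] of polynomials whose
coefficient of T^n lies in L(nP); the Weierstrass semigroup H_{X,P} is the set of n ≥ 0 with ℓ(nP) =
ℓ((n−1)P) + 1. -/
theorem result (k : Type u) [Field k] [IsAlgClosed k] (K : Type u) [Field K] [Algebra k K] (hK : FunFld.IsFunctionField k K) (hg : 1 ≤ FunFld.genus k K) (P : FunFld.Place k K) : LocCoh.IsGorensteinRing ↥(W4c6gradedringsgw.sectRing (Finsupp.single P 1 : FunFld.Divisor k K)) ↔ W4c6gradedringsgw.IsSymmetric (W4c6gradedringsgw.poleOrders P) := by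
  classical
  set R := W4c6gradedringsgw.sectRing (Finsupp.single P 1 : FunFld.Divisor k K) with hR
  obtain ⟨π, hπ⟩ := FunFldLib.exists_unif hK P
  set B := (FunFldLib.grHom hK P hπ).range with hBdef
  set H := FunFldLib.poleMonoid hK P with hHdef
  have hcl : (H : Set ℕ) = W4c6gradedringsgw.poleOrders P := rfl
  have hB : ∀ f : Polynomial k, f ∈ B ↔ ∀ n, f.coeff n ≠ 0 → n ∈ H := fun f => FunFldLib.range_grHom hK P hπ f
  set c := 2 * FunFld.genus k K
  have hc : ∀ n, c ≤ n → n ∈ H := fun n hn => FunFldLib.mem_poleOrders_large hK P hn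
  set a := c + 1 with ha'
  have ha : a ∈ H := hc a (by omega)
  have hnR := GorenSG.isNoetherianRing_sectRing hK hg P
  let f : R →+* B := (FunFldLib.grHom hK P hπ).rangeRestrict.toRingHom
  have hf : Function.Surjective f := (FunFldLib.grHom hK P hπ).rangeRestrict_surjective
  have hnB : IsNoetherianRing B := isNoetherianRing_of_surjective _ _ f hf
  have hXmem : (Polynomial.X : Polynomial K) ∈ R := fun n => by
    rw [Polynomial.coeff_X, FunFldLib.zsmul_single_one]
    split_ifs with h
    · subst h
      rw [Nat.cast_one, FunFldLib.coeff_one_mem hK hg P]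
      exact ⟨1, map_one (algebraMap k K)⟩
    · exact zero_mem _
  let t : R := ⟨Polynomial.X, hXmem⟩
  have ht0 : t ≠ 0 := fun h => Polynomial.X_ne_zero (congrArg Subtype.val h : (Polynomial.X : Polynomial K) = 0)
  have hkf : RingHom.ker f = Ideal.span {t} := by
    rw [← FunFldLib.ker_grHom hK hg P hπ t (a := (1 : K)) one_ne_zero (by change Polynomial.X = _; rw [map_one, one_mul])]
    ext r
    rw [RingHom.mem_ker, RingHom.mem_ker]
    exact Subtype.ext_iff
  have hft : f t = 0 := by rw [← RingHom.mem_ker, hkf]; exact Ideal.mem_span_singleton_self t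
  have step1 : ∀ (q : Ideal B) [q.IsPrime],
      LocCoh.IsGorensteinLocalRing (Localization.AtPrime (q.comap f)) ↔
        LocCoh.IsGorensteinLocalRing (Localization.AtPrime q) := fun q hq => by
    refine GorenSG.gorenstein_atPrime_iff ((algebraMap B (Localization.AtPrime q)).comp f) (q.comap f)
      (t := t) (Ideal.mem_comap.2 (hft ▸ q.zero_mem)) ht0 ?_ (by rw [RingHom.comp_apply, hft, map_zero]) ?_ ?_
    · exact fun s hs => IsLocalization.map_units (M := q.primeCompl) (Localization.AtPrime q) ⟨f s, hs⟩
    · intro r hr
      rw [← hkf, RingHom.mem_ker]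
      exact IsLocalization.injective (Localization.AtPrime q) q.primeCompl_le_nonZeroDivisors
        (hr.trans (map_zero _).symm)
    · intro z
      obtain ⟨⟨x, y⟩, hxy⟩ := IsLocalization.surj q.primeCompl z
      obtain ⟨r, rfl⟩ := hf x
      obtain ⟨s, hs⟩ := hf (y : B)
      exact ⟨r, s, fun h => y.2 (hs ▸ Ideal.mem_comap.1 h), by rw [RingHom.comp_apply, hs]; exact hxy⟩
  -- the origin
  let ε : B →+* k := Polynomial.constantCoeff.comp B.val.toRingHom
  let m0 : Ideal B := RingHom.ker ε
  have hm0 : m0.IsPrime := RingHom.ker_isPrime ε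
  let mon : B := ⟨Polynomial.X ^ a, GorenSG.X_pow_mem B H hB ha⟩
  have step2 : LocCoh.IsGorensteinLocalRing (Localization.AtPrime m0) ↔
      W4c6gradedringsgw.IsSymmetric (H : Set ℕ) := by
    refine Iff.trans ?_ (GorenSG.gorenstein_quotient_iff B H hB c hc ha (by omega))
    refine GorenSG.gorenstein_atPrime_iff (Ideal.Quotient.mk (Ideal.span {mon})) m0 (t := mon) ?_ ?_ ?_ ?_ ?_ ?_
    · rw [RingHom.mem_ker]
      change (Polynomial.X ^ a : Polynomial k).coeff 0 = 0
      rw [Polynomial.coeff_X_pow, if_neg (by omega)]
    · exact fun h => pow_ne_zero a Polynomial.X_ne_zero (congrArg Subtype.val h : (Polynomial.X ^ a : Polynomial k) = 0)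
    · intro s hs
      have hs0 : (s : Polynomial k).coeff 0 ≠ 0 := hs
      have hnil : IsNilpotent (Ideal.Quotient.mk (Ideal.span {mon}) (s - algebraMap k B ((s : Polynomial k).coeff 0))) := by
        refine ⟨c + a, ?_⟩
        rw [← map_pow, Ideal.Quotient.eq_zero_iff_mem, GorenSG.mem_span_iff B H hB ha]
        intro n hn
        rw [SubmonoidClass.coe_pow]
        exact Polynomial.X_pow_dvd_iff.1 (pow_dvd_pow_of_dvd (Polynomial.X_dvd_iff.2 (by simp)) (c + a)) n
          (GorenSG.Ap_lt H c hc hn)
      have h1 : IsUnit (Ideal.Quotient.mk (Ideal.span {mon}) (algebraMap k B ((s : Polynomial k).coeff 0))) :=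
        ((Ne.isUnit hs0).map (algebraMap k B)).map _
      have := hnil.isUnit_add_left_of_commute h1 (mul_comm (Ideal.Quotient.mk (Ideal.span {mon}) (s - algebraMap k B ((s : Polynomial k).coeff 0))) _)
      rwa [← map_add, add_sub_cancel] at this
    · exact Ideal.Quotient.eq_zero_iff_mem.2 (Ideal.mem_span_singleton_self _)
    · exact fun r hr => Ideal.Quotient.eq_zero_iff_mem.1 hr
    · intro z
      obtain ⟨r, rfl⟩ := Ideal.Quotient.mk_surjective z
      exact ⟨r, 1, fun h => Ideal.IsPrime.ne_top hm0 ((Ideal.eq_top_iff_one _).2 h), by rw [map_one, mul_one]⟩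
  constructor
  · intro hG
    rw [← hcl, ← step2, ← step1 m0]
    exact hG.isGorensteinLocalRing_localization (m0.comap f)
  · intro hsym
    have := hnR
    refine { isGorensteinLocalRing_localization := fun p hp => ?_ }
    by_cases htp : t ∈ p
    swap
    · have := GorenSG.regular_atPrime_of_notMem hK hg P t rfl p htp
      exact GorenBasic.isGorensteinLocalRing_of_isRegularLocalRing _
    have hle : RingHom.ker f ≤ p := hkf ▸ (Ideal.span_singleton_le_iff_mem _).2 htp
    set q := p.map f
    have hq : q.IsPrime := Ideal.map_isPrime_of_surjective hf hle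
    have hpq : q.comap f = p := by
      rw [Ideal.comap_map_of_surjective f hf, sup_eq_left]
      exact hle
    have goalq : LocCoh.IsGorensteinLocalRing (Localization.AtPrime q) := by
      by_cases hall : ∀ h (hh : h ∈ H), 0 < h → (⟨Polynomial.X ^ h, GorenSG.X_pow_mem B H hB hh⟩ : B) ∈ q
      swap
      · push Not at hall
        obtain ⟨h, hh, h0, hnm⟩ := hall
        have := GorenSG.regular_atPrime_of_monomial_notMem B H hB c hc q hh h0 hnm
        exact GorenBasic.isGorensteinLocalRing_of_isRegularLocalRing _
      have hqm : q = m0 := by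
        symm
        refine Ideal.IsMaximal.eq_of_le ?_ hq.ne_top fun u hu => ?_
        · exact RingHom.ker_isMaximal_of_surjective ε fun x => ⟨algebraMap k B x, by simp [ε]⟩
        · rw [RingHom.mem_ker] at hu
          have hu0 : (u : Polynomial k).coeff 0 = 0 := hu
          have hsum : u = ∑ n : (u : Polynomial k).support,
              (u : Polynomial k).coeff n.1 • (⟨Polynomial.X ^ n.1, GorenSG.X_pow_mem B H hB ((hB _).1 u.2 n.1 (Polynomial.mem_support_iff.1 n.2))⟩ : B) := by
            refine Subtype.ext ?_
            rw [AddSubmonoidClass.coe_finsetSum]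
            simp only [Subalgebra.coe_smul, Polynomial.smul_eq_C_mul]
            rw [Finset.sum_coe_sort _ fun n => Polynomial.C ((u : Polynomial k).coeff n) * Polynomial.X ^ n]
            exact (u : Polynomial k).as_sum_support_C_mul_X_pow
          rw [hsum]
          refine sum_mem fun n _ => ?_
          rw [Algebra.smul_def]
          refine q.mul_mem_left _ (hall n.1 ((hB _).1 u.2 n.1 (Polynomial.mem_support_iff.1 n.2)) (Nat.pos_of_ne_zero fun h => ?_))
          exact Polynomial.mem_support_iff.1 n.2 (by rw [h]; exact hu0)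
      have congrB : ∀ (p1 p2 : Ideal B) [p1.IsPrime] [p2.IsPrime], p1 = p2 →
          LocCoh.IsGorensteinLocalRing (Localization.AtPrime p1) → LocCoh.IsGorensteinLocalRing (Localization.AtPrime p2) := by
        intro p1 p2 _ _ h; subst h; exact id
      exact congrB m0 q hqm.symm (step2.2 (by rw [hcl]; exact hsym))
    have congrR : ∀ (p1 p2 : Ideal R) [p1.IsPrime] [p2.IsPrime], p1 = p2 →
        LocCoh.IsGorensteinLocalRing (Localization.AtPrime p1) → LocCoh.IsGorensteinLocalRing (Localization.AtPrime p2) := by
      intro p1 p2 _ _ h; subst h; exact id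
    exact congrR (q.comap f) p hpq ((step1 q).2 goalq)

end Groth.Agent.S18669
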