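import Groth.Statements.S1867
import Groth.Agent.S9687
import Groth.Agent.CycLib.DimFun
import Groth.Agent.FlatMorLib.FiberPoints
import Groth.Agent.FlatOverBC.NoethFibre
import Mathlib.AlgebraicGeometry.ZariskisMainTheorem
import Mathlib.FieldTheory.IntermediateField.Adjoin.Algebra

set_option autoImplicit false
universe u
open CategoryTheory AlgebraicGeometry
open Cyc

namespace Groth.Agent.S1867

theorem locallyQuasiFinite_iff {X Y : Scheme.{u}} (f : X ⟶ Y) [LocallyOfFiniteType f] :
    LocallyQuasiFinite f ↔ ∀ x, f.QuasiFiniteAt x :=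
  ⟨fun _ => f.quasiFiniteAt, fun h => Groth.Agent.FlatMorLib.locallyQuasiFinite_of_forall_finite_residueFieldMap f fun x =>
    (Groth.Agent.FlatMorLib.isClosed_singleton_asFiber_iff f x).1
      ((Groth.Agent.FlatMorLib.quasiFiniteAt_iff_isClosed_and_maximal f x).1 (h x)).1⟩

/-- Let f : X → Y be a proper morphism of integral schemes with Y locally Noetherian, mapping the
generic point to the generic point with finite extension of function fields, and let ξ be a point of
Y whose local ring has dimension 1. Then f is finite over some open neighbourhood of ξ. -/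
theorem result (X Y : Scheme.{u}) [IsIntegral X] [IsIntegral Y] [IsLocallyNoetherian Y] (f : X ⟶ Y) [IsProper f] (hgen : f (genericPoint X) = genericPoint Y) (hfin : (f.residueFieldMap (genericPoint X)).hom.Finite) (ξ : Y) (hξ : ringKrullDim (Y.presheaf.stalk ξ) = 1) : ∃ V : Y.Opens, ξ ∈ V ∧ IsFinite (f ∣_ V) := by
  have hgX : ∀ ζ : X, closure {ζ} ∈ irreducibleComponents ↥X → ζ = genericPoint X := fun ζ hζ => by
    rw [irreducibleComponents_eq_singleton] at hζ
    exact IsGenericPoint.eq (show IsGenericPoint ζ (Set.univ : Set X) from hζ) (genericPoint_spec X)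
  have hηξ : genericPoint Y ≠ ξ := by
    intro e
    have h0 : ringKrullDim (Y.presheaf.stalk (genericPoint Y)) = 0 :=
      ringKrullDim_eq_zero_of_isField (Field.toIsField Y.functionField)
    subst e
    rw [h0] at hξ
    exact zero_ne_one hξ
  -- residue field extensions over `ξ` are finite
  have hres : ∀ x : X, f x = ξ → (f.residueFieldMap x).hom.Finite := by
    intro x hx
    have hE : ∀ ζ : X, closure {ζ} ∈ irreducibleComponents ↥X → ζ ⤳ x →
        letI := (f.residueFieldMap ζ).hom.toAlgebra
        Algebra.trdeg (Y.residueField (f.base ζ)) (X.residueField ζ) ≤ (0 : ℕ) := by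
      intro ζ hζ _
      obtain rfl := hgX ζ hζ
      letI := (f.residueFieldMap (genericPoint X)).hom.toAlgebra
      haveI : Module.Finite (Y.residueField (f (genericPoint X))) (X.residueField (genericPoint X)) := hfin
      rw [Nat.cast_zero]
      exact le_of_eq trdeg_eq_zero
    obtain ⟨t, ht, hle⟩ := Groth.Agent.DimFormula.stalk_ineq f x 0 hE
    rw [show f.base x = ξ from hx, hξ, Nat.cast_zero, add_zero] at hle
    have hdim : 1 ≤ ringKrullDim (X.presheaf.stalk x) := by
      have h : genericPoint X ⤳ x := genericPoint_specializes x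
      have hlt : Groth.Agent.CycLib.specPrime h < IsLocalRing.closedPoint (X.presheaf.stalk x) := by
        refine lt_of_le_of_ne (IsLocalRing.le_maximalIdeal (Groth.Agent.CycLib.specPrime h).2.ne_top) fun e => ?_
        have e' := congrArg (X.fromSpecStalk x) e
        rw [Groth.Agent.CycLib.fromSpecStalk_specPrime] at e'
        have e'' : genericPoint X = x := e'.trans Scheme.fromSpecStalk_closedPoint
        exact hηξ (hgen.symm.trans ((congrArg f e'').trans hx))
      exact Order.one_le_krullDim_iff.2 ⟨_, _, hlt⟩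
    have ht0 : t = 0 := by
      by_contra h
      have h1 : (1 : WithBot ℕ∞) ≤ ((t : ℕ∞) : WithBot ℕ∞) := by exact_mod_cast Nat.one_le_iff_ne_zero.2 h
      have h2 := (add_le_add hdim h1).trans hle
      exact absurd h2 (by decide)
    letI := (f.residueFieldMap x).hom.toAlgebra
    rw [ht0, Nat.cast_zero, trdeg_eq_zero_iff] at ht
    haveI := ht
    haveI : Algebra.EssFiniteType (Y.residueField (f x)) (X.residueField x) :=
      RingHom.essFiniteType_algebraMap.1 (Groth.Agent.FlatOverBC.essFiniteType_residueFieldMap f x)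
    exact (Algebra.finite_of_essFiniteType_of_isAlgebraic :
      Module.Finite (Y.residueField (f x)) (X.residueField x))
  -- points over `ξ` are quasi-finite
  have hqf : ∀ x : X, f x = ξ → f.QuasiFiniteAt x := by
    intro x hx
    have hc : ∀ z : f.fiber (f x), IsClosed ({z} : Set (f.fiber (f x))) := fun z => by
      have hs : f (f.fiberι (f x) z) = f x := by
        have : f.fiberι (f x) z ∈ Set.range (f.fiberι (f x)) := ⟨z, rfl⟩
        rwa [Scheme.Hom.range_fiberι] at this
      obtain ⟨z', hz', hcl, -⟩ := Groth.Agent.FlatMorLib.asFiber_cast f hs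
      obtain rfl : z' = z := (f.fiberι (f x)).isEmbedding.injective hz'
      exact hcl.mpr ((Groth.Agent.FlatMorLib.isClosed_singleton_asFiber_iff f _).mpr (hres _ (hs.trans hx)))
    refine (Groth.Agent.FlatMorLib.quasiFiniteAt_iff_isClosed_and_maximal f x).2 ⟨hc _, fun y hy => ?_⟩
    exact (hy.mem_closed (hc y) rfl : f.asFiber x = y).symm
  let V : Y.Opens := ⟨(f '' ((f.quasiFiniteLocus : Set X)ᶜ))ᶜ,
    (f.isClosedMap _ f.quasiFiniteLocus.2.isClosed_compl).isOpen_compl⟩
  refine ⟨V, fun ⟨x, hx, hxξ⟩ => hx (hqf x hxξ), ?_⟩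
  haveI : LocallyQuasiFinite (f ∣_ V) := by
    rw [Groth.Agent.S1867.locallyQuasiFinite_iff]
    intro x
    have hx : f.QuasiFiniteAt ((f ⁻¹ᵁ V).ι x) := by
      by_contra h
      exact x.2 ⟨_, h, rfl⟩
    rw [← Scheme.Hom.quasiFiniteAt_comp_iff (g := V.ι), morphismRestrict_ι]
    exact Scheme.Hom.quasiFiniteAt_comp_iff_of_isOpenImmersion.2 hx
  exact IsFinite.of_isProper_of_locallyQuasiFinite (f ∣_ V)


end Groth.Agent.S1867
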