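import Groth.Statements.S18672
import Groth.Agent.GrInj.Basic

set_option autoImplicit false
universe u
open GrLC

namespace Groth.Agent.S18672

/-- Let R be a graded ring defined over a field k = R_0 which is Cohen–Macaulay and generated over k by
R_1 (the standing hypotheses of this section; only generation in degree one is used), q ≥ 1, R' =
R^(q), and a an integer. Then the Veronese submodule [R(a)]^(q) = ⊕_j R_{a+jq} is generated over R'
by its piece R(a)_n = R_{a+n}, where n is the smallest multiple of q with n + a ≥ 0. Here 'graded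
ring defined over a field' means R = ⊕_{n ≥ 0} R_n is Noetherian with R_0 a field, and m = R_+ is
its unique graded maximal ideal. The Veronese subring R^(q) = ⊕_j R_{jq}, regraded by (R^(q))_j =
R_{jq}, is presented abstractly as a ℤ-graded ring R' with an injective ring homomorphism φ : R' → R
carrying R'_j onto R_{jq} for every j. The module [R(a)]^(q) is presented as a graded R'-module M'
with an injective additive map g : M' → R, semilinear over φ, carrying M'_j onto R_{a+jq} for every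
j; with n = j₀q, the conclusion is that the R'-span of M'_{j₀} is all of M'. -/
theorem result (R : Type u) [CommRing R] [LocCoh.IsCohenMacaulayRing R] (𝒜 : ℤ → AddSubgroup R) [GradedRing 𝒜] (hpos : ∀ n : ℤ, n < 0 → 𝒜 n = ⊥) (h0 : IsField (GrLC.deg0 𝒜)) (hstd : Ideal.span (⋃ n ∈ Set.Ioi (0 : ℤ), (𝒜 n : Set R)) = Ideal.span ((𝒜 1 : AddSubgroup R) : Set R)) (q : ℕ) (hq : 0 < q) (R' : Type u) [CommRing R'] (𝒜' : ℤ → AddSubgroup R') [GradedRing 𝒜'] (φ : R' →+* R) (hφ : Function.Injective φ) (hdeg : ∀ j : ℤ, (𝒜' j).map (φ : R' →+ R) = 𝒜 (j * q)) (a : ℤ) (M' : Type u) [AddCommGroup M'] [Module R' M'] (ℳ' : ℤ → AddSubgroup M') [DirectSum.Decomposition ℳ'] [SetLike.GradedSMul 𝒜' ℳ'] (g : M' →ₛₗ[φ] R) (hg : Function.Injective g) (hgdeg : ∀ j : ℤ, (ℳ' j).map (g : M' →+ R) = 𝒜 (a + j * q)) (j₀ : ℤ) (hj₀ : 0 ≤ a + j₀ * q) (hj₀' : a + (j₀ - 1) * q < 0) : Submodule.span R' ((ℳ' j₀ : AddSubgroup M') : Set M') = ⊤ := by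
  classical
  have key : ∀ (k : ℕ) (x : R), x ∈ 𝒜 (k + (a + j₀ * q)) →
      x ∈ AddSubgroup.closure {z : R | ∃ c ∈ 𝒜 (k : ℤ), ∃ y ∈ 𝒜 (a + j₀ * q), z = c * y} := fun k => by
    induction k with
    | zero =>
      intro x hx
      rw [Nat.cast_zero, zero_add] at hx
      exact AddSubgroup.subset_closure ⟨1, by rw [Nat.cast_zero]; exact SetLike.GradedOne.one_mem, x, hx, (one_mul x).symm⟩
    | succ k ih =>
      intro x hx
      have hx1 : x ∈ Ideal.span ((𝒜 1 : AddSubgroup R) : Set R) := by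
        rw [← hstd]
        refine Ideal.subset_span (Set.mem_biUnion (x := ((k + 1 : ℕ) : ℤ) + (a + j₀ * q)) ?_ hx)
        simp only [Set.mem_Ioi]; omega
      have hC : ∀ y ∈ 𝒜 1, ∀ z ∈ AddSubgroup.closure {z : R | ∃ c ∈ 𝒜 (k : ℤ), ∃ y ∈ 𝒜 (a + j₀ * q), z = c * y},
          z * y ∈ AddSubgroup.closure {z : R | ∃ c ∈ 𝒜 ((k + 1 : ℕ) : ℤ), ∃ y ∈ 𝒜 (a + j₀ * q), z = c * y} := fun y hy z hz => by
        induction hz using AddSubgroup.closure_induction with
        | mem z hz =>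
          obtain ⟨c, hc, y₀, hy₀, rfl⟩ := hz
          refine AddSubgroup.subset_closure ⟨c * y, ?_, y₀, hy₀, by ring⟩
          rw [Nat.cast_add, Nat.cast_one]
          exact SetLike.GradedMul.mul_mem hc hy
        | zero => rw [zero_mul]; exact zero_mem _
        | add p r _ _ hp hr => rw [add_mul]; exact add_mem hp hr
        | neg p _ hp => rw [neg_mul]; exact neg_mem hp
      have h2 : ∀ z ∈ Ideal.span ((𝒜 1 : AddSubgroup R) : Set R),
          Groth.Agent.GrInj.proj 𝒜 (((k + 1 : ℕ) : ℤ) + (a + j₀ * q)) z ∈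
            AddSubgroup.closure {z : R | ∃ c ∈ 𝒜 ((k + 1 : ℕ) : ℤ), ∃ y ∈ 𝒜 (a + j₀ * q), z = c * y} := fun z hz => by
        obtain ⟨l, rfl⟩ := (Finsupp.mem_span_iff_linearCombination _ _ _).1 hz
        rw [Finsupp.linearCombination_apply, Finsupp.sum, map_sum]
        refine sum_mem fun y _ => ?_
        rw [Groth.Agent.GrInj.proj_smul_mem (𝒜 := 𝒜) (ℳ := 𝒜) y.2, smul_eq_mul]
        refine hC _ y.2 _ (ih _ ?_)
        have : ((k + 1 : ℕ) : ℤ) + (a + j₀ * q) - 1 = (k : ℤ) + (a + j₀ * q) := by omega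
        rw [this]
        exact Groth.Agent.GrInj.proj_mem 𝒜 _ _
      have := h2 x hx1
      rwa [Groth.Agent.GrInj.proj_of_mem 𝒜 hx] at this
  refine eq_top_iff.2 fun m _ => Groth.Agent.GrInj.mem_of_proj ℳ' _ fun j => ?_
  let S : AddSubgroup R := (Submodule.span R' ((ℳ' j₀ : AddSubgroup M') : Set M')).toAddSubgroup.map (g : M' →+ R)
  suffices g (Groth.Agent.GrInj.proj ℳ' j m) ∈ S by
    obtain ⟨w, hw, hwe⟩ := this
    exact hg hwe ▸ hw
  have hmem : g (Groth.Agent.GrInj.proj ℳ' j m) ∈ 𝒜 (a + j * q) := by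
    rw [← hgdeg]; exact ⟨_, Groth.Agent.GrInj.proj_mem ℳ' j m, rfl⟩
  rcases lt_or_ge j j₀ with hlt | hge
  · have : a + j * q < 0 := by nlinarith
    rw [hpos _ this, AddSubgroup.mem_bot] at hmem
    rw [hmem]; exact zero_mem _
  · obtain ⟨k, hk⟩ := Int.eq_ofNat_of_zero_le (a := (j - j₀) * q) (by nlinarith)
    rw [show a + j * q = (k : ℤ) + (a + j₀ * q) by rw [← hk]; ring] at hmem
    refine (AddSubgroup.closure_le (K := S)).2 ?_ (key k _ hmem)
    rintro _ ⟨c, hc, y, hy, rfl⟩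
    rw [← hk, ← hdeg] at hc
    obtain ⟨r, -, rfl⟩ := hc
    rw [← hgdeg] at hy
    obtain ⟨m₀, hm₀, rfl⟩ := hy
    exact ⟨r • m₀, Submodule.smul_mem _ r (Submodule.subset_span hm₀), g.map_smulₛₗ r m₀⟩

end Groth.Agent.S18672
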