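import Groth.Statements.S1868
import Groth.Agent.FiniteFlatDegree.Basic
import Groth.Agent.DimFunLift.RelDim
import Groth.Agent.DimTheory.ZeroDim
import Groth.Agent.DimTheory.IrrFibres

set_option autoImplicit false
universe u
open CategoryTheory AlgebraicGeometry
open Cyc

namespace Groth.Agent.S1868

/-- Let f : X → Y be finite locally free of constant degree d (finite, flat, rank function constantly
d). Then f has relative dimension 0 and for every k-cycle α on Y, f_*(f^*α) = d·α (for any cycle
f^*α on X with the flat-pullback coefficients). Here a pair (X, δ) with Cyc.IsSetup plays the role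
of a scheme locally of finite type over a fixed base with a dimension function (X locally Noetherian
with universally catenary local rings, δ a dimension function), and Cyc.DeltaCompat records that the
dimension function upstairs is the induced one. -/
theorem result (X Y : Scheme.{u}) (δX : X → ℤ) (δY : Y → ℤ) (hX : Cyc.IsSetup X δX) (hY : Cyc.IsSetup Y δY) (f : X ⟶ Y) [IsFinite f] [Flat f] (d : ℕ) (hd : ∀ y : Y, f.finrank y = d) (hδ : Cyc.DeltaCompat f δX δY) (k : ℤ) : Cyc.HasRelDim f 0 ∧ ∀ (α : AlgebraicCycle Y ℤ), α ∈ Cyc.Zk Y δY k → ∀ α' : AlgebraicCycle X ℤ, ⇑α' = Cyc.pullFun f δX δY 0 ⇑α → AlgebraicCycle.map f δX δY α' = d • α := by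
  have hdisc : ∀ y : Y, DiscreteTopology ↥(f.fiber y) := fun y => by
    have hq : IsFinite (f.fiberToSpecResidueField y) := MorphismProperty.pullback_snd _ _ inferInstance
    exact @DimTheory.ZeroDim.discreteTopology_of_isFinite _ _ _ (f.fiberToSpecResidueField y) hq
  have h0 : ∀ (y : Y) (z : f.fiber y), Order.height z = 0 := fun y z => by
    haveI := hdisc y
    exact DimTheory.height_eq_zero_of_isClosed (isClosed_discrete _)
  refine ⟨fun y T hT => ?_, fun α _ α' hα' => ?_⟩
  · haveI := hdisc y
    have hc : IsClosed T := isClosed_discrete _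
    rw [← hT.1.closure_genericPoint hc, DimTheory.topologicalKrullDim_closure, h0]
    rfl
  ext y
  have hδ0 : ∀ x : X, δX x = δY (f x) := fun x => by
    obtain ⟨n, hn, hn'⟩ := hδ x
    obtain ⟨n', hn1, hn2⟩ := DimFunLift.height_fiber f (f x) (f.asFiber x)
    rw [f.fiberι_asFiber] at hn1
    rw [h0] at hn2
    have e : n = n' := Nat.cast_injective (R := Cardinal.{u}) (hn.symm.trans hn1)
    have : n' = 0 := by exact_mod_cast hn2.symm
    omega
  show (∑ᶠ x ∈ ((f : X → Y) ⁻¹' {y}), α' x * ((AlgebraicCycle.mapCoeff f δX δY x : ℕ) : ℤ)) = (d • α) y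
  rw [← Scheme.Hom.range_fiberι, finsum_mem_range (f.fiberι y).isEmbedding.injective]
  obtain ⟨hfin, hsum⟩ := FiniteFlatDegree.finsum_fibre f y
  have hterm : ∀ z : f.fiber y, α' (f.fiberι y z) * ((AlgebraicCycle.mapCoeff f δX δY (f.fiberι y z) : ℕ) : ℤ) =
      α y * ((DimFunLift.pullLen f (f.fiberι y z) * f.residueDegree (f.fiberι y z) : ℕ) : ℤ) := by
    intro z
    have hy : f (f.fiberι y z) = y := FlatEquidim.fiberι_apply_eq f y z
    rw [hα']
    unfold Cyc.pullFun AlgebraicCycle.mapCoeff DimFunLift.pullLen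
    rw [if_pos (by rw [hδ0]; simp), if_pos (hδ0 _), show α (f (f.fiberι y z)) = α y from congrArg α hy, Nat.cast_mul, mul_assoc]
  haveI := Fintype.ofFinite ↥(f.fiber y)
  rw [finsum_congr hterm, ← hd y, ← hsum, finsum_eq_sum_of_fintype, finsum_eq_sum_of_fintype, ← Finset.mul_sum,
    Function.locallyFinsuppWithin.coe_nsmul, Pi.smul_apply, nsmul_eq_mul, Nat.cast_sum]
  exact mul_comm _ _

end Groth.Agent.S1868
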