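import Groth.Statements.S18686
import Groth.Agent.GLatLib.Cover
-- import your own Groth.Agent.* helpers here

set_option autoImplicit false
open GLat

namespace Groth.Agent.S18686

theorem flasque_dual {G Q : Type} [Group G] [Finite G] [AddCommGroup Q] [Module.Finite ℤ Q] [Module.Free ℤ Q]
    (σ : Representation ℤ G Q) (hQ : GLat.IsCoflasque σ) : GLat.IsFlasque σ.dual := by
  classical
  intro H φ hφ
  haveI := Fintype.ofFinite H
  rw [finsum_eq_sum_of_fintype] at hφ
  let δ : Q →ₗ[ℤ] (H → Q) := LinearMap.pi fun h => σ (h : G) - LinearMap.id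
  have hker : LinearMap.ker δ ≤ LinearMap.ker φ := fun q hq => by
    have hfix : ∀ h : H, σ (h : G) q = q := fun h => sub_eq_zero.1 (congrFun hq h)
    have h1 := LinearMap.congr_fun hφ q
    rw [LinearMap.sum_apply] at h1
    simp only [Representation.dual_apply, Module.Dual.transpose_apply, LinearMap.comp_apply,
      ← InvMemClass.coe_inv, hfix, LinearMap.zero_apply, Finset.sum_const, Finset.card_univ] at h1
    rw [LinearMap.mem_ker]
    simpa [Fintype.card_ne_zero] using h1
  let R := LinearMap.range δ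
  haveI : Module.IsTorsionFree ℤ ((H → Q) ⧸ R) := by
    refine Module.isTorsionFree_iff_smul_eq_zero.2 fun c x hx => ?_
    obtain ⟨f, rfl⟩ := Submodule.Quotient.mk_surjective _ x
    rcases eq_or_ne c 0 with hc | hc
    · exact Or.inl hc
    refine Or.inr ((Submodule.Quotient.mk_eq_zero _).2 ?_)
    rw [← Submodule.Quotient.mk_smul, Submodule.Quotient.mk_eq_zero] at hx
    obtain ⟨q, hq⟩ := hx
    have hcoc : ∀ a b : H, f (a * b) = f a + σ (a : G) (f b) := fun a b => by
      have e : ∀ h : H, c • f h = σ (h : G) q - q := fun h => (congrFun hq h).symm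
      refine smul_right_injective Q hc ?_
      simp only [smul_add, ← map_smul, e, Subgroup.coe_mul, map_mul, Module.End.mul_apply, map_sub]
      abel
    obtain ⟨m, hm⟩ := hQ H f hcoc
    exact ⟨m, funext fun h => (hm h).symm⟩
  haveI : Module.Free ℤ ((H → Q) ⧸ R) := inferInstance
  obtain ⟨s, hs⟩ := Module.projective_lifting_property R.mkQ LinearMap.id (Submodule.mkQ_surjective R)
  let p : (H → Q) →ₗ[ℤ] R := (LinearMap.id - s ∘ₗ R.mkQ).codRestrict R fun f => by
    have h2 := LinearMap.congr_fun hs (R.mkQ f)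
    rw [← Submodule.Quotient.mk_eq_zero]
    show R.mkQ (f - s (R.mkQ f)) = 0
    rw [map_sub]
    exact sub_eq_zero.2 h2.symm
  let Φ : (H → Q) →ₗ[ℤ] ℤ := (LinearMap.ker δ).liftQ φ hker ∘ₗ δ.quotKerEquivRange.symm.toLinearMap ∘ₗ p
  have hΦ : ∀ q, Φ (δ q) = φ q := fun q => by
    have : p (δ q) = ⟨δ q, LinearMap.mem_range_self δ q⟩ := Subtype.ext (by
      show δ q - s (R.mkQ (δ q)) = δ q
      rw [show R.mkQ (δ q) = 0 from (Submodule.Quotient.mk_eq_zero _).2 (LinearMap.mem_range_self δ q), map_zero, sub_zero])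
    show (LinearMap.ker δ).liftQ φ hker (δ.quotKerEquivRange.symm (p (δ q))) = φ q
    rw [this, LinearMap.quotKerEquivRange_symm_apply_image]
    rfl
  have hsum : φ = ∑ h : H, (σ.dual ((h⁻¹ : H) : G) (Φ ∘ₗ LinearMap.single ℤ (fun _ : H => Q) h) - Φ ∘ₗ LinearMap.single ℤ (fun _ : H => Q) h) := by
    ext q
    rw [← hΦ q]
    conv_lhs => rw [← Finset.univ_sum_single (δ q), map_sum]
    simp only [LinearMap.sum_apply, LinearMap.sub_apply, Representation.dual_apply, Module.Dual.transpose_apply,
      LinearMap.comp_apply, InvMemClass.coe_inv, inv_inv]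
    refine Finset.sum_congr rfl fun h _ => ?_
    rw [← map_sub, ← map_sub]
    rfl
  rw [hsum]
  exact Submodule.sum_mem _ fun h _ => Submodule.subset_span ⟨h⁻¹, _, rfl⟩

/-- For a finite group G and a G-lattice A (finitely generated and free over ℤ) there is an exact
sequence 0 → A → P → F → 0 of G-lattices with P a permutation lattice and F flasque (a flasque
resolution of A); rendered by equivariant ℤ-linear maps i : A → P injective, π : P → F surjective,
with range i = ker π. -/
theorem result (G : Type) [Group G] [Finite G]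
    (A : Type) [AddCommGroup A] [Module.Finite ℤ A] [Module.Free ℤ A] (ρ : Representation ℤ G A) :
    ∃ (P : Type) (_ : AddCommGroup P) (F : Type) (_ : AddCommGroup F)
      (_ : Module.Finite ℤ P) (_ : Module.Free ℤ P) (_ : Module.Finite ℤ F) (_ : Module.Free ℤ F)
      (σ : Representation ℤ G P) (τ : Representation ℤ G F) (i : A →ₗ[ℤ] P) (π : P →ₗ[ℤ] F),
      GLat.IsEquivariant ρ σ i ∧ GLat.IsEquivariant σ τ π ∧ Function.Injective i ∧ Function.Surjective π ∧
      LinearMap.range i = LinearMap.ker π ∧ GLat.IsPermutation σ ∧ GLat.IsFlasque τ := by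
  classical
  obtain ⟨ι, hfin, act, π, σ, hi, hπ, hsurj, hcof⟩ := Groth.Agent.GLatLib.exists_coflasque_resolution ρ.dual
  haveI : Module.Finite ℤ (ι →₀ ℤ) := Module.Finite.of_basis Finsupp.basisSingleOne
  haveI : IsNoetherian ℤ (ι →₀ ℤ) := inferInstance
  let e : Module.Basis ι ℤ (Module.Dual ℤ (ι →₀ ℤ)) := (Finsupp.basisSingleOne (R := ℤ)).dualBasis
  let ev := (Module.evalEquiv ℤ A).toLinearMap
  let i : A →ₗ[ℤ] Module.Dual ℤ (ι →₀ ℤ) := π.dualMap ∘ₗ ev
  obtain ⟨s, hs⟩ := Module.projective_lifting_property π LinearMap.id hsurj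
  have hs' : ∀ a, π (s a) = a := fun a => LinearMap.congr_fun hs a
  refine ⟨Module.Dual ℤ (ι →₀ ℤ), inferInstance, Module.Dual ℤ (LinearMap.ker π), inferInstance, inferInstance,
    inferInstance, inferInstance, inferInstance, (Groth.Agent.GLatLib.permRep ι).dual, σ.dual, i,
    (LinearMap.ker π).subtype.dualMap, fun g a => ?_, fun g f => ?_, ?_, ?_, ?_, ?_, flasque_dual σ hcof⟩
  · ext x
    show π (Finsupp.single x 1) (ρ g a) = π (Groth.Agent.GLatLib.permRep ι g⁻¹ (Finsupp.single x 1)) a
    rw [hπ g⁻¹]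
    simp [Representation.dual_apply, Module.Dual.transpose_apply]
  · ext x
    show f (Groth.Agent.GLatLib.permRep ι g⁻¹ (x : ι →₀ ℤ)) = f ((σ g⁻¹ x : LinearMap.ker π) : ι →₀ ℤ)
    rw [show ((σ g⁻¹ x : LinearMap.ker π) : ι →₀ ℤ) = Groth.Agent.GLatLib.permRep ι g⁻¹ (x : ι →₀ ℤ) from hi g⁻¹ x]
  · exact (LinearMap.dualMap_injective_of_surjective hsurj).comp (Module.evalEquiv ℤ A).injective
  · intro f
    refine ⟨f ∘ₗ (LinearMap.id - s ∘ₗ π).codRestrict (LinearMap.ker π) (fun x => by simp [hs']), ?_⟩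
    ext x
    simp only [LinearMap.dualMap_apply', LinearMap.comp_apply]
    congr 1
    ext1
    simp [LinearMap.mem_ker.1 x.2]
  · rw [LinearMap.range_comp, LinearEquiv.range, Submodule.map_top,
      LinearMap.range_dualMap_eq_dualAnnihilator_ker_of_surjective π hsurj]
    ext f
    simp [Submodule.mem_dualAnnihilator, LinearMap.ext_iff]
  · refine ⟨ι, e, fun g j => ⟨g • j, ?_⟩⟩
    refine (Finsupp.basisSingleOne (R := ℤ)).ext fun x => ?_
    simp only [e, Module.Basis.coe_dualBasis, Finsupp.coe_basisSingleOne, Representation.dual_apply,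
      Module.Dual.transpose_apply, LinearMap.comp_apply, Groth.Agent.GLatLib.permRep_single,
      Module.Basis.coord_apply, Finsupp.basisSingleOne_repr, LinearEquiv.refl_apply, Finsupp.single_apply]
    simp only [inv_smul_eq_iff]

end Groth.Agent.S18686
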