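import Groth.Statements.S18685
import Groth.Agent.GLatLib.Cover
import Groth.Agent.S18686
-- import your own Groth.Agent.* helpers here

set_option autoImplicit false
open GLat

namespace Groth.Agent.S18685

open Groth.Agent.GLatLib in
theorem flasque_permRep {G : Type} [Group G] [Finite G] (ι : Type) [Finite ι] [MulAction G ι] :
    GLat.IsFlasque (permRep (G := G) ι) := by
  classical
  haveI : Module.Finite ℤ (ι →₀ ℤ) := Module.Finite.of_basis Finsupp.basisSingleOne
  let e : (ι →₀ ℤ) ≃ₗ[ℤ] Module.Dual ℤ (ι →₀ ℤ) := (Finsupp.basisSingleOne (R := ℤ)).toDualEquiv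
  have he : ∀ (g : G) m, e (permRep ι g m) = (permRep ι).dual g (e m) := by
    intro g m
    refine LinearMap.congr_fun ((Finsupp.basisSingleOne (R := ℤ)).ext (f₁ := e.toLinearMap ∘ₗ permRep ι g)
      (f₂ := (permRep ι).dual g ∘ₗ e.toLinearMap) fun x => ?_) m
    refine (Finsupp.basisSingleOne (R := ℤ)).ext fun y => ?_
    show (Finsupp.basisSingleOne (R := ℤ)).toDual (permRep ι g (Finsupp.basisSingleOne x)) (Finsupp.basisSingleOne y) =
      (Finsupp.basisSingleOne (R := ℤ)).toDual (Finsupp.basisSingleOne x) (permRep ι g⁻¹ (Finsupp.basisSingleOne y))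
    simp only [Finsupp.coe_basisSingleOne, permRep_single]
    rw [show Finsupp.single (g • x) (1 : ℤ) = Finsupp.basisSingleOne (g • x) by simp,
      show Finsupp.single y (1 : ℤ) = Finsupp.basisSingleOne y by simp,
      show Finsupp.single x (1 : ℤ) = Finsupp.basisSingleOne x by simp,
      show Finsupp.single (g⁻¹ • y) (1 : ℤ) = Finsupp.basisSingleOne (g⁻¹ • y) by simp,
      Module.Basis.toDual_apply, Module.Basis.toDual_apply]
    simp only [eq_inv_smul_iff]
  intro H m hm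
  haveI := Fintype.ofFinite H
  have h0 : (∑ᶠ h : H, (permRep ι).dual (h : G) (e m)) = 0 := by
    rw [finsum_eq_sum_of_fintype] at hm ⊢
    simp only [← he, ← map_sum, hm, map_zero]
  have h1 := Groth.Agent.S18686.flasque_dual (permRep ι) (coflasque_permRep ι) H (e m) h0
  have h2 : e.symm (e m) ∈ Submodule.map e.symm.toLinearMap _ := Submodule.mem_map_of_mem h1
  rw [e.symm_apply_apply, Submodule.map_span] at h2
  refine Submodule.span_mono ?_ h2
  rintro _ ⟨_, ⟨h, y, rfl⟩, rfl⟩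
  exact ⟨h, e.symm y, e.injective (by simp [he])⟩

/-- For a finite group G and a finitely generated G-module A there is an exact sequence 0 → P → F → A →
0 of finitely generated G-modules with P a permutation lattice and F a flasque lattice; rendered by
equivariant ℤ-linear maps i : P → F injective, π : F → A surjective, with range i = ker π. -/
theorem result (G : Type) [Group G] [Finite G]
    (A : Type) [AddCommGroup A] [Module.Finite ℤ A] (ρ : Representation ℤ G A) :
    ∃ (P : Type) (_ : AddCommGroup P) (F : Type) (_ : AddCommGroup F)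
      (_ : Module.Finite ℤ P) (_ : Module.Free ℤ P) (_ : Module.Finite ℤ F) (_ : Module.Free ℤ F)
      (σ : Representation ℤ G P) (τ : Representation ℤ G F) (i : P →ₗ[ℤ] F) (π : F →ₗ[ℤ] A),
      GLat.IsEquivariant σ τ i ∧ GLat.IsEquivariant τ ρ π ∧ Function.Injective i ∧ Function.Surjective π ∧
      LinearMap.range i = LinearMap.ker π ∧ GLat.IsPermutation σ ∧ GLat.IsFlasque τ := by
  classical
  obtain ⟨ι, hfin, act, π, σR, hiR, hπ, hsurj, -⟩ := Groth.Agent.GLatLib.exists_coflasque_resolution ρ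
  haveI : Module.Finite ℤ (ι →₀ ℤ) := Module.Finite.of_basis Finsupp.basisSingleOne
  haveI : IsNoetherian ℤ (ι →₀ ℤ) := inferInstance
  obtain ⟨P, _, F₀, _, _, _, _, _, σ₀, τ₀, i, π₀, hi, hπ₀, hinj, hsurj₀, hex, hperm, hfl⟩ :=
    Groth.Agent.S18686.result G (LinearMap.ker π) σR
  let j : LinearMap.ker π →ₗ[ℤ] (ι →₀ ℤ) × P := LinearMap.prod (LinearMap.ker π).subtype (-i)
  let W := LinearMap.range j
  let ρ' : Representation ℤ G ((ι →₀ ℤ) × P) := (Groth.Agent.GLatLib.permRep ι).prod σ₀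
  have hW : ∀ g : G, W ≤ W.comap (ρ' g) := by
    rintro g _ ⟨r, rfl⟩
    exact ⟨σR g r, Prod.ext (hiR g r) (by
      show -i (σR g r) = σ₀ g (-i r)
      rw [hi, map_neg])⟩
  let τ : Representation ℤ G (((ι →₀ ℤ) × P) ⧸ W) :=
    { toFun := fun g => W.mapQ W (ρ' g) (hW g)
      map_one' := Submodule.linearMap_qext _ (LinearMap.ext fun x => by simp)
      map_mul' := fun g g' => Submodule.linearMap_qext _ (LinearMap.ext fun x => by simp [map_mul]) }
  let π' : ((ι →₀ ℤ) × P) ⧸ W →ₗ[ℤ] A := W.liftQ (π ∘ₗ LinearMap.fst ℤ _ _) (by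
    rintro _ ⟨r, rfl⟩; exact r.2)
  let ψ : ((ι →₀ ℤ) × P) ⧸ W →ₗ[ℤ] F₀ := W.liftQ (π₀ ∘ₗ LinearMap.snd ℤ _ _) (by
    rintro _ ⟨r, rfl⟩
    show π₀ (-i r) = 0
    rw [map_neg, LinearMap.mem_ker.1 (hex.le ⟨r, rfl⟩), neg_zero])
  let e : (ι →₀ ℤ) →ₗ[ℤ] ((ι →₀ ℤ) × P) ⧸ W := W.mkQ ∘ₗ LinearMap.inl ℤ _ _
  have hψτ : ∀ g x, ψ (τ g x) = τ₀ g (ψ x) := by
    intro g x
    obtain ⟨x, rfl⟩ := Submodule.Quotient.mk_surjective W x
    exact hπ₀ g x.2
  have heinj : ∀ u, e u = 0 → u = 0 := by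
    intro u hu
    obtain ⟨r, hr⟩ := (Submodule.Quotient.mk_eq_zero W).1 hu
    have h2 : -i r = 0 := congrArg Prod.snd hr
    rw [show u = (r : ι →₀ ℤ) from (congrArg Prod.fst hr).symm, hinj (show i r = i 0 by rw [map_zero]; exact neg_eq_zero.1 h2)]
    rfl
  have hker : ∀ x, ψ x = 0 → ∃ u, e u = x := by
    intro x hx
    obtain ⟨⟨u, p⟩, rfl⟩ := Submodule.Quotient.mk_surjective W x
    obtain ⟨r, hr⟩ := hex.ge (LinearMap.mem_ker.2 (show π₀ p = 0 from hx))
    refine ⟨u + r, (Submodule.Quotient.eq W).2 ⟨r, Prod.ext ?_ ?_⟩⟩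
    · show (r : ι →₀ ℤ) = u + r - u; abel
    · show -i r = 0 - p; rw [hr]; abel
  haveI : Module.IsTorsionFree ℤ (((ι →₀ ℤ) × P) ⧸ W) := by
    refine Module.isTorsionFree_iff_smul_eq_zero.2 fun c x hx => ?_
    rcases eq_or_ne c 0 with hc | hc
    · exact Or.inl hc
    refine Or.inr ?_
    have h1 : ψ x = 0 := (smul_eq_zero.1 ((map_smul ψ c x).symm.trans (by rw [hx, map_zero]))).resolve_left hc
    obtain ⟨u, rfl⟩ := hker x h1
    rw [← map_smul] at hx
    rw [(smul_eq_zero.1 (heinj _ hx)).resolve_left hc, map_zero]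
  haveI : Module.Finite ℤ (((ι →₀ ℤ) × P) ⧸ W) := inferInstance
  haveI : Module.Free ℤ (((ι →₀ ℤ) × P) ⧸ W) := inferInstance
  refine ⟨P, inferInstance, _, inferInstance, inferInstance, inferInstance, inferInstance, inferInstance,
    σ₀, τ, W.mkQ ∘ₗ LinearMap.inr ℤ _ _, π', fun g p => ?_, fun g x => ?_, ?_, fun a => ?_, ?_, hperm, ?_⟩
  · exact congrArg (Submodule.Quotient.mk (p := W)) (Prod.ext (show (0 : ι →₀ ℤ) = Groth.Agent.GLatLib.permRep ι g 0 from (map_zero _).symm) rfl)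
  · obtain ⟨x, rfl⟩ := Submodule.Quotient.mk_surjective W x
    exact hπ g x.1
  · refine (injective_iff_map_eq_zero _).2 fun p hp => ?_
    obtain ⟨r, hr⟩ := (Submodule.Quotient.mk_eq_zero W).1 hp
    have h2 : (r : ι →₀ ℤ) = 0 := congrArg Prod.fst hr
    rw [show p = -i r from (congrArg Prod.snd hr).symm, show r = 0 from Subtype.ext h2, map_zero, neg_zero]
  · obtain ⟨u, hu⟩ := hsurj a
    exact ⟨Submodule.Quotient.mk (u, 0), hu⟩
  · ext x
    obtain ⟨⟨u, p⟩, rfl⟩ := Submodule.Quotient.mk_surjective W x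
    constructor
    · rintro ⟨q, hq⟩
      rw [← hq]
      exact map_zero π
    · intro hu
      refine ⟨p + i ⟨u, hu⟩, (Submodule.Quotient.eq W).2 ⟨-⟨u, hu⟩, Prod.ext ?_ ?_⟩⟩
      · show -u = 0 - u; abel
      · show -i (-⟨u, hu⟩) = p + i ⟨u, hu⟩ - p; rw [map_neg]; abel
  · intro H x hx
    haveI := Fintype.ofFinite H
    rw [finsum_eq_sum_of_fintype] at hx
    let S := Submodule.span ℤ {x | ∃ (h : H) (y : ((ι →₀ ℤ) × P) ⧸ W), x = τ (h : G) y - y}
    let N : (((ι →₀ ℤ) × P) ⧸ W) →ₗ[ℤ] (((ι →₀ ℤ) × P) ⧸ W) := ∑ h : H, τ (h : G)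
    have hN : ∀ y ∈ S, N y = 0 := by
      intro y hy
      refine LinearMap.mem_ker.1 ((Submodule.span_le.2 ?_) hy)
      rintro _ ⟨h, y, rfl⟩
      show (∑ h : H, τ (h : G)) (τ (h : G) y - y) = 0
      simp only [LinearMap.sum_apply, map_sub, Finset.sum_sub_distrib, ← Module.End.mul_apply, ← map_mul]
      exact sub_eq_zero.2 (Fintype.sum_equiv (Equiv.mulRight h) _ _ fun a => rfl)
    have h1 : ψ x ∈ Submodule.span ℤ {y | ∃ (h : H) (z : F₀), y = τ₀ (h : G) z - z} :=
      hfl H (ψ x) (by rw [finsum_eq_sum_of_fintype]; simp only [← hψτ, ← map_sum, hx, map_zero])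
    have hsurjψ : Function.Surjective ψ := fun z => by
      obtain ⟨p, hp⟩ := hsurj₀ z
      exact ⟨Submodule.Quotient.mk (0, p), hp⟩
    have h2 : ψ x ∈ S.map ψ := (Submodule.span_le.2 (by
      rintro _ ⟨h, z, rfl⟩
      obtain ⟨y, rfl⟩ := hsurjψ z
      exact ⟨_, Submodule.subset_span ⟨h, y, rfl⟩, by rw [map_sub, hψτ]⟩)) h1
    obtain ⟨x', hx', hxx⟩ := h2
    obtain ⟨u, hu⟩ := hker (x - x') (by rw [map_sub, hxx, sub_self])
    have heτ : ∀ g v, e (Groth.Agent.GLatLib.permRep ι g v) = τ g (e v) := fun g v =>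
      congrArg (Submodule.Quotient.mk (p := W)) (Prod.ext rfl (show (0 : P) = σ₀ g 0 from (map_zero _).symm))
    have h3 : u ∈ Submodule.span ℤ {v | ∃ (h : H) (w : ι →₀ ℤ), v = Groth.Agent.GLatLib.permRep ι (h : G) w - w} := by
      refine flasque_permRep ι H u ?_
      rw [finsum_eq_sum_of_fintype]
      refine heinj _ ?_
      have h4 : N (x - x') = 0 := by
        rw [map_sub, hN x' hx', sub_zero]
        simpa [N, LinearMap.sum_apply] using hx
      rw [map_sum]
      simp only [heτ, hu]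
      simpa [N, LinearMap.sum_apply] using h4
    have h5 : e u ∈ S := by
      have := Submodule.mem_map_of_mem (f := e) h3
      rw [Submodule.map_span] at this
      refine Submodule.span_mono ?_ this
      rintro _ ⟨_, ⟨h, w, rfl⟩, rfl⟩
      exact ⟨h, e w, by rw [map_sub, heτ]⟩
    rw [← sub_add_cancel x x', ← hu]
    exact add_mem h5 hx' 

end Groth.Agent.S18685
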