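import Groth.Statements.S18687
import Groth.Agent.GLatLib.Cover
import Groth.Agent.S18686
-- import your own Groth.Agent.* helpers here

set_option autoImplicit false
open GLat

namespace Groth.Agent.S18687

/-- For a finite group G and a G-lattice A (finitely generated and free over ℤ) there is an exact
sequence 0 → A → Q → P → 0 of G-lattices with Q coflasque and P a permutation lattice (a coflasque
resolution of A); rendered by equivariant ℤ-linear maps i : A → Q injective, π : Q → P surjective,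
with range i = ker π. -/
theorem result (G : Type) [Group G] [Finite G]
    (A : Type) [AddCommGroup A] [Module.Finite ℤ A] [Module.Free ℤ A] (ρ : Representation ℤ G A) :
    ∃ (Q : Type) (_ : AddCommGroup Q) (P : Type) (_ : AddCommGroup P)
      (_ : Module.Finite ℤ Q) (_ : Module.Free ℤ Q) (_ : Module.Finite ℤ P) (_ : Module.Free ℤ P)
      (σ : Representation ℤ G Q) (τ : Representation ℤ G P) (i : A →ₗ[ℤ] Q) (π : Q →ₗ[ℤ] P),
      GLat.IsEquivariant ρ σ i ∧ GLat.IsEquivariant σ τ π ∧ Function.Injective i ∧ Function.Surjective π ∧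
      LinearMap.range i = LinearMap.ker π ∧ GLat.IsCoflasque σ ∧ GLat.IsPermutation τ := by
  classical
  obtain ⟨P₀, _, F₀, _, _, _, _, _, σ₀, τ₀, i, π₀, hi, hπ₀, hinj, hsurj₀, hex, ⟨ι₀, b₀, hb₀⟩, -⟩ :=
    Groth.Agent.S18686.result G A ρ
  obtain ⟨ι, hfin, act, π₁, σ₁, hi₁, hπ₁, hsurj₁, hcof₁⟩ := Groth.Agent.GLatLib.exists_coflasque_resolution τ₀
  haveI : Module.Finite ℤ (ι →₀ ℤ) := Module.Finite.of_basis Finsupp.basisSingleOne
  let δ : P₀ × (ι →₀ ℤ) →ₗ[ℤ] F₀ := π₀ ∘ₗ LinearMap.fst ℤ _ _ - π₁ ∘ₗ LinearMap.snd ℤ _ _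
  let E := LinearMap.ker δ
  let ρE : Representation ℤ G (P₀ × (ι →₀ ℤ)) := σ₀.prod (Groth.Agent.GLatLib.permRep ι)
  have hδ : ∀ g x, δ (ρE g x) = τ₀ g (δ x) := fun g x => by
    simp [δ, ρE, Representation.prod, hπ₀ g x.1, hπ₁ g x.2]
  have hinv : ∀ g : G, ∀ x ∈ E, ρE g x ∈ E := fun g x hx => by
    rw [LinearMap.mem_ker, hδ, LinearMap.mem_ker.1 hx, map_zero]
  let σ : Representation ℤ G E :=
    { toFun := fun g => (ρE g).restrict (hinv g)
      map_one' := by ext p <;> simp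
      map_mul' := fun g g' => by ext p <;> simp [map_mul] }
  have hiE : ∀ a, (i a, (0 : ι →₀ ℤ)) ∈ E := fun a => by
    simp only [E, δ, LinearMap.mem_ker, LinearMap.sub_apply, LinearMap.comp_apply, LinearMap.fst_apply,
      LinearMap.snd_apply, map_zero, sub_zero]
    exact LinearMap.mem_ker.1 (hex.le ⟨a, rfl⟩)
  refine ⟨E, inferInstance, ι →₀ ℤ, inferInstance, inferInstance, inferInstance, inferInstance, inferInstance,
    σ, Groth.Agent.GLatLib.permRep ι, ((LinearMap.inl ℤ P₀ (ι →₀ ℤ)) ∘ₗ i).codRestrict E hiE,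
    LinearMap.snd ℤ P₀ (ι →₀ ℤ) ∘ₗ E.subtype, fun g a => Subtype.ext (Prod.ext (hi g a) (show (0 : ι →₀ ℤ) = Groth.Agent.GLatLib.permRep ι g 0 from (map_zero _).symm)),
    fun g x => rfl, fun a b h => hinj (congrArg (fun x : E => x.1.1) h), fun p => ?_, ?_, ?_,
    Groth.Agent.GLatLib.isPermutation_permRep ι⟩
  · obtain ⟨m, hm⟩ := hsurj₀ (π₁ p)
    exact ⟨⟨(m, p), by simp [E, δ, hm]⟩, rfl⟩
  · ext ⟨⟨m, p⟩, hx⟩
    simp only [LinearMap.mem_range, LinearMap.mem_ker, LinearMap.comp_apply, Submodule.subtype_apply, LinearMap.snd_apply]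
    constructor
    · rintro ⟨a, ha⟩; exact (congrArg (fun x : E => x.1.2) ha).symm
    · intro hp
      subst hp
      obtain ⟨a, ha⟩ := hex.ge (show m ∈ LinearMap.ker π₀ by simpa [E, δ] using hx)
      exact ⟨a, Subtype.ext (Prod.ext ha rfl)⟩
  · intro H f hf
    have hperm : GLat.IsCoflasque σ₀ := by
      haveI : Finite ι₀ := Module.Finite.finite_basis b₀
      choose act₀ hact₀ using hb₀
      letI : MulAction G ι₀ :=
        { smul := act₀
          one_smul := fun x => b₀.injective (show b₀ (act₀ 1 x) = b₀ x by rw [← hact₀]; simp)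
          mul_smul := fun g g' x => b₀.injective (show b₀ (act₀ (g * g') x) = b₀ (act₀ g (act₀ g' x)) by
            rw [← hact₀, ← hact₀, ← hact₀, map_mul, Module.End.mul_apply]) }
      have he : ∀ g m, b₀.repr (σ₀ g m) = Groth.Agent.GLatLib.permRep ι₀ g (b₀.repr m) := fun g m =>
        LinearMap.congr_fun (b₀.ext (f₁ := b₀.repr.toLinearMap ∘ₗ σ₀ g)
          (f₂ := Groth.Agent.GLatLib.permRep ι₀ g ∘ₗ b₀.repr.toLinearMap) fun x => by
            show b₀.repr (σ₀ g (b₀ x)) = Groth.Agent.GLatLib.permRep ι₀ g (b₀.repr (b₀ x))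
            rw [hact₀, b₀.repr_self, b₀.repr_self, Groth.Agent.GLatLib.permRep_single]
            rfl) m
      intro H f hf
      obtain ⟨m, hm⟩ := Groth.Agent.GLatLib.coflasque_permRep ι₀ H (fun a => b₀.repr (f a))
        fun a b => by rw [hf, map_add, he]
      refine ⟨b₀.repr.symm m, fun a => b₀.repr.injective ?_⟩
      rw [map_sub, he, LinearEquiv.apply_symm_apply]
      exact hm a
    obtain ⟨m, hm⟩ := hperm H (fun a => (f a).1.1) fun a b => congrArg (fun x : E => x.1.1) (hf a b)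
    obtain ⟨p, hp⟩ := hsurj₁ (π₀ m)
    let e : E := ⟨(m, p), by simp [E, δ, hp]⟩
    let f' : H → E := fun a => f a - (σ (a : G) e - e)
    have hf'1 : ∀ a, (f' a).1.1 = 0 := fun a => by
      show (f a).1.1 - (σ₀ (a : G) m - m) = 0
      rw [hm a, sub_self]
    have hf'2 : ∀ a, (f' a).1.2 ∈ LinearMap.ker π₁ := fun a => by
      have h1 : π₀ (f' a).1.1 - π₁ (f' a).1.2 = 0 := LinearMap.mem_ker.1 (f' a).2
      rw [hf'1, map_zero, zero_sub, neg_eq_zero] at h1
      exact h1
    obtain ⟨c, hc⟩ := hcof₁ H (fun a => ⟨(f' a).1.2, hf'2 a⟩) fun a b => by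
      have h1 : f' (a * b) = f' a + σ (a : G) (f' b) := by
        simp only [f', hf a b, Subgroup.coe_mul, map_mul, Module.End.mul_apply, map_sub]
        abel
      apply Subtype.ext
      show (f' (a * b)).1.2 = (f' a).1.2 + (σ₁ (a : G) ⟨(f' b).1.2, hf'2 b⟩ : LinearMap.ker π₁).1
      rw [show ((σ₁ (a : G) ⟨(f' b).1.2, hf'2 b⟩ : LinearMap.ker π₁) : ι →₀ ℤ) =
        Groth.Agent.GLatLib.permRep ι (a : G) (f' b).1.2 from hi₁ _ _]
      exact congrArg (fun x : E => x.1.2) h1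
    refine ⟨e + ⟨(0, c.1), by simp [E, δ, LinearMap.mem_ker.1 c.2]⟩, fun a => ?_⟩
    have h2 : (f' a).1.2 = Groth.Agent.GLatLib.permRep ι (a : G) c.1 - c.1 :=
      (congrArg Subtype.val (hc a)).trans (congrArg (· - c.1) (hi₁ (a : G) c))
    apply Subtype.ext
    apply Prod.ext
    · show (f a).1.1 = σ₀ (a : G) (m + 0) - (m + 0)
      rw [add_zero]; exact hm a
    · show (f a).1.2 = Groth.Agent.GLatLib.permRep ι (a : G) (p + c.1) - (p + c.1)
      have h3 : (f a).1.2 = (f' a).1.2 + (Groth.Agent.GLatLib.permRep ι (a : G) p - p) := (sub_add_cancel _ _).symm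
      rw [h3, h2, map_add]
      abel

end Groth.Agent.S18687
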