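import Groth.Statements.S18700
import Groth.Agent.QGorLib.Depth

set_option autoImplicit false
universe u
open QGor

namespace Groth.Agent.S18700

/-- Affine form. Let A be a Noetherian ring, I an ideal, and G the kernel of a linear map u : E⁰ → E¹ of
finite A-modules. If depth_I E⁰ ≥ 1 then depth_I G ≥ 1; if depth_I E⁰ ≥ 2 and depth_I E¹ ≥ 1 then
depth_I G ≥ 2. -/
theorem result (A : Type u) [CommRing A] [IsNoetherianRing A] (I : Ideal A)
    (E0 E1 : Type u) [AddCommGroup E0] [Module A E0] [Module.Finite A E0] [AddCommGroup E1] [Module A E1]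
    [Module.Finite A E1] (u : E0 →ₗ[A] E1) :
    (1 ≤ LocCoh.idealDepth I E0 → 1 ≤ LocCoh.idealDepth I (LinearMap.ker u)) ∧
    (2 ≤ LocCoh.idealDepth I E0 → 1 ≤ LocCoh.idealDepth I E1 → 2 ≤ LocCoh.idealDepth I (LinearMap.ker u)) := by
  haveI : Module.Finite A (LinearMap.ker u) := Module.Finite.iff_fg.2 (IsNoetherian.noetherian _)
  exact ⟨fun h => Groth.Agent.QGorLib.one_le_idealDepth_of_injective (LinearMap.ker u).subtype
      (LinearMap.ker u).injective_subtype h,
    fun h0 h1 => Groth.Agent.QGorLib.two_le_idealDepth_of_exact (LinearMap.ker u).subtype u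
      (LinearMap.ker u).injective_subtype (LinearMap.exact_subtype_ker_map u) h0 h1⟩

end Groth.Agent.S18700
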