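import Groth.Statements.S18704
import Groth.Agent.QGorLib.Depth

set_option autoImplicit false
universe u
open QGor

namespace Groth.Agent.S18704

/-- Affine form. Let A be a Noetherian ring with Serre's condition (S_2), I an ideal with ht I ≥ 2
(every prime containing I has height ≥ 2), and G a finite A-module with G_p reflexive for every
prime p not containing I. Then the following are equivalent: (i) G has (S_2) and dim Supp(G_p) ≥ 2
for every prime p ⊇ I in Supp G; (ii) depth_I G ≥ 2; (iii) G is reflexive. -/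
theorem result (A : Type u) [CommRing A] [IsNoetherianRing A]
    (hA : LocCoh.HasSk 2 A A) (I : Ideal A) (hI : 2 ≤ I.height)
    (G : Type u) [AddCommGroup G] [Module A G] [Module.Finite A G]
    (hU : ∀ p : PrimeSpectrum A, ¬ I ≤ p.asIdeal →
      Module.IsReflexive (Localization.AtPrime p.asIdeal) (LocalizedModule p.asIdeal.primeCompl G)) :
    ((LocCoh.HasSk 2 A G ∧ ∀ p : PrimeSpectrum A, I ≤ p.asIdeal → p ∈ Module.support A G →
        (2 : WithBot ℕ∞) ≤ Module.supportDim (Localization.AtPrime p.asIdeal) (LocalizedModule p.asIdeal.primeCompl G)) ↔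
      2 ≤ LocCoh.idealDepth I G) ∧
    (2 ≤ LocCoh.idealDepth I G ↔ Module.IsReflexive A G) := by
  have hA2 : ((2 : ℕ) : ℕ∞) ≤ LocCoh.idealDepth I A :=
    Groth.Agent.QGorLib.le_idealDepth_of_hasSk hA fun p hp _ => Groth.Agent.QGorLib.two_le_supportDim_self hI p hp
  have hrefl : 2 ≤ LocCoh.idealDepth I G → Module.IsReflexive A G := fun h =>
    Groth.Agent.QGorLib.isReflexive_of_idealDepth_two (le_trans (by norm_num) hA2) hU h
  refine ⟨⟨fun h => Groth.Agent.QGorLib.le_idealDepth_of_hasSk h.1 h.2, fun h => ⟨?_, fun p hIp hp => ?_⟩⟩,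
    hrefl, fun h => Groth.Agent.QGorLib.le_idealDepth_of_isReflexive G (k := 2) le_rfl hA2⟩
  · haveI := hrefl h
    exact Groth.Agent.QGorLib.hasSk_of_isReflexive G le_rfl hA
  · exact le_trans (WithBot.coe_le_coe.2 h) (Groth.Agent.QGorLib.idealDepth_le_supportDim p hIp hp)

end Groth.Agent.S18704
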