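import Groth.Statements.S18710
import Groth.Agent.DepthFlat.Basic
import Groth.Agent.Depth.CM
import Groth.Agent.Depth.Change

set_option autoImplicit false
universe u
open QGor

set_option linter.style.haveILetI false

namespace Groth.Agent.S18710

open TensorProduct in
/-- Affine form. Let A → B be a flat homomorphism of Noetherian rings and I an ideal of A with V(I)
contained in the image of Spec B → Spec A (every prime containing I is a contraction of a prime of
B). Then ht(IB) = ht(I) (codimension of the preimage equals codimension), and for every finite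
A-module G one has depth_{IB} (B ⊗_A G) = depth_I G. -/
theorem result (A B : Type u) [CommRing A] [CommRing B]
    [IsNoetherianRing A] [IsNoetherianRing B] [Algebra A B] [Module.Flat A B] (I : Ideal A)
    (hI : ∀ p : PrimeSpectrum A, I ≤ p.asIdeal → ∃ q : PrimeSpectrum B, q.asIdeal.comap (algebraMap A B) = p.asIdeal)
    (G : Type u) [AddCommGroup G] [Module A G] [Module.Finite A G] :
    (I.map (algebraMap A B)).height = I.height ∧
    LocCoh.idealDepth (I.map (algebraMap A B)) (B ⊗[A] G) = LocCoh.idealDepth I G := by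
  constructor
  · refine le_antisymm ?_ ?_
    · rw [Ideal.height_eq_inf_minimalPrimes (I := I)]
      refine le_iInf₂ fun p hp => ?_
      haveI := hp.1.1
      obtain ⟨q0, hq0⟩ := hI ⟨p, inferInstance⟩ hp.1.2
      have hle : p.map (algebraMap A B) ≤ q0.asIdeal := Ideal.map_le_iff_le_comap.2 hq0.ge
      obtain ⟨q, hq, hqle⟩ := Ideal.exists_minimalPrimes_le hle
      haveI := hq.1.1
      haveI : q.LiesOver p := ⟨le_antisymm (Ideal.map_le_iff_le_comap.1 hq.1.2)
        ((Ideal.comap_mono hqle).trans hq0.le)⟩
      refine (Ideal.height_mono ((Ideal.map_mono hp.1.2).trans hq.1.2)).trans ?_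
      rw [Ideal.height_eq_height_add_of_liesOver_of_hasGoingDown p q]
      refine le_of_eq ((congrArg (p.height + ·) ?_).trans (add_zero _))
      haveI : (q.map (Ideal.Quotient.mk (p.map (algebraMap A B)))).IsPrime :=
        Ideal.map_isPrime_of_surjective Ideal.Quotient.mk_surjective (by rw [Ideal.mk_ker]; exact hq.1.2)
      rw [Ideal.height_eq_zero_iff]
      refine ⟨⟨inferInstance, bot_le⟩, fun Q hQ hQle => ?_⟩
      haveI := hQ.1
      have h1 := hq.2 (y := Q.comap (Ideal.Quotient.mk (p.map (algebraMap A B)))) ⟨inferInstance,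
          (Ideal.mk_ker (I := p.map (algebraMap A B))).symm.le.trans (Ideal.comap_mono bot_le)⟩
        ((Ideal.comap_mono hQle).trans (by
          rw [Ideal.comap_map_of_surjective _ Ideal.Quotient.mk_surjective, ← RingHom.ker_eq_comap_bot,
            Ideal.mk_ker, sup_of_le_left hq.1.2]))
      exact (Ideal.map_mono h1).trans (Ideal.map_comap_of_surjective _ Ideal.Quotient.mk_surjective Q).le
    · rw [Ideal.height_eq_inf_minimalPrimes (I := I.map (algebraMap A B))]
      refine le_iInf₂ fun q hq => ?_
      haveI := hq.1.1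
      refine (Ideal.height_mono (Ideal.map_le_iff_le_comap.1 hq.1.2)).trans ?_
      rw [Ideal.height_eq_height_add_of_liesOver_of_hasGoingDown (q.under A) q]
      exact le_self_add
  · refine le_antisymm ?_ (DepthFlat.idealDepth_le_of_flat A B I G)
    rw [Depth.idealDepth_eq_iInf G I]
    refine le_iInf₂ fun p hp => ?_
    obtain ⟨q0, hq0⟩ := hI p hp
    have hle : p.asIdeal.map (algebraMap A B) ≤ q0.asIdeal := Ideal.map_le_iff_le_comap.2 hq0.ge
    obtain ⟨q, hq, hqle⟩ := Ideal.exists_minimalPrimes_le hle
    haveI := hq.1.1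
    haveI : q.LiesOver p.asIdeal := ⟨le_antisymm (Ideal.map_le_iff_le_comap.1 hq.1.2)
      ((Ideal.comap_mono hqle).trans hq0.le)⟩
    refine (Depth.idealDepth_le_depth_atPrime (M := B ⊗[A] G) q ((Ideal.map_mono hp).trans hq.1.2)).trans ?_
    let Ap := Localization.AtPrime p.asIdeal
    let Bq := Localization.AtPrime q
    letI : Algebra Ap Bq := Localization.AtPrime.algebraOfLiesOver p.asIdeal q
    haveI : Module.FaithfullyFlat Ap Bq := by
      haveI : IsLocalHom (algebraMap Ap Bq) := Localization.isLocalHom_localRingHom _ _ _ _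
      haveI : Module.Flat Ap Bq := inferInstance
      exact Module.FaithfullyFlat.of_flat_of_isLocalHom
    let e1 : LocalizedModule q.primeCompl (B ⊗[A] G) ≃ₗ[Bq] Bq ⊗[B] (B ⊗[A] G) :=
      LocalizedModule.equivTensorProduct _ _
    let e2 : Bq ⊗[B] (B ⊗[A] G) ≃ₗ[Bq] Bq ⊗[A] G :=
      TensorProduct.AlgebraTensorModule.cancelBaseChange A B Bq Bq G
    let e3 : Bq ⊗[Ap] (Ap ⊗[A] G) ≃ₗ[Bq] Bq ⊗[A] G :=
      TensorProduct.AlgebraTensorModule.cancelBaseChange A Ap Bq Bq G
    let e0 : LocalizedModule p.asIdeal.primeCompl G ≃ₗ[Ap] Ap ⊗[A] G :=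
      LocalizedModule.equivTensorProduct _ _
    show LocCoh.idealDepth (IsLocalRing.maximalIdeal Bq) _ ≤ LocCoh.idealDepth (IsLocalRing.maximalIdeal Ap) _
    rw [Depth.idealDepth_congr (e1.trans (e2.trans e3.symm)), Depth.idealDepth_congr e0,
      ← DepthFlat.idealDepth_eq_of_faithfullyFlat Ap Bq (IsLocalRing.maximalIdeal Ap) (Ap ⊗[A] G)]
    refine le_of_eq (Depth.idealDepth_eq_of_radical_eq ?_ _)
    rw [show IsLocalRing.maximalIdeal Ap = p.asIdeal.map (algebraMap A Ap) from
        Localization.AtPrime.map_eq_maximalIdeal.symm, Ideal.map_map, ← IsScalarTower.algebraMap_eq A Ap Bq,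
      (IsLocalRing.maximalIdeal.isMaximal Bq).isPrime.radical]
    refine le_antisymm ?_ ?_
    · rw [Ideal.radical_eq_sInf]
      refine le_sInf fun Q ⟨hQle, hQ⟩ => ?_
      haveI := hQ
      have h1 := hq.2 (y := Q.comap (algebraMap B Bq)) ⟨inferInstance, by
          rw [← Ideal.map_le_iff_le_comap, Ideal.map_map, ← IsScalarTower.algebraMap_eq A B Bq]
          exact hQle⟩
        ((Ideal.comap_mono (IsLocalRing.le_maximalIdeal hQ.ne_top)).trans
          Localization.AtPrime.under_maximalIdeal.le)
      refine (Localization.AtPrime.map_eq_maximalIdeal.symm.le.trans ?_)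
      exact Ideal.map_le_iff_le_comap.2 h1
    · refine (IsLocalRing.maximalIdeal.isMaximal Bq).isPrime.radical_le_iff.2 ?_
      rw [Ideal.map_le_iff_le_comap, IsScalarTower.algebraMap_eq A B Bq, ← Ideal.comap_comap]
      exact (Ideal.map_le_iff_le_comap.1 hq.1.2).trans
        (Ideal.comap_mono Localization.AtPrime.under_maximalIdeal.ge)

end Groth.Agent.S18710
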