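import Groth.Statements.S18717
import Groth.Agent.DualCx.LocalNorm

set_option autoImplicit false
set_option linter.style.haveILetI false
universe u
open CategoryTheory
attribute [local instance] HasDerivedCategory.standard
open QGor

namespace Groth.Agent.S18717

/-- Affine-local form with a normalized dualizing complex (so the codimension function vanishes at the
closed point). Let A be a Noetherian local ring with normalized dualizing complex ω, M a nonzero
finite A-module which is equidimensional of dimension δ, E^j = Ext^j(M, ω) the A-module of morphisms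
M → ω[j] in D(A), and k ≥ 1. Then M satisfies (S_k) if and only if dim Supp E^j ≤ −j − k for every
integer j ≠ −δ, where for −j − k < 0 this means E^j = 0. -/
theorem result (A : Type u) [CommRing A] [IsNoetherianRing A]
    [IsLocalRing A] (ω : Dual.D A) (hω : Dual.IsDualizing A ω) (hn : Dual.IsNormalized A ω)
    (M : Type u) [AddCommGroup M] [Module A M] [Module.Finite A M] [Nontrivial M]
    (hM : EGA4.IsEquidimModule A M) (δ : ℕ) (hδ : Module.supportDim A M = δ) (k : ℕ) (hk : 1 ≤ k) :
    LocCoh.HasSk k A M ↔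
      ∀ j : ℤ, j ≠ -(δ : ℤ) →
        (-j - (k : ℤ) < 0 → Subsingleton (Dual.inD A M ⟶ ω⟦j⟧)) ∧
        (0 ≤ -j - (k : ℤ) → Module.supportDim A (Dual.inD A M ⟶ ω⟦j⟧) ≤ ((-j - (k : ℤ)).toNat : WithBot ℕ∞)) := by
  rw [Groth.Agent.DualCx.hasSk_iff_of_equidim hω hn M hM δ hδ k]
  refine forall₂_congr fun j hj => ?_
  haveI : Module.Finite A (Dual.inD A M ⟶ ω⟦j⟧) := Groth.Agent.DualCx.finite_T hω j M
  obtain ⟨n, π, hπ⟩ := Module.Finite.exists_fin' A (Dual.inD A M ⟶ ω⟦j⟧)
  haveI : Small.{u} (Dual.inD A M ⟶ ω⟦j⟧) := small_of_surjective hπ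
  let eT := Shrink.linearEquiv.{u} A (Dual.inD A M ⟶ ω⟦j⟧)
  haveI : Module.Finite A (Shrink.{u} (Dual.inD A M ⟶ ω⟦j⟧)) := Module.Finite.equiv eT.symm
  have hdim : ∀ c : ℕ, Module.supportDim A (Dual.inD A M ⟶ ω⟦j⟧) ≤ c ↔
      ∀ r ∈ Module.support A (Dual.inD A M ⟶ ω⟦j⟧), -(c : ℤ) ≤ Groth.Agent.DualCx.tdeg hω r := fun c => by
    rw [← Module.supportDim_eq_of_equiv eT, ← eT.support_eq]
    exact Groth.Agent.DualCx.supportDim_le_iff_tdeg hω hn _ c
  constructor
  · intro h
    refine ⟨fun hlt => (Module.support_eq_empty_iff (R := A) (M := Dual.inD A M ⟶ ω⟦j⟧)).mp (Set.eq_empty_of_forall_notMem fun q hq => ?_), fun hge => ?_⟩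
    · have := h q hq
      have := Groth.Agent.DualCx.tdeg_nonpos hω hn q
      omega
    · refine (hdim _).mpr fun r hr => ?_
      have := h r hr
      omega
  · rintro ⟨h1, h2⟩ q hq
    rcases lt_or_ge (-j - (k : ℤ)) 0 with hlt | hge
    · haveI := h1 hlt
      exact absurd hq (Groth.Agent.DualCx.van_iff.mp (Groth.Agent.DualCx.van_of_subsingleton _ _))
    · have := (hdim _).mp (h2 hge) q hq
      omega

end Groth.Agent.S18717
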