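import Groth.Statements.S18721
import Groth.Agent.DualCx.MaxNorm

set_option autoImplicit false
set_option linter.style.haveILetI false
universe u
open CategoryTheory
attribute [local instance] HasDerivedCategory.standard
open QGor

namespace Groth.Agent.S18721

/-- Affine form. Let k be a field and A a finitely generated k-algebra, equidimensional of Krull
dimension n, and let ω be a dualizing complex of A normalized at every maximal ideal m (no nonzero
morphisms A/m → ω[i] in D(A) for i ≠ 0 — the canonical dualizing complex of Spec A over k). Put Z_i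
= Supp H^{-i}(ω). Then H^{-i}(ω) = 0 for every i > n, and for every k′ ≥ 1: A satisfies (S_{k′}) if
and only if dim Z_i ≤ i − k′ for all i ≠ n, where for i < k′ this means H^{-i}(ω) = 0. -/
theorem result (k A : Type u) [Field k] [CommRing A]
    [Algebra k A] (hft : Algebra.FiniteType k A) [IsNoetherianRing A]
    (hEq : EGA4.IsEquidim A) (n : ℕ) (hd : ringKrullDim A = n)
    (ω : Dual.D A) (hω : Dual.IsDualizing A ω)
    (hnorm : ∀ (m : Ideal A) (_ : m.IsMaximal) (i : ℤ), i ≠ 0 → Subsingleton (Dual.inD A (A ⧸ m) ⟶ ω⟦i⟧)) :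
    (∀ i : ℕ, n < i → Subsingleton (Dual.HD A ω (-(i : ℤ)))) ∧
    ∀ k' : ℕ, 1 ≤ k' →
      (LocCoh.HasSk k' A A ↔
        ∀ i : ℕ, i ≠ n →
          (i < k' → Subsingleton (Dual.HD A ω (-(i : ℤ)))) ∧
          (k' ≤ i → Module.supportDim A (Dual.HD A ω (-(i : ℤ))) ≤ ((i - k' : ℕ) : WithBot ℕ∞))) := by
  obtain ⟨hvan, hiff⟩ := Groth.Agent.DualCx.hasSk_ring_iff hω hnorm hEq n hd
  refine ⟨fun i hi => hvan _ (by omega), fun k' _ => (hiff k').trans ⟨fun h i hi => ?_, fun h j hj q hq => ?_⟩⟩
  · haveI := hω.finite_cohomology (-(i : ℤ))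
    refine ⟨fun hlt => (Module.support_eq_empty_iff (R := A)).mp (Set.eq_empty_of_forall_notMem fun q hq => ?_),
      fun hge => (Groth.Agent.DualCx.supportDim_le_iff_max hω hnorm (i - k')).mpr fun q hq => ?_⟩
    · have := h _ (by omega) q hq
      have := Groth.Agent.DualCx.tdeg_le_zero hω hnorm q
      omega
    · have := h _ (by omega) q hq
      omega
  · haveI := hω.finite_cohomology j
    have hne : ¬ Subsingleton (Dual.HD A ω j) := fun hs => by
      rw [(Module.support_eq_empty_iff (R := A)).mpr hs] at hq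
      exact hq.elim
    have hjn : -(n : ℤ) ≤ j := by
      by_contra hlt
      exact hne (hvan j (by omega))
    by_cases hj0 : 0 < j
    · exfalso
      refine Groth.Agent.DualCx.van_iff.mp (Groth.Agent.DualCx.van_T_of_gt_tdeg hω q (j := j) ?_ A) ?_
      · exact lt_of_le_of_lt (Groth.Agent.DualCx.tdeg_le_zero hω hnorm q) hj0
      · rwa [(Groth.Agent.DualCx.evSelf (ω := ω) j).support_eq]
    obtain ⟨i, rfl⟩ : ∃ i : ℕ, j = -(i : ℤ) := ⟨(-j).toNat, by omega⟩
    obtain ⟨h1, h2⟩ := h i (by omega)
    have hki : k' ≤ i := by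
      by_contra hlt
      exact hne (h1 (by omega))
    have := (Groth.Agent.DualCx.supportDim_le_iff_max hω hnorm (i - k')).mp (h2 hki) q hq
    omega

end Groth.Agent.S18721
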