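import Groth.Statements.S18723
import Groth.Agent.DualCx.Ordinary

set_option autoImplicit false
set_option linter.style.haveILetI false
universe u
open CategoryTheory
attribute [local instance] HasDerivedCategory.standard
open QGor

namespace Groth.Agent.S18723

/-- Affine-local form, with (2) for tensor powers m ≥ 0. Let A be a Noetherian local ring of Krull
dimension n with a dualizing complex ω, L = H⁰(ω), and J an ideal with ht J ≥ 2 (the closed set V(J)
has codimension ≥ 2) such that off V(J) the complex ω is the invertible module L in degree 0: for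
every prime p not containing J, H^i(ω)_p = 0 for i ≠ 0 and L_p is free of rank 1. (1) If A satisfies
(S₁), then ω is ordinary (A is equidimensional and ω[n] is normalized) and L is reflexive and
satisfies (S₂). (2) If A satisfies (S₂), then for every m ≥ 0 the double dual L^[m] of the m-th
tensor power of L satisfies (S₂) and depth_J L^[m] ≥ 2 (it is the module of sections of L^⊗m off
V(J)). -/
theorem result (A : Type u) [CommRing A] [IsNoetherianRing A]
    [IsLocalRing A] (ω : Dual.D A) (hω : Dual.IsDualizing A ω) (n : ℕ) (hd : ringKrullDim A = n)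
    (J : Ideal A) (hJ : 2 ≤ J.height)
    (hoff : ∀ p : PrimeSpectrum A, ¬ J ≤ p.asIdeal →
      (∀ i : ℤ, i ≠ 0 → p ∉ Module.support A (Dual.HD A ω i)) ∧
      Module.Free (Localization.AtPrime p.asIdeal) (LocalizedModule p.asIdeal.primeCompl (Dual.HD A ω 0)) ∧
      Module.finrank (Localization.AtPrime p.asIdeal) (LocalizedModule p.asIdeal.primeCompl (Dual.HD A ω 0)) = 1) :
    (LocCoh.HasSk 1 A A →
      (EGA4.IsEquidim A ∧ Dual.IsNormalized A (ω⟦(n : ℤ)⟧)) ∧
      Module.IsReflexive A (Dual.HD A ω 0) ∧ LocCoh.HasSk 2 A (Dual.HD A ω 0)) ∧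
    (LocCoh.HasSk 2 A A → ∀ m : ℕ,
      LocCoh.HasSk 2 A (Module.Dual A (Module.Dual A (TensorPower A m (Dual.HD A ω 0)))) ∧
      2 ≤ LocCoh.idealDepth J (Module.Dual A (Module.Dual A (TensorPower A m (Dual.HD A ω 0))))) := by
  have h0 := fun q hq => Groth.Agent.DualCx.tdeg_eq_zero_of_minimal hω J (le_trans (by norm_num) hJ)
    (fun p hp => (hoff p hp).1) q hq
  haveI := hω.finite_cohomology 0
  constructor
  · intro hS1
    refine ⟨Groth.Agent.DualCx.ordinary_local hω h0 n hd, ?_, Groth.Agent.DualCx.hasSk_HD_zero hω h0⟩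
    refine Groth.Agent.QGorLib.isReflexive_of_idealDepth_two (I := J) ?_ (fun p hp => ?_)
      (Groth.Agent.DualCx.idealDepth_HD_zero hω h0 J hJ)
    · refine Groth.Agent.QGorLib.le_idealDepth_of_hasSk (k := 1) hS1 fun p hp _ => ?_
      exact le_trans (by exact_mod_cast (by omega : (1 : ℕ) ≤ 2)) (Groth.Agent.QGorLib.two_le_supportDim_self hJ p hp)
    · haveI := (hoff p hp).2.1
      exact Groth.Agent.DualCx.isReflexive_of_free p _
  · intro hS2 m
    refine ⟨Groth.Agent.CAlgReflexive.hasSk_hom (k := 2) le_rfl hS2, ?_⟩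
    refine Groth.Agent.DualCx.le_idealDepth_dual ?_
    exact Groth.Agent.QGorLib.le_idealDepth_of_hasSk (k := 2) hS2
      fun p hp _ => Groth.Agent.QGorLib.two_le_supportDim_self hJ p hp

end Groth.Agent.S18723
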