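import Groth.Statements.S18725
import Groth.Agent.QGorLib.FourTermAt
import Groth.Agent.FlatLocus.Model

set_option autoImplicit false
set_option linter.style.haveILetI false
universe u
open QGor

namespace Groth.Agent.S18725

/-- Affine form of the equivalence (c) ⇔ (d). Let A → B be a homomorphism of finite type between
Noetherian rings, J an ideal of B and 0 → F → E⁰ → E¹ → G → 0 an exact sequence of finite B-modules
such that E⁰, E¹ are flat over A, G_q is flat over A for every prime q not containing J, and for
every prime q ⊇ J with contraction p the fibre stalk E⁰_q/pE⁰_q has depth ≥ 2 and E¹_q/pE¹_q has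
depth ≥ 1. Then for a prime n of B the following are equivalent: G is flat over A at n; there is a
basic open neighbourhood D(s) of n such that at every prime q ∈ D(s) the module F is flat over A at
q and, if q ⊇ J, the fibre stalk F_q/pF_q has depth ≥ 2 (the restriction maps of the fibres of F off
V(J) are bijective on D(s)). -/
theorem result (A B : Type u) [CommRing A] [CommRing B]
    [IsNoetherianRing A] [IsNoetherianRing B] [Algebra A B] (hft : Algebra.FiniteType A B) (J : Ideal B)
    (F E0 E1 G : Type u) [AddCommGroup F] [Module B F] [Module A F] [IsScalarTower A B F] [Module.Finite B F]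
    [AddCommGroup E0] [Module B E0] [Module A E0] [IsScalarTower A B E0] [Module.Finite B E0] [Module.Flat A E0]
    [AddCommGroup E1] [Module B E1] [Module A E1] [IsScalarTower A B E1] [Module.Finite B E1] [Module.Flat A E1]
    [AddCommGroup G] [Module B G] [Module A G] [IsScalarTower A B G] [Module.Finite B G]
    (f : F →ₗ[B] E0) (u : E0 →ₗ[B] E1) (v : E1 →ₗ[B] G)
    (hf : Function.Injective f) (hfu : Function.Exact f u) (huv : Function.Exact u v) (hv : Function.Surjective v)
    (hGU : ∀ q : PrimeSpectrum B, ¬ J ≤ q.asIdeal → FlatCA.FlatAt A q.asIdeal G)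
    (h0 : ∀ q : PrimeSpectrum B, J ≤ q.asIdeal →
      2 ≤ LocCoh.idealDepth (q.asIdeal.map (algebraMap B (EGA4.FibLocRing A B q.asIdeal))) (EGA4.FibLocMod A B q.asIdeal E0))
    (h1 : ∀ q : PrimeSpectrum B, J ≤ q.asIdeal →
      1 ≤ LocCoh.idealDepth (q.asIdeal.map (algebraMap B (EGA4.FibLocRing A B q.asIdeal))) (EGA4.FibLocMod A B q.asIdeal E1))
    (n : PrimeSpectrum B) :
    FlatCA.FlatAt A n.asIdeal G ↔
      ∃ s : B, s ∉ n.asIdeal ∧ ∀ q : PrimeSpectrum B, s ∉ q.asIdeal →
        FlatCA.FlatAt A q.asIdeal F ∧
        (J ≤ q.asIdeal →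
          2 ≤ LocCoh.idealDepth (q.asIdeal.map (algebraMap B (EGA4.FibLocRing A B q.asIdeal))) (EGA4.FibLocMod A B q.asIdeal F)) := by
  constructor
  · intro hn
    haveI : Algebra.FiniteType A B := hft
    haveI : Algebra.FinitePresentation A B := Algebra.FinitePresentation.of_finiteType.1 hft
    haveI := Module.finitePresentation_of_finite B G
    obtain ⟨t, ⟨s, rfl⟩, hsn, hsub⟩ := PrimeSpectrum.isTopologicalBasis_basic_opens.exists_subset_of_mem_open
      (show n ∈ {q : PrimeSpectrum B | Module.Flat A (LocalizedModule q.asIdeal.primeCompl G)} from hn)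
      (Groth.Agent.FlatLocus.isOpen_flatLocus (B := A) (S := B) (M := G))
    refine ⟨s, hsn, fun q hq => ?_⟩
    have hG : ∀ q' : PrimeSpectrum B, q'.asIdeal ≤ q.asIdeal → FlatCA.FlatAt A q'.asIdeal G :=
      fun q' hle => hsub fun h => hq (hle h)
    refine ⟨?_, fun hJ => ((Groth.Agent.QGorLib.fourTerm_at hf hfu huv hv q.asIdeal (fun q' h => hG q' h.le)
      (h0 q hJ) (h1 q hJ)).1).1 (hG q le_rfl)⟩
    let I := LinearMap.range u
    have hfu0 : Function.Exact f u.rangeRestrict := fun y => by rw [← hfu y, ← Subtype.coe_inj]; rfl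
    have hIv : Function.Exact I.subtype v := fun y => by
      rw [huv y, Submodule.coe_subtype, Subtype.range_coe_subtype]; rfl
    haveI : Module.Flat A (LocalizedModule q.asIdeal.primeCompl G) := hG q le_rfl
    haveI := Groth.Agent.QGorLib.flat_of_linearMap_localized (A := A) (M := E1) q.asIdeal
    haveI := Groth.Agent.QGorLib.flat_of_linearMap_localized (A := A) (M := E0) q.asIdeal
    haveI : Module.Flat A (LocalizedModule q.asIdeal.primeCompl I) := Groth.Agent.Rodicio.flat_of_exact
      (i := (LocalizedModule.map q.asIdeal.primeCompl I.subtype).restrictScalars A)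
      (π := (LocalizedModule.map q.asIdeal.primeCompl v).restrictScalars A)
      (LocalizedModule.map_injective _ _ I.injective_subtype) (LocalizedModule.map_exact _ _ _ hIv)
      (LocalizedModule.map_surjective _ _ hv)
    exact Groth.Agent.Rodicio.flat_of_exact
      (i := (LocalizedModule.map q.asIdeal.primeCompl f).restrictScalars A)
      (π := (LocalizedModule.map q.asIdeal.primeCompl u.rangeRestrict).restrictScalars A)
      (LocalizedModule.map_injective _ _ hf) (LocalizedModule.map_exact _ _ _ hfu0)
      (LocalizedModule.map_surjective _ _ u.surjective_rangeRestrict)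
  · rintro ⟨s, hs, h⟩
    suffices H : ∀ q : PrimeSpectrum B, s ∉ q.asIdeal → FlatCA.FlatAt A q.asIdeal G from H n hs
    intro q
    haveI : WellFoundedLT (PrimeSpectrum B) := StrictMono.wellFoundedLT
      (f := fun q : PrimeSpectrum B => q.asIdeal.height)
      fun a b hab => Ideal.height_strict_mono_of_isPrime hab
    induction q using WellFoundedLT.induction with
    | _ q ih =>
      intro hq
      by_cases hJ : J ≤ q.asIdeal
      · exact ((Groth.Agent.QGorLib.fourTerm_at hf hfu huv hv q.asIdeal
          (fun q' hlt => ih q' hlt (fun h' => hq (hlt.le h'))) (h0 q hJ) (h1 q hJ)).1).2 ((h q hq).2 hJ)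
      · exact hGU q hJ


end Groth.Agent.S18725
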