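import Groth.Statements.S18733
import Groth.Agent.ModPairLib.Div

set_option autoImplicit false
universe u
open CategoryTheory CategoryTheory.Limits AlgebraicGeometry TopologicalSpace
open ModPair

namespace Groth.Agent.S18733

/-- Let D₁, D₂ be effective Cartier divisors on a scheme X, with quasi-coherent ideal sheaves I₁, I₂,
such that the scheme-theoretic intersection E = D₁ ×_X D₂ (ideal sheaf I₁ ⊔ I₂) is again an
effective Cartier divisor. Then (1) the divisors D₁ − E and D₂ − E are effective and disjoint: there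
are ideal sheaves I₁', I₂' of effective Cartier divisors with I₁ = I₁'·(I₁ ⊔ I₂), I₂ = I₂'·(I₁ ⊔ I₂)
and I₁' ⊔ I₂' = ⊤; and (2) the effective Cartier divisor D₁ + D₂ − E, with ideal sheaf I₁'·I₂'·(I₁ ⊔
I₂), is contained in every effective Cartier divisor D of X containing D₁ and D₂: if the ideal sheaf
of D is ≤ I₁ and ≤ I₂ then it is ≤ I₁'·I₂'·(I₁ ⊔ I₂). -/
theorem result {X : Scheme.{u}} (I₁ I₂ : X.IdealSheafData)
    (h₁ : BlowUp.IsEffCartierIdeal I₁) (h₂ : BlowUp.IsEffCartierIdeal I₂)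
    (hE : BlowUp.IsEffCartierIdeal (I₁ ⊔ I₂)) :
    ∃ I₁' I₂' : X.IdealSheafData, BlowUp.IsEffCartierIdeal I₁' ∧ BlowUp.IsEffCartierIdeal I₂' ∧
      I₁ = I₁' * (I₁ ⊔ I₂) ∧ I₂ = I₂' * (I₁ ⊔ I₂) ∧ I₁' ⊔ I₂' = ⊤ ∧
      ∀ D : X.IdealSheafData, BlowUp.IsEffCartierIdeal D → D ≤ I₁ → D ≤ I₂ →
        D ≤ I₁' * I₂' * (I₁ ⊔ I₂) := by
  obtain ⟨Q₁, hQ₁, e₁⟩ := ModPairLib.exists_div h₁ hE le_sup_left
  obtain ⟨Q₂, hQ₂, e₂⟩ := ModPairLib.exists_div h₂ hE le_sup_right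
  refine ⟨Q₁, Q₂, hQ₁, hQ₂, e₁, e₂, ModPairLib.eq_top_of_mul hE ?_, fun D _ hD₁ hD₂ => ?_⟩
  · show (Q₁ + Q₂) * _ = _
    rw [add_mul, ← e₁, ← e₂]
    rfl
  · have h3 : Q₁ * Q₂ * (I₁ ⊔ I₂) = I₁ ⊓ I₂ := by
      refine ModPairLib.eq_inf_of_mul h₁ h₂ hE ?_
      generalize I₁ ⊔ I₂ = E at e₁ e₂ ⊢
      rw [e₁, e₂]
      ring
    exact h3 ▸ le_inf hD₁ hD₂

end Groth.Agent.S18733
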