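import Groth.Statements.S18734
import Groth.Agent.ModPairLib.ScaleFinite

set_option autoImplicit false
universe u
open CategoryTheory CategoryTheory.Limits AlgebraicGeometry TopologicalSpace
open ModPair

namespace Groth.Agent.S18734

/-- Let R be a valuation ring with fraction field K and f : Y ⟶ Spec R a morphism of schemes which is
flat, proper and generically finite (the generic fibre Y ×_{Spec R} Spec K ⟶ Spec K is a finite
morphism). Then f is finite. No finite-presentation hypothesis is assumed. -/
theorem result {R : Type u} [CommRing R]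
    [IsDomain R] [ValuationRing R] {Y : Scheme.{u}} (f : Y ⟶ Spec (CommRingCat.of R)) [Flat f] [IsProper f]
    (hgen : IsFinite (pullback.snd f
      (Spec.map (CommRingCat.ofHom (algebraMap R (FractionRing R)))))) :
    IsFinite f := by
  classical
  suffices LocallyQuasiFinite f from IsFinite.of_isProper_of_locallyQuasiFinite (f := f)
  let K := FractionRing R
  refine ModPairLib.locallyQuasiFinite_of_relations f fun B _ _ e _ he hft q _ x => ?_
  haveI := hgen
  haveI := ModPairLib.chart_quasiFinite f K B e he
  haveI : Module.Finite K (TensorProduct R K B) := Module.Finite.of_quasiFinite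
  haveI : Module.Flat R B := by
    have h : Flat (e ≫ f) := inferInstance
    rw [he, HasRingHomProperty.Spec_iff (P := @Flat)] at h
    exact RingHom.flat_algebraMap_iff.1 h
  obtain ⟨μ, hμm, hμ⟩ := Algebra.IsIntegral.isIntegral (R := K) ((1 : K) ⊗ₜ[R] x)
  obtain ⟨b, hb0, hb⟩ := IsLocalization.integerNormalization_spec (nonZeroDivisors R) μ
  set P₀ := IsLocalization.integerNormalization (nonZeroDivisors R) μ
  have hP₀ : P₀ ≠ 0 := fun h => hμm.ne_zero ((IsFractionRing.integerNormalization_eq_zero_iff (A := R)).1 h)
  have hne : P₀.support.Nonempty := Polynomial.support_nonempty.2 hP₀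
  obtain ⟨j, hj, hdvd⟩ := ModPairLib.exists_dvd_all P₀.support hne (fun i => P₀.coeff i)
  obtain ⟨P, hP⟩ : Polynomial.C (P₀.coeff j) ∣ P₀ := (Polynomial.C_dvd_iff_dvd_coeff _ _).2 fun i => by
    by_cases hi : i ∈ P₀.support
    · exact hdvd i hi
    · rw [Polynomial.notMem_support_iff.1 hi]; exact dvd_zero _
  have ha : P₀.coeff j ≠ 0 := Polynomial.mem_support_iff.1 hj
  refine ⟨P, ⟨j, ?_⟩, ?_⟩
  · have : P₀.coeff j * P.coeff j = P₀.coeff j * 1 := by rw [mul_one, ← Polynomial.coeff_C_mul, ← hP]
    rw [mul_left_cancel₀ ha this]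
    exact fun h1 => ‹q.IsPrime›.ne_top ((Ideal.eq_top_iff_one q).2 (by simpa using h1))
  · suffices Polynomial.aeval x P = 0 by rw [this]; exact q.zero_mem
    apply Algebra.TensorProduct.includeRight_injective (R := R) (A := K) (B := B) (IsFractionRing.injective R K)
    rw [map_zero, ← Polynomial.aeval_algHom_apply]
    have h0 : Polynomial.aeval ((1 : K) ⊗ₜ[R] x) P₀ = 0 := IsLocalization.integerNormalization_aeval_eq_zero _ μ hμ
    rw [hP, map_mul, Polynomial.aeval_C] at h0
    refine (IsUnit.mul_right_eq_zero ?_).1 h0
    rw [IsScalarTower.algebraMap_apply R K]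
    exact ((isUnit_iff_ne_zero).2 fun h => ha (IsFractionRing.injective R K (h.trans (map_zero _).symm))).map _

end Groth.Agent.S18734
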