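import Groth.Statements.S18736
import Groth.Agent.ModPairLib.Closure

set_option autoImplicit false
universe u
open CategoryTheory CategoryTheory.Limits AlgebraicGeometry TopologicalSpace
open ModPair

namespace Groth.Agent.S18736

/-- With the minimal-case product: let (S, I_S), (T, I_T), (X, I_X) be schemes equipped with
quasi-coherent ideal sheaves of effective Cartier divisors, p : X ⟶ S a morphism satisfying the
modulus condition I_X ≤ I_S.comap p, and f : T ⟶ S a minimal morphism, I_T = I_S.comap f. Let Y be
the scheme-theoretic image in X ×_S T of the open pr₁⁻¹(X°) ∩ pr₂⁻¹(T°) (X°, T° the open complements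
of the supports of I_X, I_T), with projections r : Y ⟶ X and q : Y ⟶ T, and put I_Y := I_X.comap r.
Then I_Y is the ideal sheaf of an effective Cartier divisor, q satisfies the modulus condition I_Y ≤
I_T.comap q, and (Y, I_Y) with q and r is the fibre product of (T, I_T) and (X, I_X) over (S, I_S)
among modulus pairs and morphisms satisfying the modulus condition: for every scheme W with the
ideal sheaf I_W of an effective Cartier divisor and morphisms a : W ⟶ T, b : W ⟶ X with I_W ≤
I_T.comap a, I_W ≤ I_X.comap b and a ≫ f = b ≫ p, there is a unique c : W ⟶ Y with c ≫ q = a, c ≫ r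
= b and I_W ≤ I_Y.comap c. -/
theorem result {S T X : Scheme.{u}} (IS : S.IdealSheafData)
    (IT : T.IdealSheafData) (IX : X.IdealSheafData) (hS : BlowUp.IsEffCartierIdeal IS)
    (hT : BlowUp.IsEffCartierIdeal IT) (hX : BlowUp.IsEffCartierIdeal IX)
    (p : X ⟶ S) (hp : ModPair.IsAmbient IX IS p) (f : T ⟶ S) (hf : ModPair.IsMinimal IT IS f) :
    BlowUp.IsEffCartierIdeal (IX.comap (ModPair.mprodι p f IX IT ≫ pullback.fst p f)) ∧
      ModPair.IsAmbient (IX.comap (ModPair.mprodι p f IX IT ≫ pullback.fst p f)) IT
        (ModPair.mprodι p f IX IT ≫ pullback.snd p f) ∧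
      ∀ (W : Scheme.{u}) (IW : W.IdealSheafData), BlowUp.IsEffCartierIdeal IW →
        ∀ (a : W ⟶ T) (b : W ⟶ X), ModPair.IsAmbient IW IT a → ModPair.IsAmbient IW IX b →
          a ≫ f = b ≫ p →
          ∃! c : W ⟶ ModPair.mprod p f IX IT,
            c ≫ ModPair.mprodι p f IX IT ≫ pullback.snd p f = a ∧
              c ≫ ModPair.mprodι p f IX IT ≫ pullback.fst p f = b ∧
              ModPair.IsAmbient IW (IX.comap (ModPair.mprodι p f IX IT ≫ pullback.fst p f)) c := by
  have hU : ModPair.prodInterior p f IX IT = pullback.fst p f ⁻¹ᵁ ModPair.interior IX := by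
    refine inf_eq_left.2 fun x hx => ?_
    rw [hf, Groth.Agent.ModPairLib.interior_comap, ← Scheme.Hom.comp_preimage, ← pullback.condition,
      Scheme.Hom.comp_preimage]
    exact Groth.Agent.ModPairLib.interior_le_of_ambient hp hx
  refine ⟨?_, ?_, ?_⟩
  · show BlowUp.IsEffCartierIdeal (IX.comap ((ModPair.prodInterior p f IX IT).ι.imageι ≫ pullback.fst p f))
    rw [hU]
    exact Groth.Agent.ModPairLib.isEffCartier_closure hX _
  · exact Groth.Agent.ModPairLib.isAmbient_of_minimal_square (by simp [pullback.condition]) hf hp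
  · intro W IW hW a b ha hb hab
    haveI := Groth.Agent.ModPairLib.std_interior hW
    have hr : Set.range ((ModPair.interior IW).ι ≫ pullback.lift b a hab.symm).base ⊆
        Set.range (ModPair.prodInterior p f IX IT).ι.base := by
      rintro _ ⟨x, rfl⟩
      rw [Scheme.Opens.range_ι, hU]
      show ((ModPair.interior IW).ι ≫ pullback.lift b a hab.symm ≫ pullback.fst p f).base x ∈ ModPair.interior IX
      rw [pullback.lift_fst]
      exact Groth.Agent.ModPairLib.interior_le_of_ambient hb x.2
    have hker : (ModPair.mprodι p f IX IT).ker ≤ (pullback.lift b a hab.symm).ker := by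
      rw [show ModPair.mprodι p f IX IT = (ModPair.prodInterior p f IX IT).ι.ker.subschemeι from rfl,
        Scheme.IdealSheafData.ker_subschemeι]
      refine (Scheme.Hom.le_ker_comp (IsOpenImmersion.lift _ _ hr) _).trans ?_
      rw [IsOpenImmersion.lift_fac, Scheme.Hom.ker_comp, Scheme.Hom.ker_eq_bot,
        Scheme.IdealSheafData.map_bot]
    have hc := IsClosedImmersion.lift_fac (ModPair.mprodι p f IX IT) (pullback.lift b a hab.symm) hker
    refine ⟨IsClosedImmersion.lift (ModPair.mprodι p f IX IT) (pullback.lift b a hab.symm) hker,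
      ⟨by rw [reassoc_of% hc, pullback.lift_snd], by rw [reassoc_of% hc, pullback.lift_fst], ?_⟩,
      fun c hc' => ?_⟩
    · show IW ≤ _
      rw [← Scheme.IdealSheafData.comap_comp, reassoc_of% hc, pullback.lift_fst]
      exact hb
    · rw [← cancel_mono (ModPair.mprodι p f IX IT), hc]
      exact pullback.hom_ext (by rw [Category.assoc, pullback.lift_fst]; exact hc'.2.1)
        (by rw [Category.assoc, pullback.lift_snd]; exact hc'.1)

end Groth.Agent.S18736
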