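import Groth.Statements.S18737
import Groth.Agent.ModPairLib.Image

set_option autoImplicit false
universe u
open CategoryTheory CategoryTheory.Limits AlgebraicGeometry TopologicalSpace
open ModPair

namespace Groth.Agent.S18737

/-- Let X be a scheme and I the quasi-coherent ideal sheaf of an effective Cartier divisor on X, with
open complement U, and suppose U is the disjoint union of two opens U₀, U₁ of X. Let X₀, X₁ ⊆ X be
the scheme-theoretic images of U₀ and U₁ in X and p : X₀ ⨿ X₁ ⟶ X the morphism induced by the two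
closed immersions. Then the pulled-back ideal I.comap p is the ideal sheaf of an effective Cartier
divisor, and p is an abstract admissible blow-up from (X₀ ⨿ X₁, I.comap p) to (X, I): proper, with
the pulled-back modulus, and an isomorphism over U. -/
theorem result {X : Scheme.{u}}
    (I : X.IdealSheafData) (hI : BlowUp.IsEffCartierIdeal I) (U₀ U₁ : X.Opens)
    (hU : U₀ ⊔ U₁ = ModPair.interior I) (hd : Disjoint U₀ U₁) :
    BlowUp.IsEffCartierIdeal (I.comap (coprod.desc U₀.ι.imageι U₁.ι.imageι)) ∧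
      ModPair.IsAdmBlowup (I.comap (coprod.desc U₀.ι.imageι U₁.ι.imageι)) I
        (coprod.desc U₀.ι.imageι U₁.ι.imageι) := by
  haveI := ModPairLib.isAffineHom_interior hI
  have h₀ : U₀ ≤ ModPair.interior I := le_sup_left.trans hU.le
  have h₁ : U₁ ≤ ModPair.interior I := le_sup_right.trans hU.le
  have hclosed : ∀ A B : X.Opens, ∀ (h : A ≤ ModPair.interior I), A ⊔ B = ModPair.interior I → Disjoint A B →
      IsClosedImmersion (X.homOfLE h) := fun A B h hAB hd => by
    refine IsClosedImmersion.of_isPreimmersion _ ?_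
    have hr : Set.range (X.homOfLE h).base = ((((ModPair.interior I).ι ⁻¹ᵁ B) : (ModPair.interior I).toScheme.Opens) : Set _)ᶜ := by
      rw [← Scheme.Hom.coe_opensRange, Scheme.opensRange_homOfLE]
      ext x
      refine ⟨fun hA hB => ?_, fun hB => ?_⟩
      · exact (hd.le_bot ⟨hA, hB⟩).elim
      · rcases (show x.1 ∈ A ⊔ B from hAB.ge x.2) with hA | hB'
        · exact hA
        · exact absurd hB' hB
    rw [hr]
    exact (TopologicalSpace.Opens.isOpen _).isClosed_compl
  haveI := hclosed U₀ U₁ h₀ hU hd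
  haveI := hclosed U₁ U₀ h₁ (sup_comm U₁ U₀ ▸ hU) hd.symm
  haveI : QuasiCompact U₀.ι := X.homOfLE_ι h₀ ▸ inferInstance
  haveI : QuasiCompact U₁.ι := X.homOfLE_ι h₁ ▸ inferInstance
  obtain ⟨o₀, r₀⟩ := ModPairLib.image_restrict (X.homOfLE h₀) (X.homOfLE_ι h₀)
  obtain ⟨o₁, r₁⟩ := ModPairLib.image_restrict (X.homOfLE h₁) (X.homOfLE_ι h₁)
  let p := coprod.desc (Scheme.Hom.imageι U₀.ι) (Scheme.Hom.imageι U₁.ι)
  refine ⟨ModPairLib.isEffCartier_of_local fun z => ?_, rfl, inferInstance, ?_⟩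
  · obtain ⟨z | z, rfl⟩ := (coprodMk _ _).surjective z
    · refine ⟨_, coprod.inl, inferInstance, ⟨z, (coprodMk_inl _ _ z).symm⟩, ?_⟩
      rw [← Scheme.IdealSheafData.comap_comp, coprod.inl_desc]
      exact ModPairLib.isEffCartier_image hI fun v => h₀ v.2
    · refine ⟨_, coprod.inr, inferInstance, ⟨z, (coprodMk_inr _ _ z).symm⟩, ?_⟩
      rw [← Scheme.IdealSheafData.comap_comp, coprod.inr_desc]
      exact ModPairLib.isEffCartier_image hI fun v => h₁ v.2
  have key : ∀ (A B : X.Opens) (j : Scheme.Hom.image A.ι ⟶ Scheme.Hom.image U₀.ι ⨿ Scheme.Hom.image U₁.ι)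
      (j' : Scheme.Hom.image B.ι ⟶ Scheme.Hom.image U₀.ι ⨿ Scheme.Hom.image U₁.ι), Disjoint A B → A ≤ ModPair.interior I →
      B ≤ ModPair.interior I → (∀ z, z ∈ Set.range j.base ∨ z ∈ Set.range j'.base) →
      j ≫ p = Scheme.Hom.imageι A.ι → j' ≫ p = Scheme.Hom.imageι B.ι → IsOpenImmersion j →
      IsOpenImmersion (Scheme.Hom.toImage A.ι) →
      Set.range (Scheme.Hom.toImage A.ι).base = (Scheme.Hom.imageι A.ι).base ⁻¹' (ModPair.interior I : Set X) →
      Set.range (Scheme.Hom.toImage B.ι).base = (Scheme.Hom.imageι B.ι).base ⁻¹' (ModPair.interior I : Set X) →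
      IsIso (p ∣_ A) := by
    intro A B j j' hAB hA hB hcov hj hj' _ _ rA rB
    have hfac : ∀ C : X.Opens, Scheme.Hom.toImage C.ι ≫ Scheme.Hom.imageι C.ι = C.ι := fun C => Scheme.Hom.toImage_imageι _
    let s := Scheme.Hom.toImage A.ι ≫ j
    have hs : s ≫ p = A.ι := by rw [Category.assoc, hj, hfac]
    have H : IsPullback (𝟙 (A : Scheme.{u})) s A.ι p := by
      refine IsOpenImmersion.isPullback _ _ _ _ (by rw [hs]; simp) ?_
      refine le_antisymm ?_ ?_
      · intro z hz
        have hzA : p z ∈ A := by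
          obtain ⟨a, ha⟩ := hz
          exact ha ▸ a.2
        rcases hcov z with ⟨w, hw⟩ | ⟨w, hw⟩
        · have hwA : (Scheme.Hom.imageι A.ι).base w ∈ A := by rwa [← hj, Scheme.Hom.comp_apply, hw]
          obtain ⟨a, ha⟩ : w ∈ Set.range (Scheme.Hom.toImage A.ι).base := rA.symm ▸ hA hwA
          exact ⟨a, by rw [Scheme.Hom.comp_apply, ha, hw]⟩
        · exfalso
          have hwA : (Scheme.Hom.imageι B.ι).base w ∈ A := by rwa [← hj', Scheme.Hom.comp_apply, hw]
          obtain ⟨b, rfl⟩ : w ∈ Set.range (Scheme.Hom.toImage B.ι).base := rB.symm ▸ hA hwA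
          rw [← Scheme.Hom.comp_apply, hfac] at hwA
          exact hAB.le_bot ⟨hwA, b.2⟩
      · rintro z ⟨a, rfl⟩
        exact ⟨a, by rw [← Scheme.Hom.comp_apply, hs]⟩
    exact IsIso.of_isIso_fac_left (g := p ∣_ A) (h := 𝟙 (A : Scheme.{u}))
      (IsPullback.isoIsPullback_hom_fst _ _ H (isPullback_morphismRestrict p A))
  have hcov : ∀ z, z ∈ Set.range (coprod.inl : Scheme.Hom.image U₀.ι ⟶ _ ⨿ Scheme.Hom.image U₁.ι).base ∨
      z ∈ Set.range (coprod.inr : Scheme.Hom.image U₁.ι ⟶ Scheme.Hom.image U₀.ι ⨿ _).base := fun z => by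
    obtain ⟨z | z, rfl⟩ := (coprodMk _ _).surjective z
    · exact Or.inl ⟨z, (coprodMk_inl _ _ z).symm⟩
    · exact Or.inr ⟨z, (coprodMk_inr _ _ z).symm⟩
  have i₀ : IsIso (p ∣_ U₀) := key U₀ U₁ coprod.inl coprod.inr hd h₀ h₁ hcov (coprod.inl_desc _ _) (coprod.inr_desc _ _) inferInstance o₀ r₀ r₁
  have i₁ : IsIso (p ∣_ U₁) := key U₁ U₀ coprod.inr coprod.inl hd.symm h₁ h₀ (fun z => (hcov z).symm) (coprod.inr_desc _ _) (coprod.inl_desc _ _) inferInstance o₁ r₁ r₀
  show IsIso (p ∣_ ModPair.interior I)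
  refine (MorphismProperty.isomorphisms.iff _).1 (IsZariskiLocalAtTarget.of_iSup_eq_top
    (P := MorphismProperty.isomorphisms Scheme.{u})
    (fun b : Bool => (ModPair.interior I).ι ⁻¹ᵁ (bif b then U₀ else U₁)) ?_ fun b => ?_)
  · refine top_unique fun x _ => ?_
    rcases (show x.1 ∈ U₀ ⊔ U₁ from hU.ge x.2) with h | h
    · exact TopologicalSpace.Opens.mem_iSup.2 ⟨true, h⟩
    · exact TopologicalSpace.Opens.mem_iSup.2 ⟨false, h⟩
  · refine ((MorphismProperty.isomorphisms Scheme.{u}).arrow_mk_iso_iff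
      (morphismRestrictRestrict p (ModPair.interior I) _)).2 ?_
    have he : (ModPair.interior I).ι ''ᵁ ((ModPair.interior I).ι ⁻¹ᵁ (bif b then U₀ else U₁)) = bif b then U₀ else U₁ := by
      rw [Scheme.Hom.image_preimage_eq_opensRange_inf, Scheme.Opens.opensRange_ι]
      cases b
      · exact inf_eq_right.2 h₁
      · exact inf_eq_right.2 h₀
    rw [he]
    cases b
    · exact i₁
    · exact i₀

end Groth.Agent.S18737
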