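import Groth.Statements.S18739
import Groth.Agent.ModPairLib.Refine

set_option autoImplicit false
universe u
open CategoryTheory CategoryTheory.Limits AlgebraicGeometry TopologicalSpace
open ModPair

namespace Groth.Agent.S18739

/-- The localization of the category of modulus pairs and ambient morphisms at the class of abstract
admissible blow-ups has all finite limits. -/
theorem result :
    HasFiniteLimits (ModPair.Pair.admBlowup.{u}).Localization := by
  haveI := S18738.result.{u}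
  let W := ModPair.Pair.admBlowup.{u}
  let L := ModPairLib.LQ.{u}
  have hsurj : ∀ A : W.Localization, ∃ Z, Nonempty (L.obj Z ≅ A) := fun A =>
    (Localization.essSurj L W).mem_essImage A
  let P₁ : ModPair.Pair.{u} := ⟨Spec (CommRingCat.of (ULift.{u} ℤ)), ⊤, fun x =>
    ⟨⟨⊤, isAffineOpen_top _⟩, trivial, 1, one_mem _, by
      rw [Scheme.IdealSheafData.ideal_top, Ideal.span_singleton_one]; rfl⟩⟩
  have hP₁ : ∀ A : W.Localization, Nonempty (Unique (A ⟶ L.obj P₁)) := fun A => by
    obtain ⟨Z, ⟨e⟩⟩ := hsurj A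
    have hamb : ∀ (Z : ModPair.Pair.{u}) (k : Z.total ⟶ P₁.total), ModPair.IsAmbient Z.mod P₁.mod k := fun Z k => by
      show _ ≤ (⊤ : P₁.total.IdealSheafData).comap k
      rw [Scheme.IdealSheafData.comap_top]
      exact le_top
    let t : ∀ Z : ModPair.Pair.{u}, Z ⟶ P₁ := fun Z => ⟨specULiftZIsTerminal.from _, hamb Z _⟩
    have ht : ∀ {Z : ModPair.Pair.{u}} (k : Z ⟶ P₁), k = t Z := fun k =>
      ModPair.Pair.Hom.ext (specULiftZIsTerminal.hom_ext _ _)
    refine ⟨⟨⟨e.inv ≫ L.map (t Z)⟩, fun k => ?_⟩⟩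
    obtain ⟨φ, hφ⟩ := Localization.exists_rightFraction L W (e.hom ≫ k)
    haveI := Localization.inverts L W φ.s φ.hs
    show k = e.inv ≫ L.map (t Z)
    rw [Iso.eq_inv_comp, hφ, ← cancel_epi (L.map φ.s), φ.map_s_comp_map, ← Functor.map_comp,
      ht φ.f, ht (φ.s ≫ t Z)]
  haveI : HasTerminal W.Localization :=
    @hasTerminal_of_unique _ _ (L.obj P₁) (fun A => ⟨(hP₁ A).some.default⟩)
      (fun A => ⟨fun a b => ((hP₁ A).some.uniq a).trans ((hP₁ A).some.uniq b).symm⟩)
  haveI : HasPullbacks W.Localization := by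
    suffices H : ∀ {A B C : W.Localization} (a : A ⟶ C) (b : B ⟶ C), HasLimit (cospan a b) from
      @hasPullbacks_of_hasLimit_cospan _ _ @H
    intro A B C a b
    obtain ⟨P, ⟨eP⟩⟩ := hsurj C
    obtain ⟨X, ⟨eX⟩⟩ := hsurj A
    obtain ⟨T, ⟨eT⟩⟩ := hsurj B
    obtain ⟨φ, hφ⟩ := Localization.exists_rightFraction L W (eX.hom ≫ a ≫ eP.inv)
    obtain ⟨ψ, hψ⟩ := Localization.exists_rightFraction L W (eT.hom ≫ b ≫ eP.inv)
    haveI := Localization.inverts L W φ.s φ.hs
    haveI := Localization.inverts L W ψ.s ψ.hs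
    obtain ⟨Y, π, K, hY⟩ := ModPairLib.exists_ambProd φ.f.hom ψ.f.hom φ.X'.isEffCartier ψ.X'.isEffCartier
    obtain ⟨hK, hX, hT, -⟩ := ModPairLib.ambProd_spec φ.X'.isEffCartier ψ.X'.isEffCartier hY
    haveI : HasPullback (L.map φ.f) (L.map ψ.f) :=
      (ModPairLib.isPullback_localization φ.f ψ.f π K hY hK hX hT).flip.hasPullback
    refine hasLimit_of_iso (F := cospan (L.map φ.f) (L.map ψ.f)) ?_
    refine cospanExt (asIso (L.map φ.s) ≪≫ eX) (asIso (L.map ψ.s) ≪≫ eT) eP ?_ ?_
    · have h := congrArg (L.map φ.s ≫ ·) hφ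
      simp only [φ.map_s_comp_map] at h
      simp only [Iso.trans_hom, asIso_hom, Category.assoc]
      rw [← h]
      simp
    · have h := congrArg (L.map ψ.s ≫ ·) hψ
      simp only [ψ.map_s_comp_map] at h
      simp only [Iso.trans_hom, asIso_hom, Category.assoc]
      rw [← h]
      simp
  exact hasFiniteLimits_of_hasTerminal_and_pullbacks

end Groth.Agent.S18739
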