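import Groth.Statements.S18741
import Mathlib.CategoryTheory.Localization.CalculusOfFractions
import Mathlib.CategoryTheory.Comma.Over.Basic

set_option autoImplicit false
universe v₁ v₂ v₃ u₁ u₂ u₃
open CategoryTheory
open ModPair

namespace Groth.Agent.S18741

/-- Let C be a category, W a class of morphisms of C admitting a calculus of right fractions, and S an
object of C; let W_S be the class of morphisms of the slice category over S whose underlying
morphism lies in W. Then the canonical functor from the localization of the slice category C/S at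
W_S to the slice category over S of the localization of C at W is an equivalence: for every
localization functor L : C ⥤ D at W, every localization functor L' : C/S ⥤ E at W_S, and every
functor Φ : E ⥤ D/L(S) through which the functor C/S ⥤ D/L(S) induced by L factors up to
isomorphism, Φ is an equivalence of categories. -/
theorem result {C : Type u₁}
    [Category.{v₁} C] (W : MorphismProperty C) [W.HasRightCalculusOfFractions] (S : C)
    {D : Type u₂} [Category.{v₂} D] (L : C ⥤ D) [L.IsLocalization W]
    {E : Type u₃} [Category.{v₃} E] (L' : Over S ⥤ E)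
    [L'.IsLocalization (W.inverseImage (Over.forget S))]
    (Φ : E ⥤ Over (L.obj S)) (e : L' ⋙ Φ ≅ Over.post L) : Φ.IsEquivalence := by
  haveI : (W.inverseImage (Over.forget S)).HasRightCalculusOfFractions :=
    { exists_rightFraction := fun X Y φ => by
        obtain ⟨ψ, hψ⟩ := MorphismProperty.HasRightCalculusOfFractions.exists_rightFraction
          (W := W) (MorphismProperty.LeftFraction.mk φ.f.left φ.s.left φ.hs)
        dsimp at hψ
        refine ⟨⟨Over.homMk (U := Over.mk (ψ.s ≫ X.hom)) ψ.s rfl, ψ.hs,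
          Over.homMk (U := Over.mk (ψ.s ≫ X.hom)) ψ.f ?_⟩, Over.OverMorphism.ext hψ⟩
        show ψ.f ≫ Y.hom = ψ.s ≫ X.hom
        rw [← Over.w φ.s, ← Over.w φ.f, ← Category.assoc, ← Category.assoc, hψ]
      ext := fun X Y Y' f₁ f₂ s hs h => by
        obtain ⟨X', t, ht, h'⟩ := MorphismProperty.HasRightCalculusOfFractions.ext (W := W)
          f₁.left f₂.left s.left hs (congrArg CommaMorphism.left h)
        exact ⟨Over.mk (t ≫ X.hom), Over.homMk t rfl, ht, Over.OverMorphism.ext h'⟩ }
  let W' := W.inverseImage (Over.forget S)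
  have hinv := Localization.inverts L' W'
  haveI := Localization.essSurj L' W'
  have nat : ∀ {X Y : Over S} (g : X ⟶ Y),
      e.inv.app X ≫ Φ.map (L'.map g) = (Over.post L).map g ≫ e.inv.app Y := fun g => (e.inv.naturality g).symm
  haveI hfull : Φ.Full := by
    suffices H : ∀ (X Y : Over S) (g : Φ.obj (L'.obj X) ⟶ Φ.obj (L'.obj Y)), ∃ a, Φ.map a = g by
      refine ⟨fun {A B} g => ?_⟩
      let iA := L'.objObjPreimageIso A
      let iB := L'.objObjPreimageIso B
      obtain ⟨a, ha⟩ := H _ _ (Φ.map iA.hom ≫ g ≫ Φ.map iB.inv)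
      refine ⟨iA.inv ≫ a ≫ iB.hom, ?_⟩
      rw [Φ.map_comp, Φ.map_comp, ha]
      simp [← Functor.map_comp_assoc, ← Functor.map_comp]
    intro X Y g
    let g' : (Over.post L).obj X ⟶ (Over.post L).obj Y := e.inv.app X ≫ g ≫ e.hom.app Y
    obtain ⟨φ, hφ⟩ := Localization.exists_rightFraction L W g'.left
    have hφ' : L.map φ.s ≫ g'.left = L.map φ.f :=
      (congrArg (L.map φ.s ≫ ·) hφ).trans (MorphismProperty.RightFraction.map_s_comp_map _ _ _)
    have hw : L.map (φ.f ≫ Y.hom) = L.map (φ.s ≫ X.hom) := by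
      rw [L.map_comp, L.map_comp, ← hφ']
      exact (Category.assoc _ _ _).trans (congrArg (L.map φ.s ≫ ·) (Over.w g'))
    obtain ⟨Z, t, ht, htw⟩ := (MorphismProperty.map_eq_iff_precomp L W _ _).1 hw
    let X'' : Over S := Over.mk (t ≫ φ.s ≫ X.hom)
    let s'' : X'' ⟶ X := Over.homMk (t ≫ φ.s) (Category.assoc _ _ _)
    let f'' : X'' ⟶ Y := Over.homMk (t ≫ φ.f) ((Category.assoc _ _ _).trans htw)
    have hs'' : W' s'' := W.comp_mem _ _ ht φ.hs
    haveI := hinv s'' hs''
    refine ⟨inv (L'.map s'') ≫ L'.map f'', ?_⟩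
    have h1 : (Over.post L).map s'' ≫ g' = (Over.post L).map f'' := by
      apply Over.OverMorphism.ext
      show L.map (t ≫ φ.s) ≫ g'.left = L.map (t ≫ φ.f)
      rw [L.map_comp, L.map_comp]
      exact (Category.assoc _ _ _).trans (congrArg (L.map t ≫ ·) hφ')
    rw [← cancel_epi (Φ.map (L'.map s'')), ← Φ.map_comp, IsIso.hom_inv_id_assoc, ← cancel_epi (e.inv.app X''),
      ← Category.assoc, nat s'', nat f'', ← h1, Category.assoc, Category.assoc]
    simp only [g', Category.assoc, Iso.hom_inv_id_app, Category.comp_id]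
    exact congrArg (fun m => (Over.post L).map s'' ≫ e.inv.app X ≫ m) (Category.comp_id g)
  haveI hfaith : Φ.Faithful := by
    suffices H : ∀ (X Y : Over S) (a b : L'.obj X ⟶ L'.obj Y), Φ.map a = Φ.map b → a = b by
      refine ⟨fun {A B} a b hab => ?_⟩
      let iA := L'.objObjPreimageIso A
      let iB := L'.objObjPreimageIso B
      have := H _ _ (iA.hom ≫ a ≫ iB.inv) (iA.hom ≫ b ≫ iB.inv) (by simp [hab])
      simpa using this
    have base : ∀ (X Y : Over S) (g₁ g₂ : X ⟶ Y), Φ.map (L'.map g₁) = Φ.map (L'.map g₂) →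
        L'.map g₁ = L'.map g₂ := fun X Y g₁ g₂ h => by
      have h1 : (Over.post L).map g₁ = (Over.post L).map g₂ := by
        rw [← cancel_mono (e.inv.app Y), ← nat g₁, ← nat g₂, h]
      obtain ⟨Z, t, ht, htw⟩ := (MorphismProperty.map_eq_iff_precomp L W _ _).1
        (show L.map g₁.left = L.map g₂.left from congrArg CommaMorphism.left h1)
      refine (MorphismProperty.map_eq_iff_precomp L' W' _ _).2
        ⟨Over.mk (t ≫ X.hom), Over.homMk t rfl, ht, Over.OverMorphism.ext htw⟩
    intro X Y a b hab
    obtain ⟨φ, rfl⟩ := Localization.exists_rightFraction L' W' a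
    haveI := hinv φ.s φ.hs
    rw [← cancel_epi (L'.map φ.s), MorphismProperty.RightFraction.map_s_comp_map]
    obtain ⟨ψ, hψ⟩ := Localization.exists_rightFraction L' W' (L'.map φ.s ≫ b)
    haveI := hinv ψ.s ψ.hs
    rw [← cancel_epi (L'.map ψ.s), hψ, MorphismProperty.RightFraction.map_s_comp_map, ← L'.map_comp]
    apply base
    have h2 := congrArg (fun m => Φ.map (L'.map ψ.s) ≫ Φ.map (L'.map φ.s) ≫ m) hab
    simp only [← Φ.map_comp] at h2
    rw [MorphismProperty.RightFraction.map_s_comp_map, hψ, MorphismProperty.RightFraction.map_s_comp_map,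
      ← L'.map_comp] at h2
    exact h2
  haveI : Φ.EssSurj := ⟨fun A => by
    haveI := Localization.essSurj L W
    let i := L.objObjPreimageIso A.left
    obtain ⟨φ, hφ⟩ := Localization.exists_rightFraction L W (i.hom ≫ A.hom)
    refine ⟨L'.obj (Over.mk φ.f), ⟨e.app (Over.mk φ.f) ≪≫ Over.isoMk
      (Localization.isoOfHom L W φ.s φ.hs ≪≫ i) ?_⟩⟩
    show (L.map φ.s ≫ i.hom) ≫ A.hom = L.map φ.f
    rw [Category.assoc, hφ, MorphismProperty.RightFraction.map_s_comp_map]⟩
  exact { }

end Groth.Agent.S18741
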