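import Groth.Statements.S18744
import Groth.Agent.ModPairLib.Charts
import Groth.Agent.ModPairLib.Basic
import Groth.Agent.LimSch.Sections

set_option autoImplicit false
universe u
open CategoryTheory CategoryTheory.Limits AlgebraicGeometry TopologicalSpace
open ModPair

namespace Groth.Agent.S18744

/-- Let (X_i, I_i) be a cofiltered system of schemes equipped with quasi-coherent ideal sheaves of
effective Cartier divisors, with affine and minimal transition morphisms (the modulus of X_i is the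
pull-back of the modulus of X_j along each transition morphism X_i ⟶ X_j), and let X be its limit
with projections π_i. Then the pulled-back ideal I_i.comap π_i is the ideal sheaf of an effective
Cartier divisor on X for every i; with this modulus X is a modulus pair mapping minimally to each
(X_i, I_i). (The source allows the conditions on the transition morphisms to hold only beyond some
index; here they are assumed throughout.) -/
theorem result {I : Type u}
    [SmallCategory I] [IsCofiltered I] (D : I ⥤ Scheme.{u}) (c : Cone D) (hc : IsLimit c)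
    [∀ (i j : I) (t : i ⟶ j), IsAffineHom (D.map t)]
    (J : ∀ i, (D.obj i).IdealSheafData) (hJ : ∀ i, BlowUp.IsEffCartierIdeal (J i))
    (hmin : ∀ (i j : I) (t : i ⟶ j), ModPair.IsMinimal (J i) (J j) (D.map t)) (i : I) :
    BlowUp.IsEffCartierIdeal ((J i).comap (c.π.app i)) := by
  intro x
  obtain ⟨U, hxU, g, hg0, hg⟩ := hJ i ((c.π.app i).base x)
  haveI : IsAffineHom (c.π.app i) := isAffineHom_π_app _ _ hc i
  have hW : IsAffineOpen (c.π.app i ⁻¹ᵁ U.1) := U.2.preimage _
  let W : c.pt.affineOpens := ⟨_, hW⟩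
  refine ⟨W, hxU, ((c.π.app i).appLE U.1 W.1 le_rfl).hom g, ?_, ?_⟩
  · rw [mem_nonZeroDivisors_iff_right]
    intro s hs
    haveI : CompactSpace U.1.toScheme := isCompact_iff_compactSpace.mp U.2.isCompact
    haveI : IsAffine U.1.toScheme := U.2
    obtain ⟨j, φ, t, ht⟩ := LimSch.exists_appLE_eq hc (U := U.1) s
    have hVj : IsAffineOpen (D.map φ ⁻¹ᵁ U.1) := U.2.preimage _
    have e1 := LimSch.appLE_comp' (c.w φ) (U := U.1) (V := D.map φ ⁻¹ᵁ U.1) (W := W.1) le_rfl
      (LimSch.π_preimage_eq (c := c) φ U.1).ge le_rfl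
    have hz : (c.π.app j).app (D.map φ ⁻¹ᵁ U.1)
        (t * ((D.map φ).appLE U.1 (D.map φ ⁻¹ᵁ U.1) le_rfl).hom g) = 0 := by
      refine LimSch.app_eq_zero_of_appLE _ (LimSch.π_preimage_eq (c := c) φ U.1).symm _ ?_
      rw [map_mul]
      exact (congrArg₂ (fun a b : Γ(c.pt, W.1) => a * b) ht (congrArg (fun k => k.hom g) e1)).trans hs
    obtain ⟨k, ψ, hk⟩ := LimSch.exists_app_eq_zero hc hVj.isCompact _ hz
    rw [map_mul] at hk
    have hVk : IsAffineOpen (D.map ψ ⁻¹ᵁ D.map φ ⁻¹ᵁ U.1) := hVj.preimage _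
    have hJj : (J j).ideal ⟨_, hVj⟩ = Ideal.span {((D.map φ).appLE U.1 (D.map φ ⁻¹ᵁ U.1) le_rfl).hom g} := by
      rw [hmin j i φ, FpqcDescent.ideal_comap (J i) (D.map φ) U ⟨_, hVj⟩ le_rfl, hg, Ideal.map_span,
        Set.image_singleton]
    have hJk : (J k).ideal ⟨_, hVk⟩ = Ideal.span {(D.map ψ).app (D.map φ ⁻¹ᵁ U.1)
        (((D.map φ).appLE U.1 (D.map φ ⁻¹ᵁ U.1) le_rfl).hom g)} := by
      rw [hmin k j ψ, FpqcDescent.ideal_comap (J j) (D.map ψ) ⟨_, hVj⟩ ⟨_, hVk⟩ le_rfl, hJj, Ideal.map_span,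
        Set.image_singleton, Scheme.Hom.app_eq_appLE]
    have ht0 := (mem_nonZeroDivisors_iff_right.1 (ModPairLib.nzd_of_span (hJ k) ⟨_, hVk⟩ hJk)) _ hk
    have e2 := LimSch.appLE_comp' (c.w ψ) (U := D.map φ ⁻¹ᵁ U.1) (V := D.map ψ ⁻¹ᵁ D.map φ ⁻¹ᵁ U.1)
      (W := W.1) le_rfl
      (by rw [LimSch.π_preimage_eq (c := c) ψ, LimSch.π_preimage_eq (c := c) φ])
      (LimSch.π_preimage_eq (c := c) φ U.1).ge
    rw [← ht]
    refine (congrArg (fun k => k.hom t) e2).symm.trans ?_
    show ((c.π.app k).appLE _ _ _) ((D.map ψ).appLE _ _ _ t) = 0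
    rw [← Scheme.Hom.app_eq_appLE]
    exact (congrArg _ ht0).trans (map_zero _)
  · rw [FpqcDescent.ideal_comap (J i) (c.π.app i) U W le_rfl, hg, Ideal.map_span, Set.image_singleton]

end Groth.Agent.S18744
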