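import Groth.Statements.S18748
import Groth.Agent.ModPairLib.Coprod
import Groth.Agent.S18738

set_option autoImplicit false
universe u
open CategoryTheory CategoryTheory.Limits AlgebraicGeometry TopologicalSpace
open ModPair

namespace Groth.Agent.S18748

/-- The localization of the category of modulus pairs and ambient morphisms at the class of abstract
admissible blow-ups has binary coproducts, and the localization functor carries the coproduct of two
modulus pairs (the disjoint union of the total spaces with the disjoint union of the moduli) to a
coproduct. (The source also states that the interior functor detects these coproducts; that part is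
not included.) -/
theorem result :
    HasBinaryCoproducts (ModPair.Pair.admBlowup.{u}).Localization ∧
      PreservesColimitsOfShape (Discrete WalkingPair) (ModPair.Pair.admBlowup.{u}).Q := by
  haveI := S18738.result.{u}
  haveI : HasColimitsOfShape (Discrete (ULift.{u} WalkingPair)) ModPair.Pair.{u} := ModPairLib.hasColimitsOfShape_discrete
  haveI : HasColimitsOfShape (Discrete WalkingPair) ModPair.Pair.{u} :=
    hasColimitsOfShape_of_equivalence (Discrete.equivalence Equiv.ulift)
  haveI := ModPairLib.isStable_admBlowup.{u} WalkingPair
  exact ModPairLib.localization_coproducts ModPair.Pair.admBlowup.{u} WalkingPair

end Groth.Agent.S18748
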