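import Groth.Statements.S18753
import Groth.Agent.ModPairLib.ScaleFinite
import Groth.Agent.ModPairLib.Valu

set_option autoImplicit false
universe u
open CategoryTheory CategoryTheory.Limits AlgebraicGeometry TopologicalSpace
open ModPair

namespace Groth.Agent.S18753

theorem ker_eq {A : Type u} [CommRing A] (f : A) :
    (Spec.map (CommRingCat.ofHom (Ideal.Quotient.mk (Ideal.span {f})))).ker = BlowExist.topId (Ideal.span {f}) := by
  refine Scheme.IdealSheafData.ext_of_isAffine ?_
  rw [BlowExist.ideal_topId, Scheme.Hom.ker_apply]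
  ext a
  have hn := RingHom.congr_fun (congrArg CommRingCat.Hom.hom
    (Scheme.ΓSpecIso_naturality (CommRingCat.ofHom (Ideal.Quotient.mk (Ideal.span {f}))))) a
  have hb := (ConcreteCategory.bijective_of_isIso (Scheme.ΓSpecIso (CommRingCat.of (A ⧸ Ideal.span {f}))).hom).1
  have hi : (Scheme.ΓSpecIso (CommRingCat.of A)).inv.hom ((Scheme.ΓSpecIso (CommRingCat.of A)).hom.hom a) = a :=
    RingHom.congr_fun (congrArg CommRingCat.Hom.hom (Scheme.ΓSpecIso (CommRingCat.of A)).hom_inv_id) a
  rw [RingHom.mem_ker, Ideal.mem_map_iff_of_surjective (Scheme.ΓSpecIso (CommRingCat.of A)).inv.hom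
    (ConcreteCategory.bijective_of_isIso (Scheme.ΓSpecIso (CommRingCat.of A)).inv).2]
  constructor
  · intro h
    refine ⟨_, Ideal.Quotient.eq_zero_iff_mem.1 (hn.symm.trans ?_), hi⟩
    exact (congrArg (Scheme.ΓSpecIso (CommRingCat.of (A ⧸ Ideal.span {f}))).hom.hom h).trans (map_zero _)
  · rintro ⟨b, hbm, rfl⟩
    apply hb
    refine (hn.trans ?_).trans (map_zero (Scheme.ΓSpecIso (CommRingCat.of (A ⧸ Ideal.span {f}))).hom.hom).symm
    have hbi : (Scheme.ΓSpecIso (CommRingCat.of A)).hom.hom ((Scheme.ΓSpecIso (CommRingCat.of A)).inv.hom b) = b :=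
      RingHom.congr_fun (congrArg CommRingCat.Hom.hom (Scheme.ΓSpecIso (CommRingCat.of A)).inv_hom_id) b
    exact (congrArg (Ideal.Quotient.mk (Ideal.span {f})) hbi).trans (Ideal.Quotient.eq_zero_iff_mem.2 hbm)

theorem aux {O : Type u} [CommRing O] [IsLocalRing O] (R : ValuationSubring (IsLocalRing.ResidueField O))
    {A : Type u} [CommRing A] [Algebra A O] (hinj : Function.Injective (algebraMap A O))
    (hR : ∀ o : O, IsLocalRing.residue O o ∈ R → o ∈ Set.range (algebraMap A O))
    (f : A) [IsLocalization.Away f O] {Q : Scheme.{u}} (IQ : Q.IdealSheafData) (hQ : BlowUp.IsEffCartierIdeal IQ)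
    (q : Q ⟶ Spec (CommRingCat.of A))
    (hq : ModPair.IsMinimal IQ (Spec.map (CommRingCat.ofHom (Ideal.Quotient.mk (Ideal.span {f})))).ker q)
    [IsProper q]
    (hfin : IsFinite (q ∣_ ModPair.interior
      (Spec.map (CommRingCat.ofHom (Ideal.Quotient.mk (Ideal.span {f})))).ker)) :
    IsFinite q := by
  classical
  suffices LocallyQuasiFinite q from IsFinite.of_isProper_of_locallyQuasiFinite (f := q)
  set I := (Spec.map (CommRingCat.ofHom (Ideal.Quotient.mk (Ideal.span {f})))).ker with hI
  have hker : I = BlowExist.topId (Ideal.span {f}) := ker_eq f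
  haveI : LocallyQuasiFinite (pullback.snd q (Spec.map (CommRingCat.ofHom (algebraMap A O)))) := by
    let g := Spec.map (CommRingCat.ofHom (algebraMap A O))
    haveI : IsOpenImmersion g := IsOpenImmersion.of_isLocalization f
    have hr : Set.range (ModPair.interior I).ι = Set.range g := by
      rw [Scheme.Opens.range_ι]
      refine Eq.trans ?_ (PrimeSpectrum.localization_away_comap_range O f).symm
      ext x
      rw [hker]
      exact ModPairLib.mem_interior_topId x
    let i := IsOpenImmersion.isoOfRangeEq g (ModPair.interior I).ι hr.symm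
    have h1 : LocallyQuasiFinite (pullback.snd q (ModPair.interior I).ι) := by
      have : pullback.snd q (ModPair.interior I).ι = (pullbackRestrictIsoRestrict q _).hom ≫ (q ∣_ ModPair.interior I) := by
        simp [morphismRestrict]
      rw [this]
      haveI := hfin
      infer_instance
    have h2 : LocallyQuasiFinite (pullback.snd q (i.hom ≫ (ModPair.interior I).ι)) := by
      rw [show pullback.snd q (i.hom ≫ (ModPair.interior I).ι) =
        (pullbackLeftPullbackSndIso q (ModPair.interior I).ι i.hom).inv ≫ pullback.snd _ i.hom by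
          rw [Iso.eq_inv_comp, pullbackLeftPullbackSndIso_hom_snd]]
      haveI := h1
      infer_instance
    rwa [IsOpenImmersion.isoOfRangeEq_hom_fac] at h2
  refine ModPairLib.locallyQuasiFinite_of_relations q fun B _ _ e _ he hft p hp x => ?_
  haveI := ModPairLib.chart_quasiFinite q O B e he
  have hfB : algebraMap A B f ∈ nonZeroDivisors B := by
    have h := ModPairLib.isEffCartier_comap_flat hQ e
    rw [hq, ← Scheme.IdealSheafData.comap_comp, he, hker, BlowExist.comap_topId, Ideal.map_span, Set.image_singleton] at h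
    have := ModPairLib.nzd_of_span h ⟨⊤, isAffineOpen_top _⟩ (g := (Scheme.ΓSpecIso (CommRingCat.of B)).inv.hom (algebraMap A B f))
      (by rw [BlowExist.ideal_topId, Ideal.map_span, Set.image_singleton])
    exact mem_nonZeroDivisors_of_injective (f := (Scheme.ΓSpecIso (CommRingCat.of B)).inv.hom)
      (ConcreteCategory.bijective_of_isIso (Scheme.ΓSpecIso (CommRingCat.of B)).inv).1 this
  have main : ∀ (p' : Ideal B) [p'.IsPrime], algebraMap A B f ∉ p' → ∃ (P₀ : Polynomial O) (ρ : O →+* FractionRing (B ⧸ p')),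
      ρ.comp (algebraMap A O) = (algebraMap (B ⧸ p') (FractionRing (B ⧸ p'))).comp ((Ideal.Quotient.mk p').comp (algebraMap A B)) ∧
      (∃ j, ρ (P₀.coeff j) ≠ 0) ∧
      P₀.eval₂ ρ (algebraMap (B ⧸ p') (FractionRing (B ⧸ p')) (Ideal.Quotient.mk p' x)) = 0 := by
    intro p' _ hf
    let τ : B →+* FractionRing (B ⧸ p') := (algebraMap (B ⧸ p') _).comp (Ideal.Quotient.mk p')
    have hτ : ∀ a, τ (algebraMap A B a) = algebraMap A (FractionRing (B ⧸ p')) a := fun a => by
      rw [IsScalarTower.algebraMap_apply A (B ⧸ p') (FractionRing (B ⧸ p'))]; rfl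
    have hu : IsUnit (algebraMap A (FractionRing (B ⧸ p')) f) :=
      isUnit_iff_ne_zero.2 fun h => hf (Ideal.Quotient.eq_zero_iff_mem.1
        (IsFractionRing.injective (B ⧸ p') _ (((hτ f).trans h).trans (map_zero _).symm)))
    let ρ : O →+* FractionRing (B ⧸ p') := IsLocalization.Away.lift f hu
    have hρ : ρ.comp (algebraMap A O) = τ.comp (algebraMap A B) :=
      (IsLocalization.Away.lift_comp f hu).trans (RingHom.ext fun a => (hτ a).symm)
    let ρA : O →ₐ[A] FractionRing (B ⧸ p') := ⟨ρ, fun a => (RingHom.congr_fun hρ a).trans (hτ a)⟩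
    let τA : B →ₐ[A] FractionRing (B ⧸ p') := ⟨τ, hτ⟩
    let σ : TensorProduct A O B →ₐ[A] FractionRing (B ⧸ p') :=
      Algebra.TensorProduct.lift ρA τA fun _ _ => mul_comm _ _
    haveI : (RingHom.ker σ.toRingHom).IsPrime := RingHom.ker_isPrime _
    obtain ⟨P₀, ⟨j, hj⟩, hP⟩ := ModPairLib.exists_relation (R := O) (RingHom.ker σ.toRingHom) ((1 : O) ⊗ₜ[A] x)
    have hc : σ.toRingHom.comp (algebraMap O (TensorProduct A O B)) = ρ := RingHom.ext fun o => by
      show σ (o ⊗ₜ[A] (1 : B)) = ρ o
      exact (Algebra.TensorProduct.lift_tmul _ _ _ _ _).trans (by rw [map_one, mul_one]; rfl)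
    refine ⟨P₀, ρ, hρ, ⟨j, fun h => hj ?_⟩, ?_⟩
    · rw [Ideal.mem_comap, RingHom.mem_ker, ← RingHom.comp_apply, hc]; exact h
    · rw [RingHom.mem_ker, Polynomial.aeval_def, Polynomial.hom_eval₂, hc] at hP
      have hx : σ.toRingHom ((1 : O) ⊗ₜ[A] x) = τ x :=
        (Algebra.TensorProduct.lift_tmul _ _ _ _ _).trans (by rw [map_one, one_mul]; rfl)
      rwa [hx] at hP
  have concl : ∀ (p' : Ideal B) [p'.IsPrime], p' ≤ p → ∀ (ρ : O →+* FractionRing (B ⧸ p')) (P : Polynomial A),
      ρ.comp (algebraMap A O) = (algebraMap (B ⧸ p') (FractionRing (B ⧸ p'))).comp ((Ideal.Quotient.mk p').comp (algebraMap A B)) →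
      (P.map (algebraMap A O)).eval₂ ρ (algebraMap (B ⧸ p') (FractionRing (B ⧸ p')) (Ideal.Quotient.mk p' x)) = 0 →
      Polynomial.aeval x P ∈ p := by
    intro p' _ hle ρ P hρ h
    refine hle (Ideal.Quotient.eq_zero_iff_mem.1 (IsFractionRing.injective (B ⧸ p') (FractionRing (B ⧸ p')) ?_))
    rw [Polynomial.eval₂_map, hρ] at h
    rw [map_zero, ← h, Polynomial.aeval_def, Polynomial.hom_eval₂, Polynomial.hom_eval₂]
  by_cases hfp : algebraMap A B f ∈ p
  · let Bp := Localization.AtPrime p
    obtain ⟨R', _, _, _, φ, hφ0, hφm, hφp⟩ := ModPairLib.exists_valuation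
      (A := Bp) (f := algebraMap B Bp (algebraMap A B f))
      (IsLocalization.map_nonZeroDivisors_le p.primeCompl Bp ⟨_, hfB, rfl⟩) (IsLocalRing.maximalIdeal Bp)
      ((IsLocalization.AtPrime.to_map_mem_maximal_iff Bp p _).2 hfp)
    let χ : B →+* R' := φ.comp (algebraMap B Bp)
    let p' : Ideal B := RingHom.ker χ
    haveI : p'.IsPrime := RingHom.ker_isPrime _
    have hle : p' ≤ p := fun b hb => by
      by_contra hbp
      exact ((IsLocalization.map_units Bp (⟨b, hbp⟩ : p.primeCompl)).map φ).ne_zero hb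
    obtain ⟨P₀, ρ, hρ, ⟨j₀, hj₀⟩, hev⟩ := main p' hφ0
    have hmO : ∀ m : O, IsLocalRing.residue O m = 0 → ρ m = 0 := by
      intro m hm
      obtain ⟨m', rfl⟩ := hR m (by rw [hm]; exact R.zero_mem)
      have hchi : χ (algebraMap A B m') = 0 := by
        by_contra h0
        have hF : χ (algebraMap A B f) ∈ (Ideal.span {χ (algebraMap A B m')}).radical := by
          rw [Ideal.radical_eq_sInf, Submodule.mem_sInf]
          rintro P ⟨hPle, hPp⟩
          refine hφp P hPp fun hb => h0 ?_
          rw [hb] at hPle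
          exact Ideal.mem_bot.1 (hPle (Ideal.mem_span_singleton_self _))
        obtain ⟨n, hn⟩ := hF
        obtain ⟨c, hc⟩ := Ideal.mem_span_singleton'.1 hn
        obtain ⟨v, hv⟩ := (IsLocalization.Away.algebraMap_isUnit (S := O) f).pow (n + 1)
        obtain ⟨d, hd0⟩ := hR (algebraMap A O m' * ↑v⁻¹) (by rw [map_mul, hm, zero_mul]; exact R.zero_mem)
        have hd : m' = f ^ (n + 1) * d := hinj (by
          rw [map_mul, map_pow, ← hv, hd0, mul_left_comm, Units.mul_inv, mul_one])
        have hne : χ (algebraMap A B f) ^ n ≠ 0 := pow_ne_zero _ hφ0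
        have h1 : χ (algebraMap A B f) ^ n * (χ (algebraMap A B f) * (c * χ (algebraMap A B d))) =
            χ (algebraMap A B f) ^ n * 1 := by
          rw [mul_one]
          conv_rhs => rw [← hc, hd, map_mul, map_pow, map_mul, map_pow]
          ring
        have hu : IsUnit (χ (algebraMap A B f)) := IsUnit.of_mul_eq_one _ (mul_left_cancel₀ hne h1)
        exact (IsLocalRing.mem_maximalIdeal _).1
          (hφm _ ((IsLocalization.AtPrime.to_map_mem_maximal_iff Bp p _).2 hfp)) hu
      have := RingHom.congr_fun hρ m'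
      rw [RingHom.comp_apply] at this
      refine this.trans ?_
      rw [RingHom.comp_apply, RingHom.comp_apply, Ideal.Quotient.eq_zero_iff_mem.2 (show algebraMap A B m' ∈ p' from hchi), map_zero]
    have hres : IsLocalRing.residue O (P₀.coeff j₀) ≠ 0 := fun h => hj₀ (hmO _ h)
    obtain ⟨j, hj, hmax⟩ := Finset.exists_max_image P₀.support
      (fun i => R.valuation (IsLocalRing.residue O (P₀.coeff i)))
      ⟨j₀, Polynomial.mem_support_iff.2 fun h => hj₀ (by rw [h, map_zero])⟩
    have hvj : R.valuation (IsLocalRing.residue O (P₀.coeff j)) ≠ 0 := by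
      intro h
      have := hmax j₀ (Polynomial.mem_support_iff.2 fun h => hj₀ (by rw [h, map_zero]))
      rw [h] at this
      exact hres ((map_eq_zero R.valuation).1 (le_zero_iff.1 this))
    have hu : IsUnit (P₀.coeff j) := by
      by_contra hu
      exact hvj (by rw [(IsLocalRing.residue_eq_zero_iff _).2 ((IsLocalRing.mem_maximalIdeal _).2 hu), map_zero])
    obtain ⟨v, hv⟩ := hu
    have hlift : Polynomial.C (↑v⁻¹ : O) * P₀ ∈ Polynomial.lifts (algebraMap A O) := by
      refine (Polynomial.lifts_iff_coeff_lifts _).2 fun i => hR _ ?_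
      rw [Polynomial.coeff_C_mul, map_mul]
      refine (R.valuation_le_one_iff _).1 ?_
      rw [map_mul, map_units_inv, map_inv₀, hv]
      by_cases hi : i ∈ P₀.support
      · rw [inv_mul_le_one₀ (zero_lt_iff.2 hvj)]; exact hmax i hi
      · rw [Polynomial.notMem_support_iff.1 hi, map_zero, map_zero, mul_zero]; exact zero_le'
    obtain ⟨P, hP⟩ := hlift
    refine ⟨P, ⟨j, ?_⟩, concl p' hle ρ P hρ ?_⟩
    · have hone : algebraMap A O (P.coeff j) = algebraMap A O 1 := by
        rw [← Polynomial.coeff_map, show P.map (algebraMap A O) = _ from hP, Polynomial.coeff_C_mul, ← hv,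
          Units.inv_mul, map_one]
      rw [hinj hone]
      exact fun h1 => ‹p.IsPrime›.ne_top ((Ideal.eq_top_iff_one p).2 (by simpa using h1))
    · rw [show P.map (algebraMap A O) = _ from hP, Polynomial.eval₂_mul, hev, mul_zero]
  · obtain ⟨P₀, ρ, hρ, ⟨j, hj⟩, hev⟩ := main p hfp
    obtain ⟨b, hb, hbP⟩ := IsLocalization.integerNormalization_spec (Submonoid.powers f) P₀
    refine ⟨IsLocalization.integerNormalization (Submonoid.powers f) P₀, ⟨j, fun h => hj ?_⟩,
      concl p le_rfl ρ _ hρ ?_⟩
    · have h0 : ρ (algebraMap A O ((IsLocalization.integerNormalization (Submonoid.powers f) P₀).coeff j)) = 0 := by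
        rw [← RingHom.comp_apply, hρ]
        rw [RingHom.comp_apply, RingHom.comp_apply, Ideal.Quotient.eq_zero_iff_mem.2 (Ideal.mem_comap.1 h : _ ∈ p), map_zero]
      rw [← Polynomial.coeff_map, hbP, Polynomial.coeff_smul, Algebra.smul_def, map_mul] at h0
      exact (((IsLocalization.map_units O (⟨b, hb⟩ : Submonoid.powers f)).map ρ).mul_right_eq_zero).1 h0
    · rw [hbP, ← IsScalarTower.algebraMap_smul O b P₀, Polynomial.smul_eq_C_mul, Polynomial.eval₂_mul, hev, mul_zero]


/-- Let O be a local ring with residue field κ, R a valuation ring of κ, A ⊆ O the subring of elements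
whose residue class lies in R (the fibre product ring R ×_κ O, a semi-valuation ring), and f an
element of A such that O is the localization of A obtained by inverting f. Equip P = Spec A with the
modulus V(f), the closed subscheme cut out by f (an effective Cartier divisor: f is a unit of O, so
a nonzerodivisor of A), whose interior is Spec O. Let q : Q ⟶ P be a proper, minimal morphism of
modulus pairs (the modulus of Q is the pull-back of V(f) and is an effective Cartier divisor) whose
restriction over the interior of P is a finite morphism. Then q is finite. -/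
theorem result {O : Type u} [CommRing O]
    [IsLocalRing O] (R : ValuationSubring (IsLocalRing.ResidueField O))
    (f : ↥((R.toSubring).comap (IsLocalRing.residue O)))
    [IsLocalization.Away f O] {Q : Scheme.{u}} (IQ : Q.IdealSheafData)
    (hQ : BlowUp.IsEffCartierIdeal IQ)
    (q : Q ⟶ Spec (CommRingCat.of ↥((R.toSubring).comap (IsLocalRing.residue O))))
    (hq : ModPair.IsMinimal IQ
      (Spec.map (CommRingCat.ofHom (Ideal.Quotient.mk (Ideal.span {f})))).ker q)
    [IsProper q]
    (hfin : IsFinite (q ∣_ ModPair.interior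
      (Spec.map (CommRingCat.ofHom (Ideal.Quotient.mk (Ideal.span {f})))).ker)) :
    IsFinite q := by
  exact aux R Subtype.val_injective (fun o ho => ⟨⟨o, ho⟩, rfl⟩) f IQ hQ q hq hfin

end Groth.Agent.S18753
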