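import Groth.Statements.S18763
import Groth.Agent.GrpSch.Core

set_option autoImplicit false
universe u
open CategoryTheory CategoryTheory.Limits MonoidalCategory CartesianMonoidalCategory MonObj GrpObj AlgebraicGeometry
open AlgGrp

namespace Groth.Agent.S18763

/-- Let G be a finite group scheme over a field k and H a closed subgroup scheme of G, and let (Q, q₀)
with its G-action be the homogeneous space G/H for the fppf topology (the orbit map of q₀ is an fppf
H-torsor onto Q). Let N be a closed subgroup scheme of G which is the kernel of the action of G on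
Q: a point g of G with values in a k-scheme T factors through N exactly when g acts as the identity
on all points of Q with values in T-schemes. Then N (the core of H in G) is normal in G, is
contained in H, and contains every closed normal subgroup scheme of G which is contained in H. (The
published definition takes the core to be the kernel of the linear representation of G on the
coordinate ring of G/H; this is the same subgroup as the kernel of the action on G/H used here.) -/
theorem result
    (k : Type u) [Field k]
    (G : Over (Spec (CommRingCat.of k))) [GrpObj G] [IsFinite G.hom]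
    (H : Over (Spec (CommRingCat.of k))) [GrpObj H] (i : H ⟶ G) [IsMonHom i] [IsClosedImmersion i.left]
    (Q : Over (Spec (CommRingCat.of k))) (aQ : AlgGrp.Action G Q) (q₀ : 𝟙_ (Over (Spec (CommRingCat.of k))) ⟶ Q)
    (hQ : ChGrp.IsHomog Scheme.fppfPrecoverage i aQ q₀)
    (N : Over (Spec (CommRingCat.of k))) [GrpObj N] (n : N ⟶ G) [IsMonHom n] [IsClosedImmersion n.left]
    (hN : ∀ (T : Over (Spec (CommRingCat.of k))) (g : T ⟶ G),
      (∃ g' : T ⟶ N, g' ≫ n = g) ↔
        ∀ (T' : Over (Spec (CommRingCat.of k))) (v : T' ⟶ T) (q : T' ⟶ Q), lift (v ≫ g) q ≫ aQ.act = q) :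
    AlgGrp.IsNormalHom n ∧ (∃ m : N ⟶ H, m ≫ i = n) ∧
      ∀ (N' : Over (Spec (CommRingCat.of k))) [GrpObj N'] (n' : N' ⟶ G) [IsMonHom n'] [IsClosedImmersion n'.left],
        AlgGrp.IsNormalHom n' → (∃ m' : N' ⟶ H, m' ≫ i = n') → ∃ r : N' ⟶ N, r ≫ n = n' := by
  obtain ⟨-, hpb, R, hR, hsec⟩ := hQ
  obtain ⟨h1, h2, h3⟩ := Groth.Agent.GrpSch.Core.core_of_lifts i aQ q₀ hpb (fun {T} x u v h => by
    apply Over.OverMorphism.ext
    have hmem : (Sieve.generate R).pullback x.left ∈ Scheme.fppfTopology T.left :=
      Scheme.fppfTopology.pullback_stable _ (Precoverage.generate_mem_toGrothendieck hR)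
    have hsh : Presieve.IsSheaf Scheme.fppfTopology (yoneda.obj Q.left) :=
      GrothendieckTopology.Subcanonical.isSheaf_of_isRepresentable _
    refine (hsh _ hmem).isSeparatedFor.ext fun A f hf => ?_
    obtain ⟨S', g, r, hr, hgr⟩ := hf
    obtain ⟨s, hs⟩ := hsec r hr
    let π : Over.mk (f ≫ T.hom) ⟶ T := Over.homMk f rfl
    let b : Over.mk (f ≫ T.hom) ⟶ G := Over.homMk (g ≫ s) (by
      change (g ≫ s) ≫ G.hom = f ≫ T.hom
      rw [← Over.w (aQ.orbitMap q₀), Category.assoc]
      erw [reassoc_of% hs]
      rw [reassoc_of% hgr, Over.w x])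
    exact congrArg (fun m => m.left) (h _ π b (Over.OverMorphism.ext (by
      change f ≫ x.left = (g ≫ s) ≫ (aQ.orbitMap q₀).left
      rw [Category.assoc, ← hgr]
      exact congrArg (g ≫ ·) hs.symm)))) n hN
  exact ⟨h1, h2, fun N' _ n' _ _ => h3 N' n'⟩

end Groth.Agent.S18763
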