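import Groth.Statements.S18790
import Mathlib.RingTheory.GradedAlgebra.Basic

set_option autoImplicit false
set_option linter.style.haveILetI false
universe u v w
open TorusGr

namespace Groth.Agent.S18790

/-- Let `A` be a commutative algebra over a field `k`, graded by an additive commutative group `M` (for
`M` the character group of a split torus `T`, a `T`-action on `Spec A`), let `J` be the ideal
generated by the homogeneous elements of non-zero degree (its zero locus is the fixed-point
subscheme) and let `m ⊇ J` be a maximal ideal with residue field `k` (a fixed rational point) at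
which the fixed-point subscheme is the reduced point: `J` and `m` agree after localizing at `m`.
Then the cotangent space `m/m²` has no part of weight zero: every degree-zero element of `m` lies in
`m²`. (The published statement has `M ≅ ℤ^r`, a split torus, and phrases the conclusion as the
non-vanishing of the weights of a semi-invariant basis of `m/m²`; here `M` is any additive
commutative group, i.e. any diagonalizable group.) -/
theorem result
    {k : Type u} [Field k] {M : Type v} [AddCommGroup M] [DecidableEq M]
    {A : Type w} [CommRing A] [Algebra k A] (𝒜 : M → Submodule k A) [GradedAlgebra 𝒜]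
    (m : Ideal A) [m.IsMaximal] (hrat : Function.Surjective (algebraMap k (A ⧸ m)))
    (hfix : ∀ i : M, i ≠ 0 → ∀ a ∈ 𝒜 i, a ∈ m)
    (hred : ∀ a ∈ m, ∃ s ∉ m, s * a ∈ Ideal.span {b : A | ∃ i : M, i ≠ 0 ∧ b ∈ 𝒜 i})
    {f : A} (hf0 : f ∈ 𝒜 0) (hfm : f ∈ m) : f ∈ m ^ 2 := by
  classical
  obtain ⟨s, hs, hsf⟩ := hred f hfm
  have hcomp : ∀ (a : A) (i : M), i ≠ 0 → (↑(DirectSum.decompose 𝒜 a i) : A) ∈ m := fun a i hi =>
    hfix i hi _ (DirectSum.decompose 𝒜 a i).2
  have hspan : ∀ x ∈ Ideal.span {b : A | ∃ i : M, i ≠ 0 ∧ b ∈ 𝒜 i},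
      ∀ c : A, (↑(DirectSum.decompose 𝒜 (c * x) 0) : A) ∈ m ^ 2 := by
    intro x hx
    induction hx using Submodule.span_induction with
    | mem b hb =>
      intro c
      obtain ⟨i, hi, hb⟩ := hb
      have h := DirectSum.coe_decompose_mul_add_of_right_mem 𝒜 (a := c) (i := -i) hb
      rw [neg_add_cancel] at h
      rw [h, sq]
      exact Ideal.mul_mem_mul (hcomp c _ (neg_ne_zero.2 hi)) (hfix i hi b hb)
    | zero => intro c; simp
    | add y z _ _ hy hz => intro c; simpa [mul_add] using Ideal.add_mem _ (hy c) (hz c)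
    | smul r y _ hy => intro c; simpa [smul_eq_mul, ← mul_assoc] using hy (c * r)
  have h1 : (↑(DirectSum.decompose 𝒜 s 0) : A) * f ∈ m ^ 2 := by
    have h := DirectSum.coe_decompose_mul_add_of_right_mem 𝒜 (a := s) (i := (0 : M)) hf0
    rw [add_zero] at h
    have h' := hspan _ hsf 1
    rwa [one_mul, h] at h'
  have h2 : (↑(DirectSum.decompose 𝒜 s 0) : A) ∉ m := fun h0 => hs (by
    rw [← DirectSum.sum_support_decompose 𝒜 s]
    refine Submodule.sum_mem _ fun i _ => ?_
    rcases eq_or_ne i 0 with rfl | hi
    · exact h0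
    · exact hcomp s i hi)
  obtain ⟨a, t, ht, hat⟩ := Ideal.IsMaximal.exists_inv ‹m.IsMaximal› h2
  have : f = a * ((↑(DirectSum.decompose 𝒜 s 0) : A) * f) + t * f := by
    rw [← mul_assoc, ← add_mul, hat, one_mul]
  rw [this]
  exact Ideal.add_mem _ (Ideal.mul_mem_left _ _ h1) (by rw [sq]; exact Ideal.mul_mem_mul ht hfm)

end Groth.Agent.S18790
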