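import Groth.Statements.S18791
import Mathlib.RingTheory.GradedAlgebra.Homogeneous.Ideal
import Mathlib.RingTheory.Nakayama

set_option autoImplicit false
set_option linter.style.haveILetI false
universe u v w x
open TorusGr

namespace Groth.Agent.S18791

/-- Let `φ : B → A` be a degree-preserving homomorphism of commutative algebras over a field `k` graded
by an additive commutative group `M` (for `M` the character group of a split torus, an equivariant
morphism `Spec A → Spec B`), and let `m` be a maximal ideal of `A` containing all homogeneous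
elements of non-zero degree (a fixed point). Then the ideal of those `b` whose image is zero in the
local ring `A_m` is homogeneous: the homogeneous (weight) components of such a `b` again die in
`A_m`. Since `A_m` embeds in its completion when `A` is Noetherian, these are the elements of `B`
that die in the completed local ring. (The published lemma asserts moreover that, for `B = k[Y_1, …,
Y_d]` mapping the `Y_i` to semi-invariant lifts of a basis of `m/m²`, the kernel of the induced
surjection of completions `k[[Y]] → Â_m` is generated by semi-invariant polynomials; generation of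
that kernel by polynomials can fail, so only the statement about polynomial elements of the kernel
is recorded here. The published statement has `M ≅ ℤ^r` (a split torus) and `B` the polynomial ring
on the lifts; here `M` is any additive commutative group and `B` any `M`-graded `k`-algebra.) -/
theorem result
    {k : Type u} [Field k] {M : Type v} [AddCommGroup M] [DecidableEq M]
    {A : Type w} [CommRing A] [Algebra k A] (𝒜 : M → Submodule k A) [GradedAlgebra 𝒜]
    {B : Type x} [CommRing B] [Algebra k B] (ℬ : M → Submodule k B) [GradedAlgebra ℬ]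
    (φ : B →ₐ[k] A) (hφ : ∀ i : M, ∀ b ∈ ℬ i, φ b ∈ 𝒜 i)
    (m : Ideal A) [m.IsMaximal] (hfix : ∀ i : M, i ≠ 0 → ∀ a ∈ 𝒜 i, a ∈ m) :
    (RingHom.ker ((algebraMap A (Localization.AtPrime m)).comp (φ : B →+* A))).IsHomogeneous ℬ := by
  classical
  intro i b hb
  rw [RingHom.mem_ker, RingHom.comp_apply, IsLocalization.map_eq_zero_iff m.primeCompl] at hb
  obtain ⟨⟨s, hs⟩, hsb⟩ := hb
  replace hsb : s * φ b = 0 := hsb
  let c : M → A := fun j => φ (DirectSum.decompose ℬ b j : B)
  have hc : ∀ j, c j ∈ 𝒜 j := fun j => hφ j _ (DirectSum.decompose ℬ b j).2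
  let S := (DirectSum.decompose ℬ b).support
  let N : Submodule A A := Submodule.span A (c '' ↑S)
  have hφb : φ b = ∑ j ∈ S, c j := by
    conv_lhs => rw [← DirectSum.sum_support_decompose ℬ b]
    rw [map_sum]
  have hcN : ∀ j, c j ∈ N := fun j => by
    by_cases hj : j ∈ S
    · exact Submodule.subset_span ⟨j, hj, rfl⟩
    · have : c j = 0 := by
        simp only [c]
        rw [DFinsupp.notMem_support_iff.1 hj]
        simp
      rw [this]; exact zero_mem _
  have hcomp : ∀ (a : A) (j : M), j ≠ 0 → (↑(DirectSum.decompose 𝒜 a j) : A) ∈ m := fun a j hj =>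
    hfix j hj _ (DirectSum.decompose 𝒜 a j).2
  let s0 : A := (DirectSum.decompose 𝒜 s 0 : A)
  have hs0 : s0 ∉ m := fun h0 => hs (by
    rw [← DirectSum.sum_support_decompose 𝒜 s]
    refine Submodule.sum_mem _ fun j _ => ?_
    rcases eq_or_ne j 0 with rfl | hj
    · exact h0
    · exact hcomp s j hj)
  obtain ⟨a, t, ht, hat⟩ := Ideal.IsMaximal.exists_inv ‹m.IsMaximal› hs0
  have hle : N ≤ m • N := Submodule.span_le.2 fun x hx => by
    obtain ⟨n, -, rfl⟩ := hx
    have hz : ∑ j ∈ S, (DirectSum.decompose 𝒜 s (n - j) : A) * c j = 0 := by
      have : (DirectSum.decompose 𝒜 (s * φ b) n : A) = 0 := by rw [hsb]; simp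
      rw [hφb, Finset.mul_sum, DirectSum.decompose_sum, DFinsupp.finsetSum_apply, AddSubmonoidClass.coe_finsetSum] at this
      refine Eq.trans (Finset.sum_congr rfl fun j _ => ?_) this
      have h := DirectSum.coe_decompose_mul_add_of_right_mem 𝒜 (a := s) (i := n - j) (hc j)
      rw [sub_add_cancel] at h
      exact h.symm
    have hmem : s0 * c n ∈ m • N := by
      by_cases hn : n ∈ S
      · rw [← Finset.add_sum_erase _ _ hn, sub_self, add_eq_zero_iff_eq_neg] at hz
        rw [show s0 * c n = _ from hz]
        exact Submodule.neg_mem _ (Submodule.sum_mem _ fun j hj =>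
          Submodule.smul_mem_smul (hcomp s _ (sub_ne_zero.2 (Finset.ne_of_mem_erase hj).symm)) (hcN j))
      · have : c n = 0 := by
          simp only [c]
          rw [DFinsupp.notMem_support_iff.1 hn]
          simp
        rw [this, mul_zero]; exact zero_mem _
    have : c n = a * (s0 * c n) + t * c n := by rw [← mul_assoc, ← add_mul, hat, one_mul]
    rw [SetLike.mem_coe, this]
    exact Submodule.add_mem _ (Submodule.smul_mem _ a hmem) (Submodule.smul_mem_smul ht (hcN n))
  obtain ⟨r, hr, hr0⟩ := Submodule.exists_sub_one_mem_and_smul_eq_zero_of_fg_of_le_smul m N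
    (Submodule.fg_span ((S.finite_toSet).image c)) hle
  have hrm : r ∉ m := fun h => Ideal.IsMaximal.ne_top ‹_› ((Ideal.eq_top_iff_one m).2 (by simpa using m.sub_mem h hr))
  rw [RingHom.mem_ker, RingHom.comp_apply, IsLocalization.map_eq_zero_iff m.primeCompl]
  exact ⟨⟨r, hrm⟩, hr0 _ (hcN i)⟩

end Groth.Agent.S18791
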