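import Groth.Statements.S18792


set_option autoImplicit false
universe u
open DefMod

namespace Groth.Agent.S18792

/-- Let A be an associative unital algebra over ℚ, let a ∈ A be nilpotent and let b ∈ A. Then the
commutator map x ↦ a x − x a is a nilpotent ℚ-linear endomorphism of A, and exp(a) b exp(−a) =
exp(ad a)(b), where exp is the finite exponential series of a nilpotent element and ad a is the
commutator map. (The published statement takes A an algebra over an arbitrary commutative ring; the
factorials in the exponential series require the rationals to act, so A is taken to be a ℚ-algebra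
here. The intermediate double-sum expansion printed between the two sides is not restated.) -/
theorem result {A : Type u} [Ring A] [Algebra ℚ A] (a b : A)
    (ha : IsNilpotent a) :
    IsNilpotent (LinearMap.mulLeft ℚ a - LinearMap.mulRight ℚ a) ∧
      IsNilpotent.exp a * b * IsNilpotent.exp (-a) =
        IsNilpotent.exp (LinearMap.mulLeft ℚ a - LinearMap.mulRight ℚ a) b := by
  have hl : IsNilpotent (LinearMap.mulLeft ℚ a) := by
    obtain ⟨n, hn⟩ := ha
    exact ⟨n, by rw [LinearMap.pow_mulLeft, hn, LinearMap.mulLeft_zero_eq_zero]⟩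
  have hr : IsNilpotent (LinearMap.mulRight ℚ (-a)) := by
    obtain ⟨n, hn⟩ := ha.neg
    exact ⟨n, by rw [LinearMap.pow_mulRight, hn, LinearMap.mulRight_zero_eq_zero]⟩
  have hc : Commute (LinearMap.mulLeft ℚ a) (LinearMap.mulRight ℚ (-a)) :=
    LinearMap.commute_mulLeft_right a (-a)
  have he : LinearMap.mulLeft ℚ a - LinearMap.mulRight ℚ a =
      LinearMap.mulLeft ℚ a + LinearMap.mulRight ℚ (-a) := by
    ext x; simp [sub_eq_add_neg]
  rw [he]
  refine ⟨hc.isNilpotent_add hl hr, ?_⟩
  rw [IsNilpotent.exp_add_of_commute hc hl hr, Module.End.mul_apply]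
  obtain ⟨n, hn⟩ := ha
  have hn' : (-a) ^ n = 0 := by rw [neg_pow, hn, mul_zero]
  have hL : ∀ x, IsNilpotent.exp (LinearMap.mulLeft ℚ a) x = IsNilpotent.exp a * x := by
    intro x
    rw [IsNilpotent.exp_eq_sum (k := n) (by rw [LinearMap.pow_mulLeft, hn, LinearMap.mulLeft_zero_eq_zero]),
      IsNilpotent.exp_eq_sum hn, Finset.sum_mul]
    simp [LinearMap.pow_mulLeft]
  have hR : ∀ x, IsNilpotent.exp (LinearMap.mulRight ℚ (-a)) x = x * IsNilpotent.exp (-a) := by
    intro x
    rw [IsNilpotent.exp_eq_sum (k := n) (by rw [LinearMap.pow_mulRight, hn', LinearMap.mulRight_zero_eq_zero]),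
      IsNilpotent.exp_eq_sum hn', Finset.mul_sum]
    simp [LinearMap.pow_mulRight]
  rw [hL, hR, mul_assoc]

end Groth.Agent.S18792
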