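import Groth.Statements.S18794
import Mathlib.FieldTheory.IsAlgClosed.AlgebraicClosure
import Mathlib.LinearAlgebra.TensorProduct.Tower
import Mathlib.RingTheory.TensorProduct.Basic
import Mathlib.LinearAlgebra.Dual.Lemmas
import Mathlib.FieldTheory.IntermediateField.Adjoin.Basic
import Mathlib.RingTheory.Flat.Basic

set_option autoImplicit false
universe u v w
open scoped TensorProduct
open DefMod

namespace Groth.Agent.S18794

/-- Let E be a left module over an associative algebra D over a field K of characteristic zero. For a
field extension L of K, the base change L ⊗_K E is a module over L ⊗_K D, i.e. an L-vector space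
with a commuting action of D; call it irreducible when it is nonzero and its only L-subspaces stable
under every element of D are 0 and the whole space. Then E is absolutely irreducible (its base
change to an algebraic closure of K is irreducible) if and only if L ⊗_K E is irreducible for every
finite extension L of K. (Finite extensions are taken in the universe of K.) -/
theorem result
    {K : Type u} [Field K] [CharZero K]
    {D : Type v} [Ring D] [Algebra K D]
    {E : Type w} [AddCommGroup E] [Module K E] [Module D E] [IsScalarTower K D E] :
    (Nontrivial (AlgebraicClosure K ⊗[K] E) ∧ ∀ N : Submodule (AlgebraicClosure K) (AlgebraicClosure K ⊗[K] E), (∀ (d : D) (x : AlgebraicClosure K ⊗[K] E), x ∈ N → (DistribSMul.toLinearMap K E d).baseChange (AlgebraicClosure K) x ∈ N) → N = ⊥ ∨ N = ⊤) ↔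
      ∀ (L : Type u) [Field L] [Algebra K L] [FiniteDimensional K L],
        (Nontrivial (L ⊗[K] E) ∧ ∀ N : Submodule (L) (L ⊗[K] E), (∀ (d : D) (x : L ⊗[K] E), x ∈ N → (DistribSMul.toLinearMap K E d).baseChange (L) x ∈ N) → N = ⊥ ∨ N = ⊤) := by
  classical
  have hnat : ∀ (L : Type u) [Field L] [Algebra K L] (f : L →ₐ[K] AlgebraicClosure K) (d : D) (z : L ⊗[K] E),
      (DistribSMul.toLinearMap K E d).baseChange (AlgebraicClosure K) (f.toLinearMap.rTensor E z) =
        f.toLinearMap.rTensor E ((DistribSMul.toLinearMap K E d).baseChange L z) := by
    intro L _ _ f d z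
    induction z using TensorProduct.induction_on with
    | zero => simp
    | add a b ha hb => simp only [map_add, ha, hb]
    | tmul a e => simp
  have hsm : ∀ (L : Type u) [Field L] [Algebra K L] (f : L →ₐ[K] AlgebraicClosure K) (c : L) (z : L ⊗[K] E),
      f.toLinearMap.rTensor E (c • z) = f c • f.toLinearMap.rTensor E z := by
    intro L _ _ f c z
    induction z using TensorProduct.induction_on with
    | zero => simp
    | add a b ha hb => simp only [smul_add, map_add, ha, hb]
    | tmul a e => simp [TensorProduct.smul_tmul', map_mul]
  constructor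
  · intro h L _ _ _
    obtain ⟨hnt, hs⟩ := h
    have hE : Nontrivial E := by
      by_contra hE
      rw [not_nontrivial_iff_subsingleton] at hE
      exact not_subsingleton (AlgebraicClosure K ⊗[K] E) inferInstance
    refine ⟨?_, fun N hN => ?_⟩
    · obtain ⟨e, he⟩ := exists_ne (0 : E)
      refine ⟨⟨(1 : L) ⊗ₜ[K] e, 0, fun h0 => he ?_⟩⟩
      obtain ⟨g, hg⟩ := Module.Projective.exists_dual_ne_zero K he
      exfalso
      apply hg
      have := congrArg (fun z => TensorProduct.rid K L (g.lTensor L z)) h0
      simpa [Algebra.smul_def] using this
    · let f : L →ₐ[K] AlgebraicClosure K := IsAlgClosed.lift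
      by_cases hbot : N = ⊥
      · exact Or.inl hbot
      right
      have hspan : Submodule.span (AlgebraicClosure K) (f.toLinearMap.rTensor E '' (N : Set (L ⊗[K] E))) = ⊤ := by
        refine (hs _ ?_).resolve_left ?_
        · intro d x hx
          induction hx using Submodule.span_induction with
          | mem x hx =>
            obtain ⟨z, hz, rfl⟩ := hx
            rw [hnat L f d z]
            exact Submodule.subset_span ⟨_, hN d z hz, rfl⟩
          | zero => simp
          | add a b _ _ ha hb => rw [map_add]; exact Submodule.add_mem _ ha hb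
          | smul c a _ ha => rw [map_smul]; exact Submodule.smul_mem _ _ ha
        · obtain ⟨z, hz, hz0⟩ := (Submodule.ne_bot_iff N).1 hbot
          refine (Submodule.ne_bot_iff _).2 ⟨_, Submodule.subset_span ⟨z, hz, rfl⟩, fun h0 => hz0 ?_⟩
          exact (Module.Flat.rTensor_preserves_injective_linearMap (M := E) f.toLinearMap f.toRingHom.injective) (by rw [h0, map_zero])
      by_contra htop
      obtain ⟨x, hx⟩ : ∃ x, x ∉ N := by
        by_contra hall
        push Not at hall
        exact htop (eq_top_iff.2 fun x _ => hall x)
      obtain ⟨φ, hφx, hφN⟩ := Submodule.exists_dual_map_eq_bot_of_notMem hx inferInstance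
      let Φ : AlgebraicClosure K ⊗[K] E →ₗ[AlgebraicClosure K] AlgebraicClosure K :=
        LinearMap.liftBaseChange (AlgebraicClosure K)
          (f.toLinearMap ∘ₗ φ.restrictScalars K ∘ₗ (TensorProduct.mk K L E 1))
      have hΦ : ∀ z, Φ (f.toLinearMap.rTensor E z) = f (φ z) := by
        intro z
        induction z using TensorProduct.induction_on with
        | zero => simp
        | add a b ha hb => simp only [map_add, ha, hb]
        | tmul a e =>
          have h1 : a ⊗ₜ[K] e = a • ((1 : L) ⊗ₜ[K] e) := by simp [TensorProduct.smul_tmul']
          rw [h1, map_smul φ, smul_eq_mul, map_mul, ← h1]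
          simp [Φ, LinearMap.liftBaseChange_tmul]
      have hker : Submodule.span (AlgebraicClosure K) (f.toLinearMap.rTensor E '' (N : Set (L ⊗[K] E))) ≤ LinearMap.ker Φ := by
        rw [Submodule.span_le]
        rintro _ ⟨z, hz, rfl⟩
        have : φ z = 0 := by
          have h1 : φ z ∈ N.map φ := Submodule.mem_map_of_mem hz
          simpa [hφN] using h1
        simp [hΦ, this]
      rw [hspan] at hker
      apply hφx
      apply f.toRingHom.injective
      rw [map_zero]
      exact (hΦ x).symm.trans (LinearMap.mem_ker.1 (hker Submodule.mem_top))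
  · intro h
    have hE : Nontrivial E := by
      by_contra hE
      rw [not_nontrivial_iff_subsingleton] at hE
      haveI := (h K).1
      exact not_subsingleton (K ⊗[K] E) inferInstance
    refine ⟨?_, fun N hN => ?_⟩
    · obtain ⟨e, he⟩ := exists_ne (0 : E)
      refine ⟨⟨(1 : AlgebraicClosure K) ⊗ₜ[K] e, 0, fun h0 => he ?_⟩⟩
      obtain ⟨g, hg⟩ := Module.Projective.exists_dual_ne_zero K he
      exfalso
      apply hg
      have := congrArg (fun z => TensorProduct.rid K (AlgebraicClosure K) (g.lTensor (AlgebraicClosure K) z)) h0
      simpa [Algebra.smul_def] using this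
    · by_cases hbot : N = ⊥
      · exact Or.inl hbot
      right
      obtain ⟨x, hx, hx0⟩ := (Submodule.ne_bot_iff N).1 hbot
      obtain ⟨S, hS⟩ := TensorProduct.exists_finset x
      let L : IntermediateField K (AlgebraicClosure K) := IntermediateField.adjoin K ((S.image Prod.fst : Finset (AlgebraicClosure K)) : Set (AlgebraicClosure K))
      haveI : FiniteDimensional K L := IntermediateField.finiteDimensional_adjoin fun a _ => Algebra.IsIntegral.isIntegral a
      obtain ⟨y, hy⟩ : ∃ y : L ⊗[K] E, L.val.toLinearMap.rTensor E y = x := by
        refine ⟨∑ i ∈ S.attach, (⟨i.1.1, IntermediateField.subset_adjoin K _ (Finset.mem_coe.2 (Finset.mem_image_of_mem _ i.2))⟩ : L) ⊗ₜ[K] i.1.2, ?_⟩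
        rw [map_sum, hS, ← Finset.sum_attach S]
        exact Finset.sum_congr rfl fun i _ => by simp
      let M : Submodule L (L ⊗[K] E) :=
        { carrier := {z | L.val.toLinearMap.rTensor E z ∈ N}
          add_mem' := fun {a b} ha hb => by simp only [Set.mem_setOf_eq, map_add] at *; exact N.add_mem ha hb
          zero_mem' := by simp
          smul_mem' := fun c z hz => by simp only [Set.mem_setOf_eq] at *; rw [hsm L L.val]; exact N.smul_mem _ hz }
      have hM : M = ⊤ := by
        refine ((h L).2 M fun d z hz => ?_).resolve_left fun hb => hx0 ?_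
        · show _ ∈ N
          rw [← hnat L L.val]
          exact hN d _ hz
        · have : y ∈ M := show _ ∈ N by rw [hy]; exact hx
          rw [hb, Submodule.mem_bot] at this
          rw [← hy, this, map_zero]
      refine eq_top_iff.2 fun z _ => ?_
      induction z using TensorProduct.induction_on with
      | zero => exact N.zero_mem
      | add a b ha hb => exact N.add_mem (ha trivial) (hb trivial)
      | tmul a e =>
        have h1 : ((1 : L) ⊗ₜ[K] e) ∈ M := hM ▸ Submodule.mem_top
        have h2 : (1 : AlgebraicClosure K) ⊗ₜ[K] e ∈ N := by simpa [M] using h1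
        simpa [TensorProduct.smul_tmul'] using N.smul_mem a h2

end Groth.Agent.S18794
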