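import Groth.Statements.S18795
import Mathlib

set_option autoImplicit false
universe u v w
open scoped TensorProduct
open DefMod

namespace Groth.Agent.S18795

/-- Let E be a left module over an associative algebra D over a field K of characteristic zero. Assume
that the D-linear endomorphisms of E form a finite-dimensional K-vector space, that E has a finite
presentation over D, and that E is absolutely irreducible: its base change K̄ ⊗_K E to an algebraic
closure K̄ of K is nonzero and its only K̄-subspaces stable under every element of D are 0 and the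
whole space. Then End_D(E) = K: every D-linear endomorphism of E is multiplication by a scalar from
K. -/
theorem result
    {K : Type u} [Field K] [CharZero K]
    {D : Type v} [Ring D] [Algebra K D]
    {E : Type w} [AddCommGroup E] [Module K E] [Module D E] [IsScalarTower K D E]
    [Module.Finite K (E →ₗ[D] E)] [Module.FinitePresentation D E]
    (habs : (Nontrivial (AlgebraicClosure K ⊗[K] E) ∧ ∀ N : Submodule (AlgebraicClosure K) (AlgebraicClosure K ⊗[K] E), (∀ (d : D) (x : AlgebraicClosure K ⊗[K] E), x ∈ N → (DistribSMul.toLinearMap K E d).baseChange (AlgebraicClosure K) x ∈ N) → N = ⊥ ∨ N = ⊤))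
    (φ : E →ₗ[D] E) : ∃ c : K, ∀ x : E, φ x = c • x := by
  classical
  obtain ⟨hnt, hsimple⟩ := habs
  haveI : SMulCommClass D K E := ⟨fun d c x => by
    rw [← algebraMap_smul D c x, ← algebraMap_smul D c (d • x), smul_smul, smul_smul, Algebra.commutes]⟩
  let R : Module.End D E →ₐ[K] Module.End K E := AlgHom.ofLinearMap
    { toFun := fun f => f.restrictScalars K, map_add' := fun _ _ => rfl, map_smul' := fun _ _ => rfl } rfl (fun _ _ => rfl)
  obtain ⟨Q, hQm, hQ⟩ := IsIntegral.of_finite K (φ : Module.End D E)
  let B := Module.End.baseChangeHom K (AlgebraicClosure K) E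
  obtain ⟨Φ, hΦ⟩ : ∃ Φ, Φ = B (R φ) := ⟨_, rfl⟩
  have h0 : Polynomial.aeval Φ (Q.map (algebraMap K (AlgebraicClosure K))) = 0 := by
    rw [Polynomial.aeval_map_algebraMap, hΦ, Polynomial.aeval_algHom_apply, Polynomial.aeval_algHom_apply, Polynomial.aeval_def, hQ, map_zero, map_zero]
  have key : ∀ s : Multiset (AlgebraicClosure K), (∀ c ∈ s, Function.Injective (Φ - algebraMap _ (Module.End (AlgebraicClosure K) (AlgebraicClosure K ⊗[K] E)) c : Module.End (AlgebraicClosure K) (AlgebraicClosure K ⊗[K] E))) →
      Function.Injective (Polynomial.aeval Φ (s.map fun c => Polynomial.X - Polynomial.C c).prod) := by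
    intro s
    induction s using Multiset.induction_on with
    | empty => intro _; simp only [Multiset.map_zero, Multiset.prod_zero, map_one, Module.End.one_eq_id]; exact fun _ _ h => h
    | cons c s ih =>
      intro h
      rw [Multiset.map_cons, Multiset.prod_cons, map_mul, map_sub, Polynomial.aeval_X, Polynomial.aeval_C,
        Module.End.mul_eq_comp, LinearMap.coe_comp]
      exact (h c (Multiset.mem_cons_self ..)).comp (ih fun d hd => h d (Multiset.mem_cons_of_mem hd))
  have hsplit := (IsAlgClosed.splits (Q.map (algebraMap K (AlgebraicClosure K)))).eq_prod_roots_of_monic (hQm.map _)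
  obtain ⟨c, hc⟩ : ∃ c, ¬ Function.Injective (Φ - algebraMap _ (Module.End (AlgebraicClosure K) (AlgebraicClosure K ⊗[K] E)) c : Module.End (AlgebraicClosure K) (AlgebraicClosure K ⊗[K] E)) := by
    by_contra hcon
    push Not at hcon
    have h1 := key (Q.map (algebraMap K (AlgebraicClosure K))).roots (fun c _ => hcon c)
    rw [← hsplit, h0] at h1
    obtain ⟨a, b, hab⟩ := hnt.exists_pair_ne
    exact hab (h1 rfl)
  have hcomm : ∀ (d : D) (y : AlgebraicClosure K ⊗[K] E),
      Φ ((DistribSMul.toLinearMap K E d).baseChange (AlgebraicClosure K) y) =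
        (DistribSMul.toLinearMap K E d).baseChange (AlgebraicClosure K) (Φ y) := by
    intro d y
    induction y with
    | zero => simp
    | add a b ha hb => simp only [map_add, ha, hb]
    | tmul a e => simp [hΦ, B, R, Module.End.baseChangeHom]
  have htop : ∀ y, Φ y = c • y := by
    rcases hsimple (LinearMap.ker (Φ - algebraMap _ (Module.End (AlgebraicClosure K) (AlgebraicClosure K ⊗[K] E)) c)) (fun d y hy => by
      rw [LinearMap.mem_ker, LinearMap.sub_apply, Module.algebraMap_end_apply, sub_eq_zero] at hy ⊢
      rw [hcomm, hy, map_smul]) with h | h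
    · exact absurd (LinearMap.ker_eq_bot.1 h) hc
    · intro y
      have : y ∈ LinearMap.ker (Φ - algebraMap _ (Module.End (AlgebraicClosure K) (AlgebraicClosure K ⊗[K] E)) c) := by
        rw [h]; trivial
      rw [LinearMap.mem_ker, LinearMap.sub_apply, Module.algebraMap_end_apply, sub_eq_zero] at this
      exact this
  have hg : ∀ (g : E →ₗ[K] K) (x : E), algebraMap K (AlgebraicClosure K) (g (φ x)) = c * algebraMap K (AlgebraicClosure K) (g x) := by
    intro g x
    have := congrArg (fun y => (TensorProduct.AlgebraTensorModule.rid K (AlgebraicClosure K) (AlgebraicClosure K)) (LinearMap.baseChange (AlgebraicClosure K) g y)) (htop ((1 : AlgebraicClosure K) ⊗ₜ[K] x))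
    simpa [hΦ, B, R, Module.End.baseChangeHom, Algebra.smul_def, mul_comm] using this
  haveI : Nontrivial E := by
    by_contra hE
    rw [not_nontrivial_iff_subsingleton] at hE
    exact not_subsingleton (AlgebraicClosure K ⊗[K] E) inferInstance
  obtain ⟨x₀, hx₀⟩ := exists_ne (0 : E)
  obtain ⟨g₀, hg₀⟩ : ∃ g : E →ₗ[K] K, g x₀ = 1 := by
    obtain ⟨g, hg⟩ := Module.Projective.exists_dual_ne_zero K hx₀
    exact ⟨(g x₀)⁻¹ • g, by simp [hg]⟩
  refine ⟨g₀ (φ x₀), fun x => ?_⟩
  have hc0 : c = algebraMap K (AlgebraicClosure K) (g₀ (φ x₀)) := by rw [hg g₀ x₀, hg₀, map_one, mul_one]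
  rw [← sub_eq_zero, ← Module.forall_dual_apply_eq_zero_iff K]
  intro g
  apply (algebraMap K (AlgebraicClosure K)).injective
  rw [map_sub, map_smul, map_sub, map_zero, hg, hc0, smul_eq_mul, map_mul, sub_self]

end Groth.Agent.S18795
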