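import Groth.Statements.S18796
import Mathlib.LinearAlgebra.Basis.VectorSpace
import Mathlib.LinearAlgebra.FreeModule.Basic


set_option autoImplicit false
universe u v w w' u'
open scoped TensorProduct
open DefMod

namespace Groth.Agent.S18796

/-- Let K be a field of characteristic zero, D an associative K-algebra, E a left D-module that is
finitely presented over D, F a left D-module and P a commutative K-algebra. The canonical P-linear
map Φ : P ⊗_K Hom_D(E, F) → Hom_P(P ⊗_K E, P ⊗_K F), determined by p ⊗ f ↦ p · (1_P ⊗ f), is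
injective, and its image consists exactly of the P-linear maps that commute with the action of every
element of D; in other words Φ identifies P ⊗_K Hom_D(E, F) with the module of homomorphisms P ⊗_K E
→ P ⊗_K F over P ⊗_K D. The map Φ is pinned here by its values on pure tensors. -/
theorem result
    {K : Type u} [Field K] [CharZero K]
    {D : Type v} [Ring D] [Algebra K D]
    {E : Type w} [AddCommGroup E] [Module K E] [Module D E] [IsScalarTower K D E]
    [Module.FinitePresentation D E]
    {F : Type w'} [AddCommGroup F] [Module K F] [Module D F] [IsScalarTower K D F]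
    (P : Type u') [CommRing P] [Algebra K P]
    (Φ : P ⊗[K] (E →ₗ[D] F) →ₗ[P] (P ⊗[K] E →ₗ[P] P ⊗[K] F))
    (hΦ : ∀ (p : P) (f : E →ₗ[D] F), Φ (p ⊗ₜ[K] f) = p • (f.restrictScalars K).baseChange P) :
    Function.Injective Φ ∧
      ∀ g : P ⊗[K] E →ₗ[P] P ⊗[K] F,
        g ∈ LinearMap.range Φ ↔
          ∀ d : D, g ∘ₗ (DistribSMul.toLinearMap K E d).baseChange P =
            (DistribSMul.toLinearMap K F d).baseChange P ∘ₗ g := by
  classical
  let ι := Module.Free.ChooseBasisIndex K P
  let b : Module.Basis ι K P := Module.Free.chooseBasis K P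
  let eF := TensorProduct.equivFinsuppOfBasisLeft b (N := F)
  let eH := TensorProduct.equivFinsuppOfBasisLeft b (N := E →ₗ[D] F)
  have hcoef : ∀ (x : P ⊗[K] (E →ₗ[D] F)) (e : E) (i : ι), eF (Φ x (1 ⊗ₜ[K] e)) i = eH x i e := by
    intro x e i
    induction x using TensorProduct.induction_on with
    | zero => simp
    | tmul p f => simp [eF, eH, hΦ, TensorProduct.smul_tmul']
    | add x y hx hy => simp [hx, hy]
  have hcomm : ∀ (d : D) (z : P ⊗[K] F) (i : ι),
      eF ((DistribSMul.toLinearMap K F d).baseChange P z) i = d • eF z i := by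
    intro d z i
    induction z using TensorProduct.induction_on with
    | zero => simp
    | tmul p f =>
      simp only [eF, LinearMap.baseChange_tmul, TensorProduct.equivFinsuppOfBasisLeft_apply_tmul_apply,
        DistribSMul.toLinearMap_apply]
      exact smul_comm _ _ _
    | add x y hx hy => simp [hx, hy]
  refine ⟨(injective_iff_map_eq_zero Φ).2 fun x hx => eH.injective ?_, fun g => ⟨?_, ?_⟩⟩
  · rw [map_zero]
    ext i e
    rw [← hcoef, hx]
    simp
  · rintro ⟨x, rfl⟩ d
    induction x using TensorProduct.induction_on with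
    | zero => simp
    | tmul p f =>
      ext e
      simp [hΦ, TensorProduct.smul_tmul']
    | add x y hx hy => rw [map_add, LinearMap.add_comp, LinearMap.comp_add, hx, hy]
  · intro h
    have hd : ∀ (d : D) (e : E) (i : ι), eF (g (1 ⊗ₜ[K] (d • e))) i = d • eF (g (1 ⊗ₜ[K] e)) i := by
      intro d e i
      rw [← hcomm]
      congr 2
      have := LinearMap.congr_fun (h d) (1 ⊗ₜ[K] e)
      simpa using this
    let gi : ι → (E →ₗ[D] F) := fun i =>
      { toFun := fun e => eF (g (1 ⊗ₜ[K] e)) i
        map_add' := fun e e' => by simp [TensorProduct.tmul_add]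
        map_smul' := fun d e => hd d e i }
    obtain ⟨S, hS⟩ := (inferInstance : Module.Finite D E).fg_top
    let s : Finset ι := S.biUnion fun e => (eF (g (1 ⊗ₜ[K] e))).support
    have hsupp : ∀ i, i ∉ s → gi i = 0 := by
      intro i hi
      refine LinearMap.ext_on hS fun e he => ?_
      by_contra hne
      exact hi (Finset.mem_biUnion.2 ⟨e, he, Finsupp.mem_support_iff.2 hne⟩)
    refine ⟨eH.symm (Finsupp.onFinset s gi fun i hi => by_contra fun h' => hi (hsupp i h')), ?_⟩
    ext e
    refine eF.injective (Finsupp.ext fun i => ?_)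
    show eF (Φ _ (1 ⊗ₜ[K] e)) i = eF (g (1 ⊗ₜ[K] e)) i
    rw [hcoef, LinearEquiv.apply_symm_apply]
    rfl

end Groth.Agent.S18796
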