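import Groth.Statements.S18797


set_option autoImplicit false
universe u v w
open DefMod

namespace Groth.Agent.S18797

/-- Let K be a field of characteristic zero, O a commutative K-algebra with a K-linear derivation ∂, and
E a finite free O-module equipped with a K-linear map ∂_E satisfying the Leibniz rule ∂_E(a e) =
∂(a) e + a ∂_E(e) (a differential module). The induced derivation on End_O(E) sends φ to ∂_E ∘ φ − φ
∘ ∂_E, which is again O-linear; the trace End_O(E) → O is compatible with the two derivations:
tr(∂_E ∘ φ − φ ∘ ∂_E) = ∂(tr φ). Here the O-linear map ψ = ∂_E ∘ φ − φ ∘ ∂_E is given by its values.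
(The published lemma also asserts that the trace is split surjective and that it respects commutator
brackets; the split surjectivity fails for E = 0 over a nonzero ring and holds only in positive
rank, and neither clause is restated.) -/
theorem result
    {K : Type u} [Field K] [CharZero K]
    {O : Type v} [CommRing O] [Algebra K O] (δ : Derivation K O O)
    {E : Type w} [AddCommGroup E] [Module O E] [Module K E] [IsScalarTower K O E]
    [Module.Free O E] [Module.Finite O E]
    (δE : E →ₗ[K] E) (hδE : ∀ (a : O) (e : E), δE (a • e) = δ a • e + a • δE e)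
    (φ ψ : E →ₗ[O] E) (hψ : ∀ e : E, ψ e = δE (φ e) - φ (δE e)) :
    LinearMap.trace O E ψ = δ (LinearMap.trace O E φ) := by
  classical
  let b := Module.Free.chooseBasis O E
  have : Fintype (Module.Free.ChooseBasisIndex O E) := Module.Free.ChooseBasisIndex.fintype O E
  rw [LinearMap.trace_eq_matrix_trace O b ψ, LinearMap.trace_eq_matrix_trace O b φ]
  simp only [Matrix.trace, Matrix.diag, LinearMap.toMatrix_apply, map_sum]
  have key : ∀ i, b.repr (ψ (b i)) i = δ (b.repr (φ (b i)) i) +
      ((∑ k, b.repr (φ (b i)) k * b.repr (δE (b k)) i) -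
        ∑ j, b.repr (δE (b i)) j * b.repr (φ (b j)) i) := by
    intro i
    have h1 : δE (φ (b i)) = ∑ k, (δ (b.repr (φ (b i)) k) • b k + b.repr (φ (b i)) k • δE (b k)) := by
      conv_lhs => rw [← b.sum_repr (φ (b i)), map_sum]
      exact Finset.sum_congr rfl fun k _ => hδE _ _
    have h2 : φ (δE (b i)) = ∑ j, b.repr (δE (b i)) j • φ (b j) := by
      conv_lhs => rw [← b.sum_repr (δE (b i)), map_sum]
      exact Finset.sum_congr rfl fun k _ => map_smul _ _ _
    rw [hψ, h1, h2]
    simp only [map_sub, map_sum, map_add, map_smul, Finsupp.sub_apply, Finsupp.coe_finsetSum,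
      Finset.sum_apply, Finsupp.add_apply, Finsupp.smul_apply, smul_eq_mul, Finset.sum_add_distrib,
      Module.Basis.repr_self, Finsupp.single_apply, mul_ite, mul_one, mul_zero, Finset.sum_ite_eq',
      Finset.mem_univ, if_true]
    ring
  rw [Finset.sum_congr rfl fun i _ => key i, Finset.sum_add_distrib, Finset.sum_sub_distrib]
  rw [Finset.sum_comm (f := fun i j => b.repr (δE (b i)) j * b.repr (φ (b j)) i)]
  simp only [mul_comm, sub_self, add_zero]

end Groth.Agent.S18797
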