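import Groth.Statements.S18802
import Mathlib.Algebra.Module.Projective
import Mathlib.LinearAlgebra.Basis.VectorSpace
import Mathlib.LinearAlgebra.Isomorphisms
import Mathlib.Tactic.Abel


set_option autoImplicit false
universe u v w w' w''
open DefMod

namespace Groth.Agent.S18802

/-- Let K be a field of characteristic zero, D an associative K-algebra and E, F left D-modules. A
K-linear map s : D → Hom_K(E, F) with s(ab)(e) = a s(b)(e) + s(a)(b e) (a derivation into the
bimodule Hom_K(E, F), i.e. a Hochschild 1-cocycle) defines the twisted sum F ⊕_s E = F × E with a ·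
(f, e) = (a f + s(a) e, a e), an extension of E by F. Every extension of left D-modules 0 → F → Q →
E → 0 arises this way: there are such an s and a D-linear isomorphism Q ≅ F ⊕_s E carrying the given
map F → Q to the inclusion f ↦ (f, 0) and compatible with the two projections onto E. (Together with
the splitting criterion this identifies derivations modulo principal derivations with Ext¹_D(E, F);
the compatibility of that identification with addition and scalars is not restated.) -/
theorem result
    {K : Type u} [Field K] [CharZero K]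
    {D : Type v} [Ring D] [Algebra K D]
    {E : Type w} [AddCommGroup E] [Module K E] [Module D E] [IsScalarTower K D E]
    {F : Type w'} [AddCommGroup F] [Module K F] [Module D F] [IsScalarTower K D F]
    {Q : Type w''} [AddCommGroup Q] [Module D Q]
    (i : F →ₗ[D] Q) (p : Q →ₗ[D] E) (hi : Function.Injective i) (hp : Function.Surjective p)
    (hex : Function.Exact i p) :
    ∃ (s : D →ₗ[K] E →ₗ[K] F) (hs : W4c6defoisocp1.IsHomDerivation s) (Φ : Q ≃ₗ[D] W4c6defoisocp1.TwistExt s hs),
      (∀ f : F, Φ (i f) = W4c6defoisocp1.TwistExt.inl f) ∧ ∀ q : Q, W4c6defoisocp1.TwistExt.snd (Φ q) = p q := by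
  letI : Module K Q := Module.compHom Q (algebraMap K D)
  have : IsScalarTower K D Q := ⟨fun k d q => by
    show (k • d) • q = algebraMap K D k • (d • q)
    rw [Algebra.smul_def, mul_smul]⟩
  obtain ⟨σ, hσ⟩ := (p.restrictScalars K).exists_rightInverse_of_surjective (LinearMap.range_eq_top.2 hp)
  have hpσ : ∀ e, p (σ e) = e := fun e => congrArg (fun g => g e) hσ
  let ι := LinearEquiv.ofInjective (i.restrictScalars K) hi
  have hmem : ∀ q : Q, q - σ (p q) ∈ LinearMap.range (i.restrictScalars K) := by
    intro q
    exact (hex _).1 (by rw [map_sub, hpσ, sub_self])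
  let r : Q →ₗ[K] F := ι.symm.toLinearMap ∘ₗ
    (LinearMap.id - σ ∘ₗ p.restrictScalars K).codRestrict _ hmem
  have hir : ∀ q, i (r q) = q - σ (p q) := by
    intro q
    exact congrArg Subtype.val (ι.apply_symm_apply _)
  let s : D →ₗ[K] E →ₗ[K] F :=
    { toFun := fun a => r ∘ₗ (DistribMulAction.toLinearMap K Q a) ∘ₗ σ
      map_add' := fun a b => by ext e; show r ((a + b) • σ e) = r (a • σ e) + r (b • σ e); rw [add_smul, map_add]
      map_smul' := fun k a => by ext e; show r ((k • a) • σ e) = k • r (a • σ e); rw [smul_assoc, map_smul] }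
  have hs_i : ∀ a e, i (s a e) = a • σ e - σ (a • e) := by
    intro a e
    show i (r (a • σ e)) = _
    rw [hir, map_smul, hpσ]
  have hs : W4c6defoisocp1.IsHomDerivation s := by
    intro a b e
    apply hi
    simp only [map_add, map_smul, hs_i, mul_smul, smul_sub]
    abel
  have hlin : ∀ (a : D) (q : Q), (W4c6defoisocp1.TwistExt.mk (r (a • q), p (a • q)) : W4c6defoisocp1.TwistExt s hs) =
      a • W4c6defoisocp1.TwistExt.mk (r q, p q) := by
    intro a q
    apply W4c6defoisocp1.TwistExt.ext
    · simp only [W4c6defoisocp1.TwistExt.val_smul, W4c6defoisocp1.TwistExt.val_mk]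
      apply hi
      rw [map_add, hir, map_smul i, hir, hs_i, map_smul p, smul_sub]
      abel
    · simp only [W4c6defoisocp1.TwistExt.val_smul, W4c6defoisocp1.TwistExt.val_mk, map_smul]
  let Φ : Q ≃ₗ[D] W4c6defoisocp1.TwistExt s hs :=
    { toFun := fun q => W4c6defoisocp1.TwistExt.mk (r q, p q)
      map_add' := fun x y => W4c6defoisocp1.TwistExt.ext (by simp) (by simp)
      map_smul' := hlin
      invFun := fun x => i (W4c6defoisocp1.TwistExt.val x).1 + σ (W4c6defoisocp1.TwistExt.val x).2
      left_inv := fun q => by simp [hir]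
      right_inv := fun x => by
        have h0 : p (i (W4c6defoisocp1.TwistExt.val x).1) = 0 := (hex _).2 ⟨_, rfl⟩
        refine W4c6defoisocp1.TwistExt.ext ?_ ?_
        · simp only [W4c6defoisocp1.TwistExt.val_mk]
          apply hi
          rw [hir, map_add, h0, zero_add, hpσ]
          abel
        · simp only [W4c6defoisocp1.TwistExt.val_mk]
          rw [map_add, h0, zero_add, hpσ] }
  refine ⟨s, hs, Φ, fun f => ?_, fun q => rfl⟩
  have h0 : p (i f) = 0 := (hex _).2 ⟨_, rfl⟩
  apply W4c6defoisocp1.TwistExt.ext
  · show r (i f) = f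
    apply hi
    rw [hir, h0, map_zero, sub_zero]
  · exact h0

end Groth.Agent.S18802
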