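import Groth.Statements.S18803


set_option autoImplicit false
universe u v w w'
open DefMod

namespace Groth.Agent.S18803

/-- Let K be a field of characteristic zero, D an associative K-algebra, E and F left D-modules, and s :
D → Hom_K(E, F) a K-linear map with s(ab)(e) = a s(b)(e) + s(a)(b e). The twisted sum F ⊕_s E (that
is F × E with a · (f, e) = (a f + s(a) e, a e)) is a trivial extension of E by F — there is a
D-linear isomorphism F ⊕_s E ≅ F × E with the direct-sum module structure, carrying the inclusion f
↦ (f, 0) to itself and compatible with the second projections — if and only if s is principal: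
s(a)(e) = a σ(e) − σ(a e) for some K-linear σ : E → F (a Hochschild 1-coboundary). -/
theorem result
    {K : Type u} [Field K] [CharZero K]
    {D : Type v} [Ring D] [Algebra K D]
    {E : Type w} [AddCommGroup E] [Module K E] [Module D E] [IsScalarTower K D E]
    {F : Type w'} [AddCommGroup F] [Module K F] [Module D F] [IsScalarTower K D F]
    (s : D →ₗ[K] E →ₗ[K] F) (hs : W4c6defoisocp1.IsHomDerivation s) :
    (∃ Ψ : W4c6defoisocp1.TwistExt s hs ≃ₗ[D] F × E,
        (∀ f : F, Ψ (W4c6defoisocp1.TwistExt.inl f) = (f, 0)) ∧ ∀ x : W4c6defoisocp1.TwistExt s hs, (Ψ x).2 = W4c6defoisocp1.TwistExt.snd x) ↔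
      W4c6defoisocp1.IsPrincipal s := by
  have hs0 : ∀ (k : K) (e : E), s (algebraMap K D k) e = 0 := by
    intro k e
    rw [Algebra.algebraMap_eq_smul_one, map_smul, W4c6defoisocp1.TwistExt.map_one_eq_zero hs]
    simp
  constructor
  · rintro ⟨Ψ, h1, h2⟩
    let σ : E →ₗ[K] F :=
      { toFun := fun e => (Ψ (W4c6defoisocp1.TwistExt.mk (0, e))).1
        map_add' := fun x y => by
          rw [← Prod.fst_add, ← map_add]
          congr 2
          exact W4c6defoisocp1.TwistExt.ext (by simp) (by simp)
        map_smul' := fun k e => by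
          have : (W4c6defoisocp1.TwistExt.mk (0, k • e) : W4c6defoisocp1.TwistExt s hs) =
              algebraMap K D k • W4c6defoisocp1.TwistExt.mk (0, e) :=
            W4c6defoisocp1.TwistExt.ext (by simp [hs0]) (by simp)
          show (Ψ _).1 = k • (Ψ _).1
          rw [this, map_smul, Prod.smul_fst, algebraMap_smul] }
    refine ⟨σ, fun a e => ?_⟩
    have h : a • (W4c6defoisocp1.TwistExt.mk (0, e) : W4c6defoisocp1.TwistExt s hs) =
        W4c6defoisocp1.TwistExt.inl (s a e) + W4c6defoisocp1.TwistExt.mk (0, a • e) :=
      W4c6defoisocp1.TwistExt.ext (by simp) (by simp)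
    have h' := congrArg (fun x => (Ψ x).1) h
    simp only [map_smul, map_add, Prod.smul_fst, Prod.fst_add, h1] at h'
    show s a e = a • (Ψ _).1 - (Ψ _).1
    rw [h']; abel
  · rintro ⟨σ, hσ⟩
    let Ψ : W4c6defoisocp1.TwistExt s hs ≃ₗ[D] F × E :=
      { toFun := fun x => ((W4c6defoisocp1.TwistExt.val x).1 + σ (W4c6defoisocp1.TwistExt.val x).2, (W4c6defoisocp1.TwistExt.val x).2)
        map_add' := fun x y => by
          simp only [W4c6defoisocp1.TwistExt.val_add, Prod.fst_add, Prod.snd_add, map_add, Prod.mk_add_mk]
          congr 1; abel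
        map_smul' := fun a x => by
          simp only [W4c6defoisocp1.TwistExt.val_smul, RingHom.id_apply, Prod.smul_mk, smul_add, hσ]
          congr 1; abel
        invFun := fun y => W4c6defoisocp1.TwistExt.mk (y.1 - σ y.2, y.2)
        left_inv := fun x => W4c6defoisocp1.TwistExt.ext (by simp) (by simp)
        right_inv := fun y => by simp }
    exact ⟨Ψ, fun f => by simp [Ψ], fun x => rfl⟩

end Groth.Agent.S18803
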