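import Groth.Statements.S18806
import Groth.Agent.Comod.Coeff

set_option autoImplicit false
universe u v v' w w' x
open TensorProduct
open HopfRep

namespace Groth.Agent.S18806

open scoped TensorProduct


/-- Let k be a field, i : C → D an injective morphism of k-coalgebras and V a right D-comodule with
coaction ρ : V → V ⊗ D. If ρ(v) lies in the image of V ⊗ C → V ⊗ D (induced by i) for every v, then
V comes from a C-comodule: there is a C-comodule structure on V whose coaction, followed by V ⊗ C →
V ⊗ D, is ρ. (The source states this for left comodules over the coordinate bialgebras of an affine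
monoid scheme over k and of its group of units, assumed open and schematically dense, and uses that
assumption only through the injectivity of the restriction map of coordinate rings; the row is the
right-comodule mirror image for any injective coalgebra map. The converse direction is immediate.) -/
theorem result (k : Type u) [Field k]
    (C : Type v) [AddCommGroup C] [Module k C] [Coalgebra k C]
    (D : Type v') [AddCommGroup D] [Module k D] [Coalgebra k D]
    (i : C →ₗc[k] D) (hi : Function.Injective i)
    (V : Type w) [AddCommGroup V] [Module k V] [HopfRep.Comod k D V]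
    (h : ∀ v : V, HopfRep.Comod.coact (k := k) (A := D) v ∈ LinearMap.range ((i : C →ₗ[k] D).lTensor V)) :
    ∃ c : HopfRep.Comod k C V,
      (i : C →ₗ[k] D).lTensor V ∘ₗ c.coact = HopfRep.Comod.coact (k := k) (A := D) := by
  have hinj : Function.Injective ((i : C →ₗ[k] D).lTensor V) :=
    Module.Flat.lTensor_preserves_injective_linearMap _ hi
  let ρ : V →ₗ[k] V ⊗[k] C :=
    (LinearEquiv.ofInjective _ hinj).symm.toLinearMap ∘ₗ
      (HopfRep.Comod.coact (k := k) (A := D)).codRestrict _ h
  have hρ : ∀ v, (i : C →ₗ[k] D).lTensor V (ρ v) = HopfRep.Comod.coact (k := k) (A := D) v := fun v =>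
    congrArg Subtype.val ((LinearEquiv.ofInjective _ hinj).apply_symm_apply
      ((HopfRep.Comod.coact (k := k) (A := D)).codRestrict _ h v))
  have hf : TensorProduct.map (i : C →ₗ[k] D) (i : C →ₗ[k] D) ∘ₗ Coalgebra.comul (R := k) =
      Coalgebra.comul (R := k) ∘ₗ (i : C →ₗ[k] D) := i.map_comp_comul
  have hinj2 : Function.Injective ((TensorProduct.map (i : C →ₗ[k] D) (i : C →ₗ[k] D)).lTensor V) := by
    refine Module.Flat.lTensor_preserves_injective_linearMap _ ?_
    exact TensorProduct.map_injective_of_flat_flat _ _ hi hi
  refine ⟨{ coact := ρ, coassoc := ?_, counit_comp := ?_ }, LinearMap.ext hρ⟩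
  · ext v
    apply hinj2
    simp only [LinearMap.comp_apply, LinearEquiv.coe_coe]
    have hc := LinearMap.congr_fun (HopfRep.Comod.coassoc (k := k) (A := D) (V := V)) v
    simp only [LinearMap.comp_apply, LinearEquiv.coe_coe] at hc
    have key : ∀ x : V ⊗[k] C, (TensorProduct.map (i : C →ₗ[k] D) (i : C →ₗ[k] D)).lTensor V
        (TensorProduct.assoc k V C C (ρ.rTensor C x)) = TensorProduct.assoc k V D D
          ((HopfRep.Comod.coact (k := k) (A := D)).rTensor D ((i : C →ₗ[k] D).lTensor V x)) := by
      intro x
      induction x with
      | zero => simp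
      | tmul a b =>
        simp only [LinearMap.lTensor_tmul, LinearMap.rTensor_tmul, ← hρ]
        generalize ρ a = y
        induction y with
        | zero => simp
        | tmul p q => simp
        | add y z hy hz => simp only [map_add, TensorProduct.add_tmul, hy, hz]
      | add y z hy hz => simp only [map_add, hy, hz]
    rw [key, hρ, hc, ← LinearMap.comp_apply (f := (TensorProduct.map _ _).lTensor V), ← LinearMap.lTensor_comp,
      hf, LinearMap.lTensor_comp, LinearMap.comp_apply, hρ]
  · ext v
    have hc := LinearMap.congr_fun (HopfRep.Comod.counit_comp (k := k) (A := D) (V := V)) v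
    have he : (CoalgebraStruct.counit (R := k) (A := D)) ∘ₗ (i : C →ₗ[k] D) = CoalgebraStruct.counit :=
      i.counit_comp
    simp only [LinearMap.comp_apply] at hc ⊢
    rw [← he, LinearMap.lTensor_comp, LinearMap.comp_apply, hρ, hc]

end Groth.Agent.S18806
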