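import Groth.Statements.S18808
import Groth.Agent.Comod.Coeff

set_option autoImplicit false
universe u v v' w w' x
open TensorProduct
open HopfRep

namespace Groth.Agent.S18808

open Groth.Agent.Comod
open scoped TensorProduct


/-- Let k be a field, i : C → D an injective morphism of k-coalgebras and V a right D-comodule with
coaction ρ. Call a D-subcomodule K of V admissible when the induced coaction of V/K, namely ρ
followed by the projection V ⊗ D → (V/K) ⊗ D, takes all its values in the image of (V/K) ⊗ C → (V/K)
⊗ D (so that V/K comes from a C-comodule). Then there is a least admissible D-subcomodule of V: V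
has a largest quotient D-comodule coming from C, through which every D-comodule map from V to a
comodule coming from C factors. (The source states this for left comodules over the coordinate
bialgebras of an affine monoid scheme and its open schematically dense group of units, as the
existence of a universal map from a representation of the unit group to a representation of the
monoid; it uses that assumption only through the injectivity of the restriction map.) -/
theorem result (k : Type u) [Field k]
    (C : Type v) [AddCommGroup C] [Module k C] [Coalgebra k C]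
    (D : Type v') [AddCommGroup D] [Module k D] [Coalgebra k D]
    (i : C →ₗc[k] D) (hi : Function.Injective i)
    (V : Type w) [AddCommGroup V] [Module k V] [HopfRep.Comod k D V] :
    ∃ K : Submodule k V, HopfRep.IsSubcomod (k := k) (A := D) K ∧
      (∀ v : V, K.mkQ.rTensor D (HopfRep.Comod.coact (k := k) (A := D) v) ∈
        LinearMap.range ((i : C →ₗ[k] D).lTensor (V ⧸ K))) ∧
      ∀ K' : Submodule k V, HopfRep.IsSubcomod (k := k) (A := D) K' →
        (∀ v : V, K'.mkQ.rTensor D (HopfRep.Comod.coact (k := k) (A := D) v) ∈
          LinearMap.range ((i : C →ₗ[k] D).lTensor (V ⧸ K'))) → K ≤ K' := by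
  let N : Set (D →ₗ[k] k) := {φ | φ ∘ₗ (i : C →ₗ[k] D) = 0}
  let K : Submodule k V := ⨆ φ : N, LinearMap.range (actL (k := k) (A := D) (V := V) φ.1)
  have hadm : ∀ K' : Submodule k V, (∀ v : V, K'.mkQ.rTensor D (HopfRep.Comod.coact (k := k) (A := D) v) ∈
      LinearMap.range ((i : C →ₗ[k] D).lTensor (V ⧸ K'))) ↔ K ≤ K' := by
    intro K'
    rw [iSup_le_iff]
    constructor
    · rintro h ⟨φ, hφ⟩ _ ⟨v, rfl⟩
      have := (mem_range_lTensor_iff_annihilator _).1 (h v) φ hφ
      rwa [slR_rTensor, Submodule.mkQ_apply, Submodule.Quotient.mk_eq_zero] at this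
    · intro h v
      refine (mem_range_lTensor_iff_annihilator _).2 fun φ hφ => ?_
      rw [slR_rTensor, Submodule.mkQ_apply, Submodule.Quotient.mk_eq_zero]
      exact h ⟨φ, hφ⟩ ⟨v, rfl⟩
  refine ⟨K, ?_, (hadm K).2 le_rfl, fun K' _ h => (hadm K').1 h⟩
  rw [isSubcomod_iff]
  intro χ v hv
  induction hv using Submodule.iSup_induction' with
  | mem φ x hx =>
    obtain ⟨y, rfl⟩ := hx
    rw [actL_actL]
    refine Submodule.mem_iSup_of_mem ⟨conv χ φ.1, ?_⟩ ⟨y, rfl⟩
    show conv χ φ.1 ∘ₗ (i : C →ₗ[k] D) = 0
    have hφ : φ.1 ∘ₗ (i : C →ₗ[k] D) = 0 := φ.2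
    rw [conv, LinearMap.comp_assoc, LinearMap.comp_assoc,
      show Coalgebra.comul (R := k) ∘ₗ (i : C →ₗ[k] D) =
        TensorProduct.map (i : C →ₗ[k] D) (i : C →ₗ[k] D) ∘ₗ Coalgebra.comul (R := k) from i.map_comp_comul.symm,
      ← LinearMap.comp_assoc (TensorProduct.map (i : C →ₗ[k] D) _ ∘ₗ _), ← LinearMap.comp_assoc,
      LinearMap.comp_assoc (TensorProduct.map _ _), ← TensorProduct.map_comp, hφ]
    simp
  | zero => simp
  | add x y _ _ hx hy => rw [map_add]; exact add_mem hx hy

end Groth.Agent.S18808
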