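import Groth.Statements.S18810
import Groth.Agent.Comod.Semisimple

set_option autoImplicit false
universe u v v' w w' x
open TensorProduct
open HopfRep

namespace Groth.Agent.S18810

open scoped Groth.Agent.Comod
open Groth.Agent.Comod


/-- Let k be a field, C a k-coalgebra, V a right C-comodule and (S_j) a family of simple C-comodules
which are pairwise non-isomorphic (for j ≠ j' no k-linear isomorphism S_j ≃ S_j' commutes with the
coactions). For each j let V[j] be the isotypic component of type S_j: the sum of the images of all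
comodule maps S_j → V (equivalently of all simple subcomodules of V isomorphic to S_j, a nonzero
such map being injective). Then the family j ↦ V[j] is independent, so that the socle of V is the
direct sum of its isotypic components. (The source states this for representations of an affine
monoid scheme over k, i.e. left comodules over its coordinate bialgebra; the row is the
right-comodule form over any coalgebra.) -/
theorem result (k : Type u) [Field k]
    (C : Type v) [AddCommGroup C] [Module k C] [Coalgebra k C]
    (V : Type w) [AddCommGroup V] [Module k V] [HopfRep.Comod k C V]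
    {ι : Type x} (S : ι → Type w') [∀ j, AddCommGroup (S j)] [∀ j, Module k (S j)]
    [∀ j, HopfRep.Comod k C (S j)] (hS : ∀ j, HopfRep.IsSimpleComod k C (S j))
    (hne : ∀ j j', j ≠ j' → ∀ e : S j ≃ₗ[k] S j', ¬ Hoch.IsComodHom C (e : S j →ₗ[k] S j')) :
    iSupIndep (fun j => ⨆ f : {f : S j →ₗ[k] V // Hoch.IsComodHom C f}, LinearMap.range f.1) := by
  classical
  haveI : ∀ j, IsSimpleModule (DualAlg k C) (S j) := fun j => isSimpleComod_iff.1 (hS j)
  let c : ι → Submodule (DualAlg k C) V := fun j => isotypicComponent (DualAlg k C) V (S j)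
  have hle : ∀ j, (⨆ f : {f : S j →ₗ[k] V // Hoch.IsComodHom C f}, LinearMap.range f.1) ≤
      (c j).restrictScalars k := fun j => iSup_le fun f => by
    rintro _ ⟨x, rfl⟩
    rcases (toHom f.2).injective_or_eq_zero with h | h
    · have hl : LinearMap.range (toHom f.2) ≤ c j :=
        le_sSup (show Nonempty (LinearMap.range (toHom f.2) ≃ₗ[DualAlg k C] S j) from
          ⟨(LinearEquiv.ofInjective _ h).symm⟩)
      exact hl ⟨x, rfl⟩
    · have : f.1 x = 0 := LinearMap.congr_fun h x
      rw [this]; exact zero_mem _
  have hex : ∀ j, c j ≠ ⊥ → ∃ m : Submodule (DualAlg k C) V, Nonempty (m ≃ₗ[DualAlg k C] S j) := by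
    intro j hj
    by_contra h
    exact hj (sSup_eq_bot.2 fun m hm => absurd ⟨m, hm⟩ h)
  have hmem : ∀ j, c j ≠ ⊥ → c j ∈ isotypicComponents (DualAlg k C) V := by
    intro j hj
    obtain ⟨m, ⟨e⟩⟩ := hex j hj
    exact ⟨m, IsSimpleModule.congr e, (e.isotypicComponent_eq).symm⟩
  have hinj : ∀ j j', c j ≠ ⊥ → c j = c j' → j = j' := by
    intro j j' hj he
    by_contra hjj
    obtain ⟨m', ⟨e'⟩⟩ := hex j' (he ▸ hj)
    haveI : IsSimpleModule (DualAlg k C) m' := IsSimpleModule.congr e'
    have hm' : m' ≤ c j := he ▸ le_sSup (⟨e'⟩ : Nonempty _)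
    haveI : ∀ q : {m : Submodule (DualAlg k C) V | Nonempty (m ≃ₗ[DualAlg k C] S j)},
        IsSimpleModule (DualAlg k C) q := fun q => IsSimpleModule.congr q.2.some
    obtain ⟨q, hq, ⟨eq⟩⟩ := Submodule.linearEquiv_of_le_sSup m' _ hm'
    exact hne j' j (Ne.symm hjj) (((e'.symm.trans eq).trans hq.some).restrictScalars k)
      (isComodHom_equiv _)
  refine iSupIndep.mono (?_ : iSupIndep fun j => (c j).restrictScalars k) hle
  rw [iSupIndep_restrictScalars]
  intro j
  by_cases hj : c j = ⊥
  · simp [hj]
  · refine (sSupIndep_isotypicComponents (DualAlg k C) V (hmem j hj)).mono_right (iSup₂_le fun i hi => ?_)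
    by_cases hi0 : c i = ⊥
    · simp [hi0]
    · exact le_sSup ⟨hmem i hi0, fun h => hi (hinj i j hi0 h)⟩

end Groth.Agent.S18810
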