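import Groth.Statements.S18814
import Groth.Agent.Comod.Coeff

set_option autoImplicit false
universe u v v' w w'
open TensorProduct
open HopfRep

namespace Groth.Agent.S18814

open Groth.Agent.Comod
open scoped TensorProduct


/-- Let k be a field, C and D commutative bialgebras over k (coordinate rings of affine monoid schemes M
and N) and V a k-vector space carrying a right C-comodule structure with coaction ρ_C : V → V ⊗ C
and a right D-comodule structure with coaction ρ_D : V → V ⊗ D which commute: (ρ_C ⊗ id_D) ∘ ρ_D and
(ρ_D ⊗ id_C) ∘ ρ_C agree in V ⊗ C ⊗ D after reassociating and swapping the last two factors (the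
actions of M and N on V commute). Assume V is semisimple as a D-comodule. Then for every simple
D-comodule S the isotypic component of V of type S, the sum of the images of all D-comodule maps S →
V, is a C-subcomodule of V. (The source works with left comodules; this is the right-comodule form.) -/
theorem result (k : Type u) [Field k]
    (C : Type v) [CommRing C] [Bialgebra k C] (D : Type v') [CommRing D] [Bialgebra k D]
    (V : Type w) [AddCommGroup V] [Module k V] [HopfRep.Comod k C V] [HopfRep.Comod k D V]
    (hcomm : (TensorProduct.assoc k V C D).toLinearMap ∘ₗ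
        (HopfRep.Comod.coact (k := k) (A := C) (V := V)).rTensor D ∘ₗ HopfRep.Comod.coact (k := k) (A := D) =
      (TensorProduct.comm k D C).toLinearMap.lTensor V ∘ₗ (TensorProduct.assoc k V D C).toLinearMap ∘ₗ
        (HopfRep.Comod.coact (k := k) (A := D) (V := V)).rTensor C ∘ₗ HopfRep.Comod.coact (k := k) (A := C))
    (hV : HopfRep.IsSemisimpleComod k D V)
    (S : Type w') [AddCommGroup S] [Module k S] [HopfRep.Comod k D S] (hS : HopfRep.IsSimpleComod k D S) :
    HopfRep.IsSubcomod (k := k) (A := C)
      (⨆ f : {f : S →ₗ[k] V // Hoch.IsComodHom D f}, LinearMap.range f.1) := by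
  have hc : ∀ (φ : C →ₗ[k] k) (ψ : D →ₗ[k] k) (v : V),
      actL (A := C) φ (actL (A := D) ψ v) = actL (A := D) ψ (actL (A := C) φ v) := by
    intro φ ψ v
    let G : V ⊗[k] (C ⊗[k] D) →ₗ[k] V :=
      slR ((TensorProduct.lid k k).toLinearMap ∘ₗ TensorProduct.map φ ψ)
    have h := congrArg G (LinearMap.congr_fun hcomm v)
    simp only [LinearMap.comp_apply, LinearEquiv.coe_coe] at h
    have h1 : ∀ x : V ⊗[k] D, G (TensorProduct.assoc k V C D
        ((HopfRep.Comod.coact (k := k) (A := C)).rTensor D x)) = actL (A := C) φ (slR ψ x) := by
      intro x
      induction x with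
      | zero => simp
      | tmul a b =>
        rw [LinearMap.rTensor_tmul, slR_tmul, map_smul, actL_apply]
        generalize HopfRep.Comod.coact (k := k) (A := C) a = y
        induction y with
        | zero => simp
        | tmul p q => simp [G, smul_smul, mul_comm]
        | add y z hy hz => simp only [map_add, TensorProduct.add_tmul, smul_add, hy, hz]
      | add y z hy hz => simp only [map_add, hy, hz]
    have h2 : ∀ x : V ⊗[k] C, G ((TensorProduct.comm k D C).toLinearMap.lTensor V
        (TensorProduct.assoc k V D C ((HopfRep.Comod.coact (k := k) (A := D)).rTensor C x))) =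
        actL (A := D) ψ (slR φ x) := by
      intro x
      induction x with
      | zero => simp
      | tmul a b =>
        rw [LinearMap.rTensor_tmul, slR_tmul, map_smul, actL_apply]
        generalize HopfRep.Comod.coact (k := k) (A := D) a = y
        induction y with
        | zero => simp
        | tmul p q => simp [G, smul_smul, mul_comm]
        | add y z hy hz => simp only [map_add, TensorProduct.add_tmul, smul_add, hy, hz]
      | add y z hy hz => simp only [map_add, hy, hz]
    rw [h1, h2] at h
    exact h
  rw [isSubcomod_iff]
  intro φ v hv
  induction hv using Submodule.iSup_induction' with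
  | mem f x hx =>
    obtain ⟨s, rfl⟩ := hx
    have hf : Hoch.IsComodHom D (actL (A := C) φ ∘ₗ f.1) := isComodHom_iff.2 fun ψ t => by
      simp only [LinearMap.comp_apply, IsComodHom.map_actL f.2, hc]
    exact Submodule.mem_iSup_of_mem ⟨_, hf⟩ ⟨s, rfl⟩
  | zero => simp
  | add x y _ _ hx hy => rw [map_add]; exact add_mem hx hy

end Groth.Agent.S18814
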