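import Groth.Statements.S18820
import Groth.Agent.GrpSch.OverBase

set_option autoImplicit false
universe u
open CategoryTheory MonoidalCategory CartesianMonoidalCategory AlgebraicGeometry
open AlgGrp

namespace Groth.Agent.S18820

/-- Let k be a field, M a k-scheme (in the source a monoid k-scheme) acting on a k-scheme X through a :
M ×_k X → X, and z : Z → X a closed immersion which is surjective (a closed subscheme defined by an
ideal all of whose sections are nilpotent, e.g. the reduction of X), stable under the action: a_Z :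
M ×_k Z → Z satisfies (id_M × z) followed by a = a_Z followed by z. For an open subset U of X the
following are equivalent: (i) U is stable, i.e. a maps M ×_k U into U; (ii) U ∩ Z is stable, i.e.
a_Z maps M ×_k (U ∩ Z) into U ∩ Z. (The monoid axioms of the source play no role and are not
assumed.) -/
theorem result (k : Type u) [Field k]
    (M X Z : Over (Spec (CommRingCat.of k))) (a : M ⊗ X ⟶ X) (aZ : M ⊗ Z ⟶ Z) (z : Z ⟶ X)
    [IsClosedImmersion z.left] [Surjective z.left] (hz : (M ◁ z) ≫ a = aZ ≫ z) (U : X.left.Opens) :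
    (CartesianMonoidalCategory.snd M X).left ⁻¹ᵁ U ≤ a.left ⁻¹ᵁ U ↔
      (CartesianMonoidalCategory.snd M Z).left ⁻¹ᵁ (z.left ⁻¹ᵁ U) ≤ aZ.left ⁻¹ᵁ (z.left ⁻¹ᵁ U) := by
  have hsq : IsPullback (snd M Z) (M ◁ z) z (snd M X) :=
    IsPullback.of_isLimit' ⟨by simp⟩ (Limits.PullbackCone.IsLimit.mk (by simp)
      (fun s => CartesianMonoidalCategory.lift (s.snd ≫ fst M X) s.fst)
      (fun s => by simp)
      (fun s => by apply CartesianMonoidalCategory.hom_ext <;> simp [s.condition])
      (fun s m h₁ h₂ => by
        apply CartesianMonoidalCategory.hom_ext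
        · simp [← h₂]
        · simp [← h₁]))
  have : Surjective (M ◁ z).left :=
    MorphismProperty.of_isPullback (P := @Surjective) (Groth.Agent.GrpSch.isPullback_left hsq) ‹_›
  have e₁ : (CartesianMonoidalCategory.snd M Z).left ≫ z.left = (M ◁ z).left ≫ (CartesianMonoidalCategory.snd M X).left :=
    congrArg CommaMorphism.left hsq.w
  have e₂ : (M ◁ z).left ≫ a.left = aZ.left ≫ z.left := congrArg CommaMorphism.left hz
  rw [← Scheme.Hom.comp_preimage, ← Scheme.Hom.comp_preimage, e₁, ← e₂, Scheme.Hom.comp_preimage,
    Scheme.Hom.comp_preimage]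
  refine ⟨fun h => Scheme.Hom.preimage_mono _ h, fun h x hx => ?_⟩
  obtain ⟨y, rfl⟩ := (M ◁ z).left.surjective x
  exact h hx

end Groth.Agent.S18820
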