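import Groth.Statements.S18821
import Groth.Agent.GrpSch.Units

set_option autoImplicit false
universe u
open CategoryTheory MonoidalCategory CartesianMonoidalCategory MonObj AlgebraicGeometry
open AlgGrp

namespace Groth.Agent.S18821

/-- Let k be a commutative ring and M a monoid k-scheme (a monoid object in k-schemes). Then the group
k-functor of units T ↦ M(T)^× is representable by a k-scheme: there are a k-scheme G and a
monomorphism i : G → M such that, for every k-scheme T, a T-valued point of M factors through i if
and only if it is invertible in the monoid M(T). If moreover M is affine then G is affine. -/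
theorem result (k : Type u) [CommRing k]
    (M : Over (Spec (CommRingCat.of k))) [MonObj M] :
    ∃ (G : Over (Spec (CommRingCat.of k))) (i : G ⟶ M), Mono i ∧
      (∀ (T : Over (Spec (CommRingCat.of k))) (m : T ⟶ M), (∃ g : T ⟶ G, g ≫ i = m) ↔ IsUnit m) ∧
      (IsAffine M.left → IsAffine G.left) := by
  obtain ⟨G, p, h⟩ := Groth.Agent.GrpSch.exists_units_over M
  obtain ⟨hmono, hiff⟩ := Groth.Agent.GrpSch.units_pullback_spec p h
  exact ⟨G, p ≫ fst M M, hmono, hiff, fun _ => Groth.Agent.GrpSch.isAffine_units h⟩

end Groth.Agent.S18821
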