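import Groth.Statements.S18823
import Groth.Agent.GrpSch.AgreeLocus

set_option autoImplicit false
universe u
open CategoryTheory MonoidalCategory CartesianMonoidalCategory AlgebraicGeometry
open AlgGrp

namespace Groth.Agent.S18823

/-- Let k be a field, X a separated k-scheme, M a k-scheme (in the source a monoid k-scheme) acting on X
through a : M ×_k X → X, and i : G → M a morphism of k-schemes which is a scheme-theoretically
dominant open immersion: no nonzero quasi-coherent ideal of O_M restricts to zero on G (for
quasi-compact i this is the usual schematic density, O_M → i_*O_G injective; in the source G is the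
group of units of M, open and schematically dense). For a k-scheme T and a T-valued point x of X, x
is fixed under M, i.e. a ∘ (id_M × x) = x ∘ pr_T on M ×_k T, if and only if x is fixed under G, i.e.
a ∘ (i × x) = x ∘ pr_T on G ×_k T. Thus the fixed-point subpresheaves X^M and X^G of X are equal.
(The published statement has no separatedness assumption on X and reduces to points landing in an
affine open; the step asserting that the equalizer of the two maps M ×_k T → X is closed uses that
the target is separated, so X is taken separated here, the case the printed argument establishes.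
The monoid structure and the action axioms play no role in that argument and are not assumed.) -/
theorem result (k : Type u) [Field k]
    (M G X : Over (Spec (CommRingCat.of k))) [IsSeparated X.hom] (a : M ⊗ X ⟶ X) (i : G ⟶ M)
    [IsOpenImmersion i.left] [IsSchemeTheoreticallyDominant i.left]
    (T : Over (Spec (CommRingCat.of k))) (x : T ⟶ X) :
    (M ◁ x) ≫ a = CartesianMonoidalCategory.snd M T ≫ x ↔
      (G ◁ x) ≫ (i ▷ X) ≫ a = CartesianMonoidalCategory.snd G T ≫ x := by
  refine ⟨fun h => ?_, fun h => ?_⟩
  · rw [← Category.assoc (G ◁ x), whisker_exchange, Category.assoc, h, ← Category.assoc,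
      whiskerRight_snd]
  obtain ⟨Z, j, hj, hZ⟩ := Groth.Agent.GrpSch.WeilClosed.exists_agree_of_separated T M X
    (Groth.Agent.GrpSch.WeilClosed.projChart_of_field T.hom)
    ((β_ T M).hom ≫ (M ◁ x) ≫ a) ((β_ T M).hom ≫ CartesianMonoidalCategory.snd M T ≫ x)
  obtain ⟨z, hz⟩ := (hZ G i).mpr (by
    simp only [← Category.assoc]
    rw [BraidedCategory.braiding_naturality_right T i]
    simp only [Category.assoc]
    congr 1
    rw [← Category.assoc (i ▷ T), ← whisker_exchange, Category.assoc, h, ← Category.assoc (i ▷ T),
      whiskerRight_snd])
  have hker : j.left.ker = ⊥ := by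
    have hzl : z.left ≫ j.left = i.left := congrArg (fun m => m.left) hz
    refine eq_bot_iff.mpr ((Scheme.Hom.le_ker_comp z.left j.left).trans_eq ?_)
    rw [hzl]
    exact IsSchemeTheoreticallyDominant.ker_eq_bot _
  have hl : IsClosedImmersion.lift j.left (𝟙 M.left) (hker.le.trans bot_le) ≫ j.left = 𝟙 M.left :=
    IsClosedImmersion.lift_fac _ _ _
  have hfac : ∃ z : M ⟶ Z, z ≫ j = 𝟙 M := by
    refine ⟨Over.homMk (IsClosedImmersion.lift j.left (𝟙 M.left) (hker.le.trans bot_le)) ?_,
      Over.OverMorphism.ext hl⟩
    rw [← Over.w j, ← Category.assoc, hl, Category.id_comp]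
  have h2 := (hZ M (𝟙 M)).mp hfac
  rw [MonoidalCategory.whiskerLeft_id, Category.id_comp, Category.id_comp] at h2
  exact (cancel_epi _).mp h2

end Groth.Agent.S18823
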