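import Groth.Statements.S18824
import Groth.Agent.GrpSch.Action

set_option autoImplicit false
universe u
open CategoryTheory MonoidalCategory CartesianMonoidalCategory MonObj AlgebraicGeometry
open AlgGrp

namespace Groth.Agent.S18824

/-- Let k be a field, G a locally algebraic group over k (a group k-scheme locally of finite type)
acting on a k-scheme X through a : G ×_k X → X, and U an open subset of X. Let G·U ⊆ X be the image
under a of G ×_k U (the preimage of U under the projection). Then G·U is open in X, contains U, is
G-stable in the sense that a maps G ×_k (G·U) into G·U, and is the smallest such set: every G-stable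
open subset of X containing U contains G·U. -/
theorem result (k : Type u) [Field k]
    (G X : Over (Spec (CommRingCat.of k))) [GrpObj G] [LocallyOfFiniteType G.hom] (a : AlgGrp.Action G X)
    (U : Set ↥X.left) (hU : IsOpen U) :
    IsOpen (a.act.left.base '' ((CartesianMonoidalCategory.snd G X).left.base ⁻¹' U)) ∧
      U ⊆ a.act.left.base '' ((CartesianMonoidalCategory.snd G X).left.base ⁻¹' U) ∧
      a.act.left.base '' ((CartesianMonoidalCategory.snd G X).left.base ⁻¹'
          (a.act.left.base '' ((CartesianMonoidalCategory.snd G X).left.base ⁻¹' U))) ⊆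
        a.act.left.base '' ((CartesianMonoidalCategory.snd G X).left.base ⁻¹' U) ∧
      ∀ W : Set ↥X.left, IsOpen W → U ⊆ W →
        a.act.left.base '' ((CartesianMonoidalCategory.snd G X).left.base ⁻¹' W) ⊆ W →
          a.act.left.base '' ((CartesianMonoidalCategory.snd G X).left.base ⁻¹' U) ⊆ W := by
  haveI : UniversallyOpen a.act.left := Groth.Agent.GrpSch.property_act a (inferInstanceAs (UniversallyOpen G.hom))
  have hopen : IsOpen (a.act.left.base '' ((CartesianMonoidalCategory.snd G X).left.base ⁻¹' U)) :=
    a.act.left.isOpenMap _ (hU.preimage (CartesianMonoidalCategory.snd G X).left.continuous)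
  refine ⟨hopen, ?_, ?_, ?_⟩
  · intro x hx
    refine ⟨(lift (1 : X ⟶ G) (𝟙 X)).left x, ?_, ?_⟩
    · change (snd G X).left ((lift (1 : X ⟶ G) (𝟙 X)).left x) ∈ U
      rw [← Scheme.Hom.comp_apply, ← Over.comp_left, lift_snd]
      exact hx
    · change a.act.left ((lift (1 : X ⟶ G) (𝟙 X)).left x) = x
      rw [← Scheme.Hom.comp_apply, ← Over.comp_left, Groth.Agent.GrpSch.act_one]
      rfl
  · rintro _ ⟨p, ⟨q, hq, hqp⟩, rfl⟩
    have H : IsPullback (G ◁ a.act) (snd G (G ⊗ X)) (snd G X) a.act :=
      IsPullback.of_isLimit' ⟨whiskerLeft_snd G a.act⟩ (Limits.PullbackCone.IsLimit.mk _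
        (fun s => lift (s.fst ≫ fst G X) s.snd)
        (fun s => by apply CartesianMonoidalCategory.hom_ext <;> simp [s.condition])
        (fun s => lift_snd _ _)
        (fun s m h1 h2 => by
          apply CartesianMonoidalCategory.hom_ext
          · simp [← h1]
          · simp [← h2]))
    obtain ⟨w, hw1, hw2⟩ :=
      Scheme.exists_preimage_of_isPullback (Groth.Agent.GrpSch.isPullback_left H) p q hqp.symm
    refine ⟨((α_ G G X).inv ≫ (μ[G] ▷ X)).left w, ?_, ?_⟩
    · change (snd G X).left (((α_ G G X).inv ≫ (μ[G] ▷ X)).left w) ∈ U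
      rw [← Scheme.Hom.comp_apply, ← Over.comp_left, Category.assoc, whiskerRight_snd,
        associator_inv_snd, Over.comp_left, Scheme.Hom.comp_apply]
      exact hw2 ▸ hq
    · change a.act.left (((α_ G G X).inv ≫ (μ[G] ▷ X)).left w) = a.act.left p
      rw [← hw1, ← Scheme.Hom.comp_apply, ← Scheme.Hom.comp_apply, ← Over.comp_left, ← Over.comp_left,
        Category.assoc, a.mul_act, Iso.inv_hom_id_assoc]
  · intro W _ hUW hst
    exact (Set.image_mono (Set.preimage_mono hUW)).trans hst

end Groth.Agent.S18824
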