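import Groth.Statements.S18825
import Groth.Agent.GrpSch.OrbitRat
import Mathlib.AlgebraicGeometry.Morphisms.SchemeTheoreticallyDominant

set_option autoImplicit false
universe u
open CategoryTheory MonoidalCategory CartesianMonoidalCategory MonObj AlgebraicGeometry
open AlgGrp

namespace Groth.Agent.S18825

/-- Let k be a field and f : H → G a homomorphism of locally algebraic groups over k (group k-schemes
locally of finite type) which is of finite type (equivalently quasi-compact). Let H → K → G be the
factorization of f through its scheme-theoretic image: i : K → G a closed immersion and g : H → K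
with g followed by i equal to f and O_K → g_*O_H injective. Then (1) K is a closed subgroup scheme
of G: the unit section of G factors through i and, for every k-scheme T and T-valued points k₁, k₂
of K, the T-valued point (i k₁)⁻¹ · (i k₂) of G factors through i; and (2) g : H → K is surjective.
(The source also records that g is a homomorphism for the group structure induced on K; this row
does not state it.) -/
theorem result (k : Type u) [Field k]
    (H G K : Over (Spec (CommRingCat.of k))) [GrpObj H] [GrpObj G]
    [LocallyOfFiniteType H.hom] [LocallyOfFiniteType G.hom]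
    (f : H ⟶ G) [IsMonHom f] [QuasiCompact f.left]
    (i : K ⟶ G) [IsClosedImmersion i.left] (g : H ⟶ K) (hgi : g ≫ i = f)
    [IsSchemeTheoreticallyDominant g.left] :
    ((∃ e : 𝟙_ (Over (Spec (CommRingCat.of k))) ⟶ K, e ≫ i = η[G]) ∧
      ∀ (T : Over (Spec (CommRingCat.of k))) (k₁ k₂ : T ⟶ K),
        ∃ k₃ : T ⟶ K, k₃ ≫ i = (k₁ ≫ i)⁻¹ * (k₂ ≫ i)) ∧
    Surjective g.left := by
  subst hgi
  set f := g ≫ i with hf
  have : QuasiCompact g.left := by
    have : QuasiCompact (g.left ≫ i.left) := ‹QuasiCompact f.left›
    exact QuasiCompact.of_comp g.left i.left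
  refine ⟨⟨⟨η[H] ≫ g, by rw [Category.assoc]; exact IsMonHom.one_hom f⟩, fun T k₁ k₂ => ?_⟩, ?_⟩
  · set φ : K ⊗ K ⟶ G := (fst K K ≫ i)⁻¹ * (snd K K ≫ i)
    -- the base changes of `g` are scheme theoretically dominant
    have h1 : ∀ T : Over (Spec (CommRingCat.of k)),
        IsSchemeTheoreticallyDominant (T ◁ g).left ∧ QuasiCompact (T ◁ g).left := fun T => by
      have hp := Groth.Agent.GrpSch.isPullback_left (Groth.Agent.GrpSch.isPullback_whiskerLeft T g)
      have : Flat (snd T K).left := Groth.Agent.GrpSch.property_snd T K inferInstance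
      exact ⟨IsSchemeTheoreticallyDominant.of_isPullback hp.flip,
        MorphismProperty.of_isPullback hp.flip (inferInstance : QuasiCompact g.left)⟩
    have hgg : IsSchemeTheoreticallyDominant (g ⊗ₘ g).left := by
      have e : (g ⊗ₘ g) = (β_ H H).hom ≫ (H ◁ g) ≫ (β_ H K).hom ≫ (K ◁ g) := by
        ext <;> simp
      have := (h1 H).1
      have := (h1 K).1
      have := (h1 H).2
      have := (h1 K).2
      have : IsIso (β_ H H).hom.left := inferInstanceAs (IsIso ((Over.forget _).map (β_ H H).hom))
      have : IsIso (β_ H K).hom.left := inferInstanceAs (IsIso ((Over.forget _).map (β_ H K).hom))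
      rw [e]
      simp only [Over.comp_left]
      infer_instance
    -- the pullback of `i` along `φ` is everything
    let q := Limits.pullback.snd i.left φ.left
    let c : (H ⊗ H).left ⟶ Limits.pullback i.left φ.left :=
      Limits.pullback.lift (((fst H H)⁻¹ * snd H H) ≫ g).left (g ⊗ₘ g).left (by
        rw [← Over.comp_left, ← Over.comp_left, Category.assoc, ← hf]
        congr 1
        rw [MonObj.mul_comp, GrpObj.inv_comp, hf]
        simp [φ, MonObj.comp_mul, GrpObj.comp_inv])
    have hq : IsIso q := by
      rw [IsClosedImmersion.isIso_iff_ker_eq_bot]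
      refine le_bot_iff.1 ?_
      rw [← hgg.ker_eq_bot, show (g ⊗ₘ g).left = c ≫ q from (Limits.pullback.lift_snd _ _ _).symm]
      exact Scheme.Hom.le_ker_comp c q
    let d : K ⊗ K ⟶ K := Over.homMk (inv q ≫ Limits.pullback.fst i.left φ.left) (by
      have : i.left ≫ G.hom = K.hom := Over.w i
      rw [← this, Category.assoc, Limits.pullback.condition_assoc, IsIso.inv_hom_id_assoc]
      exact Over.w φ)
    have hd : d ≫ i = φ := by
      ext1
      change (inv q ≫ Limits.pullback.fst i.left φ.left) ≫ i.left = φ.left
      rw [Category.assoc, Limits.pullback.condition, IsIso.inv_hom_id_assoc]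
    exact ⟨lift k₁ k₂ ≫ d, by
      simp [hd, φ, MonObj.comp_mul, GrpObj.comp_inv]⟩
  · constructor
    intro y
    have hcl := Groth.Agent.GrpSch.isClosed_range_hom f
    have hgc : Set.range g.left = i.left ⁻¹' Set.range f.left := by
      ext z
      constructor
      · rintro ⟨h, rfl⟩; exact ⟨h, rfl⟩
      · rintro ⟨h, hh⟩; exact ⟨h, i.left.isClosedEmbedding.injective hh⟩
    have hcl' : IsClosed (Set.range g.left) := hgc ▸ hcl.preimage i.left.continuous
    have hd : DenseRange g.left := g.left.denseRange
    exact (hcl'.closure_eq ▸ hd.closure_range.ge) (Set.mem_univ y)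

end Groth.Agent.S18825
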