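import Groth.Statements.S18828
import Groth.Agent.GrpSch.FlatStalk
import Groth.Agent.GrpSch.FlatHom

set_option autoImplicit false
universe u
open CategoryTheory MonoidalCategory CartesianMonoidalCategory MonObj AlgebraicGeometry
open AlgGrp

namespace Groth.Agent.S18828

/-- Let k be a field and f : H → G a homomorphism of locally algebraic groups over k (group k-schemes
locally of finite type). Write e_H for the unit point of H (the image under the unit section of the
point pt of the base Spec k) and φ : O_{G,f(e_H)} → O_{H,e_H} for the induced local homomorphism of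
local rings. Assume (1) φ induces an isomorphism of completed local rings, stated here as: for every
n, φ followed by reduction modulo the (n+1)-st power of the maximal ideal of O_{H,e_H} is
surjective, and an element of O_{G,f(e_H)} maps into that power exactly when it lies in the (n+1)-st
power of the maximal ideal of O_{G,f(e_H)}; and (2) f is a monomorphism of schemes. Then f is an
open immersion. -/
theorem result (k : Type u) [Field k]
    (H G : Over (Spec (CommRingCat.of k))) [GrpObj H] [GrpObj G]
    [LocallyOfFiniteType H.hom] [LocallyOfFiniteType G.hom] (f : H ⟶ G) [IsMonHom f] [Mono f.left]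
    (pt : ↥(𝟙_ (Over (Spec (CommRingCat.of k)))).left)
    (h : ∀ n : ℕ,
      Function.Surjective ((Ideal.Quotient.mk (IsLocalRing.maximalIdeal
          ↑(H.left.presheaf.stalk (η[H].left.base pt)) ^ (n + 1))).comp
        (f.left.stalkMap (η[H].left.base pt)).hom) ∧
      ∀ a : ↑(G.left.presheaf.stalk (f.left.base (η[H].left.base pt))),
        (f.left.stalkMap (η[H].left.base pt)).hom a ∈
            IsLocalRing.maximalIdeal ↑(H.left.presheaf.stalk (η[H].left.base pt)) ^ (n + 1) ↔
          a ∈ IsLocalRing.maximalIdeal ↑(G.left.presheaf.stalk (f.left.base (η[H].left.base pt))) ^ (n + 1)) :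
    IsOpenImmersion f.left := by
  haveI : IsLocallyNoetherian G.left := LocallyOfFiniteType.isLocallyNoetherian G.hom
  haveI : IsLocallyNoetherian H.left := LocallyOfFiniteType.isLocallyNoetherian H.hom
  haveI : LocallyOfFiniteType f.left := by
    haveI : LocallyOfFiniteType (f.left ≫ G.hom) := by rw [Over.w f]; infer_instance
    exact locallyOfFiniteType_of_comp f.left G.hom
  haveI : LocallyOfFinitePresentation f.left := inferInstance
  have h0 : (f.left.stalkMap (η[H].left pt)).hom.Flat := Groth.Agent.GrpSch.FlatStalk.flat_of_completion_iso _ h
  haveI : Flat f.left := Groth.Agent.GrpSch.flat_of_transitive f _ h0 fun P a b => by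
    refine ⟨Groth.Agent.GrpSch.shearLeft ((a * b⁻¹) ≫ f), Groth.Agent.GrpSch.shearLeft (a * b⁻¹), ?_, ?_⟩
    · apply CartesianMonoidalCategory.hom_ext
      · simp [Groth.Agent.GrpSch.shearLeft]
      · simp [Groth.Agent.GrpSch.shearLeft, MonObj.comp_mul, MonObj.mul_comp, GrpObj.inv_comp]
    · apply CartesianMonoidalCategory.hom_ext
      · simp [Groth.Agent.GrpSch.shearLeft]
      · simp [Groth.Agent.GrpSch.shearLeft, MonObj.comp_mul, GrpObj.comp_inv]
  exact IsOpenImmersion.of_flat_of_mono f.left

end Groth.Agent.S18828
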