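import Groth.Statements.S18829
import Groth.Agent.LinRed.Diagonalizable

set_option autoImplicit false
universe u
open scoped TensorProduct
open HopfRep

namespace Groth.Agent.S18829

/-- Let k be a field and A a finitely generated commutative Hopf algebra over k, the coordinate ring of
an affine algebraic group T. Suppose T is a torus: for some algebraically closed field extension K
of k the base change K ⊗_k A is isomorphic as a K-bialgebra to the group algebra over K of a free
abelian group ℤ^n (T_K is a split torus of rank n). Then T is linearly reductive in the sense that
every finite-dimensional A-comodule is semisimple. (The source's definition of a torus asks for such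
an isomorphism over every algebraically closed extension; one suffices for the printed argument. The
source's notion of a linearly reductive algebraic group also includes smoothness of T over k, which
this row does not assert.) -/
theorem result (k K A : Type u) [Field k] [Field K]
    [Algebra k K] [IsAlgClosed K] [CommRing A] [HopfAlgebra k A] [Algebra.FiniteType k A] (n : ℕ)
    (e : (K ⊗[k] A) ≃ₐc[K] MonoidAlgebra K (Multiplicative (Fin n → ℤ))) :
    HopfRep.IsLinearlyReductive k A := by
  have hd : HopfRep.IsDiagonalizable K (K ⊗[k] A) := by
    rw [HopfRep.IsDiagonalizable, eq_top_iff]
    intro z _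
    obtain ⟨f, rfl⟩ : ∃ f, e.symm f = z := ⟨e z, e.symm_apply_apply z⟩
    induction f using MonoidAlgebra.induction_linear with
    | zero => simp
    | add f g hf hg => rw [map_add]; exact add_mem (hf trivial) (hg trivial)
    | single x c =>
      rw [show (MonoidAlgebra.single x c : MonoidAlgebra K (Multiplicative (Fin n → ℤ))) =
        c • MonoidAlgebra.single x 1 by simp, map_smul]
      refine Submodule.smul_mem _ c (Submodule.subset_span ?_)
      show IsGroupLikeElem K (e.symm (MonoidAlgebra.single x 1))
      refine IsGroupLikeElem.map e.symm.toBialgHom ⟨by simp, ?_⟩
      rw [MonoidAlgebra.comul_single, CommSemiring.comul_apply, TensorProduct.map_tmul]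
      rfl
  obtain ⟨β, hβ⟩ := Groth.Agent.LinRed.exists_isNormIntegral_of_isDiagonalizable hd
  obtain ⟨α, hα⟩ := Groth.Agent.LinRed.exists_isNormIntegral_of_baseChange hβ
  exact Groth.Agent.LinRed.isLinearlyReductive_of_isNormIntegral hα

end Groth.Agent.S18829
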