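import Groth.Statements.S18830
import Groth.Agent.GrpSch.Units

set_option autoImplicit false
universe u
open CategoryTheory MonoidalCategory CartesianMonoidalCategory MonObj AlgebraicGeometry
open AlgGrp

namespace Groth.Agent.S18830

/-- Let k be a field and M an algebraic monoid over k (a monoid k-scheme of finite type). Let i : G → M
be its group of units: a monomorphism of k-schemes through which a T-valued point of M factors if
and only if it is invertible in the monoid M(T). Then G is of finite type over k, i.e. the unit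
group is an algebraic group. -/
theorem result (k : Type u) [Field k]
    (M G : Over (Spec (CommRingCat.of k))) [MonObj M] [LocallyOfFiniteType M.hom] [QuasiCompact M.hom]
    (i : G ⟶ M) [Mono i]
    (hi : ∀ (T : Over (Spec (CommRingCat.of k))) (m : T ⟶ M), (∃ g : T ⟶ G, g ≫ i = m) ↔ IsUnit m) :
    LocallyOfFiniteType G.hom ∧ QuasiCompact G.hom := by
  obtain ⟨G₁, p, h⟩ := Groth.Agent.GrpSch.exists_units_over M
  obtain ⟨hmono, hiff⟩ := Groth.Agent.GrpSch.units_pullback_spec p h
  obtain ⟨a, ha⟩ := (hi G₁ (p ≫ fst M M)).2 ((hiff G₁ _).1 ⟨𝟙 _, Category.id_comp _⟩)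
  obtain ⟨b, hb⟩ := (hiff G i).2 ((hi G i).1 ⟨𝟙 _, Category.id_comp _⟩)
  have hba : b ≫ a = 𝟙 G := by rw [← cancel_mono i, Category.assoc, ha, hb, Category.id_comp]
  have hab : a ≫ b = 𝟙 G₁ := by
    rw [← cancel_mono (p ≫ fst M M), Category.assoc, hb, ha, Category.id_comp]
  have : IsLocallyNoetherian M.left := LocallyOfFiniteType.isLocallyNoetherian M.hom
  have : LocallyOfFiniteType (M ⊗ M).hom :=
    inferInstanceAs (LocallyOfFiniteType (Limits.pullback.fst M.hom M.hom ≫ M.hom))
  have : QuasiCompact (M ⊗ M).hom :=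
    inferInstanceAs (QuasiCompact (Limits.pullback.fst M.hom M.hom ≫ M.hom))
  have : IsLocallyNoetherian (M ⊗ M).left := LocallyOfFiniteType.isLocallyNoetherian (M ⊗ M).hom
  let e : 𝟙_ (Over (Spec (CommRingCat.of k))) ⟶ M ⊗ M := lift η[M] η[M]
  have he : e.left ≫ (M ⊗ M).hom = 𝟙 _ := Over.w e
  have h₁ : LocallyOfFiniteType e.left := by
    have : LocallyOfFiniteType (e.left ≫ (M ⊗ M).hom) := by rw [he]; infer_instance
    exact locallyOfFiniteType_of_comp e.left (M ⊗ M).hom
  have h₂ : QuasiCompact e.left := by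
    have : QuasiCompact (e.left ≫ (M ⊗ M).hom) := by rw [he]; infer_instance
    exact QuasiCompact.of_comp e.left (M ⊗ M).hom
  have : LocallyOfFiniteType p.left :=
    Groth.Agent.GrpSch.property_units_hom (P := @LocallyOfFiniteType) h h₁
  have : QuasiCompact p.left :=
    Groth.Agent.GrpSch.property_units_hom (P := @QuasiCompact) h h₂
  have : IsIso b := ⟨a, hba, hab⟩
  have : IsIso b.left := inferInstanceAs (IsIso ((Over.forget _).map b))
  have e2 : G.hom = b.left ≫ p.left ≫ (M ⊗ M).hom := by rw [Over.w p, Over.w b]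
  rw [e2]
  exact ⟨inferInstance, inferInstance⟩

end Groth.Agent.S18830
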