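import Groth.Statements.S18832
import Groth.Agent.ArtLift.Jets
import Groth.Agent.CAlgJac.Field


set_option autoImplicit false
universe u
open Polynomial
open DefT

namespace Groth.Agent.S18832

/-- Let k be an algebraically closed field of characteristic zero, A a finitely generated k-algebra and
m a maximal ideal of A. Then A_m is a regular local ring (the pointed scheme (Spec A, m) is smooth
at m) if and only if, for every l ≥ 1, every k-algebra homomorphism φ : A → k[X]/(X^l) mapping m
into the nilpotent elements extends to a k-algebra homomorphism ψ : A → k[X]/(X^(l+1)) reducing to φ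
modulo X^l. Only jets along Spec k[X]/(X^l) are tested, not all local Artinian algebras. -/
theorem result (k : Type u) [Field k] [IsAlgClosed k] [CharZero k]
    (A : Type u) [CommRing A] [Algebra k A] [Algebra.FiniteType k A]
    (m : Ideal A) [m.IsMaximal] :
    IsRegularLocalRing (Localization.AtPrime m) ↔
      ∀ (l : ℕ), 1 ≤ l →
        ∀ (φ : A →ₐ[k] (k[X] ⧸ Ideal.span {(X : k[X]) ^ l})),
          (∀ a ∈ m, IsNilpotent (φ a)) →
          ∃ ψ : A →ₐ[k] (k[X] ⧸ Ideal.span {(X : k[X]) ^ (l + 1)}),
            (Ideal.Quotient.factorₐ k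
                (Ideal.span_singleton_le_span_singleton.mpr (pow_dvd_pow (X : k[X]) (Nat.le_succ l)))).comp ψ = φ := by
  classical
  let L := Localization.AtPrime m
  have : IsNoetherianRing A := Algebra.FiniteType.isNoetherianRing k A
  have : IsNoetherianRing L := IsLocalization.isNoetherianRing m.primeCompl L inferInstance
  have : Algebra.EssFiniteType A L := Algebra.EssFiniteType.of_isLocalization L m.primeCompl
  have : Algebra.EssFiniteType k L := Algebra.EssFiniteType.comp k A L
  letI : Field (A ⧸ m) := Ideal.Quotient.field m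
  have : Module.Finite k (A ⧸ m) := finite_of_finite_type_of_isJacobsonRing k (A ⧸ m)
  have hkA : Function.Surjective (algebraMap k (A ⧸ m)) :=
    (IsAlgClosed.algebraMap_bijective_of_isIntegral (k := k) (K := A ⧸ m)).2
  have hres : Function.Surjective (algebraMap k (IsLocalRing.ResidueField L)) := by
    intro z
    obtain ⟨a, ha⟩ := (IsLocalization.AtPrime.equivQuotMaximalIdeal m L).surjective z
    obtain ⟨c, hc⟩ := hkA a
    refine ⟨c, ?_⟩
    rw [← ha, ← hc, IsScalarTower.algebraMap_apply k A (A ⧸ m), Ideal.Quotient.algebraMap_eq,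
      IsLocalization.AtPrime.equivQuotMaximalIdeal_apply_mk, IsScalarTower.algebraMap_apply k A (IsLocalRing.ResidueField L)]
    rfl
  have hext : ∀ (l : ℕ) (φ : A →ₐ[k] Groth.Agent.ArtLift.Jets.Jet k l), (∀ a ∈ m, IsNilpotent (φ a)) →
      ∀ y : m.primeCompl, IsUnit (φ y.1) := by
    intro l φ hφ y
    obtain ⟨c, hc⟩ := hkA (Ideal.Quotient.mk m y.1)
    have hmem : y.1 - algebraMap k A c ∈ m := by
      rw [← Ideal.Quotient.eq, ← hc]; rfl
    have hc0 : c ≠ 0 := fun h => y.2 (by simpa [h] using hmem)
    have h1 := (hφ _ hmem).isUnit_add_left_of_commute (u := algebraMap k (Groth.Agent.ArtLift.Jets.Jet k l) c)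
      ((Ne.isUnit hc0).map (algebraMap k (Groth.Agent.ArtLift.Jets.Jet k l))) (Commute.all _ _)
    rwa [map_sub, φ.commutes, add_sub_cancel] at h1
  have hresfs : Algebra.FormallySmooth k (IsLocalRing.ResidueField L) :=
    Algebra.FormallySmooth.of_equiv (AlgEquiv.ofBijective (Algebra.ofId k (IsLocalRing.ResidueField L))
      ⟨(algebraMap k (IsLocalRing.ResidueField L)).injective, hres⟩)
  constructor
  · intro hreg l hl φ hφ
    have : Algebra.FormallySmooth k L :=
      (Groth.Agent.CAlgJac.formallySmooth_iff_isRegularLocalRing_of_essFiniteType k L).2 hreg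
    let φ' : L →ₐ[k] Groth.Agent.ArtLift.Jets.Jet k l := IsLocalization.liftAlgHom (f := φ) (hext l φ hφ)
    let π : Groth.Agent.ArtLift.Jets.Jet k (l + 1) →ₐ[k] Groth.Agent.ArtLift.Jets.Jet k l :=
      Ideal.Quotient.factorₐ k (Ideal.span_singleton_le_span_singleton.mpr (pow_dvd_pow (X : k[X]) (Nat.le_succ l)))
    have hπ : Function.Surjective π := Ideal.Quotient.factor_surjective (Ideal.span_singleton_le_span_singleton.mpr (pow_dvd_pow (Polynomial.X : Polynomial k) (Nat.le_succ l)))
    let e := Ideal.quotientKerAlgEquivOfSurjective hπ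
    obtain ⟨g, hg⟩ := Algebra.FormallySmooth.comp_surjective k L (RingHom.ker π)
      (Groth.Agent.ArtLift.Jets.ker_factor_sq k hl) (e.symm.toAlgHom.comp φ')
    refine ⟨g.comp (IsScalarTower.toAlgHom k A L), AlgHom.ext fun a => ?_⟩
    have h2 : e (Ideal.Quotient.mk (RingHom.ker π) (g (algebraMap A L a))) = φ a := by
      rw [show Ideal.Quotient.mk (RingHom.ker π) (g (algebraMap A L a)) = e.symm (φ' (algebraMap A L a)) from
        AlgHom.congr_fun hg _, AlgEquiv.apply_symm_apply]
      exact IsLocalization.lift_eq _ a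
    exact h2
  · intro h
    refine Groth.Agent.ArtLift.Jets.isRegularLocalRing_of_jets hres fun l hl φ hφ => ?_
    have hφ' : ∀ a ∈ m, IsNilpotent (φ.comp (IsScalarTower.toAlgHom k A L) a) := fun a ha =>
      hφ _ (IsLocalization.AtPrime.to_map_mem_maximal_iff L m a |>.2 ha)
    obtain ⟨ψ, hψ⟩ := h l hl (φ.comp (IsScalarTower.toAlgHom k A L)) hφ'
    have hψn : ∀ a ∈ m, IsNilpotent (ψ a) := by
      intro a ha
      obtain ⟨p, hp⟩ := Ideal.Quotient.mk_surjective (ψ a)
      obtain ⟨N, hN⟩ := hφ' a ha
      refine ⟨N * 2, ?_⟩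
      have hN' := AlgHom.congr_fun hψ a
      have h3 : ψ a ^ N ∈ RingHom.ker (Ideal.Quotient.factorₐ k
          (Ideal.span_singleton_le_span_singleton.mpr (pow_dvd_pow (X : k[X]) (Nat.le_succ l))) :
            Groth.Agent.ArtLift.Jets.Jet k (l + 1) →ₐ[k] Groth.Agent.ArtLift.Jets.Jet k l) := by
        rw [RingHom.mem_ker, map_pow]
        rw [AlgHom.comp_apply] at hN'
        rw [hN', hN]
      have h4 := Ideal.pow_mem_pow h3 2
      rw [Groth.Agent.ArtLift.Jets.ker_factor_sq k hl, Ideal.mem_bot] at h4
      rw [pow_mul, h4]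
    refine ⟨IsLocalization.liftAlgHom (f := ψ) (hext (l + 1) ψ hψn), ?_⟩
    refine IsLocalization.algHom_ext m.primeCompl (AlgHom.ext fun a => ?_)
    change Ideal.Quotient.factorₐ k (Ideal.span_singleton_le_span_singleton.mpr (pow_dvd_pow (X : k[X]) (Nat.le_succ l))) (IsLocalization.lift (hext (l + 1) ψ hψn) (algebraMap A L a)) = φ (algebraMap A L a)
    rw [IsLocalization.lift_eq]
    exact AlgHom.congr_fun hψ a

end Groth.Agent.S18832
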