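import Groth.Statements.S18837
import Groth.Agent.TruncDeform.Trunc


set_option autoImplicit false
universe u
open Polynomial TensorProduct
open Deform

namespace Groth.Agent.S18837

/-- Let k be an algebraically closed field of characteristic zero, n ≥ 1, D = k[X]/(X^(n+1)) (given with
a k-algebra isomorphism e identifying the class of X with τ ∈ D), and B a finitely generated
k-algebra which is a flat D-algebra such that B/tB is smooth over k, where t is the image of τ in B
(an affine open of a flat deformation of a smooth k-scheme over Spec D); put B' = B/t^nB. Then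
Ω_(B/D) is a projective B-module, B' ⊗_B Ω_(B/k) is a projective B'-module, and the sequence 0 → B'
→ B' ⊗_B Ω_(B/k) → B' ⊗_B Ω_(B/D) → 0 is exact, the first map being b ↦ b · (1 ⊗ dt) and the second
the base change of the canonical surjection Ω_(B/k) → Ω_(B/D). The source states this for a flat
proper family over Spec D with smooth central fibre; the statement is local and is given here on an
affine open. -/
theorem result (k : Type u) [Field k] [IsAlgClosed k] [CharZero k] (n : ℕ) (hn : 1 ≤ n)
    (D : Type u) [CommRing D] [Algebra k D] (τ : D)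
    (e : (k[X] ⧸ Ideal.span {(X : k[X]) ^ (n + 1)}) ≃ₐ[k] D)
    (he : e (Ideal.Quotient.mk (Ideal.span {(X : k[X]) ^ (n + 1)}) X) = τ)
    (B : Type u) [CommRing B] [Algebra k B] [Algebra D B] [IsScalarTower k D B]
    [Algebra.FiniteType k B] [Module.Flat D B]
    (t : B) (ht : t = algebraMap D B τ) (hsm : Algebra.Smooth k (B ⧸ Ideal.span {t})) :
    Module.Projective B (Ω[B⁄D]) ∧
    Module.Projective (B ⧸ Ideal.span {t ^ n}) ((B ⧸ Ideal.span {t ^ n}) ⊗[B] Ω[B⁄k]) ∧
    Function.Injective
      (LinearMap.toSpanSingleton (B ⧸ Ideal.span {t ^ n}) ((B ⧸ Ideal.span {t ^ n}) ⊗[B] Ω[B⁄k])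
        ((1 : (B ⧸ Ideal.span {t ^ n})) ⊗ₜ[B] KaehlerDifferential.D k B t)) ∧
    Function.Exact
      (LinearMap.toSpanSingleton (B ⧸ Ideal.span {t ^ n}) ((B ⧸ Ideal.span {t ^ n}) ⊗[B] Ω[B⁄k])
        ((1 : (B ⧸ Ideal.span {t ^ n})) ⊗ₜ[B] KaehlerDifferential.D k B t))
      (LinearMap.baseChange (B ⧸ Ideal.span {t ^ n}) (KaehlerDifferential.map k D B B)) ∧
    Function.Surjective (LinearMap.baseChange (B ⧸ Ideal.span {t ^ n}) (KaehlerDifferential.map k D B B)) := by
  have hfs : Algebra.FormallySmooth k (B ⧸ Ideal.span {t}) := hsm.formallySmooth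
  have := TruncDeform.formallySmooth e he ht hfs
  obtain ⟨δ, hδ⟩ := TruncDeform.exists_derivation e he ht hfs hn
  let Bn := B ⧸ Ideal.span {t ^ n}
  let Ψ : Bn ⊗[B] Ω[B⁄k] →ₗ[Bn] Bn := LinearMap.liftBaseChange Bn δ.liftKaehlerDifferential
  let v : Bn ⊗[B] Ω[B⁄k] := 1 ⊗ₜ KaehlerDifferential.D k B t
  let f := LinearMap.toSpanSingleton Bn _ v
  let g := LinearMap.baseChange Bn (KaehlerDifferential.map k D B B)
  have hproj : Module.Projective B (Ω[B⁄D]) := inferInstance
  have hΨ : ∀ a, Ψ (f a) = a := fun a => by
    show Ψ (a • v) = a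
    rw [map_smul, LinearMap.liftBaseChange_tmul, one_smul, Derivation.liftKaehlerDifferential_comp_D, hδ,
      smul_eq_mul, mul_one]
  have hinj : Function.Injective f := Function.LeftInverse.injective hΨ
  have hex0 : Function.Exact (LinearMap.toSpanSingleton B _ (KaehlerDifferential.D k B t))
      (KaehlerDifferential.map k D B B) := by
    intro η
    constructor
    · intro h
      obtain ⟨b, rfl⟩ := TruncDeform.exists_smul_D_of_map_eq_zero e he η h
      exact ⟨b, by rw [LinearMap.toSpanSingleton_apply, ht]⟩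
    · rintro ⟨b, rfl⟩
      rw [LinearMap.toSpanSingleton_apply, map_smul, KaehlerDifferential.map_D, Algebra.algebraMap_self,
        RingHom.id_apply, ht, Derivation.map_algebraMap, smul_zero]
  have hsurj0 := KaehlerDifferential.map_surjective k D B
  have hsurj : Function.Surjective g := LinearMap.lTensor_surjective Bn hsurj0
  have hex : Function.Exact f g := by
    intro x
    constructor
    · intro hx
      obtain ⟨y, rfl⟩ := (lTensor_exact Bn hex0 hsurj0 x).1 hx
      induction y using TensorProduct.induction_on with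
      | zero => exact ⟨0, by simp⟩
      | tmul a b =>
        refine ⟨b • a, ?_⟩
        simp only [f, v, LinearMap.toSpanSingleton_apply, TensorProduct.smul_tmul', smul_eq_mul, mul_one,
          LinearMap.lTensor_tmul]
        rw [TensorProduct.smul_tmul]
      | add y z hy hz =>
        obtain ⟨a, ha⟩ := hy ((lTensor_exact Bn hex0 hsurj0 _).2 ⟨y, rfl⟩)
        obtain ⟨a', ha'⟩ := hz ((lTensor_exact Bn hex0 hsurj0 _).2 ⟨z, rfl⟩)
        exact ⟨a + a', by rw [map_add, map_add, ha, ha']⟩
    · rintro ⟨a, rfl⟩
      show g (a • v) = 0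
      have h0 : KaehlerDifferential.map k D B B (KaehlerDifferential.D k B t) = 0 := by
        simpa using hex0.apply_apply_eq_zero 1
      rw [map_smul, LinearMap.baseChange_tmul, h0, TensorProduct.tmul_zero, smul_zero]
  refine ⟨hproj, ?_, hinj, hex, hsurj⟩
  obtain ⟨s, hs⟩ := Module.projective_lifting_property g LinearMap.id hsurj
  have hsg : ∀ p, g (s p) = p := fun p => LinearMap.congr_fun hs p
  refine Module.Projective.of_equiv (LinearEquiv.ofBijective (f.coprod s) ⟨?_, ?_⟩)
  · refine (injective_iff_map_eq_zero _).2 fun x hx => ?_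
    have h2 : x.2 = 0 := by
      simpa [hex.apply_apply_eq_zero, hsg] using congrArg g hx
    have h1 : f x.1 = 0 := by simpa [h2] using hx
    exact Prod.ext ((map_eq_zero_iff f hinj).1 h1) h2
  · intro x
    obtain ⟨a, ha⟩ := (hex (x - s (g x))).1 (by rw [map_sub, hsg, sub_self])
    exact ⟨(a, g x), by rw [LinearMap.coprod_apply, ha, sub_add_cancel]⟩

end Groth.Agent.S18837
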