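import Groth.Statements.S18838
import Groth.Agent.TruncDeform.Trunc


set_option autoImplicit false
universe u
open Polynomial TensorProduct
open Deform

namespace Groth.Agent.S18838

/-- Let k be an algebraically closed field of characteristic zero, n ≥ 1, D = k[X]/(X^(n+1)) (given with
a k-algebra isomorphism e identifying the class of X with τ ∈ D), and B a finitely generated
k-algebra which is a flat D-algebra such that B/tB is smooth over k, where t is the image of τ in B
(an affine open of a flat deformation of a smooth k-scheme over Spec D); put B' = B/t^nB. The map μ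
: B → B' × (B' ⊗_B Ω_(B/k)) sending f to (f mod t^n, 1 ⊗ df) is injective, and its image consists
exactly of the pairs (g, α) with dg = r(α) in Ω_(B'/k), r being the canonical map B' ⊗_B Ω_(B/k) →
Ω_(B'/k). Injectivity uses that n is invertible in k. The source works with a flat proper family
over Spec D with smooth central fibre; the statement is local and is given here on an affine open. -/
theorem result (k : Type u) [Field k] [IsAlgClosed k] [CharZero k] (n : ℕ) (hn : 1 ≤ n)
    (D : Type u) [CommRing D] [Algebra k D] (τ : D)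
    (e : (k[X] ⧸ Ideal.span {(X : k[X]) ^ (n + 1)}) ≃ₐ[k] D)
    (he : e (Ideal.Quotient.mk (Ideal.span {(X : k[X]) ^ (n + 1)}) X) = τ)
    (B : Type u) [CommRing B] [Algebra k B] [Algebra D B] [IsScalarTower k D B]
    [Algebra.FiniteType k B] [Module.Flat D B]
    (t : B) (ht : t = algebraMap D B τ) (hsm : Algebra.Smooth k (B ⧸ Ideal.span {t})) :
    Function.Injective (fun f : B =>
      ((Ideal.Quotient.mk (Ideal.span {t ^ n}) f,
        (1 : (B ⧸ Ideal.span {t ^ n})) ⊗ₜ[B] KaehlerDifferential.D k B f) : (B ⧸ Ideal.span {t ^ n}) × ((B ⧸ Ideal.span {t ^ n}) ⊗[B] Ω[B⁄k]))) ∧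
    Set.range (fun f : B =>
      ((Ideal.Quotient.mk (Ideal.span {t ^ n}) f,
        (1 : (B ⧸ Ideal.span {t ^ n})) ⊗ₜ[B] KaehlerDifferential.D k B f) : (B ⧸ Ideal.span {t ^ n}) × ((B ⧸ Ideal.span {t ^ n}) ⊗[B] Ω[B⁄k]))) =
      {p | KaehlerDifferential.D k (B ⧸ Ideal.span {t ^ n}) p.1 = KaehlerDifferential.mapBaseChange k B (B ⧸ Ideal.span {t ^ n}) p.2} := by
  have hfs : Algebra.FormallySmooth k (B ⧸ Ideal.span {t}) := hsm.formallySmooth
  obtain ⟨δ, hδ⟩ := TruncDeform.exists_derivation e he ht hfs hn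
  let Bn := B ⧸ Ideal.span {t ^ n}
  let q : B →+* Bn := Ideal.Quotient.mk _
  let Ψ : Bn ⊗[B] Ω[B⁄k] →ₗ[Bn] Bn := LinearMap.liftBaseChange Bn δ.liftKaehlerDifferential
  have hΨ : ∀ b : B, Ψ (1 ⊗ₜ KaehlerDifferential.D k B b) = δ b := fun b => by
    rw [LinearMap.liftBaseChange_tmul, one_smul, Derivation.liftKaehlerDifferential_comp_D]
  have hqn : q (t ^ n) = 0 := Ideal.Quotient.eq_zero_iff_mem.2 (Ideal.mem_span_singleton_self _)
  constructor
  · intro f f' hff
    obtain ⟨h1, h2⟩ := Prod.mk.injEq .. ▸ hff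
    obtain ⟨g, hg⟩ := Ideal.mem_span_singleton.1 (Ideal.Quotient.eq.1 h1)
    have h3 : δ (f - f') = 0 := by rw [map_sub, ← hΨ, ← hΨ, h2, sub_self]
    rw [hg, Derivation.leibniz, Derivation.leibniz_pow, hδ, Algebra.smul_def (t ^ n),
      Ideal.Quotient.algebraMap_eq, hqn, zero_mul, zero_add, ← Nat.cast_smul_eq_nsmul k] at h3
    have h4 : q (t ^ (n - 1) * g) = 0 := by
      have hn0 : ((n : ℕ) : k) ≠ 0 := Nat.cast_ne_zero.2 (Nat.one_le_iff_ne_zero.1 hn)
      rw [smul_comm] at h3
      have h5 := (smul_eq_zero.1 h3).resolve_left hn0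
      simp only [Algebra.smul_def, mul_one, Ideal.Quotient.algebraMap_eq] at h5
      rw [map_mul, mul_comm]
      exact h5
    rw [← sub_eq_zero, hg]
    exact TruncDeform.pow_pred_mul_mem e he ht hn (Ideal.Quotient.eq_zero_iff_mem.1 h4)
  · ext ⟨x, z⟩
    constructor
    · rintro ⟨f, hf⟩
      obtain ⟨rfl, rfl⟩ := Prod.mk.injEq .. ▸ hf
      show KaehlerDifferential.D k _ _ = KaehlerDifferential.mapBaseChange k B _ _
      rw [KaehlerDifferential.mapBaseChange_tmul, one_smul, KaehlerDifferential.map_D]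
      rfl
    · intro hp
      obtain ⟨f, rfl⟩ := Ideal.Quotient.mk_surjective x
      have hz : KaehlerDifferential.mapBaseChange k B Bn (z - 1 ⊗ₜ KaehlerDifferential.D k B f) = 0 := by
        rw [map_sub, sub_eq_zero, KaehlerDifferential.mapBaseChange_tmul, one_smul, KaehlerDifferential.map_D]
        exact hp.symm
      obtain ⟨g, hg⟩ := TruncDeform.exists_pow_mul_of_mapBaseChange_eq_zero _ _ hz
      refine ⟨f + t ^ n * g, Prod.ext ?_ ?_⟩
      · show q (f + t ^ n * g) = q f
        rw [map_add, map_mul, hqn, zero_mul, add_zero]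
      · show (1 : Bn) ⊗ₜ[B] KaehlerDifferential.D k B (f + t ^ n * g) = z
        rw [map_add, TensorProduct.tmul_add, ← hg, add_sub_cancel]

end Groth.Agent.S18838
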