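import Groth.Statements.S18839
import Groth.Agent.TruncDeform.Trunc


set_option autoImplicit false
universe u
open Polynomial TensorProduct
open Deform

namespace Groth.Agent.S18839

/-- Let k be an algebraically closed field of characteristic zero, n ≥ 1, D = k[X]/(X^(n+1)) (given with
a k-algebra isomorphism e identifying the class of X with τ ∈ D), and B a finitely generated
k-algebra which is a flat D-algebra such that B/tB is smooth over k, where t is the image of τ in B
(an affine open of a flat deformation of a smooth k-scheme over Spec D); put B' = B/t^nB. The map ν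
: Ω_(B/k) → Ω_(B/D) × (B' ⊗_B Ω_(B/k)), η ↦ (η relative to D, 1 ⊗ η), is injective, and its image
consists exactly of the pairs (α, β) with the same image in Ω_(B'/D) under the canonical maps
Ω_(B/D) → Ω_(B'/D) and B' ⊗_B Ω_(B/k) → Ω_(B'/k) → Ω_(B'/D). Injectivity uses that n + 1 is
invertible in k (so that t^n dt = 0 in Ω_(B/k)). The source works with a flat proper family over
Spec D with smooth central fibre; the statement is local and is given here on an affine open. -/
theorem result (k : Type u) [Field k] [IsAlgClosed k] [CharZero k] (n : ℕ) (hn : 1 ≤ n)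
    (D : Type u) [CommRing D] [Algebra k D] (τ : D)
    (e : (k[X] ⧸ Ideal.span {(X : k[X]) ^ (n + 1)}) ≃ₐ[k] D)
    (he : e (Ideal.Quotient.mk (Ideal.span {(X : k[X]) ^ (n + 1)}) X) = τ)
    (B : Type u) [CommRing B] [Algebra k B] [Algebra D B] [IsScalarTower k D B]
    [Algebra.FiniteType k B] [Module.Flat D B]
    (t : B) (ht : t = algebraMap D B τ) (hsm : Algebra.Smooth k (B ⧸ Ideal.span {t})) :
    Function.Injective (fun η : Ω[B⁄k] =>
      ((KaehlerDifferential.map k D B B η, (1 : (B ⧸ Ideal.span {t ^ n})) ⊗ₜ[B] η) : Ω[B⁄D] × ((B ⧸ Ideal.span {t ^ n}) ⊗[B] Ω[B⁄k]))) ∧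
    Set.range (fun η : Ω[B⁄k] =>
      ((KaehlerDifferential.map k D B B η, (1 : (B ⧸ Ideal.span {t ^ n})) ⊗ₜ[B] η) : Ω[B⁄D] × ((B ⧸ Ideal.span {t ^ n}) ⊗[B] Ω[B⁄k]))) =
      {p | KaehlerDifferential.map D D B (B ⧸ Ideal.span {t ^ n}) p.1 =
        KaehlerDifferential.map k D (B ⧸ Ideal.span {t ^ n}) (B ⧸ Ideal.span {t ^ n}) (KaehlerDifferential.mapBaseChange k B (B ⧸ Ideal.span {t ^ n}) p.2)} := by
  have hfs : Algebra.FormallySmooth k (B ⧸ Ideal.span {t}) := hsm.formallySmooth
  obtain ⟨δ, hδ⟩ := TruncDeform.exists_derivation e he ht hfs hn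
  let Bn := B ⧸ Ideal.span {t ^ n}
  let q : B →+* Bn := Ideal.Quotient.mk _
  let Ψ : Bn ⊗[B] Ω[B⁄k] →ₗ[Bn] Bn := LinearMap.liftBaseChange Bn δ.liftKaehlerDifferential
  have hqn : q (t ^ n) = 0 := Ideal.Quotient.eq_zero_iff_mem.2 (Ideal.mem_span_singleton_self _)
  have hcomp : ∀ η : Ω[B⁄k], KaehlerDifferential.map D D B Bn (KaehlerDifferential.map k D B B η) =
      KaehlerDifferential.map k D Bn Bn (KaehlerDifferential.mapBaseChange k B Bn (1 ⊗ₜ η)) := by
    intro η
    have h : η ∈ Submodule.span B (Set.range (KaehlerDifferential.D k B)) := by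
      rw [KaehlerDifferential.span_range_derivation]
      trivial
    rw [KaehlerDifferential.mapBaseChange_tmul, one_smul]
    refine Submodule.span_induction ?_ (by simp) ?_ ?_ h
    · rintro _ ⟨b, rfl⟩
      simp only [KaehlerDifferential.map_D]
      rfl
    · intro x y _ _ hx hy
      simp only [map_add, hx, hy]
    · intro r x _ hx
      rw [map_smul, map_smul, map_smul, LinearMap.map_smul_of_tower, hx]
  constructor
  · intro η η' hη
    obtain ⟨h1, h2⟩ := Prod.mk.injEq .. ▸ hη
    obtain ⟨b, hb⟩ := TruncDeform.exists_smul_D_of_map_eq_zero e he (η - η') (by rw [map_sub, h1, sub_self])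
    rw [← ht] at hb
    have h3 : Ψ (1 ⊗ₜ (η - η')) = 0 := by rw [TensorProduct.tmul_sub, h2, sub_self, map_zero]
    rw [hb, LinearMap.liftBaseChange_tmul, one_smul, map_smul, Derivation.liftKaehlerDifferential_comp_D, hδ,
      Algebra.smul_def, mul_one, Ideal.Quotient.algebraMap_eq] at h3
    obtain ⟨c, rfl⟩ := Ideal.mem_span_singleton'.1 (Ideal.Quotient.eq_zero_iff_mem.1 h3)
    rwa [mul_smul, TruncDeform.pow_smul_D e he ht, smul_zero, sub_eq_zero] at hb
  · ext ⟨α, β⟩
    constructor
    · rintro ⟨η, hη⟩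
      obtain ⟨rfl, rfl⟩ := Prod.mk.injEq .. ▸ hη
      exact hcomp η
    · intro hp
      obtain ⟨η₀, rfl⟩ := KaehlerDifferential.map_surjective k D B α
      obtain ⟨c, hc⟩ := TruncDeform.exists_smul_D_of_map_eq_zero e he
        (KaehlerDifferential.mapBaseChange k B Bn (β - 1 ⊗ₜ η₀)) (by
          rw [map_sub, map_sub, sub_eq_zero, ← hcomp]
          exact hp.symm)
      obtain ⟨b, rfl⟩ := Ideal.Quotient.mk_surjective c
      have hb : KaehlerDifferential.mapBaseChange k B Bn (1 ⊗ₜ (b • KaehlerDifferential.D k B t)) =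
          Ideal.Quotient.mk (Ideal.span {t ^ n}) b • KaehlerDifferential.D k Bn (algebraMap D Bn τ) := by
        rw [KaehlerDifferential.mapBaseChange_tmul, one_smul, map_smul, KaehlerDifferential.map_D,
          show algebraMap B Bn t = algebraMap D Bn τ from
            (congrArg (algebraMap B Bn) ht).trans (IsScalarTower.algebraMap_apply D B Bn τ).symm, ← algebraMap_smul (R := B) Bn b]
        rfl
      obtain ⟨g, hg⟩ := TruncDeform.exists_pow_mul_of_mapBaseChange_eq_zero (t ^ n)
        (β - 1 ⊗ₜ η₀ - 1 ⊗ₜ (b • KaehlerDifferential.D k B t)) (by rw [map_sub, hb]; exact sub_eq_zero.2 hc)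
      refine ⟨η₀ + b • KaehlerDifferential.D k B t + g • KaehlerDifferential.D k B (t ^ n), Prod.ext ?_ ?_⟩
      · show KaehlerDifferential.map k D B B _ = _
        rw [map_add, map_add, map_smul, map_smul, KaehlerDifferential.map_D, KaehlerDifferential.map_D,
          Algebra.algebraMap_self, RingHom.id_apply, RingHom.id_apply,
          show KaehlerDifferential.D D B t = 0 from (congrArg _ ht).trans (Derivation.map_algebraMap _ _),
          show KaehlerDifferential.D D B (t ^ n) = 0 from
            (congrArg _ ((congrArg (· ^ n) ht).trans (map_pow _ τ n).symm)).trans (Derivation.map_algebraMap _ _),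
          smul_zero, smul_zero, add_zero, add_zero]
      · show (1 : Bn) ⊗ₜ[B] _ = β
        have hz : ∀ ω : Ω[B⁄k], (1 : Bn) ⊗ₜ[B] ((t ^ n) • ω) = 0 := fun ω => by
          rw [← TensorProduct.smul_tmul, Algebra.smul_def, mul_one, Ideal.Quotient.algebraMap_eq, hqn,
            TensorProduct.zero_tmul]
        rw [TensorProduct.tmul_add, TensorProduct.tmul_add]
        have h : (1 : Bn) ⊗ₜ[B] (g • KaehlerDifferential.D k B (t ^ n)) = 1 ⊗ₜ KaehlerDifferential.D k B (t ^ n * g) := by
          rw [Derivation.leibniz, TensorProduct.tmul_add, hz, zero_add]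
        rw [h, ← hg]
        abel

end Groth.Agent.S18839
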