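import Groth.Statements.S18864
import Mathlib

set_option autoImplicit false
universe u v w
open HopfRep

namespace Groth.Agent.S18864

/-- Let k be a field and G = lim G_i a pro-algebraic group scheme over k, so that G = Spec A with A the
direct limit of the Hopf algebras A_i of the affine group schemes G_i of finite type; assume
moreover that the maps A_i → A are injective, so that A is the directed union of the A_i, here given
as injective bialgebra maps A_i → A with directed, jointly covering images. Then every homomorphism
from G to an affine group scheme H = Spec B of finite type over k factors through some projection G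
→ G_i: every bialgebra map f : B → A with B finitely generated as a k-algebra is the composite of
A_i → A with a bialgebra map B → A_i for some i. (The published statement allows arbitrary
transition maps in the system; this row assumes each A_i → A injective, the case the printed
argument treats. The source also states the pro-finite variant with H finite, which is the case of
finite-dimensional A_i and B; finite generation of the A_i is not used.) -/
theorem result (k : Type u) [Field k]
    (A : Type v) [CommRing A] [HopfAlgebra k A] {ι : Type v} (Aι : ι → Type v)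
    [∀ i, CommRing (Aι i)] [∀ i, HopfAlgebra k (Aι i)] (emb : ∀ i, Aι i →ₐc[k] A)
    (hinj : ∀ i, Function.Injective (emb i))
    (hdir : ∀ i j, ∃ l, Set.range (emb i) ⊆ Set.range (emb l) ∧ Set.range (emb j) ⊆ Set.range (emb l))
    (hcov : ∀ a : A, ∃ i, a ∈ Set.range (emb i))
    (B : Type w) [CommRing B] [HopfAlgebra k B] [Algebra.FiniteType k B] (f : B →ₐc[k] A) :
    ∃ (i : ι) (g : B →ₐc[k] Aι i), (emb i).comp g = f := by
  classical
  obtain ⟨s, hs⟩ := (Algebra.FiniteType.out : (⊤ : Subalgebra k B).FG)
  have hne : Nonempty ι := ⟨(hcov 0).choose⟩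
  have key : ∀ t : Finset B, ∃ l, ∀ b ∈ t, f b ∈ Set.range (emb l) := by
    intro t
    induction t using Finset.induction_on with
    | empty => exact ⟨Classical.arbitrary ι, by simp⟩
    | insert b t _ ih =>
      obtain ⟨i, hi⟩ := hcov (f b)
      obtain ⟨j, hj⟩ := ih
      obtain ⟨l, hl₁, hl₂⟩ := hdir i j
      refine ⟨l, fun c hc => ?_⟩
      rcases Finset.mem_insert.mp hc with rfl | hc
      · exact hl₁ hi
      · exact hl₂ (hj c hc)
  obtain ⟨l, hl⟩ := key s
  let e : Aι l →ₐ[k] A := (emb l : Aι l →ₐ[k] A)
  have he : Function.Injective e := hinj l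
  have hr : ∀ b, (f : B →ₐ[k] A) b ∈ e.range := by
    intro b
    have hb : b ∈ (⊤ : Subalgebra k B) := trivial
    rw [← hs] at hb
    have hle : Algebra.adjoin k (↑s : Set B) ≤ e.range.comap (f : B →ₐ[k] A) :=
      Algebra.adjoin_le (fun c hc => hl c hc)
    exact hle hb
  let g₀ : B →ₐ[k] Aι l :=
    (AlgEquiv.ofInjective e he).symm.toAlgHom.comp ((f : B →ₐ[k] A).codRestrict e.range hr)
  have heg : ∀ b, e (g₀ b) = f b := by
    intro b
    have h := (AlgEquiv.ofInjective e he).apply_symm_apply ⟨(f : B →ₐ[k] A) b, hr b⟩
    exact congrArg Subtype.val h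
  have hc : (Bialgebra.counitAlgHom k (Aι l)).comp g₀ = Bialgebra.counitAlgHom k B := by
    ext b
    show Coalgebra.counit (R := k) (g₀ b) = Coalgebra.counit (R := k) b
    rw [← CoalgHomClass.counit_comp_apply (emb l) (g₀ b), ← CoalgHomClass.counit_comp_apply f b]
    exact congrArg _ (heg b)
  have hm : (Algebra.TensorProduct.map g₀ g₀).comp (Bialgebra.comulAlgHom k B) =
      (Bialgebra.comulAlgHom k (Aι l)).comp g₀ := by
    apply AlgHom.ext
    intro b
    show TensorProduct.map g₀.toLinearMap g₀.toLinearMap (Coalgebra.comul (R := k) b) =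
      Coalgebra.comul (R := k) (g₀ b)
    apply TensorProduct.map_injective_of_flat_flat e.toLinearMap e.toLinearMap he he
    rw [TensorProduct.map_map]
    have h1 : e.toLinearMap ∘ₗ g₀.toLinearMap = ((f : B →ₗc[k] A) : B →ₗ[k] A) := LinearMap.ext heg
    have h2 : e.toLinearMap = ((emb l : Aι l →ₗc[k] A) : Aι l →ₗ[k] A) := rfl
    rw [h1, h2, CoalgHomClass.map_comp_comul_apply, CoalgHomClass.map_comp_comul_apply]
    exact congrArg (Coalgebra.comul (R := k)) (heg b).symm
  refine ⟨l, BialgHom.ofAlgHom g₀ hc hm, ?_⟩
  ext b
  exact heg b

end Groth.Agent.S18864
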