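-- statement Liaison.GrothFrozen.S18865 (Groth/Statements/S18865.lean; the theorem Liaison.colon_height_and_unmixed_of_not_le);
import Groth.Statements.S18865
import Groth.Agent.LiaisonHelp.Unmixed

set_option autoImplicit false
universe u
open Liaison

namespace Groth.Agent.S18865

/-- Let K be a field, R = K[x_0, …, x_n] graded by degree, c ≥ 2 an integer, 𝔠 ⊂ R a homogeneous ideal
of height c such that R/𝔠 is a Gorenstein ring, and I ⊂ R a homogeneous ideal with I ⊄ 𝔠. Then the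
ideal quotient 𝔠 : I is unmixed of codimension c: it has height c and every associated prime of R/(𝔠
: I) has height c. (A Gorenstein ideal of the notes, one whose quotient is Cohen–Macaulay with last
graded Betti number 1, is rendered as: the quotient ring is Gorenstein.) -/
theorem result (K : Type u) [Field K] (n c : ℕ) (hc : 2 ≤ c)
    (𝔠 I : Ideal (MvPolynomial (Fin (n + 1)) K))
    (h𝔠 : 𝔠.IsHomogeneous (GrSyz.stdGr K (Fin (n + 1)))) (hI : I.IsHomogeneous (GrSyz.stdGr K (Fin (n + 1))))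
    [LocCoh.IsGorensteinRing (MvPolynomial (Fin (n + 1)) K ⧸ 𝔠)] (h𝔠c : 𝔠.height = c) (hI𝔠 : ¬ I ≤ 𝔠) :
    (𝔠.colon (I : Set (MvPolynomial (Fin (n + 1)) K))).height = c ∧
      ∀ p ∈ associatedPrimes (MvPolynomial (Fin (n + 1)) K) (MvPolynomial (Fin (n + 1)) K ⧸ 𝔠.colon (I : Set (MvPolynomial (Fin (n + 1)) K))), p.height = c := by
  haveI := Groth.Agent.LiaisonHelp.isCohenMacaulayRing_of_gorenstein (MvPolynomial (Fin (n + 1)) K ⧸ 𝔠)
  set J := 𝔠.colon (I : Set (MvPolynomial (Fin (n + 1)) K)) with hJ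
  have hcJ : 𝔠 ≤ J := fun x hx => Submodule.mem_colon.2 fun y _ => by
    rw [smul_eq_mul]; exact 𝔠.mul_mem_right _ hx
  have key : ∀ p : Ideal (MvPolynomial (Fin (n + 1)) K), p ∈ associatedPrimes _ (MvPolynomial (Fin (n + 1)) K ⧸ J) →
      p.height = c := by
    intro p hp
    obtain ⟨hpp, y, hy⟩ := (isAssociatedPrime_iff.1 hp)
    obtain ⟨z, rfl⟩ := Ideal.Quotient.mk_surjective y
    have hz : z ∉ J := fun h => hpp.ne_top (by
      rw [hy, Ideal.Quotient.eq_zero_iff_mem.2 h]; exact (Ideal.eq_top_iff_one _).2 (by simp))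
    have hpz : ∀ r, r ∈ p ↔ r * z ∈ J := fun r => by
      rw [hy, Submodule.mem_colon_singleton, Submodule.mem_bot, ← Ideal.Quotient.mkₐ_eq_mk (MvPolynomial (Fin (n + 1)) K),
        ← map_smul, Ideal.Quotient.mkₐ_eq_mk, Ideal.Quotient.eq_zero_iff_mem, smul_eq_mul]
    have hlow : 𝔠.height ≤ p.height := Ideal.height_mono fun a ha => (hpz a).2 (J.mul_mem_right _ (hcJ ha))
    obtain ⟨i, hi, hzi⟩ : ∃ i ∈ I, z * i ∉ 𝔠 := by
      by_contra hcon
      push Not at hcon
      exact hz (Submodule.mem_colon.2 hcon)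
    obtain ⟨q, hq, hqle⟩ := Groth.Agent.LiaisonHelp.exists_minimal_ge_colon 𝔠 hzi
    have hpq : p ≤ q := fun r hr => hqle (Submodule.mem_colon_singleton.2 (by
      rw [smul_eq_mul, ← mul_assoc]
      exact Submodule.mem_colon.1 ((hpz r).1 hr) i hi))
    rw [h𝔠c] at hlow
    refine le_antisymm ?_ hlow
    rw [← h𝔠c, ← Groth.Agent.LiaisonHelp.height_minimalPrime 𝔠 h𝔠 hq]
    exact Ideal.height_mono hpq
  refine ⟨?_, key⟩
  have hJtop : J ≠ ⊤ := fun h => hI𝔠 fun i hi => by
    simpa using Submodule.mem_colon.1 (show (1 : MvPolynomial (Fin (n + 1)) K) ∈ J from h ▸ Submodule.mem_top) i hi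
  obtain ⟨M, hM, hJM⟩ := Ideal.exists_le_maximal J hJtop
  haveI := hM.isPrime
  obtain ⟨p, hp, -⟩ := Ideal.exists_minimalPrimes_le (I := J) (J := M) hJM
  refine le_antisymm ?_ (h𝔠c ▸ Ideal.height_mono hcJ)
  rw [← key p (Groth.Agent.LiaisonHelp.mem_assPrimes_of_minimal hp)]
  exact Ideal.height_mono hp.1.2

end Groth.Agent.S18865
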