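-- statement Liaison.GrothFrozen.S18866 (Groth/Statements/S18866.lean; the theorem Liaison.inf_eq_of_linked_of_disjoint_associatedPrimes);
import Groth.Statements.S18866
import Groth.Agent.LiaisonHelp.Basic

set_option autoImplicit false
universe u
open Liaison

namespace Groth.Agent.S18866

/-- Let K be a field, R = K[x_0, …, x_n] graded by degree, c ≥ 2, 𝔠 ⊂ R a homogeneous ideal of height c
such that R/𝔠 is a Gorenstein ring, and I, J ⊂ R homogeneous ideals that are directly linked by 𝔠,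
that is 𝔠 : I = J and 𝔠 : J = I. If R/I and R/J have no associated prime in common, then I ∩ J = 𝔠,
so I and J are geometrically linked by 𝔠. -/
theorem result (K : Type u) [Field K] (n c : ℕ) (hc : 2 ≤ c)
    (𝔠 I J : Ideal (MvPolynomial (Fin (n + 1)) K))
    (h𝔠 : 𝔠.IsHomogeneous (GrSyz.stdGr K (Fin (n + 1)))) (hI : I.IsHomogeneous (GrSyz.stdGr K (Fin (n + 1)))) (hJ : J.IsHomogeneous (GrSyz.stdGr K (Fin (n + 1))))
    [LocCoh.IsGorensteinRing (MvPolynomial (Fin (n + 1)) K ⧸ 𝔠)] (h𝔠c : 𝔠.height = c)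
    (hIJ : 𝔠.colon (I : Set (MvPolynomial (Fin (n + 1)) K)) = J) (hJI : 𝔠.colon (J : Set (MvPolynomial (Fin (n + 1)) K)) = I)
    (hdisj : Disjoint (associatedPrimes (MvPolynomial (Fin (n + 1)) K) (MvPolynomial (Fin (n + 1)) K ⧸ I)) (associatedPrimes (MvPolynomial (Fin (n + 1)) K) (MvPolynomial (Fin (n + 1)) K ⧸ J))) :
    I ⊓ J = 𝔠 := by
  haveI := Groth.Agent.LiaisonHelp.isCohenMacaulayRing_of_gorenstein (MvPolynomial (Fin (n + 1)) K ⧸ 𝔠)
  have hcI : 𝔠 ≤ I := hJI ▸ fun x hx => Submodule.mem_colon.2 fun y _ => by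
    rw [smul_eq_mul]; exact 𝔠.mul_mem_right _ hx
  have hcJ : 𝔠 ≤ J := hIJ ▸ fun x hx => Submodule.mem_colon.2 fun y _ => by
    rw [smul_eq_mul]; exact 𝔠.mul_mem_right _ hx
  refine le_antisymm (fun x ⟨hxI, hxJ⟩ => ?_) (le_inf hcI hcJ)
  by_contra hx
  obtain ⟨p, hp, hle⟩ := Groth.Agent.LiaisonHelp.exists_minimal_ge_colon 𝔠 hx
  have hIp : I ≤ p := fun i hi => hle (Submodule.mem_colon_singleton.2 (by
    rw [smul_eq_mul, mul_comm]; exact Submodule.mem_colon.1 (hIJ.symm ▸ hxJ) i hi))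
  have hJp : J ≤ p := fun i hi => hle (Submodule.mem_colon_singleton.2 (by
    rw [smul_eq_mul, mul_comm]; exact Submodule.mem_colon.1 (hJI.symm ▸ hxI) i hi))
  have hmin : ∀ {L : Ideal (MvPolynomial (Fin (n + 1)) K)}, 𝔠 ≤ L → L ≤ p → p ∈ L.minimalPrimes :=
    fun hcL hLp => ⟨⟨hp.1.1, hLp⟩, fun q hq hqp => hp.2 ⟨hq.1, hcL.trans hq.2⟩ hqp⟩
  exact Set.disjoint_left.1 hdisj (Groth.Agent.LiaisonHelp.mem_assPrimes_of_minimal (hmin hcI hIp))
    (Groth.Agent.LiaisonHelp.mem_assPrimes_of_minimal (hmin hcJ hJp))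

end Groth.Agent.S18866
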