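-- statement Liaison.GrothFrozen.S18867 (Groth/Statements/S18867.lean; the theorem Liaison.colon_colon_eq_self_of_unmixed);
import Groth.Statements.S18867
import Groth.Agent.LiaisonHelp.Basic

set_option autoImplicit false
universe u
open Liaison

namespace Groth.Agent.S18867

/-- Let K be a field, R = K[x_0, …, x_n] graded by degree, c ≥ 2, 𝔠 ⊂ R a homogeneous ideal of height c
such that R/𝔠 is a Gorenstein ring, and I ⊂ R a homogeneous ideal of height c which is unmixed
(every associated prime of R/I has height c) and properly contains 𝔠. Then 𝔠 : (𝔠 : I) = I, so that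
I and 𝔠 : I are directly linked by 𝔠. -/
theorem result (K : Type u) [Field K] (n c : ℕ) (hc : 2 ≤ c)
    (𝔠 I : Ideal (MvPolynomial (Fin (n + 1)) K))
    (h𝔠 : 𝔠.IsHomogeneous (GrSyz.stdGr K (Fin (n + 1)))) (hI : I.IsHomogeneous (GrSyz.stdGr K (Fin (n + 1))))
    [LocCoh.IsGorensteinRing (MvPolynomial (Fin (n + 1)) K ⧸ 𝔠)] (h𝔠c : 𝔠.height = c) (hIc : I.height = c)
    (hIu : ∀ p ∈ associatedPrimes (MvPolynomial (Fin (n + 1)) K) (MvPolynomial (Fin (n + 1)) K ⧸ I), p.height = c) (hlt : 𝔠 < I) :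
    𝔠.colon ((𝔠.colon (I : Set (MvPolynomial (Fin (n + 1)) K)) : Ideal (MvPolynomial (Fin (n + 1)) K)) : Set (MvPolynomial (Fin (n + 1)) K)) = I := by
  refine le_antisymm (fun x hx => ?_) (fun i hi => Submodule.mem_colon.2 fun a ha => by
    rw [smul_eq_mul, mul_comm]; exact Submodule.mem_colon.1 ha i hi)
  by_contra hxI
  obtain ⟨p, hp, hle⟩ := exists_le_isAssociatedPrime_of_isNoetherianRing (MvPolynomial (Fin (n + 1)) K)
    (Ideal.Quotient.mk I x) (fun h => hxI (Ideal.Quotient.eq_zero_iff_mem.1 h))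
  haveI : p.IsPrime := IsAssociatedPrime.isPrime hp
  have hIp : I ≤ p := fun i hi => hle (Submodule.mem_colon_singleton.2 ((Submodule.mem_bot _).2 (by
    rw [← Ideal.Quotient.mkₐ_eq_mk (MvPolynomial (Fin (n + 1)) K), ← map_smul, Ideal.Quotient.mkₐ_eq_mk,
      Ideal.Quotient.eq_zero_iff_mem, smul_eq_mul]
    exact I.mul_mem_right _ hi)))
  obtain ⟨v, hv, hvx⟩ := Groth.Agent.LiaisonHelp.exists_mul_mem_of_double_colon 𝔠 hlt.le
    (Groth.Agent.LiaisonHelp.minimal_of_height 𝔠 h𝔠c (hlt.le.trans hIp) (hIu p hp)) hx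
  refine hv (hle (Submodule.mem_colon_singleton.2 ((Submodule.mem_bot _).2 ?_)))
  rw [← Ideal.Quotient.mkₐ_eq_mk (MvPolynomial (Fin (n + 1)) K), ← map_smul, Ideal.Quotient.mkₐ_eq_mk,
    Ideal.Quotient.eq_zero_iff_mem, smul_eq_mul]
  exact hvx

end Groth.Agent.S18867
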