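-- statement Liaison.GrothFrozen.S18870 (Groth/Statements/S18870.lean; the theorem Liaison.height_basicDoubleLink);
import Groth.Statements.S18870
import Groth.Agent.LiaisonHelp.Unmixed

set_option autoImplicit false
universe u
open Liaison

namespace Groth.Agent.S18870

/-- Let K be a field, R = K[x_0, …, x_n] graded by degree, and J ⊆ I ⊂ R homogeneous ideals with J ≠ 0,
height I = height J + 1 = h + 1 and R/J Cohen–Macaulay; let f ∈ R be homogeneous of degree d with J
: f = J, and put Ĩ = J + fI (the basic double link). Then Ĩ has the same height h + 1 as I. -/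
theorem result (K : Type u) [Field K] (n h : ℕ)
    (J I : Ideal (MvPolynomial (Fin (n + 1)) K))
    (hJ : J.IsHomogeneous (GrSyz.stdGr K (Fin (n + 1)))) (hI : I.IsHomogeneous (GrSyz.stdGr K (Fin (n + 1))))
    (hJ0 : J ≠ ⊥) (hJI : J ≤ I) (hJh : J.height = h) (hIh : I.height = h + 1)
    [LocCoh.IsCohenMacaulayRing (MvPolynomial (Fin (n + 1)) K ⧸ J)]
    (f : MvPolynomial (Fin (n + 1)) K) (d : ℕ) (hf : f ∈ GrSyz.stdGr K (Fin (n + 1)) (d : ℤ)) (hJf : J.colon {f} = J) :
    (J ⊔ Ideal.span {f} * I).height = h + 1 := by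
  have hT : J ⊔ Ideal.span {f} * I ≤ I := sup_le hJI Ideal.mul_le_right
  refine le_antisymm (hIh ▸ Ideal.height_mono hT) ?_
  rw [Ideal.height_eq_inf_minimalPrimes]
  refine le_iInf₂ fun p hp => ?_
  haveI := hp.1.1
  rcases (Ideal.IsPrime.mul_le hp.1.1).1 (le_sup_right.trans hp.1.2) with h' | h'
  · exact Groth.Agent.LiaisonHelp.succ_le_height hJ hJh hJf (le_sup_left.trans hp.1.2)
      (h' (Ideal.mem_span_singleton_self f))
  · exact hIh ▸ Ideal.height_mono h'

end Groth.Agent.S18870
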