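-- statement Liaison.GrothFrozen.S18871 (Groth/Statements/S18871.lean; the theorem Liaison.unmixed_iff_unmixed_basicDoubleLink);
import Groth.Statements.S18871
import Groth.Agent.LiaisonHelp.Unmixed

set_option autoImplicit false
universe u
open Liaison

namespace Groth.Agent.S18871

set_option maxHeartbeats 1000000 in
/-- Let K be a field, R = K[x_0, …, x_n] graded by degree, and J ⊆ I ⊂ R homogeneous ideals with J ≠ 0,
height I = height J + 1 = h + 1 and R/J Cohen–Macaulay; let f ∈ R be homogeneous of degree d with J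
: f = J, and put Ĩ = J + fI (the basic double link). Then I is unmixed, meaning that every
associated prime of R/I has height h + 1, if and only if Ĩ is unmixed in the same sense. -/
theorem result (K : Type u) [Field K] (n h : ℕ)
    (J I : Ideal (MvPolynomial (Fin (n + 1)) K))
    (hJ : J.IsHomogeneous (GrSyz.stdGr K (Fin (n + 1)))) (hI : I.IsHomogeneous (GrSyz.stdGr K (Fin (n + 1))))
    (hJ0 : J ≠ ⊥) (hJI : J ≤ I) (hJh : J.height = h) (hIh : I.height = h + 1)
    [LocCoh.IsCohenMacaulayRing (MvPolynomial (Fin (n + 1)) K ⧸ J)]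
    (f : MvPolynomial (Fin (n + 1)) K) (d : ℕ) (hf : f ∈ GrSyz.stdGr K (Fin (n + 1)) (d : ℤ)) (hJf : J.colon {f} = J) :
    (∀ p ∈ associatedPrimes (MvPolynomial (Fin (n + 1)) K) (MvPolynomial (Fin (n + 1)) K ⧸ I), p.height = h + 1) ↔
      ∀ p ∈ associatedPrimes (MvPolynomial (Fin (n + 1)) K) (MvPolynomial (Fin (n + 1)) K ⧸ (J ⊔ Ideal.span {f} * I)), p.height = h + 1 := by
  let R := MvPolynomial (Fin (n + 1)) K
  set T := J ⊔ Ideal.span {f} * I with hT
  have hmul : ∀ x : R, f * x ∈ T ↔ x ∈ I := fun x => ⟨fun hx => by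
    obtain ⟨j, hj, w, hw, he⟩ := Submodule.mem_sup.1 hx
    obtain ⟨i, hi, rfl⟩ := Ideal.mem_span_singleton_mul.1 hw
    have h1 : x - i ∈ J.colon {f} := Submodule.mem_colon_singleton.2 (by
      rw [smul_eq_mul, sub_mul, mul_comm x, mul_comm i, ← he, add_sub_cancel_right]; exact hj)
    rw [hJf] at h1
    simpa using I.add_mem (hJI h1) hi, fun hx => Ideal.mem_sup_right (Ideal.mul_mem_mul (Ideal.mem_span_singleton_self f) hx)⟩
  let φ : (R ⧸ I) →ₗ[R] R ⧸ T := Submodule.mapQ I T (LinearMap.mulLeft R f) fun x hx => (hmul x).2 hx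
  have hφ : Function.Injective φ := by
    rw [← LinearMap.ker_eq_bot, Submodule.eq_bot_iff]
    intro y hy
    obtain ⟨x, rfl⟩ := Submodule.Quotient.mk_surjective _ y
    exact (Submodule.Quotient.mk_eq_zero _).2 ((hmul x).1 ((Submodule.Quotient.mk_eq_zero _).1 hy))
  let ψ : (R ⧸ T) →ₗ[R] R ⧸ (J ⊔ Ideal.span {f}) := Submodule.mapQ T _ LinearMap.id
    (sup_le le_sup_left (Ideal.mul_le_left.trans le_sup_right))
  have hex : Function.Exact φ ψ := by
    intro y
    obtain ⟨x, rfl⟩ := Submodule.Quotient.mk_surjective _ y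
    constructor
    · intro hx
      obtain ⟨j, hj, w, hw, he⟩ := Submodule.mem_sup.1 ((Submodule.Quotient.mk_eq_zero _).1 hx)
      obtain ⟨a, rfl⟩ := Ideal.mem_span_singleton'.1 hw
      refine ⟨Submodule.Quotient.mk a, (Submodule.Quotient.eq _).2 ?_⟩
      have he' : j + a * f = x := by simpa using he
      show f * a - x ∈ T
      rw [← he']
      convert T.neg_mem (Ideal.mem_sup_left hj : j ∈ T) using 1
      ring
    · rintro ⟨z, hz⟩
      obtain ⟨a, rfl⟩ := Submodule.Quotient.mk_surjective _ z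
      rw [← hz]
      exact (Submodule.Quotient.mk_eq_zero _).2 (Ideal.mem_sup_right (Ideal.mem_span_singleton'.2 ⟨a, mul_comm a f⟩))
  constructor
  · intro hu p hp
    rcases associatedPrimes.subset_union_of_exact hφ hex hp with h' | h'
    · exact hu p h'
    · exact_mod_cast Groth.Agent.LiaisonHelp.height_eq_of_assPrime_sup hJ hJh hf hJf h'
  · intro hu p hp
    exact hu p (associatedPrimes.subset_of_injective hφ hp)

end Groth.Agent.S18871
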