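-- statement Liaison.GrothFrozen.S18872 (Groth/Statements/S18872.lean; the theorem Liaison.nonempty_localCohomology_linearEquiv_basicDoubleLink);
import Groth.Statements.S18872
import Groth.Agent.LiaisonHelp.Unmixed
import Groth.Agent.LocCohBasic.Depth
import Groth.Agent.Depth.Change

set_option autoImplicit false
universe u
open Liaison

namespace Groth.Agent.S18872

set_option maxHeartbeats 1000000 in
/-- Let K be a field, R = K[x_0, …, x_n] graded by degree, and J ⊆ I ⊂ R homogeneous ideals with J ≠ 0,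
height I = height J + 1 = h + 1 and R/J Cohen–Macaulay; let f ∈ R be homogeneous of degree d with J
: f = J, and put Ĩ = J + fI (the basic double link). Then for every i < n − h = dim R/I the local
cohomology modules of R/Ĩ and of R/I with support in the irrelevant ideal 𝔪 = (x_0, …, x_n) are
isomorphic in degree i. (The graded statement is H^i_𝔪(R/Ĩ) ≅ H^i_𝔪(R/I)(−d); here only the
existence of an R-linear isomorphism of the underlying modules is asserted, the grading and the
shift by d being dropped.) -/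
theorem result (K : Type u) [Field K] (n h : ℕ)
    (J I : Ideal (MvPolynomial (Fin (n + 1)) K))
    (hJ : J.IsHomogeneous (GrSyz.stdGr K (Fin (n + 1)))) (hI : I.IsHomogeneous (GrSyz.stdGr K (Fin (n + 1))))
    (hJ0 : J ≠ ⊥) (hJI : J ≤ I) (hJh : J.height = h) (hIh : I.height = h + 1)
    [LocCoh.IsCohenMacaulayRing (MvPolynomial (Fin (n + 1)) K ⧸ J)]
    (f : MvPolynomial (Fin (n + 1)) K) (d : ℕ) (hf : f ∈ GrSyz.stdGr K (Fin (n + 1)) (d : ℤ)) (hJf : J.colon {f} = J) (i : ℕ) (hi : i + h < n) :
    Nonempty (LocCoh.H (GrSyz.irrel (GrSyz.stdGr K (Fin (n + 1)))).toIdeal i (MvPolynomial (Fin (n + 1)) K ⧸ (J ⊔ Ideal.span {f} * I)) ≃ₗ[MvPolynomial (Fin (n + 1)) K]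
      LocCoh.H (GrSyz.irrel (GrSyz.stdGr K (Fin (n + 1)))).toIdeal i (MvPolynomial (Fin (n + 1)) K ⧸ I)) := by
  let R := MvPolynomial (Fin (n + 1)) K
  let m : Ideal R := Groth.Agent.GrSyzLib.mm
  set T := J ⊔ Ideal.span {f} * I with hT
  set Kf := J ⊔ Ideal.span {f} with hKf
  have hmul : ∀ x : R, f * x ∈ T ↔ x ∈ I := fun x => ⟨fun hx => by
    obtain ⟨j, hj, w, hw, he⟩ := Submodule.mem_sup.1 hx
    obtain ⟨a, ha, rfl⟩ := Ideal.mem_span_singleton_mul.1 hw
    have h1 : x - a ∈ J.colon {f} := Submodule.mem_colon_singleton.2 (by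
      rw [smul_eq_mul, sub_mul, mul_comm x, mul_comm a, ← he, add_sub_cancel_right]; exact hj)
    rw [hJf] at h1
    simpa using I.add_mem (hJI h1) ha, fun hx => Ideal.mem_sup_right (Ideal.mul_mem_mul (Ideal.mem_span_singleton_self f) hx)⟩
  let φ : (R ⧸ I) →ₗ[R] R ⧸ T := Submodule.mapQ I T (LinearMap.mulLeft R f) fun x hx => (hmul x).2 hx
  let ψ : (R ⧸ T) →ₗ[R] R ⧸ Kf := Submodule.mapQ T _ LinearMap.id
    (sup_le le_sup_left (Ideal.mul_le_left.trans le_sup_right))
  have hex : Function.Exact φ ψ := by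
    intro y
    obtain ⟨x, rfl⟩ := Submodule.Quotient.mk_surjective _ y
    constructor
    · intro hx
      obtain ⟨j, hj, w, hw, he⟩ := Submodule.mem_sup.1 ((Submodule.Quotient.mk_eq_zero _).1 hx)
      obtain ⟨a, rfl⟩ := Ideal.mem_span_singleton'.1 hw
      refine ⟨Submodule.Quotient.mk a, (Submodule.Quotient.eq _).2 ?_⟩
      have he' : j + a * f = x := by simpa using he
      show f * a - x ∈ T
      rw [← he']
      convert T.neg_mem (Ideal.mem_sup_left hj : j ∈ T) using 1
      ring
    · rintro ⟨z, hz⟩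
      obtain ⟨a, rfl⟩ := Submodule.Quotient.mk_surjective _ z
      rw [← hz]
      exact (Submodule.Quotient.mk_eq_zero _).2 (Ideal.mem_sup_right (Ideal.mem_span_singleton'.2 ⟨a, mul_comm a f⟩))
  let S : CategoryTheory.ShortComplex (ModuleCat.{u} R) := CategoryTheory.ShortComplex.mk (ModuleCat.ofHom φ) (ModuleCat.ofHom ψ)
    (by
      apply ModuleCat.hom_ext
      exact LinearMap.ext fun x => (hex _).2 ⟨_, rfl⟩)
  have hS : S.ShortExact := by
    have hm : CategoryTheory.Mono S.f := (ModuleCat.mono_iff_injective _).2 <| by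
      refine (injective_iff_map_eq_zero φ).2 fun y hy => ?_
      obtain ⟨x, rfl⟩ := Submodule.Quotient.mk_surjective _ y
      exact (Submodule.Quotient.mk_eq_zero _).2 ((hmul x).1 ((Submodule.Quotient.mk_eq_zero _).1 hy))
    have he : CategoryTheory.Epi S.g := (ModuleCat.epi_iff_surjective _).2 <| by
      intro y
      obtain ⟨x, rfl⟩ := Submodule.Quotient.mk_surjective _ y
      exact ⟨Submodule.Quotient.mk x, rfl⟩
    exact { exact := (CategoryTheory.ShortComplex.ShortExact.moduleCat_exact_iff_function_exact _).2 hex }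
  have hdepth : ((n - h : ℕ) : ℕ∞) ≤ LocCoh.idealDepth m (R ⧸ Kf) := by
    rcases subsingleton_or_nontrivial (R ⧸ Kf) with hs | hnt
    · rw [Groth.Agent.Depth.idealDepth_of_subsingleton]; exact le_top
    let q := Ideal.Quotient.mk J
    haveI : LocCoh.IsCohenMacaulayRing (R ⧸ Kf) := by
      have hreg : IsSMulRegular (R ⧸ J) (q f) := by
        intro a b hab
        obtain ⟨a, rfl⟩ := Ideal.Quotient.mk_surjective a
        obtain ⟨b, rfl⟩ := Ideal.Quotient.mk_surjective b
        have hab' : q f * q a = q f * q b := hab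
        rw [← map_mul, ← map_mul, Ideal.Quotient.eq, ← mul_sub, mul_comm] at hab'
        rw [Ideal.Quotient.eq, ← hJf]
        exact Submodule.mem_colon_singleton.2 hab'
      haveI := GrassLib.isCohenMacaulayRing_quotient_span (q f) hreg
      haveI : LocCoh.IsCohenMacaulayRing ((R ⧸ J) ⧸ (Ideal.span {f}).map q) := by
        rw [Ideal.map_span, Set.image_singleton]; infer_instance
      exact GrassLib.isCohenMacaulayRing_of_ringEquiv (A := (R ⧸ J) ⧸ (Ideal.span {f}).map q)
        (DoubleQuot.quotQuotEquivQuotSup J (Ideal.span {f}))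
    have hne : Kf ≠ ⊤ := Ideal.Quotient.nontrivial_iff.1 hnt
    have hK : Kf.IsHomogeneous (GrSyz.stdGr K (Fin (n + 1))) :=
      hJ.sup (Ideal.homogeneous_span _ _ fun x hx => ⟨(d : ℤ), by rw [Set.mem_singleton_iff.1 hx]; exact hf⟩)
    obtain ⟨M, hM, hKM⟩ := Ideal.exists_le_maximal Kf hne
    haveI := hM.isPrime
    obtain ⟨p, hp, -⟩ := Ideal.exists_minimalPrimes_le (I := Kf) (J := M) hKM
    haveI := hp.1.1
    have hht := Groth.Agent.LiaisonHelp.height_eq_of_assPrime_sup hJ hJh hf hJf
      (Groth.Agent.LiaisonHelp.mem_assPrimes_of_minimal hp)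
    have hpm : p ≤ m := Groth.Agent.LiaisonHelp.minimalPrime_le_mm Kf hK hp
    haveI := Groth.Agent.LiaisonHelp.mm_isMaximal (K := K) (n := n)
    let qK := Ideal.Quotient.mk Kf
    haveI : (m.map qK).IsMaximal := Ideal.IsMaximal.map_of_surjective_of_ker_le Ideal.Quotient.mk_surjective
      (by rw [Ideal.mk_ker]; exact hp.1.2.trans hpm)
    have hp' := hp
    rw [Ideal.minimalPrimes_eq_comap] at hp'
    obtain ⟨P, hP, hPp⟩ := hp'
    haveI := hP.1.1
    have hPM : P ≤ m.map qK := by
      rw [← Ideal.map_comap_of_surjective qK Ideal.Quotient.mk_surjective P, show P.comap qK = p from hPp]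
      exact Ideal.map_mono hpm
    have hd1 := Groth.Agent.LiaisonHelp.dim_quotient_eq_height (K := K) (m.map qK) hP hPM
    have hd2 : ringKrullDim (R ⧸ P.comap qK) = ringKrullDim ((R ⧸ Kf) ⧸ P) :=
      ringKrullDim_eq_of_ringEquiv (RingEquiv.ofBijective (Ideal.quotientMap P qK (le_refl (P.comap qK)))
        ⟨Ideal.quotientMap_injective, Ideal.quotientMap_surjective Ideal.Quotient.mk_surjective⟩)
    rw [show P.comap qK = p from hPp, hd1] at hd2
    have e1 := Groth.Agent.DimTheory.height_add_ringKrullDim_quotient' K (A := R) p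
    rw [hd2, hht, Groth.Agent.DimTheory.ringKrullDim_mvPolynomial_fin] at e1
    obtain ⟨w, hw⟩ := ENat.ne_top_iff_exists.1 (Ideal.height_ne_top_of_isPrime (I := m.map qK))
    rw [← hw] at e1
    have e1' : w + (h + 1) = n + 1 := by exact_mod_cast e1
    rw [← Groth.Agent.Depth.idealDepth_map_eq (S := R ⧸ Kf), Ideal.Quotient.algebraMap_eq,
      Groth.Agent.Depth.idealDepth_eq_height (m.map qK), ← hw]
    exact_mod_cast (show n - h ≤ w by omega)
  have hvan : ∀ j : ℕ, j + h < n → Subsingleton ((localCohomology m j).obj S.X₃) := fun j hj =>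
    Groth.Agent.LocCohBasic.subsingleton_of_lt_idealDepth m S.X₃
      (lt_of_lt_of_le (by exact_mod_cast (show j < n - h by omega)) hdepth)
  have hbij : Function.Bijective ((localCohomology m i).map S.f) := by
    refine ⟨?_, fun y => Groth.Agent.LocCohBasic.exists_of_map_g_eq_zero m (n := i) hS y
      (@Subsingleton.elim _ (hvan i hi) _ _)⟩
    cases i with
    | zero => exact Groth.Agent.LocCohBasic.map_f_injective m hS
    | succ j =>
      refine (injective_iff_map_eq_zero _).2 fun x hx => ?_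
      obtain ⟨z, rfl⟩ := Groth.Agent.LocCohBasic.exists_of_map_f_eq_zero m (n := j) hS x hx
      rw [@Subsingleton.elim _ (hvan j (by omega)) z 0, map_zero]
  exact ⟨(LinearEquiv.ofBijective ((localCohomology m i).map S.f).hom hbij).symm⟩

end Groth.Agent.S18872
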