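import Groth.Statements.S18876
import Groth.Agent.GerbCoarse.Basic

set_option autoImplicit false
universe u
open Gerb

namespace Groth.Agent.S18876

open CategoryTheory AlgebraicGeometry in
/-- Let S be a scheme and F : 𝒳 → 𝒴 a morphism of algebraic stacks over S which makes 𝒳 an fppf gerbe
over 𝒴 and through which every morphism from 𝒳 to an algebraic space factors, uniquely up to
2-isomorphism. Then 𝒴 admits a coarse moduli space exactly when 𝒳 does, and the two coarse moduli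
spaces coincide: for every coarse moduli map π : 𝒴 → M the composite 𝒳 → 𝒴 → M is a coarse moduli
map of 𝒳. (The published statement is about the rigidification F of 𝒳 along a flat finitely
presented subgroup stack of its inertia; only two of its properties are assumed here, that F is a
gerbe and that maps to algebraic spaces factor through F, which is what the published argument uses;
neither stack is assumed quasi-separated or locally of finite presentation over S, and their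
diagonals are not assumed quasi-compact or separated.) -/
theorem result (S : Scheme.{u}) (𝒳 𝒴 : AlgSt.Cat S)
    (h𝒳 : AlgSt.IsAlgStack Scheme.fppfPrecoverage 𝒳) (h𝒴 : AlgSt.IsAlgStack Scheme.fppfPrecoverage 𝒴)
    (F : 𝒳 ⥤ᵇ 𝒴) (hF : Gerb.IsGerbeOver (QuotSh.J Scheme.fppfPrecoverage S) F)
    (huniv : ∀ (N : AlgSp.Sp S), AlgSp.IsAlgSpace N → ∀ φ : 𝒳 ⥤ᵇ AlgSt.ofSp N,
      ∃ ψ : 𝒴 ⥤ᵇ AlgSt.ofSp N, Nonempty (BasedFunctor.comp F ψ ≅ φ) ∧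
        ∀ ψ' : 𝒴 ⥤ᵇ AlgSt.ofSp N, Nonempty (BasedFunctor.comp F ψ' ≅ φ) → Nonempty (ψ' ≅ ψ)) :
    ((∃ (M : AlgSp.Sp S) (π : 𝒴 ⥤ᵇ AlgSt.ofSp M), AlgSt.IsCoarseModuli π) ↔
        ∃ (M : AlgSp.Sp S) (π : 𝒳 ⥤ᵇ AlgSt.ofSp M), AlgSt.IsCoarseModuli π) ∧
      ∀ (M : AlgSp.Sp S) (π : 𝒴 ⥤ᵇ AlgSt.ofSp M), AlgSt.IsCoarseModuli π →
        AlgSt.IsCoarseModuli (BasedFunctor.comp F π) := by
  have hX := h𝒳.isStack.1
  have hY := h𝒴.isStack.1
  have key : ∀ (M : AlgSp.Sp S) (π : 𝒴 ⥤ᵇ AlgSt.ofSp M), AlgSt.IsCoarseModuli π →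
      AlgSt.IsCoarseModuli (BasedFunctor.comp F π) := by
    rintro M π ⟨⟨hM, hu⟩, hb⟩
    refine ⟨⟨hM, fun N hN φ => ?_⟩, Groth.Agent.GerbCoarse.geomPtBij_comp hX hY hF π hb⟩
    obtain ⟨ψ, ⟨i⟩, hψ⟩ := huniv N hN φ
    obtain ⟨g, ⟨j⟩, hg⟩ := hu N hN ψ
    refine ⟨g, ⟨Groth.Agent.Fib.isoWhiskerLeft F j ≪≫ i⟩, fun g' hg' => hg g' ?_⟩
    obtain ⟨k⟩ := hg'
    exact hψ (BasedFunctor.comp π (AlgSt.ofSpMap g')) ⟨k⟩
  refine ⟨⟨fun ⟨M, π, h⟩ => ⟨M, _, key M π h⟩, ?_⟩, key⟩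
  rintro ⟨M, π₀, ⟨hM, hu⟩, hb⟩
  obtain ⟨π, ⟨e⟩, -⟩ := huniv M hM π₀
  refine ⟨M, π, ⟨hM, fun N hN φ => ?_⟩, Groth.Agent.GerbCoarse.geomPtBij_of_comp hX hY hF π ?_⟩
  · obtain ⟨g, ⟨j⟩, hg⟩ := hu N hN (BasedFunctor.comp F φ)
    obtain ⟨ψ, -, hψ⟩ := huniv N hN (BasedFunctor.comp F φ)
    refine ⟨g, ?_, fun g' hg' => hg g' ?_⟩
    · obtain ⟨a⟩ := hψ (BasedFunctor.comp π (AlgSt.ofSpMap g))
        ⟨Groth.Agent.Fib.isoWhiskerRight e (AlgSt.ofSpMap g) ≪≫ j⟩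
      obtain ⟨b⟩ := hψ φ ⟨Iso.refl _⟩
      exact ⟨a ≪≫ b.symm⟩
    · obtain ⟨k⟩ := hg'
      exact ⟨(Groth.Agent.Fib.isoWhiskerRight e (AlgSt.ofSpMap g')).symm ≪≫
        Groth.Agent.Fib.isoWhiskerLeft F k⟩
  · intro Ω _ _ t
    refine ⟨fun m => ?_, fun x x' h => ?_⟩
    · obtain ⟨x, hx⟩ := (hb Ω t).1 m
      exact ⟨x, (Groth.Agent.GerbCoarse.fibSec_congr e x).trans hx⟩
    · rw [Groth.Agent.GerbCoarse.fibSec_congr e x, Groth.Agent.GerbCoarse.fibSec_congr e x'] at h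
      exact (hb Ω t).2 x x' h

end Groth.Agent.S18876
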