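import Groth.Statements.S18884
-- import your own Groth.Agent.* helpers here

set_option autoImplicit false
set_option backward.isDefEq.respectTransparency false
set_option backward.isDefEq.respectTransparency.types false
universe v u w
open CategoryTheory CategoryTheory.Limits
open Desc

namespace Groth.Agent.S18884

/-- Let C be a category with pullbacks equipped with a class W of morphisms, the covers, stable under
base change and under composition. An abelian cosheaf is a functor F : C ⥤ Ab such that for every
cover π : Y ⟶ X the map F(π) is surjective and its kernel is the image of F(p₁) − F(p₂), where p₁,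
p₂ : Y ×_X Y ⟶ Y are the two projections. If D is a full subcategory of C such that every object of
C is the target of a cover whose source lies in D, then the restriction functor from the full
subcategory of abelian cosheaves in C ⥤ Ab to D ⥤ Ab is full and faithful. -/
theorem result {C : Type u} [Category.{v} C]
    [HasPullbacks C] (W : MorphismProperty C) [W.IsStableUnderBaseChange] [W.IsStableUnderComposition]
    (D : ObjectProperty C) (hD : ∀ X : C, ∃ (Y : C) (π : Y ⟶ X), W π ∧ D Y) :
    (ObjectProperty.ι (fun F : C ⥤ AddCommGrpCat.{w} =>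
        ∀ ⦃Y X : C⦄ (π : Y ⟶ X), W π → Function.Surjective (F.map π).hom ∧
          (F.map π).hom.ker = ((F.map (pullback.fst π π)).hom - (F.map (pullback.snd π π)).hom).range) ⋙
      (Functor.whiskeringLeft D.FullSubcategory C AddCommGrpCat.{w}).obj D.ι).Full ∧
    (ObjectProperty.ι (fun F : C ⥤ AddCommGrpCat.{w} =>
        ∀ ⦃Y X : C⦄ (π : Y ⟶ X), W π → Function.Surjective (F.map π).hom ∧
          (F.map π).hom.ker = ((F.map (pullback.fst π π)).hom - (F.map (pullback.snd π π)).hom).range) ⋙
      (Functor.whiskeringLeft D.FullSubcategory C AddCommGrpCat.{w}).obj D.ι).Faithful := by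
  classical
  refine ⟨⟨fun {F G} η => ?_⟩, ⟨fun {F G a b} h => ?_⟩⟩
  · choose Y π hπ hY using hD
    obtain ⟨e, he, nat⟩ : ∃ e : ∀ {A : C}, D A → (F.1.obj A →+ G.1.obj A),
        (∀ A (hA : D A), e hA = (η.app ⟨A, hA⟩).hom) ∧ ∀ {A B : C} (hA : D A) (hB : D B) (f : A ⟶ B) (x : F.1.obj A),
          e hB ((F.1.map f).hom x) = (G.1.map f).hom (e hA x) :=
      ⟨fun {A} hA => (η.app ⟨A, hA⟩).hom, fun A hA => rfl, fun {A B} hA hB f x =>
        ConcreteCategory.congr_hom (η.naturality (X := ⟨A, hA⟩) (Y := ⟨B, hB⟩) ⟨f⟩) x⟩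
    have cc : ∀ (M : C ⥤ AddCommGrpCat.{w}) {A B E : C} (f : A ⟶ B) (g : B ⟶ E) (x : M.obj A),
        (M.map g).hom ((M.map f).hom x) = (M.map (f ≫ g)).hom x := fun M {A B E} f g x => by
      rw [M.map_comp]; rfl
    have surj : ∀ {A B : C} (f : A ⟶ B), W f → Function.Surjective (F.1.map f).hom := fun f hf => (F.2 f hf).1
    choose lift hlift using fun (A : C) (x : F.1.obj A) => surj _ (hπ A) x
    let raw : ∀ A : C, F.1.obj (Y A) →+ G.1.obj A := fun A => (G.1.map (π A)).hom.comp (e (hY A))
    have ker : ∀ (A : C) (y : F.1.obj (Y A)), (F.1.map (π A)).hom y = 0 → raw A y = 0 := by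
      intro A y hy
      obtain ⟨z, rfl⟩ := ((F.2 (π A) (hπ A)).2).le hy
      obtain ⟨w, rfl⟩ := surj (π (pullback (π A) (π A))) (hπ _) z
      show (G.1.map (π A)).hom (e (hY A) ((F.1.map (pullback.fst (π A) (π A))).hom ((F.1.map _).hom w) -
        (F.1.map (pullback.snd (π A) (π A))).hom ((F.1.map _).hom w))) = 0
      rw [map_sub, map_sub, cc F.1, cc F.1, nat (hY _) (hY A), nat (hY _) (hY A), cc G.1, cc G.1,
        Category.assoc, Category.assoc, pullback.condition, sub_self]
    have well : ∀ (A : C) (y y' : F.1.obj (Y A)), (F.1.map (π A)).hom y = (F.1.map (π A)).hom y' → raw A y = raw A y' :=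
      fun A y y' h => by rw [← sub_eq_zero, ← map_sub]; exact ker A _ (by rw [map_sub, h, sub_self])
    let θ : ∀ A, F.1.obj A →+ G.1.obj A := fun A => AddMonoidHom.mk' (fun x => raw A (lift A x)) fun x x' => by
      rw [← map_add]
      exact well A _ _ (by rw [map_add, hlift, hlift, hlift])
    have key : ∀ {A Z : C} (hZ : D Z) (f : Z ⟶ A) (z : F.1.obj Z),
        θ A ((F.1.map f).hom z) = (G.1.map f).hom (e hZ z) := by
      intro A Z hZ f z
      let q := π (pullback f (π A))
      have hq : W (q ≫ pullback.fst f (π A)) := W.comp_mem _ _ (hπ _) (MorphismProperty.pullback_fst _ _ (hπ A))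
      obtain ⟨w, rfl⟩ := surj _ hq z
      have e' : (F.1.map f).hom ((F.1.map (q ≫ pullback.fst f (π A))).hom w) =
          (F.1.map (π A)).hom ((F.1.map (q ≫ pullback.snd f (π A))).hom w) := by
        rw [cc, cc, Category.assoc, Category.assoc, pullback.condition]
      show raw A (lift A _) = _
      rw [well A _ _ ((hlift A _).trans e'), nat (hY _) hZ]
      show (G.1.map (π A)).hom (e _ _) = _
      rw [nat (hY _) (hY A), cc, cc, Category.assoc, Category.assoc, pullback.condition]
    refine ⟨ObjectProperty.homMk { app := fun A => AddCommGrpCat.ofHom (θ A), naturality := fun A B f => ?_ }, ?_⟩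
    · ext x
      obtain ⟨y, rfl⟩ := surj _ (hπ A) x
      show θ B ((F.1.map f).hom ((F.1.map (π A)).hom y)) = (G.1.map f).hom (θ A ((F.1.map (π A)).hom y))
      rw [cc, key (hY A), key (hY A), cc]
    · ext A x
      have h := key A.property (𝟙 A.obj) x
      rw [he] at h
      simp only [CategoryTheory.Functor.map_id] at h
      exact h
  · refine ObjectProperty.hom_ext _ (NatTrans.ext (funext fun A => ?_))
    obtain ⟨Y, π, hπ, hY⟩ := hD A
    ext x
    obtain ⟨y, rfl⟩ := (F.2 π hπ).1 x
    have e : (a.hom.app Y).hom y = (b.hom.app Y).hom y := ConcreteCategory.congr_hom (NatTrans.congr_app h ⟨Y, hY⟩) y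
    calc (a.hom.app A).hom ((F.1.map π).hom y) = (G.1.map π).hom ((a.hom.app Y).hom y) :=
          ConcreteCategory.congr_hom (a.hom.naturality π) y
      _ = (G.1.map π).hom ((b.hom.app Y).hom y) := congrArg _ e
      _ = (b.hom.app A).hom ((F.1.map π).hom y) := (ConcreteCategory.congr_hom (b.hom.naturality π) y).symm

end Groth.Agent.S18884
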