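import Groth.Statements.S18887
-- import your own Groth.Agent.* helpers here

set_option autoImplicit false
universe u v
open DblCov

namespace Groth.Agent.S18887

/-- Let A be a commutative ring in which 2 is invertible and B a commutative A-algebra which is free of
rank 2 as an A-module and whose trace form tr : B → A has kernel free of rank 1 over A. Then σ(b) =
tr(b) − b defines an A-algebra endomorphism σ of B with σ ≠ id and σ ∘ σ = id, and the elements
fixed by σ are exactly the image of A in B. -/
theorem result {A : Type u} {B : Type v} [CommRing A] [CommRing B]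
    [Algebra A B] (h2 : IsUnit (2 : A)) [Module.Free A B] [Module.Finite A B]
    (hrk : Module.finrank A B = 2)
    [Module.Free A (LinearMap.ker (Algebra.trace A B))]
    (hker : Module.finrank A (LinearMap.ker (Algebra.trace A B)) = 1) :
    ∃ σ : B →ₐ[A] B, (∀ b : B, σ b = algebraMap A B (Algebra.trace A B b) - b) ∧
      σ ≠ AlgHom.id A B ∧ σ.comp σ = AlgHom.id A B ∧
      ∀ b : B, σ b = b ↔ b ∈ Set.range (algebraMap A B) := by
  haveI : Nontrivial A := by
    by_contra hA
    rw [not_nontrivial_iff_subsingleton] at hA
    rw [Module.finrank_subsingleton] at hrk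
    omega
  let b := Module.finBasisOfFinrankEq A B hrk
  let t := Algebra.trace A B
  let d : B → A := fun x => (Algebra.leftMulMatrix b x).det
  have hCH : ∀ x : B, x * x = algebraMap A B (t x) * x - algebraMap A B (d x) := by
    intro x
    apply Algebra.leftMulMatrix_injective b
    rw [map_mul, map_sub, map_mul, AlgHom.commutes, AlgHom.commutes]
    show _ = algebraMap A _ (Algebra.trace A B x) * _ - algebraMap A _ (Matrix.det _)
    rw [Algebra.trace_eq_matrix_trace b x]
    generalize Algebra.leftMulMatrix b x = M
    ext i j
    fin_cases i <;> fin_cases j <;>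
      simp [Matrix.mul_apply, Fin.sum_univ_two, Matrix.trace_fin_two, Matrix.det_fin_two,
        Matrix.algebraMap_matrix_apply] <;> ring
  have htA : ∀ a : A, t (algebraMap A B a) = 2 * a := fun a => by
    show Algebra.trace A B _ = _
    rw [Algebra.trace_algebraMap, hrk, two_nsmul, two_mul]
  have key : ∀ x y : B, 2 * (x * y) - algebraMap A B (t x) * y - algebraMap A B (t y) * x +
      algebraMap A B (t x * t y - t (x * y)) = 0 := by
    intro x y
    obtain ⟨c, hc⟩ : ∃ c : A, 2 * (x * y) - algebraMap A B (t x) * y - algebraMap A B (t y) * x +
        algebraMap A B (t x * t y - t (x * y)) = algebraMap A B c := by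
      refine ⟨t x * t y - t (x * y) - (d (x + y) - d x - d y), ?_⟩
      have h1 := hCH (x + y)
      have h2 := hCH x
      have h3 := hCH y
      simp only [map_add, map_sub, map_mul] at h1 h2 h3 ⊢
      linear_combination h1 - h2 - h3
    have h0 := congrArg t hc
    rw [htA] at h0
    simp only [map_add, map_sub, ← Algebra.smul_def, map_smul, smul_eq_mul, htA, two_mul] at h0
    have : c = 0 := by
      refine h2.mul_left_cancel ?_
      rw [mul_zero]
      linear_combination -h0
    rw [hc, this, map_zero]
  let σ : B →ₐ[A] B :=
    { toFun := fun x => algebraMap A B (t x) - x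
      map_one' := by
        show algebraMap A B (t 1) - 1 = 1
        rw [← map_one (algebraMap A B), htA, map_one]
        simp [map_ofNat]; norm_num
      map_mul' := fun x y => by
        have := key x y
        simp only [map_sub, map_mul] at this
        linear_combination (norm := ring_nf) -this
      map_zero' := by simp
      map_add' := fun x y => by simp [map_add]; ring
      commutes' := fun a => by
        show algebraMap A B (t (algebraMap A B a)) - algebraMap A B a = algebraMap A B a
        rw [htA, map_mul, map_ofNat]; ring }
  refine ⟨σ, fun x => rfl, ?_, ?_, fun x => ⟨fun hx => ?_, ?_⟩⟩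
  · intro h
    haveI : Module.Finite A (LinearMap.ker t) := Module.finite_of_finrank_eq_succ hker
    let j := Module.finBasisOfFinrankEq A (LinearMap.ker t) hker
    have hj : t (j 0).1 = 0 := (j 0).2
    have h2' : algebraMap A B (t (j 0).1) - (j 0).1 = (j 0).1 := DFunLike.congr_fun h (j 0).1
    rw [hj, map_zero, zero_sub] at h2'
    have : (2 : A) • (j 0) = 0 := Subtype.ext (by
      show (2 : A) • (j 0).1 = 0
      rw [Algebra.smul_def, map_ofNat]
      linear_combination -h2')
    exact j.ne_zero 0 (h2.smul_eq_zero.mp this)
  · refine AlgHom.ext fun x => ?_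
    show algebraMap A B (t (algebraMap A B (t x) - x)) - (algebraMap A B (t x) - x) = x
    rw [map_sub t, htA, map_sub, map_mul, map_ofNat]; ring
  · refine ⟨(↑h2.unit⁻¹ : A) * t x, ?_⟩
    have hx' : algebraMap A B (t x) - x = x := hx
    have h4 : algebraMap A B ((↑h2.unit⁻¹ : A) * 2) = 1 := by rw [h2.val_inv_mul, map_one]
    rw [map_mul, map_ofNat] at h4
    rw [map_mul]
    linear_combination (algebraMap A B ↑h2.unit⁻¹) * hx' + x * h4
  · rintro ⟨a, rfl⟩
    exact σ.commutes a

end Groth.Agent.S18887
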