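import Groth.Statements.S18888
import Mathlib
-- import your own Groth.Agent.* helpers here

set_option autoImplicit false
universe u v w
open CAlg

namespace Groth.Agent.S18888

/-- Let A be a unique factorisation domain in which 2 is invertible, with fraction field K, and let L ⊇
K be a quadratic extension field (of degree 2 over K) containing an element y ∉ K whose square is a
squarefree element d of A. Then the integral closure of A in L equals the A-subalgebra A[y]
generated by y. -/
theorem result {A : Type u} {K : Type v} {L : Type w}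
    [CommRing A] [IsDomain A] [UniqueFactorizationMonoid A] [Field K] [Algebra A K] [IsFractionRing A K]
    [Field L] [Algebra K L] [Algebra A L] [IsScalarTower A K L]
    (h2 : IsUnit (2 : A)) (hL : Module.finrank K L = 2)
    (d : A) (hd : Squarefree d) (y : L) (hy : y * y = algebraMap A L d)
    (hyK : y ∉ Set.range (algebraMap K L)) :
    integralClosure A L = Algebra.adjoin A {y} := by
  classical
  have hi : IsIntegral A y := ⟨Polynomial.X ^ 2 - Polynomial.C d, Polynomial.monic_X_pow_sub_C d two_ne_zero,
    by simp [pow_two, hy]⟩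
  refine le_antisymm (fun z hz => ?_) (Algebra.adjoin_le fun x hx => by
    rw [Set.mem_singleton_iff.1 hx]; exact hi)
  have hz' : IsIntegral A z := hz
  have hli : LinearIndependent K ![(1 : L), y] := by
    rw [LinearIndependent.pair_iff]
    intro s t hst
    by_cases ht : t = 0
    · subst ht
      simpa [Algebra.smul_def] using hst
    · refine absurd ⟨-s / t, ?_⟩ hyK
      have : algebraMap K L t ≠ 0 := by simpa using ht
      rw [Algebra.smul_def, Algebra.smul_def, mul_one] at hst
      rw [map_div₀, map_neg, div_eq_iff this]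
      linear_combination -hst
  have hsp : Submodule.span K (Set.range ![(1 : L), y]) = ⊤ := by
    haveI : FiniteDimensional K L := FiniteDimensional.of_finrank_eq_succ hL
    exact hli.span_eq_top_of_card_eq_finrank (by simp [hL])
  obtain ⟨a, b, hab⟩ : ∃ a b : K, a • (1 : L) + b • y = z := by
    have : z ∈ Submodule.span K (Set.range ![(1 : L), y]) := hsp ▸ Submodule.mem_top
    rwa [Matrix.range_cons, Matrix.range_cons, Matrix.range_empty, Set.union_empty, Set.union_singleton,
      Set.pair_comm, Submodule.mem_span_pair] at this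
  have hz2 : z = algebraMap K L a + algebraMap K L b * y := by
    rw [← hab, Algebra.smul_def, Algebra.smul_def, mul_one]
  obtain ⟨⟨a₀, ha₀⟩, ⟨b₀, hb₀⟩⟩ : (∃ a₀ : A, algebraMap A K a₀ = a) ∧ ∃ b₀ : A, algebraMap A K b₀ = b := by
    by_cases hb : b = 0
    · subst hb
      refine ⟨IsIntegrallyClosed.isIntegral_iff.1 ?_, 0, map_zero _⟩
      refine (isIntegral_algHom_iff (IsScalarTower.toAlgHom A K L) (algebraMap K L).injective).1 ?_
      simpa [hz2] using hz'
    let f : Polynomial K := Polynomial.X ^ 2 + (Polynomial.C (-(2 * a)) * Polynomial.X +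
      Polynomial.C (a ^ 2 - b ^ 2 * algebraMap A K d))
    have hdeg : (Polynomial.C (-(2 * a)) * Polynomial.X +
        Polynomial.C (a ^ 2 - b ^ 2 * algebraMap A K d)).degree ≤ (1 : WithBot ℕ) :=
      Polynomial.degree_linear_le
    have hfm : f.Monic := Polynomial.monic_X_pow_add (hdeg.trans_lt (by norm_num))
    have hf0 : Polynomial.aeval z f = 0 := by
      simp only [f, map_add, map_mul, map_pow, map_neg, map_sub, map_ofNat, Polynomial.aeval_X, Polynomial.aeval_C,
        ← IsScalarTower.algebraMap_apply, ← hy, hz2]
      ring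
    have hzK : z ∉ Set.range (algebraMap K L) := by
      rintro ⟨c, hc⟩
      refine hyK ⟨(c - a) / b, ?_⟩
      have : algebraMap K L b ≠ 0 := by simpa using hb
      rw [map_div₀, map_sub, hc, hz2, div_eq_iff this]
      ring
    have hzi : IsIntegral K z := hz'.tower_top
    have hfdeg : f.natDegree = 2 := by
      refine Polynomial.natDegree_eq_of_degree_eq_some ?_
      rw [Polynomial.degree_add_eq_left_of_degree_lt (by
        rw [Polynomial.degree_X_pow]; exact hdeg.trans_lt (by norm_num)), Polynomial.degree_X_pow]
    have hmin : minpoly K z = f := by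
      refine (Polynomial.eq_of_monic_of_dvd_of_natDegree_le (minpoly.monic hzi) hfm (minpoly.dvd K z hf0) ?_).symm
      rw [hfdeg]
      by_contra hlt
      have h1 : (minpoly K z).natDegree = 1 := by
        have := minpoly.natDegree_pos hzi
        omega
      exact hzK (minpoly.natDegree_eq_one_iff.1 h1)
    have hmap := minpoly.isIntegrallyClosed_eq_field_fractions' K hz'
    rw [hmin] at hmap
    have h1 : f.coeff 1 = -(2 * a) := by
      simp only [f, Polynomial.coeff_add, Polynomial.coeff_X_pow, Polynomial.coeff_C_mul, Polynomial.coeff_X_one,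
        Polynomial.coeff_X_zero, Polynomial.coeff_C_zero, Polynomial.coeff_C_succ]
      simp
    have h0 : f.coeff 0 = a ^ 2 - b ^ 2 * algebraMap A K d := by
      simp only [f, Polynomial.coeff_add, Polynomial.coeff_X_pow, Polynomial.coeff_C_mul, Polynomial.coeff_X_one,
        Polynomial.coeff_X_zero, Polynomial.coeff_C_zero, Polynomial.coeff_C_succ]
      simp
    rw [hmap, Polynomial.coeff_map] at h1 h0
    obtain ⟨u, hu⟩ := h2
    have ha₀ : algebraMap A K (-((minpoly A z).coeff 1 * ↑u⁻¹)) = a := by
      have h3 : algebraMap A K (u : A) * algebraMap A K (↑u⁻¹ : A) = 1 := by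
        rw [← map_mul, Units.mul_inv, map_one]
      rw [hu, map_ofNat] at h3
      rw [map_neg, map_mul, h1]
      linear_combination a * h3
    set a₀ := -((minpoly A z).coeff 1 * ↑u⁻¹)
    refine ⟨⟨a₀, ha₀⟩, ?_⟩
    obtain ⟨p, q, hpq, hb'⟩ := IsFractionRing.exists_reduced_fraction A b
    have hq : IsUnit (q : A) := by
      have h4 : (p : A) ^ 2 * d = (q : A) ^ 2 * (a₀ ^ 2 - (minpoly A z).coeff 0) := by
        refine IsFractionRing.injective A K ?_
        rw [map_mul, map_mul, map_pow, map_pow, map_sub, map_pow, ha₀, h0, ← IsLocalization.mk'_spec K p q, hb']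
        ring
      have h5 : (q : A) ^ 2 ∣ d := ((hpq.symm.pow_left (m := 2)).pow_right (n := 2)).dvd_of_dvd_mul_left ⟨_, h4⟩
      exact hd (q : A) (by rwa [← pow_two])
    obtain ⟨w, hw⟩ := hq
    refine ⟨p * ↑w⁻¹, ?_⟩
    rw [← hb', eq_comm, IsLocalization.mk'_eq_iff_eq_mul, ← map_mul, mul_assoc, ← hw, Units.inv_mul, mul_one]
  have : z = algebraMap A L a₀ + algebraMap A L b₀ * y := by
    rw [hz2, ← ha₀, ← hb₀, ← IsScalarTower.algebraMap_apply, ← IsScalarTower.algebraMap_apply]
  rw [this]
  exact add_mem (Subalgebra.algebraMap_mem _ _) (mul_mem (Subalgebra.algebraMap_mem _ _)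
    (Algebra.subset_adjoin rfl))

end Groth.Agent.S18888
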