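import Groth.Statements.S18889
import Mathlib.RingTheory.Finiteness.ModuleFinitePresentation
import Mathlib.RingTheory.IntegralClosure.IsIntegralClosure.Basic
import Mathlib.RingTheory.Invariant.Basic

set_option autoImplicit false
universe u v w
open CAlg

namespace Groth.Agent.S18889

/-- Let R be a commutative ring, A a commutative R-algebra of finite presentation, and G a finite group
acting on A by R-algebra automorphisms such that the order of G is invertible in R. Then the ring of
invariants A^G is an R-algebra of finite presentation. (The source takes G to be a group of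
automorphisms of A; here G acts through a possibly non-faithful action, which changes nothing since
the invariants and the invertibility of the order only depend on the image of G.) -/
theorem result {R : Type u} {A : Type v} [CommRing R] [CommRing A]
    [Algebra R A] [Algebra.FinitePresentation R A]
    {G : Type w} [Group G] [Finite G] [MulSemiringAction G A] [SMulCommClass G R A]
    (hG : IsUnit ((Nat.card G : ℕ) : R)) :
    Algebra.FinitePresentation R (FixedPoints.subalgebra R A G) := by
  classical
  have : Fintype G := Fintype.ofFinite G
  obtain ⟨s, hs⟩ := (inferInstance : Algebra.FiniteType R A).out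
  let N := Fintype.card G
  let P : A → Polynomial A := fun a => MulSemiringAction.charpoly G a
  let B := FixedPoints.subalgebra R A G
  let c : s × Fin (N + 1) → B := fun ik => ⟨(P ik.1.1).coeff ik.2, fun g => MulSemiringAction.smul_coeff_charpoly _ _ _⟩
  let S := MvPolynomial (s × Fin (N + 1)) R
  let φ : S →ₐ[R] B := MvPolynomial.aeval c
  letI : Algebra S B := φ.toRingHom.toAlgebra
  letI : Algebra S A := (B.val.comp φ).toRingHom.toAlgebra
  have : IsScalarTower R S B := IsScalarTower.of_algebraMap_eq fun r => (φ.commutes r).symm
  have : IsScalarTower R S A := IsScalarTower.of_algebraMap_eq fun r => ((B.val.comp φ).commutes r).symm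
  have hint : Algebra.IsIntegral S A := by
    refine ⟨fun x => ?_⟩
    have hx : x ∈ Algebra.adjoin R (s : Set A) := hs ▸ Algebra.mem_top
    induction hx using Algebra.adjoin_induction with
    | mem a ha =>
      obtain ⟨q, hq⟩ : ∃ q : Polynomial S, q.map (algebraMap S A) = P a := by
        refine (Polynomial.mem_lifts _).mp ((Polynomial.lifts_iff_coeff_lifts _).mpr fun k => ?_)
        rcases Nat.lt_or_ge k (N + 1) with hk | hk
        · refine ⟨MvPolynomial.X ((⟨a, Finset.mem_coe.mp ha⟩, ⟨k, hk⟩) : s × Fin (N + 1)), ?_⟩
          show ((φ (MvPolynomial.X _) : B) : A) = _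
          exact congrArg Subtype.val (MvPolynomial.aeval_X c _)
        · refine ⟨0, ?_⟩
          rw [map_zero]
          refine (Polynomial.coeff_eq_zero_of_natDegree_lt (lt_of_le_of_lt ?_ (Nat.lt_of_succ_le hk))).symm
          refine (Polynomial.natDegree_prod_le _ _).trans ?_
          refine (Finset.sum_le_card_nsmul _ _ 1 fun g _ => ?_).trans (by simp [N])
          exact (Polynomial.natDegree_sub_le _ _).trans (by simp [Polynomial.natDegree_X_le])
      obtain ⟨q', hq', -, hm⟩ := Polynomial.lifts_and_natDegree_eq_and_monic ((Polynomial.mem_lifts _).mpr ⟨q, hq⟩) (MulSemiringAction.monic_charpoly G a)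
      refine ⟨q', hm, ?_⟩
      rw [← Polynomial.eval_map, hq']
      exact MulSemiringAction.eval_charpoly G a
    | algebraMap r => rw [IsScalarTower.algebraMap_apply R S A]; exact isIntegral_algebraMap
    | add x y _ _ hx hy => exact hx.add hy
    | mul x y _ _ hx hy => exact hx.mul hy
  have : Algebra.FiniteType S A := Algebra.FiniteType.of_restrictScalars_finiteType R S A
  have : Module.Finite S A := Algebra.IsIntegral.finite
  have : Algebra.FinitePresentation S A := Algebra.FinitePresentation.of_restrict_scalars_finitePresentation R S A
  have : Module.FinitePresentation S A := Module.FinitePresentation.of_finite_of_finitePresentation S A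
  let u : A := algebraMap R A (hG.unit⁻¹ : Rˣ)
  have hu : ∀ g : G, g • u = u := fun g => smul_algebraMap g _
  let avg : A →ₗ[S] B :=
    { toFun := fun a => ⟨u * ∑ g : G, g • a, fun h => by
        rw [smul_mul', hu, Finset.smul_sum]
        congr 1
        simp only [smul_smul]
        exact Fintype.sum_equiv (Equiv.mulLeft h) _ _ fun _ => rfl⟩
      map_add' := fun x y => by ext; simp [smul_add, Finset.sum_add_distrib, mul_add]
      map_smul' := fun t x => by
        ext
        show u * ∑ g : G, g • (((φ t : B) : A) * x) = ((φ t : B) : A) * (u * ∑ g : G, g • x)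
        rw [mul_left_comm, Finset.mul_sum (a := ((φ t : B) : A))]
        congr 1
        refine Finset.sum_congr rfl fun g _ => ?_
        rw [smul_mul', (φ t).2 g] }
  let ι : B →ₗ[S] A := { toFun := fun b => (b : A), map_add' := fun _ _ => rfl, map_smul' := fun _ _ => rfl }
  have hsec : ∀ b, avg (ι b) = b := fun b => by
    ext
    show u * ∑ g : G, g • (b : A) = b
    simp only [b.2 _, Finset.sum_const, Finset.card_univ, nsmul_eq_mul, ← mul_assoc]
    rw [← map_natCast (algebraMap R A), ← map_mul, ← Nat.card_eq_fintype_card, IsUnit.val_inv_mul, map_one, one_mul]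
  have hker : (LinearMap.ker avg).FG := by
    have : LinearMap.ker avg = LinearMap.range (LinearMap.id - ι ∘ₗ avg) := by
      refine le_antisymm (fun x hx => ⟨x, by simp [LinearMap.mem_ker.mp hx]⟩) ?_
      rintro _ ⟨x, rfl⟩
      simp [hsec]
    rw [this, LinearMap.range_eq_map]
    exact Module.Finite.fg_top.map _
  have : Module.FinitePresentation S B :=
    Module.finitePresentation_of_surjective avg (fun b => ⟨ι b, hsec b⟩) hker
  exact Algebra.FinitePresentation.trans R S B

end Groth.Agent.S18889
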