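import Groth.Statements.S1889
import Groth.Agent.GrpdSep.Field

set_option autoImplicit false
set_option backward.isDefEq.respectTransparency false
universe u
open CategoryTheory CategoryTheory.Limits AlgebraicGeometry
open Grpd

namespace Groth.Agent.S1889

/-- Let (U, R, s, t, c) be a groupoid scheme over S with U the spectrum of a field, W ⊆ R open and a : Z
→ R a morphism. Then the image of Z ×_{s∘a, U, t} W → R ×_{s,U,t} R → R (composition) is open. (A
groupoid scheme carries U, R, s, t, c, e, i over S with the groupoid axioms on T-points; 'finite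
locally free' is finite, flat and locally of finite presentation; C ⊂ Γ(U) is the ring of functions
a with s♯(a) = t♯(a) and M = Spec C.) -/
theorem result (S : Scheme.{u}) (G : Grpd.GroupoidScheme S) (k : Type u) [Field k] (eU : G.U ≅ Spec (CommRingCat.of k)) (W : G.R.Opens) (Z : Scheme.{u}) (a : Z ⟶ G.R) : IsOpen (Set.range ⇑(pullback.lift (pullback.fst (a ≫ G.s) (W.ι ≫ G.t) ≫ a) (pullback.snd (a ≫ G.s) (W.ι ≫ G.t) ≫ W.ι) ((Category.assoc _ _ _).trans (pullback.condition.trans (Category.assoc _ _ _).symm)) ≫ G.c)) := by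
    haveI := Groth.Agent.GrpdSep.universallyOpen eU (a ≫ G.t)
    haveI : UniversallyOpen (Groth.Agent.GrpdSep.translate a) :=
      MorphismProperty.of_isPullback (Groth.Agent.GrpdSep.isPullback_translate a) inferInstance
    let m := pullback.map (a ≫ G.s) (W.ι ≫ G.t) (a ≫ G.s) G.t (𝟙 Z) W.ι (𝟙 _) (by simp) (by simp)
    have hm : IsOpen (Set.range m) := by
      rw [Scheme.Pullback.range_map]
      simp only [Scheme.Opens.range_ι]
      refine IsOpen.inter ?_ (W.2.preimage (Scheme.Hom.continuous _))
      simp
    have key : pullback.lift (pullback.fst (a ≫ G.s) (W.ι ≫ G.t) ≫ a) (pullback.snd (a ≫ G.s) (W.ι ≫ G.t) ≫ W.ι)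
        ((Category.assoc _ _ _).trans (pullback.condition.trans (Category.assoc _ _ _).symm)) ≫ G.c =
        m ≫ Groth.Agent.GrpdSep.translate a := by
      rw [Groth.Agent.GrpdSep.translate]
      refine Eq.trans (congrArg (· ≫ G.c) ?_) (Category.assoc _ _ _)
      apply pullback.hom_ext <;> simp [m]
    rw [key, Scheme.Hom.comp_base, TopCat.coe_comp, Set.range_comp]
    exact (Groth.Agent.GrpdSep.translate a).isOpenMap _ hm

end Groth.Agent.S1889
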