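import Groth.Statements.S18890
import Mathlib.RepresentationTheory.Invariants
import Mathlib.RepresentationTheory.Basic

set_option autoImplicit false
universe u v w w'
open CAlg

namespace Groth.Agent.S18890

/-- Let R be a commutative ring, G a finite group whose order is invertible in R, M an R-module with an
R-linear action ρ of G and N an arbitrary R-module. Then the natural map M^G ⊗_R N → M ⊗_R N induced
by the inclusion of the invariants is injective, and its image is the submodule of invariants of M
⊗_R N under the action ρ ⊗ 1 (G acting on the first factor). (The source lets G be a group of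
R-automorphisms of M; a possibly non-faithful linear action changes nothing.) -/
theorem result {R : Type u} [CommRing R]
    {G : Type v} [Group G] [Finite G] (hG : IsUnit ((Nat.card G : ℕ) : R))
    {M : Type w} {N : Type w'} [AddCommGroup M] [Module R M] [AddCommGroup N] [Module R N]
    (ρ : Representation R G M) :
    Function.Injective (LinearMap.rTensor N ρ.invariants.subtype) ∧
      LinearMap.range (LinearMap.rTensor N ρ.invariants.subtype) =
        (ρ.tprod (Representation.trivial R G N)).invariants := by
  classical
  have : Fintype G := Fintype.ofFinite G
  letI : Invertible (Fintype.card G : R) := by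
    rw [Nat.card_eq_fintype_card] at hG
    exact hG.invertible
  let e := Representation.averageMap ρ
  let e' : M →ₗ[R] ρ.invariants := LinearMap.codRestrict _ e (Representation.averageMap_invariant ρ)
  have he' : e' ∘ₗ ρ.invariants.subtype = LinearMap.id := by
    ext x; exact Representation.averageMap_id ρ _ x.2
  have hid : ∀ x, LinearMap.rTensor N e' (LinearMap.rTensor N ρ.invariants.subtype x) = x := by
    intro x
    rw [← LinearMap.comp_apply, ← LinearMap.rTensor_comp, he', LinearMap.rTensor_id]; rfl
  refine ⟨fun x y h => by rw [← hid x, ← hid y, h], le_antisymm ?_ ?_⟩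
  · rintro _ ⟨x, rfl⟩ g
    induction x with
    | zero => simp
    | add x y hx hy => simp only [map_add, hx, hy]
    | tmul a b => simp [a.2 g]
  · intro x hx
    refine ⟨LinearMap.rTensor N e' x, ?_⟩
    have hρ : ∀ g : G, (ρ.tprod (Representation.trivial R G N)) g = LinearMap.rTensor N (ρ g) := fun g =>
      TensorProduct.ext' fun a b => by simp
    rw [← LinearMap.comp_apply, ← LinearMap.rTensor_comp, show ρ.invariants.subtype ∘ₗ e' = e from LinearMap.ext fun _ => rfl]
    have he : e = ⅟(Fintype.card G : R) • ∑ g : G, ρ g := by
      simp [e, Representation.averageMap, GroupAlgebra.average]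
    rw [he, ← LinearMap.coe_rTensorHom, map_smul, map_sum, LinearMap.smul_apply, LinearMap.sum_apply]
    simp only [LinearMap.coe_rTensorHom, ← hρ, hx _, Finset.sum_const, Finset.card_univ]
    rw [← Nat.cast_smul_eq_nsmul R, smul_smul, invOf_mul_self, one_smul]

end Groth.Agent.S18890
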