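import Groth.Statements.S18891
import Groth.Agent.TopInvHomeo.Basic
import Mathlib.AlgebraicGeometry.ZariskisMainTheorem
import Mathlib.FieldTheory.IsAlgClosed.AlgebraicClosure


set_option autoImplicit false
set_option backward.isDefEq.respectTransparency false
set_option backward.isDefEq.respectTransparency.types false
universe u
open CategoryTheory CategoryTheory.Limits AlgebraicGeometry
open Mor

namespace Groth.Agent.S18891

/-- Let f : X → Y be a morphism of schemes which is proper and formally unramified, and such that for
every algebraically closed field Ω the map X(Ω) → Y(Ω), g ↦ g ≫ f, is injective. Then f is a closed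
immersion. -/
theorem result {X Y : Scheme.{u}} (f : X ⟶ Y)
    [IsProper f] [FormallyUnramified f]
    (hinj : ∀ (Ω : Type u) [Field Ω] [IsAlgClosed Ω],
      Function.Injective (fun g : Spec (CommRingCat.of Ω) ⟶ X => g ≫ f)) :
    IsClosedImmersion f := by
  haveI : UniversallyInjective f := by
    rw [UniversallyInjective.iff_diagonal]
    refine ⟨fun z => ?_⟩
    let Ω := AlgebraicClosure ((pullback f f).residueField z)
    let p : Spec (CommRingCat.of Ω) ⟶ pullback f f :=
      Spec.map (CommRingCat.ofHom (algebraMap ((pullback f f).residueField z) Ω)) ≫ (pullback f f).fromSpecResidueField z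
    have h : p ≫ pullback.fst f f = p ≫ pullback.snd f f := hinj Ω (by
      show (p ≫ pullback.fst f f) ≫ f = (p ≫ pullback.snd f f) ≫ f
      simp only [Category.assoc]; rw [pullback.condition])
    have hp : p = (p ≫ pullback.fst f f) ≫ pullback.diagonal f := by
      apply pullback.hom_ext
      · simp only [Category.assoc, pullback.diagonal_fst, Category.comp_id]
      · exact h.symm.trans (((Category.assoc _ _ _).trans ((congrArg ((p ≫ pullback.fst f f) ≫ ·) (pullback.diagonal_snd f)).trans (Category.comp_id _))).symm)
    let ω : Spec (CommRingCat.of Ω) := IsLocalRing.closedPoint Ω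
    refine ⟨(p ≫ pullback.fst f f) ω, ?_⟩
    rw [← Scheme.Hom.comp_apply, ← hp, Scheme.Hom.comp_apply]
    exact Scheme.fromSpecResidueField_apply z _
  haveI : Mono f := Groth.Agent.TopInvHomeo.mono_of_universallyInjective f
  exact (IsClosedImmersion.iff_isProper_and_mono f).2 ⟨inferInstance, inferInstance⟩

end Groth.Agent.S18891
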