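import Groth.Statements.S18895
import Groth.Agent.S7639
import Groth.Agent.CurveDeg.H0Bound
import Groth.Agent.CurveSub.SmoothRegular
import Groth.Agent.S2280
import Groth.Agent.S0558
-- import your own Groth.Agent.* helpers here

set_option autoImplicit false
universe u
open CategoryTheory CategoryTheory.Limits AlgebraicGeometry
open Curves

namespace Groth.Agent.S18895

/-- Let k be an algebraically closed field of characteristic different from 2 (the standing convention
of the section; it plays no role here) and X a connected smooth proper curve over k of genus dim_k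
H¹(X, O_X) ≥ 1. For every invertible O_X-module L of positive degree one has dim_k H⁰(X, L) ≤ deg L. -/
theorem result (k : Type u) [Field k] [IsAlgClosed k] (h2 : (2 : k) ≠ 0)
    (X : Scheme.{u}) [X.Over (Spec (CommRingCat.of k))]
    [IsProper (X ↘ Spec (CommRingCat.of k))] [Smooth (X ↘ Spec (CommRingCat.of k))] [ConnectedSpace ↥X]
    (hX : topologicalKrullDim ↥X = 1) (hg : 1 ≤ Curv2.genus k X)
    (L : X.Modules) (hL : PicF.IsInvertible L) (hdeg : 0 < Curv2.deg k X L 1) :
    (Module.finrank k (Coh.HH X L 0) : ℤ) ≤ Curv2.deg k X L 1 := by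
  have := Groth.Agent.CurveDeg.isNoetherian_of_proper (k := k) (X := X)
  haveI : IsIntegral X := (Groth.Agent.S2280.result X).2.2 ⟨inferInstance, fun x => by
    haveI := Groth.Agent.CurveSub.isRegularLocalRing_stalk (X ↘ Spec (CommRingCat.of k)) x
    exact Groth.Agent.S0558.result _⟩
  have h0 : Module.finrank k (Coh.HH X (Coh.structureModule X) 0) = 1 := by
    obtain ⟨hF, hfin, -⟩ := Groth.Agent.S7639.result k X
    let _ : Algebra k Γ(X, ⊤) := ((X ↘ (Spec (CommRingCat.of k))).appTop.hom.comp
      (Scheme.ΓSpecIso (CommRingCat.of k)).inv.hom).toAlgebra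
    have := hfin
    have : IsDomain Γ(X, ⊤) := hF.isDomain
    have hb : Function.Bijective (algebraMap k Γ(X, ⊤)) :=
      IsAlgClosed.algebraMap_bijective_of_isIntegral
    have h1 : Module.finrank k Γ(X, ⊤) = 1 :=
      ((LinearEquiv.ofBijective (Algebra.linearMap k Γ(X, ⊤)) hb).finrank_eq).symm.trans (Module.finrank_self k)
    let e : Coh.HH X (Coh.structureModule X) 0 ≃ₗ[k] Γ(X, ⊤) :=
      { Groth.Agent.CurveDeg.secEquiv (Coh.structureModule X) with
        map_smul' := fun c x => Groth.Agent.S7639.secEquiv_smul
          (Coh.toGlobal (X ↘ Spec (CommRingCat.of k)) c) x }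
    exact e.finrank_eq.trans h1
  rcases subsingleton_or_nontrivial (Coh.HH X L 0) with hs | hs
  · rw [Module.finrank_zero_of_subsingleton]
    exact_mod_cast hdeg.le
  · obtain ⟨h1, h3⟩ := Groth.Agent.CurveDeg.finrank_H0_le_deg_add_one (k := k) hX h0 L hL hs
    by_contra h
    have h4 := h3 (by omega) hdeg
    omega

end Groth.Agent.S18895
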