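import Groth.Statements.S18899
import Mathlib.RingTheory.Invariant.Basic
import Mathlib.Algebra.Polynomial.GroupRingAction

set_option autoImplicit false
universe u v w
open CAlg

namespace Groth.Agent.S18899

/-- Let A be a commutative ring on which a finite group G acts by ring automorphisms, with ring of
invariants A^G, and let K be a field. If two ring homomorphisms f₁, f₂ : A → K have the same
restriction to A^G, then f₂ = f₁ ∘ γ for some γ ∈ G. -/
theorem result {A : Type u} [CommRing A] {G : Type v} [Group G] [Finite G]
    [MulSemiringAction G A] {K : Type w} [Field K] (f₁ f₂ : A →+* K)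
    (h : ∀ a : A, (∀ g : G, g • a = a) → f₁ a = f₂ a) :
    ∃ γ : G, ∀ a : A, f₂ a = f₁ (γ • a) := by
  classical
  have : Fintype G := Fintype.ofFinite G
  by_contra hc
  push Not at hc
  choose a ha using hc
  let e := (Fintype.equivFin G)
  let q : Polynomial A := ∑ γ : G, Polynomial.monomial (e γ : ℕ) (a γ)
  have hcoef : ∀ γ, q.coeff (e γ) = a γ := by
    intro γ
    simp only [q, Polynomial.finsetSum_coeff, Polynomial.coeff_monomial]
    rw [Finset.sum_eq_single γ] <;> simp [Fin.val_inj, e.injective.eq_iff] <;> tauto
  let F₁ := Polynomial.mapRingHom f₁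
  let F₂ := Polynomial.mapRingHom f₂
  let P := MulSemiringAction.charpoly G q
  have hP : P.map F₁ = P.map F₂ := by
    ext k m
    simp only [Polynomial.coeff_map, F₁, F₂, Polynomial.coe_mapRingHom]
    refine h _ fun g => ?_
    have := congrArg (fun r : Polynomial A => r.coeff m) (MulSemiringAction.smul_coeff_charpoly q k g)
    simpa [Polynomial.coeff_smul] using this
  have h0 : (P.map F₁).eval (F₂ q) = 0 := by
    rw [hP, Polynomial.eval_map, Polynomial.eval₂_at_apply, MulSemiringAction.eval_charpoly, map_zero]
  simp only [P, MulSemiringAction.charpoly_eq, Polynomial.map_prod, Polynomial.eval_prod, Polynomial.map_sub,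
    Polynomial.map_X, Polynomial.map_C, Polynomial.eval_sub, Polynomial.eval_X, Polynomial.eval_C] at h0
  obtain ⟨γ, -, hγ⟩ := Finset.prod_eq_zero_iff.mp h0
  have := congrArg (fun r : Polynomial K => r.coeff (e γ)) (sub_eq_zero.mp hγ)
  simp [F₁, F₂, Polynomial.coeff_smul, hcoef] at this
  exact ha γ this

end Groth.Agent.S18899
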