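import Groth.Statements.S1890
import Mathlib

set_option autoImplicit false
set_option backward.isDefEq.respectTransparency false
universe u
open CategoryTheory CategoryTheory.Limits AlgebraicGeometry
open Grpd

namespace Groth.Agent.S1890

/-- Take a quasi-compact immersion j : V → Spec A and an element f ∈ A such that j⁻¹(D(f)) is affine and
j(V) ∩ V(f) is closed in Spec A. Then V is affine. -/
theorem result (A : Type u) [CommRing A] (V : Scheme.{u}) (j : V ⟶ Spec (CommRingCat.of A)) [IsImmersion j] [QuasiCompact j] (f : A) (haff : IsAffineOpen (j ⁻¹ᵁ PrimeSpectrum.basicOpen f)) (hcl : IsClosed (Set.range ⇑j ∩ PrimeSpectrum.zeroLocus {f})) : IsAffine V := by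
    let C : Set (PrimeSpectrum A) := closure (Set.range ⇑j) \ Set.range ⇑j
    have hC : IsClosed C := by
      have h := j.isLocallyClosed_range.isOpen_coborder
      rw [coborder] at h
      exact isOpen_compl_iff.1 h
    let D : Set (PrimeSpectrum A) := Set.range ⇑j ∩ PrimeSpectrum.zeroLocus {f}
    have hD : IsClosed D := hcl
    have htop : PrimeSpectrum.vanishingIdeal C ⊔ PrimeSpectrum.vanishingIdeal D = ⊤ := by
      rw [← PrimeSpectrum.zeroLocus_empty_iff_eq_top, PrimeSpectrum.zeroLocus_sup, PrimeSpectrum.zeroLocus_vanishingIdeal_eq_closure,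
        PrimeSpectrum.zeroLocus_vanishingIdeal_eq_closure, hC.closure_eq, hD.closure_eq]
      exact Set.eq_empty_iff_forall_notMem.2 fun x hx => hx.1.2 hx.2.1
    obtain ⟨g, hg, g', hg', hgg'⟩ := Submodule.mem_sup.1 ((Ideal.eq_top_iff_one _).1 htop)
    let φ : A →+* Γ(V, ⊤) := j.appTop.hom.comp (Scheme.ΓSpecIso (CommRingCat.of A)).inv.hom
    have hbo : ∀ a, V.basicOpen (φ a) = j ⁻¹ᵁ PrimeSpectrum.basicOpen a := fun a => by
      change V.basicOpen (j.appTop.hom _) = _
      rw [← Scheme.preimage_basicOpen_top]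
      exact congrArg (j ⁻¹ᵁ ·) (AlgebraicGeometry.basicOpen_eq_of_affine (R := CommRingCat.of A) a)
    refine isAffine_of_isAffineOpen_basicOpen {φ g, φ g'} ?_ ?_
    · refine (Ideal.eq_top_iff_one _).2 ?_
      rw [← map_one φ, ← hgg', map_add]
      exact Ideal.add_mem _ (Ideal.subset_span (by simp)) (Ideal.subset_span (by simp))
    rintro i (rfl | rfl)
    · rw [hbo]
      haveI : IsClosedImmersion (j ∣_ PrimeSpectrum.basicOpen g) := by
        refine IsClosedImmersion.of_isPreimmersion _ ?_
        refine isClosed_induced_iff.2 ⟨closure (Set.range ⇑j), isClosed_closure, ?_⟩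
        ext y
        constructor
        · intro hy
          by_cases hyj : y.1 ∈ Set.range ⇑j
          · obtain ⟨x, hx⟩ := hyj
            exact ⟨⟨x, show j x ∈ PrimeSpectrum.basicOpen g from hx ▸ y.2⟩, Subtype.ext (by simpa [morphismRestrict_base] using hx)⟩
          · exact absurd ((PrimeSpectrum.mem_vanishingIdeal C g).1 hg y.1 ⟨hy, hyj⟩) y.2
        · rintro ⟨x, rfl⟩
          exact subset_closure ⟨x.1, by simp [morphismRestrict_base]⟩
      let O : (Spec (CommRingCat.of A)).Opens := PrimeSpectrum.basicOpen g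
      haveI : IsAffine O.toScheme := IsAffineOpen.Spec_basicOpen (R := CommRingCat.of A) g
      haveI : IsClosedImmersion (j ∣_ O) := ‹_›
      exact isAffine_of_isAffineHom (j ∣_ O)
    · rw [hbo]
      have hle : j ⁻¹ᵁ PrimeSpectrum.basicOpen g' ≤ j ⁻¹ᵁ PrimeSpectrum.basicOpen f := fun x hx => by
        by_contra hf
        exact hx ((PrimeSpectrum.mem_vanishingIdeal D g').1 hg' _ ⟨⟨x, rfl⟩, Set.singleton_subset_iff.2 (not_not.1 hf)⟩)
      have h := haff.basicOpen (V.presheaf.map (homOfLE le_top).op (φ g'))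
      rw [Scheme.basicOpen_res, hbo, inf_eq_right.2 hle] at h
      exact h

end Groth.Agent.S1890
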