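import Groth.Statements.S18908
import Mathlib.FieldTheory.SeparableDegree
import Mathlib.RingTheory.TensorProduct.Free
import Mathlib.LinearAlgebra.Dual.Lemmas
import Mathlib.FieldTheory.PrimitiveElement

set_option autoImplicit false
universe u v w
open scoped TensorProduct
open CAlg

namespace Groth.Agent.S18908

/-- Let K ⊇ k be a finite field extension of degree n and Ω ⊇ k an algebraically closed extension. Then
K is separable over k if and only if Ω ⊗_k K is isomorphic, as an Ω-algebra, to the product of n
copies of Ω. (The source says 'for every (some) algebraically closed extension Ω'; the equivalence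
is stated for each fixed Ω, which gives both readings.) -/
theorem result (k : Type u) (K : Type v) (Ω : Type w)
    [Field k] [Field K] [Algebra k K] [FiniteDimensional k K]
    [Field Ω] [Algebra k Ω] [IsAlgClosed Ω] :
    Algebra.IsSeparable k K ↔ Nonempty ((Ω ⊗[k] K) ≃ₐ[Ω] (Fin (Module.finrank k K) → Ω)) := by
  classical
  haveI : Fintype (K →ₐ[k] Ω) := Fintype.ofFinite _
  have hcard : Algebra.IsSeparable k K ↔ Fintype.card (K →ₐ[k] Ω) = Module.finrank k K := by
    rw [← Field.finSepDegree_eq_finrank_iff, Field.finSepDegree_eq_of_isAlgClosed k K Ω, Nat.card_eq_fintype_card]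
  have hdim : Module.finrank Ω (Ω ⊗[k] K) = Module.finrank k K := Module.finrank_baseChange
  let Φ : (Ω ⊗[k] K) →ₐ[Ω] ((K →ₐ[k] Ω) → Ω) :=
    Algebra.TensorProduct.lift (Algebra.ofId Ω _) (AlgHom.pi fun σ => σ) fun _ _ => Commute.all _ _
  have hΦ : ∀ x σ, Φ (1 ⊗ₜ x) σ = σ x := fun x σ => by
    rw [Algebra.TensorProduct.lift_tmul, map_one, one_mul]
    rfl
  have hsurj : Function.Surjective Φ := by
    suffices htop : LinearMap.range Φ.toLinearMap = ⊤ by
      exact LinearMap.range_eq_top.mp htop
    by_contra hne
    obtain ⟨y, -, hy⟩ := SetLike.exists_of_lt (lt_top_iff_ne_top.mpr hne)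
    obtain ⟨ψ, hψy, hψ⟩ := Submodule.exists_le_ker_of_notMem hy
    have hc : ∀ z : (K →ₐ[k] Ω) → Ω, ψ z = ∑ σ, ψ (Pi.single σ 1) * z σ := fun z => by
      conv_lhs => rw [pi_eq_sum_univ' z]
      simp [map_sum, mul_comm, Pi.single_apply, eq_comm]
    have hli := linearIndependent_algHom_toLinearMap k K Ω
    rw [Fintype.linearIndependent_iff] at hli
    have h0 := hli (fun σ => ψ (Pi.single σ 1)) <| LinearMap.ext fun x => by
      have h1 : ψ (Φ (1 ⊗ₜ x)) = 0 := hψ ⟨1 ⊗ₜ x, rfl⟩
      rw [hc] at h1
      simp only [hΦ] at h1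
      simpa [LinearMap.sum_apply, smul_eq_mul] using h1
    exact hψy (by rw [hc]; simp [h0])
  rw [hcard]
  constructor
  · intro hc
    have hbij : Function.Bijective Φ := ⟨(LinearMap.injective_iff_surjective_of_finrank_eq_finrank (f := Φ.toLinearMap)
      (by rw [hdim, Module.finrank_pi, hc])).mpr hsurj, hsurj⟩
    exact ⟨(AlgEquiv.ofBijective Φ hbij).trans
      (AlgEquiv.piCongrLeft Ω (fun _ => Ω) (Fintype.equivFinOfCardEq hc))⟩
  · rintro ⟨e⟩
    refine le_antisymm ?_ ?_
    · have := LinearMap.finrank_le_finrank_of_surjective (f := Φ.toLinearMap) hsurj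
      rwa [Module.finrank_pi, hdim] at this
    · let g : Fin (Module.finrank k K) → (K →ₐ[k] Ω) := fun i =>
        (((Pi.evalAlgHom Ω (fun _ => Ω) i).comp e.toAlgHom).restrictScalars k).comp
          Algebra.TensorProduct.includeRight
      have hg : Function.Injective g := by
        intro i j hij
        by_contra hne
        have h1 : ∀ z, e z i = e z j := by
          intro z
          induction z using TensorProduct.induction_on with
          | zero => simp
          | tmul c x =>
            have h2 : e (1 ⊗ₜ x) i = e (1 ⊗ₜ x) j := AlgHom.congr_fun hij x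
            rw [show c ⊗ₜ[k] x = c • ((1 : Ω) ⊗ₜ[k] x) by rw [TensorProduct.smul_tmul', smul_eq_mul, mul_one],
              map_smul, Pi.smul_apply, Pi.smul_apply, h2]
          | add a b ha hb => simp [ha, hb]
        obtain ⟨z, hz⟩ := e.surjective (Pi.single i 1)
        have := h1 z
        rw [hz, Pi.single_eq_same, Pi.single_eq_of_ne (Ne.symm hne)] at this
        exact one_ne_zero this
      simpa using Fintype.card_le_of_injective g hg


end Groth.Agent.S18908
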