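import Groth.Statements.S18912
import Mathlib
-- import your own Groth.Agent.* helpers here

set_option autoImplicit false
universe u
open CategoryTheory CategoryTheory.Limits AlgebraicGeometry
open TFNodal

namespace Groth.Agent.S18912

/-- Let k be an algebraically closed field of characteristic zero, X a reduced scheme locally of finite
type over k, F an O_X-module, d ≥ 1 an integer and τ, τ' : F → O_X two O_X-linear maps whose d-th
symmetric powers agree, in the sense that for every open U and all sections a_1, …, a_d of F over U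
the products τ(a_1)⋯τ(a_d) and τ'(a_1)⋯τ'(a_d) coincide in Γ(U, O_X). Then for every point η of X
whose local ring is a field (a generic point of an irreducible component) there is a d-th root of
unity ξ in k such that, for every section a of F over an open containing η, the germ of τ'(a) at η
is ξ times the germ of τ(a). The published statement is for a coherent module on a projective nodal
curve and concludes that τ' = ξ τ with one root of unity ξ on each connected component; that form
fails for the union of two lines meeting at a node, F the ideal of the node, τ the inclusion and τ'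
equal to τ on one line and to −τ on the other (d = 2), so the conclusion is stated here at each
generic point, i.e. per irreducible component, which is what the stalkwise argument yields. -/
theorem result
    (k : Type u) [Field k] [IsAlgClosed k] [CharZero k]
    (X : Scheme.{u}) [X.Over (Spec (CommRingCat.of k))]
    [LocallyOfFiniteType (X ↘ Spec (CommRingCat.of k))] [AlgebraicGeometry.IsReduced X]
    (F : X.Modules) (τ τ' : F ⟶ Coh.structureModule X) (d : ℕ) (hd : 1 ≤ d)
    (hS : ∀ (U : X.Opens) (a : Fin d → Γ(F, U)),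
      (∏ i, (τ.app U (a i) : Γ(X, U)) : Γ(X, U)) = (∏ i, (τ'.app U (a i) : Γ(X, U)) : Γ(X, U)))
    (η : X) (hη : IsField (X.presheaf.stalk η)) :
    ∃ ξ : k, ξ ^ d = 1 ∧ ∀ (U : X.Opens) (hU : η ∈ U) (a : Γ(F, U)),
      (X.presheaf.germ U η hU (τ'.app U a : Γ(X, U)) : X.presheaf.stalk η) =
        Curv2.stalkMap k X η ξ * X.presheaf.germ U η hU (τ.app U a : Γ(X, U)) := by
  classical
  letI := hη.toField
  let σ := Curv2.stalkMap k X η
  let ev : (τ₀ : F ⟶ Coh.structureModule X) → (U : X.Opens) → η ∈ U → Γ(F, U) → X.presheaf.stalk η :=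
    fun τ₀ U hU a => X.presheaf.germ U η hU (τ₀.app U a : Γ(X, U))
  have hres : ∀ (τ₀ : F ⟶ Coh.structureModule X) (U U' : X.Opens) (h : U' ≤ U) (hU' : η ∈ U') (a : Γ(F, U)),
      ev τ₀ U' hU' (F.presheaf.map (homOfLE h).op a) = ev τ₀ U (h hU') a := by
    intro τ₀ U U' h hU' a
    have e : (τ₀.app U' (F.presheaf.map (homOfLE h).op a) : Γ(X, U')) =
        X.presheaf.map (homOfLE h).op (τ₀.app U a : Γ(X, U)) :=
      ConcreteCategory.congr_hom (τ₀.mapPresheaf.naturality (homOfLE h).op) a
    simp only [ev]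
    rw [e, TopCat.Presheaf.germ_res_apply]
  have hprod : ∀ (U : X.Opens) (hU : η ∈ U) (a : Fin d → Γ(F, U)),
      ∏ i, ev τ U hU (a i) = ∏ i, ev τ' U hU (a i) := fun U hU a => by
    simp only [ev]
    rw [← map_prod, ← map_prod, hS U a]
  by_cases h0 : ∀ (U : X.Opens) (hU : η ∈ U) (a : Γ(F, U)), ev τ U hU a = 0
  · refine ⟨1, one_pow d, fun U hU a => ?_⟩
    have h1 := hprod U hU (fun _ => a)
    simp only [h0 U hU a, Finset.prod_const, Finset.card_univ, Fintype.card_fin, zero_pow (by omega : d ≠ 0)] at h1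
    change ev τ' U hU a = σ 1 * ev τ U hU a
    rw [h0 U hU a, mul_zero]
    exact eq_zero_of_pow_eq_zero h1.symm
  · push_neg at h0
    obtain ⟨U₀, hU₀, a₀, ha₀⟩ := h0
    let c := ev τ' U₀ hU₀ a₀ / ev τ U₀ hU₀ a₀
    have hc : c ^ d = 1 := by
      have h1 := hprod U₀ hU₀ (fun _ => a₀)
      simp only [Finset.prod_const, Finset.card_univ, Fintype.card_fin] at h1
      rw [div_pow, ← h1, div_self (pow_ne_zero _ ha₀)]
    haveI : NeZero d := ⟨by omega⟩
    haveI : NeZero (d : k) := ⟨Nat.cast_ne_zero.2 (by omega)⟩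
    obtain ⟨ζ, hζ⟩ := HasEnoughRootsOfUnity.exists_primitiveRoot k d
    obtain ⟨i, -, hi⟩ := (hζ.map_of_injective σ.injective).eq_pow_of_pow_eq_one hc
    refine ⟨ζ ^ i, by rw [← pow_mul, mul_comm, pow_mul, hζ.pow_eq_one, one_pow], fun U hU a => ?_⟩
    change ev τ' U hU a = σ (ζ ^ i) * ev τ U hU a
    rw [map_pow, hi]
    obtain ⟨m, rfl⟩ : ∃ m, d = m + 1 := ⟨d - 1, by omega⟩
    have hW : η ∈ U₀ ⊓ U := ⟨hU₀, hU⟩
    have h1 := hprod (U₀ ⊓ U) hW
      (Fin.cons (F.presheaf.map (homOfLE (inf_le_right : U₀ ⊓ U ≤ U)).op a)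
        (fun _ : Fin m => F.presheaf.map (homOfLE (inf_le_left : U₀ ⊓ U ≤ U₀)).op a₀))
    simp only [Fin.prod_univ_succ, Fin.cons_zero, Fin.cons_succ, Finset.prod_const, Finset.card_univ,
      Fintype.card_fin, hres] at h1
    have h2 : ev τ U₀ hU₀ a₀ ^ (m + 1) = ev τ' U₀ hU₀ a₀ ^ (m + 1) := by
      have := hprod U₀ hU₀ (fun _ => a₀)
      simpa using this
    change ev τ' U hU a = ev τ' U₀ hU₀ a₀ / ev τ U₀ hU₀ a₀ * ev τ U hU a
    rw [div_mul_eq_mul_div, eq_div_iff ha₀]
    apply mul_left_cancel₀ (pow_ne_zero m (fun h => ha₀ (by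
      have h3 := h2
      rw [h, zero_pow (by omega)] at h3
      exact eq_zero_of_pow_eq_zero h3) : ev τ' U₀ hU₀ a₀ ≠ 0))
    linear_combination (-(ev τ U₀ hU₀ a₀)) * h1 + ev τ U hU a * h2

end Groth.Agent.S18912
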