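import Groth.Statements.S18916
import Groth.Agent.ReflStalk.Global
import Mathlib
-- import your own Groth.Agent.* helpers here

set_option autoImplicit false
universe u
open CategoryTheory CategoryTheory.Limits AlgebraicGeometry
open TFNodal

namespace Groth.Agent.S18916

/-- Let k be an algebraically closed field of characteristic zero, X a reduced proper curve over k (a
proper k-scheme of dimension one) without isolated points (no closed point is open, i.e. X is
one-dimensional at every point) and F a coherent O_X-module. Then the dual 𝓗om(F, O_X) is torsion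
free: no closed point of X is an associated point of it. -/
theorem result
    (k : Type u) [Field k] [IsAlgClosed k] [CharZero k]
    (X : Scheme.{u}) [X.Over (Spec (CommRingCat.of k))] [IsProper (X ↘ Spec (CommRingCat.of k))]
    [AlgebraicGeometry.IsReduced X] (hdim : topologicalKrullDim X = 1)
    (hpure : ∀ x : X, IsClosed ({x} : Set X) → ¬ IsOpen ({x} : Set X))
    (F : X.Modules) (hF : Coh.IsCoh F) (x : X) (hx : IsClosed ({x} : Set X)) :
    ¬ Curv2.IsAssPoint (RefHull.dual F) x := by
  intro hass
  haveI : IsLocallyNoetherian X := LocallyOfFiniteType.isLocallyNoetherian (X ↘ Spec (CommRingCat.of k))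
  haveI : CompactSpace X := QuasiCompact.compactSpace_of_compactSpace (X ↘ Spec (CommRingCat.of k))
  haveI : IsNoetherian X := {}
  let e := Groth.Agent.ReflStalk.toDual F x (Groth.Agent.ReflStalk.evalStalk_bijective hF x)
  obtain ⟨hp, θ, hθ⟩ := hass
  set R := X.presheaf.stalk x
  have hne : e θ ≠ 0 := fun h => by
    have h1 : θ = 0 := e.injective (h.trans (map_zero e).symm)
    refine (IsLocalRing.maximalIdeal.isMaximal R).ne_top ?_
    rw [hθ, h1]
    simp
  obtain ⟨v, hv⟩ : ∃ v, e θ v ≠ 0 := by
    by_contra h
    push_neg at h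
    exact hne (LinearMap.ext h)
  have hm : ∀ a ∈ IsLocalRing.maximalIdeal R, a * e θ v = 0 := by
    intro a ha
    rw [hθ] at ha
    obtain ⟨n, hn⟩ := ha
    have hn' : a ^ n • θ = 0 := by simpa using hn
    have h1 : a ^ n * e θ v = 0 := by
      rw [← smul_eq_mul, ← LinearMap.smul_apply, ← map_smul, hn', map_zero, LinearMap.zero_apply]
    rcases Nat.eq_zero_or_pos n with rfl | hn0
    · exact absurd (by simpa using h1) hv
    · exact eq_zero_of_pow_eq_zero (n := n) (by
        obtain ⟨m, rfl⟩ : ∃ m, n = m + 1 := ⟨n - 1, by omega⟩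
        rw [mul_pow, pow_succ (e θ v), ← mul_assoc, mul_comm (a ^ (m+1)), mul_assoc, h1, mul_zero])
  have hu : IsUnit (e θ v) := by
    by_contra h
    exact hv (eq_zero_of_pow_eq_zero (n := 2) (by rw [pow_two]; exact hm _ h))
  have hfield : IsField R := by
    rw [IsLocalRing.isField_iff_maximalIdeal_eq, eq_bot_iff]
    intro a ha
    exact (hu.mul_left_eq_zero).1 (hm a ha)
  have hgen : ∀ y : X, y ⤳ x → y = x := by
    intro y hy
    have hy' : y ∈ Set.range (X.fromSpecStalk x) := by rw [Scheme.range_fromSpecStalk]; exact hy
    obtain ⟨q, rfl⟩ := hy'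
    letI := hfield.toField
    haveI : Subsingleton (Spec (X.presheaf.stalk x)) := inferInstanceAs (Subsingleton (PrimeSpectrum R))
    rw [Subsingleton.elim q (IsLocalRing.closedPoint R)]
    exact Scheme.fromSpecStalk_closedPoint
  refine hpure x hx ?_
  have hfin : (irreducibleComponents (X : Type u)).Finite := TopologicalSpace.NoetherianSpace.finite_irreducibleComponents
  have hcl : IsClosed (⋃₀ {C ∈ irreducibleComponents (X : Type u) | x ∉ C}) := by
    rw [Set.sUnion_eq_biUnion]
    exact (hfin.subset fun C h => h.1).isClosed_biUnion fun C h => isClosed_of_mem_irreducibleComponents C h.1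
  have heq : ({x} : Set X) = (⋃₀ {C ∈ irreducibleComponents (X : Type u) | x ∉ C})ᶜ := by
    ext y
    constructor
    · rintro rfl ⟨C, ⟨-, hxC⟩, hC⟩
      exact hxC hC
    · intro hy
      have hC := irreducibleComponent_mem_irreducibleComponents y
      have hxC : x ∈ irreducibleComponent y := by
        by_contra hxC
        exact hy ⟨_, ⟨hC, hxC⟩, mem_irreducibleComponent⟩
      obtain ⟨g, hg⟩ := QuasiSober.sober isIrreducible_irreducibleComponent isClosed_irreducibleComponent (S := irreducibleComponent y)
      have hgx : g = x := hgen g (hg.specializes hxC)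
      have h2 : y ∈ closure ({x} : Set X) := hgx ▸ (hg.def.symm ▸ mem_irreducibleComponent)
      rwa [hx.closure_eq] at h2
  rw [heq]
  exact hcl.isOpen_compl

end Groth.Agent.S18916
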