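import Groth.Statements.S18920
import Mathlib.Tactic.Ring
import Mathlib.Algebra.BigOperators.Finsupp.Basic

set_option autoImplicit false
universe u
open CAlg

namespace Groth.Agent.S18920

/-- Let M be a commutative monoid, s ≥ 1, and ξ_1, …, ξ_s elements of M with ξ_i ^ (s!/i) = 1 for 1 ≤ i
≤ s (an (s!/i)-th root of unity for each i). Suppose that for every finitely supported function d on
{1, …, s} with Σ_i i · d_i = s! the product ∏_i ξ_i ^ d_i equals 1. Then ξ_1 ^ j = ξ_j for every 1 ≤
j ≤ s. (The source works with roots of unity in the complex numbers.) -/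
theorem result
    {M : Type u} [CommMonoid M] (s : ℕ) (hs : 1 ≤ s) (ξ : ℕ → M)
    (hξ : ∀ i : ℕ, 1 ≤ i → i ≤ s → ξ i ^ (s.factorial / i) = 1)
    (hprod : ∀ d : ℕ →₀ ℕ, (∀ i ∈ d.support, 1 ≤ i ∧ i ≤ s) →
      (d.sum fun i n => i * n) = s.factorial → (d.prod fun i n => ξ i ^ n) = 1)
    (j : ℕ) (hj : 1 ≤ j) (hjs : j ≤ s) :
    ξ 1 ^ j = ξ j := by
  rcases Nat.lt_or_ge j 2 with hlt | hge
  · obtain rfl : j = 1 := by omega
    rw [pow_one]
  have hs1 : ξ 1 ^ s.factorial = 1 := by simpa using hξ 1 le_rfl hs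
  have hle : j ≤ s.factorial := le_trans hjs (Nat.self_le_factorial s)
  have hne : (1 : ℕ) ≠ j := by omega
  have := hprod (Finsupp.single j 1 + Finsupp.single 1 (s.factorial - j)) (by
      intro i hi
      rcases Finset.mem_union.mp (Finsupp.support_add hi) with h | h
      · have := Finset.mem_singleton.mp (Finsupp.support_single_subset h); omega
      · have := Finset.mem_singleton.mp (Finsupp.support_single_subset h); omega)
    (by
      rw [Finsupp.sum_add_index' (fun i => by simp) (fun i a b => by ring)]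
      simp; omega)
  rw [Finsupp.prod_add_index' (fun i => by simp) (fun i a b => pow_add _ _ _)] at this
  simp at this
  calc ξ 1 ^ j = ξ 1 ^ j * (ξ j * ξ 1 ^ (s.factorial - j)) := by rw [this, mul_one]
    _ = ξ j * ξ 1 ^ (j + (s.factorial - j)) := by rw [pow_add]; exact mul_left_comm _ _ _
    _ = ξ j := by rw [Nat.add_sub_of_le hle, hs1, mul_one]

end Groth.Agent.S18920
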