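import Groth.Statements.S18922
import Mathlib
import Groth.Agent.FlatOver.Basic
-- import your own Groth.Agent.* helpers here

set_option autoImplicit false
universe u
open CategoryTheory CategoryTheory.Limits AlgebraicGeometry
open TFNodal

namespace Groth.Agent.S18922

/-- Let k be an algebraically closed field of characteristic zero, X a reduced proper curve over k (a
proper k-scheme of dimension one) and F a coherent torsion free O_X-module (every stalk a torsion
free module over the local ring). Let x be a point of X and U an open subset containing x such that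
every irreducible component of U passes through x, that is, every point of U whose local ring is a
field specializes to x. Then the map from the sections of F over U to the stalk F_x is injective.
(The source states this for x a node of a connected nodal curve and U inside the union of the
irreducible components through x, meeting no other node.) -/
theorem result
    (k : Type u) [Field k] [IsAlgClosed k] [CharZero k]
    (X : Scheme.{u}) [X.Over (Spec (CommRingCat.of k))] [IsProper (X ↘ Spec (CommRingCat.of k))]
    [AlgebraicGeometry.IsReduced X] (hdim : topologicalKrullDim X = 1)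
    (F : X.Modules) (hF : Coh.IsCoh F) (htF : TorSh.IsTorsionFree F)
    (x : X) (U : X.Opens) (hxU : x ∈ U)
    (hU : ∀ y : X, y ∈ U → IsField (X.presheaf.stalk y) → x ∈ closure ({y} : Set X)) :
    Function.Injective (F.presheaf.germ U x hxU) := by
  classical
  rw [injective_iff_map_eq_zero]
  intro s hs
  have hgen : ∀ y : X, (hy : y ∈ U) → IsField (X.presheaf.stalk y) → F.presheaf.germ U y hy s = 0 := by
    intro y hy hf
    obtain ⟨W, hxW, i₁, i₂, he⟩ := TopCat.Presheaf.germ_eq F.presheaf x hxU hxU s 0 (hs.trans (map_zero _).symm)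
    have hyW : y ∈ W := (specializes_iff_mem_closure.2 (hU y hy hf)).mem_open W.isOpen hxW
    rw [← TopCat.Presheaf.germ_res_apply F.presheaf i₁ y hyW s, he, map_zero, map_zero]
  refine TopCat.Presheaf.section_ext (C := AddCommGrpCat.{u}) ⟨F.presheaf, F.isSheaf⟩ U _ _ fun z hz => ?_
  change F.presheaf.germ U z hz s = F.presheaf.germ U z hz 0
  rw [map_zero]
  haveI := hF.1
  haveI : IsLocallyNoetherian X := LocallyOfFiniteType.isLocallyNoetherian (X ↘ Spec (CommRingCat.of k))
  obtain ⟨V, hV, hzV, hVU⟩ := exists_isAffineOpen_mem_and_subset (x := z) (U := U) hz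
  haveI : IsNoetherianRing Γ(X, V) := IsLocallyNoetherian.component_noetherian ⟨V, hV⟩
  let s' : Γ(F, V) := F.presheaf.map (homOfLE hVU).op s
  let J : Ideal Γ(X, V) := LinearMap.ker (LinearMap.toSpanSingleton Γ(X, V) Γ(F, V) s')
  have hJ : ∀ p ∈ minimalPrimes Γ(X, V), ¬ J ≤ p := by
    intro p hp hJp
    haveI : p.IsPrime := Ideal.minimalPrimes_isPrime hp
    let y : X := hV.fromSpec ⟨p, inferInstance⟩
    have hy : y ∈ V := by
      have := Set.mem_range_self (f := hV.fromSpec) (⟨p, inferInstance⟩ : PrimeSpectrum Γ(X, V))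
      rwa [hV.range_fromSpec] at this
    have hyp : (hV.primeIdealOf ⟨y, hy⟩).asIdeal = p :=
      congrArg PrimeSpectrum.asIdeal (hV.fromSpec.isOpenEmbedding.injective (hV.fromSpec_primeIdealOf ⟨y, hy⟩))
    letI := (X.presheaf.germ V y hy).hom.toAlgebra
    haveI hloc : IsLocalization.AtPrime (X.presheaf.stalk y) (hV.primeIdealOf ⟨y, hy⟩).asIdeal := hV.isLocalization_stalk ⟨y, hy⟩
    have hf : IsField (X.presheaf.stalk y) := by
      haveI : Ring.KrullDimLE 0 (X.presheaf.stalk y) := by
        have hm : (hV.primeIdealOf ⟨y, hy⟩).asIdeal ∈ minimalPrimes Γ(X, V) := by rw [hyp]; exact hp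
        have := IsLocalization.AtPrime.ringKrullDim_eq_height (hV.primeIdealOf ⟨y, hy⟩).asIdeal (X.presheaf.stalk y)
        rw [(Ideal.height_eq_zero_iff).2 hm] at this
        exact (Ring.krullDimLE_iff).2 (by rw [this]; rfl)
      exact Ring.KrullDimLE.isField_of_isReduced
    have h0 := hgen y (hVU hy) hf
    rw [← TopCat.Presheaf.germ_res_apply F.presheaf (homOfLE hVU) y hy s] at h0
    letI := Groth.Agent.FlatOver.germModule F y hy
    haveI := Groth.Agent.FlatOver.isLocalizedModule_germₗ F hV y hy
    obtain ⟨⟨c, hc⟩, hcs⟩ := (IsLocalizedModule.eq_zero_iff (hV.primeIdealOf ⟨y, hy⟩).asIdeal.primeCompl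
      (Groth.Agent.FlatOver.germₗ F y hy)).1 (show Groth.Agent.FlatOver.germₗ F y hy s' = 0 from h0)
    exact hc (hyp.symm ▸ hJp (show c • s' = 0 from hcs))
  obtain ⟨a, haJ, ha⟩ : ∃ a ∈ J, ∀ p ∈ minimalPrimes Γ(X, V), a ∉ p := by
    by_contra h
    push_neg at h
    have hfin := minimalPrimes.finite_of_isNoetherianRing Γ(X, V)
    have hsub : (J : Set Γ(X, V)) ⊆ ⋃ p ∈ (hfin.toFinset : Set (Ideal Γ(X, V))), (p : Set Γ(X, V)) := fun a ha => by
      obtain ⟨p, hp, hap⟩ := h a ha
      exact Set.mem_biUnion (by simpa using hp) hap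
    obtain ⟨p, hp, hle⟩ := (Ideal.subset_union_prime (s := hfin.toFinset) ⊥ ⊥
      (fun p hp _ _ => Ideal.minimalPrimes_isPrime (by simpa using hp))).1 hsub
    exact hJ p (by simpa using hp) hle
  have hreg : IsRegular a := by
    have : ∀ b, a * b = 0 → b = 0 := fun b hb => by
      haveI : _root_.IsReduced Γ(X, V) := inferInstance
      have : b ∈ nilradical Γ(X, V) := by
        rw [show nilradical Γ(X, V) = Ideal.radical ⊥ from rfl, ← Ideal.sInf_minimalPrimes, Submodule.mem_sInf]
        intro p hp
        exact (Ideal.IsPrime.mem_or_mem (Ideal.minimalPrimes_isPrime hp) (show a * b ∈ p by rw [hb]; exact zero_mem _)).resolve_left (ha p hp)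
      rwa [nilradical_eq_zero, Submodule.zero_eq_bot, Ideal.mem_bot] at this
    exact (isRegular_iff_eq_zero_of_mul).2 ⟨this, fun b hb => this b (by rwa [mul_comm])⟩
  letI := (X.presheaf.germ V z hzV).hom.toAlgebra
  haveI : IsLocalization.AtPrime (X.presheaf.stalk z) (hV.primeIdealOf ⟨z, hzV⟩).asIdeal := hV.isLocalization_stalk ⟨z, hzV⟩
  haveI : Module.Flat Γ(X, V) (X.presheaf.stalk z) :=
    IsLocalization.flat (X.presheaf.stalk z) (hV.primeIdealOf ⟨z, hzV⟩).asIdeal.primeCompl
  have hreg' : IsRegular (algebraMap Γ(X, V) (X.presheaf.stalk z) a) := by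
    have h1 := Module.Flat.isSMulRegular_of_isRegular hreg (M := X.presheaf.stalk z)
    exact ⟨fun b c hbc => h1 (by simpa [Algebra.smul_def] using hbc), fun b c hbc => h1 (by simpa [Algebra.smul_def, mul_comm] using hbc)⟩
  haveI := htF z
  letI := Groth.Agent.FlatOver.germModule F z hzV
  have h0 : algebraMap Γ(X, V) (X.presheaf.stalk z) a • Groth.Agent.FlatOver.germₗ F z hzV s' = 0 :=
    (LinearMap.map_smul _ a s').symm.trans ((congrArg _ (show a • s' = 0 from haJ)).trans (map_zero _))
  have hz0 : Groth.Agent.FlatOver.germₗ F z hzV s' = 0 :=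
    Module.IsTorsionFree.isSMulRegular hreg' (h0.trans (smul_zero _).symm)
  rw [← TopCat.Presheaf.germ_res_apply F.presheaf (homOfLE hVU) z hzV s]
  exact hz0

end Groth.Agent.S18922
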