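import Groth.Statements.S18925
import Mathlib

set_option autoImplicit false
universe u
open ResHyp


namespace S18925Aux
open Polynomial Finset
open scoped Classical

variable {F : Type u} [Field F] [Fintype F]

noncomputable def pol {k : ℕ} (c : Fin k → F) : F[X] := ∑ i : Fin k, C (c i) * X ^ (i : ℕ)

lemma coeff_pol {k : ℕ} (c : Fin k → F) (j : ℕ) : (pol c).coeff j = if h : j < k then c ⟨j, h⟩ else 0 := by
  simp only [pol, finset_sum_coeff, coeff_C_mul_X_pow]
  split_ifs with h
  · rw [Finset.sum_eq_single (⟨j, h⟩ : Fin k)]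
    · simp
    · intro b _ hb; rw [if_neg]; intro e; exact hb (Fin.ext e.symm)
    · simp
  · exact Finset.sum_eq_zero fun b _ => if_neg (by have := b.2; omega)

lemma natDegree_pol {k : ℕ} (c : Fin (k + 1) → F) : (pol c).natDegree ≤ k := by
  rw [natDegree_le_iff_coeff_eq_zero]
  intro j hj
  rw [coeff_pol, dif_neg (by omega)]

lemma card_nonzero {m : ℕ} (S : Finset (Fin m)) :
    (univ.filter fun c : Fin m → F => ∀ i ∈ S, c i ≠ 0).card =
      (Fintype.card F - 1) ^ S.card * Fintype.card F ^ (m - S.card) := by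
  have : (univ.filter fun c : Fin m → F => ∀ i ∈ S, c i ≠ 0) =
      Fintype.piFinset fun i => if i ∈ S then univ.erase (0 : F) else univ := by
    ext c
    simp only [mem_filter, mem_univ, true_and, Fintype.mem_piFinset]
    refine forall_congr' fun i => ?_
    split_ifs with h <;> simp [h]
  rw [this, Fintype.card_piFinset]
  simp only [apply_ite Finset.card, card_erase_of_mem (mem_univ _), card_univ]
  rw [Finset.prod_ite, prod_const, prod_const]
  simp [Finset.filter_not, Finset.card_univ_diff]

lemma card_comp_update {m : ℕ} (z : Fin m) (T : (Fin m → F) → F)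
    (hT : ∀ c d, (∀ i, i ≠ z → c i = d i) → T c = T d → c = d) (P : (Fin m → F) → Prop) :
    (univ.filter fun c : Fin m → F => P (Function.update c z (T c))).card = (univ.filter P).card := by
  have hb : Function.Bijective (fun c : Fin m → F => Function.update c z (T c)) :=
    Finite.injective_iff_bijective.1 fun c d h => hT c d
      (fun i hi => by simpa [hi] using congrFun h i) (by simpa using congrFun h z)
  exact Finset.card_bijective _ hb (by simp)

lemma sum_split (f : F → ℕ) (A : ℕ) (h : ∀ x, x ≠ 0 → f x = A) :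
    ∑ x : F, f x = (Fintype.card F - 1) * A + f 0 := by
  rw [← Finset.sum_erase_add _ _ (mem_univ (0 : F)), Finset.sum_congr rfl (fun x hx => h x (mem_erase.1 hx).1)]
  simp [card_erase_of_mem]

def hh (a : Fin 3 → F) (r : F × F) : F := a 2 * r.1 ^ 2 - a 1 * r.1 * r.2 + a 0 * r.2 ^ 2

lemma res_quad (a : Fin 3 → F) (r : F × F) (m : ℕ) :
    resultant (pol a) (C r.1 + C r.2 * X) 2 (m + 2) = a 2 ^ (m + 1) * hh a r := by
  have hdeg : (C r.1 + C r.2 * X).natDegree ≤ 1 := by
    rw [add_comm]; exact natDegree_linear_le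
  rw [show m + 2 = 1 + (m + 1) by omega, resultant_add_right_deg _ _ _ _ _ hdeg]
  have hc : (pol a).coeff 2 = a 2 := by rw [coeff_pol]; rfl
  rw [hc]
  congr 1
  by_cases h : r.2 = 0
  · rw [h, map_zero, zero_mul, add_zero, resultant_C_right, hc, hh, h]; ring
  · have : C r.1 + C r.2 * X = C r.2 * (X - C (-r.1 / r.2)) := by
      rw [mul_sub, ← map_mul, mul_div_cancel₀ _ h, map_neg]; ring
    rw [this, resultant_C_mul_right, resultant_X_sub_C_right _ _ _ (natDegree_pol a)]
    simp only [pol, eval_finset_sum, Fin.sum_univ_three, eval_mul, eval_C, eval_pow, eval_X, hh]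
    field_simp
    simp [Fin.sum_univ_three]
    field_simp
    ring

noncomputable def R {m : ℕ} (a : Fin 3 → F) (c : Fin (m + 3) → F) : F := resultant (pol a) (pol c) 2 (m + 2)

noncomputable def N (m : ℕ) (a : Fin 3 → F) : ℕ := (univ.filter fun c : Fin (m + 3) → F => R a c ≠ 0).card

lemma N_quad (m : ℕ) (a : Fin 3 → F) (h : a 2 ≠ 0) :
    N m a = Fintype.card F ^ (m + 1) * (univ.filter fun r : F × F => hh a r ≠ 0).card := by
  let g : (Fin (m + 1) → F) × (F × F) → F[X] := fun x => C x.2.1 + C x.2.2 * X + pol a * pol x.1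
  have hfd : (pol a).degree = 2 := by
    refine degree_eq_of_le_of_coeff_ne_zero (natDegree_le_iff_degree_le.1 (natDegree_pol a)) ?_
    rw [coeff_pol]; exact h
  have hlin : ∀ r : F × F, (C r.1 + C r.2 * X : F[X]).natDegree ≤ 1 := fun r => by
    rw [add_comm]; exact natDegree_linear_le
  have hg : ∀ x, (g x).natDegree ≤ m + 2 := fun x =>
    natDegree_add_le_of_degree_le ((hlin _).trans (by omega))
      (natDegree_mul_le.trans (by have := natDegree_pol a; have := natDegree_pol x.1; omega))
  let e : (Fin (m + 1) → F) × (F × F) → (Fin (m + 3) → F) := fun x j => (g x).coeff j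
  have hpol : ∀ x, pol (e x) = g x := fun x => by
    ext j
    rw [coeff_pol]
    split_ifs with hj
    · rfl
    · exact (coeff_eq_zero_of_natDegree_lt (by have := hg x; omega)).symm
  have he : Function.Bijective e := by
    refine (Fintype.bijective_iff_injective_and_card _).2 ⟨fun x y hxy => ?_, ?_⟩
    · have h1 : g x = g y := by rw [← hpol, ← hpol, hxy]
      have h2 : pol a * (pol x.1 - pol y.1) = C (y.2.1 - x.2.1) + C (y.2.2 - x.2.2) * X := by
        simp only [g] at h1; rw [map_sub, map_sub]; linear_combination h1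
      have h3 : pol x.1 - pol y.1 = 0 := by
        by_contra hne
        have h5 := congrArg natDegree h2
        have hnd : (pol a).natDegree = 2 := natDegree_eq_of_degree_eq_some hfd
        rw [natDegree_mul (fun h0 => by simp [h0] at hnd) hne, hnd] at h5
        have := hlin (y.2.1 - x.2.1, y.2.2 - x.2.2)
        simp only at this; omega
      rw [h3, mul_zero] at h2
      refine Prod.ext (funext fun i => ?_) (Prod.ext ?_ ?_)
      · have := congrArg (fun p => coeff p i) (sub_eq_zero.1 h3)
        simp only [coeff_pol, i.2, dif_pos] at this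
        exact this
      · have := congrArg (fun p => coeff p 0) h2
        simp at this; exact (sub_eq_zero.1 this.symm).symm
      · have := congrArg (fun p => coeff p 1) h2
        simp at this; exact (sub_eq_zero.1 this.symm).symm
    · simp only [Fintype.card_prod, Fintype.card_fun, Fintype.card_fin]; ring
  unfold N
  rw [← Finset.card_bijective e he (s := univ.filter fun x => hh a x.2 ≠ 0)]
  · rw [show (univ.filter fun x : (Fin (m + 1) → F) × (F × F) => hh a x.2 ≠ 0) =
      univ ×ˢ (univ.filter fun r : F × F => hh a r ≠ 0) by ext; simp]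
    simp [Finset.card_product]
  · intro x
    simp only [mem_filter, mem_univ, true_and, R]
    rw [hpol x]
    simp only [g]
    rw [resultant_add_mul_right _ _ _ _ _ (by have := natDegree_pol x.1; omega) (natDegree_pol a),
      res_quad]
    simp [h]

lemma res_low (a : Fin 3 → F) (h : a 2 = 0) {m : ℕ} (c : Fin (m + 3) → F) :
    R a c ≠ 0 ↔ c (Fin.last (m + 2)) ≠ 0 ∧ (a 1 = 0 ∧ a 0 ≠ 0 ∨ a 1 ≠ 0 ∧ (pol c).eval (-a 0 / a 1) ≠ 0) := by
  have hp : pol a = C (a 1) * X + C (a 0) := by
    simp [pol, Fin.sum_univ_three, h]; ring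
  have hl : (pol c).coeff (m + 2) = c (Fin.last (m + 2)) := by rw [coeff_pol, dif_pos (by omega)]; rfl
  unfold R
  rw [resultant_succ_left_deg _ _ _ _ (hp ▸ natDegree_linear_le), hl, hp]
  by_cases h1 : a 1 = 0
  · rw [h1, map_zero, zero_mul, zero_add, resultant_C_left, hl]
    simp
  · have : C (a 1) * X + C (a 0) = C (a 1) * (X - C (-a 0 / a 1)) := by
      rw [mul_sub, ← map_mul, mul_div_cancel₀ _ h1, map_neg]; ring
    rw [this, resultant_C_mul_left, resultant_X_sub_C_left _ _ _ (natDegree_pol c)]
    simp [h1]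

lemma N_low (m : ℕ) (a : Fin 3 → F) (h : a 2 = 0) :
    N m a = if a 1 ≠ 0 then (Fintype.card F - 1) ^ 2 * Fintype.card F ^ (m + 1)
      else if a 0 ≠ 0 then (Fintype.card F - 1) * Fintype.card F ^ (m + 2) else 0 := by
  unfold N
  simp only [res_low a h]
  split_ifs with h1 h0
  · have hne : (0 : Fin (m + 3)) ≠ Fin.last (m + 2) := by simp [Fin.ext_iff]
    have key : ∀ c d : Fin (m + 3) → F, (∀ i, i ≠ 0 → c i = d i) →
        (pol c).eval (-a 0 / a 1) = (pol d).eval (-a 0 / a 1) → c = d := by
      intro c d hcd he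
      simp only [pol, eval_finset_sum, Fin.sum_univ_succ (n := m + 2), eval_mul, eval_C, eval_pow, eval_X,
        hcd _ (Fin.succ_ne_zero _)] at he
      funext i
      by_cases hi : i = 0
      · subst hi; simpa using he
      · exact hcd i hi
    calc _ = (univ.filter fun c : Fin (m + 3) → F =>
          (fun d => ∀ i ∈ ({Fin.last (m + 2), 0} : Finset (Fin (m + 3))), d i ≠ 0)
            (Function.update c 0 ((pol c).eval (-a 0 / a 1)))).card := by
            congr 1
            ext c
            simp [h1, hne.symm]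
      _ = _ := by
            refine Eq.trans ?_ ((card_comp_update 0 _ key (fun d => ∀ i ∈ ({Fin.last (m + 2), 0} : Finset (Fin (m + 3))), d i ≠ 0)).trans ?_)
            · congr!
            rw [show (Fintype.card F - 1) ^ 2 * Fintype.card F ^ (m + 1) = (Fintype.card F - 1) ^ ({Fin.last (m + 2), 0} : Finset (Fin (m + 3))).card * Fintype.card F ^ (m + 3 - ({Fin.last (m + 2), 0} : Finset (Fin (m + 3))).card) by rw [card_pair hne.symm]; congr 2]
            convert card_nonzero (F := F) ({Fin.last (m + 2), 0} : Finset (Fin (m + 3))) using 3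
  · have h1' : a 1 = 0 := not_not.1 h1
    calc _ = (univ.filter fun c : Fin (m + 3) → F => ∀ i ∈ ({Fin.last (m + 2)} : Finset (Fin (m + 3))), c i ≠ 0).card := by
            congr 1; ext c; simp [h1', h0]
      _ = _ := by rw [card_nonzero, card_singleton, pow_one]; rfl
  · rw [card_eq_zero, filter_eq_empty_iff]
    intro c _
    tauto

lemma sum_quad (m : ℕ) : ∑ a ∈ univ.filter (fun a : Fin 3 → F => a 2 ≠ 0), N m a =
    Fintype.card F ^ (m + 4) * (Fintype.card F - 1) ^ 2 := by
  rw [Finset.sum_congr rfl fun a ha => N_quad m a (mem_filter.1 ha).2, ← Finset.mul_sum]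
  have : ∑ a ∈ univ.filter (fun a : Fin 3 → F => a 2 ≠ 0), (univ.filter fun r : F × F => hh a r ≠ 0).card =
      ∑ r : F × F, (univ.filter fun a : Fin 3 → F => a 2 ≠ 0 ∧ hh a r ≠ 0).card := by
    simp only [card_filter]
    rw [Finset.sum_filter, Finset.sum_comm]
    refine Finset.sum_congr rfl fun a _ => ?_
    split_ifs <;> simp [*]
  rw [this]
  have hr : ∀ r : F × F, (univ.filter fun a : Fin 3 → F => a 2 ≠ 0 ∧ hh a r ≠ 0).card =
      if r.2 ≠ 0 then (Fintype.card F - 1) ^ 2 * Fintype.card F
      else if r.1 ≠ 0 then (Fintype.card F - 1) * Fintype.card F ^ 2 else 0 := by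
    intro r
    split_ifs with h2 h1
    · have key : ∀ c d : Fin 3 → F, (∀ i, i ≠ 0 → c i = d i) → hh c r = hh d r → c = d := by
        intro c d hcd he
        simp only [hh, hcd 1 (by simp), hcd 2 (by simp)] at he
        funext i
        by_cases hi : i = 0
        · subst hi; simpa [h2] using he
        · exact hcd i hi
      calc _ = (univ.filter fun c : Fin 3 → F => (fun d => ∀ i ∈ ({2, 0} : Finset (Fin 3)), d i ≠ 0)
            (Function.update c 0 (hh c r))).card := by
              congr 1; ext c; simp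
        _ = _ := by
              refine Eq.trans ?_ ((card_comp_update 0 _ key (fun d => ∀ i ∈ ({2, 0} : Finset (Fin 3)), d i ≠ 0)).trans ?_)
              · congr!
              rw [show (Fintype.card F - 1) ^ 2 * Fintype.card F = (Fintype.card F - 1) ^ ({2, 0} : Finset (Fin 3)).card * Fintype.card F ^ (3 - ({2, 0} : Finset (Fin 3)).card) by rw [card_pair (by decide : (2 : Fin 3) ≠ 0)]; simp]
              convert card_nonzero (F := F) ({2, 0} : Finset (Fin 3)) using 3
    · have h2' : r.2 = 0 := not_not.1 h2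
      calc _ = (univ.filter fun c : Fin 3 → F => ∀ i ∈ ({2} : Finset (Fin 3)), c i ≠ 0).card := by
              congr 1; ext c; simp [hh, h2', h1]
        _ = _ := by rw [card_nonzero]; simp
    · have h2' : r.2 = 0 := not_not.1 h2
      have h1' : r.1 = 0 := not_not.1 h1
      simp [hh, h2', h1']
  simp only [hr, Fintype.sum_prod_type]
  rw [Finset.sum_comm, sum_split _ _ (fun y hy => Finset.sum_congr rfl (fun x _ => if_pos hy)),
    sum_split (fun x : F => if (0 : F) ≠ 0 then _ else _) ((Fintype.card F - 1) * Fintype.card F ^ 2) (fun x hx => by simp [hx])]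
  simp only [Finset.sum_const, card_univ, smul_eq_mul, ne_eq, not_true_eq_false, if_false, add_zero]
  obtain ⟨q, hq⟩ : ∃ q, Fintype.card F = q + 1 := ⟨Fintype.card F - 1, by have := Fintype.card_pos (α := F); omega⟩
  simp only [hq, Nat.add_sub_cancel]
  ring

lemma sum_low (m : ℕ) : ∑ a ∈ univ.filter (fun a : Fin 3 → F => ¬ a 2 ≠ 0), N m a =
    Fintype.card F ^ (m + 3) * (Fintype.card F - 1) ^ 2 := by
  let e : (F × F × F) ≃ (Fin 3 → F) :=
    { toFun := fun x => ![x.1, x.2.1, x.2.2]
      invFun := fun a => (a 0, a 1, a 2)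
      left_inv := fun x => by simp
      right_inv := fun a => by funext i; fin_cases i <;> simp }
  rw [Finset.sum_congr rfl fun a ha => N_low m a (not_not.1 (mem_filter.1 ha).2), Finset.sum_filter,
    ← Equiv.sum_comp e]
  simp only [Fintype.sum_prod_type, e, Equiv.coe_fn_mk, Matrix.cons_val_zero, Matrix.cons_val_one,
    Matrix.cons_val, not_not, Finset.sum_ite_eq', mem_univ, if_true]
  rw [Finset.sum_comm]
  rw [sum_split _ _ (fun y hy => Finset.sum_congr rfl (fun x _ => if_pos hy)),
    sum_split (fun x : F => if (0 : F) ≠ 0 then _ else _) ((Fintype.card F - 1) * Fintype.card F ^ (m + 2)) (fun x hx => by simp [hx])]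
  simp only [Finset.sum_const, card_univ, smul_eq_mul, ne_eq, not_true_eq_false, if_false, add_zero]
  obtain ⟨q, hq⟩ : ∃ q, Fintype.card F = q + 1 := ⟨Fintype.card F - 1, by have := Fintype.card_pos (α := F); omega⟩
  simp only [hq, Nat.add_sub_cancel]
  ring

end S18925Aux

namespace Groth.Agent.S18925

/-- Let F be a finite field with q elements and let n ≥ 2. Count the pairs (f, g) where f is a binary
quadratic form and g a binary form of degree n over F, recorded by their coefficient vectors of
lengths 3 and n + 1 (leading coefficients may vanish), whose resultant — the Sylvester determinant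
of the two coefficient vectors with size parameters 2 and n — is nonzero, i.e. f and g have no
common zero on the projective line. The number of such pairs is q ^ (n + 4) - q ^ (n + 3) - q ^ (n +
2) + q ^ (n + 1). (The source's result is the compactly supported ℓ-adic cohomology of this locus:
one-dimensional of Tate weights n + 4, n + 3, n + 2, n + 1 in degrees 2n + 8, 2n + 7, 2n + 5, 2n + 4
and zero elsewhere; this row keeps only the resulting point count.) -/
theorem result (F : Type u) [Field F] [Fintype F] (n : ℕ) (h2 : 2 ≤ n) :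
    Nat.card {p : (Fin 3 → F) × (Fin (n + 1) → F) //
      Polynomial.resultant (∑ i : Fin 3, Polynomial.C (p.1 i) * Polynomial.X ^ (i : ℕ))
        (∑ j : Fin (n + 1), Polynomial.C (p.2 j) * Polynomial.X ^ (j : ℕ)) 2 n ≠ 0} =
      Fintype.card F ^ (n + 4) - Fintype.card F ^ (n + 3) - Fintype.card F ^ (n + 2) + Fintype.card F ^ (n + 1) := by
  obtain ⟨m, rfl⟩ := Nat.exists_eq_add_of_le h2
  obtain ⟨q, hq⟩ : ∃ q, Fintype.card F = q + 1 := ⟨Fintype.card F - 1, by have := Fintype.card_pos (α := F); omega⟩
  classical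
  rw [Nat.add_comm 2 m]
  rw [Nat.card_eq_fintype_card, Fintype.card_subtype]
  have : ∀ p : (Fin 3 → F) × (Fin (m + 2 + 1) → F), True := fun _ => trivial
  change (Finset.univ.filter fun p : (Fin 3 → F) × (Fin (m + 3) → F) => S18925Aux.R p.1 p.2 ≠ 0).card = _
  rw [Finset.card_filter, Fintype.sum_prod_type]
  simp only [← Finset.card_filter]
  change ∑ a : Fin 3 → F, S18925Aux.N m a = _
  rw [← Finset.sum_filter_add_sum_filter_not Finset.univ (fun a : Fin 3 → F => a 2 ≠ 0), S18925Aux.sum_quad,
    S18925Aux.sum_low, hq, Nat.add_sub_cancel]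
  have e1 : (q + 1) ^ (m + 2 + 4) = (q+1) * (q + 1) ^ (m + 5) := by ring
  have e2 : (q + 1) ^ (m + 5) = (q+1) * (q + 1) ^ (m + 4) := by ring
  have e3 : (q + 1) ^ (m + 4) = (q+1) * (q + 1) ^ (m + 3) := by ring
  have key : (q + 1) ^ (m + 4) * q ^ 2 + (q + 1) ^ (m + 3) * q ^ 2 + (q + 1) ^ (m + 5) + (q + 1) ^ (m + 4)
      = (q + 1) ^ (m + 2 + 4) + (q + 1) ^ (m + 3) := by ring
  have e4 : (q + 1) ^ (m + 5) + (q + 1) ^ (m + 4) ≤ (q + 1) ^ (m + 2 + 4) + 0 ∨ True := Or.inr trivial
  simp only [show m + 2 + 3 = m + 5 by omega, show m + 2 + 2 = m + 4 by omega, show m + 2 + 1 = m + 3 by omega]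
  by_cases hq0 : q = 0
  · have := Fintype.one_lt_card (α := F); omega
  · have hb : (q + 1) ^ (m + 5) + (q + 1) ^ (m + 4) ≤ (q + 1) ^ (m + 2 + 4) := by
      rw [e1, e2]; nlinarith [Nat.one_le_pow (m+4) (q+1) (by omega), Nat.one_le_iff_ne_zero.2 hq0]
    omega

end Groth.Agent.S18925
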