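import Groth.Statements.S18924
import Groth.Agent.S18925
import Mathlib

set_option autoImplicit false
universe u
open ResHyp


namespace S18924Aux
open Polynomial
variable {F : Type u} [Field F]

noncomputable def P {n : ℕ} (c : Fin n → F) : F[X] := ∑ i : Fin n, C (c i) * X ^ (i : ℕ)

lemma P_smul {n : ℕ} (a : F) (c : Fin n → F) : P (a • c) = C a * P c := by
  simp [P, Finset.mul_sum, mul_assoc]

abbrev Pairs (F : Type u) (n : ℕ) := (Fin 3 → F) × (Fin (n + 1) → F)

noncomputable def res {n : ℕ} (p : Pairs F n) : F := resultant (P p.1) (P p.2) 2 n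

def sc {n : ℕ} (k : ℕ) (u : F) (p : Pairs F n) : Pairs F n := (u • p.1, (u⁻¹ ^ k) • p.2)

lemma res_sc {n k : ℕ} (hn : n = 2 * k + 1) (u : F) (hu : u ≠ 0) (p : Pairs F n) :
    res (sc k u p) = u * res p := by
  simp only [res, sc]
  rw [P_smul, P_smul, resultant_C_mul_left, resultant_C_mul_right]
  subst hn
  rw [← mul_assoc, ← pow_mul, show u ^ (2 * k + 1) = u * u ^ (k * 2) by ring, mul_assoc u, ← mul_pow,
    mul_inv_cancel₀ hu, one_pow, mul_one]

lemma sc_sc {n : ℕ} (k : ℕ) (u : F) (hu : u ≠ 0) (p : Pairs F n) : sc k u (sc k u⁻¹ p) = p := by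
  simp [sc, smul_smul, hu, ← mul_pow, inv_inv]

noncomputable def fibEquiv {n k : ℕ} (hn : n = 2 * k + 1) :
    {p : Pairs F n // res p ≠ 0} ≃ {u : F // u ≠ 0} × {p : Pairs F n // res p = 1} where
  toFun p := (⟨res p.1, p.2⟩, ⟨sc k (res p.1)⁻¹ p.1, by rw [res_sc hn _ (inv_ne_zero p.2), inv_mul_cancel₀ p.2]⟩)
  invFun x := ⟨sc k x.1.1 x.2.1, by rw [res_sc hn _ x.1.2, x.2.2, mul_one]; exact x.1.2⟩
  left_inv p := Subtype.ext (sc_sc k _ p.2 _)
  right_inv x := by
    have h : res (sc k x.1.1 x.2.1) = x.1.1 := by rw [res_sc hn _ x.1.2, x.2.2, mul_one]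
    refine Prod.ext (Subtype.ext h) (Subtype.ext ?_)
    show sc k (res (sc k x.1.1 x.2.1))⁻¹ (sc k x.1.1 x.2.1) = _
    rw [h]
    simpa using sc_sc k (x.1.1⁻¹) (inv_ne_zero x.1.2) x.2.1

end S18924Aux

namespace Groth.Agent.S18924

/-- Let F be a finite field with q elements and let n ≥ 3 be odd. Count the pairs (f, g) where f is a
binary quadratic form and g a binary form of degree n over F, recorded by their coefficient vectors
of lengths 3 and n + 1 (leading coefficients may vanish), whose resultant — the Sylvester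
determinant of the two coefficient vectors with size parameters 2 and n — equals 1. The number of
such pairs is q ^ (n + 3) - q ^ (n + 1). (The published statement gives q ^ (n + 3) + q ^ (n + 1);
for q = 3 and n = 3 the count is 648, not 810.) -/
theorem result (F : Type u) [Field F] [Fintype F] (n : ℕ)
    (hn : Odd n) (h3 : 3 ≤ n) :
    Nat.card {p : (Fin 3 → F) × (Fin (n + 1) → F) //
      Polynomial.resultant (∑ i : Fin 3, Polynomial.C (p.1 i) * Polynomial.X ^ (i : ℕ))
        (∑ j : Fin (n + 1), Polynomial.C (p.2 j) * Polynomial.X ^ (j : ℕ)) 2 n = 1} =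
      Fintype.card F ^ (n + 3) - Fintype.card F ^ (n + 1) := by
  classical
  obtain ⟨k, hk⟩ := hn
  have h := Groth.Agent.S18925.result F n (by omega)
  have e := Nat.card_congr (S18924Aux.fibEquiv (F := F) (n := n) (k := k) hk)
  rw [Nat.card_prod] at e
  have hu : Nat.card {u : F // u ≠ 0} = Fintype.card F - 1 := by
    rw [Nat.card_eq_fintype_card, Fintype.card_subtype_compl, Fintype.card_subtype_eq]
  rw [hu] at e
  have hq := Fintype.one_lt_card (α := F)
  change Nat.card {p : S18924Aux.Pairs F n // S18924Aux.res p = 1} = _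
  change Nat.card {p : S18924Aux.Pairs F n // S18924Aux.res p ≠ 0} = _ at h
  rw [h] at e
  obtain ⟨q, hq'⟩ : ∃ q, Fintype.card F = q + 1 := ⟨Fintype.card F - 1, by omega⟩
  rw [hq'] at e hq ⊢
  simp only [Nat.add_sub_cancel] at e
  apply Nat.eq_of_mul_eq_mul_left (show 0 < q by omega)
  rw [← e, Nat.mul_sub]
  have i4 : (q + 1) ^ (n + 4) = q * (q + 1) ^ (n + 3) + (q + 1) ^ (n + 3) := by ring
  have i2 : (q + 1) ^ (n + 2) = q * (q + 1) ^ (n + 1) + (q + 1) ^ (n + 1) := by ring
  have i5 : q * (q + 1) ^ (n + 1) ≤ q * (q + 1) ^ (n + 3) := Nat.mul_le_mul_left _ (Nat.pow_le_pow_right (by omega) (by omega))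
  have i6 : (q + 1) ^ (n + 1) ≤ (q + 1) ^ (n + 3) := Nat.pow_le_pow_right (by omega) (by omega)
  have i7 : (q + 1) ^ (n + 2) ≤ q * (q + 1) ^ (n + 3) :=
    le_trans (Nat.pow_le_pow_right (by omega) (by omega)) (Nat.le_mul_of_pos_left _ (by omega))
  omega

end Groth.Agent.S18924
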