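import Groth.Statements.S18927
import Mathlib.LinearAlgebra.Alternating.Basic
import Mathlib.LinearAlgebra.StdBasis
-- import your own Groth.Agent.* helpers here

set_option autoImplicit false
universe u v
open W4c6secantcecovers

namespace Groth.Agent.S18927

variable {R : Type u} [CommRing R] {r : ℕ}

theorem leib (d : Module.Dual R (Fin r → R)) (n : ℕ) (e : Fin n → (Fin r → R)) (η : ExteriorAlgebra R (Fin r → R)) :
    CliffordAlgebra.contractLeft d (ExteriorAlgebra.ιMulti R n e * η) =
      CliffordAlgebra.contractLeft d (ExteriorAlgebra.ιMulti R n e) * η +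
        ((-1 : R) ^ n) • (ExteriorAlgebra.ιMulti R n e * CliffordAlgebra.contractLeft d η) := by
  induction n with
  | zero => simp
  | succ n ih =>
    rw [ExteriorAlgebra.ιMulti_succ_apply, mul_assoc, CliffordAlgebra.contractLeft_ι_mul,
      CliffordAlgebra.contractLeft_ι_mul, ih, sub_mul, mul_add, smul_mul_assoc, mul_smul_comm, pow_succ, mul_smul,
      mul_assoc, mul_assoc]
    module

theorem top_zero {a b : ℕ} (h : r < a + b) (e : Fin a → (Fin r → R)) (f : Fin b → (Fin r → R)) :
    ExteriorAlgebra.ιMulti R a e * ExteriorAlgebra.ιMulti R b f = 0 := by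
  have h0 : ExteriorAlgebra.ιMulti R (M := Fin r → R) (a + b) = 0 :=
    Module.Basis.ext_alternating (Pi.basisFun R (Fin r)) fun v hv => by
      exact absurd (Fintype.card_le_of_injective v hv) (by simpa using h)
  have := DFunLike.congr_fun h0 (Fin.append e f)
  simpa [ExteriorAlgebra.ιMulti_apply, List.ofFn_add] using this

open TensorProduct in
/-- Let R be a commutative ring, E = R^r the free module with its coordinate basis, S = R[X_1, …, X_r]
(the symmetric algebra of E), and N an R-module carrying R-linear operators φ_j (the action of the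
j-th basis vector of E) and an R-bilinear form β with β(φ_j n, m) = β(n, φ_j m) for every j. On (ΛE
⊗ S) ⊗ N — all terms Λ^k(S ⊗ E) ⊗ N of the Scheja–Storch complex at once — let δ be the differential
sending (e_1 ∧ ⋯ ∧ e_k) ⊗ s ⊗ n to Σ_i (-1)^(i-1) (e_1 ∧ ⋯ ê_i ⋯ ∧ e_k) ⊗ x(e_i) s ⊗ n + Σ_i (-1)^i
(e_1 ∧ ⋯ ê_i ⋯ ∧ e_k) ⊗ s ⊗ e_i · n, and pair a term u = ω ⊗ s ⊗ n of degree k with v = η ⊗ t ⊗ m by
⟨u, v⟩_k = (-1)^(k choose 2) β(n, m) · (ω ∧ η) ⊗ s t. Then the differential is adjoint to itself for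
this pairing in complementary degrees: for u = (e_0 ∧ ⋯ ∧ e_k) ⊗ s ⊗ n of degree k + 1 ≤ r and v =
(f_1 ∧ ⋯ ∧ f_(r-k)) ⊗ t ⊗ m of degree r - k, ⟨δ u, v⟩_k = ⟨u, δ v⟩_(k+1). (The source takes E
finitely generated projective and N a module over the ambient algebra with a pairing satisfying ⟨f,
g h⟩ = ⟨g f, h⟩; the proof runs on a basis, which is the form stated here, with the action of E
recorded by the operators φ_j.) -/
theorem result
    (R : Type u) [CommRing R] (r : ℕ) (N : Type v) [AddCommGroup N] [Module R N]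
    (φ : Fin r → (N →ₗ[R] N)) (β : N →ₗ[R] N →ₗ[R] R)
    (hβ : ∀ (j : Fin r) (n m : N), β (φ j n) m = β n (φ j m))
    (k : ℕ) (hk : k < r)
    (e : Fin (k + 1) → (Fin r → R)) (f : Fin (r - k) → (Fin r → R))
    (s t : MvPolynomial (Fin r) R) (n m : N) :
    W4c6secantcecovers.ssPair R r N β k
        (W4c6secantcecovers.ssDelta R r N φ ((ExteriorAlgebra.ιMulti R (k + 1) e ⊗ₜ[R] s) ⊗ₜ[R] n))
        ((ExteriorAlgebra.ιMulti R (r - k) f ⊗ₜ[R] t) ⊗ₜ[R] m) =
      W4c6secantcecovers.ssPair R r N β (k + 1)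
        ((ExteriorAlgebra.ιMulti R (k + 1) e ⊗ₜ[R] s) ⊗ₜ[R] n)
        (W4c6secantcecovers.ssDelta R r N φ ((ExteriorAlgebra.ιMulti R (r - k) f ⊗ₜ[R] t) ⊗ₜ[R] m)) := by
  have key : ∀ j, W4c6secantcecovers.ssContr R r j (ExteriorAlgebra.ιMulti R (k + 1) e) * ExteriorAlgebra.ιMulti R (r - k) f =
      ((-1 : R) ^ k) • (ExteriorAlgebra.ιMulti R (k + 1) e * W4c6secantcecovers.ssContr R r j (ExteriorAlgebra.ιMulti R (r - k) f)) := by
    intro j
    have h1 := leib (LinearMap.proj (R := R) (φ := fun _ : Fin r => R) j) (k + 1) e (ExteriorAlgebra.ιMulti R (r - k) f)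
    rw [top_zero (by omega), map_zero, pow_succ, mul_neg_one, neg_smul, ← sub_eq_add_neg] at h1
    exact (sub_eq_zero.1 h1.symm)
  have hs : (-1 : R) ^ ((k + 1).choose 2) = (-1 : R) ^ (k.choose 2) * (-1 : R) ^ k := by
    rw [← pow_add, Nat.choose_succ_succ' k 1, Nat.choose_one_right, add_comm]
  simp only [W4c6secantcecovers.ssDelta, LinearMap.sum_apply, map_sum, LinearMap.add_apply, LinearMap.smul_apply,
    map_add, map_smul, W4c6secantcecovers.ssDKoszul, W4c6secantcecovers.ssDAct, W4c6secantcecovers.ssPair,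
    TensorProduct.map_tmul, TensorProduct.curry_apply, LinearMap.mulLeft_apply, LinearMap.id_apply]
  refine Finset.sum_congr rfl fun j _ => ?_
  simp only [W4c6secantcecovers.ssPairAux, LinearMap.comp_apply, LinearEquiv.coe_coe,
    TensorProduct.tensorTensorTensorComm_tmul, TensorProduct.map_tmul, LinearMap.mul'_apply,
    Algebra.TensorProduct.tmul_mul_tmul, TensorProduct.lift.tmul, TensorProduct.rid_tmul, key, hs, hβ,
    TensorProduct.smul_tmul', smul_smul]
  rw [show MvPolynomial.X j * s * t = s * (MvPolynomial.X j * t) by ring]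
  congr 2 <;> ring

end Groth.Agent.S18927
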