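import Groth.Statements.S18929
import Groth.Agent.DPowLib.Gens
import Mathlib.RingTheory.WittVector.Truncated

set_option autoImplicit false
universe u
open DPow

namespace Groth.Agent.S18929

/-- Let p be a prime, n a natural number, B a commutative ring in which p^n = 0, and I an ideal of B
equipped with divided powers. There is a ring homomorphism θ from the truncated Witt vectors
W_n(B/I) to B such that, for every Witt vector x over B, θ applied to the truncation of the image of
x in W_n(B/I) equals Σ_{i<n} p^i x_i^(p^(n−i)); in particular this sum depends only on the residues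
of x_0, …, x_{n−1} modulo I. (The source works with a divided power thickening of an algebra over a
perfect field and also checks linearity over the Witt vectors of that field; only the ring
homomorphism is asserted here. θ is unique, the truncation-of-reduction map being surjective.) -/
theorem result (p : ℕ) [Fact p.Prime] (n : ℕ)
    {B : Type u} [CommRing B] (hp : (p : B) ^ n = 0) {I : Ideal B} (hI : DividedPowers I) :
    ∃ θ : TruncatedWittVector p n (B ⧸ I) →+* B, ∀ x : WittVector p B, θ (WittVector.truncate n (WittVector.map (Ideal.Quotient.mk I) x)) =
        ∑ i : Fin n, (p : B) ^ (i : ℕ) * (x.coeff i) ^ (p ^ (n - i)) := by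
  classical
  have hgc : ∀ x : WittVector p B, WittVector.ghostComponent n x =
      ∑ i : Fin n, (p : B) ^ (i : ℕ) * (x.coeff i) ^ (p ^ (n - i)) := by
    intro x
    rw [WittVector.ghostComponent_apply, aeval_wittPolynomial, Finset.sum_range_succ, hp, zero_mul,
      add_zero, Fin.sum_univ_eq_sum_range (fun i => (p : B) ^ i * (x.coeff i) ^ (p ^ (n - i)))]
  let f : WittVector p B →+* TruncatedWittVector p n (B ⧸ I) :=
    (WittVector.truncate n).comp (WittVector.map (Ideal.Quotient.mk I))
  have hf : Function.Surjective f := (WittVector.truncate_surjective p n _).comp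
    (WittVector.map_surjective _ Ideal.Quotient.mk_surjective)
  have hker : RingHom.ker f ≤ RingHom.ker (WittVector.ghostComponent (p := p) (R := B) n) := by
    intro x hx
    rw [RingHom.mem_ker, hgc]
    refine Finset.sum_eq_zero fun i _ => ?_
    have hxi : x.coeff i ∈ I := by
      rw [RingHom.mem_ker] at hx
      have := congrArg (TruncatedWittVector.coeff i) hx
      rw [RingHom.comp_apply, WittVector.coeff_truncate, WittVector.map_coeff,
        TruncatedWittVector.coeff_zero, Ideal.Quotient.eq_zero_iff_mem] at this
      exact this
    have h := Groth.Agent.DPowLib.add_pow_prime_pow hI (p ^ (n - i)) 0 (x.coeff i) hxi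
    rw [zero_add, zero_pow (pow_ne_zero _ (Fact.out : p.Prime).ne_zero), sub_zero, Nat.cast_pow] at h
    obtain ⟨c, -, hc⟩ := Ideal.mem_span_singleton_mul.mp h
    rw [← hc, ← mul_assoc, ← pow_add, show (i : ℕ) + (n - i) = n by omega, hp, zero_mul]
  let θ := (f.liftOfRightInverse (Function.surjInv hf) (Function.rightInverse_surjInv hf))
    ⟨_, hker⟩
  refine ⟨θ, fun x => ?_⟩
  rw [← hgc]
  exact RingHom.liftOfRightInverse_comp_apply f _ _ _ x

end Groth.Agent.S18929
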