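import Groth.Statements.S18933
import Groth.Agent.SyntDim.Frobenius


set_option autoImplicit false
universe u
open Synt

namespace Groth.Agent.S18933

/-- Let p be a prime, A a Noetherian commutative ring and m a natural number, and let φ be the A-algebra
endomorphism of the polynomial ring A[T_1, …, T_m] with φ(T_i) = T_i^p. Then φ is syntomic and
faithfully flat (so Spec φ is a covering for the syntomic topology). -/
theorem result (p : ℕ) [Fact p.Prime]
    (A : Type u) [CommRing A] [IsNoetherianRing A] (m : ℕ)
    (φ : MvPolynomial (Fin m) A →ₐ[A] MvPolynomial (Fin m) A)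
    (hφ : ∀ i : Fin m, φ (MvPolynomial.X i) = MvPolynomial.X i ^ p) :
    @Synt.IsSyntomic (MvPolynomial (Fin m) A) _ (MvPolynomial (Fin m) A) _ φ.toRingHom.toAlgebra ∧
      φ.toRingHom.FaithfullyFlat := by
  have h := @Groth.Agent.SyntDim.isSyntomic_faithfullyFlat_pow p (Fact.out : p.Prime).pos A _ _ m
    (MvPolynomial (Fin m) A) _ _ φ.toRingHom.toAlgebra
    (by
      letI := φ.toRingHom.toAlgebra
      exact IsScalarTower.of_algebraMap_eq (R := A) (S := MvPolynomial (Fin m) A)
        (A := MvPolynomial (Fin m) A) fun a => (φ.commutes a).symm)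
    AlgEquiv.refl hφ
  exact h

end Groth.Agent.S18933
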