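import Groth.Statements.S18936
import Mathlib.RingTheory.Localization.AtPrime.Basic
import Mathlib.RingTheory.Localization.Away.Basic
import Mathlib.RingTheory.Noetherian.Basic

set_option autoImplicit false
universe u
open CAlg

namespace Groth.Agent.S18936

/-- Let A be a Noetherian commutative ring, q a prime ideal of A and f an element of A whose image in
the localization A_q is a non-zero-divisor. Then there is an element b of A not in q such that the
image of f in A[1/b] is a non-zero-divisor. -/
theorem result {A : Type u} [CommRing A] [IsNoetherianRing A]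
    (q : Ideal A) [q.IsPrime] (f : A)
    (hf : algebraMap A (Localization.AtPrime q) f ∈ nonZeroDivisors (Localization.AtPrime q)) :
    ∃ b : A, b ∉ q ∧ algebraMap A (Localization.Away b) f ∈ nonZeroDivisors (Localization.Away b) := by
  classical
  let K : Ideal A := LinearMap.ker (LinearMap.mulRight A f)
  obtain ⟨S, hS⟩ := (isNoetherianRing_iff_ideal_fg A).mp ‹_› K
  have hex : ∀ x ∈ S, ∃ s : A, s ∉ q ∧ s * x = 0 := by
    intro x hx
    have hxf : x * f = 0 := LinearMap.mem_ker.mp (show x ∈ K from hS ▸ Submodule.subset_span hx)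
    have : algebraMap A (Localization.AtPrime q) x = 0 :=
      (mem_nonZeroDivisors_iff_right.mp hf) _ (by rw [← map_mul, hxf, map_zero])
    obtain ⟨⟨s, hs⟩, h⟩ := (IsLocalization.map_eq_zero_iff q.primeCompl (Localization.AtPrime q) x).mp this
    exact ⟨s, hs, h⟩
  choose s hs hs' using hex
  let b : A := ∏ x ∈ S.attach, s x.1 x.2
  have hb : b ∉ q := fun h => by
    obtain ⟨x, -, hx⟩ := Ideal.IsPrime.prod_mem_iff.mp h
    exact hs _ _ hx
  have hbK : ∀ x, x * f = 0 → b * x = 0 := by
    intro x hx
    have hle : K ≤ LinearMap.ker (LinearMap.mulLeft A b) := by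
      rw [← hS]
      refine Submodule.span_le.mpr fun z hz => ?_
      obtain ⟨c, hc⟩ : s z hz ∣ b := Finset.dvd_prod_of_mem (fun y : S => s y.1 y.2) (Finset.mem_attach S ⟨z, hz⟩)
      show b * z = 0
      rw [hc, mul_right_comm, hs', zero_mul]
    exact LinearMap.mem_ker.mp (hle (LinearMap.mem_ker.mpr hx))
  refine ⟨b, hb, mem_nonZeroDivisors_iff_right.mpr fun y hy => ?_⟩
  obtain ⟨⟨x, t⟩, hxt⟩ := IsLocalization.surj (Submonoid.powers b) y
  have : algebraMap A (Localization.Away b) (x * f) = 0 := by
    rw [map_mul, ← hxt, mul_right_comm, hy, zero_mul]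
  obtain ⟨⟨_, n, rfl⟩, hn⟩ := (IsLocalization.map_eq_zero_iff (Submonoid.powers b) (Localization.Away b) _).mp this
  have h2 : b ^ (n + 1) * x = 0 := by
    rw [pow_succ', mul_assoc]; exact hbK _ (by rw [mul_assoc]; exact hn)
  refine (IsLocalization.map_units (Localization.Away b) t).mul_left_eq_zero.mp ?_
  rw [hxt]
  exact (IsLocalization.map_eq_zero_iff (Submonoid.powers b) _ _).mpr ⟨⟨_, n + 1, rfl⟩, h2⟩

end Groth.Agent.S18936
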