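import Groth.Statements.S18937
import Groth.Agent.SyntLCI.Nhd
import Groth.Agent.NLAmp.Regular


set_option autoImplicit false
set_option linter.style.haveILetI false
set_option backward.isDefEq.respectTransparency false
set_option backward.isDefEq.respectTransparency.types false
universe u
open CategoryTheory AlgebraicGeometry
open RegImm

namespace Groth.Agent.S18937

open MvPolynomial RingTheory.Sequence

theorem regular_cons {R : Type u} [CommRing R] {n r : ℕ} (g : MvPolynomial (Fin n) R) (a : Fin r → MvPolynomial (Fin n) R)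
    (hregL : IsWeaklyRegular (Localization.Away g) ((List.ofFn a).map (algebraMap _ (Localization.Away g)))) :
    ∃ (F : Fin (r + 1) → MvPolynomial (Fin (n + 1)) R),
      IsWeaklyRegular (MvPolynomial (Fin (n + 1)) R) (List.ofFn F) ∧
      Nonempty ((Localization.Away g ⧸ (Ideal.span (Set.range a)).map (algebraMap _ (Localization.Away g))) ≃ₐ[R]
        MvPolynomial (Fin (n + 1)) R ⧸ Ideal.ofList (List.ofFn F)) := by
  obtain ⟨Φ, hΦ, hΦx, hwreg, hw⟩ := SyntLCI.exists_presentation_away' g
  set w := rename Fin.castSucc g * X (Fin.last n) - 1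
  set F : Fin (r + 1) → MvPolynomial (Fin (n + 1)) R := Fin.cons w fun i => rename Fin.castSucc (a i)
  set J := (Ideal.span (Set.range a)).map (algebraMap _ (Localization.Away g))
  have hJ : J = (Ideal.span (Set.range fun i => rename Fin.castSucc (a i))).map Φ.toRingHom := by
    simp only [J, Ideal.map_span, ← Set.range_comp]
    congr 2
    funext i
    exact (hΦx (a i)).symm
  have hker : RingHom.ker ((Ideal.Quotient.mkₐ R J).comp Φ).toRingHom = Ideal.span (Set.range F) := by
    rw [show RingHom.ker ((Ideal.Quotient.mkₐ R J).comp Φ).toRingHom = (RingHom.ker (Ideal.Quotient.mkₐ R J).toRingHom).comap Φ.toRingHom from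
      (RingHom.comap_ker _ _).symm, show RingHom.ker (Ideal.Quotient.mkₐ R J).toRingHom = J from Ideal.mk_ker, hJ,
      Ideal.comap_map_of_surjective Φ.toRingHom hΦ, ← RingHom.ker_eq_comap_bot, hw, Fin.range_cons, Ideal.span_insert, sup_comm]
  refine ⟨F, ?_, ⟨((Ideal.quotientEquivAlgOfEq R (hker.symm.trans rfl)).trans
      (Ideal.quotientKerAlgEquivOfSurjective (f := (Ideal.Quotient.mkₐ R J).comp Φ)
        (Ideal.Quotient.mk_surjective.comp hΦ))).symm.trans (Ideal.quotientEquivAlgOfEq R (NLAmp.ofList_ofFn F).symm)⟩⟩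
  rw [List.ofFn_succ]
  simp only [F, Fin.cons_zero, Fin.cons_succ]
  rw [isWeaklyRegular_cons_iff]
  refine ⟨hwreg, ?_⟩
  let e₁ : QuotSMulTop w (MvPolynomial (Fin (n + 1)) R) ≃ₗ[MvPolynomial (Fin (n + 1)) R]
      MvPolynomial (Fin (n + 1)) R ⧸ Ideal.span {w} :=
    Submodule.quotEquivOfEq _ _ (by rw [← Submodule.ideal_span_singleton_smul, smul_eq_mul, Ideal.mul_top])
  let e₂ : (MvPolynomial (Fin (n + 1)) R ⧸ Ideal.span {w}) ≃+* Localization.Away g :=
    (Ideal.quotEquivOfEq hw.symm).trans (RingHom.quotientKerEquivOfSurjective hΦ)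
  rw [e₁.isWeaklyRegular_congr, ← isWeaklyRegular_map_algebraMap_iff (MvPolynomial (Fin (n + 1)) R ⧸ Ideal.span {w}),
    List.map_ofFn]
  have h3 := SyntLCI.isWeaklyRegular_map_ringEquiv (R := Localization.Away g) (R' := MvPolynomial (Fin (n + 1)) R ⧸ Ideal.span {w})
    e₂.symm hregL
  rw [List.map_ofFn, List.map_ofFn] at h3
  have hf : (algebraMap (MvPolynomial (Fin (n + 1)) R) (MvPolynomial (Fin (n + 1)) R ⧸ Ideal.span {w}) ∘ fun i => rename Fin.castSucc (a i)) =
      (e₂.symm ∘ algebraMap _ (Localization.Away g) ∘ a) := funext fun i => by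
    show Ideal.Quotient.mk (Ideal.span {w}) (rename Fin.castSucc (a i)) = e₂.symm (algebraMap _ (Localization.Away g) (a i))
    rw [e₂.eq_symm_apply]
    exact hΦx (a i)
  rw [hf]
  exact h3

/-- numerators of a regular sequence in a localization -/
theorem exists_numerators {P : Type u} [CommRing P] (g : P) (L : Type u) [CommRing L] [Algebra P L]
    [IsLocalization.Away g L] (I : Ideal P) (rs : List L) (hrs : IsWeaklyRegular L rs)
    (hI : I.map (algebraMap P L) = Ideal.ofList rs) :
    ∃ a : Fin rs.length → P,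
      IsWeaklyRegular (Localization.Away g) ((List.ofFn a).map (algebraMap P (Localization.Away g))) ∧
      I.map (algebraMap P (Localization.Away g)) = (Ideal.span (Set.range a)).map (algebraMap P (Localization.Away g)) := by
  let e := IsLocalization.algEquiv (Submonoid.powers g) L (Localization.Away g)
  let y : Fin rs.length → Localization.Away g := fun i => e (rs.get i)
  have hy : IsWeaklyRegular (Localization.Away g) (List.ofFn y) := by
    have h := SyntLCI.isWeaklyRegular_map_ringEquiv e.toRingEquiv hrs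
    rwa [show List.ofFn y = rs.map e.toRingEquiv by
      rw [show y = e.toRingEquiv ∘ rs.get from rfl, ← List.map_ofFn, List.ofFn_get]]
  have hIy : I.map (algebraMap P (Localization.Away g)) = Ideal.span (Set.range y) := by
    have h := congrArg (Ideal.map e.toRingEquiv.toRingHom) hI
    rw [Ideal.map_map, show e.toRingEquiv.toRingHom.comp (algebraMap P L) = algebraMap P (Localization.Away g) from
      RingHom.ext fun x => e.commutes x] at h
    rw [h, Ideal.ofList, Ideal.map_span]
    congr 1
    ext z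
    simp [y, List.mem_iff_get]
  choose c has' using fun i => IsLocalization.surj (Submonoid.powers g) (y i)
  let a := fun i => (c i).1
  let s := fun i => (c i).2
  have has : ∀ i, y i * algebraMap P (Localization.Away g) (s i : P) = algebraMap P (Localization.Away g) (a i) := has'
  refine ⟨a, ?_, ?_⟩
  · rw [List.map_ofFn, show (algebraMap P (Localization.Away g) ∘ a) =
      fun i => y i * algebraMap P (Localization.Away g) (s i : P) from funext fun i => (has i).symm]
    exact NLAmp.unit_seq_regular y _ (fun i => IsLocalization.map_units _ (s i)) hy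
  · rw [hIy, Ideal.map_span, ← Set.range_comp]
    refine le_antisymm (Ideal.span_le.2 ?_) (Ideal.span_le.2 ?_)
    · rintro _ ⟨i, rfl⟩
      refine (Ideal.mul_unit_mem_iff_mem _ (IsLocalization.map_units (Localization.Away g) (s i))).1 ?_
      exact Ideal.subset_span ⟨i, (has i).symm⟩
    · rintro _ ⟨i, rfl⟩
      show algebraMap P (Localization.Away g) (a i) ∈ _
      rw [← has i]
      exact Ideal.mul_mem_right _ _ (Ideal.subset_span ⟨i, rfl⟩)

open AlgebraicGeometry CategoryTheory in
theorem exists_regular_away {P : CommRingCat.{u}} (I : Ideal P)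
    (h : RegImm.IsRegularImmersion RegImm.Kind.regular (Spec.map (CommRingCat.ofHom (Ideal.Quotient.mk I))))
    (q : PrimeSpectrum (↥P ⧸ I)) :
    ∃ g : P, Ideal.Quotient.mk I g ∉ q.asIdeal ∧ ∃ (L : Type u) (_ : CommRing L) (_ : Algebra P L)
      (_ : IsLocalization.Away g L) (rs : List L), IsWeaklyRegular L rs ∧ I.map (algebraMap P L) = Ideal.ofList rs := by
  set i : Spec (CommRingCat.of (↥P ⧸ I)) ⟶ Spec P := Spec.map (CommRingCat.ofHom (Ideal.Quotient.mk I))
  haveI : IsClosedImmersion i := IsClosedImmersion.spec_of_surjective _ Ideal.Quotient.mk_surjective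
  obtain ⟨U, hqU, -, rs, hrs, hker⟩ := h.2 q
  obtain ⟨_, ⟨g, rfl⟩, hqg, hgU⟩ := PrimeSpectrum.isTopologicalBasis_basic_opens.exists_subset_of_mem_open hqU U.1.2
  let D : (Spec P).affineOpens := ⟨PrimeSpectrum.basicOpen g, by
    rw [← basicOpen_eq_of_affine]; exact (isAffineOpen_top _).basicOpen _⟩
  let T : (Spec P).affineOpens := ⟨⊤, isAffineOpen_top _⟩
  have hDU : D.1 ≤ U.1 := hgU
  let r₁ := ((Spec P).presheaf.map (homOfLE hDU).op).hom
  let r₂ := ((Spec P).presheaf.map (homOfLE (le_top : D.1 ≤ T.1)).op).hom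
  refine ⟨g, hqg, Γ(Spec P, D.1), inferInstance,
    (inferInstance : Algebra P Γ(Spec P, D.1)),
    (inferInstance : IsLocalization.Away g Γ(Spec P, PrimeSpectrum.basicOpen g)), rs.map r₁, ?_, ?_⟩
  · have hflat : r₁.Flat := by
      have := HasRingHomProperty.appLE @Flat (𝟙 (Spec P)) inferInstance U D hDU
      simpa [r₁, Scheme.Hom.appLE, RingHom.comp_id] using this
    letI := r₁.toAlgebra
    haveI : Module.Flat Γ(Spec P, U.1) Γ(Spec P, D.1) := hflat
    exact hrs.toIsWeaklyRegular.of_flat (S := Γ(Spec P, D.1))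
  · have h1 : (i.ker.ideal U).map r₁ = i.ker.ideal D := i.ker.map_ideal (U := D) (V := U) hDU
    have h2 : (i.ker.ideal T).map r₂ = i.ker.ideal D := i.ker.map_ideal (U := D) (V := T) (show D.1 ≤ T.1 from le_top)
    rw [Scheme.Hom.ker_apply, hker] at h1
    rw [Scheme.Hom.ker_apply] at h2
    rw [← Ideal.map_ofList]
    refine Eq.trans ?_ h1.symm
    rw [← h2]
    have h3 : RingHom.ker (i.app T.1).hom = I.map (Scheme.ΓSpecIso P).inv.hom := by
      have hn := Scheme.ΓSpecIso_inv_naturality (CommRingCat.ofHom (Ideal.Quotient.mk I))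
      ext x
      obtain ⟨y, rfl⟩ := (ConcreteCategory.bijective_of_isIso (Scheme.ΓSpecIso P).inv).2 x
      rw [RingHom.mem_ker]
      have := congrArg (fun f => f.hom y) hn
      simp only [CommRingCat.hom_comp, RingHom.comp_apply] at this
      change i.appTop.hom _ = 0 ↔ _
      refine (Iff.of_eq (congrArg (· = 0) this.symm)).trans ?_
      refine (map_eq_zero_iff _ (ConcreteCategory.bijective_of_isIso (Scheme.ΓSpecIso (CommRingCat.of (↥P ⧸ I))).inv).1).trans ?_
      change Ideal.Quotient.mk I y = 0 ↔ _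
      rw [Ideal.Quotient.eq_zero_iff_mem, Ideal.mem_map_iff_of_surjective _
        (ConcreteCategory.bijective_of_isIso (Scheme.ΓSpecIso P).inv).2]
      exact ⟨fun hy => ⟨y, hy, rfl⟩, fun ⟨z, hz, hzy⟩ =>
        (ConcreteCategory.bijective_of_isIso (Scheme.ΓSpecIso P).inv).1 hzy ▸ hz⟩
    rw [h3, Ideal.map_map]
    rfl


/-- Let A be a Noetherian commutative ring, n a natural number, I an ideal of the polynomial ring A[X_1,
…, X_n] and B = A[X_1, …, X_n]/I, and assume that the closed immersion Spec B → Spec A[X_1, …, X_n]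
is a regular immersion (kind: successive non-zero-divisors). Then Spec B is covered by basic opens
D(g) with B[1/g] isomorphic, as an A-algebra, to a quotient A[X_0, …, X_n]/(P_1, …, P_d) of the
polynomial ring in one more variable by a regular sequence P_1, …, P_d. -/
theorem result
    (A : Type u) [CommRing A] [IsNoetherianRing A] (n : ℕ) (I : Ideal (MvPolynomial (Fin n) A))
    (h : RegImm.IsRegularImmersion RegImm.Kind.regular
      (Spec.map (CommRingCat.ofHom (Ideal.Quotient.mk I))))
    (q : PrimeSpectrum (MvPolynomial (Fin n) A ⧸ I)) :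
    ∃ g : MvPolynomial (Fin n) A ⧸ I, g ∉ q.asIdeal ∧
      ∃ (d : ℕ) (P : Fin d → MvPolynomial (Fin (n + 1)) A),
        RingTheory.Sequence.IsRegular (MvPolynomial (Fin (n + 1)) A) (List.ofFn P) ∧
        Nonempty (Localization.Away g ≃ₐ[A] (MvPolynomial (Fin (n + 1)) A ⧸ Ideal.ofList (List.ofFn P))) := by
  obtain ⟨g, hg, L, _, _, _, rs, hrs, hI⟩ := exists_regular_away (P := CommRingCat.of (MvPolynomial (Fin n) A)) I h q
  obtain ⟨a, hreg, hIa⟩ := exists_numerators g L I rs hrs hI
  obtain ⟨F, hF, ⟨e⟩⟩ := regular_cons g a hreg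
  let Bg := Localization.Away (Ideal.Quotient.mk I g)
  let φ : Localization.Away g →+* Bg :=
    IsLocalization.Away.map (Localization.Away g) Bg (Ideal.Quotient.mk I) g
  have hφs : Function.Surjective φ := fun z => by
    obtain ⟨b, ⟨_, k, rfl⟩, rfl⟩ := IsLocalization.exists_mk'_eq (Submonoid.powers (Ideal.Quotient.mk I g)) z
    obtain ⟨b, rfl⟩ := Ideal.Quotient.mk_surjective b
    refine ⟨IsLocalization.mk' _ b (⟨g ^ k, k, rfl⟩ : Submonoid.powers g), ?_⟩
    simp only [φ, IsLocalization.Away.map, IsLocalization.map_mk']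
    congr 1
  let φₐ : Localization.Away g →ₐ[A] Bg :=
    { φ with
      commutes' := fun c => by
        show φ (algebraMap A (Localization.Away g) c) = _
        rw [IsScalarTower.algebraMap_apply A (MvPolynomial (Fin n) A) (Localization.Away g)]
        simp only [φ, IsLocalization.Away.map, IsLocalization.map_eq]
        rw [IsScalarTower.algebraMap_apply A (MvPolynomial (Fin n) A ⧸ I) Bg]
        rfl }
  have hker : RingHom.ker φₐ = I.map (algebraMap (MvPolynomial (Fin n) A) (Localization.Away g)) := by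
    refine le_antisymm (fun z hz => ?_) (Ideal.map_le_iff_le_comap.2 fun x hx => ?_)
    · obtain ⟨b, s, rfl⟩ := IsLocalization.exists_mk'_eq (Submonoid.powers g) z
      replace hz : φ _ = 0 := hz
      simp only [φ, IsLocalization.Away.map, IsLocalization.map_mk', IsLocalization.mk'_eq_zero_iff] at hz
      obtain ⟨⟨_, k, rfl⟩, hk⟩ := hz
      have hb : g ^ k * b ∈ I := Ideal.Quotient.eq_zero_iff_mem.1 (by rw [map_mul, map_pow]; exact hk)
      rw [IsLocalization.mk'_eq_mul_mk'_one]
      refine Ideal.mul_mem_right _ _ ((Ideal.unit_mul_mem_iff_mem _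
        (IsLocalization.map_units (Localization.Away g) (⟨g ^ k, k, rfl⟩ : Submonoid.powers g))).1 ?_)
      rw [← map_mul]
      exact Ideal.mem_map_of_mem _ hb
    · show φ _ = 0
      simp only [φ, IsLocalization.Away.map, IsLocalization.map_eq]
      rw [Ideal.Quotient.eq_zero_iff_mem.2 hx, map_zero]
  let e' : Bg ≃ₐ[A] MvPolynomial (Fin (n + 1)) A ⧸ Ideal.ofList (List.ofFn F) :=
    (Ideal.quotientKerAlgEquivOfSurjective (f := φₐ) hφs).symm.trans
      ((Ideal.quotientEquivAlgOfEq A (hker.trans hIa)).trans e)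
  refine ⟨Ideal.Quotient.mk I g, hg, rs.length + 1, F, ⟨hF, ?_⟩, ⟨e'⟩⟩
  rw [smul_eq_mul, Ideal.mul_top]
  have : Nontrivial Bg := by
    refine ⟨1, 0, fun h10 => ?_⟩
    obtain ⟨⟨_, N, rfl⟩, hN⟩ := (IsLocalization.map_eq_zero_iff (Submonoid.powers (Ideal.Quotient.mk I g)) Bg
      (1 : MvPolynomial (Fin n) A ⧸ I)).1 (by rw [map_one, h10])
    exact hg (q.2.mem_of_pow_mem N (by simp [show (Ideal.Quotient.mk I g) ^ N = 0 by simpa using hN]))
  exact ((Ideal.Quotient.nontrivial_iff).1 e'.symm.toEquiv.nontrivial).symm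

end Groth.Agent.S18937
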