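import Groth.Statements.S18938
import Groth.Agent.SyntLCI.Nhd


set_option autoImplicit false
universe u
open Synt

namespace Groth.Agent.S18938

/-- Let A be a Noetherian commutative ring and B a syntomic A-algebra. Then Spec B is covered by basic
opens D(g) with B[1/g] isomorphic, as an A-algebra, to A[T_1, …, T_n]/(P_1, …, P_d) for a regular
sequence P_1, …, P_d (successive non-zero-divisors with nonzero last quotient) in the polynomial
ring A[T_1, …, T_n]. (The source states this for a syntomic scheme over Spec A, syntomic meaning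
flat, locally of finite presentation and locally a Koszul-regular immersion into a smooth scheme;
here syntomic is the ring-map notion with local complete intersection fibres, which agrees with it.) -/
theorem result
    (A : Type u) [CommRing A] [IsNoetherianRing A] (B : Type u) [CommRing B] [Algebra A B]
    (h : Synt.IsSyntomic A B) (q : PrimeSpectrum B) :
    ∃ g : B, g ∉ q.asIdeal ∧
      ∃ (n d : ℕ) (P : Fin d → MvPolynomial (Fin n) A),
        RingTheory.Sequence.IsRegular (MvPolynomial (Fin n) A) (List.ofFn P) ∧
        Nonempty (Localization.Away g ≃ₐ[A] (MvPolynomial (Fin n) A ⧸ Ideal.ofList (List.ofFn P))) := by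
  obtain ⟨g, hg, m, c, F, hF, hreg, ⟨e⟩⟩ := SyntLCI.exists_relGCI_nhd_of_isSyntomic h q.asIdeal
  refine ⟨g, hg, m, c, F, ⟨hreg, ?_⟩, ⟨e.trans (Ideal.quotientEquivAlgOfEq A (NLAmp.ofList_ofFn F).symm)⟩⟩
  rw [smul_eq_mul, Ideal.mul_top, NLAmp.ofList_ofFn]
  have : Nontrivial (Localization.Away g) := by
    refine ⟨1, 0, fun h10 => ?_⟩
    obtain ⟨⟨_, N, rfl⟩, hN⟩ := (IsLocalization.map_eq_zero_iff (Submonoid.powers g) (Localization.Away g) (1 : B)).1
      (by rw [map_one, h10])
    exact hg (q.2.mem_of_pow_mem N (by simp [show g ^ N = 0 by simpa using hN]))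
  have := (Ideal.Quotient.nontrivial_iff).1 (e.symm.toEquiv.nontrivial)
  exact this.symm

end Groth.Agent.S18938
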