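import Groth.Statements.S18942
import Mathlib.RingTheory.WittVector.TeichmullerSeries
import Mathlib.NumberTheory.Basic

set_option autoImplicit false
universe u
open DPow

namespace Groth.Agent.S18942

/-- Let p be a prime, k a perfect field of characteristic p, n a natural number and x an element of
W_n(k), written here as the truncation of a Witt vector x over k. For any Witt vectors y_0, …,
y_{n−1} over k lifting the components of x under the map y ↦ (y_0)^(p^n) (that is, (y_i)_0^(p^n) =
x_i), one has x = Σ_{i<n} p^i y_i^(p^(n−i)) in W_n(k). -/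
theorem result (p : ℕ) [Fact p.Prime]
    (k : Type u) [Field k] [CharP k p] [PerfectRing k p] (n : ℕ) (x : WittVector p k)
    (y : Fin n → WittVector p k) (hy : ∀ i : Fin n, ((y i).coeff 0) ^ (p ^ n) = x.coeff i) :
    WittVector.truncate n x =
      WittVector.truncate n (∑ i : Fin n, (p : WittVector p k) ^ (i : ℕ) * (y i) ^ (p ^ (n - i))) := by
  rcases n with _ | N
  · ext i; exact i.elim0
  rw [← sub_eq_zero, ← map_sub, ← RingHom.mem_ker, WittVector.mem_ker_truncate]
  rw [← WittVector.mem_span_p_pow_iff_le_coeff_eq_zero, Ideal.mem_span_singleton]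
  have h1 := WittVector.dvd_sub_sum_teichmuller_iterateFrobeniusEquiv_coeff x N
  have h2 : (p : WittVector p k) ^ (N + 1) ∣
      (∑ i ≤ N, (WittVector.teichmuller p
        (((_root_.frobeniusEquiv k p).symm ^ i) (x.coeff i)) * (p : WittVector p k) ^ i)) -
      ∑ i : Fin (N + 1), (p : WittVector p k) ^ (i : ℕ) * (y i) ^ (p ^ (N + 1 - i)) := by
    rw [← Nat.range_succ_eq_Iic, ← Fin.sum_univ_eq_sum_range (fun i => WittVector.teichmuller p
        (((_root_.frobeniusEquiv k p).symm ^ i) (x.coeff i)) * (p : WittVector p k) ^ i),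
      ← Finset.sum_sub_distrib]
    refine Finset.dvd_sum fun i _ => ?_
    have hy0 : (p : WittVector p k) ∣ WittVector.teichmuller p ((y i).coeff 0) - y i := by
      rw [← Ideal.mem_span_singleton, ← pow_one ((p : WittVector p k)),
        WittVector.mem_span_p_pow_iff_le_coeff_eq_zero,
        ← WittVector.le_coeff_eq_iff_le_sub_coeff_eq_zero]
      intro j hj
      obtain rfl : j = 0 := by omega
      rw [WittVector.teichmuller_coeff_zero]
    have hz : ((_root_.frobeniusEquiv k p).symm ^ (i : ℕ)) (x.coeff i) =
        (y i).coeff 0 ^ p ^ (N + 1 - i) := by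
      have key : ∀ (j : ℕ) (z : k), ((_root_.frobeniusEquiv k p).symm ^ j) (z ^ p ^ j) = z := by
        intro j
        induction j with
        | zero => intro z; simp
        | succ j ih =>
          intro z
          rw [pow_succ' ((_root_.frobeniusEquiv k p).symm), RingAut.mul_apply, pow_succ' p, pow_mul,
            ih, frobeniusEquiv_symm_pow]
      rw [← hy i]
      conv_lhs => rw [show p ^ (N + 1) = p ^ (N + 1 - i) * p ^ (i : ℕ) by
        rw [← pow_add]; congr 1; omega, pow_mul]
      exact key _ _
    rw [hz, map_pow, mul_comm (_ ^ _) ((p : WittVector p k) ^ (i : ℕ)), ← mul_sub]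
    have h3 := dvd_sub_pow_of_dvd_sub hy0 (N + 1 - i)
    have hd : (p : WittVector p k) ^ (N + 1) ∣ (p : WittVector p k) ^ (i : ℕ) *
        (p : WittVector p k) ^ (N + 1 - i + 1) := by
      rw [← pow_add]; exact pow_dvd_pow _ (by omega)
    exact hd.trans (mul_dvd_mul_left _ h3)
  have := dvd_add h1 h2
  rwa [sub_add_sub_cancel] at this

end Groth.Agent.S18942
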