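import Groth.Statements.S18943
import Mathlib.Analysis.Calculus.ParametricIntervalIntegral
import Mathlib.MeasureTheory.Integral.IntervalIntegral.FundThmCalculus
import Mathlib.Analysis.Calculus.ContDiff.Operations
import Mathlib.Analysis.Calculus.ContDiff.Deriv
import Mathlib.MeasureTheory.Integral.DominatedConvergence
-- import your own Groth.Agent.* helpers here

set_option autoImplicit false
open scoped ContDiff
open CInfGerm

namespace Groth.Agent.S18943
open MeasureTheory intervalIntegral in
theorem hasDerivAt_G (h : ℝ → ℝ) (hh : ContDiff ℝ 1 h) (k : ℕ) (x : ℝ) :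
    HasDerivAt (fun x => ∫ t in (0:ℝ)..1, t ^ k * h (t * x))
      (∫ t in (0:ℝ)..1, t ^ (k+1) * deriv h (t * x)) x := by
  have hc : Continuous (deriv h) := hh.continuous_deriv le_rfl
  obtain ⟨C, hC⟩ := (isCompact_Icc (a := -(|x|+1)) (b := |x|+1)).exists_bound_of_continuousOn hc.continuousOn
  refine (intervalIntegral.hasDerivAt_integral_of_dominated_loc_of_deriv_le
    (F' := fun x t => t ^ (k+1) * deriv h (t * x)) (bound := fun _ => C)
    (Metric.ball_mem_nhds x one_pos) ?_ ?_ ?_ ?_ ?_ ?_).2
  · refine Filter.Eventually.of_forall fun y => ?_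
    exact ((continuous_pow k).mul (hh.continuous.comp (continuous_id.mul continuous_const))).aestronglyMeasurable
  · exact ((continuous_pow k).mul (hh.continuous.comp (continuous_id.mul continuous_const))).intervalIntegrable _ _
  · exact ((continuous_pow (k+1)).mul (hc.comp (continuous_id.mul continuous_const))).aestronglyMeasurable
  · refine Filter.Eventually.of_forall fun t ht y hy => ?_
    rw [Set.uIoc_of_le zero_le_one] at ht
    have h1 : |t| ≤ 1 := by rw [abs_le]; constructor <;> linarith [ht.1, ht.2]
    have h2 : |y| ≤ |x| + 1 := by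
      rw [Metric.mem_ball, Real.dist_eq] at hy
      have := abs_add_le (y - x) x
      rw [sub_add_cancel] at this
      linarith
    have h3 : t * y ∈ Set.Icc (-(|x|+1)) (|x|+1) := by
      rw [Set.mem_Icc, ← abs_le, abs_mul]
      calc |t| * |y| ≤ 1 * |y| := by gcongr
        _ ≤ |x| + 1 := by linarith
    have h4 : |t ^ (k+1)| ≤ 1 := by rw [abs_pow]; exact pow_le_one₀ (abs_nonneg _) h1
    rw [Real.norm_eq_abs, abs_mul]
    have h5 := hC _ h3
    rw [Real.norm_eq_abs] at h5
    calc _ ≤ 1 * |deriv h (t * y)| := by gcongr
      _ ≤ C := by linarith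
  · exact intervalIntegrable_const
  · refine Filter.Eventually.of_forall fun t _ y _ => ?_
    have e : HasDerivAt (fun y => t * y) t y := by simpa using (hasDerivAt_id y).const_mul t
    have := (((hh.differentiable one_ne_zero).differentiableAt (x := t*y)).hasDerivAt.comp y e).const_mul (t ^ k)
    convert this using 1
    all_goals first | rfl | (ext z; rfl) | ring

theorem contDiff_G (n : ℕ) : ∀ (h : ℝ → ℝ), ContDiff ℝ ∞ h → ∀ k : ℕ,
    ContDiff ℝ n (fun x => ∫ t in (0:ℝ)..1, t ^ k * h (t * x)) := by
  induction n with
  | zero =>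
    intro h hh k
    rw [Nat.cast_zero, contDiff_zero, continuous_iff_continuousAt]
    exact fun x => (hasDerivAt_G h (hh.of_le (by exact_mod_cast le_top)) k x).continuousAt
  | succ n ih =>
    intro h hh k
    rw [Nat.cast_succ, contDiff_succ_iff_deriv]
    refine ⟨fun x => (hasDerivAt_G h (hh.of_le (by exact_mod_cast le_top)) k x).differentiableAt, by simp, ?_⟩
    have : deriv (fun x => ∫ t in (0:ℝ)..1, t ^ k * h (t * x)) = fun x => ∫ t in (0:ℝ)..1, t ^ (k+1) * deriv h (t * x) := by
      funext x; exact (hasDerivAt_G h (hh.of_le (by exact_mod_cast le_top)) k x).deriv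
    rw [this]
    exact ih _ (contDiff_infty_iff_deriv.1 hh).2 (k+1)


/-- Let f be an infinitely differentiable real-valued function on the real line with f(0) = 0. Then f(x)
= x·g(x) for an infinitely differentiable function g. (The source phrases this for germs at 0: the
maximal ideal of the local ring of germs of smooth functions at the origin is generated by the
coordinate t; the global form stated here is what its argument, smooth extension of f(x)/x across 0,
gives.) -/
theorem result (f : ℝ → ℝ) (hf : ContDiff ℝ ∞ f) (h0 : f 0 = 0) :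
    ∃ g : ℝ → ℝ, ContDiff ℝ ∞ g ∧ ∀ x : ℝ, f x = x * g x := by
  refine ⟨fun x => ∫ t in (0:ℝ)..1, t ^ 0 * deriv f (t * x),
    contDiff_infty.2 fun n => contDiff_G n _ (contDiff_infty_iff_deriv.1 hf).2 0, fun x => ?_⟩
  have hd : Differentiable ℝ f := (contDiff_infty_iff_deriv.1 hf).1
  have hc : Continuous (deriv f) := hf.continuous_deriv (by exact_mod_cast le_top)
  simp only [pow_zero, one_mul]
  rw [← intervalIntegral.integral_const_mul]
  have key : ∀ t ∈ Set.uIcc (0:ℝ) 1, HasDerivAt (fun t => f (t * x)) (x * deriv f (t * x)) t := by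
    intro t _
    have := (hd (t*x)).hasDerivAt.comp t ((hasDerivAt_id t).mul_const x)
    simpa [Function.comp_def, mul_comm] using this
  rw [intervalIntegral.integral_eq_sub_of_hasDerivAt key
    ((continuous_const.mul (hc.comp (continuous_id.mul continuous_const))).intervalIntegrable _ _)]
  simp [h0]

end Groth.Agent.S18943
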