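import Groth.Statements.S18945
import Groth.Agent.SyntLCI.Mor
import Groth.Agent.S18934


set_option autoImplicit false
universe u
open CategoryTheory AlgebraicGeometry
open Synt

namespace Groth.Agent.S18945

theorem pow_aux (p : ℕ) {X : Scheme.{u}} (a : Γ(X, ⊤)) {U : X.Opens} (hU : IsAffineOpen U) {B : CommRingCat.{u}}
    (φ : Γ(X, U) ⟶ B) (b : B) (hb : b ^ p = φ (X.presheaf.map (homOfLE le_top).op a)) :
    ∃ c : Γ(Spec B, ⊤), c ^ p = (Spec.map φ ≫ hU.fromSpec).appTop a := by
  refine ⟨(Scheme.ΓSpecIso B).inv b, ?_⟩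
  rw [← map_pow, hb, ← CommRingCat.comp_apply, ← CommRingCat.comp_apply, Scheme.ΓSpecIso_inv_naturality,
    Scheme.Hom.comp_appTop, show hU.fromSpec.appTop = X.presheaf.map (homOfLE le_top).op ≫ (Scheme.ΓSpecIso Γ(X, U)).inv by
      rw [Scheme.Hom.appTop, hU.fromSpec_app_of_le ⊤ le_top]; simp]
  rfl

theorem surj_aux {X : Scheme.{u}} {U : X.Opens} (hU : IsAffineOpen U) (B : Type u) [CommRing B] [Algebra Γ(X, U) B]
    [Module.FaithfullyFlat Γ(X, U) B] (x : X) (hx : x ∈ U) :
    x ∈ Set.range (Spec.map (CommRingCat.ofHom (algebraMap Γ(X, U) B)) ≫ hU.fromSpec) := by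
  obtain ⟨z, hz⟩ := PrimeSpectrum.comap_surjective_of_faithfullyFlat (B := B) (hU.primeIdealOf ⟨x, hx⟩)
  exact ⟨z, (congrArg hU.fromSpec hz).trans (hU.fromSpec_primeIdealOf ⟨x, hx⟩)⟩

/-- Let p be a prime, X a scheme and a a global section of the structure sheaf of X. There is a covering
of X for the syntomic topology, that is a jointly surjective family of syntomic morphisms X_i → X,
such that the restriction of a to each X_i is a p-th power. (The source states the surjectivity of
the p-th power map of the structure sheaf on the small syntomic site of a syntomic scheme over a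
perfect field of characteristic p; the covering it uses elsewhere, adjoining a p-th root T^p = a
over affine pieces, gives the statement for every scheme, which is the form given here.) -/
theorem result (p : ℕ) [Fact p.Prime] (X : Scheme.{u}) (a : Γ(X, ⊤)) :
    ∃ 𝒰 : Scheme.Cover.{u} (Scheme.precoverage @Synt.IsSyntomicMor) X,
      ∀ i : 𝒰.I₀, ∃ b : Γ(𝒰.X i, ⊤), b ^ p = (𝒰.f i).appTop a := by
  let A : X.affineOpens → CommRingCat.{u} := fun U => Γ(X, U.1)
  let a' : (U : X.affineOpens) → Γ(X, U.1) := fun U => X.presheaf.map (homOfLE le_top).op a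
  let B : (U : X.affineOpens) → Type u := fun U => AdjoinRoot (Polynomial.X ^ p - Polynomial.C (a' U))
  let g : (U : X.affineOpens) → (Spec (CommRingCat.of (B U)) ⟶ X) := fun U =>
    Spec.map (CommRingCat.ofHom (algebraMap Γ(X, U.1) (B U))) ≫ U.2.fromSpec
  have hg : ∀ U, Synt.IsSyntomicMor (g U) := fun U => by
    rw [Groth.Agent.SyntLCI.isSyntomicMor_iff]
    have := AlgebraicGeometry.HasRingHomProperty.respects_isOpenImmersion (P := Groth.Agent.SyntLCI.synMor.{u})
      Groth.Agent.SyntLCI.syn_stableUnderCompositionWithLocalizationAwaySource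
    refine MorphismProperty.RespectsRight.postcomp (Q := @IsOpenImmersion) _ inferInstance _ ?_
    exact AlgebraicGeometry.HasRingHomProperty.Spec_iff.2
      ((Groth.Agent.SyntLCI.syn_algebraMap _ _).2 (Groth.Agent.S18934.result p _ (a' U)).1)
  refine ⟨Scheme.Cover.mkOfCovers X.affineOpens (fun U => Spec (CommRingCat.of (B U))) g (fun x => ?_) hg, fun U => ?_⟩
  · obtain ⟨_, ⟨U, hU, rfl⟩, hxU, -⟩ :=
      X.isBasis_affineOpens.exists_subset_of_mem_open (Set.mem_univ x) isOpen_univ
    exact ⟨⟨U, hU⟩, @surj_aux X U hU _ _ _ (Groth.Agent.S18934.result p _ (a' ⟨U, hU⟩)).2 x hxU⟩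
  · change X.affineOpens at U
    exact pow_aux p a U.2 (CommRingCat.ofHom (algebraMap Γ(X, U.1) (B U))) (AdjoinRoot.root _) (by
      have h := AdjoinRoot.eval₂_root (Polynomial.X ^ p - Polynomial.C (a' U))
      rw [Polynomial.eval₂_sub, Polynomial.eval₂_X_pow, Polynomial.eval₂_C, sub_eq_zero] at h
      exact h)

end Groth.Agent.S18945
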