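-- statement InvQ.GrothFrozen.S18946 (Groth/Statements/S18946.lean; the theorem InvQ.mvPolynomial_fixed_by_detOne_torus_iff_mem_adjoin_prod);
import Groth.Statements.S18946
import Mathlib

set_option autoImplicit false
universe u
open scoped BigOperators
open InvQ

namespace Groth.Agent.S18946

/-- Let k be an algebraically closed field of characteristic zero and n a natural number, and let the
torus of (n+1)-tuples of units of k with product 1 act on the polynomial ring k[t_0, ..., t_n] by
rescaling each variable t_i by the i-th unit. A polynomial is fixed by every such rescaling if and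
only if it lies in the k-subalgebra generated by the product t_0 t_1 ... t_n. (This is the
computation of the ring of functions on affine (n+1)-space invariant under the maximal diagonal
torus of the special linear group, identified with the polynomial ring in the single coordinate t =
t_0 ... t_n of the line it maps to by the product map; invariance is tested on k-valued points of
the torus, which over an infinite field is the same as invariance under the group scheme.) -/
theorem result
    (k : Type u) [Field k] [IsAlgClosed k] [CharZero k] (n : ℕ)
    (f : MvPolynomial (Fin (n + 1)) k) :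
    (∀ σ : Fin (n + 1) → kˣ, ∏ i, (σ i : k) = 1 →
        MvPolynomial.aeval (fun i => MvPolynomial.C (σ i : k) * MvPolynomial.X i) f = f) ↔
      f ∈ Algebra.adjoin k ({∏ i : Fin (n + 1), MvPolynomial.X i} : Set (MvPolynomial (Fin (n + 1)) k)) := by
  classical
  constructor
  · intro h
    have hsupp : ∀ d ∈ f.support, ∀ i j, d i = d j := fun d hd i j => by
      by_cases hij : i = j
      · rw [hij]
      let u : kˣ := Units.mk0 2 two_ne_zero
      let σ : Fin (n + 1) → kˣ := Pi.mulSingle i u * Pi.mulSingle j u⁻¹
      have hσ : ∏ l, (σ l : k) = 1 := by
        rw [← Units.coe_prod, show ∏ l, σ l = 1 by simp [σ, Pi.mul_apply, Finset.prod_mul_distrib, Fintype.prod_pi_mulSingle']]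
        rfl
      have hco : ∀ g : MvPolynomial (Fin (n + 1)) k,
          (MvPolynomial.aeval (fun l => MvPolynomial.C (σ l : k) * MvPolynomial.X l) g).coeff d = g.coeff d * ∏ l, (σ l : k) ^ d l := fun g => by
        induction g using MvPolynomial.induction_on' with
        | monomial e c =>
          rw [MvPolynomial.aeval_monomial, Finsupp.prod_fintype _ _ (fun i => pow_zero _)]
          simp only [mul_pow, Finset.prod_mul_distrib, ← map_pow, ← map_prod, MvPolynomial.algebraMap_eq, ← mul_assoc, ← map_mul]
          rw [MvPolynomial.coeff_C_mul, MvPolynomial.coeff_monomial, show ∏ l, (MvPolynomial.X l : MvPolynomial (Fin (n + 1)) k) ^ e l = MvPolynomial.monomial e 1 by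
            rw [MvPolynomial.monomial_eq, map_one, one_mul, Finsupp.prod_fintype _ _ (fun i => pow_zero _)], MvPolynomial.coeff_monomial]
          split_ifs with he
          · subst he; rw [mul_one]
          · simp
        | add p q hp hq => rw [map_add, MvPolynomial.coeff_add, hp, hq, MvPolynomial.coeff_add, add_mul]
      have h1 := congrArg (MvPolynomial.coeff d) (h σ hσ)
      rw [hco, mul_eq_left₀ (MvPolynomial.mem_support_iff.1 hd)] at h1
      have h2 : ∏ l, (σ l : k) ^ d l = (2 : k) ^ d i * (2⁻¹ : k) ^ d j := by
        rw [← Finset.prod_subset (Finset.subset_univ {i, j}) fun l _ hl => by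
          simp only [Finset.mem_insert, Finset.mem_singleton, not_or] at hl
          simp [σ, hl.1, hl.2], Finset.prod_pair hij]
        simp [σ, u, hij, Ne.symm hij]
      rw [h2, inv_pow, mul_inv_eq_one₀ (pow_ne_zero _ two_ne_zero)] at h1
      refine Nat.pow_right_injective (le_refl 2) ?_
      show 2 ^ d i = 2 ^ d j
      exact_mod_cast h1
    rw [MvPolynomial.as_sum f]
    refine Subalgebra.sum_mem _ fun d hd => ?_
    have : MvPolynomial.monomial d (MvPolynomial.coeff d f) = MvPolynomial.C (MvPolynomial.coeff d f) * (∏ i, MvPolynomial.X i) ^ d 0 := by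
      rw [MvPolynomial.monomial_eq, Finsupp.prod_fintype _ _ (fun i => pow_zero _), ← Finset.prod_pow]
      congr 1
      exact Finset.prod_congr rfl fun i _ => by rw [hsupp d hd i 0]
    rw [this]
    have hC : ∀ c : k, (MvPolynomial.C c : MvPolynomial (Fin (n + 1)) k) ∈ Algebra.adjoin k ({∏ i : Fin (n + 1), MvPolynomial.X i} : Set (MvPolynomial (Fin (n + 1)) k)) := fun c => by
      rw [← MvPolynomial.algebraMap_eq]; exact Subalgebra.algebraMap_mem _ _
    exact Subalgebra.mul_mem _ (hC _) (Subalgebra.pow_mem _ (Algebra.subset_adjoin (Set.mem_singleton _)) _)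
  · intro hf σ hσ
    induction hf using Algebra.adjoin_induction with
    | mem x hx =>
      rw [Set.mem_singleton_iff] at hx
      rw [hx, map_prod]
      simp only [MvPolynomial.aeval_X, Finset.prod_mul_distrib, ← map_prod, hσ, map_one, one_mul]
    | algebraMap r => exact AlgHom.commutes _ r
    | add x y _ _ hx hy => rw [map_add, hx, hy]
    | mul x y _ _ hx hy => rw [map_mul, hx, hy]

end Groth.Agent.S18946
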