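import Groth.Statements.S18947
import Mathlib

set_option autoImplicit false
universe u v
open GalTw

namespace Groth.Agent.S18947

/-- Let a group Γ act on a group A by group automorphisms and let z be a 1-cocycle of Γ with values in
A. The underlying set of A with the twisted action σ • a = z(σ) · σ(a) is a transitive Γ-set if and
only if the map z : Γ → A is surjective. (In the source Γ is the absolute Galois group of a field k,
A the geometric points of a finite étale group scheme G, the twisted set is the set of geometric
points of the G-torsor attached to z, and transitivity is connectedness of that torsor; the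
equivalence is stated here for an arbitrary action, with no finiteness or continuity hypothesis.) -/
theorem result {Γ : Type u} {A : Type v} [Group Γ] [Group A]
    [MulDistribMulAction Γ A] (z : GpH1.OneCocycle Γ A) :
    MulAction.IsPretransitive Γ (GalTw.Tw z A) ↔ Function.Surjective z.1 := by
  constructor
  · intro h a
    obtain ⟨σ, hσ⟩ := h.exists_smul_eq (1 : A) a
    refine ⟨σ, ?_⟩
    have : z σ * σ • (1 : A) = a := hσ
    rwa [smul_one, mul_one] at this
  · intro h
    refine ⟨fun x y => ?_⟩
    obtain ⟨σ, hσ⟩ := h x
    obtain ⟨τ, hτ⟩ := h y
    refine ⟨τ * σ⁻¹, ?_⟩
    have h1 := z.2 (τ * σ⁻¹) σ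
    rw [inv_mul_cancel_right] at h1
    show (show A from z (τ * σ⁻¹) * (τ * σ⁻¹) • (show A from x)) = (show A from y)
    rw [← hσ, ← hτ]
    exact h1.symm

end Groth.Agent.S18947
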