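import Groth.Statements.S18948
import Mathlib.GroupTheory.GroupAction.ConjAct
import Mathlib.Tactic.Group

set_option autoImplicit false
universe u v
open CExt

namespace Groth.Agent.S18948

/-- Let f : E → G be a surjective homomorphism of groups whose kernel is central in E, and let x ∈ E.
Then f maps the conjugacy class of x bijectively onto the conjugacy class of f(x) if and only if
every element of G commuting with f(x) is the image of some element of E commuting with x. (In the
source E → G is the central extension, with kernel the roots of unity, attached to a Brauer class of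
the classifying stack of a finite tame étale group scheme, and a conjugacy class of E mapping
bijectively onto a given class of G is a marking; the equivalence is stated here for an arbitrary
central extension of abstract groups.) -/
theorem result {E : Type u} {G : Type v} [Group E] [Group G]
    (f : E →* G) (hf : Function.Surjective f) (hker : f.ker ≤ Subgroup.center E) (x : E) :
    Set.BijOn f (MulAction.orbit (ConjAct E) x) (MulAction.orbit (ConjAct G) (f x)) ↔
      ∀ g : G, g * f x = f x * g → ∃ e : E, f e = g ∧ e * x = x * e := by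
  have hE : ∀ z, z ∈ MulAction.orbit (ConjAct E) x ↔ ∃ c : E, c * x * c⁻¹ = z := fun z =>
    ⟨fun ⟨c, hc⟩ => ⟨ConjAct.ofConjAct c, hc⟩, fun ⟨c, hc⟩ => ⟨ConjAct.toConjAct c, hc⟩⟩
  have hG : ∀ z, z ∈ MulAction.orbit (ConjAct G) (f x) ↔ ∃ c : G, c * f x * c⁻¹ = z := fun z =>
    ⟨fun ⟨c, hc⟩ => ⟨ConjAct.ofConjAct c, hc⟩, fun ⟨c, hc⟩ => ⟨ConjAct.toConjAct c, hc⟩⟩
  constructor
  · intro h g hg
    obtain ⟨e, rfl⟩ := hf g
    refine ⟨e, rfl, ?_⟩
    have := h.2.1 ((hE _).mpr ⟨e, rfl⟩) (MulAction.mem_orbit_self x) (by simp [hg])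
    rwa [mul_inv_eq_iff_eq_mul] at this
  · intro h
    refine ⟨fun z hz => ?_, fun z₁ h₁ z₂ h₂ he => ?_, fun y hy => ?_⟩
    · obtain ⟨c, rfl⟩ := (hE z).mp hz
      exact (hG _).mpr ⟨f c, by simp⟩
    · obtain ⟨a, rfl⟩ := (hE _).mp h₁
      obtain ⟨b, rfl⟩ := (hE _).mp h₂
      simp only [map_mul, map_inv] at he
      have hc : (f b)⁻¹ * f a * f x = f x * ((f b)⁻¹ * f a) :=
        calc (f b)⁻¹ * f a * f x = (f b)⁻¹ * (f a * f x * (f a)⁻¹) * f a := by group
          _ = (f b)⁻¹ * (f b * f x * (f b)⁻¹) * f a := by rw [he]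
          _ = f x * ((f b)⁻¹ * f a) := by group
      obtain ⟨e, he', hex⟩ := h _ hc
      have hk : b * e * a⁻¹ ∈ f.ker := by simp [MonoidHom.mem_ker, he']
      have hz := Subgroup.mem_center_iff.mp (hker hk) (a * x * a⁻¹)
      -- the class of `x` is preserved
      refine mul_right_cancel (b := b * e * a⁻¹) ?_
      calc a * x * a⁻¹ * (b * e * a⁻¹) = b * e * a⁻¹ * (a * x * a⁻¹) := hz
        _ = b * (e * x) * a⁻¹ := by group
        _ = b * (x * e) * a⁻¹ := by rw [hex]
        _ = b * x * b⁻¹ * (b * e * a⁻¹) := by group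
    · obtain ⟨g, rfl⟩ := (hG y).mp hy
      obtain ⟨c, rfl⟩ := hf g
      exact ⟨c * x * c⁻¹, (hE _).mpr ⟨c, rfl⟩, by simp⟩

end Groth.Agent.S18948
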