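import Groth.Statements.S18949
-- import your own Groth.Agent.* helpers here

set_option autoImplicit false
universe u v
open CExt

namespace Groth.Agent.S18949

/-- Automorphisms over the base: let f : E → G be a surjective homomorphism of groups with central
kernel A. For every homomorphism χ : G → A the map e ↦ χ(f(e)) · e is an endomorphism of E over G
which is the identity on A; and every endomorphism α of E with f ∘ α = f and α equal to the identity
on A is of this form for exactly one χ. (In the source this identifies the automorphisms of a
central extension fixing its kernel with Hom(G, A), for extensions of profinite étale group schemes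
over a field; stated here for abstract groups.) -/
theorem result {E : Type u} {G : Type v} [Group E] [Group G]
    (f : E →* G) (hf : Function.Surjective f) (hker : f.ker ≤ Subgroup.center E) :
    (∀ χ : G →* f.ker, ∃ α : E →* E, f.comp α = f ∧ (∀ a ∈ f.ker, α a = a) ∧
        ∀ e : E, α e = (χ (f e) : E) * e) ∧
      ∀ α : E →* E, f.comp α = f → (∀ a ∈ f.ker, α a = a) →
        ∃! χ : G →* f.ker, ∀ e : E, α e = (χ (f e) : E) * e := by
  refine ⟨fun χ => ?_, fun α hα hαA => ?_⟩
  · have hc : ∀ (g : G) (e : E), (χ g : E) * e = e * (χ g : E) := fun g e =>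
      (Subgroup.mem_center_iff.mp (hker (χ g).2) e).symm
    let α : E →* E :=
      { toFun := fun e => (χ (f e) : E) * e
        map_one' := by simp
        map_mul' := fun a b => by
          simp only [map_mul, Subgroup.coe_mul]
          rw [mul_assoc, ← mul_assoc ((χ (f b) : E)), hc (f b) a]
          simp only [mul_assoc] }
    refine ⟨α, ?_, fun a ha => ?_, fun e => rfl⟩
    · ext e
      have := MonoidHom.mem_ker.mp (χ (f e)).2
      simp [α, this]
    · simp [α, MonoidHom.mem_ker.mp ha]
  · have hd : ∀ e, α e * e⁻¹ ∈ f.ker := fun e => by
      simp only [MonoidHom.mem_ker, map_mul, map_inv]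
      rw [show f (α e) = f e from DFunLike.congr_fun hα e, mul_inv_cancel]
    let d : E →* f.ker :=
      { toFun := fun e => ⟨α e * e⁻¹, hd e⟩
        map_one' := by simp
        map_mul' := fun a b => Subtype.ext <| by
          have hb := Subgroup.mem_center_iff.mp (hker (hd b)) a⁻¹
          simp only [map_mul, mul_inv_rev, Subgroup.coe_mul]
          calc α a * α b * (b⁻¹ * a⁻¹) = α a * (α b * b⁻¹ * a⁻¹) := by simp only [mul_assoc]
            _ = α a * (a⁻¹ * (α b * b⁻¹)) := by rw [hb]
            _ = α a * a⁻¹ * (α b * b⁻¹) := by simp only [mul_assoc] }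
    have hk : f.ker ≤ d.ker := fun a ha => Subtype.ext <| by simp [d, hαA a ha]
    refine ⟨f.liftOfSurjective hf ⟨d, hk⟩, fun e => ?_, fun χ hχ => ?_⟩
    · rw [MonoidHom.liftOfRightInverse_comp_apply]
      simp [d]
    · refine MonoidHom.ext fun g => ?_
      obtain ⟨e, rfl⟩ := hf g
      rw [MonoidHom.liftOfRightInverse_comp_apply]
      refine Subtype.ext ?_
      simp [d, hχ e]

end Groth.Agent.S18949
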