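import Groth.Statements.S18950
-- import your own Groth.Agent.* helpers here

set_option autoImplicit false
universe u v
open CExt

namespace Groth.Agent.S18950

/-- Let f : E → G be a homomorphism of groups whose kernel is central in E, let α be an endomorphism of
E with f ∘ α = f which is the identity on the kernel, and let S ⊆ E be a subset fixed pointwise by α
such that f(S) generates G. Then α is the identity. (In the source S is the marking of a marked
central extension of finite tame étale group schemes and the hypothesis is that the marked conjugacy
classes generate G; the conclusion there is that a morphism of marked extensions inducing the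
identity on the kernel and on G is unique.) -/
theorem result {E : Type u} {G : Type v} [Group E] [Group G]
    (f : E →* G) (hker : f.ker ≤ Subgroup.center E) (α : E →* E) (hα : f.comp α = f)
    (hαA : ∀ a ∈ f.ker, α a = a) (S : Set E) (hS : Subgroup.closure (f '' S) = ⊤)
    (hαS : ∀ s ∈ S, α s = s) : α = MonoidHom.id E := by
  ext e
  let δ : E → E := fun e => α e * e⁻¹
  have hd : ∀ e, δ e ∈ f.ker := fun e => by
    simp only [δ, MonoidHom.mem_ker, map_mul, map_inv]
    rw [show f (α e) = f e from DFunLike.congr_fun hα e, mul_inv_cancel]
  let T : Subgroup E :=
    { carrier := {e | α e = e}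
      mul_mem' := fun {a b} ha hb => by simp_all
      one_mem' := map_one α
      inv_mem' := fun {a} ha => by simp_all }
  have hT : f.ker ≤ T := hαA
  have : T = ⊤ := by
    have h1 : Subgroup.closure (f '' S) ≤ T.map f :=
      (Subgroup.closure_le _).mpr fun _ ⟨s, hs, h⟩ => ⟨s, hαS s hs, h⟩
    rw [hS] at h1
    refine eq_top_iff.mpr fun e _ => ?_
    obtain ⟨t, ht, hte⟩ := h1 (Subgroup.mem_top (f e))
    have hk : e * t⁻¹ ∈ f.ker := by simp [MonoidHom.mem_ker, hte]
    simpa using T.mul_mem (hT hk) ht
  exact (this ▸ Subgroup.mem_top e : e ∈ T)

end Groth.Agent.S18950
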