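import Groth.Statements.S18952
import Mathlib

set_option autoImplicit false
universe u
open OrbPic

namespace Groth.Agent.S18952

/-- Let G be a group and C ⊆ G a subset stable under conjugation. Then (χ, w) ↦ χ maps the group of
geometric partial orbifold line bundles with respect to C onto all characters G → ℚ/ℤ, and a pair in
its kernel (χ trivial) has w a conjugation-invariant integer-valued function vanishing at 1 and
outside C: with the inclusion of such functions this is the exact sequence 0 → Hom(C/conj, ℤ) → Pic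
→ Hom(G, ℚ/ℤ) → 0 over a separably closed field. (As in the source after a choice of roots of unity,
the group G stands for the geometric points of a tame finite étale group scheme, characters are
homomorphisms to ℚ/ℤ and weights are class functions on G.) -/
theorem result (G : Type u) [Group G] (C : Set G)
    (hC : ∀ g h : G, g ∈ C → h * g * h⁻¹ ∈ C) :
    (∀ χ : Additive G →+ W4c6brauerbgmalle.QmodZ, ∃ w : G → ℚ, (χ, w) ∈ W4c6brauerbgmalle.picOrb G C) ∧
      (∀ p : (Additive G →+ W4c6brauerbgmalle.QmodZ) × (G → ℚ), p ∈ W4c6brauerbgmalle.picOrb G C → p.1 = 0 →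
        p.2 ∈ W4c6brauerbgmalle.intWeights G C) := by
  classical
  refine ⟨fun χ => ?_, ?_⟩
  · have hs : ∀ g : G, ∃ r : ℚ, W4c6brauerbgmalle.toQmodZ r = χ (Additive.ofMul g) :=
      fun g => QuotientAddGroup.mk'_surjective _ _
    let f : W4c6brauerbgmalle.QmodZ → ℚ := Function.surjInv (QuotientAddGroup.mk'_surjective _)
    refine ⟨fun g => if g ∈ C ∧ g ≠ 1 then f (χ (Additive.ofMul g)) else 0, by simp,
      fun g hg => by simp [hg], fun g h => ?_, fun g hg => ?_⟩
    · have h1 : h * g * h⁻¹ ∈ C ↔ g ∈ C := ⟨fun hh => by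
        have := hC _ h⁻¹ hh
        simpa [mul_assoc] using this, fun hh => hC g h hh⟩
      have h2 : h * g * h⁻¹ = 1 ↔ g = 1 := conj_eq_one_iff
      have h3 : χ (Additive.ofMul (h * g * h⁻¹)) = χ (Additive.ofMul g) := by
        rw [ofMul_mul, ofMul_mul, ofMul_inv, map_add, map_add, map_neg, add_comm (χ _) (χ (Additive.ofMul g)),
          add_neg_cancel_right]
      simp only [ne_eq, h1, h2, h3]
    · show W4c6brauerbgmalle.toQmodZ (if g ∈ C ∧ g ≠ 1 then f (χ (Additive.ofMul g)) else 0) = _
      rcases eq_or_ne g 1 with rfl | h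
      · simp
      · rw [if_pos ⟨hg, h⟩]
        exact Function.surjInv_eq _ _
  · rintro ⟨χ, w⟩ ⟨h1, h2, h3, h4⟩ (rfl : χ = 0)
    dsimp only at h1 h2 h3 h4
    refine ⟨h1, h2, h3, fun g => ?_⟩
    by_cases hg : g ∈ C
    · have h := h4 g hg
      rw [AddMonoidHom.zero_apply, QuotientAddGroup.mk'_apply, QuotientAddGroup.eq_zero_iff] at h
      obtain ⟨m, hm⟩ := AddSubgroup.mem_zmultiples_iff.mp h
      exact ⟨m, by simpa using hm.symm⟩
    · exact ⟨0, by simp [h2 g hg]⟩
end Groth.Agent.S18952
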