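import Groth.Statements.S18953
import Mathlib

set_option autoImplicit false
universe u v
open OrbPic

namespace Groth.Agent.S18953

/-- Let G₁ and G₂ be groups with subsets C₁ ⊆ G₁ and C₂ ⊆ G₂, and let C ⊆ G₁ × G₂ be the union of C₁ ×
{1} and {1} × C₂. Restricting the character and the weight along the two inclusions G₁ → G₁ × G₂ and
G₂ → G₁ × G₂ is a bijection from the geometric partial orbifold line bundles of G₁ × G₂ with respect
to C onto pairs of geometric partial orbifold line bundles of G₁ with respect to C₁ and of G₂ with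
respect to C₂. (As in the source after a choice of roots of unity, each group stands for the
geometric points of a tame finite étale group scheme, characters are homomorphisms to ℚ/ℤ and
weights are class functions; the source states the Galois-equivariant version, which follows by
taking invariants.) -/
theorem result (G₁ : Type u) (G₂ : Type v) [Group G₁] [Group G₂] (C₁ : Set G₁) (C₂ : Set G₂) :
    Set.BijOn
      (fun p : (Additive (G₁ × G₂) →+ W4c6brauerbgmalle.QmodZ) × (G₁ × G₂ → ℚ) =>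
        ((p.1.comp (MonoidHom.toAdditive (MonoidHom.inl G₁ G₂)), fun g => p.2 (g, 1)),
          (p.1.comp (MonoidHom.toAdditive (MonoidHom.inr G₁ G₂)), fun g => p.2 (1, g))))
      (W4c6brauerbgmalle.picOrb (G₁ × G₂) ((fun g => (g, (1 : G₂))) '' C₁ ∪ (fun g => ((1 : G₁), g)) '' C₂))
      ((W4c6brauerbgmalle.picOrb G₁ C₁ : Set _) ×ˢ (W4c6brauerbgmalle.picOrb G₂ C₂ : Set _)) := by
  classical
  refine ⟨?_, ?_, ?_⟩
  · rintro ⟨χ, w⟩ ⟨h1, h2, h3, h4⟩
    refine ⟨⟨h1, fun g hg => ?_, fun g h => ?_, fun g hg => h4 (g, 1) (Or.inl ⟨g, hg, rfl⟩)⟩,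
      ⟨h1, fun g hg => ?_, fun g h => ?_, fun g hg => h4 (1, g) (Or.inr ⟨g, hg, rfl⟩)⟩⟩
    · rcases eq_or_ne g 1 with rfl | hne
      · exact h1
      · exact h2 (g, 1) (by simp [hg, Ne.symm hne])
    · have := h3 (g, 1) (h, 1); simpa using this
    · rcases eq_or_ne g 1 with rfl | hne
      · exact h1
      · exact h2 (1, g) (by simp [hg, Ne.symm hne])
    · have := h3 (1, g) (1, h); simpa using this
  · rintro ⟨χ, w⟩ ⟨h1, h2, h3, h4⟩ ⟨χ', w'⟩ ⟨h1', h2', h3', h4'⟩ h
    simp only [Prod.mk.injEq] at h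
    obtain ⟨⟨ha, hb⟩, hc, hd⟩ := h
    refine Prod.ext (AddMonoidHom.ext fun x => ?_) (funext fun g => ?_)
    · have hx : x = Additive.ofMul ((Additive.toMul x).1, (1 : G₂)) +
          Additive.ofMul ((1 : G₁), (Additive.toMul x).2) := by
        rw [← ofMul_mul, Prod.mk_mul_mk, mul_one, one_mul]
        rfl
      rw [hx, map_add, map_add]
      exact congrArg₂ (· + ·) (DFunLike.congr_fun ha _) (DFunLike.congr_fun hc _)
    · by_cases hg : g ∈ (fun g => (g, (1 : G₂))) '' C₁ ∪ (fun g => ((1 : G₁), g)) '' C₂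
      · rcases hg with ⟨a, _, rfl⟩ | ⟨a, _, rfl⟩
        · exact congrFun hb a
        · exact congrFun hd a
      · exact (h2 g hg).trans (h2' g hg).symm
  · rintro ⟨⟨χ₁, w₁⟩, ⟨χ₂, w₂⟩⟩ ⟨⟨a1, a2, a3, a4⟩, ⟨b1, b2, b3, b4⟩⟩
    dsimp only at a1 a2 a3 a4 b1 b2 b3 b4
    refine ⟨(χ₁.comp (MonoidHom.toAdditive (MonoidHom.fst G₁ G₂)) +
        χ₂.comp (MonoidHom.toAdditive (MonoidHom.snd G₁ G₂)),
      fun g => if g.2 = 1 then w₁ g.1 else if g.1 = 1 then w₂ g.2 else 0), ⟨?_, ?_, ?_, ?_⟩, ?_⟩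
    · simpa using a1
    · rintro ⟨a, b⟩ hg
      simp only [Set.mem_union, Set.mem_image, Prod.mk.injEq, not_or, not_exists, not_and] at hg
      show (if b = 1 then w₁ a else if a = 1 then w₂ b else 0) = 0
      split_ifs with h1 h2
      · exact a2 a fun h => hg.1 a h rfl h1.symm
      · exact b2 b fun h => hg.2 b h h2.symm rfl
      · rfl
    · rintro ⟨a, b⟩ ⟨c, d⟩
      simp [conj_eq_one_iff, a3, b3]
    · rintro g (⟨a, ha, rfl⟩ | ⟨b, hb, rfl⟩)
      · simpa using a4 a ha
      · show W4c6brauerbgmalle.toQmodZ (if b = 1 then w₁ 1 else if (1 : G₁) = 1 then w₂ b else 0) = _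
        rcases eq_or_ne b 1 with rfl | h
        · simp [a1]
        · rw [if_neg h, if_pos rfl]
          simpa using b4 b hb
    · simp only [Prod.mk.injEq]
      refine ⟨⟨AddMonoidHom.ext fun x => ?_, funext fun g => ?_⟩, AddMonoidHom.ext fun x => ?_, funext fun g => ?_⟩
      · simp
      · simp
      · simp
      · rcases eq_or_ne g 1 with rfl | h
        · simp [a1, b1]
        · simp [h]
end Groth.Agent.S18953
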