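import Groth.Statements.S18954
import Mathlib.Algebra.BigOperators.Group.Finset.Basic
import Mathlib.Tactic.FieldSimp
import Mathlib.GroupTheory.GroupAction.Quotient
import Mathlib.Algebra.CharP.Defs

set_option autoImplicit false
universe u v w
open Classical
open BGCount

namespace Groth.Agent.S18954

/-- Let a finite group G act on a finite set X, let W be a finite set of orbits and f a function on
orbits with values in a field of characteristic zero. Then Σ_{O ∈ W} f(O)/|Stab(x_O)|, with x_O any
point of O, equals |G|⁻¹ · Σ f(orbit(x)) over the points x of X whose orbit lies in W. (In the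
source X is the set of 1-cocycles of the absolute Galois group of a field in a finite étale group
scheme G, acted on by the geometric points of G, the orbits are the isomorphism classes of G-torsors
and the stabilisers their automorphism groups; stated here for an arbitrary action of a finite group
on a finite set, the representative x_O being chosen by Quotient.out.) -/
theorem result {G : Type u} {X : Type v} (𝕜 : Type w)
    [Group G] [Fintype G] [MulAction G X] [Fintype X] [Field 𝕜] [CharZero 𝕜]
    (W : Finset (MulAction.orbitRel.Quotient G X)) (f : MulAction.orbitRel.Quotient G X → 𝕜) :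
    (∑ O ∈ W, f O / (Nat.card (MulAction.stabilizer G O.out) : 𝕜)) =
      (Fintype.card G : 𝕜)⁻¹ *
        ∑ x ∈ Finset.univ.filter (fun x : X => (Quotient.mk (MulAction.orbitRel G X) x) ∈ W),
          f (Quotient.mk (MulAction.orbitRel G X) x) := by
  rw [Finset.mul_sum, ← Finset.sum_fiberwise_of_maps_to
    (g := fun x : X => (Quotient.mk (MulAction.orbitRel G X) x : MulAction.orbitRel.Quotient G X)) (t := W)
    (fun x hx => (Finset.mem_filter.mp hx).2)]
  refine Finset.sum_congr rfl fun O hO => ?_
  rw [Finset.filter_filter]
  have hs : (Finset.univ.filter fun x : X => (Quotient.mk (MulAction.orbitRel G X) x) ∈ W ∧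
      Quotient.mk (MulAction.orbitRel G X) x = O) = (MulAction.orbit G O.out).toFinset := by
    ext x
    simp only [Finset.mem_filter, Finset.mem_univ, true_and, Set.mem_toFinset]
    constructor
    · rintro ⟨-, rfl⟩
      exact MulAction.orbitRel_apply.mp (Quotient.mk_eq_iff_out.mp rfl)
    · intro hx
      have : Quotient.mk (MulAction.orbitRel G X) x = O :=
        Quotient.mk_eq_iff_out.mpr (MulAction.orbitRel_apply.mpr hx)
      exact ⟨this ▸ hO, this⟩
  rw [hs]
  have hsum : ∀ x ∈ (MulAction.orbit G O.out).toFinset,
      (Fintype.card G : 𝕜)⁻¹ * f (Quotient.mk (MulAction.orbitRel G X) x) = (Fintype.card G : 𝕜)⁻¹ * f O := by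
    intro x hx
    rw [Quotient.mk_eq_iff_out.mpr (MulAction.orbitRel_apply.mpr (Set.mem_toFinset.mp hx))]
  rw [Finset.sum_congr rfl hsum, Finset.sum_const, nsmul_eq_mul, Set.toFinset_card,
    ← MulAction.card_orbit_mul_card_stabilizer_eq_card_group G O.out, Nat.card_eq_fintype_card]
  haveI : Nonempty (MulAction.orbit G O.out) := (MulAction.nonempty_orbit O.out).to_subtype
  have h1 : (Fintype.card (MulAction.orbit G O.out) : 𝕜) ≠ 0 :=
    Nat.cast_ne_zero.mpr Fintype.card_ne_zero
  have h2 : (Fintype.card (MulAction.stabilizer G O.out) : 𝕜) ≠ 0 :=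
    Nat.cast_ne_zero.mpr Fintype.card_ne_zero
  push_cast
  field_simp

end Groth.Agent.S18954
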