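import Groth.Statements.S4637
import Groth.Agent.AssPts.Basic
import Groth.Agent.QCohBase.CohProps
import Groth.Agent.FlatOver.Basic
import Groth.Agent.MatlisDual.Completion

set_option autoImplicit false
set_option linter.style.haveILetI false
open CategoryTheory AlgebraicGeometry
universe u
open AssSch

namespace Groth.Agent.S4637

/-- Let X be a locally Noetherian scheme, F a coherent O_X-module and x a point of X. Then x is the
generic point of an irreducible component of Supp F (F_x ≠ 0 and every point y with F_y ≠ 0 that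
specialises to x equals x) if and only if F_x is a nonzero module of finite length over the local
ring O_{X,x}. -/
theorem result {X : Scheme.{u}} [IsLocallyNoetherian X] (F : X.Modules)
    (hF : Coh.IsCoh F) (x : X) :
    (Nontrivial ↑(F.presheaf.stalk x) ∧ ∀ y : X, Nontrivial ↑(F.presheaf.stalk y) → y ⤳ x → y = x) ↔
      (Nontrivial ↑(F.presheaf.stalk x) ∧ IsFiniteLength ↑(X.presheaf.stalk x) ↑(F.presheaf.stalk x)) := by
  haveI : F.IsQuasicoherent := hF.1
  obtain ⟨_, ⟨(U : X.Opens), hU, rfl⟩, hxU, -⟩ :=
    X.isBasis_affineOpens.exists_subset_of_mem_open (Set.mem_univ x) isOpen_univ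
  set p := (hU.primeIdealOf ⟨x, hxU⟩).asIdeal with hp
  refine and_congr_right fun hne => ⟨fun hmax => ?_, fun hfl y hy hyx => ?_⟩
  · -- every element of the maximal ideal is nilpotent on every element of the stalk
    have key : ∀ (a : X.presheaf.stalk x), a ∈ IsLocalRing.maximalIdeal (X.presheaf.stalk x) →
        ∀ z : F.presheaf.stalk x, ∃ n : ℕ, a ^ n • z = 0 := by
      intro a ha z
      obtain ⟨g, r, hg, hr⟩ := Groth.Agent.AssPts.exists_ringGerm_mul_eq hU x hxU a
      obtain ⟨g', s, hg', hs⟩ := Groth.Agent.AssPts.exists_germ_smul_eq F hU x hxU z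
      have hrp : r ∈ p :=
        (Groth.Agent.AssPts.mem_prime_iff hU x hxU r).2 (hr ▸ Ideal.mul_mem_right _ _ ha)
      have hex : ∃ t ∉ p, ∃ n : ℕ, (t * r ^ n) • s = 0 := by
        by_contra hc
        push Not at hc
        have hd : Disjoint ((Submodule.span Γ(X, U) {s}).annihilator : Set Γ(X, U))
            (↑(p.primeCompl ⊔ Submonoid.powers r) : Set Γ(X, U)) := by
          refine Set.disjoint_left.mpr fun b hb hb' => ?_
          obtain ⟨t, ht, c, ⟨n, rfl⟩, rfl⟩ := Submonoid.mem_sup.mp hb'
          exact hc t ht n ((Submodule.mem_annihilator_span_singleton s _).mp hb)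
        obtain ⟨q, hq, hIq, hdisj⟩ := Ideal.exists_le_prime_disjoint _ _ hd
        obtain ⟨y, hyU, rfl⟩ := Groth.Agent.AssPts.exists_point hU q
        have hqp : (hU.primeIdealOf ⟨y, hyU⟩).asIdeal ≤ p := fun b hb => by
          by_contra hbp
          exact Set.disjoint_left.mp hdisj hb (Submonoid.mem_sup_left hbp)
        have hnt : Nontrivial (F.presheaf.stalk y) := by
          refine nontrivial_of_ne (F.presheaf.germ U y hyU s) 0 fun h => ?_
          obtain ⟨t, ht, hts⟩ := (Groth.Agent.AssPts.germ_eq_zero_iff F hU y hyU s).1 h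
          exact ht (hIq ((Submodule.mem_annihilator_span_singleton s t).mpr hts))
        obtain rfl := hmax y hnt ((Groth.Agent.AssPts.specializes_iff hU x hxU hyU).2 hqp)
        exact Set.disjoint_left.mp hdisj hrp (Submonoid.mem_sup_right (Submonoid.mem_powers r))
      obtain ⟨t, ht, n, hn⟩ := hex
      refine ⟨n, ?_⟩
      have h0 : F.presheaf.germ U x hxU ((t * r ^ n) • s) = 0 := by rw [hn, map_zero]
      rw [Groth.Agent.AssPts.germ_smul', map_mul, map_pow, ← hr, ← hs, mul_pow, smul_smul,
        show X.presheaf.germ U x hxU t * (a ^ n * X.presheaf.germ U x hxU g ^ n) *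
          X.presheaf.germ U x hxU g' = (X.presheaf.germ U x hxU t * X.presheaf.germ U x hxU g ^ n *
          X.presheaf.germ U x hxU g') * a ^ n by ring, mul_smul] at h0
      exact (((((Groth.Agent.AssPts.notMem_prime_iff hU x hxU t).1 ht).mul
        (((Groth.Agent.AssPts.notMem_prime_iff hU x hxU g).1 hg).pow n)).mul
        ((Groth.Agent.AssPts.notMem_prime_iff hU x hxU g').1 hg')).smul_eq_zero).1 h0
    -- the stalk is a finite module
    haveI : Module.Finite (X.presheaf.stalk x) (F.presheaf.stalk x) := by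
      letI := Groth.Agent.FlatOver.germModule F x hxU
      letI := (X.presheaf.germ U x hxU).hom.toAlgebra
      haveI : IsLocalization.AtPrime (X.presheaf.stalk x) p := hU.isLocalization_stalk ⟨x, hxU⟩
      haveI : IsScalarTower Γ(X, U) (X.presheaf.stalk x) (F.presheaf.stalk x) :=
        .of_algebraMap_smul fun _ _ => rfl
      haveI := Groth.Agent.QCohBase.isFiniteType_toFinite hF hU
      haveI := Groth.Agent.FlatOver.isLocalizedModule_germₗ F hU x hxU
      exact Module.Finite.of_isLocalizedModule p.primeCompl (Groth.Agent.FlatOver.germₗ F x hxU)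
    obtain ⟨k, s, hs⟩ := Module.Finite.exists_fin (R := X.presheaf.stalk x) (M := F.presheaf.stalk x)
    have hann : IsLocalRing.maximalIdeal (X.presheaf.stalk x) ≤
        (Module.annihilator (X.presheaf.stalk x) (F.presheaf.stalk x)).radical := by
      intro a ha
      choose n hn using fun i => key a ha (s i)
      refine ⟨∑ i, n i, ?_⟩
      rw [Module.mem_annihilator]
      intro z
      have hz : z ∈ Submodule.span (X.presheaf.stalk x) (Set.range s) := hs ▸ trivial
      induction hz using Submodule.span_induction with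
      | mem w hw =>
        obtain ⟨i, rfl⟩ := hw
        obtain ⟨d, hd⟩ := Nat.exists_eq_add_of_le
          (Finset.single_le_sum (f := n) (fun _ _ => Nat.zero_le _) (Finset.mem_univ i))
        rw [hd, pow_add, mul_comm, mul_smul, hn, smul_zero]
      | zero => exact smul_zero _
      | add a b _ _ h1 h2 => rw [smul_add, h1, h2, add_zero]
      | smul c a _ h1 => rw [smul_comm, h1, smul_zero]
    obtain ⟨N, hN⟩ := Ideal.exists_pow_le_of_le_radical_of_fg hann (IsNoetherian.noetherian _)
    set J := IsLocalRing.maximalIdeal (X.presheaf.stalk x) ^ N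
    let ψ : (Fin k → X.presheaf.stalk x ⧸ J) →ₗ[X.presheaf.stalk x] F.presheaf.stalk x :=
      ∑ i, (Submodule.liftQ J (LinearMap.toSpanSingleton (X.presheaf.stalk x) _ (s i))
        (fun b hb => Module.mem_annihilator.1 (hN hb) _)).comp (LinearMap.proj i)
    have hψ : Function.Surjective ψ := by
      rw [← LinearMap.range_eq_top, eq_top_iff, ← hs, Submodule.span_le]
      rintro _ ⟨i, rfl⟩
      refine ⟨Pi.single i (Submodule.Quotient.mk 1), ?_⟩
      simp only [ψ, LinearMap.coe_sum, Finset.sum_apply, LinearMap.comp_apply, LinearMap.proj_apply]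
      rw [Finset.sum_eq_single i (fun j _ hj => by rw [Pi.single_eq_of_ne hj, map_zero])
        (fun h => absurd (Finset.mem_univ i) h), Pi.single_eq_same]
      exact one_smul (X.presheaf.stalk x) (s i)
    refine IsFiniteLength.of_surjective ?_ hψ
    obtain ⟨h1, h2⟩ := isFiniteLength_iff_isNoetherian_isArtinian.1
      (Groth.Agent.MatlisDual.isFiniteLength_quotient_pow (R := X.presheaf.stalk x) N)
    exact isFiniteLength_iff_isNoetherian_isArtinian.2 ⟨inferInstance, inferInstance⟩
  · haveI := (isFiniteLength_iff_isNoetherian_isArtinian.1 hfl).2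
    have hyU : y ∈ U := hyx.mem_open U.isOpen hxU
    by_contra hne'
    have hqp := (Groth.Agent.AssPts.specializes_iff hU x hxU hyU).1 hyx
    set q := (hU.primeIdealOf ⟨y, hyU⟩).asIdeal with hq
    have hpq : ¬ p ≤ q := fun h =>
      hne' (hyx.antisymm ((Groth.Agent.AssPts.specializes_iff hU y hyU hxU).2 h)).eq
    obtain ⟨a, hap, haq⟩ := SetLike.not_le_iff_exists.1 hpq
    obtain ⟨z, hz⟩ := exists_ne (0 : ↑(F.presheaf.stalk y))
    obtain ⟨g, s, hg, hs⟩ := Groth.Agent.AssPts.exists_germ_smul_eq F hU y hyU z
    set S := Submodule.span (X.presheaf.stalk x) {F.presheaf.germ U x hxU s}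
    obtain ⟨n, w, hw⟩ := IsArtinian.exists_pow_succ_smul_dvd (M := S) (X.presheaf.germ U x hxU a)
      ⟨_, Submodule.mem_span_singleton_self _⟩
    obtain ⟨c, hc⟩ := Submodule.mem_span_singleton.1 w.2
    have hw' : X.presheaf.germ U x hxU a ^ (n + 1) • (c • F.presheaf.germ U x hxU s) =
        X.presheaf.germ U x hxU a ^ n • F.presheaf.germ U x hxU s := by
      rw [hc]; exact congrArg Subtype.val hw
    have hu : IsUnit (1 - X.presheaf.germ U x hxU a * c) :=
      IsLocalRing.isUnit_one_sub_self_of_mem_nonunits _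
        (Ideal.mul_mem_right c _ ((Groth.Agent.AssPts.mem_prime_iff hU x hxU a).1 hap))
    have h0 : (1 - X.presheaf.germ U x hxU a * c) •
        (X.presheaf.germ U x hxU a ^ n • F.presheaf.germ U x hxU s) = 0 := by
      rw [sub_smul, one_smul, sub_eq_zero]
      refine hw'.symm.trans ?_
      rw [smul_smul, smul_smul]
      ring_nf
    rw [hu.smul_eq_zero, ← map_pow, ← Groth.Agent.AssPts.germ_smul'] at h0
    obtain ⟨t, ht, hts⟩ := (Groth.Agent.AssPts.germ_eq_zero_iff F hU x hxU _).1 h0
    have h1 : F.presheaf.germ U y hyU s = 0 := by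
      refine (Groth.Agent.AssPts.germ_eq_zero_iff F hU y hyU s).2 ⟨t * a ^ n, fun h => ?_, ?_⟩
      · rcases (hU.primeIdealOf ⟨y, hyU⟩).isPrime.mem_or_mem h with h | h
        · exact ht (hqp h)
        · exact haq ((hU.primeIdealOf ⟨y, hyU⟩).isPrime.mem_of_pow_mem n h)
      · rw [mul_smul]; exact hts
    rw [← hs] at h1
    exact hz (((Groth.Agent.AssPts.notMem_prime_iff hU y hyU g).1 hg).smul_eq_zero.1 h1)

end Groth.Agent.S4637
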