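import Groth.Statements.S1896
import Groth.Agent.S4637
import Groth.Agent.DCohBridge.StalkExact
import Mathlib.RingTheory.Length

set_option autoImplicit false
universe u
open CategoryTheory AlgebraicGeometry
open Cyc

namespace Groth.Agent.S1896

/-- For a short exact sequence 0 → F → G → H → 0 of coherent O_X-modules (X locally Noetherian with
dimension function δ) whose supports have δ-dimension at most k, one has [G]_k = [F]_k + [H]_k
coefficientwise. Here (X, δ) satisfies Cyc.IsSetup (X locally Noetherian with universally catenary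
local rings, δ a dimension function). -/
theorem result (X : Scheme.{u}) (δ : X → ℤ) (hX : Cyc.IsSetup X δ) (k : ℤ) (T : ShortComplex X.Modules) (hT : T.ShortExact) (h₁ : Coh.IsCoh T.X₁) (h₂ : Coh.IsCoh T.X₂) (h₃ : Coh.IsCoh T.X₃) (hdim : ∀ x : X, Nontrivial (T.X₂.presheaf.stalk x) → δ x ≤ k) : Cyc.sheafFun δ k T.X₂ = Cyc.sheafFun δ k T.X₁ + Cyc.sheafFun δ k T.X₃ := by
  haveI := hX.1
  funext x
  simp only [Cyc.sheafFun, Pi.add_apply]
  split_ifs with hk
  · let S := T.map (DerSch.stalkFunctor X x)
    have hS : S.ShortExact := hT.map_of_exact _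
    have hfin : Module.length (X.presheaf.stalk x) (T.X₂.presheaf.stalk x) ≠ ⊤ := by
      rcases subsingleton_or_nontrivial (T.X₂.presheaf.stalk x) with h | h
      · rw [Module.length_eq_zero]; exact ENat.zero_ne_top

      · refine Module.length_ne_top_iff.2 ((Groth.Agent.S4637.result (X := X) T.X₂ h₂ x).1 ⟨h, fun y hy hyx => ?_⟩).2
        by_contra hne
        have := (hX.2.2 y x hyx hne).1
        have := hdim y hy
        omega
    have hadd : Module.length (X.presheaf.stalk x) (T.X₂.presheaf.stalk x) =
        Module.length (X.presheaf.stalk x) (T.X₁.presheaf.stalk x) +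
          Module.length (X.presheaf.stalk x) (T.X₃.presheaf.stalk x) :=
      Module.length_eq_add_of_exact S.f.hom S.g.hom hS.moduleCat_injective_f hS.moduleCat_surjective_g
        ((ShortComplex.ShortExact.moduleCat_exact_iff_function_exact _).1 hS.exact)
    rw [hadd] at hfin ⊢
    rw [ENat.toNat_add (fun h => hfin (by rw [h, top_add])) (fun h => hfin (by rw [h, add_top]))]
    push_cast
    rfl
  · simp


end Groth.Agent.S1896
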