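import Groth.Statements.S18960
import Mathlib

set_option autoImplicit false
universe w' w v u
open CategoryTheory Limits
open CatLim


namespace Groth.Agent.S18960

set_option backward.isDefEq.respectTransparency false
set_option backward.defeqAttrib.useBackward true

/-- Let C be a category and T an endofunctor of C; let C(T) be the category whose objects are pairs (X,
u) with u : T X → X an isomorphism and whose morphisms (X, u) → (Y, w) are the morphisms X → Y
compatible with u and w — the full subcategory of T-algebras with invertible structure map — and let
π : C(T) → C be the forgetful functor. If T preserves colimits of shape J then π creates colimits of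
shape J. (The source assumes T preserves all small colimits and concludes for all small shapes; the
argument is shape by shape.) -/
theorem result {C : Type u} [Category.{v} C] (T : C ⥤ C)
    (J : Type w) [Category.{w'} J] [PreservesColimitsOfShape J T] :
    Nonempty (CreatesColimitsOfShape J
      ((ObjectProperty.ι (fun A : Endofunctor.Algebra T => IsIso A.str)) ⋙ Endofunctor.Algebra.forget T)) := by
  classical
  let P : ObjectProperty (Endofunctor.Algebra T) := fun A => IsIso A.str
  refine ⟨⟨fun {K} => createsColimitOfReflectsIso (fun c t => ?_)⟩⟩
  let G : P.FullSubcategory ⥤ C := ObjectProperty.ι _ ⋙ Endofunctor.Algebra.forget T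
  let α : (K ⋙ G) ⋙ T ≅ K ⋙ G := NatIso.ofComponents
    (fun j => @asIso _ _ _ _ (K.obj j).obj.str (K.obj j).property) (fun {i j} f => (K.map f).hom.h)
  have hT : IsColimit (T.mapCocone c) := isColimitOfPreserves T t
  let e : T.obj c.pt ≅ c.pt := hT.coconePointsIsoOfNatIso t α
  have he : ∀ j, T.map (c.ι.app j) ≫ e.hom = (K.obj j).obj.str ≫ c.ι.app j :=
    fun j => hT.comp_coconePointsIsoOfNatIso_hom t α j
  exact
    { liftedCocone :=
        { pt := ⟨⟨c.pt, e.hom⟩, inferInstanceAs (IsIso e.hom)⟩
          ι :=
            { app := fun j => ObjectProperty.homMk ⟨c.ι.app j, he j⟩
              naturality := fun i j f => by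
                apply ObjectProperty.hom_ext
                apply Endofunctor.Algebra.Hom.ext
                simpa using c.w f } }
      validLift := Cocone.ext (Iso.refl _) (fun j => Category.comp_id _)
      makesColimit :=
        { desc := fun s => ObjectProperty.homMk
            { f := t.desc ((ObjectProperty.ι _ ⋙ Endofunctor.Algebra.forget T).mapCocone s)
              h := hT.hom_ext fun j => by
                have := (s.ι.app j).hom.h
                simp only [Functor.mapCocone_ι_app, ← T.map_comp_assoc, t.fac, reassoc_of% (he j)]
                simpa using this }
          fac := fun s j => by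
            apply ObjectProperty.hom_ext
            apply Endofunctor.Algebra.Hom.ext
            exact t.fac _ j
          uniq := fun s m hm => by
            apply ObjectProperty.hom_ext
            apply Endofunctor.Algebra.Hom.ext
            refine t.hom_ext fun j => ?_
            refine Eq.trans ?_ (t.fac ((ObjectProperty.ι _ ⋙ Endofunctor.Algebra.forget T).mapCocone s) j).symm
            exact congrArg (fun q => q.hom.f) (hm j) } }

end Groth.Agent.S18960
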