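import Groth.Statements.S18961
import Mathlib

set_option autoImplicit false
universe u
open BBDec

namespace Groth.Agent.S18961

open MvPolynomial DirectSum

section
variable {A B : Type u} [CommRing A] [CommRing B] [Algebra A B] (𝒜 : ℕ → Submodule A B)
  [GradedAlgebra 𝒜]

set_option quotPrecheck false in
local notation "I₊" => (HomogeneousIdeal.irrelevant 𝒜).toIdeal

lemma mem_irr {b : B} : b ∈ I₊ ↔ GradedAlgebra.proj 𝒜 0 b = 0 :=
  HomogeneousIdeal.mem_irrelevant_iff 𝒜 b

lemma proj_mem_irr {b : B} (hb : b ∈ I₊) (d : ℕ) : GradedAlgebra.proj 𝒜 d b ∈ I₊ := by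
  rcases Nat.eq_zero_or_pos d with rfl | hd
  · rw [(mem_irr 𝒜).mp hb]; exact zero_mem _
  · exact HomogeneousIdeal.mem_irrelevant_of_mem 𝒜 hd (SetLike.coe_mem _)

lemma proj_mem_sq {b : B} (hb : b ∈ I₊ ^ 2) (d : ℕ) : GradedAlgebra.proj 𝒜 d b ∈ I₊ ^ 2 := by
  rw [pow_two] at hb ⊢
  exact (HomogeneousIdeal.irrelevant 𝒜).isHomogeneous.mul
    (HomogeneousIdeal.irrelevant 𝒜).isHomogeneous d hb

/-- the projection to degree `d` on the cotangent module -/
noncomputable def piC (d : ℕ) : I₊.Cotangent →ₗ[A] I₊.Cotangent where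
  toFun x := I₊.toCotangent ⟨_, proj_mem_irr 𝒜 (I₊.toCotangent_surjective x).choose.2 d⟩
  map_add' x y := by
    rw [← map_add, Ideal.toCotangent_eq]
    simp only [Submodule.coe_add]
    rw [← map_add, ← map_sub]
    refine proj_mem_sq 𝒜 ?_ d
    rw [← Submodule.coe_add, ← Ideal.toCotangent_eq, map_add,
      (I₊.toCotangent_surjective (x + y)).choose_spec, (I₊.toCotangent_surjective x).choose_spec,
      (I₊.toCotangent_surjective y).choose_spec]
  map_smul' r x := by
    rw [RingHom.id_apply]
    rw [show r • I₊.toCotangent ⟨_, proj_mem_irr 𝒜 (I₊.toCotangent_surjective x).choose.2 d⟩ =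
      I₊.toCotangent (r • ⟨_, proj_mem_irr 𝒜 (I₊.toCotangent_surjective x).choose.2 d⟩) from
      (LinearMap.map_smul_of_tower _ r _).symm, Ideal.toCotangent_eq]
    simp only [Submodule.coe_smul_of_tower]
    rw [← map_smul, ← map_sub]
    refine proj_mem_sq 𝒜 ?_ d
    rw [← Submodule.coe_smul_of_tower, ← Ideal.toCotangent_eq,
      LinearMap.map_smul_of_tower, (I₊.toCotangent_surjective (r • x)).choose_spec,
      (I₊.toCotangent_surjective x).choose_spec]

lemma piC_apply (d : ℕ) (b : I₊) :
    piC 𝒜 d (I₊.toCotangent b) = I₊.toCotangent ⟨_, proj_mem_irr 𝒜 b.2 d⟩ := by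
  show I₊.toCotangent _ = _
  rw [Ideal.toCotangent_eq]
  rw [← map_sub]
  refine proj_mem_sq 𝒜 ?_ d
  rw [← Ideal.toCotangent_eq, (I₊.toCotangent_surjective _).choose_spec]

lemma exists_generators (n : ℕ) (β : Module.Basis (Fin n) A I₊.Cotangent)
    (h0 : ∀ b : B, b ∈ 𝒜 0 ↔ b ∈ Set.range (algebraMap A B)) :
    ∃ y : Fin n → I₊, (∀ i, I₊.toCotangent (y i) = β i) ∧
      Algebra.adjoin A (Set.range fun i => (y i : B)) = ⊤ := by
  classical
  -- an arbitrary section
  let s₀ : I₊.Cotangent →ₗ[A] B :=
    β.constr A fun i => ((I₊.toCotangent_surjective (β i)).choose : B)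
  have hs₀ : ∀ x, ∃ h : s₀ x ∈ I₊, I₊.toCotangent ⟨s₀ x, h⟩ = x := by
    intro x
    let s₁ : I₊.Cotangent →ₗ[A] I₊ := β.constr A fun i => (I₊.toCotangent_surjective (β i)).choose
    have e : s₀ = (Submodule.subtype I₊).restrictScalars A ∘ₗ s₁ := β.ext fun i => by
      show s₀ (β i) = ((s₁ (β i) : I₊) : B)
      rw [Module.Basis.constr_basis, Module.Basis.constr_basis]
    have e' : (I₊.toCotangent).restrictScalars A ∘ₗ s₁ = LinearMap.id := β.ext fun i => by
      show I₊.toCotangent (s₁ (β i)) = β i
      rw [Module.Basis.constr_basis]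
      exact (I₊.toCotangent_surjective (β i)).choose_spec
    have ex : s₀ x = s₁ x := LinearMap.congr_fun e x
    refine ⟨ex ▸ (s₁ x).2, ?_⟩
    refine Eq.trans ?_ (LinearMap.congr_fun e' x)
    show I₊.toCotangent _ = I₊.toCotangent (s₁ x)
    congr 1
    exact Subtype.ext ex
  -- degrees occurring
  let N : ℕ := (Finset.univ.biUnion fun i =>
    (decompose 𝒜 (s₀ (β i))).support).sup id + 1
  have hN : ∀ d, N ≤ d → piC 𝒜 d = 0 := by
    intro d hd
    refine β.ext fun i => ?_
    obtain ⟨h, e⟩ := hs₀ (β i)
    rw [← e, piC_apply, LinearMap.zero_apply, Ideal.toCotangent_eq_zero]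
    have : d ∉ (decompose 𝒜 (s₀ (β i))).support := fun hm => by
      have := Finset.le_sup (f := id) ((Finset.mem_biUnion (s := Finset.univ) (t := fun i =>
        (decompose 𝒜 (s₀ (β i))).support)).mpr ⟨i, Finset.mem_univ i, hm⟩)
      simp only [id_eq] at this; omega
    show GradedAlgebra.proj 𝒜 d (s₀ (β i)) ∈ _
    rw [GradedAlgebra.proj_apply, DFinsupp.notMem_support_iff.mp this]
    exact zero_mem _
  let s : I₊.Cotangent →ₗ[A] B :=
    ∑ d ∈ Finset.range N, GradedAlgebra.proj 𝒜 d ∘ₗ s₀ ∘ₗ piC 𝒜 d
  have hsI : ∀ x, s x ∈ I₊ := fun x => by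
    rw [LinearMap.sum_apply]
    exact Ideal.sum_mem _ fun d _ => proj_mem_irr 𝒜 (hs₀ _).1 d
  have key : ∀ (d : ℕ) (b : I₊), (b : B) ∈ 𝒜 d →
      s (I₊.toCotangent b) ∈ 𝒜 d ∧ (s (I₊.toCotangent b) - b) ∈ I₊ ^ 2 := by
    intro d b hb
    have hpi : ∀ e, e ≠ d → piC 𝒜 e (I₊.toCotangent b) = 0 := by
      intro e he
      rw [piC_apply, Ideal.toCotangent_eq_zero]
      simp only [GradedAlgebra.proj_apply, decompose_of_mem_ne 𝒜 hb he.symm]
      exact zero_mem _
    have hpd : piC 𝒜 d (I₊.toCotangent b) = I₊.toCotangent b := by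
      rw [piC_apply]; congr 1
      exact Subtype.ext (show GradedAlgebra.proj 𝒜 d (b : B) = b by
        rw [GradedAlgebra.proj_apply, decompose_of_mem_same 𝒜 hb])
    have hs : s (I₊.toCotangent b) = if d < N then
        GradedAlgebra.proj 𝒜 d (s₀ (I₊.toCotangent b)) else 0 := by
      rw [LinearMap.sum_apply]
      split_ifs with h
      · rw [Finset.sum_eq_single d (fun e _ he => by
            rw [LinearMap.comp_apply, LinearMap.comp_apply, hpi e he, map_zero, map_zero])
          (fun h' => absurd (Finset.mem_range.mpr h) h')]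
        rw [LinearMap.comp_apply, LinearMap.comp_apply, hpd]
      · refine Finset.sum_eq_zero fun e he => ?_
        rw [LinearMap.comp_apply, LinearMap.comp_apply,
          hpi e (fun h' => h (h' ▸ Finset.mem_range.mp he)), map_zero, map_zero]
    rw [hs]
    obtain ⟨hm, e₀⟩ := hs₀ (I₊.toCotangent b)
    split_ifs with h
    · refine ⟨SetLike.coe_mem _, ?_⟩
      have h2 := proj_mem_sq 𝒜 ((Ideal.toCotangent_eq _).mp e₀) d
      rw [map_sub] at h2
      have hbd : GradedAlgebra.proj 𝒜 d (b : B) = b := by
        rw [GradedAlgebra.proj_apply, decompose_of_mem_same 𝒜 hb]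
      rwa [hbd] at h2
    · refine ⟨zero_mem _, ?_⟩
      rw [zero_sub, Ideal.neg_mem_iff, ← Ideal.toCotangent_eq_zero, ← hpd, hN d (not_lt.mp h)]
      rfl
  refine ⟨fun i => ⟨s (β i), hsI _⟩, fun i => ?_, ?_⟩
  · obtain ⟨h, e⟩ := hs₀ (β i)
    have hsum : ∀ x : I₊.Cotangent, I₊.toCotangent ⟨s x, hsI x⟩ = x := by
      intro x
      obtain ⟨b, rfl⟩ := I₊.toCotangent_surjective x
      rw [Ideal.toCotangent_eq]
      have hb' := sum_support_decompose 𝒜 (b : B)
      let f : I₊ →ₗ[A] B := s ∘ₗ (I₊.toCotangent).restrictScalars A -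
        (Submodule.subtype I₊).restrictScalars A
      have : f b ∈ I₊ ^ 2 := by
        have hb2 : b = ∑ d ∈ (decompose 𝒜 (b : B)).support,
            (⟨GradedAlgebra.proj 𝒜 d b, proj_mem_irr 𝒜 b.2 d⟩ : I₊) := by
          apply Subtype.ext
          rw [Submodule.coe_sum]
          exact hb'.symm
        rw [hb2, map_sum]
        exact Ideal.sum_mem _ fun d _ => (key d _ (SetLike.coe_mem _)).2
      exact this
    exact hsum _
  · set R := Algebra.adjoin A (Set.range fun i => s (β i)) with hR
    have hsR : ∀ x, s x ∈ R := by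
      intro x
      rw [← β.sum_repr x, map_sum]
      exact sum_mem fun i _ => by
        rw [map_smul]; exact Subalgebra.smul_mem _ (Algebra.subset_adjoin (Set.mem_range_self i)) _
    have main : ∀ d, ∀ b ∈ 𝒜 d, b ∈ R := by
      intro d
      induction d using Nat.strong_induction_on with
      | _ d ih =>
        intro b hb
        rcases Nat.eq_zero_or_pos d with rfl | hd
        · obtain ⟨a, rfl⟩ := (h0 b).mp hb
          exact R.algebraMap_mem a
        have hbI : b ∈ I₊ := HomogeneousIdeal.mem_irrelevant_of_mem 𝒜 hd hb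
        obtain ⟨hk, hk'⟩ := key d ⟨b, hbI⟩ hb
        have hsq : ∀ z ∈ I₊ ^ 2, GradedAlgebra.proj 𝒜 d z ∈ R := by
          intro z hz
          rw [pow_two] at hz
          refine Submodule.mul_induction_on hz (fun u hu v hv => ?_)
            (fun u v hu hv => by rw [map_add]; exact add_mem hu hv)
          rw [← sum_support_decompose 𝒜 u, Finset.sum_mul, map_sum]
          refine sum_mem fun e _ => ?_
          rw [GradedAlgebra.proj_apply]
          rcases Nat.eq_zero_or_pos e with rfl | he
          · have : (decompose 𝒜 u 0 : B) = 0 := (mem_irr 𝒜).mp hu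
            simp [this]
          by_cases hle : e ≤ d
          · rw [coe_decompose_mul_of_left_mem_of_le 𝒜 (SetLike.coe_mem _) hle]
            rcases eq_or_lt_of_le hle with rfl | hlt
            · have : (decompose 𝒜 v 0 : B) = 0 := (mem_irr 𝒜).mp hv
              rw [Nat.sub_self, this, mul_zero]; exact zero_mem _
            · exact mul_mem (ih e hlt _ (SetLike.coe_mem _))
                (ih (d - e) (by omega) _ (SetLike.coe_mem _))
          · rw [coe_decompose_mul_of_left_mem_of_not_le 𝒜 (SetLike.coe_mem _) hle]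
            exact zero_mem _
        have hdiff := hsq _ hk'
        rw [GradedAlgebra.proj_apply, decompose_of_mem_same 𝒜 (sub_mem hk hb)] at hdiff
        have := sub_mem (hsR (I₊.toCotangent ⟨b, hbI⟩)) hdiff
        simpa using this
    rw [eq_top_iff]
    intro b _
    rw [← sum_support_decompose 𝒜 b]
    exact sum_mem fun d _ => main d _ (SetLike.coe_mem _)

end

lemma bijective_aeval {A B : Type u} [CommRing A] [CommRing B] [Algebra A B] (I : Ideal B)
    (hAI : Function.Injective ((Ideal.Quotient.mkₐ A I).comp (Algebra.ofId A B)))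
    [Algebra.FinitePresentation A B]
    (hsm : ∀ (P : Ideal B) [P.IsPrime], I ≤ P → Algebra.IsSmoothAt A P)
    {n : ℕ} (y : Fin n → I) (hli : LinearIndependent A fun i => I.toCotangent (y i))
    (hgen : Algebra.adjoin A (Set.range fun i => (y i : B)) = ⊤) :
    Function.Bijective (aeval (R := A) fun i => (y i : B)) := by
  set φ := aeval (R := A) fun i => (y i : B) with hφ
  have hsurj : Function.Surjective φ := by
    rw [← AlgHom.range_eq_top, ← hgen, Algebra.adjoin_range_eq_range_aeval]
  refine ⟨?_, hsurj⟩
  set J := idealOfVars (Fin n) A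
  have hJI : J ≤ I.comap φ := Ideal.span_le.mpr fun _ ⟨i, hi⟩ => by
    simp [← hi, φ]
  -- constants
  have hconst : ∀ p : MvPolynomial (Fin n) A, p - C (constantCoeff p) ∈ J := by
    intro p
    induction p using MvPolynomial.induction_on with
    | C a => simp
    | add p q hp hq =>
      simp only [map_add]
      convert J.add_mem hp hq using 1; ring
    | mul_X p i hp =>
      simpa using J.mul_mem_left p (Ideal.subset_span ⟨i, rfl⟩)
  have hIJ : I.comap φ ≤ J := by
    intro p hp
    have h1 : φ (C (constantCoeff p)) ∈ I := by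
      have := I.sub_mem hp (hJI (hconst p))
      simpa using this
    have : constantCoeff p = 0 := hAI (by
      rw [map_zero]
      show Ideal.Quotient.mk I (algebraMap A B (constantCoeff p)) = 0
      exact Ideal.Quotient.eq_zero_iff_mem.mpr (by simpa [φ] using h1))
    simpa [this] using hconst p
  have hJ2 : J ^ 2 ≤ (I ^ 2).comap φ :=
    (Ideal.pow_right_mono hJI 2).trans (Ideal.le_comap_pow φ 2)
  have hI2 : (I ^ 2).comap φ ≤ J ^ 2 := by
    intro p hp
    have hpJ : p ∈ J := hIJ (show φ p ∈ I from Ideal.pow_le_self two_ne_zero hp)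
    obtain ⟨c, hc⟩ := (Ideal.mem_span_range_iff_exists_fun).mp hpJ
    have hlin : p - ∑ i, C (constantCoeff (c i)) * X i ∈ J ^ 2 := by
      rw [← hc, ← Finset.sum_sub_distrib]
      refine Ideal.sum_mem _ fun i _ => ?_
      rw [← sub_mul, pow_two]
      exact Ideal.mul_mem_mul (hconst _) (Ideal.subset_span ⟨i, rfl⟩)
    have h2 : φ (∑ i, C (constantCoeff (c i)) * X i) ∈ I ^ 2 := by
      have := (I ^ 2).sub_mem hp (hJ2 hlin)
      simpa using this
    have h3 : ∑ i, constantCoeff (c i) • I.toCotangent (y i) = 0 := by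
      simp_rw [← LinearMap.map_smul_of_tower]
      rw [← map_sum, Ideal.toCotangent_eq_zero, Submodule.coe_sum]
      simpa [φ, Algebra.smul_def] using h2
    have h4 := Fintype.linearIndependent_iff.mp hli _ h3
    simpa [h4] using hlin
  -- a smooth basic open containing `V(I)`
  obtain ⟨f, hfI, hf⟩ : ∃ f : B, f - 1 ∈ I ∧ Algebra.FormallySmooth A (Localization.Away f) := by
    obtain ⟨L, hL⟩ := (PrimeSpectrum.isClosed_iff_zeroLocus_ideal _).mp
      (Algebra.isOpen_smoothLocus (R := A) (A := B)).isClosed_compl
    have htop : L ⊔ I = ⊤ := by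
      by_contra h
      obtain ⟨𝔪, h𝔪, hle⟩ := Ideal.exists_le_maximal _ h
      have h1 : (⟨𝔪, h𝔪.isPrime⟩ : PrimeSpectrum B) ∈ PrimeSpectrum.zeroLocus (L : Set B) :=
        le_trans le_sup_left hle
      rw [← hL] at h1
      exact h1 (@hsm 𝔪 h𝔪.isPrime (le_trans le_sup_right hle))
    obtain ⟨f, hfL, i, hi, e⟩ := Submodule.mem_sup.mp (htop ▸ Submodule.mem_top : (1 : B) ∈ L ⊔ I)
    refine ⟨f, by rw [← e]; simpa using hi,
      Algebra.basicOpen_subset_smoothLocus_iff.mp fun P hP => ?_⟩
    by_contra h
    have : P ∈ PrimeSpectrum.zeroLocus (L : Set B) := hL ▸ h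
    exact hP (this hfL)
  -- kernel in all powers
  have hker : ∀ m, RingHom.ker φ ≤ J ^ m := by
    intro m
    induction m with
    | zero => simp
    | succ m ih =>
      rcases Nat.eq_zero_or_pos m with rfl | hm
      · rw [zero_add, pow_one]
        intro p hp
        exact hIJ (show φ p ∈ I by rw [RingHom.mem_ker.mp hp]; exact I.zero_mem)
      intro p hp
      let q : (MvPolynomial (Fin n) A ⧸ J ^ (m + 1)) →ₐ[A] B ⧸ I ^ 2 :=
        Ideal.Quotient.liftₐ _ ((Ideal.Quotient.mkₐ A (I ^ 2)).comp φ) fun x hx =>
          Ideal.Quotient.eq_zero_iff_mem.mpr (hJ2 (Ideal.pow_le_pow_right (by omega) hx))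
      have hq : Function.Surjective q := by
        intro z
        obtain ⟨b, rfl⟩ := Ideal.Quotient.mk_surjective z
        obtain ⟨x, rfl⟩ := hsurj b
        exact ⟨Ideal.Quotient.mk _ x, rfl⟩
      have hqk : IsNilpotent (RingHom.ker q) := by
        refine ⟨m + 1, le_bot_iff.mp ?_⟩
        have hle : RingHom.ker q ≤ J.map (Ideal.Quotient.mk (J ^ (m + 1))) := by
          intro z hz
          obtain ⟨x, rfl⟩ := Ideal.Quotient.mk_surjective z
          exact Ideal.mem_map_of_mem _ (Ideal.pow_le_self two_ne_zero
            (hI2 (show φ x ∈ I ^ 2 from Ideal.Quotient.eq_zero_iff_mem.mp hz)))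
        refine (Ideal.pow_right_mono hle _).trans ?_
        rw [← Ideal.map_pow, Ideal.map_quotient_self]
      have hfu : IsUnit (Ideal.Quotient.mkₐ A (I ^ 2) f) := by
        have : IsNilpotent (Ideal.Quotient.mkₐ A (I ^ 2) f - 1) := ⟨2, by
          rw [← map_one (Ideal.Quotient.mkₐ A (I ^ 2)), ← map_sub, ← map_pow]
          exact Ideal.Quotient.eq_zero_iff_mem.mpr (Ideal.pow_mem_pow hfI 2)⟩
        simpa using this.isUnit_one_add
      let g : Localization.Away f →ₐ[A] B ⧸ I ^ 2 :=
        { IsLocalization.Away.lift (g := (Ideal.Quotient.mkₐ A (I ^ 2)).toRingHom) f hfu with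
          commutes' := fun a => by
            show IsLocalization.Away.lift (g := (Ideal.Quotient.mkₐ A (I ^ 2)).toRingHom) f hfu _ = _
            rw [IsScalarTower.algebraMap_apply A B (Localization.Away f),
              IsLocalization.Away.lift_eq]
            rfl }
      let ψ := Algebra.FormallySmooth.liftOfSurjective g q hq hqk
      let χ : MvPolynomial (Fin n) A →ₐ[A] MvPolynomial (Fin n) A ⧸ J ^ (m + 1) :=
        (ψ.comp (IsScalarTower.toAlgHom A B (Localization.Away f))).comp φ
      let π := Ideal.Quotient.mkₐ A (J ^ (m + 1))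
      have hχ : ∀ x, χ x - π x ∈ (J ^ 2).map π := by
        intro x
        obtain ⟨z, hz⟩ := Ideal.Quotient.mk_surjective (χ x - π x)
        rw [← hz]
        refine Ideal.mem_map_of_mem _ (hI2 (show φ z ∈ I ^ 2 from Ideal.Quotient.eq_zero_iff_mem.mp ?_))
        show q (Ideal.Quotient.mk _ z) = 0
        rw [hz, map_sub, sub_eq_zero]
        show q (ψ (algebraMap B (Localization.Away f) (φ x))) = _
        rw [Algebra.FormallySmooth.liftOfSurjective_apply]
        exact IsLocalization.Away.lift_eq f hfu (φ x)
      have hstep : ∀ (l : ℕ), ∀ x ∈ J ^ l, χ x - π x ∈ (J ^ (l + 1)).map π := by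
        intro l
        induction l with
        | zero =>
          intro x _
          exact Ideal.map_mono (by simpa using Ideal.pow_le_self two_ne_zero) (hχ x)
        | succ l ihl =>
          intro x hx
          rw [pow_succ] at hx
          refine Submodule.mul_induction_on hx (fun a ha b hb => ?_)
            (fun a b ha hb => by rw [map_add, map_add, add_sub_add_comm]; exact add_mem ha hb)
          have e : χ (a * b) - π (a * b) = (χ a - π a) * χ b + π a * (χ b - π b) := by
            rw [map_mul, map_mul]; ring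
          rw [e]
          refine add_mem ?_ ?_
          · have hb' : χ b ∈ J.map π := by
              have := add_mem (Ideal.map_mono (Ideal.pow_le_self two_ne_zero) (hχ b))
                (Ideal.mem_map_of_mem π hb)
              simpa using this
            have := Ideal.mul_mem_mul (ihl a ha) hb'
            rwa [← Ideal.map_mul, ← pow_succ] at this
          · have := Ideal.mul_mem_mul (Ideal.mem_map_of_mem π ha) (hχ b)
            rw [← Ideal.map_mul, ← pow_add] at this
            simpa [add_assoc] using this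
      have h := hstep m p (ih hp)
      have hp0 : χ p = 0 := by
        show ψ _ = 0
        have : φ p = 0 := hp
        simp [this]
      rw [hp0, zero_sub, Ideal.neg_mem_iff] at h
      have hz : (J ^ (m + 1)).map π = ⊥ := Ideal.map_quotient_self _
      rw [hz, Ideal.mem_bot] at h
      exact Ideal.Quotient.eq_zero_iff_mem.mp h
  rw [injective_iff_map_eq_zero]
  intro p hp
  ext x
  rw [coeff_zero]
  exact (mem_pow_idealOfVars_iff' (x.degree + 1) p).mp (hker _ hp) x (Nat.lt_succ_self _)

/-- Let k be a field, A a finitely generated k-algebra and B a finitely generated A-algebra graded by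
the natural numbers as an A-algebra, with degree-zero part equal to the image of A and A → B
injective; let B₊ be the irrelevant ideal. So Spec B → Spec A is the retraction of an affine scheme
with an action of the multiplicative monoid of the affine line onto its fixed-point scheme, with
zero section cut out by B₊; this is the affine-local graded form, for that monoid, of the published
statement, which covers any Kempf monoid M with unit group G and a k-scheme X locally of finite
type, and concludes that the retraction X⁺ → X^G is an affine-space bundle near a fixed point at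
whose section value it is smooth. Assume that A → B is smooth at every prime ideal containing B₊ and
that B₊/B₊² is a free A-module of finite rank. Then B is isomorphic, as an A-algebra, to the
polynomial ring over A in (rank of B₊/B₊²) variables. (The published statement also makes the
isomorphism equivariant for a suitable linear action when G is linearly reductive; only the
existence of an A-algebra isomorphism is stated here. Freeness of the conormal module holds after
shrinking the base, which is how the published proof reaches this situation.) -/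
theorem result (k : Type u) [Field k]
    (A B : Type u) [CommRing A] [CommRing B] [Algebra k A] [Algebra k B] [Algebra A B] [IsScalarTower k A B]
    [Algebra.FiniteType k A] [Algebra.FiniteType A B] (𝒜 : ℕ → Submodule A B) [GradedAlgebra 𝒜]
    (h0 : ∀ b : B, b ∈ 𝒜 0 ↔ b ∈ Set.range (algebraMap A B)) (hinj : Function.Injective (algebraMap A B))
    (hsm : ∀ (P : Ideal B) [P.IsPrime], (HomogeneousIdeal.irrelevant 𝒜).toIdeal ≤ P → Algebra.IsSmoothAt A P)
    [Module.Free A (HomogeneousIdeal.irrelevant 𝒜).toIdeal.Cotangent]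
    [Module.Finite A (HomogeneousIdeal.irrelevant 𝒜).toIdeal.Cotangent] :
    Nonempty (B ≃ₐ[A]
      MvPolynomial (Fin (Module.finrank A (HomogeneousIdeal.irrelevant 𝒜).toIdeal.Cotangent)) A) := by
  have : IsNoetherianRing A := Algebra.FiniteType.isNoetherianRing k A
  have : Algebra.FinitePresentation A B := (Algebra.FinitePresentation.of_finiteType).mp inferInstance
  rcases subsingleton_or_nontrivial A with hA | hA
  · have : Subsingleton B := subsingleton_of_zero_eq_one (by
      rw [← map_one (algebraMap A B), ← map_zero (algebraMap A B), Subsingleton.elim (1 : A) 0])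
    have : Subsingleton (MvPolynomial
      (Fin (Module.finrank A (HomogeneousIdeal.irrelevant 𝒜).toIdeal.Cotangent)) A) := inferInstance
    exact ⟨AlgEquiv.ofBijective (Algebra.ofId A B |> fun _ =>
      (MvPolynomial.aeval fun _ => (0 : B))) ⟨fun a b _ => Subsingleton.elim a b,
        fun b => ⟨0, Subsingleton.elim _ b⟩⟩ |>.symm⟩
  let β := Module.finBasis A (HomogeneousIdeal.irrelevant 𝒜).toIdeal.Cotangent
  obtain ⟨y, hy, hgen⟩ := exists_generators 𝒜 _ β h0
  refine ⟨(AlgEquiv.ofBijective _ (bijective_aeval (HomogeneousIdeal.irrelevant 𝒜).toIdeal ?_ hsm y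
    ?_ hgen)).symm⟩
  · intro a b hab
    refine hinj ?_
    have : algebraMap A B a - algebraMap A B b ∈ (HomogeneousIdeal.irrelevant 𝒜).toIdeal :=
      (Ideal.Quotient.eq).mp hab
    rw [mem_irr, ← map_sub, GradedAlgebra.proj_apply,
      DirectSum.decompose_of_mem_same 𝒜 ((h0 _).mpr ⟨_, rfl⟩), map_sub, sub_eq_zero] at this
    exact this
  · simpa only [hy] using β.linearIndependent

end Groth.Agent.S18961
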