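import Groth.Statements.S18964
import Groth.Agent.Magnet.OverRep
import Groth.Agent.Magnet.OpenSub
import Groth.Agent.Magnet.FieldAttr
import Groth.Agent.Magnet.Sheaf
-- import your own Groth.Agent.* helpers here

set_option autoImplicit false
universe u
open CategoryTheory MonoidalCategory CartesianMonoidalCategory MonObj AlgebraicGeometry Opposite
open Magnet

namespace Groth.Agent.S18964

set_option backward.isDefEq.respectTransparency false
set_option maxHeartbeats 1000000

/-- Let k be a field, M an affine monoid k-scheme, G an affine group k-scheme and i : G → M a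
homomorphism of monoids which is an open immersion with scheme-theoretically dense image; let o :
Spec k → M be a zero of M (m·o = o = o·m), and assume that for every k-scheme T whose underlying
scheme is the spectrum of a field, every open subset of M ×_k T which is stable under G acting by
left multiplication through i on the first factor and contains the zero section is the whole of M
×_k T. Let X be a k-scheme with an action aX of G such that the G-stable affine open subsets U of X
cover the fixed points: for every k-scheme T and every G-fixed T-valued point x of X, the preimages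
under x of the G-stable affine opens cover T (equivalently, the open subfunctors U^G cover X^G; this
holds when X is locally linear, i.e. every point has a G-stable affine open neighbourhood). Then the
functor D_X on k-schemes, whose value at Y is the set of k-morphisms M ×_k Y → X that are
G-equivariant for G acting on M ×_k Y by left multiplication through i on the first factor, is
representable by a k-scheme. (In the source M is a Kempf monoid with G its group of units;
affineness of G, density and openness of G in M and the displayed property of G-stable opens over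
field extensions are the consequences of that hypothesis which the argument uses.) -/
theorem result (k : Type u) [Field k]
    (M G X : Over (Spec (CommRingCat.of k))) [MonObj M] [GrpObj G] [IsAffine M.left] [IsAffine G.left]
    (i : G ⟶ M) [IsMonHom i] [IsOpenImmersion i.left] [IsSchemeTheoreticallyDominant i.left]
    (o : 𝟙_ (Over (Spec (CommRingCat.of k))) ⟶ M)
    (ho : ∀ (T : Over (Spec (CommRingCat.of k))) (m : T ⟶ M), m * (toUnit T ≫ o) = toUnit T ≫ o ∧ (toUnit T ≫ o) * m = toUnit T ≫ o)
    (hM : ∀ (T : Over (Spec (CommRingCat.of k))) (K : Type u) [Field K] (eT : T.left ≅ Spec (CommRingCat.of K))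
      (W : (M ⊗ T).left.Opens),
      (CartesianMonoidalCategory.snd G (M ⊗ T)).left ⁻¹ᵁ W ≤
          ((((Magnet.MonAct.regular M).restrict i).prod (Magnet.MonAct.trivial G T)).act).left ⁻¹ᵁ W →
      (CartesianMonoidalCategory.lift (toUnit T ≫ o) (𝟙 T)).left ⁻¹ᵁ W = ⊤ → W = ⊤)
    (aX : AlgGrp.Action G X)
    (hcov : ∀ (T : Over (Spec (CommRingCat.of k))) (x : (Magnet.MonAct.fixedPsh (Magnet.MonAct.ofAction aX)).obj (op T)),
      ⨆ (U : X.left.Opens) (_ : IsAffineOpen U ∧ (CartesianMonoidalCategory.snd G X).left ⁻¹ᵁ U ≤ aX.act.left ⁻¹ᵁ U),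
        x.1.left ⁻¹ᵁ U = ⊤) :
    ∃ Z : Over (Spec (CommRingCat.of k)),
      Nonempty ((Magnet.MonAct.eqvHom ((Magnet.MonAct.regular M).restrict i) (Magnet.MonAct.ofAction aX)).RepresentableBy Z) := by
  let ρ := (Magnet.MonAct.regular M).restrict i
  let a := Magnet.MonAct.ofAction aX
  have hfix : ∀ (T : Over (Spec (CommRingCat.of k))) (φ : (Magnet.MonAct.eqvHom ρ a).obj (op T))
      (T' : Over (Spec (CommRingCat.of k))) (t : T' ⟶ T) (g : T' ⟶ G),
      CartesianMonoidalCategory.lift g (t ≫ (Magnet.MonAct.eqvHom.evalAt ρ a o).app (op T) φ) ≫ a.act =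
        t ≫ (Magnet.MonAct.eqvHom.evalAt ρ a o).app (op T) φ := by
    intro T φ T' t g
    have e : t ≫ (Magnet.MonAct.eqvHom.evalAt ρ a o).app (op T) φ =
        CartesianMonoidalCategory.lift (toUnit T' ≫ o) t ≫ φ.1 := by
      change t ≫ CartesianMonoidalCategory.lift (toUnit T ≫ o) (𝟙 T) ≫ φ.1 = _
      rw [comp_lift_assoc, Category.comp_id, ← Category.assoc t, toUnit_unique (t ≫ toUnit T) (toUnit T')]
    have h := (Magnet.MonAct.mem_eqvHom_iff φ.1).1 φ.2 T' g (toUnit T' ≫ o) t
    rw [Magnet.MonAct.lift_restrict_act, Magnet.MonAct.lift_regular_act, (ho T' (g ≫ i)).1] at h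
    rw [e]
    exact h.symm
  let Idx := {U : X.left.Opens // IsAffineOpen U ∧
    (CartesianMonoidalCategory.snd G X).left ⁻¹ᵁ U ≤ aX.act.left ⁻¹ᵁ U}
  refine Groth.Agent.Magnet.exists_representableBy_of_openCover
    (Groth.Agent.Magnet.isSheaf_eqvHom _ ρ a) (Magnet.MonAct.eqvHom.evalAt ρ a o)
    (fun U : Idx => U.1) (fun T φ => ?_) fun U => ?_
  · rw [iSup_subtype]
    exact hcov T ⟨_, hfix T φ⟩
  obtain ⟨U, hU, hstab⟩ := U
  let U' : Over (Spec (CommRingCat.of k)) := Over.mk (U.ι ≫ X.hom)
  let j : U' ⟶ X := Over.homMk U.ι rfl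
  have : IsAffine U'.left := hU
  have : IsOpenImmersion j.left := inferInstanceAs (IsOpenImmersion U.ι)
  have : Mono j := Over.mono_of_mono_left j
  have hrange : Set.range ((G ◁ j) ≫ a.act).left ⊆ Set.range j.left := by
    rintro _ ⟨p, rfl⟩
    have hp : (G ◁ j).left p ∈ (CartesianMonoidalCategory.snd G X).left ⁻¹ᵁ U := by
      change (CartesianMonoidalCategory.snd G X).left ((G ◁ j).left p) ∈ U
      rw [← Scheme.Hom.comp_apply, ← Over.comp_left, whiskerLeft_snd]
      exact (Scheme.Opens.range_ι U).le ⟨_, rfl⟩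
    exact (Scheme.Opens.range_ι U).ge (hstab hp)
  let actU : G ⊗ U' ⟶ U' := Over.homMk (IsOpenImmersion.lift j.left _ hrange) (by
    have e : IsOpenImmersion.lift j.left _ hrange ≫ j.left ≫ X.hom = (G ⊗ U').hom := by
      rw [IsOpenImmersion.lift_fac_assoc, Over.w ((G ◁ j) ≫ a.act)]
    exact e)
  have hactU : actU ≫ j = (G ◁ j) ≫ a.act := Over.OverMorphism.ext (IsOpenImmersion.lift_fac _ _ _)
  let aU : Magnet.MonAct G U' := Magnet.MonAct.mk' actU
    (fun T x => by
      rw [← cancel_mono j, Category.assoc, hactU, lift_whiskerLeft_assoc, Magnet.MonAct.lift_one_act])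
    (fun T g h x => by
      rw [← cancel_mono j, Category.assoc, hactU, Category.assoc, hactU, lift_whiskerLeft_assoc,
        lift_whiskerLeft_assoc, Category.assoc, hactU, lift_whiskerLeft_assoc,
        Magnet.MonAct.lift_mul_act])
  have hj : Magnet.MonAct.IsEquivariant aU a j := hactU
  obtain ⟨Z, -, e, -, -⟩ := Groth.Agent.Magnet.exists_eqvHom_closed i aU
  have sq := Groth.Agent.Magnet.isPullback_postcomp_evalAt_of_isOpenImmersion ρ o hM a aU j hj
  refine ⟨Z, (Magnet.MonAct.eqvHom.postcomp ρ j hj).app (op Z) (e.homEquiv (𝟙 Z)), ?_, fun T x hx => ?_⟩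
  · rintro _ ⟨p, rfl⟩
    have h := ConcreteCategory.congr_hom (congrArg (fun η' => NatTrans.app η' (op Z)) sq.w) (e.homEquiv (𝟙 Z))
    change _ ∈ (U : Set X.left)
    refine (Scheme.Opens.range_ι U).le ?_
    have h' : (Magnet.MonAct.eqvHom.evalAt ρ a o).app (op Z)
        ((Magnet.MonAct.eqvHom.postcomp ρ j hj).app (op Z) (e.homEquiv (𝟙 Z))) =
        (Magnet.MonAct.eqvHom.evalAt ρ aU o).app (op Z) (e.homEquiv (𝟙 Z)) ≫ j := h
    rw [h', Over.comp_left, Scheme.Hom.comp_apply]
    exact ⟨_, rfl⟩
  · let u : T ⟶ U' := Over.homMk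
      (IsOpenImmersion.lift j.left _ (hx.trans (Scheme.Opens.range_ι U).ge)) (by
        have e : IsOpenImmersion.lift j.left _ (hx.trans (Scheme.Opens.range_ι U).ge) ≫ j.left ≫ X.hom =
            T.hom := by
          rw [IsOpenImmersion.lift_fac_assoc, Over.w ((Magnet.MonAct.eqvHom.evalAt ρ a o).app (op T) x)]
        exact e)
    have hu : (Magnet.MonAct.eqvHom.evalAt ρ a o).app (op T) x = u ≫ j :=
      (Over.OverMorphism.ext (IsOpenImmersion.lift_fac _ _ _)).symm
    obtain ⟨-, hinj, hsurj⟩ := (CategoryTheory.Limits.Types.isPullback_iff _ _ _ _).1 (sq.app (op T))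
    obtain ⟨ψ, hψ, -⟩ := hsurj x u hu
    have hnat : ∀ v : T ⟶ Z, (Magnet.MonAct.eqvHom ρ a).map v.op
        ((Magnet.MonAct.eqvHom.postcomp ρ j hj).app (op Z) (e.homEquiv (𝟙 Z))) =
        (Magnet.MonAct.eqvHom.postcomp ρ j hj).app (op T) (e.homEquiv v) := by
      intro v
      rw [e.homEquiv_eq v]
      apply Subtype.ext
      change (M ◁ v) ≫ (e.homEquiv (𝟙 Z)).1 ≫ j = ((M ◁ v) ≫ (e.homEquiv (𝟙 Z)).1) ≫ j
      rw [Category.assoc]
    refine ⟨e.homEquiv.symm ψ, ?_, fun v hv => ?_⟩
    · exact (hnat _).trans (by rw [Equiv.apply_symm_apply]; exact hψ)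
    · have hv := (hnat v).symm.trans hv
      rw [Equiv.eq_symm_apply]
      exact Subtype.ext ((cancel_mono j).1 (congrArg Subtype.val (hv.trans hψ.symm)))

end Groth.Agent.S18964
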