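import Groth.Statements.S18974
import Mathlib

set_option autoImplicit false
universe u
open CAlg

namespace Groth.Agent.S18974

/-- Let A be a commutative algebra over the rationals, D a locally nilpotent derivation of A and a an
element with D a = 1; write A' for the quotient of A by the ideal generated by a. Then there is a
ring isomorphism from A onto the polynomial ring A'[Y] which sends every x to the (finite) sum over
n of (1/n!) (class of D^n x) Y^n; its inverse sends Y to a and the constant polynomial on the class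
of x to the sum over n of ((-1)^n/n!) (D^n x) a^n, and under it D corresponds to the derivative
d/dY. (The source says only that A is a ring, in a setting over a field of characteristic zero; the
rational coefficients 1/n! require an algebra over the rationals, which is the hypothesis taken
here. Both sums are written over any range beyond which the iterates of D vanish at x.) -/
theorem result
    (A : Type u) [CommRing A] [Algebra ℚ A] (D : Derivation ℚ A A)
    (hnil : ∀ x : A, ∃ n : ℕ, ((D : A →ₗ[ℚ] A) ^ n) x = 0) (a : A) (ha : D a = 1) :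
    ∃ χ : A ≃+* Polynomial (A ⧸ Ideal.span ({a} : Set A)),
      (∀ (x : A) (N : ℕ), ((D : A →ₗ[ℚ] A) ^ N) x = 0 →
        χ x = ∑ n ∈ Finset.range N,
          ((n.factorial : ℚ)⁻¹ • Polynomial.C (Ideal.Quotient.mk (Ideal.span ({a} : Set A)) (((D : A →ₗ[ℚ] A) ^ n) x))) *
            Polynomial.X ^ n) ∧
      χ.symm Polynomial.X = a ∧
      (∀ (x : A) (N : ℕ), ((D : A →ₗ[ℚ] A) ^ N) x = 0 →
        χ.symm (Polynomial.C (Ideal.Quotient.mk (Ideal.span ({a} : Set A)) x)) =
          ∑ n ∈ Finset.range N, (((-1 : ℚ) ^ n * (n.factorial : ℚ)⁻¹) • ((((D : A →ₗ[ℚ] A) ^ n) x) * a ^ n))) ∧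
      ∀ p : Polynomial (A ⧸ Ideal.span ({a} : Set A)), χ (D (χ.symm p)) = Polynomial.derivative p := by
  classical
  set I := Ideal.span ({a} : Set A) with hI
  set L : A →ₗ[ℚ] A := (D : A →ₗ[ℚ] A) with hL
  have hL1 : ∀ x, L x = D x := fun x => rfl
  have hstay : ∀ (x : A) (N : ℕ), (L ^ N) x = 0 → ∀ n, N ≤ n → (L ^ n) x = 0 := by
    intro x N hx n hn
    obtain ⟨m, rfl⟩ := Nat.exists_eq_add_of_le hn
    rw [add_comm N m, pow_add, Module.End.mul_apply, hx, map_zero]
  let c : ℕ → A →ₗ[ℚ] (A ⧸ I) := fun n => (n.factorial : ℚ)⁻¹ • ((Ideal.Quotient.mkₐ ℚ I).toLinearMap ∘ₗ (L ^ n))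
  have hc : ∀ n x, c n x = (n.factorial : ℚ)⁻¹ • Ideal.Quotient.mk I ((L ^ n) x) := fun n x => rfl
  have hc0 : ∀ x, c 0 x = Ideal.Quotient.mk I x := fun x => by simp [hc]
  have hcD : ∀ i x, c (i + 1) x * ((i : A ⧸ I) + 1) = c i (D x) := by
    intro i x
    rw [hc, hc, pow_succ, Module.End.mul_apply, hL1, mul_comm, ← Nat.cast_succ, ← nsmul_eq_mul, ← Nat.cast_smul_eq_nsmul ℚ,
      smul_smul, Nat.factorial_succ]
    congr 1
    push_cast
    field_simp
  choose N hN using hnil
  let F : A → Polynomial (A ⧸ I) := fun x => ∑ n ∈ Finset.range (N x), Polynomial.monomial n (c n x)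
  have hF : ∀ x i, (F x).coeff i = c i x := by
    intro x i
    simp only [F, Polynomial.finsetSum_coeff, Polynomial.coeff_monomial]
    rw [Finset.sum_ite_eq']
    split_ifs with h
    · rfl
    · rw [hc, hstay x (N x) (hN x) i (by simpa using h), map_zero, smul_zero]
  have hFD : ∀ x, F (D x) = Polynomial.derivative (F x) := fun x => Polynomial.ext fun i => by
    rw [Polynomial.coeff_derivative, hF, hF, hcD]
  have hunit : ∀ i : ℕ, IsUnit ((i : A ⧸ I) + 1) := fun i => by
    have : IsUnit (algebraMap ℚ (A ⧸ I) ((i : ℚ) + 1)) := (IsUnit.mk0 _ (by positivity)).map _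
    simpa using this
  have hFadd : ∀ x y, F (x + y) = F x + F y := fun x y => Polynomial.ext fun i => by
    rw [Polynomial.coeff_add, hF, hF, hF, map_add]
  have hFmul : ∀ x y, F (x * y) = F x * F y := by
    suffices ∀ i x y, (F (x * y)).coeff i = (F x * F y).coeff i from fun x y => Polynomial.ext fun i => this i x y
    intro i
    induction i with
    | zero => intro x y; rw [Polynomial.mul_coeff_zero, hF, hF, hF, hc0, hc0, hc0, map_mul]
    | succ i ih =>
      intro x y
      apply (hunit i).mul_right_cancel
      rw [← Polynomial.coeff_derivative, ← Polynomial.coeff_derivative, ← hFD, Polynomial.derivative_mul,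
        ← hFD, ← hFD, D.leibniz, smul_eq_mul, smul_eq_mul, hFadd, Polynomial.coeff_add, Polynomial.coeff_add,
        ih, ih, mul_comm (F y)]
      ring
  have hF1 : F 1 = 1 := Polynomial.ext fun i => by
    rw [hF, Polynomial.coeff_one]
    rcases i with _ | i
    · simp [hc0]
    · rw [hc, pow_succ, Module.End.mul_apply, hL1, D.map_one_eq_zero]
      simp
  let φ : A →+* Polynomial (A ⧸ I) :=
    { toFun := F, map_one' := hF1, map_mul' := hFmul,
      map_zero' := by simpa using hFadd 0 0, map_add' := hFadd }
  have hFa : F a = Polynomial.X := Polynomial.ext fun i => by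
    rw [hF, Polynomial.coeff_X]
    rcases i with _ | i
    · rw [hc0, Ideal.Quotient.eq_zero_iff_mem.2 (Ideal.mem_span_singleton_self a)]; simp
    · rw [hc, pow_succ, Module.End.mul_apply, hL1, ha]
      rcases i with _ | i
      · simp
      · rw [pow_succ, Module.End.mul_apply, hL1, D.map_one_eq_zero]
        simp
  have hinj : Function.Injective φ := by
    rw [injective_iff_map_eq_zero]
    suffices ∀ n x, (L ^ n) x = 0 → F x = 0 → x = 0 from fun x hx => this (N x) x (hN x) hx
    intro n
    induction n with
    | zero => intro x hx _; simpa using hx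
    | succ n ih =>
      intro x hx hFx
      have hDx : D x = 0 := ih (D x) (by rwa [pow_succ, Module.End.mul_apply] at hx) (by rw [hFD, hFx, Polynomial.derivative_zero])
      have h0 : Ideal.Quotient.mk I x = 0 := by rw [← hc0, ← hF, hFx, Polynomial.coeff_zero]
      obtain ⟨y, rfl⟩ := Ideal.mem_span_singleton.1 (Ideal.Quotient.eq_zero_iff_mem.1 h0)
      have h1 : ∀ k : ℕ, ((k : A) + 1) * (L ^ k) y + a * (L ^ (k + 1)) y = 0 := by
        intro k
        induction k with
        | zero =>
          rw [D.leibniz, ha, smul_eq_mul, smul_eq_mul, mul_one] at hDx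
          simp [hL1]; linear_combination hDx
        | succ k ihk =>
          have h2 := congrArg D ihk
          rw [map_add, D.leibniz, D.leibniz, map_add, D.map_natCast, D.map_one_eq_zero, ha, map_zero] at h2
          simp only [smul_eq_mul, zero_add, mul_zero, add_zero, mul_one] at h2
          rw [← hL1, ← hL1, ← Module.End.mul_apply, ← Module.End.mul_apply, ← pow_succ', ← pow_succ'] at h2
          push_cast
          linear_combination h2
      have h3 : ∀ j k : ℕ, N y ≤ j + k → (L ^ k) y = 0 := by
        intro j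
        induction j with
        | zero => intro k hk; exact hstay y _ (hN y) k (by omega)
        | succ j ihj =>
          intro k hk
          have h4 := h1 k
          rw [ihj (k + 1) (by omega), mul_zero, add_zero] at h4
          have hu : IsUnit ((k : A) + 1) := by
            have : IsUnit (algebraMap ℚ A ((k : ℚ) + 1)) := (IsUnit.mk0 _ (by positivity)).map _
            simpa using this
          exact hu.mul_right_eq_zero.1 h4
      have := h3 (N y) 0 (by omega)
      rw [pow_zero, Module.End.one_apply] at this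
      rw [this, mul_zero]
  have hπ : ∀ (x : A) (M : ℕ), (L ^ M) x = 0 →
      F (∑ n ∈ Finset.range M, (((-1 : ℚ) ^ n * (n.factorial : ℚ)⁻¹) • (((L ^ n) x) * a ^ n))) =
        Polynomial.C (Ideal.Quotient.mk I x) := by
    intro x M hM
    rcases M with _ | m
    · rw [pow_zero, Module.End.one_apply] at hM
      simp [hM]
      exact map_zero φ
    · set s := ∑ n ∈ Finset.range (m + 1), (((-1 : ℚ) ^ n * (n.factorial : ℚ)⁻¹) • (((L ^ n) x) * a ^ n)) with hs
      have hDs : ∀ m' : ℕ, D (∑ n ∈ Finset.range (m' + 1), (((-1 : ℚ) ^ n * (n.factorial : ℚ)⁻¹) • (((L ^ n) x) * a ^ n))) =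
          ((-1 : ℚ) ^ m' * (m'.factorial : ℚ)⁻¹) • (((L ^ (m' + 1)) x) * a ^ m') := by
        intro m'
        induction m' with
        | zero => simp [hL1]
        | succ k ihk =>
          rw [Finset.sum_range_succ, map_add, ihk, D.map_smul, D.leibniz, D.leibniz_pow, ha]
          simp only [smul_eq_mul, nsmul_eq_mul, mul_one, Nat.add_sub_cancel]
          rw [← hL1, ← Module.End.mul_apply, ← pow_succ']
          have e : ((-1 : ℚ) ^ (k + 1) * (((k + 1).factorial : ℕ) : ℚ)⁻¹) • ((L ^ (k + 1)) x * (((k + 1 : ℕ) : A) * a ^ k)) =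
              -(((-1 : ℚ) ^ k * ((k.factorial : ℕ) : ℚ)⁻¹) • ((L ^ (k + 1)) x * a ^ k)) := by
            rw [mul_left_comm, ← nsmul_eq_mul, ← Nat.cast_smul_eq_nsmul ℚ, smul_smul, ← neg_smul]
            congr 1
            rw [Nat.factorial_succ, pow_succ]
            push_cast
            field_simp
          rw [smul_add, e, mul_comm (a ^ (k + 1))]
          abel
      have hDs0 : D s = 0 := by rw [hs, hDs, hM, zero_mul, smul_zero]
      refine Polynomial.ext fun i => ?_
      rw [hF, Polynomial.coeff_C]
      rcases i with _ | i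
      · rw [hc0, if_pos rfl, hs, map_sum, Finset.sum_range_succ', Finset.sum_eq_zero (fun n _ => ?_)]
        · simp
        · rw [Ideal.Quotient.eq_zero_iff_mem, Algebra.smul_def]
          exact I.mul_mem_left _ (I.mul_mem_left _ (Ideal.pow_mem_of_mem I (Ideal.mem_span_singleton_self a) _ (by omega)))
      · rw [hc, pow_succ, Module.End.mul_apply, hL1, hDs0, map_zero, map_zero, smul_zero, if_neg (by omega)]
  have hsurj : Function.Surjective φ := fun p => by
    induction p using Polynomial.induction_on' with
    | add p q hp hq => obtain ⟨u, rfl⟩ := hp; obtain ⟨v, rfl⟩ := hq; exact ⟨u + v, map_add _ _ _⟩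
    | monomial n b =>
      obtain ⟨x, rfl⟩ := Ideal.Quotient.mk_surjective b
      refine ⟨(∑ k ∈ Finset.range (N x), (((-1 : ℚ) ^ k * (k.factorial : ℚ)⁻¹) • (((L ^ k) x) * a ^ k))) * a ^ n, ?_⟩
      rw [map_mul, map_pow, show φ a = Polynomial.X from hFa, show φ _ = Polynomial.C _ from hπ x (N x) (hN x),
        Polynomial.C_mul_X_pow_eq_monomial]
  refine ⟨RingEquiv.ofBijective φ ⟨hinj, hsurj⟩, fun x M hM => ?_, ?_, fun x M hM => ?_, fun p => ?_⟩
  · refine Polynomial.ext fun i => ?_
    show (F x).coeff i = _
    rw [hF, Polynomial.finsetSum_coeff]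
    simp only [Polynomial.smul_C, Polynomial.coeff_C_mul_X_pow]
    rw [Finset.sum_ite_eq]
    split_ifs with h
    · rfl
    · rw [hc, hstay x M hM i (by simpa using h), map_zero, smul_zero]
  · rw [RingEquiv.symm_apply_eq]; exact hFa.symm
  · rw [RingEquiv.symm_apply_eq]; exact (hπ x M hM).symm
  · obtain ⟨x, rfl⟩ := hsurj p
    rw [show φ x = RingEquiv.ofBijective φ ⟨hinj, hsurj⟩ x from rfl, RingEquiv.symm_apply_apply]
    exact hFD x

end Groth.Agent.S18974
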