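import Groth.Statements.S18977
import Groth.Prelude.Def_Magnet2
import Mathlib.AlgebraicGeometry.Sites.Fpqc

set_option autoImplicit false
universe u
open CategoryTheory MonoidalCategory CartesianMonoidalCategory MonObj AlgebraicGeometry
open GIT

namespace Groth.Agent.S18977

open CategoryTheory Limits MonoidalCategory CartesianMonoidalCategory MonObj AlgebraicGeometry


/-- Composition of torsors. Over an algebraically closed field k of characteristic zero, let G be an
affine group scheme of finite type over k, N a closed normal subgroup scheme which is the kernel of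
a homomorphism q : G → Q, and H a closed subgroup scheme of G which q maps isomorphically onto Q (so
G is the inner semidirect product N H). Let G act on a k-scheme X and let φ₁ : X → Y be a torsor
over Y under the restricted action of N (the square formed by the N-action, the second projection
and φ₁ twice is cartesian, and φ₁ acquires sections on the members of some fpqc covering family of
Y); let Q act on Y so that φ₁ is equivariant along q, and let φ₂ : Y → Z be a Q-torsor over Z in the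
same sense. Then φ₂ ∘ φ₁ is a G-torsor over Z: the square formed by the G-action, the second
projection and φ₂ ∘ φ₁ twice is cartesian, and φ₂ ∘ φ₁ acquires sections fpqc-locally on Z. (The
induced action of the factor group on Y is taken as a datum together with the equivariance of φ₁;
the source's second assertion, that the composite of trivial torsors is trivial, amounts to
composing sections and is not restated.) -/
theorem result
    (k : Type u) [Field k] [IsAlgClosed k] [CharZero k]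
    (G N Q H X Y Z : Over (Spec (CommRingCat.of k))) [GrpObj G] [GrpObj N] [GrpObj Q] [GrpObj H]
    [IsAffine G.left] [LocallyOfFiniteType G.hom]
    (iN : N ⟶ G) [IsMonHom iN] [IsClosedImmersion iN.left] (hnorm : AlgGrp.IsNormalHom iN)
    (q : G ⟶ Q) [IsMonHom q] (hker : AlgGrp.IsKernel iN q)
    (iH : H ⟶ G) [IsMonHom iH] [IsClosedImmersion iH.left] [IsIso (iH ≫ q)]
    (a : AlgGrp.Action G X) (φ₁ : X ⟶ Y)
    (h₁ : IsPullback (a.restrict iN).act (snd N X) φ₁ φ₁)
    (h₁loc : NonAbH1.IsLocallyTrivialFor Scheme.fpqcPrecoverage (Over.mk φ₁.left : Over Y.left))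
    (aY : AlgGrp.Action Q Y) (hequiv : (q ⊗ₘ φ₁) ≫ aY.act = a.act ≫ φ₁)
    (φ₂ : Y ⟶ Z) (h₂ : IsPullback aY.act (snd Q Y) φ₂ φ₂)
    (h₂loc : NonAbH1.IsLocallyTrivialFor Scheme.fpqcPrecoverage (Over.mk φ₂.left : Over Z.left)) :
    IsPullback a.act (snd G X) (φ₁ ≫ φ₂) (φ₁ ≫ φ₂) ∧
      NonAbH1.IsLocallyTrivialFor Scheme.fpqcPrecoverage (Over.mk (φ₁ ≫ φ₂).left : Over Z.left) := by
  let φ := φ₁ ≫ φ₂
  let e : Q ⟶ H := inv (iH ≫ q)
  have he : e ≫ iH ≫ q = 𝟙 Q := IsIso.inv_hom_id _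
  have hact : ∀ (T : Over (Spec (CommRingCat.of k))) (g : T ⟶ G) (x : T ⟶ X),
      (lift g x ≫ a.act) ≫ φ₁ = lift (g ≫ q) (x ≫ φ₁) ≫ aY.act := by
    intro T g x
    rw [Category.assoc, ← hequiv, ← Category.assoc, lift_map]
  have hresN : ∀ (T : Over (Spec (CommRingCat.of k))) (n : T ⟶ N) (x : T ⟶ X),
      lift n x ≫ (a.restrict iN).act = lift (n ≫ iN) x ≫ a.act := by
    intro T n x
    change lift n x ≫ (iN ▷ X) ≫ a.act = _
    rw [lift_whiskerRight_assoc]
  have hmulact : ∀ (T : Over (Spec (CommRingCat.of k))) (g g' : T ⟶ G) (x : T ⟶ X),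
      lift (g * g') x ≫ a.act = lift g (lift g' x ≫ a.act) ≫ a.act := fun T g g' x =>
    (Magnet.MonAct.ofAction a).lift_mul_act g g' x
  have w : a.act ≫ φ₁ ≫ φ₂ = snd G X ≫ φ₁ ≫ φ₂ := by
    rw [← Category.assoc, ← hequiv, Category.assoc, h₂.w, ← Category.assoc, tensorHom_snd, Category.assoc]
  have key : ∀ (T : Over (Spec (CommRingCat.of k))) (x' x : T ⟶ X), x' ≫ φ₁ ≫ φ₂ = x ≫ φ₁ ≫ φ₂ →
      ∃! g : T ⟶ G, lift g x ≫ a.act = x' := by
    intro T x' x h
    let z := h₂.lift (x' ≫ φ₁) (x ≫ φ₁) (by simpa using h)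
    have hz1 : z ≫ aY.act = x' ≫ φ₁ := h₂.lift_fst _ _ _
    have hz2 : z ≫ snd Q Y = x ≫ φ₁ := h₂.lift_snd _ _ _
    let qq := z ≫ fst Q Y
    have hqq : lift qq (x ≫ φ₁) ≫ aY.act = x' ≫ φ₁ := by
      rw [← hz1]; congr 1
      apply CartesianMonoidalCategory.hom_ext <;> simp [qq, hz2]
    have huniq : ∀ q' : T ⟶ Q, lift q' (x ≫ φ₁) ≫ aY.act = x' ≫ φ₁ → q' = qq := by
      intro q' hq'
      have : lift q' (x ≫ φ₁) = z := h₂.hom_ext (by rw [hq', hz1]) (by rw [lift_snd, hz2])
      rw [show qq = z ≫ fst Q Y from rfl, ← this, lift_fst]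
    let g₀ := qq ≫ e ≫ iH
    have hg₀ : g₀ ≫ q = qq := by simp only [g₀, Category.assoc, he, Category.comp_id]
    have hx₀ : (lift g₀ x ≫ a.act) ≫ φ₁ = x' ≫ φ₁ := by rw [hact, hg₀, hqq]
    let w₁ := h₁.lift x' (lift g₀ x ≫ a.act) hx₀.symm
    let n := w₁ ≫ fst N X
    have hn : lift n (lift g₀ x ≫ a.act) ≫ (a.restrict iN).act = x' := by
      have : lift n (lift g₀ x ≫ a.act) = w₁ := by
        apply CartesianMonoidalCategory.hom_ext <;> simp [n, w₁]
      rw [this]
      exact h₁.lift_fst _ _ _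
    refine ⟨(n ≫ iN) * g₀, ?_, ?_⟩
    · change lift ((n ≫ iN) * g₀) x ≫ a.act = x'
      rw [hmulact, ← hresN, hn]
    · intro g hg
      have hgq : g ≫ q = qq := huniq _ (by rw [← hact, hg])
      obtain ⟨n', hn'⟩ : ∃ n' : T ⟶ N, g * g₀⁻¹ = n' ≫ iN := by
        refine ⟨hker.lift (g * g₀⁻¹) (toUnit T) ?_, (hker.lift_fst _ _ _).symm⟩
        rw [MonObj.mul_comp, GrpObj.inv_comp, hgq, hg₀, mul_inv_cancel, Hom.one_def]
      have hgn : g = (n' ≫ iN) * g₀ := by rw [← hn', inv_mul_cancel_right]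
      have : lift n' (lift g₀ x ≫ a.act) = w₁ := by
        refine h₁.hom_ext ?_ ?_
        · rw [hresN, ← hmulact, ← hgn, hg]
          exact (h₁.lift_fst _ _ _).symm
        · rw [lift_snd]
          exact (h₁.lift_snd _ _ _).symm
      rw [hgn, show n' = n by rw [show n = w₁ ≫ fst N X from rfl, ← this, lift_fst]]
  refine ⟨⟨⟨w⟩, ⟨PullbackCone.IsLimit.mk _ (fun s => lift (key _ s.fst s.snd s.condition).choose s.snd)
    (fun s => (key _ s.fst s.snd s.condition).choose_spec.1) (fun s => lift_snd _ _) ?_⟩⟩, ?_⟩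
  · intro s m h1 h2
    change m ≫ a.act = s.fst at h1
    change m ≫ snd G X = s.snd at h2
    have := (key _ s.fst s.snd s.condition).choose_spec.2 (m ≫ fst G X) (by
      have : lift (m ≫ fst G X) s.snd = m := by
        apply CartesianMonoidalCategory.hom_ext <;> simp [h2]
      show lift (m ≫ fst G X) s.snd ≫ a.act = s.fst
      rw [this, h1])
    apply CartesianMonoidalCategory.hom_ext <;> simp [this, h2]
  · obtain ⟨R₁, hR₁, hs₁⟩ := h₁loc
    obtain ⟨R₂, hR₂, hs₂⟩ := h₂loc
    obtain ⟨ι₁, W₁, c₁, rfl⟩ := R₁.exists_eq_ofArrows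
    obtain ⟨ι₂, W₂, c₂, rfl⟩ := R₂.exists_eq_ofArrows
    choose l₁ hl₁ using fun i => hs₁ (c₁ i) (Presieve.ofArrows.mk i)
    choose l₂ hl₂ using fun i => hs₂ (c₂ i) (Presieve.ofArrows.mk i)
    refine ⟨_, Precoverage.comp_mem_coverings (J := Scheme.fpqcPrecoverage) c₂ hR₂
      (fun i j => pullback.fst (l₂ i) (c₁ j)) (fun i => Precoverage.mem_coverings_of_isPullback _ hR₁ (l₂ i) _
        (fun j => pullback.snd (l₂ i) (c₁ j)) (fun j => IsPullback.of_hasPullback _ _)), ?_⟩
    rintro _ _ ⟨⟨i, j⟩⟩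
    refine ⟨pullback.snd (l₂ i) (c₁ j) ≫ l₁ j, ?_⟩
    change (pullback.snd _ _ ≫ l₁ j) ≫ φ₁.left ≫ φ₂.left = pullback.fst _ _ ≫ c₂ i
    have e1 : l₁ j ≫ φ₁.left = c₁ j := hl₁ j
    have e2 : l₂ i ≫ φ₂.left = c₂ i := hl₂ i
    rw [Category.assoc, reassoc_of% e1, ← pullback.condition_assoc, e2]

end Groth.Agent.S18977
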