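import Groth.Statements.S18978
import Groth.Agent.OrbitQuot.FinStab
import Groth.Agent.GITQuot.FpqcTorsor

set_option autoImplicit false
universe u
open CategoryTheory MonoidalCategory CartesianMonoidalCategory MonObj AlgebraicGeometry
open GIT

namespace Groth.Agent.S18978

/-- Over an algebraically closed field k of characteristic zero, let G be an affine group scheme of
finite type over k with a closed normal subgroup scheme N, the kernel of a surjective homomorphism q
: G → H onto an affine group scheme H of finite type over k (the factor group G/N). Let G act on a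
separated k-scheme X of finite type, let φ : X → Y be a torsor over Y under the restricted action of
N (cartesian action square, sections on the members of some fpqc covering family of Y), and let H
act on Y so that φ is equivariant along q. Then for every geometric point x of X (a point with
values in an algebraically closed field Ω) with image y in Y: the G-orbit of x is closed in X_Ω and
the stabiliser of x in G is finite if and only if the H-orbit of y is closed in Y_Ω and the
stabiliser of y in H is finite. (The induced action of the factor group on Y is taken as a datum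
together with the equivariance of φ; the points of the published statement are rendered as geometric
points.) -/
theorem result
    (k : Type u) [Field k] [IsAlgClosed k] [CharZero k]
    (G N H X Y : Over (Spec (CommRingCat.of k))) [GrpObj G] [GrpObj N] [GrpObj H]
    [IsAffine G.left] [LocallyOfFiniteType G.hom]
    (iN : N ⟶ G) [IsMonHom iN] [IsClosedImmersion iN.left] (hnorm : AlgGrp.IsNormalHom iN)
    (q : G ⟶ H) [IsMonHom q] [Surjective q.left] [IsAffine H.left] [LocallyOfFiniteType H.hom]
    (hker : AlgGrp.IsKernel iN q)
    [LocallyOfFiniteType X.hom] [QuasiCompact X.hom] [IsSeparated X.hom]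
    (a : AlgGrp.Action G X) (φ : X ⟶ Y)
    (hcart : IsPullback (a.restrict iN).act (snd N X) φ φ)
    (hloc : NonAbH1.IsLocallyTrivialFor Scheme.fpqcPrecoverage (Over.mk φ.left : Over Y.left))
    (aY : AlgGrp.Action H Y) (hequiv : (q ⊗ₘ φ) ≫ aY.act = a.act ≫ φ)
    (Ω : Type u) [Field Ω] [IsAlgClosed Ω] (P : Over (Spec (CommRingCat.of k)))
    (e : P.left ≅ Spec (CommRingCat.of Ω)) (x : P ⟶ X) :
    (IsClosed (Set.range (GIT.psi a x).left.base) ∧ IsFinite (GLinSh.stabTo a x)) ↔
      (IsClosed (Set.range (GIT.psi aY (x ≫ φ)).left.base) ∧ IsFinite (GLinSh.stabTo aY (x ≫ φ))) := by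
  haveI : IsAffineHom G.hom := isAffineHom_of_isAffine G.hom
  haveI : IsAffine N.left := isAffine_of_isAffineHom iN.left
  haveI : LocallyOfFiniteType N.hom := by rw [← Over.w iN]; infer_instance
  haveI : IsAffineHom N.hom := isAffineHom_of_isAffine N.hom
  haveI : IsAffineHom H.hom := isAffineHom_of_isAffine H.hom
  have hπ := (Groth.Agent.GITQuot.torsor_over_field N X Y (a.restrict iN) φ hcart hloc).2.1
  have hN : IsFinite (GLinSh.stabTo (a.restrict iN) x) := by
    rw [Groth.Agent.OrbitQuot.isFinite_stabTo_iff (a.restrict iN) e x]
    haveI : Subsingleton {n : P ⟶ N // lift n x ≫ (a.restrict iN).act = x} := by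
      refine ⟨fun n m => Subtype.ext ?_⟩
      have h : lift n.1 x = lift m.1 x := hcart.hom_ext (n.2.trans m.2.symm) (by simp)
      simpa using congrArg (fun g : P ⟶ N ⊗ X => g ≫ fst N X) h
    exact Finite.of_subsingleton
  rw [Groth.Agent.OrbitQuot.isClosed_iff iN q a (a.restrict iN) φ aY rfl hπ hequiv (Surjective.surj (f := q.left)) x,
    Groth.Agent.OrbitQuot.isFinite_stabTo_quot_iff iN q (Surjective.surj (f := q.left)) hker a (a.restrict iN) rfl φ hπ
      aY hequiv e x hN]

end Groth.Agent.S18978
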