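import Groth.Statements.S18983
import Mathlib

set_option autoImplicit false
universe u v w
open CAlg

namespace Groth.Agent.S18983

theorem core {k : Type u} [Field k] {Λ : Type v} [AddCommGroup Λ] [DecidableEq Λ]
    {V : Type w} [AddCommGroup V] [Module k V] [FiniteDimensional k V]
    (𝒱 : Λ → Submodule k V) [DirectSum.Decomposition 𝒱]
    (A : Module.End k V) (hA : IsNilpotent A) (χ : Λ)
    (hhom : ∀ (μ : Λ) (v : V), v ∈ 𝒱 μ → A v ∈ 𝒱 (μ + χ))
    (W : Submodule k V) :
    (∀ v ∈ W, ∀ μ, (DirectSum.decompose 𝒱 v μ : V) ∈ W) → (∀ v ∈ W, A v ∈ W) →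
    ∃ (ι : Type w) (_ : Finite ι) (n : ι → ℕ) (e : (Σ i : ι, Fin (n i + 1)) → V),
      LinearIndependent k e ∧ Submodule.span k (Set.range e) = W ∧
      (∀ (i : ι) (l : Fin (n i + 1)), ∃ μ : Λ, e ⟨i, l⟩ ∈ 𝒱 μ) ∧
      (∀ i : ι, A (e ⟨i, 0⟩) = 0) ∧
      ∀ (i : ι) (l : Fin (n i)), A (e ⟨i, l.succ⟩) = e ⟨i, l.castSucc⟩ := by
  classical
  induction W using WellFoundedLT.induction with
  | ind W IH =>
  intro hgr hinv
  by_cases hW : W = ⊥
  · exact ⟨PEmpty, inferInstance, fun x => x.elim, fun x => x.1.elim, linearIndependent_empty_type,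
      by rw [Set.range_eq_empty, Submodule.span_empty, hW], fun i => i.elim, fun i => i.elim, fun i => i.elim⟩
  have hproj : ∀ (v : V) (μ : Λ), (DirectSum.decompose 𝒱 (A v) (μ + χ) : V) = A (DirectSum.decompose 𝒱 v μ : V) := by
    intro v
    induction v using DirectSum.Decomposition.inductionOn 𝒱 with
    | zero => intro μ; simp
    | homogeneous m =>
      intro μ
      rename_i ν
      rcases eq_or_ne ν μ with rfl | hne
      · rw [DirectSum.decompose_of_mem_same 𝒱 (hhom _ _ m.2), DirectSum.decompose_of_mem_same 𝒱 m.2]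
      · rw [DirectSum.decompose_of_mem_ne 𝒱 (hhom _ _ m.2) (fun h => hne (add_right_cancel h)),
          DirectSum.decompose_of_mem_ne 𝒱 m.2 hne, map_zero]
    | add a b ha hb => intro μ; simp [ha μ, hb μ]
  set W' := W.map A with hW'
  have hle : W' ≤ W := by rintro _ ⟨v, hv, rfl⟩; exact hinv v hv
  have hlt : W' < W := by
    refine lt_of_le_of_ne hle fun heq => hW ?_
    obtain ⟨N, hN⟩ := hA
    have : ∀ j : ℕ, W.map (A ^ j : Module.End k V) = W := by
      intro j
      induction j with
      | zero => simp [Module.End.one_eq_id]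
      | succ j ihj => rw [pow_succ', Module.End.mul_eq_comp, Submodule.map_comp, ihj]; exact heq
    rw [← this N, hN, Submodule.map_zero]
  have hgr' : ∀ v ∈ W', ∀ μ, (DirectSum.decompose 𝒱 v μ : V) ∈ W' := by
    rintro _ ⟨v, hv, rfl⟩ μ
    refine ⟨_, hgr v hv (μ - χ), ?_⟩
    rw [← hproj, sub_add_cancel]
  obtain ⟨ι, hι, n, e, hli, hsp, hhomE, hbot, hsucc⟩ := IH W' hlt hgr' (fun v hv => ⟨v, hle hv, rfl⟩)
  haveI := Fintype.ofFinite ι
  have hemem : ∀ x, e x ∈ W' := fun x => hsp ▸ Submodule.subset_span ⟨x, rfl⟩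
  -- homogeneous preimages of chain tops
  have htop : ∀ i : ι, ∃ f : V, f ∈ W ∧ (∃ μ, f ∈ 𝒱 μ) ∧ A f = e ⟨i, Fin.last (n i)⟩ := by
    intro i
    obtain ⟨μ, hμ⟩ := hhomE i (Fin.last (n i))
    obtain ⟨v, hv, hve⟩ := hemem ⟨i, Fin.last (n i)⟩
    refine ⟨_, hgr v hv (μ - χ), ⟨μ - χ, SetLike.coe_mem _⟩, ?_⟩
    rw [← hproj, sub_add_cancel, hve, DirectSum.decompose_of_mem_same 𝒱 hμ]
  choose f hfW hfhom hfA using htop
  -- the kernel
  set K := W ⊓ LinearMap.ker A with hK
  set bot : ι → V := fun i => e ⟨i, 0⟩ with hbotdef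
  have hbotli : LinearIndependent k bot := hli.comp (fun i => (⟨i, 0⟩ : Σ i : ι, Fin (n i + 1))) (fun a b h => congrArg Sigma.fst h)
  set S : Set V := {v | v ∈ K ∧ ∃ μ, v ∈ 𝒱 μ} with hS
  have hsub : Set.range bot ⊆ S := by
    rintro _ ⟨i, rfl⟩
    exact ⟨⟨hle (hemem _), hbot i⟩, hhomE i 0⟩
  have hbotli' : LinearIndepOn k id (Set.range bot) := hbotli.linearIndepOn_id
  set b : Set V := hbotli'.extend hsub with hb
  have hbS : b ⊆ S := hbotli'.extend_subset hsub
  have hbsub : Set.range bot ⊆ b := hbotli'.subset_extend hsub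
  have hbli : LinearIndepOn k id b := hbotli'.linearIndepOn_extend hsub
  have hbspan : Submodule.span k b = K := by
    refine le_antisymm (Submodule.span_le.2 fun v hv => (hbS hv).1) (fun v hv => ?_)
    rw [← DirectSum.sum_support_decompose 𝒱 v]
    refine Submodule.sum_mem _ fun μ _ => hbotli'.subset_span_extend hsub ⟨⟨hgr v hv.1 μ, ?_⟩, μ, SetLike.coe_mem _⟩
    show A _ = 0
    rw [← hproj, show A v = 0 from hv.2]
    simp
  have hbfin : b.Finite := hbli.linearIndependent.setFinite
  set extra : Set V := b \ Set.range bot with hextra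
  haveI : Finite extra := (hbfin.sdiff).to_subtype
  let n' : ι ⊕ extra → ℕ := Sum.elim (fun i => n i + 1) (fun _ => 0)
  let e' : (Σ i : ι ⊕ extra, Fin (n' i + 1)) → V := fun x =>
    match x with
    | ⟨.inl i, l⟩ => Fin.snoc (α := fun _ => V) (fun l => e ⟨i, l⟩) (f i) l
    | ⟨.inr v, _⟩ => v.1
  haveI := Fintype.ofFinite extra
  have he'W : ∀ x, e' x ∈ W := by
    rintro ⟨i | v, l⟩
    · induction l using Fin.lastCases with
      | last =>
        show Fin.snoc (α := fun _ => V) (fun l => e ⟨i, l⟩) (f i) (Fin.last _) ∈ W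
        erw [Fin.snoc_last]; exact hfW i
      | cast l =>
        show Fin.snoc (α := fun _ => V) (fun l => e ⟨i, l⟩) (f i) (Fin.castSucc l) ∈ W
        erw [Fin.snoc_castSucc]; exact hle (hemem _)
    · exact (hbS v.2.1).1.1
  have hspan' : Submodule.span k (Set.range e') = W := by
    refine le_antisymm (Submodule.span_le.2 (Set.range_subset_iff.2 he'W)) fun v hv => ?_
    set P := Submodule.span k (Set.range e') with hP
    have hK' : K ≤ P := by
      rw [← hbspan, Submodule.span_le]
      intro u hu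
      by_cases h : u ∈ Set.range bot
      · obtain ⟨i, rfl⟩ := h
        refine Submodule.subset_span ⟨⟨.inl i, Fin.castSucc (0 : Fin (n i + 1))⟩, ?_⟩
        exact Fin.snoc_castSucc (α := fun _ => V) _ _ _
      · exact Submodule.subset_span ⟨⟨.inr ⟨u, hu, h⟩, 0⟩, rfl⟩
    have hW'P : W' ≤ P.map A := by
      rw [← hsp, Submodule.span_le]
      rintro _ ⟨⟨i, l⟩, rfl⟩
      induction l using Fin.lastCases with
      | last =>
        exact ⟨f i, Submodule.subset_span ⟨⟨.inl i, Fin.last _⟩, Fin.snoc_last (α := fun _ => V) _ _⟩, hfA i⟩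
      | cast l =>
        exact ⟨e ⟨i, l.succ⟩, Submodule.subset_span ⟨⟨.inl i, l.succ.castSucc⟩,
          Fin.snoc_castSucc (α := fun _ => V) _ _ _⟩, hsucc i l⟩
    obtain ⟨p, hp, hpA⟩ := hW'P ⟨v, hv, rfl⟩
    have hpW : p ∈ W := (Submodule.span_le.2 (Set.range_subset_iff.2 he'W)) hp
    have : v - p ∈ K := ⟨sub_mem hv hpW, by simp [LinearMap.mem_ker, hpA]⟩
    have := add_mem (hK' this) hp
    rwa [sub_add_cancel] at this
  refine ⟨ι ⊕ extra, inferInstance, n', e', ?_, hspan', ?_, ?_, ?_⟩
  · rw [linearIndependent_iff_card_eq_finrank_span, Set.finrank, hspan']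
    have h1 := LinearMap.finrank_range_add_finrank_ker (A.domRestrict W)
    have h2 : LinearMap.range (A.domRestrict W) = W' := by
      rw [hW']; ext x; simp [Submodule.mem_map]
    have h3 : Module.finrank k (LinearMap.ker (A.domRestrict W)) = Module.finrank k K := by
      rw [LinearMap.ker_domRestrict, hK, ← Submodule.map_comap_subtype, Submodule.finrank_map_subtype_eq]
    rw [h2, h3] at h1
    have h4 : Module.finrank k W' = ∑ i, (n i + 1) := by
      rw [← hsp, finrank_span_eq_card hli, Fintype.card_sigma]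
      simp
    haveI := hbfin.fintype
    have h5 : Module.finrank k K = Fintype.card ι + Fintype.card extra := by
      rw [← hbspan, finrank_span_set_eq_card hbli, ← Set.ncard_eq_toFinset_card', ← Set.ncard_sdiff_add_ncard_of_subset hbsub hbfin,
        Set.ncard_range_of_injective hbotli.injective, Nat.card_eq_fintype_card, add_comm]
      congr 1
      rw [← Nat.card_coe_set_eq, Nat.card_eq_fintype_card]
    rw [Fintype.card_sigma]
    simp only [Fintype.card_fin]
    rw [Fintype.sum_sum_type]
    simp only [n', Sum.elim_inl, Sum.elim_inr]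
    simp only [Finset.sum_add_distrib, Finset.sum_const, Finset.card_univ, smul_eq_mul, mul_one, mul_zero, zero_add] at h4 h5 ⊢
    omega
  · rintro (i | v) l
    · induction l using Fin.lastCases with
      | last =>
        show ∃ μ, Fin.snoc (α := fun _ => V) (fun l => e ⟨i, l⟩) (f i) (Fin.last _) ∈ 𝒱 μ
        erw [Fin.snoc_last]; exact hfhom i
      | cast l =>
        show ∃ μ, Fin.snoc (α := fun _ => V) (fun l => e ⟨i, l⟩) (f i) (Fin.castSucc l) ∈ 𝒱 μ
        erw [Fin.snoc_castSucc]; exact hhomE i l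
    · exact (hbS v.2.1).2
  · rintro (i | v)
    · show A (Fin.snoc (α := fun _ => V) (fun l => e ⟨i, l⟩) (f i) (Fin.castSucc 0)) = 0
      rw [Fin.snoc_castSucc]; exact hbot i
    · exact (hbS v.2.1).1.2
  · rintro (i | v) l
    · show A (Fin.snoc (α := fun _ => V) (fun l => e ⟨i, l⟩) (f i) l.succ) =
        Fin.snoc (α := fun _ => V) (fun l => e ⟨i, l⟩) (f i) l.castSucc
      erw [Fin.snoc_castSucc]
      induction l using Fin.lastCases with
      | last => erw [Fin.succ_last, Fin.snoc_last]; exact hfA i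
      | cast l => erw [Fin.succ_castSucc, Fin.snoc_castSucc]; exact hsucc i l
    · exact l.elim0

/-- Let k be a field, Λ an additive commutative group, V a finite-dimensional k-vector space which is
the internal direct sum of subspaces V_μ indexed by Λ (a representation of a torus with character
group Λ), and A a nilpotent endomorphism of V mapping each V_μ into V_{μ+χ} for a fixed χ (the
infinitesimal generator of an action of the additive group on which the torus acts through the
character χ). Then V has a basis consisting of homogeneous vectors e_{i,l}, 0 ≤ l ≤ n_i, with A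
e_{i,0} = 0 and A e_{i,l+1} = e_{i,l}: a weight basis bringing A into Jordan normal form. (The
source states this, over an algebraically closed field of characteristic zero, as a decomposition of
every representation of the semidirect product of the additive group with a torus into twists of
symmetric powers of the standard two-dimensional representation by characters; the first line of its
proof reduces that to the present statement, which is what is proved, and which holds over any
field.) -/
theorem result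
    (k : Type u) [Field k] (Λ : Type v) [AddCommGroup Λ] [DecidableEq Λ]
    (V : Type w) [AddCommGroup V] [Module k V] [FiniteDimensional k V]
    (𝒱 : Λ → Submodule k V) (h𝒱 : DirectSum.IsInternal 𝒱)
    (A : Module.End k V) (hA : IsNilpotent A) (χ : Λ)
    (hhom : ∀ (μ : Λ) (v : V), v ∈ 𝒱 μ → A v ∈ 𝒱 (μ + χ)) :
    ∃ (ι : Type w) (_ : Finite ι) (n : ι → ℕ) (b : Module.Basis (Σ i : ι, Fin (n i + 1)) k V),
      (∀ (i : ι) (l : Fin (n i + 1)), ∃ μ : Λ, b ⟨i, l⟩ ∈ 𝒱 μ) ∧
      (∀ i : ι, A (b ⟨i, 0⟩) = 0) ∧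
      ∀ (i : ι) (l : Fin (n i)), A (b ⟨i, l.succ⟩) = b ⟨i, l.castSucc⟩ := by
  classical
  letI := h𝒱.chooseDecomposition
  obtain ⟨ι, hι, n, e, hli, hsp, h1, h2, h3⟩ := core 𝒱 A hA χ hhom ⊤ (fun _ _ _ => trivial) (fun _ _ => trivial)
  refine ⟨ι, hι, n, Module.Basis.mk hli hsp.ge, ?_, ?_, ?_⟩
  · intro i l; rw [Module.Basis.mk_apply]; exact h1 i l
  · intro i; rw [Module.Basis.mk_apply]; exact h2 i
  · intro i l; rw [Module.Basis.mk_apply, Module.Basis.mk_apply]; exact h3 i l

end Groth.Agent.S18983
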