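import Groth.Statements.S18987
import Groth.Agent.HopfUnip.Infinitesimal

set_option autoImplicit false
universe u
open TensorProduct
open HopfRep

namespace Groth.Agent.S18987

/-- In Hopf-algebra form, over an algebraically closed field k of characteristic zero, let A be a
finitely generated commutative Hopf algebra which is unipotent in the fixed-vector sense (the
coordinate ring of a unipotent group U), coacting multiplicatively on a finitely generated
commutative k-algebra R (an action of U on the affine scheme Spec R). Then an element f of R is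
invariant if and only if, for every ε-derivation ξ : A → k (every element of the Lie algebra of U),
applying ξ to the A-factor of the coaction of f gives zero (the infinitesimal action of ξ kills f). -/
theorem result
    (k : Type u) [Field k] [IsAlgClosed k] [CharZero k]
    (A : Type u) [CommRing A] [HopfAlgebra k A] [Algebra.FiniteType k A] (hU : HopfRep.IsUnipotent k A)
    (R : Type u) [CommRing R] [Algebra k R] [Algebra.FiniteType k R]
    [HopfRep.Comod k A R] [GLin.IsCoactAlg k A R] (f : R) :
    f ∈ GLin.invariants k A R ↔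
      ∀ ξ : LieHopf.Lie k A,
        LinearMap.lTensor R (ξ.toLinearMap.restrictScalars k) (HopfRep.Comod.coact (k := k) (A := A) f) = 0 := by
  have hfix : f ∈ GLin.invariants k A R ↔ HopfRep.Comod.coact (k := k) (A := A) f = f ⊗ₜ[k] (1 : A) := Iff.rfl
  rw [hfix]
  constructor
  · intro h ξ
    rw [h, LinearMap.lTensor_tmul, show ξ.toLinearMap.restrictScalars k 1 = 0 from ξ.map_one_eq_zero, TensorProduct.tmul_zero]
  · intro h
    have hT : ∀ ξ : LieHopf.Lie k A, Groth.Agent.Comod.actL (A := A) (LieHopf.dlin ξ) f = 0 := fun ξ =>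
      Groth.Agent.HopfUnip.flip_mk_K_injective ((Groth.Agent.HopfUnip.lTensor_lie ξ _).symm.trans ((h ξ).trans (map_zero _).symm))
    let X : Module.Dual k R →ₗ[k] A :=
      { toFun := fun ψ => Groth.Agent.Comod.slL ψ (HopfRep.Comod.coact (k := k) (A := A) f - f ⊗ₜ[k] (1 : A))
        map_add' := fun ψ θ => by simp [Groth.Agent.Comod.slL, LinearMap.rTensor_add]
        map_smul' := fun c ψ => by simp [Groth.Agent.Comod.slL, LinearMap.rTensor_smul] }
    have hX : LinearMap.range X = ⊥ := by
      refine Groth.Agent.HopfUnip.eq_bot_of_stable hU ?_ ?_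
      · rintro _ ⟨ψ, rfl⟩
        show Coalgebra.counit (R := k) (Groth.Agent.Comod.slL ψ _) = 0
        rw [map_sub, map_sub, ← Groth.Agent.Comod.coeffMap_apply, Groth.Agent.Comod.counit_coeffMap,
          Groth.Agent.Comod.slL_tmul, map_smul, Bialgebra.counit_one, smul_eq_mul, mul_one, sub_self]
      · rintro ξ _ ⟨ψ, rfl⟩
        refine ⟨ψ ∘ₗ Groth.Agent.Comod.actL (A := A) (LieHopf.dlin ξ), ?_⟩
        show Groth.Agent.Comod.slL _ _ = Groth.Agent.HopfUnip.vfield ξ (Groth.Agent.Comod.slL ψ _)
        rw [map_sub, map_sub, map_sub, Groth.Agent.HopfUnip.vfield_apply, Groth.Agent.HopfUnip.slL_comul_coeff,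
          Groth.Agent.Comod.slL_tmul, Groth.Agent.Comod.slL_tmul, LinearMap.comp_apply, hT, map_zero, zero_smul,
          Groth.Agent.HopfUnip.vfield_apply, map_smul, map_smul, Bialgebra.comul_one, Algebra.TensorProduct.one_def,
          Groth.Agent.Comod.slL_tmul, LieHopf.dlin_one, zero_smul, smul_zero]
    rw [← sub_eq_zero]
    exact Groth.Agent.Comod.eq_zero_of_slL_eq_zero fun ψ => (Submodule.eq_bot_iff _).1 hX _ ⟨ψ, rfl⟩

end Groth.Agent.S18987
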