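import Groth.Statements.S18988
import Groth.Agent.HopfUnip.Infinitesimal

set_option autoImplicit false
universe u
open TensorProduct
open HopfRep

namespace Groth.Agent.S18988

/-- In Hopf-algebra form, over an algebraically closed field k of characteristic zero, let A be a
finitely generated commutative Hopf algebra which is unipotent in the fixed-vector sense (the
coordinate ring of a unipotent group U), coacting multiplicatively on a finitely generated
commutative k-algebra R. Then a k-subspace V of R is a subcomodule (is invariant under U) if and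
only if it is stable under the infinitesimal action of every ε-derivation ξ : A → k: for every v in
V, applying ξ to the A-factor of the coaction of v gives an element of the image of V ⊗ k in R ⊗ k. -/
theorem result
    (k : Type u) [Field k] [IsAlgClosed k] [CharZero k]
    (A : Type u) [CommRing A] [HopfAlgebra k A] [Algebra.FiniteType k A] (hU : HopfRep.IsUnipotent k A)
    (R : Type u) [CommRing R] [Algebra k R] [Algebra.FiniteType k R]
    [HopfRep.Comod k A R] [GLin.IsCoactAlg k A R] (V : Submodule k R) :
    HopfRep.IsSubcomod (k := k) (A := A) V ↔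
      ∀ (ξ : LieHopf.Lie k A) (v : R), v ∈ V →
        LinearMap.lTensor R (ξ.toLinearMap.restrictScalars k) (HopfRep.Comod.coact (k := k) (A := A) v) ∈
          LinearMap.range (LinearMap.rTensor (LieHopf.K k A) V.subtype) := by
  constructor
  · intro hV ξ v hv
    rw [Groth.Agent.HopfUnip.lTensor_lie]
    exact ⟨(⟨_, Groth.Agent.Comod.IsSubcomod.actL_mem hV (LieHopf.dlin ξ) hv⟩ : V) ⊗ₜ[k] (1 : LieHopf.K k A), rfl⟩
  · intro h
    have hT : ∀ (ξ : LieHopf.Lie k A), ∀ v ∈ V, Groth.Agent.Comod.actL (A := A) (LieHopf.dlin ξ) v ∈ V := by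
      intro ξ v hv
      have h1 := h ξ v hv
      rw [Groth.Agent.HopfUnip.lTensor_lie] at h1
      obtain ⟨y, hy⟩ := h1
      let ι : LieHopf.K k A →ₗ[k] k :=
        { toFun := fun c => (c : k), map_add' := fun _ _ => rfl, map_smul' := fun _ _ => rfl }
      have h2 := congrArg (Groth.Agent.Comod.slR ι) hy
      rw [Groth.Agent.Comod.slR_rTensor, LinearMap.flip_apply, TensorProduct.mk_apply, Groth.Agent.Comod.slR_tmul] at h2
      have h3 := h2.trans (one_smul k _)
      show Groth.Agent.Comod.slR (LieHopf.dlin ξ) _ ∈ V
      rw [← h3]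
      exact Submodule.coe_mem _
    intro v hv
    refine Groth.Agent.Comod.mem_range_rTensor_of_slR_mem fun φ => ?_
    let X : (V.dualAnnihilator) →ₗ[k] A :=
      { toFun := fun ψ => Groth.Agent.Comod.slL (ψ : Module.Dual k R) (HopfRep.Comod.coact (k := k) (A := A) v)
        map_add' := fun ψ θ => by simp [Groth.Agent.Comod.slL, LinearMap.rTensor_add]
        map_smul' := fun c ψ => by simp [Groth.Agent.Comod.slL, LinearMap.rTensor_smul] }
    have hX : LinearMap.range X = ⊥ := by
      refine Groth.Agent.HopfUnip.eq_bot_of_stable hU ?_ ?_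
      · rintro _ ⟨ψ, rfl⟩
        show Coalgebra.counit (R := k) (Groth.Agent.Comod.coeffMap (C := A) (ψ : Module.Dual k R) v) = 0
        rw [Groth.Agent.Comod.counit_coeffMap]
        exact (Submodule.mem_dualAnnihilator _).1 ψ.2 v hv
      · rintro ξ _ ⟨ψ, rfl⟩
        refine ⟨⟨(ψ : Module.Dual k R) ∘ₗ Groth.Agent.Comod.actL (A := A) (LieHopf.dlin ξ),
          (Submodule.mem_dualAnnihilator _).2 fun w hw => (Submodule.mem_dualAnnihilator _).1 ψ.2 _ (hT ξ w hw)⟩, ?_⟩
        exact (Groth.Agent.HopfUnip.slL_comul_coeff _ _ _).symm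
    rw [← Subspace.dualAnnihilator_dualCoannihilator_eq (W := V), Submodule.mem_dualCoannihilator]
    intro ψ hψ
    have h0 := (Submodule.eq_bot_iff _).1 hX _ ⟨⟨ψ, hψ⟩, rfl⟩
    have e : ∀ z : R ⊗[k] A, ψ (Groth.Agent.Comod.slR φ z) = φ (Groth.Agent.Comod.slL ψ z) := by
      intro z
      induction z with
      | zero => simp
      | tmul a b => simp [mul_comm]
      | add y z hy hz => simp only [map_add, hy, hz]
    rw [e]
    exact (congrArg φ h0).trans (map_zero φ)

end Groth.Agent.S18988
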