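import Groth.Statements.S18989
import Groth.Agent.HopfUnip.Infinitesimal

set_option autoImplicit false
universe u
open TensorProduct
open HopfRep

namespace Groth.Agent.S18989

/-- An action of a unipotent group on an affine scheme is determined by its infinitesimal action. Over
an algebraically closed field k of characteristic zero, let A be a finitely generated commutative
Hopf algebra, unipotent in the fixed-vector sense, coacting multiplicatively on two finitely
generated commutative k-algebras R₁ and R₂, and let e : R₁ → R₂ be an algebra isomorphism which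
intertwines the two infinitesimal actions: for every ε-derivation ξ : A → k and every f in R₁,
applying ξ to the A-factor of the coaction of e(f) equals e ⊗ id applied to the same for f. Then e
intertwines the coactions: the coaction of e(f) is (e ⊗ id) of the coaction of f for all f. (With R₁
= R₂ and e the identity this says that two actions with the same infinitesimal action coincide,
which is the printed assertion.) -/
theorem result
    (k : Type u) [Field k] [IsAlgClosed k] [CharZero k]
    (A : Type u) [CommRing A] [HopfAlgebra k A] [Algebra.FiniteType k A] (hU : HopfRep.IsUnipotent k A)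
    (R₁ R₂ : Type u) [CommRing R₁] [Algebra k R₁] [Algebra.FiniteType k R₁]
    [HopfRep.Comod k A R₁] [GLin.IsCoactAlg k A R₁]
    [CommRing R₂] [Algebra k R₂] [Algebra.FiniteType k R₂]
    [HopfRep.Comod k A R₂] [GLin.IsCoactAlg k A R₂]
    (e : R₁ ≃ₐ[k] R₂)
    (h : ∀ (ξ : LieHopf.Lie k A) (f : R₁),
      LinearMap.lTensor R₂ (ξ.toLinearMap.restrictScalars k) (HopfRep.Comod.coact (k := k) (A := A) (e f)) =
        LinearMap.rTensor (LieHopf.K k A) e.toLinearMap
          (LinearMap.lTensor R₁ (ξ.toLinearMap.restrictScalars k) (HopfRep.Comod.coact (k := k) (A := A) f))) :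
    ∀ f : R₁, HopfRep.Comod.coact (k := k) (A := A) (e f) =
      LinearMap.rTensor A e.toLinearMap (HopfRep.Comod.coact (k := k) (A := A) f) := by
  intro f
  have hT : ∀ (ξ : LieHopf.Lie k A) (g : R₁), Groth.Agent.Comod.actL (A := A) (LieHopf.dlin ξ) (e g) =
      e (Groth.Agent.Comod.actL (A := A) (LieHopf.dlin ξ) g) := by
    intro ξ g
    have h1 := h ξ g
    rw [Groth.Agent.HopfUnip.lTensor_lie, Groth.Agent.HopfUnip.lTensor_lie] at h1
    exact Groth.Agent.HopfUnip.flip_mk_K_injective h1
  let z := HopfRep.Comod.coact (k := k) (A := A) (e f) -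
    LinearMap.rTensor A e.toLinearMap (HopfRep.Comod.coact (k := k) (A := A) f)
  let X : Module.Dual k R₂ →ₗ[k] A :=
    { toFun := fun ψ => Groth.Agent.Comod.slL ψ z
      map_add' := fun ψ θ => by simp [Groth.Agent.Comod.slL, LinearMap.rTensor_add]
      map_smul' := fun c ψ => by simp [Groth.Agent.Comod.slL, LinearMap.rTensor_smul] }
  have hX : LinearMap.range X = ⊥ := by
    refine Groth.Agent.HopfUnip.eq_bot_of_stable hU ?_ ?_
    · rintro _ ⟨ψ, rfl⟩
      show Coalgebra.counit (R := k) (Groth.Agent.Comod.slL ψ z) = 0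
      rw [map_sub, map_sub, Groth.Agent.Comod.slL_rTensor, ← Groth.Agent.Comod.coeffMap_apply,
        ← Groth.Agent.Comod.coeffMap_apply, Groth.Agent.Comod.counit_coeffMap, Groth.Agent.Comod.counit_coeffMap]
      exact sub_self _
    · rintro ξ _ ⟨ψ, rfl⟩
      refine ⟨ψ ∘ₗ Groth.Agent.Comod.actL (A := A) (LieHopf.dlin ξ), ?_⟩
      show Groth.Agent.Comod.slL _ z = Groth.Agent.HopfUnip.vfield ξ (Groth.Agent.Comod.slL ψ z)
      rw [map_sub, map_sub, map_sub, Groth.Agent.HopfUnip.vfield_apply, Groth.Agent.HopfUnip.vfield_apply,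
        Groth.Agent.HopfUnip.slL_comul_coeff, Groth.Agent.Comod.slL_rTensor, Groth.Agent.Comod.slL_rTensor,
        Groth.Agent.HopfUnip.slL_comul_coeff]
      rw [show (ψ ∘ₗ Groth.Agent.Comod.actL (A := A) (LieHopf.dlin ξ)) ∘ₗ e.toLinearMap =
        (ψ ∘ₗ e.toLinearMap) ∘ₗ Groth.Agent.Comod.actL (A := A) (LieHopf.dlin ξ) from LinearMap.ext fun g => congrArg ψ (hT ξ g)]
  rw [← sub_eq_zero]
  exact Groth.Agent.Comod.eq_zero_of_slL_eq_zero fun ψ => (Submodule.eq_bot_iff _).1 hX _ ⟨ψ, rfl⟩

end Groth.Agent.S18989
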