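import Groth.Statements.S1899
import Groth.Agent.DCohBridge.PushStalk
import Groth.Agent.LeadInv.Basic
import Mathlib.RingTheory.Length

set_option autoImplicit false
universe u
open CategoryTheory AlgebraicGeometry
open Cyc

namespace Groth.Agent.S1899

/-- For a closed immersion i : Z → X with Z of δ-dimension ≤ k, [Z]_k = [O_Z]_k, i.e. the multiplicities
computed from lengths of the local rings O_{Z,z} agree with those computed from the stalks of i_*O_Z
as O_X-modules. A pair (X, δ) with Cyc.IsSetup plays the role of a scheme locally of finite type
over a fixed base with a dimension function (X locally Noetherian with universally catenary local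
rings, δ a dimension function), and Cyc.DeltaCompat records that the dimension function upstairs is
the induced one. -/
theorem result (X Z : Scheme.{u}) (δ : X → ℤ) (hX : Cyc.IsSetup X δ) (i : Z ⟶ X) [IsClosedImmersion i] (k : ℤ) (hdim : ∀ z : Z, δ (i z) ≤ k) : Cyc.subschemeFun δ k i = Cyc.sheafFun δ k ((Coh.push i).obj (Coh.structureModule Z)) := by
  funext x
  simp only [Cyc.subschemeFun, Cyc.sheafFun]
  split_ifs with hk
  · by_cases hx : x ∈ Set.range i
    · obtain ⟨z, rfl⟩ := hx
      have hs : {w : Z | i w = i z} = {z} :=
        Set.ext fun w => ⟨fun h => i.isClosedEmbedding.injective h, fun h => congrArg _ h⟩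
      rw [hs, finsum_mem_singleton]
      congr 2
      let φ := Groth.Agent.DCohBridge.stφ i z
      letI : Algebra (X.presheaf.stalk (i z)) (Z.presheaf.stalk z) := φ.toAlgebra
      let M := (DerSch.stalkFunctor Z z).obj (Coh.structureModule Z)
      letI : Module (X.presheaf.stalk (i z)) M := Module.compHom M φ
      haveI : IsScalarTower (X.presheaf.stalk (i z)) (Z.presheaf.stalk z) M := ⟨fun a b m => by
        show (φ a * b) • m = φ a • b • m
        rw [mul_smul]⟩
      let e : ((Coh.push i).obj (Coh.structureModule Z)).presheaf.stalk (i z) ≃ₗ[X.presheaf.stalk (i z)] M :=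
        LinearEquiv.ofBijective (Groth.Agent.DCohBridge.pushStalkHom i z (Coh.structureModule Z)).hom
          (Groth.Agent.DCohBridge.bijective_pushStalkHom i z (Coh.structureModule Z))
      rw [e.length_eq, (Groth.Agent.LeadInv.stalkUnit (X := Z) z).length_eq]
      exact (Module.length_eq_of_surjective (S := X.presheaf.stalk (i z)) (R := Z.presheaf.stalk z) (M := M)
        (i.stalkMap_surjective z)).symm
    · have hs : {w : Z | i w = x} = ∅ := Set.eq_empty_iff_forall_notMem.2 fun w hw => hx ⟨w, hw⟩
      rw [hs, finsum_mem_empty]
      have h0 := ModuleCat.subsingleton_of_isZero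
        (Groth.Agent.DCohBridge.isZero_stalk_push_of_notMem i hx (Coh.structureModule Z))
      haveI : Subsingleton (((Coh.push i).obj (Coh.structureModule Z)).presheaf.stalk x) := h0
      rw [Module.length_eq_zero]
      rfl
  · rfl


end Groth.Agent.S1899
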