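import Groth.Statements.S18994
import Mathlib

set_option autoImplicit false
universe u
open TernForm

namespace Groth.Agent.S18994

/-- Let R be a commutative ring, j ∈ {0, 1, 2}, q a homogeneous polynomial of degree 2 in R[X_0, X_1,
X_2] whose coefficient of X_j^2 is a unit, and n a natural number. Then the family consisting of the
monomials of degree n not divisible by X_j^2 (exponent of X_j at most 1) together with the products
q · m, m running over the monomials of degree n − 2 (indexed by exponents m with |m| + 2 = n), is
linearly independent over R and spans exactly the homogeneous polynomials of degree n; in particular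
it is a basis of that module and the two parts are disjoint. (The published lemma is stated over a
field with the coefficient nonzero, the special case of a field R here; the version over a ring with
the coefficient invertible is what its change-of-basis argument gives — ordering monomials by
decreasing exponent of X_j makes the matrix triangular with diagonal entries 1 and that coefficient
— and is the form used to trivialise the bundle of degree-n forms modulo multiples of q over the
locus where the coefficient is invertible. The published lemma also allows an arbitrary monomial of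
degree 2 in place of X_j^2; for the mixed monomial X_1X_2, the form q = X_1^2 + X_1X_2 + X_2^2 and n
= 3 give the linear relation q·X_1 − q·X_2 = X_1^3 − X_2^3 among members of the family, so the claim
fails there and is stated here for the square of a variable.) -/
theorem result
    (R : Type u) [CommRing R] (j : Fin 3) (q : MvPolynomial (Fin 3) R)
    (hq : q.IsHomogeneous 2) (hqj : IsUnit (q.coeff (Finsupp.single j 2))) (n : ℕ) :
    LinearIndependent R (Sum.elim (fun m : {m : Fin 3 →₀ ℕ // m.degree = n ∧ m j < 2} => MvPolynomial.monomial m.1 (1 : R)) (fun m : {m : Fin 3 →₀ ℕ // m.degree + 2 = n} => q * MvPolynomial.monomial m.1 (1 : R))) ∧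
      Submodule.span R (Set.range (Sum.elim (fun m : {m : Fin 3 →₀ ℕ // m.degree = n ∧ m j < 2} => MvPolynomial.monomial m.1 (1 : R)) (fun m : {m : Fin 3 →₀ ℕ // m.degree + 2 = n} => q * MvPolynomial.monomial m.1 (1 : R)))) = MvPolynomial.homogeneousSubmodule (Fin 3) R n := by
  classical
  set e2 : Fin 3 →₀ ℕ := Finsupp.single j 2 with he2
  have hdeg : ∀ d ∈ q.support, d.degree = 2 := by
    intro d hd
    have := hq (MvPolynomial.mem_support_iff.1 hd)
    rwa [Finsupp.degree_eq_weight_one]
  have hjle : ∀ d ∈ q.support, d j ≤ 2 ∧ (d j = 2 → d = e2) := by
    intro d hd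
    have h := hdeg d hd
    rw [Finsupp.degree_eq_sum, Fin.sum_univ_three] at h
    refine ⟨by fin_cases j <;> simp <;> omega, fun h2 => ?_⟩
    ext i
    fin_cases j <;> fin_cases i <;> simp [he2] at * <;> omega
  set v := Sum.elim (fun m : {m : Fin 3 →₀ ℕ // m.degree = n ∧ m j < 2} => MvPolynomial.monomial m.1 (1 : R)) (fun m : {m : Fin 3 →₀ ℕ // m.degree + 2 = n} => q * MvPolynomial.monomial m.1 (1 : R)) with hv
  constructor
  · rw [linearIndependent_iff]
    intro l hl
    have hB : ∀ m, l (Sum.inr m) = 0 := by
      by_contra hne
      push Not at hne
      obtain ⟨m₀, hm₀⟩ := hne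
      obtain ⟨i, hi, hmax⟩ := Finset.exists_max_image (l.support.filter fun i => i.isRight)
        (fun i => i.elim (fun m => m.1 j) (fun m => m.1 j)) ⟨Sum.inr m₀, by simp [hm₀]⟩
      rw [Finset.mem_filter] at hi
      obtain ⟨hi1, hi2⟩ := hi
      obtain ⟨m, rfl⟩ := Sum.isRight_iff.1 hi2
      have h := congrArg (MvPolynomial.coeff (m.1 + e2)) hl
      rw [Finsupp.linearCombination_apply, Finsupp.sum, MvPolynomial.coeff_sum, MvPolynomial.coeff_zero, Finset.sum_eq_single (Sum.inr m)] at h
      · rw [MvPolynomial.coeff_smul, hv, Sum.elim_inr, add_comm m.1 e2, MvPolynomial.coeff_mul_monomial, mul_one, smul_eq_mul, hqj.mul_left_eq_zero] at h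
        exact Finsupp.mem_support_iff.1 hi1 h
      · intro i' hi' hne
        rw [MvPolynomial.coeff_smul]
        rcases i' with a | b
        · rw [hv, Sum.elim_inl, MvPolynomial.coeff_monomial, if_neg, smul_zero]
          intro h
          have := DFunLike.congr_fun h j
          simp [he2] at this
          have := a.2.2
          omega
        · rw [hv, Sum.elim_inr, MvPolynomial.coeff_mul_monomial', mul_one]
          split_ifs with hle
          · suffices hz : q.coeff (m.1 + e2 - b.1) = 0 by rw [hz, smul_zero]
            by_contra hc
            obtain ⟨h2, heq⟩ := hjle _ (MvPolynomial.mem_support_iff.2 hc)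
            have hbm : b.1 j ≤ m.1 j := hmax (Sum.inr b) (Finset.mem_filter.2 ⟨hi', rfl⟩)
            have h3 : (m.1 + e2 - b.1 : Fin 3 →₀ ℕ) j = m.1 j + 2 - b.1 j := by simp [he2]
            have hd2 := heq (by omega)
            have : b.1 = m.1 := by
              have h4 := tsub_add_cancel_of_le hle
              rw [hd2, add_comm] at h4
              exact add_right_cancel h4
            exact hne (congrArg Sum.inr (Subtype.ext this))
          · rw [smul_zero]
      · intro h
        exact absurd hi1 h
    ext i
    rcases i with a | b
    · have h := congrArg (MvPolynomial.coeff a.1) hl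
      rw [Finsupp.linearCombination_apply, Finsupp.sum, MvPolynomial.coeff_sum, MvPolynomial.coeff_zero, Finset.sum_eq_single (Sum.inl a)] at h
      · simpa [hv] using h
      · intro i' _ hne
        rcases i' with a' | b
        · rw [MvPolynomial.coeff_smul, hv, Sum.elim_inl, MvPolynomial.coeff_monomial, if_neg, smul_zero]
          exact fun h => hne (congrArg Sum.inl (Subtype.ext h))
        · rw [hB b, zero_smul, MvPolynomial.coeff_zero]
      · intro h
        rw [Finsupp.notMem_support_iff.1 h, zero_smul, MvPolynomial.coeff_zero]
    · exact hB b
  · apply le_antisymm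
    · rw [Submodule.span_le]
      rintro _ ⟨a | b, rfl⟩
      · exact MvPolynomial.isHomogeneous_monomial _ a.2.1
      · have := hq.mul (MvPolynomial.isHomogeneous_monomial (1 : R) (rfl : b.1.degree = b.1.degree))
        rw [show 2 + b.1.degree = n by have := b.2; omega] at this
        exact this
    · have key : ∀ (e : ℕ) (m : Fin 3 →₀ ℕ), m j = e → m.degree = n → MvPolynomial.monomial m (1 : R) ∈ Submodule.span R (Set.range v) := by
        intro e
        induction e using Nat.strong_induction_on with
        | _ e ih =>
          intro m hmj hmn
          by_cases he : m j < 2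
          · exact Submodule.subset_span ⟨Sum.inl ⟨m, hmn, he⟩, rfl⟩
          · have hle : e2 ≤ m := Finsupp.single_le_iff.2 (by omega)
            set m' := m - e2 with hm'
            have hmm : m' + e2 = m := tsub_add_cancel_of_le hle
            have hd : m'.degree + 2 = n := by
              rw [← hmn, ← hmm, map_add, he2, Finsupp.degree_single]
            have hsum : q * MvPolynomial.monomial m' (1 : R) = ∑ d ∈ q.support, q.coeff d • MvPolynomial.monomial (m' + d) (1 : R) := by
              conv_lhs => rw [q.as_sum, Finset.sum_mul]
              refine Finset.sum_congr rfl fun d _ => ?_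
              rw [MvPolynomial.monomial_mul, mul_one, MvPolynomial.smul_monomial, smul_eq_mul, mul_one, add_comm]
            have hrest : ∀ d ∈ q.support.erase e2, q.coeff d • MvPolynomial.monomial (m' + d) (1 : R) ∈ Submodule.span R (Set.range v) := by
              intro d hd'
              obtain ⟨hne, hds⟩ := Finset.mem_erase.1 hd'
              obtain ⟨h2, heq⟩ := hjle d hds
              have hlt : d j < 2 := lt_of_le_of_ne h2 fun h => hne (heq h)
              refine Submodule.smul_mem _ _ (ih ((m' + d) j) ?_ _ rfl ?_)
              · rw [← hmj, ← hmm]; simp [he2]; omega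
              · rw [map_add, hdeg d hds]; exact hd
            by_cases htriv : q.coeff e2 = 0
            · haveI : Subsingleton R := subsingleton_of_zero_eq_one (isUnit_zero_iff.1 (htriv ▸ hqj))
              rw [Subsingleton.elim (MvPolynomial.monomial m (1 : R)) 0]
              exact Submodule.zero_mem _
            · rw [← Finset.add_sum_erase _ _ (MvPolynomial.mem_support_iff.2 htriv), hmm, eq_comm, ← eq_sub_iff_add_eq] at hsum
              have hmem : q.coeff e2 • MvPolynomial.monomial m (1 : R) ∈ Submodule.span R (Set.range v) := by
                rw [hsum]
                exact Submodule.sub_mem _ (Submodule.subset_span ⟨Sum.inr ⟨m', hd⟩, rfl⟩) (Submodule.sum_mem _ hrest)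
              exact (Submodule.smul_mem_iff_of_isUnit _ hqj).1 hmem
      intro f hf
      rw [f.as_sum]
      refine Submodule.sum_mem _ fun d hd => ?_
      rw [← mul_one (MvPolynomial.coeff d f), ← smul_eq_mul, ← MvPolynomial.smul_monomial]
      refine Submodule.smul_mem _ _ (key _ d rfl ?_)
      rw [Finsupp.degree_eq_weight_one]
      exact hf (MvPolynomial.mem_support_iff.1 hd)

end Groth.Agent.S18994
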