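import Groth.Statements.S19004
import Mathlib

set_option autoImplicit false
open GIT

namespace Groth.Agent.S19004

/-- For the group PGL(n) acting on the space of n × n matrices the T-quotient is (P^{n−1})^n with Chow
ring ℚ[t_1,…,t_n]/(t_1^n,…,t_n^n), the class c_top(g/t) is the product of all roots t_i − t_j (i ≠
j), and the computation in the proof shows that this product equals n!·t_1^{n−1}⋯t_n^{n−1} in that
ring. Stated here as the equivalent coefficient identity in ℤ[t_1,…,t_n]: the coefficient of
t_1^{n−1}⋯t_n^{n−1} in the product over ordered pairs i ≠ j of (t_i − t_j) is n!. -/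
theorem result (n : ℕ) :
    MvPolynomial.coeff (Finsupp.equivFunOnFinite.symm (fun _ : Fin n => n - 1))
      (∏ i : Fin n, ∏ j ∈ Finset.univ.erase i, (MvPolynomial.X i - MvPolynomial.X j : MvPolynomial (Fin n) ℤ)) = (n.factorial : ℤ) := by
  classical
  set v : Fin n → MvPolynomial (Fin n) ℤ := MvPolynomial.X with hv
  set M : Matrix (Fin n) (Fin n) (MvPolynomial (Fin n) ℤ) := Matrix.projVandermonde (fun _ => 1) v with hM
  set V : Matrix (Fin n) (Fin n) (MvPolynomial (Fin n) ℤ) := Matrix.vandermonde v with hV
  have split : (∏ i : Fin n, ∏ j ∈ Finset.univ.erase i, (v i - v j)) = M.det * V.det := by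
    rw [hM, hV, Matrix.det_projVandermonde, Matrix.det_vandermonde]
    simp only [one_mul, mul_one]
    have h1 : ∀ i : Fin n, ∏ j ∈ Finset.univ.erase i, (v i - v j) =
        (∏ j ∈ Finset.Ioi i, (v i - v j)) * ∏ j ∈ Finset.Iio i, (v i - v j) := by
      intro i
      rw [← Finset.prod_union (Finset.disjoint_left.2 fun a ha hb =>
        lt_asymm (Finset.mem_Ioi.1 ha) (Finset.mem_Iio.1 hb))]
      refine Finset.prod_congr ?_ fun _ _ => rfl
      ext a
      simp [lt_or_lt_iff_ne, eq_comm]
    rw [Finset.prod_congr rfl fun i _ => h1 i, Finset.prod_mul_distrib]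
    congr 1
    exact Finset.prod_comm' (by intro a b; simp)
  rw [split, ← Matrix.det_transpose M, ← Matrix.det_transpose V, Matrix.det_apply' M.transpose,
    Matrix.det_apply' V.transpose, Finset.sum_mul_sum]
  simp only [MvPolynomial.coeff_sum]
  have hterm : ∀ σ τ : Equiv.Perm (Fin n),
      MvPolynomial.coeff (Finsupp.equivFunOnFinite.symm (fun _ : Fin n => n - 1))
        ((((Equiv.Perm.sign σ : ℤ) : MvPolynomial (Fin n) ℤ) * ∏ i, M.transpose (σ i) i) *
          (((Equiv.Perm.sign τ : ℤ) : MvPolynomial (Fin n) ℤ) * ∏ i, V.transpose (τ i) i)) =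
        if σ = τ then 1 else 0 := by
    intro σ τ
    have e : (((Equiv.Perm.sign σ : ℤ) : MvPolynomial (Fin n) ℤ) * ∏ i, M.transpose (σ i) i) *
          (((Equiv.Perm.sign τ : ℤ) : MvPolynomial (Fin n) ℤ) * ∏ i, V.transpose (τ i) i) =
        MvPolynomial.monomial (Finsupp.equivFunOnFinite.symm
            (fun i : Fin n => ((σ i).rev : ℕ) + (τ i : ℕ)))
          ((Equiv.Perm.sign σ : ℤ) * (Equiv.Perm.sign τ : ℤ)) := by
      rw [mul_mul_mul_comm, ← Finset.prod_mul_distrib, ← Int.cast_mul,
        MvPolynomial.monomial_eq, Finsupp.prod_fintype _ _ (fun i => pow_zero _)]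
      congr 1
      refine Finset.prod_congr rfl fun i _ => ?_
      simp [hM, hV, hv, Matrix.projVandermonde, Matrix.rectVandermonde, Matrix.vandermonde, pow_add]
    rw [e, MvPolynomial.coeff_monomial]
    by_cases h : σ = τ
    · subst h
      rw [if_pos rfl, if_pos ?_, Int.units_coe_mul_self]
      ext i
      simp only [Finsupp.coe_equivFunOnFinite_symm, Fin.val_rev]
      omega
    · rw [if_neg h, if_neg]
      intro hc
      refine h (Equiv.ext fun i => Fin.ext ?_)
      have := DFunLike.congr_fun hc i
      simp only [Finsupp.coe_equivFunOnFinite_symm, Fin.val_rev] at this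
      have := (σ i).isLt
      omega
  simp only [hterm, Finset.sum_ite_eq, Finset.mem_univ, if_true, Finset.sum_const, Finset.card_univ,
    Fintype.card_perm, Fintype.card_fin, nsmul_eq_mul, mul_one]

end Groth.Agent.S19004
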