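import Groth.Statements.S19005


set_option autoImplicit false
open scoped TensorProduct
open K2Cent

namespace Groth.Agent.S19005

/-- For abelian groups X and M and ε in M with 2ε = 0 (in the source X is the character group of a split
torus and ε is the class of −1 among the units), the map x ↦ (x ⊗ x, −(x ⊗ ε)) into (X ⊗ X) × (X ⊗
M) is quadratic over ℤ, i.e. it underlies an integer quadratic map with exactly these values. -/
theorem result (X M : Type*) [AddCommGroup X]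
    [AddCommGroup M] (ε : M) (hε : 2 • ε = 0) :
    ∃ R : QuadraticMap ℤ X (TensorProduct ℤ X X × TensorProduct ℤ X M),
      ∀ x : X, R x = (x ⊗ₜ[ℤ] x, -(x ⊗ₜ[ℤ] ε)) := by
  refine ⟨⟨fun x => (x ⊗ₜ[ℤ] x, -(x ⊗ₜ[ℤ] ε)), fun a x => ?_, ?_⟩, fun x => rfl⟩
  · have h2 : (2 : ℤ) • (x ⊗ₜ[ℤ] ε) = 0 := by
      rw [← TensorProduct.tmul_smul, two_smul, ← two_nsmul, hε, TensorProduct.tmul_zero]
    obtain ⟨k, hk⟩ : (2 : ℤ) ∣ a * a - a := by
      have := (Int.even_mul_succ_self (a - 1)).two_dvd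
      rwa [show (a - 1) * (a - 1 + 1) = a * a - a by ring] at this
    refine Prod.ext ?_ ?_
    · show (a • x) ⊗ₜ[ℤ] (a • x) = (a * a) • (x ⊗ₜ[ℤ] x)
      rw [← TensorProduct.smul_tmul', TensorProduct.tmul_smul, smul_smul]
    · show -((a • x) ⊗ₜ[ℤ] ε) = (a * a) • -(x ⊗ₜ[ℤ] ε)
      rw [← TensorProduct.smul_tmul', smul_neg, neg_inj]
      have : (a * a) • (x ⊗ₜ[ℤ] ε) = a • (x ⊗ₜ[ℤ] ε) + k • ((2 : ℤ) • (x ⊗ₜ[ℤ] ε)) := by
        rw [smul_smul, ← add_smul]; congr 1; linarith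
      rw [this, h2, smul_zero, add_zero]
  · refine ⟨((TensorProduct.mk ℤ X X) + (TensorProduct.mk ℤ X X).flip).compr₂ (LinearMap.inl ℤ _ _), fun x y => ?_⟩
    refine Prod.ext ?_ ?_
    · simp [TensorProduct.add_tmul, TensorProduct.tmul_add]; abel
    · simp [TensorProduct.add_tmul]; abel

end Groth.Agent.S19005
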