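import Groth.Statements.S19006
import Groth.Agent.RootSys.Basic

set_option autoImplicit false
universe u v w x
open RootD

namespace Groth.Agent.S19006

/-- For a root pairing over an integral domain of characteristic zero, a quadratic form Q on the
coweight module N with polar form B, and a root α with coroot α^∨, the form Q is invariant under the
reflection attached to α acting on N if and only if B(y, α^∨) = ⟨α, y⟩ Q(α^∨) for all y in N. (The
source states this for integer-valued forms on the cocharacter lattice of a split reductive group;
here the form takes values in the base ring of the pairing.) -/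
theorem result {ι : Type u} {R : Type v} {M : Type w} {N : Type x} [CommRing R] [IsDomain R] [CharZero R]
    [AddCommGroup M] [Module R M] [AddCommGroup N] [Module R N] (P : RootPairing ι R M N)
    (Q : QuadraticMap R N R) (j : ι) :
    (∀ y : N, Q (P.coreflection j y) = Q y) ↔
      ∀ y : N, QuadraticMap.polar Q y (P.coroot j) = P.root' j y * Q (P.coroot j) := by
  have hexp : ∀ y : N, Q (P.coreflection j y) = Q y +
      P.root' j y * (P.root' j y * Q (P.coroot j) - QuadraticMap.polar Q y (P.coroot j)) := by
    intro y
    rw [RootPairing.coreflection_apply, sub_eq_add_neg, ← neg_smul, QuadraticMap.map_add Q,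
      QuadraticMap.map_smul, QuadraticMap.polar_smul_right]
    simp only [smul_eq_mul]
    ring
  constructor
  · intro h y
    have h2 : ∀ y : N, P.root' j y = 0 ∨
        QuadraticMap.polar Q y (P.coroot j) = P.root' j y * Q (P.coroot j) := by
      intro y
      have := hexp y
      rw [h y, left_eq_add, mul_eq_zero, sub_eq_zero] at this
      exact this.imp id Eq.symm
    by_cases hy : P.root' j y = 0
    · have hz : P.root' j (y + P.coroot j) ≠ 0 := by
        rw [map_add, hy, zero_add, RootPairing.root'_coroot_eq_pairing, RootPairing.pairing_same]
        exact two_ne_zero
      have h3 := (h2 (y + P.coroot j)).resolve_left hz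
      rw [QuadraticMap.polar_add_left, QuadraticMap.polar_self, map_add, hy,
        RootPairing.root'_coroot_eq_pairing, RootPairing.pairing_same, nsmul_eq_mul, Nat.cast_ofNat] at h3
      rw [hy, zero_mul]
      linear_combination h3
    · exact (h2 y).resolve_left hy
  · intro h y
    rw [hexp y, h y, sub_self, mul_zero, add_zero]

end Groth.Agent.S19006
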