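import Groth.Statements.S19007
import Groth.Agent.RootSys.Base

set_option autoImplicit false
universe u v w x
open RootD

namespace Groth.Agent.S19007

/-- Let P be a finite reduced crystallographic root pairing over an integral domain of characteristic
zero, b a base of P (a system of simple roots) and Q a quadratic form on the coweight module with
polar form B. Then Q is invariant under all root reflections (equivalently under the Weyl group) on
the span of the coroots if and only if for all pairs of distinct simple roots α_i ≠ α_j one has
B(α_i^∨, α_j^∨) = ⟨α_j, α_i^∨⟩ Q(α_j^∨). (In the source the form is integer-valued on the lattice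
spanned by the coroots and the condition says that the bilinear form lies in the kernel of the last
map of a three-term complex built from the Bruhat cells of codimension at most two; here the form
takes values in the base ring.) -/
theorem result {ι : Type u} {R : Type v} {M : Type w} {N : Type x} [CommRing R] [IsDomain R] [CharZero R]
    [AddCommGroup M] [Module R M] [AddCommGroup N] [Module R N] (P : RootPairing ι R M N)
    [Finite ι] [P.IsCrystallographic] [P.IsReduced] (b : P.Base) (Q : QuadraticMap R N R) :
    (∀ i : ι, ∀ y ∈ Submodule.span R (Set.range P.coroot), Q (P.coreflection i y) = Q y) ↔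
      ∀ i ∈ b.support, ∀ j ∈ b.support, i ≠ j →
        QuadraticMap.polar Q (P.coroot i) (P.coroot j) = P.pairing j i * Q (P.coroot j) := by
  classical
  have tf := RootSys.isTorsionFree_coweight P
  have hexp : ∀ (i : ι) (y : N), Q (P.coreflection i y) = Q y +
      P.root' i y * (P.root' i y * Q (P.coroot i) - QuadraticMap.polar Q y (P.coroot i)) := by
    intro i y
    rw [RootPairing.coreflection_apply, sub_eq_add_neg, ← neg_smul, QuadraticMap.map_add Q,
      QuadraticMap.map_smul, QuadraticMap.polar_smul_right]
    simp only [smul_eq_mul]
    ring
  set S := Submodule.span R (Set.range P.coroot)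
  have hcS : ∀ i, P.coroot i ∈ S := fun i => Submodule.subset_span (Set.mem_range_self i)
  constructor
  · intro hQ i _ j _ _
    have h : ∀ z ∈ S, P.root' j z *
        (P.root' j z * Q (P.coroot j) - QuadraticMap.polar Q z (P.coroot j)) = 0 := fun z hz => by
      have := hexp j z
      rw [hQ j z hz, left_eq_add] at this
      exact this
    rw [← RootPairing.root'_coroot_eq_pairing]
    by_cases hy : P.root' j (P.coroot i) = 0
    · have hz : P.root' j (P.coroot i + P.coroot j) = 2 := by
        rw [map_add, hy, zero_add, RootPairing.root'_coroot_eq_pairing, RootPairing.pairing_same]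
      have h2 := h (P.coroot i + P.coroot j) (add_mem (hcS i) (hcS j))
      rw [hz, mul_eq_zero] at h2
      have h3 := h2.resolve_left two_ne_zero
      rw [QuadraticMap.polar_add_left, QuadraticMap.polar_self, nsmul_eq_mul, Nat.cast_ofNat] at h3
      rw [hy, zero_mul]
      linear_combination -h3
    · have h3 := (mul_eq_zero.mp (h _ (hcS i))).resolve_left hy
      linear_combination -h3
  · intro h
    have hsimple : ∀ j ∈ b.support, ∀ y ∈ S, Q (P.coreflection j y) = Q y := by
      intro j hj y hy
      have key : ∀ z ∈ Submodule.span R (P.coroot '' (b.support : Set ι)),
          QuadraticMap.polar Q z (P.coroot j) = P.root' j z * Q (P.coroot j) := by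
        intro z hz
        induction hz using Submodule.span_induction with
        | mem x hx =>
          obtain ⟨i, hi, rfl⟩ := hx
          rw [RootPairing.root'_coroot_eq_pairing]
          by_cases hij : i = j
          · subst hij
            rw [QuadraticMap.polar_self, RootPairing.pairing_same, nsmul_eq_mul, Nat.cast_ofNat]
          · exact h i hi j hj hij
        | zero => rw [QuadraticMap.polar_zero_left, map_zero, zero_mul]
        | add a c _ _ ha hc => rw [QuadraticMap.polar_add_left, ha, hc, map_add, add_mul]
        | smul a x _ hx => rw [QuadraticMap.polar_smul_left, hx, map_smul, smul_eq_mul, smul_eq_mul, mul_assoc]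
      have hy' : y ∈ Submodule.span R (P.coroot '' (b.support : Set ι)) := by
        rw [b.span_coroot_support]; exact hy
      rw [hexp j y, key y hy', sub_self, mul_zero, add_zero]
    intro i y hy
    have hmem : RootPairing.Equiv.reflection P.flip i ∈
        Subgroup.closure ((fun l : ι => RootPairing.Equiv.reflection P.flip l) ''
          (b.flip.support : Set ι)) := by
      rw [RootSys.closure_simple_eq_weylGroup (RootSys.base_isSimpleSys b.flip)]
      exact P.flip.reflection_mem_weylGroup i
    obtain ⟨l, hl, hlw⟩ := RootSys.mem_closure_iff_word.mp hmem
    have key : ∀ l : List ι, (∀ a ∈ l, a ∈ b.support) →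
        RootSys.wordProd P.flip l • y ∈ S ∧ Q (RootSys.wordProd P.flip l • y) = Q y := by
      intro l
      induction l with
      | nil => exact fun _ => by simp [RootSys.wordProd, hy]
      | cons a l ih =>
        intro hl
        obtain ⟨h1, h2⟩ := ih fun x hx => hl x (List.mem_cons_of_mem a hx)
        have e : RootSys.wordProd P.flip (a :: l) • y =
            P.coreflection a (RootSys.wordProd P.flip l • y) := by
          rw [RootSys.wordProd_cons, mul_smul, RootPairing.Equiv.reflection_smul]
          rfl
        rw [e]
        refine ⟨?_, by rw [hsimple a (hl a List.mem_cons_self) _ h1, h2]⟩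
        rw [RootPairing.coreflection_apply]
        exact sub_mem h1 (Submodule.smul_mem _ _ (hcS a))
    have h3 := (key l hl).2
    rw [hlw, RootPairing.Equiv.reflection_smul] at h3
    exact h3

end Groth.Agent.S19007
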