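import Groth.Statements.S19009
import Groth.Agent.RootSys.Basic

set_option autoImplicit false
universe u v w x
open RootD

namespace Groth.Agent.S19009

/-- Let P be a root pairing over an integral domain R of characteristic zero (roots α acting on the
coweight module N through reflections y ↦ y − ⟨α, y⟩ α^∨), D ⊆ N a submodule containing every coroot
and such that every element of D has a positive integer multiple in the span of the coroots (the
derived part), and Y₀ a complement of D in N. Let Q_d be a quadratic form on N whose restriction to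
D is invariant under all root reflections. Then there is a quadratic form on N, invariant under all
root reflections and agreeing with Q_d on D, if and only if there is an R-bilinear form Φ on N with
Φ(y₀, α^∨) = ⟨α, y₀⟩ Q_d(α^∨) for all y₀ in Y₀ and all roots α. (In the source R = ℤ, N = Y₀ ⊕ Y_der
is the cocharacter lattice of a split reductive group, and the condition is phrased as integrality
on Y₀ × Y_der of the pairing y₀, y ↦ B(q(y₀), y) deduced from the polar form B of Q_d; that pairing
is characterised by the displayed values on coroots, only the values of Φ on Y₀ × D matter, and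
forms take values in R here.) -/
theorem result {ι : Type u} {R : Type v} {M : Type w} {N : Type x} [CommRing R] [IsDomain R] [CharZero R]
    [AddCommGroup M] [Module R M] [AddCommGroup N] [Module R N] (P : RootPairing ι R M N)
    (D Y₀ : Submodule R N) (hD : ∀ i : ι, P.coroot i ∈ D)
    (hDsat : ∀ y ∈ D, ∃ n : ℕ, 0 < n ∧ n • y ∈ Submodule.span R (Set.range P.coroot))
    (hc : IsCompl Y₀ D)
    (Qd : QuadraticMap R N R) (hQd : ∀ i : ι, ∀ y ∈ D, Qd (P.coreflection i y) = Qd y) :
    (∃ Q : QuadraticMap R N R, (∀ (i : ι) (y : N), Q (P.coreflection i y) = Q y) ∧ ∀ y ∈ D, Q y = Qd y) ↔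
      ∃ Φ : N →ₗ[R] N →ₗ[R] R, ∀ y₀ ∈ Y₀, ∀ i : ι,
        Φ y₀ (P.coroot i) = P.root' i y₀ * Qd (P.coroot i) := by
  have := RootSys.isTorsionFree_coweight P
  have hexp : ∀ (Q : QuadraticMap R N R) (i : ι) (y : N), Q (P.coreflection i y) = Q y +
      P.root' i y * (P.root' i y * Q (P.coroot i) - QuadraticMap.polar Q y (P.coroot i)) := by
    intro Q i y
    rw [RootPairing.coreflection_apply, sub_eq_add_neg, ← neg_smul, QuadraticMap.map_add Q,
      QuadraticMap.map_smul, QuadraticMap.polar_smul_right]
    simp only [smul_eq_mul]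
    ring
  have hpolar : ∀ (Q : QuadraticMap R N R) (S : Submodule R N) (i : ι), P.coroot i ∈ S →
      (∀ y ∈ S, Q (P.coreflection i y) = Q y) →
      ∀ y ∈ S, QuadraticMap.polar Q y (P.coroot i) = P.root' i y * Q (P.coroot i) := by
    intro Q S i hiS hQ y hyS
    have h : ∀ z ∈ S, P.root' i z *
        (P.root' i z * Q (P.coroot i) - QuadraticMap.polar Q z (P.coroot i)) = 0 := fun z hz => by
      have := hexp Q i z
      rw [hQ z hz, left_eq_add] at this
      exact this
    by_cases hy : P.root' i y = 0
    · have hz : P.root' i (y + P.coroot i) = 2 := by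
        rw [map_add, hy, zero_add, RootPairing.root'_coroot_eq_pairing, RootPairing.pairing_same]
      have h2 := h (y + P.coroot i) (add_mem hyS hiS)
      rw [hz, mul_eq_zero] at h2
      have h3 := h2.resolve_left two_ne_zero
      rw [QuadraticMap.polar_add_left, QuadraticMap.polar_self, nsmul_eq_mul, Nat.cast_ofNat] at h3
      rw [hy, zero_mul]
      linear_combination -h3
    · have h3 := (mul_eq_zero.mp (h y hyS)).resolve_left hy
      linear_combination -h3
  constructor
  · rintro ⟨Q, hQ, hQD⟩
    refine ⟨Q.polarBilin, fun y₀ _ i => ?_⟩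
    rw [QuadraticMap.polarBilin_apply_apply,
      hpolar Q ⊤ i trivial (fun y _ => hQ i y) y₀ trivial, hQD _ (hD i)]
  · rintro ⟨Φ, hΦ⟩
    let p0 : N →ₗ[R] N := Y₀.subtype ∘ₗ Y₀.projectionOnto D hc
    let pD : N →ₗ[R] N := D.subtype ∘ₗ D.projectionOnto Y₀ hc.symm
    let Q : QuadraticMap R N R := Qd.comp pD + LinearMap.BilinMap.toQuadraticMap (Φ.compl₁₂ p0 pD)
    have hQval : ∀ y, Q y = Qd (pD y) + Φ (p0 y) (pD y) := fun y => rfl
    have hp0D : ∀ y ∈ D, p0 y = 0 := fun y hy => by
      simp [p0, Submodule.projectionOnto_apply_right hc ⟨y, hy⟩]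
    have hpDD : ∀ y ∈ D, pD y = y := fun y hy => by
      simp [pD, Submodule.projectionOnto_apply_left hc.symm ⟨y, hy⟩]
    refine ⟨Q, fun i y => ?_, fun y hy => ?_⟩
    · obtain ⟨y₀, hy₀, d, hd, rfl⟩ := Submodule.mem_sup.mp
        (show y ∈ Y₀ ⊔ D by rw [hc.sup_eq_top]; trivial)
      have hp0Y : p0 y₀ = y₀ := by simp [p0, Submodule.projectionOnto_apply_left hc ⟨y₀, hy₀⟩]
      have hpDY : pD y₀ = 0 := by
        simp [pD, Submodule.projectionOnto_apply_right hc.symm ⟨y₀, hy₀⟩]
      set c := P.root' i (y₀ + d) with hc'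
      rw [hQval, hQval, RootPairing.coreflection_apply]
      simp only [map_sub, map_add, map_smul, hp0Y, hpDY, hp0D d hd, hpDD d hd,
        hp0D _ (hD i), hpDD _ (hD i), smul_zero, add_zero, zero_add, sub_zero, hΦ y₀ hy₀ i]
      rw [sub_eq_add_neg d, ← neg_smul, QuadraticMap.map_add Qd, QuadraticMap.map_smul,
        QuadraticMap.polar_smul_right, hpolar Qd D i (hD i) (hQd i) d hd]
      simp only [smul_eq_mul]
      rw [← map_add]
      simp only [← hc']
      have : c = P.root' i y₀ + P.root' i d := by rw [hc', map_add]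
      linear_combination (c * Qd (P.coroot i)) * this
    · rw [hQval, hp0D y hy, hpDD y hy, map_zero, LinearMap.zero_apply, add_zero]

end Groth.Agent.S19009
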