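import Groth.Statements.S19010
import Groth.Agent.RootSys.Basic

set_option autoImplicit false
universe u v w x
open RootD

namespace Groth.Agent.S19010

/-- Let P be a root pairing over an integral domain R of characteristic zero (roots α acting on the
coweight module N through reflections y ↦ y − ⟨α, y⟩ α^∨), D ⊆ N a submodule containing every coroot
and such that every element of D has a positive integer multiple in the span of the coroots (the
derived part), and Y₀ a complement of D in N. Let Q' be a quadratic form on N invariant under all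
root reflections. Then restriction to Y₀ is a bijection from the set of quadratic forms on N that
are invariant under all root reflections and agree with Q' on D onto the set of all quadratic forms
on Y₀. (In the source R = ℤ and N = Y₀ ⊕ Y_der is the cocharacter lattice of a split reductive
group; forms take values in R here.) -/
theorem result {ι : Type u} {R : Type v} {M : Type w} {N : Type x} [CommRing R] [IsDomain R] [CharZero R]
    [AddCommGroup M] [Module R M] [AddCommGroup N] [Module R N] (P : RootPairing ι R M N)
    (D Y₀ : Submodule R N) (hD : ∀ i : ι, P.coroot i ∈ D)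
    (hDsat : ∀ y ∈ D, ∃ n : ℕ, 0 < n ∧ n • y ∈ Submodule.span R (Set.range P.coroot))
    (hc : IsCompl Y₀ D)
    (Q' : QuadraticMap R N R) (hQ' : ∀ (i : ι) (y : N), Q' (P.coreflection i y) = Q' y) :
    Set.BijOn (fun Q : QuadraticMap R N R => Q.comp Y₀.subtype)
      {Q | (∀ (i : ι) (y : N), Q (P.coreflection i y) = Q y) ∧ ∀ y ∈ D, Q y = Q' y} Set.univ := by
  have hinv : ∀ Q : QuadraticMap R N R, (∀ (i : ι) (y : N), Q (P.coreflection i y) = Q y) ↔
      ∀ (i : ι) (y : N), P.root' i y *
        (P.root' i y * Q (P.coroot i) - QuadraticMap.polar Q y (P.coroot i)) = 0 := by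
    intro Q
    refine forall_congr' fun i => forall_congr' fun y => ?_
    rw [RootPairing.coreflection_apply, sub_eq_add_neg, ← neg_smul, QuadraticMap.map_add Q,
      QuadraticMap.map_smul, QuadraticMap.polar_smul_right]
    simp only [smul_eq_mul]
    constructor <;> intro h <;> linear_combination h
  have hpolar : ∀ Q : QuadraticMap R N R, (∀ (i : ι) (y : N), Q (P.coreflection i y) = Q y) →
      ∀ (i : ι) (y : N), QuadraticMap.polar Q y (P.coroot i) = P.root' i y * Q (P.coroot i) := by
    intro Q hQ i y
    have h := (hinv Q).mp hQ i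
    by_cases hy : P.root' i y = 0
    · have hz : P.root' i (y + P.coroot i) = 2 := by
        rw [map_add, hy, zero_add, RootPairing.root'_coroot_eq_pairing, RootPairing.pairing_same]
      have h2 := h (y + P.coroot i)
      rw [hz, mul_eq_zero] at h2
      have h3 := h2.resolve_left two_ne_zero
      rw [QuadraticMap.polar_add_left, QuadraticMap.polar_self, nsmul_eq_mul, Nat.cast_ofNat] at h3
      rw [hy, zero_mul]
      linear_combination -h3
    · have h3 := (mul_eq_zero.mp (h y)).resolve_left hy
      linear_combination -h3
  have := RootSys.isTorsionFree_coweight P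
  refine ⟨fun Q _ => Set.mem_univ _, ?_, ?_⟩
  · rintro Q ⟨hQ, hQD⟩ Q₂ ⟨hQ₂, hQ₂D⟩ he
    ext y
    obtain ⟨y₀, hy₀, d, hd, rfl⟩ := Submodule.mem_sup.mp
      (show y ∈ Y₀ ⊔ D by rw [hc.sup_eq_top]; trivial)
    have hspan : ∀ z ∈ Submodule.span R (Set.range P.coroot),
        QuadraticMap.polar Q y₀ z = QuadraticMap.polar Q₂ y₀ z := by
      intro z hz
      induction hz using Submodule.span_induction with
      | mem x hx =>
        obtain ⟨i, rfl⟩ := hx
        rw [hpolar Q hQ, hpolar Q₂ hQ₂, hQD _ (hD i), hQ₂D _ (hD i)]
      | zero => simp only [QuadraticMap.polar_zero_right]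
      | add a b _ _ ha hb => rw [QuadraticMap.polar_add_right, QuadraticMap.polar_add_right, ha, hb]
      | smul a x _ hx => rw [QuadraticMap.polar_smul_right, QuadraticMap.polar_smul_right, hx]
    obtain ⟨n, hn, hnd⟩ := hDsat d hd
    have h1 := hspan _ hnd
    rw [← Nat.cast_smul_eq_nsmul R, QuadraticMap.polar_smul_right, QuadraticMap.polar_smul_right,
      smul_eq_mul, smul_eq_mul] at h1
    rw [QuadraticMap.map_add Q, QuadraticMap.map_add Q₂,
      mul_left_cancel₀ (by exact_mod_cast hn.ne') h1, hQD d hd, hQ₂D d hd]
    exact congrArg (· + Q' d + _) (DFunLike.congr_fun he ⟨y₀, hy₀⟩)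
  · intro q _
    refine ⟨Q' + (q - Q'.comp Y₀.subtype).comp (Y₀.projectionOnto D hc),
      ⟨fun i y => ?_, fun y hy => ?_⟩, ?_⟩
    · have : Y₀.projectionOnto D hc (P.coreflection i y) = Y₀.projectionOnto D hc y := by
        rw [RootPairing.coreflection_apply, map_sub, map_smul,
          Submodule.projectionOnto_apply_right hc ⟨P.coroot i, hD i⟩, smul_zero, sub_zero]
      simp only [QuadraticMap.add_apply, QuadraticMap.comp_apply, hQ', this]
    · simp only [QuadraticMap.add_apply, QuadraticMap.comp_apply,
        Submodule.projectionOnto_apply_right hc ⟨y, hy⟩, QuadraticMap.map_zero, add_zero]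
    · ext x
      simp [Submodule.projectionOnto_apply_left]

end Groth.Agent.S19010
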