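import Groth.Statements.S19012
import Groth.Agent.RootSys.Basic

set_option autoImplicit false
universe u v w x
open RootD

namespace Groth.Agent.S19012

/-- Let P be a finite reduced crystallographic root pairing over a field of characteristic zero which is
irreducible, and b a base. A quadratic form on the coweight module that is invariant under all root
reflections and vanishes on some simple coroot is zero; in other words an invariant form is
determined by its value on a single simple coroot. (The source proves, component by component of the
Dynkin diagram, that an invariant integer-valued form on the coroot lattice with prescribed value on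
the first simple coroot of each component is unique; here the system is irreducible, the coroots
span the coweight module, and forms take values in the base field.) -/
theorem result {ι : Type u} {K : Type v} {M : Type w} {N : Type x} [Field K] [CharZero K]
    [AddCommGroup M] [Module K M] [AddCommGroup N] [Module K N] (P : RootPairing ι K M N)
    [Finite ι] [P.IsCrystallographic] [P.IsReduced] [P.IsIrreducible] (b : P.Base)
    (Q : QuadraticMap K N K) (hQ : ∀ (i : ι) (y : N), Q (P.coreflection i y) = Q y)
    (i₀ : ι) (hi₀ : i₀ ∈ b.support) (h0 : Q (P.coroot i₀) = 0) : Q = 0 := by
  have hnt : NeZero (2 : K) := ⟨two_ne_zero⟩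
  have hzero : ∀ (g : P.flip.weylGroup), Q (g • P.coroot i₀) = 0 := by
    rintro ⟨g, hg⟩
    change Q (g • P.coroot i₀) = 0
    rw [← h0]
    generalize P.coroot i₀ = y
    induction hg using RootPairing.weylGroup.induction generalizing y with
    | mem i =>
      rw [RootPairing.Equiv.reflection_smul]
      exact hQ i y
    | one => rw [one_smul]
    | mul a b _ _ iha ihb => rw [mul_smul, iha, ihb]
  have hpol : ∀ (g : P.flip.weylGroup) (y : N), QuadraticMap.polar Q y (g • P.coroot i₀) = 0 := by
    intro g y
    set j := P.flip.weylGroupToPerm g i₀
    have hgj : g • P.coroot i₀ = P.coroot j := P.flip.weylGroup_apply_root g i₀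
    have hQj : Q (P.coroot j) = 0 := by rw [← hgj]; exact hzero g
    have hexp := hQ j y
    rw [hgj]
    have hexp' : ∀ z : N, P.root' j z * QuadraticMap.polar Q z (P.coroot j) = 0 := by
      intro z
      have h := hQ j z
      rw [RootPairing.coreflection_apply, sub_eq_add_neg, ← neg_smul, QuadraticMap.map_add Q,
        QuadraticMap.map_smul, QuadraticMap.polar_smul_right, hQj] at h
      simp only [smul_eq_mul] at h
      linear_combination -h
    by_cases hy : P.root' j y = 0
    · have hz : P.root' j (y + P.coroot j) ≠ 0 := by
        rw [map_add, hy, zero_add, RootPairing.root'_coroot_eq_pairing, RootPairing.pairing_same]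
        exact two_ne_zero
      have h3 := (mul_eq_zero.mp (hexp' (y + P.coroot j))).resolve_left hz
      rw [QuadraticMap.polar_add_left, QuadraticMap.polar_self, hQj, smul_zero, add_zero] at h3
      exact h3
    · exact (mul_eq_zero.mp (hexp' y)).resolve_left hy
  ext y
  have htop := P.flip.span_orbit_eq_top i₀
  have hmem : y ∈ Submodule.span K (MulAction.orbit P.flip.weylGroup (P.flip.root i₀)) := by
    rw [htop]; trivial
  have hall : ∀ z ∈ Submodule.span K (MulAction.orbit P.flip.weylGroup (P.flip.root i₀)),
      QuadraticMap.polar Q y z = 0 := by
    intro z hz
    induction hz using Submodule.span_induction with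
    | mem x hx => obtain ⟨g, rfl⟩ := hx; exact hpol g y
    | zero => exact QuadraticMap.polar_zero_right Q y
    | add a b _ _ ha hb => rw [QuadraticMap.polar_add_right, ha, hb, add_zero]
    | smul a x _ hx => rw [QuadraticMap.polar_smul_right, hx, smul_zero]
  have h2 := hall y hmem
  rw [QuadraticMap.polar_self, nsmul_eq_mul, Nat.cast_ofNat] at h2
  simpa using h2

end Groth.Agent.S19012
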