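import Groth.Statements.S19013
import Groth.Agent.MilKLead.Coresidue

set_option autoImplicit false
universe u v
open MilnorK

namespace Groth.Agent.S19013

/-- Let A ⊆ B be discrete valuation rings, the inclusion being a local homomorphism, with fraction
fields E ⊆ F compatibly, with the induced homomorphism of residue fields κ(A) → κ(B), and with
ramification index e, the natural number such that the maximal ideal of A generates the e-th power
of the maximal ideal of B. Let ∂_A : K_{n+1}(E) → K_n(κ(A)) and ∂_B : K_{n+1}(F) → K_n(κ(B)) be the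
residue maps (tame symbols) on Milnor K-groups. Then for every x in K_{n+1}(E) one has ∂_B(x_F) = e
· (∂_A x)_{κ(B)}, where the subscripts denote the change-of-fields maps along E → F and κ(A) → κ(B).
(The published statement concerns discrete valuations of geometric type on fields finitely generated
over a base field; it is stated here for an arbitrary pair of discrete valuation rings, which is all
the printed computation uses.) -/
theorem result
    (A B : Type u) [CommRing A] [IsDomain A] [IsDiscreteValuationRing A]
    [CommRing B] [IsDomain B] [IsDiscreteValuationRing B] [Algebra A B] [IsLocalHom (algebraMap A B)]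
    (E F : Type v) [Field E] [Field F] [Algebra A E] [IsFractionRing A E] [Algebra B F] [IsFractionRing B F]
    [Algebra E F] [Algebra A F] [IsScalarTower A E F] [IsScalarTower A B F]
    (e : ℕ) (he : Ideal.map (algebraMap A B) (IsLocalRing.maximalIdeal A) = IsLocalRing.maximalIdeal B ^ e)
    (n : ℕ) (dA : MilK.K E (n + 1) →+ MilK.K (IsLocalRing.ResidueField A) n) (hdA : MilK.IsTameSymbol A E n dA)
    (dB : MilK.K F (n + 1) →+ MilK.K (IsLocalRing.ResidueField B) n) (hdB : MilK.IsTameSymbol B F n dB)
    (x : MilK.K E (n + 1)) :
    dB (MilK.map (algebraMap E F) (n + 1) x) =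
      e • MilK.map (IsLocalRing.ResidueField.map (algebraMap A B)) n (dA x) := by
  classical
  obtain ⟨ϖ, hϖ⟩ := IsDiscreteValuationRing.exists_irreducible A
  obtain ⟨π, hπ⟩ := IsDiscreteValuationRing.exists_irreducible B
  have hne : algebraMap A B ϖ ≠ 0 := fun h => by
    have h1 : algebraMap A F ϖ = 0 := by rw [IsScalarTower.algebraMap_apply A B F, h, map_zero]
    rw [IsScalarTower.algebraMap_apply A E F, map_eq_zero] at h1
    exact MilKLead.unitFrac_ne A E ϖ hϖ.ne_zero h1
  obtain ⟨e', w, hw⟩ := IsDiscreteValuationRing.eq_unit_mul_pow_irreducible hne hπ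
  have hee : (e' : ℤ) = e := by
    rw [IsDiscreteValuationRing.irreducible_iff_uniformizer ϖ |>.1 hϖ,
      IsDiscreteValuationRing.irreducible_iff_uniformizer π |>.1 hπ, Ideal.map_span,
      Set.image_singleton, Ideal.span_singleton_pow, hw,
      Ideal.span_singleton_eq_span_singleton] at he
    obtain ⟨v, hv⟩ := he
    refine (MilKLead.zpow_unique B F hπ (e := (e' : ℤ)) (e' := (e : ℤ)) (u := w * v) (u' := 1) ?_).1
    refine Units.ext ?_
    simp [MilK.unitToFrac]
    rw [← map_pow, ← map_pow, ← map_mul, ← hv]
    simp only [map_mul]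
    ring
  rw [MilKLead.IsTameSymbol.eq_tame hdA hϖ, MilKLead.IsTameSymbol.eq_tame hdB hπ]
  let Φ : MilK.K E (n + 1) →+ MilK.K (IsLocalRing.ResidueField B) n :=
    (MilKLead.tame B F hπ n).comp (MilK.map (algebraMap E F) (n + 1)) -
      e • ((MilK.map (IsLocalRing.ResidueField.map (algebraMap A B)) n).comp (MilKLead.tame A E hϖ n))
  suffices hx : x ∈ Φ.ker by
    exact sub_eq_zero.1 hx
  have hu : ∀ u : Aˣ, Units.map (algebraMap E F : E →* F) (MilK.unitToFrac A E u) =
      MilK.unitToFrac B F (Units.map (algebraMap A B : A →* B) u) := fun u => Units.ext (by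
    simp [MilK.unitToFrac, ← IsScalarTower.algebraMap_apply A E F,
      ← IsScalarTower.algebraMap_apply A B F])
  refine MilKLead.mem_of_unif A E hϖ _ (fun u => ?_) (fun u => ?_) x
  · simp only [Φ, AddMonoidHom.mem_ker, AddMonoidHom.sub_apply, AddMonoidHom.smul_apply,
      AddMonoidHom.comp_apply, MilK.map_symbol, hu, MilKLead.tame_units, map_zero, smul_zero,
      sub_self]
  · have hP : Units.map (algebraMap E F : E →* F) (MilK.unitFrac A E ϖ hϖ.ne_zero) =
        MilK.unitFrac B F π hπ.ne_zero ^ (e : ℤ) * MilK.unitToFrac B F w := by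
      rw [← hee, zpow_natCast]
      refine Units.ext ?_
      simp [MilK.unitToFrac, ← IsScalarTower.algebraMap_apply A E F]
      rw [IsScalarTower.algebraMap_apply A B F, hw, map_mul, map_pow, mul_comm]
    have hc : (fun i => Units.map (algebraMap E F : E →* F)
        ((Fin.cons (MilK.unitFrac A E ϖ hϖ.ne_zero) fun l => MilK.unitToFrac A E (u l) :
          Fin (n + 1) → Eˣ) i)) = Fin.cons (MilK.unitFrac B F π hπ.ne_zero ^ (e : ℤ) *
            MilK.unitToFrac B F w) fun l => MilK.unitToFrac B F (Units.map (algebraMap A B : A →* B) (u l)) := by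
      funext i
      induction i using Fin.cases with
      | zero => simp [hP]
      | succ i => simp [hu]
    simp only [Φ, AddMonoidHom.mem_ker, AddMonoidHom.sub_apply, AddMonoidHom.smul_apply,
      AddMonoidHom.comp_apply, MilK.map_symbol, MilKLead.isTameSymbol_tame A E hϖ n ϖ hϖ, hc,
      MilKLead.tame_symbol, sub_eq_zero]
    cases n with
    | zero =>
      simp only [MilKLead.fD, Fin.cons_zero, MilKLead.rv_eq, natCast_zsmul]
      congr 2
      funext i; exact i.elim0
    | succ n =>
      simp only [MilKLead.fD, Fin.cons_zero, MilKLead.rv_eq, natCast_zsmul]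
      rw [MilKLead.fD_units B n _ (fun i => by simp [Fin.tail, MilKLead.rv_unit]), map_zero,
        add_zero]
      congr 1
      simp only [MilKLead.fS]
      congr 1
      funext i
      refine Units.ext ?_
      simp [Fin.tail, MilKLead.rv_unit, MilK.unitResidue]

end Groth.Agent.S19013
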