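import Groth.Statements.S19018
import Mathlib.RingTheory.Kaehler.Basic

set_option autoImplicit false
set_option linter.style.haveILetI false
universe u
open TensorProduct
open SymTen

namespace Groth.Agent.S19018

/-- Suppose k is a field in which 2 ≠ 0 and R is a commutative k-algebra. Write I for the ideal of the
diagonal, i.e. the kernel of multiplication R ⊗_k R → R, and write S for the subalgebra of R ⊗_k R
consisting of elements invariant under interchanging the two tensor factors. Then, viewed as ideals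
of S, the swap-invariant elements of I^4 form precisely the square of the ideal of swap-invariant
elements of I^2. (The source is stated over the complex numbers; the proof needs only that 2 is
invertible.) -/
theorem result
    (k R : Type u) [Field k] [NeZero (2 : k)] [CommRing R] [Algebra k R] :
    Ideal.comap
        (AlgHom.equalizer ((Algebra.TensorProduct.comm k R R : R ⊗[k] R ≃ₐ[k] R ⊗[k] R) : R ⊗[k] R →ₐ[k] R ⊗[k] R)
          (AlgHom.id k (R ⊗[k] R))).val
        (KaehlerDifferential.ideal k R ^ 4) =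
      (Ideal.comap
        (AlgHom.equalizer ((Algebra.TensorProduct.comm k R R : R ⊗[k] R ≃ₐ[k] R ⊗[k] R) : R ⊗[k] R →ₐ[k] R ⊗[k] R)
          (AlgHom.id k (R ⊗[k] R))).val
        (KaehlerDifferential.ideal k R ^ 2)) ^ 2 := by
  let σ : R ⊗[k] R →ₐ[k] R ⊗[k] R :=
    ((Algebra.TensorProduct.comm k R R : R ⊗[k] R ≃ₐ[k] R ⊗[k] R) : R ⊗[k] R →ₐ[k] R ⊗[k] R)
  let I := KaehlerDifferential.ideal k R
  let S := AlgHom.equalizer σ (AlgHom.id k (R ⊗[k] R))
  let J : Ideal S := Ideal.comap S.val (I ^ 2)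
  show Ideal.comap S.val (I ^ 4) = J ^ 2
  refine le_antisymm ?_ ((Ideal.le_comap_pow _ 2).trans_eq (by rw [← pow_mul]))
  let G : Set (R ⊗[k] R) := Set.range fun p : R × R =>
    ((1 : R) ⊗ₜ[k] p.1 - p.1 ⊗ₜ[k] (1 : R)) * ((1 : R) ⊗ₜ[k] p.2 - p.2 ⊗ₜ[k] (1 : R))
  have hI2 : I ^ 2 = Ideal.span G := by
    rw [pow_two, show I = KaehlerDifferential.ideal k R from rfl, ← KaehlerDifferential.span_range_eq_ideal,
      Ideal.span_mul_span']
    congr 1
    ext y
    simp [G, Set.mem_mul]
  have hGσ : ∀ g ∈ G, σ g = g := by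
    rintro _ ⟨⟨a, b⟩, rfl⟩
    simp only [σ, map_mul, map_sub, AlgEquiv.coe_algHom, Algebra.TensorProduct.comm_tmul]
    ring
  have hσσ : ∀ y, σ (σ y) = y := fun y => by
    induction y using TensorProduct.induction_on with
    | zero => simp
    | tmul a b => simp [σ]
    | add a b ha hb => simp [map_add, ha, hb]
  have main : ∀ y ∈ I ^ 4, ∀ t, ∃ z ∈ J ^ 2, (z : R ⊗[k] R) = t * y + σ (t * y) := by
    intro y hy
    rw [show (4 : ℕ) = 2 * 2 from rfl, pow_mul, hI2, pow_two, Ideal.span_mul_span'] at hy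
    induction hy using Submodule.span_induction with
    | mem y hy =>
      obtain ⟨g, hg, h, hh, rfl⟩ := Set.mem_mul.1 hy
      intro t
      let u : S := ⟨(t + σ t) * g, by
        show σ ((t + σ t) * g) = (t + σ t) * g
        rw [map_mul, map_add, hσσ, hGσ g hg, add_comm]⟩
      let v : S := ⟨h, hGσ h hh⟩
      refine ⟨u * v, ?_, ?_⟩
      · rw [pow_two]
        refine Ideal.mul_mem_mul ?_ ?_
        · show (t + σ t) * g ∈ I ^ 2
          exact hI2 ▸ Ideal.mul_mem_left _ _ (Ideal.subset_span hg)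
        · show h ∈ I ^ 2
          exact hI2 ▸ Ideal.subset_span hh
      · show (t + σ t) * g * h = _
        rw [map_mul, map_mul, hGσ g hg, hGσ h hh]
        ring
    | zero => exact fun t => ⟨0, zero_mem _, by simp⟩
    | add a b _ _ ha hb =>
      intro t
      obtain ⟨z, hz, e⟩ := ha t
      obtain ⟨z1, hz1, e1⟩ := hb t
      exact ⟨z + z1, add_mem hz hz1, by rw [mul_add, map_add, AddMemClass.coe_add, e, e1]; ring⟩
    | smul r a _ ha =>
      intro t
      obtain ⟨z, hz, e⟩ := ha (t * r)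
      exact ⟨z, hz, by rw [e, smul_eq_mul, mul_assoc]⟩
  intro x hx
  obtain ⟨z, hz, e⟩ := main x.1 hx 1
  have hxσ : σ x.1 = x.1 := x.2
  rw [one_mul, hxσ] at e
  have h2 : x = algebraMap k S (2 : k)⁻¹ * z := by
    apply Subtype.ext
    show x.1 = algebraMap k (R ⊗[k] R) (2 : k)⁻¹ * z.1
    rw [e, ← two_mul, show (2 : R ⊗[k] R) = algebraMap k _ 2 from (map_ofNat _ 2).symm, ← mul_assoc,
      ← map_mul, inv_mul_cancel₀ (NeZero.ne (2 : k)), map_one, one_mul]
  rw [h2]
  exact Ideal.mul_mem_left _ _ hz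

end Groth.Agent.S19018
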