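import Groth.Statements.S19019
import Mathlib

set_option autoImplicit false
open scoped ComplexOrder
open Toeplitz

namespace Groth.Agent.S19019

open Complex intervalIntegral in
private theorem integral_expI (n : ℤ) :
    (∫ y in (0 : ℝ)..(2 * Real.pi), Complex.exp (Complex.I * (n : ℂ) * (y : ℂ))) =
      if n = 0 then ((2 * Real.pi : ℝ) : ℂ) else 0 := by
  split_ifs with h
  · subst h; simp
  · rw [integral_exp_mul_complex (mul_ne_zero Complex.I_ne_zero (Int.cast_ne_zero.2 h))]
    have : Complex.exp (Complex.I * (n : ℂ) * ((2 * Real.pi : ℝ) : ℂ)) = 1 := by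
      rw [show Complex.I * (n : ℂ) * ((2 * Real.pi : ℝ) : ℂ) = (n : ℂ) * (2 * (Real.pi : ℂ) * Complex.I) by
        push_cast; ring]
      exact Complex.exp_int_mul_two_pi_mul_I n
    rw [this]; simp



/-- Let A be an m × m complex Hermitian Toeplitz matrix, with entries A i j = t (j - i) constant along
diagonals, and let f(y) = Σ_{-m < k < m} t k · exp(i k y) be the trigonometric polynomial attached
to it. If f has positive real part at every real y outside a countable set, then A is positive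
definite (hence nondegenerate). (The source also states the mirror case: f negative off a countable
set gives A negative definite, which is this statement for -A.) -/
theorem result
    (m : ℕ) (t : ℤ → ℂ) (A : Matrix (Fin m) (Fin m) ℂ)
    (hA : ∀ i j : Fin m, A i j = t ((j : ℤ) - (i : ℤ))) (hH : A.IsHermitian)
    (hpos : Set.Countable {y : ℝ | ¬ 0 < (∑ k ∈ Finset.Ioo (-(m : ℤ)) (m : ℤ),
        t k * Complex.exp (Complex.I * (k : ℂ) * (y : ℂ))).re}) :
    A.PosDef := by
  classical
  refine Matrix.PosDef.of_dotProduct_mulVec_pos hH (fun x hx => ?_)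
  let f : ℝ → ℂ := fun y => ∑ k ∈ Finset.Ioo (-(m : ℤ)) (m : ℤ), t k * Complex.exp (Complex.I * (k : ℂ) * (y : ℂ))
  let P : ℝ → ℂ := fun y => ∑ j : Fin m, x j * Complex.exp (Complex.I * ((-(j : ℤ) : ℤ) : ℂ) * (y : ℂ))
  have hfc : Continuous f := by fun_prop
  have hPc : Continuous P := by fun_prop
  have hexp : ∀ (a b : ℤ) (y : ℝ), Complex.exp (Complex.I * (a : ℂ) * (y : ℂ)) * Complex.exp (Complex.I * (b : ℂ) * (y : ℂ)) =
      Complex.exp (Complex.I * ((a + b : ℤ) : ℂ) * (y : ℂ)) := by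
    intro a b y; rw [← Complex.exp_add]; push_cast; ring_nf
  have hconj : ∀ (a : ℤ) (y : ℝ), (starRingEnd ℂ) (Complex.exp (Complex.I * (a : ℂ) * (y : ℂ))) =
      Complex.exp (Complex.I * ((-a : ℤ) : ℂ) * (y : ℂ)) := by
    intro a y
    rw [← Complex.exp_conj]
    congr 1
    simp
  have key : ∀ (g : ℤ → ℂ) (S : Finset ℤ), (∀ i j : Fin m, (j : ℤ) - (i : ℤ) ∈ S) →
      (∫ y in (0 : ℝ)..(2 * Real.pi), (∑ k ∈ S, g k * Complex.exp (Complex.I * (k : ℂ) * (y : ℂ))) *
        ((starRingEnd ℂ) (P y) * P y)) =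
      ((2 * Real.pi : ℝ) : ℂ) * ∑ i : Fin m, ∑ j : Fin m, (starRingEnd ℂ) (x i) * g ((j : ℤ) - (i : ℤ)) * x j := by
    intro g S hS
    have expand : (fun y : ℝ => (∑ k ∈ S, g k * Complex.exp (Complex.I * (k : ℂ) * (y : ℂ))) *
        ((starRingEnd ℂ) (P y) * P y)) = fun y : ℝ => ∑ i : Fin m, ∑ j : Fin m, ∑ k ∈ S,
          (g k * (starRingEnd ℂ) (x i) * x j) * Complex.exp (Complex.I * ((k + (i : ℤ) - (j : ℤ) : ℤ) : ℂ) * (y : ℂ)) := by
      funext y
      simp only [P, map_sum, map_mul, hconj, Finset.mul_sum, Finset.sum_mul]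
      rw [Finset.sum_comm]
      refine Finset.sum_congr rfl fun i _ => Finset.sum_congr rfl fun j _ => Finset.sum_congr rfl fun k _ => ?_
      rw [show (k + (i : ℤ) - (j : ℤ)) = k + ((- -(i : ℤ)) + -(j : ℤ)) by ring, ← hexp, ← hexp]
      ring
    rw [expand, intervalIntegral.integral_finsetSum (fun i _ => (Continuous.intervalIntegrable (by fun_prop) _ _))]
    rw [Finset.mul_sum]
    refine Finset.sum_congr rfl fun i _ => ?_
    rw [intervalIntegral.integral_finsetSum (fun j _ => (Continuous.intervalIntegrable (by fun_prop) _ _)), Finset.mul_sum]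
    refine Finset.sum_congr rfl fun j _ => ?_
    rw [intervalIntegral.integral_finsetSum (fun k _ => (Continuous.intervalIntegrable (by fun_prop) _ _))]
    simp only [intervalIntegral.integral_const_mul, integral_expI]
    rw [Finset.sum_eq_single ((j : ℤ) - (i : ℤ))]
    · rw [if_pos (by ring)]; ring
    · intro k _ hk
      rw [if_neg (by omega), mul_zero]
    · exact fun h => absurd (hS i j) h
  have hpi : (0 : ℝ) < 2 * Real.pi := by positivity
  -- the norm of P
  have hP0 : ∃ y, P y ≠ 0 := by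
    by_contra hcon
    push Not at hcon
    have := key (fun k => if k = 0 then 1 else 0) (Finset.Icc (-(m : ℤ)) (m : ℤ))
      (fun i j => by rw [Finset.mem_Icc]; omega)
    simp only [hcon, map_zero, mul_zero, intervalIntegral.integral_zero] at this
    have h2 : ∀ i j : Fin m, ((j : ℤ) - (i : ℤ) = 0) ↔ i = j := fun i j => by
      rw [Fin.ext_iff]; omega
    simp only [h2, mul_ite, mul_one, mul_zero, ite_mul, zero_mul, Finset.sum_ite_eq, Finset.mem_univ, if_true] at this
    have h3 : ∑ i : Fin m, (starRingEnd ℂ) (x i) * x i = 0 :=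
      (mul_eq_zero.1 this.symm).resolve_left (by exact_mod_cast hpi.ne')
    have h4 : ∑ i : Fin m, Complex.normSq (x i) = 0 := by
      have : ((∑ i : Fin m, Complex.normSq (x i) : ℝ) : ℂ) = 0 := by
        push_cast
        rw [← h3]
        exact Finset.sum_congr rfl fun i _ => by rw [Complex.normSq_eq_conj_mul_self]
      exact_mod_cast this
    apply hx
    funext i
    exact Complex.normSq_eq_zero.1 ((Finset.sum_eq_zero_iff_of_nonneg (fun i _ => Complex.normSq_nonneg _)).1 h4 i (Finset.mem_univ _))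
  have hmain : (∫ y in (0 : ℝ)..(2 * Real.pi), f y * ((starRingEnd ℂ) (P y) * P y)) =
      ((2 * Real.pi : ℝ) : ℂ) * (star x ⬝ᵥ (A.mulVec x)) := by
    rw [key t _ (fun i j => by rw [Finset.mem_Ioo]; omega)]
    congr 1
    simp only [dotProduct, Matrix.mulVec, Finset.mul_sum, hA, Pi.star_apply, mul_assoc]
    rfl
  -- positivity
  have hdense : Dense ({y : ℝ | ¬ 0 < (f y).re}ᶜ) := Set.Countable.dense_compl ℝ hpos
  have hnn : ∀ y, 0 ≤ (f y).re := by
    have hcl : IsClosed {y : ℝ | 0 ≤ (f y).re} := isClosed_le continuous_const (Complex.continuous_re.comp hfc)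
    have hsub : ({y : ℝ | ¬ 0 < (f y).re}ᶜ) ⊆ {y : ℝ | 0 ≤ (f y).re} := fun y hy => by
      simp only [Set.mem_compl_iff, Set.mem_setOf_eq, not_not] at hy ⊢
      exact hy.le
    intro y
    exact hcl.closure_subset_iff.2 hsub (hdense y)
  have hPper : Function.Periodic P (2 * Real.pi) := by
    intro y
    simp only [P]
    refine Finset.sum_congr rfl fun j _ => ?_
    congr 1
    rw [Complex.exp_eq_exp_iff_exists_int]
    exact ⟨-(j : ℤ), by push_cast; ring⟩
  have hne : ∃ y ∈ Set.Ioo (0 : ℝ) (2 * Real.pi), P y ≠ 0 ∧ 0 < (f y).re := by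
    obtain ⟨y₀, hy₀⟩ := hP0
    obtain ⟨y₁, hy₁, hy₁'⟩ := hPper.exists_mem_Ico₀ hpi y₀
    have hopen : IsOpen ({y | P y ≠ 0}) := isOpen_ne.preimage hPc
    have hmem : y₁ ∈ closure (Set.Ioo (0 : ℝ) (2 * Real.pi)) := by
      rw [closure_Ioo hpi.ne]; exact ⟨hy₁.1, hy₁.2.le⟩
    obtain ⟨y₂, hy₂, hy₂'⟩ := mem_closure_iff.1 hmem _ hopen (by rw [Set.mem_setOf_eq, ← hy₁']; exact hy₀)
    obtain ⟨y₃, hy₃, hy₃'⟩ := hdense.exists_mem_open (hopen.inter isOpen_Ioo) ⟨y₂, hy₂, hy₂'⟩
    simp only [Set.mem_compl_iff, Set.mem_setOf_eq, not_not] at hy₃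
    exact ⟨y₃, hy₃'.2, hy₃'.1, hy₃⟩
  have hre : 0 < (∫ y in (0 : ℝ)..(2 * Real.pi), f y * ((starRingEnd ℂ) (P y) * P y)).re := by
    have hint : IntervalIntegrable (fun y => f y * ((starRingEnd ℂ) (P y) * P y)) MeasureTheory.volume 0 (2 * Real.pi) :=
      Continuous.intervalIntegrable (by fun_prop) _ _
    have := Complex.reCLM.intervalIntegral_comp_comm hint
    simp only [Complex.reCLM_apply] at this
    rw [← this]
    have hre' : ∀ y, (f y * ((starRingEnd ℂ) (P y) * P y)).re = (f y).re * Complex.normSq (P y) := by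
      intro y; rw [← Complex.normSq_eq_conj_mul_self]; simp
    simp only [hre']
    obtain ⟨y, hy, hy1, hy2⟩ := hne
    exact intervalIntegral.integral_pos hpi (by fun_prop) (fun y _ => mul_nonneg (hnn y) (Complex.normSq_nonneg _))
      ⟨y, ⟨hy.1.le, hy.2.le⟩, mul_pos hy2 (Complex.normSq_pos.2 hy1)⟩
  rw [hmain, Complex.re_ofReal_mul] at hre
  have him : (star x ⬝ᵥ (A.mulVec x)).im = 0 := hH.im_star_dotProduct_mulVec_self x
  rw [Complex.lt_def]
  exact ⟨by simpa using (pos_of_mul_pos_right hre hpi.le), by simpa using him.symm⟩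

end Groth.Agent.S19019
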