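import Groth.Statements.S19020
import Mathlib

set_option autoImplicit false
open Toeplitz

namespace Groth.Agent.S19020


open Finset in
private theorem vdm (n d : ℕ) :
    ∑ s ∈ range (n + 1), n.choose (s + d) * n.choose s = (2 * n).choose (n + d) := by
  rw [two_mul, Nat.add_choose_eq, Finset.Nat.sum_antidiagonal_eq_sum_range_succ
    (fun a b => n.choose a * n.choose b), show (n + d).succ = d + (n + 1) by omega,
    sum_range_add (fun x => n.choose x * n.choose (n + d - x)) d (n + 1)]
  have h0 : ∑ x ∈ range d, n.choose x * n.choose (n + d - x) = 0 := by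
    refine sum_eq_zero fun x hx => ?_
    rw [mem_range] at hx
    rw [Nat.choose_eq_zero_of_lt (by omega : n < n + d - x), mul_zero]
  rw [h0, zero_add]
  refine sum_congr rfl fun s hs => ?_
  rw [mem_range] at hs
  rw [show n + d - (d + s) = n - s by omega, Nat.choose_symm (by omega), add_comm d s]

open Finset in
private theorem sum_shift (n m i j : ℕ) (hij : i ≤ j) (hj : j < m) :
    ∑ r ∈ range (m + n), (if i ≤ r then n.choose (r - i) else 0) * (if j ≤ r then n.choose (r - j) else 0) =
      (2 * n).choose (n + (j - i)) := by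
  rw [← vdm, show m + n = j + ((n + 1) + (m - j - 1)) by omega, sum_range_add, sum_range_add]
  have h0 : ∑ x ∈ range j, (if i ≤ x then n.choose (x - i) else 0) * (if j ≤ x then n.choose (x - j) else 0) = 0 := by
    refine sum_eq_zero fun x hx => ?_
    rw [mem_range] at hx
    rw [if_neg (by omega : ¬ j ≤ x), mul_zero]
  have h1 : ∀ x, (if i ≤ j + x then n.choose (j + x - i) else 0) * (if j ≤ j + x then n.choose (j + x - j) else 0) =
      n.choose (x + (j - i)) * n.choose x := by
    intro x
    rw [if_pos (by omega), if_pos (by omega), show j + x - i = x + (j - i) by omega, Nat.add_sub_cancel_left]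
  simp only [h1]
  rw [h0, zero_add, add_eq_left]
  refine sum_eq_zero fun x _ => ?_
  rw [Nat.choose_eq_zero_of_lt (by omega : n < n + 1 + x), mul_zero]

/-- For natural numbers n and m, the m × m real Toeplitz matrix with (i, j) entry (-1)^(i+j) · C(2n, n +
|i - j|), i.e. with t_k = (-1)^k C(2n, n + k) on the k-th diagonal for |k| ≤ n and zero beyond, is
positive definite; in particular it is nondegenerate, which is the printed assertion (positive
definiteness is what the printed proof establishes; m = 0 is the empty matrix). -/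
theorem result (n m : ℕ) :
    (Matrix.of fun i j : Fin m =>
        (-1 : ℝ) ^ ((i : ℕ) + (j : ℕ)) * (Nat.choose (2 * n) (n + Nat.dist i j) : ℝ)).PosDef := by
  classical
  set B : Matrix (Fin (m + n)) (Fin m) ℝ := Matrix.of fun r j =>
    (-1 : ℝ) ^ (j : ℕ) * ((if (j : ℕ) ≤ (r : ℕ) then n.choose ((r : ℕ) - j) else 0 : ℕ) : ℝ) with hB
  have hM : (Matrix.of fun i j : Fin m =>
        (-1 : ℝ) ^ ((i : ℕ) + (j : ℕ)) * (Nat.choose (2 * n) (n + Nat.dist i j) : ℝ)) = B.conjTranspose * B := by
    ext i j
    simp only [hB, Matrix.mul_apply, Matrix.conjTranspose_apply, Matrix.of_apply, star_trivial]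
    have key : ∑ r ∈ Finset.range (m + n), (if (i : ℕ) ≤ r then n.choose (r - i) else 0) *
        (if (j : ℕ) ≤ r then n.choose (r - j) else 0) = (2 * n).choose (n + Nat.dist i j) := by
      rcases le_total (i : ℕ) j with h | h
      · rw [Nat.dist_eq_sub_of_le h]; exact sum_shift n m i j h j.isLt
      · rw [Nat.dist_eq_sub_of_le_right h, ← sum_shift n m j i h i.isLt]
        exact Finset.sum_congr rfl fun r _ => mul_comm _ _
    rw [← key, ← Fin.sum_univ_eq_sum_range, Nat.cast_sum, Finset.mul_sum]
    refine Finset.sum_congr rfl fun r _ => ?_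
    rw [Nat.cast_mul, pow_add]
    ring
  rw [hM]
  refine Matrix.PosDef.conjTranspose_mul_self B ?_
  intro x y hxy
  have h0 : B.mulVec (x - y) = 0 := by rw [Matrix.mulVec_sub, hxy, sub_self]
  have hz : ∀ k : ℕ, ∀ hk : k < m, (x - y) ⟨k, hk⟩ = 0 := by
    intro k
    induction k using Nat.strong_induction_on with
    | _ k ih =>
      intro hk
      have := congrFun h0 ⟨k, by omega⟩
      simp only [Matrix.mulVec, dotProduct, Pi.zero_apply] at this
      rw [Finset.sum_eq_single (⟨k, hk⟩ : Fin m)] at this
      · simpa [hB] using this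
      · intro b _ hb
        rcases lt_trichotomy (b : ℕ) k with h | h | h
        · rw [show b = ⟨(b : ℕ), b.isLt⟩ from rfl, ih _ h b.isLt, mul_zero]
        · exact absurd (Fin.ext h) hb
        · simp [hB, Nat.not_le.2 h]
      · simp
  funext k
  exact sub_eq_zero.1 (hz k k.isLt)

end Groth.Agent.S19020
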