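import Groth.Statements.S19021
import Groth.Agent.S19020

set_option autoImplicit false
open Toeplitz

namespace Groth.Agent.S19021

/-- For natural numbers n and m, the m × m integer Toeplitz matrix with (i, j) entry (-1)^(i+j) ·
C(2n+1, n+1+i-j) (the binomial coefficient being 0 outside the range 0 ≤ n+1+i-j ≤ 2n+1;
equivalently s_k = (-1)^k C(2n+1, n+k+1) on the diagonal i - j = k for -n-1 ≤ k ≤ n and zero beyond)
is nondegenerate: its determinant is nonzero (m = 0 is the empty matrix, of determinant 1). -/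
theorem result (n m : ℕ) :
    (Matrix.of fun i j : Fin m =>
        (-1 : ℤ) ^ ((i : ℕ) + (j : ℕ)) *
          (if (j : ℕ) ≤ (i : ℕ) then (Nat.choose (2 * n + 1) (n + 1 + ((i : ℕ) - (j : ℕ))) : ℤ)
            else (Nat.choose (2 * n + 1) (n + ((j : ℕ) - (i : ℕ))) : ℤ))).det ≠ 0 := by
  classical
  set M : Matrix (Fin m) (Fin m) ℤ := Matrix.of fun i j : Fin m =>
        (-1 : ℤ) ^ ((i : ℕ) + (j : ℕ)) *
          (if (j : ℕ) ≤ (i : ℕ) then (Nat.choose (2 * n + 1) (n + 1 + ((i : ℕ) - (j : ℕ))) : ℤ)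
            else (Nat.choose (2 * n + 1) (n + ((j : ℕ) - (i : ℕ))) : ℤ)) with hMdef
  have key : ∀ a b : ℕ, b ≤ a →
      ((2 * n + 1).choose (n + 1 + (a - b)) : ℤ) +
        (if a ≤ b then ((2 * n + 1).choose (n + 1 + (b - a)) : ℤ) else ((2 * n + 1).choose (n + (a - b)) : ℤ)) =
      ((2 * (n + 1)).choose (n + 1 + (a - b)) : ℤ) := by
    intro a b hba
    have hp : (2 * (n + 1)).choose (n + 1 + (a - b)) =
        (2 * n + 1).choose (n + (a - b)) + (2 * n + 1).choose (n + 1 + (a - b)) := by
      rw [show 2 * (n + 1) = (2 * n + 1) + 1 by ring, show n + 1 + (a - b) = (n + (a - b)) + 1 by ring,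
        Nat.choose_succ_succ']
    rw [hp]
    split_ifs with h
    · obtain rfl : a = b := le_antisymm h hba
      simp only [Nat.sub_self, Nat.add_zero, Nat.choose_symm_half]; push_cast; ring
    · push_cast; ring
  have hsym : M.map (Int.cast : ℤ → ℝ) + (M.map (Int.cast : ℤ → ℝ)).transpose =
      Matrix.of fun i j : Fin m => (-1 : ℝ) ^ ((i : ℕ) + (j : ℕ)) *
        (Nat.choose (2 * (n + 1)) (n + 1 + Nat.dist i j) : ℝ) := by
    ext i j
    simp only [hMdef, Matrix.add_apply, Matrix.map_apply, Matrix.transpose_apply, Matrix.of_apply]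
    rcases le_total (j : ℕ) i with h | h
    · rw [Nat.dist_eq_sub_of_le_right h, if_pos h, add_comm (j : ℕ) (i : ℕ), ← Int.cast_add, ← mul_add, key _ _ h]
      push_cast; ring
    · rw [Nat.dist_eq_sub_of_le h, if_pos h, add_comm (j : ℕ) (i : ℕ), add_comm, ← Int.cast_add, ← mul_add, key _ _ h]
      push_cast; ring
  intro hdet
  have hdetR : (M.map (Int.cast : ℤ → ℝ)).det = 0 := by
    have := (Int.castRingHom ℝ).map_det M
    simp only [hdet, map_zero] at this
    exact this.symm
  obtain ⟨x, hx, hMx⟩ := Matrix.exists_mulVec_eq_zero_iff.2 hdetR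
  have hpos := (Groth.Agent.S19020.result (n + 1) m).dotProduct_mulVec_pos hx
  rw [← hsym, Matrix.add_mulVec, dotProduct_add, hMx, Matrix.mulVec_transpose,
    star_trivial, dotProduct_zero, dotProduct_comm, ← Matrix.dotProduct_mulVec, hMx] at hpos
  simp at hpos

end Groth.Agent.S19021
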