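import Groth.Statements.S19025
import Mathlib

set_option autoImplicit false
universe u
open HigherRestr

namespace Groth.Agent.S19025

/-- In abstract form, the estimate its proof establishes. Let S be a commutative ring, I an ideal of S,
g₀ and g₁ elements with g₁ - g₀ ∈ I, N a natural number and y a sequence in S such that, for 1 ≤ i ≤
N, the (N-i)-fold unit-step forward difference of y taken at i lies in I^(N-i). Then g₀^N times the
N-fold forward difference of y at 0, minus the N-fold forward difference at 0 of the twisted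
sequence j ↦ g₀^(N-j) g₁^j y_j, lies in I^N. (In the source S is the ring of functions on an affine
chart of X^n, I the ideal of a pairwise diagonal, g₀ and g₁ the two pullbacks of a transition unit
of L, and y_j the components x_λ along the compositions a₀^(N-j) a₁^j μ; the estimate is what makes
the higher order restrictions D^l_L well defined on ker D^(l-1)_L independently of the
trivialisation.) -/
theorem result
    (S : Type u) [CommRing S] (I : Ideal S) (g₀ g₁ : S) (hg : g₁ - g₀ ∈ I)
    (N : ℕ) (y : ℕ → S)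
    (hy : ∀ i : ℕ, 1 ≤ i → i ≤ N → (fwdDiff (1 : ℕ))^[N - i] y i ∈ I ^ (N - i)) :
    g₀ ^ N * (fwdDiff (1 : ℕ))^[N] y 0 -
        (fwdDiff (1 : ℕ))^[N] (fun j : ℕ => g₀ ^ (N - j) * g₁ ^ j * y j) 0 ∈ I ^ N := by
  classical
  obtain ⟨e, he, rfl⟩ : ∃ e ∈ I, g₁ = e + g₀ := ⟨g₁ - g₀, hg, by ring⟩
  -- expansion of the N-fold difference of the twisted sequence
  have hexp : (fwdDiff (1 : ℕ))^[N] (fun j : ℕ => g₀ ^ (N - j) * (e + g₀) ^ j * y j) 0 =
      ∑ i ∈ Finset.range (N + 1), (N.choose i : S) * e ^ i * g₀ ^ (N - i) * (fwdDiff (1 : ℕ))^[N - i] y i := by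
    simp only [fwdDiff_iter_eq_sum_shift, zsmul_eq_mul, smul_eq_mul, mul_one, zero_add]
    push_cast
    have hk : ∀ k ∈ Finset.range (N + 1), g₀ ^ (N - k) * (e + g₀) ^ k =
        ∑ i ∈ Finset.range (N + 1), (k.choose i : S) * e ^ i * g₀ ^ (N - i) := by
      intro k hk
      rw [Finset.mem_range] at hk
      rw [add_pow, Finset.mul_sum]
      rw [← Finset.sum_subset (Finset.range_subset_range.2 (by omega : k + 1 ≤ N + 1))
        (f := fun i => (k.choose i : S) * e ^ i * g₀ ^ (N - i))]
      · refine Finset.sum_congr rfl fun i hi => ?_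
        rw [Finset.mem_range] at hi
        rw [show N - i = (N - k) + (k - i) by omega, pow_add]
        ring
      · intro i _ hi
        rw [Finset.mem_range] at hi
        rw [Nat.choose_eq_zero_of_lt (by omega), Nat.cast_zero, zero_mul, zero_mul]
    rw [Finset.sum_congr rfl fun k hk' => by rw [hk k hk']]
    simp only [Finset.sum_mul, Finset.mul_sum]
    rw [Finset.sum_comm]
    refine Finset.sum_congr rfl fun i hi => ?_
    rw [Finset.mem_range] at hi
    rw [show N + 1 = i + (N - i + 1) by omega, Finset.sum_range_add]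
    have h0 : ∀ k ∈ Finset.range i, (-1 : S) ^ (N - k) * (N.choose k : S) *
        ((k.choose i : S) * e ^ i * g₀ ^ (N - i) * y k) = 0 := by
      intro k hk
      rw [Finset.mem_range] at hk
      rw [Nat.choose_eq_zero_of_lt hk]
      simp
    rw [Finset.sum_eq_zero h0, zero_add]
    refine Finset.sum_congr rfl fun l hl => ?_
    rw [Finset.mem_range] at hl
    have hc : (N.choose (i + l) : S) * ((i + l).choose i : S) = (N.choose i : S) * ((N - i).choose l : S) := by
      rw [← Nat.cast_mul, ← Nat.cast_mul, Nat.choose_mul (by omega : i ≤ i + l), Nat.add_sub_cancel_left]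
    rw [show N - (i + l) = N - i - l by omega]
    linear_combination ((-1 : S) ^ (N - i - l) * e ^ i * g₀ ^ (N - i) * y (i + l)) * hc
  rw [hexp, Finset.sum_range_succ']
  simp only [Nat.choose_zero_right, Nat.cast_one, pow_zero, one_mul, Nat.sub_zero]
  rw [sub_add_cancel_right]
  refine (I ^ N).neg_mem (Ideal.sum_mem _ fun i hi => ?_)
  rw [Finset.mem_range] at hi
  have := Ideal.mul_mem_mul (Ideal.pow_mem_pow he (i + 1)) (hy (i + 1) (by omega) (by omega))
  rw [← pow_add, Nat.add_sub_cancel' (by omega : i + 1 ≤ N)] at this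
  rw [show (N.choose (i + 1) : S) * e ^ (i + 1) * g₀ ^ (N - (i + 1)) * (fwdDiff (1 : ℕ))^[N - (i + 1)] y (i + 1) =
    ((N.choose (i + 1) : S) * g₀ ^ (N - (i + 1))) * (e ^ (i + 1) * (fwdDiff (1 : ℕ))^[N - (i + 1)] y (i + 1)) by ring]
  exact (I ^ N).mul_mem_left _ this

end Groth.Agent.S19025
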