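import Groth.Statements.S19033
import Groth.Agent.LabGraphLead.Basic

set_option autoImplicit false
universe u
open LabGraph

namespace Groth.Agent.S19033

open LabGraph in
/-- Let X be a quasi-wp-stable curve of genus g ≥ 2 over an algebraically closed field, encoded by a
weighted multigraph: vertices are the irreducible components C_v, with the weight w v and the loops
at v chosen so that w v plus the number of loops at v is the arithmetic genus of C_v; two distinct
components are joined by one edge for each node and by two edges for each tacnode at which they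
meet. For a set Y of vertices (a subcurve) canDeg Y is then deg_Y ω_X = 2 g_Y − 2 + k_Y and cut Y is
k_Y, the length of the intersection of Y with its complementary subcurve; a vertex is exceptional
(weight zero, loopless, exactly two edges to other vertices) exactly when C_v is an exceptional
component; the twist of the indicator function of Y is the multidegree Σ_{C ⊆ Y} C of the degree
class group construction; and the graph is a connected quasistable graph. Let d, d' be properly
balanced multidegrees of the same total degree D (each satisfies the Basic Inequality 2·|K·d_Y −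
D·canDeg Y| ≤ cut Y·K for every Y, where K = 2g − 2 = canDeg of the whole graph, and takes the value
1 on every exceptional vertex), with d strictly balanced: for every nonempty proper Y with d_Y equal
to the upper extreme, i.e. 2(K·d_Y − D·canDeg Y) = K·cut Y, every edge with exactly one endpoint in
Y has an exceptional endpoint. Suppose d' = d + Σ_i twist(1_{Z_i}) for nested vertex sets Z_1 ⊆ ⋯ ⊆
Z_m, each with d at its upper extreme, such that for j < i no edge joins a vertex of Z_j to a vertex
outside Z_i. Then d = d'. (The source assumes only that d − d' lies in the lattice generated by the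
multidegrees of the components and takes the existence of such a nested family from an earlier paper
it cites without proof; this row carries that description as its hypothesis.) -/
theorem result {V E : Type u} [Fintype V] [Fintype E]
    [DecidableEq V] [DecidableEq E] (ends : E → V × V) (w : V → ℕ) (hX : IsQuasistableGraph ends w)
    (hg : 2 ≤ genus ends w) (d d' : V → ℤ) (hD : ∑ v, d v = ∑ v, d' v)
    (hBI : SatisfiesBI ends w d) (hBI' : SatisfiesBI ends w d')
    (hone : ∀ v : V, IsExceptional ends w v → d v = 1) (hone' : ∀ v : V, IsExceptional ends w v → d' v = 1)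
    (hstrict : ∀ Y : Finset V, Y.Nonempty → Y ≠ Finset.univ →
      2 * (canDeg ends w Finset.univ * (∑ v ∈ Y, d v) - (∑ v, d v) * canDeg ends w Y)
          = (cut ends Y : ℤ) * canDeg ends w Finset.univ →
      ∀ e : E, (((ends e).1 ∈ Y ∧ (ends e).2 ∉ Y) ∨ ((ends e).1 ∉ Y ∧ (ends e).2 ∈ Y)) →
        (IsExceptional ends w (ends e).1 ∨ IsExceptional ends w (ends e).2))
    (m : ℕ) (Z : Fin m → Finset V) (hmono : ∀ i j : Fin m, i ≤ j → Z i ⊆ Z j)
    (hext : ∀ i : Fin m, 2 * (canDeg ends w Finset.univ * (∑ v ∈ Z i, d v) - (∑ v, d v) * canDeg ends w (Z i))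
          = (cut ends (Z i) : ℤ) * canDeg ends w Finset.univ)
    (hsep : ∀ i j : Fin m, j < i → ∀ e : E,
      ¬ (((ends e).1 ∈ Z j ∧ (ends e).2 ∉ Z i) ∨ ((ends e).2 ∈ Z j ∧ (ends e).1 ∉ Z i)))
    (hsum : ∀ v : V, d' v = d v + ∑ i : Fin m, twist ends (fun u => if u ∈ Z i then (1 : ℤ) else 0) v) :
    d = d' := by
  classical
  set K := canDeg ends w Finset.univ with hK
  have hKpos : 1 ≤ K := by rw [hK, LabGraphLead.canDeg_univ]; omega
  let φ : V → ℤ := fun v => ∑ i, LabGraphLead.ind (Z i) v
  have htw : ∀ v, d' v = d v + twist ends φ v := by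
    intro v
    rw [hsum v]
    congr 1
    simp only [twist, φ, LabGraphLead.ind]
    rw [Finset.sum_comm]
    refine Finset.sum_congr rfl fun e _ => ?_
    rw [Finset.sum_add_distrib]
    congr 1 <;> split <;> simp [Finset.sum_sub_distrib]
  suffices hconst : ∀ e, φ (ends e).1 = φ (ends e).2 by
    funext v
    rw [htw v]
    simp [twist, fun e => hconst e]
  intro e₀
  by_contra hne
  have main : ∀ v, IsExceptional ends w v → ((ends e₀).1 = v ∨ (ends e₀).2 = v) → False := by
    intro v hv he
    obtain ⟨e₁, e₂, h12, hinc⟩ := LabGraphLead.exists_two_edges ends w hv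
    have htw0 : twist ends φ v = 0 := by
      have := htw v
      rw [hone v hv, hone' v hv] at this
      omega
    have hno : ∀ i : Fin m, v ∉ Z i → ∀ x y : V, φ v < φ x → x ∈ Z i → φ y < φ v →
        ((ends e₁ = (v, x) ∨ ends e₁ = (x, v)) ∧ (ends e₂ = (v, y) ∨ ends e₂ = (y, v)) ∨
         (ends e₂ = (v, x) ∨ ends e₂ = (x, v)) ∧ (ends e₁ = (v, y) ∨ ends e₁ = (y, v))) → False := by
      intro i hvi x y hxv hxi hyv hxy
      have hyi : y ∉ Z i := by
        intro hy
        have : φ v ≤ φ y := by
          refine Finset.sum_le_sum fun j _ => ?_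
          rcases le_total j i with hji | hij
          · have : v ∉ Z j := fun h => hvi (hmono j i hji h)
            simp [LabGraphLead.ind, this]
            split <;> norm_num
          · have : y ∈ Z j := hmono i j hij hy
            simp [LabGraphLead.ind, this]
            split <;> norm_num
        omega
      have h1 := (LabGraphLead.satisfiesBI_iff ends w d).1 hBI (insert v (Z i))
      have hd : ∑ u ∈ insert v (Z i), d u = 1 + ∑ u ∈ Z i, d u := by
        rw [Finset.sum_insert hvi, hone v hv]
      have hc : canDeg ends w (insert v (Z i)) = canDeg ends w (Z i) := by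
        have h0 := LabGraphLead.canDeg_exceptional ends w hv
        simp only [canDeg, Finset.sum_singleton] at h0
        simp only [canDeg, Finset.sum_insert hvi, h0, zero_add]
      have hcut : cut ends (insert v (Z i)) = cut ends (Z i) := by
        have hxne : x ≠ v := fun h => by rw [h] at hxv; omega
        have hyne : y ≠ v := fun h => by rw [h] at hyv; omega
        suffices hz : (cut ends (insert v (Z i)) : ℤ) = (cut ends (Z i) : ℤ) by exact_mod_cast hz
        rw [← sub_eq_zero, LabGraphLead.ind_sq_cut, LabGraphLead.ind_sq_cut, ← Finset.sum_sub_distrib,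
          ← Finset.sum_subset (Finset.subset_univ {e₁, e₂}), Finset.sum_pair h12]
        · rcases hxy with ⟨h | h, h' | h'⟩ | ⟨h | h, h' | h'⟩ <;> rw [h, h'] <;>
            simp [LabGraphLead.ind, hvi, hxi, hyi, hxne, hyne]
        · intro e _ hnot
          simp only [Finset.mem_insert, Finset.mem_singleton, ← hinc e, not_or] at hnot
          simp [LabGraphLead.ind, hnot.1, hnot.2]
      have h2 := hext i
      simp only [LabGraphLead.excess, hd, hc, hcut, ← hK] at h1
      nlinarith
    have hloop := hv.2.1
    have hother : ∀ e, ((ends e).1 = v ∨ (ends e).2 = v) → ∃ x, x ≠ v ∧ (ends e = (v, x) ∨ ends e = (x, v)) := by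
      rintro e (h | h)
      · exact ⟨(ends e).2, fun h' => hloop e (Prod.ext h h'), Or.inl (Prod.ext h rfl)⟩
      · exact ⟨(ends e).1, fun h' => hloop e (Prod.ext h' h), Or.inr (Prod.ext rfl h)⟩
    obtain ⟨x₁, hx₁, he₁⟩ := hother e₁ ((hinc e₁).2 (Or.inl rfl))
    obtain ⟨x₂, hx₂, he₂⟩ := hother e₂ ((hinc e₂).2 (Or.inr rfl))
    have hsum2 : (φ x₁ - φ v) + (φ x₂ - φ v) = 0 := by
      rw [← htw0, twist, ← Finset.sum_subset (Finset.subset_univ {e₁, e₂}), Finset.sum_pair h12]
      · rcases he₁ with h | h <;> rcases he₂ with h' | h' <;> rw [h, h'] <;> simp [hx₁, hx₂]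
      · intro e _ hnot
        simp only [Finset.mem_insert, Finset.mem_singleton, ← hinc e, not_or] at hnot
        simp [hnot.1, hnot.2]
    have hd0 : φ x₁ ≠ φ v := by
      intro h
      rcases (hinc e₀).1 he with rfl | rfl
      · rcases he₁ with h' | h' <;> rw [h'] at hne <;> simp [h] at hne
      · have : φ x₂ = φ v := by omega
        rcases he₂ with h' | h' <;> rw [h'] at hne <;> simp [this] at hne
    have hget : ∀ x, φ v < φ x → ∃ i, x ∈ Z i ∧ v ∉ Z i := by
      intro x hx
      by_contra hno'
      push Not at hno'
      have : φ x ≤ φ v := Finset.sum_le_sum fun j _ => by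
        unfold LabGraphLead.ind
        split
        · rename_i h; simp [hno' j h]
        · split <;> norm_num
      omega
    rcases lt_or_gt_of_ne hd0 with h | h
    · obtain ⟨i, hi, hvi⟩ := hget x₂ (by omega)
      exact hno i hvi x₂ x₁ (by omega) hi (by omega) (Or.inr ⟨he₂, he₁⟩)
    · obtain ⟨i, hi, hvi⟩ := hget x₁ h
      exact hno i hvi x₁ x₂ h hi (by omega) (Or.inl ⟨he₁, he₂⟩)
  obtain ⟨i, hi⟩ : ∃ i, LabGraphLead.ind (Z i) (ends e₀).1 ≠ LabGraphLead.ind (Z i) (ends e₀).2 := by
    by_contra h
    push Not at h
    exact hne (Finset.sum_congr rfl fun i _ => h i)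
  have hcr : ((ends e₀).1 ∈ Z i ∧ (ends e₀).2 ∉ Z i) ∨ ((ends e₀).1 ∉ Z i ∧ (ends e₀).2 ∈ Z i) := by
    by_cases a : (ends e₀).1 ∈ Z i <;> by_cases b : (ends e₀).2 ∈ Z i <;> simp [LabGraphLead.ind, a, b] at hi ⊢
  have hne1 : (Z i).Nonempty := hcr.elim (fun h => ⟨_, h.1⟩) (fun h => ⟨_, h.2⟩)
  have hne2 : Z i ≠ Finset.univ := fun h => by rw [h] at hcr; simp at hcr
  rcases hstrict (Z i) hne1 hne2 (hext i) e₀ hcr with hv | hv
  · exact main _ hv (Or.inl rfl)
  · exact main _ hv (Or.inr rfl)

end Groth.Agent.S19033
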