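import Groth.Statements.S19034
import Groth.Agent.LabGraphLead.Basic

set_option autoImplicit false
universe u
open LabGraph

namespace Groth.Agent.S19034

open LabGraph in
/-- Let σ : Z → X be the contraction of some exceptional components of a quasi-wp-stable curve Z of
genus g ≥ 2 onto a quasi-wp-stable curve X, and d a properly balanced multidegree on X; then the
pull-back d̃ of d to Z (d̃_W = d_{σ(W)} when σ(W) is a curve, d̃ = 0 on contracted components) is
balanced. Encode Z by its weighted multigraph (vertices = irreducible components, weight plus number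
of loops = arithmetic genus of the component, one edge per node and two per tacnode joining distinct
components; canDeg Y = deg_Y ω_Z, cut Y = k_Y, K = canDeg of all vertices = 2g − 2; exceptional
vertex = exceptional component), and let S be the set of contracted components, each an exceptional
vertex. The components of X are the vertices outside S; for a set W of them, the subcurve σ(W) of X
has deg ω_X equal to canDeg Ŵ and k equal to cut Ŵ, where Ŵ is W together with the vertices of S all
of whose edges end in W, and the exceptional components of X are the exceptional vertices outside S.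
So the hypotheses below say that d̃ vanishes on S and that d = d̃|_{V∖S} is properly balanced on X
(Basic Inequality 2·|K·d_W − D·canDeg Ŵ| ≤ cut Ŵ·K for every W disjoint from S, D the total degree,
and value 1 on exceptional vertices outside S); the conclusion is the Basic Inequality for d̃ on Z,
for every set of vertices. -/
theorem result {V E : Type u} [Fintype V] [Fintype E]
    [DecidableEq V] [DecidableEq E] (ends : E → V × V) (w : V → ℕ) (hZ : IsQuasistableGraph ends w)
    (hg : 2 ≤ genus ends w) (S : Finset V) (hS : ∀ v ∈ S, IsExceptional ends w v)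
    (dt : V → ℤ) (hzero : ∀ v ∈ S, dt v = 0)
    (hBI : ∀ W : Finset V, Disjoint W S →
      2 * |canDeg ends w Finset.univ * (∑ v ∈ W, dt v) - (∑ v, dt v) * canDeg ends w (Finset.univ.filter (fun v : V => v ∈ W ∨ (v ∈ S ∧ ∀ e : E, ((ends e).1 = v → (ends e).2 ∈ W) ∧ ((ends e).2 = v → (ends e).1 ∈ W))))|
        ≤ (cut ends (Finset.univ.filter (fun v : V => v ∈ W ∨ (v ∈ S ∧ ∀ e : E, ((ends e).1 = v → (ends e).2 ∈ W) ∧ ((ends e).2 = v → (ends e).1 ∈ W)))) : ℤ) * canDeg ends w Finset.univ)
    (hone : ∀ v : V, v ∉ S → IsExceptional ends w v → dt v = 1) :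
    SatisfiesBI ends w dt := by
  classical
  rw [LabGraphLead.satisfiesBI_iff]
  intro Y
  set K := canDeg ends w Finset.univ with hK
  have hKpos : 1 ≤ K := by rw [hK, LabGraphLead.canDeg_univ]; omega
  set W := Y \ S with hW
  have h0 := hBI W Finset.sdiff_disjoint
  set T := (Finset.univ.filter (fun v : V => v ∈ W ∨ (v ∈ S ∧ ∀ e : E, ((ends e).1 = v → (ends e).2 ∈ W) ∧ ((ends e).2 = v → (ends e).1 ∈ W)))) with hT
  have hsumd : ∑ v ∈ Y, dt v = ∑ v ∈ W, dt v := by
    refine (Finset.sum_subset Finset.sdiff_subset fun x hx hx' => hzero x ?_).symm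
    by_contra h; exact hx' (Finset.mem_sdiff.2 ⟨hx, h⟩)
  have hc0 : ∀ v ∈ S, (2 * (w v : ℤ) - 2 + (endCount ends Finset.univ v : ℤ)) = 0 := by
    intro v hv
    have := LabGraphLead.canDeg_exceptional ends w (hS v hv)
    simpa [canDeg] using this
  have hcdY : canDeg ends w Y = canDeg ends w W := by
    refine (Finset.sum_subset Finset.sdiff_subset fun x hx hx' => hc0 x ?_).symm
    by_contra h; exact hx' (Finset.mem_sdiff.2 ⟨hx, h⟩)
  have hcdT : canDeg ends w T = canDeg ends w W := by
    refine (Finset.sum_subset (fun x hx => by simp [hT, hx]) fun x hx hx' => hc0 x ?_).symm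
    simp only [hT, Finset.mem_filter] at hx
    exact (hx.2.resolve_left hx').1
  have hno : ∀ e, ¬ ((ends e).1 ∈ S ∧ (ends e).2 ∈ S) := by
    rintro e ⟨h1, h2⟩
    by_cases h : (ends e).1 = (ends e).2
    · exact (hS _ h1).2.1 e (Prod.ext rfl h.symm)
    · exact hZ.2 e h ⟨hS _ h1, hS _ h2⟩
  have hWmem : ∀ u, u ∉ S → (u ∈ W ↔ u ∈ Y) := fun u hu => by simp [hW, hu]
  have hTmem : ∀ u, u ∉ S → (u ∈ T ↔ u ∈ Y) := fun u hu => by simp [hT, hu, hWmem u hu]
  let χ : Finset V → E → ℤ := fun A e => (LabGraphLead.ind A (ends e).1 - LabGraphLead.ind A (ends e).2) ^ 2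
  let inc : V → Finset E := fun s => Finset.univ.filter fun e => (ends e).1 = s ∨ (ends e).2 = s
  have hsplit : ∀ A, (cut ends A : ℤ) =
      (∑ e ∈ Finset.univ.filter (fun e => (ends e).1 ∉ S ∧ (ends e).2 ∉ S), χ A e) +
        ∑ s ∈ S, ∑ e ∈ inc s, χ A e := by
    intro A
    rw [LabGraphLead.ind_sq_cut, ← Finset.sum_filter_add_sum_filter_not Finset.univ
      (fun e => (ends e).1 ∉ S ∧ (ends e).2 ∉ S)]
    congr 1
    rw [← Finset.sum_biUnion]
    · refine Finset.sum_congr ?_ fun _ _ => rfl
      ext e
      simp only [Finset.mem_filter, Finset.mem_univ, true_and, Finset.mem_biUnion, inc]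
      constructor
      · intro h
        by_cases h1 : (ends e).1 ∈ S
        · exact ⟨_, h1, Or.inl rfl⟩
        · exact ⟨(ends e).2, by tauto, Or.inr rfl⟩
      · rintro ⟨s, hs, rfl | rfl⟩ <;> tauto
    · intro s hs t ht hst
      simp only [Function.onFun, Finset.disjoint_left, inc, Finset.mem_filter, Finset.mem_univ, true_and]
      rintro e (rfl | rfl) (h | h)
      · exact hst h
      · exact hno e ⟨hs, h ▸ ht⟩
      · exact hno e ⟨h ▸ ht, hs⟩
      · exact hst h
  have hcut : (cut ends T : ℤ) ≤ cut ends Y := by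
    rw [hsplit, hsplit]
    refine add_le_add (le_of_eq (Finset.sum_congr rfl fun e he => ?_)) (Finset.sum_le_sum fun s hs => ?_)
    · simp only [Finset.mem_filter] at he
      simp [χ, LabGraphLead.ind, hTmem _ he.2.1, hTmem _ he.2.2]
    obtain ⟨e₁, e₂, h12, hinc⟩ := LabGraphLead.exists_two_edges ends w (hS s hs)
    have hI : inc s = {e₁, e₂} := by ext e; simp [inc, hinc]
    have hloop := (hS s hs).2.1
    have hother : ∀ e, ((ends e).1 = s ∨ (ends e).2 = s) → ∃ x, x ≠ s ∧ x ∉ S ∧ (ends e = (s, x) ∨ ends e = (x, s)) := by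
      rintro e (h | h)
      · exact ⟨(ends e).2, fun h' => hloop e (Prod.ext h h'), fun h' => hno e ⟨h ▸ hs, h'⟩, Or.inl (Prod.ext h rfl)⟩
      · exact ⟨(ends e).1, fun h' => hloop e (Prod.ext h' h), fun h' => hno e ⟨h', h ▸ hs⟩, Or.inr (Prod.ext rfl h)⟩
    obtain ⟨a, ha, haS, he₁⟩ := hother e₁ ((hinc e₁).2 (Or.inl rfl))
    obtain ⟨b, hb, hbS, he₂⟩ := hother e₂ ((hinc e₂).2 (Or.inr rfl))
    have hsT : s ∈ T ↔ (a ∈ Y ∧ b ∈ Y) := by
      have hsW : s ∉ W := fun h => (Finset.mem_sdiff.1 h).2 hs
      simp only [hT, Finset.mem_filter, Finset.mem_univ, true_and, hsW, false_or, hs]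
      rw [← hWmem a haS, ← hWmem b hbS]
      constructor
      · intro h
        have k1 := h e₁
        have k2 := h e₂
        constructor
        · rcases he₁ with h' | h' <;> rw [h'] at k1 <;> simp at k1 <;> simp [k1]
        · rcases he₂ with h' | h' <;> rw [h'] at k2 <;> simp at k2 <;> simp [k2]
      · intro h e
        constructor <;> intro he
        · rcases (hinc e).1 (Or.inl he) with rfl | rfl
          · rcases he₁ with h' | h' <;> rw [h'] at he ⊢
            · exact h.1
            · exact absurd he ha
          · rcases he₂ with h' | h' <;> rw [h'] at he ⊢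
            · exact h.2
            · exact absurd he hb
        · rcases (hinc e).1 (Or.inr he) with rfl | rfl
          · rcases he₁ with h' | h' <;> rw [h'] at he ⊢
            · exact absurd he ha
            · exact h.1
          · rcases he₂ with h' | h' <;> rw [h'] at he ⊢
            · exact absurd he hb
            · exact h.2
    rw [hI, Finset.sum_pair h12, Finset.sum_pair h12]
    by_cases hsY : s ∈ Y <;> by_cases haY : a ∈ Y <;> by_cases hbY : b ∈ Y <;>
      rcases he₁ with h | h <;> rcases he₂ with h' | h' <;>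
      simp [χ, h, h', LabGraphLead.ind, hsT, hTmem a haS, hTmem b hbS, hsY, haY, hbY]
  have h1 := (mul_le_mul_of_nonneg_left (le_abs_self _) (by norm_num : (0:ℤ) ≤ 2)).trans h0
  have h2 := mul_le_mul_of_nonneg_right hcut (le_trans zero_le_one hKpos)
  simp only [LabGraphLead.excess, hsumd, hcdY, ← hcdT, ← hK]
  linarith

end Groth.Agent.S19034
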