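import Groth.Statements.S19036
import Mathlib

set_option autoImplicit false
universe u
open Instab

namespace Groth.Agent.S19036

open AlgebraicGeometry CategoryTheory IsLocalRing TopologicalSpace in
theorem isCompact_closure_inter {X Y : Scheme.{u}} (f : X ⟶ Y) [LocallyOfFinitePresentation f]
    (hf : ValuativeCriterion f) {U : Y.Opens} (hU : IsAffineOpen U) (η : X) (hη : η ∈ f ⁻¹ᵁ U) :
    IsCompact (closure {η} ∩ (f ⁻¹ᵁ U : Set X)) := by
  let K := X.residueField η
  let ev : ∀ (W : X.Opens), η ∈ W → (Γ(X, W) ⟶ K) := fun W h => X.presheaf.germ W η h ≫ X.residue η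
  let ρ : Γ(Y, U) ⟶ K := f.app U ≫ ev (f ⁻¹ᵁ U) hη
  have hρ : ∀ (W : X.Opens) (hW : η ∈ W) (e : W ≤ f ⁻¹ᵁ U), f.appLE U W e ≫ ev W hW = ρ := by
    intro W hW e
    simp only [ρ, ev, Scheme.Hom.appLE, Category.assoc]
    rw [TopCat.Presheaf.germ_res_assoc]
  have hξ : ∀ (W : X.Opens) (hW : η ∈ W) (hWa : IsAffineOpen W),
      Spec.map (ev W hW) ≫ hWa.fromSpec = X.fromSpecResidueField η := by
    intro W hW hWa
    simp only [ev, Spec.map_comp, Category.assoc, Scheme.fromSpecResidueField]
    rw [← IsAffineOpen.fromSpecStalk_eq_fromSpecStalk hWa hW]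
    rfl
  -- valuation rings centred at the points of the closure
  have h1 : ∀ x ∈ closure {η} ∩ (f ⁻¹ᵁ U : Set X), ∃ V : ValuationSubring K, (∀ r, ρ.hom r ∈ V) ∧
      ∃ (i₂ : Spec (CommRingCat.of V) ⟶ X),
        Spec.map (CommRingCat.ofHom V.subtype) ≫ i₂ = X.fromSpecResidueField η ∧
        i₂ (closedPoint V) = x ∧
        (∀ (W : X.Opens) (hW : η ∈ W), x ∈ W → ∀ a, (ev W hW).hom a ∈ V) := by
    rintro x ⟨hx, hxU⟩
    have hsp : η ⤳ x := specializes_iff_mem_closure.2 hx
    let φ : X.presheaf.stalk x ⟶ K := X.presheaf.stalkSpecializes hsp ≫ X.residue η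
    obtain ⟨A, hA, hA_local⟩ := exists_factor_valuationRing φ.hom
    have hev : ∀ (W : X.Opens) (hW : η ∈ W) (hxW : x ∈ W), ev W hW = X.presheaf.germ W x hxW ≫ φ := by
      intro W hW hxW
      simp only [ev, φ]
      rw [TopCat.Presheaf.germ_stalkSpecializes_assoc]
    refine ⟨A, fun r => ?_, Spec.map (CommRingCat.ofHom (φ.hom.codRestrict A.toSubring hA)) ≫ X.fromSpecStalk x,
      ?_, ?_, fun W hW hxW a => ?_⟩
    · have : ρ = (f.app U ≫ X.presheaf.germ (f ⁻¹ᵁ U) x hxU) ≫ φ := by
        simp only [ρ, Category.assoc]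
        rw [hev (f ⁻¹ᵁ U) hη hxU]
      rw [this]
      exact hA _
    · rw [← Spec.map_comp_assoc,
        show CommRingCat.ofHom (φ.hom.codRestrict A.toSubring hA) ≫ CommRingCat.ofHom A.subtype = φ from rfl]
      simp only [φ, Spec.map_comp, Category.assoc, Scheme.SpecMap_stalkSpecializes_fromSpecStalk,
        Scheme.fromSpecResidueField]
    · rw [Scheme.Hom.comp_apply]
      have : Spec.map (CommRingCat.ofHom (φ.hom.codRestrict A.toSubring hA)) (closedPoint A) =
          closedPoint (X.presheaf.stalk x) := comap_closedPoint (S := A) (φ.hom.codRestrict A.toSubring hA)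
      rw [this, Scheme.fromSpecStalk_closedPoint]
    · rw [hev W hW hxW]
      exact hA _
  -- a valuation ring containing the image of `Γ(Y, U)` gives a valuative square
  have hsq : ∀ (V : ValuationSubring K) (hV : ∀ r, ρ.hom r ∈ V),
      X.fromSpecResidueField η ≫ f = Spec.map (CommRingCat.ofHom V.subtype) ≫
        Spec.map (CommRingCat.ofHom (ρ.hom.codRestrict V.toSubring hV)) ≫ hU.fromSpec := by
    intro V hV
    obtain ⟨_, ⟨W, hWa, rfl⟩, hηW, hWU⟩ :=
      X.isBasis_affineOpens.exists_subset_of_mem_open hη (f ⁻¹ᵁ U).2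
    rw [← Spec.map_comp_assoc,
      show CommRingCat.ofHom (ρ.hom.codRestrict V.toSubring hV) ≫ CommRingCat.ofHom V.subtype = ρ from rfl,
      ← hρ W hηW hWU, Spec.map_comp, Category.assoc, IsAffineOpen.SpecMap_appLE_fromSpec f hU hWa hWU,
      ← Category.assoc, hξ W hηW hWa]
  have huniq : ∀ (V : ValuationSubring K) (hV : ∀ r, ρ.hom r ∈ V) (l l' : Spec (CommRingCat.of V) ⟶ X),
      Spec.map (CommRingCat.ofHom V.subtype) ≫ l = X.fromSpecResidueField η →
      l ≫ f = Spec.map (CommRingCat.ofHom (ρ.hom.codRestrict V.toSubring hV)) ≫ hU.fromSpec →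
      Spec.map (CommRingCat.ofHom V.subtype) ≫ l' = X.fromSpecResidueField η →
      l' ≫ f = Spec.map (CommRingCat.ofHom (ρ.hom.codRestrict V.toSubring hV)) ≫ hU.fromSpec → l = l' := by
    intro V hV l l' a b a' b'
    let S : ValuativeCommSq f :=
      { R := V, K := K, i₁ := X.fromSpecResidueField η
        i₂ := Spec.map (CommRingCat.ofHom (ρ.hom.codRestrict V.toSubring hV)) ≫ hU.fromSpec
        commSq := ⟨hsq V hV⟩ }
    have : Subsingleton S.commSq.LiftStruct := hf.uniqueness S
    exact congrArg CommSq.LiftStruct.l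
      (Subsingleton.elim (⟨l, a, b⟩ : S.commSq.LiftStruct) ⟨l', a', b'⟩)
  choose! Vx hVx ix hix1 hix2 hix3 using h1
  rw [isCompact_iff_ultrafilter_le_nhds]
  intro 𝔉 h𝔉
  have hC : ∀ᶠ x in (𝔉 : Filter X), x ∈ closure {η} ∩ (f ⁻¹ᵁ U : Set X) := Filter.le_principal_iff.1 h𝔉
  let V : ValuationSubring K :=
    { carrier := {a | ∀ᶠ x in (𝔉 : Filter X), a ∈ Vx x}
      mul_mem' := fun ha hb => ha.mp (hb.mono fun x hb ha => (Vx x).mul_mem _ _ ha hb)
      one_mem' := Filter.Eventually.of_forall fun x => (Vx x).one_mem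
      add_mem' := fun ha hb => ha.mp (hb.mono fun x hb ha => (Vx x).add_mem _ _ ha hb)
      zero_mem' := Filter.Eventually.of_forall fun x => (Vx x).zero_mem
      neg_mem' := fun ha => ha.mono fun x ha => (Vx x).neg_mem _ ha
      mem_or_inv_mem' := fun a => Ultrafilter.eventually_or.1
        (Filter.Eventually.of_forall fun x => (Vx x).mem_or_inv_mem a) }
  have hV : ∀ r, ρ.hom r ∈ V := fun r => hC.mono fun x hx => hVx x hx r
  let S : ValuativeCommSq f :=
    { R := V, K := K, i₁ := X.fromSpecResidueField η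
      i₂ := Spec.map (CommRingCat.ofHom (ρ.hom.codRestrict V.toSubring hV)) ≫ hU.fromSpec
      commSq := ⟨hsq V hV⟩ }
  obtain ⟨l, hl1', hl2'⟩ := (hf.existence S).exists_lift
  have hl1 : Spec.map (CommRingCat.ofHom V.subtype) ≫ l = X.fromSpecResidueField η := hl1'
  have hl2 : l ≫ f = Spec.map (CommRingCat.ofHom (ρ.hom.codRestrict V.toSubring hV)) ≫ hU.fromSpec := hl2'
  let c := l (closedPoint V)
  have hηc : η ⤳ c := by
    have h := (specializes_closedPoint (R := V) (Spec.map (CommRingCat.ofHom V.subtype) (closedPoint K))).map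
      l.continuous
    rw [← Scheme.Hom.comp_apply, hl1] at h
    rw [show (X.fromSpecResidueField η) (closedPoint K) = η from X.fromSpecResidueField_apply η _] at h
    exact h
  have hcU : c ∈ f ⁻¹ᵁ U := by
    show f (l (closedPoint V)) ∈ (U : Set Y)
    rw [← Scheme.Hom.comp_apply, hl2]
    show (Spec.map (CommRingCat.ofHom (ρ.hom.codRestrict V.toSubring hV)) ≫ hU.fromSpec) (closedPoint V) ∈ (U : Set Y)
    rw [Scheme.Hom.comp_apply, ← hU.range_fromSpec]
    exact ⟨_, rfl⟩
  refine ⟨c, ⟨specializes_iff_mem_closure.1 hηc, hcU⟩, ?_⟩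
  rw [le_nhds_iff]
  intro O hcO hO
  obtain ⟨_, ⟨W, hWa, rfl⟩, hcW, hWO⟩ :=
    X.isBasis_affineOpens.exists_subset_of_mem_open (show c ∈ O ∩ (f ⁻¹ᵁ U : Set X) from ⟨hcO, hcU⟩)
      (hO.inter (f ⁻¹ᵁ U).2)
  have hηW : η ∈ W := hηc.mem_open W.2 hcW
  have e : W ≤ f ⁻¹ᵁ U := fun x hx => (hWO hx).2
  -- the functions on `W` lie in the limit valuation ring
  have hWV : ∀ a, (ev W hηW).hom a ∈ V := by
    have hr : Set.range l ⊆ Set.range hWa.fromSpec := by
      rintro _ ⟨q, rfl⟩
      rw [hWa.range_fromSpec]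
      exact ((specializes_closedPoint q).map l.continuous).mem_open W.2 hcW
    let l' := IsOpenImmersion.lift hWa.fromSpec l hr
    obtain ⟨ψ, hψ⟩ : ∃ ψ, Spec.map ψ = l' := ⟨_, Spec.map_preimage l'⟩
    have h2 : ψ ≫ CommRingCat.ofHom V.subtype = ev W hηW := by
      apply Spec.map_injective
      rw [← cancel_mono hWa.fromSpec, hξ W hηW hWa, Spec.map_comp, Category.assoc, hψ,
        IsOpenImmersion.lift_fac]
      exact hl1
    intro a
    rw [← h2]
    exact (ψ.hom a).2
  have hft := f.finiteType_appLE hU hWa e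
  algebraize [(f.appLE U W e).hom]
  obtain ⟨gens, hgens⟩ := Algebra.FiniteType.out (R := Γ(Y, U)) (A := Γ(X, W))
  have hev : ∀ᶠ x in (𝔉 : Filter X), ∀ a ∈ gens, (ev W hηW).hom a ∈ Vx x :=
    (Finset.eventually_all gens).2 fun a _ => hWV a
  show ∀ᶠ x in (𝔉 : Filter X), x ∈ O
  refine (hC.and hev).mono fun x ⟨hx, hgx⟩ => ?_
  have hall : ∀ a, (ev W hηW).hom a ∈ Vx x := by
    intro a
    have : a ∈ Algebra.adjoin Γ(Y, U) (gens : Set Γ(X, W)) := hgens ▸ trivial
    induction this using Algebra.adjoin_induction with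
    | mem a ha => exact hgx a ha
    | algebraMap r =>
      show (f.appLE U W e ≫ ev W hηW).hom r ∈ Vx x
      rw [hρ W hηW e]; exact hVx x hx r
    | add a b _ _ ha hb => rw [map_add]; exact (Vx x).add_mem _ _ ha hb
    | mul a b _ _ ha hb => rw [map_mul]; exact (Vx x).mul_mem _ _ ha hb
  have hl' : ix x hx = Spec.map (CommRingCat.ofHom ((ev W hηW).hom.codRestrict (Vx x).toSubring hall)) ≫ hWa.fromSpec := by
    refine huniq (Vx x) (hVx x hx) _ _ (hix1 x hx) ?_ ?_ ?_
    · -- the lift attached to `x` is compatible with `Γ(Y, U)`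
      obtain ⟨_, ⟨W', hW'a, rfl⟩, hxW', hW'U⟩ :=
        X.isBasis_affineOpens.exists_subset_of_mem_open hx.2 (f ⁻¹ᵁ U).2
      have hηW' : η ∈ W' := (specializes_iff_mem_closure.2 hx.1).mem_open W'.2 hxW'
      have hr : Set.range (ix x hx) ⊆ Set.range hW'a.fromSpec := by
        rintro _ ⟨q, rfl⟩
        rw [hW'a.range_fromSpec]
        exact ((specializes_closedPoint q).map (ix x hx).continuous).mem_open W'.2 (by rw [hix2 x hx]; exact hxW')
      obtain ⟨ψ, hψ⟩ : ∃ ψ, Spec.map ψ = IsOpenImmersion.lift hW'a.fromSpec (ix x hx) hr := ⟨_, Spec.map_preimage _⟩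
      have h2 : ψ ≫ CommRingCat.ofHom (Vx x).subtype = ev W' hηW' := by
        apply Spec.map_injective
        rw [← cancel_mono hW'a.fromSpec, hξ W' hηW' hW'a, Spec.map_comp, Category.assoc, hψ,
          IsOpenImmersion.lift_fac]
        exact hix1 x hx
      rw [← IsOpenImmersion.lift_fac hW'a.fromSpec (ix x hx) hr, ← hψ, Category.assoc,
        ← IsAffineOpen.SpecMap_appLE_fromSpec f hU hW'a hW'U, ← Spec.map_comp_assoc]
      congr 2
      ext r
      show ((f.appLE U W' hW'U ≫ ψ ≫ CommRingCat.ofHom (Vx x).subtype).hom r) = ρ.hom r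
      rw [h2, hρ W' hηW' hW'U]
    · rw [← Spec.map_comp_assoc,
        show CommRingCat.ofHom ((ev W hηW).hom.codRestrict (Vx x).toSubring hall) ≫
          CommRingCat.ofHom (Vx x).subtype = ev W hηW from rfl, hξ W hηW hWa]
    · rw [Category.assoc, ← IsAffineOpen.SpecMap_appLE_fromSpec f hU hWa e, ← Spec.map_comp_assoc]
      congr 2
      ext r
      show (f.appLE U W e ≫ ev W hηW).hom r = ρ.hom r
      rw [hρ W hηW e]
  refine (hWO ?_).1
  rw [← hix2 x hx, hl', Scheme.Hom.comp_apply, ← hWa.range_fromSpec]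
  exact ⟨_, rfl⟩


open CategoryTheory AlgebraicGeometry in
/-- Let f : X → Y be a morphism of schemes which is locally of finite presentation, and for which the
valuative criterion holds (every valuative square over a valuation ring has exactly one lift). When
X has only finitely many irreducible components, the morphism f is quasi-compact. (The source states
this for algebraic spaces and adds that f is then proper; universal closedness follows from
quasi-compactness and the existence part by the standard criterion, and separatedness from the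
uniqueness part once f is quasi-separated. Only the scheme case and the quasi-compactness conclusion
are stated here.) -/
theorem result
    {X Y : Scheme.{u}} (f : X ⟶ Y) [LocallyOfFinitePresentation f]
    (hf : ValuativeCriterion f) (hX : (irreducibleComponents ↥X).Finite) :
    QuasiCompact f := by
  rw [quasiCompact_iff_forall_isAffineOpen]
  intro U hU
  have hcov : (f ⁻¹ᵁ U : Set X) = ⋃ Z ∈ irreducibleComponents ↥X, Z ∩ (f ⁻¹ᵁ U : Set X) := by
    ext x
    simp only [Set.mem_iUnion, Set.mem_inter_iff, exists_prop]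
    exact ⟨fun h => ⟨irreducibleComponent x, irreducibleComponent_mem_irreducibleComponents x, mem_irreducibleComponent, h⟩,
      fun ⟨_, _, _, h⟩ => h⟩
  rw [hcov]
  refine hX.isCompact_biUnion fun Z hZ => ?_
  by_cases hne : (Z ∩ (f ⁻¹ᵁ U : Set X)).Nonempty
  · obtain ⟨η, hη⟩ := QuasiSober.sober hZ.1 (isClosed_of_mem_irreducibleComponents Z hZ)
    obtain ⟨x, hxZ, hxU⟩ := hne
    rw [← hη.def]
    exact isCompact_closure_inter f hf hU η ((specializes_iff_mem_closure.2 (hη.def.symm ▸ hxZ)).mem_open (f ⁻¹ᵁ U).2 hxU)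
  · rw [Set.not_nonempty_iff_eq_empty.1 hne]
    exact isCompact_empty

end Groth.Agent.S19036
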