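import Groth.Statements.S19037
import Mathlib

set_option autoImplicit false
universe u v
open scoped Polynomial LaurentPolynomial
open Instab

namespace Groth.Agent.S19037

/-- Affine form over a ring R. Let A be a commutative ℤ-graded R-algebra and t an element of degree −1
(so A is a graded algebra over R[t] with t in degree −1), and let ψ : A[1/t] → R[T, T⁻¹] be an
R-algebra map sending t to T which is graded, in the sense that each homogeneous element of degree n
of A goes to an element of R times T^(−n). Then ψ is obtained by inverting t from an R-algebra map χ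
: A → R[T] (compared through the inclusion of R[T] in R[T, T⁻¹]) if and only if ψ kills t·a for
every homogeneous a of degree 1; such a χ is unique. (The source states this for quasi-coherent
graded algebras over an arbitrary base scheme; the statement is local on the base and is given here
over an affine base.) -/
theorem result
    {R : Type u} {A : Type v} [CommRing R] [CommRing A] [Algebra R A]
    (𝒜 : ℤ → Submodule R A) [GradedAlgebra 𝒜] (t : A) (ht : t ∈ 𝒜 (-1))
    (ψ : Localization.Away t →ₐ[R] R[T;T⁻¹])
    (hψt : ψ (algebraMap A (Localization.Away t) t) = LaurentPolynomial.T 1)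
    (hψ : ∀ (n : ℤ) (a : A), a ∈ 𝒜 n →
      ∃ r : R, ψ (algebraMap A (Localization.Away t) a) = LaurentPolynomial.C r * LaurentPolynomial.T (-n)) :
    (∃! χ : A →ₐ[R] R[X], ∀ a : A,
        ψ (algebraMap A (Localization.Away t) a) = Polynomial.toLaurentAlg (χ a)) ↔
      ∀ a ∈ 𝒜 1, ψ (algebraMap A (Localization.Away t) (t * a)) = 0 := by
  classical
  set ι := algebraMap A (Localization.Away t) with hι
  have hinj : Function.Injective (Polynomial.toLaurentAlg : R[X] →ₐ[R] R[T;T⁻¹]) :=
    Polynomial.toLaurent_injective
  constructor
  · rintro ⟨χ, hχ, -⟩ a ha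
    obtain ⟨r, hr⟩ := hψ 1 a ha
    have h1 : ψ (ι (t * a)) = LaurentPolynomial.C r := by
      rw [map_mul, map_mul, hψt, hr, mul_left_comm, ← LaurentPolynomial.T_add]
      simp
    have h2 : Polynomial.toLaurent (χ a * Polynomial.X) = Polynomial.toLaurent (Polynomial.C r) := by
      rw [map_mul, Polynomial.toLaurent_X, Polynomial.toLaurent_C]
      have := hχ a
      rw [Polynomial.toLaurentAlg_apply] at this
      rw [← this, ← h1, map_mul, map_mul, hψt, mul_comm]
    have h3 : r = 0 := by
      have := congrArg (fun q : R[X] => q.coeff 0) (Polynomial.toLaurent_injective h2)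
      simpa using this.symm
    rw [h1, h3, map_zero]
  · intro h
    have hT : ∀ k : ℕ, ψ (ι (t ^ k)) = LaurentPolynomial.T (k : ℤ) := by
      intro k
      rw [map_pow, map_pow, hψt, LaurentPolynomial.T_pow, mul_one]
    have hrange : ∀ a : A, ψ (ι a) ∈ (Polynomial.toLaurentAlg : R[X] →ₐ[R] R[T;T⁻¹]).range := by
      intro a
      induction a using DirectSum.Decomposition.inductionOn 𝒜 with
      | zero => simp
      | add a b ha hb => rw [map_add, map_add]; exact add_mem ha hb
      | @homogeneous n a =>
        obtain ⟨r, hr⟩ := hψ n a a.2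
        rw [hr]
        by_cases hn : n ≤ 0
        · refine ⟨Polynomial.C r * Polynomial.X ^ (-n).toNat, ?_⟩
          rw [map_mul, map_pow]
          show Polynomial.toLaurent (Polynomial.C r) * Polynomial.toLaurent Polynomial.X ^ (-n).toNat = _
          rw [Polynomial.toLaurent_C, Polynomial.toLaurent_X, LaurentPolynomial.T_pow, mul_one,
            Int.toNat_of_nonneg (by omega)]
        · obtain ⟨m, hm⟩ : ∃ m : ℕ, n = 1 + (m : ℤ) := ⟨(n - 1).toNat, by omega⟩
          have hmem : t ^ m * (a : A) ∈ 𝒜 1 := by
            have := SetLike.mul_mem_graded (SetLike.pow_mem_graded m ht) a.2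
            have e : m • (-1 : ℤ) + n = 1 := by rw [hm]; simp
            rwa [e] at this
          have h0 := h _ hmem
          rw [← mul_assoc, ← pow_succ', map_mul, map_mul, hT, hr, mul_left_comm, ← LaurentPolynomial.T_add,
            show (((m + 1 : ℕ) : ℤ) + -n) = 0 by omega, LaurentPolynomial.T_zero, mul_one] at h0
          rw [h0, zero_mul]
          exact zero_mem _
    let χ : A →ₐ[R] R[X] := (AlgEquiv.ofInjective _ hinj).symm.toAlgHom.comp
      (((ψ.comp (IsScalarTower.toAlgHom R A (Localization.Away t)))).codRestrict _ hrange)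
    have hχ : ∀ a, ψ (ι a) = Polynomial.toLaurentAlg (χ a) := fun a =>
      (congrArg Subtype.val ((AlgEquiv.ofInjective _ hinj).apply_symm_apply ⟨ψ (ι a), hrange a⟩)).symm
    refine ⟨χ, hχ, fun χ' h' => AlgHom.ext fun a => hinj ?_⟩
    rw [← hχ a, ← h' a]

end Groth.Agent.S19037
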