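import Groth.Statements.S19041
import Groth.Agent.GcMod.Basic

set_option autoImplicit false
universe u
open Dieu

namespace Groth.Agent.S19041

open Groth.Agent.GcMod W4c6eohyperellchar2 in
theorem iterate_F (c : ℕ) (k : Type u) [CommRing k] : ∀ (e j l : ℕ), j = 2 ^ e * l → 1 ≤ l → j ≤ c →
    (F c k)^[e] (X c k j) = X c k l
  | 0, j, l, h, _, _ => by simp at h; simp [h]
  | e + 1, j, l, h, hl, hj => by
    have h2 : j = 2 * (2 ^ e * l) := by rw [h, pow_succ']; ring
    have h1 : 1 ≤ 2 ^ e * l := Nat.one_le_iff_ne_zero.2 (Nat.mul_ne_zero (by simp) (by omega))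
    rw [Function.iterate_succ_apply, F_X_even h2 h1 hj]
    exact iterate_F c k e _ l rfl hl (by omega)

open Groth.Agent.GcMod W4c6eohyperellchar2 in
theorem iterate_V (c : ℕ) (k : Type u) [CommRing k] [ExpChar k 2] [PerfectRing k 2] : ∀ (n q : ℕ), 1 ≤ q →
    2 ^ n * q ≤ c → (V c k)^[n] (Y c k q) = Y c k (2 ^ n * q)
  | 0, q, _, _ => by simp
  | n + 1, q, hq, h => by
    have h2 : 2 ^ (n + 1) * q = 2 * (2 ^ n * q) := by rw [pow_succ']; ring
    have h3 : 1 ≤ 2 ^ n * q := Nat.one_le_iff_ne_zero.2 (Nat.mul_ne_zero (by simp) (by omega))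
    rw [Function.iterate_succ_apply', iterate_V c k n q hq (by omega), h2, V_Y h3 (by omega)]



/-- Let `k` be a perfect field of characteristic `2` and `c` a natural number, and consider the explicit
`2c`-dimensional `k`-space on `X_1, …, X_c, Y_1, …, Y_c` with its operators `F` and `V` (`F Y_j =
0`; `F X_j = X_{j/2}` for `j` even and `Y_{c-(j-1)/2}` for `j` odd; `V Y_j = Y_{2j}` when `2j ≤ c`,
else `0`; `V X_j = Y_{2c-2j+1}` when `2j > c`, else `0`). For `j = 2^e l` with `l` odd and `c < 2j ≤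
2c`, and for `j'` with `c < 2j' ≤ 2c` and `n` with `2^n (2c - 2j' + 1) = c - (l-1)/2`, one has
`F^{e+1} X_j + V^{n+1} X_{j'} = 0`. (Stated over any perfect field of characteristic `2`; the source
works over an algebraically closed one.) -/
theorem result (c : ℕ) (k : Type u) [Field k] [CharP k 2] [PerfectRing k 2]
    (j e l : ℕ) (hj : j = 2 ^ e * l) (hl : Odd l) (hjc : j ≤ c) (hcj : c < 2 * j)
    (j' n : ℕ) (hj'c : j' ≤ c) (hcj' : c < 2 * j') (hn : 2 ^ n * (2 * c - 2 * j' + 1) = c - (l - 1) / 2) :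
    (W4c6eohyperellchar2.F c k)^[e + 1] (W4c6eohyperellchar2.X c k j) + (W4c6eohyperellchar2.V c k)^[n + 1] (W4c6eohyperellchar2.X c k j') = 0 := by
  have hl0 : 1 ≤ l := hl.pos
  have hlc : l ≤ c := by
    have : 1 * l ≤ 2 ^ e * l := Nat.mul_le_mul_right l Nat.one_le_two_pow
    omega
  obtain ⟨t, ht⟩ := hl
  rw [Function.iterate_succ_apply' (W4c6eohyperellchar2.F c k), iterate_F c k e j l hj hl0 hjc,
    Groth.Agent.GcMod.F_X_odd ht hlc, Function.iterate_succ_apply, Groth.Agent.GcMod.V_X hj'c hcj',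
    iterate_V c k n _ (by omega) (by omega), show 2 ^ n * (2 * c - 2 * j' + 1) = c - t by omega]
  refine Prod.ext (funext fun i => ?_) (funext fun i => ?_) <;>
    simp only [Prod.fst_add, Prod.snd_add, Pi.add_apply, Prod.fst_zero, Prod.snd_zero, Pi.zero_apply] <;>
    exact CharTwo.add_self_eq_zero _

end Groth.Agent.S19041
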