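import Groth.Statements.S19043
import Groth.Agent.GcMod.Basic

set_option autoImplicit false
universe u
open Dieu

namespace Groth.Agent.S19043

/-- Let `k` be a perfect field of characteristic `2` and `c` a natural number, and let `M` be the
explicit `2c`-dimensional `k`-space on `X_1, …, X_c, Y_1, …, Y_c` with its operators `F` and `V` (`F
Y_j = 0`; `F X_j = X_{j/2}` for `j` even and `Y_{c-(j-1)/2}` for `j` odd; `V Y_j = Y_{2j}` when `2j
≤ c`, else `0`; `V X_j = Y_{2c-2j+1}` when `2j > c`, else `0`). The classes of the `X_j` with `c <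
2j ≤ 2c` in the quotient of `M` by the `k`-span of `F(M) ∪ V(M)` are linearly independent and span
that quotient. (Stated over any perfect field of characteristic `2`; the source works over an
algebraically closed one.) -/
theorem result (c : ℕ) (k : Type u) [Field k] [CharP k 2] [PerfectRing k 2] :
    LinearIndependent k (fun j : {j : ℕ // c < 2 * j ∧ j ≤ c} =>
        Submodule.mkQ (Submodule.span k (Set.range (W4c6eohyperellchar2.F c k) ∪ Set.range (W4c6eohyperellchar2.V c k))) (W4c6eohyperellchar2.X c k j.1)) ∧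
      Submodule.span k (Set.range (fun j : {j : ℕ // c < 2 * j ∧ j ≤ c} =>
        Submodule.mkQ (Submodule.span k (Set.range (W4c6eohyperellchar2.F c k) ∪ Set.range (W4c6eohyperellchar2.V c k))) (W4c6eohyperellchar2.X c k j.1))) = ⊤ := by
  classical
  set U := Submodule.span k (Set.range (W4c6eohyperellchar2.F c k) ∪ Set.range (W4c6eohyperellchar2.V c k)) with hU
  have hXU : ∀ n, 1 ≤ n → 2 * n ≤ c → W4c6eohyperellchar2.X c k n ∈ U := fun n h1 h =>
    Submodule.subset_span (Or.inl ⟨_, Groth.Agent.GcMod.F_X_even rfl h1 h⟩)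
  have hYU : ∀ m, 1 ≤ m → m ≤ c → W4c6eohyperellchar2.Y c k m ∈ U := by
    intro m h1 hmc
    by_cases hev : m % 2 = 0
    · refine Submodule.subset_span (Or.inr ⟨W4c6eohyperellchar2.Y c k (m / 2), ?_⟩)
      rw [Groth.Agent.GcMod.V_Y (by omega) (by omega), show 2 * (m / 2) = m by omega]
    · refine Submodule.subset_span (Or.inr ⟨W4c6eohyperellchar2.X c k ((2 * c + 1 - m) / 2), ?_⟩)
      rw [Groth.Agent.GcMod.V_X (by omega) (by omega), show 2 * c - 2 * ((2 * c + 1 - m) / 2) + 1 = m by omega]
  let g : W4c6eohyperellchar2.GcMod c k →ₗ[k] ({j : ℕ // c < 2 * j ∧ j ≤ c} → k) :=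
    { toFun := fun v j => W4c6eohyperellchar2.coefX v j.1
      map_add' := fun v w => funext fun j => Groth.Agent.GcMod.coefX_add v w j.1
      map_smul' := fun t v => funext fun j => Groth.Agent.GcMod.coefX_smul t v j.1 }
  have hker : U = LinearMap.ker g := by
    refine le_antisymm (Submodule.span_le.2 ?_) fun v hv => ?_
    · rintro _ (⟨v, rfl⟩ | ⟨v, rfl⟩)
      · refine LinearMap.mem_ker.2 (funext fun j => ?_)
        show W4c6eohyperellchar2.coefX _ j.1 = 0
        rw [Groth.Agent.GcMod.coefX_F _ (by omega) j.2.2, Groth.Agent.GcMod.coefX_eq_zero v (Or.inr j.2.1),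
          zero_pow two_ne_zero]
      · exact LinearMap.mem_ker.2 (funext fun j => Groth.Agent.GcMod.coefX_V v j.1)
    · rw [Groth.Agent.GcMod.sum_basis v]
      refine U.add_mem (U.sum_mem fun i _ => ?_) (U.sum_mem fun i _ => U.smul_mem _ (hYU _ (by omega) i.isLt))
      by_cases hb : c < 2 * (i.val + 1)
      · have h0 := congrFun (LinearMap.mem_ker.1 hv) ⟨i.val + 1, hb, i.isLt⟩
        simp only [g, LinearMap.coe_mk, AddHom.coe_mk, Pi.zero_apply, Groth.Agent.GcMod.coefX_succ] at h0
        simp [h0]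
      · exact U.smul_mem _ (hXU _ (by omega) (by omega))
  haveI : Fintype {j : ℕ // c < 2 * j ∧ j ≤ c} :=
    Fintype.ofFinset ((Finset.range (c + 1)).filter fun j => c < 2 * j) fun x => by
      simp only [Finset.mem_filter, Finset.mem_range]; exact ⟨fun h => ⟨h.2, by omega⟩, fun h => ⟨by have := h.2; omega, h.1⟩⟩
  have hgX : ∀ j : {j : ℕ // c < 2 * j ∧ j ≤ c}, g (W4c6eohyperellchar2.X c k j.1) = Pi.single j 1 := by
    intro j
    funext l
    show W4c6eohyperellchar2.coefX (W4c6eohyperellchar2.X c k j.1) l.1 = _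
    rw [Groth.Agent.GcMod.coefX_X, Pi.single_apply]
    refine if_congr ⟨fun h => Subtype.ext h.2.2, fun h => ⟨by have := l.2.1; omega, l.2.2, by rw [h]⟩⟩ rfl rfl
  let gb : (W4c6eohyperellchar2.GcMod c k ⧸ U) →ₗ[k] ({j : ℕ // c < 2 * j ∧ j ≤ c} → k) := U.liftQ g hker.le
  have hinj : Function.Injective gb := by
    rw [← LinearMap.ker_eq_bot]; exact Submodule.ker_liftQ_eq_bot _ _ _ hker.ge
  have hcomp : (gb ∘ fun j : {j : ℕ // c < 2 * j ∧ j ≤ c} => U.mkQ (W4c6eohyperellchar2.X c k j.1)) =
      ⇑(Pi.basisFun k {j : ℕ // c < 2 * j ∧ j ≤ c}) := funext fun j => by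
    simp only [Function.comp_apply, gb, Submodule.mkQ_apply, Submodule.liftQ_apply, hgX, Pi.basisFun_apply]
  constructor
  · refine LinearIndependent.of_comp gb ?_
    rw [hcomp]
    exact (Pi.basisFun k _).linearIndependent
  · refine Submodule.map_injective_of_injective (f := gb) hinj ?_
    rw [Submodule.map_span, ← Set.range_comp, Submodule.map_top, hcomp, (Pi.basisFun k _).span_eq]
    refine (LinearMap.range_eq_top.2 fun f => ⟨∑ j, f j • U.mkQ (W4c6eohyperellchar2.X c k j.1), ?_⟩).symm
    rw [map_sum]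
    simp only [map_smul]
    conv_rhs => rw [← (Pi.basisFun k _).sum_repr f]
    exact Finset.sum_congr rfl fun j _ => by rw [← congrFun hcomp j]; simp

end Groth.Agent.S19043
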