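import Groth.Statements.S19044
import Groth.Agent.FunFldLib.ASGenus
import Groth.Agent.S12587

set_option autoImplicit false
universe u v w
open FunFld

namespace Groth.Agent.S19044

open Groth.Agent.FunFldLib WithZero Polynomial in
theorem main {k K : Type*}
    [Field k] [IsAlgClosed k] [CharP k 2] [Field K] [Algebra k K] [Algebra (RatFunc k) K] [IsScalarTower k (RatFunc k) K]
    (hK : FunFld.IsFunctionField k K) (hdeg : Module.finrank (RatFunc k) K = 2) [Algebra.IsSeparable (RatFunc k) K]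
    (y : K) (hy : y ∉ Set.range (algebraMap (RatFunc k) K)) (f : RatFunc k)
    (heq : y ^ 2 + y = algebraMap (RatFunc k) K f)
    (B : Finset k) (h0 : (0 : k) ∈ B) (d : k → ℕ) (hd : ∀ α ∈ B, Odd (d α))
    (hpole : ∀ (p : FunFld.Place k (RatFunc k)) (α : k), α ∈ B →
      p.1 ((RatFunc.X : RatFunc k) - RatFunc.C α) < 1 → p.ord f = -(d α : ℤ))
    (hint : ∀ p : FunFld.Place k (RatFunc k), (∀ α ∈ B, 1 ≤ p.1 ((RatFunc.X : RatFunc k) - RatFunc.C α)) → p.1 f ≤ 1)
    (F : FunFld.Place k K → Type*) [∀ P, Field (F P)] [∀ P, Algebra k (F P)]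
    (φ : ∀ P, K →ₐ[k] LaurentSeries (F P)) (hφ : ∀ P, LocRes.IsExpansionAt P.1 (φ P))
    (r : ({a : ↥B × ℕ // 1 ≤ a.2 ∧ 2 * a.2 + 1 ≤ d (a.1 : k)} ⊕ {b : ↥B // (b : k) ≠ 0}) → RatFunc k)
    (hr : r = Sum.elim
        (fun a : {a : ↥B × ℕ // 1 ≤ a.2 ∧ 2 * a.2 + 1 ≤ d (a.1 : k)} => ((RatFunc.X : RatFunc k) - RatFunc.C (a.1.1 : k))⁻¹ ^ (a.1.2 + 1))
        (fun b : {b : ↥B // (b : k) ≠ 0} => RatFunc.C (b.1 : k) / ((RatFunc.X : RatFunc k) * ((RatFunc.X : RatFunc k) - RatFunc.C (b.1 : k))))) :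
    (∀ i P, LocRes.vDiff (φ P) (algebraMap (RatFunc k) K (r i)) (algebraMap (RatFunc k) K RatFunc.X) ≤ 1) ∧
    LinearIndependent k (fun i => algebraMap (RatFunc k) K (r i)) ∧
    ∀ z : K, (∀ P, LocRes.vDiff (φ P) z (algebraMap (RatFunc k) K RatFunc.X) ≤ 1) →
      z ∈ Submodule.span k (Set.range fun i => algebraMap (RatFunc k) K (r i)) := by
  classical
  haveI : CharP K 2 := charP_of_injective_algebraMap (algebraMap k K).injective 2
  haveI : FiniteDimensional (RatFunc k) K := Module.finite_of_finrank_eq_succ hdeg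
  have hF := ratFunc_isFunctionField k
  obtain ⟨I, hI⟩ := Groth.Agent.S12587.rat_pole (k := k)
  have hId : I.deg = 1 := deg_inf I hI
  -- the places at the poles
  have hxα : ∀ α : k, (RatFunc.X : RatFunc k) - RatFunc.C α = algebraMap (Polynomial k) (RatFunc k) (Polynomial.X - Polynomial.C α) := fun α => by
    rw [map_sub, RatFunc.algebraMap_X, RatFunc.algebraMap_C]
  have hne : ∀ α : k, (RatFunc.X : RatFunc k) - RatFunc.C α ≠ 0 := fun α => by
    rw [hxα]; exact RatFunc.algebraMap_ne_zero (Polynomial.X_sub_C_ne_zero α)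
  have hPex : ∀ α : k, ∃ P : FunFld.Place k (RatFunc k), P.1 ((RatFunc.X : RatFunc k) - RatFunc.C α) < 1 := fun α =>
    exists_place_val_lt_one hF.1 (by
      rw [hxα, ← aeval_X_left_apply (Polynomial.X - Polynomial.C α), ← aeval_algebraMap_apply, RatFunc.algebraMap_X]
      exact RatFunc.transcendental_X.aeval_of_transcendental (Polynomial.transcendental _ (by simp)
        (mem_nonZeroDivisors_of_ne_zero (by simp))))
  choose Pa hPa using hPex
  have hPX : ∀ α, (Pa α).1 RatFunc.X ≤ 1 := fun α => by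
    by_contra h
    have h' := hPa α
    rw [hxα, poly_val_inf _ (not_le.1 h) (Polynomial.X_sub_C_ne_zero α), natDegree_X_sub_C, pow_one] at h'
    exact h'.not_gt (not_le.1 h)
  have hprime : ∀ (α : k) (P : FunFld.Place k (RatFunc k)), P.1 RatFunc.X ≤ 1 → P.1 ((RatFunc.X : RatFunc k) - RatFunc.C α) < 1 →
      ∀ q, P.1 (algebraMap (Polynomial k) (RatFunc k) q) < 1 ↔ (Polynomial.X - Polynomial.C α) ∣ q := fun α P hX hlt q => by
    obtain ⟨p, hp, hpP⟩ := exists_prime P hX
    rw [hxα] at hlt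
    rw [hpP, (hp.associated_of_dvd (irreducible_X_sub_C α) ((hpP _).1 hlt)).dvd_iff_dvd_left]
  have huniq : ∀ (α : k) (P : FunFld.Place k (RatFunc k)), P.1 ((RatFunc.X : RatFunc k) - RatFunc.C α) < 1 → P = Pa α := fun α P hlt => by
    have hX : P.1 RatFunc.X ≤ 1 := by
      by_contra h
      rw [hxα, poly_val_inf _ (not_le.1 h) (Polynomial.X_sub_C_ne_zero α), natDegree_X_sub_C, pow_one] at hlt
      exact hlt.not_gt (not_le.1 h)
    exact fin_unique hX (hPX α) (irreducible_X_sub_C α) (hprime α P hX hlt) (hprime α _ (hPX α) (hPa α))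
  have hord : ∀ (α : k) (P : FunFld.Place k (RatFunc k)), P ≠ I → P.ord ((RatFunc.X : RatFunc k) - RatFunc.C α) = if P = Pa α then 1 else 0 := fun α P hP => by
    have hX : P.1 RatFunc.X ≤ 1 := not_lt.1 fun h => hP (inf_unique h hI)
    split_ifs with h
    · subst h
      rw [FunFld.Place.ord, hxα, val_prime _ (hPX α) (irreducible_X_sub_C α) (hprime α _ (hPX α) (hPa α)), log_exp, neg_neg]
    · rw [hxα, ← val_eq_one_iff P (RatFunc.algebraMap_ne_zero (Polynomial.X_sub_C_ne_zero α))]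
      exact le_antisymm (poly_le_one P hX _) (not_lt.1 fun hlt => h (huniq α P (by rwa [hxα])))
  have hordI : ∀ α, I.ord ((RatFunc.X : RatFunc k) - RatFunc.C α) = -1 := fun α => by
    rw [FunFld.Place.ord, hxα, poly_val_inf I hI (Polynomial.X_sub_C_ne_zero α), natDegree_X_sub_C, pow_one, val_X_inf I hI, log_exp]
  have hinj : ∀ α β, Pa α = Pa β → α = β := fun α β h => by
    have h1 := hprime α _ (hPX α) (hPa α) (Polynomial.X - Polynomial.C β)
    rw [← hxα] at h1
    have h2 := h1.1 (by rw [h]; exact hPa β)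
    rw [dvd_iff_isRoot] at h2
    simp at h2
    exact sub_eq_zero.1 h2
  have hPI : ∀ α, Pa α ≠ I := fun α h => (h ▸ hPX α).not_gt hI
  have hf0 : f ≠ 0 := fun h => by
    have := hpole (Pa 0) 0 h0 (hPa 0)
    rw [h, ord_zero] at this
    have := (hd 0 h0).pos
    omega
  have hordf : ∀ P : FunFld.Place k (RatFunc k), (∀ α ∈ B, P ≠ Pa α) → 0 ≤ P.ord f := fun P hP =>
    (val_le_one_iff P hf0).1 (hint P fun α hα => not_lt.1 fun h => hP α hα (huniq α P h))
  have hodd' : ∀ P : FunFld.Place k (RatFunc k), P.ord f < 0 → Odd (P.ord f) := fun P hP => by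
    by_cases h : ∃ α ∈ B, P = Pa α
    · obtain ⟨α, hα, rfl⟩ := h
      rw [hpole _ α hα (hPa α), odd_neg, Int.odd_coe_nat]; exact hd α hα
    · push Not at h; exact absurd hP (not_lt.2 (hordf P h))
  set c : k → ℕ := fun α => (d α - 1) / 2 with hc
  have hΔ : asDelta f = ∑ α ∈ B, Finsupp.single (Pa α) ((c α : ℤ) + 1) := Finsupp.ext fun P => by
    rw [asDelta_apply, Finsupp.finsetSum_apply]
    by_cases h : ∃ α ∈ B, P = Pa α
    · obtain ⟨α, hα, rfl⟩ := h
      rw [Finset.sum_eq_single α (fun β _ hβ => Finsupp.single_eq_of_ne fun e => hβ (hinj _ _ e).symm) (fun h => absurd hα h),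
        Finsupp.single_eq_same, hpole _ α hα (hPa α)]
      obtain ⟨m, hm⟩ := hd α hα
      rw [if_pos (by omega)]
      simp only [hc]
      omega
    · push Not at h
      rw [if_neg (not_lt.2 (hordf P h)), Finset.sum_eq_zero fun α hα => Finsupp.single_eq_of_ne (h α hα)]
  have hΔI : asDelta f I = 0 := by
    rw [asDelta_apply, if_neg (not_lt.2 (hordf I fun α _ => (hPI α).symm))]
  have hΔα : ∀ α ∈ B, asDelta f (Pa α) = (c α : ℤ) + 1 := fun α hα => by
    rw [hΔ, Finsupp.finsetSum_apply,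
      Finset.sum_eq_single α (fun β _ hβ => Finsupp.single_eq_of_ne fun e => hβ (hinj _ _ e).symm) (fun h => absurd hα h),
      Finsupp.single_eq_same]
  have hΔ0 : ∀ P, 0 ≤ asDelta f P := fun P => by rw [asDelta_apply]; split_ifs <;> omega
  set C := asDelta f - (2 : ℤ) • Finsupp.single I 1 with hC
  have hCI : C I = -2 := by rw [hC, Finsupp.sub_apply, Finsupp.smul_apply, Finsupp.single_eq_same, hΔI]; rfl
  have hCne : ∀ P, P ≠ I → C P = asDelta f P := fun P hP => by
    rw [hC, Finsupp.sub_apply, Finsupp.smul_apply, Finsupp.single_eq_of_ne hP, smul_zero, sub_zero]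
  have hdegC : C.deg = (∑ α ∈ B, ((c α : ℤ) + 1)) - 2 := by
    rw [hC, deg_sub, Finsupp.smul_single, deg_single, hId, hΔ, deg_finsetSum]
    have hdd : ∀ (α : k) (n : ℤ), FunFld.Divisor.deg (Finsupp.single (Pa α) n) = n := fun α n => by
      rw [deg_single, deg_eq_one hF]; simp
    rw [Finset.sum_congr rfl fun α _ => hdd α _]
    simp
  have hbot : FunFld.L (C - asDelta f) = ⊥ := L_eq_bot hF (by
    rw [deg_sub, hC, deg_sub, Finsupp.smul_single, deg_single, hId]; norm_num)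
  have hreg : ∀ z : K, (∀ P, LocRes.vDiff (φ P) z (algebraMap (RatFunc k) K RatFunc.X) ≤ 1) ↔ z ∈ FunFld.L (FunFld.conorm K C) := by
    intro z
    refine forall_congr' fun P => ?_
    rw [LocRes.vDiff, map_mul, (hφ P).1, as_dx hdeg hy heq hodd' I hI P (hφ P), ← hC, exp_neg,
      mul_inv_le_iff₀ exp_pos, one_mul]
  have hra : ∀ a P, P ≠ I → P.ord (r (Sum.inl a)) = -((a.1.2 : ℤ) + 1) * (if P = Pa (a.1.1 : k) then 1 else 0) := fun a P hP => by
    rw [hr, Sum.elim_inl, ord_pow, ord_inv, hord _ P hP]; push_cast; ring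
  have hX0 : (RatFunc.X : RatFunc k) = RatFunc.X - RatFunc.C 0 := by rw [map_zero, sub_zero]
  have hrb : ∀ b P, P ≠ I → P.ord (r (Sum.inr b)) = -(if P = Pa 0 then 1 else 0) - (if P = Pa (b.1 : k) then 1 else 0) := fun b P hP => by
    rw [hr, Sum.elim_inr, ord_div P ((_root_.map_ne_zero _).2 b.2) (mul_ne_zero RatFunc.X_ne_zero (hne _)),
      ord_mul P RatFunc.X_ne_zero (hne _), hord _ P hP, show P.ord (RatFunc.X : RatFunc k) = if P = Pa 0 then 1 else 0 from by
        rw [hX0, hord _ P hP], show P.ord (RatFunc.C (b.1 : k)) = 0 from by rw [← RatFunc.algebraMap_eq_C, ord_algebraMap]]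
    ring
  have hr0 : ∀ i, r i ≠ 0 := by
    rintro (a | b)
    · rw [hr, Sum.elim_inl]; exact pow_ne_zero _ (inv_ne_zero (hne _))
    · rw [hr, Sum.elim_inr]; exact div_ne_zero ((_root_.map_ne_zero _).2 b.2) (mul_ne_zero RatFunc.X_ne_zero (hne _))
  have hmem : ∀ i, r i ∈ FunFld.L C := by
    intro i
    rw [mem_L_iff (hr0 i)]
    intro P
    rcases eq_or_ne P I with rfl | hP
    · rw [hCI]
      rcases i with a | b
      · rw [hr, Sum.elim_inl, ord_pow, ord_inv, hordI]; have := a.2.1; push_cast; omega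
      · rw [hr, Sum.elim_inr, ord_div P ((_root_.map_ne_zero _).2 b.2) (mul_ne_zero RatFunc.X_ne_zero (hne _)),
          ord_mul P RatFunc.X_ne_zero (hne _), hordI, show P.ord (RatFunc.C (b.1 : k)) = 0 from by
            rw [← RatFunc.algebraMap_eq_C, ord_algebraMap], show P.ord (RatFunc.X : RatFunc k) = -1 from by rw [hX0, hordI]]
        norm_num
    · rw [hCne P hP]
      have hge := hΔ0 P
      rcases i with a | b
      · rw [hra a P hP]
        split_ifs with h
        · subst h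
          rw [hΔα _ a.1.1.2]
          have := a.2.2; simp only [hc]; omega
        · omega
      · rw [hrb b P hP]
        split_ifs with h1 h2 h3
        · exact absurd (hinj _ _ (h1.symm.trans h2)) (Ne.symm b.2)
        · subst h1; rw [hΔα 0 h0]; omega
        · subst h3; rw [hΔα _ b.1.2]; omega
        · omega
  have hli : LinearIndependent k r := by
    rw [linearIndependent_iff']
    intro s g hs
    by_contra! hne'
    obtain ⟨i, hi, hgi⟩ := hne'
    have hsup : ∀ (P : FunFld.Place k (RatFunc k)) (j : _) (_ : j ∈ s) (_ : g j ≠ 0),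
        (∀ l ∈ s, g l ≠ 0 → l ≠ j → P.ord (r j) < P.ord (r l)) → False := by
      intro P j hj hgj hlt
      have h : P.1 (∑ l ∈ s, g l • r l) = P.1 (g j • r j) := by
        refine Valuation.map_sum_eq_of_lt P.1 hj fun l hl => ?_
        rw [Finset.mem_sdiff, Finset.mem_singleton] at hl
        rw [val_smul P hgj, val_eq_exp P (hr0 j)]
        rcases eq_or_ne (g l) 0 with h | h
        · rw [h, zero_smul, map_zero]; exact zero_lt_iff.2 exp_ne_zero
        · rw [val_smul P h, val_eq_exp P (hr0 l), exp_lt_exp]; have := hlt l hl.1 h hl.2; omega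
      rw [hs, map_zero, val_smul P hgj] at h
      exact val_ne_zero P (hr0 j) h.symm
    by_cases ha : ∃ a, Sum.inl a ∈ s ∧ g (Sum.inl a) ≠ 0
    · obtain ⟨a₀, ha₀⟩ := ha
      obtain ⟨j, hj, hmax⟩ := (s.filter fun l => g l ≠ 0 ∧ ∃ a, l = Sum.inl a ∧ a.1.1 = a₀.1.1).exists_max_image
        (fun l => Sum.elim (fun a => a.1.2) (fun _ => 0) l) ⟨Sum.inl a₀, Finset.mem_filter.2 ⟨ha₀.1, ha₀.2, a₀, rfl, rfl⟩⟩
      obtain ⟨hjs, hgj, a, rfl, haa⟩ := Finset.mem_filter.1 hj
      refine hsup (Pa (a.1.1 : k)) _ hjs hgj fun l hl hgl hlne => ?_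
      rw [hra a _ (hPI _), if_pos rfl, mul_one]
      rcases l with a' | b'
      · rw [hra a' _ (hPI _)]
        split_ifs with h
        · have he := hinj _ _ h
          have hle := hmax (Sum.inl a') (Finset.mem_filter.2 ⟨hl, hgl, a', rfl, (Subtype.ext he.symm).trans haa⟩)
          simp only [Sum.elim_inl] at hle
          have : a'.1.2 ≠ a.1.2 := fun e => hlne (congrArg Sum.inl (Subtype.ext (Prod.ext (Subtype.ext he.symm) e)))
          omega
        · omega
      · rw [hrb b' _ (hPI _)]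
        have := a.2.1
        split_ifs with h1 h2 h3
        · exact absurd (hinj _ _ (h1.symm.trans h2)) (Ne.symm b'.2)
        all_goals omega
    · push Not at ha
      rcases i with a | b
      · exact hgi (ha a hi)
      refine hsup (Pa (b.1 : k)) _ hi hgi fun l hl hgl hlne => ?_
      rw [hrb b _ (hPI _), if_neg (fun e => b.2 (hinj _ _ e)), if_pos rfl]
      rcases l with a' | b'
      · exact absurd (ha a' hl) hgl
      · rw [hrb b' _ (hPI _), if_neg (fun e => b.2 (hinj _ _ e)),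
          if_neg (fun e => hlne (congrArg Sum.inr (Subtype.ext (Subtype.ext (hinj _ _ e).symm))))]
        omega
  haveI hfin := finite_L hF.1 C
  let E : (Σ α : ↥B, Fin (c (α : k))) ≃ {a : ↥B × ℕ // 1 ≤ a.2 ∧ 2 * a.2 + 1 ≤ d (a.1 : k)} :=
      { toFun := fun p => ⟨(p.1, (p.2 : ℕ) + 1), by have h2 := p.2.2; simp only [hc] at h2; show 1 ≤ (p.2 : ℕ) + 1 ∧ 2 * ((p.2 : ℕ) + 1) + 1 ≤ d (p.1 : k); constructor <;> omega⟩
        invFun := fun a => ⟨a.1.1, ⟨a.1.2 - 1, by have h1 := a.2.1; have h2 := a.2.2; simp only [hc]; omega⟩⟩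
        left_inv := fun p => by simp
        right_inv := fun a => by
          have h1 := a.2.1
          exact Subtype.ext (Prod.ext rfl (show a.1.2 - 1 + 1 = a.1.2 by omega)) }
  haveI := Fintype.ofEquiv _ E
  have hcard : Fintype.card ({a : ↥B × ℕ // 1 ≤ a.2 ∧ 2 * a.2 + 1 ≤ d (a.1 : k)}) = ∑ α ∈ B, c α := by
    rw [← Fintype.card_congr E, Fintype.card_sigma]
    simp [Finset.sum_attach B c]
  have hcard2 : Fintype.card {b : ↥B // (b : k) ≠ 0} + 1 = B.card := by
    have h : Fintype.card {b : ↥B // (b : k) ≠ 0} = Fintype.card ↥B - Fintype.card {b : ↥B // (b : k) = 0} :=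
      Fintype.card_subtype_compl _
    rw [show Fintype.card {b : ↥B // (b : k) = 0} = 1 from Fintype.card_eq_one_iff.2
      ⟨⟨⟨0, h0⟩, rfl⟩, fun b => Subtype.ext (Subtype.ext b.2)⟩, Fintype.card_coe] at h
    have : 1 ≤ B.card := Finset.card_pos.2 ⟨0, h0⟩
    omega
  have hspan : Submodule.span k (Set.range r) = FunFld.L C := by
    refine Submodule.eq_of_le_of_finrank_le (Submodule.span_le.2 (by rintro _ ⟨i, rfl⟩; exact hmem i)) ?_
    rw [finrank_span_eq_card hli, Fintype.card_sum]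
    have hB1 : 1 ≤ B.card := Finset.card_pos.2 ⟨0, h0⟩
    have hsum : (∑ α ∈ B, ((c α : ℤ) + 1)) = (∑ α ∈ B, c α : ℕ) + B.card := by
      rw [Finset.sum_add_distrib]; simp
    have h := rat_ell C (by rw [hdegC, hsum]; omega)
    rw [hdegC, hsum, FunFld.ell] at h
    omega
  refine ⟨fun i => (hreg _).2 ?_, hli.map' (IsScalarTower.toAlgHom k (RatFunc k) K).toLinearMap
    (LinearMap.ker_eq_bot.2 (algebraMap (RatFunc k) K).injective), fun z hz => ?_⟩
  · have h := (as_mem_L hdeg hy heq hodd' hK C (r i) 0).2 ⟨hmem i, zero_mem _⟩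
    rwa [map_zero, zero_mul, add_zero] at h
  · have hzL := (hreg z).1 hz
    obtain ⟨-, hdec⟩ := as_setup hdeg hy heq
    obtain ⟨a, b, rfl⟩ := hdec z
    obtain ⟨ha, hb⟩ := (as_mem_L hdeg hy heq hodd' hK C a b).1 hzL
    rw [hbot, Submodule.mem_bot] at hb
    subst hb
    rw [← hspan] at ha
    have h := Submodule.apply_mem_span_image_of_mem_span (IsScalarTower.toAlgHom k (RatFunc k) K).toLinearMap ha
    rw [← Set.range_comp] at h
    rw [map_zero, zero_mul, add_zero]
    exact h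

/-- Let `k` be algebraically closed of characteristic `2` and `K = k(x, y)` with `y² + y = f(x)`, `K`
separable of degree `2` over `k(x)`; let `B ⊆ k` be a finite set containing `0` such that `f` has a
pole of odd order `d_α` at `x = α` for every `α ∈ B` and is integral at all other places of `k(x)`
(so also at infinity), and put `c_α = (d_α - 1)/2`. Then the differentials `z dx` with `z = (x -
α)^{-(j+1)}` (`α ∈ B`, `1 ≤ j ≤ c_α`) and `z = α/(x(x-α))` (`α ∈ B`, `α ≠ 0`) are regular, this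
family of `z` is linearly independent over `k`, and every `z` with `z dx` regular is a `k`-linear
combination of them; regularity is read through Laurent expansions over `k` at every place of `K`.
(Up to sign these are the forms `x_α^{j-1} dx_α` and `x_α^{-1} dx_α - x_0^{-1} dx_0` with `x_α = (x
- α)^{-1}`.) -/
theorem result (k : Type u) (K : Type v)
    [Field k] [IsAlgClosed k] [CharP k 2] [Field K] [Algebra k K] [Algebra (RatFunc k) K] [IsScalarTower k (RatFunc k) K]
    (hK : FunFld.IsFunctionField k K) (hdeg : Module.finrank (RatFunc k) K = 2) [Algebra.IsSeparable (RatFunc k) K]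
    (y : K) (hy : y ∉ Set.range (algebraMap (RatFunc k) K)) (f : RatFunc k)
    (heq : y ^ 2 + y = algebraMap (RatFunc k) K f)
    (B : Finset k) (h0 : (0 : k) ∈ B) (d : k → ℕ) (hd : ∀ α ∈ B, Odd (d α))
    (hpole : ∀ (p : FunFld.Place k (RatFunc k)) (α : k), α ∈ B →
      p.1 ((RatFunc.X : RatFunc k) - RatFunc.C α) < 1 → p.ord f = -(d α : ℤ))
    (hint : ∀ p : FunFld.Place k (RatFunc k), (∀ α ∈ B, 1 ≤ p.1 ((RatFunc.X : RatFunc k) - RatFunc.C α)) → p.1 f ≤ 1)
    (F : FunFld.Place k K → Type w) [∀ P, Field (F P)] [∀ P, Algebra k (F P)] [∀ P, FiniteDimensional k (F P)]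
    (φ : ∀ P, K →ₐ[k] LaurentSeries (F P)) (hφ : ∀ P, LocRes.IsExpansionAt P.1 (φ P)) :
    (∀ i P, LocRes.vDiff (φ P) ((Sum.elim
        (fun a : {a : ↥B × ℕ // 1 ≤ a.2 ∧ 2 * a.2 + 1 ≤ d (a.1 : k)} => algebraMap (RatFunc k) K (((RatFunc.X : RatFunc k) - RatFunc.C (a.1.1 : k))⁻¹ ^ (a.1.2 + 1)))
        (fun b : {b : ↥B // (b : k) ≠ 0} => algebraMap (RatFunc k) K (RatFunc.C (b.1 : k) / ((RatFunc.X : RatFunc k) * ((RatFunc.X : RatFunc k) - RatFunc.C (b.1 : k)))))) i) (algebraMap (RatFunc k) K RatFunc.X) ≤ 1) ∧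
    LinearIndependent k (Sum.elim
        (fun a : {a : ↥B × ℕ // 1 ≤ a.2 ∧ 2 * a.2 + 1 ≤ d (a.1 : k)} => algebraMap (RatFunc k) K (((RatFunc.X : RatFunc k) - RatFunc.C (a.1.1 : k))⁻¹ ^ (a.1.2 + 1)))
        (fun b : {b : ↥B // (b : k) ≠ 0} => algebraMap (RatFunc k) K (RatFunc.C (b.1 : k) / ((RatFunc.X : RatFunc k) * ((RatFunc.X : RatFunc k) - RatFunc.C (b.1 : k)))))) ∧
    ∀ z : K, (∀ P, LocRes.vDiff (φ P) z (algebraMap (RatFunc k) K RatFunc.X) ≤ 1) →
      z ∈ Submodule.span k (Set.range (Sum.elim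
        (fun a : {a : ↥B × ℕ // 1 ≤ a.2 ∧ 2 * a.2 + 1 ≤ d (a.1 : k)} => algebraMap (RatFunc k) K (((RatFunc.X : RatFunc k) - RatFunc.C (a.1.1 : k))⁻¹ ^ (a.1.2 + 1)))
        (fun b : {b : ↥B // (b : k) ≠ 0} => algebraMap (RatFunc k) K (RatFunc.C (b.1 : k) / ((RatFunc.X : RatFunc k) * ((RatFunc.X : RatFunc k) - RatFunc.C (b.1 : k))))))) := by
  have h := main hK hdeg y hy f heq B h0 d hd hpole hint F φ hφ _ rfl
  have e : (fun i => algebraMap (RatFunc k) K ((Sum.elim
        (fun a : {a : ↥B × ℕ // 1 ≤ a.2 ∧ 2 * a.2 + 1 ≤ d (a.1 : k)} => ((RatFunc.X : RatFunc k) - RatFunc.C (a.1.1 : k))⁻¹ ^ (a.1.2 + 1))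
        (fun b : {b : ↥B // (b : k) ≠ 0} => RatFunc.C (b.1 : k) / ((RatFunc.X : RatFunc k) * ((RatFunc.X : RatFunc k) - RatFunc.C (b.1 : k))))) i)) = Sum.elim
        (fun a : {a : ↥B × ℕ // 1 ≤ a.2 ∧ 2 * a.2 + 1 ≤ d (a.1 : k)} => algebraMap (RatFunc k) K (((RatFunc.X : RatFunc k) - RatFunc.C (a.1.1 : k))⁻¹ ^ (a.1.2 + 1)))
        (fun b : {b : ↥B // (b : k) ≠ 0} => algebraMap (RatFunc k) K (RatFunc.C (b.1 : k) / ((RatFunc.X : RatFunc k) * ((RatFunc.X : RatFunc k) - RatFunc.C (b.1 : k))))) := by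
    funext i; cases i <;> rfl
  obtain ⟨h1, h2, h3⟩ := h
  refine ⟨fun i P => ?_, e ▸ h2, e ▸ h3⟩
  have := h1 i P
  cases i <;> simpa using this

end Groth.Agent.S19044
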