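import Groth.Statements.S19045
import Groth.Agent.FunFldLib.ASGenus
import Groth.Agent.S12587
import Mathlib

set_option autoImplicit false
universe u v
open FunFld

namespace Groth.Agent.S19045

set_option maxHeartbeats 1000000
open Groth.Agent.FunFldLib WithZero in
theorem facts {k K : Type*} [Field k] [IsAlgClosed k] [CharP k 2] [Field K] [Algebra k K] [Algebra (RatFunc k) K] [IsScalarTower k (RatFunc k) K]
    (hdeg : Module.finrank (RatFunc k) K = 2) [Algebra.IsSeparable (RatFunc k) K]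
    (y : K) (hy : y ∉ Set.range (algebraMap (RatFunc k) K)) (f : RatFunc k)
    (heq : y ^ 2 + y = algebraMap (RatFunc k) K f)
    (B : Finset k) (d : k → ℕ) (hd : ∀ α ∈ B, Odd (d α))
    (hpole : ∀ (p : FunFld.Place k (RatFunc k)) (α : k), α ∈ B →
      p.1 ((RatFunc.X : RatFunc k) - RatFunc.C α) < 1 → p.ord f = -(d α : ℤ))
    (hint : ∀ p : FunFld.Place k (RatFunc k), (∀ α ∈ B, 1 ≤ p.1 ((RatFunc.X : RatFunc k) - RatFunc.C α)) → p.1 f ≤ 1) :
    (∀ α ∈ B, ∀ P : FunFld.Place k K, P.1 (algebraMap (RatFunc k) K RatFunc.X - algebraMap k K α) < 1 →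
      P.ord y = -(d α : ℤ) ∧ P.ord (algebraMap (RatFunc k) K RatFunc.X - algebraMap k K α) = 2 ∧
      ∀ β, β ≠ α → P.ord (algebraMap (RatFunc k) K RatFunc.X - algebraMap k K β) = 0) ∧
    (∀ P : FunFld.Place k K, 1 < P.1 (algebraMap (RatFunc k) K RatFunc.X) →
      0 ≤ P.ord y ∧ ∀ β, P.ord (algebraMap (RatFunc k) K RatFunc.X - algebraMap k K β) = -1) ∧
    (∀ P : FunFld.Place k K, P.1 (algebraMap (RatFunc k) K RatFunc.X) ≤ 1 →
      (∀ β ∈ B, 1 ≤ P.1 (algebraMap (RatFunc k) K RatFunc.X - algebraMap k K β)) →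
      0 ≤ P.ord y ∧ ∀ β ∈ B, P.ord (algebraMap (RatFunc k) K RatFunc.X - algebraMap k K β) = 0) ∧
    (∃ P : FunFld.Place k K, 1 < P.1 (algebraMap (RatFunc k) K RatFunc.X) ∧ P.ord y = 0) := by
  classical
  haveI : CharP K 2 := charP_of_injective_algebraMap (algebraMap k K).injective 2
  haveI : FiniteDimensional (RatFunc k) K := Module.finite_of_finrank_eq_succ hdeg
  have hF := ratFunc_isFunctionField k
  have hy0 : y ≠ 0 := fun h => hy ⟨0, by rw [h, map_zero]⟩
  have hxα : ∀ α : k, (RatFunc.X : RatFunc k) - RatFunc.C α = algebraMap (Polynomial k) (RatFunc k) (Polynomial.X - Polynomial.C α) := fun α => by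
    rw [map_sub, RatFunc.algebraMap_X, RatFunc.algebraMap_C]
  have hne : ∀ α : k, (RatFunc.X : RatFunc k) - RatFunc.C α ≠ 0 := fun α => by
    rw [hxα]; exact RatFunc.algebraMap_ne_zero (Polynomial.X_sub_C_ne_zero α)
  have hal : ∀ α : k, algebraMap (RatFunc k) K RatFunc.X - algebraMap k K α = algebraMap (RatFunc k) K (RatFunc.X - RatFunc.C α) := fun α => by
    rw [map_sub, IsScalarTower.algebraMap_apply k (RatFunc k) K, RatFunc.algebraMap_eq_C]
  have hfin : ∀ (p : FunFld.Place k (RatFunc k)) (α : k), p.1 ((RatFunc.X : RatFunc k) - RatFunc.C α) < 1 →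
      p.1 RatFunc.X ≤ 1 := fun p α hlt => by
    by_contra h
    rw [hxα, poly_val_inf _ (not_le.1 h) (Polynomial.X_sub_C_ne_zero α), Polynomial.natDegree_X_sub_C, pow_one] at hlt
    exact hlt.not_gt (not_le.1 h)
  have hsep : ∀ (p : FunFld.Place k (RatFunc k)) (α β : k), p.1 ((RatFunc.X : RatFunc k) - RatFunc.C α) < 1 → β ≠ α →
      p.ord ((RatFunc.X : RatFunc k) - RatFunc.C β) = 0 := fun p α β hlt hb => by
    have hX := hfin p α hlt
    rw [← val_eq_one_iff p (hne β)]
    refine le_antisymm (by rw [hxα]; exact poly_le_one p hX _) (not_lt.1 fun h => ?_)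
    have h2 := (p.1.map_sub _ _).trans_lt (max_lt hlt h)
    rw [sub_sub_sub_cancel_left, ← map_sub, ← RatFunc.algebraMap_C, rat_val_C p (sub_ne_zero.2 hb)] at h2
    exact lt_irrefl _ h2
  have hord1 : ∀ (p : FunFld.Place k (RatFunc k)) (α : k), p.1 ((RatFunc.X : RatFunc k) - RatFunc.C α) < 1 →
      p.ord ((RatFunc.X : RatFunc k) - RatFunc.C α) = 1 := fun p α hlt => by
    have hX := hfin p α hlt
    have hprime : ∀ q, p.1 (algebraMap (Polynomial k) (RatFunc k) q) < 1 ↔ (Polynomial.X - Polynomial.C α) ∣ q := fun q => by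
      obtain ⟨p', hp, hpP⟩ := exists_prime p hX
      rw [hxα] at hlt
      rw [hpP, (hp.associated_of_dvd (Polynomial.irreducible_X_sub_C α) ((hpP _).1 hlt)).dvd_iff_dvd_left]
    rw [FunFld.Place.ord, hxα, val_prime _ hX (Polynomial.irreducible_X_sub_C α) hprime, log_exp, neg_neg]
  have hordI : ∀ (p : FunFld.Place k (RatFunc k)) (α : k), 1 < p.1 RatFunc.X →
      p.ord ((RatFunc.X : RatFunc k) - RatFunc.C α) = -1 := fun p α hI => by
    rw [FunFld.Place.ord, hxα, poly_val_inf p hI (Polynomial.X_sub_C_ne_zero α), Polynomial.natDegree_X_sub_C, pow_one, val_X_inf p hI, log_exp]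
  have hodd' : ∀ p : FunFld.Place k (RatFunc k), p.ord f < 0 → Odd (p.ord f) := fun p hp => by
    by_cases h : ∃ α ∈ B, p.1 ((RatFunc.X : RatFunc k) - RatFunc.C α) < 1
    · obtain ⟨α, hα, hlt⟩ := h
      rw [hpole p α hα hlt, odd_neg, Int.odd_coe_nat]; exact hd α hα
    · push Not at h
      have hf0 : f ≠ 0 := fun e => by rw [e, ord_zero] at hp; exact lt_irrefl _ hp
      exact absurd ((val_le_one_iff p hf0).1 (hint p h)) (not_le.2 hp)
  have gen : ∀ (P : FunFld.Place k K) (p : FunFld.Place k (RatFunc k)) (e : ℕ), FunFld.IsOverWith P p e →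
      (∀ α ∈ B, 1 ≤ p.1 ((RatFunc.X : RatFunc k) - RatFunc.C α)) → e = 1 ∧ 0 ≤ P.ord y := by
    intro P p e he h
    rcases as_local hdeg hy heq hodd' he with ⟨hlt, -, -⟩ | ⟨-, h1, h2⟩
    · have hf0 : f ≠ 0 := fun e0 => by rw [e0, ord_zero] at hlt; exact lt_irrefl _ hlt
      exact absurd ((val_le_one_iff p hf0).1 (hint p h)) (not_le.2 hlt)
    · exact ⟨h1, (val_le_one_iff P hy0).1 h2⟩
  have inf : ∀ P : FunFld.Place k K, 1 < P.1 (algebraMap (RatFunc k) K RatFunc.X) →
      0 ≤ P.ord y ∧ ∀ β, P.ord (algebraMap (RatFunc k) K RatFunc.X - algebraMap k K β) = -1 := by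
    intro P hP
    obtain ⟨p, e, he⟩ := exists_restrict hF.1 P
    have hI : 1 < p.1 RatFunc.X := by
      rw [he] at hP
      exact not_le.1 fun hc => absurd hP (not_lt.2 (pow_le_one₀ zero_le hc))
    obtain ⟨h1, h2⟩ := gen P p e he fun α _ => not_lt.1 fun h => (hfin p α h).not_gt hI
    refine ⟨h2, fun β => ?_⟩
    rw [hal, ord_algebraMap_eq he, hordI p β hI, h1]; rfl
  refine ⟨?_, inf, ?_, ?_⟩
  · intro α hα P hP
    obtain ⟨p, e, he⟩ := exists_restrict hF.1 P
    have hlt : p.1 (RatFunc.X - RatFunc.C α) < 1 := by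
      rw [hal, he] at hP
      exact not_le.1 fun hc => absurd hP (not_lt.2 (one_le_pow₀ hc))
    rcases as_local hdeg hy heq hodd' he with ⟨-, h1, h2⟩ | ⟨hge, -, -⟩
    · refine ⟨h2.trans (hpole p α hα hlt), ?_, fun β hb => ?_⟩
      · rw [hal, ord_algebraMap_eq he, hord1 p α hlt, h1]; rfl
      · rw [hal, ord_algebraMap_eq he, hsep p α β hlt hb, mul_zero]
    · rw [hpole p α hα hlt] at hge
      have := (hd α hα).pos
      omega
  · intro P hX hB
    obtain ⟨p, e, he⟩ := exists_restrict hF.1 P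
    have hB' : ∀ α ∈ B, 1 ≤ p.1 ((RatFunc.X : RatFunc k) - RatFunc.C α) := fun α hα => by
      have h := hB α hα
      rw [hal, he] at h
      exact not_lt.1 fun hc => absurd h (not_le.2 (pow_lt_one₀ zero_le hc (by have := isOverWith_pos he; omega)))
    have hX' : p.1 RatFunc.X ≤ 1 := by
      rw [he] at hX
      exact not_lt.1 fun hc => absurd hX (not_le.2 (one_lt_pow₀ hc (by have := isOverWith_pos he; omega)))
    obtain ⟨-, h2⟩ := gen P p e he hB'
    refine ⟨h2, fun β hβ => ?_⟩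
    have h1 : p.ord (RatFunc.X - RatFunc.C β) = 0 := by
      rw [← val_eq_one_iff p (hne β)]
      exact le_antisymm (by rw [hxα]; exact poly_le_one p hX' _) (hB' β hβ)
    rw [hal, ord_algebraMap_eq he, h1, mul_zero]
  · obtain ⟨I, hI⟩ := Groth.Agent.S12587.rat_pole (k := k)
    obtain ⟨P, e, he⟩ := exists_over (K' := K) hF I
    have hP : 1 < P.1 (algebraMap (RatFunc k) K RatFunc.X) := by
      rw [he]; exact one_lt_pow₀ hI (by have := isOverWith_pos he; omega)
    rcases eq_or_lt_of_le (inf P hP).1 with h | h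
    · exact ⟨P, hP, h.symm⟩
    · obtain ⟨⟨σ, hσ⟩, -⟩ := as_setup hdeg hy heq
      refine ⟨twist σ P, by rw [twist_val, σ.commutes]; exact hP, ?_⟩
      have hy1 : y + 1 ≠ 0 := fun h1 => hy ⟨-1, by rw [map_neg, map_one]; exact (eq_neg_of_add_eq_zero_left h1).symm⟩
      have : P.1 (y + 1) = 1 := by
        have hlt := (val_lt_one_iff P hy0).2 h
        rw [P.1.map_add_eq_of_lt_right (by rwa [map_one]), map_one]
      show -WithZero.log ((twist σ P).1 y) = 0
      rw [twist_val, hσ, this, log_one, neg_zero]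

/-- Let `k` be algebraically closed of characteristic `2` and `K = k(x, y)` with `y² + y = f(x)`, `K`
separable of degree `2` over `k(x)`; let `B ⊆ k` be a finite set containing `0` such that `f` has a
pole of odd order `d_β` at `x = β` for every `β ∈ B` and is integral at all other places of `k(x)`.
Then `y` is integral at the places of `K` above `x = ∞` and has order `0` at one of them, and for `α
∈ B` and `j ∈ ℤ` the divisor of poles of `y (x - α)^j` consists of: order `max(d_α - 2j, 0)` at the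
place above `α`, order exactly `d_β` above every other `β ∈ B`, order `max(j - ord_P y, 0)` at each
place `P` above `∞`, and nothing elsewhere. -/
theorem result (k : Type u) (K : Type v)
    [Field k] [IsAlgClosed k] [CharP k 2] [Field K] [Algebra k K] [Algebra (RatFunc k) K] [IsScalarTower k (RatFunc k) K]
    (hK : FunFld.IsFunctionField k K) (hdeg : Module.finrank (RatFunc k) K = 2) [Algebra.IsSeparable (RatFunc k) K]
    (y : K) (hy : y ∉ Set.range (algebraMap (RatFunc k) K)) (f : RatFunc k)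
    (heq : y ^ 2 + y = algebraMap (RatFunc k) K f)
    (B : Finset k) (h0 : (0 : k) ∈ B) (d : k → ℕ) (hd : ∀ β ∈ B, Odd (d β))
    (hpole : ∀ (p : FunFld.Place k (RatFunc k)) (β : k), β ∈ B →
      p.1 ((RatFunc.X : RatFunc k) - RatFunc.C β) < 1 → p.ord f = -(d β : ℤ))
    (hint : ∀ p : FunFld.Place k (RatFunc k), (∀ β ∈ B, 1 ≤ p.1 ((RatFunc.X : RatFunc k) - RatFunc.C β)) → p.1 f ≤ 1) :
    (∀ P : FunFld.Place k K, 1 < P.1 (algebraMap (RatFunc k) K RatFunc.X) → 0 ≤ P.ord y) ∧
    (∃ P : FunFld.Place k K, 1 < P.1 (algebraMap (RatFunc k) K RatFunc.X) ∧ P.ord y = 0) ∧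
    ∀ (α : k), α ∈ B → ∀ (j : ℤ) (P : FunFld.Place k K),
      (P.1 ((algebraMap (RatFunc k) K RatFunc.X) - (algebraMap k K α)) < 1 →
        max (-(P.ord (y * ((algebraMap (RatFunc k) K RatFunc.X) - (algebraMap k K α)) ^ j))) 0 = max ((d α : ℤ) - 2 * j) 0) ∧
      (∀ β : k, β ∈ B → β ≠ α → P.1 ((algebraMap (RatFunc k) K RatFunc.X) - (algebraMap k K β)) < 1 →
        P.ord (y * ((algebraMap (RatFunc k) K RatFunc.X) - (algebraMap k K α)) ^ j) = -(d β : ℤ)) ∧
      (1 < P.1 (algebraMap (RatFunc k) K RatFunc.X) → max (-(P.ord (y * ((algebraMap (RatFunc k) K RatFunc.X) - (algebraMap k K α)) ^ j))) 0 = max (j - P.ord y) 0) ∧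
      (P.1 (algebraMap (RatFunc k) K RatFunc.X) ≤ 1 → (∀ β : k, β ∈ B → 1 ≤ P.1 ((algebraMap (RatFunc k) K RatFunc.X) - (algebraMap k K β))) → 0 ≤ P.ord (y * ((algebraMap (RatFunc k) K RatFunc.X) - (algebraMap k K α)) ^ j)) := by
  obtain ⟨hat, hinf, hoth, hex⟩ := facts hdeg y hy f heq B d hd hpole hint
  have hy0 : y ≠ 0 := fun h => hy ⟨0, by rw [h, map_zero]⟩
  haveI : FiniteDimensional (RatFunc k) K := Module.finite_of_finrank_eq_succ hdeg
  refine ⟨fun P hP => (hinf P hP).1, hex, fun α hα j P => ?_⟩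
  have hne : ∀ γ : k, algebraMap (RatFunc k) K RatFunc.X - algebraMap k K γ ≠ 0 := fun γ h => by
    rw [IsScalarTower.algebraMap_apply k (RatFunc k) K, ← map_sub, map_eq_zero, RatFunc.algebraMap_eq_C,
      ← RatFunc.algebraMap_X, ← RatFunc.algebraMap_C, ← map_sub] at h
    exact Polynomial.X_sub_C_ne_zero γ ((map_eq_zero_iff _ (RatFunc.algebraMap_injective k)).1 h)
  have key : P.ord (y * (algebraMap (RatFunc k) K RatFunc.X - algebraMap k K α) ^ j) =
      P.ord y + j * P.ord (algebraMap (RatFunc k) K RatFunc.X - algebraMap k K α) := by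
    rw [Groth.Agent.FunFldLib.ord_mul P hy0 (zpow_ne_zero _ (hne α)), Groth.Agent.FunFldLib.ord_zpow]
  refine ⟨fun h => ?_, fun β hβ hb h => ?_, fun h => ?_, fun hX hB => ?_⟩
  · obtain ⟨h1, h2, -⟩ := hat α hα P h
    rw [key, h1, h2]; congr 1; ring
  · obtain ⟨h1, -, h3⟩ := hat β hβ P h
    rw [key, h1, h3 α (Ne.symm hb), mul_zero, add_zero]
  · rw [key, (hinf P h).2 α]; congr 1; ring
  · obtain ⟨h1, h2⟩ := hoth P hX hB
    rw [key, h2 α hα, mul_zero, add_zero]; exact h1

end Groth.Agent.S19045
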