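import Groth.Statements.S19046
import Groth.Agent.FunFldLib.ASGenus
import Groth.Agent.S12587

set_option autoImplicit false
universe u v
open Classical
open FunFld

namespace Groth.Agent.S19046

open Groth.Agent.FunFldLib WithZero Polynomial in
theorem main {k K : Type*}
    [Field k] [IsAlgClosed k] [CharP k 2] [Field K] [Algebra k K] [Algebra (RatFunc k) K] [IsScalarTower k (RatFunc k) K]
    (hK : FunFld.IsFunctionField k K) (hdeg : Module.finrank (RatFunc k) K = 2) [Algebra.IsSeparable (RatFunc k) K]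
    (y : K) (hy : y ∉ Set.range (algebraMap (RatFunc k) K)) (f : RatFunc k)
    (heq : y ^ 2 + y = algebraMap (RatFunc k) K f)
    (B : Finset k) (h0 : (0 : k) ∈ B) (d : k → ℕ) (hd : ∀ α ∈ B, Odd (d α))
    (hpole : ∀ (p : FunFld.Place k (RatFunc k)) (α : k), α ∈ B →
      p.1 ((RatFunc.X : RatFunc k) - RatFunc.C α) < 1 → p.ord f = -(d α : ℤ))
    (hint : ∀ p : FunFld.Place k (RatFunc k), (∀ α ∈ B, 1 ≤ p.1 ((RatFunc.X : RatFunc k) - RatFunc.C α)) → p.1 f ≤ 1)
    (Pl : k → FunFld.Place k K) (hPl : ∀ β ∈ B, (Pl β).1 ((algebraMap (RatFunc k) K RatFunc.X) - (algebraMap k K β)) < 1)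
    [DecidableEq (FunFld.Place k K)]
    (v : ({a : ↥B × ℕ // 1 ≤ a.2 ∧ 2 * a.2 + 1 ≤ d (a.1 : k)} ⊕ {b : ↥B // (b : k) ≠ 0}) → (FunFld.Place k K → K))
    (hv : v = Sum.elim
        (fun a : {a : ↥B × ℕ // 1 ≤ a.2 ∧ 2 * a.2 + 1 ≤ d (a.1 : k)} =>
          (Pi.single (Pl (a.1.1 : k)) (y * ((algebraMap (RatFunc k) K RatFunc.X) - (algebraMap k K (a.1.1 : k))) ^ a.1.2) : FunFld.Place k K → K))
        (fun b : {b : ↥B // (b : k) ≠ 0} => (Pi.single (Pl (b.1 : k)) y : FunFld.Place k K → K))) :
    (∀ i, v i ∈ FunFld.adele k K) ∧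
    LinearIndependent k (fun i => Submodule.mkQ (FunFld.AD (0 : FunFld.Divisor k K) ⊔ LinearMap.range (FunFld.diag k K)) (v i)) ∧
    ∀ a : FunFld.Place k K → K, a ∈ FunFld.adele k K →
      a ∈ (FunFld.AD (0 : FunFld.Divisor k K) ⊔ LinearMap.range (FunFld.diag k K)) ⊔ Submodule.span k (Set.range v) := by
  classical
  haveI : CharP K 2 := charP_of_injective_algebraMap (algebraMap k K).injective 2
  haveI : FiniteDimensional (RatFunc k) K := Module.finite_of_finrank_eq_succ hdeg
  have hF := ratFunc_isFunctionField k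
  obtain ⟨I, hI⟩ := Groth.Agent.S12587.rat_pole (k := k)
  have hId : I.deg = 1 := deg_inf I hI
  -- the places at the poles
  have hxα : ∀ α : k, (RatFunc.X : RatFunc k) - RatFunc.C α = algebraMap (Polynomial k) (RatFunc k) (Polynomial.X - Polynomial.C α) := fun α => by
    rw [map_sub, RatFunc.algebraMap_X, RatFunc.algebraMap_C]
  have hne : ∀ α : k, (RatFunc.X : RatFunc k) - RatFunc.C α ≠ 0 := fun α => by
    rw [hxα]; exact RatFunc.algebraMap_ne_zero (Polynomial.X_sub_C_ne_zero α)
  have hPex : ∀ α : k, ∃ P : FunFld.Place k (RatFunc k), P.1 ((RatFunc.X : RatFunc k) - RatFunc.C α) < 1 := fun α =>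
    exists_place_val_lt_one hF.1 (by
      rw [hxα, ← aeval_X_left_apply (Polynomial.X - Polynomial.C α), ← aeval_algebraMap_apply, RatFunc.algebraMap_X]
      exact RatFunc.transcendental_X.aeval_of_transcendental (Polynomial.transcendental _ (by simp)
        (mem_nonZeroDivisors_of_ne_zero (by simp))))
  choose Pa hPa using hPex
  have hPX : ∀ α, (Pa α).1 RatFunc.X ≤ 1 := fun α => by
    by_contra h
    have h' := hPa α
    rw [hxα, poly_val_inf _ (not_le.1 h) (Polynomial.X_sub_C_ne_zero α), natDegree_X_sub_C, pow_one] at h'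
    exact h'.not_gt (not_le.1 h)
  have hprime : ∀ (α : k) (P : FunFld.Place k (RatFunc k)), P.1 RatFunc.X ≤ 1 → P.1 ((RatFunc.X : RatFunc k) - RatFunc.C α) < 1 →
      ∀ q, P.1 (algebraMap (Polynomial k) (RatFunc k) q) < 1 ↔ (Polynomial.X - Polynomial.C α) ∣ q := fun α P hX hlt q => by
    obtain ⟨p, hp, hpP⟩ := exists_prime P hX
    rw [hxα] at hlt
    rw [hpP, (hp.associated_of_dvd (irreducible_X_sub_C α) ((hpP _).1 hlt)).dvd_iff_dvd_left]
  have huniq : ∀ (α : k) (P : FunFld.Place k (RatFunc k)), P.1 ((RatFunc.X : RatFunc k) - RatFunc.C α) < 1 → P = Pa α := fun α P hlt => by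
    have hX : P.1 RatFunc.X ≤ 1 := by
      by_contra h
      rw [hxα, poly_val_inf _ (not_le.1 h) (Polynomial.X_sub_C_ne_zero α), natDegree_X_sub_C, pow_one] at hlt
      exact hlt.not_gt (not_le.1 h)
    exact fin_unique hX (hPX α) (irreducible_X_sub_C α) (hprime α P hX hlt) (hprime α _ (hPX α) (hPa α))
  have hord : ∀ (α : k) (P : FunFld.Place k (RatFunc k)), P ≠ I → P.ord ((RatFunc.X : RatFunc k) - RatFunc.C α) = if P = Pa α then 1 else 0 := fun α P hP => by
    have hX : P.1 RatFunc.X ≤ 1 := not_lt.1 fun h => hP (inf_unique h hI)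
    split_ifs with h
    · subst h
      rw [FunFld.Place.ord, hxα, val_prime _ (hPX α) (irreducible_X_sub_C α) (hprime α _ (hPX α) (hPa α)), log_exp, neg_neg]
    · rw [hxα, ← val_eq_one_iff P (RatFunc.algebraMap_ne_zero (Polynomial.X_sub_C_ne_zero α))]
      exact le_antisymm (poly_le_one P hX _) (not_lt.1 fun hlt => h (huniq α P (by rwa [hxα])))
  have hordI : ∀ α, I.ord ((RatFunc.X : RatFunc k) - RatFunc.C α) = -1 := fun α => by
    rw [FunFld.Place.ord, hxα, poly_val_inf I hI (Polynomial.X_sub_C_ne_zero α), natDegree_X_sub_C, pow_one, val_X_inf I hI, log_exp]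
  have hinj : ∀ α β, Pa α = Pa β → α = β := fun α β h => by
    have h1 := hprime α _ (hPX α) (hPa α) (Polynomial.X - Polynomial.C β)
    rw [← hxα] at h1
    have h2 := h1.1 (by rw [h]; exact hPa β)
    rw [dvd_iff_isRoot] at h2
    simp at h2
    exact sub_eq_zero.1 h2
  have hPI : ∀ α, Pa α ≠ I := fun α h => (h ▸ hPX α).not_gt hI
  have hf0 : f ≠ 0 := fun h => by
    have := hpole (Pa 0) 0 h0 (hPa 0)
    rw [h, ord_zero] at this
    have := (hd 0 h0).pos
    omega
  have hordf : ∀ P : FunFld.Place k (RatFunc k), (∀ α ∈ B, P ≠ Pa α) → 0 ≤ P.ord f := fun P hP =>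
    (val_le_one_iff P hf0).1 (hint P fun α hα => not_lt.1 fun h => hP α hα (huniq α P h))
  have hodd' : ∀ P : FunFld.Place k (RatFunc k), P.ord f < 0 → Odd (P.ord f) := fun P hP => by
    by_cases h : ∃ α ∈ B, P = Pa α
    · obtain ⟨α, hα, rfl⟩ := h
      rw [hpole _ α hα (hPa α), odd_neg, Int.odd_coe_nat]; exact hd α hα
    · push Not at h; exact absurd hP (not_lt.2 (hordf P h))
  set c : k → ℕ := fun α => (d α - 1) / 2 with hc
  have hΔ : asDelta f = ∑ α ∈ B, Finsupp.single (Pa α) ((c α : ℤ) + 1) := Finsupp.ext fun P => by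
    rw [asDelta_apply, Finsupp.finsetSum_apply]
    by_cases h : ∃ α ∈ B, P = Pa α
    · obtain ⟨α, hα, rfl⟩ := h
      rw [Finset.sum_eq_single α (fun β _ hβ => Finsupp.single_eq_of_ne fun e => hβ (hinj _ _ e).symm) (fun h => absurd hα h),
        Finsupp.single_eq_same, hpole _ α hα (hPa α)]
      obtain ⟨m, hm⟩ := hd α hα
      rw [if_pos (by omega)]
      simp only [hc]
      omega
    · push Not at h
      rw [if_neg (not_lt.2 (hordf P h)), Finset.sum_eq_zero fun α hα => Finsupp.single_eq_of_ne (h α hα)]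
  have hΔI : asDelta f I = 0 := by
    rw [asDelta_apply, if_neg (not_lt.2 (hordf I fun α _ => (hPI α).symm))]
  have hΔα : ∀ α ∈ B, asDelta f (Pa α) = (c α : ℤ) + 1 := fun α hα => by
    rw [hΔ, Finsupp.finsetSum_apply,
      Finset.sum_eq_single α (fun β _ hβ => Finsupp.single_eq_of_ne fun e => hβ (hinj _ _ e).symm) (fun h => absurd hα h),
      Finsupp.single_eq_same]
  have hΔ0 : ∀ P, 0 ≤ asDelta f P := fun P => by rw [asDelta_apply]; split_ifs <;> omega
  set C := asDelta f - (2 : ℤ) • Finsupp.single I 1 with hC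
  have hCI : C I = -2 := by rw [hC, Finsupp.sub_apply, Finsupp.smul_apply, Finsupp.single_eq_same, hΔI]; rfl
  have hCne : ∀ P, P ≠ I → C P = asDelta f P := fun P hP => by
    rw [hC, Finsupp.sub_apply, Finsupp.smul_apply, Finsupp.single_eq_of_ne hP, smul_zero, sub_zero]
  have hdegC : C.deg = (∑ α ∈ B, ((c α : ℤ) + 1)) - 2 := by
    rw [hC, deg_sub, Finsupp.smul_single, deg_single, hId, hΔ, deg_finsetSum]
    have hdd : ∀ (α : k) (n : ℤ), FunFld.Divisor.deg (Finsupp.single (Pa α) n) = n := fun α n => by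
      rw [deg_single, deg_eq_one hF]; simp
    rw [Finset.sum_congr rfl fun α _ => hdd α _]
    simp
  let E : (Σ α : ↥B, Fin (c (α : k))) ≃ {a : ↥B × ℕ // 1 ≤ a.2 ∧ 2 * a.2 + 1 ≤ d (a.1 : k)} :=
      { toFun := fun p => ⟨(p.1, (p.2 : ℕ) + 1), by have h2 := p.2.2; simp only [hc] at h2; show 1 ≤ (p.2 : ℕ) + 1 ∧ 2 * ((p.2 : ℕ) + 1) + 1 ≤ d (p.1 : k); constructor <;> omega⟩
        invFun := fun a => ⟨a.1.1, ⟨a.1.2 - 1, by have h1 := a.2.1; have h2 := a.2.2; simp only [hc]; omega⟩⟩
        left_inv := fun p => by simp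
        right_inv := fun a => by
          have h1 := a.2.1
          exact Subtype.ext (Prod.ext rfl (show a.1.2 - 1 + 1 = a.1.2 by omega)) }
  haveI := Fintype.ofEquiv _ E
  have hcard : Fintype.card ({a : ↥B × ℕ // 1 ≤ a.2 ∧ 2 * a.2 + 1 ≤ d (a.1 : k)}) = ∑ α ∈ B, c α := by
    rw [← Fintype.card_congr E, Fintype.card_sigma]
    simp [Finset.sum_attach B c]
  have hcard2 : Fintype.card {b : ↥B // (b : k) ≠ 0} + 1 = B.card := by
    have h : Fintype.card {b : ↥B // (b : k) ≠ 0} = Fintype.card ↥B - Fintype.card {b : ↥B // (b : k) = 0} :=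
      Fintype.card_subtype_compl _
    rw [show Fintype.card {b : ↥B // (b : k) = 0} = 1 from Fintype.card_eq_one_iff.2
      ⟨⟨⟨0, h0⟩, rfl⟩, fun b => Subtype.ext (Subtype.ext b.2)⟩, Fintype.card_coe] at h
    have : 1 ≤ B.card := Finset.card_pos.2 ⟨0, h0⟩
    omega
  have hy0 : y ≠ 0 := fun h => hy ⟨0, by rw [h, map_zero]⟩
  obtain ⟨⟨σ, hσ⟩, hdec⟩ := as_setup hdeg hy heq
  -- places above the poles
  have hal : ∀ α : k, algebraMap (RatFunc k) K RatFunc.X - algebraMap k K α = algebraMap (RatFunc k) K (RatFunc.X - RatFunc.C α) := fun α => by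
    rw [map_sub, IsScalarTower.algebraMap_apply k (RatFunc k) K, RatFunc.algebraMap_eq_C]
  have hover : ∀ α ∈ B, FunFld.IsOverWith (Pl α) (Pa α) 2 := by
    intro α hα
    obtain ⟨P, e, he⟩ := exists_restrict hF.1 (Pl α)
    have h1 : P.1 (RatFunc.X - RatFunc.C α) < 1 := by
      have h := hPl α hα
      rw [hal, he] at h
      exact not_le.1 fun hc => absurd h (not_lt.2 (one_le_pow₀ hc))
    obtain rfl := huniq α P h1
    rcases as_local hdeg hy heq hodd' he with ⟨-, rfl, -⟩ | ⟨hge, -, -⟩
    · exact he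
    · rw [hpole _ α hα h1] at hge
      have := (hd α hα).pos
      omega
  have hPlinj : ∀ α ∈ B, ∀ β ∈ B, Pl α = Pl β → α = β := fun α hα β hβ h =>
    hinj α β (place_unique (hover α hα) (h ▸ hover β hβ)).1
  let al : ({a : ↥B × ℕ // 1 ≤ a.2 ∧ 2 * a.2 + 1 ≤ d (a.1 : k)} ⊕ {b : ↥B // (b : k) ≠ 0}) → k :=
    Sum.elim (fun a => (a.1.1 : k)) (fun b => (b.1 : k))
  let ex : ({a : ↥B × ℕ // 1 ≤ a.2 ∧ 2 * a.2 + 1 ≤ d (a.1 : k)} ⊕ {b : ↥B // (b : k) ≠ 0}) → ℕ :=
    Sum.elim (fun a => a.1.2) (fun _ => 0)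
  have halB : ∀ i, al i ∈ B := by rintro (a | b); exacts [a.1.1.2, b.1.2]
  have hval : ∀ i, v i = Pi.single (Pl (al i)) (y * aeval (algebraMap (RatFunc k) K RatFunc.X) ((Polynomial.X - Polynomial.C (al i)) ^ ex i)) := by
    rintro (a | b)
    · simp [hv, al, ex]
    · simp [hv, al, ex]
  have hvmem : ∀ i, v i ∈ FunFld.adele k K := fun i => by
    show ∀ᶠ P : FunFld.Place k K in Filter.cofinite, P.1 (v i P) ≤ 1
    rw [Filter.eventually_cofinite]
    refine (Set.finite_singleton (Pl (al i))).subset fun P hP => ?_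
    by_contra hne
    refine hP ?_
    show P.1 (v i P) ≤ 1
    rw [hval i, Pi.single_eq_of_ne (fun h => hne (Set.mem_singleton_iff.2 h)), map_zero]
    exact zero_le
  have hli : LinearIndependent k (fun i => Submodule.mkQ (FunFld.AD (0 : FunFld.Divisor k K) ⊔ LinearMap.range (FunFld.diag k K)) (v i)) := by
    rw [Fintype.linearIndependent_iff]
    intro g hg
    replace hg : (∑ i, g i • v i) ∈ FunFld.AD (0 : FunFld.Divisor k K) ⊔ LinearMap.range (FunFld.diag k K) := by
      rw [← Submodule.Quotient.mk_eq_zero, ← Submodule.mkQ_apply, map_sum]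
      simp only [map_smul]
      exact hg
    obtain ⟨r, hr, _, ⟨z, rfl⟩, hsum⟩ := Submodule.mem_sup.1 hg
    let q' : k → Polynomial k := fun α => ∑ i, if al i = α then Polynomial.C (g i) * Polynomial.X ^ ex i else 0
    let q : k → Polynomial k := fun α => (q' α).comp (Polynomial.X - Polynomial.C α)
    have hq'deg : ∀ α, (q' α).natDegree ≤ c α := fun α => by
      refine natDegree_sum_le_of_forall_le _ _ fun i _ => ?_
      split_ifs with h
      · refine (natDegree_C_mul_X_pow_le _ _).trans ?_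
        subst h
        rcases i with a | b
        · have := a.2.2; simp only [ex, al, Sum.elim_inl, hc]; omega
        · simp [ex]
      · simp
    have hSval : ∀ α ∈ B, (∑ i, g i • v i) (Pl α) = y * aeval (algebraMap (RatFunc k) K RatFunc.X) (q α) := fun α hα => by
      simp only [q, q', Polynomial.sum_comp, map_sum, Finset.mul_sum, Finset.sum_apply, Pi.smul_apply]
      refine Finset.sum_congr rfl fun i _ => ?_
      rw [hval i]
      by_cases h : al i = α
      · subst h
        rw [Pi.single_eq_same, if_pos rfl, mul_comp, C_comp, pow_comp, X_comp, map_mul, aeval_C, Algebra.smul_def]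
        ring
      · rw [Pi.single_eq_of_ne (fun e => h (hPlinj _ (halB i) _ hα e.symm)), if_neg h, smul_zero, zero_comp, map_zero, mul_zero]
    have hS0 : ∀ Q, (∀ α ∈ B, Q ≠ Pl α) → (∑ i, g i • v i) Q = 0 := fun Q hQ => by
      rw [Finset.sum_apply]
      refine Finset.sum_eq_zero fun i _ => ?_
      rw [Pi.smul_apply, hval i, Pi.single_eq_of_ne (hQ _ (halB i)), smul_zero]
    have hrQ : ∀ Q : FunFld.Place k K, Q.1 ((∑ i, g i • v i) Q - z) ≤ 1 := fun Q => by
      rw [← hsum, Pi.add_apply, show FunFld.diag k K z Q = z from rfl, add_sub_cancel_right]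
      have := hr Q
      rwa [Finsupp.zero_apply, exp_zero] at this
    obtain ⟨a, b, hz⟩ := hdec z
    have hσz : σ z - z = algebraMap (RatFunc k) K b := by
      rw [hz, map_add, map_mul, hσ, σ.commutes, σ.commutes]; ring
    have hnon : ∀ P : FunFld.Place k (RatFunc k), (∀ α ∈ B, P ≠ Pa α) → P.1 b ≤ 1 := fun P hP => by
      obtain ⟨Q, e, he⟩ := exists_over (K' := K) hF P
      have hQ : ∀ Q' : FunFld.Place k K, ∀ e', FunFld.IsOverWith Q' P e' → Q'.1 z ≤ 1 := fun Q' e' he' => by
        have h := hrQ Q'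
        rw [hS0 Q' (fun α hα hQ' => hP α hα (place_unique he' (hQ' ▸ hover α hα)).1), zero_sub, Valuation.map_neg] at h
        exact h
      have h : Q.1 (algebraMap (RatFunc k) K b) ≤ 1 := by
        rw [← hσz]
        exact (Q.1.map_sub _ _).trans (max_le (by rw [← twist_val]; exact hQ _ _ (isOverWith_twist he σ)) (hQ _ _ he))
      rw [he] at h
      exact (pow_le_one_iff_of_nonneg zero_le (Nat.one_le_iff_ne_zero.1 (isOverWith_pos he))).1 h
    have hat : ∀ α ∈ B, algebraMap (Polynomial k) (RatFunc k) (q α) = b ∨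
        (c α : ℤ) + 1 ≤ (Pa α).ord (algebraMap (Polynomial k) (RatFunc k) (q α) - b) := fun α hα => by
      have h := hrQ (Pl α)
      rw [hSval α hα, aeval_X_alg, hz,
        show y * algebraMap (RatFunc k) K (algebraMap (Polynomial k) (RatFunc k) (q α)) -
          (algebraMap (RatFunc k) K a + algebraMap (RatFunc k) K b * y) =
          -algebraMap (RatFunc k) K a + algebraMap (RatFunc k) K (algebraMap (Polynomial k) (RatFunc k) (q α) - b) * y by
            rw [map_sub]; ring] at h
      set w := algebraMap (Polynomial k) (RatFunc k) (q α) - b with hw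
      rcases eq_or_ne w 0 with h0' | h0'
      · exact Or.inl (sub_eq_zero.1 h0')
      refine Or.inr ?_
      obtain ⟨m, hm⟩ := hd α hα
      have hoy : (Pl α).ord y = -(d α : ℤ) := by
        rcases as_local hdeg hy heq hodd' (hover α hα) with ⟨-, -, ho⟩ | ⟨-, h2, -⟩
        · rw [ho, hpole _ α hα (hPa α)]
        · exact absurd h2 (by norm_num)
      have hwy : (Pl α).1 (algebraMap (RatFunc k) K w * y) = exp (-(2 * (Pa α).ord w - (d α : ℤ))) := by
        rw [map_mul, hover α hα, val_eq_exp _ h0', val_eq_exp _ hy0, hoy, ← exp_nsmul, ← exp_add, exp_inj, nsmul_eq_mul]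
        push_cast; ring
      have hle : (Pl α).1 (algebraMap (RatFunc k) K w * y) ≤ 1 := by
        rcases eq_or_ne a 0 with ha0 | ha0
        · rwa [ha0, map_zero, neg_zero, zero_add] at h
        · have hA : (Pl α).1 (-algebraMap (RatFunc k) K a) = exp (-(2 * (Pa α).ord a)) := by
            rw [Valuation.map_neg, hover α hα, val_eq_exp _ ha0, ← exp_nsmul, exp_inj, nsmul_eq_mul]; push_cast; ring
          rw [Valuation.map_add_of_distinct_val _ (by rw [hA, hwy, Ne, exp_inj]; omega), max_le_iff] at h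
          exact h.2
      rw [hwy, ← exp_zero, exp_le_exp] at hle
      simp only [hc]
      omega
    have hball : ∀ P : FunFld.Place k (RatFunc k), P.1 b ≤ 1 := fun P => by
      by_cases h : ∃ α ∈ B, P = Pa α
      · obtain ⟨α, hα, rfl⟩ := h
        rcases hat α hα with h' | h'
        · rw [← h']; exact poly_le_one _ (hPX α) _
        · rw [show b = algebraMap (Polynomial k) (RatFunc k) (q α) - (algebraMap (Polynomial k) (RatFunc k) (q α) - b) by ring]
          refine (Valuation.map_sub _ _ _).trans (max_le (poly_le_one _ (hPX α) _) ?_)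
          rcases eq_or_ne (algebraMap (Polynomial k) (RatFunc k) (q α) - b) 0 with e | e
          · rw [e, map_zero]; exact zero_le
          · rw [val_le_one_iff _ e]; omega
      · push Not at h; exact hnon P h
    obtain ⟨c0, rfl⟩ := hF.2 b (isAlgebraic_of_mem_L_zero hF.1 (fun P => by rw [Finsupp.zero_apply, exp_zero]; exact hball P))
    have hqc : ∀ α ∈ B, q' α = Polynomial.C c0 := fun α hα => by
      by_contra hne'
      set R := q' α - Polynomial.C c0 with hR
      have hR0 : R ≠ 0 := sub_ne_zero.2 hne'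
      have hqR : algebraMap (Polynomial k) (RatFunc k) (q α) - algebraMap k (RatFunc k) c0 =
          algebraMap (Polynomial k) (RatFunc k) (R.comp (Polynomial.X - Polynomial.C α)) := by
        rw [hR, sub_comp, C_comp, map_sub, IsScalarTower.algebraMap_apply k (Polynomial k) (RatFunc k), Polynomial.algebraMap_eq]
      obtain ⟨u, hu, hndvd⟩ := exists_eq_pow_rootMultiplicity_mul_and_not_dvd (R.comp (Polynomial.X - Polynomial.C α))
        (by rw [Ne, comp_eq_zero_iff]; rintro (h | ⟨-, h⟩); exacts [hR0 h, by simpa using congrArg natDegree h]) α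
      set n := (R.comp (Polynomial.X - Polynomial.C α)).rootMultiplicity α
      have hu0 : u ≠ 0 := fun h => hndvd (by rw [h]; exact dvd_zero _)
      have hRne : R.comp (Polynomial.X - Polynomial.C α) ≠ 0 := by
        rw [hu]; exact mul_ne_zero (pow_ne_zero _ (Polynomial.X_sub_C_ne_zero α)) hu0
      have hordR : (Pa α).ord (algebraMap (Polynomial k) (RatFunc k) (R.comp (Polynomial.X - Polynomial.C α))) = n := by
        rw [hu, map_mul, map_pow, ← hxα, ord_mul _ (pow_ne_zero _ (hne α)) (RatFunc.algebraMap_ne_zero hu0), ord_pow,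
          hord α _ (hPI α), if_pos rfl]
        have h1 : (Pa α).ord (algebraMap (Polynomial k) (RatFunc k) u) = 0 := by
          rw [← val_eq_one_iff _ (RatFunc.algebraMap_ne_zero hu0)]
          exact le_antisymm (poly_le_one _ (hPX α) _)
            (not_lt.1 fun h => hndvd ((hprime α _ (hPX α) (hPa α) u).1 h))
        rw [h1]; simp
      have hdeg' : n ≤ c α := by
        have h1 : n ≤ (R.comp (Polynomial.X - Polynomial.C α)).natDegree := by
          conv_rhs => rw [hu, natDegree_mul (pow_ne_zero _ (Polynomial.X_sub_C_ne_zero α)) hu0, natDegree_pow, natDegree_X_sub_C]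
          omega
        rw [natDegree_comp, natDegree_X_sub_C, mul_one] at h1
        exact h1.trans ((natDegree_sub_le _ _).trans (max_le (hq'deg α) (by rw [natDegree_C]; exact Nat.zero_le _)))
      rcases hat α hα with h | h
      · rw [h, sub_self] at hqR
        exact RatFunc.algebraMap_ne_zero hRne hqR.symm
      · rw [hqR, hordR] at h; omega
    have hcoef : ∀ i, (q' (al i)).coeff (ex i) = g i := fun i => by
      simp only [q', finsetSum_coeff]
      rw [Finset.sum_eq_single i]
      · rw [if_pos rfl, coeff_C_mul_X_pow, if_pos rfl]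
      · intro l _ hl
        split_ifs with h
        · rw [coeff_C_mul_X_pow, if_neg]
          intro he
          apply hl
          rcases l with a | b' <;> rcases i with a' | b''
          · exact congrArg Sum.inl (Subtype.ext (Prod.ext (Subtype.ext h) he.symm))
          · simp only [ex, Sum.elim_inl, Sum.elim_inr] at he; have := a.2.1; omega
          · simp only [ex, Sum.elim_inl, Sum.elim_inr] at he; have := a'.2.1; omega
          · exact congrArg Sum.inr (Subtype.ext (Subtype.ext h))
        · rw [coeff_zero]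
      · exact fun h => absurd (Finset.mem_univ i) h
    have hzero : (q' 0).coeff 0 = 0 := by
      simp only [q', finsetSum_coeff]
      refine Finset.sum_eq_zero fun i _ => ?_
      split_ifs with h
      · rw [coeff_C_mul_X_pow, if_neg]
        rcases i with a | b'
        · simp only [ex, Sum.elim_inl]; have := a.2.1; omega
        · exact absurd h b'.2
      · rw [coeff_zero]
    have hc0 : c0 = 0 := by rw [hqc 0 h0, coeff_C_zero] at hzero; exact hzero
    intro i
    rw [← hcoef i, hqc _ (halB i), hc0, map_zero, coeff_zero]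
  refine ⟨hvmem, hli, fun a ha => ?_⟩
  obtain ⟨hfin, hdim⟩ := adele_quot hK (0 : FunFld.Divisor k K)
  haveI := hfin
  let w := fun i => (FunFld.ADK (0 : FunFld.Divisor k K)).mkQ ⟨v i, hvmem i⟩
  have hw : LinearIndependent k w := by
    rw [Fintype.linearIndependent_iff] at hli ⊢
    intro g hg
    refine hli g ?_
    have h1 : (∑ i, g i • v i) ∈ FunFld.AD (0 : FunFld.Divisor k K) ⊔ LinearMap.range (FunFld.diag k K) := by
      have h2 : (∑ i, g i • (⟨v i, hvmem i⟩ : FunFld.adele k K)) ∈ FunFld.ADK (0 : FunFld.Divisor k K) := by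
        rw [← Submodule.Quotient.mk_eq_zero, ← Submodule.mkQ_apply, map_sum]
        simp only [map_smul]
        exact hg
      have h3 : ((∑ i, g i • (⟨v i, hvmem i⟩ : FunFld.adele k K) : FunFld.adele k K) : FunFld.Place k K → K) = ∑ i, g i • v i := by
        rw [AddSubmonoidClass.coe_finsetSum]; rfl
      rw [← h3]
      exact Submodule.mem_comap.1 h2
    have h4 : Submodule.mkQ (FunFld.AD (0 : FunFld.Divisor k K) ⊔ LinearMap.range (FunFld.diag k K)) (∑ i, g i • v i) = 0 :=
      (Submodule.Quotient.mk_eq_zero _).2 h1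
    rw [map_sum] at h4
    simp only [map_smul] at h4
    exact h4
  have hcardg : Fintype.card ({a : ↥B × ℕ // 1 ≤ a.2 ∧ 2 * a.2 + 1 ≤ d (a.1 : k)} ⊕ {b : ↥B // (b : k) ≠ 0}) =
      Module.finrank k (↥(FunFld.adele k K) ⧸ FunFld.ADK (0 : FunFld.Divisor k K)) := by
    have hg := as_genus hdeg hy heq hodd' hK
    have hdl : delta (0 : FunFld.Divisor k K) = 0 := by simp [delta, (ell_zero hK).2, deg_zero]
    have hsum : (asDelta f).deg = (∑ α ∈ B, c α : ℕ) + B.card := by
      have h1 : C.deg = (asDelta f).deg - 2 := by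
        rw [hC, deg_sub, Finsupp.smul_single, deg_single, hId]; norm_num
      rw [hdegC, Finset.sum_add_distrib] at h1
      simp only [Finset.sum_const, nsmul_eq_mul, mul_one] at h1
      push_cast; linarith
    rw [hdl, sub_zero] at hdim
    rw [Fintype.card_sum]
    omega
  have hspan := hw.span_eq_top_of_card_eq_finrank' hcardg
  have hmem : (FunFld.ADK (0 : FunFld.Divisor k K)).mkQ ⟨a, ha⟩ ∈ Submodule.span k (Set.range w) := by rw [hspan]; trivial
  rw [Submodule.mem_span_range_iff_exists_fun] at hmem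
  obtain ⟨g, hg⟩ := hmem
  simp only [w, ← map_smul, ← map_sum] at hg
  rw [Submodule.mkQ_apply, Submodule.mkQ_apply, Submodule.Quotient.eq] at hg
  have hg' : (∑ i, g i • v i) - a ∈ FunFld.AD (0 : FunFld.Divisor k K) ⊔ LinearMap.range (FunFld.diag k K) := by
    simpa [FunFld.ADK] using hg
  rw [show a = -((∑ i, g i • v i) - a) + ∑ i, g i • v i by abel]
  exact Submodule.add_mem_sup (Submodule.neg_mem _ hg') (Submodule.sum_mem _ fun i _ => Submodule.smul_mem _ _ (Submodule.subset_span ⟨i, rfl⟩))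

/-- Let `k` be algebraically closed of characteristic `2`, `K = k(x, y)` with `y² + y = f(x)` separable
of degree `2` over `k(x)`, `B ⊆ k` a finite set containing `0` with `f` having a pole of odd order
`d_β` at `x = β` for `β ∈ B` and integral elsewhere, `c_β = (d_β - 1)/2`, and `P_β` a place of `K`
above `x = β`. Identify `H¹(X, O)` of the smooth projective model with the repartitions (adeles with
components in `K`) modulo `W = A(0) + K` (everywhere-integral repartitions plus constants), a Čech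
class with defining component `h` at `β` corresponding to the repartition with component `h` at
`P_β` and `0` elsewhere. Then the repartitions supported at `P_α` with value `y (x - α)^j` (`α ∈ B`,
`1 ≤ j ≤ c_α`) and with value `y` (`α ∈ B`, `α ≠ 0`) are adeles whose classes modulo `W` are
linearly independent over `k` and, together with `W`, span the adeles: they give a basis of `H¹(X,
O)`. -/
theorem result (k : Type u) (K : Type v)
    [Field k] [IsAlgClosed k] [CharP k 2] [Field K] [Algebra k K] [Algebra (RatFunc k) K] [IsScalarTower k (RatFunc k) K]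
    (hK : FunFld.IsFunctionField k K) (hdeg : Module.finrank (RatFunc k) K = 2) [Algebra.IsSeparable (RatFunc k) K]
    (y : K) (hy : y ∉ Set.range (algebraMap (RatFunc k) K)) (f : RatFunc k)
    (heq : y ^ 2 + y = algebraMap (RatFunc k) K f)
    (B : Finset k) (h0 : (0 : k) ∈ B) (d : k → ℕ) (hd : ∀ β ∈ B, Odd (d β))
    (hpole : ∀ (p : FunFld.Place k (RatFunc k)) (β : k), β ∈ B →
      p.1 ((RatFunc.X : RatFunc k) - RatFunc.C β) < 1 → p.ord f = -(d β : ℤ))
    (hint : ∀ p : FunFld.Place k (RatFunc k), (∀ β ∈ B, 1 ≤ p.1 ((RatFunc.X : RatFunc k) - RatFunc.C β)) → p.1 f ≤ 1)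
    (Pl : k → FunFld.Place k K) (hPl : ∀ β ∈ B, (Pl β).1 ((algebraMap (RatFunc k) K RatFunc.X) - (algebraMap k K β)) < 1) :
    (∀ i, (Sum.elim
        (fun a : {a : ↥B × ℕ // 1 ≤ a.2 ∧ 2 * a.2 + 1 ≤ d (a.1 : k)} =>
          (Pi.single (Pl (a.1.1 : k)) (y * ((algebraMap (RatFunc k) K RatFunc.X) - (algebraMap k K (a.1.1 : k))) ^ a.1.2) : FunFld.Place k K → K))
        (fun b : {b : ↥B // (b : k) ≠ 0} => (Pi.single (Pl (b.1 : k)) y : FunFld.Place k K → K))) i ∈ FunFld.adele k K) ∧
    LinearIndependent k (fun i => Submodule.mkQ (FunFld.AD (0 : FunFld.Divisor k K) ⊔ LinearMap.range (FunFld.diag k K)) ((Sum.elim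
        (fun a : {a : ↥B × ℕ // 1 ≤ a.2 ∧ 2 * a.2 + 1 ≤ d (a.1 : k)} =>
          (Pi.single (Pl (a.1.1 : k)) (y * ((algebraMap (RatFunc k) K RatFunc.X) - (algebraMap k K (a.1.1 : k))) ^ a.1.2) : FunFld.Place k K → K))
        (fun b : {b : ↥B // (b : k) ≠ 0} => (Pi.single (Pl (b.1 : k)) y : FunFld.Place k K → K))) i)) ∧
    ∀ a : FunFld.Place k K → K, a ∈ FunFld.adele k K →
      a ∈ (FunFld.AD (0 : FunFld.Divisor k K) ⊔ LinearMap.range (FunFld.diag k K)) ⊔ Submodule.span k (Set.range (Sum.elim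
        (fun a : {a : ↥B × ℕ // 1 ≤ a.2 ∧ 2 * a.2 + 1 ≤ d (a.1 : k)} =>
          (Pi.single (Pl (a.1.1 : k)) (y * ((algebraMap (RatFunc k) K RatFunc.X) - (algebraMap k K (a.1.1 : k))) ^ a.1.2) : FunFld.Place k K → K))
        (fun b : {b : ↥B // (b : k) ≠ 0} => (Pi.single (Pl (b.1 : k)) y : FunFld.Place k K → K)))) := by
  classical
  exact main hK hdeg y hy f heq B h0 d hd hpole hint Pl hPl _ rfl

end Groth.Agent.S19046
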