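import Groth.Statements.S19047
import Groth.Agent.S19045
import Groth.Agent.FunFldLib.ASGenus
import Groth.Agent.FunFldLib.MapDiv
import Mathlib

set_option autoImplicit false
universe u v
open Classical
open FunFld

namespace Groth.Agent.S19047

set_option maxHeartbeats 1000000
open Groth.Agent.FunFldLib WithZero in
open Classical in
theorem single_mem {k K : Type*} [Field k] [IsAlgClosed k] [CharP k 2] [Field K] [Algebra k K] [Algebra (RatFunc k) K] [IsScalarTower k (RatFunc k) K]
    (hdeg : Module.finrank (RatFunc k) K = 2) [Algebra.IsSeparable (RatFunc k) K]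
    (y : K) (hy : y ∉ Set.range (algebraMap (RatFunc k) K)) (f : RatFunc k)
    (heq : y ^ 2 + y = algebraMap (RatFunc k) K f)
    (B : Finset k) (d : k → ℕ) (hd : ∀ α ∈ B, Odd (d α))
    (hpole : ∀ (p : FunFld.Place k (RatFunc k)) (α : k), α ∈ B →
      p.1 ((RatFunc.X : RatFunc k) - RatFunc.C α) < 1 → p.ord f = -(d α : ℤ))
    (hint : ∀ p : FunFld.Place k (RatFunc k), (∀ α ∈ B, 1 ≤ p.1 ((RatFunc.X : RatFunc k) - RatFunc.C α)) → p.1 f ≤ 1)
    (α : k) (hα : α ∈ B) (Q : FunFld.Place k K) (hQ : Q.1 (algebraMap (RatFunc k) K RatFunc.X - algebraMap k K α) < 1)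
    (g : RatFunc k) :
    (Pi.single Q (algebraMap (RatFunc k) K g) : FunFld.Place k K → K) ∈
      FunFld.AD (0 : FunFld.Divisor k K) ⊔ LinearMap.range (FunFld.diag k K) := by
  haveI : CharP K 2 := charP_of_injective_algebraMap (algebraMap k K).injective 2
  obtain ⟨hat, hinf, hoth, -⟩ := S19045.facts hdeg y hy f heq B d hd hpole hint
  haveI : FiniteDimensional (RatFunc k) K := Module.finite_of_finrank_eq_succ hdeg
  have hF := ratFunc_isFunctionField k
  set t : RatFunc k := RatFunc.X - RatFunc.C α with ht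
  have hal : algebraMap (RatFunc k) K RatFunc.X - algebraMap k K α = algebraMap (RatFunc k) K t := by
    rw [ht, map_sub, IsScalarTower.algebraMap_apply k (RatFunc k) K, RatFunc.algebraMap_eq_C]
  have ht0 : algebraMap (RatFunc k) K t ≠ 0 := fun h => by
    have := (hat α hα Q hQ).2.1
    rw [hal, h, ord_zero] at this
    omega
  obtain ⟨p, e, he⟩ := exists_restrict hF.1 Q
  have he2 : ∀ (Q' : FunFld.Place k K) (e' : ℕ), FunFld.IsOverWith Q' p e' →
      Q'.1 (algebraMap (RatFunc k) K t) < 1 ∧ e' = 2 * 1 ∧ p.ord t = 1 := by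
    intro Q' e' he'
    have hpt : p.1 t < 1 := by
      rw [hal, he] at hQ
      exact not_le.1 fun hc => absurd hQ (not_lt.2 (one_le_pow₀ hc))
    have hQ' : Q'.1 (algebraMap (RatFunc k) K t) < 1 := by
      rw [he']; exact pow_lt_one₀ zero_le hpt (by have := isOverWith_pos he'; omega)
    have h2 := (hat α hα Q' (by rwa [hal])).2.1
    rw [hal, ord_algebraMap_eq he'] at h2
    have hpos : 0 < p.ord t := (val_lt_one_iff p (fun h => ht0 (by rw [h, map_zero]))).1 hpt
    have hy2 := (hat α hα Q' (by rwa [hal])).1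
    rcases as_local hdeg hy heq (fun P hP => by
      by_cases h : ∃ β ∈ B, P.1 ((RatFunc.X : RatFunc k) - RatFunc.C β) < 1
      · obtain ⟨β, hβ, hlt⟩ := h
        rw [hpole P β hβ hlt, odd_neg, Int.odd_coe_nat]; exact hd β hβ
      · push Not at h
        have hf0 : f ≠ 0 := fun e => by rw [e, ord_zero] at hP; exact lt_irrefl _ hP
        exact absurd ((val_le_one_iff P hf0).1 (hint P h)) (not_le.2 hP)) he' with ⟨-, h1, -⟩ | ⟨hge, -, -⟩
    · subst h1
      exact ⟨hQ', rfl, by push_cast at h2; omega⟩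
    · rw [hpole p α hα (ht ▸ hpt)] at hge
      have := (hd α hα).pos
      omega
  have hpt1 := (he2 Q e he).2.2
  have huniq : ∀ Q' : FunFld.Place k K, Q'.1 (algebraMap (RatFunc k) K t) < 1 → Q' = Q := by
    intro Q' hQ'
    obtain ⟨p', e', he'⟩ := exists_restrict hF.1 Q'
    have hpp : p' = p := by
      have h1 : p'.1 t < 1 := by
        rw [he'] at hQ'
        exact not_le.1 fun hc => absurd hQ' (not_lt.2 (one_le_pow₀ hc))
      have h2 : p.1 t < 1 := by
        have hh := (he2 Q e he).1
        rw [he] at hh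
        exact not_le.1 fun hc => absurd hh (not_lt.2 (one_le_pow₀ hc))
      have hX : ∀ q : FunFld.Place k (RatFunc k), q.1 t < 1 → q.1 RatFunc.X ≤ 1 := fun q hq => by
        have : (RatFunc.X : RatFunc k) = t + RatFunc.C α := by rw [ht]; ring
        rw [this]
        exact (q.1.map_add _ _).trans (max_le hq.le (by rw [← RatFunc.algebraMap_eq_C]; exact q.2.1 α))
      have hprime : ∀ (q : FunFld.Place k (RatFunc k)), q.1 t < 1 → ∀ r, q.1 (algebraMap (Polynomial k) (RatFunc k) r) < 1 ↔ (Polynomial.X - Polynomial.C α) ∣ r := fun q hq r => by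
        obtain ⟨q', hq1, hq2⟩ := exists_prime q (hX q hq)
        rw [ht, ← RatFunc.algebraMap_X, ← RatFunc.algebraMap_C, ← map_sub] at hq
        rw [hq2, (hq1.associated_of_dvd (Polynomial.irreducible_X_sub_C α) ((hq2 _).1 hq)).dvd_iff_dvd_left]
      exact fin_unique (hX p' h1) (hX p h2) (Polynomial.irreducible_X_sub_C α) (hprime p' h1) (hprime p h2)
    subst hpp
    have hfo : {R : FunFld.Place k K | FunFld.IsOver R p'}.Finite := finite_over hF.1 p'
    have hsum := sum_ram_mul_deg hF p' hfo.toFinset (fun R => hfo.mem_toFinset)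
    rw [hdeg, deg_eq_one hF, mul_one] at hsum
    by_contra hne
    have hle : ∀ R ∈ hfo.toFinset, 2 ≤ FunFld.ramIdx R p' * R.deg := by
      intro R hR
      have hov : FunFld.IsOver R p' := hfo.mem_toFinset.1 hR
      have hw : FunFld.IsOverWith R p' (FunFld.ramIdx R p') := by
        rw [FunFld.ramIdx, dif_pos hov]; exact Nat.find_spec hov
      rw [(he2 R _ hw).2.1]
      have := deg_pos (isFF_extension (K' := K) hF.1) R
      omega
    have h1 : ({Q', Q} : Finset (FunFld.Place k K)) ⊆ hfo.toFinset := by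
      intro R hR
      simp only [Finset.mem_insert, Finset.mem_singleton] at hR
      rcases hR with rfl | rfl
      exacts [hfo.mem_toFinset.2 ⟨e', he'⟩, hfo.mem_toFinset.2 ⟨e, he⟩]
    have h2 := Finset.card_le_card h1
    rw [Finset.card_pair hne] at h2
    have h3 := Finset.card_nsmul_le_sum hfo.toFinset _ 2 hle
    rw [smul_eq_mul, hsum] at h3
    omega
  set W := FunFld.AD (0 : FunFld.Divisor k K) ⊔ LinearMap.range (FunFld.diag k K)
  have small : ∀ z : K, Q.1 z ≤ 1 → (Pi.single Q z : FunFld.Place k K → K) ∈ W := fun z hz => by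
    refine Submodule.mem_sup_left fun P => ?_
    rw [Finsupp.zero_apply, exp_zero]
    by_cases h : P = Q
    · subst h; rwa [Pi.single_eq_same]
    · rw [Pi.single_eq_of_ne h, map_zero]; exact zero_le
  have hkey : ∀ (n : ℕ) (c : k), (Pi.single Q (algebraMap k K c * ((algebraMap (RatFunc k) K t) ^ n)⁻¹) : FunFld.Place k K → K) ∈ W := by
    intro n c
    set h := algebraMap k K c * ((algebraMap (RatFunc k) K t) ^ n)⁻¹
    have : (Pi.single Q h : FunFld.Place k K → K) = ((Pi.single Q h : FunFld.Place k K → K) - FunFld.diag k K h) + FunFld.diag k K h := by abel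
    rw [this]
    refine Submodule.add_mem _ (Submodule.mem_sup_left fun P => ?_) (Submodule.mem_sup_right ⟨h, rfl⟩)
    rw [Finsupp.zero_apply, exp_zero]
    show P.1 ((Pi.single Q h : FunFld.Place k K → K) P - h) ≤ 1
    by_cases hP : P = Q
    · subst hP; rw [Pi.single_eq_same, sub_self, map_zero]; exact zero_le
    · rw [Pi.single_eq_of_ne hP, zero_sub, Valuation.map_neg, map_mul, map_inv₀, map_pow]
      refine mul_le_one' (P.2.1 c) (inv_le_one₀ (pow_pos (zero_lt_iff.2 (val_ne_zero P ht0)) n) |>.2 (one_le_pow₀ ?_))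
      exact not_lt.1 fun hlt => hP (huniq P hlt)
  suffices H : ∀ (n : ℕ) (g : RatFunc k), -(n : ℤ) ≤ p.ord g →
      (Pi.single Q (algebraMap (RatFunc k) K g) : FunFld.Place k K → K) ∈ W from H (p.ord g).natAbs g (by omega)
  intro n
  induction n with
  | zero =>
    intro g hg
    refine small _ ?_
    rcases eq_or_ne g 0 with rfl | hg0
    · rw [map_zero, map_zero]; exact zero_le
    · rw [he]; exact pow_le_one₀ zero_le ((val_le_one_iff p hg0).2 (by omega))
  | succ n ih =>
    intro g hg
    have ht0' : t ≠ 0 := fun h => ht0 (by rw [h, map_zero])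
    rcases eq_or_ne g 0 with rfl | hg0
    · exact ih 0 (by rw [ord_zero]; omega)
    have hz : p.1 (g * t ^ (n + 1)) ≤ 1 := by
      rw [val_le_one_iff p (mul_ne_zero hg0 (pow_ne_zero _ ht0')), ord_mul p hg0 (pow_ne_zero _ ht0'), ord_pow, hpt1]
      push_cast; omega
    obtain ⟨c, hc⟩ := exists_const hF p hz
    set g' := g - algebraMap k (RatFunc k) c * (t ^ (n + 1))⁻¹ with hg'
    have hsplit : algebraMap (RatFunc k) K g = algebraMap (RatFunc k) K g' +
        algebraMap k K c * ((algebraMap (RatFunc k) K t) ^ (n + 1))⁻¹ := by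
      rw [hg', map_sub, map_mul, map_inv₀, map_pow, ← IsScalarTower.algebraMap_apply]; ring
    rw [hsplit, Pi.single_add]
    refine Submodule.add_mem _ (ih g' ?_) (hkey _ c)
    rcases eq_or_ne g' 0 with h0 | h0
    · rw [h0, ord_zero]; omega
    have hmul : g' * t ^ (n + 1) = g * t ^ (n + 1) - algebraMap k (RatFunc k) c := by
      rw [hg', sub_mul, mul_assoc, inv_mul_cancel₀ (pow_ne_zero _ ht0'), mul_one]
    have h1 := (val_lt_one_iff p (mul_ne_zero h0 (pow_ne_zero _ ht0'))).1 (by rw [hmul]; exact hc)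
    rw [ord_mul p h0 (pow_ne_zero _ ht0'), ord_pow, hpt1] at h1
    push_cast at h1
    omega

/-- Let `k` be algebraically closed of characteristic `2`, `K = k(x, y)` with `y² + y = f(x)` separable
of degree `2` over `k(x)`, `B ⊆ k` a finite set containing `0` with `f` having a pole of odd order
`d_β` at `x = β` for `β ∈ B` and integral elsewhere, `c_β = (d_β - 1)/2`, and `P_β` a place of `K`
above `x = β`. With `H¹(X, O)` of the smooth projective model written as repartitions modulo `W =
A(0) + K` (everywhere-integral repartitions plus constants) and its Frobenius induced by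
componentwise squaring, for `α ∈ B` and `j ≥ 0`: the Frobenius of the class of the repartition
supported at `P_α` with value `y (x - α)^j` is the class of the one with value `y (x - α)^{2j}` when
`2j ≤ c_α`, and is `0` when `2j > c_α`. -/
theorem result (k : Type u) (K : Type v)
    [Field k] [IsAlgClosed k] [CharP k 2] [Field K] [Algebra k K] [Algebra (RatFunc k) K] [IsScalarTower k (RatFunc k) K]
    (hK : FunFld.IsFunctionField k K) (hdeg : Module.finrank (RatFunc k) K = 2) [Algebra.IsSeparable (RatFunc k) K]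
    (y : K) (hy : y ∉ Set.range (algebraMap (RatFunc k) K)) (f : RatFunc k)
    (heq : y ^ 2 + y = algebraMap (RatFunc k) K f)
    (B : Finset k) (h0 : (0 : k) ∈ B) (d : k → ℕ) (hd : ∀ β ∈ B, Odd (d β))
    (hpole : ∀ (p : FunFld.Place k (RatFunc k)) (β : k), β ∈ B →
      p.1 ((RatFunc.X : RatFunc k) - RatFunc.C β) < 1 → p.ord f = -(d β : ℤ))
    (hint : ∀ p : FunFld.Place k (RatFunc k), (∀ β ∈ B, 1 ≤ p.1 ((RatFunc.X : RatFunc k) - RatFunc.C β)) → p.1 f ≤ 1)
    (Pl : k → FunFld.Place k K) (hPl : ∀ β ∈ B, (Pl β).1 ((algebraMap (RatFunc k) K RatFunc.X) - (algebraMap k K β)) < 1)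
    (α : k) (hα : α ∈ B) (j : ℕ) :
    (4 * j + 1 ≤ d α → (Pi.single (Pl α) ((y * ((algebraMap (RatFunc k) K RatFunc.X) - (algebraMap k K α)) ^ j) ^ 2) : FunFld.Place k K → K) - (Pi.single (Pl α) (y * ((algebraMap (RatFunc k) K RatFunc.X) - (algebraMap k K α)) ^ (2 * j)) : FunFld.Place k K → K) ∈ (FunFld.AD (0 : FunFld.Divisor k K) ⊔ LinearMap.range (FunFld.diag k K))) ∧
    (d α < 4 * j + 1 → (Pi.single (Pl α) ((y * ((algebraMap (RatFunc k) K RatFunc.X) - (algebraMap k K α)) ^ j) ^ 2) : FunFld.Place k K → K) ∈ (FunFld.AD (0 : FunFld.Divisor k K) ⊔ LinearMap.range (FunFld.diag k K))) := by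
  classical
  obtain ⟨hat, -, -, -⟩ := S19045.facts hdeg y hy f heq B d hd hpole hint
  haveI : CharP K 2 := charP_of_injective_algebraMap (algebraMap k K).injective 2
  have hy0 : y ≠ 0 := fun h => hy ⟨0, by rw [h, map_zero]⟩
  set t := algebraMap (RatFunc k) K RatFunc.X - algebraMap k K α with ht
  have hal : t = algebraMap (RatFunc k) K (RatFunc.X - RatFunc.C α) := by
    rw [ht, map_sub, IsScalarTower.algebraMap_apply k (RatFunc k) K, RatFunc.algebraMap_eq_C]
  have hsq : (y * t ^ j) ^ 2 = algebraMap (RatFunc k) K (f * (RatFunc.X - RatFunc.C α) ^ (2 * j)) + y * t ^ (2 * j) := by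
    rw [map_mul, map_pow, ← hal, ← heq]
    have h2 : (2 : K) = 0 := CharTwo.two_eq_zero
    linear_combination (-(y * t ^ (2 * j))) * h2
  have hmem := single_mem hdeg y hy f heq B d hd hpole hint α hα (Pl α) (hPl α hα)
    (f * (RatFunc.X - RatFunc.C α) ^ (2 * j))
  refine ⟨fun _ => ?_, fun hlt => ?_⟩
  · rw [hsq, ← Pi.single_sub, add_sub_cancel_right]
    exact hmem
  · rw [hsq, Pi.single_add]
    refine Submodule.add_mem _ hmem (Submodule.mem_sup_left fun P => ?_)
    rw [Finsupp.zero_apply, WithZero.exp_zero]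
    by_cases h : P = Pl α
    · subst h
      rw [Pi.single_eq_same]
      have ht0 : t ≠ 0 := fun h => by
        have := (hat α hα (Pl α) (hPl α hα)).2.1
        rw [← ht, h, Groth.Agent.FunFldLib.ord_zero] at this
        omega
      rw [Groth.Agent.FunFldLib.val_le_one_iff _ (mul_ne_zero hy0 (pow_ne_zero _ ht0)),
        Groth.Agent.FunFldLib.ord_mul _ hy0 (pow_ne_zero _ ht0), Groth.Agent.FunFldLib.ord_pow,
        (hat α hα (Pl α) (hPl α hα)).1, ht, (hat α hα (Pl α) (hPl α hα)).2.1]
      push_cast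
      omega
    · rw [Pi.single_eq_of_ne h, map_zero]; exact zero_le

end Groth.Agent.S19047
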