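import Groth.Statements.S19048
import Groth.Agent.GcMod.Basic

set_option autoImplicit false
universe u
open Dieu

namespace Groth.Agent.S19048

open Groth.Agent.GcMod W4c6eohyperellchar2 in
theorem mem_Nfil (c : ℕ) (k : Type u) [Field k] (i : ℕ) (hi : i ≤ 2 * c) (v : GcMod c k) :
    v ∈ Nfil c k i ↔ (∀ n, i < n → n ≤ c → coefY v n = 0) ∧ (∀ n, 1 ≤ n → n ≤ c → n + i ≤ 2 * c → coefX v n = 0) := by
  constructor
  · intro hv
    induction hv using Submodule.span_induction with
    | mem x hx =>
      rcases hx with ⟨j, hj, rfl⟩ | ⟨j, hj, rfl⟩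
      · refine ⟨fun n h hn => ?_, fun n _ _ _ => coefX_Y j n⟩
        obtain ⟨hj1, hj2⟩ := hj
        rw [coefY_Y, if_neg]
        have := le_min_iff.1 hj2
        omega
      · refine ⟨fun n _ _ => coefY_X j n, fun n h1 hn h => ?_⟩
        obtain ⟨hj1, hj2⟩ := hj
        rw [coefX_X, if_neg]
        omega
    | zero => exact ⟨fun n _ _ => by simp [coefY], fun n _ _ _ => by simp [coefX]⟩
    | add x y _ _ hx hy =>
      exact ⟨fun n h hn => by rw [coefY_add, hx.1 n h hn, hy.1 n h hn, add_zero],
        fun n h1 hn h => by rw [coefX_add, hx.2 n h1 hn h, hy.2 n h1 hn h, add_zero]⟩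
    | smul t x _ hx =>
      exact ⟨fun n h hn => by rw [coefY_smul, hx.1 n h hn, mul_zero],
        fun n h1 hn h => by rw [coefX_smul, hx.2 n h1 hn h, mul_zero]⟩
  · rintro ⟨hY, hX⟩
    rw [sum_basis v]
    refine Submodule.add_mem _ (Submodule.sum_mem _ fun j _ => ?_) (Submodule.sum_mem _ fun j _ => ?_)
    · by_cases h : j.val + 1 + i ≤ 2 * c
      · have := hX _ (by omega) j.isLt h
        rw [coefX_succ] at this
        simp [this]
      · exact Submodule.smul_mem _ _ (Submodule.subset_span (Or.inr ⟨_, ⟨by omega, j.isLt⟩, rfl⟩))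
    · by_cases h : i < j.val + 1
      · have := hY _ h j.isLt
        rw [coefY_succ] at this
        simp [this]
      · exact Submodule.smul_mem _ _ (Submodule.subset_span (Or.inl ⟨_, ⟨by omega, le_min (by omega) j.isLt⟩, rfl⟩))

open Groth.Agent.GcMod W4c6eohyperellchar2 in
theorem coef_NV (c : ℕ) (k : Type u) [CommRing k] [ExpChar k 2] [PerfectRing k 2] (a : ℕ → k) (v : GcMod c k) :
    (∀ n, coefX (NV c k a v) n = 0) ∧ ∀ m, 1 ≤ m → m ≤ c → coefY (NV c k a v) m =
      (frobeniusEquiv k 2).symm (coefY v (2 * m)) + Finset.univ.sum (fun j : Fin c =>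
        if (j.val + 1) % 2 = 1 ∧ m + j.val / 2 ≤ c then
          (frobeniusEquiv k 2).symm (v.1 j * a (m + j.val / 2)) else 0) := by
  refine ⟨fun n => by unfold coefX NV; split <;> simp, fun m h1 hm => ?_⟩
  obtain ⟨m, rfl⟩ := Nat.exists_eq_add_of_le' h1
  rw [coefY, dif_pos ⟨h1, hm⟩]
  rfl

open Groth.Agent.GcMod W4c6eohyperellchar2 in
theorem NV_add (c : ℕ) (k : Type u) [CommRing k] [ExpChar k 2] [PerfectRing k 2] (a : ℕ → k) (v w : GcMod c k) :
    NV c k a (v + w) = NV c k a v + NV c k a w := by
  refine ext_coef (fun n _ _ => ?_) (fun m h1 hm => ?_)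
  · rw [(coef_NV c k a _).1, coefX_add, (coef_NV c k a _).1, (coef_NV c k a _).1, add_zero]
  · rw [(coef_NV c k a _).2 m h1 hm, coefY_add (NV c k a v), (coef_NV c k a _).2 m h1 hm, (coef_NV c k a _).2 m h1 hm,
      coefY_add, map_add, add_add_add_comm, ← Finset.sum_add_distrib]
    congr 1
    refine Finset.sum_congr rfl fun j _ => ?_
    split_ifs
    · simp [add_mul, map_add]
    · simp

open Groth.Agent.GcMod W4c6eohyperellchar2 in
theorem NV_mem (c : ℕ) (k : Type u) [Field k] [ExpChar k 2] [PerfectRing k 2] (a : ℕ → k) (i : ℕ) (hi : i ≤ 2 * c)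
    (v : GcMod c k) (hv : v ∈ Nfil c k i) : NV c k a v ∈ Nfil c k (i / 2) := by
  rw [mem_Nfil c k i hi] at hv
  rw [mem_Nfil c k _ (by omega)]
  refine ⟨fun m h hm => ?_, fun n _ _ _ => (coef_NV c k a v).1 n⟩
  rw [(coef_NV c k a v).2 m (by omega) hm]
  have h0 : coefY v (2 * m) = 0 := by
    by_cases hc : 2 * m ≤ c
    · exact hv.1 _ (by omega) hc
    · exact coefY_eq_zero v (Or.inr (by omega))
  rw [h0, map_zero, zero_add]
  refine Finset.sum_eq_zero fun j _ => ?_
  split_ifs with hj
  · have h2 := hv.2 (j.val + 1) (by omega) j.isLt (by omega)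
    rw [coefX_succ] at h2
    simp [h2]
  · rfl

open Groth.Agent.GcMod W4c6eohyperellchar2 in
theorem NV_surj (c : ℕ) (k : Type u) [Field k] [ExpChar k 2] [PerfectRing k 2] (a : ℕ → k) (ha : a c ≠ 0)
    (i : ℕ) (hi : i ≤ 2 * c) : ∀ (n : ℕ) (w : GcMod c k), w ∈ Nfil c k (i / 2) →
      (∀ m, n < m → m ≤ c → coefY w m = 0) → ∃ v ∈ Nfil c k i, NV c k a v = w
  | 0, w, hw, h => by
    rw [mem_Nfil c k _ (by omega)] at hw
    have hw0 : w = 0 := ext_coef (fun n h1 hn => by rw [hw.2 n h1 hn (by omega)]; simp [coefX])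
      (fun m h1 hm => by rw [h m h1 hm]; simp [coefY])
    refine ⟨0, Submodule.zero_mem _, ?_⟩
    have h2 := NV_add c k a 0 0
    rw [add_zero, left_eq_add] at h2
    rw [h2, hw0]
  | n + 1, w, hw, h => by
    by_cases hn : n + 1 ≤ i / 2
    · have hnc : n + 1 ≤ c := by omega
      set t := coefY w (n + 1) with ht
      obtain ⟨u, hu, hu1, hu2⟩ : ∃ u ∈ Nfil c k i, coefY (NV c k a u) (n + 1) = t ∧
          ∀ m, n + 1 < m → m ≤ c → coefY (NV c k a u) m = 0 := by
        by_cases h2 : 2 * (n + 1) ≤ c
        · refine ⟨t ^ 2 • Y c k (2 * (n + 1)), Submodule.smul_mem _ _ (Submodule.subset_span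
            (Or.inl ⟨_, ⟨by omega, le_min (by omega) h2⟩, rfl⟩)), ?_, fun m hm hmc => ?_⟩
          · rw [(coef_NV c k a _).2 _ (by omega) hnc, Finset.sum_eq_zero, add_zero, coefY_smul, coefY_Y,
              if_pos ⟨by omega, h2, rfl⟩, mul_one]
            · exact (frobeniusEquiv k 2).symm_apply_apply t
            · intro j _; split_ifs <;> simp [Y]
          · rw [(coef_NV c k a _).2 _ (by omega) hmc, Finset.sum_eq_zero, add_zero, coefY_smul, coefY_Y,
              if_neg (by omega), mul_zero, map_zero]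
            intro j _; split_ifs <;> simp [Y]
        · refine ⟨(t ^ 2 / a c) • X c k (2 * (c - (n + 1)) + 1), Submodule.smul_mem _ _ (Submodule.subset_span
            (Or.inr ⟨_, ⟨by omega, by omega⟩, rfl⟩)), ?_, fun m hm hmc => ?_⟩
          · rw [(coef_NV c k a _).2 _ (by omega) hnc, coefY_smul, coefY_X, mul_zero, map_zero, zero_add,
              Finset.sum_eq_single ⟨2 * (c - (n + 1)), by omega⟩]
            · rw [if_pos (by simp only; omega)]
              simp only [Prod.smul_fst, Pi.smul_apply, X, if_pos, smul_eq_mul, mul_one]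
              rw [show n + 1 + 2 * (c - (n + 1)) / 2 = c by omega, div_mul_cancel₀ _ ha]
              exact (frobeniusEquiv k 2).symm_apply_apply t
            · intro j _ hj
              have : j.val ≠ 2 * (c - (n + 1)) := fun h' => hj (Fin.ext h')
              split_ifs <;> simp [X, this]
            · exact fun h' => (h' (Finset.mem_univ _)).elim
          · rw [(coef_NV c k a _).2 _ (by omega) hmc, coefY_smul, coefY_X, mul_zero, map_zero, zero_add]
            refine Finset.sum_eq_zero fun j _ => ?_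
            split_ifs with hj
            · have : j.val ≠ 2 * (c - (n + 1)) := by omega
              simp [X, this]
            · rfl
      obtain ⟨v, hv, hvw⟩ := NV_surj c k a ha i hi n (w - NV c k a u)
        (Submodule.sub_mem _ hw (NV_mem c k a i hi u hu)) (fun m hm hmc => by
          have e := coefY_add (w - NV c k a u) (NV c k a u) m
          rw [sub_add_cancel] at e
          rcases Nat.lt_or_ge (n + 1) m with h3 | h3
          · rw [hu2 m h3 hmc, add_zero, h m h3 hmc] at e; exact e.symm
          · obtain rfl : m = n + 1 := by omega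
            rw [hu1, ← ht] at e
            exact left_eq_add.1 (e.trans (add_comm _ _)))
      exact ⟨v + u, Submodule.add_mem _ hv hu, by rw [NV_add, hvw, sub_add_cancel]⟩
    · refine NV_surj c k a ha i hi n w hw fun m hm hmc => ?_
      exact ((mem_Nfil c k _ (by omega) w).1 hw).1 m (by omega) hmc



/-- Let `k` be a perfect field of characteristic `2`, `c` a natural number and `a_1, …, a_c ∈ k` with
`a_c ≠ 0`. On the `2c`-dimensional `k`-space with basis `λ_1, …, λ_c, σ_1, …, σ_c` let `F` be
Frobenius-semilinear with `F λ_j = 0`, `F σ_j = σ_{2j}` for `2j ≤ c`, `F σ_j = Σ_{i=j}^{c} a_i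
λ_{2i-2j+1}` for `2j > c`, and `V` inverse-Frobenius-semilinear with `V λ_j = λ_{j/2}` (`j` even),
`0` (`j` odd), `V σ_j = 0` (`j` even), `V σ_j = Σ_{i=(j+1)/2}^{c} a_i^{1/2} λ_{i-(j-1)/2}` (`j` odd)
— the shape of `F` and `V` on the block of the first de Rham cohomology of `y² − y = f(x)` belonging
to a branch point with invariant `d = 2c + 1`, `a_i` the coefficients of the odd polynomial `f_α`.
Put `N_i = ⟨λ_1, …, λ_i⟩` for `i ≤ c` and `N_i = ⟨λ_1, …, λ_c, σ_{2c-i+1}, …, σ_c⟩` for `c ≤ i ≤
2c`. Then for `0 ≤ i ≤ 2c`: `dim N_i = i`, `V(N_i) = N_{⌊i/2⌋}` and `F⁻¹(N_i) = N_{c+⌈i/2⌉}`; so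
`(N_i)` is a final filtration with `dim V(N_i) = ⌊i/2⌋`. (The published statement adjoins the `σ_j`
starting from `σ_1`; then `V(N_{c+1})` contains `V σ_1`, whose `λ_c`-coefficient is a square root of
`a_c ≠ 0`, so it is not `N_{⌊(c+1)/2⌋}` once `c ≥ 2`; adjoining them from `σ_c` downward, as here,
makes both identities hold.) -/
theorem result (c : ℕ) (k : Type u) [Field k] [CharP k 2] [PerfectRing k 2]
    (a : ℕ → k) (ha : a c ≠ 0) (i : ℕ) (hi : i ≤ 2 * c) :
    Module.finrank k (W4c6eohyperellchar2.Nfil c k i) = i ∧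
      W4c6eohyperellchar2.NV c k a '' (W4c6eohyperellchar2.Nfil c k i : Set (W4c6eohyperellchar2.GcMod c k)) = (W4c6eohyperellchar2.Nfil c k (i / 2) : Set (W4c6eohyperellchar2.GcMod c k)) ∧
      W4c6eohyperellchar2.NF c k a ⁻¹' (W4c6eohyperellchar2.Nfil c k i : Set (W4c6eohyperellchar2.GcMod c k)) = (W4c6eohyperellchar2.Nfil c k (c + (i + 1) / 2) : Set (W4c6eohyperellchar2.GcMod c k)) := by
  classical
  refine ⟨?_, ?_, ?_⟩
  · let S : Finset (Fin c ⊕ Fin c) := (Finset.univ.filter fun x : Fin c => 2 * c - i < x.val + 1).disjSum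
      (Finset.univ.filter fun x : Fin c => x.val + 1 ≤ min i c)
    let eb := (Pi.basisFun k (Fin c)).prod (Pi.basisFun k (Fin c))
    have hX : ∀ x : Fin c, eb (Sum.inl x) = W4c6eohyperellchar2.X c k (x.val + 1) := fun x => by
      refine Prod.ext (funext fun j => ?_) (funext fun j => ?_) <;>
        simp [eb, W4c6eohyperellchar2.X, Module.Basis.prod_apply, Pi.single_apply, Fin.ext_iff]
    have hY : ∀ x : Fin c, eb (Sum.inr x) = W4c6eohyperellchar2.Y c k (x.val + 1) := fun x => by
      refine Prod.ext (funext fun j => ?_) (funext fun j => ?_) <;>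
        simp [eb, W4c6eohyperellchar2.Y, Module.Basis.prod_apply, Pi.single_apply, Fin.ext_iff]
    have hN : W4c6eohyperellchar2.Nfil c k i = Submodule.span k (Set.range fun s : S => eb s) := by
      refine le_antisymm (Submodule.span_le.2 ?_) (Submodule.span_le.2 ?_)
      · rintro _ (⟨n, ⟨h1, h2⟩, rfl⟩ | ⟨n, ⟨h1, h2⟩, rfl⟩)
        · have := le_min_iff.1 h2
          refine Submodule.subset_span ⟨⟨Sum.inr ⟨n - 1, by omega⟩, ?_⟩, ?_⟩
          · simp only [S, Finset.inr_mem_disjSum, Finset.mem_filter, Finset.mem_univ, true_and]; omega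
          · show eb (Sum.inr _) = _
            rw [hY]; congr 1; simp only; omega
        · refine Submodule.subset_span ⟨⟨Sum.inl ⟨n - 1, by omega⟩, ?_⟩, ?_⟩
          · simp only [S, Finset.inl_mem_disjSum, Finset.mem_filter, Finset.mem_univ, true_and]; omega
          · show eb (Sum.inl _) = _
            rw [hX]; congr 1; simp only; omega
      · rintro _ ⟨⟨x | x, hx⟩, rfl⟩
        · simp only [S, Finset.inl_mem_disjSum, Finset.mem_filter, Finset.mem_univ, true_and] at hx
          show eb (Sum.inl x) ∈ _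
          rw [hX]
          exact Submodule.subset_span (Or.inr ⟨_, ⟨hx, x.isLt⟩, rfl⟩)
        · simp only [S, Finset.inr_mem_disjSum, Finset.mem_filter, Finset.mem_univ, true_and] at hx
          show eb (Sum.inr x) ∈ _
          rw [hY]
          exact Submodule.subset_span (Or.inl ⟨_, ⟨by omega, hx⟩, rfl⟩)
    have hind : LinearIndependent k (fun s : S => eb s) := eb.linearIndependent.comp _ Subtype.val_injective
    rw [hN, finrank_span_eq_card hind, Fintype.card_coe, Finset.card_disjSum]
    have e1 : (Finset.univ.filter fun x : Fin c => 2 * c - i < x.val + 1).map Fin.valEmbedding = Finset.Ico (2 * c - i) c := by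
      ext n
      simp only [Finset.mem_map, Finset.mem_filter, Finset.mem_univ, true_and, Fin.valEmbedding_apply, Finset.mem_Ico]
      exact ⟨fun ⟨x, hx, hxn⟩ => by omega, fun ⟨h1, h2⟩ => ⟨⟨n, h2⟩, by simp only; omega, rfl⟩⟩
    have e2 : (Finset.univ.filter fun x : Fin c => x.val + 1 ≤ min i c).map Fin.valEmbedding = Finset.range (min i c) := by
      ext n
      simp only [Finset.mem_map, Finset.mem_filter, Finset.mem_univ, true_and, Fin.valEmbedding_apply, Finset.mem_range]
      exact ⟨fun ⟨x, hx, hxn⟩ => by omega, fun h => ⟨⟨n, lt_of_lt_of_le h (min_le_right _ _)⟩, by simp only; omega, rfl⟩⟩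
    have c1 := congrArg Finset.card e1
    have c2 := congrArg Finset.card e2
    rw [Finset.card_map, Nat.card_Ico] at c1
    rw [Finset.card_map, Finset.card_range] at c2
    rw [c1, c2]
    rcases min_choice i c with h | h <;> rw [h]
    · have := min_eq_left_iff.1 h; omega
    · have := min_eq_right_iff.1 h; omega
  · refine Set.Subset.antisymm ?_ fun w hw => ?_
    · rintro _ ⟨v, hv, rfl⟩
      exact NV_mem c k a i hi v hv
    · obtain ⟨v, hv, hvw⟩ := NV_surj c k a ha i hi c w hw fun m hm hmc => by omega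
      exact ⟨v, hv, hvw⟩
  · have hF : ∀ v : W4c6eohyperellchar2.GcMod c k,
        (∀ n, 1 ≤ n → n ≤ c → W4c6eohyperellchar2.coefX (W4c6eohyperellchar2.NF c k a v) n =
          if n % 2 = 0 then W4c6eohyperellchar2.coefX v (n / 2) ^ 2 else 0) ∧
        ∀ m, 1 ≤ m → m ≤ c → W4c6eohyperellchar2.coefY (W4c6eohyperellchar2.NF c k a v) m =
          if m % 2 = 1 then Finset.univ.sum (fun j : Fin c =>
            if c < 2 * (j.val + 1) ∧ (j.val + 1) + (m - 1) / 2 ≤ c then v.1 j ^ 2 * a ((j.val + 1) + (m - 1) / 2) else 0)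
          else 0 := by
      refine fun v => ⟨fun n h1 hn => ?_, fun m h1 hm => ?_⟩
      · obtain ⟨n, rfl⟩ := Nat.exists_eq_add_of_le' h1
        rw [W4c6eohyperellchar2.coefX, dif_pos ⟨h1, hn⟩]
        rfl
      · obtain ⟨m, rfl⟩ := Nat.exists_eq_add_of_le' h1
        rw [W4c6eohyperellchar2.coefY, dif_pos ⟨h1, hm⟩]
        rfl
    ext v
    rw [Set.mem_preimage, SetLike.mem_coe, SetLike.mem_coe, mem_Nfil c k i hi, mem_Nfil c k _ (by omega)]
    constructor
    · rintro ⟨hB, hA⟩
      refine ⟨fun n h hn => by omega, ?_⟩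
      intro l
      induction l using Nat.strong_induction_on with
      | _ l ih =>
        intro h1 hlc hl
        by_cases h2 : 2 * l ≤ c
        · have h3 := hA (2 * l) (by omega) h2 (by omega)
          rw [(hF v).1 _ (by omega) h2, if_pos (by omega), show 2 * l / 2 = l by omega] at h3
          exact sq_eq_zero_iff.1 h3
        · have h3 := hB (2 * (c - l) + 1) (by omega) (by omega)
          rw [(hF v).2 _ (by omega) (by omega), if_pos (by omega), Finset.sum_eq_single ⟨l - 1, by omega⟩] at h3
          · rw [if_pos (by simp only; omega), show l - 1 + 1 + (2 * (c - l) + 1 - 1) / 2 = c by omega, mul_eq_zero] at h3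
            rw [show l = (⟨l - 1, by omega⟩ : Fin c).val + 1 by simp only; omega, Groth.Agent.GcMod.coefX_succ]
            exact sq_eq_zero_iff.1 (h3.resolve_right ha)
          · intro j _ hj
            have : j.val ≠ l - 1 := fun h' => hj (Fin.ext h')
            split_ifs with hj2
            · have h4 := ih (j.val + 1) (by omega) (by omega) j.isLt (by omega)
              rw [Groth.Agent.GcMod.coefX_succ] at h4
              simp [h4]
            · rfl
          · exact fun h' => (h' (Finset.mem_univ _)).elim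
    · rintro ⟨-, hX⟩
      refine ⟨fun m h hm => ?_, fun n h1 hn h => ?_⟩
      · rw [(hF v).2 m (by omega) hm]
        split_ifs with hm2
        · refine Finset.sum_eq_zero fun j _ => ?_
          split_ifs with hj
          · have h4 := hX (j.val + 1) (by omega) j.isLt (by omega)
            rw [Groth.Agent.GcMod.coefX_succ] at h4
            simp [h4]
          · rfl
        · rfl
      · rw [(hF v).1 n h1 hn]
        split_ifs with hn2
        · rw [hX (n / 2) (by omega) (by omega) (by omega), zero_pow two_ne_zero]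
        · rfl

end Groth.Agent.S19048
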