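import Groth.Statements.S19092
import Mathlib

set_option autoImplicit false
universe u
open FrobAlg

namespace Groth.Agent.S19092

theorem finite_iff_exists {R S : Type u} [CommRing R] [CommRing S] (f : R →+* S) :
    f.Finite ↔ ∃ (n : ℕ) (g : Fin n → S), ∀ b, ∃ c : Fin n → R, b = ∑ i, f (c i) * g i := by
  letI := f.toAlgebra
  show Module.Finite R S ↔ _
  constructor
  · intro h
    obtain ⟨n, g, hg⟩ := Module.Finite.exists_fin (R := R) (M := S)
    refine ⟨n, g, fun b => ?_⟩
    obtain ⟨c, hc⟩ := (Submodule.mem_span_range_iff_exists_fun R).mp (hg ▸ Submodule.mem_top : b ∈ Submodule.span R (Set.range g))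
    exact ⟨c, hc.symm.trans (Finset.sum_congr rfl fun i _ => Algebra.smul_def _ _)⟩
  · rintro ⟨n, g, hg⟩
    refine Module.Finite.of_surjective (Fintype.linearCombination R g) fun b => ?_
    obtain ⟨c, rfl⟩ := hg b
    exact ⟨c, (Fintype.linearCombination_apply _ _ _).trans (Finset.sum_congr rfl fun i _ => Algebra.smul_def _ _)⟩


/-- Let p be a prime and A a commutative ring of characteristic p whose absolute Frobenius a ↦ a^p is a
finite ring homomorphism. Then the same holds for every quotient and every localization of A: for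
every ideal I of A such that A ⧸ I has characteristic p (every proper ideal) the absolute Frobenius
of A ⧸ I is finite, and for every submonoid S of A and every localization B of A at S of
characteristic p (every nonzero localization) the absolute Frobenius of B is finite. -/
theorem result (p : ℕ) [Fact p.Prime]
    (A : Type u) [CommRing A] [CharP A p] (hF : (frobenius A p).Finite) :
    (∀ (I : Ideal A) [CharP (A ⧸ I) p], (frobenius (A ⧸ I) p).Finite) ∧
      ∀ (S : Submonoid A) (B : Type u) [CommRing B] [Algebra A B] [IsLocalization S B] [CharP B p],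
        (frobenius B p).Finite := by
  obtain ⟨n, g, hg⟩ := (finite_iff_exists _).mp hF
  constructor
  · intro I _
    refine (finite_iff_exists _).mpr ⟨n, fun i => Ideal.Quotient.mk I (g i), fun b => ?_⟩
    obtain ⟨b, rfl⟩ := Ideal.Quotient.mk_surjective b
    obtain ⟨c, rfl⟩ := hg b
    exact ⟨fun i => Ideal.Quotient.mk I (c i), by simp [map_sum, frobenius_def]⟩
  · intro S B _ _ _ _
    refine (finite_iff_exists _).mpr ⟨n, fun i => algebraMap A B (g i), fun b => ?_⟩
    obtain ⟨⟨a, s⟩, hs⟩ := IsLocalization.surj S b
    obtain ⟨c, hc⟩ := hg (a * (s : A) ^ (p - 1))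
    obtain ⟨u, hu⟩ := IsLocalization.map_units B s
    refine ⟨fun i => algebraMap A B (c i) * ↑u⁻¹, ?_⟩
    have h1 := congrArg (algebraMap A B) hc
    simp only [map_sum, map_mul, frobenius_def, map_pow] at h1
    simp only [frobenius_def, mul_pow, mul_right_comm _ ((↑u⁻¹ : B) ^ p), ← Finset.sum_mul, ← h1]
    rw [← hs, ← hu]
    have hp := (Fact.out : p.Prime).one_lt
    rw [show (b * (u : B)) * (u : B) ^ (p - 1) * (↑u⁻¹ : B) ^ p = b * ((u : B) ^ p * (↑u⁻¹ : B) ^ p) by
      rw [show p = p - 1 + 1 by omega, pow_succ]; simp only [Nat.add_sub_cancel]; ring, ← mul_pow, Units.mul_inv,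
      one_pow, mul_one]

end Groth.Agent.S19092
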