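import Groth.Statements.S19093
import Mathlib
import Groth.Agent.S19092

set_option autoImplicit false
universe u
open FrobAlg

namespace Groth.Agent.S19093

theorem powerSeries_finite (p : ℕ) [Fact p.Prime] (k : Type u) [Field k] [CharP k p] [PerfectRing k p] :
    ∀ f : PowerSeries k, ∃ c : Fin p → PowerSeries k, f = ∑ i : Fin p, c i ^ p * PowerSeries.X ^ (i : ℕ) := by
  intro f
  classical
  haveI : CharP (PowerSeries k) p := charP_of_injective_ringHom (f := PowerSeries.C) PowerSeries.C_injective p
  let c : Fin p → PowerSeries k := fun i =>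
    PowerSeries.mk fun m => (frobeniusEquiv k p).symm (PowerSeries.coeff (p * m + i) f)
  have hp := (Fact.out : p.Prime)
  have hcp : ∀ i m, PowerSeries.coeff m (c i ^ p) =
      if p ∣ m then PowerSeries.coeff (p * (m / p) + i) f else 0 := by
    intro i m
    have hmap : PowerSeries.map (frobenius k p) (PowerSeries.expand p hp.ne_zero (c i)) = c i ^ p :=
      MvPowerSeries.map_frobenius_expand p hp.ne_zero
    rw [← hmap, PowerSeries.coeff_map, PowerSeries.coeff_expand]
    split_ifs with h
    · simp [c, frobenius_def]
    · simp [frobenius_def, zero_pow hp.ne_zero]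
  refine ⟨c, ?_⟩
  ext n
  rw [map_sum, Finset.sum_eq_single (⟨n % p, Nat.mod_lt _ hp.pos⟩ : Fin p)]
  · rw [PowerSeries.coeff_mul_X_pow', if_pos (Nat.mod_le n p), hcp]
    have h : n - n % p = p * (n / p) := by
      have := Nat.div_add_mod n p; omega
    rw [h, if_pos (dvd_mul_right _ _), Nat.mul_div_cancel_left _ hp.pos]
    rw [show p * (n / p) + n % p = n from Nat.div_add_mod n p]
  · intro i _ hi
    rw [PowerSeries.coeff_mul_X_pow']
    split_ifs with h
    · rw [hcp, if_neg]
      rintro ⟨q, hq⟩
      refine hi (Fin.ext ?_)
      have : n = p * q + i := by omega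
      show (i : ℕ) = n % p
      rw [this, Nat.mul_add_mod, Nat.mod_eq_of_lt i.2]
    · rfl
  · simp


/-- Let p be a prime, k a finite field of characteristic p, A a commutative k[[t]]-algebra of finite
type over the power series ring k[[t]], and P a prime ideal of A. Then the absolute Frobenius a ↦
a^p of the local ring A_P is a finite ring homomorphism. In particular every local ring of a scheme
of finite type over k[[t]] has finite absolute Frobenius. (The instance hypothesis that A_P has
characteristic p always holds, A_P being a nonzero algebra over k.) The published statement is for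
the local rings of a projective strictly semistable scheme over k[[t]] and adds that such a scheme
is regular with F-finite local rings; its proof uses only that the scheme is of finite type over
k[[t]], which is the form stated here. -/
theorem result (p : ℕ) [Fact p.Prime]
    (k : Type u) [Field k] [Finite k] [CharP k p]
    (A : Type u) [CommRing A] [Algebra (PowerSeries k) A] [Algebra.FiniteType (PowerSeries k) A]
    (P : Ideal A) [P.IsPrime] [CharP (Localization.AtPrime P) p] :
    (frobenius (Localization.AtPrime P) p).Finite := by
  classical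
  haveI : Fintype k := Fintype.ofFinite k
  haveI : CharP (PowerSeries k) p := charP_of_injective_ringHom (f := PowerSeries.C) PowerSeries.C_injective p
  obtain ⟨m, π, hπ⟩ := Algebra.FiniteType.iff_quotient_mvPolynomial''.mp
    (inferInstance : Algebra.FiniteType (PowerSeries k) A)
  let Q := MvPolynomial (Fin m) (PowerSeries k)
  haveI : CharP Q p := charP_of_injective_ringHom (f := MvPolynomial.C) (MvPolynomial.C_injective _ _) p
  let ι := Fin p × (Fin m → Fin p)
  let g : ι → Q := fun x => MvPolynomial.monomial (Finsupp.equivFunOnFinite.symm fun v => (x.2 v : ℕ)) (PowerSeries.X ^ (x.1 : ℕ))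
  let e := Fintype.equivFin ι
  have hQ : (frobenius Q p).Finite := by
    refine (Groth.Agent.S19092.finite_iff_exists _).mpr ⟨Fintype.card ι, g ∘ e.symm, fun b => ?_⟩
    suffices ∃ c : ι → Q, b = ∑ x, c x ^ p * g x by
      obtain ⟨c, rfl⟩ := this
      exact ⟨c ∘ e.symm, (e.symm.sum_comp fun x => c x ^ p * g x).symm⟩
    induction b using MvPolynomial.induction_on' with
    | add a b ha hb =>
      obtain ⟨⟨c, rfl⟩, ⟨d, rfl⟩⟩ := And.intro ha hb
      exact ⟨c + d, by simp [add_pow_char, add_mul, Finset.sum_add_distrib]⟩
    | monomial d f =>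
      obtain ⟨c, rfl⟩ := powerSeries_finite p k f
      let r : Fin m → Fin p := fun v => ⟨d v % p, Nat.mod_lt _ (Fact.out : p.Prime).pos⟩
      let q : Fin m →₀ ℕ := Finsupp.equivFunOnFinite.symm fun v => d v / p
      refine ⟨fun x => if x.2 = r then MvPolynomial.monomial q (c x.1) else 0, ?_⟩
      rw [Fintype.sum_prod_type]
      simp only [ite_pow, zero_pow (M₀ := Q) (Fact.out : p.Prime).ne_zero, ite_mul, zero_mul, Finset.sum_ite_eq',
        Finset.mem_univ, if_true, g, map_sum, MvPolynomial.monomial_pow, MvPolynomial.monomial_mul]
      refine Finset.sum_congr rfl fun i _ => ?_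
      erw [MvPolynomial.monomial_pow, MvPolynomial.monomial_mul]
      congr 2
      refine Finsupp.ext fun v => ?_
      simp only [q, r, Finsupp.add_apply, Finsupp.smul_apply, smul_eq_mul, Finsupp.equivFunOnFinite_symm_apply_apply]
      exact (Nat.div_add_mod (d v) p).symm
  haveI : Nontrivial A := (algebraMap A (Localization.AtPrime P)).domain_nontrivial
  haveI : CharP A p := (CharP.charP_iff_prime_eq_zero Fact.out).mpr (by
    rw [← map_natCast (algebraMap (PowerSeries k) A), CharP.cast_eq_zero, map_zero])
  have hA : (frobenius A p).Finite := by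
    obtain ⟨N, gQ, hgQ⟩ := (Groth.Agent.S19092.finite_iff_exists _).mp hQ
    refine (Groth.Agent.S19092.finite_iff_exists _).mpr ⟨N, fun i => π (gQ i), fun b => ?_⟩
    obtain ⟨b, rfl⟩ := hπ b
    obtain ⟨c, rfl⟩ := hgQ b
    exact ⟨fun i => π (c i), by simp [map_sum, frobenius_def]⟩
  exact (Groth.Agent.S19092.result p A hA).2 P.primeCompl (Localization.AtPrime P)

end Groth.Agent.S19093
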