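import Groth.Statements.S19098
import Mathlib
import Groth.Agent.BalProd6.Basic

set_option autoImplicit false
universe u
open CategoryTheory MonoidalCategory CartesianMonoidalCategory MonObj AlgebraicGeometry
open ChGrp

namespace Groth.Agent.S19098

set_option backward.isDefEq.respectTransparency.types false
open CategoryTheory.Limits


/-- Let S be a scheme, G an S-group scheme acting on an S-scheme X through a, and h an S-point of G. Let
i : Z → G be a homomorphism and ψ : Ψ → G a monomorphism with a G-action on Ψ under which ψ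
intertwines with conjugation, and o an S-point of Ψ over h, such that (Ψ, o) is the homogeneous
space G/Z for the fppf topology through the orbit map g ↦ g h g⁻¹ (so Z is the centralizer of h and
Ψ its conjugacy class). Let incl : X^h → X be a monomorphism whose points are the points of X fixed
by h, with the Z-action restricted from a; let σ : S_Ψ → G ×_S X be a monomorphism whose points are
the pairs (g, x) with g a point of Ψ and g x = x (the part of the global stabilizer over Ψ), with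
the G-action by conjugation on the first entry and by a on the second; and let Φ : G ×_S X^h → S_Ψ
be the morphism (g, x) ↦ (g h g⁻¹, g x). Then Φ makes S_Ψ, with its G-action, the balanced product G
×^Z X^h for the fppf topology: Φ is G-equivariant, it is a Z-torsor for the action z (g, x) = (g
z⁻¹, z x), and it has sections fppf-locally on S_Ψ. (The source works with algebraic spaces of
finite type over the complex numbers and a semisimple conjugacy class Ψ, where the identification of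
Ψ with G/Z comes from the theory of algebraic groups; here that identification is the hypothesis
hhom, the base is arbitrary and X is a scheme.) -/
theorem result
    {S : Scheme.{u}} {G X Z Ψ Xh SΨ : Over S} [GrpObj G] [GrpObj Z]
    (a : AlgGrp.Action G X) (h : 𝟙_ (Over S) ⟶ G)
    (i : Z ⟶ G) [IsMonHom i]
    (ψ : Ψ ⟶ G) [Mono ψ] (aΨ : AlgGrp.Action G Ψ)
    (hψ : aΨ.act ≫ ψ = fst G Ψ * (snd G Ψ ≫ ψ) * (fst G Ψ)⁻¹)
    (o : 𝟙_ (Over S) ⟶ Ψ) (ho : o ≫ ψ = h)
    (hhom : ChGrp.IsHomog Scheme.fppfPrecoverage i aΨ o)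
    (incl : Xh ⟶ X) [Mono incl]
    (hXh : ∀ (T : Over S) (x : T ⟶ X), (∃ y : T ⟶ Xh, y ≫ incl = x) ↔ lift (toUnit T ≫ h) x ≫ a.act = x)
    (aXh : AlgGrp.Action Z Xh) (hincl : AlgGrp.Action.IsEquivariant aXh (a.restrict i) incl)
    (σ : SΨ ⟶ G ⊗ X) [Mono σ]
    (hSΨ : ∀ (T : Over S) (g : T ⟶ G) (x : T ⟶ X),
      (∃ q : T ⟶ SΨ, q ≫ σ = lift g x) ↔ ((∃ y : T ⟶ Ψ, y ≫ ψ = g) ∧ lift g x ≫ a.act = x))
    (aS : AlgGrp.Action G SΨ)
    (hσ : aS.act ≫ σ = lift (fst G SΨ * (snd G SΨ ≫ σ ≫ fst G X) * (fst G SΨ)⁻¹)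
      (lift (fst G SΨ) (snd G SΨ ≫ σ ≫ snd G X) ≫ a.act))
    (Φ : G ⊗ Xh ⟶ SΨ)
    (hΦ : Φ ≫ σ = lift (fst G Xh * (toUnit (G ⊗ Xh) ≫ h) * (fst G Xh)⁻¹)
      (lift (fst G Xh) (snd G Xh ≫ incl) ≫ a.act)) :
    ChGrp.IsBalProd Scheme.fppfPrecoverage i aXh aS Φ := by
  have hdec : ∀ {T A B : Over S} (p : T ⟶ A ⊗ B), ∃ u v, p = lift u v := fun p =>
    ⟨p ≫ fst _ _, p ≫ snd _ _, by rw [← comp_lift, lift_fst_snd, Category.comp_id]⟩
  let cj := fun {T : Over S} (g : T ⟶ G) => g * (toUnit T ≫ h) * g⁻¹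
  have horb : ∀ {T : Over S} (g : T ⟶ G), (g ≫ aΨ.orbitMap o) ≫ ψ = cj g := fun {T} g => by
    rw [AlgGrp.Action.comp_orbitMap, Category.assoc, hψ, MonObj.comp_mul, MonObj.comp_mul, GrpObj.comp_inv, lift_fst, lift_snd_assoc,
      Category.assoc, ho]
  have hPhi : ∀ {T : Over S} (g : T ⟶ G) (x : T ⟶ Xh), lift g x ≫ Φ ≫ σ = lift (cj g) (lift g (x ≫ incl) ≫ a.act) := fun {T} g x => by
    rw [hΦ, comp_lift, MonObj.comp_mul, MonObj.comp_mul, GrpObj.comp_inv, lift_fst, comp_toUnit_assoc, comp_lift_assoc, lift_fst, lift_snd_assoc]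
  have hact : ∀ {T : Over S} (c : T ⟶ Z) (x : T ⟶ Xh), (lift c x ≫ aXh.act) ≫ incl = lift (c ≫ i) (x ≫ incl) ≫ a.act := fun c x => by
    rw [Category.assoc, hincl, lift_whiskerLeft_assoc, AlgGrp.Action.lift_restrict_act]
  have hconj : ∀ {T : Over S} (g : T ⟶ G) (c : T ⟶ Z), cj (g * (c ≫ i)) = cj g := fun {T} g c => by
    have e := congrArg (fun m => (lift g c ≫ m) ≫ ψ) hhom.2.1.w
    simp only [lift_fst_assoc, lift_whiskerLeft_assoc, Category.assoc] at e
    rw [← Category.assoc g, horb, ← Category.assoc (lift g (c ≫ i)), ← Hom.mul_def, ← Category.assoc, horb] at e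
    exact e.symm
  have hzinj : ∀ {T : Over S} (c c' : T ⟶ Z), c ≫ i = c' ≫ i → c = c' := fun {T} c c' e => by
    have := hhom.2.1.hom_ext (k := lift (1 : T ⟶ G) c) (l := lift (1 : T ⟶ G) c') (by rw [lift_fst, lift_fst])
      (by rw [lift_whiskerLeft_assoc, lift_whiskerLeft_assoc, e])
    simpa using congrArg (· ≫ snd G Z) this
  refine ⟨?_, ⟨⟨?_⟩, ⟨?_⟩⟩, ?_⟩
  · refine AlgGrp.Action.hom_ext_lift₂ fun T g p => (cancel_mono σ).mp ?_
    obtain ⟨g', x, rfl⟩ := hdec p
    rw [← Category.assoc (lift g (lift g' x)), AlgGrp.Action.lift_prod_act, AlgGrp.Action.lift_trivial_act, Category.assoc, Category.assoc,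
      Category.assoc, lift_whiskerLeft_assoc]
    show lift (lift g g' ≫ μ[G]) x ≫ Φ ≫ σ = _
    rw [← Hom.mul_def, hPhi, hσ, comp_lift, MonObj.comp_mul, MonObj.comp_mul, GrpObj.comp_inv, lift_fst, lift_snd_assoc, comp_lift_assoc, lift_fst,
      lift_snd_assoc, ← Category.assoc _ σ, ← Category.assoc _ σ, Category.assoc _ Φ σ, hPhi, lift_fst, lift_snd, AlgGrp.Action.lift_mul_act]
    simp only [cj, mul_inv_rev, _root_.mul_assoc]
  · refine AlgGrp.Action.hom_ext_lift₂ fun T c p => (cancel_mono σ).mp ?_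
    obtain ⟨g, x, rfl⟩ := hdec p
    rw [← Category.assoc, ChGrp.lift_twist_act, lift_snd_assoc, Category.assoc, Category.assoc, hPhi, hPhi]
    have e := hconj (g * (c ≫ i)⁻¹) c
    rw [inv_mul_cancel_right] at e
    rw [← e, hact, ← AlgGrp.Action.lift_mul_act, inv_mul_cancel_right]
  · have hex : ∀ {T : Over S} (p q : T ⟶ G ⊗ Xh), p ≫ Φ = q ≫ Φ → ∃ c : T ⟶ Z, lift c q ≫ (ChGrp.twist i aXh).act = p := by
      intro T p q e
      obtain ⟨g, x, rfl⟩ := hdec p
      obtain ⟨g', x', rfl⟩ := hdec q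
      have e2 := congrArg (· ≫ σ) e
      simp only [Category.assoc, hPhi] at e2
      have e3 : cj g = cj g' := by simpa using congrArg (· ≫ fst G X) e2
      have e4 : lift g (x ≫ incl) ≫ a.act = lift g' (x' ≫ incl) ≫ a.act := by simpa using congrArg (· ≫ snd G X) e2
      obtain ⟨m, hm1, hm2⟩ : ∃ m : T ⟶ G ⊗ Z, m ≫ fst G Z = g ∧ m ≫ (G ◁ i) ≫ μ[G] = g' :=
        ⟨hhom.2.1.lift g g' ((cancel_mono ψ).mp (by rw [horb, horb, e3])), hhom.2.1.lift_fst _ _ _, hhom.2.1.lift_snd _ _ _⟩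
      obtain ⟨g₀, c, rfl⟩ := hdec m
      rw [lift_fst] at hm1
      subst hm1
      rw [lift_whiskerLeft_assoc, ← Hom.mul_def] at hm2
      subst hm2
      refine ⟨c, ?_⟩
      rw [ChGrp.lift_twist_act, mul_inv_cancel_right]
      congr 1
      refine (cancel_mono incl).mp ?_
      have e5 := congrArg (fun y => lift g₀⁻¹ y ≫ a.act) e4
      simp only [← AlgGrp.Action.lift_mul_act, inv_mul_cancel, inv_mul_cancel_left, AlgGrp.Action.lift_one_act] at e5
      rw [hact, e5]
    refine CategoryTheory.Limits.PullbackCone.IsLimit.mk _ (fun s => lift (hex s.fst s.snd s.condition).choose s.snd)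
      (fun s => (hex s.fst s.snd s.condition).choose_spec) (fun s => lift_snd _ _) fun s m h1 h2 => ?_
    obtain ⟨c, q, rfl⟩ := hdec m
    rw [lift_snd] at h2
    subst h2
    have hs := (hex s.fst s.snd s.condition).choose_spec
    generalize (hex s.fst s.snd s.condition).choose = c₀ at hs ⊢
    obtain ⟨g, x, hgx⟩ := hdec s.snd
    rw [hgx] at h1 hs ⊢
    have e1 := h1.trans hs.symm
    rw [ChGrp.lift_twist_act, ChGrp.lift_twist_act] at e1
    have e2 := congrArg (· ≫ fst G Xh) e1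
    simp only [lift_fst] at e2
    rw [hzinj _ _ (inv_injective (mul_left_cancel e2))]
  · obtain ⟨pY, hpY⟩ : ∃ pY : SΨ ⟶ Ψ, pY ≫ ψ = σ ≫ fst G X :=
      ((hSΨ SΨ (σ ≫ fst G X) (σ ≫ snd G X)).mp ⟨𝟙 _, by rw [Category.id_comp, ← comp_lift, lift_fst_snd, Category.comp_id]⟩).1
    have hfix : lift (σ ≫ fst G X) (σ ≫ snd G X) ≫ a.act = σ ≫ snd G X :=
      ((hSΨ SΨ (σ ≫ fst G X) (σ ≫ snd G X)).mp ⟨𝟙 _, by rw [Category.id_comp, ← comp_lift, lift_fst_snd, Category.comp_id]⟩).2
    obtain ⟨R, hR, hs⟩ := hhom.2.2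
    refine ⟨R.pullbackArrows pY.left, Precoverage.pullbackArrows_mem pY.left hR, ?_⟩
    rintro _ _ ⟨U, f, hf⟩
    obtain ⟨sU, hsU⟩ := hs f hf
    have hsU' : sU ≫ (aΨ.orbitMap o).left = f := hsU
    let T : Over S := Over.mk (Limits.pullback.snd f pY.left ≫ SΨ.hom)
    let p : T ⟶ SΨ := Over.homMk (Limits.pullback.snd f pY.left) rfl
    let g : T ⟶ G := Over.homMk (Limits.pullback.fst f pY.left ≫ sU) (by
      show _ = Limits.pullback.snd f pY.left ≫ SΨ.hom
      rw [← Over.w (aΨ.orbitMap o), ← Over.w pY, Category.assoc, ← Category.assoc sU, hsU', ← Category.assoc,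
        Limits.pullback.condition, Category.assoc])
    have hg : g ≫ aΨ.orbitMap o = p ≫ pY := Over.OverMorphism.ext (by
      show (Limits.pullback.fst f pY.left ≫ sU) ≫ (aΨ.orbitMap o).left = Limits.pullback.snd f pY.left ≫ pY.left
      rw [Category.assoc, hsU', Limits.pullback.condition])
    have hc : cj g = p ≫ σ ≫ fst G X := by rw [← horb, hg, Category.assoc, hpY]
    set x₀ := p ≫ σ ≫ snd G X with hx₀
    have hf' : lift (cj g) x₀ ≫ a.act = x₀ := by
      have := congrArg (p ≫ ·) hfix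
      simp only [comp_lift_assoc] at this
      rwa [← hc] at this
    obtain ⟨y, hy⟩ := (hXh T (lift g⁻¹ x₀ ≫ a.act)).mpr (by
      conv_rhs => rw [← hf']
      rw [← AlgGrp.Action.lift_mul_act, ← AlgGrp.Action.lift_mul_act]
      simp only [cj, _root_.mul_assoc, inv_mul_cancel_left])
    refine ⟨(lift g y).left, congrArg (fun m => m.left) (show lift g y ≫ Φ = p from (cancel_mono σ).mp ?_)⟩
    rw [Category.assoc, hPhi, hy, ← AlgGrp.Action.lift_mul_act, mul_inv_cancel, AlgGrp.Action.lift_one_act, hc, hx₀,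
      ← comp_lift, ← comp_lift, lift_fst_snd, Category.comp_id]

end Groth.Agent.S19098
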