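import Groth.Statements.S19099
import Mathlib
import Groth.Agent.BalProd6.Basic
import Groth.Agent.FpqcDescent.Embedding

set_option autoImplicit false
universe u
open CategoryTheory MonoidalCategory CartesianMonoidalCategory MonObj AlgebraicGeometry
open ChGrp

namespace Groth.Agent.S19099

set_option backward.isDefEq.respectTransparency.types false
open Groth.Agent Groth.Agent.BalProd6 CategoryTheory.Limits

lemma cover_snd {S : Scheme.{u}} {P Y T : Over S} {q : P ⟶ Y} (hq : ExtDesc.Cover q) (y : T ⟶ Y) :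
    ExtDesc.Cover (Limits.pullback.snd q y) :=
  ExtDesc.locSplit_of_isPullback ((IsPullback.of_hasPullback q y).map (Over.forget S)) hq

/-- Closed immersion can be tested after pulling back along an fppf-locally split morphism. -/
lemma ci_of_cover {X Y Z P : Scheme.{u}} {a : P ⟶ Z} {b : P ⟶ X} {j : Z ⟶ Y} {m : X ⟶ Y}
    (hj : NonAbH1.IsLocallyTrivialFor Scheme.fppfPrecoverage (Over.mk j : Over Y))
    (sq : IsPullback a b j m) (ha : IsClosedImmersion a) : IsClosedImmersion m := by
  obtain ⟨R, hR, hs⟩ := hj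
  rw [Scheme.fppfPrecoverage] at hR
  rw [Precoverage.mem_iff_exists_zeroHypercover] at hR
  obtain ⟨C, rfl⟩ := hR
  obtain ⟨h1, h2⟩ := (Scheme.ofArrows_mem_precoverage_iff _).mp C.mem₀
  choose k hk using h1
  haveI : ∀ y, Flat (C.f (k y)) := fun y => (h2 (k y)).1
  haveI : ∀ y, LocallyOfFinitePresentation (C.f (k y)) := fun y => (h2 (k y)).2
  let p : (∐ fun y => C.X (k y)) ⟶ Y := Sigma.desc fun y => C.f (k y)
  have hp : (@Surjective ⊓ @Flat ⊓ @LocallyOfFinitePresentation : MorphismProperty Scheme.{u}) p :=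
    ⟨⟨⟨fun y => by
      obtain ⟨z, hz⟩ := hk y
      exact ⟨Sigma.ι (fun y => C.X (k y)) y z, by rw [← Scheme.Hom.comp_apply, Sigma.ι_desc]; exact hz⟩⟩,
      IsZariskiLocalAtSource.sigmaDesc inferInstance⟩, IsZariskiLocalAtSource.sigmaDesc inferInstance⟩
  refine MorphismProperty.of_pullback_fst_of_descendsAlong (P := @IsClosedImmersion) hp ?_
  refine IsZariskiLocalAtTarget.of_openCover (P := @IsClosedImmersion) (sigmaOpenCover _) fun y => ?_
  obtain ⟨s, hs'⟩ := hs (C.f (k y)) ⟨k y⟩
  have hs'' : s ≫ j = C.f (k y) := hs'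
  have h3 := (IsPullback.of_hasPullback (pullback.fst p m) (Sigma.ι (fun y => C.X (k y)) y)).paste_horiz
    (IsPullback.of_hasPullback p m).flip
  rw [show Sigma.ι (fun y => C.X (k y)) y ≫ p = s ≫ j by rw [Sigma.ι_desc, hs'']] at h3
  have h4 := (IsPullback.of_hasPullback s a).flip.paste_horiz sq.flip
  haveI : IsClosedImmersion (pullback.fst s a) :=
    MorphismProperty.of_isPullback (P := @IsClosedImmersion) (IsPullback.of_hasPullback s a).flip ha
  show IsClosedImmersion (pullback.snd (pullback.fst p m) (Sigma.ι (fun y => C.X (k y)) y))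
  rw [← h3.isoIsPullback_hom_snd _ _ h4]
  infer_instance


/-- Let S be a scheme, i : G → Q a monomorphic homomorphism of S-group schemes (a closed subgroup), h an
S-point of G whose image in Q is central, and X an S-scheme with a G-action a. Let incl : X^h → X be
a monomorphism whose points are the points of X fixed by h, with a G-action making incl equivariant
(X^h is G-stable since h is central in G). Let Y with its Q-action and j : Q ×_S X → Y be the
balanced product Q ×^G X for the fppf topology, Y' with j' : Q ×_S X^h → Y' the balanced product Q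
×^G X^h, and m : Y' → Y the morphism under which j' followed by m is Q × incl followed by j. Then m
is a monomorphism, a point of Y factors through m exactly when it is fixed by h acting on Y through
the Q-action, and m is a closed immersion if incl is one: Q ×^G X^h is the fixed locus of h in Q ×^G
X. (The source states this for a smooth algebraic space X of finite type over the complex numbers,
as an equality of closed subspaces, and argues on closed points; the form here is the one its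
computation gives for the fppf quotients over any base, with X a scheme.) -/
theorem result
    {S : Scheme.{u}} {Q G X Xh Y Y' : Over S} [GrpObj Q] [GrpObj G]
    (i : G ⟶ Q) [IsMonHom i] [Mono i]
    (h : 𝟙_ (Over S) ⟶ G)
    (hcent : ∀ (T : Over S) (q : T ⟶ Q), q * (toUnit T ≫ h ≫ i) = (toUnit T ≫ h ≫ i) * q)
    (a : AlgGrp.Action G X)
    (incl : Xh ⟶ X) [Mono incl]
    (hXh : ∀ (T : Over S) (x : T ⟶ X), (∃ y : T ⟶ Xh, y ≫ incl = x) ↔ lift (toUnit T ≫ h) x ≫ a.act = x)
    (aXh : AlgGrp.Action G Xh) (hincl : AlgGrp.Action.IsEquivariant aXh a incl)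
    (aY : AlgGrp.Action Q Y) (j : Q ⊗ X ⟶ Y) (hY : ChGrp.IsBalProd Scheme.fppfPrecoverage i a aY j)
    (aY' : AlgGrp.Action Q Y') (j' : Q ⊗ Xh ⟶ Y') (hY' : ChGrp.IsBalProd Scheme.fppfPrecoverage i aXh aY' j')
    (m : Y' ⟶ Y) (hm : j' ≫ m = (Q ◁ incl) ≫ j) :
    Mono m ∧
      (∀ (T : Over S) (y : T ⟶ Y), (∃ y' : T ⟶ Y', y' ≫ m = y) ↔ lift (toUnit T ≫ h ≫ i) y ≫ aY.act = y) ∧
      (IsClosedImmersion incl.left → IsClosedImmersion m.left) := by
  have hdec : ∀ {T A B : Over S} (p : T ⟶ A ⊗ B), ∃ u v, p = lift u v := fun p =>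
    ⟨p ≫ fst _ _, p ≫ snd _ _, by rw [← comp_lift, lift_fst_snd, Category.comp_id]⟩
  have hcj := cover_j hY
  have hcj' := cover_j hY'
  -- `h` moves a point `j (q, x)` to `j (q, h x)`
  have hmove : ∀ {T : Over S} (q : T ⟶ Q) (x : T ⟶ X),
      lift (toUnit T ≫ h ≫ i) (lift q x ≫ j) ≫ aY.act = lift q (lift (toUnit T ≫ h) x ≫ a.act) ≫ j := fun {T} q x => by
    rw [← j_mul hY, ← hcent, ← j_twist hY (toUnit T ≫ h) (q * (toUnit T ≫ h ≫ i)) x, Category.assoc _ h i, mul_inv_cancel_right]
  have hfixX : ∀ {T : Over S} (q : T ⟶ Q) (x : T ⟶ X),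
      lift (toUnit T ≫ h ≫ i) (lift q x ≫ j) ≫ aY.act = lift q x ≫ j → lift (toUnit T ≫ h) x ≫ a.act = x := fun {T} q x e => by
    rw [hmove] at e
    obtain ⟨c, hc⟩ := exists_twist hY e
    rw [ChGrp.lift_twist_act] at hc
    have e1 : q * (c ≫ i)⁻¹ = q := by simpa using congrArg (· ≫ fst Q X) hc
    have e2 : lift c x ≫ a.act = lift (toUnit T ≫ h) x ≫ a.act := by simpa using congrArg (· ≫ snd Q X) hc
    have e3 : c = 1 := (cancel_mono i).mp (by rw [mul_eq_left, inv_eq_one] at e1; rw [e1, MonObj.one_comp])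
    rw [← e2, e3, AlgGrp.Action.lift_one_act]
  -- points through `m` are fixed
  have hfwd : ∀ (T : Over S) (y' : T ⟶ Y'), lift (toUnit T ≫ h ≫ i) (y' ≫ m) ≫ aY.act = y' ≫ m := fun T y' => by
    refine ExtDesc.over_hom_ext (cover_snd hcj' y') ?_
    obtain ⟨q, x, hqx⟩ := hdec (Limits.pullback.fst j' y')
    have hy : Limits.pullback.snd j' y' ≫ y' ≫ m = lift q (x ≫ incl) ≫ j := by
      rw [← Category.assoc, ← Limits.pullback.condition, Category.assoc, hm, hqx, lift_whiskerLeft_assoc]
    rw [comp_lift_assoc, comp_toUnit_assoc, hy, hmove, (hXh _ (x ≫ incl)).mp ⟨x, rfl⟩]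
  -- `m` is a monomorphism
  haveI hmono : Mono m := ⟨fun {T} y₁ y₂ e => by
    refine ExtDesc.over_hom_ext (cover_snd hcj' y₁) ?_
    refine ExtDesc.over_hom_ext (cover_snd hcj' (Limits.pullback.snd j' y₁ ≫ y₂)) ?_
    set π₁ := Limits.pullback.snd j' y₁
    set π₂ := Limits.pullback.snd j' (π₁ ≫ y₂)
    have h1 : (π₂ ≫ Limits.pullback.fst j' y₁) ≫ j' = π₂ ≫ π₁ ≫ y₁ := by rw [Category.assoc, Limits.pullback.condition]
    have h2 : Limits.pullback.fst j' (π₁ ≫ y₂) ≫ j' = π₂ ≫ π₁ ≫ y₂ := Limits.pullback.condition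
    generalize π₂ ≫ Limits.pullback.fst j' y₁ = u₁ at h1
    generalize Limits.pullback.fst j' (π₁ ≫ y₂) = u₂ at h2
    obtain ⟨c, hc⟩ := exists_twist hY (a := u₁ ≫ (Q ◁ incl)) (b := u₂ ≫ (Q ◁ incl)) (by
      rw [Category.assoc, Category.assoc, ← hm, ← Category.assoc, h1, ← Category.assoc u₂, h2]
      simp only [Category.assoc, e])
    rw [← h1, ← h2]
    obtain ⟨q₂, x₂, rfl⟩ := hdec u₂
    obtain ⟨q₁, x₁, rfl⟩ := hdec u₁
    rw [lift_whiskerLeft, lift_whiskerLeft, ChGrp.lift_twist_act] at hc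
    have e1 : q₂ * (c ≫ i)⁻¹ = q₁ := by simpa using congrArg (· ≫ fst Q X) hc
    have e2 : lift c (x₂ ≫ incl) ≫ a.act = x₁ ≫ incl := by simpa using congrArg (· ≫ snd Q X) hc
    have e3 : lift c x₂ ≫ aXh.act = x₁ := (cancel_mono incl).mp (by rw [Category.assoc, hincl, lift_whiskerLeft_assoc, e2])
    rw [← e1, ← e3, j_twist hY']⟩
  refine ⟨hmono, fun T y => ⟨?_, fun hy => ?_⟩, fun hcl => ?_⟩
  · rintro ⟨y', rfl⟩
    exact hfwd T y'
  · obtain ⟨q, x, hqx⟩ := hdec (Limits.pullback.fst j y)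
    have hu : lift q x ≫ j = Limits.pullback.snd j y ≫ y := by rw [← hqx, Limits.pullback.condition]
    obtain ⟨x', hx'⟩ := (hXh _ x).mpr (hfixX q x (by
      rw [hu]
      simpa [comp_lift_assoc] using congrArg (Limits.pullback.snd j y ≫ ·) hy))
    have hl : (lift q x' ≫ j') ≫ m = Limits.pullback.snd j y ≫ y := by
      rw [Category.assoc, hm, lift_whiskerLeft_assoc, hx', hu]
    obtain ⟨g, hg⟩ := ExtDesc.exists_desc (cover_snd hcj y) (lift q x' ≫ j') fun T' u v e => (cancel_mono m).mp (by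
      simp only [Category.assoc] at hl ⊢
      rw [hl, ← Category.assoc, e, Category.assoc])
    exact ⟨g, ExtDesc.over_hom_ext (cover_snd hcj y) (by rw [← Category.assoc, hg, hl])⟩
  · haveI : Mono (Q ◁ incl) := ⟨fun {T} u v huv => CartesianMonoidalCategory.hom_ext _ _
      (by simpa using congrArg (· ≫ fst Q X) huv) ((cancel_mono incl).mp (by simpa using congrArg (· ≫ snd Q X) huv))⟩
    have hcart : IsPullback (Q ◁ incl) j' j m := by
      have hlift : ∀ s : Limits.PullbackCone j m, ∃ l : s.pt ⟶ Q ⊗ Xh, l ≫ (Q ◁ incl) = s.fst ∧ l ≫ j' = s.snd := fun s => by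
        obtain ⟨q, x, hqx⟩ := hdec s.fst
        have hs := s.condition
        rw [hqx] at hs
        obtain ⟨x', hx'⟩ := (hXh _ x).mpr (hfixX q x (by rw [hs]; exact hfwd _ _))
        refine ⟨lift q x', by rw [lift_whiskerLeft, hx', hqx], (cancel_mono m).mp ?_⟩
        rw [Category.assoc, hm, lift_whiskerLeft_assoc, hx', hs]
      refine ⟨⟨hm.symm⟩, ⟨Limits.PullbackCone.IsLimit.mk _ (fun s => (hlift s).choose) (fun s => (hlift s).choose_spec.1)
        (fun s => (hlift s).choose_spec.2) fun s l h1 h2 => (cancel_mono (Q ◁ incl)).mp (h1.trans (hlift s).choose_spec.1.symm)⟩⟩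
    have hw : IsPullback (Q ◁ incl) (snd Q Xh) (snd Q X) incl := by
      refine ⟨⟨whiskerLeft_snd _ _⟩, ⟨Limits.PullbackCone.IsLimit.mk _ (fun s => lift (s.fst ≫ fst Q X) s.snd) (fun s => ?_)
        (fun s => lift_snd _ _) fun s l h1 h2 => ?_⟩⟩
      · rw [lift_whiskerLeft, ← s.condition, ← comp_lift, lift_fst_snd, Category.comp_id]
      · refine CartesianMonoidalCategory.hom_ext _ _ ?_ (by rw [h2, lift_snd])
        rw [lift_fst, ← h1, Category.assoc, whiskerLeft_fst]
    exact ci_of_cover hY.2.2 (hcart.map (Over.forget S))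
      (MorphismProperty.of_isPullback (P := @IsClosedImmersion) ((hw.map (Over.forget S)).flip) hcl)

end Groth.Agent.S19099
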