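import Groth.Statements.S19106


set_option autoImplicit false
open HilbD

namespace Groth.Agent.S19106

/-- Let μ be a non-empty Young diagram, V the number of its cells, E the number of unordered pairs of
cells sharing a side (a cell together with the cell immediately below it, or immediately to its
right, both in μ) and Q the number of 2 × 2 blocks of cells of μ (cells c such that the cell
diagonally below-right of c is in μ, the other two corners being in μ automatically). Then V − E + Q
− 1 = 0, stated as V + Q = E + 1 in the naturals. (The empty diagram, for which the count reads 0 −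
0 + 0 − 1, is excluded.) -/
theorem result (μ : YoungDiagram) (hμ : μ ≠ ⊥) :
    μ.cells.card + (μ.cells.filter (fun c => (c.1 + 1, c.2 + 1) ∈ μ)).card =
      (μ.cells.filter (fun c => (c.1 + 1, c.2) ∈ μ)).card + (μ.cells.filter (fun c => (c.1, c.2 + 1) ∈ μ)).card + 1 := by
  classical
  have h00 : ((0, 0) : ℕ × ℕ) ∈ μ := by
    by_contra h
    apply hμ
    ext c
    simp only [YoungDiagram.cells_bot, Finset.notMem_empty, iff_false, YoungDiagram.mem_cells]
    intro hc
    exact h (μ.up_left_mem (Nat.zero_le _) (Nat.zero_le _) hc)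
  have hQ : (μ.cells.filter (fun c => (c.1 + 1, c.2 + 1) ∈ μ)).card =
      (μ.cells.filter (fun c => 1 ≤ c.1 ∧ 1 ≤ c.2)).card := by
    refine Finset.card_nbij' (fun c => (c.1 + 1, c.2 + 1)) (fun c => (c.1 - 1, c.2 - 1)) ?_ ?_ ?_ ?_
    · intro c hc; simp_all
    · rintro ⟨i, j⟩ hc
      simp only [Finset.coe_filter, Set.mem_setOf_eq, YoungDiagram.mem_cells] at hc ⊢
      refine ⟨μ.up_left_mem (Nat.sub_le _ _) (Nat.sub_le _ _) hc.1, ?_⟩
      rw [Nat.sub_add_cancel hc.2.1, Nat.sub_add_cancel hc.2.2]; exact hc.1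
    · intro c _; simp
    · rintro ⟨i, j⟩ hc
      simp only [Finset.coe_filter, Set.mem_setOf_eq] at hc
      simp [Nat.sub_add_cancel hc.2.1, Nat.sub_add_cancel hc.2.2]
  have hV : (μ.cells.filter (fun c => (c.1 + 1, c.2) ∈ μ)).card =
      (μ.cells.filter (fun c => 1 ≤ c.1)).card := by
    refine Finset.card_nbij' (fun c => (c.1 + 1, c.2)) (fun c => (c.1 - 1, c.2)) ?_ ?_ ?_ ?_
    · intro c hc; simp_all
    · rintro ⟨i, j⟩ hc
      simp only [Finset.coe_filter, Set.mem_setOf_eq, YoungDiagram.mem_cells] at hc ⊢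
      refine ⟨μ.up_left_mem (Nat.sub_le _ _) le_rfl hc.1, ?_⟩
      rw [Nat.sub_add_cancel hc.2]; exact hc.1
    · intro c _; simp
    · rintro ⟨i, j⟩ hc
      simp only [Finset.coe_filter, Set.mem_setOf_eq] at hc
      simp [Nat.sub_add_cancel hc.2]
  have hH : (μ.cells.filter (fun c => (c.1, c.2 + 1) ∈ μ)).card =
      (μ.cells.filter (fun c => 1 ≤ c.2)).card := by
    refine Finset.card_nbij' (fun c => (c.1, c.2 + 1)) (fun c => (c.1, c.2 - 1)) ?_ ?_ ?_ ?_
    · intro c hc; simp_all
    · rintro ⟨i, j⟩ hc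
      simp only [Finset.coe_filter, Set.mem_setOf_eq, YoungDiagram.mem_cells] at hc ⊢
      refine ⟨μ.up_left_mem le_rfl (Nat.sub_le _ _) hc.1, ?_⟩
      rw [Nat.sub_add_cancel hc.2]; exact hc.1
    · intro c _; simp
    · rintro ⟨i, j⟩ hc
      simp only [Finset.coe_filter, Set.mem_setOf_eq] at hc
      simp [Nat.sub_add_cancel hc.2]
  rw [hQ, hV, hH]
  have hu := Finset.card_union_add_card_inter (μ.cells.filter (fun c => 1 ≤ c.1)) (μ.cells.filter (fun c => 1 ≤ c.2))
  rw [← Finset.filter_or, ← Finset.filter_and] at hu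
  have hc := Finset.card_filter_add_card_filter_not (s := μ.cells) (fun c => 1 ≤ c.1 ∨ 1 ≤ c.2)
  have h1 : μ.cells.filter (fun c => ¬(1 ≤ c.1 ∨ 1 ≤ c.2)) = {(0, 0)} := by
    ext ⟨i, j⟩
    simp only [Finset.mem_filter, Finset.mem_singleton, YoungDiagram.mem_cells, Prod.mk.injEq]
    constructor
    · intro h; omega
    · rintro ⟨rfl, rfl⟩; exact ⟨h00, by omega⟩
  rw [h1, Finset.card_singleton] at hc
  omega

end Groth.Agent.S19106
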