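import Groth.Statements.S19144
import Mathlib
import Groth.Agent.TwConstB.Basic
-- import your own Groth.Agent.* helpers here

set_option autoImplicit false
set_option backward.isDefEq.respectTransparency.types false
open CategoryTheory MonoidalCategory CartesianMonoidalCategory MonObj GrpObj AlgebraicGeometry
universe u
open TwC

namespace Groth.Agent.S19144

theorem existence_of_isTwConst {S : Scheme.{u}} (X : Over S) (hX : TwC.IsTwConst TwC.Topology.etale X) :
    ValuativeCriterion.Existence X.hom := by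
  refine ValuativeCriterion.Existence.of_specializingMap X.hom ?_
  intro P T i₁ g π sq y t hyt
  replace sq := sq.flip
  obtain ⟨S', f, hf, ⟨s', hs'⟩, I, ⟨e⟩⟩ := hX (g t)
  haveI := hf
  let q₁ := Limits.pullback.fst g f
  let q₂ := Limits.pullback.snd g f
  obtain ⟨t', ht', -⟩ := Scheme.Pullback.exists_preimage_pullback (f := g) (g := f) t s' hs'.symm
  obtain ⟨η', hη, hη'⟩ := Flat.generalizingMap q₁ (show π y ⤳ q₁ t' by rw [ht']; exact hyt)
  let a := Limits.pullback.fst π q₁
  let b := Limits.pullback.snd π q₁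
  obtain ⟨w, hwa, hwb⟩ := Scheme.Pullback.exists_preimage_pullback (f := π) (g := q₁) y η' hη'.symm
  have hc : π ≫ g = i₁ ≫ X.hom := sq.w.symm
  have hab : a ≫ π = b ≫ q₁ := Limits.pullback.condition
  have hq : q₁ ≫ g = q₂ ≫ f := Limits.pullback.condition
  let Q : Limits.pullback π q₁ ⟶ Limits.pullback X.hom f := Limits.pullback.lift (a ≫ i₁) (b ≫ q₂)
    (by rw [Category.assoc, ← hc, reassoc_of% hab, hq, Category.assoc])
  obtain ⟨⟨m, v⟩, hv⟩ := (AlgebraicGeometry.sigmaMk (fun _ : I => S')).surjective (e.hom.left (Q w))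
  rw [AlgebraicGeometry.sigmaMk_mk] at hv
  haveI : IsIso e.inv.left := ⟨e.hom.left, by rw [← Over.comp_left, Iso.inv_hom_id, Over.id_left], by
    rw [← Over.comp_left, Iso.hom_inv_id, Over.id_left]⟩
  let σ₀ : S' ⟶ Limits.pullback X.hom f := Limits.Sigma.ι (fun _ : I => S') m ≫ e.inv.left
  have hσ₀ : σ₀ ≫ Limits.pullback.snd X.hom f = 𝟙 S' := by
    have h1 : e.inv.left ≫ Limits.pullback.snd X.hom f = Limits.Sigma.desc fun _ : I => 𝟙 S' := Over.w e.inv
    simp only [σ₀, Category.assoc, h1, Limits.Sigma.ι_desc]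
  have hQw : σ₀ v = Q w := by
    show (Limits.Sigma.ι (fun _ : I => S') m ≫ e.inv.left) v = Q w
    rw [Scheme.Hom.comp_apply, hv, ← Scheme.Hom.comp_apply, ← Over.comp_left, Iso.hom_inv_id, Over.id_left]
    rfl
  let σ : Limits.pullback g f ⟶ P := sq.lift (q₂ ≫ σ₀ ≫ Limits.pullback.fst X.hom f) q₁ (by
    simp only [Category.assoc, Limits.pullback.condition, reassoc_of% hσ₀, hq])
  let W : (Limits.pullback π q₁).Opens := Q ⁻¹ᵁ σ₀.opensRange
  have hW : w ∈ W := ⟨v, hQw⟩
  have hfac : W.ι ≫ a = (W.ι ≫ b) ≫ σ := by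
    let l := IsOpenImmersion.lift σ₀ (W.ι ≫ Q) (by rintro _ ⟨z, rfl⟩; exact z.2)
    have hl : l ≫ σ₀ = W.ι ≫ Q := IsOpenImmersion.lift_fac _ _ _
    have hl2 : l = W.ι ≫ b ≫ q₂ := by
      have := congrArg (· ≫ Limits.pullback.snd X.hom f) hl
      simp only [Category.assoc, hσ₀, Category.comp_id, Q] at this
      erw [Limits.pullback.lift_snd] at this
      exact this
    apply sq.hom_ext
    · have := congrArg (· ≫ Limits.pullback.fst X.hom f) hl
      simp only [hl2, Category.assoc, Q] at this
      erw [Limits.pullback.lift_fst] at this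
      simp only [σ, Category.assoc, IsPullback.lift_fst]
      exact this.symm
    · simp only [σ, Category.assoc, IsPullback.lift_snd, hab]
  have hy : y = σ η' := by
    have := congrArg (fun k : W.toScheme ⟶ P => k ⟨w, hW⟩) hfac
    simp only [Scheme.Hom.comp_apply] at this
    rw [show a (W.ι ⟨w, hW⟩) = y from hwa, show b (W.ι ⟨w, hW⟩) = η' from hwb] at this
    exact this
  refine ⟨σ t', hy ▸ hη.map σ.continuous, ?_⟩
  rw [← Scheme.Hom.comp_apply, IsPullback.lift_snd]
  exact ht'

/-- A quasi-isotrivial twisted constant S-scheme X (etale-locally on S isomorphic to a constant scheme)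
is separated and etale over S, and its structure morphism satisfies the valuative criterion of
properness (every valuative square has exactly one lift; X ⟶ S need not be quasi-compact). -/
theorem result {S : Scheme.{u}} (X : Over S)
    (hX : TwC.IsTwConst TwC.Topology.etale X) :
    IsSeparated X.hom ∧ Etale X.hom ∧ ValuativeCriterion X.hom := by
  obtain ⟨hsep, het⟩ := Groth.Agent.TwConstB.isSeparated_and_etale X hX
  exact ⟨hsep, het, ValuativeCriterion.iff.mpr ⟨existence_of_isTwConst X hX, IsSeparated.valuativeCriterion X.hom⟩⟩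

end Groth.Agent.S19144
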