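import Groth.Statements.S19148
import Mathlib

set_option autoImplicit false
open scoped TensorProduct
universe u v
open FiltMod


namespace Groth.Agent.S19148

set_option backward.isDefEq.respectTransparency false
set_option backward.defeqAttrib.useBackward true

variable {R : Type u} [CommRing R] {M : Type v} [AddCommGroup M] [Module R M]

lemma le_of_range_le [Module.Finite R M] [Module.Projective R M] (F₁ F₂ : Submodule R M)
    (h₁ : ∃ C : Submodule R M, IsCompl F₁ C) (h₂ : ∃ C : Submodule R M, IsCompl F₂ C) (m : ℕ)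
    (h : LinearMap.range (PiTensorProduct.map (R := R) (fun _ : Fin (m + 1) => F₁.subtype)) ≤
      LinearMap.range (PiTensorProduct.map (R := R) (fun _ : Fin (m + 1) => F₂.subtype))) : F₁ ≤ F₂ := by
  obtain ⟨C₁, hC₁⟩ := h₁
  obtain ⟨C₂, hC₂⟩ := h₂
  let p₁ := F₁.projectionOnto C₁ hC₁
  have hp₁ : ∀ x : F₁, p₁ x = x := fun x => Submodule.projectionOnto_apply_left hC₁ x
  haveI : Module.Finite R F₁ := Module.Finite.of_surjective p₁ fun x => ⟨x, hp₁ x⟩
  haveI : Module.Projective R F₁ := Module.Projective.of_split F₁.subtype p₁ (LinearMap.ext hp₁)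
  obtain ⟨n, e, g, -, -, heg⟩ := Module.Finite.exists_comp_eq_id_of_projective R F₁
  let q := C₂.projectionOnto F₂ hC₂.symm
  have hq : ∀ x, q x = 0 ↔ x ∈ F₂ := fun x => Submodule.projectionOnto_apply_eq_zero_iff hC₂.symm
  haveI : Module.Projective R C₂ := Module.Projective.of_split C₂.subtype q
    (LinearMap.ext (Submodule.projectionOnto_apply_left hC₂.symm))
  intro y hy
  rw [← hq, ← Module.forall_dual_apply_eq_zero_iff R]
  intro φ
  suffices ∀ (l : ℕ) (j : ℕ), j + l = m → ∀ (ψ : Fin j → (M →ₗ[R] R)) (x : Fin j → F₁) (x₀ : F₁),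
      φ (q x₀) * ∏ i, ψ i (x i) = 0 by
    simpa using this m 0 (zero_add m) Fin.elim0 Fin.elim0 ⟨y, hy⟩
  intro l
  induction l with
  | zero =>
    intro j hj ψ x x₀
    obtain rfl : j = m := by omega
    let Φ : (PiTensorProduct R fun _ : Fin (j + 1) => M) →ₗ[R] R := PiTensorProduct.lift
      ((MultilinearMap.mkPiAlgebra R (Fin (j + 1)) R).compLinearMap (Fin.cons (φ ∘ₗ q) ψ : Fin (j + 1) → M →ₗ[R] R))
    have h0 : ∀ t, Φ (PiTensorProduct.map (fun _ : Fin (j + 1) => F₂.subtype) t) = 0 := fun t => by
      induction t using PiTensorProduct.induction_on with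
      | smul_tprod r z =>
        simp [Φ, Fin.prod_univ_succ, (hq (z 0)).2 (z 0).2]
      | add a b ha hb => simp [ha, hb]
    obtain ⟨t, ht⟩ := h ⟨PiTensorProduct.tprod R (Fin.cons x₀ x : Fin (j + 1) → F₁), rfl⟩
    have := h0 t
    rw [ht] at this
    simpa [Φ, Fin.prod_univ_succ] using this
  | succ l ih =>
    intro j hj ψ x x₀
    have hx : x₀ = ∑ i, g x₀ i • e (fun k => if i = k then 1 else 0) := by
      conv_lhs => rw [show x₀ = e (g x₀) from (LinearMap.congr_fun heg x₀).symm, pi_eq_sum_univ (g x₀)]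
      simp
    conv_lhs => rw [hx]
    simp only [Submodule.coe_sum, Submodule.coe_smul, map_sum, map_smul, smul_eq_mul, Finset.sum_mul]
    refine Finset.sum_eq_zero fun i _ => ?_
    have h' := ih (j + 1) (by omega) (Fin.cons (LinearMap.proj i ∘ₗ g ∘ₗ p₁) ψ) (Fin.cons x₀ x)
      (e (fun k => if i = k then 1 else 0))
    simp only [Fin.prod_univ_succ, Fin.cons_zero, Fin.cons_succ, LinearMap.comp_apply, LinearMap.proj_apply,
      hp₁] at h'
    linear_combination h'

/-- In affine form, let R be a commutative ring, M a finitely generated projective R-module (a finite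
locally free sheaf on Spec R), F₁ and F₂ direct summands of M and k ≥ 1. Then the images of F₁^{⊗k}
and F₂^{⊗k} in the k-th tensor power M^{⊗k} are equal if and only if F₁ = F₂. (The source states
this for local direct factors of a finite locally free sheaf on a scheme; equality of subsheaves
being local, this is the affine case with global direct summands, to which it reduces.) -/
theorem result {R : Type u} [CommRing R] {M : Type v} [AddCommGroup M] [Module R M]
    [Module.Finite R M] [Module.Projective R M] (F₁ F₂ : Submodule R M)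
    (h₁ : ∃ C : Submodule R M, IsCompl F₁ C) (h₂ : ∃ C : Submodule R M, IsCompl F₂ C) (k : ℕ) (hk : 1 ≤ k) :
    LinearMap.range (PiTensorProduct.map (R := R) (fun _ : Fin k => F₁.subtype)) =
      LinearMap.range (PiTensorProduct.map (R := R) (fun _ : Fin k => F₂.subtype)) ↔ F₁ = F₂ := by
  obtain ⟨m, rfl⟩ : ∃ m, k = m + 1 := ⟨k - 1, by omega⟩
  refine ⟨fun h => le_antisymm (le_of_range_le F₁ F₂ h₁ h₂ m h.le) (le_of_range_le F₂ F₁ h₂ h₁ m h.ge), ?_⟩
  rintro rfl; rfl

end Groth.Agent.S19148
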