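import Groth.Statements.S19149
import Mathlib.RingTheory.Smooth.Locus
import Mathlib.LinearAlgebra.Matrix.Charpoly.LinearMap
import Mathlib.RingTheory.Kaehler.Basic

set_option autoImplicit false
set_option backward.isDefEq.respectTransparency.types false
universe u
open GrpSch

namespace Groth.Agent.S19149

open Polynomial in
/-- an endomorphism congruent to the identity modulo `I` has a quasi-inverse -/
lemma exists_quasiInverse {A M : Type u} [CommRing A] [AddCommGroup M] [Module A M] [Module.Finite A M]
    (I : Ideal A) (e : Module.End A M) (he : LinearMap.range (e - 1) ≤ I • (⊤ : Submodule A M)) :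
    ∃ (u : A) (q : Module.End A M) (n : ℕ), u - (-1) ^ n ∈ I ∧ q * e = u • 1 := by
  obtain ⟨p, hp, hpn, hcoeff, hp0⟩ :=
    LinearMap.exists_monic_and_natDegree_eq_and_coeff_mem_pow_and_aeval_eq_zero A (e - 1) I he
  refine ⟨p.eval (-1), -aeval e (p.comp (X - 1)).divX, p.natDegree, ?_, ?_⟩
  · rw [eval_eq_sum_range, Finset.sum_range_succ, hp.coeff_natDegree, _root_.one_mul, add_sub_cancel_right]
    refine sum_mem fun k hk => I.mul_mem_right _ ?_
    have h := hcoeff k
    refine Ideal.pow_le_self ?_ h
    rw [Finset.mem_range] at hk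
    omega
  · have h1 : aeval e (p.comp (X - 1)) = 0 := by rw [aeval_comp, map_sub, aeval_X, map_one, hp0]
    conv_lhs at h1 => rw [← divX_mul_X_add (p.comp (X - 1))]
    rw [map_add, map_mul, aeval_X, aeval_C, coeff_zero_eq_eval_zero, eval_comp, eval_sub, eval_X, eval_one,
      zero_sub, add_eq_zero_iff_eq_neg] at h1
    rw [neg_mul, h1, neg_neg, Algebra.algebraMap_eq_smul_one]

/-- In affine form, let R be a commutative ring, A a smooth R-algebra with an augmentation ε : A → R
(the unit section of G = Spec A over S = Spec R), I = ker ε its augmentation ideal, and J ⊆ I an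
ideal (defining a closed subscheme H of G through the unit section) such that (1) J is finitely
generated, (2) J ∩ I² = I·J in A, and (3) I/(J + I²) is a finitely generated projective R-module
(finite locally free on S). Then H = Spec (A/J) is smooth over S at every point of the unit section:
for every prime P of A/J containing the image of I, the localization (A/J)_P is formally smooth over
R. (The source states this for G an affine smooth group scheme over a scheme S and H a closed
subgroup, concluding that the neutral component H° is a smooth open subgroup scheme; that conclusion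
is smoothness of H along the unit section, which is the statement here in affine form; the group
structure is not used.) -/
theorem result (R A : Type u) [CommRing R] [CommRing A] [Algebra R A]
    [Algebra.Smooth R A] (ε : A →ₐ[R] R) (J : Ideal A) (hJI : J ≤ RingHom.ker ε)
    (h1 : J.FG)
    (h2 : J ⊓ RingHom.ker ε ^ 2 = RingHom.ker ε * J)
    (h3 : Module.Finite R (↥(RingHom.ker ε) ⧸ Submodule.comap (RingHom.ker ε).subtype (J ⊔ RingHom.ker ε ^ 2)) ∧
      Module.Projective R (↥(RingHom.ker ε) ⧸ Submodule.comap (RingHom.ker ε).subtype (J ⊔ RingHom.ker ε ^ 2)))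
    (P : Ideal (A ⧸ J)) [P.IsPrime] (hP : (RingHom.ker ε).map (Ideal.Quotient.mk J) ≤ P) :
    Algebra.IsSmoothAt R P := by
  classical
  set I := RingHom.ker ε with hI
  obtain ⟨_, hproj⟩ := h3
  have hεI : ∀ a : A, a - algebraMap R A (ε a) ∈ I := fun a => by
    rw [hI, RingHom.mem_ker, map_sub, AlgHom.commutes, Algebra.algebraMap_self, RingHom.id_apply, sub_self]
  -- the target `J / IJ`
  let T := ↥J ⧸ (I • (⊤ : Submodule A J))
  have hmkT : ∀ j j' : J, (j : A) - j' ∈ I * J →
      Submodule.Quotient.mk (p := I • (⊤ : Submodule A J)) j = Submodule.Quotient.mk j' := fun j j' h => by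
    rw [Submodule.Quotient.eq]
    have h' : ((j - j' : J) : A) ∈ (I • (⊤ : Submodule A J)).map J.subtype := by
      rw [Submodule.map_smul'', Submodule.map_top, Submodule.range_subtype, smul_eq_mul]
      exact h
    obtain ⟨z, hz, hzz⟩ := h'
    rwa [Subtype.ext hzz] at hz
  have hIT : ∀ a ∈ I, ∀ t : T, a • t = 0 := fun a ha t => by
    induction t using Submodule.Quotient.induction_on with
    | H j =>
      rw [← Submodule.Quotient.mk_smul, Submodule.Quotient.mk_eq_zero]
      exact Submodule.smul_mem_smul ha trivial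
  let K : Submodule A A := J ⊔ I ^ 2
  have hdec : ∀ x : K, ∃ j : J, (x : A) - j ∈ I ^ 2 := fun x => by
    obtain ⟨j, hj, w, hw, hjw⟩ := Submodule.mem_sup.1 x.2
    exact ⟨⟨j, hj⟩, by rw [← hjw]; simpa using hw⟩
  choose π0 hπ0 using hdec
  have hπ : ∀ (x : K) (j : J), (x : A) - j ∈ I ^ 2 →
      Submodule.Quotient.mk (p := I • (⊤ : Submodule A J)) (π0 x) = Submodule.Quotient.mk j := fun x j hj => by
    refine hmkT _ _ ?_
    rw [← h2]
    refine ⟨J.sub_mem (π0 x).2 j.2, ?_⟩
    have := (I ^ 2).sub_mem hj (hπ0 x)
    simpa using this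
  let π : K →ₗ[A] T :=
    { toFun := fun x => Submodule.Quotient.mk (π0 x)
      map_add' := fun x y => by
        rw [← Submodule.Quotient.mk_add]
        refine hπ _ _ ?_
        have := (I ^ 2).add_mem (hπ0 x) (hπ0 y)
        simp only [Submodule.coe_add] at this ⊢
        convert this using 1
        ring
      map_smul' := fun a x => by
        rw [RingHom.id_apply, ← Submodule.Quotient.mk_smul]
        refine hπ _ _ ?_
        have := (I ^ 2).mul_mem_left a (hπ0 x)
        simp only [Submodule.coe_smul, smul_eq_mul] at this ⊢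
        convert this using 1
        ring }
  -- an `R`-linear section
  obtain ⟨σ, hσ⟩ := Module.projective_lifting_property
    ((Submodule.comap (I : Submodule A A).subtype (J ⊔ I ^ 2)).mkQ.restrictScalars R) LinearMap.id
    (Submodule.mkQ_surjective _)
  let x0 : A → ↥I := fun a => ⟨a - algebraMap R A (ε a), hεI a⟩
  let Q3 := ↥I ⧸ Submodule.comap (I : Submodule A A).subtype (J ⊔ I ^ 2)
  let mk3 : ↥I → Q3 := Submodule.Quotient.mk
  have hK : ∀ y : ↥I, (y : A) - σ (mk3 y) ∈ K := fun y => by
    have h : mk3 (y - σ (mk3 y)) = 0 := by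
      have := congrArg (fun f => f (mk3 y)) hσ
      simp only [LinearMap.comp_apply, LinearMap.id_apply] at this
      change mk3 y - mk3 (σ (mk3 y)) = 0
      rw [sub_eq_zero]
      exact this.symm
    exact ((Submodule.Quotient.mk_eq_zero _).1 h :)
  let PL : ↥I →ₗ[R] T :=
    { toFun := fun y => π ⟨(y : A) - σ (mk3 y), hK y⟩
      map_add' := fun y y' => by
        rw [← map_add π]
        congr 1
        refine Subtype.ext ?_
        change ((y + y' : ↥I) : A) - σ (mk3 y + mk3 y') = _
        rw [map_add]
        simp only [Submodule.coe_add]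
        ring
      map_smul' := fun r y => by
        rw [RingHom.id_apply, ← LinearMap.map_smul_of_tower π]
        congr 1
        refine Subtype.ext ?_
        change ((r • y : ↥I) : A) - σ (r • mk3 y) = r • ((y : A) - σ (mk3 y))
        rw [map_smul, smul_sub]
        rfl }
  have hP2 : ∀ y : ↥I, (y : A) ∈ I ^ 2 → PL y = 0 := fun y hy => by
    have h0 : mk3 y = 0 := (Submodule.Quotient.mk_eq_zero _).2 (Submodule.mem_sup_right hy)
    change (Submodule.Quotient.mk _ : T) = 0
    rw [← Submodule.Quotient.mk_zero]
    refine hπ _ 0 ?_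
    simpa [h0] using hy
  let D : Derivation R A T := Derivation.mk'
    { toFun := fun a => PL (x0 a)
      map_add' := fun a b => by
        rw [← map_add PL]; congr 1; apply Subtype.ext
        change (a + b) - algebraMap R A (ε (a + b)) = (a - algebraMap R A (ε a)) + (b - algebraMap R A (ε b))
        rw [map_add, map_add]; ring
      map_smul' := fun r a => by
        rw [RingHom.id_apply, ← map_smul PL]; congr 1; apply Subtype.ext
        change r • a - algebraMap R A (ε (r • a)) = r • (a - algebraMap R A (ε a))
        rw [map_smul, smul_sub, Algebra.smul_def r (ε a), Algebra.algebraMap_self, RingHom.id_apply, map_mul,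
          ← Algebra.smul_def r (algebraMap R A (ε a))]
        }
    (fun a b => by
      have hε : ∀ (c : A) (t : T), c • t = ε c • t := fun c t => by
        conv_rhs => rw [← IsScalarTower.algebraMap_smul A (ε c) t]
        rw [← sub_eq_zero, ← sub_smul]
        exact hIT _ (hεI c) t
      change PL (x0 (a * b)) = a • PL (x0 b) + b • PL (x0 a)
      rw [hε, hε, ← map_smul PL, ← map_smul PL, ← map_add PL, ← sub_eq_zero, ← map_sub PL]
      refine hP2 _ ?_
      have hmem : (a - algebraMap R A (ε a)) * (b - algebraMap R A (ε b)) ∈ I ^ 2 := by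
        rw [sq]; exact Ideal.mul_mem_mul (hεI a) (hεI b)
      convert hmem using 1
      change (a * b - algebraMap R A (ε (a * b))) -
        (ε a • (b - algebraMap R A (ε b)) + ε b • (a - algebraMap R A (ε a))) = _
      rw [map_mul, map_mul, Algebra.smul_def, Algebra.smul_def]
      ring)
  have hDj : ∀ j : J, D j = Submodule.Quotient.mk j := fun j => by
    have hεj : ε (j : A) = 0 := hJI j.2
    have hx : ((x0 j : ↥I) : A) = j := by
      change (j : A) - algebraMap R A (ε j) = j
      rw [hεj, map_zero, sub_zero]
    have h0 : mk3 (x0 j) = 0 := (Submodule.Quotient.mk_eq_zero _).2 (by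
      change ((x0 j : ↥I) : A) ∈ K
      rw [hx]; exact Submodule.mem_sup_left j.2)
    refine hπ _ j ?_
    simp [h0, hx]
  -- the module `J / J ^ 2`
  let M := ↥J ⧸ (J • (⊤ : Submodule A J))
  haveI : Module.Finite A ↥J := Module.Finite.iff_fg.2 h1
  let toT : M →ₗ[A] T := Submodule.mapQ _ _ LinearMap.id (Submodule.smul_mono_left hJI)
  have hsurj : Function.Surjective toT := fun t => by
    induction t using Submodule.Quotient.induction_on with
    | H j => exact ⟨Submodule.Quotient.mk j, rfl⟩
  obtain ⟨r, hr⟩ := Module.projective_lifting_property toT D.liftKaehlerDifferential hsurj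
  let δ : Derivation R A M := r.compDer (KaehlerDifferential.D R A)
  have hJM : ∀ a ∈ J, ∀ m : M, a • m = 0 := fun a ha m => by
    induction m using Submodule.Quotient.induction_on with
    | H j =>
      rw [← Submodule.Quotient.mk_smul, Submodule.Quotient.mk_eq_zero]
      exact Submodule.smul_mem_smul ha trivial
  let e0 : J →ₗ[A] M :=
    { toFun := fun j => δ j
      map_add' := fun j j' => map_add δ _ _
      map_smul' := fun a j => by
        rw [RingHom.id_apply, Submodule.coe_smul, smul_eq_mul, Derivation.leibniz, hJM j j.2, add_zero] }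
  let e : Module.End A M := Submodule.liftQ _ e0 (Submodule.smul_le.2 fun a ha j _ => by
    rw [LinearMap.mem_ker, map_smul]; exact hJM a ha _)
  have he : LinearMap.range (e - 1) ≤ I • (⊤ : Submodule A M) := by
    rintro _ ⟨m, rfl⟩
    induction m using Submodule.Quotient.induction_on with
    | H j =>
      have h : toT ((e - 1) (Submodule.Quotient.mk j)) = 0 := by
        change toT (r (KaehlerDifferential.D R A j) - Submodule.Quotient.mk j) = 0
        rw [map_sub, ← LinearMap.comp_apply, hr, Derivation.liftKaehlerDifferential_comp_D, hDj]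
        exact sub_self _
      obtain ⟨z, hz⟩ := Submodule.Quotient.mk_surjective _ ((e - 1) (Submodule.Quotient.mk j))
      rw [← hz] at h ⊢
      have hz' : z ∈ I • (⊤ : Submodule A J) := (Submodule.Quotient.mk_eq_zero _).1 h
      have : (Submodule.Quotient.mk z : M) ∈ (I • (⊤ : Submodule A J)).map (Submodule.mkQ _) := ⟨z, hz', rfl⟩
      rw [Submodule.map_smul''] at this
      exact Submodule.smul_mono le_rfl le_top this
  obtain ⟨u, q, n, hu, hq⟩ := exists_quasiInverse I e he
  refine Algebra.FormallySmooth.of_comp_surjective ?_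
  intro C _ _ N hN g
  let gB : A →ₐ[R] C ⧸ N :=
    (g.comp (IsScalarTower.toAlgHom R (A ⧸ J) (Localization.AtPrime P))).comp (Ideal.Quotient.mkₐ R J)
  let h : A →ₐ[R] C := Algebra.FormallySmooth.lift N ⟨2, hN⟩ gB
  have hh : ∀ a, Ideal.Quotient.mk N (h a) = gB a := fun a =>
    Algebra.FormallySmooth.mk_lift N ⟨2, hN⟩ gB a
  letI : Algebra A C := h.toRingHom.toAlgebra
  haveI : IsScalarTower R A C := IsScalarTower.of_algebraMap_eq fun x => (h.commutes x).symm
  have hJN : ∀ j : J, h j ∈ N := fun j => by
    rw [← Ideal.Quotient.eq_zero_iff_mem, hh]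
    change g _ = 0
    simp [Ideal.Quotient.eq_zero_iff_mem.2 j.2]
  have hNN : ∀ a ∈ N, ∀ b ∈ N, a * b = 0 := fun a ha b hb => by
    rw [← Ideal.mem_bot, ← hN, sq]; exact Ideal.mul_mem_mul ha hb
  let hJ0 : J →ₗ[A] (N.restrictScalars A) :=
    { toFun := fun j => ⟨h j, hJN j⟩
      map_add' := fun j j' => Subtype.ext (map_add h _ _)
      map_smul' := fun a j => Subtype.ext (map_mul h _ _) }
  let hM : M →ₗ[A] (N.restrictScalars A) := Submodule.liftQ _ hJ0 (Submodule.smul_le.2 fun a ha j _ => by
    rw [LinearMap.mem_ker]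
    refine Subtype.ext ?_
    change h (a * j) = 0
    rw [map_mul]; exact hNN _ (hJN ⟨a, ha⟩) _ (hJN j))
  have huP : Ideal.Quotient.mk J u ∉ P := fun hmem => by
    have h' : Ideal.Quotient.mk J ((-1) ^ n) ∈ P := by
      have := P.sub_mem hmem (hP (Ideal.mem_map_of_mem _ hu))
      rwa [map_sub, sub_sub_cancel] at this
    exact ‹P.IsPrime›.ne_top (Ideal.eq_top_of_isUnit_mem _ h' (((isUnit_one.neg).pow n).map _))
  haveI hloc : IsLocalization P.primeCompl (Localization.AtPrime P) := inferInstance
  have hunit : ∀ (c : C) (s : P.primeCompl), Ideal.Quotient.mk N c = g (algebraMap (A ⧸ J) _ s) → IsUnit c := by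
    intro c s hc
    have hcu : IsUnit (Ideal.Quotient.mk N c) := hc ▸ (IsLocalization.map_units _ s).map g
    obtain ⟨d, hd⟩ := Ideal.Quotient.mk_surjective (I := N) ↑hcu.unit⁻¹
    have hcd : c * d - 1 ∈ N := by
      rw [← Ideal.Quotient.eq_zero_iff_mem, map_sub, map_mul, hd, map_one, hcu.mul_val_inv, sub_self]
    refine IsUnit.of_mul_eq_one (d * (2 - c * d)) ?_
    linear_combination (-1 : C) * hNN _ hcd _ hcd
  have huC : IsUnit (h u) := hunit _ ⟨_, huP⟩ (hh u)
  let ψ : Derivation R A C :=
    (((huC.unit⁻¹ : Cˣ) : C) • (N.restrictScalars A).subtype ∘ₗ (hM ∘ₗ q)).compDer δ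
  have hψN : ∀ a, ψ a ∈ N := fun a => N.mul_mem_left _ ((hM (q (δ a))).2)
  have hψJ : ∀ j : J, ψ j = h j := fun j => by
    change ((huC.unit⁻¹ : Cˣ) : C) * (hM ((q * e) (Submodule.Quotient.mk j)) : C) = h j
    rw [hq, LinearMap.smul_apply, Module.End.one_apply, map_smul]
    change ((huC.unit⁻¹ : Cˣ) : C) * (h u * h j) = h j
    rw [← _root_.mul_assoc, huC.val_inv_mul, _root_.one_mul]
  let h' : A →ₐ[R] C :=
    { toFun := fun a => h a - ψ a
      map_one' := by rw [map_one, Derivation.map_one_eq_zero, sub_zero]
      map_zero' := by rw [map_zero, map_zero, sub_zero]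
      map_add' := fun a b => by rw [map_add, map_add]; ring
      map_mul' := fun a b => by
        rw [map_mul, Derivation.leibniz]
        change h a * h b - (h a * ψ b + h b * ψ a) = (h a - ψ a) * (h b - ψ b)
        linear_combination (-1 : C) * hNN _ (hψN a) _ (hψN b)
      commutes' := fun x => by rw [Derivation.map_algebraMap, sub_zero, AlgHom.commutes] }
  have hh' : ∀ a, Ideal.Quotient.mk N (h' a) = gB a := fun a => by
    change Ideal.Quotient.mk N (h a - ψ a) = _
    rw [map_sub, hh, Ideal.Quotient.eq_zero_iff_mem.2 (hψN a), sub_zero]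
  let hB : A ⧸ J →ₐ[R] C := Ideal.Quotient.liftₐ J h' fun a ha => by
    change h a - ψ a = 0
    rw [show ψ a = h a from hψJ ⟨a, ha⟩, sub_self]
  have hS : ∀ s : P.primeCompl, IsUnit (hB s) := fun s => by
    obtain ⟨a, ha⟩ := Ideal.Quotient.mk_surjective (I := J) (s : A ⧸ J)
    refine hunit _ s ?_
    rw [← ha]
    exact hh' a
  refine ⟨IsLocalization.liftAlgHom (M := P.primeCompl) hS, ?_⟩
  refine AlgHom.coe_ringHom_injective (IsLocalization.ringHom_ext P.primeCompl ?_)
  refine Ideal.Quotient.ringHom_ext (RingHom.ext fun a => ?_)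
  simp only [RingHom.coe_comp, Function.comp_apply, RingHom.coe_coe, AlgHom.comp_apply]
  change Ideal.Quotient.mk N (IsLocalization.liftAlgHom (M := P.primeCompl) hS
    (algebraMap (A ⧸ J) (Localization.AtPrime P) (Ideal.Quotient.mk J a))) = _
  rw [IsLocalization.liftAlgHom_apply, IsLocalization.lift_eq]
  exact hh' a

end Groth.Agent.S19149
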