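import Groth.Statements.S19154
import Mathlib

set_option autoImplicit false
open scoped TensorProduct
universe u v w
open FiltMod

open scoped TensorProduct
namespace Groth.Agent.S19154

set_option backward.isDefEq.respectTransparency false
set_option backward.defeqAttrib.useBackward true

open scoped DirectSum

section
variable {Γ : Type*} [LinearOrder Γ] {R : Type*} [Ring R] {M : Type*} [AddCommGroup M] [Module R M]
  {G : Γ → Submodule R M}

lemma mono_Ici {γ η : Γ} (h : γ ≤ η) {x : M} (hx : x ∈ ⨆ θ ∈ Set.Ici η, G θ) : x ∈ ⨆ θ ∈ Set.Ici γ, G θ :=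
  (iSup₂_le fun θ hθ => le_iSup₂ (f := fun θ (_ : θ ∈ Set.Ici γ) => G θ) θ (h.trans hθ) : (⨆ θ ∈ Set.Ici η, G θ) ≤ _) hx

lemma mono_Ioi {γ η : Γ} (h : γ < η) {x : M} (hx : x ∈ ⨆ θ ∈ Set.Ici η, G θ) : x ∈ ⨆ θ ∈ Set.Ioi γ, G θ :=
  (iSup₂_le fun θ hθ => le_iSup₂ (f := fun θ (_ : θ ∈ Set.Ioi γ) => G θ) θ (h.trans_le hθ) : (⨆ θ ∈ Set.Ici η, G θ) ≤ _) hx

noncomputable def proj (hG : DirectSum.IsInternal G) (η : Γ) : M →ₗ[R] M :=
  (G η).subtype ∘ₗ DirectSum.component R Γ (fun i => G i) η ∘ₗ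
    (LinearEquiv.ofBijective (DirectSum.coeLinearMap G) hG).symm.toLinearMap

variable (hG : DirectSum.IsInternal G)

include hG in
lemma proj_mem (η : Γ) (x : M) : proj hG η x ∈ G η := by
  exact Submodule.coe_mem _

lemma proj_of_mem {η θ : Γ} {x : M} (hx : x ∈ G θ) : proj hG η x = if θ = η then x else 0 := by
  have h : (LinearEquiv.ofBijective (DirectSum.coeLinearMap G) hG).symm x = DirectSum.of (fun i => G i) θ ⟨x, hx⟩ := by
    rw [LinearEquiv.symm_apply_eq]
    exact (DirectSum.coeLinearMap_of G θ ⟨x, hx⟩).symm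
  show ((LinearEquiv.ofBijective (DirectSum.coeLinearMap G) hG).symm x η : M) = _
  rw [h, DirectSum.of_apply]
  split_ifs with h1
  · subst h1; rfl
  · rfl

lemma exists_sum (x : M) : ∃ s : Finset Γ, x = ∑ η ∈ s, proj hG η x ∧ ∀ η, η ∉ s → proj hG η x = 0 := by
  classical
  let c := (LinearEquiv.ofBijective (DirectSum.coeLinearMap G) hG).symm x
  refine ⟨DFinsupp.support c, ?_, fun η hη => ?_⟩
  · have h : DirectSum.coeLinearMap G c = x := (LinearEquiv.ofBijective (DirectSum.coeLinearMap G) hG).apply_symm_apply x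
    conv_lhs => rw [← h, ← DirectSum.sum_support_of c]
    rw [map_sum]
    exact Finset.sum_congr rfl fun i _ => DirectSum.coeLinearMap_of G i (c i)
  · show ((c η : G η) : M) = 0
    rw [DFinsupp.notMem_support_iff.mp hη]; rfl

lemma mem_ge_iff (γ : Γ) (x : M) : x ∈ ⨆ η ∈ Set.Ici γ, G η ↔ ∀ η, η < γ → proj hG η x = 0 := by
  constructor
  · intro hx η hη
    have : (⨆ θ ∈ Set.Ici γ, G θ) ≤ LinearMap.ker (proj hG η) := iSup₂_le fun θ hθ z hz => by
      rw [LinearMap.mem_ker, proj_of_mem hG hz, if_neg]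
      exact (hη.trans_le hθ).ne'
    exact this hx
  · intro h
    obtain ⟨s, hs, -⟩ := exists_sum hG x
    rw [hs]
    refine Submodule.sum_mem _ fun η _ => ?_
    by_cases hη : η < γ
    · rw [h η hη]; exact zero_mem _
    · exact le_iSup₂ (f := fun θ (_ : θ ∈ Set.Ici γ) => G θ) η (le_of_not_gt hη) (proj_mem hG η x)

lemma mem_gt_iff (γ : Γ) (x : M) : x ∈ ⨆ η ∈ Set.Ioi γ, G η ↔ ∀ η, η ≤ γ → proj hG η x = 0 := by
  constructor
  · intro hx η hη
    have : (⨆ θ ∈ Set.Ioi γ, G θ) ≤ LinearMap.ker (proj hG η) := iSup₂_le fun θ hθ z hz => by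
      rw [LinearMap.mem_ker, proj_of_mem hG hz, if_neg]
      exact (hη.trans_lt hθ).ne'
    exact this hx
  · intro h
    obtain ⟨s, hs, -⟩ := exists_sum hG x
    rw [hs]
    refine Submodule.sum_mem _ fun η _ => ?_
    by_cases hη : η ≤ γ
    · rw [h η hη]; exact zero_mem _
    · exact le_iSup₂ (f := fun θ (_ : θ ∈ Set.Ioi γ) => G θ) η (lt_of_not_ge hη) (proj_mem hG η x)

end

open scoped TensorProduct

section
variable {Γ : Type*} [LinearOrder Γ] {K V : Type*} [Field K] [AddCommGroup V] [Module K V] [FiniteDimensional K V]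

lemma le_of_jumps (Fx : Γ → Submodule K V) (W : Submodule K V) (hanti : Antitone Fx)
    (hW : ∀ γ, Fx γ ≤ W ⊔ ⨆ η ∈ Set.Ioi γ, Fx η) (J : Finset Γ) :
    ∀ (U : Submodule K V), (∀ γ ∈ J, Fx γ ≤ U) →
      (∑ γ ∈ J, (Module.finrank K (Fx γ) - Module.finrank K ↥(⨆ η ∈ Set.Ioi γ, Fx η)) ≤ Module.finrank K U) ∧
      (∑ γ ∈ J, (Module.finrank K (Fx γ) - Module.finrank K ↥(⨆ η ∈ Set.Ioi γ, Fx η)) = Module.finrank K U → U ≤ W) := by
  classical
  induction J using Finset.induction_on_min with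
  | empty => exact fun U _ => ⟨Nat.zero_le _, fun h => by rw [Submodule.finrank_eq_zero.mp h.symm]; exact bot_le⟩
  | insert a S ha ih =>
    intro U hU
    have hFa := hU a (Finset.mem_insert_self _ _)
    have hsub : (⨆ η ∈ Set.Ioi a, Fx η) ≤ Fx a := iSup₂_le fun η hη => hanti (le_of_lt hη)
    obtain ⟨h1, h2⟩ := ih (⨆ η ∈ Set.Ioi a, Fx η) fun γ hγ => le_iSup₂ (f := fun η (_ : η ∈ Set.Ioi a) => Fx η) γ (ha γ hγ)
    have h3 := Submodule.finrank_mono hsub
    have h4 := Submodule.finrank_mono hFa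
    rw [Finset.sum_insert (fun h => (ha a h).false)]
    refine ⟨by omega, fun he => ?_⟩
    rw [← Submodule.eq_of_le_of_finrank_le hFa (by omega)]
    exact (hW a).trans (sup_le le_rfl (h2 (by omega)))

lemma finrank_biSup (G : Γ → Submodule K V) (hG : iSupIndep G) (S : Finset Γ) :
    Module.finrank K ↥(⨆ γ ∈ S, G γ) = ∑ γ ∈ S, Module.finrank K (G γ) := by
  classical
  induction S using Finset.induction_on with
  | empty => rw [show (⨆ γ ∈ (∅ : Finset Γ), G γ) = ⊥ by simp]; simp
  | insert a S ha ih =>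
    rw [Finset.sum_insert ha, Finset.iSup_insert, ← ih]
    have hd : Disjoint (G a) (⨆ γ ∈ S, G γ) := (hG a).mono_right (iSup₂_le fun γ hγ => le_iSup₂ (f := fun j (_ : j ≠ a) => G j) γ (fun h => ha (h ▸ hγ)))
    have := Submodule.finrank_sup_add_finrank_inf_eq (G a) (⨆ γ ∈ S, G γ)
    rw [hd.eq_bot, finrank_bot, add_zero] at this
    exact this

lemma finrank_jump (G : Γ → Submodule K V) (hG : iSupIndep G) (γ : Γ) :
    Module.finrank K ↥(⨆ η ∈ Set.Ici γ, G η) - Module.finrank K ↥(⨆ η ∈ Set.Ioi γ, G η) = Module.finrank K (G γ) := by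
  have hd : Disjoint (G γ) (⨆ η ∈ Set.Ioi γ, G η) := (hG γ).mono_right (iSup₂_le fun η hη =>
    le_iSup₂ (f := fun j (_ : j ≠ γ) => G j) η (ne_of_gt hη))
  have h : (⨆ η ∈ Set.Ici γ, G η) = G γ ⊔ ⨆ η ∈ Set.Ioi γ, G η := by
    rw [← Set.Ioi_insert, iSup_insert]
  have := Submodule.finrank_sup_add_finrank_inf_eq (G γ) (⨆ η ∈ Set.Ioi γ, G η)
  rw [hd.eq_bot, finrank_bot, add_zero] at this
  rw [h, this, Nat.add_sub_cancel]

end

section
variable {Γ : Type*} [LinearOrder Γ] {R : Type*} [CommRing R] {M : Type*} [AddCommGroup M] [Module R M]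
  (A : Type*) [CommRing A] [Algebra R A]

noncomputable def img (N : Submodule R M) : Submodule A (A ⊗[R] M) := LinearMap.range (N.subtype.baseChange A)

lemma img_le_iff (N : Submodule R M) (U : Submodule A (A ⊗[R] M)) : img A N ≤ U ↔ ∀ x ∈ N, (1 : A) ⊗ₜ[R] x ∈ U := by
  refine ⟨fun h x hx => h ⟨1 ⊗ₜ[R] ⟨x, hx⟩, by simp⟩, fun h => ?_⟩
  rintro _ ⟨z, rfl⟩
  induction z using TensorProduct.induction_on with
  | zero => rw [map_zero]; exact zero_mem _
  | tmul a x =>
    have : a ⊗ₜ[R] (x : M) = a • ((1 : A) ⊗ₜ[R] (x : M)) := by simp [TensorProduct.smul_tmul']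
    rw [LinearMap.baseChange_tmul, Submodule.subtype_apply, this]
    exact U.smul_mem a (h x x.2)
  | add x y hx hy => rw [map_add]; exact add_mem hx hy

lemma tmul_mem_img {N : Submodule R M} {x : M} (hx : x ∈ N) : (1 : A) ⊗ₜ[R] x ∈ img A N :=
  (img_le_iff A N _).mp le_rfl x hx

lemma img_mono {N N' : Submodule R M} (h : N ≤ N') : img A N ≤ img A N' :=
  (img_le_iff A N _).mpr fun _ hx => tmul_mem_img A (h hx)

lemma img_iSup {ι : Sort*} (N : ι → Submodule R M) : img A (⨆ i, N i) = ⨆ i, img A (N i) := by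
  refine le_antisymm ((img_le_iff A _ _).mpr fun x hx => ?_) (iSup_le fun i => img_mono A (le_iSup N i))
  induction hx using Submodule.iSup_induction' with
  | mem i x hx => exact Submodule.mem_iSup_of_mem i (tmul_mem_img A hx)
  | zero => rw [TensorProduct.tmul_zero]; exact zero_mem _
  | add x y _ _ hx hy => rw [TensorProduct.tmul_add]; exact add_mem hx hy

lemma img_top : img A (⊤ : Submodule R M) = ⊤ := by
  rw [eq_top_iff]
  rintro z -
  induction z using TensorProduct.induction_on with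
  | zero => exact zero_mem _
  | tmul a x =>
    have : a ⊗ₜ[R] x = a • ((1 : A) ⊗ₜ[R] x) := by simp [TensorProduct.smul_tmul']
    rw [this]; exact Submodule.smul_mem _ a (tmul_mem_img A trivial)
  | add x y hx hy => exact add_mem hx hy

end

section
variable {Γ : Type*} [LinearOrder Γ] {R : Type u} [CommRing R] {M : Type v} [AddCommGroup M] [Module R M]

lemma eq_top_of_residue [Module.Finite R M] (N : Submodule R M)
    (h : ∀ p : PrimeSpectrum R, img p.asIdeal.ResidueField N = ⊤) : N = ⊤ := by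
  rw [← Submodule.Quotient.subsingleton_iff, ← Module.support_eq_empty_iff (R := R), Set.eq_empty_iff_forall_notMem]
  intro p hp
  have h2 := (Module.mem_support_iff_nontrivial_residueField_tensorProduct p (M := M ⧸ N)).mp hp
  have : ∀ z : p.asIdeal.ResidueField ⊗[R] (M ⧸ N), z = 0 := fun z => by
    obtain ⟨y, rfl⟩ := LinearMap.lTensor_surjective p.asIdeal.ResidueField N.mkQ_surjective z
    have hy : y ∈ img p.asIdeal.ResidueField N := by rw [h p]; trivial
    have hle : img p.asIdeal.ResidueField N ≤ LinearMap.ker (N.mkQ.baseChange p.asIdeal.ResidueField) :=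
      (img_le_iff _ _ _).mpr fun x hx => by simp [(Submodule.Quotient.mk_eq_zero N).mpr hx]
    exact hle hy
  exact not_subsingleton _ ⟨fun x y => (this x).trans (this y).symm⟩

end

/-- (1) ⇔ (4): in affine form, let Γ be a non-trivial totally ordered commutative group, R a commutative
ring, M a finitely generated projective R-module (a finite locally free sheaf on X = Spec R) and F a
non-increasing Γ-indexed family of submodules of M; write F^γ_+ for the sum of the F^η with η > γ
and Gr^γ = F^γ/F^γ_+. Then the following are equivalent: (1) there is a Γ-grading M = ⊕_γ G_γ by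
submodules (internal direct sum) with F^γ = Σ_{η ≥ γ} G_η for every γ; (4) every Gr^γ is finitely
generated projective over R and, for every prime p of R, dim_{κ(p)} (κ(p) ⊗ M) = Σ_γ dim_{κ(p)} Gr^γ
of the image filtration on κ(p) ⊗ M (whose γ-th term F_x^γ is the image of κ(p) ⊗ F^γ; dim Gr^γ is
written as dim F_x^γ − dim F_x^γ_+, and the sum has finitely many non-zero terms). (The source's
conditions (2), (3) are the Zariski- and fpqc-local forms of (1) on a general scheme; its further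
assertions on F^γ ⊗ κ(x) are not stated.) -/
theorem result
    {Γ : Type w} [AddCommGroup Γ] [LinearOrder Γ] [IsOrderedAddMonoid Γ] [Nontrivial Γ]
    {R : Type u} [CommRing R] {M : Type v} [AddCommGroup M] [Module R M] [Module.Finite R M] [Module.Projective R M]
    (F : Γ → Submodule R M) (hF : Antitone F)
    (Fp : Γ → Submodule R M) (hFp : ∀ γ, Fp γ = ⨆ η ∈ Set.Ioi γ, F η) :
    (∃ G : Γ → Submodule R M, DirectSum.IsInternal G ∧ ∀ γ, F γ = ⨆ η ∈ Set.Ici γ, G η) ↔
    ((∀ γ, Module.Finite R (↥(F γ) ⧸ Submodule.comap (F γ).subtype (Fp γ)) ∧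
        Module.Projective R (↥(F γ) ⧸ Submodule.comap (F γ).subtype (Fp γ))) ∧
      ∀ (p : PrimeSpectrum R) (Fx : Γ → Submodule p.asIdeal.ResidueField (p.asIdeal.ResidueField ⊗[R] M)),
        (∀ γ, Fx γ = LinearMap.range ((F γ).subtype.baseChange p.asIdeal.ResidueField)) →
        Module.finrank p.asIdeal.ResidueField (p.asIdeal.ResidueField ⊗[R] M) =
          ∑ᶠ γ, (Module.finrank p.asIdeal.ResidueField ↥(Fx γ) -
            Module.finrank p.asIdeal.ResidueField ↥(⨆ η ∈ Set.Ioi γ, Fx η))) := by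
  classical
  constructor
  · rintro ⟨G, hG, hFG⟩
    have hFpG : ∀ γ, Fp γ = ⨆ η ∈ Set.Ioi γ, G η := fun γ => by
      rw [hFp]
      refine le_antisymm (iSup₂_le fun η hη x hx => mono_Ioi hη (hFG η ▸ hx)) (iSup₂_mono fun η _ => ?_)
      rw [hFG]; exact le_iSup₂ (f := fun θ (_ : θ ∈ Set.Ici η) => G θ) η (le_refl η)
    have hpm : ∀ γ x, proj hG γ x ∈ G γ := fun γ x => proj_mem hG γ x
    refine ⟨fun γ => ?_, fun p Fx hFx => ?_⟩
    · let π : ↥(F γ) →ₗ[R] ↥(G γ) := LinearMap.codRestrict _ (proj hG γ ∘ₗ (F γ).subtype) fun x => hpm γ x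
      have hsurj : Function.Surjective π := fun g => ⟨⟨g, hFG γ ▸ le_iSup₂ (f := fun θ (_ : θ ∈ Set.Ici γ) => G θ) γ (le_refl γ) g.2⟩,
        Subtype.ext ((proj_of_mem hG g.2).trans (if_pos rfl))⟩
      have hker : Submodule.comap (F γ).subtype (Fp γ) = LinearMap.ker π := by
        ext x
        constructor
        · intro hx
          have : (⨆ η ∈ Set.Ioi γ, G η) ≤ LinearMap.ker (proj hG γ) := iSup₂_le fun θ hθ z hz => by
            rw [LinearMap.mem_ker, proj_of_mem hG hz, if_neg (ne_of_gt hθ)]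
          exact Subtype.ext (this (hFpG γ ▸ hx))
        · intro hx
          show (x : M) ∈ Fp γ
          obtain ⟨s, hs, -⟩ := exists_sum hG (x : M)
          rw [hFpG, hs]
          refine Submodule.sum_mem _ fun η _ => ?_
          rcases lt_trichotomy η γ with h | rfl | h
          · rw [(mem_ge_iff hG γ _).mp (hFG γ ▸ x.2) η h]; exact zero_mem _
          · rw [show proj hG η (x : M) = 0 from congrArg Subtype.val hx]; exact zero_mem _
          · exact le_iSup₂ (f := fun θ (_ : θ ∈ Set.Ioi γ) => G θ) η h (hpm η _)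
      let e : (↥(F γ) ⧸ Submodule.comap (F γ).subtype (Fp γ)) ≃ₗ[R] ↥(G γ) :=
        (Submodule.quotEquivOfEq _ _ hker).trans (π.quotKerEquivOfSurjective hsurj)
      let pr : M →ₗ[R] ↥(G γ) := LinearMap.codRestrict _ (proj hG γ) (hpm γ)
      have hpr : pr ∘ₗ (G γ).subtype = LinearMap.id := LinearMap.ext fun g => Subtype.ext ((proj_of_mem hG g.2).trans (if_pos rfl))
      have : Module.Finite R (G γ) := Module.Finite.of_surjective pr (fun g => ⟨g, LinearMap.congr_fun hpr g⟩)
      have : Module.Projective R (G γ) := Module.Projective.of_split (G γ).subtype pr hpr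
      exact ⟨Module.Finite.equiv e.symm, Module.Projective.of_equiv e.symm⟩
    · let κ := p.asIdeal.ResidueField
      let G' : Γ → Submodule κ (κ ⊗[R] M) := fun γ => img κ (G γ)
      have hind : iSupIndep G' := fun γ => Submodule.disjoint_def.mpr fun x hx hx' => by
        have h1 : img κ (G γ) ≤ LinearMap.ker ((proj hG γ).baseChange κ - LinearMap.id) := (img_le_iff _ _ _).mpr fun y hy => by
          simp [proj_of_mem hG hy]
        have h2 : (⨆ (j) (_ : j ≠ γ), G' j) ≤ LinearMap.ker ((proj hG γ).baseChange κ) := iSup₂_le fun j hj =>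
          (img_le_iff _ _ _).mpr fun y hy => by simp [proj_of_mem hG hy, if_neg hj]
        have e1 := h1 hx
        have e2 := h2 hx'
        simp only [LinearMap.mem_ker, LinearMap.sub_apply, LinearMap.id_apply] at e1 e2
        rw [e2, zero_sub, neg_eq_zero] at e1
        exact e1
      have htop : (⨆ γ, G' γ) = ⊤ := by rw [← img_iSup, hG.submodule_iSup_eq_top, img_top]
      have hx1 : ∀ γ, Fx γ = ⨆ η ∈ Set.Ici γ, G' η := fun γ => by
        rw [hFx γ]; show img κ (F γ) = _
        rw [hFG γ, img_iSup]; simp only [img_iSup]; rfl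
      have hx2 : ∀ γ, (⨆ η ∈ Set.Ioi γ, Fx η) = ⨆ η ∈ Set.Ioi γ, G' η := fun γ =>
        le_antisymm (iSup₂_le fun η hη x hx => mono_Ioi hη (hx1 η ▸ hx))
          (iSup₂_mono fun η _ => by rw [hx1]; exact le_iSup₂ (f := fun θ (_ : θ ∈ Set.Ici η) => G' θ) η (le_refl η))
      obtain ⟨T, hT⟩ := Module.Finite.fg_top (R := R) (M := M)
      let S := T.biUnion fun x => (exists_sum hG x).choose
      have hS : ∀ γ, γ ∉ S → G γ = ⊥ := fun γ hγ => (Submodule.eq_bot_iff _).mpr fun y hy => by
        have : Submodule.span R (T : Set M) ≤ LinearMap.ker (proj hG γ) := Submodule.span_le.mpr fun z hz =>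
          (exists_sum hG z).choose_spec.2 γ fun h => hγ (Finset.mem_biUnion.mpr ⟨z, hz, h⟩)
        have h0 : proj hG γ y = 0 := this (hT ▸ Submodule.mem_top)
        rwa [proj_of_mem hG hy, if_pos rfl] at h0
      have hS' : ∀ γ, γ ∉ S → G' γ = ⊥ := fun γ hγ => le_bot_iff.mp ((img_le_iff _ _ _).mpr fun x hx => by
        rw [hS γ hγ, Submodule.mem_bot] at hx; simp [hx])
      rw [show (fun γ => Module.finrank p.asIdeal.ResidueField ↥(Fx γ) - Module.finrank p.asIdeal.ResidueField ↥(⨆ η ∈ Set.Ioi γ, Fx η)) = fun γ => Module.finrank κ (G' γ) from funext fun γ => by rw [hx2 γ, hx1 γ]; exact finrank_jump G' hind γ]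
      rw [finsum_eq_sum_of_support_subset _ (s := S) (fun γ hγ => by
        by_contra h
        exact hγ (by show Module.finrank κ (G' γ) = 0; rw [hS' γ h]; exact finrank_bot κ _)), ← finrank_biSup G' hind S]
      have : (⨆ γ ∈ S, G' γ) = ⊤ := by
        rw [eq_top_iff, ← htop]
        refine iSup_le fun γ => ?_
        by_cases h : γ ∈ S
        · exact le_iSup₂ (f := fun θ (_ : θ ∈ S) => G' θ) γ h
        · rw [hS' γ h]; exact bot_le
      rw [this, finrank_top]
  · rintro ⟨hproj, hrank⟩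
    have hsec : ∀ γ, ∃ s : (↥(F γ) ⧸ Submodule.comap (F γ).subtype (Fp γ)) →ₗ[R] ↥(F γ), (Submodule.comap (F γ).subtype (Fp γ)).mkQ ∘ₗ s = LinearMap.id :=
      fun γ => by have := (hproj γ).2; exact Module.projective_lifting_property _ _ (Submodule.mkQ_surjective _)
    choose s hs using hsec
    let G : Γ → Submodule R M := fun γ => LinearMap.range ((F γ).subtype ∘ₗ s γ)
    have hGF : ∀ γ, G γ ≤ F γ := fun γ => by rintro _ ⟨q, rfl⟩; exact (s γ q).2
    have hGP : ∀ γ x, x ∈ G γ → x ∈ Fp γ → x = 0 := fun γ x hx hxp => by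
      obtain ⟨q, rfl⟩ := hx
      have h1 : Submodule.Quotient.mk (s γ q) = q := LinearMap.congr_fun (hs γ) q
      have h2 : (Submodule.Quotient.mk (s γ q) : ↥(F γ) ⧸ Submodule.comap (F γ).subtype (Fp γ)) = 0 := (Submodule.Quotient.mk_eq_zero _).mpr hxp
      rw [h1] at h2
      rw [h2, map_zero]
    have hFsplit : ∀ γ, F γ ≤ G γ ⊔ Fp γ := fun γ y hy => by
      let q : ↥(F γ) ⧸ Submodule.comap (F γ).subtype (Fp γ) := Submodule.Quotient.mk ⟨y, hy⟩
      have hm : (⟨y, hy⟩ : ↥(F γ)) - s γ q ∈ Submodule.comap (F γ).subtype (Fp γ) :=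
        (Submodule.Quotient.eq _).mp (LinearMap.congr_fun (hs γ) q).symm
      rw [← add_sub_cancel (s γ q : M) y]
      exact Submodule.add_mem_sup ⟨q, rfl⟩ hm
    have htop : (⨆ γ, G γ) = ⊤ := eq_top_of_residue _ fun p => by
      let κ := p.asIdeal.ResidueField
      let Fx : Γ → Submodule κ (κ ⊗[R] M) := fun γ => img κ (F γ)
      have hsum := hrank p Fx fun γ => rfl
      have hW : ∀ γ, Fx γ ≤ img κ (⨆ γ, G γ) ⊔ ⨆ η ∈ Set.Ioi γ, Fx η := fun γ => by
        refine (img_mono κ (hFsplit γ)).trans ((img_le_iff _ _ _).mpr fun x hx => ?_)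
        obtain ⟨g, hg, r, hr, rfl⟩ := Submodule.mem_sup.mp hx
        rw [TensorProduct.tmul_add]
        refine Submodule.add_mem_sup (tmul_mem_img κ (Submodule.mem_iSup_of_mem γ hg)) ?_
        have hmem : (1 : κ) ⊗ₜ[R] r ∈ img κ (Fp γ) := tmul_mem_img κ hr
        rw [hFp, img_iSup] at hmem; simp only [img_iSup] at hmem
        exact hmem
      by_cases hfin : (Function.support fun γ => Module.finrank κ (Fx γ) - Module.finrank κ ↥(⨆ η ∈ Set.Ioi γ, Fx η)).Finite
      · rw [finsum_eq_sum _ hfin] at hsum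
        exact top_le_iff.mp ((le_of_jumps Fx _ (fun a b h => img_mono κ (hF h)) hW hfin.toFinset ⊤ fun _ _ => le_top).2
          (hsum.symm.trans (finrank_top κ _).symm))
      · rw [finsum_of_infinite_support hfin] at hsum
        have := Module.finrank_zero_iff.mp hsum
        exact Subsingleton.elim _ _
    have hFle : ∀ γ η, γ < η → F η ≤ Fp γ := fun γ η h => by rw [hFp]; exact le_iSup₂ (f := fun θ (_ : θ ∈ Set.Ioi γ) => F θ) η h
    have hlow : ∀ (S : Finset Γ) (v : Γ → M) (γ : Γ), (∀ η ∈ S, v η ∈ G η) → (∑ η ∈ S, v η) ∈ F γ → ∀ η ∈ S, η < γ → v η = 0 := by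
      intro S
      induction S using Finset.induction_on_min with
      | empty => simp
      | insert a S ha ih =>
        intro v γ hv hy
        rw [Finset.sum_insert (fun h => (ha a h).false)] at hy
        intro η hη hlt
        have haγ : a < γ := by
          rcases Finset.mem_insert.mp hη with rfl | h
          · exact hlt
          · exact (ha η h).trans hlt
        have hva : v a = 0 := by
          refine hGP a _ (hv a (Finset.mem_insert_self _ _)) ?_
          rw [← add_sub_cancel_right (v a) (∑ η ∈ S, v η)]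
          exact sub_mem (hFle a γ haγ hy) (Submodule.sum_mem _ fun θ hθ => hFle a θ (ha θ hθ) (hGF θ (hv θ (Finset.mem_insert_of_mem hθ))))
        rcases Finset.mem_insert.mp hη with rfl | h
        · exact hva
        · rw [hva, zero_add] at hy
          exact ih v γ (fun θ hθ => hv θ (Finset.mem_insert_of_mem hθ)) hy η h hlt
    refine ⟨G, DirectSum.isInternal_submodule_of_iSupIndep_of_iSup_eq_top ?_ htop, fun γ => le_antisymm (fun y hy => ?_) (iSup₂_le fun η hη => (hGF η).trans (hF hη))⟩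
    · rw [iSupIndep_iff_finsetSum_eq_zero_imp_eq_zero]
      intro S v hv h0 η hη
      obtain ⟨γ, hγ⟩ := exists_gt η
      exact hlow S v γ hv (h0 ▸ zero_mem _) η hη hγ
    · obtain ⟨c, hc, hsum⟩ := (Submodule.mem_iSup_iff_exists_finsupp G y).mp (htop ▸ Submodule.mem_top)
      rw [← hsum]
      refine Submodule.sum_mem _ fun η hη => ?_
      by_cases h : η < γ
      · rw [hlow c.support c γ (fun θ _ => hc θ) (by rw [show (∑ θ ∈ c.support, c θ) = y from hsum]; exact hy) η hη h]; exact zero_mem _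
      · exact le_iSup₂ (f := fun θ (_ : θ ∈ Set.Ici γ) => G θ) η (le_of_not_gt h) (hc η)

end Groth.Agent.S19154
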