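import Groth.Statements.S19155
import Groth.Agent.RootSys.Exists

set_option autoImplicit false
open RootPairing
open RootD

namespace Groth.Agent.S19155

/-- Let P be a root datum (root pairing over ℤ with finitely many roots, roots in M), S a system of
positive roots, Γ a non-trivial totally ordered commutative group and f : M → Γ additive. Call f
dominant when f(α) ≥ 0 for every positive root α. Then the dominant maps form a fundamental domain
for the Weyl group W acting on Hom(M, Γ) through M: there is w ∈ W with f ∘ w dominant, and if f and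
f ∘ w are both dominant (w ∈ W) then f ∘ w = f. -/
theorem result {ι M N : Type*} [AddCommGroup M] [AddCommGroup N]
    (P : RootPairing ι ℤ M N) [Finite ι] (S : Set ι) (hS : RootD.IsPosSys P S)
    {Γ : Type*} [AddCommGroup Γ] [LinearOrder Γ] [IsOrderedAddMonoid Γ] [Nontrivial Γ] (f : M →+ Γ) :
    (∃ g : P.Aut, g ∈ P.weylGroup ∧ ∀ i ∈ S, 0 ≤ f (RootPairing.Equiv.weightHom P g (P.root i))) ∧
    (∀ g : P.Aut, g ∈ P.weylGroup → (∀ i ∈ S, 0 ≤ f (P.root i)) →
      (∀ i ∈ S, 0 ≤ f (RootPairing.Equiv.weightHom P g (P.root i))) →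
      ∀ m : M, f (RootPairing.Equiv.weightHom P g m) = f m) := by
  classical
  obtain ⟨Δ, hΔ, rfl⟩ := RootSys.exists_simpleSys_of_isPosSys hS
  have hw : ∀ (g : P.Aut) (x : M), RootPairing.Equiv.weightHom P g x = g • x := fun g x => rfl
  simp only [hw]
  constructor
  · set Q : Set ι := {i | 0 < f (P.root i) ∨ (f (P.root i) = 0 ∧ i ∈ RootD.posOf P Δ)}
    have hn : ∀ i, f (P.root (P.reflectionPerm i i)) = -f (P.root i) := fun i => by
      rw [RootSys.root_neg, map_neg]
    have hP1 : ∀ i ∈ Q, P.reflectionPerm i i ∉ Q := by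
      intro i hi hi'
      have e := hn i
      rcases hi with hi | ⟨hi, hc⟩ <;> rcases hi' with hi' | ⟨hi', hd⟩
      · exact lt_irrefl _ (hi.trans (neg_pos.mp (e ▸ hi')))
      · exact hi.ne' (neg_eq_zero.mp (e ▸ hi'))
      · rw [e, hi, neg_zero] at hi'; exact lt_irrefl _ hi'
      · exact RootSys.not_pos_and_neg hΔ hc hd
    have hP2 : ∀ i : ι, i ∈ Q ∨ P.reflectionPerm i i ∈ Q := by
      intro i
      have e := hn i
      rcases lt_trichotomy (f (P.root i)) 0 with h | h | h
      · exact Or.inr (Or.inl (e ▸ neg_pos.mpr h))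
      · exact (RootSys.pos_or_neg hΔ i).imp (fun h' => Or.inr ⟨h, h'⟩)
          (fun h' => Or.inr ⟨by rw [e, h, neg_zero], h'⟩)
      · exact Or.inl (Or.inl h)
    have hcl : RootD.IsClosedSub P Q := by
      intro i j k hi hj hk
      have e : f (P.root k) = f (P.root i) + f (P.root j) := by rw [hk, map_add]
      rcases hi with hi | ⟨hi, hi'⟩ <;> rcases hj with hj | ⟨hj, hj'⟩
      · exact Or.inl (e ▸ add_pos hi hj)
      · exact Or.inl (by rw [e, hj, add_zero]; exact hi)
      · exact Or.inl (by rw [e, hi, zero_add]; exact hj)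
      · exact Or.inr ⟨by rw [e, hi, hj, add_zero], RootSys.pos_add hΔ hi' hj' hk⟩
    obtain ⟨g, hg, hgQ⟩ := RootSys.exists_weyl_eq hΔ hP1 hP2 hcl
    refine ⟨g, hg, fun i hi => ?_⟩
    rw [← RootSys.root_smul]
    have : g • i ∈ Q := by rw [← hgQ]; exact (RootSys.smul_mem_posOf_image_iff g).mpr hi
    rcases this with h | ⟨h, -⟩
    exacts [h.le, h.ge]
  · intro g hg hf hfg
    obtain ⟨l, hl, hlg⟩ := RootSys.exists_word hΔ hg
    obtain ⟨n, hn⟩ : ∃ n, l.length ≤ n := ⟨_, le_rfl⟩
    induction n generalizing g l with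
    | zero =>
      obtain rfl : l = [] := List.length_eq_zero_iff.mp (by omega)
      intro m
      rw [← hlg]
      simp [RootSys.wordProd]
    | succ n ih =>
      by_cases hone : ∀ d ∈ Δ, g • d ∈ RootD.posOf P Δ
      · intro m
        rw [RootSys.eq_one_of_pos hΔ hg hone, one_smul]
      push Not at hone
      obtain ⟨d, hd, hneg⟩ := hone
      obtain ⟨l', hl', hlen, hprod⟩ := RootSys.exists_shorter hΔ l hl hd (hlg ▸ hneg)
      rw [hlg] at hprod
      have h0 : f (g • P.root d) = 0 := by
        refine le_antisymm ?_ (hfg d (RootSys.simple_pos hΔ hd))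
        have := hf _ ((RootSys.pos_or_neg hΔ (g • d)).resolve_left hneg)
        rw [RootSys.root_neg, map_neg, neg_nonneg, RootSys.root_smul] at this
        exact this
      have hsame : ∀ m : M, f ((g * RootPairing.Equiv.reflection P d) • m) = f (g • m) := by
        intro m
        rw [mul_smul, RootPairing.Equiv.reflection_smul, RootPairing.reflection_apply,
          RootSys.smul_sub', RootSys.smul_smul', map_sub, map_zsmul, h0, smul_zero, sub_zero]
      intro m
      rw [← hsame m]
      exact ih (g * RootPairing.Equiv.reflection P d)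
        (mul_mem hg (P.reflection_mem_weylGroup d)) (fun i hi => by rw [hsame]; exact hfg i hi)
        l' hl' hprod (by omega) m

end Groth.Agent.S19155
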