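import Groth.Statements.S19156
import Groth.Agent.RootSys.Functional

set_option autoImplicit false
open RootPairing
open RootD

namespace Groth.Agent.S19156

/-- Let P be a root datum (root pairing over ℤ with finitely many roots indexed by ι), S a system of
positive roots, Γ a non-trivial totally ordered commutative group and f : M → Γ additive. Then f is
dominant (non-negative on the positive roots) if and only if, for every w in the Weyl group, f − f ∘
w is a combination m ↦ Σ_{α ∈ S} ⟨m, α∨⟩ c_α of the positive coroots with coefficients c_α ≥ 0 in Γ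
(f ∘ w is strongly dominated by f); and f is dominant if and only if f(w m) ≤ f(m) for every w ∈ W
and every dominant weight m (weak dominance). -/
theorem result {ι M N : Type*} [AddCommGroup M] [AddCommGroup N]
    (P : RootPairing ι ℤ M N) [Fintype ι] (S : Set ι) (hS : RootD.IsPosSys P S)
    {Γ : Type*} [AddCommGroup Γ] [LinearOrder Γ] [IsOrderedAddMonoid Γ] [Nontrivial Γ] (f : M →+ Γ) :
    ((∀ i ∈ S, 0 ≤ f (P.root i)) ↔
      ∀ g : P.Aut, g ∈ P.weylGroup → ∃ c : ι → Γ, (∀ i, 0 ≤ c i) ∧ (∀ i, i ∉ S → c i = 0) ∧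
        ∀ m : M, f m - f (RootPairing.Equiv.weightHom P g m) = ∑ i, (P.coroot' i m) • c i) ∧
    ((∀ i ∈ S, 0 ≤ f (P.root i)) ↔
      ∀ g : P.Aut, g ∈ P.weylGroup → ∀ m : M, (∀ i ∈ S, 0 ≤ P.coroot' i m) →
        f (RootPairing.Equiv.weightHom P g m) ≤ f m) := by
  classical
  obtain ⟨Δ, hΔ, rfl⟩ := RootSys.exists_simpleSys_of_isPosSys hS
  have hw : ∀ (g : P.Aut) (x : M), RootPairing.Equiv.weightHom P g x = g • x := fun g x => rfl
  simp only [hw]
  have hfwd : (∀ i ∈ RootD.posOf P Δ, 0 ≤ f (P.root i)) →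
      ∀ g : P.Aut, g ∈ P.weylGroup → ∃ c : ι → Γ, (∀ i, 0 ≤ c i) ∧
        (∀ i, i ∉ RootD.posOf P Δ → c i = 0) ∧
        ∀ m : M, f m - f (g • m) = ∑ i, (P.coroot' i m) • c i := by
    intro hf g hg
    obtain ⟨l, hl, hlg⟩ := RootSys.exists_word hΔ hg
    obtain ⟨n, hn⟩ : ∃ n, l.length ≤ n := ⟨_, le_rfl⟩
    induction n generalizing g l with
    | zero =>
      obtain rfl : l = [] := List.length_eq_zero_iff.mp (by omega)
      refine ⟨0, fun i => le_rfl, fun i _ => rfl, fun m => ?_⟩
      rw [← hlg]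
      simp [RootSys.wordProd]
    | succ n ih =>
      by_cases hone : ∀ d ∈ Δ, g • d ∈ RootD.posOf P Δ
      · refine ⟨0, fun i => le_rfl, fun i _ => rfl, fun m => ?_⟩
        rw [RootSys.eq_one_of_pos hΔ hg hone, one_smul]
        simp
      push Not at hone
      obtain ⟨d, hd, hneg⟩ := hone
      obtain ⟨l', hl', hlen, hprod⟩ := RootSys.exists_shorter hΔ l hl hd (hlg ▸ hneg)
      rw [hlg] at hprod
      set g' := g * RootPairing.Equiv.reflection P d with hg'
      obtain ⟨c, hc0, hcS, hc⟩ :=
        ih g' (mul_mem hg (P.reflection_mem_weylGroup d)) l' hl' hprod (by omega)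
      have hgg : g = g' * RootPairing.Equiv.reflection P d := by
        rw [hg', mul_assoc, RootSys.reflection_mul_self, mul_one]
      have hgd : g' • d = P.reflectionPerm (g • d) (g • d) := by
        rw [hg', mul_smul, RootSys.smul_index_reflection, RootSys.smul_neg_index]
      have hpos : 0 ≤ f (g' • P.root d) := by
        rw [← RootSys.root_smul, hgd]
        exact hf _ ((RootSys.pos_or_neg hΔ (g • d)).resolve_left hneg)
      refine ⟨c + Pi.single d (f (g' • P.root d)), fun i => ?_, fun i hi => ?_, fun m => ?_⟩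
      · simp only [Pi.add_apply]
        refine add_nonneg (hc0 i) ?_
        by_cases h : i = d
        · subst h; rw [Pi.single_eq_same]; exact hpos
        · rw [Pi.single_eq_of_ne h]
      · rw [Pi.add_apply, hcS i hi, zero_add,
          Pi.single_eq_of_ne (fun h : i = d => hi (h ▸ RootSys.simple_pos hΔ hd))]
      · simp only [Pi.add_apply, smul_add, Finset.sum_add_distrib, ← hc m]
        rw [Finset.sum_eq_single d (fun i _ h => by rw [Pi.single_eq_of_ne h, smul_zero])
          (fun h => absurd (Finset.mem_univ d) h), Pi.single_eq_same, hgg, mul_smul,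
          RootPairing.Equiv.reflection_smul, RootPairing.reflection_apply, RootSys.smul_sub',
          RootSys.smul_smul', map_sub, map_zsmul]
        abel
  have hweak : (∀ i ∈ RootD.posOf P Δ, 0 ≤ f (P.root i)) →
      ∀ g : P.Aut, g ∈ P.weylGroup → ∀ m : M, (∀ i ∈ RootD.posOf P Δ, 0 ≤ P.coroot' i m) →
        f (g • m) ≤ f m := by
    intro hf g hg m hm
    obtain ⟨c, hc0, hcS, hc⟩ := hfwd hf g hg
    rw [← sub_nonneg, hc m]
    refine Finset.sum_nonneg fun i _ => ?_
    by_cases hi : i ∈ RootD.posOf P Δ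
    · exact zsmul_nonneg (hc0 i) (hm i hi)
    · rw [hcS i hi, smul_zero]
  have hback : (∀ g : P.Aut, g ∈ P.weylGroup → ∀ m : M,
      (∀ i ∈ RootD.posOf P Δ, 0 ≤ P.coroot' i m) → f (g • m) ≤ f m) →
      ∀ i ∈ RootD.posOf P Δ, 0 ≤ f (P.root i) := by
    intro h i hi
    obtain ⟨m, hm⟩ := RootSys.exists_regular_dominant hΔ
    have h1 := h _ (P.reflection_mem_weylGroup i) m fun j hj => (hm j hj).le
    rw [RootPairing.Equiv.reflection_smul, RootPairing.reflection_apply, map_sub, map_zsmul,
      sub_le_self_iff] at h1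
    by_contra hneg
    have h2 : (P.coroot' i m) • f (P.root i) < 0 := by
      have := zsmul_pos (neg_pos.mpr (not_le.mp hneg)) (hm i hi)
      rwa [smul_neg, neg_pos] at this
    exact absurd h1 (not_le.mpr h2)
  refine ⟨⟨hfwd, fun h => hback fun g hg m hm => ?_⟩, ⟨hweak, hback⟩⟩
  obtain ⟨c, hc0, hcS, hc⟩ := h g hg
  rw [← sub_nonneg, hc m]
  refine Finset.sum_nonneg fun i _ => ?_
  by_cases hi : i ∈ RootD.posOf P Δ
  · exact zsmul_nonneg (hc0 i) (hm i hi)
  · rw [hcS i hi, smul_zero]

end Groth.Agent.S19156
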