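import Groth.Statements.S19157
import Mathlib

set_option autoImplicit false
open scoped TensorProduct
universe u v w
open FiltMod


namespace Groth.Agent.S19157

set_option backward.isDefEq.respectTransparency false
set_option backward.defeqAttrib.useBackward true

open scoped DirectSum

section
variable {Γ : Type*} [LinearOrder Γ] {R : Type*} [Ring R] {M : Type*} [AddCommGroup M] [Module R M]
  {G : Γ → Submodule R M}

lemma mono_Ici {γ η : Γ} (h : γ ≤ η) {x : M} (hx : x ∈ ⨆ θ ∈ Set.Ici η, G θ) : x ∈ ⨆ θ ∈ Set.Ici γ, G θ :=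
  (iSup₂_le fun θ hθ => le_iSup₂ (f := fun θ (_ : θ ∈ Set.Ici γ) => G θ) θ (h.trans hθ) : (⨆ θ ∈ Set.Ici η, G θ) ≤ _) hx

lemma mono_Ioi {γ η : Γ} (h : γ < η) {x : M} (hx : x ∈ ⨆ θ ∈ Set.Ici η, G θ) : x ∈ ⨆ θ ∈ Set.Ioi γ, G θ :=
  (iSup₂_le fun θ hθ => le_iSup₂ (f := fun θ (_ : θ ∈ Set.Ioi γ) => G θ) θ (h.trans_le hθ) : (⨆ θ ∈ Set.Ici η, G θ) ≤ _) hx

noncomputable def proj (hG : DirectSum.IsInternal G) (η : Γ) : M →ₗ[R] M :=
  (G η).subtype ∘ₗ DirectSum.component R Γ (fun i => G i) η ∘ₗ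
    (LinearEquiv.ofBijective (DirectSum.coeLinearMap G) hG).symm.toLinearMap

variable (hG : DirectSum.IsInternal G)

include hG in
lemma proj_mem (η : Γ) (x : M) : proj hG η x ∈ G η := by
  exact Submodule.coe_mem _

lemma proj_of_mem {η θ : Γ} {x : M} (hx : x ∈ G θ) : proj hG η x = if θ = η then x else 0 := by
  have h : (LinearEquiv.ofBijective (DirectSum.coeLinearMap G) hG).symm x = DirectSum.of (fun i => G i) θ ⟨x, hx⟩ := by
    rw [LinearEquiv.symm_apply_eq]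
    exact (DirectSum.coeLinearMap_of G θ ⟨x, hx⟩).symm
  show ((LinearEquiv.ofBijective (DirectSum.coeLinearMap G) hG).symm x η : M) = _
  rw [h, DirectSum.of_apply]
  split_ifs with h1
  · subst h1; rfl
  · rfl

lemma exists_sum (x : M) : ∃ s : Finset Γ, x = ∑ η ∈ s, proj hG η x ∧ ∀ η, η ∉ s → proj hG η x = 0 := by
  classical
  let c := (LinearEquiv.ofBijective (DirectSum.coeLinearMap G) hG).symm x
  refine ⟨DFinsupp.support c, ?_, fun η hη => ?_⟩
  · have h : DirectSum.coeLinearMap G c = x := (LinearEquiv.ofBijective (DirectSum.coeLinearMap G) hG).apply_symm_apply x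
    conv_lhs => rw [← h, ← DirectSum.sum_support_of c]
    rw [map_sum]
    exact Finset.sum_congr rfl fun i _ => DirectSum.coeLinearMap_of G i (c i)
  · show ((c η : G η) : M) = 0
    rw [DFinsupp.notMem_support_iff.mp hη]; rfl

lemma mem_ge_iff (γ : Γ) (x : M) : x ∈ ⨆ η ∈ Set.Ici γ, G η ↔ ∀ η, η < γ → proj hG η x = 0 := by
  constructor
  · intro hx η hη
    have : (⨆ θ ∈ Set.Ici γ, G θ) ≤ LinearMap.ker (proj hG η) := iSup₂_le fun θ hθ z hz => by
      rw [LinearMap.mem_ker, proj_of_mem hG hz, if_neg]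
      exact (hη.trans_le hθ).ne'
    exact this hx
  · intro h
    obtain ⟨s, hs, -⟩ := exists_sum hG x
    rw [hs]
    refine Submodule.sum_mem _ fun η _ => ?_
    by_cases hη : η < γ
    · rw [h η hη]; exact zero_mem _
    · exact le_iSup₂ (f := fun θ (_ : θ ∈ Set.Ici γ) => G θ) η (le_of_not_gt hη) (proj_mem hG η x)

end

section
variable {Γ : Type*} [AddCommGroup Γ] [LinearOrder Γ] [IsOrderedAddMonoid Γ] {R : Type*} [CommRing R] {M : Type*} [AddCommGroup M] [Module R M]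

variable (F G₁ G₂ : Γ → Submodule R M) in
def Sub (n : ℕ) : Prop := ∀ (c : Fin (n + 1) → Γ) (y : Fin (n + 1) → M), (∀ i, y i ∈ F (c i)) →
  ∀ (hG : DirectSum.IsInternal G₂) (t : Fin (n + 1) → Γ) (φ : Fin (n + 1) → (M →ₗ[R] R)),
    ∑ i, t i < ∑ i, c i → ∏ i, φ i (proj hG (t i) (y i)) = 0

lemma sub_of_le {n : ℕ} (F₁ F₂ G₂ : Γ → Submodule R M) (hF₂ : ∀ γ, F₂ γ = ⨆ η ∈ Set.Ici γ, G₂ η)
    (h : ∀ γ : Γ, (⨆ c : {c : Fin (n + 1) → Γ // ∑ i, c i = γ}, LinearMap.range (PiTensorProduct.map (R := R) (fun i => (F₁ (c.1 i)).subtype))) ≤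
      ⨆ c : {c : Fin (n + 1) → Γ // ∑ i, c i = γ}, LinearMap.range (PiTensorProduct.map (R := R) (fun i => (F₂ (c.1 i)).subtype))) :
    Sub F₁ G₂ n := by
  intro c y hy hG t φ hlt
  let L : PiTensorProduct R (fun _ : Fin (n + 1) => M) →ₗ[R] R :=
    PiTensorProduct.lift ((MultilinearMap.mkPiAlgebra R (Fin (n + 1)) R).compLinearMap fun i => φ i ∘ₗ proj hG (t i))
  have hker : (⨆ d : {d : Fin (n + 1) → Γ // ∑ i, d i = ∑ i, c i}, LinearMap.range (PiTensorProduct.map (R := R) (fun i => (F₂ (d.1 i)).subtype))) ≤ LinearMap.ker L := by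
    refine iSup_le fun d => LinearMap.range_le_ker_iff.mpr (PiTensorProduct.ext (MultilinearMap.ext fun z => ?_))
    have hlt' : ∑ i, t i < ∑ i, d.1 i := by rw [d.2]; exact hlt
    obtain ⟨i, -, hi⟩ := Finset.exists_lt_of_sum_lt hlt'
    simp only [LinearMap.compMultilinearMap_apply, LinearMap.comp_apply, PiTensorProduct.map_tprod, LinearMap.zero_apply]
    simp only [L, PiTensorProduct.lift.tprod, MultilinearMap.compLinearMap_apply, MultilinearMap.mkPiAlgebra_apply]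
    refine Finset.prod_eq_zero (Finset.mem_univ i) ?_
    have h0 : proj hG (t i) (z i : M) = 0 := (mem_ge_iff hG (d.1 i) _).mp (hF₂ (d.1 i) ▸ (z i).2) (t i) hi
    simp [h0]
  have hmem : PiTensorProduct.tprod R y ∈ ⨆ d : {d : Fin (n + 1) → Γ // ∑ i, d i = ∑ i, c i}, LinearMap.range (PiTensorProduct.map (R := R) (fun i => (F₁ (d.1 i)).subtype)) :=
    Submodule.mem_iSup_of_mem ⟨c, rfl⟩ ⟨PiTensorProduct.tprod R fun i => ⟨y i, hy i⟩, PiTensorProduct.map_tprod _ _⟩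
  have := hker (h _ hmem)
  simpa [L] using this

lemma key [Module.Finite R M] [Module.Projective R M] {n : ℕ} {F₁ G₁ F₂ G₂ : Γ → Submodule R M}
    (hG₁ : DirectSum.IsInternal G₁) (hF₁ : ∀ γ, F₁ γ = ⨆ η ∈ Set.Ici γ, G₁ η)
    (hG₂ : DirectSum.IsInternal G₂) (hF₂ : ∀ γ, F₂ γ = ⨆ η ∈ Set.Ici γ, G₂ η)
    (s12 : Sub F₁ G₂ n) (s21 : Sub F₂ G₁ n) (γ : Γ) : F₁ γ ≤ F₂ γ := by
  intro x hx
  rw [hF₂ γ, mem_ge_iff hG₂]
  intro η hη
  set x' := proj hG₂ η x with hx'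
  obtain ⟨m, f, g, -, -, hfg⟩ := Module.Finite.exists_comp_eq_id_of_projective R M
  let e : Fin m → M := fun j => f (Pi.single j 1)
  let ψ : Fin m → (M →ₗ[R] R) := fun j => LinearMap.proj j ∘ₗ g
  have hexp : ∀ z : M, z = ∑ j, ψ j z • e j := fun z => by
    conv_lhs => rw [← LinearMap.id_apply (R := R) z, ← hfg, LinearMap.comp_apply, ← Finset.univ_sum_single (g z)]
    rw [map_sum]
    refine Finset.sum_congr rfl fun j _ => ?_
    rw [← map_smul]; congr 1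
    simp [ψ, ← Pi.single_smul]
  let 𝔞 : Ideal R := LinearMap.ker (LinearMap.toSpanSingleton R M x')
  have hnil : ∀ (F F' G' : Γ → Submodule R M), Sub F G' n → ∀ (hG' : DirectSum.IsInternal G') δ θ (z : M) (φ : M →ₗ[R] R),
      θ < δ → z ∈ F δ → IsNilpotent (φ (proj hG' θ z)) := fun F _ G' hs hG' δ θ z φ hθ hz => ⟨n + 1, by
    have := hs (fun _ => δ) (fun _ => z) (fun _ => hz) hG' (fun _ => θ) (fun _ => φ)
      (Finset.sum_lt_sum_of_nonempty Finset.univ_nonempty fun _ _ => hθ)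
    simpa using this⟩
  have hrad : ∀ (δ : Γ) (y : M) (φ : M →ₗ[R] R), y ∈ F₁ δ → φ (proj hG₂ δ y) ∈ 𝔞.radical := fun δ y φ hy => ⟨n, by
    show (φ (proj hG₂ δ y)) ^ n • x' = 0
    rw [hexp ((φ (proj hG₂ δ y)) ^ n • x')]
    refine Finset.sum_eq_zero fun j _ => ?_
    have h := s12 (Fin.cons γ fun _ => δ) (Fin.cons x fun _ => y) (Fin.cases hx fun _ => hy) hG₂ (Fin.cons η fun _ => δ)
      (Fin.cons (ψ j) fun _ => φ) (by rw [Fin.sum_univ_succ, Fin.sum_univ_succ]; simpa using hη)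
    rw [Fin.prod_univ_succ] at h
    simp only [Fin.cons_zero, Fin.cons_succ, Finset.prod_const, Finset.card_univ, Fintype.card_fin] at h
    rw [map_smul, smul_eq_mul, mul_comm, hx', h, zero_smul]⟩
  have hall : ∀ (z : M) (φ : M →ₗ[R] R), φ z ∈ 𝔞.radical := fun z φ => by
    obtain ⟨S, hS, -⟩ := exists_sum hG₂ z
    rw [hS, map_sum]
    refine Ideal.sum_mem _ fun δ _ => ?_
    have hg : proj hG₂ δ (proj hG₂ δ z) = proj hG₂ δ z := by rw [proj_of_mem hG₂ (proj_mem hG₂ δ z), if_pos rfl]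
    obtain ⟨S', hS', -⟩ := exists_sum hG₁ (proj hG₂ δ z)
    rw [← hg]
    conv => arg 2; rw [hS', map_sum, map_sum]
    refine Ideal.sum_mem _ fun θ _ => ?_
    rcases lt_or_ge θ δ with hθ | hθ
    · have := hnil F₂ F₁ G₁ s21 hG₁ δ θ (proj hG₂ δ z) (φ ∘ₗ proj hG₂ δ) hθ
        (hF₂ δ ▸ le_iSup₂ (f := fun θ (_ : θ ∈ Set.Ici δ) => G₂ θ) δ (le_refl δ) (proj_mem hG₂ δ z))
      exact Ideal.radical_mono bot_le (by simpa [Ideal.radical, IsNilpotent] using this)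
    · refine hrad δ _ φ ?_
      rw [hF₁ δ]
      exact le_iSup₂ (f := fun θ (_ : θ ∈ Set.Ici δ) => G₁ θ) θ hθ (proj_mem hG₁ θ _)
  let T : Ideal R := Ideal.span (Set.range fun p : Fin m × Fin m => ψ p.1 (e p.2))
  have hT2 : T ≤ T * T := Ideal.span_le.mpr (by
    rintro _ ⟨⟨i, j⟩, rfl⟩
    show ψ i (e j) ∈ T * T
    conv => arg 2; rw [hexp (e j)]
    rw [map_sum]
    refine Ideal.sum_mem _ fun l _ => ?_
    rw [map_smul, smul_eq_mul]
    exact Ideal.mul_mem_mul (Ideal.subset_span ⟨(l, j), rfl⟩) (Ideal.subset_span ⟨(i, l), rfl⟩))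
  have hTpow : ∀ N : ℕ, T ≤ T ^ (N + 1) := fun N => by
    induction N with
    | zero => simp
    | succ N ih => exact hT2.trans ((Ideal.mul_mono ih le_rfl).trans (le_of_eq (pow_succ T (N + 1)).symm))
  obtain ⟨N, hN⟩ := Ideal.exists_pow_le_of_le_radical_of_fg (I := T) (J := 𝔞)
    (Ideal.span_le.mpr (by rintro _ ⟨⟨i, j⟩, rfl⟩; exact hall _ _)) (Submodule.fg_span (Set.finite_range _))
  have hT : ∀ i j, ψ i (e j) • x' = 0 := fun i j =>
    (hN ((Ideal.pow_le_pow_right (Nat.le_succ N)) (hTpow N (Ideal.subset_span ⟨(i, j), rfl⟩))) : ψ i (e j) ∈ 𝔞)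
  have hψ : ∀ i, ψ i x' = 0 := fun i => by
    conv_lhs => arg 2; rw [hexp x']
    rw [map_sum]
    refine Finset.sum_eq_zero fun j _ => ?_
    rw [map_smul, smul_eq_mul, mul_comm, ← smul_eq_mul, ← map_smul, hT, map_zero]
  rw [hexp x']
  exact Finset.sum_eq_zero fun j _ => by rw [hψ, zero_smul]

end

/-- In affine form, let Γ be a non-trivial totally ordered commutative group, R a commutative ring, M a
finitely generated projective R-module, k ≥ 1, and F₁, F₂ two Γ-filtrations of M each admitting a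
splitting (a grading M = ⊕_γ G_γ by submodules with F^γ = Σ_{η ≥ γ} G_η). If the filtrations they
induce on the k-th tensor power M^{⊗k} coincide, i.e. for every γ the sum over γ₁ + ⋯ + γ_k = γ of
the images of F₁^{γ₁} ⊗ ⋯ ⊗ F₁^{γ_k} in M^{⊗k} equals the corresponding sum for F₂, then F₁ = F₂.
(The source states this for Γ-filtrations of a finite locally free sheaf on a scheme, which split
Zariski-locally; this is the affine split case to which it reduces.) -/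
theorem result
    {Γ : Type w} [AddCommGroup Γ] [LinearOrder Γ] [IsOrderedAddMonoid Γ] [Nontrivial Γ]
    {R : Type u} [CommRing R] {M : Type v} [AddCommGroup M] [Module R M] [Module.Finite R M] [Module.Projective R M]
    (F₁ F₂ : Γ → Submodule R M)
    (h₁ : ∃ G : Γ → Submodule R M, DirectSum.IsInternal G ∧ ∀ γ, F₁ γ = ⨆ η ∈ Set.Ici γ, G η)
    (h₂ : ∃ G : Γ → Submodule R M, DirectSum.IsInternal G ∧ ∀ γ, F₂ γ = ⨆ η ∈ Set.Ici γ, G η)
    (k : ℕ) (hk : 1 ≤ k)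
    (h : ∀ γ : Γ,
      (⨆ c : {c : Fin k → Γ // ∑ i, c i = γ}, LinearMap.range (PiTensorProduct.map (R := R) (fun i => (F₁ (c.1 i)).subtype))) =
      (⨆ c : {c : Fin k → Γ // ∑ i, c i = γ}, LinearMap.range (PiTensorProduct.map (R := R) (fun i => (F₂ (c.1 i)).subtype)))) :
    F₁ = F₂ := by
  obtain ⟨G₁, hG₁, hF₁⟩ := h₁
  obtain ⟨G₂, hG₂, hF₂⟩ := h₂
  obtain ⟨n, rfl⟩ : ∃ n, k = n + 1 := ⟨k - 1, by omega⟩
  have s12 := sub_of_le F₁ F₂ G₂ hF₂ fun γ => (h γ).le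
  have s21 := sub_of_le F₂ F₁ G₁ hF₁ fun γ => (h γ).ge
  exact funext fun γ => le_antisymm (key hG₁ hF₁ hG₂ hF₂ s12 s21 γ) (key hG₂ hF₂ hG₁ hF₁ s21 s12 γ)

end Groth.Agent.S19157
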