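import Groth.Statements.S19158
import Mathlib

set_option autoImplicit false
universe u v w
open FiltMod


namespace Groth.Agent.S19158

set_option backward.isDefEq.respectTransparency false
set_option backward.defeqAttrib.useBackward true

open scoped DirectSum

section
variable {Γ : Type*} [LinearOrder Γ] {R : Type*} [Ring R] {M : Type*} [AddCommGroup M] [Module R M]
  {G : Γ → Submodule R M}

lemma mono_Ici {γ η : Γ} (h : γ ≤ η) {x : M} (hx : x ∈ ⨆ θ ∈ Set.Ici η, G θ) : x ∈ ⨆ θ ∈ Set.Ici γ, G θ :=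
  (iSup₂_le fun θ hθ => le_iSup₂ (f := fun θ (_ : θ ∈ Set.Ici γ) => G θ) θ (h.trans hθ) : (⨆ θ ∈ Set.Ici η, G θ) ≤ _) hx

lemma mono_Ioi {γ η : Γ} (h : γ < η) {x : M} (hx : x ∈ ⨆ θ ∈ Set.Ici η, G θ) : x ∈ ⨆ θ ∈ Set.Ioi γ, G θ :=
  (iSup₂_le fun θ hθ => le_iSup₂ (f := fun θ (_ : θ ∈ Set.Ioi γ) => G θ) θ (h.trans_le hθ) : (⨆ θ ∈ Set.Ici η, G θ) ≤ _) hx

noncomputable def proj (hG : DirectSum.IsInternal G) (η : Γ) : M →ₗ[R] M :=
  (G η).subtype ∘ₗ DirectSum.component R Γ (fun i => G i) η ∘ₗ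
    (LinearEquiv.ofBijective (DirectSum.coeLinearMap G) hG).symm.toLinearMap

variable (hG : DirectSum.IsInternal G)

include hG in
lemma proj_mem (η : Γ) (x : M) : proj hG η x ∈ G η := by
  exact Submodule.coe_mem _

lemma proj_of_mem {η θ : Γ} {x : M} (hx : x ∈ G θ) : proj hG η x = if θ = η then x else 0 := by
  have h : (LinearEquiv.ofBijective (DirectSum.coeLinearMap G) hG).symm x = DirectSum.of (fun i => G i) θ ⟨x, hx⟩ := by
    rw [LinearEquiv.symm_apply_eq]
    exact (DirectSum.coeLinearMap_of G θ ⟨x, hx⟩).symm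
  show ((LinearEquiv.ofBijective (DirectSum.coeLinearMap G) hG).symm x η : M) = _
  rw [h, DirectSum.of_apply]
  split_ifs with h1
  · subst h1; rfl
  · rfl

lemma exists_sum (x : M) : ∃ s : Finset Γ, x = ∑ η ∈ s, proj hG η x ∧ ∀ η, η ∉ s → proj hG η x = 0 := by
  classical
  let c := (LinearEquiv.ofBijective (DirectSum.coeLinearMap G) hG).symm x
  refine ⟨DFinsupp.support c, ?_, fun η hη => ?_⟩
  · have h : DirectSum.coeLinearMap G c = x := (LinearEquiv.ofBijective (DirectSum.coeLinearMap G) hG).apply_symm_apply x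
    conv_lhs => rw [← h, ← DirectSum.sum_support_of c]
    rw [map_sum]
    exact Finset.sum_congr rfl fun i _ => DirectSum.coeLinearMap_of G i (c i)
  · show ((c η : G η) : M) = 0
    rw [DFinsupp.notMem_support_iff.mp hη]; rfl

lemma mem_ge_iff (γ : Γ) (x : M) : x ∈ ⨆ η ∈ Set.Ici γ, G η ↔ ∀ η, η < γ → proj hG η x = 0 := by
  constructor
  · intro hx η hη
    have : (⨆ θ ∈ Set.Ici γ, G θ) ≤ LinearMap.ker (proj hG η) := iSup₂_le fun θ hθ z hz => by
      rw [LinearMap.mem_ker, proj_of_mem hG hz, if_neg]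
      exact (hη.trans_le hθ).ne'
    exact this hx
  · intro h
    obtain ⟨s, hs, -⟩ := exists_sum hG x
    rw [hs]
    refine Submodule.sum_mem _ fun η _ => ?_
    by_cases hη : η < γ
    · rw [h η hη]; exact zero_mem _
    · exact le_iSup₂ (f := fun θ (_ : θ ∈ Set.Ici γ) => G θ) η (le_of_not_gt hη) (proj_mem hG η x)

lemma mem_gt_iff (γ : Γ) (x : M) : x ∈ ⨆ η ∈ Set.Ioi γ, G η ↔ ∀ η, η ≤ γ → proj hG η x = 0 := by
  constructor
  · intro hx η hη
    have : (⨆ θ ∈ Set.Ioi γ, G θ) ≤ LinearMap.ker (proj hG η) := iSup₂_le fun θ hθ z hz => by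
      rw [LinearMap.mem_ker, proj_of_mem hG hz, if_neg]
      exact (hη.trans_lt hθ).ne'
    exact this hx
  · intro h
    obtain ⟨s, hs, -⟩ := exists_sum hG x
    rw [hs]
    refine Submodule.sum_mem _ fun η _ => ?_
    by_cases hη : η ≤ γ
    · rw [h η hη]; exact zero_mem _
    · exact le_iSup₂ (f := fun θ (_ : θ ∈ Set.Ioi γ) => G θ) η (lt_of_not_ge hη) (proj_mem hG η x)

end

section
variable {Γ : Type*} [LinearOrder Γ] {R : Type*} [Ring R] {M N : Type*} [AddCommGroup M] [Module R M] [AddCommGroup N] [Module R N]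
  {G : Γ → Submodule R M} (hG : DirectSum.IsInternal G) (i : N →ₗ[R] M) (p : M →ₗ[R] N) (hpi : ∀ y, p (i y) = y)
  (FN : Γ → Submodule R N) (hi : ∀ γ y, y ∈ FN γ ↔ i y ∈ ⨆ η ∈ Set.Ici γ, G η)
  (hp : ∀ γ x, x ∈ (⨆ η ∈ Set.Ici γ, G η : Submodule R M) → p x ∈ FN γ)
  (hfin : ∃ S0 : Finset Γ, ∀ η, η ∉ S0 → ∀ x, proj hG η x = 0)

include hG hpi hi hp hfin in
lemma retract_split : ∃ G' : Γ → Submodule R N, DirectSum.IsInternal G' ∧ ∀ γ, FN γ = ⨆ η ∈ Set.Ici γ, G' η := by
  classical
  let s : Γ → N →ₗ[R] N := fun γ => p ∘ₗ proj hG γ ∘ₗ i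
  let G' : Γ → Submodule R N := fun γ => (FN γ).map (s γ)
  have hGF : ∀ γ x, x ∈ G γ → p x ∈ FN γ := fun γ x hx =>
    hp γ x (le_iSup₂ (f := fun θ (_ : θ ∈ Set.Ici γ) => G θ) γ (le_refl γ) hx)
  have hs_mem : ∀ γ y, s γ y ∈ FN γ := fun γ y => hGF γ _ (proj_mem hG _ _)
  have hanti : ∀ {γ η}, γ ≤ η → FN η ≤ FN γ := fun {γ η} h y hy =>
    (hi γ y).mpr (mono_Ici h ((hi η y).mp hy))
  have hgt : ∀ γ x, x ∈ (⨆ η ∈ Set.Ioi γ, G η : Submodule R M) → i (p x) ∈ ⨆ η ∈ Set.Ioi γ, G η := by
    intro γ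
    suffices (⨆ η ∈ Set.Ioi γ, G η) ≤ (⨆ η ∈ Set.Ioi γ, G η : Submodule R M).comap (i ∘ₗ p) from this
    refine iSup₂_le fun η hη x hx => ?_
    exact mono_Ioi hη ((hi η _).mp (hGF η x hx))
  have key : ∀ γ y, y ∈ FN γ → i (y - s γ y) ∈ ⨆ η ∈ Set.Ioi γ, G η := by
    intro γ y hy
    have h1 : i y - proj hG γ (i y) ∈ ⨆ η ∈ Set.Ioi γ, G η := (mem_gt_iff hG γ _).mpr fun η hη => by
      rw [map_sub, proj_of_mem hG (proj_mem hG γ (i y))]
      rcases hη.lt_or_eq with h | rfl
      · rw [(mem_ge_iff hG γ _).mp ((hi γ y).mp hy) η h, if_neg h.ne', sub_zero]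
      · rw [if_pos rfl, sub_self]
    simpa [s, map_sub, hpi] using hgt γ _ h1
  have hidem : ∀ γ y, y ∈ FN γ → s γ (s γ y) = s γ y := fun γ y hy => by
    have := congrArg p ((mem_gt_iff hG γ _).mp (key γ y hy) γ le_rfl)
    simp only [map_sub, map_zero, sub_eq_zero] at this
    exact this.symm
  have hG'le : ∀ γ, G' γ ≤ FN γ := fun γ => by
    rintro _ ⟨y, -, rfl⟩; exact hs_mem γ y
  obtain ⟨S0, hS0⟩ := hfin
  have hzero : ∀ γ y, y ∈ FN γ → S0.filter (γ ≤ ·) = ∅ → y = 0 := fun γ y hy hU => by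
    obtain ⟨S, hS, -⟩ := exists_sum hG (i y)
    have : i y = 0 := by
      rw [hS]
      refine Finset.sum_eq_zero fun η _ => ?_
      by_cases h : γ ≤ η
      · exact hS0 η (fun hm => by simpa [hU] using (Finset.mem_filter.mpr ⟨hm, h⟩ : η ∈ S0.filter (γ ≤ ·))) _
      · exact (mem_ge_iff hG γ _).mp ((hi γ y).mp hy) η (lt_of_not_ge h)
    rw [← hpi y, this, map_zero]
  have hup : ∀ γ η y, y ∈ FN γ → η ∈ S0 → γ ≤ η → (∀ θ ∈ S0, γ ≤ θ → θ < η → proj hG θ (i y) = 0) → y ∈ FN η :=
    fun γ η y hy _ _ h => (hi η y).mpr ((mem_ge_iff hG η _).mpr fun θ hθ => by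
      by_cases h1 : γ ≤ θ
      · by_cases h2 : θ ∈ S0
        · exact h θ h2 h1 hθ
        · exact hS0 θ h2 _
      · exact (mem_ge_iff hG γ _).mp ((hi γ y).mp hy) θ (lt_of_not_ge h1))
  have hgen : ∀ (n : ℕ) (γ : Γ) (y : N), (S0.filter (γ ≤ ·)).card ≤ n → y ∈ FN γ → y ∈ ⨆ η ∈ Set.Ici γ, G' η := by
    intro n
    induction n with
    | zero =>
      intro γ y hn hy
      rw [hzero γ y hy (Finset.card_eq_zero.mp (Nat.le_zero.mp hn))]; exact zero_mem _
    | succ n ih =>
      intro γ y hn hy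
      rcases (S0.filter (γ ≤ ·)).eq_empty_or_nonempty with hU | hU
      · rw [hzero γ y hy hU]; exact zero_mem _
      obtain ⟨hm, hge⟩ := Finset.mem_filter.mp (Finset.min'_mem _ hU)
      set η := (S0.filter (γ ≤ ·)).min' hU with hη
      have hyη : y ∈ FN η := hup γ η y hy hm hge fun θ h1 h2 h3 =>
        absurd (Finset.min'_le _ θ (Finset.mem_filter.mpr ⟨h1, h2⟩)) (not_le.mpr (hη ▸ h3))
      have hz : s η y ∈ ⨆ θ ∈ Set.Ici γ, G' θ :=
        le_iSup₂ (f := fun θ (_ : θ ∈ Set.Ici γ) => G' θ) η hge ⟨y, hyη, rfl⟩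
      rw [← sub_add_cancel y (s η y)]
      refine add_mem ?_ hz
      have hk := (mem_gt_iff hG η _).mp (key η y hyη)
      have hyz : y - s η y ∈ FN η := sub_mem hyη (hs_mem η y)
      rcases (S0.filter (η < ·)).eq_empty_or_nonempty with hV | hV
      · have : i (y - s η y) = 0 := by
          obtain ⟨S, hS, -⟩ := exists_sum hG (i (y - s η y))
          rw [hS]
          refine Finset.sum_eq_zero fun θ _ => ?_
          by_cases h : θ ≤ η
          · exact hk θ h
          · exact hS0 θ (fun h1 => by simpa [hV] using (Finset.mem_filter.mpr ⟨h1, lt_of_not_ge h⟩ : θ ∈ S0.filter (η < ·))) _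
        rw [← hpi (y - s η y), this, map_zero]; exact zero_mem _
      · obtain ⟨hm', hlt⟩ := Finset.mem_filter.mp (Finset.min'_mem _ hV)
        set ζ := (S0.filter (η < ·)).min' hV with hζ
        have h1 : y - s η y ∈ FN ζ := hup η ζ _ hyz hm' hlt.le fun θ h1 _ h3 => by
          by_cases h : θ ≤ η
          · exact hk θ h
          · exact absurd (Finset.min'_le _ θ (Finset.mem_filter.mpr ⟨h1, lt_of_not_ge h⟩)) (not_le.mpr (hζ ▸ h3))
        refine mono_Ici (hge.trans hlt.le) (ih ζ _ ?_ h1)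
        have : S0.filter (ζ ≤ ·) ⊂ S0.filter (γ ≤ ·) := by
          refine (Finset.ssubset_iff_of_subset fun θ hθ => ?_).mpr ⟨η, Finset.mem_filter.mpr ⟨hm, hge⟩, ?_⟩
          · rw [Finset.mem_filter] at hθ ⊢; exact ⟨hθ.1, (hge.trans hlt.le).trans hθ.2⟩
          · rw [Finset.mem_filter]; exact fun h => absurd h.2 (not_le.mpr hlt)
        have := Finset.card_lt_card this
        omega
  refine ⟨G', DirectSum.isInternal_submodule_of_iSupIndep_of_iSup_eq_top ?_ ?_, fun γ => le_antisymm (fun y hy => hgen _ γ y le_rfl hy) (iSup₂_le fun η hη => (hG'le η).trans (hanti hη))⟩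
  · rw [iSupIndep_iff_finsetSum_eq_zero_imp_eq_zero]
    intro S
    induction S using Finset.induction_on_min with
    | empty => simp
    | insert a S ha ih =>
      intro v hv h0
      rw [Finset.sum_insert (fun h => (ha a h).false)] at h0
      have hva : v a = 0 := by
        obtain ⟨y, hy, hy'⟩ := hv a (Finset.mem_insert_self _ _)
        have h1 : ∀ η ∈ S, s a (v η) = 0 := fun η hη => by
          have := (mem_ge_iff hG η _).mp ((hi η _).mp (hG'le η (hv η (Finset.mem_insert_of_mem hη)))) a (ha η hη)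
          simp [s, this]
        have h2 := congrArg (s a) h0
        rw [map_add, map_sum, Finset.sum_eq_zero h1, add_zero, map_zero, ← hy', hidem a y hy] at h2
        rw [← hy', h2]
      rw [hva, zero_add] at h0
      intro η hη
      rcases Finset.mem_insert.mp hη with rfl | hη
      · exact hva
      · exact ih v (fun θ hθ => hv θ (Finset.mem_insert_of_mem hθ)) h0 η hη
  · rw [eq_top_iff]
    intro y _
    rcases S0.eq_empty_or_nonempty with hU | hU
    · obtain ⟨S, hS, -⟩ := exists_sum hG (i y)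
      rw [← hpi y, hS, Finset.sum_eq_zero fun η _ => hS0 η (by simp [hU]) _, map_zero]
      exact zero_mem _
    · have hy : y ∈ FN (S0.min' hU) := (hi _ y).mpr ((mem_ge_iff hG _ _).mpr fun θ hθ =>
        hS0 θ (fun h => absurd (Finset.min'_le _ θ h) (not_le.mpr hθ)) _)
      exact iSup₂_le (fun θ _ => le_iSup G' θ) (hgen _ _ y le_rfl hy)

end

/-- In affine form, let Γ be a non-trivial totally ordered commutative group, R a commutative ring and
(M_a) a finite family of finitely generated projective R-modules, each carrying a non-increasing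
Γ-indexed family of submodules F_a; give M = Π_a M_a the family F^γ = Π_a F_a^γ. Then F is split by
a Γ-grading of M (an internal direct sum decomposition M = ⊕_γ G_γ with F^γ = Σ_{η ≥ γ} G_η for all
γ) if and only if each F_a is split by a Γ-grading of M_a. (The published statement is for finite
locally free sheaves on a scheme, where a filtration counts as split when it is split by a grading
locally on the scheme; this row is the affine case, in which that is the same as being split by one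
global grading.) -/
theorem result
    {Γ : Type w} [AddCommGroup Γ] [LinearOrder Γ] [IsOrderedAddMonoid Γ] [Nontrivial Γ]
    {R : Type u} [CommRing R] {A : Type v} [Fintype A] (M : A → Type v) [∀ a, AddCommGroup (M a)] [∀ a, Module R (M a)]
    [∀ a, Module.Finite R (M a)] [∀ a, Module.Projective R (M a)]
    (F : ∀ a, Γ → Submodule R (M a)) (hF : ∀ a, Antitone (F a)) :
    (∃ G : Γ → Submodule R (∀ a, M a), DirectSum.IsInternal G ∧
        ∀ γ, Submodule.pi Set.univ (fun a => F a γ) = ⨆ η ∈ Set.Ici γ, G η) ↔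
    ∀ a, ∃ G : Γ → Submodule R (M a), DirectSum.IsInternal G ∧ ∀ γ, F a γ = ⨆ η ∈ Set.Ici γ, G η := by
  classical
  constructor
  · rintro ⟨G, hG, hFG⟩ a
    obtain ⟨T, hT⟩ := Module.Finite.fg_top (R := R) (M := ∀ a, M a)
    refine retract_split hG (LinearMap.single R M a) (LinearMap.proj a) (fun y => by simp) (F a) (fun γ y => ?_) (fun γ x hx => ?_)
      ⟨T.biUnion fun x => (exists_sum hG x).choose, fun η hη x => ?_⟩
    · rw [← hFG]
      constructor
      · intro hy b _
        by_cases h : b = a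
        · subst h; simpa using hy
        · simp [h]
      · intro h; simpa using h a (Set.mem_univ a)
    · rw [← hFG] at hx
      exact hx a (Set.mem_univ a)
    · have : Submodule.span R (T : Set (∀ a, M a)) ≤ LinearMap.ker (proj hG η) := Submodule.span_le.mpr fun z hz =>
        (exists_sum hG z).choose_spec.2 η fun h => hη (Finset.mem_biUnion.mpr ⟨z, hz, h⟩)
      exact this (hT ▸ Submodule.mem_top)
  · intro h
    choose G hG hFG using h
    refine ⟨fun γ => Submodule.pi Set.univ (fun a => G a γ), DirectSum.isInternal_submodule_of_iSupIndep_of_iSup_eq_top ?_ ?_, fun γ => ?_⟩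
    · rw [iSupIndep_iff_finsetSum_eq_zero_imp_eq_zero]
      intro S v hv h0 η hη
      funext a
      exact ((iSupIndep_iff_finsetSum_eq_zero_imp_eq_zero (G a)).mp (hG a).submodule_iSupIndep) S (fun θ => v θ a) (fun θ hθ => hv θ hθ a (Set.mem_univ a))
        (by rw [← Finset.sum_apply, h0]; rfl) η hη
    · rw [eq_top_iff]
      intro x _
      rw [← Finset.univ_sum_single x]
      refine Submodule.sum_mem _ fun a _ => ?_
      have : (⨆ γ, G a γ) ≤ (⨆ γ, Submodule.pi Set.univ fun a => G a γ).comap (LinearMap.single R M a) :=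
        iSup_le fun γ z hz => Submodule.mem_iSup_of_mem γ fun b _ => by
          by_cases h : b = a
          · subst h; simpa using hz
          · simp [h]
      exact this ((hG a).submodule_iSup_eq_top ▸ Submodule.mem_top)
    · refine le_antisymm (fun x hx => ?_) (iSup₂_le fun η hη x hx a ha => ?_)
      · rw [← Finset.univ_sum_single x]
        refine Submodule.sum_mem _ fun a _ => ?_
        have : (⨆ η ∈ Set.Ici γ, G a η) ≤ (⨆ η ∈ Set.Ici γ, Submodule.pi Set.univ fun a => G a η).comap (LinearMap.single R M a) :=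
          iSup₂_le fun η hη z hz => le_iSup₂ (f := fun θ (_ : θ ∈ Set.Ici γ) => Submodule.pi Set.univ fun a => G a θ) η hη fun b _ => by
            by_cases h : b = a
            · subst h; simpa using hz
            · simp [h]
        exact this (hFG a γ ▸ hx a (Set.mem_univ a))
      · show x a ∈ F a γ
        rw [hFG a γ]
        exact le_iSup₂ (f := fun θ (_ : θ ∈ Set.Ici γ) => G a θ) η hη (hx a ha)

end Groth.Agent.S19158
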