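import Groth.Statements.S19160
import Mathlib.Algebra.TrivSqZeroExt.Basic
import Mathlib.LinearAlgebra.TensorProduct.Tower

set_option autoImplicit false
open scoped TensorProduct
universe u
open PureMod

namespace Groth.Agent.S19160

/-- (2) ⇒ (3): in affine form, let R be a commutative ring and i : A → B an R-linear map such that for
every commutative R-algebra R' the base change R' ⊗ A → R' ⊗ B is injective (the pull-back of i to
every affine scheme over Spec R is a monomorphism). Then F ⊗ A → F ⊗ B is injective for every
R-module F, i.e. i is universally injective (pure). (Modules and algebras are taken in the universe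
of R.) -/
theorem result (R : Type u) [CommRing R]
    (A B : Type u) [AddCommGroup A] [Module R A] [AddCommGroup B] [Module R B] (i : A →ₗ[R] B)
    (h : ∀ (R' : Type u) [CommRing R'] [Algebra R R'], Function.Injective (i.baseChange R'))
    (F : Type u) [AddCommGroup F] [Module R F] :
    Function.Injective (i.lTensor F) := by
  letI : Module Rᵐᵒᵖ F := Module.compHom F ((RingHom.id R).fromOpposite mul_comm)
  haveI : IsCentralScalar R F := ⟨fun _ _ => rfl⟩
  have hT := h (TrivSqZeroExt R F)
  have key : ((TrivSqZeroExt.inrHom R F).rTensor B) ∘ₗ i.lTensor F =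
      ((i.baseChange (TrivSqZeroExt R F)).restrictScalars R) ∘ₗ ((TrivSqZeroExt.inrHom R F).rTensor A) := by
    ext f a; simp
  have hinj : Function.Injective ((TrivSqZeroExt.inrHom R F).rTensor A) := by
    refine Function.LeftInverse.injective (g := (TrivSqZeroExt.sndHom R F).rTensor A) fun x => ?_
    rw [← LinearMap.comp_apply, ← LinearMap.rTensor_comp]
    have : TrivSqZeroExt.sndHom R F ∘ₗ TrivSqZeroExt.inrHom R F = LinearMap.id := by ext; simp
    rw [this, LinearMap.rTensor_id, LinearMap.id_apply]
  refine Function.Injective.of_comp (f := (TrivSqZeroExt.inrHom R F).rTensor B) ?_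
  rw [← LinearMap.coe_comp, key, LinearMap.coe_comp]
  exact (hT).comp hinj

end Groth.Agent.S19160
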