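import Groth.Statements.S19161
import Groth.Agent.RootSys.Functional

set_option autoImplicit false
open RootPairing
open RootD

namespace Groth.Agent.S19161

/-- Let P be a root datum (root pairing over ℤ, finitely many roots), S a system of positive roots, W
the Weyl group, Γ a non-trivial totally ordered commutative group and f₁, f₂ : M → Γ additive maps
which are dominant (f_i(α) ≥ 0 for α ∈ S). Then f₁ ≤ f₂ in the weak dominance order (f₁(m) ≤ f₂(m)
for every dominant weight m, i.e. every m with ⟨m, α∨⟩ ≥ 0 for all α ∈ S) if and only if, for every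
non-empty finite W-stable subset X ⊆ M, the maximum of f₁ on X is at most the maximum of f₂ on X.
(The source phrases the right-hand side through W-invariant elements x of ℕ[M] and the largest
element of the support of f_i(x) in ℤ[Γ]; for ℕ-coefficients that largest element is the maximum of
f_i over the support of x.) -/
theorem result {ι M N : Type*} [AddCommGroup M] [AddCommGroup N]
    (P : RootPairing ι ℤ M N) [Finite ι] (S : Set ι) (hS : RootD.IsPosSys P S)
    {Γ : Type*} [AddCommGroup Γ] [LinearOrder Γ] [IsOrderedAddMonoid Γ] [Nontrivial Γ] (f₁ f₂ : M →+ Γ)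
    (hf₁ : ∀ i ∈ S, 0 ≤ f₁ (P.root i)) (hf₂ : ∀ i ∈ S, 0 ≤ f₂ (P.root i)) :
    (∀ m : M, (∀ i ∈ S, 0 ≤ P.coroot' i m) → f₁ m ≤ f₂ m) ↔
    ∀ (X : Finset M) (hX : X.Nonempty), (∀ g : P.Aut, g ∈ P.weylGroup → ∀ m ∈ X, RootPairing.Equiv.weightHom P g m ∈ X) →
      X.sup' hX f₁ ≤ X.sup' hX f₂ := by
  classical
  obtain ⟨Δ, hΔ, rfl⟩ := RootSys.exists_simpleSys_of_isPosSys hS
  have := Fintype.ofFinite ι
  have hw : ∀ (g : P.Aut) (x : M), RootPairing.Equiv.weightHom P g x = g • x := fun g x => rfl
  simp only [hw]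
  have : Finite P.weylGroup := Finite.of_injective _ RootSys.weylGroupToPerm_inj
  have := Fintype.ofFinite P.weylGroup
  have hweak : ∀ f : M →+ Γ, (∀ i ∈ RootD.posOf P Δ, 0 ≤ f (P.root i)) →
      ∀ g : P.Aut, g ∈ P.weylGroup → ∀ m : M, (∀ i ∈ RootD.posOf P Δ, 0 ≤ P.coroot' i m) →
        f (g • m) ≤ f m := by
    intro f hf g hg
    obtain ⟨l, hl, hlg⟩ := RootSys.exists_word hΔ hg
    obtain ⟨n, hn⟩ : ∃ n, l.length ≤ n := ⟨_, le_rfl⟩
    induction n generalizing g l with
    | zero =>
      obtain rfl : l = [] := List.length_eq_zero_iff.mp (by omega)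
      intro m _
      rw [← hlg]
      simp [RootSys.wordProd]
    | succ n ih =>
      intro m hm
      by_cases hone : ∀ d ∈ Δ, g • d ∈ RootD.posOf P Δ
      · rw [RootSys.eq_one_of_pos hΔ hg hone, one_smul]
      push Not at hone
      obtain ⟨d, hd, hneg⟩ := hone
      obtain ⟨l', hl', hlen, hprod⟩ := RootSys.exists_shorter hΔ l hl hd (hlg ▸ hneg)
      rw [hlg] at hprod
      have h1 := ih _ (mul_mem hg (P.reflection_mem_weylGroup d)) l' hl' hprod (by omega) m hm
      rw [mul_smul, RootPairing.Equiv.reflection_smul, RootPairing.reflection_apply,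
        RootSys.smul_sub', RootSys.smul_smul', map_sub, map_zsmul] at h1
      refine le_trans ?_ h1
      have h2 : f (g • P.root d) ≤ 0 := by
        have := hf _ ((RootSys.pos_or_neg hΔ (g • d)).resolve_left hneg)
        rw [RootSys.root_neg, map_neg, neg_nonneg, RootSys.root_smul] at this
        exact this
      rw [le_sub_self_iff]
      have h3 := zsmul_nonneg (neg_nonneg.mpr h2) (hm d (RootSys.simple_pos hΔ hd))
      rwa [smul_neg, neg_nonneg] at h3
  constructor
  · intro h X hX hXW
    refine Finset.sup'_le hX _ fun x hx => ?_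
    obtain ⟨φ, hφ⟩ := RootSys.exists_dual_pos hΔ
    obtain ⟨⟨g, hg⟩, -, hgmax⟩ := Finset.exists_max_image (Finset.univ : Finset P.weylGroup)
      (fun g => φ ((g : P.Aut) • x)) Finset.univ_nonempty
    have hsimple : ∀ d ∈ RootD.posOf P Δ, 0 ≤ P.coroot' d (g • x) := by
      intro d hd
      have h1 := hgmax ⟨_, mul_mem (P.reflection_mem_weylGroup d) hg⟩ (Finset.mem_univ _)
      simp only [mul_smul, RootPairing.Equiv.reflection_smul, RootPairing.reflection_apply, map_sub,
        map_zsmul, smul_eq_mul] at h1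
      exact nonneg_of_mul_nonneg_left (by linarith) (hφ d hd)
    have h2 := hweak f₁ hf₁ g⁻¹ (inv_mem hg) _ hsimple
    rw [inv_smul_smul] at h2
    exact h2.trans ((h _ hsimple).trans (Finset.le_sup' f₂ (hXW g hg x hx)))
  · intro h m hm
    have h1 := h ((Finset.univ : Finset P.weylGroup).image fun g : P.weylGroup => (g : P.Aut) • m)
      (Finset.univ_nonempty.image _) (fun g hg y hy => by
        obtain ⟨a, -, rfl⟩ := Finset.mem_image.mp hy
        exact Finset.mem_image.mpr
          ⟨⟨g * (a : P.Aut), mul_mem hg a.2⟩, Finset.mem_univ _, mul_smul g (a : P.Aut) m⟩)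
    refine le_trans (Finset.le_sup' f₁ ?_) (h1.trans (Finset.sup'_le _ _ fun y hy => ?_))
    · exact Finset.mem_image.mpr ⟨1, Finset.mem_univ _, one_smul _ m⟩
    · obtain ⟨a, -, rfl⟩ := Finset.mem_image.mp hy
      exact hweak f₂ hf₂ (a : P.Aut) a.2 m hm

end Groth.Agent.S19161
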