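import Groth.Statements.S19176
import Mathlib.RingTheory.MvPolynomial.Ideal
import Mathlib.Algebra.MvPolynomial.PDeriv
import Mathlib.LinearAlgebra.Dimension.Constructions
import Mathlib.Tactic.Ring
import Mathlib.Tactic.LinearCombination

set_option autoImplicit false
universe u
open PlaneCurve

namespace Groth.Agent.S19176

open MvPolynomial in
theorem finrank_pow_pair (k : Type u) [Field k] (a b : ℕ) :
    Module.finrank k (MvPolynomial (Fin 2) k ⧸
      Ideal.span ({X 0 ^ a, X 1 ^ b} : Set (MvPolynomial (Fin 2) k))) = a * b := by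
  classical
  let e : Fin a × Fin b → Fin 2 →₀ ℕ := fun q =>
    Finsupp.single 0 (q.1 : ℕ) + Finsupp.single 1 (q.2 : ℕ)
  have e0 : ∀ q, e q 0 = q.1 := fun q => by simp [e]
  have e1 : ∀ q, e q 1 = q.2 := fun q => by simp [e]
  let φ : MvPolynomial (Fin 2) k →ₗ[k] (Fin a × Fin b → k) := LinearMap.pi fun q => lcoeff k (e q)
  have hφ : ∀ f q, φ f q = coeff (e q) f := fun f q => rfl
  have hsurj : Function.Surjective φ := by
    intro w
    refine ⟨∑ q, monomial (e q) (w q), ?_⟩
    funext q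
    rw [hφ, coeff_sum, Finset.sum_eq_single q]
    · simp
    · intro r _ hr
      rw [coeff_monomial, if_neg]
      intro h
      refine hr (Prod.ext (Fin.ext ?_) (Fin.ext ?_))
      · rw [← e0 r, h, e0]
      · rw [← e1 r, h, e1]
    · simp
  have hI : Ideal.span ({X 0 ^ a, X 1 ^ b} : Set (MvPolynomial (Fin 2) k)) = Ideal.span
      ((fun s => monomial s (1 : k)) ''
        ({Finsupp.single 0 a, Finsupp.single 1 b} : Set (Fin 2 →₀ ℕ))) := by
    rw [Set.image_pair, X_pow_eq_monomial, X_pow_eq_monomial]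
  have hker : φ.ker = (Ideal.span ({X 0 ^ a, X 1 ^ b} : Set (MvPolynomial (Fin 2) k))).restrictScalars k := by
    ext f
    rw [LinearMap.mem_ker, Submodule.restrictScalars_mem, hI, mem_ideal_span_monomial_image]
    simp only [Set.mem_insert_iff, Set.mem_singleton_iff, exists_eq_or_imp, exists_eq_left,
      Finsupp.single_le_iff]
    constructor
    · intro h m hm
      by_contra hc
      rw [not_or, not_le, not_le] at hc
      have := congrFun h (⟨m 0, hc.1⟩, ⟨m 1, hc.2⟩)
      rw [hφ, show e (⟨m 0, hc.1⟩, ⟨m 1, hc.2⟩) = m from by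
        ext i; fin_cases i <;> simp [e0, e1]] at this
      exact (mem_support_iff.1 hm) this
    · intro h
      funext q
      rw [hφ, Pi.zero_apply]
      by_contra hc
      rcases h _ (mem_support_iff.2 hc) with h' | h'
      · rw [e0] at h'; have := q.1.2; omega
      · rw [e1] at h'; have := q.2.2; omega
  rw [show Module.finrank k (MvPolynomial (Fin 2) k ⧸
      Ideal.span ({X 0 ^ a, X 1 ^ b} : Set (MvPolynomial (Fin 2) k))) =
    Module.finrank k (MvPolynomial (Fin 2) k ⧸
      (Ideal.span ({X 0 ^ a, X 1 ^ b} : Set (MvPolynomial (Fin 2) k))).restrictScalars k) from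
    (Submodule.Quotient.restrictScalarsEquiv k _).finrank_eq.symm, ← hker,
    (φ.quotKerEquivOfSurjective hsurj).finrank_eq, Module.finrank_pi,
    Fintype.card_prod, Fintype.card_fin, Fintype.card_fin]

open MvPolynomial in
/-- Let k be a field of characteristic p (p = 0 allowed) and F = y² − x³ in k[x, y] (x the variable of
index 0, y of index 1). The singular subscheme of the plane curve F = 0, cut out by F and its two
partial derivatives, is finite over k of degree 4 when p = 2, of degree 3 when p = 3, and of degree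
2 otherwise: the k-dimension of k[x, y]/(F, ∂F/∂x, ∂F/∂y) is that number. (The source phrases this
through the complete local ring of a cusp; the row is the computation for the standard cusp y² =
x³.) -/
theorem result (k : Type u) [Field k] (p : ℕ) [CharP k p] :
    Module.finrank k (MvPolynomial (Fin 2) k ⧸ Ideal.span
      ({X 1 ^ 2 - X 0 ^ 3, pderiv 0 (X 1 ^ 2 - X 0 ^ 3), pderiv 1 (X 1 ^ 2 - X 0 ^ 3)} :
        Set (MvPolynomial (Fin 2) k))) = (if p = 2 then 4 else if p = 3 then 3 else 2) := by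
  have d0 : pderiv 0 (X 1 ^ 2 - X 0 ^ 3 : MvPolynomial (Fin 2) k) = -(C (3 : k) * X 0 ^ 2) := by
    simp only [map_sub, pderiv_pow, pderiv_X_self, pderiv_X_of_ne (show (1 : Fin 2) ≠ 0 by decide),
      mul_zero, mul_one, zero_sub, map_ofNat]
    norm_num
  have d1 : pderiv 1 (X 1 ^ 2 - X 0 ^ 3 : MvPolynomial (Fin 2) k) = C (2 : k) * X 1 := by
    simp only [map_sub, pderiv_pow, pderiv_X_self, pderiv_X_of_ne (show (0 : Fin 2) ≠ 1 by decide),
      mul_zero, mul_one, sub_zero, map_ofNat]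
    norm_num
  rw [d0, d1]
  by_cases h2 : p = 2
  · subst h2
    have t2 : (2 : k) = 0 := by simpa using CharP.cast_eq_zero k 2
    have t3 : (3 : k) = 1 := by linear_combination t2
    have he : Ideal.span ({X 1 ^ 2 - X 0 ^ 3, -(C (3 : k) * X 0 ^ 2), C (2 : k) * X 1} :
        Set (MvPolynomial (Fin 2) k)) = Ideal.span {X 0 ^ 2, X 1 ^ 2} := by
      rw [t2, t3, map_zero, zero_mul, map_one, one_mul]
      refine le_antisymm (Ideal.span_le.2 ?_) (Ideal.span_le.2 ?_)
      · simp only [Set.insert_subset_iff, Set.singleton_subset_iff, SetLike.mem_coe]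
        exact ⟨Ideal.mem_span_pair.2 ⟨-X 0, 1, by ring⟩, Ideal.mem_span_pair.2 ⟨-1, 0, by ring⟩,
          zero_mem _⟩
      · simp only [Set.insert_subset_iff, Set.singleton_subset_iff, SetLike.mem_coe]
        exact ⟨Ideal.mem_span_insert.2 ⟨0, _, Ideal.mem_span_pair.2 ⟨-1, 0, rfl⟩, by ring⟩,
          Ideal.mem_span_insert.2 ⟨1, _, Ideal.mem_span_pair.2 ⟨-X 0, 0, rfl⟩, by ring⟩⟩
    rw [if_pos rfl, he, finrank_pow_pair]
  have t2 : (2 : k) ≠ 0 := by
    intro h
    have : p ∣ 2 := (CharP.cast_eq_zero_iff k p 2).1 (by exact_mod_cast h)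
    rcases (Nat.dvd_prime Nat.prime_two).1 this with h1 | h1
    · exact CharP.char_ne_one k p h1
    · exact h2 h1
  have hy : C (2 : k)⁻¹ * C (2 : k) = (1 : MvPolynomial (Fin 2) k) := by
    rw [← map_mul, inv_mul_cancel₀ t2, map_one]
  rw [if_neg h2]
  by_cases h3 : p = 3
  · subst h3
    have t3 : (3 : k) = 0 := by simpa using CharP.cast_eq_zero k 3
    have he : Ideal.span ({X 1 ^ 2 - X 0 ^ 3, -(C (3 : k) * X 0 ^ 2), C (2 : k) * X 1} :
        Set (MvPolynomial (Fin 2) k)) = Ideal.span {X 0 ^ 3, X 1 ^ 1} := by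
      rw [t3, map_zero, zero_mul, neg_zero, pow_one]
      refine le_antisymm (Ideal.span_le.2 ?_) (Ideal.span_le.2 ?_)
      · simp only [Set.insert_subset_iff, Set.singleton_subset_iff, SetLike.mem_coe]
        exact ⟨Ideal.mem_span_pair.2 ⟨-1, X 1, by ring⟩, zero_mem _,
          Ideal.mem_span_pair.2 ⟨0, C 2, by ring⟩⟩
      · simp only [Set.insert_subset_iff, Set.singleton_subset_iff, SetLike.mem_coe]
        exact ⟨Ideal.mem_span_insert.2 ⟨-1, _, Ideal.mem_span_pair.2 ⟨0, C (2 : k)⁻¹ * X 1, rfl⟩,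
            by linear_combination (-(X 1 ^ 2)) * hy⟩,
          Ideal.mem_span_insert.2 ⟨0, _, Ideal.mem_span_pair.2 ⟨0, C (2 : k)⁻¹, rfl⟩,
            by linear_combination (-(X 1)) * hy⟩⟩
    rw [if_pos rfl, he, finrank_pow_pair]
  have t3 : (3 : k) ≠ 0 := by
    intro h
    have : p ∣ 3 := (CharP.cast_eq_zero_iff k p 3).1 (by exact_mod_cast h)
    rcases (Nat.dvd_prime Nat.prime_three).1 this with h1 | h1
    · exact CharP.char_ne_one k p h1
    · exact h3 h1
  have hx : C (3 : k)⁻¹ * C (3 : k) = (1 : MvPolynomial (Fin 2) k) := by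
    rw [← map_mul, inv_mul_cancel₀ t3, map_one]
  have he : Ideal.span ({X 1 ^ 2 - X 0 ^ 3, -(C (3 : k) * X 0 ^ 2), C (2 : k) * X 1} :
      Set (MvPolynomial (Fin 2) k)) = Ideal.span {X 0 ^ 2, X 1 ^ 1} := by
    rw [pow_one]
    refine le_antisymm (Ideal.span_le.2 ?_) (Ideal.span_le.2 ?_)
    · simp only [Set.insert_subset_iff, Set.singleton_subset_iff, SetLike.mem_coe]
      exact ⟨Ideal.mem_span_pair.2 ⟨-X 0, X 1, by ring⟩, Ideal.mem_span_pair.2 ⟨-C 3, 0, by ring⟩,
        Ideal.mem_span_pair.2 ⟨0, C 2, by ring⟩⟩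
    · simp only [Set.insert_subset_iff, Set.singleton_subset_iff, SetLike.mem_coe]
      exact ⟨Ideal.mem_span_insert.2 ⟨0, _, Ideal.mem_span_pair.2 ⟨-C (3 : k)⁻¹, 0, rfl⟩,
          by linear_combination (-(X 0 ^ 2)) * hx⟩,
        Ideal.mem_span_insert.2 ⟨0, _, Ideal.mem_span_pair.2 ⟨0, C (2 : k)⁻¹, rfl⟩,
          by linear_combination (-(X 1)) * hy⟩⟩
  rw [if_neg h3, he, finrank_pow_pair]

end Groth.Agent.S19176
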