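import Groth.Statements.S19177
import Mathlib

set_option autoImplicit false
universe u
open CAlg

namespace Groth.Agent.S19177

/-- Let S → R be a homomorphism of commutative rings making R a finitely generated projective S-module
of rank 2 at every prime of S (the affine form of a finite locally free morphism of degree 2). Then
the cokernel of the (injective) structure map S → R, the S-module R/S, is a projective S-module of
rank 1 at every prime of S (locally free of rank 1). -/
theorem result
    (S R : Type u) [CommRing S] [CommRing R] [Algebra S R] [Module.Finite S R] [Module.Projective S R]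
    (h2 : ∀ p : PrimeSpectrum S, Module.rankAtStalk (R := S) R p = 2) :
    Module.Projective S (R ⧸ LinearMap.range (Algebra.linearMap S R)) ∧
      ∀ p : PrimeSpectrum S,
        Module.rankAtStalk (R := S) (R ⧸ LinearMap.range (Algebra.linearMap S R)) p = 1 := by
  classical
  obtain ⟨n, f, hf⟩ := Module.Finite.exists_fin' S R
  obtain ⟨g, hg⟩ := Module.projective_lifting_property f LinearMap.id hf
  let J : Ideal S := LinearMap.range (LinearMap.applyₗ (1 : R) : (R →ₗ[S] S) →ₗ[S] S)
  have hJ : J = ⊤ := by
    by_contra hne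
    obtain ⟨m, hm, hle⟩ := Ideal.exists_le_maximal J hne
    have h1 : (1 : R) ∈ m • (⊤ : Submodule S R) := by
      rw [show (1 : R) = f (g 1) from (LinearMap.congr_fun hg 1).symm, pi_eq_sum_univ' (g 1), map_sum]
      refine sum_mem fun i _ => ?_
      rw [map_smul]
      exact Submodule.smul_mem_smul (hle ⟨(LinearMap.proj i).comp g, rfl⟩) Submodule.mem_top
    have htop : (⊤ : Submodule S R) ≤ m • ⊤ := fun x _ => by
      have : x ∈ (m.map (algebraMap S R)).restrictScalars S := by
        rw [← Ideal.smul_top_eq_map] at *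
        rw [Ideal.smul_top_eq_map] at h1
        rw [Ideal.smul_top_eq_map]
        simpa using (m.map (algebraMap S R)).mul_mem_left x h1
      rwa [← Ideal.smul_top_eq_map] at this
    obtain ⟨r, hr1, hr⟩ := Submodule.exists_sub_one_mem_and_smul_eq_zero_of_fg_of_le_smul m ⊤
      Module.Finite.fg_top htop
    have hp : (⟨m, hm.isPrime⟩ : PrimeSpectrum S) ∈ Module.support S R := by
      by_contra h
      have := (Module.rankAtStalk_eq_zero_iff_notMem_support _).2 h
      rw [h2] at this
      omega
    rw [Module.mem_support_iff_of_finite] at hp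
    have : r ∈ m := hp (Module.mem_annihilator.2 fun x => hr x Submodule.mem_top)
    exact hm.ne_top ((Ideal.eq_top_iff_one m).2 (by simpa using m.sub_mem this hr1))
  obtain ⟨φ, hφ⟩ : (1 : S) ∈ J := hJ ▸ Submodule.mem_top
  have hφ1 : φ 1 = 1 := hφ
  let L := LinearMap.range (Algebra.linearMap S R)
  let s : (R ⧸ L) →ₗ[S] R := L.liftQ (LinearMap.id - (Algebra.linearMap S R) ∘ₗ φ : R →ₗ[S] R) (by
    rintro _ ⟨a, rfl⟩
    rw [LinearMap.mem_ker, LinearMap.sub_apply, LinearMap.id_apply, LinearMap.comp_apply,
      Algebra.linearMap_apply, show φ (algebraMap S R a) = a by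
        rw [Algebra.algebraMap_eq_smul_one, map_smul, hφ1, smul_eq_mul, mul_one],
      Algebra.linearMap_apply, sub_self])
  have hs : L.mkQ ∘ₗ s = LinearMap.id := by
    refine Submodule.linearMap_qext _ (LinearMap.ext fun x => ?_)
    simp [s, L]
  haveI : Module.Projective S (R ⧸ L) := Module.Projective.of_split s L.mkQ hs
  refine ⟨this, fun p => ?_⟩
  let e : R ≃ₗ[S] S × (R ⧸ L) := LinearEquiv.ofBijective (φ.prod L.mkQ) ⟨by
    rw [← LinearMap.ker_eq_bot, LinearMap.ker_eq_bot']
    intro x hx
    obtain ⟨hx1, hx2⟩ := Prod.ext_iff.1 hx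
    obtain ⟨a, rfl⟩ := (Submodule.Quotient.mk_eq_zero L).1 hx2
    have : φ (algebraMap S R a) = a := by
      rw [Algebra.algebraMap_eq_smul_one, map_smul, hφ1, smul_eq_mul, mul_one]
    have hx1' : φ (algebraMap S R a) = 0 := hx1
    rw [this] at hx1'
    simp [hx1'], fun z => ⟨z.1 • (1 : R) + s z.2, by
      obtain ⟨a, q⟩ := z
      obtain ⟨x, rfl⟩ := Submodule.Quotient.mk_surjective L q
      have h0 : φ (algebraMap S R (φ x)) = φ x := by
        rw [Algebra.algebraMap_eq_smul_one, map_smul, hφ1, smul_eq_mul, mul_one]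
      ext1
      · simp [s, hφ1, h0]
      · have hm1 : L.mkQ (a • (1 : R)) = 0 :=
          (Submodule.Quotient.mk_eq_zero L).2 ⟨a, Algebra.algebraMap_eq_smul_one a⟩
        have hm2 := LinearMap.congr_fun hs (Submodule.Quotient.mk x)
        show L.mkQ (a • (1 : R) + s (Submodule.Quotient.mk x)) = Submodule.Quotient.mk x
        rw [map_add, hm1, zero_add]
        exact hm2⟩⟩
  haveI : Nontrivial S := p.nontrivial
  have := congrFun (Module.rankAtStalk_eq_of_equiv e) p
  rw [h2, Module.rankAtStalk_prod, Pi.add_apply, Module.rankAtStalk_self, Pi.one_apply] at this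
  show Module.rankAtStalk (R := S) (R ⧸ L) p = 1
  omega

end Groth.Agent.S19177
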