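import Groth.Statements.S19178
import Mathlib

set_option autoImplicit false
universe u
open Curves

namespace Groth.Agent.S19178

/-- For every field k and every choice of coefficients a₁, a₂, a₃, a₄, a₆ in k, the homogeneous
Weierstrass cubic Y²Z + a₁XYZ + a₃YZ² − (X³ + a₂X²Z + a₄XZ² + a₆Z³) is an irreducible polynomial in
k[X, Y, Z]. Applied to all fields, this says every fibre of the Weierstrass family over the affine
space of coefficients is geometrically integral. -/
theorem result (k : Type u) [Field k]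
    (W : WeierstrassCurve k) :
    Irreducible (WeierstrassCurve.Projective.polynomial W) := by
  classical
  refine (MulEquiv.irreducible_iff (MvPolynomial.finSuccEquiv k 2)).mp ?_
  let S := MvPolynomial (Fin 2) k
  let y : S := MvPolynomial.X 0
  let z : S := MvPolynomial.X 1
  let P : Polynomial S := Polynomial.X ^ 3 + Polynomial.C (MvPolynomial.C W.a₂ * z) * Polynomial.X ^ 2 +
    Polynomial.C (MvPolynomial.C W.a₄ * z ^ 2 - MvPolynomial.C W.a₁ * y * z) * Polynomial.X +
    Polynomial.C (MvPolynomial.C W.a₆ * z ^ 3 - y ^ 2 * z - MvPolynomial.C W.a₃ * y * z ^ 2)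
  have hy : MvPolynomial.finSuccEquiv k 2 (MvPolynomial.X 1) = Polynomial.C y := MvPolynomial.finSuccEquiv_X_succ (j := 0)
  have hz : MvPolynomial.finSuccEquiv k 2 (MvPolynomial.X 2) = Polynomial.C z := MvPolynomial.finSuccEquiv_X_succ (j := 1)
  have hc : ∀ c : k, MvPolynomial.finSuccEquiv k 2 (MvPolynomial.C c) = Polynomial.C (MvPolynomial.C c) := fun c =>
    (MvPolynomial.finSuccEquiv k 2).commutes c
  have hP : MvPolynomial.finSuccEquiv k 2 (WeierstrassCurve.Projective.polynomial W) = -P := by
    simp only [WeierstrassCurve.Projective.polynomial, map_sub, map_add, map_mul, map_pow, hy, hz, hc,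
      MvPolynomial.finSuccEquiv_X_zero, P]
    ring
  have hdeg : P.natDegree = 3 ∧ P.Monic := ⟨by simp only [P]; compute_degree!, by simp only [P]; monicity!⟩
  have hzp : (Ideal.span {z} : Ideal S).IsPrime := (Ideal.span_singleton_prime (MvPolynomial.X_ne_zero 1)).mpr MvPolynomial.X_prime
  suffices h : Irreducible P by rw [show (MvPolynomial.finSuccEquiv k 2) (WeierstrassCurve.Projective.polynomial W) = -P from hP]; exact (Associated.irreducible_iff ⟨-1, by simp⟩).mp h
  have hne : Ideal.span {z} ≠ (⊤ : Ideal S) := hzp.ne_top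
  have hcoef : P.coeff 0 = MvPolynomial.C W.a₆ * z ^ 3 - y ^ 2 * z - MvPolynomial.C W.a₃ * y * z ^ 2 := by
    simp [P, Polynomial.coeff_X_pow, ← map_pow, Polynomial.coeff_C]
  refine Polynomial.IsEisensteinAt.irreducible (𝓟 := Ideal.span {z}) ?_ hzp hdeg.2.isPrimitive (by omega)
  constructor
  · rw [hdeg.2.leadingCoeff, ← Ideal.eq_top_iff_one]; exact hne
  · intro n hn
    rw [hdeg.1] at hn
    rw [Ideal.mem_span_singleton]
    interval_cases n
    · rw [hcoef]; exact ⟨MvPolynomial.C W.a₆ * z ^ 2 - y ^ 2 - MvPolynomial.C W.a₃ * y * z, by ring⟩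
    · refine ⟨MvPolynomial.C W.a₄ * z - MvPolynomial.C W.a₁ * y, ?_⟩
      simp only [P, Polynomial.coeff_add, Polynomial.coeff_C_mul, Polynomial.coeff_X_pow, Polynomial.coeff_X, Polynomial.coeff_C]
      norm_num
      ring
    · refine ⟨MvPolynomial.C W.a₂, ?_⟩
      simp only [P, Polynomial.coeff_add, Polynomial.coeff_C_mul, Polynomial.coeff_X_pow, Polynomial.coeff_X, Polynomial.coeff_C]
      norm_num
      ring
  · rw [hcoef, Ideal.span_singleton_pow, Ideal.mem_span_singleton]
    rintro ⟨c, hc'⟩
    have h : y ^ 2 = z * (MvPolynomial.C W.a₆ * z - MvPolynomial.C W.a₃ * y - c) := mul_left_cancel₀ (MvPolynomial.X_ne_zero 1 : z ≠ 0) (by linear_combination (-1 : S) * hc')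
    have := congrArg (MvPolynomial.eval (![1, 0] : Fin 2 → k)) h
    simp [y, z] at this

end Groth.Agent.S19178
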