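import Groth.Statements.S19181
import Mathlib.Algebra.Polynomial.AlgebraMap
import Mathlib.RingTheory.Ideal.Span
import Mathlib.Tactic.LinearCombination
import Mathlib.Tactic.Ring

set_option autoImplicit false
universe u
open CAlg

namespace Groth.Agent.S19181

section
open MvPolynomial
variable {R : Type u} [CommRing R]

theorem exists_X_mul (g : MvPolynomial (Fin 2) R) :
    ∃ h : MvPolynomial (Fin 2) R,
      g = Polynomial.aeval (X 1 : MvPolynomial (Fin 2) R) (aeval ![(0 : Polynomial R), Polynomial.X] g) + X 0 * h := by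
  induction g using MvPolynomial.induction_on with
  | C r => exact ⟨0, by simp [MvPolynomial.algebraMap_eq]⟩
  | add a b ha hb =>
    obtain ⟨x, hx⟩ := ha; obtain ⟨y, hy⟩ := hb
    exact ⟨x + y, by rw [map_add, map_add, mul_add]; linear_combination hx + hy⟩
  | mul_X a i ha =>
    obtain ⟨x, hx⟩ := ha
    fin_cases i
    · exact ⟨a, by simp [mul_comm]⟩
    · exact ⟨x * X 1, by simp; linear_combination (X 1) * hx⟩

theorem saturation (F : MvPolynomial (Fin 2) R)
    (hF : aeval ![(0 : Polynomial R), Polynomial.X] F ∈ nonZeroDivisors (Polynomial R)) (s : MvPolynomial (Fin 2) R) :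
    (∃ n : ℕ, X 0 ^ n * s ∈ Ideal.span ({X 0 ^ 2 * F} : Set (MvPolynomial (Fin 2) R))) ↔
      s ∈ Ideal.span ({F} : Set (MvPolynomial (Fin 2) R)) := by
  constructor
  · rintro ⟨n, hn⟩
    replace hn : X 0 ^ n * s ∈ Ideal.span ({F} : Set (MvPolynomial (Fin 2) R)) :=
      Ideal.span_le.2 (Set.singleton_subset_iff.2 (Ideal.mem_span_singleton.2 (dvd_mul_left F _))) hn
    induction n generalizing s with
    | zero => simpa using hn
    | succ n ih =>
      rw [pow_succ, mul_assoc] at hn
      have h := ih (X 0 * s) hn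
      obtain ⟨g, hg⟩ := Ideal.mem_span_singleton'.1 h
      have h0 : aeval ![(0 : Polynomial R), Polynomial.X] g = 0 := by
        refine (mem_nonZeroDivisors_iff_right.1 hF) _ ?_
        rw [← map_mul, hg, map_mul, aeval_X]
        simp
      obtain ⟨g', hg'⟩ := exists_X_mul g
      rw [h0, map_zero, zero_add] at hg'
      refine Ideal.mem_span_singleton'.2 ⟨g', ?_⟩
      refine (isRegular_X (n := (0 : Fin 2))).left ?_
      show X 0 * (g' * F) = X 0 * s
      rw [← hg, hg', mul_assoc]
  · intro h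
    obtain ⟨g, rfl⟩ := Ideal.mem_span_singleton'.1 h
    exact ⟨2, Ideal.mem_span_singleton'.2 ⟨g, by ring⟩⟩

end

open MvPolynomial in
/-- Let R be a commutative ring, a₁, a₂ ∈ R, and C ⊂ A²_R the curve y² + a₁xy = x³ + a₂x², blown up at
the section x = y = 0. In the chart where x = yα (variables y = X 0, α = X 1) the equation of C
becomes y²·g₁ with g₁ = 1 + a₁α − yα³ − a₂α², and the y-saturation of the ideal (y²g₁) is (g₁): for
s ∈ R[y, α], some yⁿs lies in (y²g₁) if and only if s ∈ (g₁). In the chart where y = xβ (variables x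
= X 0, β = X 1) the equation becomes x²·g₂ with g₂ = β² + a₁β − x − a₂, and some xⁿs lies in (x²g₂)
if and only if s ∈ (g₂). In other words the strict transform of C is cut out by g₁, resp. g₂, in the
two charts. -/
theorem result (R : Type u) [CommRing R] (a₁ a₂ : R) :
    (∀ s : MvPolynomial (Fin 2) R,
      (∃ n : ℕ, X 0 ^ n * s ∈ Ideal.span ({X 0 ^ 2 * (1 + C a₁ * X 1 - X 0 * X 1 ^ 3 - C a₂ * X 1 ^ 2)} :
        Set (MvPolynomial (Fin 2) R))) ↔
      s ∈ Ideal.span ({1 + C a₁ * X 1 - X 0 * X 1 ^ 3 - C a₂ * X 1 ^ 2} : Set (MvPolynomial (Fin 2) R))) ∧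
    (∀ s : MvPolynomial (Fin 2) R,
      (∃ n : ℕ, X 0 ^ n * s ∈ Ideal.span ({X 0 ^ 2 * (X 1 ^ 2 + C a₁ * X 1 - X 0 - C a₂)} :
        Set (MvPolynomial (Fin 2) R))) ↔
      s ∈ Ideal.span ({X 1 ^ 2 + C a₁ * X 1 - X 0 - C a₂} : Set (MvPolynomial (Fin 2) R))) := by
  refine ⟨saturation _ ?_, saturation _ ?_⟩
  · by_contra h
    obtain ⟨a, ha, hP⟩ := Polynomial.notMem_nonZeroDivisors_iff.1 h
    have := congrArg (fun P => Polynomial.coeff P 0) hP
    simp [Polynomial.coeff_X_pow] at this
    exact ha this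
  · by_contra h
    obtain ⟨a, ha, hP⟩ := Polynomial.notMem_nonZeroDivisors_iff.1 h
    have := congrArg (fun P => Polynomial.coeff P 2) hP
    simp [Polynomial.coeff_X_pow, Polynomial.coeff_X, Polynomial.coeff_C] at this
    exact ha this

end Groth.Agent.S19181
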