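import Groth.Statements.S19182
import Mathlib.RingTheory.Smooth.StandardSmoothOfFree
import Mathlib.RingTheory.Smooth.Basic
import Mathlib.RingTheory.Localization.Away.Basic
import Mathlib.Algebra.Polynomial.AlgebraMap
import Mathlib.Tactic.LinearCombination
import Mathlib.Tactic.Ring

set_option autoImplicit false
universe u
open CAlg

namespace Groth.Agent.S19182

open MvPolynomial in
/-- Let R be a commutative ring and a₁, a₂ ∈ R. The two affine charts of the blow-up of the plane curve
y² + a₁xy = x³ + a₂x² at the section x = y = 0, with coordinate rings R[y, α]/(1 + a₁α − yα³ − a₂α²)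
and R[x, β]/(β² + a₁β − x − a₂) (variables indexed 0 and 1 in this order), are smooth R-algebras
(formally smooth of finite presentation). This is the local computation behind the statement that
the blow-up of a Weierstrass curve along a section through its singular locus is a smooth proper
curve of genus 0. -/
theorem result (R : Type u) [CommRing R] (a₁ a₂ : R) :
    Algebra.Smooth R (MvPolynomial (Fin 2) R ⧸
      Ideal.span ({1 + C a₁ * X 1 - X 0 * X 1 ^ 3 - C a₂ * X 1 ^ 2} : Set (MvPolynomial (Fin 2) R))) ∧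
    Algebra.Smooth R (MvPolynomial (Fin 2) R ⧸
      Ideal.span ({X 1 ^ 2 + C a₁ * X 1 - X 0 - C a₂} : Set (MvPolynomial (Fin 2) R))) := by
  have gen1 : ∀ (T : Type u) [CommRing T] [Algebra R T] (g : MvPolynomial (Fin 2) R →ₐ[R] T),
      g (1 + C a₁ * X 1 - X 0 * X 1 ^ 3 - C a₂ * X 1 ^ 2) =
        1 + algebraMap R T a₁ * g (X 1) - g (X 0) * g (X 1) ^ 3 - algebraMap R T a₂ * g (X 1) ^ 2 := by
    intro T _ _ g
    simp [← MvPolynomial.algebraMap_eq]
  have gen2 : ∀ (T : Type u) [CommRing T] [Algebra R T] (g : MvPolynomial (Fin 2) R →ₐ[R] T),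
      g (X 1 ^ 2 + C a₁ * X 1 - X 0 - C a₂) =
        g (X 1) ^ 2 + algebraMap R T a₁ * g (X 1) - g (X 0) - algebraMap R T a₂ := by
    intro T _ _ g
    simp [← MvPolynomial.algebraMap_eq]
  haveI : Algebra.Smooth R (Polynomial R) := by
    haveI : Algebra.Smooth R (MvPolynomial PUnit.{1} R) := ⟨inferInstance, inferInstance⟩
    exact Algebra.Smooth.of_equiv (MvPolynomial.pUnitAlgEquiv R)
  constructor
  · let L := Localization.Away (Polynomial.X : Polynomial R)
    have hyu : IsUnit (algebraMap (Polynomial R) L Polynomial.X) :=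
      IsLocalization.Away.algebraMap_isUnit _
    obtain ⟨w, hw⟩ := hyu.exists_right_inv
    let y : L := algebraMap (Polynomial R) L Polynomial.X
    let x : L := (1 + algebraMap R L a₁ * y - algebraMap R L a₂ * y ^ 2) * w ^ 3
    let F : MvPolynomial (Fin 2) R := 1 + C a₁ * X 1 - X 0 * X 1 ^ 3 - C a₂ * X 1 ^ 2
    let φ : MvPolynomial (Fin 2) R →ₐ[R] L := aeval ![x, y]
    have hφ : ∀ a ∈ Ideal.span ({F} : Set (MvPolynomial (Fin 2) R)), φ a = 0 := by
      intro a ha
      obtain ⟨b, rfl⟩ := Ideal.mem_span_singleton'.1 ha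
      rw [map_mul]
      refine mul_eq_zero_of_right _ ?_
      simp only [φ, F, map_sub, map_add, map_mul, map_pow, map_one, aeval_C, aeval_X,
        Matrix.cons_val_zero, Matrix.cons_val_one, x]
      linear_combination (-(1 + algebraMap R L a₁ * y - algebraMap R L a₂ * y ^ 2) *
        ((y * w) ^ 2 + y * w + 1)) * hw
    let φ' : (MvPolynomial (Fin 2) R ⧸ Ideal.span ({F} : Set _)) →ₐ[R] L := Ideal.Quotient.liftₐ _ φ hφ
    let π := Ideal.Quotient.mkₐ R (Ideal.span ({F} : Set (MvPolynomial (Fin 2) R)))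
    have hF : π F = 0 := Ideal.Quotient.eq_zero_iff_mem.2 (Ideal.subset_span rfl)
    have hy : IsUnit (π (X 1)) := IsUnit.of_mul_eq_one
      (π (X 0) * π (X 1) ^ 2 + π (C a₂) * π (X 1) - π (C a₁)) (by
        simp only [F, map_sub, map_add, map_mul, map_pow, map_one] at hF
        linear_combination -hF)
    let ψ₀ : Polynomial R →ₐ[R] (MvPolynomial (Fin 2) R ⧸ Ideal.span ({F} : Set _)) :=
      Polynomial.aeval (π (X 1))
    have hψu : ∀ z : Submonoid.powers (Polynomial.X : Polynomial R), IsUnit (ψ₀ z) := by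
      rintro ⟨_, n, rfl⟩
      simpa [ψ₀] using hy.pow n
    let ψ : L →ₐ[R] (MvPolynomial (Fin 2) R ⧸ Ideal.span ({F} : Set _)) :=
      IsLocalization.liftAlgHom (M := Submonoid.powers (Polynomial.X : Polynomial R)) hψu
    have hψy : ψ y = π (X 1) := by
      simp [ψ, y, ψ₀]
    have e : (MvPolynomial (Fin 2) R ⧸ Ideal.span ({F} : Set _)) ≃ₐ[R] L := by
      refine AlgEquiv.ofAlgHom φ' ψ ?_ ?_
      · refine IsLocalization.algHom_ext (Submonoid.powers (Polynomial.X : Polynomial R)) (Polynomial.algHom_ext ?_)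
        show φ' (ψ y) = y
        rw [hψy]
        show φ (X 1) = y
        simp [φ]
      · refine Ideal.Quotient.algHom_ext R (MvPolynomial.algHom_ext ?_)
        rw [Fin.forall_fin_two]
        constructor
        · show ψ (φ (X 0)) = π (X 0)
          have h1 : π (X 1) * ψ w = 1 := by rw [← hψy, ← map_mul, hw, map_one]
          simp only [φ, aeval_X, Matrix.cons_val_zero, x, map_mul, map_sub, map_add, map_one,
            map_pow, AlgHom.commutes, hψy]
          rw [gen1 _ π] at hF
          linear_combination (ψ w) ^ 3 * hF +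
            π (X 0) * ((π (X 1) * ψ w) ^ 2 + π (X 1) * ψ w + 1) * h1
        · show ψ (φ (X 1)) = π (X 1)
          simpa [φ] using hψy
    haveI : Algebra.Smooth R L := Algebra.Smooth.comp R (Polynomial R) L
    exact Algebra.Smooth.of_equiv e.symm
  · let F : MvPolynomial (Fin 2) R := X 1 ^ 2 + C a₁ * X 1 - X 0 - C a₂
    let φ : MvPolynomial (Fin 2) R →ₐ[R] Polynomial R :=
      aeval ![Polynomial.X ^ 2 + Polynomial.C a₁ * Polynomial.X - Polynomial.C a₂, Polynomial.X]
    have hφ : ∀ a ∈ Ideal.span ({F} : Set (MvPolynomial (Fin 2) R)), φ a = 0 := by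
      intro a ha
      obtain ⟨b, rfl⟩ := Ideal.mem_span_singleton'.1 ha
      simp [φ, F]
    let φ' := Ideal.Quotient.liftₐ _ φ hφ
    let π := Ideal.Quotient.mkₐ R (Ideal.span ({F} : Set (MvPolynomial (Fin 2) R)))
    have hF : π F = 0 := Ideal.Quotient.eq_zero_iff_mem.2 (Ideal.subset_span rfl)
    rw [gen2 _ π] at hF
    have e : (MvPolynomial (Fin 2) R ⧸ Ideal.span ({F} : Set _)) ≃ₐ[R] Polynomial R := by
      refine AlgEquiv.ofAlgHom φ' (Polynomial.aeval (π (X 1))) (Polynomial.algHom_ext ?_) ?_
      · show φ' (Polynomial.aeval (π (X 1)) Polynomial.X) = Polynomial.X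
        rw [Polynomial.aeval_X]
        show φ (X 1) = Polynomial.X
        simp [φ]
      · refine Ideal.Quotient.algHom_ext R (MvPolynomial.algHom_ext ?_)
        rw [Fin.forall_fin_two]
        constructor
        · show Polynomial.aeval (π (X 1)) (φ (X 0)) = π (X 0)
          simp only [φ, aeval_X, Matrix.cons_val_zero, map_mul, map_sub, map_add, map_pow,
            Polynomial.aeval_X, Polynomial.aeval_C]
          linear_combination hF
        · show Polynomial.aeval (π (X 1)) (φ (X 1)) = π (X 1)
          simp [φ]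
    exact Algebra.Smooth.of_equiv e.symm

end Groth.Agent.S19182
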