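import Groth.Statements.S19183
import Mathlib.LinearAlgebra.Dimension.Finrank
import Mathlib.LinearAlgebra.Dimension.StrongRankCondition
import Mathlib.LinearAlgebra.FreeModule.Basic
import Mathlib.LinearAlgebra.Dimension.Constructions
import Mathlib.RingTheory.Ideal.Span
import Mathlib.LinearAlgebra.FreeModule.StrongRankCondition
import Mathlib.LinearAlgebra.InvariantBasisNumber

set_option autoImplicit false
universe u
open CAlg

namespace Groth.Agent.S19183

/-- Let A be a non-zero commutative ring and f ∈ A a non-zero-divisor. The fibre product A ×_{A/(f)} A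
of two copies of A over A/(f) — the A-submodule of A × A of pairs (x, y) with x − y ∈ (f), which is
the coordinate ring of two copies of Spec A glued along the Cartier divisor f = 0 — is a free
A-module of rank 2. (This is what makes the gluing of two copies of a curve along an effective
Cartier divisor finite locally free of degree 2 over the curve.) -/
theorem result (A : Type u) [CommRing A] [Nontrivial A]
    (f : A) (hf : f ∈ nonZeroDivisors A) :
    Module.Free A (Submodule.comap (LinearMap.fst A A A - LinearMap.snd A A A) (Ideal.span ({f} : Set A))) ∧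
      Module.finrank A (Submodule.comap (LinearMap.fst A A A - LinearMap.snd A A A) (Ideal.span ({f} : Set A))) = 2 := by
  set S := Submodule.comap (LinearMap.fst A A A - LinearMap.snd A A A) (Ideal.span ({f} : Set A))
  let φ : (A × A) →ₗ[A] S := LinearMap.codRestrict S
    { toFun := fun p => (p.1 + f * p.2, p.1)
      map_add' := fun p q => by ext <;> simp <;> ring
      map_smul' := fun c p => by ext <;> simp <;> ring }
    (fun p => Ideal.mem_span_singleton'.mpr ⟨p.2, by simp [mul_comm]⟩)
  have hb : Function.Bijective φ := by
    constructor
    · intro p q h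
      have h1 : (p.1 + f * p.2, p.1) = (q.1 + f * q.2, q.1) := congrArg Subtype.val h
      rw [Prod.mk.injEq] at h1
      obtain ⟨h2, h3⟩ := h1
      rw [h3, add_right_inj] at h2
      refine Prod.ext h3 (sub_eq_zero.mp ?_)
      exact (mem_nonZeroDivisors_iff_left.mp hf) _ (by rw [mul_sub, h2, sub_self])
    · rintro ⟨⟨x, y⟩, h⟩
      obtain ⟨c, hc⟩ := Ideal.mem_span_singleton'.mp h
      refine ⟨(y, c), Subtype.ext (Prod.ext ?_ rfl)⟩
      show y + f * c = x
      simp at hc
      rw [mul_comm, hc]; ring
  let e := LinearEquiv.ofBijective φ hb
  exact ⟨Module.Free.of_equiv e, by rw [← e.finrank_eq, Module.finrank_prod, Module.finrank_self]⟩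

end Groth.Agent.S19183
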