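import Groth.Statements.S19184
import Mathlib
-- import your own Groth.Agent.* helpers here

set_option autoImplicit false
universe u
open CAlg

namespace Groth.Agent.S19184

open Polynomial in
/-- Let S be a commutative ring, a, b ∈ S, f = x² + ax + b ∈ S[x] and R = S[x]/(f), a free S-algebra of
rank 2. Let A ⊂ S[x] be the S-subalgebra of polynomials whose class in R lies in the image of S → R;
it is the fibre product S[x] ×_R S, the coordinate ring of the affine line over S with the degree-2
subscheme Spec R collapsed onto Spec S. Then A is a free S-module and S[x] is a finitely generated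
A-module. -/
theorem result (S : Type u) [CommRing S] (a b : S) :
    Module.Free S ((⊥ : Subalgebra S (S[X] ⧸ Ideal.span ({X ^ 2 + C a * X + C b} : Set S[X]))).comap
        (Ideal.Quotient.mkₐ S (Ideal.span ({X ^ 2 + C a * X + C b} : Set S[X])))) ∧
      Module.Finite ((⊥ : Subalgebra S (S[X] ⧸ Ideal.span ({X ^ 2 + C a * X + C b} : Set S[X]))).comap
        (Ideal.Quotient.mkₐ S (Ideal.span ({X ^ 2 + C a * X + C b} : Set S[X])))) S[X] := by
  rcases subsingleton_or_nontrivial S with hS | hS
  · haveI : Subsingleton S[X] := inferInstance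
    exact ⟨inferInstance, inferInstance⟩
  set f : S[X] := X ^ 2 + C a * X + C b with hfdef
  set Ab := (⊥ : Subalgebra S (S[X] ⧸ Ideal.span ({f} : Set S[X]))).comap
    (Ideal.Quotient.mkₐ S (Ideal.span ({f} : Set S[X]))) with hAb
  have hfm : f.Monic := by rw [hfdef]; monicity!
  have hfd : f.natDegree = 2 := by rw [hfdef]; compute_degree!
  have hmem : ∀ g : S[X], g ∈ Ab ↔ ∃ (s : S) (q : S[X]), g = C s + f * q := by
    intro g
    rw [hAb, Subalgebra.mem_comap, Algebra.mem_bot]
    constructor
    · rintro ⟨s, hs⟩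
      have : g - C s ∈ Ideal.span ({f} : Set S[X]) := Ideal.Quotient.eq.1 hs.symm
      obtain ⟨q, hq⟩ := Ideal.mem_span_singleton.1 this
      exact ⟨s, q, by rw [← hq]; ring⟩
    · rintro ⟨s, q, rfl⟩
      exact ⟨s, (Ideal.Quotient.eq.2 (Ideal.mem_span_singleton.2 ⟨q, by simp [Polynomial.C_eq_algebraMap]⟩)).symm⟩
  refine ⟨?_, ?_⟩
  · let φ : S × S[X] →ₗ[S] Ab :=
      LinearMap.codRestrict Ab.toSubmodule
        ((Algebra.linearMap S S[X]).coprod (LinearMap.mulLeft S f))
        (fun x => (hmem _).2 ⟨x.1, x.2, rfl⟩)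
    have hinj : Function.Injective φ := by
      rw [injective_iff_map_eq_zero]
      rintro ⟨s, q⟩ hx
      have h0 : C s + f * q = 0 := congrArg Subtype.val hx
      have hq : q = 0 := by
        by_contra hq
        have hd := congrArg Polynomial.natDegree (eq_neg_of_add_eq_zero_right h0)
        rw [hfm.natDegree_mul' hq, hfd, Polynomial.natDegree_neg, Polynomial.natDegree_C] at hd
        omega
      rw [hq, mul_zero, add_zero, Polynomial.C_eq_zero] at h0
      simp [h0, hq]
    have hsur : Function.Surjective φ := fun ⟨g, hg⟩ => by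
      obtain ⟨s, q, rfl⟩ := (hmem g).1 hg
      exact ⟨(s, q), rfl⟩
    exact Module.Free.of_equiv (LinearEquiv.ofBijective φ ⟨hinj, hsur⟩)
  · classical
    refine ⟨⟨{1, X}, top_le_iff.1 fun g _ => ?_⟩⟩
    have h1 := Polynomial.modByMonic_add_div g f
    have hdeg : (g %ₘ f).natDegree ≤ 1 := by
      have := Polynomial.natDegree_modByMonic_lt g hfm (fun h => by simp [h] at hfd)
      omega
    obtain ⟨r1, r0, hr⟩ := Polynomial.exists_eq_X_add_C_of_natDegree_le_one hdeg
    have hs : ∀ (c : S[X]), c ∈ Ab → ∀ y ∈ ({1, X} : Finset S[X]),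
        c * y ∈ Submodule.span Ab (({1, X} : Finset S[X]) : Set S[X]) := fun c hc y hy =>
      Submodule.smul_mem _ (⟨c, hc⟩ : Ab) (Submodule.subset_span hy)
    rw [← h1, hr]
    refine add_mem (add_mem (hs (C r1) ((hmem _).2 ⟨r1, 0, by simp⟩) X (by simp)) ?_) ?_
    · simpa using hs (C r0) ((hmem _).2 ⟨r0, 0, by simp⟩) 1 (by simp)
    · simpa using hs (f * (g /ₘ f)) ((hmem _).2 ⟨0, g /ₘ f, by simp⟩) 1 (by simp)

end Groth.Agent.S19184
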