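import Groth.Statements.S19186
import Mathlib.RingTheory.Coprime.Lemmas
import Mathlib.Tactic.LinearCombination


set_option autoImplicit false
universe u
open OneMot

namespace Groth.Agent.S19186

/-- Let p and ℓ be distinct prime numbers, r and n natural numbers, and f : A → B a homomorphism of
abelian groups whose kernel and cokernel are annihilated by p^r (f a = 0 implies p^r • a = 0, and
every p^r • b lies in the image of f). Then f induces a bijection between the ℓ^n-torsion subgroups
of A and B and a bijection A/ℓ^n A → B/ℓ^n B. Spelled out without quotients: every ℓ^n-torsion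
element of B has exactly one ℓ^n-torsion preimage; an element of A whose image is an ℓ^n-multiple is
itself an ℓ^n-multiple; and every element of B is the sum of an image and an ℓ^n-multiple. -/
theorem result {A B : Type u} [AddCommGroup A] [AddCommGroup B] (f : A →+ B) (p ℓ r n : ℕ) (hp : p.Prime) (hl : ℓ.Prime) (hne : ℓ ≠ p) (hker : ∀ a : A, f a = 0 → p ^ r • a = 0) (hcoker : ∀ b : B, ∃ a : A, f a = p ^ r • b) : (∀ b : B, ℓ ^ n • b = 0 → ∃! a : A, ℓ ^ n • a = 0 ∧ f a = b) ∧ (∀ a : A, (∃ b' : B, f a = ℓ ^ n • b') → ∃ a' : A, a = ℓ ^ n • a') ∧ (∀ b : B, ∃ (a : A) (b' : B), b = f a + ℓ ^ n • b') := by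
  have hco : Nat.Coprime (p ^ (r + r)) (ℓ ^ n) := ((Nat.coprime_primes hp hl).2 hne.symm).pow _ _
  obtain ⟨u, v, huv⟩ : ∃ u v : ℤ, u * ((p ^ r * p ^ r : ℕ) : ℤ) + v * ((ℓ ^ n : ℕ) : ℤ) = 1 := by
    have := (Nat.isCoprime_iff_coprime.2 hco)
    rw [pow_add] at this
    exact this
  set P : ℕ := p ^ r with hP
  set L : ℕ := ℓ ^ n with hL
  have split : ∀ {G : Type u} [AddCommGroup G] (x : G), x = u • (P • P • x) + v • (L • x) := by
    intro G _ x
    rw [← natCast_zsmul x P, ← natCast_zsmul ((P : ℤ) • x) P, ← natCast_zsmul x L, smul_smul, smul_smul, smul_smul, ← add_smul]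
    have h1 : u * ((P : ℤ) * P) + v * (L : ℤ) = 1 := by push_cast at huv; linear_combination huv
    rw [← mul_assoc] at h1
    rw [h1, one_smul]
  refine ⟨fun b hb => ?_, ?_, fun b => ?_⟩
  · obtain ⟨a0, ha0⟩ := hcoker b
    refine ⟨u • (P • a0), ⟨?_, ?_⟩, ?_⟩
    · rw [smul_comm, smul_comm L P a0, hker _ (by rw [map_nsmul, ha0, smul_comm, hb, smul_zero]), smul_zero]
    · rw [map_zsmul, map_nsmul, ha0]
      conv_rhs => rw [split b, hb, smul_zero, add_zero]
    · rintro a ⟨ha, rfl⟩
      have h0 : f (P • a - a0) = 0 := by rw [map_sub, map_nsmul, ha0, sub_self]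
      have h1 : P • P • a = P • a0 := by
        have := hker _ h0
        rwa [smul_sub, sub_eq_zero] at this
      conv_lhs => rw [split a, ha, smul_zero, add_zero, h1]
  · rintro a ⟨b', hb'⟩
    obtain ⟨a', ha'⟩ := hcoker b'
    have h1 : P • P • a = L • (P • a') := by
      have := hker (P • a - L • a') (by rw [map_sub, map_nsmul, map_nsmul, hb', ha', smul_comm, sub_self])
      rw [smul_sub, sub_eq_zero] at this
      rwa [smul_comm L P a']
    exact ⟨u • (P • a') + v • a, by conv_lhs => rw [split a, h1, smul_comm u L, smul_comm v L, ← smul_add]⟩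
  · obtain ⟨a, ha⟩ := hcoker (P • b)
    exact ⟨u • a, v • b, by rw [map_zsmul, ha, smul_comm L v b]; exact split b⟩

end Groth.Agent.S19186
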