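import Groth.Statements.S19187
-- import your own Groth.Agent.* helpers here

set_option autoImplicit false
universe u
open Cpct

namespace Groth.Agent.S19187

open CategoryTheory AlgebraicGeometry in
/-- Let k be a field, X̄ and Ȳ schemes proper over Spec k, j : X → X̄ an open immersion with dense image
and v : Y → Ȳ an open immersion (compactifications of X and Y), f : X → Y a proper morphism and f̄ :
X̄ → Ȳ a morphism over Spec k with f̄ ∘ j = v ∘ f. Then the preimage under f̄ of the open v(Y) is
the open j(X); equivalently, the complement of X in X̄ is the preimage of the complement of Y in Ȳ.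
(The base field k is arbitrary: no perfectness assumption is needed.) -/
theorem result {k : Type u} [Field k] {X Y Xb Yb : Scheme.{u}} (a : Xb ⟶ Spec (CommRingCat.of k)) (b : Yb ⟶ Spec (CommRingCat.of k)) [IsProper a] [IsProper b] (j : X ⟶ Xb) [IsOpenImmersion j] (hj : Dense (Set.range j.base)) (v : Y ⟶ Yb) [IsOpenImmersion v] (f : X ⟶ Y) [IsProper f] (fb : Xb ⟶ Yb) (hfb : fb ≫ b = a) (hsq : j ≫ fb = f ≫ v) : fb ⁻¹ᵁ v.opensRange = j.opensRange := by
  haveI : IsProper (fb ≫ b) := hfb ▸ ‹IsProper a›
  haveI : IsProper fb := IsProper.of_comp fb b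
  let j' : X ⟶ Limits.pullback fb v := Limits.pullback.lift j f hsq
  have hfst : j' ≫ Limits.pullback.fst fb v = j := Limits.pullback.lift_fst _ _ _
  have hsnd : j' ≫ Limits.pullback.snd fb v = f := Limits.pullback.lift_snd _ _ _
  haveI : IsProper (j' ≫ Limits.pullback.snd fb v) := hsnd ▸ ‹IsProper f›
  haveI : IsProper j' := IsProper.of_comp j' (Limits.pullback.snd fb v)
  have hclosed : IsClosed (Set.range j'.base) := j'.isClosedMap.isClosed_range
  have hrange : Set.range (Limits.pullback.fst fb v).base = fb.base ⁻¹' Set.range v.base :=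
    Scheme.Pullback.range_fst fb v
  have hj' : Set.range j.base = (Limits.pullback.fst fb v).base '' Set.range j'.base := by
    rw [← Set.range_comp]
    conv_lhs => rw [← hfst]
    rfl
  have hopen : IsOpen ((Limits.pullback.fst fb v).base '' (Set.range j'.base)ᶜ) :=
    (Limits.pullback.fst fb v).isOpenEmbedding.isOpenMap _ hclosed.isOpen_compl
  have hempty : (Limits.pullback.fst fb v).base '' (Set.range j'.base)ᶜ = ∅ := by
    rw [← Set.not_nonempty_iff_eq_empty]
    intro hne
    obtain ⟨x, hx1, hx2⟩ := hj.inter_open_nonempty _ hopen hne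
    rw [hj'] at hx2
    obtain ⟨y, hy, rfl⟩ := hx1
    obtain ⟨z, hz, hzy⟩ := hx2
    exact hy ((Limits.pullback.fst fb v).isOpenEmbedding.injective hzy ▸ hz)
  have hsurj : Set.range j'.base = Set.univ := by
    rwa [Set.image_eq_empty, Set.compl_empty_iff] at hempty
  apply TopologicalSpace.Opens.ext
  change fb.base ⁻¹' Set.range v.base = Set.range j.base
  rw [hj', hsurj, Set.image_univ, hrange]

end Groth.Agent.S19187
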