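import Groth.Statements.S19189
import Mathlib
set_option autoImplicit false
universe v u
open CategoryTheory CategoryTheory.Limits CategoryTheory.Pretriangulated CategoryTheory.Triangulated
open CohDer


namespace Groth.Agent.S19189

set_option backward.isDefEq.respectTransparency false
set_option backward.defeqAttrib.useBackward true

section
variable {R : Type*} [Ring R]

/-- Two idempotents whose difference squares to zero are conjugate. -/
lemma conj_of_sq_zero {p q : R} (hp : p * p = p) (hq : q * q = q) (hN : (p - q) * (p - q) = 0) :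
    ∃ g h : R, g * h = 1 ∧ h * g = 1 ∧ g * p = q * g := by
  have hp' : ∀ x, p * (p * x) = p * x := fun x => by rw [← mul_assoc, hp]
  have hq' : ∀ x, q * (q * x) = q * x := fun x => by rw [← mul_assoc, hq]
  refine ⟨q * p + (1 - q) * (1 - p), p * q + (1 - p) * (1 - q), ?_, ?_, ?_⟩
  · calc (q * p + (1 - q) * (1 - p)) * (p * q + (1 - p) * (1 - q))
        = 1 - (p - q) * (p - q) := by
          simp only [mul_add, add_mul, mul_sub, sub_mul, mul_one, one_mul, mul_assoc, hp, hq, hp', hq']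
          abel
      _ = 1 := by rw [hN, sub_zero]
  · calc (p * q + (1 - p) * (1 - q)) * (q * p + (1 - q) * (1 - p))
        = 1 - (p - q) * (p - q) := by
          simp only [mul_add, add_mul, mul_sub, sub_mul, mul_one, one_mul, mul_assoc, hp, hq, hp', hq']
          abel
      _ = 1 := by rw [hN, sub_zero]
  · simp only [mul_add, add_mul, mul_sub, sub_mul, mul_one, one_mul, mul_assoc, hp, hq, hp', hq']
    abel

end

variable {C : Type u} [Category.{v} C] [Preadditive C]
    [HasZeroObject C] [HasShift C ℤ] [∀ n : ℤ, (shiftFunctor C n).Additive] [Pretriangulated C]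

/-- Idempotents of objects in a shifted heart split. -/
lemma split_base (t : TStructure C) (a : ℤ) (X : C) [t.IsGE X a] [t.IsLE X a] (p : X ⟶ X)
    (hp : p ≫ p = p) : ∃ (Y : C) (i : Y ⟶ X) (e : X ⟶ Y), i ≫ e = 𝟙 Y ∧ e ≫ i = p := by
  obtain ⟨Z, g, δ, hT⟩ := distinguished_cocone_triangle (𝟙 X - p)
  let T := (Triangle.mk (𝟙 X - p) g δ).invRotate
  have hT' : T ∈ distTriang C := inv_rot_of_distTriang _ hT
  obtain ⟨q, hq⟩ := Triangle.coyoneda_exact₂ _ hT' p (by
    change p ≫ (𝟙 X - p) = 0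
    rw [Preadditive.comp_sub, Category.comp_id, hp, sub_self])
  let k : T.obj₁ ⟶ X := T.mor₁
  have hq : p = q ≫ k := hq
  let q' := t.liftTruncLT q a (a + 1) rfl
  let i : (t.truncLT (a + 1)).obj T.obj₁ ⟶ X := (t.truncLTι (a + 1)).app T.obj₁ ≫ k
  have h1 : q' ≫ i = p := by rw [← Category.assoc, t.liftTruncLT_ι, hq]
  have h2 : i ≫ p = i := by
    have h0 : k ≫ (𝟙 X - p) = 0 := comp_distTriang_mor_zero₁₂ _ hT'
    rw [Preadditive.comp_sub, Category.comp_id, sub_eq_zero] at h0
    rw [Category.assoc, ← h0]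
  refine ⟨_, i, q', ?_, h1⟩
  rw [← sub_eq_zero]
  apply t.to_truncLT_obj_ext
  rw [zero_comp]
  have h4 : ((i ≫ q' - 𝟙 _) ≫ (t.truncLTι (a + 1)).app T.obj₁) ≫ k = 0 := by
    rw [Category.assoc, Preadditive.sub_comp, Category.id_comp, Category.assoc]
    change i ≫ q' ≫ i - i = 0
    rw [h1, h2, sub_self]
  obtain ⟨w, hw⟩ := Triangle.coyoneda_exact₂ _ (inv_rot_of_distTriang _ hT') _ h4
  have hw0 : w = 0 := t.zero_of_isLE_of_isGE w a (a + 1) (by lia) (t.isLE_truncLT_obj _ _ _ (by lia))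
    (t.isGE_shift X a (-1) (a + 1) (by lia))
  rw [hw, hw0, zero_comp]

/-- Idempotents of bounded objects split. -/
lemma split_aux [IsTriangulated C] (t : TStructure C) : ∀ (n : ℕ) (a : ℤ) (X : C), t.IsGE X a →
    t.IsLE X (a + n) → ∀ (p : X ⟶ X), p ≫ p = p →
      ∃ (Y : C) (i : Y ⟶ X) (e : X ⟶ Y), i ≫ e = 𝟙 Y ∧ e ≫ i = p := by
  intro n
  induction n with
  | zero =>
    intro a X hG hL p hp
    have : t.IsLE X a := by simpa using hL
    exact split_base t a X p hp
  | succ n ih =>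
    intro a X hG hL p hp
    let L := (t.truncLT (a + 1)).obj X
    let G := (t.truncGE (a + 1)).obj X
    let ι : L ⟶ X := (t.truncLTι (a + 1)).app X
    let π : X ⟶ G := (t.truncGEπ (a + 1)).app X
    let δ : G ⟶ L⟦(1 : ℤ)⟧ := (t.truncGEδLT (a + 1)).app X
    have hT : Triangle.mk ι π δ ∈ distTriang C := t.triangleLTGE_distinguished (a + 1) X
    let pL : L ⟶ L := (t.truncLT (a + 1)).map p
    let pG : G ⟶ G := (t.truncGE (a + 1)).map p
    have hLG : t.IsGE L a := by dsimp [L]; infer_instance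
    have hLL : t.IsLE L a := t.isLE_truncLT_obj _ _ _ (by lia)
    have hGL : t.IsLE G (a + 1 + n) := by
      have : t.IsLE X (a + 1 + n) := by
        convert hL using 1
        push_cast
        ring
      dsimp [G]; infer_instance
    obtain ⟨L1, sL, rL, hsrL, hrsL⟩ := split_base t a L pL (by rw [← Functor.map_comp, hp])
    obtain ⟨G1, sG, rG, hsrG, hrsG⟩ := ih (a + 1) G inferInstance hGL pG
      (by rw [← Functor.map_comp, hp])
    have nι : pL ≫ ι = ι ≫ p := (t.truncLTι (a + 1)).naturality p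
    have nπ : p ≫ π = π ≫ pG := (t.truncGEπ (a + 1)).naturality p
    have nδ : pG ≫ δ = δ ≫ pL⟦(1 : ℤ)⟧' := (t.truncGEδLT (a + 1)).naturality p
    have hsG : sG ≫ pG = sG := by rw [← hrsG, ← Category.assoc, hsrG, Category.id_comp]
    have hrL : pL ≫ rL = rL := by rw [← hrsL, Category.assoc, hsrL, Category.comp_id]
    let h : G1 ⟶ L1⟦(1 : ℤ)⟧ := sG ≫ δ ≫ rL⟦(1 : ℤ)⟧'
    obtain ⟨A, u, w, hA⟩ := distinguished_cocone_triangle₂ h
    obtain ⟨s, hs₁, hs₂⟩ : ∃ s : A ⟶ X, u ≫ s = sL ≫ ι ∧ w ≫ sG = s ≫ π :=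
      complete_distinguished_triangle_morphism₂ _ _ hA hT sL sG (by
      change h ≫ sL⟦(1 : ℤ)⟧' = sG ≫ δ
      simp only [h, Category.assoc]
      rw [← Functor.map_comp, hrsL, ← nδ, ← Category.assoc, hsG])
    obtain ⟨r, hr₁, hr₂⟩ : ∃ r : X ⟶ A, ι ≫ r = rL ≫ u ∧ π ≫ rG = r ≫ w :=
      complete_distinguished_triangle_morphism₂ _ _ hT hA rL rG (by
      change δ ≫ rL⟦(1 : ℤ)⟧' = rG ≫ h
      simp only [h]
      rw [← Category.assoc rG, hrsG, ← Category.assoc, nδ, Category.assoc, ← Functor.map_comp, hrL])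
    have e1 : u ≫ (s ≫ r) = u := by rw [reassoc_of% hs₁, hr₁, reassoc_of% hsrL]
    have e2 : (s ≫ r) ≫ w = w := by
      rw [Category.assoc, ← hr₂, ← reassoc_of% hs₂, hsrG, Category.comp_id]
    have : IsIso (s ≫ r) := isIso₂_of_isIso₁₃
      (Triangle.homMk (Triangle.mk u w h) (Triangle.mk u w h) (𝟙 L1) (s ≫ r) (𝟙 G1)
        (by simpa using e1) (by simpa using e2.symm) (by simp)) hA hA
      (by dsimp; infer_instance) (by dsimp; infer_instance)
    let r' := r ≫ inv (s ≫ r)
    have hsr : s ≫ r' = 𝟙 A := by rw [← Category.assoc, IsIso.hom_inv_id]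
    have e1' : u ≫ inv (s ≫ r) = u := by rw [IsIso.comp_inv_eq, e1]
    have e2' : inv (s ≫ r) ≫ w = w := by rw [IsIso.inv_comp_eq, e2]
    let q := r' ≫ s
    have hq : q ≫ q = q := by simp only [q, Category.assoc, reassoc_of% hsr]
    have qι : ι ≫ q = pL ≫ ι := by
      simp only [q, r', Category.assoc]
      rw [reassoc_of% hr₁, reassoc_of% e1', hs₁, reassoc_of% hrsL]
    have qπ : q ≫ π = π ≫ pG := by
      simp only [q, r', Category.assoc]
      rw [← hs₂, reassoc_of% e2', ← reassoc_of% hr₂, hrsG]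
    have N1 : ι ≫ (p - q) = 0 := by rw [Preadditive.comp_sub, qι, nι, sub_self]
    have N2 : (p - q) ≫ π = 0 := by rw [Preadditive.sub_comp, qπ, nπ, sub_self]
    obtain ⟨b, hb⟩ := Triangle.coyoneda_exact₂ (Triangle.mk ι π δ) hT (show X ⟶ X from p - q) N2
    change p - q = b ≫ ι at hb
    have hN : (p - q) ≫ (p - q) = 0 := by
      nth_rw 1 [hb]
      rw [Category.assoc, N1, comp_zero]
    obtain ⟨g, h', hgh, hhg, hgp⟩ := conj_of_sq_zero (R := End X) (p := p) (q := q) hp hq hN
    change h' ≫ g = 𝟙 X at hgh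
    change g ≫ h' = 𝟙 X at hhg
    change p ≫ g = g ≫ q at hgp
    refine ⟨A, s ≫ h', g ≫ r', ?_, ?_⟩
    · rw [Category.assoc, reassoc_of% hgh, hsr]
    · rw [Category.assoc]
      change g ≫ r' ≫ s ≫ h' = p
      rw [← Category.assoc r', ← Category.assoc g]
      change (g ≫ q) ≫ h' = p
      rw [← hgp, Category.assoc, hhg, Category.comp_id]

/-- Let `C` be a triangulated category (octahedron axiom included) and `t` a t-structure on `C` which is
bounded, i.e. every object of `C` is both `≥ a` and `≤ b` for some integers `a`, `b`. Then `C` is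
idempotent complete (Karoubian): every idempotent endomorphism `p = p ≫ p` of an object splits as `p
= e ≫ i` with `i ≫ e = 𝟙`. -/
theorem result {C : Type u} [Category.{v} C] [Preadditive C]
    [HasZeroObject C] [HasShift C ℤ] [∀ n : ℤ, (shiftFunctor C n).Additive] [Pretriangulated C]
    [IsTriangulated C] (t : TStructure C) (hb : ∀ X : C, t.bounded X) :
    IsIdempotentComplete C := by
  refine ⟨fun X p hp => ?_⟩
  obtain ⟨⟨a, ha⟩, ⟨b, hb'⟩⟩ := hb X
  exact split_aux t (b - a).toNat a X ha (t.isLE_of_le X b _ (by lia)) p hp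

end Groth.Agent.S19189
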