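import Groth.Statements.S1919
import Groth.Agent.InsepLength.Scheme

set_option autoImplicit false
universe u
open CategoryTheory AlgebraicGeometry
open CategoryTheory.Limits
open RelCyc

namespace Groth.Agent.S1919

/-- For a scheme X of finite type over a field k of characteristic p > 0, with base change X' = X ×_k k'
to the perfect closure k', the base change map Z_r(X) → Z_r(X') (flat pullback along the projection)
has p-power torsion cokernel: for every r-cycle β on X' some p^n β is the base change of an r-cycle
on X. Dimension functions are transcendence degrees of residue fields over the ground fields. -/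
theorem result (k : Type u) [Field k] (p : ℕ) [Fact p.Prime] [CharP k p] (X : Scheme.{u}) (f : X ⟶ Spec (CommRingCat.of k)) [LocallyOfFiniteType f] [QuasiCompact f] (δ : X → ℤ) (hδ : Cyc.DeltaCompat f δ (fun _ => 0)) (δ' : ↥(pullback f (Spec.map (CommRingCat.ofHom (PerfectClosure.of k p)))) → ℤ) (hδ' : Cyc.DeltaCompat (pullback.snd f (Spec.map (CommRingCat.ofHom (PerfectClosure.of k p)))) δ' (fun _ => 0)) (r : ℤ) (β : AlgebraicCycle (pullback f (Spec.map (CommRingCat.ofHom (PerfectClosure.of k p)))) ℤ) (hβ : β ∈ Cyc.Zk _ δ' r) : ∃ (n : ℕ) (α : AlgebraicCycle X ℤ), α ∈ Cyc.Zk X δ r ∧ (p : ℤ) ^ n • ⇑β = Cyc.pullFun (pullback.fst f (Spec.map (CommRingCat.ofHom (PerfectClosure.of k p)))) δ' δ 0 ⇑α := by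
  classical
  letI : Algebra k (PerfectClosure k p) := (PerfectClosure.of k p).toAlgebra
  haveI : ExpChar k p := ExpChar.prime Fact.out
  haveI : IsPRadical (algebraMap k (PerfectClosure k p)) p := PerfectClosure.isPRadical k p
  haveI : IsPurelyInseparable k (PerfectClosure k p) := IsPRadical.isPurelyInseparable k (PerfectClosure k p) p
  let g := Spec.map (CommRingCat.ofHom (algebraMap k (PerfectClosure k p)))
  let e := (InsepLength.isHomeomorph_fst (P := PerfectClosure k p) f).homeomorph
  haveI : CompactSpace X := QuasiCompact.compactSpace_of_compactSpace f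
  haveI : CompactSpace ↥(pullback f g) := e.symm.compactSpace
  have hfin : (Function.support ⇑β).Finite := by
    have h := LocallyFiniteSupport.finite_inter_support_of_isCompact
      (Function.locallyFinsupp.locallyFiniteSupport β) isCompact_univ
    rwa [Set.univ_inter] at h
  choose m hm using InsepLength.pullLen_eq_pow (P := PerfectClosure k p) f p (Or.inl Fact.out)
  have hd := InsepLength.delta_eq (P := PerfectClosure k p) f hδ hδ'
  let n := ∑ a ∈ hfin.toFinset, m a
  let h : X → ℤ := fun x => β (e.symm x) * (p : ℤ) ^ (n - m (e.symm x))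
  let α : AlgebraicCycle X ℤ :=
    ⟨h, Set.subset_univ _, fun z _ => ⟨Set.univ, Filter.univ_mem, (hfin.image e).subset fun x hx =>
      ⟨e.symm x, left_ne_zero_of_mul hx.2, e.apply_symm_apply x⟩⟩⟩
  refine ⟨n, α, fun x hx => ?_, funext fun a => ?_⟩
  · show h x = 0
    have hb : β (e.symm x) = 0 := hβ _ fun hb => hx (by
      rw [← hb, hd]
      exact congrArg δ (e.apply_symm_apply x).symm)
    show β (e.symm x) * _ = 0
    rw [hb, zero_mul]
  · have hl := hm a
    show (p : ℤ) ^ n • β a = Cyc.pullFun (pullback.fst f g) δ' δ 0 h a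
    unfold Cyc.pullFun
    rw [if_pos (by rw [hd a, add_zero])]
    show (p : ℤ) ^ n • β a = β (e.symm (e a)) * (p : ℤ) ^ (n - m (e.symm (e a))) *
      ((DimFunLift.pullLen (pullback.fst f g) a : ℕ) : ℤ)
    rw [e.symm_apply_apply, hl, Nat.cast_pow, mul_assoc, ← pow_add, smul_eq_mul, mul_comm]
    by_cases hb : β a = 0
    · rw [hb, zero_mul, zero_mul]
    · rw [Nat.sub_add_cancel (Finset.single_le_sum (fun i _ => Nat.zero_le (m i)) (hfin.mem_toFinset.2 hb))]

end Groth.Agent.S1919
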