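import Groth.Statements.S19190
import Mathlib
set_option autoImplicit false
universe w v u v' u'
open CategoryTheory CategoryTheory.Limits CategoryTheory.Pretriangulated CategoryTheory.Triangulated
open CohDer


namespace Groth.Agent.S19190

set_option backward.isDefEq.respectTransparency false
set_option backward.defeqAttrib.useBackward true
open scoped ZeroObject

variable {A : Type w} [CommRing A] {T : Type u} [Category.{v} T] [Preadditive T] [Linear A T] [HasZeroObject T]
    [HasShift T ℤ] [∀ n : ℤ, (shiftFunctor T n).Additive] [∀ n : ℤ, (shiftFunctor T n).Linear A]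
    [Pretriangulated T] (S : Submonoid A)

/-- Objects killed by an element of `S`. -/
def killed : ObjectProperty T := fun Z => ∃ f ∈ S, f • 𝟙 Z = 0

lemma smul_eq_zero_of_left {X Y : T} (f : A) (g : X ⟶ Y) (h : f • 𝟙 X = 0) : f • g = 0 := by
  rw [← Category.id_comp g, ← Linear.smul_comp, h, zero_comp]

lemma smul_eq_zero_of_right {X Y : T} (f : A) (g : X ⟶ Y) (h : f • 𝟙 Y = 0) : f • g = 0 := by
  rw [← Category.comp_id g, ← Linear.comp_smul, h, comp_zero]

instance : (killed (A := A) (T := T) S).IsClosedUnderIsomorphisms where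
  of_iso := by
    rintro X Y e ⟨f, hf, h⟩
    refine ⟨f, hf, ?_⟩
    rw [← e.inv_hom_id, ← Linear.comp_smul, smul_eq_zero_of_left f e.hom h, comp_zero]

instance : (killed (A := A) (T := T) S).IsStableUnderRetracts where
  of_retract := by
    rintro X Y r ⟨f, hf, h⟩
    refine ⟨f, hf, ?_⟩
    rw [← r.retract, ← Linear.comp_smul, smul_eq_zero_of_left f r.r h, comp_zero]

instance : (killed (A := A) (T := T) S).IsTriangulated where
  exists_zero := ⟨0, isZero_zero T, 1, S.one_mem, (isZero_zero T).eq_of_src _ _⟩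
  isStableUnderShiftBy n :=
    { le_shift := by
        rintro X ⟨f, hf, h⟩
        refine ⟨f, hf, ?_⟩
        rw [← CategoryTheory.Functor.map_id, ← Functor.map_smul, h, Functor.map_zero] }
  ext₂' D hD := by
    rintro ⟨f, hf, h⟩ ⟨g, hg, h'⟩
    refine ObjectProperty.le_isoClosure _ _ ⟨f * g, S.mul_mem hf hg, ?_⟩
    obtain ⟨k, hk⟩ := Triangle.coyoneda_exact₂ D hD (g • 𝟙 D.obj₂) (by
      rw [Linear.smul_comp, Category.id_comp, smul_eq_zero_of_right g D.mor₂ h'])
    rw [mul_smul, hk, ← Linear.comp_smul, smul_eq_zero_of_left f D.mor₁ h, comp_zero]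

/-- The cone of `f • 𝟙 X` is killed by `f * f`. -/
lemma killed_cone {X Z : T} {f : A} (hf : f ∈ S) (g : X ⟶ Z) (h : Z ⟶ X⟦(1 : ℤ)⟧)
    (hD : Triangle.mk (f • 𝟙 X) g h ∈ distTriang T) : killed S Z := by
  refine ⟨f * f, S.mul_mem hf hf, ?_⟩
  have h1 : f • g = 0 := by
    have e : (f • 𝟙 X) ≫ g = 0 := comp_distTriang_mor_zero₁₂ _ hD
    rwa [Linear.smul_comp, Category.id_comp] at e
  have h2 : f • h = 0 := by
    have e : h ≫ (f • 𝟙 X)⟦(1 : ℤ)⟧' = 0 := comp_distTriang_mor_zero₃₁ _ hD
    rwa [Functor.map_smul, CategoryTheory.Functor.map_id, Linear.comp_smul, Category.comp_id] at e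
  obtain ⟨k, hk⟩ := Triangle.yoneda_exact₃ _ hD (show Z ⟶ Z from f • 𝟙 Z) (by
    change g ≫ (f • 𝟙 Z) = 0
    rw [Linear.comp_smul, Category.comp_id, h1])
  change f • 𝟙 Z = h ≫ k at hk
  rw [mul_smul, hk, ← Linear.smul_comp, h2, zero_comp]

/-- If the cone of `s` is killed, then a scalar in `S` factors through `s`. -/
lemma exists_factor {U : ObjectProperty T} (hle : U ≤ killed (A := A) S) {X' X : T} (s : X' ⟶ X)
    (hs : U.trW s) : ∃ f ∈ S, ∃ t : X ⟶ X', t ≫ s = f • 𝟙 X := by
  obtain ⟨Z, g, h, hD, hZ⟩ := (U.trW_iff s).1 hs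
  obtain ⟨f, hf, hfZ⟩ := hle Z hZ
  obtain ⟨t, ht⟩ := Triangle.coyoneda_exact₂ _ hD (show X ⟶ X from f • 𝟙 X) (by
    change (f • 𝟙 X) ≫ g = 0
    rw [Linear.smul_comp, Category.id_comp, smul_eq_zero_of_right f g hfZ])
  exact ⟨f, hf, t, ht.symm⟩

/-- Let `A` be a commutative ring, `S` a multiplicative subset of `A` and `T` an `A`-linear triangulated
category (octahedron axiom included; the shift functors are `A`-linear). Call an object of `T`
`S`-torsion when it lies in the smallest thick subcategory `U` of `T` (a property of objects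
containing zero, stable under shifts, extensions, isomorphisms and direct factors) containing every
cone of an endomorphism `f • 𝟙 X` with `f ∈ S`. Let `Q : T ⥤ E` exhibit `E` as the localization of
`T` at the morphisms whose cone lies in `U` (the Verdier quotient `T/U`), where `E` is preadditive
and `A`-linear and `Q` is `A`-linear. Then for all objects `X`, `Y` of `T` the `A`-linear map
`Hom_T(X, Y) → Hom_E(Q X, Q Y)` given by `Q` exhibits its target as the localization of `Hom_T(X,
Y)` at `S`. Since `Q` is essentially surjective, this says that the comparison functor from `T/U` to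
the category having the objects of `T` and morphism modules `Hom_T(X, Y) ⊗_A S⁻¹A` is an
equivalence. -/
theorem result
    {A : Type w} [CommRing A] (S : Submonoid A)
    {T : Type u} [Category.{v} T] [Preadditive T] [Linear A T] [HasZeroObject T] [HasShift T ℤ]
    [∀ n : ℤ, (shiftFunctor T n).Additive] [∀ n : ℤ, (shiftFunctor T n).Linear A]
    [Pretriangulated T] [IsTriangulated T]
    (U : ObjectProperty T) [U.IsTriangulated] [U.IsClosedUnderIsomorphisms] [U.IsStableUnderRetracts]
    (hU : ∀ (X : T) (f : A), f ∈ S → ∀ (Z : T) (g : X ⟶ Z) (h : Z ⟶ X⟦(1 : ℤ)⟧),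
      Triangle.mk (f • 𝟙 X) g h ∈ distTriang T → U Z)
    (hmin : ∀ (U' : ObjectProperty T) [U'.IsTriangulated] [U'.IsClosedUnderIsomorphisms]
      [U'.IsStableUnderRetracts],
      (∀ (X : T) (f : A), f ∈ S → ∀ (Z : T) (g : X ⟶ Z) (h : Z ⟶ X⟦(1 : ℤ)⟧),
        Triangle.mk (f • 𝟙 X) g h ∈ distTriang T → U' Z) → U ≤ U')
    {E : Type u'} [Category.{v'} E] [Preadditive E] [Linear A E]
    (Q : T ⥤ E) [Q.Additive] [Q.Linear A] [Q.IsLocalization U.trW] (X Y : T) :
    IsLocalizedModule S (Q.mapLinearMap A : (X ⟶ Y) →ₗ[A] (Q.obj X ⟶ Q.obj Y)) := by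
  have hle : U ≤ killed (A := A) S := hmin _ fun _ _ hf _ _ _ hD => killed_cone S hf _ _ hD
  have hiso : ∀ (W : T) (f : A), f ∈ S → IsIso (f • 𝟙 (Q.obj W)) := fun W f hf => by
    obtain ⟨Z, g, h, hD⟩ := distinguished_cocone_triangle (f • 𝟙 W)
    have := Localization.inverts Q U.trW (f • 𝟙 W) ((U.trW_iff _).2 ⟨Z, g, h, hD, hU W f hf Z g h hD⟩)
    rwa [Q.map_smul, Q.map_id] at this
  refine ⟨fun f => ?_, fun φ => ?_, ?_⟩
  · rw [Module.End.isUnit_iff]
    haveI := hiso X f.1 f.2
    refine ⟨fun g g' hgg' => ?_, fun g => ⟨inv ((f : A) • 𝟙 (Q.obj X)) ≫ g, ?_⟩⟩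
    · change (f : A) • g = (f : A) • g' at hgg'
      rw [← Category.id_comp g, ← Category.id_comp g', ← Linear.smul_comp, ← Linear.smul_comp,
        cancel_epi] at hgg'
      exact hgg'
    · change (f : A) • (inv ((f : A) • 𝟙 (Q.obj X)) ≫ g) = g
      have e : (f : A) • inv ((f : A) • 𝟙 (Q.obj X)) = 𝟙 _ := by
        rw [← Category.id_comp (inv ((f : A) • 𝟙 (Q.obj X))), ← Linear.smul_comp, IsIso.hom_inv_id]
      rw [← Linear.smul_comp, e, Category.id_comp]
  · obtain ⟨r, hr⟩ := Localization.exists_rightFraction Q U.trW φ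
    obtain ⟨f, hf, t, ht⟩ := exists_factor S hle r.s r.hs
    refine ⟨⟨t ≫ r.f, ⟨f, hf⟩⟩, ?_⟩
    change f • φ = Q.map (t ≫ r.f)
    have e : Q.map r.s ≫ φ = Q.map r.f := by rw [hr, r.map_s_comp_map]
    rw [Q.map_comp, ← e, ← Category.assoc, ← Q.map_comp, ht, Q.map_smul, Q.map_id, Linear.smul_comp,
      Category.id_comp]
  · intro g g' hgg'
    obtain ⟨Z, s, hs, e⟩ := (MorphismProperty.map_eq_iff_precomp Q U.trW g g').1 hgg'
    obtain ⟨f, hf, t, ht⟩ := exists_factor S hle s hs
    refine ⟨⟨f, hf⟩, ?_⟩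
    change f • g = f • g'
    rw [← Category.id_comp g, ← Category.id_comp g', ← Linear.smul_comp, ← Linear.smul_comp, ← ht,
      Category.assoc, e, Category.assoc]

end Groth.Agent.S19190
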