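import Groth.Statements.S19194
import Mathlib
-- import your own Groth.Agent.* helpers here

set_option autoImplicit false
universe u
open CategoryTheory Opposite TopologicalSpace
open CohTop

namespace Groth.Agent.S19194

open W4c6blochformula0cyc in
/-- Let `X` be a topological space, `U` a family of opens of `X` indexed by a finite type, `A y` an
abelian group for every point `y` of `X`, and `F` the presheaf `V ↦ ∏_{y ∈ V} A y` with the
projections as restriction maps. Let `S α ⊆ U_α` be subsets such that every point of `X` lies in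
exactly one `S α`. For an open `V` and an index `β` let `E V β : F(V ∩ U_β) → F(V)` keep the
components at the points of `S β` and put `0` at all other points. Then: (i) `∑_α E V α (f|_{V ∩
U_α}) = f` for every open `V` and every `f ∈ F(V)`; and (ii) `(E V α g)|_{V ∩ U_β} = E (V ∩ U_β) α
(g|_{V ∩ U_β ∩ U_α})` for every open `V`, all indices `α, β` and every `g ∈ F(V ∩ U_α)`. (These are
exactly the hypotheses (i) and (ii) of the algebraic partition-of-unity statement, here for every
open `V` rather than only for finite intersections of members of the family. The published statement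
takes the presheaf of direct sums `⊕_{y ∈ V} A y`; the product presheaf used here contains it, these
maps and the restrictions preserve it, and both identities restrict to it.) -/
theorem result {X : Type u} [TopologicalSpace X]
    {ι : Type u} [Fintype ι] (A : X → AddCommGrpCat.{u}) (U : ι → Opens X) (S : ι → Set X)
    (hSU : ∀ α, S α ⊆ (U α : Set X)) (hS : ∀ x : X, ∃! α, x ∈ S α) :
    (∀ (V : Opens X) (f : (prodPresheaf A).obj (op V)),
        ∑ α, switchExt A U S V α (res (prodPresheaf A) inf_le_left f) = f) ∧
      ∀ (V : Opens X) (α β : ι) (g : (prodPresheaf A).obj (op (V ⊓ U α))),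
        res (prodPresheaf A) inf_le_left (switchExt A U S V α g) =
          switchExt A U S (V ⊓ U β) α (res (prodPresheaf A) (inf_le_inf_right (U α) inf_le_left) g) := by
  classical
  have hval : ∀ (V : Opens X) (β : ι) (g : (prodPresheaf A).obj (op (V ⊓ U β))) (y : X) (hy : y ∈ V),
      (∀ (hb : y ∈ U β), y ∈ S β → (switchExt A U S V β g) ⟨y, hy⟩ = g ⟨y, hy, hb⟩) ∧
      (¬(y ∈ U β ∧ y ∈ S β) → (switchExt A U S V β g) ⟨y, hy⟩ = 0) := by
    intro V β g y hy
    constructor
    · intro hb hs
      show DFunLike.coe (dite (y ∈ U β ∧ y ∈ S β) _ _ : (prodPresheaf A).obj (op (V ⊓ U β)) →+ A y) g = _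
      rw [dif_pos ⟨hb, hs⟩]
      rfl
    · intro h
      show DFunLike.coe (dite (y ∈ U β ∧ y ∈ S β) _ _ : (prodPresheaf A).obj (op (V ⊓ U β)) →+ A y) g = _
      rw [dif_neg h]
      rfl
  refine ⟨fun V f => ?_, fun V α β g => ?_⟩
  · funext y
    obtain ⟨α₀, hα₀, huniq⟩ := hS y.1
    show (∑ α, switchExt A U S V α (res (prodPresheaf A) inf_le_left f) : ∀ z : V, A z.1) y = f y
    rw [Finset.sum_apply, Finset.sum_eq_single α₀]
    · exact ((hval V α₀ _ y.1 y.2).1 (hSU α₀ hα₀) hα₀).trans rfl
    · intro α _ hne
      exact (hval V α _ y.1 y.2).2 fun h => hne (huniq α h.2)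
    · intro h; exact absurd (Finset.mem_univ α₀) h
  · funext y
    show (switchExt A U S V α g) ⟨y.1, y.2.1⟩ =
      (switchExt A U S (V ⊓ U β) α (res (prodPresheaf A) (inf_le_inf_right (U α) inf_le_left) g)) ⟨y.1, y.2⟩
    by_cases h : y.1 ∈ U α ∧ y.1 ∈ S α
    · rw [(hval V α g y.1 y.2.1).1 h.1 h.2, (hval (V ⊓ U β) α _ y.1 y.2).1 h.1 h.2]
      rfl
    · rw [(hval V α g y.1 y.2.1).2 h, (hval (V ⊓ U β) α _ y.1 y.2).2 h]

end Groth.Agent.S19194
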