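import Groth.Statements.S19196
import Mathlib.RingTheory.Ideal.MinimalPrime.Noetherian

set_option autoImplicit false
universe u
open RelS1

namespace Groth.Agent.S19196

/-- Let R be a Noetherian commutative ring and N a finitely generated R-module which fails Serre's
condition (S_1), in the sense that some associated prime of N is not a minimal prime of the
annihilator of N. Then there exist an element a of R lying in no minimal prime of the annihilator of
N and a nonzero element b of N with a • b = 0; thus the basic open set D(a) meets the support of N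
densely while restriction to it is not injective on N. -/
theorem result (R N : Type u) [CommRing R] [IsNoetherianRing R]
    [AddCommGroup N] [Module R N] [Module.Finite R N]
    (h : ¬ associatedPrimes R N ⊆ (Module.annihilator R N).minimalPrimes) :
    ∃ (a : R) (b : N), (∀ P ∈ (Module.annihilator R N).minimalPrimes, a ∉ P) ∧ b ≠ 0 ∧ a • b = 0 := by
  obtain ⟨P, hP, hPm⟩ := Set.not_subset.mp h
  have hfin : (Module.annihilator R N).minimalPrimes.Finite := Ideal.finite_minimalPrimes_of_isNoetherianRing R _
  have hPa : P.IsPrime := hP.isPrime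
  have hannP : Module.annihilator R N ≤ P := by simpa [Submodule.annihilator_top] using hP.annihilator_le
  have hnot : ¬ (P : Set R) ⊆ ⋃ Q ∈ hfin.toFinset, (Q : Set R) := by
    intro hsub
    obtain ⟨Q, hQ, hle⟩ := (Ideal.subset_union_prime (s := hfin.toFinset) (f := id) P P
      (fun i hi _ _ => ((hfin.mem_toFinset.mp hi).1.1))).mp hsub
    obtain ⟨hQ, hmin⟩ := hfin.mem_toFinset.mp hQ
    exact hPm (le_antisymm hle (hmin ⟨hPa, hannP⟩ hle) ▸ ⟨hQ, hmin⟩)
  obtain ⟨a, haP, ha⟩ := Set.not_subset.mp hnot
  obtain ⟨-, b, hb⟩ := (isAssociatedPrime_iff_exists_injective_linearMap P N).mp hP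
  refine ⟨a, b (Ideal.Quotient.mk P 1), fun Q hQ haQ => ha (by simpa using ⟨Q, hQ, haQ⟩), ?_, ?_⟩
  · rw [ne_eq, map_eq_zero_iff b hb, Ideal.Quotient.eq_zero_iff_mem]
    exact hPa.one_notMem
  · rw [← map_smul, ← Ideal.Quotient.mk_eq_mk, ← Submodule.Quotient.mk_smul]
    simp [(Ideal.Quotient.eq_zero_iff_mem).mpr haP]

end Groth.Agent.S19196
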