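import Groth.Statements.S19197
import Mathlib
import Groth.Agent.FlatFibrePD.Local

set_option autoImplicit false
universe u
open TensorProduct CategoryTheory
open RelS1

namespace Groth.Agent.S19197

/-- In affine form, let A be a commutative ring, B a finitely presented A-algebra which is flat over A,
and M a finitely presented B-module which is flat over A. For a prime P of B lying over the prime p
of A, let B_P/pB_P be the local ring of the fibre at P and M_P/pM_P = (B_P/pB_P) ⊗_B M the fibre
stalk module. Then the function sending P to the projective dimension of M_P/pM_P over B_P/pB_P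
(valued in WithBot ℕ∞, the zero module having dimension ⊥) is upper semicontinuous on Spec B: for
every bound, the set of P where the fibre projective dimension is below the bound is open. -/
theorem result (A B M : Type u) [CommRing A] [CommRing B] [Algebra A B]
    [Algebra.FinitePresentation A B] [Module.Flat A B] [AddCommGroup M] [Module B M] [Module A M]
    [IsScalarTower A B M] [Module.FinitePresentation B M] [Module.Flat A M] :
    UpperSemicontinuous fun P : PrimeSpectrum B => projectiveDimension (ModuleCat.of
      (Localization.AtPrime P.asIdeal ⧸ (P.asIdeal.under A).map (algebraMap A (Localization.AtPrime P.asIdeal)))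
      ((Localization.AtPrime P.asIdeal ⧸ (P.asIdeal.under A).map (algebraMap A (Localization.AtPrime P.asIdeal))) ⊗[B] M)) := by
  rw [upperSemicontinuous_iff_isOpen_preimage]
  intro b
  have hN : ∀ n : ℕ, IsOpen {P : PrimeSpectrum B | projectiveDimension (ModuleCat.of
      (Groth.Agent.FlatFibrePD.FibLoc A P.asIdeal)
      (Groth.Agent.FlatFibrePD.FibLoc A P.asIdeal ⊗[B] M)) < n} := by
    intro n
    simp only [projectiveDimension_lt_iff]
    cases n with
    | succ n => exact Groth.Agent.FlatFibrePD.isOpen_setOf_hasPDLT A n M
    | zero =>
      simp only [hasProjectiveDimensionLT_zero_iff_isZero, ModuleCat.isZero_iff_subsingleton,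
        Groth.Agent.FlatFibrePD.subsingleton_fibLoc_iff]
      convert (Module.isClosed_support (R := B) (M := M)).isOpen_compl using 1
      ext P
      rw [Set.mem_ofPred_eq, Set.mem_compl_iff, Module.mem_support_iff, not_nontrivial_iff_subsingleton]
  induction b with
  | bot =>
    convert isOpen_empty using 1
    ext P
    simp
  | coe b =>
    induction b with
    | coe n => exact hN n
    | top =>
      convert isOpen_iUnion hN using 1
      ext P
      simp only [Set.mem_preimage, Set.mem_Iio, Set.mem_iUnion, Set.mem_ofPred_eq, WithBot.coe_top]
      constructor
      · intro h
        obtain ⟨n, hn⟩ := (projectiveDimension_ne_top_iff _).1 h.ne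
        exact ⟨n + 1, projectiveDimension_lt_iff.2 hn⟩
      · rintro ⟨n, hn⟩
        exact hn.trans_le le_top

end Groth.Agent.S19197
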