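import Groth.Statements.S19206
import Groth.Agent.MultLib.Lech
-- import your own Groth.Agent.* helpers here

set_option autoImplicit false
universe u
open Filter
open LocAlg

namespace Groth.Agent.S19206

/-- Let O be a Noetherian local ring of Krull dimension r which contains a field, with maximal ideal m,
and let I be an m-primary ideal (I ⊆ m and m^N ⊆ I for some N). Write e(I) for the Samuel
multiplicity of I, the limit of r!·length(O/I^n)/n^r, and e(O) for that of m. Then e(I) ≤
r!·e(O)·length(O/I); consequently the supremum of e(I)/(r!·length(O/I)) over such I is at most e(O).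
(Stated for real numbers e(I), e(O) equal to those limits; the hypothesis that O contains a field is
the standing equicharacteristic convention of the section and is not needed for the inequality.) -/
theorem result (O : Type u) [CommRing O] [IsNoetherianRing O] [IsLocalRing O]
    (K : Type u) [Field K] [Algebra K O] (r : ℕ) (hr : ringKrullDim O = r)
    (I : Ideal O) (hI : I ≤ IsLocalRing.maximalIdeal O) (hIN : ∃ N : ℕ, IsLocalRing.maximalIdeal O ^ N ≤ I)
    (eI eO : ℝ)
    (heI : Tendsto (fun n : ℕ => (r.factorial : ℝ) * ((Module.length O (O ⧸ I ^ n)).toNat : ℝ) / (n : ℝ) ^ r)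
      atTop (nhds eI))
    (heO : Tendsto (fun n : ℕ => (r.factorial : ℝ) *
        ((Module.length O (O ⧸ IsLocalRing.maximalIdeal O ^ n)).toNat : ℝ) / (n : ℝ) ^ r) atTop (nhds eO)) :
    eI ≤ (r.factorial : ℝ) * eO * ((Module.length O (O ⧸ I)).toNat : ℝ) := by
  obtain ⟨B, _, _, _, _, hinf, hmap, hlen⟩ := MultLib.exists_infinite_residue O
  haveI := hinf
  obtain ⟨N, hN⟩ := hIN
  have hfin : ∀ (J : Ideal O), (∃ M : ℕ, IsLocalRing.maximalIdeal O ^ M ≤ J) → IsFiniteLength O (O ⧸ J) := fun J hJ =>
    Module.length_ne_top_iff.mp (MultLib.length_ne_top hJ)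
  have hell : ∀ (J : Ideal O), (∃ M : ℕ, IsLocalRing.maximalIdeal O ^ M ≤ J) →
      MultLib.ell (J.map (algebraMap O B)) = MultLib.ell J := fun J hJ => by
    unfold MultLib.ell; rw [hlen J (hfin J hJ)]
  have hIn : ∀ n, IsLocalRing.maximalIdeal O ^ (N * n) ≤ I ^ n := fun n => by
    rw [pow_mul]; exact pow_le_pow_left' hN n
  have hf : ((r.factorial : ℝ)) ≠ 0 := Nat.cast_ne_zero.mpr r.factorial_ne_zero
  have hL : Tendsto (fun n : ℕ => MultLib.ell (IsLocalRing.maximalIdeal B ^ n) / (n : ℝ) ^ r) atTop (nhds (eO / r.factorial)) := by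
    refine (heO.div_const _).congr fun n => ?_
    rw [← hmap, ← Ideal.map_pow, hell _ ⟨n, le_rfl⟩]
    show (r.factorial : ℝ) * _ / _ / _ = _
    rw [mul_div_assoc, mul_div_cancel_left₀ _ hf]
    rfl
  have hb := MultLib.lechBound r B (eO / r.factorial) hL (I.map (algebraMap O B))
    ⟨N, by rw [← hmap, ← Ideal.map_pow]; exact Ideal.map_mono hN⟩
  have heI' : Tendsto (fun n : ℕ => MultLib.ell (I ^ n) / (n : ℝ) ^ r) atTop (nhds (eI / r.factorial)) := by
    refine (heI.div_const _).congr fun n => ?_
    show (r.factorial : ℝ) * _ / _ / _ = _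
    rw [mul_div_assoc, mul_div_cancel_left₀ _ hf]
    rfl
  have key : eI / r.factorial ≤ eO * MultLib.ell I := by
    refine le_of_forall_pos_le_add fun ε hε => le_of_tendsto heI' ?_
    filter_upwards [hb ε hε] with n hn
    rw [← Ideal.map_pow, hell _ ⟨_, hIn n⟩, hell _ ⟨N, hN⟩, mul_div_cancel₀ _ hf] at hn
    exact hn
  rw [div_le_iff₀ (Nat.cast_pos.mpr r.factorial_pos)] at key
  calc eI ≤ eO * MultLib.ell I * (r.factorial : ℝ) := key
    _ = _ := by unfold MultLib.ell; ring

end Groth.Agent.S19206
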