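import Groth.Statements.S19209
import Mathlib

set_option autoImplicit false
universe u
open Curves

namespace Groth.Agent.S19209

/-- Let n ≥ 1 and let p_0 ≥ p_1 ≥ … ≥ p_n = 0 be real numbers. Then some chain 0 = s_0 < s_1 < … < s_l =
n satisfies Σ_{k<l} (p_{s_k} − p_{s_{k+1}})·(s_k + s_{k+1}) ≤ (2n/(n+1))·(p_0 + p_1 + … + p_n).
Equivalently the minimum of these sums over all chains, which is twice the area under the Newton
polygon (lower convex hull) of the points (k, p_k), is at most 2n/(n+1) times the sum of the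
weights. -/
theorem result (n : ℕ) (hn : 1 ≤ n) (p : ℕ → ℝ)
    (hp : ∀ i j : ℕ, i ≤ j → j ≤ n → p j ≤ p i) (hpn : p n = 0) :
    ∃ (l : ℕ) (s : ℕ → ℕ), s 0 = 0 ∧ s l = n ∧ (∀ k : ℕ, k < l → s k < s (k + 1)) ∧
      (∑ k ∈ Finset.range l, (p (s k) - p (s (k + 1))) * ((s k : ℝ) + (s (k + 1) : ℝ))) ≤
        2 * (n : ℝ) / ((n : ℝ) + 1) * ∑ i ∈ Finset.range (n + 1), p i := by
  have key : ∀ m : ℕ, (∑ k ∈ Finset.range m, (p k - p (k + 1)) * ((k : ℝ) + ((k + 1 : ℕ) : ℝ))) =
      2 * ∑ i ∈ Finset.range (m + 1), p i - p 0 - (2 * (m : ℝ) + 1) * p m := by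
    intro m
    induction m with
    | zero => simp; ring
    | succ m ih =>
      rw [Finset.sum_range_succ, ih, Finset.sum_range_succ (fun i => p i) (m + 1)]
      push_cast
      ring
  have hkey := key n
  rw [hpn] at hkey
  set S := ∑ i ∈ Finset.range (n + 1), p i with hS
  set c := 2 * (n : ℝ) / ((n : ℝ) + 1) * S with hc
  by_cases h : (n : ℝ) * p 0 ≤ c
  · refine ⟨1, fun k => k * n, by simp, by simp, ?_, ?_⟩
    · intro k hk
      obtain rfl : k = 0 := by omega
      simp only [zero_mul, zero_add, one_mul]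
      omega
    · simp [hpn]
      linarith
  · refine ⟨n, fun k => k, rfl, rfl, fun k _ => Nat.lt_succ_self k, ?_⟩
    have e : (∑ k ∈ Finset.range n, (p k - p (k + 1)) * ((k : ℝ) + ((k + 1 : ℕ) : ℝ))) = 2 * S - p 0 := by
      rw [hkey]; ring
    show (∑ k ∈ Finset.range n, (p k - p (k + 1)) * ((k : ℝ) + ((k + 1 : ℕ) : ℝ))) ≤ c
    rw [e]
    have hn0 : (0 : ℝ) < (n : ℝ) + 1 := by positivity
    have hc' : c * ((n : ℝ) + 1) = 2 * (n : ℝ) * S := by
      rw [hc]; field_simp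
    nlinarith [not_le.mp h, hc', hn0]

end Groth.Agent.S19209
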