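import Groth.Statements.S19212
import Groth.Agent.DiagIdealLib.Basic

set_option autoImplicit false
universe u v
open TensorProduct
open DiagIdeal

namespace Groth.Agent.S19212

/-- Let k be an algebraically closed field of characteristic zero and A a smooth k-algebra which is a
domain. Let the symmetric group on three letters permute the factors of A ⊗ A ⊗ A (it is generated
by the swap of the first two factors and the swap of the last two), let r : A ⊗ (A ⊗ A) → A ⊗ A be
the k-linear map a ⊗ b ⊗ c ↦ ab ⊗ c, and let D : A ⊗ A → Ω_{A/k} be the k-linear map a ⊗ b ↦ 2a·db −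
b·da. Then an element y of A ⊗ A satisfies D y = 0 if and only if y = r x for some x fixed by both
swaps, and D is surjective. (This is exactness at the last two places of the four-term right
resolution of the invariants of the ideal of the big diagonal on the symmetric cube of X = Spec A,
namely invariant functions on X³, then functions on X × X through restriction to a diagonal, then
one-forms on X; exactness at the first two places is immediate. The published statement is the sheaf
version on the symmetric cube of a smooth complex variety of any dimension; an algebraically closed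
field of characteristic zero is used here.) -/
theorem result (k : Type u) [Field k] [IsAlgClosed k] [CharZero k]
    (A : Type v) [CommRing A] [Algebra k A] [Algebra.Smooth k A] [IsDomain A]
    (r : A ⊗[k] (A ⊗[k] A) →ₗ[k] A ⊗[k] A)
    (hr : ∀ a b c : A, r (a ⊗ₜ[k] (b ⊗ₜ[k] c)) = (a * b) ⊗ₜ[k] c)
    (D : A ⊗[k] A →ₗ[k] Ω[A⁄k])
    (hD : ∀ a b : A, D (a ⊗ₜ[k] b) = (2 : A) • (a • KaehlerDifferential.D k A b) - b • KaehlerDifferential.D k A a) :
    (∀ y : A ⊗[k] A, D y = 0 ↔ ∃ x : A ⊗[k] (A ⊗[k] A),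
        TensorProduct.leftComm k A A A x = x ∧
        LinearMap.lTensor A (TensorProduct.comm k A A).toLinearMap x = x ∧ r x = y) ∧
    Function.Surjective D := by
  classical
  let σ₁ : A ⊗[k] (A ⊗[k] A) →ₗ[k] A ⊗[k] (A ⊗[k] A) :=
    (TensorProduct.leftComm k A A A).toLinearMap
  let σ₂ : A ⊗[k] (A ⊗[k] A) →ₗ[k] A ⊗[k] (A ⊗[k] A) :=
    LinearMap.lTensor A (TensorProduct.comm k A A).toLinearMap
  let W : Submodule k (A ⊗[k] A) := Submodule.map r
    (LinearMap.eqLocus σ₁ LinearMap.id ⊓ LinearMap.eqLocus σ₂ LinearMap.id)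
  have hmem : ∀ y, y ∈ W ↔ ∃ x : A ⊗[k] (A ⊗[k] A),
      TensorProduct.leftComm k A A A x = x ∧
      LinearMap.lTensor A (TensorProduct.comm k A A).toLinearMap x = x ∧ r x = y := by
    intro y
    constructor
    · rintro ⟨x, ⟨h1, h2⟩, rfl⟩; exact ⟨x, h1, h2, rfl⟩
    · rintro ⟨x, h1, h2, rfl⟩; exact ⟨x, ⟨h1, h2⟩, rfl⟩
  have h2k : (2 : k) ≠ 0 := two_ne_zero
  have hg : ∀ a b c : A, (a * b) ⊗ₜ[k] c + (b * c) ⊗ₜ[k] a + (c * a) ⊗ₜ[k] b ∈ W := by
    intro a b c
    refine (hmem _).mpr ⟨(2 : k)⁻¹ • (a ⊗ₜ[k] (b ⊗ₜ[k] c) + a ⊗ₜ[k] (c ⊗ₜ[k] b) +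
      b ⊗ₜ[k] (a ⊗ₜ[k] c) + b ⊗ₜ[k] (c ⊗ₜ[k] a) + c ⊗ₜ[k] (a ⊗ₜ[k] b) + c ⊗ₜ[k] (b ⊗ₜ[k] a)),
      ?_, ?_, ?_⟩
    · simp only [map_smul, map_add, TensorProduct.leftComm_tmul]; module
    · simp only [map_smul, map_add, LinearMap.lTensor_tmul, LinearEquiv.coe_coe,
        TensorProduct.comm_tmul]
      module
    · simp only [map_smul, map_add, hr, mul_comm b a, mul_comm c a, mul_comm c b]
      match_scalars <;> field_simp <;> norm_num
  have hker : ∀ y ∈ W, D y = 0 := by
    intro y hy
    obtain ⟨x, h1, h2, rfl⟩ := (hmem y).mp hy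
    have h1' : σ₁ x = x := h1
    have h2' : σ₂ x = x := h2
    have hE : (D ∘ₗ r) ∘ₗ (LinearMap.id + σ₁ + σ₂ + σ₁ ∘ₗ σ₂ + σ₂ ∘ₗ σ₁ + σ₁ ∘ₗ σ₂ ∘ₗ σ₁) = 0 := by
      ext a b c
      simp only [σ₁, σ₂, TensorProduct.AlgebraTensorModule.curry_apply, TensorProduct.curry_apply,
        LinearMap.coe_restrictScalars, LinearMap.comp_apply, LinearMap.add_apply,
        LinearMap.id_apply, LinearEquiv.coe_coe, TensorProduct.leftComm_tmul,
        LinearMap.lTensor_tmul, TensorProduct.comm_tmul, map_add, hr, hD, LinearMap.zero_apply,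
        Derivation.leibniz, smul_add, smul_smul]
      module
    have := LinearMap.congr_fun hE x
    simp only [LinearMap.comp_apply, LinearMap.add_apply, LinearMap.id_apply, h1', h2', map_add,
      LinearMap.zero_apply] at this
    have h6 : (6 : k) • D (r x) = 0 := by rw [← this]; module
    exact (smul_eq_zero.mp h6).resolve_left (by norm_num)
  have hD' : ∀ y, D y = (3 : k) • DiagIdealLib.theta k A y -
      KaehlerDifferential.D k A (LinearMap.mul' k A y) := by
    intro y
    induction y using TensorProduct.induction_on with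
    | zero => simp
    | tmul a b =>
      rw [hD, DiagIdealLib.theta_tmul, LinearMap.mul'_apply, Derivation.leibniz,
        ← algebraMap_smul A (3 : k)]
      simp only [map_ofNat]
      module
    | add x y hx hy => simp only [map_add, hx, hy, smul_add]; abel
  have h3 : (3 : k) ≠ 0 := by norm_num
  refine ⟨fun y => ?_, fun ω => ?_⟩
  · rw [← hmem]
    refine ⟨fun hy => ?_, hker y⟩
    set c := LinearMap.mul' k A y with hc
    set u := y - c ⊗ₜ[k] (1 : A) - (3 : k)⁻¹ • ((1 : A) ⊗ₜ[k] c - c ⊗ₜ[k] (1 : A)) with hu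
    have hyu : y - u ∈ W := by
      have e : y - u = (3 : k)⁻¹ •
          ((c * 1) ⊗ₜ[k] (1 : A) + (1 * 1 : A) ⊗ₜ[k] c + (1 * c) ⊗ₜ[k] (1 : A)) := by
        simp only [hu, one_mul, mul_one]
        match_scalars <;> field_simp <;> norm_num
      rw [e]
      exact W.smul_mem _ (hg c 1 1)
    have hmu : LinearMap.mul' k A u = 0 := by
      simp [hu, hc, map_sub, LinearMap.map_smul, LinearMap.mul'_apply]
    have hDu : D u = 0 := by
      have := hker _ hyu
      rwa [map_sub, hy, zero_sub, neg_eq_zero] at this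
    have hth : DiagIdealLib.theta k A u = 0 := by
      rw [hD', hmu, map_zero, sub_zero] at hDu
      exact (smul_eq_zero.mp hDu).resolve_left h3
    have huW : u ∈ W := DiagIdealLib.sq_mem_submodule W (fun a b c => by
      convert W.sub_mem (hg a (b * c) 1) (hg a b c) using 1
      simp only [mul_one, one_mul, mul_comm c a, mul_assoc]
      abel) (DiagIdealLib.mem_sq_of_theta_eq_zero hmu hth)
    simpa using W.add_mem hyu huW
  · obtain ⟨u, hu, hω⟩ := DiagIdealLib.exists_mem_ideal_theta (k := k) ω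
    refine ⟨(3 : k)⁻¹ • u, ?_⟩
    rw [map_smul, hD', hu, map_zero, sub_zero, hω, inv_smul_smul₀ h3]

end Groth.Agent.S19212
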