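import Groth.Statements.S19213
import Groth.Agent.DiagIdealLib.Basic

set_option autoImplicit false
universe u v
open TensorProduct
open DiagIdeal

namespace Groth.Agent.S19213

/-- Let k be an algebraically closed field of characteristic zero and A a smooth k-algebra which is a
domain. Let r₁₂, r₂₃ : A ⊗ (A ⊗ A) → A ⊗ A be the k-linear maps a ⊗ u ⊗ v ↦ au ⊗ v and a ⊗ u ⊗ v ↦
uv ⊗ a (restriction to the diagonal of factors 1, 2, resp. 2, 3, the repeated coordinate written
first), let m : A ⊗ A → A be multiplication, and let ψ : (A ⊗ A) × (A ⊗ A) → Ω_{A/k} be the k-linear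
map with ψ(a ⊗ u, b ⊗ v) = 2a·du − v·db. Then for p, q in A ⊗ A with m p = m q one has ψ(p, q) = 0
if and only if (p, q) = (r₁₂ x, r₂₃ x) for some x fixed by the swap of the last two tensor factors;
and every element of Ω_{A/k} is ψ(p, q) for some pair with m p = m q. (This is exactness at the last
two places of the right resolution, on the symmetric cube of X = Spec A, of the invariants of the
ideal of the big diagonal under the transposition of the last two factors; exactness at the first
two places is immediate. The published statement is the sheaf version for a smooth complex variety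
of any dimension; an algebraically closed field of characteristic zero is used here.) -/
theorem result (k : Type u) [Field k] [IsAlgClosed k] [CharZero k]
    (A : Type v) [CommRing A] [Algebra k A] [Algebra.Smooth k A] [IsDomain A]
    (r₁₂ r₂₃ : A ⊗[k] (A ⊗[k] A) →ₗ[k] A ⊗[k] A)
    (h₁₂ : ∀ a u v : A, r₁₂ (a ⊗ₜ[k] (u ⊗ₜ[k] v)) = (a * u) ⊗ₜ[k] v)
    (h₂₃ : ∀ a u v : A, r₂₃ (a ⊗ₜ[k] (u ⊗ₜ[k] v)) = (u * v) ⊗ₜ[k] a)
    (ψ : (A ⊗[k] A) × (A ⊗[k] A) →ₗ[k] Ω[A⁄k])
    (hψ : ∀ a u b v : A, ψ (a ⊗ₜ[k] u, b ⊗ₜ[k] v) =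
      (2 : A) • (a • KaehlerDifferential.D k A u) - v • KaehlerDifferential.D k A b) :
    (∀ p q : A ⊗[k] A, LinearMap.mul' k A p = LinearMap.mul' k A q →
      (ψ (p, q) = 0 ↔ ∃ x : A ⊗[k] (A ⊗[k] A),
        LinearMap.lTensor A (TensorProduct.comm k A A).toLinearMap x = x ∧ r₁₂ x = p ∧ r₂₃ x = q)) ∧
    (∀ ω : Ω[A⁄k], ∃ p q : A ⊗[k] A, LinearMap.mul' k A p = LinearMap.mul' k A q ∧ ψ (p, q) = ω) := by
  classical
  let σ₂ : A ⊗[k] (A ⊗[k] A) →ₗ[k] A ⊗[k] (A ⊗[k] A) :=
    LinearMap.lTensor A (TensorProduct.comm k A A).toLinearMap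
  let W : Submodule k ((A ⊗[k] A) × (A ⊗[k] A)) :=
    Submodule.map (r₁₂.prod r₂₃) (LinearMap.eqLocus σ₂ LinearMap.id)
  have hmem : ∀ p q, (p, q) ∈ W ↔ ∃ x : A ⊗[k] (A ⊗[k] A),
      LinearMap.lTensor A (TensorProduct.comm k A A).toLinearMap x = x ∧ r₁₂ x = p ∧ r₂₃ x = q := by
    intro p q
    constructor
    · rintro ⟨x, h1, h⟩
      rw [LinearMap.prod_apply] at h
      exact ⟨x, h1, congrArg Prod.fst h, congrArg Prod.snd h⟩
    · rintro ⟨x, h1, rfl, rfl⟩; exact ⟨x, h1, rfl⟩
  have hf : ∀ a u v : A, ((a * u) ⊗ₜ[k] v + (a * v) ⊗ₜ[k] u, (2 : k) • ((u * v) ⊗ₜ[k] a)) ∈ W := by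
    intro a u v
    refine (hmem _ _).mpr ⟨a ⊗ₜ[k] (u ⊗ₜ[k] v) + a ⊗ₜ[k] (v ⊗ₜ[k] u), ?_, ?_, ?_⟩
    · simp only [map_add, LinearMap.lTensor_tmul, LinearEquiv.coe_coe, TensorProduct.comm_tmul]
      abel
    · rw [map_add, h₁₂, h₁₂]
    · rw [map_add, h₂₃, h₂₃, mul_comm v u]; module
  have hψ' : ∀ p q, ψ (p, q) = (2 : k) • DiagIdealLib.theta k A p -
      DiagIdealLib.theta k A (TensorProduct.comm k A A q) := by
    have e1 : ∀ p, ψ (p, 0) = (2 : k) • DiagIdealLib.theta k A p := by
      intro p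
      induction p using TensorProduct.induction_on with
      | zero => rw [map_zero, smul_zero]; exact map_zero ψ
      | tmul a u =>
        have := hψ a u 0 0
        rw [TensorProduct.zero_tmul, map_zero, smul_zero, sub_zero] at this
        rw [this, DiagIdealLib.theta_tmul, ← algebraMap_smul A (2 : k), map_ofNat]
      | add x y hx hy =>
        rw [map_add, smul_add, ← hx, ← hy, ← map_add, Prod.mk_add_mk, add_zero]
    have e2 : ∀ q, ψ (0, q) = - DiagIdealLib.theta k A (TensorProduct.comm k A A q) := by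
      intro q
      induction q using TensorProduct.induction_on with
      | zero => rw [map_zero, map_zero, neg_zero]; exact map_zero ψ
      | tmul b v =>
        have := hψ 0 0 b v
        rw [TensorProduct.zero_tmul, zero_smul, smul_zero, zero_sub] at this
        rw [this, TensorProduct.comm_tmul, DiagIdealLib.theta_tmul]
      | add x y hx hy =>
        rw [map_add, map_add, neg_add, ← hx, ← hy, ← map_add, Prod.mk_add_mk, add_zero]
    intro p q
    rw [sub_eq_add_neg, ← e1, ← e2, ← map_add, Prod.mk_add_mk, add_zero, zero_add]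
  have hker : ∀ z ∈ W, ψ z = 0 := by
    rintro z ⟨x, h2, rfl⟩
    have h2' : σ₂ x = x := h2
    have hE : (ψ ∘ₗ r₁₂.prod r₂₃) ∘ₗ (LinearMap.id + σ₂) = 0 := by
      ext a u v
      simp only [σ₂, TensorProduct.AlgebraTensorModule.curry_apply, TensorProduct.curry_apply,
        LinearMap.coe_restrictScalars, LinearMap.comp_apply, LinearMap.add_apply,
        LinearMap.id_apply, LinearEquiv.coe_coe, LinearMap.lTensor_tmul, TensorProduct.comm_tmul,
        map_add, LinearMap.prod_apply, Function.prod, h₁₂, h₂₃, hψ', DiagIdealLib.theta_tmul, LinearMap.zero_apply,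
        Derivation.leibniz, smul_add, smul_smul, ← algebraMap_smul A (2 : k), map_ofNat]
      module
    have := LinearMap.congr_fun hE x
    simp only [LinearMap.comp_apply, LinearMap.add_apply, LinearMap.id_apply, h2', map_add,
      LinearMap.zero_apply] at this
    have h2x : (2 : k) • ψ (r₁₂.prod r₂₃ x) = 0 := by rw [two_smul]; exact this
    exact (smul_eq_zero.mp h2x).resolve_left two_ne_zero
  let ρ : A ⊗[k] A →ₗ[k] A ⊗[k] A := (2 : k)⁻¹ • ((TensorProduct.comm k A A).toLinearMap +
    (TensorProduct.mk k A A).flip 1 ∘ₗ LinearMap.mul' k A)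
  have hρ : ∀ q, (ρ q, q) ∈ W := by
    intro q
    induction q using TensorProduct.induction_on with
    | zero => rw [map_zero]; exact W.zero_mem
    | tmul b v =>
      have := W.smul_mem (2 : k)⁻¹ (hf v b 1)
      rw [Prod.smul_mk, mul_one, mul_one, inv_smul_smul₀ two_ne_zero] at this
      convert this using 2
      simp [ρ, mul_comm v b, add_comm]
    | add x y hx hy => rw [map_add]; exact W.add_mem hx hy
  have hmρ : ∀ q, LinearMap.mul' k A (ρ q) = LinearMap.mul' k A q := by
    intro q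
    induction q using TensorProduct.induction_on with
    | zero => simp
    | tmul b v =>
      simp [ρ, mul_comm v b]
      match_scalars; field_simp; norm_num
    | add x y hx hy => simp only [map_add, hx, hy]
  have hsq : ∀ u, u ∈ KaehlerDifferential.ideal k A ^ 2 → (u, (0 : A ⊗[k] A)) ∈ W := fun u hu =>
    DiagIdealLib.sq_mem_submodule (Submodule.comap (LinearMap.inl k _ _) W) (fun a b c => by
      rw [Submodule.mem_comap, LinearMap.inl_apply]
      convert W.sub_mem (hf a (b * c) 1) (hf a b c) using 1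
      simp only [mul_one, mul_assoc, Prod.mk_sub_mk, sub_self, Prod.mk.injEq, and_true]
      abel) hu
  refine ⟨fun p q hpq => ?_, fun ω => ?_⟩
  · rw [← hmem]
    refine ⟨fun hz => ?_, hker _⟩
    have hmu : LinearMap.mul' k A (p - ρ q) = 0 := by rw [map_sub, hmρ, hpq, sub_self]
    have e : ((p - ρ q, 0) : (A ⊗[k] A) × (A ⊗[k] A)) = (p, q) - (ρ q, q) := by
      rw [Prod.mk_sub_mk, sub_self]
    have h0 : ψ (p - ρ q, 0) = 0 := by rw [e, map_sub, hz, hker _ (hρ q), sub_zero]
    rw [hψ', map_zero, map_zero, sub_zero] at h0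
    have := W.add_mem (hsq _ (DiagIdealLib.mem_sq_of_theta_eq_zero hmu
      ((smul_eq_zero.mp h0).resolve_left two_ne_zero))) (hρ q)
    rwa [Prod.mk_add_mk, sub_add_cancel, zero_add] at this
  · obtain ⟨u, hu, hω⟩ := DiagIdealLib.exists_mem_ideal_theta (k := k) ω
    refine ⟨(2 : k)⁻¹ • u, 0, by rw [map_smul, hu, smul_zero, map_zero], ?_⟩
    rw [hψ', map_smul, map_zero, map_zero, sub_zero, hω, smul_inv_smul₀ two_ne_zero]

end Groth.Agent.S19213
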