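-- statement SymRep.GrothFrozen.S19216 (Groth/Statements/S19216.lean; the theorem SymRep.w4c6_standardRep_restrict_two_blocks);
import Groth.Statements.S19216
import Mathlib

set_option autoImplicit false
universe u
open SymRep

namespace Groth.Agent.S19216

/-- Let k be a field of characteristic zero and r, s ≥ 1. Realise the standard representation of the
symmetric group on a finite set T as the hyperplane of functions T → k with sum zero, the group
acting by precomposition with the inverse. Then the standard representation of the symmetric group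
of Fin r ⊕ Fin s, restricted to the subgroup S_r × S_s, is isomorphic to the direct sum of the
standard representations of S_r and of S_s and of a one-dimensional trivial representation: there is
a k-linear map E from functions on Fin r ⊕ Fin s to triples (function on Fin r, function on Fin s,
scalar), compatible with the actions of S_r × S_s (trivial on the scalar), which maps the sum-zero
hyperplane bijectively onto the product of the two sum-zero hyperplanes and k. (The published
statement is over the complex numbers; a field of characteristic zero is used here. The published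
statement also gives the analogous decomposition for any number of blocks, which follows by
induction; only the two-block case is stated here.) -/
theorem result (k : Type u) [Field k] [CharZero k]
    (r s : ℕ) (hr : 1 ≤ r) (hs : 1 ≤ s) :
    ∃ E : (Fin r ⊕ Fin s → k) →ₗ[k] (Fin r → k) × (Fin s → k) × k,
      (∀ (σ : Equiv.Perm (Fin r)) (τ : Equiv.Perm (Fin s)) (f : Fin r ⊕ Fin s → k),
        E (f ∘ ⇑(Equiv.sumCongr σ τ).symm) = ((E f).1 ∘ ⇑σ.symm, (E f).2.1 ∘ ⇑τ.symm, (E f).2.2)) ∧
      Set.BijOn E {f | ∑ i, f i = 0}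
        ({g : Fin r → k | ∑ i, g i = 0} ×ˢ ({h : Fin s → k | ∑ i, h i = 0} ×ˢ Set.univ)) := by
  classical
  let A : (Fin r ⊕ Fin s → k) →ₗ[k] k := ∑ i : Fin r, LinearMap.proj (Sum.inl i)
  let B : (Fin r ⊕ Fin s → k) →ₗ[k] k := ∑ i : Fin s, LinearMap.proj (Sum.inr i)
  let E1 : (Fin r ⊕ Fin s → k) →ₗ[k] (Fin r → k) := LinearMap.pi fun i => LinearMap.proj (Sum.inl i) - (r : k)⁻¹ • A
  let E2 : (Fin r ⊕ Fin s → k) →ₗ[k] (Fin s → k) := LinearMap.pi fun i => LinearMap.proj (Sum.inr i) - (s : k)⁻¹ • B
  have hA : ∀ f, A f = ∑ i, f (Sum.inl i) := fun f => by simp [A]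
  have hB : ∀ f, B f = ∑ i, f (Sum.inr i) := fun f => by simp [B]
  have hr0 : (r : k) ≠ 0 := Nat.cast_ne_zero.2 (by omega)
  have hs0 : (s : k) ≠ 0 := Nat.cast_ne_zero.2 (by omega)
  refine ⟨E1.prod (E2.prod A), fun σ τ f => ?_, fun f hf => ?_, fun f hf g hg hfg => ?_, ?_⟩
  · have hA' : A (f ∘ ⇑(Equiv.sumCongr σ.symm τ.symm)) = A f := by
      rw [hA, hA]; exact Equiv.sum_comp σ.symm fun i => f (Sum.inl i)
    have hB' : B (f ∘ ⇑(Equiv.sumCongr σ.symm τ.symm)) = B f := by
      rw [hB, hB]; exact Equiv.sum_comp τ.symm fun i => f (Sum.inr i)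
    refine Prod.ext (funext fun i => ?_) (Prod.ext (funext fun i => ?_) hA')
    · simp [E1, hA']
    · simp [E2, hB']
  · refine Set.mem_prod.2 ⟨?_, Set.mem_prod.2 ⟨?_, trivial⟩⟩
    · simp [E1, hA, Finset.sum_sub_distrib, mul_inv_cancel_left₀ hr0]
    · simp [E2, hB, Finset.sum_sub_distrib, mul_inv_cancel_left₀ hs0]
  · simp only [Set.mem_setOf_eq, Fintype.sum_sum_type, ← hA, ← hB] at hf hg
    have h3 : A f = A g := congrArg (fun z => z.2.2) hfg
    have h4 : B f = B g := by linear_combination hf - hg - h3
    funext i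
    cases i with
    | inl i => have := congrFun (congrArg Prod.fst hfg) i; simpa [E1, h3] using this
    | inr i => have := congrFun (congrArg (fun z => z.2.1) hfg) i; simpa [E2, h4] using this
  · rintro ⟨g, h, c⟩ hgh
    obtain ⟨hg, hh, -⟩ := hgh
    simp only [Set.mem_setOf_eq] at hg hh
    let f : Fin r ⊕ Fin s → k := Sum.elim (fun i => g i + (r : k)⁻¹ * c) (fun i => h i - (s : k)⁻¹ * c)
    have hAf : A f = c := by simp [hA, f, Finset.sum_add_distrib, hg, mul_inv_cancel_left₀ hr0]
    have hBf : B f = -c := by simp [hB, f, Finset.sum_sub_distrib, hh, mul_inv_cancel_left₀ hs0]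
    refine ⟨f, ?_, ?_⟩
    · simp only [Set.mem_setOf_eq, Fintype.sum_sum_type, ← hA, ← hB, hAf, hBf, add_neg_cancel]
    · refine Prod.ext (funext fun i => ?_) (Prod.ext (funext fun i => ?_) hAf)
      · simp [E1, hAf, f]
      · simp [E2, hBf, f]

end Groth.Agent.S19216
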