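-- statement DiagIdeal.GrothFrozen.S19218 (Groth/Statements/S19218.lean; the theorem DiagIdeal.w4c6_invariants_oddPower_le_evenPower);
import Groth.Statements.S19218
import Mathlib

set_option autoImplicit false
universe u v
open TensorProduct
open DiagIdeal

namespace Groth.Agent.S19218

/-- Let k be an algebraically closed field of characteristic zero and A a smooth k-algebra which is a
domain of Krull dimension 2. In the n-fold tensor power R of A over k, indexed by Fin n, let I_p (p
= (i, j), i < j) be the ideal generated by the a_i − a_j, a ∈ A, and let I be the intersection of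
the I_p, the ideal of the big diagonal. Assume that for every s ≥ 0 the power I ^ s is the
intersection of the powers I_p ^ s (a property of the big diagonal of a smooth surface that the
source takes from the literature). Then for m ≥ 1 every element of R fixed by all permutations of
the n factors and lying in I ^ (2m − 1) lies in I ^ (2m): on the symmetric product the invariants of
the odd power and of the next even power of the ideal of the big diagonal coincide. (The source
states the sheaf version for a smooth quasi-projective complex surface, using the displayed property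
of the powers without restating it as a hypothesis.) -/
theorem result (k : Type u) [Field k] [IsAlgClosed k] [CharZero k]
    (A : Type v) [CommRing A] [Algebra k A] [Algebra.Smooth k A] [IsDomain A]
    (hdim : ringKrullDim A = 2) (n : ℕ)
    (I : Fin n × Fin n → Ideal (⨂[k] _ : Fin n, A))
    (hI : ∀ p, I p = Ideal.span (Set.range fun a : A =>
        PiTensorProduct.singleAlgHom (R := k) (A := fun _ : Fin n => A) p.1 a -
        PiTensorProduct.singleAlgHom (R := k) (A := fun _ : Fin n => A) p.2 a))
    (IΔ : Ideal (⨂[k] _ : Fin n, A))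
    (hIΔ : IΔ = ⨅ p ∈ Finset.univ.filter (fun p : Fin n × Fin n => p.1 < p.2), I p)
    (hpow : ∀ s : ℕ, IΔ ^ s = ⨅ p ∈ Finset.univ.filter (fun p : Fin n × Fin n => p.1 < p.2), (I p) ^ s)
    (m : ℕ) (hm : 1 ≤ m) (x : ⨂[k] _ : Fin n, A)
    (hx : ∀ σ : Equiv.Perm (Fin n), PiTensorProduct.reindex k (fun _ : Fin n => A) σ x = x)
    (hmem : x ∈ IΔ ^ (2 * m - 1)) :
    x ∈ IΔ ^ (2 * m) := by
  classical
  rw [hpow] at hmem ⊢
  simp only [Submodule.mem_iInf] at hmem ⊢
  intro p hp
  have hne : p.1 ≠ p.2 := ne_of_lt (Finset.mem_filter.1 hp).2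
  let σ : Equiv.Perm (Fin n) := Equiv.swap p.1 p.2
  let T := ⨂[k] _ : Fin n, A
  let e : T →ₐ[k] T := PiTensorProduct.liftAlgHom
    (MultilinearMap.domDomCongr σ.symm (PiTensorProduct.tprod k (s := fun _ : Fin n => A)))
    (by simp only [MultilinearMap.domDomCongr_apply]; rfl)
    (fun x y => by
      simp only [MultilinearMap.domDomCongr_apply]
      rw [PiTensorProduct.tprod_mul_tprod]
      rfl)
  have he : ∀ t : T, e t = PiTensorProduct.reindex k (fun _ : Fin n => A) σ t := by
    intro t
    induction t using PiTensorProduct.induction_on with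
    | smul_tprod r f =>
      rw [map_smul, map_smul, PiTensorProduct.reindex_tprod]
      simp only [e, PiTensorProduct.liftAlgHom, AlgHom.ofLinearMap_apply, PiTensorProduct.lift.tprod, MultilinearMap.domDomCongr_apply]
      erw [PiTensorProduct.lift.tprod]
      rfl
    | add u v hu hv => rw [map_add, map_add, hu, hv]
  have hsingle : ∀ (i : Fin n) (a : A), e (PiTensorProduct.singleAlgHom (R := k) (A := fun _ : Fin n => A) i a) =
      PiTensorProduct.singleAlgHom (R := k) (A := fun _ : Fin n => A) (σ i) a := by
    intro i a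
    rw [PiTensorProduct.singleAlgHom_apply, he, PiTensorProduct.reindex_tprod, PiTensorProduct.singleAlgHom_apply]
    congr 1
    funext l
    change (Pi.mulSingle i a : Fin n → A) (σ.symm l) = (Pi.mulSingle (σ i) a : Fin n → A) l
    simp only [Pi.mulSingle_apply, Equiv.symm_apply_eq]
  have hI' := hI p
  have hgen : ∀ t ∈ I p, e t + t ∈ I p ^ 2 ∧ e t ∈ I p := by
    intro t ht
    rw [hI'] at ht
    have hc : ∀ c : T, e c - c ∈ I p := by
      intro c
      induction c using PiTensorProduct.induction_on with
      | smul_tprod r f =>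
        rw [map_smul, ← smul_sub]
        refine Submodule.smul_of_tower_mem _ r ?_
        have hf : PiTensorProduct.tprod k f = ∏ i, PiTensorProduct.singleAlgHom (R := k) (A := fun _ : Fin n => A) i (f i) := by
          change _ = ∏ i, (PiTensorProduct.tprodMonoidHom (R := k) (A := fun _ : Fin n => A)) (Pi.mulSingle i (f i))
          rw [← map_prod, Finset.univ_prod_mulSingle]
          rfl
        rw [hf, map_prod, ← Ideal.Quotient.eq, map_prod, map_prod]
        refine Finset.prod_congr rfl fun i _ => Ideal.Quotient.eq.2 ?_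
        rw [hsingle]
        by_cases h1 : i = p.1
        · subst h1
          rw [Equiv.swap_apply_left, hI', ← neg_sub]
          exact neg_mem (Ideal.subset_span ⟨f p.1, rfl⟩)
        · by_cases h2 : i = p.2
          · subst h2
            rw [Equiv.swap_apply_right, hI']
            exact Ideal.subset_span ⟨f p.2, rfl⟩
          · rw [Equiv.swap_apply_of_ne_of_ne h1 h2, sub_self]; exact zero_mem _
      | add u v hu hv => rw [map_add, add_sub_add_comm]; exact add_mem hu hv
    induction ht using Submodule.span_induction with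
    | mem t ht =>
      obtain ⟨a, rfl⟩ := ht
      rw [map_sub, hsingle, hsingle, Equiv.swap_apply_left, Equiv.swap_apply_right]
      refine ⟨by rw [sub_add_sub_cancel, sub_self]; exact zero_mem _, ?_⟩
      rw [hI', ← neg_sub]
      exact neg_mem (Ideal.subset_span ⟨a, rfl⟩)
    | zero => exact ⟨by rw [map_zero, add_zero]; exact zero_mem _, by rw [map_zero]; exact zero_mem _⟩
    | add u v _ _ hu hv => exact ⟨by rw [map_add, add_add_add_comm]; exact add_mem hu.1 hv.1, by rw [map_add]; exact add_mem hu.2 hv.2⟩
    | smul c u hu' hu =>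
      have hu'' : u ∈ I p := hI'.symm ▸ hu'
      refine ⟨?_, by rw [smul_eq_mul, map_mul]; exact Ideal.mul_mem_left _ _ hu.2⟩
      rw [smul_eq_mul, map_mul, show e c * e u + c * u = e c * (e u + u) - (e c - c) * u by ring]
      exact sub_mem (Ideal.mul_mem_left _ _ hu.1) (pow_two (I p) ▸ Ideal.mul_mem_mul (hc c) hu'')
  have hpw : ∀ j : ℕ, 1 ≤ j → ∀ t ∈ I p ^ j, e t - (-1) ^ j * t ∈ I p ^ (j + 1) ∧ e t ∈ I p ^ j := by
    intro j hj
    induction j, hj using Nat.le_induction with
    | base => intro t ht; rw [pow_one] at ht; obtain ⟨h1, h2⟩ := hgen t ht; exact ⟨by rw [pow_one, neg_one_mul, sub_neg_eq_add]; exact h1, by rw [pow_one]; exact h2⟩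
    | succ j hj ih =>
      intro t ht
      rw [pow_succ] at ht
      refine Submodule.mul_induction_on ht (fun u hu v hv => ?_) (fun u v hu hv => ⟨?_, ?_⟩)
      · obtain ⟨h1, h2⟩ := ih u hu
        obtain ⟨h3, h4⟩ := hgen v hv
        refine ⟨?_, by rw [map_mul, pow_succ]; exact Ideal.mul_mem_mul h2 h4⟩
        rw [map_mul, show e u * e v - (-1) ^ (j + 1) * (u * v) = (e u - (-1) ^ j * u) * e v + ((-1) ^ j * u) * (e v + v) by ring]
        refine add_mem ?_ ?_
        · rw [pow_succ _ (j + 1)]; exact Ideal.mul_mem_mul h1 h4
        · rw [show j + 1 + 1 = j + 2 by omega, pow_add]; exact Ideal.mul_mem_mul (Ideal.mul_mem_left _ _ hu) h3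
      · rw [map_add, mul_add, add_sub_add_comm]; exact add_mem hu.1 hv.1
      · rw [map_add]; exact add_mem hu.2 hv.2
  have h := (hpw (2 * m - 1) (by omega) x (hmem p hp)).1
  rw [he, hx σ, Odd.neg_one_pow ⟨m - 1, by omega⟩, show 2 * m - 1 + 1 = 2 * m by omega, neg_one_mul, sub_neg_eq_add, ← two_smul k x] at h
  have h2 := Submodule.smul_of_tower_mem (I p ^ (2 * m)) (2 : k)⁻¹ h
  rwa [smul_smul, inv_mul_cancel₀ (two_ne_zero : (2 : k) ≠ 0), one_smul] at h2

end Groth.Agent.S19218
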