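import Groth.Statements.S19222
import Groth.Agent.EtSh.StrictHens
import Groth.Agent.EtSh.IntegralPush

set_option autoImplicit false
universe u
open CategoryTheory AlgebraicGeometry
open EtBase

namespace Groth.Agent.S19222

/-- Let R be a strictly henselian local ring (henselian, with separably closed residue field), let X be
a scheme finite over Spec R and let F be an abelian étale sheaf on X. Then H^j(X_et, F) = 0 for
every j ≥ 1. (The source states this vanishing for the schemes X ×_R Y ×_R ⋯ ×_R Y with Y a further
finite R-scheme; these are again finite over R, so the present form is the whole content.) -/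
theorem result (R : Type u) [CommRing R] [HenselianLocalRing R]
    [IsSepClosed (IsLocalRing.ResidueField R)] (X : Scheme.{u}) (f : X ⟶ Spec (CommRingCat.of R)) [IsFinite f]
    (F : EtCoh.Ab X) (j : ℕ) (hj : 1 ≤ j) : Subsingleton (EtCoh.H X F j) := by
  obtain ⟨n, rfl⟩ : ∃ n, j = n + 1 := ⟨j - 1, by omega⟩
  refine Groth.Agent.EtSh.subsingleton_H_succ (fun {F G} φ hφ t => ?_) n F
  have := hφ
  have := Groth.Agent.EtSh.push_preservesEpimorphisms_of_integral f
  let hT := Groth.Agent.EtSh.topTerminal X
  let b := hT.from ((EtCoh.bc f).obj (EtCoh.top (Spec (CommRingCat.of R))))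
  let a := (Limits.IsTerminal.isTerminalObj (EtCoh.bc f) _
    (Groth.Agent.EtSh.topTerminal (Spec (CommRingCat.of R)))).from (EtCoh.top X)
  obtain ⟨r, hr⟩ := Groth.Agent.EtSh.surjective_app_top R ((EtCoh.push f).map φ) inferInstance
    (G.obj.map b.op t)
  refine ⟨F.obj.map a.op r, ?_⟩
  have hr' : φ.hom.app (Opposite.op ((EtCoh.bc f).obj (EtCoh.top (Spec (CommRingCat.of R))))) r =
      G.obj.map b.op t := hr
  rw [NatTrans.naturality_apply φ.hom a.op r, hr', ← ConcreteCategory.comp_apply, ← G.obj.map_comp,
    ← op_comp, hT.hom_ext (a ≫ b) (𝟙 _), op_id, G.obj.map_id]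
  rfl

end Groth.Agent.S19222
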