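import Groth.Statements.S19224
import Mathlib.RepresentationTheory.Homological.GroupCohomology.LowDegree
import Mathlib.RingTheory.RootsOfUnity.Basic
import Mathlib.RingTheory.RootsOfUnity.EnoughRootsOfUnity
import Mathlib.FieldTheory.IsSepClosed
import Mathlib.RingTheory.RootsOfUnity.AlgebraicallyClosed

set_option autoImplicit false
open GalCoh

namespace Groth.Agent.S19224

open groupCohomology CategoryTheory in
theorem int_cocycle {Q : Type} [Group Q] (hQ : Subsingleton (groupCohomology (Rep.trivial ℤ Q ℤ) 3))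
    (n : ℤ) (hn : n ≠ 0) (C : Q → Q → ℤ) (h : ∀ g h j, n ∣ C h j - C (g * h) j + C g (h * j) - C g h) :
    ∃ E : Q → Q → ℤ, ∀ g h j, (C h j - n * E h j) - (C (g * h) j - n * E (g * h) j) +
      (C g (h * j) - n * E g (h * j)) - (C g h - n * E g h) = 0 := by
  set A := Rep.trivial ℤ Q ℤ
  choose D hD using h
  let c₂ : (inhomogeneousCochains A).X 2 := (cochainsIso₂ A).inv (fun p : Q × Q => C p.1 p.2)
  let c₃ : (inhomogeneousCochains A).X 3 := (cochainsIso₃ A).inv (fun p : Q × Q × Q => D p.1 p.2.1 p.2.2)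
  have hdc : (inhomogeneousCochains A).d 2 3 c₂ = n • c₃ := by
    have h1 := congrArg (fun φ => φ c₂) (comp_d₂₃_eq A)
    simp only [ConcreteCategory.comp_apply] at h1
    have hi : (cochainsIso₂ A).hom c₂ = fun p : Q × Q => C p.1 p.2 := by
      simp [c₂]
    rw [hi] at h1
    have h2 := congrArg (cochainsIso₃ A).inv h1
    rw [Iso.hom_inv_id_apply] at h2
    rw [← h2, ← map_zsmul]
    congr 1
    funext p
    obtain ⟨g, h, j⟩ := p
    show A.ρ g (C h j) - C (g * h) j + C g (h * j) - C g h = n * D g h j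
    exact hD g h j
  have hker : (inhomogeneousCochains A).d 3 4 c₃ = 0 := by
    have h1 : (inhomogeneousCochains A).d 3 4 ((inhomogeneousCochains A).d 2 3 c₂) = 0 := by
      rw [← ConcreteCategory.comp_apply, HomologicalComplex.d_comp_d]; rfl
    rw [hdc, map_zsmul] at h1
    refine funext fun g => ?_
    have h2 : n * ((inhomogeneousCochains A).d 3 4 c₃ g : ℤ) = 0 := congrFun h1 g
    exact (mul_eq_zero.1 h2).resolve_left hn
  haveI := hQ
  have hex : (inhomogeneousCochains A).ExactAt 3 := by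
    rw [HomologicalComplex.exactAt_iff_isZero_homology]
    exact ModuleCat.isZero_of_subsingleton (groupCohomology A 3)
  rw [HomologicalComplex.exactAt_iff' _ 2 3 4 (by simp) (by simp), ShortComplex.moduleCat_exact_iff] at hex
  obtain ⟨e, he⟩ : ∃ e : (inhomogeneousCochains A).X 2, (inhomogeneousCochains A).d 2 3 e = c₃ := hex c₃ hker
  refine ⟨fun a b => (cochainsIso₂ A).hom e (a, b), fun g h j => ?_⟩
  have h1 : d₂₃ A ((cochainsIso₂ A).hom e) = (cochainsIso₃ A).hom ((inhomogeneousCochains A).d 2 3 e) :=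
    congrArg (fun φ => φ e) (comp_d₂₃_eq A)
  rw [he] at h1
  have h2 := congrFun h1 (g, h, j)
  have h3 : (cochainsIso₃ A).hom c₃ (g, h, j) = D g h j := by simp [c₃]
  rw [h3] at h2
  set E := (cochainsIso₂ A).hom e
  have h4 : (E (h, j) : ℤ) - E (g * h, j) + E (g, h * j) - E (g, h) = D g h j := h2
  show (C h j - n * (E (h, j) : ℤ)) - (C (g * h) j - n * (E (g * h, j) : ℤ)) +
      (C g (h * j) - n * (E (g, h * j) : ℤ)) - (C g h - n * (E (g, h) : ℤ)) = 0
  linear_combination hD g h j - n * h4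

theorem cocycle_split {Q : Type} [Group Q] [Fintype Q] (hQ : Subsingleton (groupCohomology (Rep.trivial ℤ Q ℤ) 3))
    {M : Type} [AddCommGroup M] (hdiv : ∀ a : M, ∃ b, (Fintype.card Q : ℤ) • b = a) (ζ : M)
    (hζ : ∀ a : M, (Fintype.card Q : ℤ) • a = 0 → ∃ z : ℤ, z • ζ = a)
    (hord : ∀ z : ℤ, z • ζ = 0 → (Fintype.card Q : ℤ) ∣ z) (hζN : (Fintype.card Q : ℤ) • ζ = 0)
    (c : Q → Q → M) (hc : ∀ g h j, c (g * h) j + c g h = c h j + c g (h * j)) :
    ∃ x : Q → M, ∀ g h, x h - x (g * h) + x g = c g h := by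
  classical
  set N : ℤ := (Fintype.card Q : ℤ)
  have hN : N ≠ 0 := Nat.cast_ne_zero.2 Fintype.card_ne_zero
  have havg : ∀ g h, N • c g h = (∑ j, c g j) + (∑ j, c h j) - ∑ j, c (g * h) j := fun g h => by
    have h1 := Finset.sum_congr (rfl : (Finset.univ : Finset Q) = Finset.univ) fun j _ => hc g h j
    rw [Finset.sum_add_distrib, Finset.sum_add_distrib, Finset.sum_const, Finset.card_univ, ← natCast_zsmul,
      show ∑ j, c g (h * j) = ∑ j, c g j from Equiv.sum_comp (Equiv.mulLeft h) (c g)] at h1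
    rw [eq_sub_of_add_eq' h1]; abel
  choose β hβ using fun g => hdiv (∑ j, c g j)
  have hC : ∀ g h, ∃ z : ℤ, z • ζ = c g h - (β h - β (g * h) + β g) := fun g h => hζ _ (by
    rw [smul_sub, smul_add, smul_sub, hβ, hβ, hβ, havg]; abel)
  choose C hC using hC
  obtain ⟨E, hE⟩ := int_cocycle hQ N hN C fun g h j => hord _ (by
    simp only [sub_smul, add_smul, hC, ← mul_assoc]
    rw [← sub_eq_zero.2 (hc g h j).symm]
    abel)
  set C' := fun g h => C g h - N * E g h
  have hC' : ∀ g h, C' g h • ζ = c g h - (β h - β (g * h) + β g) := fun g h => by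
    simp only [C', sub_smul, mul_comm N, mul_smul, hζN, smul_zero, sub_zero, hC]
  have havgI : ∀ g h, N * C' g h = (∑ j, C' g j) + (∑ j, C' h j) - ∑ j, C' (g * h) j := fun g h => by
    have h1 := Finset.sum_congr (rfl : (Finset.univ : Finset Q) = Finset.univ) fun j _ => hE g h j
    simp only [Finset.sum_const_zero] at h1
    rw [show (∑ j, ((C h j - N * E h j) - (C (g * h) j - N * E (g * h) j) + (C g (h * j) - N * E g (h * j)) - (C g h - N * E g h))) =
      ∑ j, (C' h j - C' (g * h) j + C' g (h * j) - C' g h) from rfl, Finset.sum_sub_distrib, Finset.sum_add_distrib,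
      Finset.sum_sub_distrib, Finset.sum_const, Finset.card_univ, nsmul_eq_mul,
      show ∑ j, C' g (h * j) = ∑ j, C' g j from Equiv.sum_comp (Equiv.mulLeft h) (C' g)] at h1
    linear_combination -h1
  obtain ⟨η, hη⟩ := hdiv ζ
  refine ⟨fun g => β g + (∑ j, C' g j) • η, fun g h => ?_⟩
  have h1 : C' g h • ζ = (∑ j, C' g j) • η + (∑ j, C' h j) • η - (∑ j, C' (g * h) j) • η := by
    rw [← hη, ← mul_smul, mul_comm, havgI, sub_smul, add_smul]
  rw [hC'] at h1
  simp only
  rw [sub_eq_iff_eq_add] at h1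
  rw [h1]; abel

open groupCohomology in
theorem core (Q : Type) [Group Q] [Finite Q]
    (hQ : Subsingleton (groupCohomology (Rep.trivial ℤ Q ℤ) 3)) (k : Type) [Field k] [IsSepClosed k]
    (p : ℕ) [CharP k p] (hp : ¬ p ∣ Nat.card Q) :
    Subsingleton (groupCohomology (Rep.trivial ℤ Q (Additive kˣ)) 2) := by
  classical
  haveI := Fintype.ofFinite Q
  rw [Nat.card_eq_fintype_card] at hp
  have hN : ((Fintype.card Q : ℕ) : k) ≠ 0 := fun h => hp ((CharP.cast_eq_zero_iff k p _).1 h)
  haveI : NeZero ((Fintype.card Q : ℕ) : k) := ⟨hN⟩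
  haveI : NeZero (Fintype.card Q) := ⟨Fintype.card_ne_zero⟩
  obtain ⟨r, hr⟩ := HasEnoughRootsOfUnity.exists_primitiveRoot k (Fintype.card Q)
  obtain ⟨ru, rfl⟩ : ∃ ru : kˣ, (ru : k) = r := hr.isUnit (NeZero.ne _)
  have hru : IsPrimitiveRoot ru (Fintype.card Q) := IsPrimitiveRoot.coe_units_iff.1 hr
  refine subsingleton_of_forall_eq 0 fun x => ?_
  induction x using H2_induction_on with
  | h c =>
    rw [H2π_eq_zero_iff]
    have hc := (mem_cocycles₂_iff (c : Q × Q → Additive kˣ)).1 c.2
    obtain ⟨y, hy⟩ := cocycle_split hQ (M := Additive kˣ) (fun a => by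
        haveI : NeZero ((Fintype.card Q : ℕ) : k) := ⟨hN⟩
        obtain ⟨z, hz⟩ := IsSepClosed.exists_pow_nat_eq ((Additive.toMul a : kˣ) : k) (Fintype.card Q)
        have hz0 : z ≠ 0 := fun h => (Additive.toMul a : kˣ).ne_zero (by rw [← hz, h, zero_pow (NeZero.ne _)])
        exact ⟨Additive.ofMul (Units.mk0 z hz0), by
          rw [natCast_zsmul]; exact Additive.toMul.injective (Units.ext (by simp [hz]))⟩)
      (Additive.ofMul ru)
      (fun a ha => by
        rw [natCast_zsmul] at ha
        have h1 : (Additive.toMul a : kˣ) ^ Fintype.card Q = 1 := congrArg Additive.toMul ha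
        obtain ⟨i, hi⟩ : Additive.toMul a ∈ Subgroup.zpowers ru := by
          rw [hru.zpowers_eq]; exact (mem_rootsOfUnity _ _).2 h1
        exact ⟨i, Additive.toMul.injective hi⟩)
      (fun z hz => (hru.zpow_eq_one_iff_dvd z).1 (congrArg Additive.toMul hz))
      (by rw [natCast_zsmul]; exact Additive.toMul.injective hru.pow_eq_one)
      (fun g h => c (g, h)) (fun g h j => hc g h j)
    exact ⟨y, funext fun ⟨g, h⟩ => hy g h⟩

/-- Let Q be a finite group such that H^3(Q, ℤ) = 0 for the trivial action, and let k be a separably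
closed field of characteristic p ≥ 0 with p not dividing the order of Q. Then H^2(Q, k^×) = 0, where
Q acts trivially on the units of k. (Groups and fields are taken in the lowest universe, as integral
coefficients in the group-cohomology library require.) -/
theorem result (Q : Type) [Group Q] [Finite Q]
    (hQ : Subsingleton (groupCohomology (Rep.trivial ℤ Q ℤ) 3)) (k : Type) [Field k] [IsSepClosed k]
    (p : ℕ) [CharP k p] (hp : ¬ p ∣ Nat.card Q) :
    Subsingleton (groupCohomology (Rep.trivial ℤ Q (Additive kˣ)) 2) := by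
  exact core Q hQ k p hp

end Groth.Agent.S19224
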