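import Groth.Statements.S19244
import Mathlib.CategoryTheory.Abelian.SerreClass.Localization
-- import your own Groth.Agent.* helpers here

set_option autoImplicit false
set_option linter.style.haveILetI false
universe v v' u u'
open HomAlg3

namespace Groth.Agent.S19244

open CategoryTheory in
/-- Let A be an abelian category and let P be the class of bounded-torsion objects of A, those X with n
• 𝟙_X = 0 for some nonzero integer n; assume P is a Serre class. Let L : A ⥤ D be an additive
functor to a preadditive category exhibiting D as the localization of A at the morphisms whose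
kernel and cokernel are in P (so D is the quotient category A_ℚ = A ⧸ A_{b-tor}; the source assumes
A well-powered, which guarantees that this quotient exists). Then for all objects X, Y of A: (1) for
every nonzero integer n, multiplication by n is bijective on Hom_D(L X, L Y), so that this group is
naturally a ℚ-vector space; (2) a morphism f : X ⟶ Y satisfies L f = 0 if and only if n • f = 0 for
some nonzero integer n; (3) for every g : L X ⟶ L Y there are a nonzero integer n and f : X ⟶ Y with
n • g = L f. Equivalently, the natural map Hom_A(X, Y) ⊗_ℤ ℚ → Hom_D(L X, L Y) is an isomorphism. -/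
theorem result
    {A : Type u} [Category.{v} A] [Abelian A] {D : Type u'} [Category.{v'} D] [Preadditive D]
    (P : ObjectProperty A) (hP : ∀ X : A, P X ↔ ∃ n : ℤ, n ≠ 0 ∧ n • (𝟙 X) = 0) [P.IsSerreClass]
    (L : A ⥤ D) [L.Additive] [L.IsLocalization P.isoModSerre] (X Y : A) :
    (∀ n : ℤ, n ≠ 0 → Function.Bijective (fun g : L.obj X ⟶ L.obj Y => n • g)) ∧
    (∀ f : X ⟶ Y, L.map f = 0 ↔ ∃ n : ℤ, n ≠ 0 ∧ n • f = 0) ∧
    (∀ g : L.obj X ⟶ L.obj Y, ∃ (n : ℤ) (f : X ⟶ Y), n ≠ 0 ∧ n • g = L.map f) := by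
  have hquasi : ∀ {M N : A} (s : M ⟶ N), P.isoModSerre s →
      ∃ (n : ℤ) (t : N ⟶ M), n ≠ 0 ∧ s ≫ t = n • 𝟙 M := by
    intro M N s hs
    obtain ⟨n₁, hn₁, h₁⟩ := (hP _).1 hs.1
    obtain ⟨n₂, hn₂, h₂⟩ := (hP _).1 hs.2
    have hc : (n₂ • 𝟙 N) ≫ Limits.cokernel.π s = 0 := by
      rw [Preadditive.zsmul_comp, Category.id_comp, ← Category.comp_id (Limits.cokernel.π s),
        ← Preadditive.comp_zsmul, h₂, Limits.comp_zero]
    let p := Abelian.factorThruImage s
    let i := Abelian.image.ι s
    let h : N ⟶ Abelian.image s := Limits.kernel.lift _ (n₂ • 𝟙 N) hc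
    have hk : Limits.kernel.ι s ≫ (n₁ • 𝟙 M) = 0 := by
      rw [Preadditive.comp_zsmul, Category.comp_id, ← Category.id_comp (Limits.kernel.ι s),
        ← Preadditive.zsmul_comp, h₁, Limits.zero_comp]
    let k : Abelian.image s ⟶ M := (Abelian.coimageIsoImage s).inv ≫ Limits.cokernel.desc _ (n₁ • 𝟙 M) hk
    have hpi : p ≫ i = s := Abelian.image.fac s
    have hih : i ≫ h = n₂ • 𝟙 _ := by
      refine (cancel_mono i).1 ?_
      rw [Category.assoc, show h ≫ i = n₂ • 𝟙 N from Limits.kernel.lift_ι _ _ _, Preadditive.comp_zsmul,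
        Category.comp_id, Preadditive.zsmul_comp, Category.id_comp]
    have hpk : p ≫ k = n₁ • 𝟙 M := by
      have : p = Abelian.coimage.π s ≫ (Abelian.coimageIsoImage s).hom := by
        refine (cancel_mono i).1 ?_
        rw [hpi, Category.assoc]
        exact (Abelian.coimage.fac s).symm.trans (by simp [i])
      rw [this, Category.assoc, Iso.hom_inv_id_assoc]
      exact Limits.cokernel.π_desc _ _ _
    refine ⟨n₂ * n₁, h ≫ k, mul_ne_zero hn₂ hn₁, ?_⟩
    calc s ≫ h ≫ k = (p ≫ i) ≫ h ≫ k := (congrArg (fun w => w ≫ h ≫ k) hpi).symm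
      _ = _ := by
        rw [Category.assoc, ← Category.assoc i, hih, Preadditive.zsmul_comp, Category.id_comp,
          Preadditive.comp_zsmul, hpk, smul_smul]
  have hscal : ∀ (M : A) (n : ℤ), n ≠ 0 → IsIso (L.map (n • 𝟙 M)) := by
    intro M n hn
    refine Localization.inverts L P.isoModSerre _ ⟨(hP _).2 ⟨n, hn, ?_⟩, (hP _).2 ⟨n, hn, ?_⟩⟩
    · refine (cancel_mono (Limits.kernel.ι (n • 𝟙 M))).1 ?_
      have := Limits.kernel.condition (n • 𝟙 M)
      rw [Preadditive.comp_zsmul, Category.comp_id] at this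
      rw [Preadditive.zsmul_comp, Category.id_comp, Limits.zero_comp, this]
    · refine (cancel_epi (Limits.cokernel.π (n • 𝟙 M))).1 ?_
      have := Limits.cokernel.condition (n • 𝟙 M)
      rw [Preadditive.zsmul_comp, Category.id_comp] at this
      rw [Preadditive.comp_zsmul, Category.comp_id, Limits.comp_zero, this]
  have hbij : ∀ n : ℤ, n ≠ 0 → Function.Bijective (fun g : L.obj X ⟶ L.obj Y => n • g) := by
    intro n hn
    haveI := hscal Y n hn
    have he : ∀ g : L.obj X ⟶ L.obj Y, n • g = g ≫ L.map (n • 𝟙 Y) := fun g => by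
      rw [L.map_zsmul, L.map_id, Preadditive.comp_zsmul, Category.comp_id]
    refine ⟨fun a b hab => ?_, fun g => ⟨g ≫ inv (L.map (n • 𝟙 Y)), ?_⟩⟩
    · simp only [he] at hab
      exact (cancel_mono (L.map (n • 𝟙 Y))).1 hab
    · simp only [he, Category.assoc, IsIso.inv_hom_id, Category.comp_id]
  refine ⟨hbij, fun f => ⟨fun hf => ?_, ?_⟩, fun g => ?_⟩
  · rw [← L.map_zero, MorphismProperty.map_eq_iff_postcomp L P.isoModSerre] at hf
    obtain ⟨Z, s, hs, hfs⟩ := hf
    obtain ⟨n, t, hn, hst⟩ := hquasi s hs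
    refine ⟨n, hn, ?_⟩
    rw [← Category.comp_id f, ← Preadditive.comp_zsmul, ← hst, ← Category.assoc, hfs, Limits.zero_comp,
      Limits.zero_comp]
  · rintro ⟨n, hn, hf⟩
    exact (hbij n hn).1 (show n • L.map f = n • 0 by rw [← L.map_zsmul, hf, L.map_zero, smul_zero])
  · obtain ⟨φ, rfl⟩ := Localization.exists_leftFraction L P.isoModSerre g
    obtain ⟨n, t, hn, hst⟩ := hquasi φ.s φ.hs
    refine ⟨n, φ.f ≫ t, hn, ?_⟩
    haveI := Localization.inverts L P.isoModSerre _ φ.hs
    have h1 : L.map t = inv (L.map φ.s) ≫ (n • 𝟙 _) := by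
      rw [IsIso.eq_inv_comp, ← L.map_comp, hst, L.map_zsmul, L.map_id]
    rw [L.map_comp, h1]
    show n • (L.map φ.f ≫ inv (L.map φ.s)) = _
    rw [Preadditive.comp_zsmul, Category.comp_id, Preadditive.comp_zsmul]

end Groth.Agent.S19244
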