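import Groth.Statements.S19245
import Groth.Agent.LocCohZLib.Sheaf

set_option autoImplicit false
universe u
open LocCohZ

namespace Groth.Agent.S19245

open CategoryTheory TopologicalSpace in
/-- Let A be a flasque abelian sheaf on a topological space X and Z = X ∖ U the closed complement of an
open U. Then the sheaf Γ_Z(A) of sections of A supported in Z is flasque. (The source states the
lemma for every family of supports Φ on a Noetherian topological space, where Γ_Φ(A) is the filtered
union of the Γ_Z(A), Z ∈ Φ; for a single closed Z no Noetherian hypothesis is needed.) -/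
theorem result {X : TopCat.{u}} (A : CohTop.Ab X) [TopCat.Sheaf.IsFlasque A]
    (U : Opens X) : TopCat.Sheaf.IsFlasque ((LocCohZ.sectSuppF U).obj A) := by
  refine ⟨fun {V W} i => (AddCommGrpCat.epi_iff_surjective _).2 fun t => ?_⟩
  let s := LocCohZLib.sSupp U A W.unop t
  let sf : ∀ b : ULift.{u} Bool, A.obj.obj (Opposite.op (cond b.down W.unop (V.unop ⊓ U))) := fun b =>
    match b with
    | ⟨true⟩ => s
    | ⟨false⟩ => 0
  let P : Opens X := ⨆ b : ULift.{u} Bool, cond b.down W.unop (V.unop ⊓ U)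
  have hP : P ≤ V.unop := iSup_le fun ⟨b⟩ => by
    cases b
    · exact inf_le_left
    · exact i.unop.le
  have hWU : QCohBase.res A.obj (inf_le_left : W.unop ⊓ U ≤ W.unop) s = 0 := LocCohZLib.res_sSupp U A t
  have hz : ∀ (O : Opens X) (h1 : O ≤ W.unop), O ≤ U → QCohBase.res A.obj h1 s = 0 := fun O h1 h2 => by
    rw [← QCohBase.res_res A.obj (inf_le_left : W.unop ⊓ U ≤ W.unop) (le_inf h1 h2) s, hWU, map_zero]
  have hc : TopCat.Presheaf.IsCompatible A.obj (fun b : ULift.{u} Bool => cond b.down W.unop (V.unop ⊓ U)) sf := by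
    intro b b'
    rcases b with ⟨_ | _⟩ <;> rcases b' with ⟨_ | _⟩
    · rfl
    · exact (map_zero _).trans (hz _ _ (le_trans inf_le_left inf_le_right)).symm
    · exact (hz _ _ (le_trans inf_le_right inf_le_right)).trans (map_zero _).symm
    · rfl
  obtain ⟨g, hg, -⟩ := TopCat.Sheaf.existsUnique_gluing' A _ P
    (fun b => homOfLE (le_iSup (fun b : ULift.{u} Bool => cond b.down W.unop (V.unop ⊓ U)) b)) le_rfl sf hc
  obtain ⟨g', hg'⟩ := (AddCommGrpCat.epi_iff_surjective _).1
    (TopCat.Presheaf.IsFlasque.epi (F := A.obj) (homOfLE hP).op) g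
  have hF : QCohBase.res A.obj (inf_le_left : V.unop ⊓ U ≤ V.unop) g' = 0 := by
    refine (QCohBase.res_res A.obj hP (le_iSup (fun b : ULift.{u} Bool => cond b.down W.unop (V.unop ⊓ U)) ⟨false⟩) g').symm.trans ?_
    exact (congrArg _ hg').trans (hg ⟨false⟩)
  obtain ⟨t', ht'⟩ := (LocCohZLib.exists_sSupp_iff U A g').2 hF
  refine ⟨t', LocCohZLib.sSupp_injective U A W.unop ?_⟩
  refine (LocCohZLib.sSupp_res U A i.unop.le t').trans ?_
  rw [ht']
  refine (QCohBase.res_res A.obj hP (le_iSup (fun b : ULift.{u} Bool => cond b.down W.unop (V.unop ⊓ U)) ⟨true⟩) g').symm.trans ?_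
  exact (congrArg _ hg').trans (hg ⟨true⟩)

end Groth.Agent.S19245
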