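import Groth.Statements.S19258
import Mathlib.Topology.Instances.AddCircle.Defs
import Mathlib.GroupTheory.Archimedean
import Mathlib.Topology.Order

set_option autoImplicit false
universe u
open PontDual

namespace Groth.Agent.S19258

/-- Let G and G' be abelian groups such that every element of G' has finite order, and let β : G' →
Hom(G, ℚ/ℤ) be an injective homomorphism (equivalently a pairing G' × G → ℚ/ℤ with no left kernel).
Endow G with the weak topology defined by G': the coarsest topology for which every character β(f),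
f ∈ G', is continuous when ℚ/ℤ carries the discrete topology. Then every homomorphism χ : G → ℚ/ℤ
that is continuous for this topology on G and the discrete topology on ℚ/ℤ equals β(f) for some f ∈
G', so that β is a bijection from G' onto the group of continuous characters of G. -/
theorem result
    (G : Type u) (G' : Type u) [AddCommGroup G] [AddCommGroup G'] (hG' : IsAddTorsion G')
    (β : G' →+ (G →+ AddCircle (1 : ℚ))) (hβ : Function.Injective β)
    (χ : G →+ AddCircle (1 : ℚ))
    (hχ : @Continuous G (AddCircle (1 : ℚ)) (⨅ f' : G', TopologicalSpace.induced (fun x : G => β f' x) ⊥) ⊥ χ) :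
    ∃ f' : G', β f' = χ := by
  classical
  let t : ℕ → AddCircle (1 : ℚ) := fun n => ((1 / n : ℚ) : AddCircle (1 : ℚ))
  have tors : ∀ (n : ℕ) (u : AddCircle (1 : ℚ)), 0 < n → n • u = 0 → ∃ m : ℤ, m • t n = u := by
    intro n u hn hu
    obtain ⟨m, -, hm⟩ := (AddCircle.nsmul_eq_zero_iff hn).mp hu
    refine ⟨m, ?_⟩
    rw [← hm, natCast_zsmul, ← AddCircle.coe_nsmul]
    congr 1
    rw [nsmul_eq_mul]; ring
  have single : ∀ (L : AddSubgroup G) (φ ψ : G →+ AddCircle (1 : ℚ)) (N : ℕ), 0 < N →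
      N • φ = 0 → (∀ x ∈ L, φ x = 0 → ψ x = 0) → ∃ m : ℤ, ∀ x ∈ L, ψ x = m • φ x := by
    intro L φ ψ N hN hφ hker
    obtain ⟨k, hk⟩ := Int.subgroup_cyclic ((L.map φ).comap (zmultiplesHom _ (t N)))
    have hkmem : k ∈ (L.map φ).comap (zmultiplesHom _ (t N)) := hk ▸ AddSubgroup.subset_closure rfl
    obtain ⟨g₀, hg₀, hd⟩ := AddSubgroup.mem_map.mp (AddSubgroup.mem_comap.mp hkmem)
    have hN0 : ∀ x, N • φ x = 0 := fun x => by simpa using DFunLike.congr_fun hφ x
    have himg : ∀ x ∈ L, ∃ j : ℤ, φ x = j • φ g₀ := by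
      intro x hx
      obtain ⟨i, hi⟩ := tors N (φ x) hN (hN0 x)
      have : i ∈ (L.map φ).comap (zmultiplesHom _ (t N)) := ⟨x, hx, by simp [hi]⟩
      rw [hk, AddSubgroup.mem_closure_singleton] at this
      obtain ⟨j, rfl⟩ := this
      exact ⟨j, by rw [hd, ← hi, zmultiplesHom_apply, ← mul_zsmul', smul_eq_mul, mul_comm]⟩
    have hn : 0 < addOrderOf (φ g₀) :=
      (isOfFinAddOrder_iff_nsmul_eq_zero.mpr ⟨N, hN, hN0 g₀⟩).addOrderOf_pos
    have ht : addOrderOf (t (addOrderOf (φ g₀))) = addOrderOf (φ g₀) :=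
      AddCircle.addOrderOf_period_div hn
    have hc : addOrderOf (φ g₀) • ψ g₀ = 0 := by
      rw [← map_nsmul]
      exact hker _ (nsmul_mem hg₀ _) (by rw [map_nsmul, addOrderOf_nsmul_eq_zero])
    have heq : AddSubgroup.zmultiples (φ g₀) = AddSubgroup.zmultiples (t (addOrderOf (φ g₀))) := by
      have : Finite (AddSubgroup.zmultiples (t (addOrderOf (φ g₀)))) :=
        Nat.finite_of_card_ne_zero (by rw [Nat.card_zmultiples, ht]; exact hn.ne')
      refine AddSubgroup.eq_of_le_of_card_ge ?_ (by rw [Nat.card_zmultiples, Nat.card_zmultiples, ht])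
      rw [AddSubgroup.zmultiples_le]
      exact AddSubgroup.mem_zmultiples_iff.mpr (tors _ _ hn (addOrderOf_nsmul_eq_zero _))
    obtain ⟨m, hm⟩ := tors _ _ hn hc
    have hmem : ψ g₀ ∈ AddSubgroup.zmultiples (φ g₀) := heq ▸ AddSubgroup.mem_zmultiples_iff.mpr ⟨m, hm⟩
    obtain ⟨m', hm'⟩ := AddSubgroup.mem_zmultiples_iff.mp hmem
    refine ⟨m', fun x hx => ?_⟩
    obtain ⟨j, hj⟩ := himg x hx
    have hz := hker (x - j • g₀) (L.sub_mem hx (L.zsmul_mem hg₀ j)) (by rw [map_sub, map_zsmul, hj, sub_self])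
    rw [map_sub, map_zsmul, sub_eq_zero] at hz
    rw [hz, hj, ← hm', ← mul_zsmul', ← mul_zsmul', mul_comm]
  have main : ∀ (s : Finset G') (ψ : G →+ AddCircle (1 : ℚ)),
      (∀ x, (∀ f ∈ s, β f x = 0) → ψ x = 0) → ∃ f' : G', β f' = ψ := by
    intro s
    induction s using Finset.induction with
    | empty =>
      intro ψ h
      exact ⟨0, by rw [map_zero]; exact (AddMonoidHom.ext fun x => h x (by simp)).symm⟩
    | insert f s _ ih =>
      intro ψ h
      let L : AddSubgroup G :=
        { carrier := {x | ∀ g ∈ s, β g x = 0}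
          add_mem' := fun ha hb g hg => by simp [ha g hg, hb g hg]
          zero_mem' := fun g _ => map_zero _
          neg_mem' := fun ha g hg => by simp [ha g hg] }
      obtain ⟨N, hN, hNf⟩ := isOfFinAddOrder_iff_nsmul_eq_zero.mp (hG' f)
      obtain ⟨m, hm⟩ := single L (β f) ψ N hN (by rw [← map_nsmul, hNf, map_zero]) fun x hx h0 =>
        h x fun g hg => by
          rcases Finset.mem_insert.mp hg with rfl | hg
          exacts [h0, hx g hg]
      obtain ⟨f₁, hf₁⟩ := ih (ψ - m • β f) fun x hx => by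
        rw [AddMonoidHom.sub_apply, AddMonoidHom.zsmul_apply, hm x hx, sub_self]
      exact ⟨f₁ + m • f, by rw [map_add, map_zsmul, hf₁, sub_add_cancel]⟩
  letI : TopologicalSpace (AddCircle (1 : ℚ)) := ⊥
  letI : TopologicalSpace G := ⨅ f' : G', TopologicalSpace.induced (fun x : G => β f' x) ⊥
  have hopen : IsOpen (χ ⁻¹' {0}) := hχ.isOpen_preimage _ trivial
  have hmem : χ ⁻¹' {0} ∈ nhds (0 : G) := hopen.mem_nhds (map_zero χ)
  rw [nhds_iInf, Filter.mem_iInf] at hmem
  obtain ⟨I, hI, V, hV, hVeq⟩ := hmem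
  refine main hI.toFinset χ fun x hx => ?_
  have : x ∈ χ ⁻¹' {0} := by
    rw [hVeq]
    refine Set.mem_iInter.mpr fun i => ?_
    have hi := hV i
    rw [nhds_induced, Filter.mem_comap] at hi
    obtain ⟨W, hW, hsub⟩ := hi
    apply hsub
    show β i x ∈ W
    rw [hx i (hI.mem_toFinset.mpr i.2)]
    have := mem_of_mem_nhds hW
    rwa [map_zero] at this
  exact this


end Groth.Agent.S19258
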