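import Groth.Statements.S19264
import Groth.Agent.WittFilLib.Basic

set_option autoImplicit false
universe u
open WittFil

namespace Groth.Agent.S19264

/-- Let A be a unique factorisation domain of characteristic p, x_1, …, x_r pairwise non-associate prime
elements of A, B = A[1/(x_1⋯x_r)] with u_i the unit of B defined by x_i, n ∈ ℤ^r and m ≥ 0. The
restriction map from truncated p-typical Witt vectors of length m+1 to those of length m over B
(forgetting the last coordinate) maps the filtered piece cut out by ∏ u_i ^ n_i onto the filtered
piece cut out by ∏ u_i ^ ⌊n_i / p⌋; that is, the image is exactly that piece. (The other parts of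
the exact sequence, injectivity of the (m-fold) Verschiebung from the fractional ideal generated by
(∏ u_i ^ n_i)⁻¹ and exactness in the middle, are immediate from the definition and are not restated.
The published setting is a regular local ring; only unique factorisation is used.) -/
theorem result (p : ℕ) [Fact p.Prime] {A B : Type u} [CommRing A] [IsDomain A]
    [UniqueFactorizationMonoid A] [CharP A p] [CommRing B] [Algebra A B] {r : ℕ} (x : Fin r → A)
    (hx : ∀ i, Prime (x i)) (hxa : ∀ i j, Associated (x i) (x j) → i = j)
    [IsLocalization.Away (∏ i, x i) B] (u : Fin r → Bˣ)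
    (hu : ∀ i, (u i : B) = algebraMap A B (x i)) (n : Fin r → ℤ) (m : ℕ) :
    (TruncatedWittVector.truncate (Nat.le_succ m)) '' WittFil.fil p (m + 1) (A := A) (WittFil.zmon u n) =
      WittFil.fil p m (A := A) (WittFil.zmon u (fun i => n i / (p : ℤ))) := by
  have hp : 0 < p := (Fact.out : p.Prime).pos
  have hmon : WittFil.zmon u n = WittFil.zmon u (fun i => n i % (p : ℤ)) *
      WittFil.zmon u (fun i => n i / (p : ℤ)) ^ p := by
    rw [← Groth.Agent.WittFilLib.zmon_nsmul, ← Groth.Agent.WittFilLib.zmon_add]
    congr 1
    funext i
    simp only [Pi.add_apply]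
    exact (Int.emod_add_mul_ediv _ _).symm
  ext a
  constructor
  · rintro ⟨b, hb, rfl⟩ j
    rw [TruncatedWittVector.coeff_truncate]
    have h := hb (Fin.castLE (Nat.le_succ m) j)
    have he : m + 1 - 1 - ((Fin.castLE (Nat.le_succ m) j : Fin (m + 1)) : ℕ) = (m - 1 - (j : ℕ)) + 1 := by
      have := j.2
      simp only [Fin.val_castLE]
      omega
    rw [he, pow_succ, pow_mul] at h
    refine Groth.Agent.WittFilLib.mem_of_pow_mul_zmon' hx hxa u hu hp n ?_
    exact h
  · intro ha
    refine ⟨TruncatedWittVector.mk p (fun j => if h : (j : ℕ) < m then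
      TruncatedWittVector.coeff ⟨j, h⟩ a else 0), ?_, ?_⟩
    · intro j
      rw [TruncatedWittVector.coeff_mk]
      split_ifs with h
      · have he : m + 1 - 1 - (j : ℕ) = (m - 1 - (j : ℕ)) + 1 := by omega
        rw [he, pow_succ, pow_mul, hmon, mul_left_comm, ← mul_pow]
        refine Subring.mul_mem _ ?_ (pow_mem (ha ⟨j, h⟩) _)
        lift (fun i => n i % (p : ℤ)) to Fin r → ℕ using
          fun i => Int.emod_nonneg _ (by omega) with e
        exact ⟨_, (Groth.Agent.WittFilLib.zmon_natCast u hu e).symm⟩
      · rw [zero_pow (pow_pos hp _).ne', zero_mul]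
        exact zero_mem _
    · ext j
      rw [TruncatedWittVector.coeff_truncate, TruncatedWittVector.coeff_mk]
      simp

end Groth.Agent.S19264
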