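import Groth.Statements.S19269
import Mathlib

set_option autoImplicit false
universe u
open CAlg

namespace Groth.Agent.S19269

open IsLocalRing in
/-- Let R be a Noetherian local ring with maximal ideal 𝔪, M a finitely generated R-module and M^ its
𝔪-adic completion, a module over the 𝔪-adic completion R^ of R. Let N' be an R^-submodule of M^ and
N an R-submodule of M whose image in M^ is contained in N' and is dense in N' for the 𝔪-adic
topology, in the sense that for every y in N' and every k there is x in N with y ≡ x modulo the
kernel of M^ → M/𝔪^k M. Then N' equals the image of the completion of N under the map induced by the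
inclusion N → M (so N' is the completion of N), and N is the set of elements of M whose image in M^
lies in N'. -/
theorem result {R : Type u} [CommRing R]
    [IsNoetherianRing R] [IsLocalRing R] {M : Type u} [AddCommGroup M] [Module R M]
    [Module.Finite R M] (N : Submodule R M)
    (N' : Submodule (AdicCompletion (maximalIdeal R) R) (AdicCompletion (maximalIdeal R) M))
    (hle : ∀ x ∈ N, AdicCompletion.of (maximalIdeal R) M x ∈ N')
    (hdense : ∀ y ∈ N', ∀ k : ℕ, ∃ x ∈ N,
      AdicCompletion.eval (maximalIdeal R) M k y = Submodule.Quotient.mk x) :
    (N'.restrictScalars R =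
        (LinearMap.range (AdicCompletion.map (maximalIdeal R) N.subtype)).restrictScalars R) ∧
      (∀ x : M, x ∈ N ↔ AdicCompletion.of (maximalIdeal R) M x ∈ N') := by
  have hexact : Function.Exact (AdicCompletion.map (maximalIdeal R) N.subtype) (AdicCompletion.map (maximalIdeal R) N.mkQ) :=
    AdicCompletion.map_exact N.injective_subtype (LinearMap.exact_subtype_mkQ N) N.mkQ_surjective
  have hle' : ∀ z, AdicCompletion.map (maximalIdeal R) N.subtype z ∈ N' := by
    intro z
    obtain ⟨w, rfl⟩ := AdicCompletion.ofTensorProduct_surjective_of_finite (maximalIdeal R) N z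
    induction w using TensorProduct.induction_on with
    | zero => simp only [map_zero]; exact zero_mem _
    | add a b ha hb => rw [map_add, map_add]; exact add_mem ha hb
    | tmul r x =>
      rw [AdicCompletion.ofTensorProduct_tmul, map_smul, AdicCompletion.map_of]
      exact N'.smul_mem r (hle _ x.2)
  have hzero : ∀ y ∈ N', AdicCompletion.map (maximalIdeal R) N.mkQ y = 0 := by
    intro y hy
    refine AdicCompletion.ext fun k => ?_
    obtain ⟨x, hx, he⟩ := hdense y hy k
    rw [AdicCompletion.map_val_apply]
    show _ = (0 : _)
    have he' : y.val k = Submodule.Quotient.mk x := he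
    rw [he']
    simp [(Submodule.Quotient.mk_eq_zero N).mpr hx]
  refine ⟨le_antisymm (fun y hy => ?_) (fun y hy => ?_), fun x => ⟨fun hx => hle x hx, fun hx => ?_⟩⟩
  · obtain ⟨z, rfl⟩ := (hexact y).mp (hzero y hy)
    exact ⟨z, rfl⟩
  · obtain ⟨z, rfl⟩ := hy
    exact hle' z
  · have h0 := hzero _ hx
    rw [AdicCompletion.map_of] at h0
    rw [← Submodule.Quotient.mk_eq_zero N]
    refine IsHausdorff.haus (inferInstance : IsHausdorff (maximalIdeal R) (M ⧸ N)) _ fun n => ?_
    have h1 := congrArg (fun z => z.val n) h0
    rw [SModEq.zero, ← Submodule.Quotient.mk_eq_zero]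
    simpa using h1

end Groth.Agent.S19269
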