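import Groth.Statements.S19270
import Mathlib
import Groth.Agent.SymGr.Field

set_option autoImplicit false
universe u
open CAlg

namespace Groth.Agent.S19270

open TensorProduct in
theorem linearIndependent_tmul_D (Λ : Type u) {A : Type u} [Field Λ] [PerfectField Λ] [CommRing A]
    [IsRegularLocalRing A] [Algebra Λ A] {N : ℕ} (x : Fin N → A)
    (hx : Ideal.span (Set.range x) = IsLocalRing.maximalIdeal A)
    (hN : ringKrullDim A = (N : WithBot ℕ∞)) :
    LinearIndependent (IsLocalRing.ResidueField A)
      (fun i => (1 : IsLocalRing.ResidueField A) ⊗ₜ[A] KaehlerDifferential.D ℤ A (x i)) := by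
  classical
  let k := IsLocalRing.ResidueField A
  have : IsScalarTower Λ A k := inferInstance
  have : Algebra.FormallySmooth Λ k := Groth.Agent.SymGr.formallySmooth_of_perfect
  let sq := (IsScalarTower.toAlgHom Λ A k).kerSquareLift
  have hsq : Function.Surjective sq := fun y => by
    obtain ⟨a, rfl⟩ := IsLocalRing.residue_surjective (R := A) y
    exact ⟨Ideal.Quotient.mk _ a, rfl⟩
  have hnil : IsNilpotent (RingHom.ker sq.toRingHom) := ⟨2, by
    rw [AlgHom.ker_kerSquareLift]
    exact Ideal.cotangentIdeal_square _⟩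
  obtain ⟨l, hl⟩ := (retractionKerCotangentToTensorEquivSection (R := Λ) (P := A) (S := k)
    IsLocalRing.residue_surjective).symm ⟨Algebra.FormallySmooth.liftOfSurjective (AlgHom.id Λ k) sq hsq hnil,
      Algebra.FormallySmooth.comp_liftOfSurjective _ _ hsq hnil⟩
  rw [Fintype.linearIndependent_iff]
  intro c hc
  choose a ha using fun i => IsLocalRing.residue_surjective (c i)
  have hxm : ∀ i, x i ∈ IsLocalRing.maximalIdeal A := fun i => hx ▸ Ideal.subset_span ⟨i, rfl⟩
  let Φ : Ω[A⁄ℤ] →ₗ[A] Ω[A⁄Λ] := KaehlerDifferential.map ℤ Λ A A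
  have hc' : ∑ i, c i • ((1 : k) ⊗ₜ[A] KaehlerDifferential.D Λ A (x i)) = 0 := by
    have h := congrArg (Φ.baseChange k) hc
    rw [map_sum, map_zero] at h
    rw [← h]
    refine Finset.sum_congr rfl fun i _ => ?_
    rw [map_smul, LinearMap.baseChange_tmul, KaehlerDifferential.map_D, Algebra.algebraMap_self, RingHom.id_apply]
  have hmem : ∑ i, a i * x i ∈ RingHom.ker (algebraMap A k) := by
    rw [show RingHom.ker (algebraMap A k) = IsLocalRing.maximalIdeal A from IsLocalRing.ker_residue]
    exact Ideal.sum_mem _ fun i _ => Ideal.mul_mem_left _ _ (hxm i)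
  have hxk : ∀ i, x i ∈ RingHom.ker (algebraMap A k) := fun i => by
    rw [show RingHom.ker (algebraMap A k) = IsLocalRing.maximalIdeal A from IsLocalRing.ker_residue]
    exact hxm i
  have h0 : (RingHom.ker (algebraMap A k)).toCotangent ⟨_, hmem⟩ = 0 := by
    have h1 : (RingHom.ker (algebraMap A k)).toCotangent ⟨_, hmem⟩ =
        ∑ i, a i • (RingHom.ker (algebraMap A k)).toCotangent ⟨x i, hxk i⟩ := by
      simp only [← map_smul, ← map_sum]
      congr 1; ext; simp
    have h2 : KaehlerDifferential.kerCotangentToTensor Λ A k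
        ((RingHom.ker (algebraMap A k)).toCotangent ⟨_, hmem⟩) = 0 := by
      rw [h1, map_sum]
      simp only [map_smul, KaehlerDifferential.kerCotangentToTensor_toCotangent]
      rw [← hc']
      refine Finset.sum_congr rfl fun i _ => ?_
      rw [← ha i, ← IsLocalRing.ResidueField.algebraMap_eq, algebraMap_smul]
    have := LinearMap.congr_fun hl ((RingHom.ker (algebraMap A k)).toCotangent ⟨_, hmem⟩)
    rw [LinearMap.comp_apply, h2, map_zero] at this
    exact this.symm
  rw [Ideal.toCotangent_eq_zero] at h0
  have h0' : ∑ i, a i * x i ∈ IsLocalRing.maximalIdeal A ^ 2 := by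
    have e : RingHom.ker (algebraMap A k) = IsLocalRing.maximalIdeal A := IsLocalRing.ker_residue
    rw [← e]; exact h0
  let v : Fin N → IsLocalRing.CotangentSpace A :=
    fun i => (IsLocalRing.maximalIdeal A).toCotangent ⟨x i, hxm i⟩
  have hspan : ⊤ ≤ Submodule.span k (Set.range v) := by
    rintro y -
    obtain ⟨⟨z, hz⟩, rfl⟩ := (IsLocalRing.maximalIdeal A).toCotangent_surjective y
    obtain ⟨b, rfl⟩ := Submodule.mem_span_range_iff_exists_fun A |>.mp (hx ▸ hz : z ∈ Ideal.span (Set.range x))
    rw [show (⟨∑ i, b i • x i, hz⟩ : IsLocalRing.maximalIdeal A) = ∑ i, b i • (⟨x i, hxm i⟩ : IsLocalRing.maximalIdeal A) from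
      Subtype.ext (by simp), map_sum]
    refine Submodule.sum_mem _ fun i _ => ?_
    rw [map_smul, ← algebraMap_smul k (b i)]
    exact Submodule.smul_mem _ _ (Submodule.subset_span ⟨i, rfl⟩)
  have hcard : Fintype.card (Fin N) = Module.finrank k (IsLocalRing.CotangentSpace A) := by
    rw [Fintype.card_fin, ← IsLocalRing.spanFinrank_maximalIdeal_eq_finrank_cotangentSpace]
    have := (IsRegularLocalRing.spanFinrank_maximalIdeal (R := A)).trans hN
    exact_mod_cast this.symm
  have hind := linearIndependent_of_top_le_span_of_card_eq_finrank hspan hcard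
  refine Fintype.linearIndependent_iff.mp hind c ?_
  rw [← map_zero (IsLocalRing.maximalIdeal A).toCotangent]
  have : ∑ i, c i • v i = (IsLocalRing.maximalIdeal A).toCotangent
      ⟨∑ i, a i * x i, Ideal.sum_mem _ fun i _ => Ideal.mul_mem_left _ _ (hxm i)⟩ := by
    rw [show (⟨∑ i, a i * x i, _⟩ : IsLocalRing.maximalIdeal A) = ∑ i, a i • (⟨x i, hxm i⟩ : IsLocalRing.maximalIdeal A) from
      Subtype.ext (by simp), map_sum]
    refine Finset.sum_congr rfl fun i _ => ?_
    rw [map_smul, ← algebraMap_smul k (a i), IsLocalRing.ResidueField.algebraMap_eq, ha]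
  rw [this, map_zero, Ideal.toCotangent_eq_zero]
  exact h0'

open IsLocalRing in
/-- Let A be a regular local ring of prime characteristic p, of Krull dimension N, with maximal ideal
generated by x_1, …, x_N, and assume that the module Ω_A of absolute Kähler differentials of A
(differentials relative to ℤ, equivalently relative to the prime field) is a free A-module of finite
rank. Then dx_1, …, dx_N are part of a basis of Ω_A: there exist a basis b of Ω_A and an injection e
of the indices 1, …, N into the index type of b with b (e i) = d(x_i) for all i. (In the published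
statement A is a regular local F-finite algebra over the prime field and the freeness and finiteness
of Ω_A form the first assertion, taken there from the literature; here they are hypotheses.) -/
theorem result (p : ℕ) [Fact p.Prime]
    {A : Type u} [CommRing A] [IsRegularLocalRing A] [CharP A p]
    [Module.Free A (KaehlerDifferential ℤ A)] [Module.Finite A (KaehlerDifferential ℤ A)]
    {N : ℕ} (x : Fin N → A) (hx : Ideal.span (Set.range x) = maximalIdeal A)
    (hN : ringKrullDim A = (N : WithBot ℕ∞)) :
    ∃ (ι : Type u) (b : Module.Basis ι A (KaehlerDifferential ℤ A)) (e : Fin N ↪ ι),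
      ∀ i : Fin N, b (e i) = KaehlerDifferential.D ℤ A (x i) := by
  classical
  open TensorProduct in
  letI : Field (ULift.{u} (ZMod p)) := ULift.field
  letI : Algebra (ULift.{u} (ZMod p)) A :=
    ((ZMod.castHom (dvd_refl p) A).comp ULift.ringEquiv.toRingHom).toAlgebra
  have : PerfectField (ULift.{u} (ZMod p)) := PerfectField.ofFinite
  have hind := linearIndependent_tmul_D (ULift.{u} (ZMod p)) x hx hN
  let B := Module.Basis.sumExtend hind
  choose w hw using fun j => TensorProduct.mk_surjective A (Ω[A⁄ℤ]) (IsLocalRing.ResidueField A)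
    IsLocalRing.residue_surjective (B (Sum.inr j))
  let v : Fin N ⊕ Module.Basis.sumExtendIndex hind → Ω[A⁄ℤ] :=
    Sum.elim (fun i => KaehlerDifferential.D ℤ A (x i)) w
  have hv : ∀ j, (1 : IsLocalRing.ResidueField A) ⊗ₜ[A] v j = B j := by
    rintro (i | j)
    · change (1 : IsLocalRing.ResidueField A) ⊗ₜ[A] KaehlerDifferential.D ℤ A (x i) = _
      simp [B, Module.Basis.sumExtend]
      rfl
    · exact hw j
  have hli : LinearIndependent (IsLocalRing.ResidueField A)
      (TensorProduct.mk A (IsLocalRing.ResidueField A) (Ω[A⁄ℤ]) 1 ∘ v) := by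
    have e : TensorProduct.mk A (IsLocalRing.ResidueField A) (Ω[A⁄ℤ]) 1 ∘ v = B := funext hv
    rw [e]; exact B.linearIndependent
  refine ⟨_, Module.Basis.mk (Module.IsLocalRing.linearIndependent_of_flat v hli)
    (IsLocalRing.span_eq_top_of_tmul_eq_basis v B hv).ge, Function.Embedding.inl, fun i => ?_⟩
  simp [v]

end Groth.Agent.S19270
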