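import Groth.Statements.S19272
import Groth.Agent.WittFilLib.Basic

set_option autoImplicit false
universe u
open WittFil

namespace Groth.Agent.S19272

/-- Let A be a unique factorisation domain of characteristic p, x_1, …, x_r pairwise non-associate prime
elements of A, B = A[1/(x_1⋯x_r)] with u_i the unit of B defined by x_i, m ≥ 0, and n ∈ ℤ^r with n_i
< 0 for every i. Then every truncated p-typical Witt vector of length m over B lying in the filtered
piece cut out by ∏ u_i ^ n_i (every coordinate y_j has y_j ^ (p ^ (m−1−j)) · ∏ u_i ^ n_i in the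
image of A) has all its coordinates in the image of the ideal (x_1⋯x_r)·A. (The published item,
stated for the filtered de Rham–Witt pieces in all degrees over a regular local ring, says only that
such vectors have all coordinates in A; this row states the divisibility of every coordinate by
x_1⋯x_r that its proof establishes, in degree zero, for a unique factorisation domain in place of a
regular local ring.) -/
theorem result (p : ℕ) [Fact p.Prime] {A B : Type u} [CommRing A] [IsDomain A]
    [UniqueFactorizationMonoid A] [CharP A p] [CommRing B] [Algebra A B] {r : ℕ} (x : Fin r → A)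
    (hx : ∀ i, Prime (x i)) (hxa : ∀ i j, Associated (x i) (x j) → i = j)
    [IsLocalization.Away (∏ i, x i) B] (u : Fin r → Bˣ)
    (hu : ∀ i, (u i : B) = algebraMap A B (x i)) (m : ℕ) (n : Fin r → ℤ) (hn : ∀ i, n i < 0)
    (a : TruncatedWittVector p m B) (ha : a ∈ WittFil.fil p m (A := A) (WittFil.zmon u n))
    (j : Fin m) :
    ∃ b : A, TruncatedWittVector.coeff j a = algebraMap A B ((∏ i, x i) * b) := by
  have hp : 0 < p := (Fact.out : p.Prime).pos
  set N := p ^ (m - 1 - (j : ℕ)) with hN
  have hNpos : 0 < N := pow_pos hp _
  obtain ⟨c, hc⟩ := ha j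
  have hinv : WittFil.zmon u (fun i => ((-n i).toNat : ℤ)) * WittFil.zmon u n = 1 := by
    rw [← Groth.Agent.WittFilLib.zmon_add]
    have : ((fun i => ((-n i).toNat : ℤ)) + n) = fun _ => (0 : ℤ) := by
      funext i
      have := hn i
      simp only [Pi.add_apply]
      omega
    rw [this]
    simp [WittFil.zmon]
  have hy : TruncatedWittVector.coeff j a ^ N =
      algebraMap A B (c * ∏ i, x i ^ (-n i).toNat) := by
    rw [map_mul, hc, ← Groth.Agent.WittFilLib.zmon_natCast u hu, mul_assoc,
      mul_comm (WittFil.zmon u n), hinv, mul_one]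
  obtain ⟨w, hw⟩ := Groth.Agent.WittFilLib.rootClosed_away hx _ N hNpos ⟨_, hy.symm⟩
  have h2 : w ^ N = c * ∏ i, x i ^ (-n i).toNat := by
    apply IsLocalization.injective B (Groth.Agent.WittFilLib.prod_le_nonZeroDivisors hx)
    rw [map_pow, hw, hy]
  obtain ⟨b, rfl⟩ := Groth.Agent.WittFilLib.prod_dvd_of_forall hx hxa (a := w) fun i =>
    (hx i).dvd_of_dvd_pow (n := N) (by
      rw [h2]
      refine Dvd.dvd.mul_left ((dvd_pow_self _ ?_).trans
        (Finset.dvd_prod_of_mem (fun i => x i ^ (-n i).toNat) (Finset.mem_univ i))) _
      have := hn i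
      omega)
  exact ⟨b, hw.symm⟩

end Groth.Agent.S19272
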