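import Groth.Statements.S19274
import Groth.Agent.WittFilLib.Basic

set_option autoImplicit false
universe u
open WittFil

namespace Groth.Agent.S19274

/-- Let A be a unique factorisation domain of characteristic p, x a prime element of A, B = A[1/x] with
u the unit of B defined by x, m ≥ 1, and n an integer NOT divisible by p^m. For e in B and k ≥ 0
write fil_k(e) for the set of truncated p-typical Witt vectors of length k over B whose j-th
coordinate y_j satisfies y_j ^ (p ^ (k−1−j)) · e ∈ A for all j < k (the filtered piece; fil_k(u^n)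
is the piece of index n). Then fil_{m+1}(u^n) is contained in fil_{m+1}(u^(n−1)) + V(fil_m(u^n))
(the reverse inclusion is immediate): every a in fil_{m+1}(u^n) can be written a = b + V(y) with b
in fil_{m+1}(u^(n−1)) and y a Witt vector over B whose length-m truncation lies in fil_m(u^n), V(y)
being truncated to length m+1. (In the source A is a henselian discrete valuation ring, n = p^r·l >
1 with p not dividing l, and the condition reads m ≥ r + 1.) -/
theorem result (p : ℕ) [Fact p.Prime]
    {A B : Type u} [CommRing A] [IsDomain A] [UniqueFactorizationMonoid A] [CharP A p]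
    [CommRing B] [Algebra A B] (x : A) (hx : Prime x) [IsLocalization.Away x B] (u : Bˣ)
    (hu : (u : B) = algebraMap A B x) (m : ℕ) (hm : 0 < m) (n : ℤ) (hn : ¬ ((p : ℤ) ^ m ∣ n)) :
    ∀ a ∈ WittFil.fil p (m + 1) (A := A) ((u ^ n : Bˣ) : B),
      ∃ b ∈ WittFil.fil p (m + 1) (A := A) ((u ^ (n - 1) : Bˣ) : B),
        ∃ y : WittVector p B,
          WittVector.truncate m y ∈ WittFil.fil p m (A := A) ((u ^ n : Bˣ) : B) ∧
            a = b + WittVector.truncate (m + 1) (WittVector.verschiebung y) := by
  have hx' : ∀ i : Fin 1, Prime ((fun _ => x) i) := fun _ => hx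
  have hxa : ∀ i j : Fin 1, Associated ((fun _ => x) i) ((fun _ => x) j) → i = j :=
    fun i j _ => Subsingleton.elim i j
  haveI : IsLocalization.Away (∏ i : Fin 1, (fun _ => x) i) B := by simpa using ‹IsLocalization.Away x B›
  have hu' : ∀ i : Fin 1, (((fun _ => u) i : Bˣ) : B) = algebraMap A B ((fun _ => x) i) := fun _ => hu
  have hz : ∀ k : ℤ, WittFil.zmon (fun _ : Fin 1 => u) (fun _ => k) = ((u ^ k : Bˣ) : B) := by
    intro k; simp [WittFil.zmon]
  intro a ha
  have hp : 0 < p := (Fact.out : p.Prime).pos
  obtain ⟨y, rfl⟩ := WittVector.truncate_surjective p (m + 1) B a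
  have h0 := ha ⟨0, by omega⟩
  rw [WittVector.coeff_truncate] at h0
  simp only [Nat.add_sub_cancel, Nat.sub_zero] at h0
  set N := p ^ m with hN
  have hNpos : 0 < N := pow_pos hp m
  have h1 := Groth.Agent.WittFilLib.mem_of_pow_mul_zmon' hx' hxa (fun _ => u) hu' hNpos
    (fun _ => n) (by rw [hz]; exact h0)
  rw [hz] at h1
  have hr0 : 0 < n % (N : ℤ) := by
    refine lt_of_le_of_ne (Int.emod_nonneg _ (by omega)) fun h => hn ?_
    have := Int.dvd_of_emod_eq_zero h.symm
    exact_mod_cast this
  have hlow : y.coeff 0 ^ N * ((u ^ (n - 1) : Bˣ) : B) ∈ (algebraMap A B).range := by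
    have : ((u ^ (n - 1) : Bˣ) : B) =
        ((u ^ (n / (N : ℤ)) : Bˣ) : B) ^ N * algebraMap A B (x ^ (n % (N : ℤ) - 1).toNat) := by
      rw [map_pow, ← hu, ← Units.val_pow_eq_pow_val, ← Units.val_pow_eq_pow_val, ← Units.val_mul,
        ← zpow_natCast, ← zpow_natCast u, ← zpow_mul, ← zpow_add]
      congr 2
      have := Int.emod_add_mul_ediv n (N : ℤ)
      have h2 : ((n % (N : ℤ) - 1).toNat : ℤ) = n % (N : ℤ) - 1 := by omega
      rw [h2, mul_comm]
      omega
    rw [this, ← mul_assoc, ← mul_pow]
    exact Subring.mul_mem _ (pow_mem h1 _) ⟨_, rfl⟩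
  refine ⟨WittVector.truncate (m + 1) (WittVector.teichmuller p (y.coeff 0)), ?_,
    WittVector.mk p (fun i => y.coeff (i + 1)), ?_, ?_⟩
  · intro j
    rw [WittVector.coeff_truncate]
    obtain ⟨_ | k, hk⟩ := j
    · rw [WittVector.teichmuller_coeff_zero]
      simp only [Nat.add_sub_cancel, Nat.sub_zero]
      exact hlow
    · rw [WittVector.teichmuller_coeff_pos _ _ _ (Nat.succ_pos _), zero_pow (pow_pos hp _).ne',
        zero_mul]
      exact zero_mem _
  · intro j
    rw [WittVector.coeff_truncate, WittVector.coeff_mk]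
    have h := ha j.succ
    rw [WittVector.coeff_truncate] at h
    simp only [Fin.val_succ, show m + 1 - 1 - ((j : ℕ) + 1) = m - 1 - (j : ℕ) by omega] at h
    exact h
  · rw [← map_add]
    congr 1
    ext k
    rw [WittVector.coeff_add_of_disjoint]
    · rcases k with _ | k
      · rw [WittVector.teichmuller_coeff_zero, WittVector.verschiebung_coeff_zero, add_zero]
      · rw [WittVector.teichmuller_coeff_pos _ _ _ (Nat.succ_pos _),
          WittVector.verschiebung_coeff_succ, WittVector.coeff_mk, zero_add]
    · intro i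
      rcases i with _ | i
      · exact Or.inr (WittVector.verschiebung_coeff_zero _)
      · exact Or.inl (WittVector.teichmuller_coeff_pos _ _ _ (Nat.succ_pos _))

end Groth.Agent.S19274
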