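import Groth.Statements.S19276
import Groth.Agent.GrpAlgCyc.Basic

set_option autoImplicit false
universe u v
open GrpAlg

namespace Groth.Agent.S19276

/-- Let `A` be a finite commutative group and `Λ` a commutative ring in which the order of `A` is
invertible. Then the ring homomorphism from the group ring `Λ[A]` to the product, over the subgroups
`B` of `A` with cyclic quotient, of the cyclotomic quotients `Λ[A ⧸ B]/(Φ_{|A/B|})`, each component
induced by `A → A/B`, is bijective. (In terms of group schemes: `Λ[A]` is the representation ring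
with coefficients in `Λ` of the finite diagonalizable group with character group `A`, the factors
are indexed by its dual cyclic subgroups, i.e. those isomorphic to some `μ_n`, and the components
are restriction followed by the cyclotomic quotient. The published statement takes `Λ = ℤ[1/|A|]`;
here `Λ` is any commutative ring in which `|A|` is invertible.) -/
theorem result (Λ : Type u) [CommRing Λ] (A : Type v)
    [AddCommGroup A] [Finite A] (hA : IsUnit ((Nat.card A : ℕ) : Λ)) :
    Function.Bijective (RingHom.pi fun B : {B : AddSubgroup A // IsAddCyclic (A ⧸ B)} =>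
      W4c6equivkfinstab.cycQuotMap Λ A B.1) := by
  have hu : IsUnit (((⊥ : AddSubgroup A).index : ℕ) : Λ) := by rwa [AddSubgroup.index_bot]
  constructor
  · rw [injective_iff_map_eq_zero]
    intro x hx
    have h0 : W4c6equivkfinstab.quotMap Λ A ⊥ x = 0 :=
      Groth.Agent.GrpAlgCyc.mem_ker_quotMap hu fun B _ hB =>
        Submodule.mem_sup_right (RingHom.mem_ker.2 (congrFun hx ⟨B, hB⟩))
    refine (Submodule.mem_bot (AddMonoidAlgebra Λ A)).1
      (Ideal.span_le.2 ?_ (Groth.Agent.GrpAlgCyc.ker_quotMap_le ⊥ (RingHom.mem_ker.2 h0)))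
    rintro _ ⟨⟨b, hb⟩, rfl⟩
    obtain rfl : b = 0 := AddSubgroup.mem_bot.1 hb
    simp [← AddMonoidAlgebra.one_def]
  · intro z
    have hz : ∀ B, ∃ x, W4c6equivkfinstab.cycQuotMap Λ A B.1 x = z B := fun B =>
      Groth.Agent.GrpAlgCyc.cycQuotMap_surjective B.1 (z B)
    choose xB hxB using hz
    obtain ⟨x, hx⟩ := Groth.Agent.GrpAlgCyc.exists_forall_sub_mem hu
      (fun B : {B : AddSubgroup A // ⊥ ≤ B ∧ IsAddCyclic (A ⧸ B)} => xB ⟨B.1, B.2.2⟩)
    refine ⟨x, funext fun B => ?_⟩
    have h := hx ⟨B.1, bot_le, B.2⟩
    rw [RingHom.mem_ker, map_sub, sub_eq_zero] at h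
    exact h.trans (hxB B)

end Groth.Agent.S19276
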