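import Groth.Statements.S19279
import Groth.Agent.GrpAlgCyc.Basic

set_option autoImplicit false
universe u v
open GrpAlg

namespace Groth.Agent.S19279

/-- Let `M` be a commutative group, `B₀` a subgroup of finite index and `Λ` a commutative ring in which
the index of `B₀` is invertible. Then the `Λ[M]`-linear map from `Λ[M ⧸ B₀]` to the product, over
the subgroups `B ⊇ B₀` with `M ⧸ B` cyclic, of the localizations of `Λ[M ⧸ B₀]` at the
multiplicative subsets of `Λ[M]` of elements with image `1` in `Λ[M ⧸ B]/(Φ_{|M/B|})`, with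
components the localization maps, is bijective. (In terms of group schemes: for a finite closed
subgroup T' = D(M/B₀) of the diagonalizable group with character group `M`, the representation ring
of T' with coefficients in `Λ` is the product of its localizations at the dual cyclic subgroups of
T'. The published statement has a split torus and `Λ = ℤ[1/|T'|]`; here `M` is any commutative group
and `Λ` any commutative ring in which the order of T' is invertible.) -/
theorem result (Λ : Type u) [CommRing Λ]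
    (M : Type v) [AddCommGroup M] (B₀ : AddSubgroup M) [B₀.FiniteIndex]
    (hu : IsUnit ((B₀.index : ℕ) : Λ)) :
    Function.Bijective (LinearMap.pi (R := AddMonoidAlgebra Λ M)
      fun B : {B : AddSubgroup M // B₀ ≤ B ∧ IsAddCyclic (M ⧸ B)} =>
        LocalizedModule.mkLinearMap (W4c6equivkfinstab.locSubmonoid Λ M B.1)
          (AddMonoidAlgebra Λ (M ⧸ B₀))) := by
  classical
  have hmem : ∀ (x : AddMonoidAlgebra Λ M), (∀ B : {B : AddSubgroup M // B₀ ≤ B ∧ IsAddCyclic (M ⧸ B)},
      x ∈ RingHom.ker (W4c6equivkfinstab.quotMap Λ M B₀) ⊔ RingHom.ker (W4c6equivkfinstab.cycQuotMap Λ M B.1)) →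
      W4c6equivkfinstab.quotMap Λ M B₀ x = 0 := fun x hx =>
    Groth.Agent.GrpAlgCyc.mem_ker_quotMap hu fun B h1 h2 => hx ⟨B, h1, h2⟩
  have hkill : ∀ (B : {B : AddSubgroup M // B₀ ≤ B ∧ IsAddCyclic (M ⧸ B)}) (y : AddMonoidAlgebra Λ M),
      y ∈ RingHom.ker (W4c6equivkfinstab.cycQuotMap Λ M B.1) →
      ∃ u : W4c6equivkfinstab.locSubmonoid Λ M B.1, W4c6equivkfinstab.quotMap Λ M B₀ ((u : AddMonoidAlgebra Λ M) * y) = 0 := by
    intro B y hy
    obtain ⟨e, he⟩ := Groth.Agent.GrpAlgCyc.exists_forall_sub_mem hu (fun B' => if B' = B then 1 else 0)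
    refine ⟨⟨e, ?_⟩, hmem _ fun B' => Submodule.mem_sup_right ?_⟩
    · have h := he B
      rw [if_pos rfl, RingHom.mem_ker, map_sub, map_one, sub_eq_zero] at h
      exact h
    · have h := he B'
      by_cases hB : B' = B
      · subst hB
        exact Ideal.mul_mem_left _ _ hy
      · rw [if_neg hB, sub_zero] at h
        exact Ideal.mul_mem_right _ _ h
  constructor
  · rw [injective_iff_map_eq_zero]
    intro m hm
    obtain ⟨x, rfl⟩ := Groth.Agent.GrpAlgCyc.quotMap_surjective B₀ m
    refine hmem x fun B => ?_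
    have h : LocalizedModule.mk (W4c6equivkfinstab.quotMap Λ M B₀ x) (1 : W4c6equivkfinstab.locSubmonoid Λ M B.1) = 0 :=
      congrFun hm B
    rw [← LocalizedModule.zero_mk (1 : W4c6equivkfinstab.locSubmonoid Λ M B.1), LocalizedModule.mk_eq] at h
    obtain ⟨u, hu'⟩ := h
    simp only [one_smul, smul_zero] at hu'
    have h1 : (u : AddMonoidAlgebra Λ M) * x ∈ RingHom.ker (W4c6equivkfinstab.quotMap Λ M B₀) := by
      rw [RingHom.mem_ker, map_mul]
      rw [Submonoid.smul_def, Algebra.smul_def] at hu'
      exact hu'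
    have h2 : (1 - (u : AddMonoidAlgebra Λ M)) * x ∈ RingHom.ker (W4c6equivkfinstab.cycQuotMap Λ M B.1) := by
      rw [RingHom.mem_ker, map_mul, map_sub, map_one, u.2, sub_self, zero_mul]
    have h3 := Submodule.add_mem_sup h1 h2
    rwa [← add_mul, add_sub_cancel, one_mul] at h3
  · intro z
    have hz : ∀ B, ∃ x, z B = LocalizedModule.mk (W4c6equivkfinstab.quotMap Λ M B₀ x) 1 := by
      intro B
      induction z B using LocalizedModule.induction_on with
      | h m s =>
        obtain ⟨x, rfl⟩ := Groth.Agent.GrpAlgCyc.quotMap_surjective B₀ m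
        refine ⟨x, LocalizedModule.mk_eq.2 ?_⟩
        obtain ⟨u, hu'⟩ := hkill B (((s : AddMonoidAlgebra Λ M) - 1) * x) (Ideal.mul_mem_right _ _ (by
          rw [RingHom.mem_ker, map_sub, map_one, s.2, sub_self]))
        refine ⟨u, ?_⟩
        simp only [one_smul, Submonoid.smul_def, Algebra.smul_def]
        show W4c6equivkfinstab.quotMap Λ M B₀ _ * _ = W4c6equivkfinstab.quotMap Λ M B₀ _ * (W4c6equivkfinstab.quotMap Λ M B₀ _ * _)
        rw [sub_mul, one_mul, mul_sub, map_sub, map_mul, map_mul, map_mul, sub_eq_zero] at hu'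
        exact hu'.symm
    choose xB hxB using hz
    obtain ⟨x, hx⟩ := Groth.Agent.GrpAlgCyc.exists_forall_sub_mem hu xB
    refine ⟨W4c6equivkfinstab.quotMap Λ M B₀ x, funext fun B => ?_⟩
    rw [hxB B]
    show LocalizedModule.mk _ _ = _
    obtain ⟨u, hu'⟩ := hkill B _ (hx B)
    refine LocalizedModule.mk_eq.2 ⟨u, ?_⟩
    simp only [one_smul, Submonoid.smul_def, Algebra.smul_def]
    show W4c6equivkfinstab.quotMap Λ M B₀ _ * _ = W4c6equivkfinstab.quotMap Λ M B₀ _ * _
    rw [mul_sub, map_sub, map_mul, map_mul, sub_eq_zero] at hu'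
    exact hu'

end Groth.Agent.S19279
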