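import Groth.Statements.S19281
import Groth.Agent.GrpSch.DiagGLDescend

set_option autoImplicit false
universe u
open CategoryTheory MonoidalCategory CartesianMonoidalCategory MonObj GrpObj AlgebraicGeometry
open AlgGrp

namespace Groth.Agent.S19281

/-- Let `k` be a field with an algebraic closure `K`, `m ≥ 0`, `n > 0`, and let `σ'` be a closed
subgroup scheme of the base change of `GL_{m,k}` to `K` which is isomorphic as a `K`-group scheme to
`μ_n = D(ℤ/n)`. Then there are a closed subgroup scheme `σ` of `GL_{m,k}` isomorphic to `μ_n` over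
`k`, a `K`-point `g` of `GL_m` and an isomorphism `σ' ≅ σ_K` through which conjugation by `g`
carries the inclusion of `σ'` to the base change of the inclusion of `σ`. (This is the second
rationality condition, stated for all dual cyclic subgroups rather than only for those with a fixed
point on a given algebraic space, which is what the printed argument establishes and which gives the
printed statement for every action of `GL_m`.) -/
theorem result (k : Type u) [Field k]
    (K : Type u) [Field K] [Algebra k K] [IsAlgClosure k K] (m n : ℕ) (hn : 0 < n)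
    (σ' : Over (Spec (CommRingCat.of K))) [GrpObj σ']
    (i' : σ' ⟶ Red.bc (Spec.map (CommRingCat.ofHom (algebraMap k K))) (CoactBr.sp k (CoordGrp.GLn m k)))
    [IsMonHom i'] (hi' : IsClosedImmersion i'.left) (hσ' : Red.IsSplitTorusWith (ZMod n) σ') :
    ∃ (σ : Over (Spec (CommRingCat.of k))) (_ : GrpObj σ) (i : σ ⟶ CoactBr.sp k (CoordGrp.GLn m k))
      (_ : IsMonHom i), IsClosedImmersion i.left ∧ Red.IsSplitTorusWith (ZMod n) σ ∧
      ∃ (g : 𝟙_ (Over (Spec (CommRingCat.of K))) ⟶
          Red.bc (Spec.map (CommRingCat.ofHom (algebraMap k K))) (CoactBr.sp k (CoordGrp.GLn m k)))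
        (φ : σ' ≅ Red.bc (Spec.map (CommRingCat.ofHom (algebraMap k K))) σ),
        AGF.conjBy g i' = φ.hom ≫ (Over.pullback (Spec.map (CommRingCat.ofHom (algebraMap k K)))).map i := by
  haveI : NeZero n := ⟨hn.ne'⟩
  obtain ⟨eσ⟩ := hσ'
  obtain ⟨c, hc, y, hy⟩ := Groth.Agent.GrpSch.DiagGL.descend (k := k) (K := K) (m := m)
    (eσ ≪≫ Groth.Agent.GrpSch.DiagGL.dsIso K (ZMod n)) i' hi'
  let f : CoordGrp.GLn m k →ₐ[k] MonoidAlgebra k (Multiplicative (ZMod n)) :=
    (Groth.Agent.GrpSch.DiagGL.diagHom k c : CoordGrp.GLn m k →ₐ[k] MonoidAlgebra k (Multiplicative (ZMod n)))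
  let I : Grp.mk (Groth.Agent.MultHopf.hspec k (MonoidAlgebra k (Multiplicative (ZMod n)))) ⟶
      Grp.mk (Groth.Agent.MultHopf.hspec k (CoordGrp.GLn m k)) :=
    (hopfSpec (CommRingCat.of k)).map (CommHopfAlgCat.ofHom (Groth.Agent.GrpSch.DiagGL.diagHom k c)).op
  have hI : I.hom.hom = Spec.mapMulEquiv (R := k) (WithConv.toConv f) := rfl
  refine ⟨_, inferInstance, Spec.mapMulEquiv (R := k) (WithConv.toConv f), hI ▸ I.hom.isMonHom_hom, ?_,
    ⟨(Groth.Agent.GrpSch.DiagGL.dsIso k (ZMod n)).symm⟩, y,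
    (Grp.forget _).mapIso ((eσ ≪≫ Groth.Agent.GrpSch.DiagGL.dsIso K (ZMod n)) ≪≫
      (Groth.Agent.GrpSch.DiagGL.bcGamma (k := k) K (Multiplicative (ZMod n))).symm), hy⟩
  exact IsClosedImmersion.spec_of_surjective (CommRingCat.ofHom f.toRingHom) hc

end Groth.Agent.S19281
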