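import Groth.Statements.S19284
import Mathlib
import Groth.Agent.NFSplit.Basic
import Groth.Agent.NFSplit.Inertia

set_option autoImplicit false
universe u
open NumberField

namespace Groth.Agent.S19284

open scoped Pointwise
open IntermediateField

set_option maxHeartbeats 1000000
set_option backward.isDefEq.respectTransparency.types false

theorem main {K L M : Type u} [Field K] [NumberField K] [Field L] [NumberField L] [Algebra K L]
    [Field M] [NumberField M] [Algebra K M] [IsGalois K M]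
    (p : ℕ) (hp : p.Prime) (e : (L →ₐ[K] M) ≃ ZMod p)
    (haff : ∀ σ : M ≃ₐ[K] M, ∃ a b : ZMod p, a ≠ 0 ∧
      ∀ φ : L →ₐ[K] M, e (σ.toAlgHom.comp φ) = a * e φ + b)
    (hnab : IsGalois K L → ∃ σ τ : L ≃ₐ[K] L, σ * τ ≠ τ * σ) :
    ∃ E : IntermediateField K M,
      IsGalois K E ∧ IsCyclic (E ≃ₐ[K] E) ∧ 1 < Module.finrank K E ∧
      ∀ w : IsDedekindDomain.HeightOneSpectrum (NumberField.RingOfIntegers K),
        (∀ P : Ideal (NumberField.RingOfIntegers L), P.IsPrime → P.LiesOver w.asIdeal →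
          P.ramificationIdx (NumberField.RingOfIntegers K) = 1) →
        Nonempty (E →ₐ[K] w.adicCompletion K) ∨ Nonempty (L →ₐ[K] w.adicCompletion K) := by
  classical
  haveI : Fact p.Prime := ⟨hp⟩
  choose a b ha hab using haff
  let φ : ZMod p → (L →ₐ[K] M) := e.symm
  have hev : ∀ (σ : M ≃ₐ[K] M) (x : ZMod p), e (σ.toAlgHom.comp (φ x)) = a σ * x + b σ := by
    intro σ x
    rw [hab]; simp [φ]
  have hmul : ∀ σ τ, a (σ * τ) = a σ * a τ := by
    intro σ τ
    have h : ∀ x, e ((σ * τ).toAlgHom.comp (φ x)) = a σ * (a τ * x + b τ) + b σ := by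
      intro x
      rw [show (σ * τ).toAlgHom.comp (φ x) = σ.toAlgHom.comp (τ.toAlgHom.comp (φ x)) from rfl,
        hab, hev]
    have h0 := h 0
    have h1 := h 1
    rw [hev] at h0 h1
    linear_combination h1 - h0
  have hone : a 1 = 1 := by
    have h0 : e ((1 : M ≃ₐ[K] M).toAlgHom.comp (φ 0)) = 0 := by
      rw [show (1 : M ≃ₐ[K] M).toAlgHom.comp (φ 0) = φ 0 from rfl]; simp [φ]
    have h1 : e ((1 : M ≃ₐ[K] M).toAlgHom.comp (φ 1)) = 1 := by
      rw [show (1 : M ≃ₐ[K] M).toAlgHom.comp (φ 1) = φ 1 from rfl]; simp [φ]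
    rw [hev] at h0 h1
    linear_combination h1 - h0
  let χ : (M ≃ₐ[K] M) →* (ZMod p)ˣ :=
    { toFun := fun σ => Units.mk0 (a σ) (ha σ)
      map_one' := Units.ext hone
      map_mul' := fun σ τ => Units.ext (hmul σ τ) }
  have hχ : ∀ σ, σ ∈ χ.ker ↔ a σ = 1 := fun σ => by
    rw [MonoidHom.mem_ker]
    exact ⟨fun h => congrArg Units.val h, fun h => Units.ext h⟩
  haveI : Nonempty (L →ₐ[K] M) := ⟨φ 0⟩
  -- the character is nontrivial
  have hne : χ.ker ≠ ⊤ := by
    intro htop
    have hb : ∀ (σ : M ≃ₐ[K] M) (ψ : L →ₐ[K] M), e (σ.toAlgHom.comp ψ) = e ψ + b σ := by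
      intro σ ψ
      rw [hab, (hχ σ).mp (htop ▸ Subgroup.mem_top σ), one_mul]
    have hsub : ∀ ψ : L →ₐ[K] M, ψ.fieldRange ≤ (φ 0).fieldRange := by
      intro ψ
      rw [← IsGalois.fixedField_fixingSubgroup (φ 0).fieldRange]
      rintro _ ⟨y, rfl⟩ ⟨σ, hσ⟩
      have h1 : σ.toAlgHom.comp (φ 0) = φ 0 := AlgHom.ext fun z => hσ ⟨_, z, rfl⟩
      have h2 := hb σ (φ 0)
      rw [h1, left_eq_add] at h2
      have h3 : σ.toAlgHom.comp ψ = ψ := e.injective (by rw [hb, h2, add_zero])
      exact congrArg (fun f => f y) h3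
    haveI : Normal K (φ 0).fieldRange := by
      rw [IntermediateField.normal_iff_forall_map_le']
      intro σ
      rw [AlgHom.map_fieldRange]
      exact hsub _
    haveI : Normal K L :=
      Normal.of_algEquiv (F := K) (E := (φ 0).fieldRange) (AlgEquiv.ofInjectiveField (φ 0)).symm
    haveI : IsGalois K L := ⟨⟩
    obtain ⟨g, h, hgh⟩ := hnab inferInstance
    apply hgh
    have hlift : ∀ g : L ≃ₐ[K] L, ∃ σ : M ≃ₐ[K] M, σ.toAlgHom.comp (φ 0) = (φ 0).comp g.toAlgHom := by
      intro g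
      letI : Algebra L M := (φ 0).toRingHom.toAlgebra
      haveI : IsScalarTower K L M := IsScalarTower.of_algebraMap_eq fun x => ((φ 0).commutes x).symm
      exact ⟨g.liftNormal M, AlgHom.ext fun z => AlgEquiv.liftNormal_commutes g M z⟩
    obtain ⟨σ, hσ⟩ := hlift g
    obtain ⟨τ, hτ⟩ := hlift h
    have key : (φ 0).comp (g * h).toAlgHom = (φ 0).comp (h * g).toAlgHom := by
      have e1 : (φ 0).comp (g * h).toAlgHom = σ.toAlgHom.comp (τ.toAlgHom.comp (φ 0)) := by
        rw [hτ, ← AlgHom.comp_assoc, hσ]; rfl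
      have e2 : (φ 0).comp (h * g).toAlgHom = τ.toAlgHom.comp (σ.toAlgHom.comp (φ 0)) := by
        rw [hσ, ← AlgHom.comp_assoc, hτ]; rfl
      rw [e1, e2]
      apply e.injective
      simp only [hb]
      ring
    exact AlgEquiv.ext fun z => (φ 0).injective (congrArg (fun f => f z) key)
  let E0 : IntermediateField K M := IntermediateField.fixedField χ.ker
  haveI hgal : IsGalois K E0 := IsGalois.of_fixedField_normal_subgroup χ.ker
  haveI hcyc : IsCyclic (E0 ≃ₐ[K] E0) :=
    isCyclic_of_injective ((QuotientGroup.kerLift χ).comp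
      (IsGalois.normalAutEquivQuotient χ.ker).symm.toMonoidHom)
      ((QuotientGroup.kerLift_injective χ).comp (IsGalois.normalAutEquivQuotient χ.ker).symm.injective)
  refine ⟨E0, hgal, hcyc, ?_, ?_⟩
  · by_contra hle
    push Not at hle
    have hE : E0 = ⊥ := IntermediateField.finrank_eq_one_iff.mp
      (le_antisymm hle Module.finrank_pos)
    apply hne
    rw [← IntermediateField.fixingSubgroup_fixedField χ.ker]
    show E0.fixingSubgroup = ⊤
    rw [hE, IntermediateField.fixingSubgroup_bot]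
  intro w hw
  letI := IsIntegralClosure.MulSemiringAction (𝓞 K) K M (𝓞 M)
  have hact : ∀ (σ : M ≃ₐ[K] M) (x : 𝓞 M),
      algebraMap (𝓞 M) M (σ • x) = σ (algebraMap (𝓞 M) M x) :=
    fun σ x => algebraMap_galRestrict_apply (𝓞 K) σ x
  haveI : SMulCommClass (M ≃ₐ[K] M) (𝓞 K) (𝓞 M) := ⟨fun σ r x => by
    apply IsFractionRing.injective (𝓞 M) M
    rw [Algebra.smul_def, Algebra.smul_def, hact, map_mul, map_mul, map_mul, hact,
      ← IsScalarTower.algebraMap_apply (𝓞 K) (𝓞 M) M, IsScalarTower.algebraMap_apply (𝓞 K) K M,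
      σ.commutes]⟩
  obtain ⟨P, hPm, hPw⟩ := Ideal.exists_maximal_ideal_liesOver_of_isIntegral (S := 𝓞 M) w.asIdeal
  haveI := hPm
  haveI := hPw
  letI := Ideal.Quotient.field w.asIdeal
  letI := Ideal.Quotient.field P
  haveI : Finite (𝓞 M ⧸ P) := Ideal.finiteQuotientOfFreeOfNeBot P
    (Ring.ne_bot_of_isMaximal_of_not_isField hPm (NumberField.RingOfIntegers.not_isField M))
  haveI : Finite (𝓞 K ⧸ w.asIdeal) := Ideal.finiteQuotientOfFreeOfNeBot _ w.ne_bot
  let st := Ideal.Quotient.stabilizerHom P w.asIdeal (M ≃ₐ[K] M)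
  obtain ⟨⟨_, σ0, rfl⟩, hgen⟩ := IsCyclic.exists_generator (α := st.range)
  -- the inertia fixes every embedding
  have hI : ∀ τ ∈ st.ker, ∀ ψ : L →ₐ[K] M, (τ : M ≃ₐ[K] M).toAlgHom.comp ψ = ψ := by
    intro τ hτ ψ
    let f : 𝓞 L →ₐ[𝓞 K] 𝓞 M := NumberField.RingOfIntegers.mapAlgHom ψ
    let g : 𝓞 L →ₐ[𝓞 K] 𝓞 M :=
      (MulSemiringAction.toAlgHom (𝓞 K) (𝓞 M) (τ : M ≃ₐ[K] M)).comp f
    set Q : Ideal (𝓞 L) := P.comap f.toRingHom with hQ
    haveI : Q.IsPrime := Ideal.comap_isPrime _ _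
    haveI hQw : Q.LiesOver w.asIdeal := ⟨by
      rw [hPw.over]
      ext r
      simp [Ideal.under_def, hQ]⟩
    haveI : Algebra.IsUnramifiedAt (𝓞 K) Q :=
      Ideal.ramificationIdx'_eq_one_iff.mp (hw Q inferInstance hQw)
    have hfg : f = g := by
      refine Groth.Agent.NFSplit.eq_of_unramified f g P fun x => ?_
      have := congrArg (fun k => k (Ideal.Quotient.mk P (f x))) (MonoidHom.mem_ker.mp hτ)
      simp only [st, Ideal.Quotient.stabilizerHom_apply, AlgEquiv.one_apply] at this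
      have h2 := (Ideal.Quotient.eq).mp this.symm
      exact h2
    refine AlgHom.coe_ringHom_injective (IsLocalization.ringHom_ext (nonZeroDivisors (𝓞 L)) ?_)
    refine RingHom.ext fun x => ?_
    have h1 := congrArg (fun k => algebraMap (𝓞 M) M (k x)) hfg
    simp only [g, AlgHom.comp_apply, MulSemiringAction.toAlgHom_apply, hact] at h1
    exact h1.symm
  have hdec : ∀ σ : M ≃ₐ[K] M, σ • P = P →
      ∃ k : ℤ, ∀ ψ : L →ₐ[K] M,
        σ.toAlgHom.comp ψ = (((σ0 : M ≃ₐ[K] M)) ^ k).toAlgHom.comp ψ := by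
    intro σ hσ
    obtain ⟨k, hk⟩ := Subgroup.mem_zpowers_iff.mp (hgen ⟨st ⟨σ, hσ⟩, ⟨_, rfl⟩⟩)
    have hk' : st (σ0 ^ k) = st ⟨σ, hσ⟩ := by
      rw [map_zpow]; exact congrArg Subtype.val hk
    refine ⟨k, fun ψ => ?_⟩
    have hmem : (σ0 ^ k)⁻¹ * ⟨σ, hσ⟩ ∈ st.ker := by
      rw [MonoidHom.mem_ker, map_mul, map_inv, hk', inv_mul_cancel]
    have h := hI _ hmem ψ
    have h2 : σ = (σ0 : M ≃ₐ[K] M) ^ k *
        (((σ0 ^ k)⁻¹ * ⟨σ, hσ⟩ : MulAction.stabilizer (M ≃ₐ[K] M) P) : M ≃ₐ[K] M) := by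
      simp
    refine AlgHom.ext fun z => ?_
    show σ (ψ z) = ((σ0 : M ≃ₐ[K] M) ^ k) (ψ z)
    conv_lhs => rw [h2, AlgEquiv.mul_apply]
    exact congrArg ((σ0 : M ≃ₐ[K] M) ^ k) (congrArg (fun f => f z) h)
  by_cases hσ0 : (σ0 : M ≃ₐ[K] M) ∈ χ.ker
  · left
    refine Groth.Agent.NFSplit.embed_fixed hact w P E0 fun σ hσ x hx => ?_
    refine hx ⟨σ, ?_⟩
    obtain ⟨k, hk⟩ := hdec σ hσ
    rw [hχ]
    have hpow : a ((σ0 : M ≃ₐ[K] M) ^ k) = 1 := (hχ _).mp (χ.ker.zpow_mem hσ0 k)
    have h0 := congrArg e (hk (φ 0))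
    have h1 := congrArg e (hk (φ 1))
    rw [hev, hev, hpow] at h0 h1
    linear_combination h1 - h0
  · right
    have ha1 : 1 - a (σ0 : M ≃ₐ[K] M) ≠ 0 := fun h => hσ0 ((hχ _).mpr (sub_eq_zero.mp h).symm)
    let x0 := b (σ0 : M ≃ₐ[K] M) / (1 - a (σ0 : M ≃ₐ[K] M))
    let S : Subgroup (M ≃ₐ[K] M) := (φ x0).fieldRange.fixingSubgroup
    have hfix : (σ0 : M ≃ₐ[K] M).toAlgHom.comp (φ x0) = φ x0 := by
      apply e.injective
      rw [hev, show e (φ x0) = x0 from e.apply_symm_apply x0]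
      simp only [x0]
      field_simp
      ring
    have hS : (σ0 : M ≃ₐ[K] M) ∈ S := by
      rintro ⟨_, z, rfl⟩
      exact congrArg (fun f => f z) hfix
    obtain ⟨θ⟩ := Groth.Agent.NFSplit.embed_fixed hact w P (φ x0).fieldRange fun σ hσ x hx => by
      obtain ⟨k, hk⟩ := hdec σ hσ
      obtain ⟨z, rfl⟩ := hx
      exact (congrArg (fun f => f z) (hk (φ x0))).trans (S.zpow_mem hS k ⟨_, z, rfl⟩)
    exact ⟨θ.comp (AlgEquiv.ofInjectiveField (φ x0)).toAlgHom⟩

/-- Let L/K be a finite extension of number fields and Ω an algebraic closure of K. Suppose that L/K is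
almost abelian in the non-abelian way: for some prime number p there is a bijection between the set
of K-embeddings L → Ω and Z/p under which every K-automorphism of Ω acts by an affine transformation
x ↦ a x + b with a ≠ 0, and L/K is not an abelian extension (it is not Galois with commutative
automorphism group). Then there is an intermediate extension K ⊂ E ⊂ Ω contained in the normal
closure of L, Galois over K with nontrivial cyclic group, such that for every finite place w of K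
which is unramified in L (every prime of the integers of L above w has ramification index 1), either
E admits a K-algebra embedding into the completion K_w (since E/K is Galois: w splits completely in
E) or L admits a K-algebra embedding into K_w (L has a place of degree 1 over w). (Only finite
places are treated here.) -/
theorem result (K L Ω : Type u) [Field K] [NumberField K]
    [Field L] [NumberField L] [Algebra K L] [Field Ω] [Algebra K Ω] [IsAlgClosure K Ω]
    (p : ℕ) (hp : p.Prime) (e : (L →ₐ[K] Ω) ≃ ZMod p)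
    (haff : ∀ σ : Ω ≃ₐ[K] Ω, ∃ a b : ZMod p, a ≠ 0 ∧
      ∀ φ : L →ₐ[K] Ω, e (σ.toAlgHom.comp φ) = a * e φ + b)
    (hnab : IsGalois K L → ∃ σ τ : L ≃ₐ[K] L, σ * τ ≠ τ * σ) :
    ∃ E : IntermediateField K Ω, E ≤ IntermediateField.normalClosure K L Ω ∧
      FiniteDimensional K E ∧ IsGalois K E ∧ IsCyclic (E ≃ₐ[K] E) ∧ 1 < Module.finrank K E ∧
      ∀ w : IsDedekindDomain.HeightOneSpectrum (NumberField.RingOfIntegers K),
        (∀ P : Ideal (NumberField.RingOfIntegers L), P.IsPrime → P.LiesOver w.asIdeal →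
          P.ramificationIdx (NumberField.RingOfIntegers K) = 1) →
        Nonempty (E →ₐ[K] w.adicCompletion K) ∨ Nonempty (L →ₐ[K] w.adicCompletion K) := by
  haveI : CharZero Ω := charZero_of_injective_algebraMap (algebraMap K Ω).injective
  haveI : Algebra.IsAlgebraic K Ω := IsAlgClosure.isAlgebraic
  haveI : IsAlgClosed Ω := IsAlgClosure.isAlgClosed K
  haveI : Normal K Ω := IsAlgClosure.normal K Ω
  let M : IntermediateField K Ω := IntermediateField.normalClosure K L Ω
  haveI : IsGalois K M := ⟨⟩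
  haveI : NumberField M := NumberField.of_module_finite K M
  let j : (L →ₐ[K] M) → (L →ₐ[K] Ω) := fun φ => M.val.comp φ
  have hj : Function.Bijective j := by
    refine ⟨fun f g h => AlgHom.ext fun x => Subtype.ext (congrArg (fun k => k x) h), fun φ => ?_⟩
    refine ⟨φ.codRestrict M.toSubalgebra fun x => φ.fieldRange_le_normalClosure ⟨x, rfl⟩, ?_⟩
    exact AlgHom.ext fun x => rfl
  obtain ⟨E0, hgal, hcyc, hdeg, hloc⟩ := main (M := M) p hp ((Equiv.ofBijective j hj).trans e)
    (fun σ => by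
      obtain ⟨a, b, ha, hab⟩ := haff (σ.liftNormal Ω)
      refine ⟨a, b, ha, fun φ => ?_⟩
      simp only [Equiv.trans_apply, Equiv.ofBijective_apply]
      rw [← hab]
      congr 1
      exact AlgHom.ext fun x => (AlgEquiv.liftNormal_commutes σ Ω (φ x)).symm) hnab
  let E : IntermediateField K Ω := IntermediateField.lift E0
  let eE : E0 ≃ₐ[K] E := IntermediateField.equivMap E0 M.val
  haveI := hgal
  haveI := hcyc
  refine ⟨E, IntermediateField.lift_le E0, eE.toLinearEquiv.finiteDimensional, IsGalois.of_algEquiv eE,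
    isCyclic_of_injective eE.autCongr.symm.toMonoidHom eE.autCongr.symm.injective,
    by rw [← eE.toLinearEquiv.finrank_eq]; exact hdeg, fun w hw => ?_⟩
  rcases hloc w hw with ⟨⟨θ⟩⟩ | h
  · exact Or.inl ⟨θ.comp eE.symm.toAlgHom⟩
  · exact Or.inr h

end Groth.Agent.S19284
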