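import Groth.Statements.S19291
import Groth.Agent.GrpSch.AbRigid
import Groth.Agent.GrpSch.FixedEtale
import Groth.Agent.GrpSch.SmoothGeomRed

set_option autoImplicit false
universe u
open CategoryTheory CategoryTheory.Limits MonoidalCategory CartesianMonoidalCategory MonObj AlgebraicGeometry
open AbSch

namespace Groth.Agent.S19291

/-- Let S be a scheme and A, B, C three abelian S-schemes (smooth proper S-group schemes with connected
fibres). Then the group of homomorphisms from A to the S-sheaf of homomorphisms from B to C is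
trivial: on the big fppf site of S, every morphism of abelian sheaves from the sheaf of points of A
to the internal Hom sheaf of the sheaves of points of B and C is zero (equivalently, there is no
non-zero biadditive morphism from A × B to C). -/
theorem result {S : Scheme.{u}} (A B C : Over S)
    [GrpObj A] [IsCommMonObj A] [Smooth A.hom] [IsProper A.hom]
    (hA : ∀ s : S, ConnectedSpace ↥(A.hom.fiber s))
    [GrpObj B] [IsCommMonObj B] [Smooth B.hom] [IsProper B.hom]
    (hB : ∀ s : S, ConnectedSpace ↥(B.hom.fiber s))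
    [GrpObj C] [IsCommMonObj C] [Smooth C.hom] [IsProper C.hom]
    (hC : ∀ s : S, ConnectedSpace ↥(C.hom.fiber s))
    (φ : (CGrpSh.pts Scheme.fppfPrecoverage A) ⟶ HomSh.homSh (QuotSh.J Scheme.fppfPrecoverage S) (CGrpSh.pts Scheme.fppfPrecoverage B) (CGrpSh.pts Scheme.fppfPrecoverage C)) : φ = 0 := by
  haveI := Groth.Agent.GrpSch.FixedEtale.geometricallyConnected_of_connected A hA
  haveI := Groth.Agent.GrpSch.FixedEtale.geometricallyConnected_of_connected B hB
  let K := Scheme.fppfPrecoverage.{u}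
  let e : (T : Over S) → (T ⟶ A) → ((CGrpSh.pts K B).over T ⟶ (CGrpSh.pts K C).over T) :=
    fun T a => φ.hom.app (Opposite.op T) (ULift.up (Additive.ofMul a))
  let ev : (T : Over S) → (T ⟶ A) → (T' : Over S) → (T' ⟶ T) → (T' ⟶ B) → (T' ⟶ C) :=
    fun T a T' t b => ((e T a).hom.app (Opposite.op (Over.mk t)) (ULift.up (Additive.ofMul b))).down.toMul
  let m : A ⊗ B ⟶ C := ev A (𝟙 A) (A ⊗ B) (fst A B) (snd A B)
  have hform : ∀ (T : Over S) (a : T ⟶ A) (T' : Over S) (t : T' ⟶ T) (b : T' ⟶ B),
      ev T a T' t b = lift (t ≫ a) b ≫ m := by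
    intro T a T' t b
    have h1 : e T a = (HomSh.homSh (QuotSh.J K S) (CGrpSh.pts K B) (CGrpSh.pts K C)).obj.map a.op (e A (𝟙 A)) := by
      have h2 := NatTrans.naturality_apply φ.hom a.op (ULift.up (Additive.ofMul (𝟙 A)))
      refine Eq.trans ?_ h2
      show φ.hom.app _ (ULift.up (Additive.ofMul a)) = φ.hom.app _ (ULift.up (Additive.ofMul (a ≫ 𝟙 A)))
      rw [Category.comp_id]
    let g : Over.mk (t ≫ a) ⟶ Over.mk (fst A B) := Over.homMk (lift (t ≫ a) b) (lift_fst _ _)
    have h3 := NatTrans.naturality_apply (e A (𝟙 A)).hom g.op (ULift.up (Additive.ofMul (snd A B)))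
    have h4 := congrArg (fun z => z.down.toMul) h3
    refine Eq.trans ?_ h4
    show ((e T a).hom.app (Opposite.op (Over.mk t)) (ULift.up (Additive.ofMul b))).down.toMul = _
    rw [h1]
    show ((e A (𝟙 A)).hom.app (Opposite.op (Over.mk (t ≫ a))) (ULift.up (Additive.ofMul b))).down.toMul =
      ((e A (𝟙 A)).hom.app (Opposite.op (Over.mk (t ≫ a))) (ULift.up (Additive.ofMul (lift (t ≫ a) b ≫ snd A B)))).down.toMul
    rw [lift_snd]
  have hax1 : lift (1 : B ⟶ A) (𝟙 B) ≫ m = 1 := by
    have h := hform B 1 B (𝟙 B) (𝟙 B)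
    rw [Category.id_comp] at h
    rw [← h]
    have hz : φ.hom.app (Opposite.op B) (ULift.up (Additive.ofMul (1 : B ⟶ A))) = 0 :=
      map_zero (φ.hom.app (Opposite.op B)).hom
    show ((e B 1).hom.app (Opposite.op (Over.mk (𝟙 B))) (ULift.up (Additive.ofMul (𝟙 B)))).down.toMul = _
    rw [show e B 1 = 0 from hz]
    rfl
  have hax2 : (A ◁ η[B]) ≫ m = toUnit _ ≫ η[C] := by
    have h := hform A (𝟙 A) (A ⊗ 𝟙_ (Over S)) (fst A (𝟙_ (Over S))) 1
    rw [Category.comp_id] at h
    rw [show A ◁ η[B] = lift (fst A (𝟙_ (Over S))) (1 : _ ⟶ B) by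
      apply CartesianMonoidalCategory.hom_ext
      · simp
      · rw [whiskerLeft_snd, lift_snd, Hom.one_def, toUnit_unique (toUnit _) (snd A (𝟙_ _))], ← h, ← Hom.one_def]
    show (((e A (𝟙 A)).hom.app (Opposite.op (Over.mk (fst A (𝟙_ (Over S))))) (ULift.up (Additive.ofMul 1))).down).toMul = _
    exact congrArg (fun z => z.down.toMul) (map_zero ((e A (𝟙 A)).hom.app (Opposite.op (Over.mk (fst A (𝟙_ (Over S)))))).hom)
  have hm : m = 1 := by
    rw [Groth.Agent.GrpSch.AbRigid.rigidity A B C η[A] η[B] m η[C] hax2, ← Hom.one_def, hax1, MonObj.comp_one]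
  ext T a
  show φ.hom.app T a = 0
  apply Sheaf.hom_ext
  ext U b
  have h := hform T.unop a.down.toMul U.unop.left U.unop.hom b.down.toMul
  rw [hm, MonObj.comp_one] at h
  exact ULift.ext _ _ (congrArg Additive.ofMul h)

end Groth.Agent.S19291
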