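import Groth.Statements.S19306
import Mathlib

set_option autoImplicit false
universe u
open PowerSeries
open CAlg

namespace Groth.Agent.S19306

open PowerSeries

variable {R : Type u} [CommRing R]

/-- Schanuel: kernels of two projective presentations are simultaneously projective. -/
theorem projective_ker {S : Type u} [CommRing S] {N P P₀ : Type u} [AddCommGroup N] [Module S N] [AddCommGroup P]
    [Module S P] [AddCommGroup P₀] [Module S P₀] [Module.Projective S P] [Module.Projective S P₀]
    (f : P →ₗ[S] N) (g : P₀ →ₗ[S] N) (hf : Function.Surjective f) (hg : Function.Surjective g)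
    [Module.Projective S (LinearMap.ker g)] : Module.Projective S (LinearMap.ker f) := by
  obtain ⟨a, ha⟩ := Module.projective_lifting_property g f hg
  obtain ⟨b, hb⟩ := Module.projective_lifting_property f g hf
  have ha' : ∀ x, g (a x) = f x := LinearMap.congr_fun ha
  have hb' : ∀ x, f (b x) = g x := LinearMap.congr_fun hb
  let s : LinearMap.ker f →ₗ[S] LinearMap.ker g × P :=
    LinearMap.prod ((a.comp (LinearMap.ker f).subtype).codRestrict _ fun x => by
      show g (a x) = 0
      rw [ha']; exact x.2) (LinearMap.ker f).subtype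
  let r : LinearMap.ker g × P →ₗ[S] LinearMap.ker f :=
    (LinearMap.coprod (b.comp (LinearMap.ker g).subtype) (LinearMap.id - b.comp a)).codRestrict _ fun y => by
      have := y.1.2
      simp only [LinearMap.mem_ker] at this ⊢
      simp [ha', hb', this]
  refine Module.Projective.of_split s r (LinearMap.ext fun x => Subtype.ext ?_)
  simp [s, r]

/-- A power series lies in the extension of a finitely generated ideal iff its coefficients lie in it. -/
theorem mem_map_C_iff {I : Ideal R} (hI : I.FG) (f : R⟦X⟧) :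
    f ∈ I.map (PowerSeries.C : R →+* R⟦X⟧) ↔ ∀ j, coeff j f ∈ I := by
  classical
  obtain ⟨m, a, rfl⟩ := Submodule.fg_iff_exists_fin_generating_family.mp hI
  constructor
  · intro h j
    have hle : Ideal.map (C : R →+* R⟦X⟧) (Submodule.span R (Set.range a) : Ideal R) ≤
        RingHom.ker (PowerSeries.map (Ideal.Quotient.mk (Submodule.span R (Set.range a) : Ideal R))) := by
      rw [Ideal.map_le_iff_le_comap]
      intro x hx
      simp [Ideal.Quotient.eq_zero_iff_mem.mpr hx]
    have := congrArg (coeff j) (RingHom.mem_ker.mp (hle h))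
    simpa [Ideal.Quotient.eq_zero_iff_mem] using this
  · intro h
    choose c hc using fun j => (Submodule.mem_span_range_iff_exists_fun R).mp (h j)
    have : f = ∑ l, C (a l) * PowerSeries.mk (fun j => c j l) := by
      ext j
      rw [map_sum]
      simp only [coeff_C_mul, coeff_mk]
      rw [← hc j]
      exact Finset.sum_congr rfl fun l _ => by rw [smul_eq_mul, mul_comm]
    rw [this]
    exact sum_mem fun l _ => Ideal.mul_mem_right _ _ (Ideal.mem_map_of_mem _ (Submodule.subset_span ⟨l, rfl⟩))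

section Trunc

variable {n : ℕ} (M : ℕ) (Λ : Submodule R⟦X⟧ (Fin n → R⟦X⟧))

/-- Polynomial vectors of degree `< M`. -/
noncomputable def sec : (Fin n × Fin M → R) →ₗ[R] (Fin n → R⟦X⟧) where
  toFun c := fun i => ∑ j : Fin M, C (c (i, j)) * X ^ (j : ℕ)
  map_add' c d := by funext i; simp [add_mul, Finset.sum_add_distrib]
  map_smul' r c := by
    funext i
    simp [Finset.smul_sum, smul_eq_C_mul, mul_assoc]

theorem exists_sec_add (v : Fin n → R⟦X⟧) :
    ∃ w, v = sec M (fun ij => coeff (ij.2 : ℕ) (v ij.1)) + ((X : R⟦X⟧) ^ M) • w := by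
  refine ⟨fun i => mk fun j => coeff (j + M) (v i), funext fun i => ?_⟩
  ext j
  show _ = coeff j ((∑ l : Fin M, C (coeff (l : ℕ) (v i)) * X ^ (l : ℕ)) + X ^ M * mk fun j => coeff (j + M) (v i))
  simp only [map_add, map_sum, coeff_C_mul_X_pow, coeff_X_pow_mul', coeff_mk]
  by_cases hj : j < M
  · rw [Finset.sum_eq_single ⟨j, hj⟩, if_pos rfl, if_neg (by omega), add_zero]
    · intro l _ hl
      rw [if_neg]
      exact fun h => hl (Fin.ext h.symm)
    · simp
  · rw [Finset.sum_eq_zero, if_pos (by omega), zero_add, Nat.sub_add_cancel (by omega)]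
    intro l _
    rw [if_neg]
    omega

/-- The truncated presentation of the quotient. -/
noncomputable def pr : (Fin n × Fin M → R) →ₗ[R] ((Fin n → R⟦X⟧) ⧸ Λ) :=
  (Λ.mkQ.restrictScalars R).comp (sec M)

variable {M Λ} (hΛ : ∀ v : Fin n → R⟦X⟧, ((X : R⟦X⟧) ^ M) • v ∈ Λ)

include hΛ in
theorem pr_surjective : Function.Surjective (pr M Λ) := by
  intro y
  obtain ⟨v, rfl⟩ := Λ.mkQ_surjective y
  obtain ⟨w, hw⟩ := exists_sec_add M v
  refine ⟨fun ij => coeff (ij.2 : ℕ) (v ij.1), ?_⟩
  show Λ.mkQ (sec M _) = Λ.mkQ v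
  conv_rhs => rw [hw, map_add, show Λ.mkQ ((X : R⟦X⟧) ^ M • w) = 0 from (Submodule.Quotient.mk_eq_zero Λ).mpr (hΛ w), add_zero]

include hΛ in
theorem projective_of_quotient [Module.Projective R ((Fin n → R⟦X⟧) ⧸ Λ)] :
    Module.Finite R⟦X⟧ Λ ∧ Module.Projective R⟦X⟧ Λ := by
  classical
  obtain ⟨i, hi⟩ := Module.projective_lifting_property (pr M Λ) LinearMap.id (pr_surjective hΛ)
  have hi' : ∀ q, pr M Λ (i q) = q := LinearMap.congr_fun hi
  let N := M + 1
  let mulX : ((Fin n → R⟦X⟧) ⧸ Λ) →ₗ[R] ((Fin n → R⟦X⟧) ⧸ Λ) :=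
    (DistribSMul.toLinearMap R⟦X⟧ ((Fin n → R⟦X⟧) ⧸ Λ) (X : R⟦X⟧)).restrictScalars R
  let A : Matrix (Fin n × Fin M) (Fin n × Fin M) R := LinearMap.toMatrix' (i ∘ₗ mulX ∘ₗ pr M Λ)
  let P : Matrix (Fin n × Fin M) (Fin n × Fin M) R := LinearMap.toMatrix' (i ∘ₗ pr M Λ)
  have hA : ∀ c, A.mulVec c = i ((X : R⟦X⟧) • pr M Λ c) := fun c => by
    show Matrix.toLin' A c = _
    rw [Matrix.toLin'_toMatrix']
    rfl
  have hP : ∀ c, P.mulVec c = i (pr M Λ c) := fun c => by
    show Matrix.toLin' P c = _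
    rw [Matrix.toLin'_toMatrix']
    rfl
  have hkill : ∀ q : (Fin n → R⟦X⟧) ⧸ Λ, ((X : R⟦X⟧) ^ M) • q = 0 := fun q => by
    obtain ⟨v, rfl⟩ := Λ.mkQ_surjective q
    rw [← map_smul]
    exact (Submodule.Quotient.mk_eq_zero Λ).mpr (hΛ v)
  have hApow : ∀ l c, (A ^ (l + 1)).mulVec c = i (((X : R⟦X⟧) ^ (l + 1)) • pr M Λ c) := by
    intro l
    induction l with
    | zero => intro c; rw [zero_add, pow_one, pow_one, hA]
    | succ l ih =>
      intro c
      rw [pow_succ', ← Matrix.mulVec_mulVec, ih, hA, hi', smul_smul, ← pow_succ']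
  have hAN : A ^ N = 0 := Matrix.ext_of_mulVec_single fun l => by
    rw [hApow, pow_succ', mul_smul, hkill, smul_zero, map_zero, Matrix.zero_mulVec]
  have hAP : Commute A P := Matrix.ext_of_mulVec_single fun l => by
    rw [← Matrix.mulVec_mulVec, ← Matrix.mulVec_mulVec, hA, hP, hP, hA, hi', hi']
  -- the matrix `X - A`
  let A' := A.map (C : R →+* R⟦X⟧)
  let P' := P.map (C : R →+* R⟦X⟧)
  let Xm : Matrix (Fin n × Fin M) (Fin n × Fin M) R⟦X⟧ := Matrix.scalar _ (X : R⟦X⟧)
  let D := Xm - A'
  have hcomm : Commute Xm A' := Matrix.scalar_commute _ (fun r => Commute.all _ _) _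
  have hA'N : A' ^ N = 0 := by
    show ((C : R →+* R⟦X⟧).mapMatrix A) ^ N = 0
    rw [← map_pow, hAN, map_zero]
  let G := ∑ l ∈ Finset.range N, Xm ^ l * A' ^ (N - 1 - l)
  have hGD : G * D = Matrix.scalar _ ((X : R⟦X⟧) ^ N) := by
    rw [show G * D = Xm ^ N - A' ^ N from hcomm.geom_sum₂_mul N, hA'N, sub_zero, map_pow]
  have hGDcomm : D * G = G * D := by
    refine Commute.eq (Commute.sum_right _ _ _ fun l _ => ?_)
    exact ((Commute.refl Xm).sub_left hcomm.symm).pow_right l |>.mul_right ((hcomm.sub_left (Commute.refl A')).pow_right _)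
  have hDinj : Function.Injective D.mulVec := by
    intro v w h
    have h' := congrArg G.mulVec h
    rw [Matrix.mulVec_mulVec, Matrix.mulVec_mulVec, hGD] at h'
    funext l
    have h'' := congrFun h' l
    simp only [Matrix.scalar_apply, Matrix.mulVec_diagonal] at h''
    exact X_pow_mul_cancel h''
  -- evaluation at `A`
  let ev : (Fin n × Fin M → R⟦X⟧) →ₗ[R] (Fin n × Fin M → R) :=
    ∑ j ∈ Finset.range N, (A ^ j).mulVecLin ∘ₗ LinearMap.pi fun l => (coeff j).comp (LinearMap.proj l)
  have hev : ∀ v, ev v = ∑ j ∈ Finset.range N, (A ^ j).mulVec fun l => coeff j (v l) := fun v => by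
    simp only [ev, LinearMap.sum_apply, LinearMap.comp_apply, Matrix.mulVecLin_apply]
    rfl
  have hcongr : ∀ j (c : Fin n × Fin M → R), (fun l => (X : R⟦X⟧) ^ j * C (c l)) -
      (fun l => C ((A ^ j).mulVec c l)) ∈ LinearMap.range D.mulVecLin := by
    intro j c
    refine ⟨(∑ l ∈ Finset.range j, Xm ^ l * A' ^ (j - 1 - l)).mulVec fun l => C (c l), ?_⟩
    have h1 : D * ∑ l ∈ Finset.range j, Xm ^ l * A' ^ (j - 1 - l) = Xm ^ j - A' ^ j := by
      rw [← hcomm.geom_sum₂_mul j]
      refine Commute.eq (Commute.sum_right _ _ _ fun l _ => ?_)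
      exact ((Commute.refl Xm).sub_left hcomm.symm).pow_right l |>.mul_right ((hcomm.sub_left (Commute.refl A')).pow_right _)
    rw [Matrix.mulVecLin_apply, Matrix.mulVec_mulVec, h1, Matrix.sub_mulVec]
    congr 1
    · funext l
      rw [← map_pow, Matrix.scalar_apply, Matrix.mulVec_diagonal]
    · funext l
      rw [show A' ^ j = (A ^ j).map (C : R →+* R⟦X⟧) from (map_pow ((C : R →+* R⟦X⟧).mapMatrix) A j).symm]
      exact ((C : R →+* R⟦X⟧).map_mulVec (A ^ j) c l).symm
  have hdec : ∀ v, v - (fun l => C (ev v l)) ∈ LinearMap.range D.mulVecLin := by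
    intro v
    let w : Fin n × Fin M → R⟦X⟧ := fun l => mk fun t => coeff (t + N) (v l)
    have hv : v = (∑ j ∈ Finset.range N, fun l => (X : R⟦X⟧) ^ j * C (coeff j (v l))) + ((X : R⟦X⟧) ^ N) • w := by
      funext l
      ext t
      simp only [Pi.add_apply, Pi.smul_apply, Finset.sum_apply, smul_eq_mul, map_add, map_sum, coeff_X_pow_mul', w, coeff_mk]
      by_cases ht : t < N
      · rw [Finset.sum_eq_single t, if_pos le_rfl, Nat.sub_self, if_neg (by omega), add_zero, coeff_zero_C]
        · intro j _ hj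
          split_ifs with h
          · rw [coeff_C, if_neg (by omega)]
          · rfl
        · intro h; exact absurd (Finset.mem_range.mpr ht) h
      · rw [Finset.sum_eq_zero, if_pos (by omega), zero_add, Nat.sub_add_cancel (by omega)]
        intro j hj
        rw [Finset.mem_range] at hj
        rw [if_pos (by omega), coeff_C, if_neg (by omega)]
    have hXN : ((X : R⟦X⟧) ^ N) • w ∈ LinearMap.range D.mulVecLin := by
      refine ⟨G.mulVec w, ?_⟩
      rw [Matrix.mulVecLin_apply, Matrix.mulVec_mulVec, hGDcomm, hGD]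
      funext l
      simp [Matrix.mulVec_diagonal]
    have he : (fun l => C (ev v l)) = ∑ j ∈ Finset.range N, fun l => C ((A ^ j).mulVec (fun l => coeff j (v l)) l) := by
      funext l
      simp only [hev, Finset.sum_apply, map_sum]
    conv => enter [2, 1]; rw [hv]
    rw [he, add_sub_right_comm, ← Finset.sum_sub_distrib]
    exact add_mem (sum_mem fun j _ => hcongr j _) hXN
  -- the presentation
  let φ : (Fin n × Fin M → R⟦X⟧) →ₗ[R⟦X⟧] ((Fin n → R⟦X⟧) ⧸ Λ) :=
    Fintype.linearCombination R⟦X⟧ fun l => pr M Λ (Pi.single l 1)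
  have hφC : ∀ c : Fin n × Fin M → R, φ (fun l => C (c l)) = pr M Λ c := by
    intro c
    conv_rhs => rw [← Finset.univ_sum_single c]
    rw [map_sum]
    simp only [φ, Fintype.linearCombination_apply]
    refine Finset.sum_congr rfl fun l _ => ?_
    rw [show (Pi.single l (c l) : Fin n × Fin M → R) = c l • Pi.single l (1 : R) by
        rw [← Pi.single_smul', smul_eq_mul, mul_one], map_smul, ← IsScalarTower.algebraMap_smul R⟦X⟧ (c l), algebraMap_eq]
  have hφD : ∀ v, φ (D.mulVec v) = 0 := by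
    intro v
    have hcomp : φ.comp D.mulVecLin = 0 := by
      refine (Pi.basisFun R⟦X⟧ (Fin n × Fin M)).ext fun l => ?_
      rw [Pi.basisFun_apply, LinearMap.comp_apply, Matrix.mulVecLin_apply, Matrix.sub_mulVec, map_sub, LinearMap.zero_apply]
      have h1 : Xm.mulVec (Pi.single l 1) = (X : R⟦X⟧) • (fun t => C ((Pi.single l 1 : _ → R) t)) := by
        funext t
        simp [Xm, Matrix.mulVec_diagonal, Pi.single_apply, apply_ite C]
      have h2 : A'.mulVec (Pi.single l 1) = fun t => C (A.mulVec (Pi.single l 1) t) := by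
        funext t
        simp [A']
      rw [h1, h2, map_smul, hφC, hφC, hA, hi', sub_self]
    exact LinearMap.congr_fun hcomp v
  have hφev : ∀ v, φ v = pr M Λ (ev v) := by
    intro v
    obtain ⟨u, hu⟩ := hdec v
    have := congrArg φ hu
    rw [Matrix.mulVecLin_apply, hφD, map_sub, hφC] at this
    exact (sub_eq_zero.mp this.symm)
  have hφsurj : Function.Surjective φ := fun q => ⟨fun l => C (i q l), by rw [hφC, hi']⟩
  -- the kernel is projective
  haveI : Module.Projective R⟦X⟧ (LinearMap.ker φ) := by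
    have hmem : ∀ x : LinearMap.ker φ, P'.mulVec x ∈ LinearMap.range D.mulVecLin := by
      intro x
      have h0 : ev (P'.mulVec x) = 0 := by
        have hc : ∀ j, (fun l => coeff j (P'.mulVec (x : Fin n × Fin M → R⟦X⟧) l)) =
            P.mulVec fun l => coeff j ((x : Fin n × Fin M → R⟦X⟧) l) := fun j => by
          funext l
          simp [P', Matrix.mulVec, dotProduct, map_sum]
        rw [hev]
        simp only [hc, Matrix.mulVec_mulVec]
        rw [Finset.sum_congr rfl fun j _ => by rw [(hAP.pow_left j).eq, ← Matrix.mulVec_mulVec], ← Matrix.mulVec_sum,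
          ← hev, hP, ← hφev, show φ x = 0 from x.2, map_zero]
      have := hdec (P'.mulVec x)
      simp only [h0, Pi.zero_apply, map_zero] at this
      rwa [← Pi.zero_def, sub_zero] at this
    let Deq := LinearEquiv.ofInjective D.mulVecLin hDinj
    let s : LinearMap.ker φ →ₗ[R⟦X⟧] (Fin n × Fin M → R⟦X⟧) × (Fin n × Fin M → R⟦X⟧) :=
      LinearMap.prod (Deq.symm.toLinearMap ∘ₗ ((P'.mulVecLin.comp (LinearMap.ker φ).subtype).codRestrict _ hmem))
        (LinearMap.ker φ).subtype
    let r : (Fin n × Fin M → R⟦X⟧) × (Fin n × Fin M → R⟦X⟧) →ₗ[R⟦X⟧] LinearMap.ker φ :=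
      (LinearMap.coprod D.mulVecLin (LinearMap.id - P'.mulVecLin)).codRestrict _ fun y => by
        rw [LinearMap.mem_ker, LinearMap.coprod_apply, map_add, Matrix.mulVecLin_apply, hφD, zero_add,
          LinearMap.sub_apply, map_sub, LinearMap.id_apply, Matrix.mulVecLin_apply, hφev, hφev, sub_eq_zero]
        have hc : ∀ j, (fun l => coeff j (P'.mulVec y.2 l)) = P.mulVec fun l => coeff j (y.2 l) := fun j => by
          funext l
          simp [P', Matrix.mulVec, dotProduct, map_sum]
        rw [hev (P'.mulVec y.2)]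
        simp only [hc, Matrix.mulVec_mulVec]
        rw [Finset.sum_congr rfl fun j _ => by rw [(hAP.pow_left j).eq, ← Matrix.mulVec_mulVec], ← Matrix.mulVec_sum,
          ← hev, hP, hi']
    refine Module.Projective.of_split s r (LinearMap.ext fun x => Subtype.ext ?_)
    have hDe : ∀ z, D.mulVecLin (Deq.symm z) = (z : Fin n × Fin M → R⟦X⟧) := fun z =>
      (LinearEquiv.ofInjective_apply (h := hDinj) D.mulVecLin (Deq.symm z)).symm.trans (congrArg Subtype.val (Deq.apply_symm_apply z))
    simp only [r, s, LinearMap.comp_apply, LinearMap.codRestrict_apply, LinearMap.prod_apply, Pi.prod,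
      LinearMap.coprod_apply, LinearEquiv.coe_coe, LinearMap.id_apply, LinearMap.sub_apply]
    show D.mulVecLin (Deq.symm ⟨_, hmem x⟩) + ((x : Fin n × Fin M → R⟦X⟧) - P'.mulVecLin x) = _
    rw [hDe]
    simp
  have hker : LinearMap.ker Λ.mkQ = Λ := Λ.ker_mkQ
  haveI := projective_ker Λ.mkQ φ Λ.mkQ_surjective hφsurj
  refine ⟨?_, Module.Projective.of_equiv (LinearEquiv.ofEq _ _ hker)⟩
  -- finiteness: `Λ` is the image of `ker φ × S^n`
  haveI : Module.Finite R⟦X⟧ (LinearMap.ker φ) := by
    refine Module.Finite.of_surjective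
      ((LinearMap.coprod D.mulVecLin (LinearMap.id - P'.mulVecLin)).codRestrict (LinearMap.ker φ) fun y => ?_) fun x => ?_
    · rw [LinearMap.mem_ker, LinearMap.coprod_apply, map_add, Matrix.mulVecLin_apply, hφD, zero_add,
        LinearMap.sub_apply, map_sub, LinearMap.id_apply, Matrix.mulVecLin_apply, hφev, hφev, sub_eq_zero]
      have hc : ∀ j, (fun l => coeff j (P'.mulVec y.2 l)) = P.mulVec fun l => coeff j (y.2 l) := fun j => by
        funext l
        simp [P', Matrix.mulVec, dotProduct, map_sum]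
      rw [hev (P'.mulVec y.2)]
      simp only [hc, Matrix.mulVec_mulVec]
      rw [Finset.sum_congr rfl fun j _ => by rw [(hAP.pow_left j).eq, ← Matrix.mulVec_mulVec], ← Matrix.mulVec_sum,
        ← hev, hP, hi']
    · have h0 : ev (P'.mulVec x) = 0 := by
        have hc : ∀ j, (fun l => coeff j (P'.mulVec (x : Fin n × Fin M → R⟦X⟧) l)) =
            P.mulVec fun l => coeff j ((x : Fin n × Fin M → R⟦X⟧) l) := fun j => by
          funext l
          simp [P', Matrix.mulVec, dotProduct, map_sum]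
        rw [hev]
        simp only [hc, Matrix.mulVec_mulVec]
        rw [Finset.sum_congr rfl fun j _ => by rw [(hAP.pow_left j).eq, ← Matrix.mulVec_mulVec], ← Matrix.mulVec_sum,
          ← hev, hP, ← hφev, show φ x = 0 from x.2, map_zero]
      have hm := hdec (P'.mulVec x)
      simp only [h0, Pi.zero_apply, map_zero] at hm
      rw [← Pi.zero_def, sub_zero] at hm
      obtain ⟨u, hu⟩ := hm
      refine ⟨(u, x), Subtype.ext ?_⟩
      simp only [LinearMap.codRestrict_apply, LinearMap.coprod_apply, hu]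
      simp
  obtain ⟨a, ha⟩ := Module.projective_lifting_property φ Λ.mkQ hφsurj
  obtain ⟨b, hb⟩ := Module.projective_lifting_property Λ.mkQ φ Λ.mkQ_surjective
  refine Module.Finite.of_surjective
    (((LinearMap.coprod (b.comp (LinearMap.ker φ).subtype) (LinearMap.id - b.comp a))).codRestrict Λ fun y => ?_) fun x => ?_
  · rw [← Submodule.Quotient.mk_eq_zero]
    have h1 := LinearMap.congr_fun hb (y.1 : Fin n × Fin M → R⟦X⟧)
    have h2 := LinearMap.congr_fun hb (a y.2)
    have h3 := LinearMap.congr_fun ha y.2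
    simp only [LinearMap.comp_apply, Submodule.mkQ_apply] at h1 h2 h3
    simp [h1, h2, h3, show φ (y.1 : Fin n × Fin M → R⟦X⟧) = 0 from y.1.2]
  · have h3 := LinearMap.congr_fun ha (x : Fin n → R⟦X⟧)
    simp only [LinearMap.comp_apply, Submodule.mkQ_apply, (Submodule.Quotient.mk_eq_zero Λ).mpr x.2] at h3
    exact ⟨(⟨a x, h3⟩, x), Subtype.ext (by simp)⟩

include hΛ in
theorem quotient_projective [Module.Finite R⟦X⟧ Λ] [Module.Projective R⟦X⟧ Λ] :
    Module.Projective R ((Fin n → R⟦X⟧) ⧸ Λ) := by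
  classical
  obtain ⟨m, f, g, -, -, hfg⟩ := Module.Finite.exists_comp_eq_id_of_projective R⟦X⟧ Λ
  let e : Fin m → Λ := fun l => f (Pi.single l 1)
  have hexp : ∀ x : Λ, (x : Fin n → R⟦X⟧) = ∑ l, g x l • (e l : Fin n → R⟦X⟧) := by
    intro x
    conv_lhs => rw [← LinearMap.id_apply (R := R⟦X⟧) x, ← hfg, LinearMap.comp_apply, ← Finset.univ_sum_single (g x)]
    rw [map_sum, Submodule.coe_sum]
    refine Finset.sum_congr rfl fun l _ => ?_
    rw [← Submodule.coe_smul, ← map_smul, ← Pi.single_smul', smul_eq_mul, mul_one]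
  haveI : Module.Finite R ((Fin n → R⟦X⟧) ⧸ Λ) := Module.Finite.of_surjective (pr M Λ) (pr_surjective hΛ)
  let tr : (Fin n → R⟦X⟧) →ₗ[R] (Fin n × Fin M → R) :=
    LinearMap.pi fun ij => (coeff (ij.2 : ℕ)).comp (LinearMap.proj ij.1)
  have htrsec : ∀ c, tr (sec M c) = c := by
    intro c
    funext ij
    show coeff (ij.2 : ℕ) (∑ j : Fin M, C (c (ij.1, j)) * X ^ (j : ℕ)) = _
    simp [map_sum, coeff_X_pow, Fin.val_inj]
  have hker : ∀ v, pr M Λ (tr v) = Λ.mkQ v := by
    intro v
    obtain ⟨w, hw⟩ := exists_sec_add M v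
    show Λ.mkQ (sec M (tr v)) = _
    conv_rhs => rw [hw, map_add, show Λ.mkQ ((X : R⟦X⟧) ^ M • w) = 0 from (Submodule.Quotient.mk_eq_zero Λ).mpr (hΛ w), add_zero]
    rfl
  have hfp : Module.FinitePresentation R ((Fin n → R⟦X⟧) ⧸ Λ) := by
    refine Module.finitePresentation_of_surjective (pr M Λ) (pr_surjective hΛ) ?_
    refine ⟨Finset.univ.image fun jl : Fin M × Fin m => tr ((X : R⟦X⟧) ^ (jl.1 : ℕ) • (e jl.2 : Fin n → R⟦X⟧)), le_antisymm ?_ ?_⟩
    · rw [Submodule.span_le]
      intro c hc
      obtain ⟨⟨j, l⟩, -, rfl⟩ := Finset.mem_image.mp hc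
      rw [SetLike.mem_coe, LinearMap.mem_ker, hker]
      exact (Submodule.Quotient.mk_eq_zero Λ).mpr (Λ.smul_mem _ (e l).2)
    · intro c hc
      have hcΛ : sec M c ∈ Λ := (Submodule.Quotient.mk_eq_zero Λ).mp hc
      have hx := hexp ⟨_, hcΛ⟩
      simp only at hx
      rw [← htrsec c, hx, map_sum]
      refine sum_mem fun l _ => ?_
      set s := g ⟨sec M c, hcΛ⟩ l
      have hs : tr (s • (e l : Fin n → R⟦X⟧)) = ∑ j : Fin M, coeff (j : ℕ) s • tr ((X : R⟦X⟧) ^ (j : ℕ) • (e l : Fin n → R⟦X⟧)) := by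
        funext ij
        simp only [tr, Finset.sum_apply, Pi.smul_apply, LinearMap.pi_apply, LinearMap.comp_apply, LinearMap.proj_apply,
          smul_eq_mul, coeff_mul, coeff_X_pow]
        rw [Finset.Nat.sum_antidiagonal_eq_sum_range_succ (fun a b => coeff a s * coeff b ((e l : Fin n → R⟦X⟧) ij.1))]
        have : ∀ j : Fin M, ∑ p ∈ Finset.HasAntidiagonal.antidiagonal (ij.2 : ℕ), (if p.1 = (j : ℕ) then (1 : R) else 0) * coeff p.2 ((e l : Fin n → R⟦X⟧) ij.1) =
            if (j : ℕ) ≤ ij.2 then coeff ((ij.2 : ℕ) - j) ((e l : Fin n → R⟦X⟧) ij.1) else 0 := fun j => by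
          rw [← coeff_X_pow_mul' ((e l : Fin n → R⟦X⟧) ij.1) (j : ℕ) (ij.2 : ℕ), coeff_mul]
          simp only [coeff_X_pow]
        simp only [this, mul_ite, mul_zero]
        rw [Fin.sum_univ_eq_sum_range (fun j => if j ≤ (ij.2 : ℕ) then coeff j s * coeff ((ij.2 : ℕ) - j) ((e l : Fin n → R⟦X⟧) ij.1) else 0) M,
          ← Finset.sum_filter]
        refine Finset.sum_congr ?_ fun _ _ => rfl
        ext j
        simp only [Finset.mem_range, Finset.mem_filter]
        have := ij.2.isLt
        omega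
      rw [hs]
      refine sum_mem fun j _ => Submodule.smul_mem _ _ (Submodule.subset_span ?_)
      exact Finset.mem_coe.mpr (Finset.mem_image.mpr ⟨(j, l), Finset.mem_univ _, rfl⟩)
  haveI : Module.Flat R ((Fin n → R⟦X⟧) ⧸ Λ) := by
    refine Module.Flat.of_forall_isTrivialRelation fun {l a q} hrel => ?_
    choose v hv using fun t => pr_surjective hΛ (q t)
    have hSm : sec M (∑ t, a t • v t) ∈ Λ := by
      rw [← Submodule.Quotient.mk_eq_zero Λ]
      show pr M Λ (∑ t, a t • v t) = 0
      simp only [map_sum, map_smul, hv, hrel]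
    set x : Λ := ⟨_, hSm⟩
    let I : Ideal R := Ideal.span (Set.range a)
    have hIfg : I.FG := Submodule.fg_span (Set.finite_range a)
    have hgx : ∀ t, g x t ∈ I.map (C : R →+* R⟦X⟧) := by
      intro t
      have h1 : ((X : R⟦X⟧) ^ M) • x = ∑ s, C (a s) • (⟨_, hΛ (sec M (v s))⟩ : Λ) := by
        refine Subtype.ext ?_
        show ((X : R⟦X⟧) ^ M) • sec M (∑ s, a s • v s) = _
        rw [Submodule.coe_sum, map_sum, Finset.smul_sum]
        refine Finset.sum_congr rfl fun s _ => ?_
        rw [map_smul, Submodule.coe_smul, ← IsScalarTower.algebraMap_smul R⟦X⟧ (a s), algebraMap_eq, smul_comm]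
      have h2 := congrFun (congrArg g h1) t
      rw [map_smul, map_sum, Pi.smul_apply, smul_eq_mul, Finset.sum_apply] at h2
      simp only [map_smul, Pi.smul_apply, smul_eq_mul] at h2
      have h3 : (X : R⟦X⟧) ^ M * g x t ∈ I.map (C : R →+* R⟦X⟧) := h2 ▸ sum_mem fun s _ =>
        Ideal.mul_mem_right _ _ (Ideal.mem_map_of_mem _ (Ideal.subset_span ⟨s, rfl⟩))
      rw [mem_map_C_iff hIfg] at h3 ⊢
      intro j
      have := h3 (j + M)
      rwa [coeff_X_pow_mul] at this
    have hspan : I.map (C : R →+* R⟦X⟧) = Ideal.span (Set.range fun s => (C (a s) : R⟦X⟧)) := by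
      rw [Ideal.map_span, ← Set.range_comp]
      rfl
    choose c hc using fun t => (Ideal.mem_span_range_iff_exists_fun).mp (hspan ▸ hgx t)
    let w : Fin l → Λ := fun s => ∑ t, c t s • e t
    have hsum : sec M (∑ s, a s • v s) = ∑ s, (C (a s) : R⟦X⟧) • (w s : Fin n → R⟦X⟧) := by
      refine (hexp x).trans ?_
      simp only [w, Submodule.coe_sum, Submodule.coe_smul, Finset.smul_sum, smul_smul]
      rw [Finset.sum_comm]
      refine Finset.sum_congr rfl fun t _ => ?_
      rw [← hc t, Finset.sum_smul]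
      exact Finset.sum_congr rfl fun s _ => by rw [mul_comm]
    have hfree : ∑ s, a s • (v s - tr (w s)) = 0 := by
      simp only [smul_sub, Finset.sum_sub_distrib]
      rw [sub_eq_zero]
      have := congrArg tr hsum
      rw [htrsec, map_sum] at this
      refine this.trans (Finset.sum_congr rfl fun s _ => ?_)
      rw [← algebraMap_eq, IsScalarTower.algebraMap_smul, map_smul]
    obtain ⟨κ, A, y, hy, hy'⟩ := Module.Flat.isTrivialRelation_of_sum_smul_eq_zero hfree
    refine ⟨κ, A, fun j => pr M Λ (y j), fun s => ?_, hy'⟩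
    have hw0 : pr M Λ (tr (w s)) = 0 := by rw [hker]; exact (Submodule.Quotient.mk_eq_zero Λ).mpr (w s).2
    rw [← hv s, ← sub_zero (pr M Λ (v s)), ← hw0, ← map_sub, show v s - tr (w s : Fin n → R⟦X⟧) = _ from hy s, map_sum]
    simp only [map_smul]
  exact Module.Flat.projective_of_finitePresentation

end Trunc

/-- Let k be a field, R a commutative k-algebra, n, M natural numbers and Λ an R⟦X⟧-submodule of the
free module R⟦X⟧^n with X^M · R⟦X⟧^n ⊆ Λ. Then Λ is a finitely generated projective R⟦X⟧-module if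
and only if the quotient R⟦X⟧^n / Λ is projective as an R-module. (The published statement
identifies, functorially in R, the families of lattices between t^N Λ₀ and t^{-N} Λ₀ in R((t))^n, Λ₀
the standard lattice, with the R⟦t⟧-submodules in that range whose quotient t^{-N} Λ₀ / Λ is
R-projective; after multiplying by t^N this is the pointwise statement here, with 2N replaced by any
exponent M; a submodule containing X^M · R⟦X⟧^n automatically spans R((X))^n.) -/
theorem result
    (k : Type u) [Field k] (R : Type u) [CommRing R] [Algebra k R] (n M : ℕ)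
    (Λ : Submodule R⟦X⟧ (Fin n → R⟦X⟧))
    (hΛ : ∀ v : Fin n → R⟦X⟧, ((PowerSeries.X : R⟦X⟧) ^ M) • v ∈ Λ) :
    (Module.Finite R⟦X⟧ Λ ∧ Module.Projective R⟦X⟧ Λ) ↔
      Module.Projective R ((Fin n → R⟦X⟧) ⧸ Λ) := by
  exact ⟨fun ⟨h1, h2⟩ => quotient_projective hΛ, fun h => projective_of_quotient hΛ⟩

end Groth.Agent.S19306
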