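import Groth.Statements.S19310
import Mathlib
import Groth.Agent.GeomConn.Algebra
import Groth.Agent.CAlgH.BasicElt

set_option autoImplicit false
universe u
open TensorProduct
open CAlg

namespace Groth.Agent.S19310

/-- Let k be an algebraically closed field, A a finitely generated k-algebra which is an integral domain
(X = Spec A an affine variety), R a commutative k-algebra, possibly non-reduced, and U an open
subset of X_R = Spec (R ⊗_k A) meeting every fibre of X_R → Spec R (a very dense open subset). Then
a regular function on X_R whose restriction to U vanishes is zero: if f ∈ R ⊗_k A maps to 0 in the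
localisation (R ⊗_k A)[1/g] for every g with D(g) ⊆ U, then f = 0. (The published statement is that
automorphisms of a torsor under a smooth affine group scheme over X_R which are the identity over a
very dense open subset are the identity, for X a smooth projective curve; its proof reduces this to
the present assertion about functions, for quasi-projective X; this row is the affine case.) -/
theorem result
    (k : Type u) [Field k] [IsAlgClosed k]
    (A : Type u) [CommRing A] [Algebra k A] [IsDomain A] [Algebra.FiniteType k A]
    (R : Type u) [CommRing R] [Algebra k R]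
    (U : TopologicalSpace.Opens (PrimeSpectrum (TensorProduct k R A)))
    (hsurj : ∀ q : PrimeSpectrum R, ∃ P ∈ U,
      PrimeSpectrum.comap (Algebra.TensorProduct.includeLeftRingHom : R →+* TensorProduct k R A) P = q)
    (f : TensorProduct k R A)
    (hf : ∀ g : TensorProduct k R A, (PrimeSpectrum.basicOpen g : Set (PrimeSpectrum (TensorProduct k R A))) ⊆ U →
      algebraMap (TensorProduct k R A) (Localization.Away g) f = 0) :
    f = 0 := by
  classical
  let b := Module.Free.chooseBasis k A
  let ι := Module.Free.ChooseBasisIndex k A
  let B : Module.Basis ι R (TensorProduct k R A) := Algebra.TensorProduct.basis R b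
  refine B.repr.injective (Finsupp.ext fun i => ?_)
  rw [map_zero, Finsupp.zero_apply]
  have key : ∀ q : PrimeSpectrum R, ∃ s, s ∉ q.asIdeal ∧ s * B.repr f i = 0 := by
    intro q
    let K := q.asIdeal.ResidueField
    let BK : Module.Basis ι K (TensorProduct k K A) := Algebra.TensorProduct.basis K b
    let μ : TensorProduct k R A →ₐ[k] TensorProduct k K A :=
      Algebra.TensorProduct.map (IsScalarTower.toAlgHom k R K) (AlgHom.id k A)
    have hμ : ∀ x l, BK.repr (μ x) l = algebraMap R K (B.repr x l) := by
      intro x l
      induction x using TensorProduct.induction_on with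
      | zero => simp
      | add x y hx hy => simp only [map_add, Finsupp.add_apply, hx, hy]
      | tmul r a =>
        simp only [μ, B, BK, Algebra.TensorProduct.map_tmul, Algebra.TensorProduct.basis_repr_tmul, AlgHom.id_apply,
          IsScalarTower.coe_toAlgHom', Finsupp.smul_apply, Finsupp.mapRange_apply, smul_eq_mul, map_mul,
          ← IsScalarTower.algebraMap_apply]
    haveI : IsDomain (TensorProduct k K A) := Groth.Agent.GeomConn.isDomain_tensorProduct K A
    obtain ⟨P, hPU, hPq⟩ := hsurj q
    obtain ⟨_, ⟨g, rfl⟩, hPg, hgU⟩ :=
      PrimeSpectrum.isBasis_basic_opens.exists_subset_of_mem_open hPU U.isOpen |> fun ⟨V, hV, h1, h2⟩ =>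
        (by obtain ⟨W, ⟨g, rfl⟩, rfl⟩ := hV; exact ⟨_, ⟨g, rfl⟩, h1, h2⟩ :
          ∃ V ∈ Set.range (fun g : TensorProduct k R A => (PrimeSpectrum.basicOpen g : Set _)), P ∈ V ∧ V ⊆ U)
    obtain ⟨⟨_, n, rfl⟩, hgf⟩ := (IsLocalization.map_eq_zero_iff (Submonoid.powers g) _ f).mp (hf g hgU)
    set G := g ^ n
    have hGP : G ∉ P.asIdeal := fun h => (show g ∉ P.asIdeal from hPg) (P.isPrime.mem_of_pow_mem n h)
    have hG : μ G ≠ 0 := by
      intro h
      refine hGP ?_
      rw [← B.linearCombination_repr G, Finsupp.linearCombination_apply]
      refine sum_mem fun l _ => ?_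
      show B.repr G l • B l ∈ P.asIdeal
      have h2 := hμ G l
      rw [h, map_zero, Finsupp.zero_apply, eq_comm, Ideal.algebraMap_residueField_eq_zero] at h2
      rw [Algebra.smul_def]
      refine Ideal.mul_mem_right _ _ ?_
      rw [← hPq] at h2
      exact h2
    let J : Finset ι := (B.repr f).support.biUnion fun j => (B.repr (G * B j)).support
    let σ := (B.repr f).support
    have hli : LinearIndependent K fun (j : σ) (l : J) => algebraMap R K (B.repr (G * B j) l) := by
      refine Fintype.linearIndependent_iff.mpr fun x hx => ?_
      have h1 : LinearIndependent K fun j : σ => μ G * BK j :=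
        (BK.linearIndependent.comp _ Subtype.val_injective).map' (LinearMap.mulLeft K (μ G))
          (LinearMap.ker_eq_bot.mpr (mul_right_injective₀ hG))
      refine Fintype.linearIndependent_iff.mp h1 x (BK.repr.injective (Finsupp.ext fun l => ?_))
      have hterm : ∀ j : σ, BK.repr (μ G * BK j) l = algebraMap R K (B.repr (G * B j) l) := fun j => by
        have : μ (B j) = BK j := by simp [μ, B, BK]
        rw [← hμ, map_mul μ, this]
      simp only [map_sum, map_smul, map_zero, Finsupp.finsetSum_apply, Finsupp.smul_apply, Finsupp.zero_apply, hterm]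
      by_cases hl : l ∈ J
      · have := congrFun hx ⟨l, hl⟩
        simpa [Finset.sum_apply] using this
      · refine Finset.sum_eq_zero fun j _ => ?_
        have : B.repr (G * B j) l = 0 := by
          by_contra h; exact hl (Finset.mem_biUnion.mpr ⟨j, j.2, Finsupp.mem_support_iff.mpr h⟩)
        rw [this, map_zero, smul_zero]
    obtain ⟨Φ, hΦ⟩ := LinearMap.exists_leftInverse_of_injective
      (Fintype.linearCombination K fun (j : σ) (l : J) => algebraMap R K (B.repr (G * B j) l))
      (LinearMap.ker_eq_bot.mpr (linearIndependent_iff_injective_fintypeLinearCombination.mp hli))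
    obtain ⟨s, hs, hN⟩ := CAlgH.BasicElt.exists_scaled q (fun x : J × σ => Φ (Pi.single x.1 1) x.2)
    choose N hN using hN
    let Mx : Matrix σ σ R := Matrix.of fun i j => ∑ l : J, N (l, i) * B.repr (G * B j) l
    have hMx : Mx.map (algebraMap R K) = (algebraMap R K s) • 1 := by
      ext i j
      have h1 := congrFun (LinearMap.congr_fun hΦ (Pi.single j (1 : K))) i
      simp only [LinearMap.comp_apply, Fintype.linearCombination_apply_single, one_smul, LinearMap.id_apply] at h1
      rw [← Finset.univ_sum_single (fun l : J => algebraMap R K (B.repr (G * B j) l)), map_sum, Finset.sum_apply] at h1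
      simp only [Mx, Matrix.map_apply, Matrix.of_apply, map_sum, map_mul, hN, Matrix.smul_apply, smul_eq_mul, mul_assoc,
        ← Finset.mul_sum]
      rw [Matrix.one_apply, ← Pi.single_apply j (1 : K) i, ← h1, Finset.mul_sum]
      refine Finset.sum_congr rfl fun l _ => ?_
      rw [show algebraMap R K (N (l, i)) = algebraMap R K s * Φ (Pi.single l 1) i from hN (l, i),
        show (Pi.single l (algebraMap R K (B.repr (G * B j) l)) : J → K) = algebraMap R K (B.repr (G * B j) l) • Pi.single l 1 by
          rw [← Pi.single_smul', smul_eq_mul, mul_one], map_smul, Pi.smul_apply, smul_eq_mul]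
      ring
    by_cases hi : i ∈ σ
    · refine ⟨Mx.det, fun h => ?_, ?_⟩
      · have := Ideal.algebraMap_residueField_eq_zero.mpr h
        rw [RingHom.map_det, RingHom.mapMatrix_apply, hMx, Matrix.det_smul, Matrix.det_one, mul_one] at this
        exact hs (Ideal.algebraMap_residueField_eq_zero.mp (eq_zero_of_pow_eq_zero this))
      · have h0 : Mx.mulVec (fun j : σ => B.repr f j) = 0 := by
          funext i'
          simp only [Mx, Matrix.mulVec, dotProduct, Matrix.of_apply, Finset.sum_mul, Pi.zero_apply]
          rw [Finset.sum_comm]
          refine Finset.sum_eq_zero fun l _ => ?_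
          have e1 : ∑ j : σ, B.repr f j • B.repr (G * B j) = B.repr (G * f) := by
            conv_rhs => rw [← B.linearCombination_repr f, Finsupp.linearCombination_apply, Finsupp.sum, Finset.mul_sum]
            rw [map_sum, Finset.sum_coe_sort σ fun j => B.repr f j • B.repr (G * B j)]
            refine Finset.sum_congr rfl fun j _ => ?_
            rw [mul_smul_comm, map_smul]
          have e2 := congrArg (fun w : ι →₀ R => w l) e1
          simp only [Finsupp.finsetSum_apply, Finsupp.smul_apply, smul_eq_mul] at e2
          rw [show G * f = 0 from hgf, map_zero, Finsupp.zero_apply] at e2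
          simp only [mul_assoc]
          rw [← Finset.mul_sum]
          refine mul_eq_zero_of_right _ ?_
          rw [← e2]
          exact Finset.sum_congr rfl fun j _ => mul_comm _ _
        have h2 := congrArg Mx.adjugate.mulVec h0
        rw [Matrix.mulVec_mulVec, Matrix.adjugate_mul, Matrix.mulVec_zero, Matrix.smul_mulVec, Matrix.one_mulVec] at h2
        exact congrFun h2 ⟨i, hi⟩
    · exact ⟨1, fun h => q.isPrime.ne_top ((Ideal.eq_top_iff_one _).mpr h), by rw [Finsupp.notMem_support_iff.mp hi, mul_zero]⟩
  by_contra hne
  obtain ⟨m, hm, hle⟩ := Ideal.exists_le_maximal (Ideal.torsionOf R R (B.repr f i))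
    (fun h => hne (by simpa using ((Ideal.eq_top_iff_one _).mp h : (1 : R) ∈ Ideal.torsionOf R R (B.repr f i))))
  obtain ⟨s, hs, hsc⟩ := key ⟨m, hm.isPrime⟩
  exact hs (hle ((Ideal.mem_torsionOf_iff _ _).mpr hsc))

end Groth.Agent.S19310
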