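import Groth.Statements.S19322
import Mathlib

set_option autoImplicit false
universe v u
open CategoryTheory CategoryTheory.Limits
open SpSeq


namespace Groth.Agent.S19322

set_option backward.isDefEq.respectTransparency false
set_option backward.defeqAttrib.useBackward true

open HomologicalComplex

variable {K : Type u} [Field K]

lemma finrank_coker {A B : ModuleCat.{v} K} (f : A ⟶ B) [Mono f] [Module.Finite K B] :
    Module.finrank K B = Module.finrank K A + Module.finrank K (cokernel f : ModuleCat K) := by
  have e : Module.finrank K (cokernel f : ModuleCat K) = Module.finrank K (B ⧸ LinearMap.range f.hom) :=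
    (ModuleCat.cokernelIsoRangeQuotient f).toLinearEquiv.finrank_eq
  have h1 := Submodule.finrank_quotient_add_finrank (LinearMap.range f.hom)
  have h2 : Module.finrank K (LinearMap.range f.hom) = Module.finrank K A := LinearMap.finrank_range_of_inj ((ModuleCat.mono_iff_injective f).1 inferInstance)
  omega

lemma finite_of_mono {A B : ModuleCat.{v} K} (f : A ⟶ B) [Mono f] [Module.Finite K B] : Module.Finite K A :=
  Module.Finite.of_injective f.hom ((ModuleCat.mono_iff_injective f).1 inferInstance)

lemma finite_of_epi {A B : ModuleCat.{v} K} (f : A ⟶ B) [Epi f] [Module.Finite K A] : Module.Finite K B :=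
  Module.Finite.of_surjective f.hom ((ModuleCat.epi_iff_surjective f).1 inferInstance)

lemma finrank_zero {A : ModuleCat.{v} K} (h : IsZero A) : Module.finrank K A = 0 := by
  haveI := ModuleCat.subsingleton_of_isZero h
  exact Module.finrank_zero_of_subsingleton

variable {r₀ : ℤ} (E : CohomologicalSpectralSequence (ModuleCat.{v} K) r₀)

lemma step (k : ℤ) (hk : r₀ ≤ k) (pq : ℤ × ℤ) (hf : Module.Finite K ((E.page k hk).X pq)) :
    Module.Finite K ((E.page (k + 1) (by omega)).X pq) ∧
    Module.finrank K ((E.page (k + 1) (by omega)).X pq) ≤ Module.finrank K ((E.page k hk).X pq) ∧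
    (Module.finrank K ((E.page (k + 1) (by omega)).X pq) = Module.finrank K ((E.page k hk).X pq) →
      (E.page k hk).d (pq - (k, 1 - k)) pq = 0 ∧ (E.page k hk).d pq (pq + (k, 1 - k)) = 0) := by
  let P := E.page k hk
  haveI : Module.Finite K (P.X pq) := hf
  haveI := finite_of_mono (P.iCycles pq)
  haveI := finite_of_epi (P.homologyπ pq)
  have h1 : Module.finrank K (P.homology pq) ≤ Module.finrank K (P.cycles pq) :=
    LinearMap.finrank_le_finrank_of_surjective (f := (P.homologyπ pq).hom)
      ((ModuleCat.epi_iff_surjective _).1 inferInstance)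
  have h2 : Module.finrank K (P.cycles pq) ≤ Module.finrank K (P.X pq) :=
    LinearMap.finrank_le_finrank_of_injective (f := (P.iCycles pq).hom) ((ModuleCat.mono_iff_injective _).1 inferInstance)
  have he := (E.iso k (k + 1) pq rfl hk).toLinearEquiv
  refine ⟨Module.Finite.equiv he, by rw [← he.finrank_eq]; exact h1.trans h2, fun h => ?_⟩
  rw [← he.finrank_eq] at h
  have hb : Function.Bijective (P.iCycles pq).hom :=
    ⟨(ModuleCat.mono_iff_injective _).1 inferInstance, (LinearMap.injective_iff_surjective_of_finrank_eq_finrank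
      (le_antisymm h2 (h.symm.le.trans h1))).1 ((ModuleCat.mono_iff_injective _).1 inferInstance)⟩
  have hπ : Function.Injective (P.homologyπ pq).hom := (LinearMap.injective_iff_surjective_of_finrank_eq_finrank
      (le_antisymm (h2.trans h.symm.le) h1)).2 ((ModuleCat.epi_iff_surjective _).1 inferInstance)
  haveI : Epi (P.iCycles pq) := (ModuleCat.epi_iff_surjective _).2 hb.2
  haveI : Mono (P.homologyπ pq) := (ModuleCat.mono_iff_injective _).2 hπ
  constructor
  · have : P.toCycles (pq - ((k, 1 - k) : ℤ × ℤ)) pq = 0 := by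
      rw [← cancel_mono (P.homologyπ pq), P.toCycles_comp_homologyπ, zero_comp]
    rw [← P.toCycles_i, this, zero_comp]
  · rw [← cancel_epi (P.iCycles pq), P.iCycles_d, comp_zero]

lemma page_finite (hfd : ∀ pq : ℤ × ℤ, Module.Finite K ((E.page r₀ le_rfl).X pq)) (k : ℤ) (hk : r₀ ≤ k) :
    ∀ pq, Module.Finite K ((E.page k hk).X pq) := by
  induction k, hk using Int.le_induction with
  | base => exact hfd
  | succ k hk ih => exact fun pq => (step E k hk pq (ih pq)).1

lemma page_le (hfd : ∀ pq : ℤ × ℤ, Module.Finite K ((E.page r₀ le_rfl).X pq)) (i j : ℤ) (hi : r₀ ≤ i) (hij : i ≤ j)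
    (pq : ℤ × ℤ) : Module.finrank K ((E.page j (hi.trans hij)).X pq) ≤ Module.finrank K ((E.page i hi).X pq) := by
  induction j, hij using Int.le_induction with
  | base => exact le_rfl
  | succ j hij ih => exact ((step E j _ pq (page_finite E hfd j _ pq)).2.1).trans ih

lemma finrank_fil {M : ModuleCat.{v} K} [Module.Finite K M] (F : ℤ → Subobject M) (hF : Antitone F) (p : ℤ) (l : ℕ) :
    Module.finrank K (F p : ModuleCat K) = Module.finrank K (F (p + l) : ModuleCat K) +
      ∑ s ∈ Finset.Ico p (p + l), Module.finrank K (SpSeq.grPiece F hF s : ModuleCat K) := by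
  induction l with
  | zero => rw [Nat.cast_zero, add_zero, Finset.Ico_self, Finset.sum_empty, add_zero]
  | succ l ih =>
    haveI := finite_of_mono (F (p + l)).arrow
    have hs : Module.finrank K (F (p + l) : ModuleCat K) = Module.finrank K (F (p + l + 1) : ModuleCat K) +
        Module.finrank K (SpSeq.grPiece F hF (p + l) : ModuleCat K) :=
      finrank_coker ((F (p + l + 1)).ofLE (F (p + l)) (hF (Int.le_add_one le_rfl)))
    have hi : Finset.Ico p (p + (l : ℤ) + 1) = insert (p + (l : ℤ)) (Finset.Ico p (p + (l : ℤ))) := by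
      ext x; simp only [Finset.mem_Ico, Finset.mem_insert]; omega
    rw [show p + ((l + 1 : ℕ) : ℤ) = p + l + 1 by push_cast; ring, hi, Finset.sum_insert (by simp), ih, hs]
    ring

/-- Let K be a field and E a cohomological spectral sequence of K-vector spaces, pages from r₀,
concentrated in the first quadrant on page r₀ and with all terms of page r₀ finite-dimensional, and
let H be abutment data for E whose filtration in degree n is finite, H n finite-dimensional. If the
dimensions of the page-r₀ terms E^{s, n-s}, 0 ≤ s ≤ n, add up to the dimension of H n, then every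
position of total degree n is stationary from page r₀ on: all differentials into and out of it
vanish on every page. (The printed statement takes r₀ a positive integer and n ≥ 0; neither
restriction is needed.) -/
theorem result
    {K : Type u} [Field K] {r₀ : ℤ}
    (E : CohomologicalSpectralSequence (ModuleCat.{v} K) r₀) (H : ℤ → ModuleCat.{v} K)
    (a : SpSeq.Abutment E H) (n : ℤ) (hfin : a.IsFinite n)
    (hquad : ∀ pq : ℤ × ℤ, pq.1 < 0 ∨ pq.2 < 0 → IsZero ((E.page r₀ le_rfl).X pq))
    (hfd : ∀ pq : ℤ × ℤ, Module.Finite K ((E.page r₀ le_rfl).X pq))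
    (hH : Module.Finite K (H n))
    (hsum : ∑ s ∈ Finset.Icc (0 : ℤ) n, Module.finrank K ((E.page r₀ le_rfl).X (s, n - s)) =
      Module.finrank K (H n)) :
    ∀ s : ℤ, SpSeq.StationaryAt E (s, n - s) r₀ := by
  haveI := hH
  have hgr : ∀ s : ℤ, Module.finrank K (SpSeq.grPiece (a.fil n) (a.anti n) s : ModuleCat K) =
      Module.finrank K ((E.page (a.rk (s, n - s)) (a.stat (s, n - s)).1).X (s, n - s)) := fun s => by
    have key : ∀ m, m = n → Module.finrank K (SpSeq.grPiece (a.fil n) (a.anti n) s : ModuleCat K) =
        Module.finrank K (SpSeq.grPiece (a.fil m) (a.anti m) s : ModuleCat K) := by rintro m rfl; rfl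
    rw [key (s + (n - s)) (by omega)]
    exact (a.β (s, n - s)).toLinearEquiv.finrank_eq.symm
  obtain ⟨⟨i, hi⟩, ⟨j, hj⟩⟩ := hfin
  change a.fil n i = ⊤ at hi
  change a.fil n j = ⊥ at hj
  let lo := min (min i 0) j
  let hi' := max j (n + 1)
  obtain ⟨l, hl⟩ : ∃ l : ℕ, hi' = lo + l := ⟨(hi' - lo).toNat, by omega⟩
  have htop : a.fil n lo = ⊤ := top_le_iff.1 (hi ▸ a.anti n ((min_le_left _ j).trans (min_le_left i 0)))
  have hbot : a.fil n hi' = ⊥ := le_bot_iff.1 (hj ▸ a.anti n (le_max_left j (n + 1)))
  have hsum' := finrank_fil (a.fil n) (a.anti n) lo l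
  rw [← hl] at hsum'
  haveI : IsIso (a.fil n lo).arrow := (Subobject.isIso_arrow_iff_eq_top _).2 htop
  rw [(asIso (a.fil n lo).arrow).toLinearEquiv.finrank_eq,
    finrank_zero (IsZero.of_mono_eq_zero (a.fil n hi').arrow (by rw [hbot]; exact Subobject.bot_arrow)), zero_add] at hsum'
  have hle : ∀ s, Module.finrank K (SpSeq.grPiece (a.fil n) (a.anti n) s : ModuleCat K) ≤
      Module.finrank K ((E.page r₀ le_rfl).X (s, n - s)) := fun s => by
    rw [hgr]; exact page_le E hfd r₀ _ le_rfl (a.stat _).1 _
  have hsub : Finset.Icc (0 : ℤ) n ⊆ Finset.Ico lo hi' := fun x hx => by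
    simp only [Finset.mem_Icc, Finset.mem_Ico] at hx ⊢; omega
  have hout : ∀ s, s ∉ Finset.Icc (0 : ℤ) n → Module.finrank K ((E.page r₀ le_rfl).X (s, n - s)) = 0 := fun s hs => by
    simp only [Finset.mem_Icc] at hs
    exact finrank_zero (hquad (s, n - s) (by change s < 0 ∨ n - s < 0; omega))
  have heq : ∀ s, Module.finrank K (SpSeq.grPiece (a.fil n) (a.anti n) s : ModuleCat K) =
      Module.finrank K ((E.page r₀ le_rfl).X (s, n - s)) := fun s => by
    by_cases hs : s ∈ Finset.Icc (0 : ℤ) n
    · refine (Finset.sum_eq_sum_iff_of_le (fun s _ => hle s)).1 (le_antisymm (Finset.sum_le_sum fun s _ => hle s) ?_) s hs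
      rw [hsum, hsum', Finset.sum_subset hsub fun s _ hs => Nat.eq_zero_of_le_zero ((hle s).trans (hout s hs).le)]
    · have := hle s; have := hout s hs; omega
  intro s
  refine ⟨le_rfl, fun r' h₀ _ => ?_⟩
  rcases le_or_gt (a.rk (s, n - s)) r' with h | h
  · exact (a.stat (s, n - s)).2 r' h₀ h
  · refine (step E r' h₀ _ (page_finite E hfd r' h₀ _)).2.2 ?_
    have h1 := page_le E hfd (r' + 1) (a.rk (s, n - s)) (by omega) (by omega) (s, n - s)
    have h2 := page_le E hfd r₀ r' le_rfl h₀ (s, n - s)
    have h3 := (step E r' h₀ (s, n - s) (page_finite E hfd r' h₀ _)).2.1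
    have h4 := heq s
    rw [hgr] at h4
    omega

end Groth.Agent.S19322
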