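import Groth.Statements.S19323
import Mathlib
import Groth.Agent.SpSeqStat.Basic

set_option autoImplicit false
universe v u
open CategoryTheory CategoryTheory.Limits
open SpSeq


namespace Groth.Agent.S19323

set_option backward.isDefEq.respectTransparency false
set_option backward.defeqAttrib.useBackward true

/-- In an abelian category let E and E' be first-quadrant E₂ cohomological spectral sequences and φ : E
⟶ E' a morphism of spectral sequences such that (i) every differential of E' leaving a position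
whose first coordinate is nonzero vanishes, (ii) on every page the map φ at each position followed
by the outgoing differential of E' is zero, and (iii) φ is a monomorphism at every position of page
2. Then E degenerates at page 2. -/
theorem result
    {C : Type u} [Category.{v} C] [Abelian C]
    (E E' : E₂CohomologicalSpectralSequence C) (φ : E ⟶ E')
    (hE : ∀ pq : ℤ × ℤ, pq.1 < 0 ∨ pq.2 < 0 → IsZero ((E.page 2 le_rfl).X pq))
    (hE' : ∀ pq : ℤ × ℤ, pq.1 < 0 ∨ pq.2 < 0 → IsZero ((E'.page 2 le_rfl).X pq))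
    (hd' : ∀ (r : ℤ) (hr : 2 ≤ r) (pq : ℤ × ℤ), pq.1 ≠ 0 →
      (E'.page r hr).d pq (pq + (r, 1 - r)) = 0)
    (hφd : ∀ (r : ℤ) (hr : 2 ≤ r) (pq : ℤ × ℤ),
      (φ.hom r hr).f pq ≫ (E'.page r hr).d pq (pq + (r, 1 - r)) = 0)
    (hmono : ∀ pq : ℤ × ℤ, Mono ((φ.hom 2 le_rfl).f pq)) :
    SpSeq.Degenerates E 2 := by
  have hd : ∀ (r : ℤ) (hr : 2 ≤ r), (∀ pq : ℤ × ℤ, r ≤ pq.1 → Mono ((φ.hom r hr).f pq)) →
      ∀ pq pq' : ℤ × ℤ, (E.page r hr).d pq pq' = 0 := fun r hr hm pq pq' => by
    by_cases h : pq + ((r, 1 - r) : ℤ × ℤ) = pq'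
    · subst h
      rcases lt_or_ge pq.1 0 with hp | hp
      · exact (SpSeqStat.page_isZero E 2 le_rfl pq (hE pq (Or.inl hp)) r hr).eq_of_src _ _
      · haveI := hm (pq + ((r, 1 - r) : ℤ × ℤ)) (by change r ≤ pq.1 + r; omega)
        rw [← cancel_mono ((φ.hom r hr).f _), zero_comp, ← (φ.hom r hr).comm, hφd]
    · exact (E.page r hr).shape _ _ h
  have hind : ∀ (r : ℤ) (hr : 2 ≤ r), ∀ pq : ℤ × ℤ, r ≤ pq.1 → Mono ((φ.hom r hr).f pq) := by
    intro r hr
    induction r, hr using Int.le_induction with
    | base => exact fun pq _ => hmono pq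
    | succ r hr ih =>
      intro pq hp
      haveI := ih pq (by omega)
      have hin : (E'.page r hr).d (pq - ((r, 1 - r) : ℤ × ℤ)) pq = 0 := by
        have h := hd' r hr (pq - ((r, 1 - r) : ℤ × ℤ)) (by change pq.1 - r ≠ 0; omega)
        rwa [sub_add_cancel] at h
      have hin' : ∀ i, (E'.page r hr).d i pq = 0 := fun i => by
        by_cases hi : i + ((r, 1 - r) : ℤ × ℤ) = pq
        · have : i = pq - ((r, 1 - r) : ℤ × ℤ) := by rw [← hi, add_sub_cancel_right]
          rw [this]; exact hin
        · exact (E'.page r hr).shape _ _ hi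
      haveI : IsIso ((E'.page r hr).homologyπ pq) :=
        HomologicalComplex.isIso_homologyπ _ _ pq rfl (hin' _)
      haveI : IsIso ((E.page r hr).homologyπ pq) :=
        HomologicalComplex.isIso_homologyπ _ _ pq rfl (hd r hr ih _ _)
      haveI : Mono (HomologicalComplex.cyclesMap (φ.hom r hr) pq) :=
        mono_of_mono_fac (HomologicalComplex.cyclesMap_i (φ.hom r hr) pq)
      haveI : Mono (HomologicalComplex.homologyMap (φ.hom r hr) pq) := by
        have : HomologicalComplex.homologyMap (φ.hom r hr) pq = inv ((E.page r hr).homologyπ pq) ≫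
            HomologicalComplex.cyclesMap (φ.hom r hr) pq ≫ (E'.page r hr).homologyπ pq := by
          rw [IsIso.eq_inv_comp, HomologicalComplex.homologyπ_naturality]
        rw [this]; infer_instance
      have : (φ.hom (r + 1)).f pq = (E.iso r (r + 1) pq rfl hr).inv ≫
          HomologicalComplex.homologyMap (φ.hom r hr) pq ≫ (E'.iso r (r + 1) pq rfl hr).hom := by
        rw [φ.comm r (r + 1) pq rfl hr, Iso.inv_hom_id_assoc]
      rw [this]; infer_instance
  exact ⟨le_rfl, fun r h0 _ pq pq' => hd r h0 (hind r h0) pq pq'⟩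

end Groth.Agent.S19323
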