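import Groth.Statements.S19326
import Mathlib
import Groth.Agent.GrpAlgComod.Basic

set_option autoImplicit false
universe u
open TensorProduct
open GLin

namespace Groth.Agent.S19326

open scoped TensorProduct


/-- Let k be a field, M a finite abelian group and D = Spec k[M] the finite diagonalizable group scheme
it defines, acting on an affine k-scheme U = Spec R through a multiplicative coaction R → R ⊗ k[M];
write R_a for the weight space of a ∈ M (elements with coaction f ⊗ a). For an ideal J of R the
induced action of D on the closed subscheme V(J) is trivial, meaning that the coaction followed by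
reduction modulo J equals f ↦ (f mod J) ⊗ 1, exactly when J contains the ideal generated by the
weight spaces R_a for a ≠ 0; in other words that ideal defines the largest closed subscheme of U on
which D acts trivially. (The printed setting has U smooth, which plays no role here and is not
assumed; the further assertion that the construction commutes with flat base change on U/D is not
part of this statement.) -/
theorem result
    {k : Type u} [Field k] {M : Type u} [AddCommGroup M] [Finite M]
    {R : Type u} [CommRing R] [Algebra k R] [HopfRep.Comod k (AddMonoidAlgebra k M) R]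
    [GLin.IsCoactAlg k (AddMonoidAlgebra k M) R] (J : Ideal R) :
    (∀ f : R, LinearMap.rTensor (AddMonoidAlgebra k M) (Ideal.Quotient.mkₐ k J).toLinearMap
        (HopfRep.Comod.coact (k := k) (A := AddMonoidAlgebra k M) f) =
        (Ideal.Quotient.mk J f) ⊗ₜ[k] (1 : AddMonoidAlgebra k M)) ↔
      Ideal.span (⋃ (a : M) (_ : a ≠ 0),
        (HopfRep.eigenspace k (AddMonoidAlgebra k M) R (AddMonoidAlgebra.single a 1) : Set R)) ≤ J := by
  classical
  set e := AddMonoidAlgebra.basis M k with he
  have hb : ∀ a : M, e a = AddMonoidAlgebra.single a (1 : k) := fun a => by simp [he]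
  have hΔ : ∀ a, Coalgebra.comul (R := k) (e a) = e a ⊗ₜ[k] e a := fun a => by rw [hb]; simp
  have hε : ∀ a, Coalgebra.counit (R := k) (e a) = 1 := fun a => by rw [hb]; simp
  have h1 : (1 : AddMonoidAlgebra k M) = e 0 := by rw [hb, AddMonoidAlgebra.one_def]
  have hcomm : ∀ (a : M) (x : R ⊗[k] AddMonoidAlgebra k M),
      Groth.Agent.GrpAlgComod.coef e a
        (LinearMap.rTensor (AddMonoidAlgebra k M) (Ideal.Quotient.mkₐ k J).toLinearMap x) =
      Ideal.Quotient.mk J (Groth.Agent.GrpAlgComod.coef e a x) := by
    intro a x
    induction x using TensorProduct.induction_on with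
    | zero => simp
    | tmul r y =>
      simp only [LinearMap.rTensor_tmul, Groth.Agent.GrpAlgComod.coef_tmul]
      exact ((Ideal.Quotient.mkₐ k J).toLinearMap.map_smul _ r).symm
    | add x y hx hy => simp [hx, hy]
  constructor
  · intro h
    rw [Ideal.span_le]
    intro f hf
    simp only [Set.mem_iUnion] at hf
    obtain ⟨a, ha, hfa⟩ := hf
    have hfa' : HopfRep.Comod.coact (k := k) (A := AddMonoidAlgebra k M) f = f ⊗ₜ[k] e a := by
      rw [hb]; exact hfa
    have h2 := congrArg (Groth.Agent.GrpAlgComod.coef e a) (h f)
    rw [hcomm, hfa', h1, Groth.Agent.GrpAlgComod.coef_basis, Groth.Agent.GrpAlgComod.coef_basis, if_pos rfl,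
      if_neg (Ne.symm ha)] at h2
    exact Ideal.Quotient.eq_zero_iff_mem.mp h2
  · intro h f
    have hmem : ∀ a : M, a ≠ 0 → Groth.Agent.GrpAlgComod.wproj e a f ∈ J := fun a ha =>
      h (Ideal.subset_span (by
        simp only [Set.mem_iUnion]
        exact ⟨a, ha, by
          rw [← hb]
          exact Groth.Agent.GrpAlgComod.coact_wproj e hΔ a f⟩))
    apply Groth.Agent.GrpAlgComod.ext_coef e
    intro a
    rw [hcomm, h1, Groth.Agent.GrpAlgComod.coef_basis]
    by_cases ha : a = 0
    · subst ha
      rw [if_pos rfl]
      obtain ⟨s, hs0, -, hsum⟩ := Groth.Agent.GrpAlgComod.eq_sum_wproj e hε f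
      rw [Ideal.Quotient.eq]
      show Groth.Agent.GrpAlgComod.wproj e 0 f - f ∈ J
      conv => enter [2, 2]; rw [← hsum]
      by_cases h0 : (0 : M) ∈ s
      · rw [← Finset.add_sum_erase s _ h0, sub_add_cancel_left]
        exact neg_mem (J.sum_mem fun c hc => hmem c (Finset.ne_of_mem_erase hc))
      · rw [hs0 0 h0, zero_sub]
        exact neg_mem (J.sum_mem fun c hc => hmem c (fun h' => h0 (h' ▸ hc)))
    · rw [if_neg (Ne.symm ha)]
      exact Ideal.Quotient.eq_zero_iff_mem.mpr (hmem a ha)

end Groth.Agent.S19326
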