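import Groth.Statements.S19328
import Groth.Agent.ModPairLib.Glue
import Mathlib.RingTheory.AdjoinRoot
import Mathlib.RingTheory.RingHom.Flat
import Mathlib.RingTheory.LocalRing.ResidueField.Ideal
import Mathlib.RingTheory.Polynomial.IntegralNormalization

set_option autoImplicit false
universe u
open CategoryTheory CategoryTheory.Limits AlgebraicGeometry
open ModPair

namespace Groth.Agent.S19328

/-- Let A be a commutative ring such that Spec A is local for fppf coverings, in the sense that for
every scheme X, every jointly surjective family of morphisms to X each of which is flat and of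
finite presentation (locally of finite presentation, quasi-compact and quasi-separated), and every
morphism Spec A ⟶ X, the morphism factors through a member of the family. Then the residue field of
A at every prime ideal is algebraically closed. -/
theorem result (A : Type u) [CommRing A]
    (hloc : ∀ (X : Scheme.{u}) (R : Presieve X),
      R ∈ Scheme.precoverage (@Flat ⊓ @LocallyOfFinitePresentation ⊓ @QuasiCompact ⊓ @QuasiSeparated) X →
      ∀ g : Spec (CommRingCat.of A) ⟶ X,
        ∃ (Y : Scheme.{u}) (v : Y ⟶ X) (h : Spec (CommRingCat.of A) ⟶ Y), R v ∧ h ≫ v = g)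
    (p : Ideal A) [p.IsPrime] : IsAlgClosed p.ResidueField := by
  refine IsAlgClosed.of_exists_root _ fun P hPm hPirr => ?_
  let a := algebraMap A p.ResidueField
  have hfrac : ∀ x : p.ResidueField, ∃ r s, s ∉ p ∧ a s * x = a r := fun x => by
    obtain ⟨y, rfl⟩ := IsLocalRing.residue_surjective x
    obtain ⟨⟨r, s⟩, rfl⟩ := IsLocalization.mk'_surjective p.primeCompl y
    refine ⟨r, s, s.2, ?_⟩
    show IsLocalRing.residue _ (algebraMap A (Localization.AtPrime p) s.1) * IsLocalRing.residue _ _ =
      IsLocalRing.residue _ (algebraMap A (Localization.AtPrime p) r)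
    rw [← map_mul, IsLocalization.mk'_spec']
  choose r s hs hrs using hfrac
  let t := ∏ i ∈ Finset.range P.natDegree, s (P.coeff i)
  have hat : a t ≠ 0 := by
    rw [Ne, Ideal.algebraMap_residueField_eq_zero]
    exact fun h => (Ideal.IsPrime.prod_mem_iff.1 h).elim fun i hi => hs _ hi.2
  let d := P.natDegree
  have hd : 0 < d := hPirr.natDegree_pos
  have hlift : Polynomial.scaleRoots P (a t) ∈ Polynomial.lifts a := by
    rw [Polynomial.lifts_iff_coeff_lifts]
    intro i
    rw [Polynomial.coeff_scaleRoots]
    rcases lt_trichotomy i d with hi | rfl | hi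
    · obtain ⟨k, hk⟩ : ∃ k, d - i = k + 1 := ⟨d - i - 1, by omega⟩
      obtain ⟨q, hq⟩ := Finset.dvd_prod_of_mem (fun i => s (P.coeff i)) (Finset.mem_range.2 hi)
      refine ⟨q * r (P.coeff i) * t ^ k, ?_⟩
      have ht : a t = a (s (P.coeff i)) * a q := (congrArg a hq).trans (map_mul a _ _)
      change _ = P.coeff i * a t ^ (d - i)
      rw [map_mul, map_mul, map_pow, ← hrs, hk, pow_succ, ht]
      ring
    · exact ⟨1, by simp [hPm.coeff_natDegree, d]⟩
    · exact ⟨0, by simp [Polynomial.coeff_eq_zero_of_natDegree_lt hi]⟩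
  obtain ⟨Q, hQ, hQd, hQm⟩ := Polynomial.lifts_and_degree_eq_and_monic hlift
    ((Polynomial.monic_scaleRoots_iff _).2 hPm)
  have hQ0 : 0 < Q.natDegree := by
    rw [Polynomial.natDegree_eq_of_degree_eq hQd, Polynomial.natDegree_scaleRoots]
    exact hd
  let B := AdjoinRoot Q
  haveI : Module.Free A B := hQm.free_adjoinRoot
  haveI : Module.Finite A B := hQm.finite_adjoinRoot
  let v : Spec (CommRingCat.of B) ⟶ Spec (CommRingCat.of A) := Spec.map (CommRingCat.ofHom (algebraMap A B))
  haveI : Flat v := by
    rw [HasRingHomProperty.Spec_iff (P := @Flat)]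
    exact RingHom.flat_algebraMap_iff.2 inferInstance
  haveI : LocallyOfFinitePresentation v := by
    rw [HasRingHomProperty.Spec_iff (P := @LocallyOfFinitePresentation)]
    exact RingHom.finitePresentation_algebraMap.2 inferInstance
  have hsurj : Function.Surjective v.base := fun x => by
    have hint : Algebra.IsIntegral A B := inferInstance
    have hker : RingHom.ker (algebraMap A B) ≤ x.asIdeal := by
      intro y hy
      have hy' : AdjoinRoot.mk Q (Polynomial.C y) = 0 := hy
      rw [AdjoinRoot.mk_eq_zero] at hy'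
      by_contra hne
      have hy0 : Polynomial.C y ≠ 0 := fun h0 => hne (by rw [Polynomial.C_eq_zero.1 h0]; exact x.asIdeal.zero_mem)
      exact hQm.not_dvd_of_natDegree_lt hy0 (by rw [Polynomial.natDegree_C]; exact hQ0) hy'
    haveI : x.asIdeal.IsPrime := x.2
    obtain ⟨P', -, hP', h'⟩ := Ideal.exists_ideal_over_prime_of_isIntegral x.asIdeal (⊥ : Ideal B) hker
    exact ⟨⟨P', hP'⟩, PrimeSpectrum.ext h'⟩
  obtain ⟨Y, w, h, hw, hwh⟩ := hloc _ (Presieve.singleton v) (by
    rw [Scheme.singleton_mem_precoverage_iff]
    exact ⟨hsurj, ⟨⟨⟨inferInstance, inferInstance⟩, inferInstance⟩, inferInstance⟩⟩) (𝟙 _)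
  cases hw
  let ρ : B →+* A := (Spec.preimage h).hom
  have hρ : ρ.comp (algebraMap A B) = RingHom.id A := by
    have e : CommRingCat.ofHom (algebraMap A B) ≫ Spec.preimage h = 𝟙 _ := Spec.map_injective (by
      rw [Spec.map_comp, Spec.map_preimage, Spec.map_id]; exact hwh)
    exact congrArg CommRingCat.Hom.hom e
  let root := ρ (AdjoinRoot.root Q)
  have hroot : Q.eval root = 0 := by
    have := congrArg ρ (AdjoinRoot.eval₂_root Q)
    rwa [Polynomial.hom_eval₂, map_zero, show ρ.comp (AdjoinRoot.of Q) = RingHom.id A from hρ] at this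
  refine ⟨a root / a t, ?_⟩
  have h1 : (Polynomial.scaleRoots P (a t)).eval (a root) = 0 := by
    rw [← hQ, Polynomial.eval_map, Polynomial.eval₂_at_apply, hroot, map_zero]
  have h2 := Polynomial.scaleRoots_eval_mul P (a root / a t) (a t)
  rw [mul_div_cancel₀ _ hat, h1] at h2
  exact (mul_eq_zero.1 h2.symm).resolve_left (pow_ne_zero _ hat)

end Groth.Agent.S19328
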