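import Groth.Statements.S19333
import Mathlib.RingTheory.Valuation.LocalSubring
import Mathlib.RingTheory.IntegralClosure.IntegrallyClosed
import Mathlib.RingTheory.Polynomial.Basic

set_option autoImplicit false
universe u
open ModPair

namespace Groth.Agent.S19333

/-- Let A → B be any homomorphism of commutative rings. An element x of B is integral over A if and only
if for every field K, every valuation subring R of K and every ring homomorphism φ : B → K which
sends the image of A into R, the element φ(x) lies in R. In other words the integral closure of A in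
B is the intersection of the subrings R ×_K B taken over all commutative squares A → R ⊆ K ← B with
R a valuation ring of the field K. -/
theorem result {A B : Type u} [CommRing A]
    [CommRing B] [Algebra A B] (x : B) :
    x ∈ integralClosure A B ↔
      ∀ (K : Type u) [Field K] (R : ValuationSubring K) (φ : B →+* K),
        (∀ a : A, φ (algebraMap A B a) ∈ R) → φ x ∈ R := by
  let _ := Classical.propDecidable
  constructor
  · intro hx K _ R φ hA
    let j : A →+* R := (φ.comp (algebraMap A B)).codRestrict R.toSubring hA
    obtain ⟨p, hp, hpx⟩ := hx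
    have hint : IsIntegral R (φ x) := by
      refine ⟨p.map j, hp.map j, ?_⟩
      rw [Polynomial.eval₂_map, show (algebraMap R K).comp j = φ.comp (algebraMap A B) from rfl,
        ← Polynomial.hom_eval₂, hpx, map_zero]
    obtain ⟨y, hy⟩ := IsIntegrallyClosed.isIntegral_iff.1 hint
    exact hy ▸ y.2
  · intro h
    by_contra hx
    let M : Submonoid B :=
      { carrier := {b | ∃ p : Polynomial A, p.Monic ∧ Polynomial.aeval x p = b}
        one_mem' := ⟨1, Polynomial.monic_one, by simp⟩
        mul_mem' := by
          rintro a b ⟨p, hp, rfl⟩ ⟨q, hq, rfl⟩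
          exact ⟨p * q, hp.mul hq, by simp⟩ }
    have hd : Disjoint ((⊥ : Ideal B) : Set B) (M : Set B) := by
      rw [Set.disjoint_left]
      rintro b hb ⟨p, hp, hpb⟩
      exact hx ⟨p, hp, hpb.trans hb⟩
    obtain ⟨P, hP, -, hPM⟩ := Ideal.exists_le_prime_disjoint ⊥ M hd
    let K := FractionRing (B ⧸ P)
    let φ : B →+* K := (algebraMap (B ⧸ P) K).comp (Ideal.Quotient.mk P)
    let s : Set K := Set.range (φ.comp (algebraMap A B))
    have hmem : φ x ∈ (⨅ V : {V : ValuationSubring K // s ⊆ V.toSubring}, V.1.toSubring) := by
      rw [Subring.mem_iInf]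
      rintro ⟨V, hV⟩
      exact h K V φ fun a => hV ⟨a, rfl⟩
    rw [iInf_valuationSubring_superset] at hmem
    let χ := φ.comp (algebraMap A B)
    have hs : ∀ r : Subring.closure s, ∃ a, χ a = r.1 := fun r =>
      (Subring.closure_le (t := χ.range)).2 (by rintro _ ⟨a, rfl⟩; exact ⟨a, rfl⟩) r.2
    obtain ⟨q, hq, hqx⟩ := hmem
    have hl : q.map (algebraMap (Subring.closure s) K) ∈ Polynomial.lifts χ := by
      rw [Polynomial.lifts_iff_coeff_lifts]
      intro n
      obtain ⟨a, ha⟩ := hs (q.coeff n)
      exact ⟨a, ha.trans (Polynomial.coeff_map (algebraMap (Subring.closure s) K) n).symm⟩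
    obtain ⟨p, hp, -, hpm⟩ := Polynomial.lifts_and_degree_eq_and_monic hl (hq.map _)
    have hzero : φ (Polynomial.aeval x p) = 0 := by
      rw [Polynomial.aeval_def, Polynomial.hom_eval₂, ← Polynomial.eval_map, hp, Polynomial.eval_map]
      exact hqx
    simp only [φ, RingHom.comp_apply, map_eq_zero_iff _ (IsFractionRing.injective (B ⧸ P) K),
      Ideal.Quotient.eq_zero_iff_mem] at hzero
    exact Set.disjoint_left.1 hPM hzero ⟨p, hpm, rfl⟩

end Groth.Agent.S19333
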