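import Groth.Statements.S19334
import Groth.Agent.ModPairLib.Valu

set_option autoImplicit false
universe u
open CategoryTheory CategoryTheory.Limits AlgebraicGeometry TopologicalSpace
open ModPair

namespace Groth.Agent.S19334

/-- Let (X, I) be a modulus pair, i.e. a scheme X with the quasi-coherent ideal sheaf I of an effective
Cartier divisor. Suppose that for every valuation ring R and every morphism p : Spec R ⟶ X along
which the divisor of I pulls back to an effective Cartier divisor on Spec R (so that p is a minimal
morphism of modulus pairs for the pulled-back modulus), the pulled-back divisor is empty, I.comap p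
= ⊤. Then the divisor of I is empty: I = ⊤. -/
theorem result {X : Scheme.{u}}
    (I : X.IdealSheafData) (hI : BlowUp.IsEffCartierIdeal I)
    (h : ∀ (R : Type u) [CommRing R] [IsDomain R] [ValuationRing R]
      (p : Spec (CommRingCat.of R) ⟶ X), BlowUp.IsEffCartierIdeal (I.comap p) → I.comap p = ⊤) :
    I = ⊤ := by
  refine ModPairLib.eq_top_of_support fun x => by_contra fun hx => ?_
  obtain ⟨V, hxV, f, hf0, hf⟩ := hI x
  obtain ⟨y, rfl⟩ : x ∈ Set.range V.2.fromSpec := V.2.range_fromSpec.symm ▸ hxV
  have hfy : f ∈ y.asIdeal := by_contra fun h' => hx ((ModPairLib.mem_interior_chart hf y).2 h')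
  haveI : y.asIdeal.IsPrime := y.2
  obtain ⟨R, _, _, _, φ, hφ, hP, -⟩ := ModPairLib.exists_valuation hf0 y.asIdeal hfy
  have h1 := h R _ (ModPairLib.isEffCartier_comap_chart hf φ hφ)
  rw [ModPairLib.comap_chart hf, ← ModPairLib.topId_top] at h1
  exact hP f hfy (Ideal.span_singleton_eq_top.1 (ModPairLib.topId_inj h1))

end Groth.Agent.S19334
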