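import Groth.Statements.S19335
import Groth.Agent.ModPairLib.Valu

set_option autoImplicit false
universe u
open CategoryTheory CategoryTheory.Limits AlgebraicGeometry TopologicalSpace
open ModPair

namespace Groth.Agent.S19335

/-- Let X be a scheme and I, J quasi-coherent ideal sheaves of effective Cartier divisors D_I ≤ D_J on
X, i.e. J ≤ I. Suppose that for every valuation ring R and every morphism p : Spec R ⟶ X such that
I.comap p is the ideal sheaf of an effective Cartier divisor on Spec R (so p is a minimal morphism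
of modulus pairs for (X, I)) whose open complement consists of the generic point of Spec R only, the
two divisors agree after pull-back, I.comap p = J.comap p. Then I = J. -/
theorem result {X : Scheme.{u}} (I J : X.IdealSheafData)
    (hI : BlowUp.IsEffCartierIdeal I) (hJ : BlowUp.IsEffCartierIdeal J) (hJI : J ≤ I)
    (h : ∀ (R : Type u) [CommRing R] [IsDomain R] [ValuationRing R]
      (p : Spec (CommRingCat.of R) ⟶ X), BlowUp.IsEffCartierIdeal (I.comap p) →
        (∀ x : Spec (CommRingCat.of R),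
          x ∈ (ModPair.interior (I.comap p) : Set (Spec (CommRingCat.of R))) ↔ x.asIdeal = ⊥) →
        I.comap p = J.comap p) :
    I = J := by
  refine (ModPairLib.ext_of_charts fun x => ?_)
  obtain ⟨V, hxV, a, b, -, ha, hb, -, -⟩ := ModPairLib.exists_chart₃ hI hJ hI x
  obtain ⟨c, hc⟩ := Ideal.mem_span_singleton'.1 (ha ▸ hJI V (hb ▸ Ideal.mem_span_singleton_self b))
  refine ⟨V, hxV, ?_⟩
  rw [ha, hb, ← hc]
  by_cases hu : IsUnit c
  · exact (Ideal.span_singleton_mul_left_unit hu a).symm
  exfalso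
  obtain ⟨P, hP, hcP⟩ := exists_max_ideal_of_mem_nonunits hu
  obtain ⟨R, _, _, _, φ, hφ, hφc, hgen⟩ : ∃ (R : Type u) (_ : CommRing R) (_ : IsDomain R) (_ : ValuationRing R)
      (φ : Γ(X, V.1) →+* R), φ a ≠ 0 ∧ ¬ IsUnit (φ c) ∧ ∀ p : Ideal R, p.IsPrime → p ≠ ⊥ → φ a ∈ p := by
    by_cases haP : a ∈ P
    · obtain ⟨R, i₁, i₂, i₃, φ, h₁, h₂, h₃⟩ :=
        ModPairLib.exists_valuation (ModPairLib.nzd_of_span hI V ha) P haP
      exact ⟨R, i₁, i₂, i₃, φ, h₁, h₂ c hcP, h₃⟩
    · haveI := hP.isPrime
      refine ⟨FractionRing (Γ(X, V.1) ⧸ P), inferInstance, inferInstance, inferInstance,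
        (algebraMap (Γ(X, V.1) ⧸ P) _).comp (Ideal.Quotient.mk P), ?_, ?_, ?_⟩
      · simpa [Ideal.Quotient.eq_zero_iff_mem] using haP
      · simp [Ideal.Quotient.eq_zero_iff_mem.2 hcP]
      · intro p hp hp0
        exact absurd ((Ideal.eq_bot_or_top p).resolve_left hp0) hp.ne_top
  have h1 := h R _ (ModPairLib.isEffCartier_comap_chart ha φ hφ) fun z => by
    rw [SetLike.mem_coe, ModPairLib.comap_chart ha, ModPairLib.mem_interior_topId]
    refine ⟨fun hz => by_contra fun h0 => hz (hgen _ z.2 h0), fun h0 => ?_⟩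
    rw [h0]
    exact hφ
  rw [ModPairLib.comap_chart ha, ModPairLib.comap_chart (hb.trans (by rw [← hc])), map_mul] at h1
  obtain ⟨d, hd⟩ := Ideal.mem_span_singleton'.1 ((ModPairLib.topId_inj h1).le (Ideal.mem_span_singleton_self (φ a)))
  exact hφc (IsUnit.of_mul_eq_one d (mul_right_cancel₀ hφ (by linear_combination hd)))

end Groth.Agent.S19335
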