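import Groth.Statements.S19336
import Groth.Agent.ModPairLib.QcIdeal

set_option autoImplicit false
universe u
open CategoryTheory CategoryTheory.Limits AlgebraicGeometry TopologicalSpace
open ModPair

namespace Groth.Agent.S19336

/-- Let (S, I) be a modulus pair, i.e. a scheme S with the quasi-coherent ideal sheaf I of an effective
Cartier divisor, with S quasi-compact and quasi-separated and with interior U, and let (V_i) be a
covering of U by quasi-compact open subsets. Then there are a quasi-coherent ideal sheaf F of finite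
type on S whose support is disjoint from U, a blow-up b : Y ⟶ S of S in F (an admissible blow-up)
such that I.comap b is again the ideal sheaf of an effective Cartier divisor, and a covering of Y by
quasi-compact open subsets W_j such that each W_j ∩ b⁻¹(U) is contained in b⁻¹(V_i) for some i: the
Zariski covering of the interior extends, after an admissible blow-up, to a Zariski covering of the
total space. -/
theorem result {S : Scheme.{u}}
    [CompactSpace S] [QuasiSeparatedSpace S] (I : S.IdealSheafData)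
    (hI : BlowUp.IsEffCartierIdeal I) {ι : Type u} (V : ι → S.Opens)
    (hVU : ∀ i, V i ≤ ModPair.interior I) (hVqc : ∀ i, IsCompact (V i : Set S))
    (hcov : ModPair.interior I ≤ ⨆ i, V i) :
    ∃ (F : S.IdealSheafData) (Y : Scheme.{u}) (b : Y ⟶ S) (κ : Type u) (W : κ → Y.Opens),
      BlowUp.IsAdmissibleFor (ModPair.interior I) F ∧ BlowUp.IsBlowUp b F ∧
        BlowUp.IsEffCartierIdeal (I.comap b) ∧ (∀ k, IsCompact (W k : Set Y)) ∧
        (⨆ k, W k) = ⊤ ∧ ∀ k, ∃ i, W k ⊓ b ⁻¹ᵁ ModPair.interior I ≤ b ⁻¹ᵁ V i := by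
  classical
  haveI := ModPairLib.isAffineHom_interior hI
  have hUc : IsCompact (ModPair.interior I : Set S) := by
    have : IsCompact (Set.univ : Set (ModPair.interior I : Scheme.{u})) :=
      (ModPair.interior I).ι.isCompact_preimage (U := ⊤) isCompact_univ
    haveI : CompactSpace (ModPair.interior I : Scheme.{u}) := ⟨this⟩
    have := isCompact_range (ModPair.interior I).ι.continuous
    rwa [Scheme.Opens.range_ι] at this
  obtain ⟨t, ht⟩ := hUc.elim_finite_subcover (fun i => (V i : Set S)) (fun i => (V i).isOpen)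
    fun x hx => Set.mem_iUnion.2 (TopologicalSpace.Opens.mem_iSup.1 (hcov hx))
  choose G hGfg hGs using fun i : t => ModPairLib.exists_fg_support (V i.1) (hVqc i.1)
  let F : S.IdealSheafData := ⨆ i : t, G i
  have hFfg : BlowUp.IsFiniteTypeIdeal F := fun A => by
    simp only [F, Scheme.IdealSheafData.ideal_iSup, iSup_apply]
    exact Submodule.fg_iSup _ fun i => hGfg i A
  have hFs : ∀ x ∈ ModPair.interior I, x ∉ F.support := fun x hx hxF => by
    obtain ⟨i, hi, hxi⟩ := Set.mem_iUnion₂.1 (ht hx)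
    exact (hGs ⟨i, hi⟩ x).1 (Scheme.IdealSheafData.support_antitone (le_iSup G ⟨i, hi⟩) hxF) hxi
  obtain ⟨Y, b, hb⟩ := BlowExist.exists_isBlowUp F
  haveI := ModPairLib.std_interior hI
  haveI : IsSchemeTheoreticallyDominant (b ⁻¹ᵁ ModPair.interior I).ι := ModPairLib.std_preimage_blowUp hb hFs
  have hloc : ∀ y : Y, ∃ W : Y.Opens, y ∈ W ∧ IsCompact (W : Set Y) ∧
      ∃ i : t, ∀ z ∈ W, b z ∈ (G i).support → b z ∈ F.support := by
    intro y
    obtain ⟨A, hyA, e, he, hA⟩ := hb.1 y
    obtain ⟨B, hB, hyB, hBle⟩ := exists_isAffineOpen_mem_and_subset (U := (⊤ : S.Opens)) (x := b y) trivial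
    obtain ⟨A', hA'y, hA'le, H⟩ := ModPairLib.exists_span hb.1 y (A.1 ⊓ b ⁻¹ᵁ B) ⟨hyA, hyB⟩
    obtain ⟨e', he'⟩ := H A' le_rfl
    have he0 := ModPairLib.nzd_of_span hb.1 A' he'
    have hle : A'.1 ≤ b ⁻¹ᵁ B := hA'le.trans inf_le_right
    let a := (b.appLE B A'.1 hle).hom
    have hmap : ∀ J : S.IdealSheafData, (J.comap b).ideal A' = (J.ideal ⟨B, hB⟩).map a := fun J =>
      FpqcDescent.ideal_comap J b ⟨B, hB⟩ A' hle
    have hsum : ⨆ i : t, ((G i).ideal ⟨B, hB⟩).map a = Ideal.span {e'} := by
      rw [← he', hmap, ← Ideal.map_iSup]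
      simp [F, Scheme.IdealSheafData.ideal_iSup]
    obtain ⟨i, α, hα, hyα⟩ : ∃ (i : t) (α : Γ(Y, A'.1)), α * e' ∈ ((G i).ideal ⟨B, hB⟩).map a ∧ y ∈ Y.basicOpen α := by
      by_contra hne
      push Not at hne
      let M : Ideal Γ(Y, A'.1) :=
        { carrier := {α | y ∉ Y.basicOpen α}
          zero_mem' := by simp
          add_mem' := fun {p q} hp hq h => by
            rcases (Scheme.basicOpen_add_le _ p q) h with h' | h'
            · exact hp h'
            · exact hq h'
          smul_mem' := fun c p hp h => hp (by rw [smul_eq_mul, Scheme.basicOpen_mul] at h; exact h.2) }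
      have hle' : (⨆ i : t, ((G i).ideal ⟨B, hB⟩).map a) ≤ M * Ideal.span {e'} := iSup_le fun i c hc => by
        have hc' : c ∈ Ideal.span {e'} := hsum ▸ (le_iSup (fun i : t => ((G i).ideal ⟨B, hB⟩).map a) i hc)
        obtain ⟨α, rfl⟩ := Ideal.mem_span_singleton'.1 hc'
        exact Ideal.mul_mem_mul (hne i α hc) (Ideal.mem_span_singleton_self e')
      rw [hsum] at hle'
      obtain ⟨z, hz, hze⟩ := Ideal.mem_mul_span_singleton.1 (hle' (Ideal.mem_span_singleton_self e'))
      have : z = 1 := (isRegular_iff_mem_nonZeroDivisors.2 he0).right (hze.trans (one_mul e').symm)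
      exact hz (by rw [this, Scheme.basicOpen_of_isUnit Y isUnit_one]; exact hA'y)
    refine ⟨Y.basicOpen α, hyα, (A'.2.basicOpen α).isCompact, i, fun z hz hzG => ?_⟩
    have hzA : z ∈ A'.1 := Y.basicOpen_le α hz
    have hzG' : z ∈ ((G i).comap b).support := by rw [Scheme.IdealSheafData.support_comap]; exact hzG
    have h0 := (Scheme.mem_zeroLocus_iff _ _ _).1 ((Scheme.IdealSheafData.mem_support_iff_of_mem hzA).1 hzG') _
      ((hmap (G i)).symm ▸ hα)
    rw [Scheme.basicOpen_mul] at h0
    have hze : z ∈ (F.comap b).support := by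
      rw [Scheme.IdealSheafData.mem_support_iff_of_mem hzA, Scheme.mem_zeroLocus_iff, he']
      intro c hc
      obtain ⟨d, rfl⟩ := Ideal.mem_span_singleton'.1 hc
      rw [Scheme.basicOpen_mul]
      exact fun h => h0 ⟨hz, h.2⟩
    rwa [Scheme.IdealSheafData.support_comap] at hze
  choose W hyW hWc i hWi using hloc
  refine ⟨F, Y, b, Y, W, ⟨hFfg, ?_⟩, hb, ModPairLib.isEffCartier_comap hI b, hWc, ?_, fun k => ⟨(i k).1, ?_⟩⟩
  · rw [Set.disjoint_left]
    exact fun x hx hxU => hFs x hxU hx
  · exact top_unique fun y _ => TopologicalSpace.Opens.mem_iSup.2 ⟨y, hyW y⟩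
  · rintro z ⟨hz, hzU⟩
    by_contra hzV
    exact hFs (b z) hzU (hWi k z hz ((hGs (i k) (b z)).2 hzV))

end Groth.Agent.S19336
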