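import Groth.Statements.S19338

set_option autoImplicit false
universe w v u
open CategoryTheory
open ModPair

namespace Groth.Agent.S19338

/-- Let C be a category and S a class of morphisms which contains the identities, is closed under
composition, admits a right calculus of fractions, and consists of monomorphisms. Then the sieves
containing a morphism of S are the covering sieves of a Grothendieck topology on C, and for every
such topology J a presheaf of types F on C is a J-sheaf if and only if it is S-local, i.e. F sends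
every morphism of S to a bijection. -/
theorem result {C : Type u} [Category.{v} C]
    (S : MorphismProperty C) [S.HasRightCalculusOfFractions]
    (hmono : ∀ ⦃X Y : C⦄ (s : X ⟶ Y), S s → Mono s) :
    (∃ J : GrothendieckTopology C, ∀ (X : C) (T : Sieve X),
        T ∈ J X ↔ ∃ (Y : C) (s : Y ⟶ X), S s ∧ T s) ∧
      ∀ J : GrothendieckTopology C, (∀ (X : C) (T : Sieve X),
          T ∈ J X ↔ ∃ (Y : C) (s : Y ⟶ X), S s ∧ T s) →
        ∀ F : Cᵒᵖ ⥤ Type w,
          Presheaf.IsSheaf J F ↔ ∀ ⦃X Y : C⦄ (s : X ⟶ Y), S s → IsIso (F.map s.op) := by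
  classical
  have hex : ∀ {X Y Z : C} (s : Y ⟶ X) (f : Z ⟶ X), S s →
      ∃ (W : C) (t : W ⟶ Z) (g : W ⟶ Y), S t ∧ t ≫ f = g ≫ s := fun {X Y Z} s f hs => by
    obtain ⟨φ, hφ⟩ := MorphismProperty.LeftFraction.exists_rightFraction (MorphismProperty.LeftFraction.mk f s hs)
    exact ⟨_, φ.s, φ.f, φ.hs, hφ⟩
  refine ⟨⟨{ sieves := fun X => {T | ∃ (Y : C) (s : Y ⟶ X), S s ∧ T s}
             top_mem' := fun X => ⟨X, 𝟙 X, S.id_mem X, trivial⟩
             pullback_stable' := fun X Y T f ⟨Z, s, hs, hT⟩ => ?_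
             transitive' := fun X T ⟨Y, s, hs, hT⟩ R hR => ?_ }, fun X T => Iff.rfl⟩, ?_⟩
  · obtain ⟨W, t, g, ht, he⟩ := hex s f hs
    exact ⟨W, t, ht, show T (t ≫ f) from he ▸ T.downward_closed hT g⟩
  · obtain ⟨Z, t, ht, hRt⟩ := hR hT
    exact ⟨Z, t ≫ s, S.comp_mem _ _ ht hs, hRt⟩
  intro J hJ F
  rw [isSheaf_iff_isSheaf_of_type]
  constructor
  · intro h X Y s hs
    haveI := hmono s hs
    have hsheaf := h (Sieve.generate (Presieve.singleton s))
      ((hJ _ _).2 ⟨_, s, hs, _, 𝟙 _, s, Presieve.singleton.mk, Category.id_comp _⟩)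
    rw [← Presieve.isSheafFor_iff_generate] at hsheaf
    rw [isIso_iff_bijective]
    constructor
    · intro a b hab
      exact hsheaf.isSeparatedFor.ext fun Z g hg => by cases hg; exact hab
    · intro a
      let x : Presieve.FamilyOfElements F (Presieve.singleton s) := fun Z g hg =>
        F.map (eqToHom (by cases hg; rfl) : Z ⟶ X).op a
      have hxc : x.Compatible := by
        intro Z₁ Z₂ W g₁ g₂ f₁ f₂ h₁ h₂ he
        cases h₁; cases h₂
        rw [(cancel_mono s).1 he]
      refine ⟨hsheaf.amalgamate x hxc, ?_⟩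
      rw [hsheaf.valid_glue hxc s Presieve.singleton.mk]
      simp [x]
  · intro h X T hT
    obtain ⟨Y, s, hs, hTs⟩ := (hJ X T).1 hT
    have hbij : ∀ {P Q : C} (t : P ⟶ Q), S t → Function.Bijective (F.map t.op) :=
      fun t ht => (isIso_iff_bijective _).1 (h t ht)
    intro x hx
    obtain ⟨a, ha⟩ := (hbij s hs).2 (x s hTs)
    refine ⟨a, fun Z f hf => ?_, fun b hb => (hbij s hs).1 ((hb s hTs).trans ha.symm)⟩
    obtain ⟨W, t, g, ht, he⟩ := hex s f hs
    refine (hbij t ht).1 ?_
    rw [← FunctorToTypes.map_comp_apply, ← op_comp, he, op_comp, FunctorToTypes.map_comp_apply, ha]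
    exact hx g t hTs hf he.symm

end Groth.Agent.S19338
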