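import Groth.Statements.S19340

set_option autoImplicit false
universe v v' u u'
open CategoryTheory
open ModPair

namespace Groth.Agent.S19340

/-- Let C be a category, S a class of morphisms of C containing the identities, closed under composition
and admitting a right calculus of fractions, and L : C ⥤ D a localization functor for S. Then for
every object X of C the comma category of L under X, whose objects are pairs (Y, L(X) ⟶ L(Y)) and
whose morphisms are morphisms Y ⟶ Y' of C compatible with the structure maps, is cofiltered. The
published statement calls this category filtered; its proof verifies, and this row states,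
cofilteredness. -/
theorem result {C : Type u}
    [Category.{v} C] {D : Type u'} [Category.{v'} D] (S : MorphismProperty C)
    [S.HasRightCalculusOfFractions] (L : C ⥤ D) [L.IsLocalization S] (X : C) :
    IsCofiltered (StructuredArrow (L.obj X) L) := by
  haveI : ∀ {P Q : C} (s : P ⟶ Q) [Fact (S s)], IsIso (L.map s) :=
    fun s hs => Localization.inverts L S s hs.out
  haveI : Nonempty (StructuredArrow (L.obj X) L) := ⟨StructuredArrow.mk (𝟙 (L.obj X))⟩
  haveI : IsCofilteredOrEmpty (StructuredArrow (L.obj X) L) := by
    constructor
    · intro A B
      obtain ⟨φ, hφ⟩ := Localization.exists_rightFraction L S A.hom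
      haveI := Localization.inverts L S φ.s φ.hs
      obtain ⟨ψ, hψ⟩ := Localization.exists_rightFraction L S (L.map φ.s ≫ B.hom)
      haveI := Localization.inverts L S ψ.s ψ.hs
      refine ⟨StructuredArrow.mk (inv (L.map φ.s) ≫ inv (L.map ψ.s)),
        StructuredArrow.homMk (ψ.s ≫ φ.f) ?_, StructuredArrow.homMk ψ.f ?_, trivial⟩
      · simp [hφ, MorphismProperty.RightFraction.map]
      · show (inv (L.map φ.s) ≫ inv (L.map ψ.s)) ≫ L.map ψ.f = B.hom
        rw [Category.assoc, IsIso.inv_comp_eq, hψ, IsIso.inv_comp_eq, ψ.map_s_comp_map]
    · intro A B u v
      obtain ⟨φ, hφ⟩ := Localization.exists_rightFraction L S A.hom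
      haveI := Localization.inverts L S φ.s φ.hs
      have he : L.map (φ.f ≫ u.right) = L.map (φ.f ≫ v.right) := by
        rw [Functor.map_comp, Functor.map_comp, ← φ.map_s_comp_map L (Localization.inverts L S), ← hφ,
          Category.assoc, Category.assoc]
        exact congrArg (L.map φ.s ≫ ·) ((StructuredArrow.w u).trans (StructuredArrow.w v).symm)
      obtain ⟨Z, t, ht, het⟩ := (MorphismProperty.map_eq_iff_precomp L S _ _).1 he
      haveI := Localization.inverts L S t ht
      refine ⟨StructuredArrow.mk (inv (L.map φ.s) ≫ inv (L.map t)), StructuredArrow.homMk (t ≫ φ.f) ?_, ?_⟩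
      · simp [hφ, MorphismProperty.RightFraction.map]
      · exact StructuredArrow.ext _ _ (by simpa using het)
  exact IsCofiltered.mk

end Groth.Agent.S19340
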