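import Groth.Statements.S19341
import Groth.Agent.ModPairLib.Valu

set_option autoImplicit false
universe u
open CategoryTheory CategoryTheory.Limits AlgebraicGeometry TopologicalSpace
open ModPair

namespace Groth.Agent.S19341

/-- Let (S, I_S), (X, I_X), (T, I_T) be modulus pairs, i.e. schemes with quasi-coherent ideal sheaves of
effective Cartier divisors, and f : X ⟶ S, g : T ⟶ S morphisms satisfying the modulus conditions I_X
≤ I_S.comap f and I_T ≤ I_S.comap g. Suppose that the pulled-back ideals I_X.comap pr₁ and I_T.comap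
pr₂ on X ×_S T are again ideal sheaves of effective Cartier divisors. Then the pulled-back base
modulus I_S.comap (pr₁ ≫ f) is also the ideal sheaf of an effective Cartier divisor, and the
scheme-theoretic closure of pr₁⁻¹(X°) ∩ pr₂⁻¹(T°) is all of X ×_S T: its closed immersion into X ×_S
T is an isomorphism. Consequently the box product of (X, I_X) and (T, I_T) over (S, I_S) has total
space X ×_S T with modulus D_X + D_T − D_S. -/
theorem result {X T S : Scheme.{u}}
    (IS : S.IdealSheafData) (IX : X.IdealSheafData) (IT : T.IdealSheafData)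
    (hS : BlowUp.IsEffCartierIdeal IS) (hX : BlowUp.IsEffCartierIdeal IX)
    (hT : BlowUp.IsEffCartierIdeal IT) (f : X ⟶ S) (g : T ⟶ S)
    (hf : ModPair.IsAmbient IX IS f) (hg : ModPair.IsAmbient IT IS g)
    (h₁ : BlowUp.IsEffCartierIdeal (IX.comap (pullback.fst f g)))
    (h₂ : BlowUp.IsEffCartierIdeal (IT.comap (pullback.snd f g))) :
    BlowUp.IsEffCartierIdeal (IS.comap (pullback.fst f g ≫ f)) ∧
      IsIso (ModPair.mprodι f g IX IT) := by
  refine ⟨ModPairLib.isEffCartier_comap_of_ambient h₁ hS (show IX.comap (pullback.fst f g) ≤ _ by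
    rw [Scheme.IdealSheafData.comap_comp]; exact Scheme.IdealSheafData.comap_mono _ hf), ?_⟩
  have hU : ModPair.prodInterior f g IX IT =
      ModPair.interior (IX.comap (pullback.fst f g) * IT.comap (pullback.snd f g)) := by
    rw [ModPairLib.interior_mul, ModPairLib.interior_comap, ModPairLib.interior_comap]
    rfl
  have hmul : BlowUp.IsEffCartierIdeal (IX.comap (pullback.fst f g) * IT.comap (pullback.snd f g)) := fun x => by
    obtain ⟨V, hV, a, b, e, ha, hb, -, -⟩ := ModPairLib.exists_chart₃ h₁ h₂ h₁ x
    exact ⟨V, hV, a * b, mul_mem (ModPairLib.nzd_of_span h₁ V ha) (ModPairLib.nzd_of_span h₂ V hb), by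
      rw [Scheme.IdealSheafData.ideal_mul, Pi.mul_apply, ha, hb, Ideal.span_singleton_mul_span_singleton]⟩
  haveI := ModPairLib.std_interior hmul
  have hk : (ModPair.mprodι f g IX IT).ker = ⊥ := by
    rw [show ModPair.mprodι f g IX IT = (ModPair.prodInterior f g IX IT).ι.ker.subschemeι from rfl,
      Scheme.IdealSheafData.ker_subschemeι, hU]
    exact Scheme.Hom.ker_eq_bot _
  exact IsClosedImmersion.isIso_iff_ker_eq_bot.2 hk

end Groth.Agent.S19341
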