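import Groth.Statements.S19343
import Groth.Agent.ModPairLib.HenselLocal
import Groth.Agent.ModPairLib.AICLocal

set_option autoImplicit false
universe u
open CategoryTheory CategoryTheory.Limits AlgebraicGeometry TopologicalSpace
open ModPair

namespace Groth.Agent.S19343

/-- Let P be a modulus pair (a scheme P̄ with the quasi-coherent ideal sheaf of an effective Cartier
divisor) whose total space P̄ is quasi-compact and quasi-separated. Then P is local both for étale
coverings of modulus pairs (for every pair X, every jointly surjective family of minimal morphisms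
U_i ⟶ X whose underlying morphisms are étale, quasi-compact and quasi-separated, and every morphism
of pairs P ⟶ X, the latter factors through some U_i) and for abstract admissible blow-ups (every P ⟶
X lifts along every abstract admissible blow-up Q ⟶ X) if and only if (1) P̄ is affine and A = Γ(P̄)
is a strictly henselian local ring, (2) the interior P° is affine and its ring of global sections is
a henselian local ring, and, writing p for the closed point of P° and 𝔮 ⊂ A for its prime ideal, (3)
A/𝔮 is a valuation ring which is strictly henselian and (4) the localisation map sends 𝔮 bijectively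
onto the maximal ideal of A_𝔮, i.e. A = A/𝔮 ×_{k(𝔮)} A_𝔮 and P̄ is the gluing of the closure of p to
P° along p. The published statement allows any modulus pair P; this row assumes the total space P̄
quasi-compact and quasi-separated. -/
theorem result (P : ModPair.Pair.{u})
    [CompactSpace P.total] [QuasiSeparatedSpace P.total] :
    ((∀ (X : ModPair.Pair.{u}) (ι : Type u) (U : ι → ModPair.Pair.{u}) (v : ∀ i, U i ⟶ X),
        (∀ i, ModPair.IsMinimal (U i).mod X.mod (v i).hom ∧ Etale (v i).hom ∧
          QuasiCompact (v i).hom ∧ QuasiSeparated (v i).hom) →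
        (∀ x : X.total, ∃ (i : ι) (y : (U i).total), (v i).hom.base y = x) →
        ∀ g : P ⟶ X, ∃ (i : ι) (h : P ⟶ U i), h ≫ v i = g) ∧
      (∀ (Q X : ModPair.Pair.{u}) (q : Q ⟶ X), ModPair.Pair.admBlowup q →
        ∀ g : P ⟶ X, ∃ h : P ⟶ Q, h ≫ q = g)) ↔
    (IsAffine P.total ∧ EtCoh.IsStrictlyHenselianLocalRing Γ(P.total, ⊤) ∧
      IsAffine (ModPair.interior P.mod : Scheme.{u}) ∧
      HenselianLocalRing Γ((ModPair.interior P.mod : Scheme.{u}), ⊤) ∧
      ∀ p : (ModPair.interior P.mod : Scheme.{u}),
        IsClosed ({p} : Set (ModPair.interior P.mod : Scheme.{u})) →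
          ValuationRing (Γ(P.total, ⊤) ⧸ (P.total.toSpecΓ.base ((ModPair.interior P.mod).ι.base p)).asIdeal) ∧
          EtCoh.IsStrictlyHenselianLocalRing (Γ(P.total, ⊤) ⧸ (P.total.toSpecΓ.base ((ModPair.interior P.mod).ι.base p)).asIdeal) ∧
          Set.BijOn (algebraMap Γ(P.total, ⊤) (Localization.AtPrime (P.total.toSpecΓ.base ((ModPair.interior P.mod).ι.base p)).asIdeal))
            ((P.total.toSpecΓ.base ((ModPair.interior P.mod).ι.base p)).asIdeal : Set Γ(P.total, ⊤))
            (IsLocalRing.maximalIdeal (Localization.AtPrime (P.total.toSpecΓ.base ((ModPair.interior P.mod).ι.base p)).asIdeal) :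
              Set (Localization.AtPrime (P.total.toSpecΓ.base ((ModPair.interior P.mod).ι.base p)).asIdeal))) := by
  constructor
  · rintro ⟨hE, hB⟩
    obtain ⟨hA, hL⟩ := ModPairLib.affine_local_pair P fun X ι U v hv hs g =>
      hE X ι U v (fun i => by
        haveI := (hv i).2.1
        exact ⟨(hv i).1, inferInstance, (hv i).2.2, inferInstance⟩) hs g
    obtain ⟨f, hf0, hspan, hU⟩ := ModPairLib.exists_gen P
    have hR : ProEtW.HasEtaleRetractions Γ(P.total, ⊤) := by
      intro C _ _ hff het
      let φ : Γ(P.total, ⊤) →+* C := algebraMap _ C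
      let v : Spec (CommRingCat.of C) ⟶ P.total := Spec.map (CommRingCat.ofHom φ) ≫ P.total.isoSpec.inv
      haveI hvet : Etale v := by
        haveI : Etale (Spec.map (CommRingCat.ofHom φ)) :=
          (HasRingHomProperty.Spec_iff (P := @Etale)).2 (RingHom.etale_algebraMap.2 het)
        show Etale (Spec.map (CommRingCat.ofHom φ) ≫ P.total.isoSpec.inv)
        infer_instance
      let Q : ModPair.Pair.{u} := ⟨Spec (CommRingCat.of C), P.mod.comap v, ModPairLib.isEffCartier_comap_flat P.isEffCartier v⟩
      obtain ⟨-, h, hh⟩ := hE P PUnit (fun _ => Q) (fun _ => ⟨v, le_rfl⟩)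
        (fun _ => ⟨rfl, hvet, inferInstanceAs (QuasiCompact v), inferInstanceAs (QuasiSeparated v)⟩)
        (fun x => by
          obtain ⟨q, hq⟩ := PrimeSpectrum.comap_surjective_of_faithfullyFlat (A := Γ(P.total, ⊤)) (B := C) (P.total.isoSpec.hom.base x)
          refine ⟨⟨⟩, q, ?_⟩
          show (Spec.map (CommRingCat.ofHom φ) ≫ P.total.isoSpec.inv).base q = x
          refine (Scheme.Hom.comp_apply _ _ _).trans ((congrArg P.total.isoSpec.inv.base
            (show (Spec.map (CommRingCat.ofHom φ)).base q = _ from hq)).trans ?_)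
          rw [← Scheme.Hom.comp_apply, Iso.hom_inv_id]
          rfl) (𝟙 P)
      let h' : P.total ⟶ Spec (CommRingCat.of C) := h.hom
      have e : h' ≫ v = 𝟙 P.total := congrArg ModPair.Pair.Hom.hom hh
      obtain ⟨σ, hσ⟩ := ModPairLib.retraction_of_section (B := CommRingCat.of C) φ h' e
      exact ⟨⟨σ, fun a => RingHom.congr_fun hσ a⟩⟩
    have hm := IndEt.isStrictlyHenselian_atPrime hR (IsLocalRing.maximalIdeal Γ(P.total, ⊤))
    have hS : EtCoh.IsStrictlyHenselianLocalRing Γ(P.total, ⊤) :=
      ModPairLib.strictlyHenselian_of_surjective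
        (IsLocalization.atUnits Γ(P.total, ⊤) (IsLocalRing.maximalIdeal Γ(P.total, ⊤)).primeCompl
          (S := Localization.AtPrime (IsLocalRing.maximalIdeal Γ(P.total, ⊤)))
          (fun x hx => not_not.1 fun h => hx ((IsLocalRing.mem_maximalIdeal x).2 h))).symm.toRingEquiv.toRingHom
        (AlgEquiv.surjective _) hm
    obtain ⟨hUa, hUl, hval⟩ := ModPairLib.interior_of_local hB
    refine ⟨hA, hS, hUa, ?_, fun p hp => ⟨(hval p hp).1, ?_, (hval p hp).2⟩⟩
    · obtain ⟨hH, -⟩ := hS
      obtain ⟨c, hc⟩ := ModPairLib.exists_closed_center (ModPair.interior P.mod : Scheme.{u})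
      obtain ⟨hv, hb⟩ := hval c (ModPairLib.isClosed_singleton_of_center hc)
      haveI := (isAffineOpen_top P.total).isLocalization_basicOpen f
      have h' : HenselianLocalRing Γ(P.total, P.total.basicOpen f) := by
        refine ModPairLib.henselianLocalRing_away f hf0
          (P.total.toSpecΓ.base ((ModPair.interior P.mod).ι.base c)).asIdeal
          (fun hfq => (ModPairLib.mem_toSpecΓ _ _).1 hfq (hU.le c.2)) hb fun y hy => ?_
        have hy' : (ModPair.interior P.mod).ι.base c ∈ P.total.basicOpen y :=
          not_not.1 fun h => hy ((ModPairLib.mem_toSpecΓ _ _).2 h)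
        refine ModPairLib.isUnit_of_basicOpen_eq ((Scheme.basicOpen_res _ _ _).trans (inf_eq_left.2 fun z hz => ?_))
        exact (hc ((ModPair.interior P.mod).ι ⁻¹ᵁ P.total.basicOpen y) hy').ge
          (x := (⟨z, hU.ge hz⟩ : (ModPair.interior P.mod : Scheme.{u}))) (Set.mem_univ _)
      haveI := h'
      exact Hensel.henselianLocalRing_of_ringEquiv
        (P.total.presheaf.mapIso (eqToIso hU).op ≪≫ (ModPair.interior P.mod).topIso.symm).commRingCatIsoToRingEquiv
    · haveI := (hval p hp).1
      exact ModPairLib.strictlyHenselian_of_surjective _ Ideal.Quotient.mk_surjective hS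
  · rintro ⟨hA, ⟨hH, hs⟩, hA', hH', hval⟩
    haveI := hH.toIsLocalRing
    haveI := hH'.toIsLocalRing
    refine ⟨fun X ι U v hv hsu g => ?_, fun Q X q hq g =>
      ModPairLib.exists_lift_admBlowup (fun p hp => ⟨(hval p hp).1, (hval p hp).2.2⟩) q hq g⟩
    obtain ⟨i, y, hy⟩ := hsu (g.hom.base (P.total.isoSpec.inv.base (IsLocalRing.closedPoint Γ(P.total, ⊤))))
    haveI := (hv i).2.1
    obtain ⟨l, hl⟩ := ModPairLib.exists_lift_etale (v i).hom (P.total.isoSpec.inv ≫ g.hom) y
      (hy.trans (Scheme.Hom.comp_apply _ _ _).symm)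
    have hh : (P.total.isoSpec.hom ≫ l) ≫ (v i).hom = g.hom := by
      rw [Category.assoc, hl, Iso.hom_inv_id_assoc]
    refine ⟨i, ⟨P.total.isoSpec.hom ≫ l, ?_⟩, ModPair.Pair.Hom.ext hh⟩
    show _ ≤ _
    rw [show (U i).mod = X.mod.comap (v i).hom from (hv i).1, ← Scheme.IdealSheafData.comap_comp, hh]
    exact g.cond

end Groth.Agent.S19343
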