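import Groth.Statements.S19345
import Groth.Agent.ModPairLib.AICLocal

set_option autoImplicit false
universe u
open CategoryTheory CategoryTheory.Limits AlgebraicGeometry TopologicalSpace
open ModPair

namespace Groth.Agent.S19345

/-- Let P be a quasi-separated scheme. Then P is local for Zariski coverings (for every scheme X, every
jointly surjective family of quasi-compact open immersions into X and every morphism P ⟶ X, the
morphism factors through a member) and for finite coverings (the same for jointly surjective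
families of finite morphisms) — which together is locality for the rqfh coverings, the finite
composites of coverings of these two kinds — if and only if P is affine and Γ(P) is a local integral
domain in which every monic polynomial of positive degree has a root, i.e. the spectrum of an
absolutely integrally closed local domain. The published statement allows any scheme P; this row
assumes P quasi-separated. -/
theorem result (P : Scheme.{u}) [QuasiSeparatedSpace P] :
    ((∀ (X : Scheme.{u}) (R : Presieve X), R ∈ Scheme.precoverage (@IsOpenImmersion ⊓ @QuasiCompact) X →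
        ∀ g : P ⟶ X, ∃ (Y : Scheme.{u}) (w : Y ⟶ X) (h : P ⟶ Y), R w ∧ h ≫ w = g) ∧
      (∀ (X : Scheme.{u}) (R : Presieve X), R ∈ Scheme.precoverage @IsFinite X →
        ∀ g : P ⟶ X, ∃ (Y : Scheme.{u}) (w : Y ⟶ X) (h : P ⟶ Y), R w ∧ h ≫ w = g)) ↔
    (IsAffine P ∧ IsLocalRing Γ(P, ⊤) ∧ IsDomain Γ(P, ⊤) ∧ Curves.IsAIC Γ(P, ⊤)) := by
  constructor
  · rintro ⟨hZ, hF⟩
    obtain ⟨hA, hL⟩ := ModPairLib.affine_local_of_selfLocal (P := P) fun κ W hq hcov => by
      obtain ⟨Y, w, h, hw, hh⟩ := hZ P (Presieve.ofArrows (fun k => (W k : Scheme.{u})) fun k => (W k).ι)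
        ((Scheme.ofArrows_mem_precoverage_iff _).2 ⟨fun x => by
          obtain ⟨k, hk⟩ := Opens.mem_iSup.1 (hcov.ge (trivial : x ∈ (⊤ : P.Opens)))
          exact ⟨k, ⟨x, hk⟩, rfl⟩, fun k => ⟨(inferInstance : IsOpenImmersion (W k).ι), hq k⟩⟩) (𝟙 P)
      obtain ⟨k⟩ := hw
      refine ⟨k, eq_top_iff.2 fun x _ => ?_⟩
      have := (h.base x).2
      rwa [show ((h.base x).1 : P) = x from by
        show (h ≫ (W k).ι).base x = x
        rw [hh]; rfl] at this
    haveI := hA
    haveI := hL
    have hR : ModPairLib.HasRetractions Γ(P, ⊤) 1 := fun κ B φ hfin _ hsurj => by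
      let v : ∀ k, Spec (B k) ⟶ P := fun k => Spec.map (CommRingCat.ofHom (φ k)) ≫ P.isoSpec.inv
      obtain ⟨Y, w, h, hw, hh⟩ := hF P (Presieve.ofArrows (fun k => Spec (B k)) v)
        ((Scheme.ofArrows_mem_precoverage_iff _).2 ⟨fun x => by
          obtain ⟨k, q, hq⟩ := hsurj (P.isoSpec.hom.base x)
          refine ⟨k, q, ?_⟩
          show (Spec.map (CommRingCat.ofHom (φ k)) ≫ P.isoSpec.inv).base q = x
          refine (Scheme.Hom.comp_apply _ _ _).trans ((congrArg P.isoSpec.inv.base
            (show (Spec.map (CommRingCat.ofHom (φ k))).base q = _ from hq)).trans ?_)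
          rw [← Scheme.Hom.comp_apply, Iso.hom_inv_id]
          rfl, fun k => by
          haveI := (IsFinite.SpecMap_iff (CommRingCat.ofHom (φ k))).2 (hfin k)
          show IsFinite (v k)
          infer_instance⟩) (𝟙 P)
      obtain ⟨k⟩ := hw
      exact ⟨k, ModPairLib.retraction_of_section (φ k) h hh⟩
    haveI := ModPairLib.isReduced_and_isDomain (one_mem _) hR
    exact ⟨hA, hL, inferInstance, ModPairLib.isAIC_of_retractions (one_mem _) hR⟩
  · rintro ⟨hA, hL, hD, hC⟩
    refine ⟨fun X R hR g => ?_, fun X R hR g => ?_⟩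
    · obtain ⟨c, hc⟩ := ModPairLib.exists_closed_center P
      obtain ⟨Y', w', hw', y, hy⟩ := hR.1 (g.base c)
      cases hw' with
      | @of Y w hw =>
        haveI : IsOpenImmersion w := (hR.2 hw).1
        refine ⟨Y, w, IsOpenImmersion.lift w g ?_, hw, IsOpenImmersion.lift_fac _ _ _⟩
        rintro _ ⟨x, rfl⟩
        exact (hc (g ⁻¹ᵁ w.opensRange) ⟨y, hy⟩).ge (Set.mem_univ x)
    · obtain ⟨Y', w', hw', y, hy⟩ := hR.1 (g.base (P.isoSpec.inv.base (⊥ : PrimeSpectrum Γ(P, ⊤))))
      cases hw' with
      | @of Y w hw =>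
        haveI : IsFinite w := hR.2 hw
        obtain ⟨l, hl⟩ := ModPairLib.exists_lift_finite_affine hC w g y hy
        exact ⟨Y, w, l, hw, hl⟩

end Groth.Agent.S19345
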