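import Groth.Statements.S19346
import Groth.Agent.ModPairLib.AICLocal

set_option autoImplicit false
universe u
open CategoryTheory CategoryTheory.Limits AlgebraicGeometry TopologicalSpace
open ModPair

namespace Groth.Agent.S19346

/-- Let P be a modulus pair (a scheme P̄ with the quasi-coherent ideal sheaf of an effective Cartier
divisor) whose total space P̄ is quasi-compact and quasi-separated. Then P is local for Zariski
coverings of modulus pairs (jointly surjective families of minimal morphisms U_i ⟶ X whose
underlying morphisms are quasi-compact open immersions: every morphism of pairs P ⟶ X factors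
through some U_i), for finite coverings of modulus pairs (the same with finite underlying morphisms)
— locality for both kinds being locality for the rqfh coverings, their finite composites — and for
abstract admissible blow-ups (every P ⟶ X lifts along every abstract admissible blow-up Q ⟶ X) if
and only if (1) P̄ is affine and A = Γ(P̄) is a local integral domain in which every monic
polynomial of positive degree has a root, (2) the interior P° is affine and Γ(P°) is likewise a
local integral domain in which every monic polynomial of positive degree has a root, and, writing p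
for the closed point of P° and 𝔮 ⊂ A for its prime ideal, (3) A/𝔮 is a valuation ring with
algebraically closed fraction field and (4) the localisation map sends 𝔮 bijectively onto the
maximal ideal of A_𝔮, i.e. A = A/𝔮 ×_{k(𝔮)} A_𝔮 and P̄ is the gluing of the closure of p to P° along
p. The published statement allows any modulus pair P; this row assumes the total space P̄
quasi-compact and quasi-separated. -/
theorem result (P : ModPair.Pair.{u})
    [CompactSpace P.total] [QuasiSeparatedSpace P.total] :
    ((∀ (X : ModPair.Pair.{u}) (ι : Type u) (U : ι → ModPair.Pair.{u}) (v : ∀ i, U i ⟶ X),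
        (∀ i, ModPair.IsMinimal (U i).mod X.mod (v i).hom ∧ IsOpenImmersion (v i).hom ∧ QuasiCompact (v i).hom) →
        (∀ x : X.total, ∃ (i : ι) (y : (U i).total), (v i).hom.base y = x) →
        ∀ g : P ⟶ X, ∃ (i : ι) (h : P ⟶ U i), h ≫ v i = g) ∧
      (∀ (X : ModPair.Pair.{u}) (ι : Type u) (U : ι → ModPair.Pair.{u}) (v : ∀ i, U i ⟶ X),
        (∀ i, ModPair.IsMinimal (U i).mod X.mod (v i).hom ∧ IsFinite (v i).hom) →
        (∀ x : X.total, ∃ (i : ι) (y : (U i).total), (v i).hom.base y = x) →
        ∀ g : P ⟶ X, ∃ (i : ι) (h : P ⟶ U i), h ≫ v i = g) ∧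
      (∀ (Q : ModPair.Pair.{u}) (X : ModPair.Pair.{u}) (q : Q ⟶ X), ModPair.Pair.admBlowup q →
        ∀ g : P ⟶ X, ∃ h : P ⟶ Q, h ≫ q = g)) ↔
    (IsAffine P.total ∧ IsLocalRing Γ(P.total, ⊤) ∧ IsDomain Γ(P.total, ⊤) ∧
      Curves.IsAIC Γ(P.total, ⊤) ∧
      IsAffine (ModPair.interior P.mod : Scheme.{u}) ∧
      IsLocalRing Γ((ModPair.interior P.mod : Scheme.{u}), ⊤) ∧
      IsDomain Γ((ModPair.interior P.mod : Scheme.{u}), ⊤) ∧
      Curves.IsAIC Γ((ModPair.interior P.mod : Scheme.{u}), ⊤) ∧
      ∀ p : (ModPair.interior P.mod : Scheme.{u}),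
        IsClosed ({p} : Set (ModPair.interior P.mod : Scheme.{u})) →
          ValuationRing (Γ(P.total, ⊤) ⧸ (P.total.toSpecΓ.base ((ModPair.interior P.mod).ι.base p)).asIdeal) ∧
          IsAlgClosed (FractionRing (Γ(P.total, ⊤) ⧸ (P.total.toSpecΓ.base ((ModPair.interior P.mod).ι.base p)).asIdeal)) ∧
          Set.BijOn (algebraMap Γ(P.total, ⊤) (Localization.AtPrime (P.total.toSpecΓ.base ((ModPair.interior P.mod).ι.base p)).asIdeal))
            ((P.total.toSpecΓ.base ((ModPair.interior P.mod).ι.base p)).asIdeal : Set Γ(P.total, ⊤))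
            (IsLocalRing.maximalIdeal (Localization.AtPrime (P.total.toSpecΓ.base ((ModPair.interior P.mod).ι.base p)).asIdeal) :
              Set (Localization.AtPrime (P.total.toSpecΓ.base ((ModPair.interior P.mod).ι.base p)).asIdeal))) := by
  constructor
  · rintro ⟨hZ, hF, hB⟩
    obtain ⟨hA, hL⟩ := ModPairLib.affine_local_pair P hZ
    obtain ⟨f, hf0, hspan, hU⟩ := ModPairLib.exists_gen P
    have hR : ModPairLib.HasRetractions Γ(P.total, ⊤) f := fun κ B φ hfin hnz hsurj => by
      let v : ∀ k, Spec (B k) ⟶ P.total := fun k => Spec.map (CommRingCat.ofHom (φ k)) ≫ P.total.isoSpec.inv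
      have heff : ∀ k, BlowUp.IsEffCartierIdeal (P.mod.comap (v k)) := fun k => by
        show BlowUp.IsEffCartierIdeal (P.mod.comap (Spec.map (CommRingCat.ofHom (φ k)) ≫ P.total.isoSpec.inv))
        rw [← IsAffineOpen.fromSpec_top, ModPairLib.comap_chart (V := ⟨⊤, isAffineOpen_top _⟩) hspan]
        exact BlowExist.isEffCartier_topId (hnz k)
      let Q : κ → ModPair.Pair.{u} := fun k => ⟨Spec (B k), P.mod.comap (v k), heff k⟩
      obtain ⟨k, h, hh⟩ := hF P κ Q (fun k => ⟨v k, le_rfl⟩) (fun k => ⟨rfl, by
          haveI := (IsFinite.SpecMap_iff (CommRingCat.ofHom (φ k))).2 (hfin k)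
          show IsFinite (v k)
          infer_instance⟩) (fun x => by
          obtain ⟨k, q, hq⟩ := hsurj (P.total.isoSpec.hom.base x)
          refine ⟨k, q, ?_⟩
          show (Spec.map (CommRingCat.ofHom (φ k)) ≫ P.total.isoSpec.inv).base q = x
          refine (Scheme.Hom.comp_apply _ _ _).trans ((congrArg P.total.isoSpec.inv.base
            (show (Spec.map (CommRingCat.ofHom (φ k))).base q = _ from hq)).trans ?_)
          rw [← Scheme.Hom.comp_apply, Iso.hom_inv_id]
          rfl) (𝟙 P)
      exact ⟨k, ModPairLib.retraction_of_section (φ k) h.hom (congrArg ModPair.Pair.Hom.hom hh)⟩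
    haveI := ModPairLib.isReduced_and_isDomain hf0 hR
    have hC := ModPairLib.isAIC_of_retractions hf0 hR
    obtain ⟨hUa, hUl, hval⟩ := ModPairLib.interior_of_local hB
    haveI := (isAffineOpen_top P.total).isLocalization_basicOpen f
    let e : Γ(P.total, P.total.basicOpen f) ≃+* Γ((ModPair.interior P.mod : Scheme.{u}), ⊤) :=
      (P.total.presheaf.mapIso (eqToIso hU).op ≪≫ (ModPair.interior P.mod).topIso.symm).commRingCatIsoToRingEquiv
    haveI hD' : IsDomain Γ(P.total, P.total.basicOpen f) :=
      IsLocalization.isDomain_of_le_nonZeroDivisors (M := Submonoid.powers f) _ (Submonoid.powers_le.2 hf0)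
    refine ⟨hA, hL, inferInstance, hC, hUa, hUl, e.symm.toMulEquiv.isDomain _,
      ModPairLib.isAIC_congr e (ModPairLib.isAIC_of_isLocalization (Submonoid.powers f) _ hC), fun p hp => ?_⟩
    obtain ⟨hv, hb⟩ := hval p hp
    exact ⟨hv, ModPairLib.isAlgClosed_of_isAIC (ModPairLib.isAIC_of_isLocalization (nonZeroDivisors _) _
      (ModPairLib.isAIC_of_surjective (Ideal.Quotient.mk (P.total.toSpecΓ.base ((ModPair.interior P.mod).ι.base p)).asIdeal) Ideal.Quotient.mk_surjective hC)), hb⟩
  · rintro ⟨hA, hL, hD, hC, hA', hL', hD', hC', hval⟩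
    refine ⟨fun X ι U v hv hs g => ?_, fun X ι U v hv hs g => ?_, fun Q X q hq g =>
      ModPairLib.exists_lift_admBlowup (fun p hp => ⟨(hval p hp).1, (hval p hp).2.2⟩) q hq g⟩
    · obtain ⟨c, hc⟩ := ModPairLib.exists_closed_center P.total
      obtain ⟨i, h, hh⟩ := ModPairLib.exists_lift_of_center hc (fun i => (v i).hom) (fun i => (hv i).2.1) hs g.hom
      refine ⟨i, ⟨h, ?_⟩, ModPair.Pair.Hom.ext hh⟩
      show _ ≤ _
      rw [show (U i).mod = X.mod.comap (v i).hom from (hv i).1, ← Scheme.IdealSheafData.comap_comp, hh]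
      exact g.cond
    · obtain ⟨i, y, hy⟩ := hs (g.hom.base (P.total.isoSpec.inv.base (⊥ : PrimeSpectrum Γ(P.total, ⊤))))
      haveI := (hv i).2
      obtain ⟨h, hh⟩ := ModPairLib.exists_lift_finite_affine hC (v i).hom g.hom y hy
      refine ⟨i, ⟨h, ?_⟩, ModPair.Pair.Hom.ext hh⟩
      show _ ≤ _
      rw [show (U i).mod = X.mod.comap (v i).hom from (hv i).1, ← Scheme.IdealSheafData.comap_comp, hh]
      exact g.cond

end Groth.Agent.S19346
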