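import Groth.Statements.S19348
-- no helpers

set_option autoImplicit false
universe u
open RigCh

namespace Groth.Agent.S19348

/-- Let p be a prime and m a natural number, P a commutative ring complete and separated for the p-adic
topology, and I an ideal of P with a divided power structure of level m, that is a sub-ideal J of I
endowed with divided powers such that x ^ (p ^ m) and p * x lie in J for all x in I. Then an element
of P whose class in P / I is invertible is invertible in P. (The source states this for a lift of a
unit to the p-adically completed level-m divided power envelope of a closed immersion; the statement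
here keeps exactly what its argument uses: completeness for p and the level-m divided powers on the
kernel.) -/
theorem result (p : ℕ) [Fact p.Prime] (m : ℕ)
    (P : Type u) [CommRing P] [IsAdicComplete (Ideal.span {(p : P)}) P]
    (I J : Ideal P) (hJ : DividedPowers J) (hJI : J ≤ I)
    (hpow : ∀ x ∈ I, x ^ (p ^ m) ∈ J) (hmul : ∀ x ∈ I, (p : P) * x ∈ J)
    (u : P) (hu : IsUnit (Ideal.Quotient.mk I u)) : IsUnit u := by
  obtain ⟨v, hv⟩ := Ideal.Quotient.mk_surjective (↑hu.unit⁻¹ : P ⧸ I)
  have hx : 1 - u * v ∈ I := by
    rw [← Ideal.Quotient.eq_zero_iff_mem, map_sub, map_mul, map_one, hv, IsUnit.mul_val_inv, sub_self]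
  generalize hxd : 1 - u * v = x at hx
  -- divided powers kill a power of every element of J modulo p
  have hdp : ∀ y ∈ J, y ^ p ∈ Ideal.span {(p : P)} := fun y hy => by
    rw [Ideal.mem_span_singleton, ← hJ.factorial_mul_dpow_eq_pow hy (n := p)]
    exact Dvd.dvd.mul_right (Nat.cast_dvd_cast (Nat.dvd_factorial (Fact.out : p.Prime).pos le_rfl)) _
  have hnil : x ^ (p ^ m * p) ∈ Ideal.span {(p : P)} := by
    rw [pow_mul]; exact hdp _ (hpow x hx)
  have hjac : Ideal.span {(p : P)} ≤ Ideal.jacobson ⊥ := IsAdicComplete.le_jacobson_bot _
  have hu1 : IsUnit (1 - x ^ (p ^ m * p)) := by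
    have := Ideal.mem_jacobson_bot.mp (hjac hnil) (-1)
    simpa [sub_eq_add_neg, add_comm] using this
  have hu2 : IsUnit (1 - x) := isUnit_of_dvd_unit
    (by simpa using sub_dvd_pow_sub_pow 1 x (p ^ m * p)) hu1
  rw [← hxd, sub_sub_cancel] at hu2
  exact isUnit_of_mul_isUnit_left hu2

end Groth.Agent.S19348
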