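import Groth.Statements.S19356
import Mathlib

set_option autoImplicit false
universe u
open AbVar

namespace Groth.Agent.S19356

/-- Let R be a finite-dimensional ℚ-algebra with a ℚ-linear involution x ↦ x† (an anti-automorphism of
order two) and a ℚ-linear functional σ with σ(x x†) > 0 for every x ≠ 0; this is the positivity of
the involution, σ being the trace of R over ℚ in the case of the endomorphism algebra of an abelian
variety with a Rosati involution, and the trace on a cohomology group in the case of an algebra of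
correspondences with the adjoint for a Weil form. Let α ∈ R with α α† = q for a rational number q.
Then α† lies in the subalgebra ℚ[α], and for every ℚ-algebra homomorphism ρ : ℚ[α] → ℂ one has ρ(α†)
= the complex conjugate of ρ(α) and |ρ(α)|² = q. (The published statement is for the endomorphism
algebra of an abelian variety with a Rosati involution, with σ its trace over ℚ and q an integer;
the form given here, for an arbitrary ℚ-linear functional σ positive on every x x† with x ≠ 0 and
rational q, is what its proof establishes.) -/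
theorem result (R : Type u) [Ring R] [Algebra ℚ R]
    [Module.Finite ℚ R] [StarRing R] [StarModule ℚ R]
    (σ : R →ₗ[ℚ] ℚ) (hpos : ∀ x : R, x ≠ 0 → 0 < σ (x * star x))
    (α : R) (q : ℚ) (hα : α * star α = algebraMap ℚ R q) :
    ∃ hmem : star α ∈ Algebra.adjoin ℚ ({α} : Set R),
      ∀ ρ : Algebra.adjoin ℚ ({α} : Set R) →ₐ[ℚ] ℂ,
        ρ ⟨star α, hmem⟩ = starRingEnd ℂ (ρ ⟨α, Algebra.self_mem_adjoin_singleton ℚ α⟩) ∧
          ‖ρ ⟨α, Algebra.self_mem_adjoin_singleton ℚ α⟩‖ ^ 2 = (q : ℝ) := by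
  classical
  obtain ⟨C, hC⟩ : ∃ C, C = Algebra.adjoin ℚ ({α} : Set R) := ⟨_, rfl⟩
  by_cases hq : q = 0
  · have hα0 : α = 0 := by
      by_contra h
      have := hpos α h
      rw [hα, hq, map_zero, map_zero] at this
      exact lt_irrefl _ this
    subst hα0 hq
    refine ⟨by rw [star_zero]; exact Subalgebra.zero_mem _, fun ρ => ?_⟩
    have e : ∀ (x : R) (hx : x ∈ Algebra.adjoin ℚ ({(0 : R)} : Set R)), x = 0 → ρ ⟨x, hx⟩ = 0 := by
      intro x hx h; subst h; exact map_zero ρ
    rw [e (star (0 : R)) _ (star_zero R), e 0 _ rfl]; simp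
  have hcomm : ∀ x ∈ Algebra.adjoin ℚ ({α} : Set R), α * x = x * α := by
    intro x hx
    induction hx using Algebra.adjoin_induction with
    | mem x hx => rw [Set.mem_singleton_iff.1 hx]
    | algebraMap r => exact (Algebra.commutes r α).symm
    | add x y _ _ hx hy => rw [mul_add, add_mul, hx, hy]
    | mul x y _ _ hx hy => rw [← mul_assoc, hx, mul_assoc, hy, ← mul_assoc]
  obtain ⟨a, ha⟩ : ∃ a : Algebra.adjoin ℚ ({α} : Set R), a = ⟨α, Algebra.self_mem_adjoin_singleton ℚ α⟩ := ⟨_, rfl⟩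
  haveI : Module.Finite ℚ (Algebra.adjoin ℚ ({α} : Set R)) :=
    Module.Finite.of_injective (Subalgebra.val _).toLinearMap Subtype.val_injective
  have hinj : Function.Injective (LinearMap.mulLeft ℚ a) := by
    rw [injective_iff_map_eq_zero]
    intro x hx
    have hx' : α * (x : R) = 0 := by
      have := congrArg (fun y : Algebra.adjoin ℚ ({α} : Set R) => (y : R)) hx
      simpa [ha] using this
    have h2 : (x : R) * algebraMap ℚ R q = 0 := by rw [← hα, ← mul_assoc, ← hcomm _ x.2, hx', zero_mul]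
    rw [← Algebra.commutes, ← Algebra.smul_def] at h2
    exact Subtype.ext ((smul_eq_zero.1 h2).resolve_left hq)
  obtain ⟨y, hy⟩ := LinearMap.surjective_of_injective hinj 1
  have hy' : α * (y : R) = 1 := by
    have := congrArg (fun y : Algebra.adjoin ℚ ({α} : Set R) => (y : R)) hy
    simpa [ha] using this
  have hstar : star α = q • (y : R) := by
    calc star α = (y : R) * α * star α := by rw [← hcomm _ y.2, hy', one_mul]
      _ = q • (y : R) := by rw [mul_assoc, hα, ← Algebra.commutes, ← Algebra.smul_def]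
  have hmem : star α ∈ Algebra.adjoin ℚ ({α} : Set R) := by rw [hstar]; exact Subalgebra.smul_mem _ y.2 q
  refine ⟨hmem, fun ρ => ?_⟩
  have hsa : star α * α = algebraMap ℚ R q := by rw [← hcomm _ hmem, hα]
  haveI : Nontrivial R := by
    by_contra h
    rw [not_nontrivial_iff_subsingleton] at h
    have h0 : (1 : Algebra.adjoin ℚ ({α} : Set R)) = 0 := Subtype.ext (Subsingleton.elim _ _)
    have := congrArg ρ h0
    simp at this
  have hq0 : (0 : ℚ) < q := by
    have hα0 : α ≠ 0 := fun h => one_ne_zero (hy'.symm.trans (mul_eq_zero_of_left h _))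
    have h1 := hpos α hα0
    have h2 := hpos 1 one_ne_zero
    rw [hα, Algebra.algebraMap_eq_smul_one, map_smul, smul_eq_mul] at h1
    rw [star_one, mul_one] at h2
    exact pos_of_mul_pos_left h1 h2.le
  -- the positive form
  let Bl : LinearMap.BilinForm ℚ (Algebra.adjoin ℚ ({α} : Set R)) := LinearMap.mk₂ ℚ
    (fun x z => σ ((x : R) * star (z : R) + (z : R) * star (x : R)))
    (fun x x' z => by simp [mul_add, add_mul, star_add]; ring)
    (fun c x z => by simp [star_smul, smul_add, mul_smul_comm, smul_mul_assoc]; ring)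
    (fun x z z' => by simp [mul_add, add_mul, star_add]; ring)
    (fun c x z => by simp [star_smul, smul_add, mul_smul_comm, smul_mul_assoc]; ring)
  have hsymm : LinearMap.IsSymm Bl := ⟨fun x z => by simp [Bl, add_comm]⟩
  have hBl : ∀ x, Bl x x = 2 * σ ((x : R) * star (x : R)) := fun x => by simp [Bl]; ring
  obtain ⟨v, hv⟩ := LinearMap.BilinForm.exists_orthogonal_basis hsymm
  have hvpos : ∀ i, 0 < Bl (v i) (v i) := fun i => by
    rw [hBl]
    exact mul_pos two_pos (hpos _ (fun h => v.ne_zero i (Subtype.ext h)))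
  have hbound : ∃ K : ℝ, 0 ≤ K ∧ ∀ x, ‖ρ x‖ ≤ K * Real.sqrt (Bl x x : ℝ) := by
    refine ⟨∑ i, ‖ρ (v i)‖ / Real.sqrt (Bl (v i) (v i) : ℝ), Finset.sum_nonneg (fun i _ => by positivity), fun x => ?_⟩
    have hx : Bl x x = ∑ i, (v.repr x i) ^ 2 * Bl (v i) (v i) := by
      conv_lhs => rw [← v.sum_repr x]
      simp only [map_sum, LinearMap.sum_apply, map_smul, LinearMap.smul_apply, smul_eq_mul]
      refine Finset.sum_congr rfl fun i _ => ?_
      rw [Finset.sum_eq_single i]
      · ring
      · intro j _ hji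
        have : Bl (v j) (v i) = 0 := hv hji
        rw [this]; ring
      · intro h; exact absurd (Finset.mem_univ _) h
    conv_lhs => rw [← v.sum_repr x, map_sum]
    refine (norm_sum_le _ _).trans ?_
    rw [Finset.sum_mul]
    refine Finset.sum_le_sum fun i _ => ?_
    rw [map_smul, Algebra.smul_def, norm_mul]
    have hs : (0 : ℝ) < Real.sqrt (Bl (v i) (v i) : ℝ) := Real.sqrt_pos.2 (by exact_mod_cast hvpos i)
    rw [div_mul_eq_mul_div, le_div_iff₀ hs]
    have hle : ((v.repr x i : ℚ) : ℝ) ^ 2 * (Bl (v i) (v i) : ℝ) ≤ (Bl x x : ℝ) := by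
      rw [hx]; push_cast
      exact Finset.single_le_sum (f := fun j => ((v.repr x j : ℚ) : ℝ) ^ 2 * (Bl (v j) (v j) : ℝ))
        (fun j _ => mul_nonneg (sq_nonneg _) (by exact_mod_cast (hvpos j).le)) (Finset.mem_univ i)
    have hsq := Real.sqrt_le_sqrt hle
    rw [Real.sqrt_mul (sq_nonneg _), Real.sqrt_sq_eq_abs] at hsq
    have hn : ‖algebraMap ℚ ℂ (v.repr x i)‖ = |((v.repr x i : ℚ) : ℝ)| := by
      rw [eq_ratCast, ← Complex.ofReal_ratCast, Complex.norm_real, Real.norm_eq_abs]
    rw [hn]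
    calc |((v.repr x i : ℚ) : ℝ)| * ‖ρ (v i)‖ * Real.sqrt (Bl (v i) (v i) : ℝ)
        = ‖ρ (v i)‖ * (|((v.repr x i : ℚ) : ℝ)| * Real.sqrt (Bl (v i) (v i) : ℝ)) := by ring
      _ ≤ _ := mul_le_mul_of_nonneg_left hsq (norm_nonneg _)
  obtain ⟨K, hK0, hK⟩ := hbound
  have small : ∀ (b : Algebra.adjoin ℚ ({α} : Set R)), (b : R) * star (b : R) = algebraMap ℚ R q →
      ‖ρ b‖ ^ 2 ≤ (q : ℝ) := by
    intro b hb
    have hpw : ∀ m : ℕ, ((b ^ m : Algebra.adjoin ℚ ({α} : Set R)) : R) * star ((b ^ m : Algebra.adjoin ℚ ({α} : Set R)) : R) = algebraMap ℚ R (q ^ m) := by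
      intro m
      induction m with
      | zero => simp
      | succ m ihm =>
        rw [pow_succ', Subalgebra.coe_mul, star_mul, mul_assoc, ← mul_assoc ((b ^ m : Algebra.adjoin ℚ ({α} : Set R)) : R),
          ihm, Algebra.commutes (q ^ m) (star (b : R)), ← mul_assoc, hb, ← map_mul, ← pow_succ']
    by_contra hlt
    push Not at hlt
    have hbig : ∀ m : ℕ, (‖ρ b‖ ^ 2 / (q : ℝ)) ^ m ≤ K ^ 2 * (2 * σ 1 : ℚ) := by
      intro m
      have h1 := hK (b ^ m)
      rw [map_pow, norm_pow, hBl, hpw, Algebra.algebraMap_eq_smul_one, map_smul, smul_eq_mul] at h1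
      have h2 := pow_le_pow_left₀ (by positivity) h1 2
      rw [mul_pow, Real.sq_sqrt] at h2
      · rw [div_pow, div_le_iff₀ (pow_pos (by exact_mod_cast hq0) m), ← pow_mul, mul_comm 2 m, pow_mul]
        push_cast at h2 ⊢
        linarith
      · have h3 := hpos 1 one_ne_zero
        rw [star_one, mul_one] at h3
        have : (0 : ℚ) ≤ 2 * (q ^ m * σ 1) := by positivity
        exact_mod_cast this
    obtain ⟨m, hm⟩ := pow_unbounded_of_one_lt (K ^ 2 * ((2 * σ 1 : ℚ) : ℝ))
      ((one_lt_div (by exact_mod_cast hq0)).2 hlt)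
    exact absurd (hbig m) (not_le.2 hm)
  obtain ⟨s', hs'⟩ : ∃ s' : Algebra.adjoin ℚ ({α} : Set R), s' = ⟨star α, hmem⟩ := ⟨_, rfl⟩
  rw [← ha, ← hs']
  have e1 := small a (by rw [ha]; exact hα)
  have e2 := small s' (by rw [hs']; simpa using hsa)
  have e3 : ρ a * ρ s' = (q : ℂ) := by
    rw [← map_mul, show a * s' = algebraMap ℚ _ q from Subtype.ext (by rw [ha, hs']; exact hα), AlgHom.commutes, eq_ratCast]
  have e4 : ‖ρ a‖ ^ 2 * ‖ρ s'‖ ^ 2 = (q : ℝ) ^ 2 := by
    rw [← mul_pow, ← norm_mul, e3, ← Complex.ofReal_ratCast, Complex.norm_real, Real.norm_eq_abs, sq_abs]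
  have hqR : (0 : ℝ) < (q : ℝ) := by exact_mod_cast hq0
  have e5 : ‖ρ a‖ ^ 2 = (q : ℝ) := by nlinarith [sq_nonneg ‖ρ a‖, sq_nonneg ‖ρ s'‖]
  refine ⟨?_, e5⟩
  have hne : ρ a ≠ 0 := fun h => by rw [h, norm_zero] at e5; simp at e5; linarith [e5.symm ▸ hqR]
  apply mul_left_cancel₀ hne
  rw [e3, Complex.mul_conj, Complex.normSq_eq_norm_sq, e5, Complex.ofReal_ratCast]

end Groth.Agent.S19356
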