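import Groth.Statements.S19359
import Groth.Agent.FanLib.Closed

set_option autoImplicit false
universe u
open CategoryTheory Opposite Instab
open Instab Instab.Fan

namespace Groth.Agent.S19359

/-- A formal fan G is quasi-separated (the fibre product of any two of its cones is a bounded fan) if
and only if, for every bounded formal fan F, every map of fans F ⟶ G is bounded (its base change
along each cone of G is a bounded fan). -/
theorem result (G : Fan.{u}) :
    G.IsQuasiSeparated ↔
      ∀ (F : Fan.{u}) (f : F ⟶ G), F.IsBounded → Fan.IsBoundedMap f := by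
  classical
  constructor
  · intro hG F f hF n σ
    obtain ⟨s, hs⟩ := hF
    choose t ht using fun e : (Σ m : ICone, F.obj (Opposite.op m)) => hG e.1 n (f.app _ e.2) σ
    have hc : ∀ e : (Σ m : ICone, F.obj (Opposite.op m)),
        Fan.coneMap (f.app _ e.2) = Fan.coneMap e.2 ≫ f := fun e =>
      uliftYonedaEquiv.{u}.injective (by simp [Fan.coneMap, uliftYonedaEquiv_comp])
    let ρ : ∀ e : (Σ m : ICone, F.obj (Opposite.op m)),
        Limits.pullback (Fan.coneMap (f.app _ e.2)) (Fan.coneMap σ) ⟶ Limits.pullback f (Fan.coneMap σ) :=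
      fun e => Limits.pullback.lift (Limits.pullback.fst _ _ ≫ Fan.coneMap e.2) (Limits.pullback.snd _ _)
        (by rw [Category.assoc, ← hc, Limits.pullback.condition])
    refine ⟨s.biUnion fun e => (t e).image fun q => ⟨q.1, (ρ e).app _ q.2⟩, fun x => ?_⟩
    obtain ⟨k, h, v, rfl⟩ := Groth.Agent.FanLib.exists_rep x
    obtain ⟨e, he, w, hw⟩ := hs (Fan.P.map (Limits.pullback.fst f (Fan.coneMap σ)) (Fan.P.mk h v))
    rw [Groth.Agent.FanLib.map_mk] at hw
    obtain ⟨l, φ₁, φ₂, y, c₁, c₂, h₁, h₂, hq, -, rfl⟩ := Groth.Agent.FanLib.mk_eq_mk_elim hw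
    obtain ⟨p, hp₁, hp₂⟩ := Groth.Agent.FanLib.exists_pullback_elem (Fan.coneMap (f.app _ e.2)) (Fan.coneMap σ)
      (ULift.up φ₁) ((Limits.pullback.snd f (Fan.coneMap σ)).app _
        ((Limits.pullback f (Fan.coneMap σ)).map φ₂.op h)) (by
        rw [Groth.Agent.FanLib.coneMap_app, ← Groth.Agent.FanLib.app_map, hq,
          ← Groth.Agent.FanLib.app_map (Limits.pullback.fst f (Fan.coneMap σ))]
        exact Groth.Agent.FanLib.pullback_condition_app f (Fan.coneMap σ) _)
    have hρ : (ρ e).app _ p = (Limits.pullback f (Fan.coneMap σ)).map φ₂.op h := by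
      refine (uliftYonedaEquiv.{u}.symm.injective ?_)
      apply Limits.pullback.hom_ext <;> apply uliftYonedaEquiv.{u}.injective <;>
        rw [uliftYonedaEquiv_comp, uliftYonedaEquiv_comp, Equiv.apply_symm_apply, Equiv.apply_symm_apply]
      · have : (Limits.pullback.fst f (Fan.coneMap σ)).app _ ((ρ e).app _ p) =
            (ρ e ≫ Limits.pullback.fst f (Fan.coneMap σ)).app _ p := rfl
        rw [this, Limits.pullback.lift_fst]
        show (Fan.coneMap e.2).app _ ((Limits.pullback.fst (Fan.coneMap (f.app _ e.2)) (Fan.coneMap σ)).app _ p) = _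
        rw [hp₁, Groth.Agent.FanLib.coneMap_app, Groth.Agent.FanLib.app_map]
        exact hq
      · have : (Limits.pullback.snd f (Fan.coneMap σ)).app _ ((ρ e).app _ p) =
            (ρ e ≫ Limits.pullback.snd f (Fan.coneMap σ)).app _ p := rfl
        rw [this, Limits.pullback.lift_snd]
        exact hp₂
    obtain ⟨q, hq', z, hz⟩ := ht e (Fan.P.mk p y)
    refine ⟨⟨q.1, (ρ e).app _ q.2⟩, Finset.mem_biUnion.2 ⟨e, he, Finset.mem_image_of_mem _ hq'⟩, z, ?_⟩
    have hz' := congrArg (Fan.P.map (ρ e)) hz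
    rw [Groth.Agent.FanLib.map_mk, Groth.Agent.FanLib.map_mk, hρ, Groth.Agent.FanLib.mk_map] at hz'
    rw [hz', Groth.Agent.FanLib.mk_scale]
  · intro h n₀ n₁ σ₀ σ₁
    refine h _ (Fan.coneMap σ₀) ⟨{⟨n₀, Groth.Agent.FanLib.univCone n₀⟩}, fun x => ?_⟩ n₁ σ₁
    obtain ⟨v, rfl⟩ := Groth.Agent.FanLib.yoneda_rep x
    exact ⟨_, Finset.mem_singleton_self _, v, rfl⟩

end Groth.Agent.S19359
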