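import Groth.Statements.S19362
import Groth.Agent.FanLib.Basic

set_option autoImplicit false
universe u
open CategoryTheory Opposite Instab
open Instab Instab.Fan

namespace Groth.Agent.S19362

/-- Let f : F ⟶ G be a map of formal fans. (1) The image of the induced map P F → P G is the image of
the projective realization of the image sub-fan of f. (2) For a map g : G' ⟶ G, the image of the
projective realization of the base change F ×_G G' ⟶ G' is the preimage, under P G' → P G, of the
image of P F → P G. -/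
theorem result {F G G' : Fan.{u}} (f : F ⟶ G) (g : G' ⟶ G) :
    Set.range (Fan.P.map f) = Set.range (Fan.P.map (Subfunctor.range f).ι) ∧
    Set.range (Fan.P.map (Limits.pullback.snd f g)) = Fan.P.map g ⁻¹' Set.range (Fan.P.map f) := by
  refine ⟨Set.ext fun y => ⟨?_, ?_⟩, Set.ext fun y => ⟨?_, ?_⟩⟩
  · rintro ⟨x, rfl⟩
    exact ⟨Fan.P.map (Subfunctor.toRange f) x,
      by rw [← Groth.Agent.FanLib.map_comp_apply, Subfunctor.toRange_ι]⟩
  · rintro ⟨x, rfl⟩
    obtain ⟨n, ⟨ξ, σ, hσ⟩, v, rfl⟩ := Groth.Agent.FanLib.exists_rep x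
    exact ⟨Fan.P.mk σ v, congrArg (fun s => Fan.P.mk s v) hσ⟩
  · rintro ⟨x, rfl⟩
    exact ⟨Fan.P.map (Limits.pullback.fst f g) x, by
      rw [← Groth.Agent.FanLib.map_comp_apply, ← Groth.Agent.FanLib.map_comp_apply, Limits.pullback.condition]⟩
  · rintro ⟨x, hx⟩
    obtain ⟨z, -, hz⟩ := Groth.Agent.FanLib.exists_p_pullback_lift f g x y hx
    exact ⟨z, hz⟩

end Groth.Agent.S19362
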