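import Groth.Statements.S19363
import Groth.Agent.FanLib.Closed

set_option autoImplicit false
universe u
open CategoryTheory Opposite Instab
open Instab Instab.Fan

namespace Groth.Agent.S19363

/-- Let ψ : F ⟶ G be a bounded map of formal fans. Then the induced map P F → P G is a closed map whose
fibres are finite, and its image meets each rational simplex of P G in a finite union of closed
rational sub-simplices: for every n-cone ξ of G there are finitely many cone morphisms φ into [n]
such that a nonzero nonnegative vector v of ℝ^n gives a point of the image exactly when v is a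
positive multiple of φ y for one of these φ and some nonzero nonnegative y. -/
theorem result {F G : Fan.{u}} (ψ : F ⟶ G)
    (hψ : Fan.IsBoundedMap ψ) :
    IsClosedMap (Fan.P.map ψ) ∧ (∀ y : Fan.P G, (Fan.P.map ψ ⁻¹' {y}).Finite) ∧
    ∀ (n : ICone) (ξ : G.obj (op n)), ∃ s : Finset (Σ k : ICone, k ⟶ n),
      {v : Fan.Orth n | Fan.P.mk ξ v ∈ Set.range (Fan.P.map ψ)} =
        ⋃ e ∈ s, {v : Fan.Orth n | ∃ (y : Fan.Orth e.1) (c : ℝ), 0 < c ∧ v.1 = c • e.2.realMap y.1} := by
  classical
  refine ⟨Groth.Agent.FanLib.isClosedMap_map hψ, fun y => ?_, fun n ξ => ?_⟩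
  · obtain ⟨n, ξ, v, rfl⟩ := Groth.Agent.FanLib.exists_rep y
    obtain ⟨s, hs, hs'⟩ := Groth.Agent.FanLib.boundedMap_cover hψ ξ
    refine Set.Finite.subset (s.finite_toSet.biUnion (t := fun e =>
      Fan.P.mk e.2.1 '' (Groth.Agent.FanLib.push e.2.2 ⁻¹' {v})) fun e _ => ?_) ?_
    · exact ((Set.subsingleton_singleton.preimage (Groth.Agent.FanLib.push_injective _)).finite).image _
    · intro x hx
      obtain ⟨e, he, z, h1, h2⟩ := hs' x v hx
      exact Set.mem_biUnion he ⟨z, h1, h2⟩
  · obtain ⟨s, hs, hs'⟩ := Groth.Agent.FanLib.boundedMap_cover hψ ξ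
    refine ⟨s.image fun e => ⟨e.1, e.2.2⟩, Set.ext fun v => ⟨?_, ?_⟩⟩
    · rintro ⟨x, hx⟩
      obtain ⟨e, he, z, rfl, -⟩ := hs' x v hx
      exact Set.mem_biUnion (Finset.mem_image_of_mem _ he) ⟨z, 1, one_pos, (one_smul ℝ _).symm⟩
    · intro hv
      simp only [Set.mem_iUnion, Finset.mem_image] at hv
      obtain ⟨_, ⟨e, he, rfl⟩, z, c, hc, hv⟩ := hv
      refine ⟨Fan.P.mk e.2.1 z, ?_⟩
      rw [Groth.Agent.FanLib.map_mk, hs e he, Groth.Agent.FanLib.mk_map,
        Groth.Agent.FanLib.mk_eq_of_smul ξ hc hv]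

end Groth.Agent.S19363
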