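import Groth.Statements.S19364
import Groth.Agent.FanLib.Closed

set_option autoImplicit false
universe u
open CategoryTheory Opposite Instab
open Instab Instab.Fan

namespace Groth.Agent.S19364

/-- Let ψ : F ⟶ G be a bounded map of formal fans. Then the induced map P F → P G is surjective if and
only if every rational point of P G lies in its image. (The published lemma also claims that such a
map is injective as soon as it is injective on rational points; that fails, since two copies of the
standard 2-cone glued to each other along all their rational rays map to the standard 2-cone by a
bounded map that is bijective on rational points and two-to-one elsewhere, and it is not stated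
here.) -/
theorem result {F G : Fan.{u}} (ψ : F ⟶ G)
    (hψ : Fan.IsBoundedMap ψ) :
    Function.Surjective (Fan.P.map ψ) ↔
      ∀ y : Fan.P G, y.IsRational → y ∈ Set.range (Fan.P.map ψ) := by
  refine ⟨fun h y _ => h y, fun h y => ?_⟩
  obtain ⟨n, ξ, v, rfl⟩ := Groth.Agent.FanLib.exists_rep y
  exact Groth.Agent.FanLib.forall_of_rational ξ ((Groth.Agent.FanLib.isClosedMap_map hψ).isClosed_range)
    (fun a h0 h1 => h _ (Groth.Agent.FanLib.isRational_intOrth ξ a h0 h1)) v

end Groth.Agent.S19364
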