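import Groth.Statements.S19367
import Groth.Agent.FanLib.Closed

set_option autoImplicit false
universe u
open CategoryTheory Opposite Instab
open Instab Instab.Fan

namespace Groth.Agent.S19367

/-- Let ψ : F ⟶ G be a map of formal fans with F quasi-separated. Then injectivity of the induced map P
F → P G is equivalent to its injectivity on the rational points of P F. -/
theorem result {F G : Fan.{u}} (ψ : F ⟶ G)
    (hF : F.IsQuasiSeparated) :
    Function.Injective (Fan.P.map ψ) ↔
      ∀ x y : Fan.P F, x.IsRational → y.IsRational → Fan.P.map ψ x = Fan.P.map ψ y → x = y := by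
  refine ⟨fun h x y _ _ e => h e, fun h x x' e => ?_⟩
  obtain ⟨k, σ, v, rfl⟩ := Groth.Agent.FanLib.exists_rep x
  obtain ⟨m, σ', v', rfl⟩ := Groth.Agent.FanLib.exists_rep x'
  rw [Groth.Agent.FanLib.map_mk, Groth.Agent.FanLib.map_mk] at e
  obtain ⟨l, φ₁, φ₂, y, c₁, c₂, h₁, h₂, he, rfl, rfl⟩ := Groth.Agent.FanLib.mk_eq_mk_elim e
  rw [Groth.Agent.FanLib.mk_scale, Groth.Agent.FanLib.mk_scale, ← Groth.Agent.FanLib.mk_map,
    ← Groth.Agent.FanLib.mk_map]
  rw [← Groth.Agent.FanLib.app_map, ← Groth.Agent.FanLib.app_map] at he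
  refine Groth.Agent.FanLib.mem_of_intOrth (Groth.Agent.FanLib.isClosed_mk_eq hF (F.map φ₁.op σ) (F.map φ₂.op σ'))
    (fun w hw c hc => ?_) (fun a h0 h1 => ?_) y
  · rw [Set.mem_ofPred_eq, Groth.Agent.FanLib.mk_scale, Groth.Agent.FanLib.mk_scale]
    exact hw
  · refine h _ _ (Groth.Agent.FanLib.isRational_intOrth _ a h0 h1) (Groth.Agent.FanLib.isRational_intOrth _ a h0 h1) ?_
    rw [Groth.Agent.FanLib.map_mk, Groth.Agent.FanLib.map_mk, he]

end Groth.Agent.S19367
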