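import Groth.Statements.S19368
import Groth.Agent.FanLib.Basic

set_option autoImplicit false
universe u
open CategoryTheory Opposite Instab
open Instab Instab.Fan

namespace Groth.Agent.S19368

/-- Let F be a formal fan; a subset of P F is realizable when it is the image of the projective
realization of some sub-fan of F. The intersection of two realizable subsets is realizable, and the
union of an arbitrary family of realizable subsets is realizable. -/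
theorem result (F : Fan.{u}) :
    (∀ U V : Set (Fan.P F), Fan.IsRealizable U → Fan.IsRealizable V → Fan.IsRealizable (U ∩ V)) ∧
    ∀ (ι : Type u) (U : ι → Set (Fan.P F)), (∀ i, Fan.IsRealizable (U i)) →
      Fan.IsRealizable (Set.iUnion U) := by
  constructor
  · rintro U V ⟨S, rfl⟩ ⟨T, rfl⟩
    refine ⟨S ⊓ T, Set.ext fun x => ⟨?_, ?_⟩⟩
    · rintro ⟨⟨a, rfl⟩, b, hb⟩
      obtain ⟨k, ⟨σ, hσ⟩, v, rfl⟩ := Groth.Agent.FanLib.exists_rep a
      obtain ⟨m, ⟨τ, hτ⟩, w, rfl⟩ := Groth.Agent.FanLib.exists_rep b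
      rw [Groth.Agent.FanLib.map_mk, Groth.Agent.FanLib.map_mk] at hb
      obtain ⟨l, φ₁, φ₂, y, c₁, c₂, h₁, h₂, he, -, rfl⟩ := Groth.Agent.FanLib.mk_eq_mk_elim hb
      have hmem : F.map φ₁.op τ ∈ (S ⊓ T).obj (Opposite.op l) := by
        refine ⟨?_, T.map φ₁.op hτ⟩
        have h := S.map φ₂.op hσ
        exact he ▸ h
      refine ⟨Fan.P.mk ⟨F.map φ₁.op τ, hmem⟩ y, ?_⟩
      rw [Groth.Agent.FanLib.map_mk, Groth.Agent.FanLib.map_mk, Groth.Agent.FanLib.mk_scale,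
        ← Groth.Agent.FanLib.mk_map]
      exact congrArg (fun s => Fan.P.mk s y) he
    · rintro ⟨z, rfl⟩
      obtain ⟨l, ⟨σ, hσ⟩, v, rfl⟩ := Groth.Agent.FanLib.exists_rep z
      exact ⟨⟨Fan.P.mk ⟨σ, hσ.1⟩ v, rfl⟩, Fan.P.mk ⟨σ, hσ.2⟩ v, rfl⟩
  · intro ι U hU
    choose S hS using hU
    refine ⟨⨆ i, S i, Set.ext fun x => ⟨?_, ?_⟩⟩
    · intro hx
      obtain ⟨i, hi⟩ := Set.mem_iUnion.1 hx
      rw [hS i] at hi
      obtain ⟨z, rfl⟩ := hi
      obtain ⟨l, ⟨σ, hσ⟩, v, rfl⟩ := Groth.Agent.FanLib.exists_rep z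
      exact ⟨Fan.P.mk ⟨σ, le_iSup S i (Opposite.op l) hσ⟩ v, rfl⟩
    · rintro ⟨z, rfl⟩
      obtain ⟨l, ⟨σ, hσ⟩, v, rfl⟩ := Groth.Agent.FanLib.exists_rep z
      obtain ⟨i, hi⟩ : ∃ i, σ ∈ (S i).obj (Opposite.op l) := by simpa using hσ
      refine Set.mem_iUnion.2 ⟨i, ?_⟩
      rw [hS i]
      exact ⟨Fan.P.mk ⟨σ, hi⟩ v, rfl⟩

end Groth.Agent.S19368
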