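import Groth.Statements.S19369
import Groth.Agent.FanLib.Closed
import Mathlib.Analysis.Convex.StdSimplex
import Mathlib.Topology.Sequences
import Mathlib.Data.Nat.Nth

set_option autoImplicit false
universe u
open CategoryTheory Opposite Instab
open Instab Instab.Fan

namespace Groth.Agent.S19369

/-- Let F be a quasi-separated formal fan and let (x i) be a sequence in P F converging to a point x.
Then there are an n-cone σ of F and a subsequence of (x i) whose terms lift to nonzero nonnegative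
vectors of ℝ^n, mapping to them under the rational simplex of σ, such that the lifts converge to a
vector that lifts x. -/
theorem result (F : Fan.{u}) (hF : F.IsQuasiSeparated)
    (x : ℕ → Fan.P F) (x₀ : Fan.P F) (hx : Filter.Tendsto x Filter.atTop (nhds x₀)) :
    ∃ (n : ICone) (σ : F.obj (op n)) (r : ℕ → ℕ) (v : ℕ → Fan.Orth n) (v₀ : Fan.Orth n),
      StrictMono r ∧ (∀ j, Fan.P.mk σ (v j) = x (r j)) ∧ Fan.P.mk σ v₀ = x₀ ∧
        Filter.Tendsto v Filter.atTop (nhds v₀) := by
  classical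
  have hsingle : ∀ z : Fan.P F, IsClosed ({z} : Set (Fan.P F)) := fun z => by
    obtain ⟨n, ξ, v, rfl⟩ := Groth.Agent.FanLib.exists_rep z
    let C : Set (Fan.Orth n) := {w | (∑ i, v.1 i) • w.1 = (∑ i, w.1 i) • v.1}
    have hpos : ∀ w : Fan.Orth n, 0 < ∑ i, w.1 i := fun w => by
      obtain ⟨i, hi⟩ := Function.ne_iff.1 w.2.2
      exact Finset.sum_pos' (fun i _ => w.2.1 i)
        ⟨i, Finset.mem_univ i, lt_of_le_of_ne (w.2.1 i) (Ne.symm hi)⟩
    have hC : IsClosed C := isClosed_eq ((continuous_const (y := ∑ i, v.1 i)).smul Groth.Agent.FanLib.continuous_val)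
      ((continuous_finsetSum _ fun i _ => (continuous_apply i).comp Groth.Agent.FanLib.continuous_val).smul
        continuous_const)
    have : ({Fan.P.mk ξ v} : Set (Fan.P F)) = Fan.P.mk ξ '' C := by
      ext y
      simp only [Set.mem_singleton_iff, Set.mem_image]
      constructor
      · rintro rfl; exact ⟨v, rfl, rfl⟩
      · rintro ⟨w, hw, rfl⟩
        refine (Groth.Agent.FanLib.mk_eq_of_smul ξ (c := (∑ i, w.1 i) / ∑ i, v.1 i) (div_pos (hpos w) (hpos v)) ?_).symm
        rw [div_eq_mul_inv, mul_comm, ← smul_smul, ← (show _ = _ from hw), smul_smul,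
          inv_mul_cancel₀ (hpos v).ne', one_smul]
    rw [this]
    refine Groth.Agent.FanLib.isClosed_image_cell hF ξ hC fun w w' hw c hc h => ?_
    simp only [C, Set.mem_ofPred_eq] at hw ⊢
    rw [h, smul_comm, hw, smul_smul]
    simp [Finset.mul_sum]
  obtain ⟨n, ξ, hinf⟩ : ∃ (n : ICone) (ξ : F.obj (Opposite.op n)), {i | x i ∈ Fan.P.cell ξ}.Infinite := by
    by_contra H
    have hfin : ∀ (n : ICone) (ξ : F.obj (Opposite.op n)), {i | x i ∈ Fan.P.cell ξ}.Finite :=
      fun n ξ => Set.not_infinite.1 fun h => H ⟨n, ξ, h⟩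
    obtain ⟨n₀, ξ₀, v₀, hv₀⟩ := Groth.Agent.FanLib.exists_rep x₀
    have hT : IsClosed (x '' {i | x i ≠ x₀}) := Groth.Agent.FanLib.isClosed_of_cells fun n ξ => by
      haveI : T1Space (Fan.P F) := ⟨hsingle⟩
      refine Set.Finite.isClosed ?_
      · refine ((hfin n ξ).image x).subset ?_
        rintro _ ⟨⟨i, -, rfl⟩, hi⟩
        exact ⟨i, hi, rfl⟩
    obtain ⟨N, hN⟩ := Filter.eventually_atTop.1 (hx.eventually (hT.isOpen_compl.mem_nhds
      (fun h => by obtain ⟨i, hi, he⟩ := h; exact hi he)))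
    refine (Set.Ici_infinite N) ((hfin n₀ ξ₀).subset fun i hi => ?_)
    have : x i = x₀ := by
      by_contra h
      exact hN i hi ⟨i, h, rfl⟩
    exact ⟨v₀, hv₀.trans this.symm⟩
  let e : ℕ → ℕ := Nat.nth (fun i => x i ∈ Fan.P.cell ξ)
  have he : StrictMono e := Nat.nth_strictMono hinf
  choose w hw using fun j => Nat.nth_mem_of_infinite hinf j
  let sum' : Fan.Orth n → ℝ := fun v => ∑ i, v.1 i
  have hpos : ∀ v, 0 < sum' v := fun v => by
    obtain ⟨i, hi⟩ := Function.ne_iff.1 v.2.2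
    exact Finset.sum_pos' (fun i _ => v.2.1 i) ⟨i, Finset.mem_univ i, lt_of_le_of_ne (v.2.1 i) (Ne.symm hi)⟩
  let u : ℕ → Fan.Orth n := fun j => Groth.Agent.FanLib.scale (sum' (w j))⁻¹ (inv_pos.2 (hpos _)) (w j)
  have hu : ∀ j, (u j).1 ∈ stdSimplex ℝ (Fin n.dim) := fun j =>
    ⟨(u j).2.1, by
      show ∑ i, (sum' (w j))⁻¹ * (w j).1 i = 1
      rw [← Finset.mul_sum]; exact inv_mul_cancel₀ (hpos _).ne'⟩
  obtain ⟨a, ha, φ, hφ, hlim⟩ := (isCompact_stdSimplex ℝ (Fin n.dim)).tendsto_subseq hu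
  have ha0 : a ≠ 0 := fun h => by simpa [h] using ha.2
  let v₀ : Fan.Orth n := ⟨a, ha.1, ha0⟩
  have hlim' : Filter.Tendsto (fun j => u (φ j)) Filter.atTop (nhds v₀) := by
    rw [Groth.Agent.FanLib.isInducing_val.tendsto_nhds_iff]; exact hlim
  have hmk : ∀ j, Fan.P.mk ξ (u (φ j)) = x (e (φ j)) := fun j =>
    (Groth.Agent.FanLib.mk_scale _ _ _ _).trans (hw _)
  refine ⟨n, ξ, fun j => e (φ j), fun j => u (φ j), v₀, he.comp hφ, hmk, ?_, hlim'⟩
  by_contra hne
  let C : ℕ → Set (Fan.Orth n) := fun N =>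
    {v | ((sum' v)⁻¹ • v.1) ∈ insert a ((fun j => (u (φ j)).1) '' Set.Ici N)}
  have hsum : ∀ j, sum' (u (φ j)) = 1 := fun j => (hu (φ j)).2
  have hclosed : ∀ N, IsClosed (Fan.P.mk ξ '' C N) := fun N => by
    refine Groth.Agent.FanLib.isClosed_image_cell hF ξ ?_ ?_
    · refine IsClosed.preimage (f := fun v : Fan.Orth n => (sum' v)⁻¹ • v.1) ?_ ?_
      · exact ((continuous_finsetSum _ fun i _ => (continuous_apply i).comp Groth.Agent.FanLib.continuous_val).inv₀
          fun v => (hpos v).ne').smul Groth.Agent.FanLib.continuous_val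
      · have h1 : Filter.Tendsto (fun j => (u (φ (j + N))).1) Filter.atTop (nhds a) :=
          hlim.comp (Filter.tendsto_add_atTop_nat N)
        have h2 : ((fun j => (u (φ j)).1) '' Set.Ici N) = Set.range (fun j => (u (φ (j + N))).1) := by
          ext z
          constructor
          · rintro ⟨j, hj, rfl⟩; exact ⟨j - N, by simp only [Nat.sub_add_cancel (show N ≤ j from hj)]⟩
          · rintro ⟨j, rfl⟩; exact ⟨j + N, Nat.le_add_left N j, rfl⟩
        rw [h2]
        exact h1.isCompact_insert_range.isClosed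
    · intro v v' hv c hc h
      have : sum' v' = c * sum' v := by simp [sum', h, Finset.mul_sum]
      simp only [C, Set.mem_ofPred_eq] at hv ⊢
      rw [h, this, smul_smul, mul_inv, mul_comm c⁻¹, mul_assoc, inv_mul_cancel₀ hc.ne', mul_one]
      exact hv
  have hfreq : ∀ N, ∃ j ≥ N, x (e (φ j)) = x₀ := fun N => by
    obtain ⟨v, hv, hvx⟩ := (hclosed N).mem_of_tendsto (hx.comp (he.comp hφ).tendsto_atTop)
      (Filter.eventually_atTop.2 ⟨N, fun j hj => ⟨u (φ j), by
        simp only [C, Set.mem_ofPred_eq, hsum, inv_one, one_smul]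
        exact Set.mem_insert_of_mem _ ⟨j, hj, rfl⟩, hmk j⟩⟩)
    rcases hv with hv | ⟨j, hj, hv⟩
    · refine absurd ?_ hne
      rw [← hvx]
      exact (Groth.Agent.FanLib.mk_eq_of_smul ξ (w := v₀) (inv_pos.2 (hpos v)) hv.symm).symm
    · refine ⟨j, hj, ?_⟩
      rw [← hmk, ← hvx]
      exact (Groth.Agent.FanLib.mk_eq_of_smul ξ (v := v) (w := u (φ j)) (inv_pos.2 (hpos v)) hv).symm
  obtain ⟨g, hg, hgx⟩ := Filter.extraction_of_frequently_atTop (Filter.frequently_atTop.2 hfreq)
  exact hne (((hsingle x₀).preimage (Groth.Agent.FanLib.continuous_mk ξ)).mem_of_tendsto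
    (hlim'.comp hg.tendsto_atTop) (Filter.Eventually.of_forall fun i => (hmk (g i)).trans (hgx i)))

end Groth.Agent.S19369
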