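import Groth.Statements.S19370
import Groth.Agent.FanLib.Closed
import Mathlib.Topology.Order.LocalExtr

set_option autoImplicit false
universe u v
open CategoryTheory Opposite Instab
open Instab Instab.Fan

namespace Groth.Agent.S19370

/-- Let F be a formal fan, U ⊆ P F a convex subset, Γ a totally ordered set and Φ : U → Γ a
quasi-concave function that is lower semicontinuous in the sense that every sublevel set {Φ ≤ c} is
closed in U. Then every rational point of U at which Φ has a local maximum is a global maximum of Φ,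
and if Φ is strictly quasi-concave there is at most one such rational point. -/
theorem result (F : Fan.{u}) (U : Set (Fan.P F))
    (hU : Fan.IsConvex U) {Γ : Type v} [LinearOrder Γ] (Φ : U → Γ) (hΦ : Fan.IsQuasiConcaveOn U Φ)
    (hlsc : ∀ c : Γ, IsClosed {x : U | Φ x ≤ c}) :
    (∀ x : U, (x : Fan.P F).IsRational → IsLocalMax Φ x → ∀ y : U, Φ y ≤ Φ x) ∧
    (Fan.IsStrictQuasiConcaveOn U Φ → ∀ x y : U, (x : Fan.P F).IsRational → (y : Fan.P F).IsRational →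
      IsLocalMax Φ x → IsLocalMax Φ y → x = y) := by
  obtain ⟨-, ⟨S, hS⟩, hseg⟩ := hU
  have approach : ∀ x y : U, (x : Fan.P F).IsRational → (y : Fan.P F).IsRational → (x : Fan.P F) ≠ y →
      IsLocalMax Φ x → ∃ p : U, Φ p ≤ Φ x ∧
        ∃ (n : ICone) (ξ : F.obj (Opposite.op n)) (v₀ v₁ v₂ : Fan.Orth n)
          (h₀ : Fan.P.mk ξ v₀ ∈ U) (h₁ : Fan.P.mk ξ v₁ ∈ U) (h₂ : Fan.P.mk ξ v₂ ∈ U),
          (⟨_, h₀⟩ : U) = x ∧ (⟨_, h₁⟩ : U) = p ∧ (⟨_, h₂⟩ : U) = y ∧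
          (¬ ∃ c : ℝ, v₂.1 = c • v₀.1) ∧ (∃ a b : ℝ, 0 < a ∧ 0 < b ∧ v₁.1 = a • v₀.1 + b • v₂.1) := by
    intro x y hxr hyr hne hmax
    obtain ⟨τ, hτ, hτx, hτy⟩ := hseg x y x.2 y.2 hxr hyr hne
    let v : ℕ → Fan.Orth Fan.two := fun m =>
      ⟨fun i => (Fan.Orth.basis Fan.two (0 : Fin 2)).1 i + ((m : ℝ) + 1)⁻¹ * (Fan.Orth.basis Fan.two (1 : Fin 2)).1 i,
        fun i => add_nonneg ((Fan.Orth.basis Fan.two (0 : Fin 2)).2.1 i)
          (mul_nonneg (by positivity) ((Fan.Orth.basis Fan.two (1 : Fin 2)).2.1 i)),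
        fun h => by
          have h2 := congrFun h (0 : Fin 2)
          have e1 : (Fan.Orth.basis Fan.two (0 : Fin 2)).1 (0 : Fin 2) = 1 := (if_pos rfl : (if (0 : Fin 2) = 0 then (1 : ℝ) else 0) = 1)
          have e2 : (Fan.Orth.basis Fan.two (1 : Fin 2)).1 (0 : Fin 2) = 0 := (if_neg (by decide) : (if (0 : Fin 2) = 1 then (1 : ℝ) else 0) = 0)
          refine one_ne_zero (α := ℝ) (Eq.trans ?_ h2)
          show (1 : ℝ) = _ + _ * _
          exact ((congrArg₂ (fun a b => a + ((m : ℝ) + 1)⁻¹ * b) e1 e2).trans (by simp)).symm⟩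
    let p : ℕ → U := fun m => ⟨Fan.P.mk τ (v m), hτ ⟨v m, rfl⟩⟩
    have hv : Filter.Tendsto v Filter.atTop (nhds (Fan.Orth.basis Fan.two (0 : Fin 2))) := by
      rw [Groth.Agent.FanLib.isInducing_val.tendsto_nhds_iff, tendsto_pi_nhds]
      intro i
      have h1 : Filter.Tendsto (fun m : ℕ => ((m : ℝ) + 1)⁻¹) Filter.atTop (nhds 0) := by
        simpa [one_div] using tendsto_one_div_add_atTop_nhds_zero_nat (𝕜 := ℝ)
      simpa using (h1.mul_const ((Fan.Orth.basis Fan.two (1 : Fin 2)).1 i)).const_add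
        ((Fan.Orth.basis Fan.two (0 : Fin 2)).1 i)
    have hp : Filter.Tendsto p Filter.atTop (nhds x) := by
      refine tendsto_subtype_rng.2 ?_
      rw [← hτx]
      exact ((Groth.Agent.FanLib.continuous_mk τ).tendsto _).comp hv
    obtain ⟨m, hm⟩ := (hp.eventually hmax).exists
    refine ⟨p m, hm, Fan.two, τ, _, v m, _, hτ ⟨_, rfl⟩, (p m).2, hτ ⟨_, rfl⟩, Subtype.ext hτx, rfl,
      Subtype.ext hτy, ?_, 1, ((m : ℝ) + 1)⁻¹, one_pos, by positivity, ?_⟩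
    · rintro ⟨c, hc⟩
      have h2 := congrFun hc (1 : Fin 2)
      have e1 : (Fan.Orth.basis Fan.two (1 : Fin 2)).1 (1 : Fin 2) = 1 := (if_pos rfl : (if (1 : Fin 2) = 1 then (1 : ℝ) else 0) = 1)
      have e2 : (Fan.Orth.basis Fan.two (0 : Fin 2)).1 (1 : Fin 2) = 0 := (if_neg (by decide) : (if (1 : Fin 2) = 0 then (1 : ℝ) else 0) = 0)
      refine one_ne_zero (α := ℝ) (e1.symm.trans (h2.trans ?_))
      exact (congrArg (c * ·) e2).trans (mul_zero c)
    · funext i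
      exact congrArg (· + _) (one_mul _).symm
  have main : ∀ x : U, (x : Fan.P F).IsRational → IsLocalMax Φ x → ∀ y : U, (y : Fan.P F).IsRational →
      Φ y ≤ Φ x := by
    intro x hxr hmax y hyr
    by_cases hne : (x : Fan.P F) = y
    · rw [Subtype.ext hne]
    obtain ⟨p, hp, n, ξ, v₀, v₁, v₂, h₀, h₁, h₂, e₀, e₁, e₂, hind, hab⟩ := approach x y hxr hyr hne hmax
    obtain ⟨q1, q2⟩ := hΦ n ξ v₀ v₁ v₂ h₀ h₁ h₂ hind hab
    rw [e₀, e₁, e₂] at q1 q2
    by_contra hlt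
    rw [not_le] at hlt
    rw [min_eq_left hlt.le] at q1 q2
    exact hlt.ne (q2 (le_antisymm hp q1))
  refine ⟨fun x hxr hmax y => ?_, fun hs x y hxr hyr hx hy => ?_⟩
  · obtain ⟨y, hy⟩ := y
    obtain ⟨z, rfl⟩ : y ∈ Set.range (Fan.P.map S.ι) := hS ▸ hy
    obtain ⟨k, σ, w, rfl⟩ := Groth.Agent.FanLib.exists_rep z
    have hmem : ∀ v, Fan.P.mk σ.1 v ∈ U := fun v => by rw [hS]; exact ⟨Fan.P.mk σ v, rfl⟩
    exact Groth.Agent.FanLib.mem_of_intOrth
      (C := {v | Φ ⟨_, hmem v⟩ ≤ Φ x})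
      ((hlsc (Φ x)).preimage ((Groth.Agent.FanLib.continuous_mk σ.1).subtype_mk hmem))
      (fun v hv c hc => by
        have : (⟨_, hmem (Groth.Agent.FanLib.scale c hc v)⟩ : U) = ⟨_, hmem v⟩ :=
          Subtype.ext (Groth.Agent.FanLib.mk_scale _ c hc v)
        rw [Set.mem_ofPred_eq, this]; exact hv)
      (fun a h0 h1 => main x hxr hmax ⟨_, hmem _⟩ (Groth.Agent.FanLib.isRational_intOrth _ a h0 h1)) w
  · by_contra hne
    obtain ⟨p, hp, n, ξ, v₀, v₁, v₂, h₀, h₁, h₂, e₀, e₁, e₂, hind, hab⟩ :=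
      approach x y hxr hyr (fun h => hne (Subtype.ext h)) hx
    have q := hs n ξ v₀ v₁ v₂ h₀ h₁ h₂ hind hab
    rw [e₀, e₁, e₂, min_eq_left (main y hyr hy x hxr)] at q
    exact absurd hp (not_le.2 q)

end Groth.Agent.S19370
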