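import Groth.Statements.S19371
import Groth.Agent.FanLib.Closed
import Mathlib.Topology.Order.LocalExtr
import Mathlib.Topology.Compactness.Compact
import Mathlib.Topology.Separation.Regular
import Mathlib.Topology.Order.IntermediateValue

set_option autoImplicit false
universe u v
open CategoryTheory Opposite Instab
open Instab Instab.Fan

namespace Groth.Agent.S19371

/-- Let F be a quasi-separated formal fan whose projective realization P F is a Hausdorff space, U ⊆ P F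
a compact convex subset, Γ a totally ordered set with the order topology, and Φ : U → Γ continuous
and strictly quasi-concave. Then any two local maxima of Φ coincide, so the global maximum of Φ
(which exists when U is nonempty, by the extreme value property of upper semicontinuous functions on
compact sets) is its unique local maximum. (The published lemma assumes only that F is
quasi-separated and derives the Hausdorff property of P F from that; this derivation does not hold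
in general, and the Hausdorff property, which the published proof uses, is assumed here.) -/
theorem result (F : Fan.{u})
    (hF : F.IsQuasiSeparated) (hT2 : T2Space (Fan.P F)) (U : Set (Fan.P F)) (hUc : IsCompact U)
    (hU : Fan.IsConvex U) {Γ : Type v} [LinearOrder Γ] [TopologicalSpace Γ] [OrderTopology Γ]
    (Φ : U → Γ) (hΦc : Continuous Φ) (hΦ : Fan.IsStrictQuasiConcaveOn U Φ) (x y : U)
    (hx : IsLocalMax Φ x) (hy : IsLocalMax Φ y) : x = y := by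
  classical
  haveI := hT2
  haveI : CompactSpace U := isCompact_iff_compactSpace.1 hUc
  obtain ⟨hloc, ⟨S, hS⟩, hseg⟩ := hU
  wlog hle : Φ x ≤ Φ y generalizing x y with H
  · exact (H y x hy hx (le_of_not_ge hle)).symm
  by_contra hne
  have hA : ∀ (n : ICone) (ξ : F.obj (Opposite.op n)) (v₀ v₁ : Fan.Orth n) (h₀ : Fan.P.mk ξ v₀ ∈ U)
      (h₁ : Fan.P.mk ξ v₁ ∈ U), (⟨_, h₀⟩ : U) = x → Φ x ≤ Φ ⟨_, h₁⟩ → (⟨_, h₁⟩ : U) = x := by
    intro n ξ v₀ v₁ h₀ h₁ e₀ hΦ1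
    by_contra hne1
    have hind : ¬ ∃ c : ℝ, v₁.1 = c • v₀.1 := by
      rintro ⟨c, hc⟩
      obtain ⟨i, hi⟩ := Function.ne_iff.1 v₁.2.2
      have h2 : 0 < c * v₀.1 i := by
        have h3 := congrFun hc i
        simp only [Pi.smul_apply, smul_eq_mul] at h3
        rw [← h3]
        exact lt_of_le_of_ne (v₁.2.1 i) (Ne.symm hi)
      refine hne1 (Subtype.ext ?_)
      show Fan.P.mk ξ v₁ = _
      rw [← e₀, ← Groth.Agent.FanLib.mk_eq_of_smul ξ (pos_of_mul_pos_left h2 (v₀.2.1 i)) hc]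
    let w : ℕ → Fan.Orth n := fun m =>
      ⟨(1 : ℝ) • v₀.1 + ((m : ℝ) + 1)⁻¹ • v₁.1,
        fun i => add_nonneg (mul_nonneg zero_le_one (v₀.2.1 i)) (mul_nonneg (by positivity) (v₁.2.1 i)),
        fun h => by
          obtain ⟨i, hi⟩ := Function.ne_iff.1 v₀.2.2
          exact (add_pos_of_pos_of_nonneg (mul_pos one_pos (lt_of_le_of_ne (v₀.2.1 i) (Ne.symm hi)))
            (mul_nonneg (by positivity) (v₁.2.1 i))).ne' (congrFun h i)⟩
    have hwU : ∀ m, Fan.P.mk ξ (w m) ∈ U := fun m =>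
      hloc n ξ v₀ (w m) v₁ h₀ h₁ ⟨1, ((m : ℝ) + 1)⁻¹, one_pos, by positivity, rfl⟩
    have hw : Filter.Tendsto w Filter.atTop (nhds v₀) := by
      rw [Groth.Agent.FanLib.isInducing_val.tendsto_nhds_iff]
      have h1 : Filter.Tendsto (fun m : ℕ => ((m : ℝ) + 1)⁻¹) Filter.atTop (nhds 0) := by
        simpa [one_div] using tendsto_one_div_add_atTop_nhds_zero_nat (𝕜 := ℝ)
      simpa [Function.comp_def, w] using (h1.smul_const v₁.1).const_add ((1 : ℝ) • v₀.1)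
    have hp : Filter.Tendsto (fun m => (⟨_, hwU m⟩ : U)) Filter.atTop (nhds x) := by
      rw [← e₀]
      exact tendsto_subtype_rng.2 (((Groth.Agent.FanLib.continuous_mk ξ).tendsto _).comp hw)
    obtain ⟨m, hm⟩ := (hp.eventually hx).exists
    have q := hΦ n ξ v₀ (w m) v₁ h₀ (hwU m) h₁ hind ⟨1, ((m : ℝ) + 1)⁻¹, one_pos, by positivity, rfl⟩
    rw [e₀, min_eq_left hΦ1] at q
    exact absurd hm (not_le.2 q)
  let T : Set (Fan.P F) := Subtype.val '' {p : U | Φ x ≤ Φ p ∧ p ≠ x}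
  have hT : IsClosed T := Groth.Agent.FanLib.isClosed_of_cells fun n ξ => by
    by_cases hxc : (x : Fan.P F) ∈ Fan.P.cell ξ
    · convert isClosed_empty
      refine Set.eq_empty_iff_forall_notMem.2 ?_
      rintro _ ⟨⟨p, ⟨hp1, hp2⟩, rfl⟩, v₁, hv₁⟩
      obtain ⟨v₀, hv₀⟩ := hxc
      have h₁ : Fan.P.mk ξ v₁ ∈ U := by rw [hv₁]; exact p.2
      have h₀ : Fan.P.mk ξ v₀ ∈ U := by rw [hv₀]; exact x.2
      have e₁ : (⟨_, h₁⟩ : U) = p := Subtype.ext hv₁
      have := hA n ξ v₀ v₁ h₀ h₁ (Subtype.ext hv₀) (by rwa [e₁])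
      exact hp2 (e₁ ▸ this)
    · have h2 : T ∩ Fan.P.cell ξ = Subtype.val '' {p : U | Φ x ≤ Φ p} ∩ Fan.P.cell ξ := by
        ext z
        constructor
        · rintro ⟨⟨p, ⟨hp1, -⟩, rfl⟩, hz⟩; exact ⟨⟨p, hp1, rfl⟩, hz⟩
        · rintro ⟨⟨p, hp1, rfl⟩, hz⟩; exact ⟨⟨p, ⟨hp1, fun h => hxc (h ▸ hz)⟩, rfl⟩, hz⟩
      rw [h2]
      exact (hUc.isClosed.isClosedEmbedding_subtypeVal.isClosedMap _ (isClosed_le continuous_const hΦc)).inter
        (Groth.Agent.FanLib.isClosed_cell hF ξ)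
  have hxT : (x : Fan.P F) ∉ T := by
    rintro ⟨p, ⟨-, hp⟩, hpx⟩; exact hp (Subtype.ext hpx)
  have hyT : (y : Fan.P F) ∈ T := ⟨y, ⟨hle, fun h => hne h.symm⟩, rfl⟩
  obtain ⟨C, hCx, hCc, hCO⟩ := exists_mem_nhds_isClosed_subset
    ((hT.isOpen_compl.preimage continuous_subtype_val).mem_nhds (show x ∈ Subtype.val ⁻¹' Tᶜ from hxT))
  have hK : ∀ p ∈ C \ interior C, Φ p < Φ x := by
    rintro p ⟨hp, hp'⟩
    by_contra hlt
    exact hCO hp ⟨p, ⟨not_lt.1 hlt, fun h => hp' (h ▸ mem_interior_iff_mem_nhds.2 hCx)⟩, rfl⟩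
  obtain ⟨O₂, hO₂, hxO, hyO, hO₂'⟩ : ∃ O₂ : Set U, IsOpen O₂ ∧ x ∈ O₂ ∧ y ∈ O₂ ∧
      ∀ q ∈ O₂, ∀ p ∈ C \ interior C, Φ p < Φ q := by
    have hKc : IsCompact (C \ interior C) := (hCc.sdiff isOpen_interior).isCompact
    rcases (C \ interior C).eq_empty_or_nonempty with h | h
    · exact ⟨Set.univ, isOpen_univ, trivial, trivial, fun q _ p hp => by simp [h] at hp⟩
    · obtain ⟨p₀, hp₀, hmax⟩ := hKc.exists_isMaxOn h hΦc.continuousOn
      exact ⟨{q | Φ p₀ < Φ q}, isOpen_lt continuous_const hΦc, hK p₀ hp₀, (hK p₀ hp₀).trans_le hle,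
        fun q hq p hp => (hmax hp).trans_lt hq⟩
  have hdense : ∀ O : Set U, IsOpen O → ∀ z ∈ O, ∃ a ∈ O, (a : Fan.P F).IsRational := by
    intro O hO z hz
    by_contra H
    obtain ⟨z, hzU⟩ := z
    obtain ⟨z', rfl⟩ : z ∈ Set.range (Fan.P.map S.ι) := hS ▸ hzU
    obtain ⟨k, σ, w, rfl⟩ := Groth.Agent.FanLib.exists_rep z'
    have hmem : ∀ v, Fan.P.mk σ.1 v ∈ U := fun v => by rw [hS]; exact ⟨Fan.P.mk σ v, rfl⟩
    exact Groth.Agent.FanLib.mem_of_intOrth (C := {v | (⟨_, hmem v⟩ : U) ∈ Oᶜ})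
      (hO.isClosed_compl.preimage ((Groth.Agent.FanLib.continuous_mk σ.1).subtype_mk hmem))
      (fun v hv c hc => by
        have : (⟨_, hmem (Groth.Agent.FanLib.scale c hc v)⟩ : U) = ⟨_, hmem v⟩ :=
          Subtype.ext (Groth.Agent.FanLib.mk_scale _ c hc v)
        rw [Set.mem_ofPred_eq, this]; exact hv)
      (fun a h0 h1 ha => H ⟨_, ha, Groth.Agent.FanLib.isRational_intOrth σ.1 a h0 h1⟩) w hz
  obtain ⟨a, ⟨haC, haO⟩, har⟩ := hdense _ (isOpen_interior.inter hO₂) x ⟨mem_interior_iff_mem_nhds.2 hCx, hxO⟩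
  obtain ⟨b, ⟨hbC, hbO⟩, hbr⟩ := hdense _ (hCc.isOpen_compl.inter hO₂) y ⟨fun h => hCO h hyT, hyO⟩
  have hab : (a : Fan.P F) ≠ b := fun h => hbC (Subtype.ext h ▸ interior_subset haC)
  obtain ⟨τ, hτ, hτa, hτb⟩ := hseg a b a.2 b.2 har hbr hab
  let v : Set.Icc (0 : ℝ) 1 → Fan.Orth Fan.two := fun t =>
    ⟨(1 - (t : ℝ)) • (Fan.Orth.basis Fan.two (0 : Fin 2)).1 + (t : ℝ) • (Fan.Orth.basis Fan.two (1 : Fin 2)).1,
      fun i => add_nonneg (mul_nonneg (sub_nonneg.2 t.2.2) ((Fan.Orth.basis Fan.two (0 : Fin 2)).2.1 i))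
        (mul_nonneg t.2.1 ((Fan.Orth.basis Fan.two (1 : Fin 2)).2.1 i)),
      fun h => by
        have h0 : (1 - (t : ℝ)) * (if (0 : Fin 2) = 0 then 1 else 0) + (t : ℝ) * (if (0 : Fin 2) = 1 then 1 else 0) = 0 :=
          congrFun h (0 : Fin 2)
        have h1 : (1 - (t : ℝ)) * (if (1 : Fin 2) = 0 then 1 else 0) + (t : ℝ) * (if (1 : Fin 2) = 1 then 1 else 0) = 0 :=
          congrFun h (1 : Fin 2)
        simp [-Set.Icc.coe_eq_zero] at h0 h1
        linarith⟩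
  have hvc : Continuous v := Groth.Agent.FanLib.isInducing_val.continuous_iff.2
    (((continuous_const.sub continuous_subtype_val).smul continuous_const).add
      (continuous_subtype_val.smul continuous_const))
  let γ : Set.Icc (0 : ℝ) 1 → U := fun t => ⟨Fan.P.mk τ (v t), hτ ⟨v t, rfl⟩⟩
  have hγ : Continuous γ := ((Groth.Agent.FanLib.continuous_mk τ).comp hvc).subtype_mk _
  have seg : ∀ (e0 e1 : Fin Fan.two.dim → ℝ),
      (1 - (0 : ℝ)) • e0 + (0 : ℝ) • e1 = e0 ∧ (1 - (1 : ℝ)) • e0 + (1 : ℝ) • e1 = e1 :=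
    fun e0 e1 => ⟨funext fun i => (show (1 - (0 : ℝ)) * e0 i + (0 : ℝ) * e1 i = e0 i by ring),
      funext fun i => (show (1 - (1 : ℝ)) * e0 i + (1 : ℝ) * e1 i = e1 i by ring)⟩
  have hγ0 : γ ⟨0, le_rfl, zero_le_one⟩ = a := Subtype.ext <| by
    refine Eq.trans ?_ hτa
    exact congrArg (Fan.P.mk τ) (Subtype.ext (seg _ _).1)
  have hγ1 : γ ⟨1, zero_le_one, le_rfl⟩ = b := Subtype.ext <| by
    refine Eq.trans ?_ hτb
    exact congrArg (Fan.P.mk τ) (Subtype.ext (seg _ _).2)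
  obtain ⟨t, ht⟩ : ∃ t, γ t ∈ C \ interior C := by
    by_contra H
    have heq : γ ⁻¹' C = γ ⁻¹' interior C := Set.ext fun t =>
      ⟨fun h => by_contra fun h' => H ⟨t, h, h'⟩, fun h => (interior_subset h : γ t ∈ C)⟩
    have hclo : IsClopen (γ ⁻¹' C) := ⟨hCc.preimage hγ, heq ▸ isOpen_interior.preimage hγ⟩
    haveI : PreconnectedSpace (Set.Icc (0 : ℝ) 1) := Subtype.preconnectedSpace isPreconnected_Icc
    have huniv := hclo.eq_univ ⟨_, show γ ⟨0, le_rfl, zero_le_one⟩ ∈ C by rw [hγ0]; exact interior_subset haC⟩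
    have : (⟨1, zero_le_one, le_rfl⟩ : Set.Icc (0 : ℝ) 1) ∈ γ ⁻¹' C := huniv ▸ Set.mem_univ _
    exact hbC (hγ1 ▸ this)
  have ht0 : (0 : ℝ) < t := lt_of_le_of_ne t.2.1 fun h => by
    have : t = ⟨0, le_rfl, zero_le_one⟩ := Subtype.ext h.symm
    exact ht.2 (this ▸ hγ0 ▸ haC)
  have ht1 : (t : ℝ) < 1 := lt_of_le_of_ne t.2.2 fun h => by
    have : t = ⟨1, zero_le_one, le_rfl⟩ := Subtype.ext h
    exact hbC (hγ1 ▸ this ▸ ht.1)
  have hind : ¬ ∃ c : ℝ, (Fan.Orth.basis Fan.two (1 : Fin 2)).1 = c • (Fan.Orth.basis Fan.two (0 : Fin 2)).1 := by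
    rintro ⟨c, hc⟩
    have h1 : (if (1 : Fin 2) = 1 then (1 : ℝ) else 0) = c * (if (1 : Fin 2) = 0 then (1 : ℝ) else 0) :=
      congrFun hc (1 : Fin 2)
    simp at h1
  have q := hΦ Fan.two τ _ (v t) _ (hτ ⟨Fan.Orth.basis Fan.two (0 : Fin 2), rfl⟩) (γ t).2
    (hτ ⟨Fan.Orth.basis Fan.two (1 : Fin 2), rfl⟩) hind ⟨1 - t, t, sub_pos.2 ht1, ht0, rfl⟩
  rw [show (⟨_, hτ ⟨Fan.Orth.basis Fan.two (0 : Fin 2), rfl⟩⟩ : U) = a from Subtype.ext hτa,
    show (⟨_, hτ ⟨Fan.Orth.basis Fan.two (1 : Fin 2), rfl⟩⟩ : U) = b from Subtype.ext hτb] at q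
  exact absurd (lt_min (hO₂' a haO _ ht) (hO₂' b hbO _ ht)) (not_lt.2 q.le)

end Groth.Agent.S19371
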