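import Groth.Statements.S19374
import Groth.Agent.FanLib.Basic
import Mathlib.Analysis.Convex.Basic

set_option autoImplicit false
universe u
open CategoryTheory Opposite Instab
open Instab Instab.Fan

namespace Groth.Agent.S19374

/-- Let F be a formal fan and U ⊆ P F. Then U is locally convex in the simplex-wise sense — for every
rational simplex, a ray lying strictly between two rays that map into U also maps into U — if and
only if, for every n-cone ξ of F, the set of nonzero nonnegative vectors v of ℝ^n whose point of the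
rational simplex of ξ lies in U is a convex subset of ℝ^n (convexity of the preimage of U in each
punctured cone of the affine realization). -/
theorem result (F : Fan.{u}) (U : Set (Fan.P F)) :
    Fan.IsLocallyConvex U ↔
      ∀ (n : ICone) (ξ : F.obj (op n)),
        Convex ℝ {v : Fin n.dim → ℝ | ∃ h : (∀ i, 0 ≤ v i) ∧ v ≠ 0, Fan.P.mk ξ (⟨v, h⟩ : Fan.Orth n) ∈ U} := by
  constructor
  · intro hU n ξ
    rw [convex_iff_forall_pos]
    rintro x ⟨hx, hxU⟩ y ⟨hy, hyU⟩ a b ha hb -
    have h1 : (∀ i, 0 ≤ (a • x + b • y) i) ∧ a • x + b • y ≠ 0 := by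
      refine ⟨fun i => add_nonneg (mul_nonneg ha.le (hx.1 i)) (mul_nonneg hb.le (hy.1 i)), fun h => ?_⟩
      obtain ⟨i, hi⟩ := Function.ne_iff.1 hx.2
      exact (add_pos_of_pos_of_nonneg (mul_pos ha (lt_of_le_of_ne (hx.1 i) (Ne.symm hi)))
        (mul_nonneg hb.le (hy.1 i))).ne' (congrFun h i)
    exact ⟨h1, hU n ξ ⟨x, hx⟩ ⟨_, h1⟩ ⟨y, hy⟩ hxU hyU ⟨a, b, ha, hb, rfl⟩⟩
  · rintro hU n ξ v₀ v₁ v₂ h₀ h₂ ⟨a, b, ha, hb, h⟩
    obtain ⟨h3, h4⟩ := convex_iff_forall_pos.1 (hU n ξ) ⟨v₀.2, h₀⟩ ⟨v₂.2, h₂⟩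
      (div_pos ha (add_pos ha hb)) (div_pos hb (add_pos ha hb))
      (by rw [← add_div, div_self (add_pos ha hb).ne'])
    rw [← Groth.Agent.FanLib.mk_eq_of_smul ξ (v := ⟨_, h3⟩) (w := v₁) (c := a + b) (add_pos ha hb) (by
      rw [h, smul_add, smul_smul, smul_smul, mul_div_cancel₀ _ (add_pos ha hb).ne',
        mul_div_cancel₀ _ (add_pos ha hb).ne'])]
    exact h4

end Groth.Agent.S19374
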