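import Groth.Statements.S19375
import Mathlib
import Groth.Agent.RegLocus.NormalConn

set_option autoImplicit false
universe u
open EGA4

namespace Groth.Agent.S19375


/-- Idempotents of a ring and of a quotient by an ideal in the radical. -/
theorem idem_of_quot (R : Type u) [CommRing R] (I : Ideal R) (hI : I ≤ (⊥ : Ideal R).jacobson) (e : R)
    (he : IsIdempotentElem e) (h : e ∈ I) : e = 0 := by
  have hu : IsUnit (e * (-1) + 1) := Ideal.mem_jacobson_bot.1 (hI h) (-1)
  refine hu.mul_right_eq_zero.1 ?_
  rw [add_mul, one_mul, mul_neg_one, neg_mul, he.eq, neg_add_cancel]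


/-- Let A be a Noetherian ring, J a proper ideal of A, Â the J-adic completion of A and A_T the
localization of A at the multiplicative set T = 1 + J (the elements congruent to 1 modulo J). Assume
that the canonical map A → Â is a normal homomorphism (flat, with geometrically normal fibres), as
happens when A is excellent. Then Â is an integrally closed domain if and only if A_T is an
integrally closed domain and the spectrum of A/J is connected. (The published statement asserts the
equivalence of the first two conditions alone; for A = ℤ and J = 6ℤ the localization A_T is an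
integrally closed domain while Â ≅ ℤ_2 × ℤ_3 is not a domain, and the published proof tacitly uses
that Spec Â, whose connected components correspond to those of Spec(A/J), is connected. The case of
the henselization of the pair and of the weak completion is not stated here.) -/
theorem result
    (A : Type u) [CommRing A] [IsNoetherianRing A] (J : Ideal A) (hJ : J ≠ ⊤)
    (hf : EGA4.IsNormalHom A (AdicCompletion J A))
    (T : Submonoid A) (hT : T = MonoidHom.mker (Ideal.Quotient.mk J)) :
    (IsDomain (AdicCompletion J A) ∧ IsIntegrallyClosed (AdicCompletion J A)) ↔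
      ((IsDomain (Localization T) ∧ IsIntegrallyClosed (Localization T)) ∧
        ConnectedSpace (PrimeSpectrum (A ⧸ J))) := by
  have hiff := RegLocus.isNormalRing_oneAdd_iff A J hf T hT
  obtain ⟨_, _, hff⟩ := RegLocus.exists_oneAdd_algebra A J T hT
  haveI := hff
  let Ah := AdicCompletion J A
  haveI : IsNoetherianRing Ah := AdicNoeth.isNoetherianRing_adicCompletion _
  haveI : Nontrivial (A ⧸ J) := Ideal.Quotient.nontrivial_iff.2 hJ
  haveI : IsAdicComplete J Ah := AdicCompletion.isAdicComplete (IsNoetherian.noetherian J)
  haveI : IsAdicComplete (J.map (algebraMap A Ah)) Ah := (IsAdicComplete.map_algebraMap_iff J Ah).2 inferInstance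
  let π : Ah →ₐ[A] A ⧸ J := AdicCompletion.evalOneₐ J
  have hsurj : Function.Surjective π := fun x => by
    obtain ⟨a, rfl⟩ := Ideal.Quotient.mk_surjective x
    exact ⟨algebraMap A Ah a, π.commutes a⟩
  have hker : RingHom.ker π ≤ (⊥ : Ideal Ah).jacobson := by
    refine le_trans (le_of_eq ?_) (IsAdicComplete.le_jacobson_bot (J.map (algebraMap A Ah)))
    exact AdicCompletion.ker_evalOneₐ_eq_map J (IsNoetherian.noetherian J)
  haveI : Nontrivial Ah := π.toRingHom.domain_nontrivial
  have hidem : (∀ e : Ah, IsIdempotentElem e → e = 0 ∨ e = 1) ↔ ∀ e : A ⧸ J, IsIdempotentElem e → e = 0 ∨ e = 1 := by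
    constructor
    · intro h e he
      haveI : HenselianRing Ah (J.map (algebraMap A Ah)) := inferInstance
      obtain ⟨a, rfl⟩ := hsurj e
      have hmem : ∀ x : Ah, x ∈ J.map (algebraMap A Ah) ↔ π x = 0 := fun x => by
        rw [← AdicCompletion.ker_evalOneₐ_eq_map J (IsNoetherian.noetherian J)]
        exact Iff.rfl
      obtain ⟨e', he', hclose⟩ := HenselianRing.is_henselian (I := J.map (algebraMap A Ah))
        (Polynomial.X ^ 2 - Polynomial.X) (Polynomial.monic_X_pow_sub (by rw [Polynomial.degree_X]; norm_num)) a
        (by rw [hmem]; simp [Polynomial.eval_sub, pow_two, he.eq])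
        (by
          refine IsUnit.of_mul_eq_one (Ideal.Quotient.mk _ (2 * a - 1)) ?_
          rw [← map_mul, ← map_one (Ideal.Quotient.mk (J.map (algebraMap A Ah))), Ideal.Quotient.eq, hmem]
          simp only [Polynomial.derivative_sub, Polynomial.derivative_X_pow, Polynomial.derivative_X, map_sub,
            map_mul, Polynomial.eval_sub, Polynomial.eval_mul, Polynomial.eval_C, Polynomial.eval_pow,
            Polynomial.eval_X, Polynomial.eval_one, map_natCast, map_one, pow_one, Nat.add_one_sub_one,
            map_ofNat, Nat.cast_ofNat, Polynomial.eval_ofNat]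
          linear_combination (4 : A ⧸ J) * he.eq)
      have he'' : IsIdempotentElem e' := by
        have := he'
        simp [Polynomial.IsRoot, sub_eq_zero, pow_two] at this
        exact this
      have heq : π e' = π a := sub_eq_zero.1 (by rw [← map_sub]; exact (hmem _).1 hclose)
      rw [← heq]
      exact (h e' he'').imp (fun h => by simp [h]) (fun h => by simp [h])
    · intro h e he
      rcases h (π e) (he.map π) with h0 | h1
      · exact Or.inl (idem_of_quot Ah _ hker e he h0)
      · refine Or.inr (sub_eq_zero.1 (idem_of_quot Ah _ hker (1 - e) he.one_sub ?_)).symm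
        rw [RingHom.mem_ker, map_sub, map_one, h1, sub_self]
  constructor
  · rintro ⟨hd, hic⟩
    have hn : EGA4.IsNormalRing Ah := fun p _ =>
      ⟨inferInstance, isIntegrallyClosed_of_isLocalization _ p.primeCompl p.primeCompl_le_nonZeroDivisors⟩
    haveI : IsNoetherianRing (Localization T) := IsLocalization.isNoetherianRing T _ inferInstance
    haveI : IsDomain (Localization T) := Function.Injective.isDomain (algebraMap (Localization T) Ah) (FaithfulSMul.algebraMap_injective _ _)
    refine ⟨⟨inferInstance, IsIntegrallyClosed.of_localization_maximal fun p _ hp => (hiff.2 hn p).2⟩, ?_⟩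
    rw [RegLocus.connectedSpace_iff_idempotent]
    exact ⟨inferInstance, hidem.1 fun e he => IsIdempotentElem.iff_eq_zero_or_one.1 he⟩
  · rintro ⟨⟨hd, hic⟩, hc⟩
    have hn : EGA4.IsNormalRing (Localization T) := fun p _ =>
      ⟨inferInstance, isIntegrallyClosed_of_isLocalization _ p.primeCompl p.primeCompl_le_nonZeroDivisors⟩
    exact RegLocus.isDomain_of_normal Ah (hiff.1 hn) (hidem.2 ((RegLocus.connectedSpace_iff_idempotent _).1 hc).2)

end Groth.Agent.S19375
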