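import Groth.Statements.S19381
import Mathlib
import Groth.Agent.FlatLocus.Scheme
import Groth.Agent.S0386
-- import your own Groth.Agent.* helpers here

set_option autoImplicit false
universe u
open CategoryTheory CategoryTheory.Limits AlgebraicGeometry
open FlatMor

open AlgebraicGeometry CategoryTheory Limits IsLocalRing

namespace Groth.Agent.S19381

theorem locallyOfFinitePresentation_of_noetherian {X Y : Scheme.{u}} (f : X ⟶ Y) [LocallyOfFiniteType f]
    [IsLocallyNoetherian Y] : LocallyOfFinitePresentation f := by
  rw [HasRingHomProperty.iff_appLE (P := @LocallyOfFinitePresentation)]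
  intro U V e
  haveI := IsLocallyNoetherian.component_noetherian (X := Y) U
  have := f.finiteType_appLE U.2 V.2 e
  exact RingHom.FinitePresentation.of_finiteType.mp this

theorem flat_of_isField {K B : Type u} [CommRing K] [CommRing B] (hK : IsField K) (f : K →+* B) : f.Flat := by
  letI := f.toAlgebra
  rw [← RingHom.algebraMap_toAlgebra f, RingHom.flat_algebraMap_iff]
  letI := hK.toField
  exact @Module.Flat.of_free K B _ _ _ (Module.Free.of_divisionRing K B)

theorem isClosedMap_of_proper {X Y : Scheme.{u}} (h : X ⟶ Y) [IsProper h] (Z : Set X) (hZ : IsClosed Z) :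
    IsClosed (h '' Z) :=
  h.isClosedMap Z hZ

/-- every point of the completion specialises to a point over the special fibre -/
theorem exists_specializes {A : Type u} [CommRing A] [IsNoetherianRing A] (I : Ideal A)
    (a' : PrimeSpectrum (AdicCompletion I A)) :
    ∃ P : PrimeSpectrum A, I ≤ P.asIdeal ∧ PrimeSpectrum.comap (algebraMap A (AdicCompletion I A)) a' ⤳ P := by
  haveI := AdicCompletion.isAdicComplete_self I I.fg_of_isNoetherianRing
  obtain ⟨M, hM, hle⟩ := Ideal.exists_le_maximal a'.asIdeal a'.isPrime.ne_top
  haveI := hM.isPrime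
  refine ⟨PrimeSpectrum.comap (algebraMap A (AdicCompletion I A)) ⟨M, inferInstance⟩, ?_, ?_⟩
  · have h1 : I.map (algebraMap A (AdicCompletion I A)) ≤ (⊥ : Ideal (AdicCompletion I A)).jacobson :=
      IsAdicComplete.le_jacobson_bot _
    exact Ideal.map_le_iff_le_comap.1 (h1.trans (sInf_le ⟨bot_le, hM⟩))
  · exact (PrimeSpectrum.le_iff_specializes _ _).1 (Ideal.comap_mono hle)

/-- points over the special fibre come from the completion -/
theorem exists_point_completion {A : Type u} [CommRing A] [IsNoetherianRing A] (I : Ideal A)
    (P : PrimeSpectrum A) (hP : I ≤ P.asIdeal) :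
    ∃ a' : PrimeSpectrum (AdicCompletion I A), PrimeSpectrum.comap (algebraMap A (AdicCompletion I A)) a' = P := by
  let ev := AdicCompletion.evalₐ I 1
  let π : AdicCompletion I A →+* A ⧸ P.asIdeal :=
    (Ideal.Quotient.factor (S := I ^ 1) (T := P.asIdeal) (by rw [pow_one]; exact hP)).comp ev.toRingHom
  haveI : (⊥ : Ideal (A ⧸ P.asIdeal)).IsPrime := Ideal.isPrime_bot
  refine ⟨⟨RingHom.ker π, RingHom.ker_isPrime π⟩, PrimeSpectrum.ext ?_⟩
  ext a
  show π (algebraMap A _ a) = 0 ↔ _
  have : π (algebraMap A _ a) = Ideal.Quotient.mk P.asIdeal a := by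
    simp only [π, RingHom.comp_apply, AlgHom.toRingHom_eq_coe, RingHom.coe_coe]
    rw [AlgHom.commutes, Ideal.Quotient.algebraMap_eq, Ideal.Quotient.factor_mk]
  rw [this, Ideal.Quotient.eq_zero_iff_mem]

end Groth.Agent.S19381

namespace Groth.Agent.S19381

/-- Over a discrete valuation ring, let V be a henselian discrete valuation ring with maximal ideal 𝔪, A
a smooth V-algebra, Â the 𝔪A-adic completion of A, and h : X → Spec A a proper morphism with
reduction h₀ : X ×_{Spec A} Spec(A/𝔪A) → Spec(A/𝔪A). Then X is flat over V and h₀ is flat if and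
only if the base change of h to Spec Â is flat. (The published statement is for an excellent normal
ring V with a henselian pair (V, V/I) and the projective lift h built from lifted equations, and
also lists the base changes to the weak completion and to the henselization of (A, 𝔪A); it rests on
a lemma asserting 'B flat over V iff B̂ flat over V' for V-algebras B of finite type, which fails
when V has dimension ≥ 2 (V = ℤ_p[[x]], I = (p), B = V[y]/(x, py − 1) ≅ ℚ_p has B̂ = 0), so the
statement is given over a discrete valuation ring and for an arbitrary proper h.) -/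
theorem result
    (V : Type u) [CommRing V] [IsDomain V] [IsDiscreteValuationRing V] [HenselianLocalRing V]
    (A : Type u) [CommRing A] [Algebra V A] [Algebra.Smooth V A]
    (X : Scheme.{u}) (h : X ⟶ Spec (.of A)) [IsProper h] :
    (Flat (h ≫ Spec.map (CommRingCat.ofHom (algebraMap V A))) ∧
        Flat (pullback.snd h (Spec.map (CommRingCat.ofHom
          (Ideal.Quotient.mk ((IsLocalRing.maximalIdeal V).map (algebraMap V A))))))) ↔
      Flat (pullback.snd h (Spec.map (CommRingCat.ofHom
          (algebraMap A (AdicCompletion ((IsLocalRing.maximalIdeal V).map (algebraMap V A)) A))))) := by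
  haveI : IsNoetherianRing A := Algebra.FiniteType.isNoetherianRing V A
  let I := (IsLocalRing.maximalIdeal V).map (algebraMap V A)
  let g : Spec (.of A) ⟶ Spec (.of V) := Spec.map (CommRingCat.ofHom (algebraMap V A))
  let j : Spec (.of (AdicCompletion I A)) ⟶ Spec (.of A) :=
    Spec.map (CommRingCat.ofHom (algebraMap A (AdicCompletion I A)))
  let c : Spec (.of (A ⧸ I)) ⟶ Spec (.of A) := Spec.map (CommRingCat.ofHom (Ideal.Quotient.mk I))
  change Flat (h ≫ g) ∧ Flat (pullback.snd h c) ↔ Flat (pullback.snd h j)
  haveI hj : Flat j := by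
    rw [Flat.SpecMap_iff, CommRingCat.hom_ofHom, RingHom.flat_algebraMap_iff]
    infer_instance
  haveI hg : Flat g := by
    rw [Flat.SpecMap_iff, CommRingCat.hom_ofHom, RingHom.flat_algebraMap_iff]
    infer_instance
  haveI : LocallyOfFiniteType g := by
    rw [HasRingHomProperty.Spec_iff (P := @LocallyOfFiniteType), CommRingCat.hom_ofHom,
      RingHom.finiteType_algebraMap]
    infer_instance
  haveI : IsNoetherianRing V := inferInstance
  haveI : LocallyOfFinitePresentation (h ≫ g) :=
    locallyOfFinitePresentation_of_noetherian _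
  haveI : LocallyOfFinitePresentation h :=
    locallyOfFinitePresentation_of_noetherian _
  constructor
  · rintro ⟨hV, h0⟩
    -- `h` is flat over the special fibre
    have hspec : ∀ x : X, I ≤ (show PrimeSpectrum A from h x).asIdeal → (h.stalkMap x).hom.Flat := by
      intro x hx
      refine (FlatLocus.flat_of_flat_fiberMap h g x (Flat.stalkMap _ _) ?_).2
      let s := g (h x)
      let F := g.fiber s
      haveI : IsAffine F := inferInstanceAs (IsAffine (pullback _ _))
      let θ := Spec.preimage (F.isoSpec.inv ≫ g.fiberι s)
      let ψ := Spec.preimage ((Spec (.of V)).fromSpecResidueField s)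
      have hs : IsLocalRing.maximalIdeal V ≤ (show PrimeSpectrum V from s).asIdeal := by
        intro v hv
        exact hx (Ideal.mem_map_of_mem _ hv)
      have hψ : ∀ v ∈ IsLocalRing.maximalIdeal V, ψ.hom v = 0 := by
        intro v hv
        have h1 : (Spec.map ψ) (⊥ : PrimeSpectrum _) = s := by
          rw [Spec.map_preimage]
          exact Scheme.fromSpecResidueField_apply _ _
        have h2 : v ∈ ((Spec.map ψ) (⊥ : PrimeSpectrum _) : PrimeSpectrum V).asIdeal := by
          rw [h1]
          exact hs hv
        exact h2
      let ψ' := Spec.preimage (F.isoSpec.inv ≫ g.fiberToSpecResidueField s)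
      have hθψ : CommRingCat.ofHom (algebraMap V A) ≫ θ = ψ ≫ ψ' := by
        apply Spec.map_injective
        simp only [Spec.map_comp, θ, ψ, ψ', Spec.map_preimage, Category.assoc]
        exact congrArg (F.isoSpec.inv ≫ ·) (g.fiber_fac s)
      have hθI : ∀ a ∈ I, θ.hom a = 0 := by
        intro a ha
        refine (Ideal.map_le_iff_le_comap.2 (fun v hv => ?_) : I ≤ RingHom.ker θ.hom) ha
        show θ.hom (algebraMap V A v) = 0
        have := congrArg (fun φ => φ.hom v) hθψ
        simp only [CommRingCat.hom_comp, RingHom.comp_apply, CommRingCat.hom_ofHom] at this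
        rw [this, hψ v hv, map_zero]
      let ρ : F ⟶ Spec (.of (A ⧸ I)) :=
        F.isoSpec.hom ≫ Spec.map (CommRingCat.ofHom (Ideal.Quotient.lift I θ.hom hθI))
      have hρ : ρ ≫ c = g.fiberι s := by
        simp only [ρ, c, Category.assoc, ← Spec.map_comp]
        rw [show CommRingCat.ofHom (Ideal.Quotient.mk I) ≫ CommRingCat.ofHom (Ideal.Quotient.lift I θ.hom hθI) = θ from
          CommRingCat.hom_ext (Ideal.Quotient.lift_comp_mk I _ _), Spec.map_preimage, Iso.hom_inv_id_assoc]
      have hF := FlatLocus.isPullback_fiberMap h g s
      let v := pullback.lift (f := h) (g := c) ((h ≫ g).fiberι s) (MoreMor.fiberMap h g s ≫ ρ)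
        (by rw [Category.assoc, hρ]; exact hF.w)
      have hsq : IsPullback v (MoreMor.fiberMap h g s) (pullback.snd h c) ρ := by
        refine IsPullback.of_right ?_ (pullback.lift_snd _ _ _) (IsPullback.of_hasPullback h c)
        rw [hρ, pullback.lift_fst]
        exact hF
      haveI := h0
      haveI : Flat (MoreMor.fiberMap h g s) := MorphismProperty.of_isPullback (P := @Flat) hsq h0
      exact Flat.stalkMap _ _
    refine Flat.of_stalkMap _ fun w => ?_
    refine GrpSch.flat_stalkMap_of_isPullback (IsPullback.of_hasPullback h j) w ?_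
    by_contra hnf
    have hZ : IsClosed {x : X | ¬ (h.stalkMap x).hom.Flat} := (S0386.result h).isClosed_compl
    have hclosed := isClosedMap_of_proper h _ hZ
    obtain ⟨P, hP, hsp⟩ := exists_specializes I (pullback.snd h j w)
    have hmem : h (pullback.fst h j w) ∈ h '' {x : X | ¬ (h.stalkMap x).hom.Flat} := ⟨_, hnf, rfl⟩
    have hjw : h (pullback.fst h j w) = j (pullback.snd h j w) := by
      rw [← Scheme.Hom.comp_apply, pullback.condition]
      rfl
    obtain ⟨x, hx, hxP⟩ := hsp.mem_closed hclosed (show j (pullback.snd h j w) ∈ _ by rw [← hjw]; exact hmem)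
    exact hx (hspec x (hxP ▸ hP))
  · intro hh
    have hspec : ∀ x : X, I ≤ (show PrimeSpectrum A from h x).asIdeal → (h.stalkMap x).hom.Flat := by
      intro x hx
      obtain ⟨a', ha'⟩ := exists_point_completion I (h x) hx
      obtain ⟨w, hw, -⟩ := Scheme.Pullback.exists_preimage_pullback (f := h) (g := j) x a' ha'.symm
      rw [← hw]
      refine GrpSch.flat_stalkMap_of_comp (pullback.fst h j) h w (Flat.stalkMap _ _) ?_
      have e : pullback.fst h j ≫ h = pullback.snd h j ≫ j := pullback.condition
      rw [e]
      exact Flat.stalkMap _ _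
    constructor
    · refine Flat.of_stalkMap _ fun x => ?_
      by_cases hx : IsLocalRing.maximalIdeal V ≤ (show PrimeSpectrum V from g (h x)).asIdeal
      · rw [Scheme.Hom.stalkMap_comp]
        refine RingHom.Flat.comp (Flat.stalkMap g (h x)) (hspec x (Ideal.map_le_iff_le_comap.2 hx))
      · let s : PrimeSpectrum V := g (h x)
        have hbot : s.asIdeal = ⊥ := by
          by_contra hne
          haveI := Ring.DimensionLEOne.maximalOfPrime hne s.isPrime
          exact hx (IsLocalRing.eq_maximalIdeal this).ge
        letI : Algebra V ↑((Spec (CommRingCat.of V)).presheaf.stalk s) := StructureSheaf.stalkAlgebra V s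
        haveI : IsLocalization.AtPrime ↑((Spec (CommRingCat.of V)).presheaf.stalk s) s.asIdeal :=
          StructureSheaf.IsLocalization.to_stalk V s
        haveI : IsFractionRing V ↑((Spec (CommRingCat.of V)).presheaf.stalk s) := by
          have e : s.asIdeal.primeCompl = nonZeroDivisors V := by
            ext v
            simp [hbot, mem_nonZeroDivisors_iff_ne_zero]
          show IsLocalization (nonZeroDivisors V) _
          rw [← e]
          infer_instance
        have hf : IsField ↑((Spec (CommRingCat.of V)).presheaf.stalk (g (h x))) :=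
          (IsFractionRing.toField (K := ↑((Spec (CommRingCat.of V)).presheaf.stalk s)) V).toIsField
        exact flat_of_isField hf _
    · refine Flat.of_stalkMap _ fun w => ?_
      refine GrpSch.flat_stalkMap_of_isPullback (IsPullback.of_hasPullback h c) w (hspec _ ?_)
      have hcw : h (pullback.fst h c w) = c (pullback.snd h c w) := by
        rw [← Scheme.Hom.comp_apply, pullback.condition]
        rfl
      rw [hcw]
      intro a ha
      show Ideal.Quotient.mk I a ∈ (show PrimeSpectrum (A ⧸ I) from pullback.snd h c w).asIdeal
      rw [Ideal.Quotient.eq_zero_iff_mem.2 ha]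
      exact zero_mem _

end Groth.Agent.S19381
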