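import Groth.Statements.S19382
import Groth.Agent.S19381
import Groth.Agent.SmoothPt.Basic
-- import your own Groth.Agent.* helpers here

set_option autoImplicit false
universe u
open CategoryTheory CategoryTheory.Limits AlgebraicGeometry
open FlatMor

namespace Groth.Agent.S19382

open CategoryTheory CategoryTheory.Limits AlgebraicGeometry

/-- Over a discrete valuation ring, let V be a henselian discrete valuation ring with maximal ideal 𝔪, A
a smooth V-algebra, Â the 𝔪A-adic completion of A, and h : X → Spec A a proper morphism with
reduction h₀ over Spec(A/𝔪A). Then X is flat over V and h₀ is smooth if and only if the base change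
of h to Spec Â is smooth. (As for the flat case, the published statement concerns an excellent
normal base ring with a henselian pair and the projective lift built from lifted equations, together
with the weak completion and the henselization; it is given here over a discrete valuation ring and
for an arbitrary proper h.) -/
theorem result
    (V : Type u) [CommRing V] [IsDomain V] [IsDiscreteValuationRing V] [HenselianLocalRing V]
    (A : Type u) [CommRing A] [Algebra V A] [Algebra.Smooth V A]
    (X : Scheme.{u}) (h : X ⟶ Spec (.of A)) [IsProper h] :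
    (Flat (h ≫ Spec.map (CommRingCat.ofHom (algebraMap V A))) ∧
        Smooth (pullback.snd h (Spec.map (CommRingCat.ofHom
          (Ideal.Quotient.mk ((IsLocalRing.maximalIdeal V).map (algebraMap V A))))))) ↔
      Smooth (pullback.snd h (Spec.map (CommRingCat.ofHom
          (algebraMap A (AdicCompletion ((IsLocalRing.maximalIdeal V).map (algebraMap V A)) A))))) := by
  haveI : IsNoetherianRing A := Algebra.FiniteType.isNoetherianRing V A
  let I := (IsLocalRing.maximalIdeal V).map (algebraMap V A)
  let j : Spec (.of (AdicCompletion I A)) ⟶ Spec (.of A) :=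
    Spec.map (CommRingCat.ofHom (algebraMap A (AdicCompletion I A)))
  let c : Spec (.of (A ⧸ I)) ⟶ Spec (.of A) := Spec.map (CommRingCat.ofHom (Ideal.Quotient.mk I))
  change Flat (h ≫ _) ∧ Smooth (pullback.snd h c) ↔ Smooth (pullback.snd h j)
  haveI hj : Flat j := by
    rw [Flat.SpecMap_iff, CommRingCat.hom_ofHom, RingHom.flat_algebraMap_iff]
    infer_instance
  haveI : LocallyOfFinitePresentation h := S19381.locallyOfFinitePresentation_of_noetherian _
  have hc : ∀ w, I ≤ (show PrimeSpectrum A from c w).asIdeal := fun w a ha => by
    show Ideal.Quotient.mk I a ∈ (show PrimeSpectrum (A ⧸ I) from w).asIdeal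
    rw [Ideal.Quotient.eq_zero_iff_mem.2 ha]
    exact zero_mem _
  have hlift : ∀ x : X, I ≤ (show PrimeSpectrum A from h x).asIdeal →
      ∃ w : ↑(pullback h j), pullback.fst h j w = x := fun x hx => by
    obtain ⟨a', ha'⟩ := S19381.exists_point_completion I (h x) hx
    obtain ⟨w, hw, -⟩ := Scheme.Pullback.exists_preimage_pullback (f := h) (g := j) x a' ha'.symm
    exact ⟨w, hw⟩
  constructor
  · rintro ⟨hV, h0⟩
    haveI := h0
    haveI hh : Flat (pullback.snd h j) := (S19381.result V A X h).1 ⟨hV, inferInstance⟩
    have hspec : ∀ x : X, I ≤ (show PrimeSpectrum A from h x).asIdeal → x ∈ h.smoothLocus := by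
      intro x hx
      obtain ⟨w, hw⟩ := hlift x hx
      have hflat : (h.stalkMap x).hom.Flat := by
        rw [← hw]
        refine GrpSch.flat_stalkMap_of_comp (pullback.fst h j) h w (Flat.stalkMap _ _) ?_
        have e : pullback.fst h j ≫ h = pullback.snd h j ≫ j := pullback.condition
        rw [e]
        exact Flat.stalkMap _ _
      let θ := Spec.preimage ((Spec (.of A)).fromSpecResidueField (h x))
      have hθI : ∀ a ∈ I, θ.hom a = 0 := fun a ha => by
        have h1 : (Spec.map θ) (⊥ : PrimeSpectrum _) = h x := by
          rw [Spec.map_preimage]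
          exact Scheme.fromSpecResidueField_apply _ _
        have h2 : a ∈ ((Spec.map θ) (⊥ : PrimeSpectrum _) : PrimeSpectrum A).asIdeal := by
          rw [h1]
          exact hx ha
        exact h2
      let ρ : Spec ((Spec (.of A)).residueField (h x)) ⟶ Spec (.of (A ⧸ I)) :=
        Spec.map (CommRingCat.ofHom (Ideal.Quotient.lift I θ.hom hθI))
      have hρ : ρ ≫ c = (Spec (.of A)).fromSpecResidueField (h x) := by
        simp only [ρ, c, ← Spec.map_comp]
        refine (congrArg Spec.map (?_ : _ = θ)).trans (Spec.map_preimage _)
        exact CommRingCat.hom_ext (Ideal.Quotient.lift_comp_mk I _ _)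
      let v : h.fiber (h x) ⟶ pullback h c :=
        pullback.lift (h.fiberι (h x)) (h.fiberToSpecResidueField (h x) ≫ ρ)
          (by rw [Category.assoc, hρ]; exact h.fiber_fac _)
      have hsq : IsPullback v (h.fiberToSpecResidueField (h x)) (pullback.snd h c) ρ := by
        refine IsPullback.of_right ?_ (pullback.lift_snd _ _ _) (IsPullback.of_hasPullback h c)
        rw [hρ, pullback.lift_fst]
        exact IsPullback.of_hasPullback h _
      haveI : Smooth (h.fiberToSpecResidueField (h x)) := MorphismProperty.of_isPullback (P := @Smooth) hsq h0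
      refine SmoothPt.mem_smoothLocus_of_flat_of_fiber h hflat ?_
      rw [Scheme.Hom.smoothLocus_eq_top]
      trivial
    haveI : LocallyOfFinitePresentation (pullback.snd h j) := inferInstance
    rw [← Scheme.Hom.smoothLocus_eq_top_iff, eq_top_iff]
    intro w _
    refine SmoothPt.preimage_smoothLocus_le h (IsPullback.of_hasPullback h j) ?_
    show pullback.fst h j w ∈ h.smoothLocus
    by_contra hn
    have hclosed := S19381.isClosedMap_of_proper h _ h.smoothLocus.2.isClosed_compl
    obtain ⟨P, hP, hsp⟩ := S19381.exists_specializes I (pullback.snd h j w)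
    have hmem : h (pullback.fst h j w) ∈ h '' ((h.smoothLocus : Set X)ᶜ) := ⟨_, hn, rfl⟩
    have hjw : h (pullback.fst h j w) = j (pullback.snd h j w) := by
      rw [← Scheme.Hom.comp_apply, pullback.condition]
      rfl
    obtain ⟨x, hx, hxP⟩ := hsp.mem_closed hclosed (show j (pullback.snd h j w) ∈ _ by rw [← hjw]; exact hmem)
    exact hx (hspec x (hxP ▸ hP))
  · intro hh
    haveI := hh
    refine ⟨((S19381.result V A X h).2 inferInstance).1, ?_⟩
    haveI : LocallyOfFinitePresentation (pullback.snd h c) := inferInstance
    rw [← Scheme.Hom.smoothLocus_eq_top_iff, eq_top_iff]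
    intro z _
    refine SmoothPt.preimage_smoothLocus_le h (IsPullback.of_hasPullback h c) ?_
    show pullback.fst h c z ∈ h.smoothLocus
    have hcz : h (pullback.fst h c z) = c (pullback.snd h c z) := by
      rw [← Scheme.Hom.comp_apply, pullback.condition]
      rfl
    obtain ⟨w, hw⟩ := hlift _ (hcz ▸ hc (pullback.snd h c z))
    rw [← hw]
    refine SmoothPt.mem_smoothLocus_of_flat_baseChange h (IsPullback.of_hasPullback h j)
      (Flat.stalkMap j _) ?_
    rw [Scheme.Hom.smoothLocus_eq_top]
    trivial

end Groth.Agent.S19382
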