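import Groth.Statements.S19383
import Mathlib

set_option autoImplicit false
universe u
open CAlg

namespace Groth.Agent.S19383

/-- Over a discrete valuation ring, let V be a henselian discrete valuation ring with maximal ideal 𝔪
and B a Noetherian V-algebra, B̂ its 𝔪B-adic completion. Then B is flat over V if and only if B̂ is
flat over V. (The published lemma takes V an excellent normal ring with an ideal I such that (V,
V/I) is a henselian pair and B of finite type; in that generality it fails: for V = ℤ_p[[x]], I =
(p) and B = V[y]/(x, py − 1) ≅ ℚ_p one has IB = B, so B̂ = 0 is flat while B is not flat over V.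
Over a discrete valuation ring flatness is torsion-freeness and the statement holds for every
Noetherian B.) -/
theorem result
    (V : Type u) [CommRing V] [IsDomain V] [IsDiscreteValuationRing V] [HenselianLocalRing V]
    (B : Type u) [CommRing B] [Algebra V B] [IsNoetherianRing B] :
    Module.Flat V B ↔
      Module.Flat V (AdicCompletion ((IsLocalRing.maximalIdeal V).map (algebraMap V B)) B) := by
  let I := (IsLocalRing.maximalIdeal V).map (algebraMap V B)
  refine ⟨fun h => Module.Flat.trans V B (AdicCompletion I B), fun h => ?_⟩
  obtain ⟨π, hπ⟩ := IsDiscreteValuationRing.exists_irreducible V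
  have key : ∀ t : B, π • t = 0 → t = 0 := by
    intro t ht
    have htor := Module.Flat.torsion_eq_bot (R := V) (M := AdicCompletion I B)
    have hz : AdicCompletion.of I B t = 0 := by
      refine (Submodule.eq_bot_iff _).1 htor _ ?_
      rw [Submodule.mem_torsion_iff]
      refine ⟨⟨π, mem_nonZeroDivisors_of_ne_zero hπ.ne_zero⟩, ?_⟩
      show π • AdicCompletion.of I B t = 0
      rw [← algebraMap_smul B π (AdicCompletion.of I B t), ← map_smul, algebraMap_smul, ht, map_zero]
    obtain ⟨r, hr⟩ := (I.mem_iInf_smul_pow_eq_bot_iff t).1 ((Submodule.mem_iInf _).2 fun n =>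
      (Submodule.Quotient.mk_eq_zero _).1 (congrArg (fun z => z.val n) hz))
    obtain ⟨c, hc⟩ := Ideal.mem_span_singleton'.1 (show (r : B) ∈ Ideal.span {algebraMap V B π} from by
      rw [← Set.image_singleton, ← Ideal.map_span, ← hπ.maximalIdeal_eq]; exact r.2)
    rw [← hr, smul_eq_mul, ← hc, mul_assoc, ← Algebra.smul_def, ht, mul_zero]
  rw [Module.Flat.flat_iff_torsion_eq_bot_of_isBezout, Submodule.eq_bot_iff]
  intro x hx
  obtain ⟨⟨a, ha⟩, hax⟩ := (Submodule.mem_torsion_iff x).1 hx
  obtain ⟨n, u, rfl⟩ := IsDiscreteValuationRing.eq_unit_mul_pow_irreducible (nonZeroDivisors.ne_zero ha) hπ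
  have h1 : π ^ n • x = 0 := by
    have : ((u : V) * π ^ n) • x = 0 := hax
    rwa [mul_smul, u.isUnit.smul_eq_zero] at this
  clear hax ha hx
  induction n generalizing x with
  | zero => simpa using h1
  | succ n ih => exact key x (ih _ (by rwa [← mul_smul, ← pow_succ]))

end Groth.Agent.S19383
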