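import Groth.Statements.S1939
import Groth.Agent.EquidimChart.UnivOpen

set_option autoImplicit false
universe u
open CategoryTheory AlgebraicGeometry
open CategoryTheory.Limits
open Cyc

namespace Groth.Agent.S1939

/-- Let (S, δS) and (S', δS') be two pairs satisfying Cyc.IsSetup, g : S' → S flat with δS'(s') = δS(g
s') + c for every s' generic in an irreducible component of its fibre g⁻¹(g s'), a : X → S locally
of finite type with X integral of δ-dimension k (δX induced from δS), and X' = X ×_S S' with δX'
induced from δS'. Then every generic point x' of an irreducible component of X' has δX'(x') = k + c.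
A pair (X, δ) with Cyc.IsSetup plays the role of a scheme locally of finite type over a fixed base
with a dimension function (X locally Noetherian with universally catenary local rings, δ a dimension
function), and Cyc.DeltaCompat records that the dimension function upstairs is the induced one. -/
theorem result (S S' X : Scheme.{u}) (δS : S → ℤ) (δS' : S' → ℤ) (hS : Cyc.IsSetup S δS) (hS' : Cyc.IsSetup S' δS') (g : S' ⟶ S) [Flat g] (c : ℤ) (hc : ∀ s' : S', (∀ y, g y = g s' → y ⤳ s' → y = s') → δS' s' = δS (g s') + c) (a : X ⟶ S) [LocallyOfFiniteType a] [IsIntegral X] (δX : X → ℤ) (hX : Cyc.DeltaCompat a δX δS) (δX' : ↥(pullback a g) → ℤ) (hX' : Cyc.DeltaCompat (pullback.snd a g) δX' δS') (k : ℤ) (hk : δX (genericPoint X) = k) (x' : ↥(pullback a g)) (hx' : ∀ y : ↥(pullback a g), y ⤳ x' → y = x') : δX' x' = k + c := by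
  have hP := IsPullback.of_hasPullback a g
  have : LocallyOfFiniteType (pullback.snd a g) := MorphismProperty.pullback_snd _ _ ‹_›
  have hξ : pullback.fst a g x' = genericPoint X := by
    obtain ⟨y, hy, hyξ⟩ := Flat.generalizingMap (pullback.fst a g) (genericPoint_specializes (pullback.fst a g x'))
    rw [← hx' y hy]; exact hyξ
  have hmax : FlatEquidim.IsFibreMax (pullback.snd a g) x' := fun z hz _ => hx' z hz
  obtain ⟨n, hn, hn', -⟩ := EquidimChart.mapTrdeg_baseChange_of_fibreMax a hP hmax
  rw [hξ] at hn'
  obtain ⟨n1, hn1, hd1⟩ := hX' x'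
  obtain ⟨n2, hn2, hd2⟩ := hX (genericPoint X)
  have e1 : n1 = n := Nat.cast_injective (R := Cardinal.{u}) (hn1.symm.trans hn)
  have e2 : n2 = n := Nat.cast_injective (R := Cardinal.{u}) (hn2.symm.trans hn')
  have hgs : g (pullback.snd a g x') = a (genericPoint X) := by
    rw [← hξ, ← Scheme.Hom.comp_apply, ← pullback.condition, Scheme.Hom.comp_apply]
  have hs' : ∀ y, g y = g (pullback.snd a g x') → y ⤳ pullback.snd a g x' → y = pullback.snd a g x' := by
    intro y hgy hy
    let ξ := genericPoint X
    let s := a ξ
    let W := pullback (X.fromSpecResidueField ξ) (pullback.fst a g)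
    have h1 : IsPullback (pullback.snd (X.fromSpecResidueField ξ) (pullback.fst a g) ≫ pullback.snd a g)
        (pullback.fst (X.fromSpecResidueField ξ) (pullback.fst a g)) g
        (Spec.map (a.residueFieldMap ξ) ≫ S.fromSpecResidueField s) := by
      rw [Scheme.Hom.SpecMap_residueFieldMap_fromSpecResidueField]
      exact (IsPullback.of_hasPullback (X.fromSpecResidueField ξ) (pullback.fst a g)).flip.paste_horiz hP.flip
    let φ : W ⟶ g.fiber s := pullback.lift _
      (pullback.fst (X.fromSpecResidueField ξ) (pullback.fst a g) ≫ Spec.map (a.residueFieldMap ξ))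
      (h1.w.trans (Category.assoc _ _ _).symm)
    have hφ1 : φ ≫ g.fiberι s =
        pullback.snd (X.fromSpecResidueField ξ) (pullback.fst a g) ≫ pullback.snd a g := pullback.lift_fst _ _ _
    have h2 : IsPullback φ (pullback.fst (X.fromSpecResidueField ξ) (pullback.fst a g))
        (g.fiberToSpecResidueField s) (Spec.map (a.residueFieldMap ξ)) := by
      refine IsPullback.of_right (h₁₁ := φ) (h₁₂ := g.fiberι s) (h₂₂ := S.fromSpecResidueField s) (v₁₃ := g)
        (v₁₂ := g.fiberToSpecResidueField s) (h₂₁ := Spec.map (a.residueFieldMap ξ)) ?_ (pullback.lift_snd _ _ _)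
        (IsPullback.of_hasPullback g (S.fromSpecResidueField s))
      rw [hφ1]
      exact h1
    have : Flat (Spec.map (a.residueFieldMap ξ)) := by
      rw [Flat.SpecMap_iff]
      letI := (a.residueFieldMap ξ).hom.toAlgebra
      exact (inferInstanceAs (Module.Flat (S.residueField s) (X.residueField ξ)))
    have hφ : Flat φ := MorphismProperty.of_isPullback h2.flip inferInstance
    obtain ⟨w, hw⟩ : x' ∈ Set.range (pullback.snd (X.fromSpecResidueField ξ) (pullback.fst a g)) := by
      rw [Scheme.Pullback.range_snd, Scheme.range_fromSpecResidueField]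
      exact hξ
    have hφw : g.fiberι s (φ w) = pullback.snd a g x' := by
      rw [← Scheme.Hom.comp_apply, hφ1, Scheme.Hom.comp_apply, hw]
    obtain ⟨y', hy'⟩ : y ∈ Set.range (g.fiberι s) := by
      rw [Scheme.Hom.range_fiberι]; exact hgy.trans hgs
    have hsp : y' ⤳ φ w := (g.fiberι s).isEmbedding.isInducing.specializes_iff.1 (by rw [hy', hφw]; exact hy)
    obtain ⟨w', hw', hφw'⟩ := Flat.generalizingMap φ hsp
    have hx'' := hx' _ (hw ▸ hw'.map (pullback.snd (X.fromSpecResidueField ξ) (pullback.fst a g)).continuous)
    rw [← hy', ← hφw', ← Scheme.Hom.comp_apply, hφ1, Scheme.Hom.comp_apply, hx'']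
  rw [hd1, hc _ hs', hgs, ← hk, hd2, e1, e2]
  ring

end Groth.Agent.S1939
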