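import Groth.Statements.S19390
import Mathlib

set_option autoImplicit false
universe u
open GIT

namespace Groth.Agent.S19390

lemma block_of_sorted {α : Type*} [DecidableEq α] {M m : ℕ} (hM : M = 2 * m) (hm : 0 < m) (y : Fin M → α)
    (v : α → ℕ) (hv : Set.InjOn v (Set.range y)) (hmono : Monotone fun p => v (y p))
    (hcnt : ∀ a, (Finset.univ.filter fun p => y p = a).card ≤ m) (p : Fin M) :
    y p ≠ y (p + ⟨m, by omega⟩) := by
  have aux : ∀ p q : Fin M, (q : ℕ) = p + m → y p ≠ y q := by
    intro p q hq h
    have hsub : Finset.Icc p q ⊆ Finset.univ.filter fun z => y z = y p := by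
      intro z hz
      rw [Finset.mem_Icc] at hz
      rw [Finset.mem_filter]
      refine ⟨Finset.mem_univ _, hv ⟨z, rfl⟩ ⟨p, rfl⟩ (le_antisymm ?_ (hmono hz.1))⟩
      have := hmono hz.2
      simpa [h] using this
    have := (Finset.card_le_card hsub).trans (hcnt _)
    rw [Fin.card_Icc] at this
    omega
  rcases lt_or_ge ((p : ℕ) + m) M with hlt | hge
  · exact aux p _ (by rw [Fin.val_add]; exact Nat.mod_eq_of_lt hlt)
  · refine (aux _ p ?_).symm
    rw [Fin.val_add]
    show (p : ℕ) = ((p : ℕ) + m) % M + m
    rw [Nat.mod_eq_sub_mod hge, Nat.mod_eq_of_lt (by have := p.2; omega)]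
    omega


/-- Let e ≥ 1, n = 2e + 1, and let x_1, …, x_n be points such that no point occurs more than e times
among them (the stability condition for n ordered points on a line, n odd). Then there are index
sequences i_1, …, i_n and j_1, …, j_n in which every index between 1 and n occurs exactly twice in
total, such that x_{i_k} ≠ x_{j_k} for every k and (i_1, i_2, i_3) = (j_3, j_1, j_2). Indices are
written 0, …, n − 1 here. -/
theorem result {α : Type u} [DecidableEq α] (e : ℕ) (he : 1 ≤ e)
    (x : Fin (2 * e + 1) → α)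
    (hx : ∀ a : α, (Finset.univ.filter fun k => x k = a).card ≤ e) :
    ∃ i j : Fin (2 * e + 1) → Fin (2 * e + 1),
      (∀ m : Fin (2 * e + 1),
        (Finset.univ.filter fun k => i k = m).card + (Finset.univ.filter fun k => j k = m).card = 2) ∧
      (∀ k, x (i k) ≠ x (j k)) ∧
      i 0 = j 2 ∧ i 1 = j 0 ∧ i 2 = j 1 := by
  classical
  obtain ⟨m, rfl⟩ : ∃ m, e = m + 1 := ⟨e - 1, by omega⟩
  set cnt : α → ℕ := fun a => (Finset.univ.filter fun k => x k = a).card with hcntdef
  set I := Finset.univ.image x with hI
  have htot : ∑ a ∈ I, cnt a = (2 * (m + 1) + 1) := by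
    rw [← Finset.card_eq_sum_card_image x Finset.univ, Finset.card_univ, Fintype.card_fin]
  have hI3 : 3 ≤ I.card := by
    by_contra h
    have h2 : ∑ a ∈ I, cnt a ≤ I.card * (m + 1) := by
      have := Finset.sum_le_card_nsmul I cnt (m + 1) (fun a _ => hx a)
      simpa using this
    have : I.card * (m + 1) ≤ 2 * (m + 1) := Nat.mul_le_mul_right _ (by omega)
    omega
  set bad := I.filter fun a => cnt a = m + 1 with hbad
  have hbad3 : bad.card ≤ 3 := by
    by_contra h
    have h1 : bad.card * (m + 1) ≤ ∑ a ∈ bad, cnt a := by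
      have := Finset.card_nsmul_le_sum bad cnt (m + 1) (fun a ha => le_of_eq (Finset.mem_filter.mp ha).2.symm)
      simpa using this
    have h2 : ∑ a ∈ bad, cnt a ≤ ∑ a ∈ I, cnt a :=
      Finset.sum_le_sum_of_subset (Finset.filter_subset _ _)
    have : 4 * (m + 1) ≤ bad.card * (m + 1) := Nat.mul_le_mul_right _ (by omega)
    omega
  obtain ⟨T, hbT, hTI, hT3⟩ := Finset.exists_subsuperset_card_eq (Finset.filter_subset (fun a => cnt a = m + 1) I) hbad3 hI3
  let tv : Fin 3 → α := fun t => (T.equivFinOfCardEq hT3).symm t
  have htv : Function.Injective tv := fun a b h => (T.equivFinOfCardEq hT3).symm.injective (Subtype.ext h)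
  have hr' : ∀ t, ∃ k, x k = tv t := fun t => by
    obtain ⟨k, -, hk⟩ := Finset.mem_image.mp (hTI ((T.equivFinOfCardEq hT3).symm t).2)
    exact ⟨k, hk⟩
  choose r hr using hr'
  have hrinj : Function.Injective r := fun a b h => htv (by rw [← hr a, ← hr b, h])
  set R := (Finset.univ.image r)ᶜ with hR
  have hRcard : R.card = 2 * m := by
    rw [hR, Finset.card_compl, Finset.card_image_of_injective _ hrinj, Finset.card_univ, Fintype.card_fin,
      Fintype.card_fin]
    omega
  let g : Fin (2 * m) → Fin (2 * (m + 1) + 1) := fun p => (R.equivFinOfCardEq hRcard).symm p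
  have hg : Function.Injective g := fun a b h => (R.equivFinOfCardEq hRcard).symm.injective (Subtype.ext h)
  have hgR : ∀ p, g p ∈ R := fun p => ((R.equivFinOfCardEq hRcard).symm p).2
  let v : α → ℕ := fun a => if h : a ∈ I then (I.equivFin ⟨a, h⟩ : ℕ) else 0
  have hv : Set.InjOn v (Set.range x) := by
    rintro _ ⟨a, rfl⟩ _ ⟨b, rfl⟩ h
    have hm1 : ∀ z, x z ∈ I := fun z => Finset.mem_image_of_mem x (Finset.mem_univ z)
    simp only [v, dif_pos (hm1 _)] at h
    exact congrArg Subtype.val (I.equivFin.injective (Fin.ext h))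
  set σ := Tuple.sort (fun p => v (x (g p))) with hσ
  let f : Fin (2 * m) → Fin (2 * (m + 1) + 1) := fun p => g (σ p)
  have hf : Function.Injective f := hg.comp σ.injective
  let φ : Fin 3 ⊕ Fin (2 * m) → Fin (2 * (m + 1) + 1) := Sum.elim r f
  have hφ : Function.Bijective φ := by
    have hinj : Function.Injective φ := by
      rintro (a | a) (b | b) h
      · exact congrArg _ (hrinj h)
      · exact absurd (Finset.mem_image.mpr ⟨a, Finset.mem_univ a, h⟩) (Finset.mem_compl.mp (hgR (σ b)))
      · exact absurd (Finset.mem_image.mpr ⟨b, Finset.mem_univ b, h.symm⟩) (Finset.mem_compl.mp (hgR (σ a)))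
      · exact congrArg _ (hf h)
    refine (Fintype.bijective_iff_injective_and_card φ).mpr ⟨hinj, ?_⟩
    simp only [Fintype.card_sum, Fintype.card_fin]
    omega
  have hbig : ∀ p : Fin (2 * m), 0 < m := fun p => by have := p.2; omega
  let shift : Fin (2 * m) → Fin (2 * m) := fun p => p + ⟨m, by have := p.2; omega⟩
  have hshift : Function.Bijective shift := by
    refine Finite.injective_iff_bijective.mp fun a b h => ?_
    exact add_right_cancel h
  let nx : Fin 3 ⊕ Fin (2 * m) → Fin 3 ⊕ Fin (2 * m) := Sum.map (· + 1) shift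
  have hnx : Function.Bijective nx := Sum.map_bijective.mpr ⟨(Equiv.addRight (1 : Fin 3)).bijective, hshift⟩
  let c : Fin (2 * (m + 1) + 1) ≃ Fin 3 ⊕ Fin (2 * m) := (finCongr (by omega)).trans finSumFinEquiv.symm
  have hne : ∀ z, x (φ z) ≠ x (φ (nx z)) := by
    rintro (t | p)
    · show x (r t) ≠ x (r (t + 1))
      rw [hr, hr]
      intro h
      exact absurd (htv h) (by clear h; revert t; decide)
    · show x (f p) ≠ x (f (shift p))
      refine block_of_sorted rfl (hbig p) (fun q => x (f q)) v (hv.mono (fun a ha => ?_))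
        (Tuple.monotone_sort (fun p => v (x (g p)))) (fun a => ?_) p
      · obtain ⟨q, rfl⟩ := ha; exact ⟨_, rfl⟩
      · by_cases haT : a ∈ T
        · set t := (T.equivFinOfCardEq hT3) ⟨a, haT⟩ with ht
          have hxt : x (r t) = a := by
            rw [hr]; simp [tv, ht]
          have hsub : (Finset.univ.filter fun q => x (f q) = a).image f ⊆
              (Finset.univ.filter fun k => x k = a).erase (r t) := by
            intro k hk
            obtain ⟨q, hq, rfl⟩ := Finset.mem_image.mp hk
            rw [Finset.mem_erase, Finset.mem_filter]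
            exact ⟨fun h => Finset.mem_compl.mp (hgR (σ q)) (Finset.mem_image.mpr ⟨t, Finset.mem_univ t, h.symm⟩),
              Finset.mem_univ _, (Finset.mem_filter.mp hq).2⟩
          have h1 := Finset.card_le_card hsub
          rw [Finset.card_image_of_injective _ hf, Finset.card_erase_of_mem (by simp [hxt])] at h1
          have := hx a
          omega
        · have hsub : (Finset.univ.filter fun q => x (f q) = a).image f ⊆
              (Finset.univ.filter fun k => x k = a) := by
            intro k hk
            obtain ⟨q, hq, rfl⟩ := Finset.mem_image.mp hk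
            rw [Finset.mem_filter]
            exact ⟨Finset.mem_univ _, (Finset.mem_filter.mp hq).2⟩
          have h1 := Finset.card_le_card hsub
          rw [Finset.card_image_of_injective _ hf] at h1
          have h2 := hx a
          have h3 : a ∈ I → cnt a ≠ m + 1 := fun hI' hc => haT (hbT (Finset.mem_filter.mpr ⟨hI', hc⟩))
          by_cases haI : a ∈ I
          · have := h3 haI
            simp only [hcntdef] at this
            omega
          · have : (Finset.univ.filter fun k => x k = a) = ∅ := Finset.filter_eq_empty_iff.mpr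
              (fun k _ hk => haI (hk ▸ Finset.mem_image_of_mem x (Finset.mem_univ k)))
            rw [this, Finset.card_empty] at h1
            omega
  refine ⟨fun k => φ (c k), fun k => φ (nx (c k)), fun q => ?_, fun k => hne (c k), ?_, ?_, ?_⟩
  · have key : ∀ F : Fin (2 * (m + 1) + 1) → Fin (2 * (m + 1) + 1), Function.Bijective F → (Finset.univ.filter fun k => F k = q).card = 1 := by
      intro F hF
      obtain ⟨k₀, hk₀⟩ := hF.2 q
      rw [Finset.card_eq_one]
      exact ⟨k₀, Finset.ext fun k => by simp [← hk₀, hF.1.eq_iff]⟩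
    rw [key (fun k => φ (c k)) (hφ.comp c.bijective), key (fun k => φ (nx (c k))) (hφ.comp (hnx.comp c.bijective))]
  all_goals
    have hc : ∀ a : Fin (2 * (m + 1) + 1), ∀ t : Fin 3, (a : ℕ) = (t : ℕ) → c a = Sum.inl t := by
      intro a t h
      rw [← Equiv.eq_symm_apply]
      exact Fin.ext h
    have h0 := hc 0 0 rfl
    have h1 := hc 1 1 (by simp [Fin.val_one])
    have h2 := hc 2 2 (by simp [Nat.mod_eq_of_lt])
    simp only [h0, h1, h2, nx, Sum.map_inl]
    congr

end Groth.Agent.S19390
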