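-- statement InvQ.GrothFrozen.S19392 (Groth/Statements/S19392.lean; the theorem InvQ.binaryQuartic_invI_invJ_eq_zero_iff_triple_root);
import Groth.Statements.S19392
import Mathlib
import Groth.Agent.S19391

set_option autoImplicit false
universe u
open InvQ

namespace Groth.Agent.S19392

/-- Over a field of characteristic different from 2 and 3, a nonzero binary quartic f has P(f) = Q(f) =
0 for the two basic invariants P, Q if and only if f has a triple zero. Stated for f = ∏_i (μ_i X₀ −
λ_i X₁) given by four root points (λ_i, μ_i) ≠ (0, 0) (over an algebraically closed field every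
nonzero quartic form is of this shape), with the integral invariants I = 6P and J = 72Q of the
coefficients of f; a triple zero means that three of the four root points are pairwise proportional. -/
theorem result (k : Type u) [Field k]
    (h2 : (2 : k) ≠ 0) (h3 : (3 : k) ≠ 0) (la mu : Fin 4 → k) (hne : ∀ i, la i ≠ 0 ∨ mu i ≠ 0) :
    (W4c6intromoduli.invI (W4c6intromoduli.coef la mu) = 0 ∧
        W4c6intromoduli.invJ (W4c6intromoduli.coef la mu) = 0) ↔
      ∃ i j l : Fin 4, i ≠ j ∧ j ≠ l ∧ i ≠ l ∧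
        la i * mu j = la j * mu i ∧ la j * mu l = la l * mu j := by
  classical
  have hcoef : ∀ (a b : Fin 4 → k) (i : ℕ), W4c6intromoduli.coef a b i = (Polynomial.C (b 0 * b 1 * b 2 * b 3)
      + Polynomial.C (-(a 0 * b 1 * b 2 * b 3 + b 0 * a 1 * b 2 * b 3 + b 0 * b 1 * a 2 * b 3 + b 0 * b 1 * b 2 * a 3)) * Polynomial.X
      + Polynomial.C (a 0 * a 1 * b 2 * b 3 + a 0 * b 1 * a 2 * b 3 + a 0 * b 1 * b 2 * a 3 + b 0 * a 1 * a 2 * b 3 + b 0 * a 1 * b 2 * a 3 + b 0 * b 1 * a 2 * a 3) * Polynomial.X ^ 2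
      + Polynomial.C (-(b 0 * a 1 * a 2 * a 3 + a 0 * b 1 * a 2 * a 3 + a 0 * a 1 * b 2 * a 3 + a 0 * a 1 * a 2 * b 3)) * Polynomial.X ^ 3
      + Polynomial.C (a 0 * a 1 * a 2 * a 3) * Polynomial.X ^ 4).coeff i := fun a b i => by
    refine congrArg (fun q => Polynomial.coeff q i) ?_
    simp only [W4c6intromoduli.rootPoly, Fin.prod_univ_four, map_add, map_neg, map_mul]
    ring
  have hperm : ∀ σ : Equiv.Perm (Fin 4), W4c6intromoduli.coef (la ∘ σ) (mu ∘ σ) = W4c6intromoduli.coef la mu := fun σ => by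
    funext i
    exact congrArg (fun q => Polynomial.coeff q i)
      (Equiv.prod_comp σ (fun x => Polynomial.C (mu x) - Polynomial.C (la x) * Polynomial.X))
  have hprop : ∀ {a b c d : k}, (a ≠ 0 ∨ b ≠ 0) → a * d = c * b → ∃ s : k, c = s * a ∧ d = s * b := by
    intro a b c d hab h
    rcases hab with ha | hb
    · exact ⟨c / a, by field_simp, by field_simp; linear_combination h⟩
    · exact ⟨d / b, by field_simp; linear_combination -h, by field_simp⟩
  constructor
  · rintro ⟨hI, hJ⟩
    have hD : W4c6intromoduli.disc la mu = 0 := by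
      have h := S19391.result k la mu
      rw [hI, hJ] at h
      have h27 : (27 : k) ≠ 0 := by
        rw [show (27 : k) = 3 ^ 3 by norm_num]; exact pow_ne_zero _ h3
      refine (mul_eq_zero.1 (h.trans ?_)).resolve_left h27
      ring
    rw [W4c6intromoduli.disc, Finset.prod_eq_zero_iff] at hD
    obtain ⟨⟨i, j⟩, hij, h0⟩ := hD
    replace hij : i < j := (Finset.mem_filter.1 hij).2
    replace h0 : la i * mu j = la j * mu i := by
      have := pow_eq_zero_iff (two_ne_zero) |>.1 h0
      linear_combination -this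
    obtain ⟨σ, hσ0, hσ1⟩ : ∃ σ : Equiv.Perm (Fin 4), σ 0 = i ∧ σ 1 = j := by
      clear h0; revert i j; decide
    obtain ⟨s, hs1, hs2⟩ := hprop (hne i) h0
    have hI' := hI
    rw [← hperm σ] at hI'
    simp only [W4c6intromoduli.invI, hcoef, Function.comp_apply, hσ0, hσ1, Polynomial.coeff_add,
      Polynomial.coeff_C_mul_X_pow, Polynomial.coeff_C_mul_X, Polynomial.coeff_C] at hI'
    norm_num at hI'
    rw [hs1, hs2] at hI'
    have hkey : (s * (la i * mu (σ 2) - la (σ 2) * mu i) * (la i * mu (σ 3) - la (σ 3) * mu i)) ^ 2 = 0 := by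
      linear_combination hI'
    have hs : s ≠ 0 := by
      rintro rfl
      rcases hne j with h | h
      · exact h (by simpa using hs1)
      · exact h (by simpa using hs2)
    have hkey' := pow_eq_zero_iff (two_ne_zero) |>.1 hkey
    rcases mul_eq_zero.1 hkey' with h | h
    · refine ⟨i, j, σ 2, hij.ne, ?_, ?_, h0, ?_⟩
      · rw [← hσ1]; simp
      · rw [← hσ0]; simp
      · have h' := (mul_eq_zero.1 h).resolve_left hs
        rw [hs1, hs2]
        linear_combination s * h'
    · refine ⟨i, j, σ 3, hij.ne, ?_, ?_, h0, ?_⟩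
      · rw [← hσ1]; simp
      · rw [← hσ0]; simp
      · rw [hs1, hs2]
        linear_combination s * h
  · rintro ⟨i, j, l, hij, hjl, hil, h1, h2'⟩
    obtain ⟨σ, hσ0, hσ1, hσ2⟩ : ∃ σ : Equiv.Perm (Fin 4), σ 0 = i ∧ σ 1 = j ∧ σ 2 = l := by
      clear h1 h2'; revert i j l; decide
    obtain ⟨s, hs1, hs2⟩ := hprop (hne i) h1
    obtain ⟨r, hr1, hr2⟩ := hprop (hne j) h2'
    rw [← hperm σ]
    simp only [W4c6intromoduli.invI, W4c6intromoduli.invJ, hcoef, Function.comp_apply, hσ0, hσ1, hσ2, Polynomial.coeff_add,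
      Polynomial.coeff_C_mul_X_pow, Polynomial.coeff_C_mul_X, Polynomial.coeff_C]
    norm_num
    rw [hr1, hr2, hs1, hs2]
    constructor <;> ring

end Groth.Agent.S19392
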