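import Groth.Statements.S19394
import Mathlib

set_option autoImplicit false
universe u
open InvQ

namespace Groth.Agent.S19394

/-- Over an algebraically closed field, the semisimple part of a square matrix B lies in the Zariski
closure of the orbit of B under conjugation by the general linear group. The semisimple part is
given as S with B = S + N, S semisimple, N nilpotent and SN = NS; membership in the Zariski closure
is spelled out as: every polynomial in the n² matrix entries vanishing at all conjugates A B A⁻¹ (A
invertible) vanishes at S. -/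
theorem result (k : Type u) [Field k] [IsAlgClosed k] (n : ℕ)
    (B S N : Matrix (Fin n) (Fin n) k) (hS : Module.End.IsSemisimple (Matrix.toLin' S))
    (hN : IsNilpotent N) (hSN : Commute S N) (hB : B = S + N)
    (F : MvPolynomial (Fin n × Fin n) k)
    (hF : ∀ A : Matrix (Fin n) (Fin n) k, IsUnit A.det →
      MvPolynomial.eval (fun p => (A * B * A⁻¹) p.1 p.2) F = 0) :
    MvPolynomial.eval (fun p => S p.1 p.2) F = 0 := by
  classical
  subst hB
  have key : ∀ (j : ℕ) (M : Matrix (Fin n) (Fin n) k), Commute S M → M ^ (j + 1) = 0 →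
      (∀ A : Matrix (Fin n) (Fin n) k, IsUnit A.det →
        MvPolynomial.eval (fun p => (A * (S + M) * A⁻¹) p.1 p.2) F = 0) →
      MvPolynomial.eval (fun p => S p.1 p.2) F = 0 := by
    intro j
    induction j with
    | zero =>
      intro M _ hM h
      have h1 := h 1 (by simp)
      have : M = 0 := by simpa using hM
      simpa [this] using h1
    | succ j ih =>
      intro M hSM hM h
      obtain ⟨f, hf⟩ : ∃ f, f = Matrix.toLin' M := ⟨_, rfl⟩
      have hfapp : ∀ y, f y = M.mulVec y := fun y => by rw [hf, Matrix.toLin'_apply]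
      have hinv : LinearMap.ker f ∈ Module.End.invtSubmodule (Matrix.toLin' S) := by
        rw [Module.End.mem_invtSubmodule]
        intro x hx
        simp only [Submodule.mem_comap, LinearMap.mem_ker, hf, Matrix.toLin'_apply] at hx ⊢
        rw [Matrix.mulVec_mulVec, ← hSM.eq, ← Matrix.mulVec_mulVec, hx, Matrix.mulVec_zero]
      obtain ⟨C, hC, hcompl⟩ := Module.End.isSemisimple_iff.1 hS _ hinv
      obtain ⟨P, hP⟩ : ∃ P : Matrix (Fin n) (Fin n) k, P = LinearMap.toMatrix' (C.projection (LinearMap.ker f) hcompl.symm) := ⟨_, rfl⟩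
      have hPv : ∀ x, P.mulVec x = C.projection (LinearMap.ker f) hcompl.symm x := fun x => by
        rw [hP, ← Matrix.toLin'_apply, Matrix.toLin'_toMatrix']
      have hfP : ∀ x, M.mulVec (P.mulVec x) = M.mulVec x := by
        intro x
        have h1 := Submodule.projection_add_projection_eq_self hcompl.symm x
        have h2 : f ((LinearMap.ker f).projection C hcompl x) = 0 := LinearMap.mem_ker.1 (Submodule.projection_apply_mem _ x)
        conv_rhs => rw [← h1]
        rw [hfapp] at h2
        rw [Matrix.mulVec_add, h2, add_zero, hPv]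
      have hNP : M * P = M := Matrix.ext_iff_mulVec.2 (fun x => by rw [← Matrix.mulVec_mulVec]; exact hfP x)
      have hPK : ∀ x, M.mulVec x = 0 → P.mulVec x = 0 := fun x hx => by
        rw [hPv, Submodule.projection_apply_eq_zero_iff]
        simpa [hfapp] using hx
      have hPS : Commute S P := by
        refine Matrix.ext_iff_mulVec.2 (fun x => ?_)
        rw [← Matrix.mulVec_mulVec, ← Matrix.mulVec_mulVec, hPv, hPv]
        have h1 := Submodule.projection_add_projection_eq_self hcompl.symm x
        have hcx : S.mulVec (C.projection (LinearMap.ker f) hcompl.symm x) ∈ C :=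
          (Module.End.mem_invtSubmodule _).1 hC (Submodule.projection_apply_mem _ x)
        have hkx : S.mulVec ((LinearMap.ker f).projection C hcompl x) ∈ LinearMap.ker f :=
          (Module.End.mem_invtSubmodule _).1 hinv (Submodule.projection_apply_mem _ x)
        conv_rhs => rw [← h1, Matrix.mulVec_add, map_add]
        rw [(Submodule.projection_apply_eq_zero_iff _).2 hkx, add_zero]
        exact (Submodule.projection_apply_left hcompl.symm ⟨_, hcx⟩).symm
      have hPP : P * P = P := Matrix.ext_iff_mulVec.2 (fun x => by
        rw [← Matrix.mulVec_mulVec, hPv (P.mulVec x), hPv]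
        exact Submodule.projection_apply_left hcompl.symm ⟨_, Submodule.projection_apply_mem _ x⟩)
      refine ih (P * M) ((hPS).mul_right hSM) ?_ ?_
      · have hpow : ∀ i : ℕ, (P * M) ^ (i + 1) = P * M ^ (i + 1) := by
          intro i
          induction i with
          | zero => simp
          | succ i ihi =>
            rw [pow_succ, ihi, pow_succ M (i + 1), mul_assoc, pow_succ M i, mul_assoc (M ^ i), ← mul_assoc M P M, hNP,
              mul_assoc]
        rw [hpow]
        refine Matrix.ext_iff_mulVec.2 fun x => ?_
        rw [← Matrix.mulVec_mulVec, Matrix.zero_mulVec]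
        apply hPK
        rw [Matrix.mulVec_mulVec, ← pow_succ', hM, Matrix.zero_mulVec]
      · intro A hA
        obtain ⟨K, hK⟩ : ∃ K, K = A * (S + P * M) * A⁻¹ := ⟨_, rfl⟩
        obtain ⟨L, hL⟩ : ∃ L, L = A * ((1 - P) * M) * A⁻¹ := ⟨_, rfl⟩
        obtain ⟨G, hG⟩ : ∃ G : Polynomial k, G = MvPolynomial.eval₂ Polynomial.C
            (fun p : Fin n × Fin n => Polynomial.C (K p.1 p.2) + Polynomial.X * Polynomial.C (L p.1 p.2)) F := ⟨_, rfl⟩
        have hGe : ∀ t : k, G.eval t = MvPolynomial.eval (fun p => (K + t • L) p.1 p.2) F := by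
          intro t
          rw [hG, ← Polynomial.coe_evalRingHom, MvPolynomial.eval₂_comp_left]
          refine congrArg₂ (fun a b => MvPolynomial.eval₂ a b F) ?_ ?_
          · ext; simp
          · funext p; simp; ring
        rw [← hK, show (fun p : Fin n × Fin n => K p.1 p.2) = fun p => (K + (0 : k) • L) p.1 p.2 by simp, ← hGe]
        suffices G = 0 by simp [this]
        apply Polynomial.eq_zero_of_infinite_isRoot
        refine Set.Infinite.mono ?_ ((Set.finite_singleton (0 : k)).infinite_compl)
        intro t ht
        have ht0 : t ≠ 0 := ht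
        obtain ⟨h₁, hh₁⟩ : ∃ g, g = t • (1 - P) + P := ⟨_, rfl⟩
        obtain ⟨h₂, hh₂⟩ : ∃ g, g = t⁻¹ • (1 - P) + P := ⟨_, rfl⟩
        have q1 : P * (1 - P) = 0 := by rw [mul_sub, mul_one, hPP, sub_self]
        have q2 : (1 - P) * P = 0 := by rw [sub_mul, one_mul, hPP, sub_self]
        have q3 : (1 - P) * (1 - P) = 1 - P := by rw [sub_mul, one_mul, q1, sub_zero]
        have q4 : M * (1 - P) = 0 := by rw [mul_sub, mul_one, hNP, sub_self]
        have hh : h₁ * h₂ = 1 := by
          rw [hh₁, hh₂]
          simp only [add_mul, mul_add, smul_mul_assoc, mul_smul_comm, q1, q2, q3, hPP, smul_zero, add_zero, zero_add,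
            smul_smul]
          rw [inv_mul_cancel₀ ht0, one_smul, sub_add_cancel]
        have hh' : h₁⁻¹ = h₂ := Matrix.inv_eq_right_inv hh
        have hSh : h₁ * S = S * h₁ := by
          rw [hh₁]
          simp only [add_mul, mul_add, smul_mul_assoc, mul_smul_comm, sub_mul, mul_sub, one_mul, mul_one, hPS.eq]
        have e : h₁ * (S + M) * h₂ = S + (P * M + t • ((1 - P) * M)) := by
          rw [mul_add, add_mul, hSh, mul_assoc S, hh, mul_one, hh₂]
          congr 1
          rw [mul_assoc, mul_add, mul_smul_comm, q4, smul_zero, zero_add, hNP, hh₁, add_mul, smul_mul_assoc]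
          abel
        have hd : IsUnit (A * h₁).det := by
          rw [Matrix.det_mul]
          exact hA.mul (IsUnit.of_mul_eq_one h₂.det (by rw [← Matrix.det_mul, hh, Matrix.det_one]))
        have := h (A * h₁) hd
        rw [Matrix.mul_inv_rev, hh', show A * h₁ * (S + M) * (h₂ * A⁻¹) = A * (h₁ * (S + M) * h₂) * A⁻¹ by
          simp only [mul_assoc], e] at this
        change G.eval t = 0
        rw [hGe, ← this, hK, hL]
        refine congrArg (fun m : Matrix (Fin n) (Fin n) k => MvPolynomial.eval (fun p => m p.1 p.2) F) ?_
        simp only [mul_add, add_mul, mul_smul_comm, smul_mul_assoc, add_assoc]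
  obtain ⟨j, hj⟩ := hN
  exact key j N hSN (by rw [pow_succ, hj, zero_mul]) hF

end Groth.Agent.S19394
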