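-- statement InvQ.GrothFrozen.S19395 (Groth/Statements/S19395.lean; the theorem InvQ.zariskiClosures_conjClass_meet_iff_semisimpleParts_conj);
import Groth.Statements.S19395
import Groth.Agent.S19394
import Mathlib

set_option autoImplicit false
universe u
open InvQ

namespace Groth.Agent.S19395

/-- Over an algebraically closed field, the Zariski closures of the conjugation orbits of two square
matrices B₁, B₂ meet if and only if their semisimple parts lie in one orbit. The semisimple parts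
are given as S_i with B_i = S_i + N_i, S_i semisimple, N_i nilpotent, S_i N_i = N_i S_i; a common
point of the two closures is a matrix C at which every polynomial in the matrix entries vanishing on
the whole orbit of B₁, and every one vanishing on the whole orbit of B₂, vanishes. -/
theorem result (k : Type u) [Field k] [IsAlgClosed k]
    (n : ℕ) (B₁ S₁ N₁ B₂ S₂ N₂ : Matrix (Fin n) (Fin n) k)
    (hS₁ : Module.End.IsSemisimple (Matrix.toLin' S₁)) (hN₁ : IsNilpotent N₁) (hc₁ : Commute S₁ N₁)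
    (hB₁ : B₁ = S₁ + N₁)
    (hS₂ : Module.End.IsSemisimple (Matrix.toLin' S₂)) (hN₂ : IsNilpotent N₂) (hc₂ : Commute S₂ N₂)
    (hB₂ : B₂ = S₂ + N₂) :
    (∃ C : Matrix (Fin n) (Fin n) k,
        (∀ F : MvPolynomial (Fin n × Fin n) k,
          (∀ A : Matrix (Fin n) (Fin n) k, IsUnit A.det →
            MvPolynomial.eval (fun p => (A * B₁ * A⁻¹) p.1 p.2) F = 0) →
          MvPolynomial.eval (fun p => C p.1 p.2) F = 0) ∧
        (∀ F : MvPolynomial (Fin n × Fin n) k,
          (∀ A : Matrix (Fin n) (Fin n) k, IsUnit A.det →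
            MvPolynomial.eval (fun p => (A * B₂ * A⁻¹) p.1 p.2) F = 0) →
          MvPolynomial.eval (fun p => C p.1 p.2) F = 0)) ↔
      ∃ A : Matrix (Fin n) (Fin n) k, IsUnit A.det ∧ A * S₁ * A⁻¹ = S₂ := by
  classical
  -- diagonalisation
  have diag : ∀ S : Matrix (Fin n) (Fin n) k, Module.End.IsSemisimple (Matrix.toLin' S) →
      ∃ (d : Fin n → k) (P : Matrix (Fin n) (Fin n) k), IsUnit P.det ∧ S * P = P * Matrix.diagonal d := by
    intro S hS
    let f : Module.End k (Fin n → k) := Matrix.toLin' S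
    have hint : DirectSum.IsInternal (fun μ : k => f.eigenspace μ) :=
      (DirectSum.isInternal_submodule_iff_iSupIndep_and_iSup_eq_top _).2
        ⟨f.eigenspaces_iSupIndep, hS.iSup_eigenspace_eq_top⟩
    let b₀ := hint.collectedBasis fun μ => Module.Basis.ofVectorSpace k ↥(f.eigenspace μ)
    haveI := FiniteDimensional.fintypeBasisIndex b₀
    let σ := Fintype.equivFinOfCardEq (show Fintype.card (Σ μ : k, Module.Basis.ofVectorSpaceIndex k ↥(f.eigenspace μ)) = n by
      rw [← Module.finrank_eq_card_basis b₀, Module.finrank_fin_fun])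
    let b := b₀.reindex σ
    let d : Fin n → k := fun i => (σ.symm i).1
    let P : Matrix (Fin n) (Fin n) k := Matrix.of fun r c => b c r
    have hP : IsUnit P.det := by
      have hinv : IsUnit ((Pi.basisFun k (Fin n)).toMatrix b).det :=
        (Matrix.isUnit_iff_isUnit_det _).1 ⟨⟨_, b.toMatrix (Pi.basisFun k (Fin n)),
          Module.Basis.toMatrix_mul_toMatrix_flip _ _, Module.Basis.toMatrix_mul_toMatrix_flip _ _⟩, rfl⟩
      rwa [show P = (Pi.basisFun k (Fin n)).toMatrix b by ext r c; simp [P, Module.Basis.toMatrix_apply]]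
    refine ⟨d, P, hP, ?_⟩
    ext r c
    have hmem : b c ∈ f.eigenspace (d c) := by
      rw [show b c = b₀ (σ.symm c) from Module.Basis.reindex_apply _ _ _]
      exact hint.collectedBasis_mem _ (σ.symm c)
    have h := congrFun (Module.End.mem_eigenspace_iff.1 hmem) r
    rw [Matrix.mul_diagonal, Matrix.mul_apply]
    simp only [f, Matrix.toLin'_apply, Matrix.mulVec, dotProduct, Pi.smul_apply, smul_eq_mul] at h
    simp only [P, Matrix.of_apply]
    rw [h, mul_comm]
  -- coefficients of the characteristic polynomial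
  have hev : ∀ (B : Matrix (Fin n) (Fin n) k) (i : ℕ) (c : k),
      MvPolynomial.eval (fun p => B p.1 p.2) ((Matrix.charpoly.univ k (Fin n)).coeff i - MvPolynomial.C c) =
        B.charpoly.coeff i - c := by
    intro B i c
    rw [map_sub, MvPolynomial.eval_C]
    congr 1
    have h := Matrix.charpoly.univ_map_eval₂Hom (n := Fin n) (f := RingHom.id k) (fun p : Fin n × Fin n => B p.1 p.2)
    calc MvPolynomial.eval (fun p => B p.1 p.2) ((Matrix.charpoly.univ k (Fin n)).coeff i)
        = ((Matrix.charpoly.univ k (Fin n)).map (MvPolynomial.eval₂Hom (RingHom.id k) fun p => B p.1 p.2)).coeff i := by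
          rw [Polynomial.coeff_map]; rfl
      _ = B.charpoly.coeff i := by rw [h]; rfl
  have hconj : ∀ (B A : Matrix (Fin n) (Fin n) k), IsUnit A.det → (A * B * A⁻¹).charpoly = B.charpoly := by
    intro B A hA
    rw [Matrix.charpoly_mul_comm, ← mul_assoc, Matrix.nonsing_inv_mul A hA, one_mul]
  have hclos : ∀ (B C : Matrix (Fin n) (Fin n) k),
      (∀ F : MvPolynomial (Fin n × Fin n) k,
          (∀ A : Matrix (Fin n) (Fin n) k, IsUnit A.det →
            MvPolynomial.eval (fun p => (A * B * A⁻¹) p.1 p.2) F = 0) →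
          MvPolynomial.eval (fun p => C p.1 p.2) F = 0) → C.charpoly = B.charpoly := by
    intro B C h
    refine Polynomial.ext fun i => sub_eq_zero.1 ?_
    rw [← hev]
    exact h _ fun A hA => by rw [hev, hconj B A hA, sub_self]
  constructor
  · rintro ⟨C, h₁, h₂⟩
    have e₁ := hclos B₁ S₁ fun F hF => Groth.Agent.S19394.result k n B₁ S₁ N₁ hS₁ hN₁ hc₁ hB₁ F hF
    have e₂ := hclos B₂ S₂ fun F hF => Groth.Agent.S19394.result k n B₂ S₂ N₂ hS₂ hN₂ hc₂ hB₂ F hF
    have hcp : S₁.charpoly = S₂.charpoly := by rw [e₁, e₂, ← hclos B₁ C h₁, ← hclos B₂ C h₂]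
    obtain ⟨d₁, P₁, hP₁, hd₁⟩ := diag S₁ hS₁
    obtain ⟨d₂, P₂, hP₂, hd₂⟩ := diag S₂ hS₂
    have hcd : ∀ (S P : Matrix (Fin n) (Fin n) k) (d : Fin n → k), IsUnit P.det → S * P = P * Matrix.diagonal d →
        S.charpoly = ∏ i, (Polynomial.X - Polynomial.C (d i)) := fun S P d hP hd => by
      rw [← Matrix.charpoly_diagonal, ← hconj (Matrix.diagonal d) P hP, ← hd, mul_assoc, Matrix.mul_nonsing_inv P hP, mul_one]
    rw [hcd S₁ P₁ d₁ hP₁ hd₁, hcd S₂ P₂ d₂ hP₂ hd₂] at hcp
    have hroots := congrArg Polynomial.roots hcp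
    rw [Polynomial.roots_prod _ _ (Finset.prod_ne_zero_iff.2 fun i _ => Polynomial.X_sub_C_ne_zero _),
      Polynomial.roots_prod _ _ (Finset.prod_ne_zero_iff.2 fun i _ => Polynomial.X_sub_C_ne_zero _)] at hroots
    simp only [Polynomial.roots_X_sub_C, Multiset.bind_singleton] at hroots
    obtain ⟨σ, hσ⟩ : ∃ σ : Equiv.Perm (Fin n), d₁ = d₂ ∘ σ := by
      have hperm : ∀ a : k, Fintype.card {i // d₁ i = a} = Fintype.card {i // d₂ i = a} := fun a => by
        rw [Fintype.card_subtype, Fintype.card_subtype]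
        have := congrArg (Multiset.count a) hroots
        rw [Multiset.count_map, Multiset.count_map] at this
        simpa [Finset.card_def, Finset.filter_val, eq_comm] using this
      refine ⟨(Equiv.sigmaFiberEquiv d₁).symm.trans ((Equiv.sigmaCongrRight fun a => Fintype.equivOfCardEq (hperm a)).trans
        (Equiv.sigmaFiberEquiv d₂)), funext fun i => ?_⟩
      simp only [Function.comp_apply, Equiv.trans_apply, Equiv.sigmaFiberEquiv, Equiv.coe_fn_symm_mk, Equiv.sigmaCongrRight_apply,
        Equiv.coe_fn_mk]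
      exact ((Fintype.equivOfCardEq (hperm (d₁ i))) ⟨i, rfl⟩).2.symm
    let W : Matrix (Fin n) (Fin n) k := σ.symm.toPEquiv.toMatrix
    have hW : W * Matrix.diagonal d₁ = Matrix.diagonal d₂ * W := by
      ext r c
      rw [Matrix.mul_diagonal, Matrix.diagonal_mul]
      by_cases h : σ.symm r = c
      · subst h; simp [W, hσ]
      · simp [W, PEquiv.toMatrix_apply, h]
    have hWu : IsUnit W.det := by
      have h1 : W * σ.toPEquiv.toMatrix = 1 := by
        rw [← PEquiv.toMatrix_trans, ← Equiv.toPEquiv_trans, Equiv.symm_trans_self, Equiv.toPEquiv_refl, PEquiv.toMatrix_refl]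
      exact IsUnit.of_mul_eq_one (σ.toPEquiv.toMatrix : Matrix (Fin n) (Fin n) k).det (by rw [← Matrix.det_mul, h1, Matrix.det_one])
    refine ⟨P₂ * W * P₁⁻¹, ?_, ?_⟩
    · rw [Matrix.det_mul, Matrix.det_mul]
      exact (hP₂.mul hWu).mul (Matrix.isUnit_nonsing_inv_det P₁ hP₁)
    · have h1 : P₁⁻¹ * S₁ = Matrix.diagonal d₁ * P₁⁻¹ := by
        have := congrArg (fun M => P₁⁻¹ * M * P₁⁻¹) hd₁
        simp only [← mul_assoc, Matrix.nonsing_inv_mul P₁ hP₁, one_mul] at this
        rwa [mul_assoc (P₁⁻¹ * S₁), Matrix.mul_nonsing_inv P₁ hP₁, mul_one] at this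
      have h2 : P₂ * W * P₁⁻¹ * S₁ = S₂ * (P₂ * W * P₁⁻¹) := by
        rw [mul_assoc (P₂ * W), h1, ← mul_assoc, mul_assoc P₂ W, hW, ← mul_assoc P₂, ← hd₂]
        simp only [mul_assoc]
      rw [h2, mul_assoc, Matrix.mul_nonsing_inv _ (by
        rw [Matrix.det_mul, Matrix.det_mul]
        exact (hP₂.mul hWu).mul (Matrix.isUnit_nonsing_inv_det P₁ hP₁)), mul_one]
  · rintro ⟨A₀, hA₀, hA⟩
    refine ⟨S₂, fun F hF => ?_, fun F hF => Groth.Agent.S19394.result k n B₂ S₂ N₂ hS₂ hN₂ hc₂ hB₂ F hF⟩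
    let G : MvPolynomial (Fin n × Fin n) k := MvPolynomial.bind₁
      (fun p : Fin n × Fin n => ∑ r, ∑ c, MvPolynomial.C (A₀ p.1 r * A₀⁻¹ c p.2) * MvPolynomial.X (r, c)) F
    have hG : ∀ M : Matrix (Fin n) (Fin n) k,
        MvPolynomial.eval (fun p => M p.1 p.2) G = MvPolynomial.eval (fun p => (A₀ * M * A₀⁻¹) p.1 p.2) F := by
      intro M
      simp only [G, ← MvPolynomial.aeval_eq_eval, MvPolynomial.aeval_bind₁]
      refine congrArg (fun v => MvPolynomial.aeval v F) (funext fun p => ?_)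
      simp only [map_sum, map_mul, MvPolynomial.aeval_C, MvPolynomial.aeval_X, Matrix.mul_apply,
        Finset.sum_mul, Algebra.algebraMap_self, RingHom.id_apply]
      rw [Finset.sum_comm]
      exact Finset.sum_congr rfl fun c _ => Finset.sum_congr rfl fun r _ => by ring
    have h := Groth.Agent.S19394.result k n B₁ S₁ N₁ hS₁ hN₁ hc₁ hB₁ G fun A hA' => by
      rw [hG, show A₀ * (A * B₁ * A⁻¹) * A₀⁻¹ = (A₀ * A) * B₁ * (A₀ * A)⁻¹ by
        rw [Matrix.mul_inv_rev]; simp only [mul_assoc]]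
      exact hF _ (by rw [Matrix.det_mul]; exact hA₀.mul hA')
    rwa [hG, hA] at h

end Groth.Agent.S19395
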