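import Groth.Statements.S19397
import Groth.Agent.FunFldLib.GenusOne
import Groth.Agent.FunFldLib.Cor
import Groth.Agent.FunFldLib.Galois

set_option autoImplicit false
universe u v
open FunFld

namespace Groth.Agent.S19397

open Groth.Agent.FunFldLib WithZero Polynomial in
theorem exists_auto {k K : Type*} [Field k] [Field K] [Algebra k K] [IsAlgClosed k]
    (hK : FunFld.IsFunctionField k K) (P : FunFld.Place k K) (a b u : k) (hu : u ≠ 0)
    (hua : u ^ 4 * a = a) (hub : u ^ 6 * b = b) (x y : K)
    (heq : y ^ 2 = x ^ 3 + algebraMap k K a * x + algebraMap k K b)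
    (hxy : IntermediateField.adjoin k ({x, y} : Set K) = ⊤)
    (hx : x ∈ FunFld.L (Finsupp.single P 2)) (hx2 : P.ord x = -2) :
    ∃ σ : K ≃ₐ[k] K, σ x = algebraMap k K (u ^ 2) * x ∧ σ y = algebraMap k K (u ^ 3) * y ∧
      ∀ z, P.1 (σ z) = P.1 z := by
  classical
  have hx0 : x ≠ 0 := fun h => by rw [h, ord_zero] at hx2; omega
  have hPd := deg_eq_one hK P
  have hT : Transcendental k x := transcendental_of_ord_ne_zero hK (P := P) (by omega)
  set x' := algebraMap k K (u ^ 2) * x with hx'
  set y' := algebraMap k K (u ^ 3) * y with hy'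
  have hu2 : algebraMap k K (u ^ 2) ≠ 0 := (_root_.map_ne_zero _).2 (pow_ne_zero _ hu)
  have hx'ord : P.ord x' = -2 := by rw [hx', ord_mul P hu2 hx0, ord_algebraMap, hx2, zero_add]
  have hT' : Transcendental k x' := transcendental_of_ord_ne_zero hK (P := P) (by omega)
  set F := IntermediateField.adjoin k ({x} : Set K) with hF
  let i : F →ₐ[k] K :=
    (IntermediateField.adjoin k ({x'} : Set K)).val.comp
      ((RatFunc.algEquivOfTranscendental x' hT').toAlgHom.comp (RatFunc.algEquivOfTranscendental x hT).symm.toAlgHom)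
  have hi : i (IntermediateField.AdjoinSimple.gen k x) = x' := by
    show ((RatFunc.algEquivOfTranscendental x' hT')
      ((RatFunc.algEquivOfTranscendental x hT).symm (IntermediateField.AdjoinSimple.gen k x)) : K) = x'
    erw [RatFunc.algEquivOfTranscendental_symm_gen]
    exact RatFunc.algEquivOfTranscendental_X x' hT'
  have hfr : Module.finrank F K = 2 := by
    have := finrank_eq_of_one_pole hK (P := P) (x := x) (m := 2) (by norm_num) hx (by omega)
    rw [hPd] at this
    push_cast at this
    exact_mod_cast this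
  haveI : FiniteDimensional F K := FiniteDimensional.of_finrank_pos (by omega)
  have hint : IsIntegral F y := Algebra.IsIntegral.isIntegral y
  have htop : IntermediateField.adjoin F ({y} : Set K) = ⊤ := by
    rw [← IntermediateField.restrictScalars_eq_top_iff (K := k), hF, IntermediateField.adjoin_adjoin_left]
    rw [Set.singleton_union]; exact hxy
  have hdeg : (minpoly F y).natDegree = 2 := by
    rw [← IntermediateField.adjoin.finrank hint, htop, IntermediateField.finrank_top', hfr]
  set g : F := IntermediateField.AdjoinSimple.gen k x with hg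
  set p : F[X] := X ^ 2 - C (g ^ 3 + algebraMap k F a * g + algebraMap k F b) with hp
  have hpd : p.natDegree = 2 := by rw [hp, natDegree_X_pow_sub_C]
  have hmin : minpoly F y = p := by
    have hpm : p.Monic := by rw [hp]; exact monic_X_pow_sub_C _ (by norm_num)
    refine (Polynomial.eq_of_monic_of_dvd_of_natDegree_le (minpoly.monic hint) hpm (minpoly.dvd F y ?_) (by omega)).symm
    simp [hp, hg, heq, ← IsScalarTower.algebraMap_apply]
  have h0 : (minpoly F y).eval₂ (i : F →+* K) y' = 0 := by
    rw [hmin, hp, eval₂_sub, eval₂_X_pow, eval₂_C]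
    show y' ^ 2 - i (g ^ 3 + algebraMap k F a * g + algebraMap k F b) = 0
    rw [map_add, map_add, map_mul, map_pow, hi, AlgHom.commutes, AlgHom.commutes, hx', hy', mul_pow, ← map_pow, heq]
    have e1 : algebraMap k K ((u ^ 3) ^ 2) * algebraMap k K a = algebraMap k K (u ^ 2) * algebraMap k K a := by
      rw [← map_mul, ← map_mul]; congr 1; linear_combination u ^ 2 * hua
    have e2 : algebraMap k K ((u ^ 3) ^ 2) * algebraMap k K b = algebraMap k K b := by
      rw [← map_mul]; congr 1; linear_combination hub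
    simp only [map_pow] at e1 e2 ⊢
    linear_combination x * e1 + e2
  let e : AdjoinRoot (minpoly F y) ≃ₐ[F] K :=
    (IntermediateField.adjoinRootEquivAdjoin F hint).trans
      ((IntermediateField.equivOfEq htop).trans IntermediateField.topEquiv)
  let φ : K →ₐ[k] K := (AdjoinRoot.liftAlgHom (minpoly F y) i y' h0).comp (e.symm.toAlgHom.restrictScalars k)
  have hey : e.symm y = AdjoinRoot.root (minpoly F y) := by
    rw [AlgEquiv.symm_apply_eq]
    simp [e, IntermediateField.adjoinRootEquivAdjoin_apply_root]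
  have hφy : φ y = y' := by
    show AdjoinRoot.liftAlgHom (minpoly F y) i y' h0 (e.symm y) = y'
    rw [hey]
    simp
  have hφx : φ x = x' := by
    have : e.symm x = AdjoinRoot.of (minpoly F y) g := by
      conv_lhs => rw [show x = algebraMap F K g from rfl]
      rw [AlgEquiv.commutes]; rfl
    show AdjoinRoot.liftAlgHom (minpoly F y) i y' h0 (e.symm x) = x'
    rw [this]
    simp [hi]
  have hsur : Function.Surjective φ := by
    intro z
    have hle : IntermediateField.adjoin k ({x, y} : Set K) ≤ φ.fieldRange := by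
      rw [IntermediateField.adjoin_le_iff]
      rintro w (rfl | rfl)
      · refine ⟨algebraMap k K (u ^ 2)⁻¹ * w, ?_⟩
        show φ (_ * _) = w
        rw [map_mul, AlgHom.commutes, hφx, hx', ← mul_assoc, ← map_mul, inv_mul_cancel₀ (pow_ne_zero _ hu), map_one, one_mul]
      · refine ⟨algebraMap k K (u ^ 3)⁻¹ * w, ?_⟩
        show φ (_ * _) = w
        rw [map_mul, AlgHom.commutes, hφy, hy', ← mul_assoc, ← map_mul, inv_mul_cancel₀ (pow_ne_zero _ hu), map_one, one_mul]
    rw [hxy] at hle
    exact hle (IntermediateField.mem_top (x := z))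
  refine ⟨AlgEquiv.ofBijective φ ⟨φ.toRingHom.injective, hsur⟩, hφx, hφy, fun z => ?_⟩
  set σ := AlgEquiv.ofBijective φ ⟨φ.toRingHom.injective, hsur⟩ with hσ
  have hQ : twist σ P = P := by
    by_contra hne
    rw [mem_L_single_iff P hx0] at hx
    have h1 := hx.2 _ hne
    have h2 : (twist σ P).ord x = P.ord x' := by
      rw [FunFld.Place.ord, FunFld.Place.ord, twist_val, show σ x = x' from hφx]
    omega
  rw [← twist_val, hQ]

open Groth.Agent.FunFldLib WithZero in
theorem li6 {k K : Type*} [Field k] [Field K] [Algebra k K] (P : FunFld.Place k K) {x y : K}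
    (hx2 : P.ord x = -2) (hy3 : P.ord y = -3) {c : Fin 6 → k}
    (h : algebraMap k K (c 0) + algebraMap k K (c 1) * x + algebraMap k K (c 2) * x ^ 2
      + algebraMap k K (c 3) * x ^ 3 + algebraMap k K (c 4) * y + algebraMap k K (c 5) * (x * y) = 0) :
    ∀ i, c i = 0 := by
  have hx0 : x ≠ 0 := fun h => by rw [h, ord_zero] at hx2; omega
  have hy0 : y ≠ 0 := fun h => by rw [h, ord_zero] at hy3; omega
  have hl := linearIndependent_of_ord_injective P ![1, x, x ^ 2, x ^ 3, y, x * y]
    (by intro i; fin_cases i <;> simp [hx0, hy0]) (by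
      intro i j hij
      fin_cases i <;> fin_cases j <;> simp [ord_pow, ord_mul P hx0 hy0, hx2, hy3] at hij ⊢)
  rw [Fintype.linearIndependent_iff] at hl
  refine hl c ?_
  simpa [Fin.sum_univ_succ, Algebra.smul_def, add_assoc] using h

open Groth.Agent.FunFldLib WithZero in
theorem auto_eq {k K : Type*} [Field k] [Field K] [Algebra k K] [IsAlgClosed k] (h2 : (2 : k) ≠ 0) (h3 : (3 : k) ≠ 0)
    (hK : FunFld.IsFunctionField k K) (hgen : FunFld.genus k K = 1) (P : FunFld.Place k K) (a b : k) (x y : K)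
    (heq : y ^ 2 = x ^ 3 + algebraMap k K a * x + algebraMap k K b)
    (hx : x ∈ FunFld.L (Finsupp.single P 2)) (hx2 : P.ord x = -2)
    (hy : y ∈ FunFld.L (Finsupp.single P 3)) (hy3 : P.ord y = -3)
    (σ : K ≃ₐ[k] K) (hσ : ∀ z : K, P.1 (σ z) = P.1 z) :
    ∃ u : k, u ≠ 0 ∧ u ^ 4 * a = a ∧ u ^ 6 * b = b ∧
      σ x = algebraMap k K (u ^ 2) * x ∧ σ y = algebraMap k K (u ^ 3) * y := by
  classical
  have hPd := deg_eq_one hK P
  have hx0 : x ≠ 0 := fun h => by rw [h, ord_zero] at hx2; omega
  have hy0 : y ≠ 0 := fun h => by rw [h, ord_zero] at hy3; omega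
  have hmap : ∀ (n : ℤ), 0 ≤ n → ∀ z : K, z ∈ FunFld.L (Finsupp.single P n) → σ z ∈ FunFld.L (Finsupp.single P n) := by
    intro n hn z hz Q
    rcases eq_or_ne Q P with rfl | hQ
    · rw [hσ]; exact hz Q
    · have hne : twist σ Q ≠ P := by
        intro h
        apply hQ
        refine Subtype.ext (Valuation.ext fun w => ?_)
        have : (twist σ Q).1 (σ.symm w) = P.1 (σ.symm w) := by rw [h]
        rw [twist_val, σ.apply_symm_apply] at this
        rw [this, ← hσ, σ.apply_symm_apply]
      have := hz (twist σ Q)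
      rw [Finsupp.single_eq_of_ne hne, twist_val] at this
      rwa [Finsupp.single_eq_of_ne hQ]
  obtain ⟨_, hs2⟩ := genus_one_basis hK hgen hPd hx hx2 hy hy3 (n := 2) le_rfl
  obtain ⟨_, hs3⟩ := genus_one_basis hK hgen hPd hx hx2 hy hy3 (n := 3) (by norm_num)
  have h2m := hmap 2 (by norm_num) x hx
  have h3m := hmap 3 (by norm_num) y hy
  rw [show ((2 : ℕ) : ℤ) = 2 from rfl] at hs2
  rw [show ((3 : ℕ) : ℤ) = 3 from rfl] at hs3
  rw [← hs2, Submodule.mem_span_range_iff_exists_fun] at h2m
  rw [← hs3, Submodule.mem_span_range_iff_exists_fun] at h3m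
  obtain ⟨c, hc⟩ := h2m
  obtain ⟨d, hd⟩ := h3m
  simp [Fin.sum_univ_succ, Fintype.sum_sum_type, Algebra.smul_def] at hc hd
  set α := c (Sum.inl 1) with hα
  set β := c (Sum.inl 0) with hβ
  set γ := d (Sum.inr 0) with hγ
  set δ := d (Sum.inl 1) with hδ
  set ε := d (Sum.inl 0) with hε
  have h := congrArg σ heq
  simp only [map_add, map_mul, map_pow, AlgEquiv.commutes] at h
  rw [← hc, ← hd] at h
  have hh := li6 P hx2 hy3 (c := ![γ ^ 2 * b + ε ^ 2 - β ^ 3 - a * β - b,
      γ ^ 2 * a + 2 * δ * ε - 3 * α * β ^ 2 - a * α, δ ^ 2 - 3 * α ^ 2 * β, γ ^ 2 - α ^ 3, 2 * γ * ε, 2 * γ * δ]) (by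
    simp only [Matrix.cons_val, map_sub, map_add, map_mul, map_pow, map_ofNat]
    linear_combination h - (algebraMap k K γ) ^ 2 * heq)
  have k0 := hh 0; have k1 := hh 1; have k2 := hh 2; have k3 := hh 3; have k4 := hh 4; have k5 := hh 5
  simp only [Matrix.cons_val] at k0 k1 k2 k3 k4 k5
  have hα0 : α ≠ 0 := by
    intro h0
    rw [h0, map_zero, zero_mul, add_zero] at hc
    have : σ x = σ (algebraMap k K β) := by rw [AlgEquiv.commutes]; exact hc.symm
    rw [σ.injective this, ord_algebraMap] at hx2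
    omega
  have hγ0 : γ ≠ 0 := fun h0 => hα0 (pow_eq_zero_iff (by norm_num : (3 : ℕ) ≠ 0) |>.1 (by linear_combination γ * h0 - k3))
  have hδ0 : δ = 0 := by
    rcases mul_eq_zero.1 k5 with h | h
    · exact absurd h (mul_ne_zero h2 hγ0)
    · exact h
  have hε0 : ε = 0 := by
    rcases mul_eq_zero.1 k4 with h | h
    · exact absurd h (mul_ne_zero h2 hγ0)
    · exact h
  have hβ0 : β = 0 := by
    rw [hδ0] at k2
    have : 3 * α ^ 2 * β = 0 := by linear_combination -k2
    rcases mul_eq_zero.1 this with h | h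
    · exact absurd h (mul_ne_zero h3 (pow_ne_zero _ hα0))
    · exact h
  rw [hδ0, hβ0] at k1
  rw [hε0, hβ0] at k0
  rw [hβ0, map_zero, zero_add] at hc
  rw [hδ0, hε0, map_zero, zero_mul, add_zero, zero_add] at hd
  refine ⟨γ / α, div_ne_zero hγ0 hα0, ?_, ?_, ?_, ?_⟩
  · field_simp
    linear_combination a * γ ^ 2 * k3 + α ^ 3 * k1
  · field_simp
    linear_combination γ ^ 4 * k0 + b * (γ ^ 2 + α ^ 3) * k3
  · rw [← hc]; congr 2; field_simp; linear_combination -k3
  · rw [← hd]; congr 2; field_simp; first | linear_combination -γ * k3 | linear_combination -k3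

theorem card_roots {k : Type*} [Field k] [IsAlgClosed k] (n : ℕ) (hn : (n : k) ≠ 0) :
    Nat.card {u : k // u ^ n = 1} = n := by
  classical
  haveI : NeZero (n : k) := ⟨hn⟩
  haveI : NeZero n := NeZero.of_neZero_natCast k
  obtain ⟨ζ, hζ⟩ := HasEnoughRootsOfUnity.exists_primitiveRoot k n
  have : {u : k | u ^ n = 1} = (Polynomial.nthRootsFinset n (1 : k) : Set k) := by
    ext u; simp [Polynomial.mem_nthRootsFinset (NeZero.pos n)]
  rw [show {u : k // u ^ n = 1} = ↥{u : k | u ^ n = 1} from rfl, this, Nat.card_coe_set_eq, Set.ncard_coe_finset]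
  exact hζ.card_nthRootsFinset

open Classical in
/-- Over an algebraically closed field of characteristic different from 2 and 3, the automorphism group
of an elliptic curve (automorphisms fixing the base point) with invariant j has order 2 if j ≠ 0,
12³, order 4 if j = 12³ and order 6 if j = 0. Stated for the function field K/k of the curve: K of
genus 1 generated by x, y with y² = x³ + a x + b and 4a³ + 27b² ≠ 0, P the place where x has its
double and y its triple pole (and no other poles), so that j = 12³ · 4a³/(4a³ + 27b²) and the three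
cases are a, b ≠ 0; b = 0; a = 0; the automorphisms are the k-algebra automorphisms of K preserving
the valuation of P. -/
theorem result (k : Type u) (K : Type v) [Field k]
    [IsAlgClosed k] [Field K] [Algebra k K] (h2 : (2 : k) ≠ 0) (h3 : (3 : k) ≠ 0)
    (hK : FunFld.IsFunctionField k K) (hgen : FunFld.genus k K = 1) (P : FunFld.Place k K)
    (a b : k) (hdisc : 4 * a ^ 3 + 27 * b ^ 2 ≠ 0) (x y : K)
    (heq : y ^ 2 = x ^ 3 + algebraMap k K a * x + algebraMap k K b)
    (hxy : IntermediateField.adjoin k ({x, y} : Set K) = ⊤)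
    (hx : x ∈ FunFld.L (Finsupp.single P 2)) (hx2 : P.ord x = -2)
    (hy : y ∈ FunFld.L (Finsupp.single P 3)) (hy3 : P.ord y = -3) :
    Nat.card {σ : K ≃ₐ[k] K // ∀ z : K, P.1 (σ z) = P.1 z} =
      if a = 0 then 6 else if b = 0 then 4 else 2 := by
  classical
  have hx0 : x ≠ 0 := fun h => by rw [h, FunFldLib.ord_zero] at hx2; omega
  have hy0 : y ≠ 0 := fun h => by rw [h, FunFldLib.ord_zero] at hy3; omega
  let G := {σ : K ≃ₐ[k] K // ∀ z : K, P.1 (σ z) = P.1 z}
  let f : {u : k // u ≠ 0 ∧ u ^ 4 * a = a ∧ u ^ 6 * b = b} → G := fun u =>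
    ⟨(exists_auto hK P a b u.1 u.2.1 u.2.2.1 u.2.2.2 x y heq hxy hx hx2).choose,
      (exists_auto hK P a b u.1 u.2.1 u.2.2.1 u.2.2.2 x y heq hxy hx hx2).choose_spec.2.2⟩
  have hf : ∀ u, (f u).1 x = algebraMap k K (u.1 ^ 2) * x ∧ (f u).1 y = algebraMap k K (u.1 ^ 3) * y := fun u =>
    ⟨(exists_auto hK P a b u.1 u.2.1 u.2.2.1 u.2.2.2 x y heq hxy hx hx2).choose_spec.1,
      (exists_auto hK P a b u.1 u.2.1 u.2.2.1 u.2.2.2 x y heq hxy hx hx2).choose_spec.2.1⟩
  have hbij : Function.Bijective f := by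
    refine ⟨fun u v h => ?_, fun σ => ?_⟩
    · have hu := hf u
      rw [h, (hf v).1, (hf v).2] at hu
      have e2 := (algebraMap k K).injective (mul_right_cancel₀ hx0 hu.1)
      have e3 := (algebraMap k K).injective (mul_right_cancel₀ hy0 hu.2)
      apply Subtype.ext
      have := pow_ne_zero 2 u.2.1
      apply mul_left_cancel₀ this
      calc u.1 ^ 2 * u.1 = u.1 ^ 3 := by ring
        _ = v.1 ^ 3 := e3.symm
        _ = v.1 ^ 2 * v.1 := by ring
        _ = u.1 ^ 2 * v.1 := by rw [e2]
    · obtain ⟨u, hu0, hua, hub, hux, huy⟩ := auto_eq h2 h3 hK hgen P a b x y heq hx hx2 hy hy3 σ.1 σ.2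
      refine ⟨⟨u, hu0, hua, hub⟩, Subtype.ext (AlgEquiv.ext fun z => ?_)⟩
      have hz : z ∈ IntermediateField.adjoin k ({x, y} : Set K) := hxy ▸ IntermediateField.mem_top
      induction hz using IntermediateField.adjoin_induction with
      | mem w hw =>
        rcases hw with rfl | rfl
        · rw [(hf _).1, hux]
        · rw [(hf _).2, huy]
      | algebraMap c => simp
      | add p q _ _ hp hq => rw [map_add, map_add, hp, hq]
      | inv p _ hp => rw [map_inv₀, map_inv₀, hp]
      | mul p q _ _ hp hq => rw [map_mul, map_mul, hp, hq]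
  rw [← Nat.card_congr (Equiv.ofBijective f hbij)]
  split_ifs with ha hb
  · subst ha
    have hb : b ≠ 0 := fun h => hdisc (by rw [h]; ring)
    refine (Nat.card_congr (Equiv.subtypeEquivRight fun u => ?_)).trans (card_roots (k := k) 6 (by push_cast; rw [show (6 : k) = 2 * 3 by norm_num]; exact mul_ne_zero h2 h3))
    refine ⟨fun h => (mul_eq_right₀ hb).1 h.2.2, fun h => ⟨fun h0 => by simp [h0] at h, by simp, by rw [h, one_mul]⟩⟩
  · subst hb
    refine (Nat.card_congr (Equiv.subtypeEquivRight fun u => ?_)).trans (card_roots (k := k) 4 (by push_cast; rw [show (4 : k) = 2 * 2 by norm_num]; exact mul_ne_zero h2 h2))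
    refine ⟨fun h => (mul_eq_right₀ ha).1 h.2.1, fun h => ⟨fun h0 => by simp [h0] at h, by rw [h, one_mul], by simp⟩⟩
  · rw [← card_roots (k := k) 2 (by exact_mod_cast h2)]
    refine Nat.card_congr (Equiv.subtypeEquivRight fun u => ?_)
    refine ⟨fun h => ?_, fun h => ⟨fun h0 => by simp [h0] at h, by linear_combination (u ^ 2 + 1) * a * h,
      by linear_combination (u ^ 4 + u ^ 2 + 1) * b * h⟩⟩
    have e4 := (mul_eq_right₀ ha).1 h.2.1
    have e6 := (mul_eq_right₀ hb).1 h.2.2
    linear_combination e6 - u ^ 2 * e4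

end Groth.Agent.S19397
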