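import Groth.Statements.S19400
import Groth.Agent.LinRed.Orbit

set_option autoImplicit false
universe u
open GIT

namespace Groth.Agent.S19400

open TensorProduct


/-- For a reductive group G (here: every finite-dimensional representation completely reducible, i.e.
linearly reductive; any characteristic) acting on an affine variety X = Spec R over an algebraically
closed field with all orbits of closed points closed, the morphism X → Y = Spec R^G is a geometric
quotient; in particular it is surjective on closed points and its fibre over every closed point of Y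
is a single orbit. This row states those two point-set assertions in coaction form: G = Spec A with
A a finitely generated commutative Hopf algebra whose finite-dimensional comodules are semisimple, R
of finite type with a multiplicative unital coaction, points as k-algebra maps. The published
statement takes X to be a variety (reduced and irreducible); this row does not assume R reduced or a
domain. -/
theorem result (k : Type u) [Field k] [IsAlgClosed k]
    (A : Type u) [CommRing A] [HopfAlgebra k A] [Algebra.FiniteType k A]
    (hG : HopfRep.IsLinearlyReductive k A)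
    (R : Type u) [CommRing R] [Algebra k R] [Algebra.FiniteType k R]
    [HopfRep.Comod k A R] [GLin.IsCoactAlg k A R]
    (hcl : ∀ x : R →ₐ[k] k, GLin.IsClosedOrbit k A x)
    (y : GLin.invariants k A R →ₐ[k] k) :
    (∃ x : R →ₐ[k] k, x.comp (GLin.invariants k A R).val = y) ∧
      ∀ x x' : R →ₐ[k] k, x.comp (GLin.invariants k A R).val = y →
        x'.comp (GLin.invariants k A R).val = y →
          ∃ g : A →ₐ[k] k, x' = GLin.actPt k g x := by
  obtain ⟨α, hα⟩ := Groth.Agent.LinRed.exists_isNormIntegral hG
  refine ⟨?_, fun x x' hx hx' => ?_⟩
  · have hne : Ideal.map (GLin.invariants k A R).val.toRingHom (RingHom.ker y) ≠ ⊤ := fun h => by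
      have h1 := Groth.Agent.LinRed.ideal_comap_map hα (RingHom.ker y)
      rw [h, Ideal.comap_top] at h1
      exact RingHom.ker_ne_top y.toRingHom h1.symm
    obtain ⟨x, hx⟩ := Groth.Agent.LinRed.exists_point_of_ne_top (k := k) _ hne
    refine ⟨x, AlgHom.ext fun c => ?_⟩
    have h : c - algebraMap k _ (y c) ∈ RingHom.ker y := by simp [RingHom.mem_ker]
    have h1 := hx (Ideal.mem_map_of_mem _ h)
    rw [RingHom.mem_ker] at h1
    simpa [sub_eq_zero] using h1
  · obtain ⟨z, hz, hz'⟩ := (Groth.Agent.LinRed.comp_invariants_eq_iff hα x x').1 (hx.trans hx'.symm)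
    have key : ∀ p : R →ₐ[k] k, GLin.InOrbitClosure k A p z → ∃ g : A →ₐ[k] k, GLin.actPt k g p = z := by
      intro p hp
      have hmem : (⟨RingHom.ker z, RingHom.ker_isPrime _⟩ : PrimeSpectrum R) ∈
          closure (Set.range (PrimeSpectrum.comap (GLin.orbitHom k A p).toRingHom)) := by
        rw [PrimeSpectrum.closure_range_comap, PrimeSpectrum.mem_zeroLocus]
        exact hp
      rw [(hcl p).closure_eq] at hmem
      obtain ⟨Q, hQ⟩ := hmem
      obtain ⟨g, hg⟩ := Groth.Agent.LinRed.exists_point_of_ne_top (k := k) (R := A) Q.asIdeal Q.isPrime.ne_top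
      refine ⟨g, AlgHom.ext fun f => ?_⟩
      have h : f - algebraMap k R (z f) ∈ (PrimeSpectrum.comap (GLin.orbitHom k A p).toRingHom Q).asIdeal := by
        rw [hQ]; simp [RingHom.mem_ker]
      have h1 := hg h
      rw [RingHom.mem_ker] at h1
      simpa [GLin.actPt, sub_eq_zero] using h1
    obtain ⟨g, hg⟩ := key x hz
    obtain ⟨g', hg'⟩ := key x' hz'
    refine ⟨((WithConv.toConv g) * (WithConv.toConv g')⁻¹).ofConv, ?_⟩
    have hact : ∀ (p : R →ₐ[k] k) (g h : WithConv (A →ₐ[k] k)),
        GLin.actPt k (g * h).ofConv p = GLin.actPt k h.ofConv (GLin.actPt k g.ofConv p) := by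
      intro p g h
      apply AlgHom.ext
      intro f
      show (g * h).ofConv (GLin.orbitHom k A p f) = h.ofConv (GLin.orbitHom k A (GLin.actPt k g.ofConv p) f)
      rw [Groth.Agent.LinRed.orbitHom_eq_slL (GLin.actPt k g.ofConv p), AlgHom.convMul_apply]
      have hco : (GLin.orbitHom k A p).toLinearMap.rTensor A (HopfRep.Comod.coact (k := k) (A := A) f) =
          Coalgebra.comul (R := k) (GLin.orbitHom k A p f) :=
        Groth.Agent.Comod.ext_slR fun φ => by
          rw [Groth.Agent.Comod.slR_rTensor, ← Groth.Agent.Comod.actL_apply, AlgHom.toLinearMap_apply,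
            Groth.Agent.LinRed.orbitHom_actL]
      rw [← hco]
      generalize HopfRep.Comod.coact (k := k) (A := A) f = w
      induction w with
      | zero => simp
      | tmul s t => simp [GLin.actPt]
      | add y z hy hz => simp only [map_add, hy, hz]
    have h2 := hact x' (WithConv.toConv g') (WithConv.toConv g')⁻¹
    rw [mul_inv_cancel] at h2
    have h3 : GLin.actPt k (1 : WithConv (A →ₐ[k] k)).ofConv x' = x' := AlgHom.ext fun f => by
      show Coalgebra.counit (R := k) (GLin.orbitHom k A x' f) = x' f
      have h' : ∀ w : R ⊗[k] A, Coalgebra.counit (R := k) (Groth.Agent.Comod.slL x'.toLinearMap w) =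
          x' (Groth.Agent.Comod.slR (Coalgebra.counit (R := k)) w) := by
        intro w
        induction w with
        | zero => simp
        | tmul p q => simp [mul_comm]
        | add y z hy hz => simp only [map_add, hy, hz]
      rw [Groth.Agent.LinRed.orbitHom_eq_slL, h', ← Groth.Agent.Comod.actL_apply, Groth.Agent.Comod.actL_counit]
    rw [hact, show GLin.actPt k (WithConv.toConv g).ofConv x = z from hg, ← hg']
    exact (h3.symm.trans h2)

end Groth.Agent.S19400
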