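import Groth.Statements.S19401
import Groth.Agent.LinRed.OrbitClosure
import Groth.Agent.SmoothReduced.Basic

set_option autoImplicit false
universe u
open TensorProduct
open GLin

namespace Groth.Agent.S19401

open TensorProduct


/-- Suppose the field k is algebraically closed and has characteristic zero. Take A to be a finitely
generated commutative Hopf algebra over k (an affine algebraic group G), and take S and R to be
finitely generated commutative k-algebras, each equipped with a multiplicative A-coaction (so G acts
on Y = Spec S and on X = Spec R). Assume S → R is a finite algebra map respecting the coactions (a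
G-morphism X → Y). Given a k-point x of X whose image in Y is y, the orbit of x is closed (meaning
its orbit morphism Spec A → Spec R has closed image) exactly when the orbit of y is closed. (This is
the affine version of the source's result about G-morphisms of varieties.) -/
theorem result (k : Type u) [Field k] [IsAlgClosed k] [CharZero k]
    (A : Type u) [CommRing A] [HopfAlgebra k A] [Algebra.FiniteType k A]
    (S : Type u) [CommRing S] [Algebra k S] [Algebra.FiniteType k S] [HopfRep.Comod k A S] [GLin.IsCoactAlg k A S]
    (R : Type u) [CommRing R] [Algebra k R] [Algebra.FiniteType k R] [HopfRep.Comod k A R] [GLin.IsCoactAlg k A R]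
    [Algebra S R] [IsScalarTower k S R] [Module.Finite S R]
    (hequiv : ∀ s : S, HopfRep.Comod.coact (k := k) (A := A) (algebraMap S R s) =
      Algebra.TensorProduct.map (IsScalarTower.toAlgHom k S R) (AlgHom.id k A) (HopfRep.Comod.coact (k := k) (A := A) s))
    (x : R →ₐ[k] k) :
    GLin.IsClosedOrbit k A x ↔ GLin.IsClosedOrbit k A (x.comp (IsScalarTower.toAlgHom k S R)) := by
  classical
  let φ : S →ₐ[k] R := IsScalarTower.toAlgHom k S R
  let y : S →ₐ[k] k := x.comp φ
  have horb : ∀ s, GLin.orbitHom k A y s = GLin.orbitHom k A x (φ s) := by
    intro s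
    rw [Groth.Agent.LinRed.orbitHom_eq_slL, Groth.Agent.LinRed.orbitHom_eq_slL]
    rw [show φ s = algebraMap S R s from rfl, hequiv s]
    generalize HopfRep.Comod.coact (k := k) (A := A) s = z
    induction z with
    | zero => simp
    | tmul p q => simp [y, φ]
    | add p q hp hq => simp only [map_add, hp, hq]
  have hcomp : (GLin.orbitHom k A y).toRingHom = (GLin.orbitHom k A x).toRingHom.comp (algebraMap S R) :=
    RingHom.ext horb
  show GLin.IsClosedOrbit k A x ↔ GLin.IsClosedOrbit k A y
  constructor
  · intro hcl
    show IsClosed _
    rw [hcomp, PrimeSpectrum.comap_comp, Set.range_comp]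
    exact PrimeSpectrum.isClosedMap_comap_of_isIntegral _
      (algebraMap_isIntegral_iff.2 inferInstance) _ hcl
  · intro hcl
    haveI : Algebra.Smooth k A := Groth.Agent.LinRed.smooth_of_hopfAlgebra_charZero k A
    haveI : _root_.IsReduced A := Groth.Agent.SmoothReduced.isReduced_of_smooth k A
    let B := (GLin.orbitHom k A x).range
    let C := (GLin.orbitHom k A y).range
    have hstab : ∀ (T : Type u) [CommRing T] [Algebra k T] [HopfRep.Comod k A T] [GLin.IsCoactAlg k A T]
        (z : T →ₐ[k] k) (γ : WithConv (A →ₐ[k] k)) (b : (GLin.orbitHom k A z).range),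
        Groth.Agent.LinRed.transR γ (b : A) ∈ (GLin.orbitHom k A z).range := by
      rintro T _ _ _ _ z γ ⟨_, r, rfl⟩
      exact ⟨Groth.Agent.Comod.actL γ.ofConv.toLinearMap r, by
        show GLin.orbitHom k A z _ = Groth.Agent.LinRed.transR γ (GLin.orbitHom k A z r)
        rw [Groth.Agent.LinRed.orbitHom_actL, Groth.Agent.LinRed.transR_apply]⟩
    haveI := Groth.Agent.LinRed.faithfullyFlat_range_orbitHom y hcl
    have hsurj : Function.Surjective (PrimeSpectrum.comap (algebraMap B A)) := by
      refine Groth.Agent.LinRed.comap_surjective_of_integral B C ?_ ?_ (hstab R x) (hstab S y) ?_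
        PrimeSpectrum.comap_surjective_of_faithfullyFlat
      · rintro _ ⟨s, rfl⟩
        exact ⟨φ s, (horb s).symm⟩
      · exact Algebra.FiniteType.of_surjective (GLin.orbitHom k A x).rangeRestrict
          (GLin.orbitHom k A x).rangeRestrict_surjective
      · rintro ⟨_, r, rfl⟩
        obtain ⟨P, hP, hP0⟩ := Algebra.IsIntegral.isIntegral (R := S) r
        refine ⟨P.map (GLin.orbitHom k A y).rangeRestrict.toRingHom, hP.map _, ?_⟩
        rw [Polynomial.aeval_def, Polynomial.eval₂_map]
        show Polynomial.eval₂ _ (GLin.orbitHom k A x r) P = 0
        rw [show (algebraMap C A).comp (GLin.orbitHom k A y).rangeRestrict.toRingHom =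
          (GLin.orbitHom k A x).toRingHom.comp (algebraMap S R) from RingHom.ext horb]
        exact ((Polynomial.hom_eval₂ P (algebraMap S R) (GLin.orbitHom k A x).toRingHom r).symm.trans
          (congrArg _ hP0)).trans (map_zero _)
    let q : R →+* B := (GLin.orbitHom k A x).rangeRestrict.toRingHom
    show IsClosed _
    rw [show (GLin.orbitHom k A x).toRingHom = (algebraMap B A).comp q from rfl, PrimeSpectrum.comap_comp,
      Set.range_comp, hsurj.range_eq, Set.image_univ]
    exact PrimeSpectrum.isClosed_range_comap_of_surjective _ q (GLin.orbitHom k A x).rangeRestrict_surjective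

end Groth.Agent.S19401
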