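import Groth.Statements.S19402
import Groth.Agent.LinRed.UnramifiedNormal
import Groth.Agent.LinRed.Separation
import Mathlib.RingTheory.Invariant.Basic
import Mathlib.RingTheory.Adjoin.Tower
import Mathlib.RingTheory.Unramified.LocalRing
import Mathlib.RingTheory.Filtration
import Mathlib.RingTheory.Nakayama

set_option autoImplicit false
universe u v w
open scoped Pointwise
open GLin

namespace Groth.Agent.S19402

open Groth.Agent.LinRed
open scoped Pointwise


/-- Let k be an algebraically closed field of characteristic zero, R a finitely generated commutative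
k-algebra which is an integrally closed domain (a normal irreducible affine variety X), and G a
finite group acting faithfully on R by k-algebra automorphisms. Let B be a commutative k-algebra
with an injective algebra map B → R, compatible with the k-structures and G-invariant, whose image
is exactly the subring of G-invariants (so Spec R → Spec B is the quotient morphism X → X/G). Then
for a maximal ideal m of R (a closed point x of X), R is étale over B at m (the local ring R_m is
formally étale over B) if and only if the stabilizer of m in G is trivial. -/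
theorem result (k : Type u) [Field k] [IsAlgClosed k] [CharZero k]
    (R : Type v) [CommRing R] [IsDomain R] [IsIntegrallyClosed R] [Algebra k R] [Algebra.FiniteType k R]
    (G : Type w) [Group G] [Finite G] [MulSemiringAction G R] [FaithfulSMul G R] [SMulCommClass G k R]
    (B : Type v) [CommRing B] [Algebra k B] [Algebra B R] [IsScalarTower k B R] [FaithfulSMul B R]
    [SMulCommClass G B R] [Algebra.IsInvariant B R G]
    (m : Ideal R) [m.IsMaximal] :
    Algebra.IsEtaleAt B m ↔ MulAction.stabilizer G m = ⊥ := by
  cases nonempty_fintype G
  classical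
  obtain ⟨ψ, hψm⟩ := exists_point_of_ne_top (k := k) (R := R) m ‹m.IsMaximal›.ne_top
  have hψ : ∀ r, r - algebraMap k R (ψ r) ∈ m := fun r => by
    rw [‹m.IsMaximal›.eq_of_le (RingHom.ker_ne_top ψ.toRingHom) hψm]
    show ψ (r - algebraMap k R (ψ r)) = 0
    rw [map_sub, ψ.commutes]
    exact sub_self _
  haveI : IsNoetherianRing R := Algebra.FiniteType.isNoetherianRing k R
  have hinj : Function.Injective (algebraMap B R) := FaithfulSMul.algebraMap_injective B R
  haveI : IsDomain B := hinj.isDomain _
  haveI := Algebra.IsInvariant.isIntegral B R G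
  haveI : Algebra.FiniteType B R := Algebra.FiniteType.of_restrictScalars_finiteType k B R
  haveI : Module.Finite B R := Algebra.IsIntegral.finite
  haveI : Algebra.FiniteType k B :=
    ⟨fg_of_fg_of_fg k B R (‹Algebra.FiniteType k R›.out) (Module.Finite.fg_top) hinj⟩
  haveI : IsNoetherianRing B := Algebra.FiniteType.isNoetherianRing k B
  haveI : IsIntegrallyClosed B := by
    rw [isIntegrallyClosed_iff (FractionRing B)]
    intro z hz
    obtain ⟨a, b, hb, rfl⟩ := IsFractionRing.div_surjective (A := B) z
    have hb0 : b ≠ 0 := nonZeroDivisors.ne_zero hb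
    let f : B →ₐ[B] FractionRing R := Algebra.ofId B (FractionRing R)
    have hf : Function.Injective f := by
      show Function.Injective (algebraMap B (FractionRing R))
      rw [IsScalarTower.algebraMap_eq B R (FractionRing R)]
      exact (IsFractionRing.injective R (FractionRing R)).comp hinj
    let F : FractionRing B →ₐ[B] FractionRing R := IsFractionRing.liftAlgHom hf
    obtain ⟨c, hc⟩ := (isIntegrallyClosed_iff (FractionRing R)).1 ‹IsIntegrallyClosed R› ((hz.map F).tower_top (A := R))
    have hFb : ∀ u : B, F (algebraMap B _ u) = algebraMap R (FractionRing R) (algebraMap B R u) := fun u => by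
      rw [AlgHom.commutes, ← IsScalarTower.algebraMap_apply B R (FractionRing R)]
    rw [map_div₀, hFb, hFb, eq_div_iff (by simpa [map_eq_zero_iff _ hinj] using hb0), ← map_mul] at hc
    have hbc : c * algebraMap B R b = algebraMap B R a := IsFractionRing.injective R (FractionRing R) hc
    obtain ⟨c₀, hc₀⟩ := Algebra.IsInvariant.isInvariant (A := B) (G := G) c fun g => by
      have h1 := congrArg (g • ·) hbc
      simp only [smul_mul', smul_algebraMap] at h1
      exact mul_right_cancel₀ (by simpa [map_eq_zero_iff _ hinj] using hb0) (h1.trans hbc.symm)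
    refine ⟨c₀, ?_⟩
    rw [eq_div_iff (by simpa using hb0), ← map_mul]
    congr 1
    apply hinj
    rw [map_mul, hc₀, hbc]
  refine ⟨fun het => ?_, fun hst => ?_⟩
  · rw [Subgroup.eq_bot_iff_forall]
    intro g hg
    rw [MulAction.mem_stabilizer_iff] at hg
    let L := Localization.AtPrime m
    have hgm : ∀ r, r ∈ m → g • r ∈ m := fun r hr => hg ▸ Ideal.smul_mem_pointwise_smul g r m hr
    let φ : R →ₐ[B] L := (IsScalarTower.toAlgHom B R L).comp (MulSemiringAction.toAlgHom B R g)
    have hu : ∀ y : m.primeCompl, IsUnit (φ y) := fun y =>
      IsLocalization.map_units L (⟨g • (y : R), fun h => y.2 (by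
        have := Ideal.smul_mem_pointwise_smul g⁻¹ _ m h
        rwa [inv_smul_smul, show g⁻¹ • m = m from (eq_inv_smul_iff.2 hg).symm] at this)⟩ : m.primeCompl)
    let T : L →ₐ[B] L := IsLocalization.liftAlgHom (M := m.primeCompl) (f := φ) hu
    have hT : ∀ r, T (algebraMap R L r) = algebraMap R L (g • r) := fun r => IsLocalization.lift_eq _ _
    haveI : Algebra.IsEtaleAt B m := het
    have key : T = AlgHom.id B L := by
      refine Algebra.FormallyUnramified.ext_of_iInf (R := B) (IsLocalRing.maximalIdeal L)
        (Ideal.iInf_pow_eq_bot_of_isLocalRing _ Ideal.IsPrime.ne_top') fun z => ?_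
      obtain ⟨a, y, rfl⟩ := IsLocalization.exists_mk'_eq m.primeCompl z
      have hmk : ∀ r, Ideal.Quotient.mk (IsLocalRing.maximalIdeal L) (algebraMap R L (g • r)) =
          Ideal.Quotient.mk _ (algebraMap R L r) := fun r => by
        refine Ideal.Quotient.eq.2 ?_
        rw [← map_sub, ← Localization.AtPrime.map_eq_maximalIdeal]
        refine Ideal.mem_map_of_mem _ ?_
        have e : g • r - r = g • (r - algebraMap k R (ψ r)) - (r - algebraMap k R (ψ r)) := by
          rw [smul_sub, smul_algebraMap]; abel
        rw [e]
        exact m.sub_mem (hgm _ (hψ r)) (hψ r)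
      have hy := ((IsLocalization.map_units L y).map (Ideal.Quotient.mk (IsLocalRing.maximalIdeal L)))
      refine hy.mul_left_injective ?_
      show Ideal.Quotient.mk _ (T (IsLocalization.mk' L a y)) * Ideal.Quotient.mk _ (algebraMap R L y) =
        Ideal.Quotient.mk _ (IsLocalization.mk' L a y) * Ideal.Quotient.mk _ (algebraMap R L y)
      rw [← map_mul, ← map_mul, IsLocalization.mk'_spec]
      conv_lhs => rw [map_mul, ← hmk, ← hT, ← map_mul, ← map_mul, IsLocalization.mk'_spec, hT, hmk]
    refine FaithfulSMul.eq_of_smul_eq_smul (M := G) (α := R) fun r => ?_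
    rw [one_smul]
    apply IsLocalization.injective L m.primeCompl_le_nonZeroDivisors
    rw [← hT, key]
    rfl
  · have hne : ∀ g : G, g ≠ 1 → g • m ≠ m := fun g hg h =>
      hg ((Subgroup.eq_bot_iff_forall _).1 hst g (MulAction.mem_stabilizer_iff.2 h))
    haveI : ∀ g : G, (g • m).IsMaximal := fun g => by
      rw [Ideal.pointwise_smul_eq_comap]
      exact Ideal.comap_isMaximal_of_surjective (K := m) _ (MulAction.surjective g⁻¹)
    let Q : Ideal R := ⨅ g ∈ (Finset.univ.erase (1 : G)), g • m
    have hQ : m ^ 2 ⊔ Q = ⊤ := Ideal.sup_iInf_eq_top fun g hg =>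
      Ideal.pow_sup_eq_top (Ideal.IsMaximal.coprime_of_ne inferInstance inferInstance
        (hne g (Finset.ne_of_mem_erase hg)).symm)
    obtain ⟨a, ha, q, hq, haq⟩ := Submodule.mem_sup.1 (hQ ▸ Submodule.mem_top : (1 : R) ∈ m ^ 2 ⊔ Q)
    let n : Ideal B := m.under B
    haveI : m.LiesOver n := ⟨rfl⟩
    haveI : n.IsMaximal := Ideal.IsMaximal.under B m
    letI := Localization.AtPrime.algebraOfLiesOver n m
    haveI : Algebra.IsUnramifiedAt B m := by
      refine (Algebra.isUnramifiedAt_iff_map_eq B n m).2 ⟨⟨fun z => ?_⟩, ?_⟩
      · obtain ⟨r, rfl⟩ := m.algebraMap_residueField_surjective z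
        have hr := hψ r
        rw [← Ideal.algebraMap_residueField_eq_zero, map_sub, sub_eq_zero] at hr
        rw [hr, IsScalarTower.algebraMap_apply k B R, ← IsScalarTower.algebraMap_apply B R m.ResidueField,
          IsScalarTower.algebraMap_apply B n.ResidueField m.ResidueField]
        exact isSeparable_algebraMap _
      · let L := Localization.AtPrime m
        let M : Ideal L := IsLocalRing.maximalIdeal L
        let N : Ideal L := n.map (algebraMap B L)
        have hNM : N ≤ M := by
          show n.map (algebraMap B L) ≤ M
          rw [IsScalarTower.algebraMap_eq B R L, ← Ideal.map_map, show M = _ from (Localization.AtPrime.map_eq_maximalIdeal).symm]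
          exact Ideal.map_mono Ideal.map_comap_le
        refine le_antisymm hNM ?_
        refine Submodule.le_of_le_smul_of_le_jacobson_bot (I := M) (IsNoetherian.noetherian _)
          (IsLocalRing.maximalIdeal_le_jacobson _) ?_
        show M ≤ N ⊔ M • M
        have hm2 : (m ^ 2).map (algebraMap R L) ≤ M • M := by
          rw [Ideal.map_pow, Localization.AtPrime.map_eq_maximalIdeal, smul_eq_mul, pow_two]
        rw [show M = m.map (algebraMap R L) from Localization.AtPrime.map_eq_maximalIdeal.symm,
          Ideal.map_le_iff_le_comap]
        intro f hf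
        let f' : R := f * q + a
        have hd : f - f' ∈ m ^ 2 := by
          have : f - f' = a * (f - 1) := by
            show f - (f * q + a) = a * (f - 1)
            rw [show q = 1 - a from eq_sub_of_add_eq' haq]
            ring
          rw [this]; exact Ideal.mul_mem_right _ _ ha
        have hf' : ∀ g : G, g ≠ 1 → g • f' ∉ m := by
          intro g hg hmem
          have h1 : f' - 1 ∈ g⁻¹ • m := by
            have : f' - 1 = q * (f - 1) := by
              show f * q + a - 1 = q * (f - 1)
              rw [show q = 1 - a from eq_sub_of_add_eq' haq]; ring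
            rw [this]
            refine Ideal.mul_mem_right _ _ ?_
            have hq' := hq
            simp only [Q, Submodule.mem_iInf] at hq'
            exact hq' g⁻¹ (Finset.mem_erase.2 ⟨inv_ne_one.2 hg, Finset.mem_univ _⟩)
          rw [Ideal.mem_inv_pointwise_smul_iff, smul_sub, smul_one] at h1
          have h2 : (1 : R) ∈ m := by
            have := m.sub_mem hmem h1
            rwa [sub_sub_cancel] at this
          exact ‹m.IsMaximal›.ne_top ((Ideal.eq_top_iff_one m).2 h2)
        let v : R := ∏ g ∈ (Finset.univ.erase (1 : G)), g • f'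
        have hv : v ∉ m := fun hvm => by
          obtain ⟨g, hg, hgm⟩ := Ideal.IsPrime.prod_mem_iff.1 hvm
          exact hf' g (Finset.ne_of_mem_erase hg) hgm
        have hP : f' * v = ∏ g : G, g • f' := by
          rw [← Finset.mul_prod_erase Finset.univ _ (Finset.mem_univ (1 : G)), one_smul]
        obtain ⟨b, hb⟩ := Algebra.IsInvariant.isInvariant (A := B) (G := G) (f' * v) fun g => by
          rw [hP, Finset.smul_prod_perm]
        have hfm : f' ∈ m := by
          have : f' = f - (f - f') := by ring
          rw [this]; exact m.sub_mem hf (Ideal.pow_le_self two_ne_zero hd)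
        have hbn : b ∈ n := by
          show algebraMap B R b ∈ m
          rw [hb]; exact m.mul_mem_right _ hfm
        have h3 : algebraMap R L f' ∈ N := by
          have h4 : algebraMap R L f' * algebraMap R L v ∈ N := by
            rw [← map_mul, ← hb, ← IsScalarTower.algebraMap_apply B R L]
            exact Ideal.mem_map_of_mem _ hbn
          exact (Ideal.mul_unit_mem_iff_mem _ (IsLocalization.map_units L (⟨v, hv⟩ : m.primeCompl))).1 h4
        show algebraMap R L f ∈ N ⊔ _
        rw [show f = f' + (f - f') by ring, map_add]
        refine Submodule.mem_sup.2 ⟨_, h3, _, ?_, rfl⟩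
        rw [smul_eq_mul, ← Ideal.map_mul, ← pow_two]
        exact Ideal.mem_map_of_mem _ hd
    exact isEtaleAt_of_isUnramifiedAt_of_isIntegrallyClosed hinj m

end Groth.Agent.S19402
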