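import Groth.Statements.S19405
import Groth.Agent.LinRed.OrbitStab
import Groth.Agent.LinRed.UnramifiedNormal
import Groth.Agent.S11793
import Mathlib.RingTheory.Filtration
import Mathlib.RingTheory.Spectrum.Prime.RingHom
import Mathlib.RingTheory.Flat.TorsionFree

set_option autoImplicit false
universe u
open TensorProduct
open GLin

namespace Groth.Agent.S19405

open TensorProduct
open Groth.Agent.LinRed Groth.Agent.Comod

theorem injective_of_isEtaleAt {S R : Type u} [CommRing S] [IsDomain S] [IsNoetherianRing S]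
    [CommRing R] [IsDomain R] [Algebra S R] [Algebra.FiniteType S R] (m : Ideal R) [m.IsPrime]
    [Algebra.IsEtaleAt S m] : Function.Injective (algebraMap S R) := by
  haveI : Algebra.FinitePresentation S R := Algebra.FinitePresentation.of_finiteType.mp inferInstance
  obtain ⟨f, hfm, hf⟩ := Algebra.exists_etale_of_isEtaleAt (R := S) m
  have hf0 : f ≠ 0 := fun h => hfm (h ▸ m.zero_mem)
  haveI : IsDomain (Localization.Away f) :=
    IsLocalization.isDomain_localization (powers_le_nonZeroDivisors_of_noZeroDivisors hf0)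
  rw [injective_iff_map_eq_zero]
  intro s hs
  by_contra h
  have hreg : IsSMulRegular (Localization.Away f) s :=
    Module.Flat.isSMulRegular_of_isRegular (IsRegular.of_ne_zero h)
  refine one_ne_zero (hreg (a₁ := (1 : Localization.Away f)) (a₂ := 0) ?_)
  show s • (1 : Localization.Away f) = s • 0
  rw [smul_zero, Algebra.smul_def, IsScalarTower.algebraMap_apply S R (Localization.Away f), hs,
    map_zero, zero_mul]

theorem mem_invariants_of_mul {k A S : Type u} [Field k] [CommRing A] [HopfAlgebra k A] [CommRing S]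
    [IsDomain S] [Algebra k S] [HopfRep.Comod k A S] [GLin.IsCoactAlg k A S] {b c : S} (hb : b ≠ 0)
    (hbi : b ∈ GLin.invariants k A S) (hbc : b * c ∈ GLin.invariants k A S) :
    c ∈ GLin.invariants k A S := by
  rw [GLin.mem_invariants_iff] at hbi hbc ⊢
  have h : ((LinearMap.mulLeft k b).rTensor A) (HopfRep.Comod.coact (k := k) (A := A) c) =
      ((LinearMap.mulLeft k b).rTensor A) (c ⊗ₜ[k] (1 : A)) := by
    have e : ∀ z : S ⊗[k] A, (LinearMap.mulLeft k b).rTensor A z = (b ⊗ₜ[k] (1 : A)) * z := by
      intro z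
      induction z with
      | zero => simp
      | tmul p q => simp
      | add y z hy hz => simp only [map_add, mul_add, hy, hz]
    rw [e, ← hbi, ← GLin.IsCoactAlg.coact_mul (k := k), hbc, LinearMap.rTensor_tmul]
    rfl
  exact Module.Flat.rTensor_preserves_injective_linearMap _ (mul_right_injective₀ hb) h


/-- Let k be an algebraically closed field of characteristic zero, A a finitely generated commutative
Hopf algebra over k which is an integral domain and all of whose finite-dimensional comodules are
semisimple (a connected reductive group G), S and R finitely generated commutative k-algebras which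
are integrally closed domains, with multiplicative A-coactions (G acting on the normal irreducible
affine varieties Y = Spec S and X = Spec R), and S → R an algebra map compatible with the coactions
(a G-morphism θ : X → Y) which is finite. Let S₀ → S and R₀ → R be injective k-algebra maps whose
images are exactly the subrings of invariants, and S₀ → R₀ an algebra map with S₀ → R₀ → R equal to
S₀ → S → R (the induced morphism θ/G : X//G → Y//G). Let x be a k-point of X whose orbit is closed,
m its kernel (a maximal ideal of R), suppose R is étale over S at m (θ étale at x), and suppose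
every k-point of G fixing the image point θ(x) fixes x (θ is injective on the orbit of x). Then R₀
is étale over S₀ at the prime of R₀ under the kernel of x (θ/G is étale at the image of x in X//G).
(The published statement allows any reductive G and normal X, Y; the argument given is for connected
G and irreducible X, Y, assumed here.) -/
theorem result (k : Type u) [Field k] [IsAlgClosed k] [CharZero k]
    (A : Type u) [CommRing A] [IsDomain A] [HopfAlgebra k A] [Algebra.FiniteType k A] (hG : HopfRep.IsLinearlyReductive k A)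
    (S : Type u) [CommRing S] [IsDomain S] [IsIntegrallyClosed S] [Algebra k S] [Algebra.FiniteType k S]
    [HopfRep.Comod k A S] [GLin.IsCoactAlg k A S]
    (R : Type u) [CommRing R] [IsDomain R] [IsIntegrallyClosed R] [Algebra k R] [Algebra.FiniteType k R]
    [HopfRep.Comod k A R] [GLin.IsCoactAlg k A R]
    [Algebra S R] [IsScalarTower k S R] [Module.Finite S R]
    (hequiv : (∀ s : S, HopfRep.Comod.coact (k := k) (A := A) (algebraMap S R s) =
      Algebra.TensorProduct.map (IsScalarTower.toAlgHom k S R) (AlgHom.id k A) (HopfRep.Comod.coact (k := k) (A := A) s)))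
    (S₀ : Type u) [CommRing S₀] [Algebra k S₀] [Algebra S₀ S] [IsScalarTower k S₀ S]
    (hS₀i : Function.Injective (algebraMap S₀ S)) (hS₀ : (IsScalarTower.toAlgHom k S₀ S).range = GLin.invariants k A S)
    (R₀ : Type u) [CommRing R₀] [Algebra k R₀] [Algebra R₀ R] [IsScalarTower k R₀ R]
    (hR₀i : Function.Injective (algebraMap R₀ R)) (hR₀ : (IsScalarTower.toAlgHom k R₀ R).range = GLin.invariants k A R)
    [Algebra S₀ R₀] [Algebra S₀ R] [IsScalarTower S₀ S R] [IsScalarTower S₀ R₀ R]
    (x : R →ₐ[k] k) (hx : GLin.IsClosedOrbit k A x) (m : Ideal R) [m.IsMaximal] (hm : m = RingHom.ker x.toRingHom)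
    (het : Algebra.IsEtaleAt S m)
    (hinj : ∀ g : A →ₐ[k] k, GLin.actPt k g (x.comp (IsScalarTower.toAlgHom k S R)) = x.comp (IsScalarTower.toAlgHom k S R) →
      GLin.actPt k g x = x) :
    Algebra.IsEtaleAt S₀ (Ideal.comap (algebraMap R₀ R) m) := by
  obtain ⟨α, hα⟩ := exists_isNormIntegral hG
  haveI : IsNoetherianRing S := Algebra.FiniteType.isNoetherianRing k S
  haveI : IsNoetherianRing R := Algebra.FiniteType.isNoetherianRing k R
  haveI : IsReduced A := inferInstance
  subst hm
  let φ : S →ₐ[k] R := IsScalarTower.toAlgHom k S R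
  have hφ : Hoch.IsComodHom A φ.toLinearMap := LinearMap.ext fun s => hequiv s
  let y : S →ₐ[k] k := x.comp φ
  haveI hmp : (RingHom.ker x).IsPrime := RingHom.ker_isPrime _
  haveI het' : Algebra.IsEtaleAt S (RingHom.ker x) := het
  haveI : Algebra.IsUnramifiedAt S (RingHom.ker x) := inferInstance
  -- the orbit of the image
  have hycl : GLin.IsClosedOrbit k A y := by
    have e : Set.range (PrimeSpectrum.comap (GLin.orbitHom k A y).toRingHom) =
        PrimeSpectrum.comap φ.toRingHom '' Set.range (PrimeSpectrum.comap (GLin.orbitHom k A x).toRingHom) := by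
      rw [← Set.range_comp, show GLin.orbitHom k A y = (GLin.orbitHom k A x).comp φ from orbitHom_comp φ hφ x]
      rfl
    show IsClosed _
    rw [e]
    refine PrimeSpectrum.isClosedMap_comap_of_isIntegral φ.toRingHom ?_ _ hx
    exact fun r => Algebra.IsIntegral.isIntegral (R := S) r
  haveI := isHopfIdeal_stabIdeal (A := A) y
  have hst : GLin.stabIdeal k A x ≤ GLin.stabIdeal k A y := by
    refine stabIdeal_le_of_forall_actPt_eq x _ fun g hg => hinj g ?_
    apply AlgHom.ext
    intro s
    have h0 : g (GLin.orbitHom k A y (s - algebraMap k S (y s))) = 0 :=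
      hg (Ideal.mem_map_of_mem _ (by simp [RingHom.mem_ker]))
    rw [map_sub, map_sub, AlgHom.commutes, AlgHom.commutes, sub_eq_zero] at h0
    exact h0
  haveI : Module.FaithfullyFlat (GLin.orbitHom k A (x.comp φ)).range A := faithfullyFlat_range_orbitHom y hycl
  let I : Ideal R := RingHom.ker (GLin.orbitHom k A x)
  have hIsub : HopfRep.IsSubcomod (k := k) (A := A) (I.restrictScalars k) := isSubcomod_ker_orbitHom x
  have hsurj : ∀ r : R, ∃ s : S, r - algebraMap S R s ∈ I := fun r => by
    obtain ⟨s, hs⟩ := exists_orbitHom_eq φ hφ x hst r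
    refine ⟨s, ?_⟩
    rw [RingHom.mem_ker, map_sub, sub_eq_zero]
    exact hs.symm
  have hpow : ∀ (n : ℕ) (r : R), ∃ s : S, r - algebraMap S R s ∈ I ^ n :=
    exists_sub_mem_pow I hsurj (ker_orbitHom_le_sup_sq hφ x hx hsurj)
  -- the invariant rings
  haveI : IsDomain S₀ := hS₀i.isDomain _
  haveI : IsDomain R₀ := hR₀i.isDomain _
  have hmemS : ∀ s, s ∈ GLin.invariants k A S ↔ ∃ s₀ : S₀, algebraMap S₀ S s₀ = s := fun s => by
    rw [← hS₀]; rfl
  have hmemR : ∀ r, r ∈ GLin.invariants k A R ↔ ∃ r₀ : R₀, algebraMap R₀ R r₀ = r := fun r => by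
    rw [← hR₀]; rfl
  haveI : Algebra.FiniteType k R₀ := by
    obtain ⟨s, hs, hs'⟩ := S11793.result k A hG R (GLin.IsCoactAlg.coact_mul (k := k)) (GLin.IsCoactAlg.coact_one (k := k))
    have e : GLin.invariants k A R = Algebra.adjoin k (s : Set R) :=
      le_antisymm (fun f hf => hs' f hf) (Algebra.adjoin_le fun f hf => hs f hf)
    have hfg : (GLin.invariants k A R).FG := ⟨s, e.symm⟩
    rw [← hR₀] at hfg
    haveI := (IsScalarTower.toAlgHom k R₀ R).range.fg_iff_finiteType.1 hfg
    exact Algebra.FiniteType.equiv inferInstance (AlgEquiv.ofInjective (IsScalarTower.toAlgHom k R₀ R) hR₀i).symm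
  haveI : Algebra.FiniteType k S₀ := by
    obtain ⟨s, hs, hs'⟩ := S11793.result k A hG S (GLin.IsCoactAlg.coact_mul (k := k)) (GLin.IsCoactAlg.coact_one (k := k))
    have e : GLin.invariants k A S = Algebra.adjoin k (s : Set S) :=
      le_antisymm (fun f hf => hs' f hf) (Algebra.adjoin_le fun f hf => hs f hf)
    have hfg : (GLin.invariants k A S).FG := ⟨s, e.symm⟩
    rw [← hS₀] at hfg
    haveI := (IsScalarTower.toAlgHom k S₀ S).range.fg_iff_finiteType.1 hfg
    exact Algebra.FiniteType.equiv inferInstance (AlgEquiv.ofInjective (IsScalarTower.toAlgHom k S₀ S) hS₀i).symm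
  haveI : IsNoetherianRing S₀ := Algebra.FiniteType.isNoetherianRing k S₀
  haveI : IsScalarTower k S₀ R₀ := IsScalarTower.of_algebraMap_eq fun c => hR₀i (by
    rw [← IsScalarTower.algebraMap_apply k R₀ R, ← IsScalarTower.algebraMap_apply S₀ R₀ R,
      IsScalarTower.algebraMap_apply S₀ S R, ← IsScalarTower.algebraMap_apply k S₀ S,
      ← IsScalarTower.algebraMap_apply k S R])
  haveI : Algebra.FiniteType S₀ R₀ := Algebra.FiniteType.of_restrictScalars_finiteType k S₀ R₀
  haveI : IsIntegrallyClosed S₀ := by
    rw [isIntegrallyClosed_iff (FractionRing S₀)]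
    intro z hz
    obtain ⟨a, b, hb, rfl⟩ := IsFractionRing.div_surjective (A := S₀) z
    have hb0 : b ≠ 0 := nonZeroDivisors.ne_zero hb
    let f : S₀ →ₐ[S₀] FractionRing S := Algebra.ofId S₀ (FractionRing S)
    have hf : Function.Injective f := by
      show Function.Injective (algebraMap S₀ (FractionRing S))
      rw [IsScalarTower.algebraMap_eq S₀ S (FractionRing S)]
      exact (IsFractionRing.injective S (FractionRing S)).comp hS₀i
    let F : FractionRing S₀ →ₐ[S₀] FractionRing S := IsFractionRing.liftAlgHom hf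
    obtain ⟨c, hc⟩ := (isIntegrallyClosed_iff (FractionRing S)).1 ‹IsIntegrallyClosed S› ((hz.map F).tower_top (A := S))
    have hFb : ∀ u : S₀, F (algebraMap S₀ _ u) = algebraMap S (FractionRing S) (algebraMap S₀ S u) := fun u => by
      rw [AlgHom.commutes, ← IsScalarTower.algebraMap_apply S₀ S (FractionRing S)]
    rw [map_div₀, hFb, hFb, eq_div_iff (by simpa [map_eq_zero_iff _ hS₀i] using hb0), ← map_mul] at hc
    have hbc : algebraMap S₀ S b * c = algebraMap S₀ S a := by
      rw [mul_comm]; exact IsFractionRing.injective S (FractionRing S) hc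
    obtain ⟨c₀, hc₀⟩ := (hmemS c).1 (mem_invariants_of_mul (k := k) (A := A)
      (by simpa [map_eq_zero_iff _ hS₀i] using hb0) ((hmemS _).2 ⟨b, rfl⟩) ((hmemS _).2 ⟨a, hbc.symm⟩))
    refine ⟨c₀, ?_⟩
    rw [eq_div_iff (by simpa using hb0), ← map_mul]
    congr 1
    apply hS₀i
    rw [map_mul, hc₀, mul_comm, hbc]
  have hinjS : Function.Injective (algebraMap S R) := injective_of_isEtaleAt (RingHom.ker x)
  have hinj₀ : Function.Injective (algebraMap S₀ R₀) := by
    refine Function.Injective.of_comp (f := algebraMap R₀ R) ?_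
    rw [← RingHom.coe_comp, ← IsScalarTower.algebraMap_eq, IsScalarTower.algebraMap_eq S₀ S R]
    exact hinjS.comp hS₀i
  let ψ : R₀ →ₐ[k] k := x.comp (IsScalarTower.toAlgHom k R₀ R)
  let n : Ideal R₀ := Ideal.comap (algebraMap R₀ R) (RingHom.ker x)
  haveI hnmax : n.IsMaximal := RingHom.ker_isMaximal_of_surjective ψ.toRingHom fun c => ⟨algebraMap k R₀ c, ψ.commutes c⟩
  let p : Ideal S₀ := n.under S₀
  haveI hlo : n.LiesOver p := ⟨rfl⟩
  haveI hpmax : p.IsMaximal := RingHom.ker_isMaximal_of_surjective (ψ.toRingHom.comp (algebraMap S₀ R₀))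
    fun c => ⟨algebraMap k S₀ c, by
      show ψ (algebraMap S₀ R₀ (algebraMap k S₀ c)) = c
      rw [← IsScalarTower.algebraMap_apply k S₀ R₀, ψ.commutes]; rfl⟩
  -- every invariant of `n` is, near `n`, generated by `p`
  have key : ∀ f ∈ n, ∃ u ∉ n, u * f ∈ p.map (algebraMap S₀ R₀) := by
    intro f hf
    let W : Ideal R₀ := p.map (algebraMap S₀ R₀)
    let W' : Ideal R := W.map (algebraMap R₀ R)
    have hinv : algebraMap R₀ R f ∈ GLin.invariants k A R := (hmemR _).2 ⟨f, rfl⟩
    have hfI : algebraMap R₀ R f ∈ I := by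
      rw [RingHom.mem_ker, orbitHom_invariant x hinv, show x (algebraMap R₀ R f) = 0 from hf, zero_smul]
    have hmod : Ideal.Quotient.mk W' (algebraMap R₀ R f) ∈
        (⨅ L : ℕ, I ^ L • ⊤ : Submodule R (R ⧸ W')) := by
      refine Submodule.mem_iInf _ |>.2 fun L => ?_
      obtain ⟨s, hs⟩ := hpow (L + 1) (algebraMap R₀ R f)
      have h1 := IsSubcomod.actL_mem (isSubcomod_pow hIsub (L + 1)) α hs
      rw [map_sub, actL_eq_self hα hinv,
        show actL α (algebraMap S R s) = algebraMap S R (actL α s) from (IsComodHom.map_actL hφ α s).symm] at h1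
      obtain ⟨s₀, hs₀⟩ := (hmemS _).1 (actL_mem_fixedPts hα s)
      have e : algebraMap S R (actL α s) = algebraMap R₀ R (algebraMap S₀ R₀ s₀) := by
        rw [← hs₀, ← IsScalarTower.algebraMap_apply S₀ S R, ← IsScalarTower.algebraMap_apply S₀ R₀ R]
      rw [e] at h1
      have hsp : s₀ ∈ p := by
        show x (algebraMap R₀ R (algebraMap S₀ R₀ s₀)) = 0
        have h2 : GLin.orbitHom k A x (algebraMap R₀ R (algebraMap S₀ R₀ s₀)) = 0 := by
          have h3 := I.sub_mem hfI (Ideal.pow_le_self (Nat.succ_ne_zero L) h1)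
          rwa [sub_sub_cancel, RingHom.mem_ker] at h3
        rw [← counit_orbitHom (A := A) x, h2, map_zero]
      have hW : Ideal.Quotient.mk W' (algebraMap R₀ R (algebraMap S₀ R₀ s₀)) = 0 :=
        Ideal.Quotient.eq_zero_iff_mem.2 (Ideal.mem_map_of_mem _ (Ideal.mem_map_of_mem _ hsp))
      have h4 : (algebraMap R₀ R f - algebraMap R₀ R (algebraMap S₀ R₀ s₀)) • (1 : R ⧸ W') =
          Ideal.Quotient.mk W' (algebraMap R₀ R f) := by
        rw [Algebra.smul_def, mul_one, Ideal.Quotient.algebraMap_eq, map_sub, hW, sub_zero]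
      rw [← h4]
      exact Submodule.smul_mem_smul (Ideal.pow_le_pow_right (Nat.le_succ L) h1) Submodule.mem_top
    obtain ⟨⟨i, hiI⟩, hi⟩ := (Ideal.mem_iInf_smul_pow_eq_bot_iff I _).1 hmod
    have hbf : (1 - i) * algebraMap R₀ R f ∈ W' := by
      rw [← Ideal.Quotient.eq_zero_iff_mem, sub_mul, one_mul, map_sub, sub_eq_zero, map_mul]
      exact hi.symm
    have hav : ∀ z ∈ W', ∀ c : R, ∃ w ∈ W, algebraMap R₀ R w = actL α (c * z) := by
      intro z hz
      induction hz using Submodule.span_induction with
      | mem v hv =>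
        obtain ⟨w, hw, rfl⟩ := hv
        intro c
        obtain ⟨c₀, hc₀⟩ := (hmemR _).1 (actL_mem_fixedPts hα c)
        refine ⟨c₀ * w, W.mul_mem_left _ hw, ?_⟩
        rw [mul_comm c, actL_mul_invariant α ((hmemR _).2 ⟨w, rfl⟩), map_mul, hc₀, mul_comm]
      | zero => exact fun c => ⟨0, W.zero_mem, by simp⟩
      | add a b _ _ ha hb =>
        intro c
        obtain ⟨w, hw, hw'⟩ := ha c
        obtain ⟨v, hv, hv'⟩ := hb c
        exact ⟨w + v, W.add_mem hw hv, by rw [map_add, hw', hv', mul_add, map_add]⟩
      | smul d a _ ha =>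
        intro c
        obtain ⟨w, hw, hw'⟩ := ha (c * d)
        exact ⟨w, hw, by rw [hw', smul_eq_mul, mul_assoc]⟩
    obtain ⟨w, hw, hw'⟩ := hav _ hbf 1
    obtain ⟨u, hu⟩ := (hmemR _).1 (actL_mem_fixedPts hα (1 - i))
    refine ⟨u, fun hun => ?_, ?_⟩
    · have h1 : x (actL α (1 - i)) = 1 := by
        rw [map_sub, actL_eq_self hα (show (1 : R) ∈ HopfRep.fixedPts k A R from (GLin.invariants k A R).one_mem),
          map_sub, map_one, ← counit_orbitHom (A := A) x (actL α i),
          show GLin.orbitHom k A x (actL α i) = 0 from IsSubcomod.actL_mem hIsub α hiI, map_zero, sub_zero]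
      rw [← hu] at h1
      exact one_ne_zero (h1.symm.trans hun)
    · have : w = u * f := hR₀i (by
        rw [hw', one_mul, mul_comm, actL_mul_invariant α hinv, map_mul, hu, mul_comm])
      exact this ▸ hw
  haveI : Algebra.EssFiniteType S₀ R₀ := inferInstance
  letI := Localization.AtPrime.algebraOfLiesOver p n
  haveI : Algebra.IsUnramifiedAt S₀ n := by
    refine (Algebra.isUnramifiedAt_iff_map_eq S₀ p n).2 ⟨?_, ?_⟩
    · refine ⟨fun z => ?_⟩
      obtain ⟨r, rfl⟩ := n.algebraMap_residueField_surjective z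
      have hr : r - algebraMap k R₀ (ψ r) ∈ n := by
        show ψ (r - algebraMap k R₀ (ψ r)) = 0
        rw [map_sub, ψ.commutes]
        exact sub_self _
      rw [← Ideal.algebraMap_residueField_eq_zero, map_sub, sub_eq_zero] at hr
      rw [hr, IsScalarTower.algebraMap_apply k S₀ R₀, ← IsScalarTower.algebraMap_apply S₀ R₀ n.ResidueField,
        IsScalarTower.algebraMap_apply S₀ p.ResidueField n.ResidueField]
      exact isSeparable_algebraMap _
    · rw [← Localization.AtPrime.map_eq_maximalIdeal, IsScalarTower.algebraMap_eq S₀ R₀ (Localization.AtPrime n),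
        ← Ideal.map_map]
      refine le_antisymm (Ideal.map_mono (Ideal.map_comap_le)) (Ideal.map_le_iff_le_comap.2 fun f hf => ?_)
      obtain ⟨u, hu, huf⟩ := key f hf
      exact (IsLocalization.algebraMap_mem_map_algebraMap_iff n.primeCompl _ _ f).2 ⟨u, hu, huf⟩
  exact isEtaleAt_of_isUnramifiedAt_of_isIntegrallyClosed hinj₀ n

end Groth.Agent.S19405
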