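import Groth.Statements.S19406
import Groth.Agent.LinRed.Orbit
import Groth.Agent.LinRed.InvariantRing

set_option autoImplicit false
universe u
open TensorProduct
open GLin

namespace Groth.Agent.S19406

open TensorProduct Groth.Agent.Comod Groth.Agent.LinRed

/-- semi-invariant lifting of a group-like function on the orbit -/
theorem exists_semiInvariant {k A R : Type u} [Field k] [CommRing A] [HopfAlgebra k A]
    [CommRing R] [Algebra k R] [HopfRep.Comod k A R] [GLin.IsCoactAlg k A R]
    {α : A →ₗ[k] k} (hα : IsNormIntegral α) (x : R →ₐ[k] k) {χ : A} (hχ : IsGroupLikeElem k χ)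
    (h : χ ∈ (GLin.orbitHom k A x).range) :
    ∃ f : R, HopfRep.Comod.coact (k := k) (A := A) f = f ⊗ₜ[k] χ ∧ x f = 1 := by
  obtain ⟨r, hr⟩ := h
  let S : A →ₐ[k] A := HopfAlgebra.antipodeAlgHom k A
  have hSχ : S χ * χ = 1 := IsGroupLikeElem.antipode_mul_cancel hχ
  have hχS : χ * S χ = 1 := by rw [mul_comm]; exact hSχ
  have hS : IsGroupLikeElem k (S χ) := IsGroupLikeElem.of_mul_eq_one hχS hSχ hχ
  let β : A →ₗ[k] k := α ∘ₗ LinearMap.mulLeft k (S χ)
  have hβ : ∀ b, slR β (Coalgebra.comul (R := k) b) = α (S χ * b) • χ := by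
    intro b
    have h1 := hα.left (S χ * b)
    rw [Bialgebra.comul_mul, hS.comul_eq_tmul_self] at h1
    have h2 : ∀ z : A ⊗[k] A, χ * slR α ((S χ ⊗ₜ[k] S χ) * z) = slR β z := by
      intro z
      induction z with
      | zero => simp
      | tmul p q => simp [β, ← mul_assoc, hχS]
      | add y z hy hz => simp only [mul_add, map_add, hy, hz]
    rw [← h2, h1, mul_smul_comm, mul_one]
  refine ⟨actL β r, ?_, ?_⟩
  · let G : R ⊗[k] (A ⊗[k] A) →ₗ[k] R ⊗[k] A := (slR β).lTensor R
    have h1 : ∀ z : R ⊗[k] A, HopfRep.Comod.coact (k := k) (A := A) (slR β z) =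
        G (TensorProduct.assoc k R A A ((HopfRep.Comod.coact (k := k) (A := A)).rTensor A z)) := by
      intro z
      induction z with
      | zero => simp
      | tmul u b =>
        rw [slR_tmul, map_smul, LinearMap.rTensor_tmul]
        generalize HopfRep.Comod.coact (k := k) (A := A) u = y
        induction y with
        | zero => simp
        | tmul p q => simp [G, TensorProduct.tmul_smul]
        | add y z hy hz => simp only [map_add, add_tmul, smul_add, hy, hz]
      | add y z hy hz => simp only [map_add, hy, hz]
    have h2 : ∀ z : R ⊗[k] A, G ((Coalgebra.comul (R := k)).lTensor R z) = slR β z ⊗ₜ[k] χ := by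
      intro z
      induction z with
      | zero => simp
      | tmul u b =>
        simp only [G, LinearMap.lTensor_tmul, hβ, slR_tmul, TensorProduct.smul_tmul]
        simp [β]
      | add y z hy hz => simp only [map_add, add_tmul, hy, hz]
    have hco := LinearMap.congr_fun (HopfRep.Comod.coassoc (k := k) (A := A) (V := R)) r
    simp only [LinearMap.comp_apply, LinearEquiv.coe_coe] at hco
    rw [actL_apply, h1, hco, h2]
  · have h1 : GLin.orbitHom k A x (actL β r) = χ := by
      rw [orbitHom_actL, show GLin.orbitHom k A x r = χ from hr, hχ.comul_eq_tmul_self, slR_tmul]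
      simp [β, hSχ, hα.map_one]
    have h2 : Coalgebra.counit (R := k) (GLin.orbitHom k A x (actL β r)) = x (actL β r) := by
      have h' : ∀ z : R ⊗[k] A, Coalgebra.counit (R := k) (slL x.toLinearMap z) =
          x (slR (Coalgebra.counit (R := k)) z) := by
        intro z
        induction z with
        | zero => simp
        | tmul p q => simp [mul_comm]
        | add y z hy hz => simp only [map_add, hy, hz]
      rw [orbitHom_eq_slL, h', ← actL_apply, actL_counit]
    rw [← h2, h1, hχ.counit_eq_one]


/-- Let k be an algebraically closed field of characteristic zero, A a finitely generated commutative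
Hopf algebra over k which is an integral domain and all of whose finite-dimensional comodules are
semisimple (a connected reductive group G), R a reduced finitely generated commutative k-algebra
with a multiplicative A-coaction (G acting on the affine variety X = Spec R), and χ a group-like
element of A (a character of G). Then there is a set E of G-invariant functions on X such that, for
every k-point x of X whose orbit is closed, χ − 1 lies in the stabilizer ideal of x (χ is trivial on
the stabilizer of x) if and only if some member of E does not vanish at x: the set of points of X//G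
over which the closed orbit has stabilizer on which χ is trivial is open. (The published statement
allows any reductive G; this row assumes G connected, the case the source's argument covers.) -/
theorem result (k : Type u) [Field k] [IsAlgClosed k] [CharZero k]
    (A : Type u) [CommRing A] [IsDomain A] [HopfAlgebra k A] [Algebra.FiniteType k A] (hG : HopfRep.IsLinearlyReductive k A)
    (R : Type u) [CommRing R] [IsReduced R] [Algebra k R] [Algebra.FiniteType k R] [HopfRep.Comod k A R] [GLin.IsCoactAlg k A R]
    (χ : A) (hχ : IsGroupLikeElem k χ) :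
    ∃ E : Set R, E ⊆ GLin.invariants k A R ∧
      ∀ x : R →ₐ[k] k, GLin.IsClosedOrbit k A x →
        (χ - 1 ∈ GLin.stabIdeal k A x ↔ ∃ f ∈ E, x f ≠ 0) := by
  obtain ⟨α, hα⟩ := Groth.Agent.LinRed.exists_isNormIntegral hG
  let S : A →ₐ[k] A := HopfAlgebra.antipodeAlgHom k A
  have hSχ : S χ * χ = 1 := IsGroupLikeElem.antipode_mul_cancel hχ
  refine ⟨{f | ∃ h h' : R, f = h * h' ∧ HopfRep.Comod.coact (k := k) (A := A) h = h ⊗ₜ[k] χ ∧
      HopfRep.Comod.coact (k := k) (A := A) h' = h' ⊗ₜ[k] S χ}, ?_, fun x hx => ⟨fun hχJ => ?_, ?_⟩⟩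
  · rintro _ ⟨h, h', rfl, hh, hh'⟩
    refine (GLin.mem_invariants_iff k A R _).2 ?_
    rw [GLin.IsCoactAlg.coact_mul (k := k), hh, hh', Algebra.TensorProduct.tmul_mul_tmul, mul_comm χ, hSχ]
  · haveI := Groth.Agent.LinRed.faithfullyFlat_range_orbitHom x hx
    have hS : IsGroupLikeElem k (S χ) :=
      IsGroupLikeElem.of_mul_eq_one (by rw [mul_comm]; exact hSχ) hSχ hχ
    have hSJ : S χ - 1 ∈ GLin.stabIdeal k A x := by
      have e : S χ - 1 = -(S χ) * (χ - 1) := by rw [mul_sub, neg_mul, hSχ]; ring
      rw [e]
      exact Ideal.mul_mem_left _ _ hχJ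
    obtain ⟨h, hh, hx1⟩ := exists_semiInvariant hα x hχ
      (Groth.Agent.LinRed.groupLike_mem_range_orbitHom x hχ hχJ)
    obtain ⟨h', hh', hx2⟩ := exists_semiInvariant hα x hS
      (Groth.Agent.LinRed.groupLike_mem_range_orbitHom x hS hSJ)
    exact ⟨h * h', ⟨h, h', rfl, hh, hh'⟩, by rw [map_mul, hx1, hx2, mul_one]; exact one_ne_zero⟩
  · rintro ⟨_, ⟨h, h', rfl, hh, -⟩, hne⟩
    have hxh : x h ≠ 0 := fun h0 => hne (by rw [map_mul, h0, zero_mul])
    have ho : GLin.orbitHom k A x ((x h)⁻¹ • h - 1) = χ - 1 := by
      rw [map_sub, map_smul, map_one, Groth.Agent.LinRed.orbitHom_eq_slL, hh, slL_tmul, smul_smul]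
      show ((x h)⁻¹ * x h) • χ - 1 = χ - 1
      rw [inv_mul_cancel₀ hxh, one_smul]
    rw [← ho]
    exact Ideal.mem_map_of_mem _ (by
      rw [RingHom.mem_ker, map_sub, map_smul, map_one, smul_eq_mul, inv_mul_cancel₀ hxh, sub_self])

end Groth.Agent.S19406
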