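import Groth.Statements.S19408
import Groth.Agent.LinRed.InvariantRing
import Mathlib.RingTheory.TensorProduct.Quotient
import Mathlib.RingTheory.Etale.Basic

set_option autoImplicit false
universe u
open TensorProduct
open GLin

namespace Groth.Agent.S19408

open TensorProduct
open Groth.Agent.LinRed Groth.Agent.Comod


/-- Let k be an algebraically closed field of characteristic zero, A a finitely generated commutative
Hopf algebra over k all of whose finite-dimensional comodules are semisimple (a reductive group G),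
S and R finitely generated commutative k-algebras with multiplicative A-coactions (G acting on
affine Y = Spec S and X = Spec R), S → R an algebra map compatible with the coactions (a G-morphism
θ : X → Y), S₀ → S and R₀ → R injective k-algebra maps whose images are the subrings of invariants,
and S₀ → R₀ an algebra map with S₀ → R₀ → R equal to S₀ → S → R (θ/G). Suppose R is étale over S, R₀
is étale over S₀, and the canonical map S ⊗_{S₀} R₀ → R is bijective (θ and θ/G étale and X ≅ Y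
×_{Y//G} X//G). Let J be an ideal of S which is a subcomodule (Y' = V(J) a closed G-invariant
subscheme), let S/J and R/JR carry A-coactions for which the quotient maps are compatible with the
coactions (the induced actions on Y' and X' = Y' ×_Y X), and let S₁ → S/J and R₁ → R/JR be injective
k-algebra maps whose images are the subrings of invariants, with S₁ → R₁ an algebra map such that S₁
→ R₁ → R/JR equals S₁ → S/J → R/JR. Then R/JR is étale over S/J, R₁ is étale over S₁, and the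
canonical map (S/J) ⊗_{S₁} R₁ → R/JR is bijective (θ' : X' → Y' and θ'/G are étale and X' ≅ Y'
×_{Y'//G} X'//G). -/
theorem result (k : Type u) [Field k] [IsAlgClosed k] [CharZero k]
    (A : Type u) [CommRing A] [HopfAlgebra k A] [Algebra.FiniteType k A] (hG : HopfRep.IsLinearlyReductive k A)
    (S : Type u) [CommRing S] [Algebra k S] [Algebra.FiniteType k S] [HopfRep.Comod k A S] [GLin.IsCoactAlg k A S]
    (R : Type u) [CommRing R] [Algebra k R] [Algebra.FiniteType k R] [HopfRep.Comod k A R] [GLin.IsCoactAlg k A R]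
    [Algebra S R] [IsScalarTower k S R]
    (hequiv : (∀ s : S, HopfRep.Comod.coact (k := k) (A := A) (algebraMap S R s) =
      Algebra.TensorProduct.map (IsScalarTower.toAlgHom k S R) (AlgHom.id k A) (HopfRep.Comod.coact (k := k) (A := A) s)))
    (S₀ : Type u) [CommRing S₀] [Algebra k S₀] [Algebra S₀ S] [IsScalarTower k S₀ S]
    (hS₀i : Function.Injective (algebraMap S₀ S)) (hS₀ : (IsScalarTower.toAlgHom k S₀ S).range = GLin.invariants k A S)
    (R₀ : Type u) [CommRing R₀] [Algebra k R₀] [Algebra R₀ R] [IsScalarTower k R₀ R]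
    (hR₀i : Function.Injective (algebraMap R₀ R)) (hR₀ : (IsScalarTower.toAlgHom k R₀ R).range = GLin.invariants k A R)
    [Algebra S₀ R₀] [Algebra S₀ R] [IsScalarTower S₀ S R] [IsScalarTower S₀ R₀ R]
    (het : Algebra.Etale S R) (het₀ : Algebra.Etale S₀ R₀)
    (hcart : Function.Bijective (Algebra.TensorProduct.productMap (IsScalarTower.toAlgHom S₀ S R) (IsScalarTower.toAlgHom S₀ R₀ R)))
    (J : Ideal S) (hJ : HopfRep.IsSubcomod (k := k) (A := A) (J.restrictScalars k))
    [HopfRep.Comod k A (S ⧸ J)] [GLin.IsCoactAlg k A (S ⧸ J)]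
    (hqS : (∀ s : S, HopfRep.Comod.coact (k := k) (A := A) ((Ideal.Quotient.mkₐ k J) s) =
        Algebra.TensorProduct.map (Ideal.Quotient.mkₐ k J) (AlgHom.id k A) (HopfRep.Comod.coact (k := k) (A := A) s)))
    [HopfRep.Comod k A (R ⧸ J.map (algebraMap S R))] [GLin.IsCoactAlg k A (R ⧸ J.map (algebraMap S R))]
    (hqR : (∀ s : R, HopfRep.Comod.coact (k := k) (A := A) ((Ideal.Quotient.mkₐ k (J.map (algebraMap S R))) s) =
        Algebra.TensorProduct.map (Ideal.Quotient.mkₐ k (J.map (algebraMap S R))) (AlgHom.id k A) (HopfRep.Comod.coact (k := k) (A := A) s)))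
    (S₁ : Type u) [CommRing S₁] [Algebra k S₁] [Algebra S₁ (S ⧸ J)] [IsScalarTower k S₁ (S ⧸ J)]
    (hS₁i : Function.Injective (algebraMap S₁ (S ⧸ J)))
    (hS₁ : (IsScalarTower.toAlgHom k S₁ (S ⧸ J)).range = GLin.invariants k A (S ⧸ J))
    (R₁ : Type u) [CommRing R₁] [Algebra k R₁] [Algebra R₁ (R ⧸ J.map (algebraMap S R))] [IsScalarTower k R₁ (R ⧸ J.map (algebraMap S R))]
    (hR₁i : Function.Injective (algebraMap R₁ (R ⧸ J.map (algebraMap S R))))
    (hR₁ : (IsScalarTower.toAlgHom k R₁ (R ⧸ J.map (algebraMap S R))).range = GLin.invariants k A (R ⧸ J.map (algebraMap S R)))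
    [Algebra S₁ R₁] [Algebra S₁ (R ⧸ J.map (algebraMap S R))]
    [IsScalarTower S₁ (S ⧸ J) (R ⧸ J.map (algebraMap S R))] [IsScalarTower S₁ R₁ (R ⧸ J.map (algebraMap S R))] :
    Algebra.Etale (S ⧸ J) (R ⧸ J.map (algebraMap S R)) ∧ Algebra.Etale S₁ R₁ ∧
      Function.Bijective (Algebra.TensorProduct.productMap
        (IsScalarTower.toAlgHom S₁ (S ⧸ J) (R ⧸ J.map (algebraMap S R)))
        (IsScalarTower.toAlgHom S₁ R₁ (R ⧸ J.map (algebraMap S R)))) := by
  obtain ⟨α, hα⟩ := exists_isNormIntegral hG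
  haveI := het
  haveI := het₀
  let J' : Ideal R := J.map (algebraMap S R)
  have hmemS : ∀ s, s ∈ GLin.invariants k A S ↔ ∃ s₀ : S₀, algebraMap S₀ S s₀ = s := fun s => by
    rw [← hS₀]; rfl
  have hmemR : ∀ r, r ∈ GLin.invariants k A R ↔ ∃ r₀ : R₀, algebraMap R₀ R r₀ = r := fun r => by
    rw [← hR₀]; rfl
  have hmemS1 : ∀ s, s ∈ GLin.invariants k A (S ⧸ J) ↔ ∃ s₁ : S₁, algebraMap S₁ (S ⧸ J) s₁ = s := fun s => by
    rw [← hS₁]; rfl
  have hmemR1 : ∀ r, r ∈ GLin.invariants k A (R ⧸ J') ↔ ∃ r₁ : R₁, algebraMap R₁ (R ⧸ J') r₁ = r := fun r => by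
    rw [← hR₁]; rfl
  have hqS' : Hoch.IsComodHom A (Ideal.Quotient.mkₐ k J).toLinearMap := LinearMap.ext fun s => hqS s
  have hqR' : Hoch.IsComodHom A (Ideal.Quotient.mkₐ k J').toLinearMap := LinearMap.ext fun s => hqR s
  have hφ : Hoch.IsComodHom A (IsScalarTower.toAlgHom k S R).toLinearMap := LinearMap.ext fun s => hequiv s
  -- the maps of invariant rings
  choose σ hσ using fun s₀ : S₀ => (hmemS1 (Ideal.Quotient.mk J (algebraMap S₀ S s₀))).1
    (map_mem_fixedPts hqS' ((hmemS _).2 ⟨s₀, rfl⟩))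
  choose ρ hρ using fun r₀ : R₀ => (hmemR1 (Ideal.Quotient.mk J' (algebraMap R₀ R r₀))).1
    (map_mem_fixedPts hqR' ((hmemR _).2 ⟨r₀, rfl⟩))
  let σ' : S₀ →+* S₁ :=
    { toFun := σ
      map_one' := hS₁i (by rw [hσ]; simp)
      map_zero' := hS₁i (by rw [hσ]; simp)
      map_add' := fun a b => hS₁i (by rw [hσ]; simp [hσ])
      map_mul' := fun a b => hS₁i (by rw [hσ]; simp [hσ]) }
  let ρ' : R₀ →+* R₁ :=
    { toFun := ρ
      map_one' := hR₁i (by rw [hρ]; simp)
      map_zero' := hR₁i (by rw [hρ]; simp)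
      map_add' := fun a b => hR₁i ((hρ _).trans (by rw [map_add, map_add, map_add]; exact (congrArg₂ (· + ·) (hρ a) (hρ b)).symm))
      map_mul' := fun a b => hR₁i ((hρ _).trans (by rw [map_mul, map_mul, map_mul]; exact (congrArg₂ (· * ·) (hρ a) (hρ b)).symm)) }
  have hσs : Function.Surjective σ' := by
    intro s₁
    obtain ⟨s, hs, hs'⟩ := exists_fixedPts_map_eq hα hqS' Ideal.Quotient.mk_surjective
      ((hmemS1 (algebraMap S₁ (S ⧸ J) s₁)).2 ⟨s₁, rfl⟩)
    obtain ⟨s₀, rfl⟩ := (hmemS s).1 hs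
    exact ⟨s₀, hS₁i ((hσ s₀).trans hs')⟩
  have hρs : Function.Surjective ρ' := by
    intro r₁
    obtain ⟨r, hr, hr'⟩ := exists_fixedPts_map_eq hα hqR' Ideal.Quotient.mk_surjective
      ((hmemR1 (algebraMap R₁ (R ⧸ J') r₁)).2 ⟨r₁, rfl⟩)
    obtain ⟨r₀, rfl⟩ := (hmemR r).1 hr
    exact ⟨r₀, hR₁i ((hρ r₀).trans hr')⟩
  have hcompat : ∀ s₀, algebraMap S₁ R₁ (σ' s₀) = ρ' (algebraMap S₀ R₀ s₀) := fun s₀ => hR₁i (by
    show algebraMap R₁ (R ⧸ J') (algebraMap S₁ R₁ (σ s₀)) = algebraMap R₁ (R ⧸ J') (ρ _)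
    rw [← IsScalarTower.algebraMap_apply S₁ R₁ (R ⧸ J'), IsScalarTower.algebraMap_apply S₁ (S ⧸ J) (R ⧸ J'),
      hσ, hρ, ← IsScalarTower.algebraMap_apply S₀ R₀ R, IsScalarTower.algebraMap_apply S₀ S R]
    rfl)
  let J₀ : Ideal S₀ := J.comap (algebraMap S₀ S)
  have hJσ : ∀ j ∈ J₀, σ' j = 0 := fun j hj => hS₁i (by
    show algebraMap S₁ (S ⧸ J) (σ j) = _
    rw [hσ, map_zero]
    exact Ideal.Quotient.eq_zero_iff_mem.2 hj)
  have hdec : ∀ r : R, ∃ z : S ⊗[S₀] R₀, Algebra.TensorProduct.productMap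
      (IsScalarTower.toAlgHom S₀ S R) (IsScalarTower.toAlgHom S₀ R₀ R) z = r := fun r => hcart.2 r
  -- invariants of the extended ideal
  have hker : ∀ u, ρ' u = 0 → u ∈ J₀.map (algebraMap S₀ R₀) := by
    intro u hu
    have hmem : algebraMap R₀ R u ∈ J' := by
      rw [← Ideal.Quotient.eq_zero_iff_mem, ← hρ, show ρ u = 0 from hu, map_zero]
    have key : ∀ z ∈ J', ∀ c : R, ∃ w ∈ J₀.map (algebraMap S₀ R₀),
        algebraMap R₀ R w = actL α (c * z) := by
      intro z hz
      induction hz using Submodule.span_induction with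
      | mem v hv =>
        obtain ⟨j, hj, rfl⟩ := hv
        intro c
        obtain ⟨t, rfl⟩ := hdec c
        induction t with
        | zero => exact ⟨0, zero_mem _, by simp⟩
        | add a b ha hb =>
          obtain ⟨w, hw, hw'⟩ := ha
          obtain ⟨v, hv, hv'⟩ := hb
          exact ⟨w + v, add_mem hw hv, by rw [map_add, hw', hv', map_add, add_mul, map_add]⟩
        | tmul s r₀ =>
          obtain ⟨j₀, hj₀⟩ := (hmemS (actL α (j * s))).1 (actL_mem_fixedPts hα _)
          refine ⟨algebraMap S₀ R₀ j₀ * r₀, Ideal.mul_mem_right _ _ (Ideal.mem_map_of_mem _ ?_), ?_⟩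
          · show algebraMap S₀ S j₀ ∈ J
            rw [hj₀]
            exact IsSubcomod.actL_mem hJ α (J.mul_mem_right _ hj)
          · rw [Algebra.TensorProduct.productMap_apply_tmul, IsScalarTower.coe_toAlgHom',
              IsScalarTower.coe_toAlgHom',
              show algebraMap S R s * algebraMap R₀ R r₀ * algebraMap S R j =
                algebraMap R₀ R r₀ * algebraMap S R (j * s) by rw [map_mul]; ring,
              actL_mul_invariant α ((hmemR _).2 ⟨r₀, rfl⟩), map_mul, mul_comm,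
              ← IsScalarTower.algebraMap_apply S₀ R₀ R, IsScalarTower.algebraMap_apply S₀ S R, hj₀]
            congr 1
            exact IsComodHom.map_actL hφ α (j * s)
      | zero => exact fun c => ⟨0, zero_mem _, by simp⟩
      | add a b _ _ ha hb =>
        intro c
        obtain ⟨w, hw, hw'⟩ := ha c
        obtain ⟨v, hv, hv'⟩ := hb c
        exact ⟨w + v, add_mem hw hv, by rw [map_add, hw', hv', mul_add, map_add]⟩
      | smul d a _ ha =>
        intro c
        obtain ⟨w, hw, hw'⟩ := ha (c * d)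
        exact ⟨w, hw, by rw [hw', smul_eq_mul, mul_assoc]⟩
    obtain ⟨w, hw, hw'⟩ := key _ hmem 1
    rw [one_mul, actL_eq_self hα (show algebraMap R₀ R u ∈ HopfRep.fixedPts k A R from (hmemR _).2 ⟨u, rfl⟩)] at hw'
    exact hR₀i hw' ▸ hw
  refine ⟨Algebra.Etale.of_equiv (Algebra.TensorProduct.quotIdealMapEquivQuotTensor R J).symm, ?_, ?_⟩
  · letI := σ'.toAlgebra
    letI := ((algebraMap S₁ R₁).comp σ').toAlgebra
    haveI : IsScalarTower S₀ S₁ R₁ := IsScalarTower.of_algebraMap_eq' rfl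
    let P : S₁ ⊗[S₀] R₀ →ₐ[S₁] R₁ := Algebra.TensorProduct.lift (Algebra.ofId S₁ R₁)
      ({ ρ' with commutes' := fun s₀ => (hcompat s₀).symm } : R₀ →ₐ[S₀] R₁) fun _ _ => Commute.all _ _
    have hP : ∀ s u, P (s ⊗ₜ u) = algebraMap S₁ R₁ s * ρ' u := fun s u => by
      simp [P]
    have hone : ∀ z : S₁ ⊗[S₀] R₀, ∃ u, z = 1 ⊗ₜ u := by
      intro z
      induction z with
      | zero => exact ⟨0, by simp⟩
      | tmul s u =>
        obtain ⟨s₀, rfl⟩ := hσs s
        refine ⟨s₀ • u, ?_⟩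
        rw [← TensorProduct.smul_tmul, Algebra.smul_def, mul_one]
        rfl
      | add a b ha hb =>
        obtain ⟨u, rfl⟩ := ha
        obtain ⟨v, rfl⟩ := hb
        exact ⟨u + v, (tmul_add _ _ _).symm⟩
    refine Algebra.Etale.of_equiv (AlgEquiv.ofBijective P ⟨?_, fun r₁ => ?_⟩)
    · rw [injective_iff_map_eq_zero]
      intro z hz
      obtain ⟨u, rfl⟩ := hone z
      rw [hP, map_one, one_mul] at hz
      have : J₀.map (algebraMap S₀ R₀) ≤ RingHom.ker
          (Algebra.TensorProduct.includeRight : R₀ →ₐ[S₀] S₁ ⊗[S₀] R₀) :=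
        Ideal.map_le_iff_le_comap.2 fun j hj => by
          show (1 : S₁) ⊗ₜ[S₀] algebraMap S₀ R₀ j = 0
          rw [Algebra.algebraMap_eq_smul_one, ← TensorProduct.smul_tmul, Algebra.smul_def, mul_one,
            show algebraMap S₀ S₁ j = 0 from hJσ j hj, zero_tmul]
      exact this (hker u hz)
    · obtain ⟨u, rfl⟩ := hρs r₁
      exact ⟨1 ⊗ₜ u, by rw [hP, map_one, one_mul]⟩
  · let T := (S ⧸ J) ⊗[S₁] R₁
    letI : Algebra S₀ T := ((algebraMap S₁ T).comp σ').toAlgebra
    let f : S →ₐ[S₀] T :=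
      { ((Algebra.TensorProduct.includeLeft : (S ⧸ J) →ₐ[S₁] T).toRingHom.comp (Ideal.Quotient.mk J)) with
        commutes' := fun s₀ => by
          show (Ideal.Quotient.mk J (algebraMap S₀ S s₀)) ⊗ₜ[S₁] (1 : R₁) = algebraMap S₁ T (σ' s₀)
          rw [← hσ]
          rfl }
    let g : R₀ →ₐ[S₀] T :=
      { ((Algebra.TensorProduct.includeRight : R₁ →ₐ[S₁] T).toRingHom.comp ρ') with
        commutes' := fun s₀ => by
          show (1 : S ⧸ J) ⊗ₜ[S₁] ρ' (algebraMap S₀ R₀ s₀) = algebraMap S₁ T (σ' s₀)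
          rw [← hcompat]
          exact Algebra.TensorProduct.tmul_one_eq_one_tmul (σ' s₀) |>.symm }
    let e := AlgEquiv.ofBijective _ hcart
    let Ψ₀ : R →ₐ[S₀] T := (Algebra.TensorProduct.lift f g fun _ _ => Commute.all _ _).comp e.symm.toAlgHom
    have hΨ₀ : ∀ s u, Ψ₀ (algebraMap S R s * algebraMap R₀ R u) =
        (Ideal.Quotient.mk J s) ⊗ₜ[S₁] ρ' u := fun s u => by
      have : e.symm (algebraMap S R s * algebraMap R₀ R u) = s ⊗ₜ[S₀] u := by
        rw [AlgEquiv.symm_apply_eq]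
        simp [e]
      refine ((congrArg (Algebra.TensorProduct.lift f g fun _ _ => Commute.all _ _) this).trans
        (Algebra.TensorProduct.lift_tmul _ _ _ _ _)).trans ?_
      show (Ideal.Quotient.mk J s) ⊗ₜ[S₁] (1 : R₁) * (1 : S ⧸ J) ⊗ₜ[S₁] ρ' u = _
      rw [Algebra.TensorProduct.tmul_mul_tmul, mul_one, one_mul]
    have hΨJ : J' ≤ RingHom.ker Ψ₀ := Ideal.map_le_iff_le_comap.2 fun j hj => by
      show Ψ₀ (algebraMap S R j) = 0
      have := hΨ₀ j 1
      rw [map_one, mul_one, Ideal.Quotient.eq_zero_iff_mem.2 hj, zero_tmul] at this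
      exact this
    let Ψ : R ⧸ J' →+* T := Ideal.Quotient.lift J' Ψ₀.toRingHom fun a ha => hΨJ ha
    refine ⟨Function.LeftInverse.injective (g := Ψ) fun z => ?_, fun r => ?_⟩
    · induction z using TensorProduct.induction_on with
      | zero => simp
      | tmul s u =>
        obtain ⟨s, rfl⟩ := Ideal.Quotient.mk_surjective s
        obtain ⟨u, rfl⟩ := hρs u
        rw [Algebra.TensorProduct.productMap_apply_tmul, IsScalarTower.coe_toAlgHom', IsScalarTower.coe_toAlgHom',
          show algebraMap R₁ (R ⧸ J') (ρ' u) = _ from hρ u]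
        exact hΨ₀ s u
      | add a b ha hb => simp only [map_add, ha, hb]
    · obtain ⟨r, rfl⟩ := Ideal.Quotient.mk_surjective r
      obtain ⟨z, rfl⟩ := hdec r
      induction z with
      | zero => exact ⟨0, by simp⟩
      | tmul s u =>
        refine ⟨Ideal.Quotient.mk J s ⊗ₜ[S₁] ρ' u, ?_⟩
        rw [Algebra.TensorProduct.productMap_apply_tmul, Algebra.TensorProduct.productMap_apply_tmul]
        simp only [IsScalarTower.coe_toAlgHom']
        rw [show algebraMap R₁ (R ⧸ J') (ρ' u) = _ from hρ u, map_mul]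
        rfl
      | add a b ha hb =>
        obtain ⟨w, hw⟩ := ha
        obtain ⟨v, hv⟩ := hb
        exact ⟨w + v, by rw [map_add, hw, hv, map_add, map_add]⟩

end Groth.Agent.S19408
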