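import Groth.Statements.S19409
import Mathlib
import Groth.Agent.NRQ6.Basic

set_option autoImplicit false
universe u
open CategoryTheory MonoidalCategory CartesianMonoidalCategory MonObj AlgebraicGeometry Topology
open NRQuot

namespace Groth.Agent.S19409

/-- Suppose k is a field that is algebraically closed (its characteristic is arbitrary, since
characteristic zero plays no role in the argument). Consider an algebraic group G over k, i.e. an
affine group scheme of finite type over k, together with an action of G on a k-scheme X that is
locally of finite type, and assume φ : X → Y is a good quotient (meaning φ is affine and invariant,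
on each open of Y the functions are precisely the invariant functions on its preimage, closed
invariant subsets are sent to closed subsets, and taking images commutes with intersecting families
of closed invariant subsets). Given any k-point y of Y, one can find a k-point x of X lying over y
whose orbit (the image of the orbit morphism G → X) is a closed subset of X; moreover, whenever x'
is a k-point of X over y with closed orbit, x' is obtained from x by acting with some k-point of G.
In other words, each fibre of φ over a k-point contains a unique closed orbit. -/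
theorem result
    (k : Type u) [Field k] [IsAlgClosed k]
    (G X Y : Over (Spec (CommRingCat.of k))) [GrpObj G] [IsAffine G.left] [LocallyOfFiniteType G.hom]
    [LocallyOfFiniteType X.hom]
    (a : AlgGrp.Action G X) (φ : X ⟶ Y) (h : NRQuot.IsGoodQuot a φ)
    (y : 𝟙_ (Over (Spec (CommRingCat.of k))) ⟶ Y) :
    ∃ x : 𝟙_ (Over (Spec (CommRingCat.of k))) ⟶ X, x ≫ φ = y ∧ IsClosed (Set.range (a.orbitMap x).left.base) ∧
      ∀ x' : 𝟙_ (Over (Spec (CommRingCat.of k))) ⟶ X, x' ≫ φ = y → IsClosed (Set.range (a.orbitMap x').left.base) →
        ∃ g : 𝟙_ (Over (Spec (CommRingCat.of k))) ⟶ G, lift g x ≫ a.act = x' := by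
  haveI : JacobsonSpace X.left := LocallyOfFiniteType.jacobsonSpace X.hom
  obtain ⟨x, hx, hxc⟩ := Groth.Agent.NRQ6.exists_closed_orbit_in_fibre a φ h y
  refine ⟨x, hx, hxc, fun x' hx' hxc' => ?_⟩
  obtain ⟨z, ⟨h1, h2⟩, hzc⟩ := nonempty_inter_closedPoints (X := X.left)
    (Groth.Agent.NRQ6.exists_common_point a φ h x x' (hx.trans hx'.symm)) (isClosed_closure.inter isClosed_closure).isLocallyClosed
  rw [hxc.closure_eq] at h1
  rw [hxc'.closure_eq] at h2
  obtain ⟨w, rfl⟩ := Groth.Agent.GrpSch.exists_ratPoint X hzc
  obtain ⟨g₁, hg₁⟩ := Groth.Agent.NRQ6.exists_translate a x w h1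
  obtain ⟨g₂, hg₂⟩ := Groth.Agent.NRQ6.exists_translate a x' w h2
  refine ⟨g₂⁻¹ * g₁, ?_⟩
  rw [Groth.Agent.GrpSch.act_mul, hg₁, ← hg₂, ← Groth.Agent.GrpSch.act_mul, inv_mul_cancel, Groth.Agent.GrpSch.act_one]

end Groth.Agent.S19409
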