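import Groth.Statements.S19412
import Mathlib.RingTheory.Etale.Basic
import Mathlib.RingTheory.Spectrum.Prime.Topology

set_option autoImplicit false
universe u
open TensorProduct
open GLin

namespace Groth.Agent.S19412

/-- Let k be an algebraically closed field of characteristic zero, A a finitely generated commutative
Hopf algebra over k (an algebraic group G), S and R finitely generated commutative k-algebras with
multiplicative A-coactions (G acting on affine Y = Spec S, X = Spec R), S → R an algebra map
compatible with the coactions (a G-morphism φ : X → Y), S₀ → S and R₀ → R injective k-algebra maps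
whose images are the subrings of invariants, and S₀ → R₀ an algebra map with S₀ → R₀ → R equal to S₀
→ S → R (φ/G). Suppose R₀ is étale over S₀ and the canonical map S ⊗_{S₀} R₀ → R is bijective (φ is
strongly étale: φ/G étale and X ≅ Y ×_{Y//G} X//G). Then R is étale over S (φ étale), and for every
k-point x of X: every k-point of G fixing the image point φ(x) fixes x (φ restricted to the orbit of
x is injective), and the orbit of x is closed if and only if the orbit of φ(x) is closed. (The
published item also asserts that φ is surjective; that fails when φ is the inclusion of a proper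
saturated open subset, which is strongly étale, so surjectivity is not asserted here.) -/
theorem result (k : Type u) [Field k] [IsAlgClosed k] [CharZero k]
    (A : Type u) [CommRing A] [HopfAlgebra k A] [Algebra.FiniteType k A]
    (S : Type u) [CommRing S] [Algebra k S] [Algebra.FiniteType k S] [HopfRep.Comod k A S] [GLin.IsCoactAlg k A S]
    (R : Type u) [CommRing R] [Algebra k R] [Algebra.FiniteType k R] [HopfRep.Comod k A R] [GLin.IsCoactAlg k A R]
    [Algebra S R] [IsScalarTower k S R]
    (hequiv : (∀ s : S, HopfRep.Comod.coact (k := k) (A := A) (algebraMap S R s) =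
      Algebra.TensorProduct.map (IsScalarTower.toAlgHom k S R) (AlgHom.id k A) (HopfRep.Comod.coact (k := k) (A := A) s)))
    (S₀ : Type u) [CommRing S₀] [Algebra k S₀] [Algebra S₀ S] [IsScalarTower k S₀ S]
    (hS₀i : Function.Injective (algebraMap S₀ S)) (hS₀ : (IsScalarTower.toAlgHom k S₀ S).range = GLin.invariants k A S)
    (R₀ : Type u) [CommRing R₀] [Algebra k R₀] [Algebra R₀ R] [IsScalarTower k R₀ R]
    (hR₀i : Function.Injective (algebraMap R₀ R)) (hR₀ : (IsScalarTower.toAlgHom k R₀ R).range = GLin.invariants k A R)
    [Algebra S₀ R₀] [Algebra S₀ R] [IsScalarTower S₀ S R] [IsScalarTower S₀ R₀ R]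
    (het₀ : Algebra.Etale S₀ R₀)
    (hcart : Function.Bijective (Algebra.TensorProduct.productMap (IsScalarTower.toAlgHom S₀ S R) (IsScalarTower.toAlgHom S₀ R₀ R))) :
    Algebra.Etale S R ∧
      ∀ x : R →ₐ[k] k,
        (∀ g : A →ₐ[k] k, GLin.actPt k g (x.comp (IsScalarTower.toAlgHom k S R)) = x.comp (IsScalarTower.toAlgHom k S R) →
          GLin.actPt k g x = x) ∧
        (GLin.IsClosedOrbit k A x ↔ GLin.IsClosedOrbit k A (x.comp (IsScalarTower.toAlgHom k S R))) := by
  classical
  let f : TensorProduct S₀ S R₀ →ₐ[S] R :=
    Algebra.TensorProduct.lift (Algebra.ofId S R) (IsScalarTower.toAlgHom S₀ R₀ R) fun _ _ => Commute.all _ _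
  have hfeq : ∀ z, f z = Algebra.TensorProduct.productMap (IsScalarTower.toAlgHom S₀ S R) (IsScalarTower.toAlgHom S₀ R₀ R) z := by
    intro z
    induction z using TensorProduct.induction_on with
    | zero => simp
    | tmul a b => simp [f, Algebra.ofId_apply]
    | add a b ha hb => rw [map_add, map_add, ha, hb]
  have hfb : Function.Bijective f := by rwa [show (f : _ → R) = _ from funext hfeq]
  refine ⟨Algebra.Etale.of_equiv (AlgEquiv.ofBijective f hfb), fun x => ?_⟩
  let π₀ := IsScalarTower.toAlgHom k S R
  have horb : GLin.orbitHom k A (x.comp π₀) = (GLin.orbitHom k A x).comp π₀ := by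
    apply AlgHom.ext
    intro s
    show TensorProduct.lid k A (Algebra.TensorProduct.map (x.comp π₀) (AlgHom.id k A) (HopfRep.Comod.coact s)) =
      TensorProduct.lid k A (Algebra.TensorProduct.map x (AlgHom.id k A) (HopfRep.Comod.coact (algebraMap S R s)))
    rw [hequiv]
    generalize HopfRep.Comod.coact (k := k) (A := A) s = z
    induction z using TensorProduct.induction_on with
    | zero => simp
    | tmul a b => simp [π₀]
    | add a b ha hb => simp only [map_add, ha, hb]
  have hinv : ∀ r₀ : R₀, GLin.orbitHom k A x (algebraMap R₀ R r₀) = algebraMap k A (x (algebraMap R₀ R r₀)) := by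
    intro r₀
    have hm : algebraMap R₀ R r₀ ∈ GLin.invariants k A R := hR₀ ▸ ⟨r₀, rfl⟩
    show TensorProduct.lid k A (Algebra.TensorProduct.map x (AlgHom.id k A) (HopfRep.Comod.coact _)) = _
    rw [(GLin.mem_invariants_iff k A R _).1 hm]
    simp [Algebra.algebraMap_eq_smul_one]
  constructor
  · intro g hg
    refine AlgHom.ext fun r => ?_
    obtain ⟨z, rfl⟩ := hcart.2 r
    induction z using TensorProduct.induction_on with
    | zero => simp
    | add a b ha hb => simp only [map_add, ha, hb]
    | tmul a b =>
      have h1 : GLin.actPt k g x (algebraMap S R a) = x (algebraMap S R a) := by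
        have := AlgHom.congr_fun hg a
        simp only [GLin.actPt, AlgHom.comp_apply] at this
        rw [show IsScalarTower.toAlgHom k S R = π₀ from rfl, horb] at this
        exact this
      have h2 : GLin.actPt k g x (algebraMap R₀ R b) = x (algebraMap R₀ R b) := by
        simp [GLin.actPt, hinv]
      simp only [Algebra.TensorProduct.productMap_apply_tmul, IsScalarTower.coe_toAlgHom', map_mul, h1, h2]
  · let I : Ideal R := Ideal.span (Set.range fun b : R₀ => algebraMap R₀ R b - algebraMap k R (x (algebraMap R₀ R b)))
    have hI : I ≤ RingHom.ker (GLin.orbitHom k A x).toRingHom := by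
      rw [Ideal.span_le]
      rintro _ ⟨b, rfl⟩
      simp [RingHom.mem_ker, hinv]
    let ob : R ⧸ I →+* A := Ideal.Quotient.lift I (GLin.orbitHom k A x).toRingHom hI
    let j : S →+* R ⧸ I := (Ideal.Quotient.mk I).comp (algebraMap S R)
    have hj : Function.Surjective j := by
      intro y
      obtain ⟨r, rfl⟩ := Ideal.Quotient.mk_surjective y
      obtain ⟨z, rfl⟩ := hcart.2 r
      induction z using TensorProduct.induction_on with
      | zero => exact ⟨0, by simp⟩
      | add a b ha hb =>
        obtain ⟨u, hu⟩ := ha
        obtain ⟨v, hv⟩ := hb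
        exact ⟨u + v, by simp [hu, hv]⟩
      | tmul a b =>
        refine ⟨a * algebraMap k S (x (algebraMap R₀ R b)), ?_⟩
        have : Ideal.Quotient.mk I (algebraMap R₀ R b) = Ideal.Quotient.mk I (algebraMap k R (x (algebraMap R₀ R b))) :=
          Ideal.Quotient.eq.2 (Ideal.subset_span ⟨b, rfl⟩)
        show Ideal.Quotient.mk I (algebraMap S R (a * algebraMap k S _)) = Ideal.Quotient.mk I _
        rw [Algebra.TensorProduct.productMap_apply_tmul, IsScalarTower.coe_toAlgHom', IsScalarTower.coe_toAlgHom', map_mul, map_mul,
          map_mul, ← IsScalarTower.algebraMap_apply k S R, this]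
    have e1 : (GLin.orbitHom k A x).toRingHom = ob.comp (Ideal.Quotient.mk I) := rfl
    have e2 : (GLin.orbitHom k A (x.comp π₀)).toRingHom = ob.comp j := by rw [horb]; rfl
    show IsClosed _ ↔ IsClosed _
    rw [show IsScalarTower.toAlgHom k S R = π₀ from rfl, e1, e2, PrimeSpectrum.comap_comp, PrimeSpectrum.comap_comp,
      Set.range_comp, Set.range_comp,
      ← (PrimeSpectrum.isClosedEmbedding_comap_of_surjective _ _ Ideal.Quotient.mk_surjective).isClosed_iff_image_isClosed,
      ← (PrimeSpectrum.isClosedEmbedding_comap_of_surjective _ _ hj).isClosed_iff_image_isClosed]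

end Groth.Agent.S19412
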