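import Groth.Statements.S19416
import Groth.Agent.DiagCodim.InterDim

set_option autoImplicit false
universe u
open CategoryTheory AlgebraicGeometry
open IntMult

open CategoryTheory CategoryTheory.Limits

namespace Groth.Agent.S19416

/-- Let k be a field and X a smooth variety over k (the structure morphism X → Spec k smooth, separated
and quasi-compact, X integral) of dimension n, and let V, W ⊆ X be closed irreducible subsets of
dimensions r and s. Then every irreducible component Z of V ∩ W has dimension at least r + s − n,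
stated as r + s ≤ dim Z + n with Krull dimensions of the subspaces; equivalently the codimension of
Z is at most the sum of the codimensions of V and W. The base field is arbitrary here; the same
statement over an algebraically closed field is the classical dimension count for intersections on a
nonsingular variety. -/
theorem result (k : Type u) [Field k] (X : Scheme.{u})
    (f : X ⟶ Spec (CommRingCat.of k)) [Smooth f] [IsSeparated f] [QuasiCompact f] [IsIntegral X]
    (n r s : ℕ) (hn : topologicalKrullDim X = n) (V W : Set X) (hVc : IsClosed V)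
    (hVi : IsIrreducible V) (hWc : IsClosed W) (hWi : IsIrreducible W)
    (hr : topologicalKrullDim ↥V = r) (hs : topologicalKrullDim ↥W = s) (Z : Set ↥(V ∩ W))
    (hZ : Z ∈ irreducibleComponents ↥(V ∩ W)) :
    ((r + s : ℕ) : WithBot ℕ∞) ≤ topologicalKrullDim ↥Z + n := by
  haveI : IsLocallyNoetherian X := LocallyOfFiniteType.isLocallyNoetherian f
  haveI : JacobsonSpace ↥X := LocallyOfFiniteType.jacobsonSpace f
  let CV : TopologicalSpace.Closeds X := ⟨V, hVc⟩
  let CW : TopologicalSpace.Closeds X := ⟨W, hWc⟩
  let jV := (Scheme.IdealSheafData.vanishingIdeal CV).subschemeι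
  let jW := (Scheme.IdealSheafData.vanishingIdeal CW).subschemeι
  have hjV : Set.range jV = V := RedSepLib.range_vanishingIdeal_subschemeι CV
  have hjW : Set.range jW = W := RedSepLib.range_vanishingIdeal_subschemeι CW
  haveI := AffineComp.isIntegral_vanishingIdeal CV hVi
  haveI := AffineComp.isIntegral_vanishingIdeal CW hWi
  have hrV : topologicalKrullDim ↥(Scheme.IdealSheafData.vanishingIdeal CV).subscheme = r := by
    rw [jV.isEmbedding.toHomeomorph.isHomeomorph.topologicalKrullDim_eq, hjV, hr]
  have hsW : topologicalKrullDim ↥(Scheme.IdealSheafData.vanishingIdeal CW).subscheme = s := by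
    rw [jW.isEmbedding.toHomeomorph.isHomeomorph.topologicalKrullDim_eq, hjW, hs]
  let j : pullback (jV ≫ f) (jW ≫ f) ⟶ pullback f f :=
    pullback.map (jV ≫ f) (jW ≫ f) f f jV jW (𝟙 _) (Category.comp_id _) (Category.comp_id _)
  have hrange : Set.range j = pullback.fst f f ⁻¹' V ∩ pullback.snd f f ⁻¹' W := by
    rw [Scheme.Pullback.range_map, hjV, hjW]
  haveI : IsClosedImmersion j :=
    MorphismProperty.pullbackMap (P := @IsClosedImmersion) (f' := f) (g' := f) (i₁ := jV) (i₂ := jW)
      inferInstance inferInstance rfl rfl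
  haveI : LocallyOfFiniteType (pullback.fst f f) := MorphismProperty.pullback_fst _ _ inferInstance
  haveI : IsLocallyNoetherian (pullback f f) :=
    LocallyOfFiniteType.isLocallyNoetherian (pullback.fst f f ≫ f)
  haveI : IsLocallyNoetherian (pullback (jV ≫ f) (jW ≫ f)) :=
    LocallyOfFiniteType.isLocallyNoetherian (j ≫ pullback.fst f f ≫ f)
  -- the component
  have hemb : Topology.IsEmbedding (fun z : Z => (z.1 : X)) :=
    Topology.IsEmbedding.subtypeVal.comp Topology.IsEmbedding.subtypeVal
  let Zx : Set X := Subtype.val '' Z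
  have hZc : IsClosed Zx := (hVc.inter hWc).isClosedEmbedding_subtypeVal.isClosedMap _
    (isClosed_of_mem_irreducibleComponents Z hZ)
  have hZi : IsIrreducible Zx := hZ.1.image _ continuous_subtype_val.continuousOn
  let ζ := hZi.genericPoint
  have hζ : closure {ζ} = Zx := hZi.closure_genericPoint hZc
  have hrg : Set.range (fun z : Z => (z.1 : X)) = closure {ζ} := by
    rw [hζ]; ext x; simp [Zx]
  have hdim : topologicalKrullDim ↥Z = (Order.height ζ : WithBot ℕ∞) := by
    rw [hemb.toHomeomorph.isHomeomorph.topologicalKrullDim_eq, hrg,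
      DimTheory.topologicalKrullDim_closure]
  obtain ⟨⟨ζ', hζVW⟩, hζZ, e⟩ : ζ ∈ Zx := hζ ▸ subset_closure rfl
  obtain rfl : ζ' = ζ := e
  have hdiag : ∀ x : X, pullback.fst f f (pullback.diagonal f x) = x ∧
      pullback.snd f f (pullback.diagonal f x) = x := fun x =>
    ⟨by rw [← Scheme.Hom.comp_apply, pullback.diagonal_fst]; rfl,
     by rw [← Scheme.Hom.comp_apply, pullback.diagonal_snd]; rfl⟩
  have hmax : ∀ x : X, x ∈ V ∩ W → x ⤳ ζ → x = ζ := by
    intro x hx hxζ
    have h1 : Z ⊆ closure {(⟨x, hx⟩ : ↥(V ∩ W))} := by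
      intro z hz
      refine specializes_iff_mem_closure.1 (subtype_specializes_iff _ _ |>.2 (hxζ.trans ?_))
      exact specializes_iff_mem_closure.2 (hζ ▸ ⟨z, hz, rfl⟩ : (z : X) ∈ closure {ζ})
    have h2 := hZ.2 isIrreducible_singleton.closure h1
    have h3 : x ∈ closure {ζ} := hζ ▸ ⟨⟨x, hx⟩, h2 (subset_closure rfl), rfl⟩
    exact (hxζ.antisymm (specializes_iff_mem_closure.2 h3)).eq
  obtain ⟨p, hp⟩ : pullback.diagonal f ζ ∈ Set.range j := by
    rw [hrange]
    refine ⟨?_, ?_⟩
    · show pullback.fst f f _ ∈ V; rw [(hdiag ζ).1]; exact hζVW.1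
    · show pullback.snd f f _ ∈ W; rw [(hdiag ζ).2]; exact hζVW.2
  -- the diagonal
  obtain ⟨hcl, hreg⟩ := PCHom.isRegularClosedImmersion_diagonal f
  haveI := hcl
  obtain ⟨U, hU, hζU, rs, hrs, hker⟩ := hreg ζ
  rw [Scheme.Hom.ker_apply] at hker
  haveI := IsZariskiLocalAtTarget.restrict hcl U
  have hlen : rs.length = n := by
    obtain ⟨z', hz'U, hz'c⟩ := nonempty_inter_closedPoints (Z := ((pullback.diagonal f) ⁻¹ᵁ U : Set X))
      ⟨ζ, hζU⟩ ((pullback.diagonal f) ⁻¹ᵁ U).isOpen.isLocallyClosed
    have hp' : IsClosed ({pullback.diagonal f z'} : Set ↥(pullback f f)) := by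
      rw [← Set.image_singleton]
      exact (pullback.diagonal f).isClosedEmbedding.isClosedMap _ hz'c
    have h := DiagCodim.dim_stalk_add_length (pullback.diagonal f) hU hrs hker z' hz'U
    rw [DiagCodim.dim_stalk_prod k f hn hp', ringKrullDim_stalk_eq_coheight] at h
    have h2 := DimTheory.height_add_coheight f z'
    rw [DimTheory.height_eq_zero_of_isClosed hz'c, zero_add, hn] at h2
    rw [h2] at h
    have h3 : n + rs.length = n + n := by exact_mod_cast h
    omega
  have hco : Order.coheight p ≤ (rs.length : ℕ∞) := by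
    refine DiagCodim.coheight_le_length j rs p (hp ▸ hζU)
      (DiagCodim.notMem_basicOpen (pullback.diagonal f) hker ⟨ζ, hp.symm⟩) fun q hq hv => ?_
    have hqU : j q ∈ U := (hq.map j.continuous).mem_open U.2 (hp ▸ hζU)
    obtain ⟨x, hx⟩ := DiagCodim.mem_range_of_vanish (pullback.diagonal f) hU hker hqU hv
    have hxVW : x ∈ V ∩ W := by
      have := hrange.le ⟨q, rfl⟩
      rw [← hx] at this
      refine ⟨?_, ?_⟩
      · simpa [(hdiag x).1] using this.1
      · simpa [(hdiag x).2] using this.2
    have hxζ : pullback.diagonal f x ⤳ pullback.diagonal f ζ := by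
      rw [hx, ← hp]; exact hq.map j.continuous
    have := hmax x hxVW ((pullback.diagonal f).isEmbedding.isInducing.specializes_iff.1 hxζ)
    exact j.isEmbedding.injective (by rw [← hx, this, hp])
  have e1 := DiagCodim.height_add_coheight_prod k (jV ≫ f) (jW ≫ f) hrV hsW p
  have e2 : Order.height p = Order.height ζ := by
    rw [← DimTheory.height_immersion (pullback.fst f f ≫ f) j p, hp,
      DimTheory.height_immersion (pullback.fst f f ≫ f) (pullback.diagonal f) ζ]
  rw [hdim]
  have e3 : ((r + s : ℕ) : ℕ∞) ≤ Order.height ζ + (n : ℕ∞) := by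
    rw [← e1, e2, ← hlen]
    exact add_le_add le_rfl hco
  exact_mod_cast e3

end Groth.Agent.S19416
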