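import Groth.Statements.S19425
import Mathlib
import Groth.Agent.GrpSch.Desc
import Groth.Agent.GrpSch.FieldTop

set_option autoImplicit false
universe u
open CategoryTheory MonoidalCategory CartesianMonoidalCategory MonObj AlgebraicGeometry Topology
open NRQuot

namespace Groth.Agent.S19425

set_option backward.isDefEq.respectTransparency.types false

lemma bij_appLE {V X : Scheme.{u}} (i : V ⟶ X) [IsOpenImmersion i] (O : X.Opens) (O' : V.Opens) (h : O' = i ⁻¹ᵁ O)
    (hO : (O : Set X) ⊆ Set.range i.base) (e : O' ≤ i ⁻¹ᵁ O) : Function.Bijective (i.appLE O O' e) := by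
  subst h
  rw [Scheme.Hom.appLE_eq_app]
  haveI := i.isIso_app O (fun x hx => hO hx)
  exact ConcreteCategory.bijective_of_isIso (i.app O)

lemma image_inter {α β δ : Type*} (f : α → δ) (j : β → α) (s : Set α) (T : Set δ) (hj : Set.range j = f ⁻¹' T) :
    (fun b => f (j b)) '' (j ⁻¹' s) = f '' s ∩ T := by
  ext y
  constructor
  · rintro ⟨b, hb, rfl⟩
    exact ⟨⟨_, hb, rfl⟩, (hj.subset ⟨b, rfl⟩ : j b ∈ f ⁻¹' T)⟩
  · rintro ⟨⟨x, hx, rfl⟩, hT⟩
    obtain ⟨b, rfl⟩ := hj.ge (show x ∈ f ⁻¹' T from hT)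
    exact ⟨b, hx, rfl⟩

/-- Let k be an algebraically closed field, G an affine group scheme of finite type over k acting on a
k-scheme X locally of finite type, φ : X → Y a good quotient (affine and invariant, functions on
every open of Y are exactly the invariant functions on its preimage, invariant closed subsets have
closed images, and images commute with intersections of families of invariant closed subsets), and U
an open subset of Y. Equip the open subscheme φ⁻¹(U) of X with the restricted action, given here as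
an action compatible with the inclusion into X, and let φ_U : φ⁻¹(U) → U be the restriction of φ.
Then φ_U is a good quotient for the restricted action. -/
theorem result
    (k : Type u) [Field k] [IsAlgClosed k]
    (G X Y : Over (Spec (CommRingCat.of k))) [GrpObj G] [IsAffine G.left] [LocallyOfFiniteType G.hom]
    [LocallyOfFiniteType X.hom]
    (a : AlgGrp.Action G X) (φ : X ⟶ Y) (h : NRQuot.IsGoodQuot a φ)
    (U : Y.left.Opens)
    (aU : AlgGrp.Action G (Over.mk ((φ.left ⁻¹ᵁ U).ι ≫ X.hom)))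
    (jU : Over.mk ((φ.left ⁻¹ᵁ U).ι ≫ X.hom) ⟶ X) (hjU : jU.left = (φ.left ⁻¹ᵁ U).ι)
    (haU : aU.act ≫ jU = (G ◁ jU) ≫ a.act)
    (φU : Over.mk ((φ.left ⁻¹ᵁ U).ι ≫ X.hom) ⟶ Over.mk (U.ι ≫ Y.hom))
    (hφU : φU.left ≫ U.ι = (φ.left ⁻¹ᵁ U).ι ≫ φ.left) :
    NRQuot.IsGoodQuot aU φU := by
  haveI : IsAffineHom φ.left := h.affine
  haveI : IsOpenImmersion jU.left := Eq.mpr (congrArg (fun q => IsOpenImmersion q) hjU) (inferInstanceAs (IsOpenImmersion (φ.left ⁻¹ᵁ U).ι))
  haveI : IsOpenImmersion (G ◁ jU).left := Groth.Agent.GrpSch.Desc.whiskerLeft_prop G jU ‹_›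
  have hφU' : φU.left = φ.left ∣_ U := by rw [← cancel_mono U.ι, hφU, morphismRestrict_ι]
  have hφl : φU.left ≫ U.ι = jU.left ≫ φ.left := by rw [hjU, hφU]
  have hrange : Set.range jU.left.base = φ.left.base ⁻¹' (U : Set Y.left) := by
    rw [hjU, Scheme.Opens.range_ι]; rfl
  have hpt : ∀ p, U.ι.base (φU.left.base p) = φ.left.base (jU.left.base p) := fun p => by
    rw [← Scheme.Hom.comp_apply, hφl, Scheme.Hom.comp_apply]
  have hw : (G ◁ jU).left ≫ a.act.left = aU.act.left ≫ jU.left :=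
    (congrArg (fun q => q.left) haU).symm
  have hs : (G ◁ jU).left ≫ (snd G X).left = (snd G _).left ≫ jU.left :=
    congrArg (fun q => q.left) (whiskerLeft_snd G jU)
  have hinvU : GIT.IsInvariant aU φU := by
    refine Over.OverMorphism.ext ?_
    rw [← cancel_mono U.ι, Over.comp_left, Over.comp_left, Category.assoc, Category.assoc, hφl, ← Category.assoc, ← hw,
      Category.assoc, h.inv.left, ← Category.assoc, hs, Category.assoc]
  -- extension of invariant closed subsets
  have hext : ∀ W : Set ↥((φ.left ⁻¹ᵁ U : X.left.Opens) : Scheme), IsClosed W → NRQuot.IsInvariantSet aU W →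
      IsClosed (jU.left.base '' W ∪ φ.left.base ⁻¹' (U : Set Y.left)ᶜ) ∧
      NRQuot.IsInvariantSet a (jU.left.base '' W ∪ φ.left.base ⁻¹' (U : Set Y.left)ᶜ) := by
    intro W hW hWi
    refine ⟨?_, fun p hp => ?_⟩
    · rw [← isOpen_compl_iff]
      convert jU.left.isOpenEmbedding.isOpenMap _ hW.isOpen_compl using 1
      rw [Set.compl_union, ← Set.preimage_compl, compl_compl, ← hrange, Set.image_compl_eq_range_diff_image jU.left.isOpenEmbedding.injective,
        Set.inter_comm]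
      rfl
    · rcases hp with ⟨v, hv, hvp⟩ | hp
      · obtain ⟨q, rfl⟩ : p ∈ Set.range (G ◁ jU).left.base := by
          rw [Groth.Agent.GrpSch.range_whiskerLeft]; exact ⟨v, hvp⟩
        have h1 : v = (snd G _).left.base q := jU.left.isOpenEmbedding.injective (by
          rw [hvp, ← Scheme.Hom.comp_apply, hs, Scheme.Hom.comp_apply])
        exact Or.inl ⟨aU.act.left.base q, hWi q (h1 ▸ hv), by rw [← Scheme.Hom.comp_apply, ← hw, Scheme.Hom.comp_apply]⟩
      · refine Or.inr ?_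
        show φ.left.base (a.act.left.base p) ∉ U
        rw [← Scheme.Hom.comp_apply, h.inv.left, Scheme.Hom.comp_apply]
        exact hp
  have hpre : ∀ W : Set ↥((φ.left ⁻¹ᵁ U : X.left.Opens) : Scheme),
      jU.left.base ⁻¹' (jU.left.base '' W ∪ φ.left.base ⁻¹' (U : Set Y.left)ᶜ) = W := fun W => by
    rw [Set.preimage_union, Set.preimage_image_eq _ jU.left.isOpenEmbedding.injective]
    refine Set.union_eq_self_of_subset_right fun v hv => absurd ?_ hv
    exact (hrange.subset ⟨v, rfl⟩ : jU.left.base v ∈ φ.left.base ⁻¹' (U : Set Y.left))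
  have himg : ∀ S : Set ↥X.left, U.ι.base '' (φU.left.base '' (jU.left.base ⁻¹' S)) = φ.left.base '' S ∩ (U : Set Y.left) := fun S => by
    rw [Set.image_image, ← image_inter φ.left.base jU.left.base S U hrange]
    exact Set.image_congr fun v _ => hpt v
  refine ⟨by rw [hφU']; exact IsZariskiLocalAtTarget.restrict h.affine U, hinvU, fun W => ?_, fun W hW hWi => ?_, fun J W hW hWi => ?_⟩
  · set B : Y.left.Opens := U.ι ''ᵁ W with hB
    set A : X.left.Opens := φ.left ⁻¹ᵁ B with hA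
    have hBU : (B : Set Y.left) ⊆ Set.range U.ι.base := fun y hy => by
      obtain ⟨w, -, rfl⟩ := hy; exact ⟨w, rfl⟩
    have hAU : (A : Set X.left) ⊆ Set.range jU.left.base := fun x hx => by
      rw [hrange]; exact (Scheme.Opens.range_ι U).subset (hBU hx)
    have hWB : W = U.ι ⁻¹ᵁ B := (U.ι.preimage_image_eq W).symm
    have hA' : φU.left ⁻¹ᵁ W = jU.left ⁻¹ᵁ A := by
      rw [hA, hWB, ← Scheme.Hom.comp_preimage, ← Scheme.Hom.comp_preimage, hφl]
    have b1 := bij_appLE U.ι B W hWB hBU hWB.le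
    have b2 := bij_appLE jU.left A (φU.left ⁻¹ᵁ W) hA' hAU hA'.le
    have hcomm : ∀ t, φU.left.app W (U.ι.appLE B W hWB.le t) = jU.left.appLE A (φU.left ⁻¹ᵁ W) hA'.le (φ.left.app B t) := fun t => by
      rw [Scheme.Hom.app_eq_appLE, Scheme.Hom.app_eq_appLE, ← CommRingCat.comp_apply, ← CommRingCat.comp_apply,
        Scheme.Hom.appLE_comp_appLE, Scheme.Hom.appLE_comp_appLE]
      simp only [hφl]
    obtain ⟨hinj, hrg⟩ := h.sections B
    refine ⟨fun t t' htt => ?_, ?_⟩
    · obtain ⟨t, rfl⟩ := b1.2 t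
      obtain ⟨t', rfl⟩ := b1.2 t'
      rw [hcomm, hcomm] at htt
      rw [hinj (b2.1 htt)]
    -- invariance corresponds
    set O : (G ⊗ X).left.Opens := a.act.left ⁻¹ᵁ A ⊓ (snd G X).left ⁻¹ᵁ A with hO
    set O' := aU.act.left ⁻¹ᵁ (φU.left ⁻¹ᵁ W) ⊓ (snd G (Over.mk ((φ.left ⁻¹ᵁ U).ι ≫ X.hom))).left ⁻¹ᵁ (φU.left ⁻¹ᵁ W) with hO'
    have hOO' : O' = (G ◁ jU).left ⁻¹ᵁ O := by
      have p1 : ∀ S, aU.act.left ⁻¹ᵁ (jU.left ⁻¹ᵁ S) = (G ◁ jU).left ⁻¹ᵁ (a.act.left ⁻¹ᵁ S) := fun S => by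
        rw [← Scheme.Hom.comp_preimage, ← Scheme.Hom.comp_preimage, hw]
      have p2 : ∀ S, (snd G (Over.mk ((φ.left ⁻¹ᵁ U).ι ≫ X.hom))).left ⁻¹ᵁ (jU.left ⁻¹ᵁ S) = (G ◁ jU).left ⁻¹ᵁ ((snd G X).left ⁻¹ᵁ S) := fun S => by
        rw [← Scheme.Hom.comp_preimage, ← Scheme.Hom.comp_preimage, hs]
      rw [hO, hO', hA', p1, p2, Scheme.Hom.preimage_inf]
    have hOr : (O : Set (G ⊗ X).left) ⊆ Set.range (G ◁ jU).left.base := fun x hx => by
      rw [Groth.Agent.GrpSch.range_whiskerLeft]; exact hAU hx.2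
    have b3 := bij_appLE (G ◁ jU).left O O' hOO' hOr hOO'.le
    have hiff : ∀ f : Γ(X.left, A), GIT.IsInvSection aU φU W (jU.left.appLE A (φU.left ⁻¹ᵁ W) hA'.le f) ↔ GIT.IsInvSection a φ B f := fun f => by
      unfold GIT.IsInvSection
      rw [← CommRingCat.comp_apply, ← CommRingCat.comp_apply, Scheme.Hom.appLE_comp_appLE, Scheme.Hom.appLE_comp_appLE]
      refine Iff.trans ?_ b3.1.eq_iff
      rw [← CommRingCat.comp_apply, ← CommRingCat.comp_apply, Scheme.Hom.appLE_comp_appLE, Scheme.Hom.appLE_comp_appLE]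
      simp only [hw, hs]
      rfl
    ext f
    constructor
    · rintro ⟨t, rfl⟩
      obtain ⟨t, rfl⟩ := b1.2 t
      show GIT.IsInvSection aU φU W _
      rw [hcomm, hiff]
      exact hrg.subset ⟨t, rfl⟩
    · intro hf
      obtain ⟨f, rfl⟩ := b2.2 f
      obtain ⟨t, rfl⟩ := hrg.ge ((hiff f).mp hf)
      exact ⟨_, hcomm t⟩
  · obtain ⟨h1, h2⟩ := hext W hW hWi
    rw [U.ι.isOpenEmbedding.isInducing.isClosed_iff]
    refine ⟨_, h.closed _ h1 h2, ?_⟩
    rw [← Set.image_eq_image U.ι.isOpenEmbedding.injective, Set.image_preimage_eq_inter_range, Scheme.Opens.range_ι, ← himg, hpre]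
  · apply Set.image_injective.mpr U.ι.isOpenEmbedding.injective
    have e : ⋂ i, W i = jU.left.base ⁻¹' ⋂ i, (jU.left.base '' W i ∪ φ.left.base ⁻¹' (U : Set Y.left)ᶜ) := by
      rw [Set.preimage_iInter]; exact Set.iInter_congr fun i => (hpre _).symm
    rw [e, himg, h.inter J _ (fun i => (hext _ (hW i) (hWi i)).1) (fun i => (hext _ (hW i) (hWi i)).2)]
    rcases isEmpty_or_nonempty J with hJ | hJ
    · rw [Set.iInter_of_empty, Set.iInter_of_empty, Set.univ_inter]
      exact (by rw [Set.image_univ, Scheme.Opens.range_ι] : (U : Set Y.left) = U.ι.base '' Set.univ)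
    · rw [U.ι.isOpenEmbedding.injective.injOn.image_iInter_eq, Set.iInter_inter]
      exact Set.iInter_congr fun i => by rw [← himg, hpre]

end Groth.Agent.S19425
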