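import Groth.Statements.S19427
import Groth.Agent.MilKLead.Generators

set_option autoImplicit false
universe u
open MilnorK

namespace Groth.Agent.S19427

/-- For a field F and nonzero b, c with b + c ≠ 0, in the Milnor K-group K_2(F) one has {b, c} + {b + c,
-b/c} = 0, that is {b, c} = -{b + c, -b/c} = {b + c, -c/b}. (The identity as displayed in the source
is {b, c} = {b + c, -b/c}, which differs from this by a sign and fails in general: for b = 3, c = 5
over the rationals the tame symbol at 5 takes the values 3 and 1/3 on the two sides; the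
accompanying derivation from the Steinberg relation b/(b+c) + c/(b+c) = 1 gives exactly the identity
stated here.) -/
theorem result (F : Type u) [Field F] (b c : Fˣ)
    (h : (b : F) + (c : F) ≠ 0) :
    (MilK.symbol ![b, c] : MilK.K F 2) + MilK.symbol ![Units.mk0 ((b : F) + (c : F)) h, -(b / c)] = 0 := by
  have hu : ∀ a a' : Fˣ, MilKLead.two (![b, c] : Fin 2 → Fˣ) 0 1 a a' =
      (MilK.symbol ![a, a'] : MilK.K F 2) := fun a a' => by
    unfold MilKLead.two
    congr 1
    funext i; fin_cases i <;> simp
  set s := Units.mk0 ((b : F) + (c : F)) h with hs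
  have hne : (0 : Fin 2) ≠ 1 := by decide
  have hst : MilKLead.two ![b, c] 0 1 (b * s⁻¹) (c * s⁻¹) = 0 := MilKLead.two_steinberg _ hne (by
    simp only [Units.val_mul, Units.val_inv_eq_inv_val, hs, Units.val_mk0]
    field_simp)
  rw [MilKLead.two_mul_left _ hne, MilKLead.two_mul_right, MilKLead.two_mul_right] at hst
  simp only [MilKLead.two_inv_left _ hne, MilKLead.two_inv_right, neg_neg] at hst
  rw [← hu, ← hu, show -(b / c) = (-1 : Fˣ) * (b * c⁻¹) by rw [neg_one_mul, div_eq_mul_inv],
    MilKLead.two_mul_right, MilKLead.two_mul_right, ← MilKLead.two_self_eq _ hne s,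
    MilKLead.two_inv_right, MilKLead.two_anticomm _ hne b s]
  rw [← hst]
  abel

end Groth.Agent.S19427
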