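import Groth.Statements.S1943
import Groth.Agent.KoszulEuler.SamuelLimit
-- import your own Groth.Agent.* helpers here

set_option autoImplicit false
universe u
open CategoryTheory
open IntMult

namespace Groth.Agent.S1943

/-- Let A be a Noetherian local ring, f₁, …, f_r elements generating an ideal of definition I (𝔪^n ⊆ I ⊆
𝔪 for some n) and M a finite A-module. Then r! · length_A(M/I^t M)/t^r tends, as t → ∞, to Σ_i
(−1)^i length_A H^i(K(f₁, …, f_r) ⊗_A M), the Euler characteristic of the Koszul complex tensored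
with M (cohomological indexing, degrees −r, …, 0); that is, e_I(M, r) equals that alternating sum.
The Koszul complex is the shared prelude's mapping-cone model. -/
theorem result (A : Type u) [CommRing A] [IsNoetherianRing A] [IsLocalRing A] (r : ℕ) (f : Fin r → A) (hI : Ideal.span (Set.range f) ≤ IsLocalRing.maximalIdeal A ∧ ∃ n : ℕ, IsLocalRing.maximalIdeal A ^ n ≤ Ideal.span (Set.range f)) (M : Type u) [AddCommGroup M] [Module A M] [Module.Finite A M] : Filter.Tendsto (fun t : ℕ => (r.factorial : ℝ) * ((Module.length A (M ⧸ (Ideal.span (Set.range f) ^ t • (⊤ : Submodule A M)))).toNat : ℝ) / (t : ℝ) ^ r) Filter.atTop (nhds ((∑ᶠ i : ℤ, ((i.negOnePow : ℤˣ) : ℤ) * ((Module.length A ((DRing.tensorCx (Koszul.koszul A (List.ofFn f)) (ModuleCat.of A M)).homology i)).toNat : ℤ) : ℤ) : ℝ)) := by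
  have hf : KoszulEuler.FinLen (List.ofFn f) M := fun p _ hfs => by
    obtain ⟨N, hN⟩ := hI.2
    refine ((IsLocalRing.maximalIdeal.isMaximal A).eq_of_le p.2.ne_top fun a ha => p.2.mem_of_pow_mem N ?_).symm
    refine (Ideal.span_le.mpr ?_) (hN (Ideal.pow_mem_pow ha N))
    rintro _ ⟨j, rfl⟩
    exact hfs _ (List.mem_ofFn.mpr ⟨j, rfl⟩)
  have h := (KoszulEuler.tendsto_samuel (ModuleCat.of A M) (List.ofFn f) hf).const_mul (r.factorial : ℝ)
  rw [KoszulEuler.chi_tensorCx]
  have e : ({a | a ∈ List.ofFn f} : Set A) = Set.range f := by ext a; simp [List.mem_ofFn]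
  rw [List.length_ofFn, mul_div_cancel₀ _ (Nat.cast_ne_zero.mpr (Nat.factorial_ne_zero r))] at h
  rw [show KoszulEuler.idl (List.ofFn f) = Ideal.span (Set.range f) from congrArg Ideal.span e] at h
  exact h.congr fun n => (mul_div_assoc _ _ _).symm

end Groth.Agent.S1943
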