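import Groth.Statements.S19436
import Mathlib.RingTheory.Nakayama
import Mathlib.RingTheory.LocalRing.MaximalIdeal.Basic
import Mathlib.LinearAlgebra.FiniteDimensional.Lemmas

set_option autoImplicit false
universe u
open CAlg

namespace Groth.Agent.S19436

/-- For a Noetherian local commutative algebra R over a field k, with maximal ideal M, and an ideal I of
R whose quotient R/I is finite-dimensional over k of dimension n, the power M^n lies in I. -/
theorem result (k : Type u) [Field k] (R : Type u) [CommRing R]
    [Algebra k R] [IsNoetherianRing R] [IsLocalRing R] (I : Ideal R) [Module.Finite k (R ⧸ I)] (n : ℕ)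
    (hn : Module.finrank k (R ⧸ I) = n) : IsLocalRing.maximalIdeal R ^ n ≤ I := by
  let m := IsLocalRing.maximalIdeal R
  let J : ℕ → Ideal R := fun i => m ^ i ⊔ I
  let M : ℕ → Submodule k (R ⧸ I) := fun i => ((J i).map (Ideal.Quotient.mk I)).restrictScalars k
  have key : ∀ i, m ^ i ≤ I ∨ Module.finrank k (M i) + i ≤ n := by
    intro i
    induction i with
    | zero =>
      right
      simpa [← hn] using Submodule.finrank_le (M 0)
    | succ i ih =>
      rcases ih with h | h
      · exact Or.inl ((Ideal.pow_le_pow_right (Nat.le_succ i)).trans h)
      by_cases he : M (i + 1) = M i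
      · left
        have he' : (J (i+1)).map (Ideal.Quotient.mk I) = (J i).map (Ideal.Quotient.mk I) := Submodule.restrictScalars_injective k _ _ he
        have h2 : J i ≤ J (i + 1) := by
          intro x hx
          have := he' ▸ Ideal.mem_map_of_mem (Ideal.Quotient.mk I) hx
          rw [Ideal.mem_map_iff_of_surjective _ Ideal.Quotient.mk_surjective] at this
          obtain ⟨y, hy, hxy⟩ := this
          rw [Ideal.Quotient.eq] at hxy
          rw [show x = y - (y - x) by ring]
          exact Ideal.sub_mem _ hy ((le_sup_right : I ≤ J (i+1)) hxy)
        have h3 : m ^ i ≤ I := by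
          refine Submodule.le_of_le_smul_of_le_jacobson_bot (I := m) (IsNoetherian.noetherian _)
            (by rw [IsLocalRing.jacobson_eq_maximalIdeal ⊥ bot_ne_top]) ?_
          refine (le_sup_left : m ^ i ≤ J i).trans (h2.trans ?_)
          rw [sup_comm I]
          exact sup_le_sup_right (by rw [pow_succ']; exact le_rfl) _
        exact (Ideal.pow_le_pow_right (Nat.le_succ i)).trans h3
      · right
        have hle : M (i + 1) ≤ M i := fun x hx => Ideal.map_mono (sup_le_sup_right (Ideal.pow_le_pow_right (Nat.le_succ i)) I) hx
        have := Submodule.finrank_lt_finrank_of_lt (lt_of_le_of_ne hle he)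
        omega
  rcases key n with h | h
  · exact h
  · have h0 : M n = ⊥ := Submodule.finrank_eq_zero.mp (by omega)
    intro x hx
    have : Ideal.Quotient.mk I x ∈ M n := Ideal.mem_map_of_mem _ (Submodule.mem_sup_left hx)
    rw [h0, Submodule.mem_bot] at this
    exact Ideal.Quotient.eq_zero_iff_mem.mp this

end Groth.Agent.S19436
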