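import Groth.Statements.S19438
import Mathlib.RingTheory.Ideal.Cotangent
import Mathlib.RingTheory.Nakayama
import Mathlib.RingTheory.Adjoin.Basic

set_option autoImplicit false
universe u
open CAlg

namespace Groth.Agent.S19438

/-- First assertion: let A be a Noetherian local commutative algebra over a field k with maximal ideal
M, residue field k (the map from k to A/M is onto) and embedding dimension dim M/M^2 at least 2, and
let I be a proper ideal with A/I finite-dimensional over k. If A/I is generated as a k-algebra by
one element, then some element of I does not lie in M^2; that is, the finite closed subscheme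
defined by I lies on a smooth hypersurface germ (it is curvilinear). (The published statement is for
the local ring of a smooth surface at a closed point; only a Noetherian local algebra with residue
field k and embedding dimension at least 2 is assumed here, which is what the published argument
uses.) -/
theorem result (k : Type u) [Field k]
    (A : Type u) [CommRing A] [Algebra k A] [IsNoetherianRing A] [IsLocalRing A]
    (hres : Function.Surjective (algebraMap k (IsLocalRing.ResidueField A)))
    (hemb : 2 ≤ Module.finrank (IsLocalRing.ResidueField A) (IsLocalRing.CotangentSpace A))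
    (I : Ideal A) (hI : I ≠ ⊤) [Module.Finite k (A ⧸ I)]
    (f : A ⧸ I) (hf : Algebra.adjoin k {f} = ⊤) :
    ∃ g ∈ I, g ∉ IsLocalRing.maximalIdeal A ^ 2 := by
  classical
  by_contra hc
  push Not at hc
  set m := IsLocalRing.maximalIdeal A
  have hres' : ∀ x : A, ∃ c : k, x - algebraMap k A c ∈ m := by
    intro x
    obtain ⟨c, hc'⟩ := hres (IsLocalRing.residue A x)
    refine ⟨c, ?_⟩
    rw [← IsLocalRing.residue_eq_zero_iff, map_sub, ← hc']
    exact sub_eq_zero.mpr rfl
  obtain ⟨f', rfl⟩ := Ideal.Quotient.mk_surjective f
  obtain ⟨c₀, hc₀⟩ := hres' f'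
  set t := f' - algebraMap k A c₀ with ht
  let T : Ideal A := Ideal.span {t} ⊔ m ^ 2
  have hdec : ∀ q ∈ Algebra.adjoin k {Ideal.Quotient.mk I f'}, ∃ (a : k) (x : A), x ∈ T ∧ Ideal.Quotient.mk I (algebraMap k A a + x) = q := by
    intro q hq
    induction hq using Algebra.adjoin_induction with
    | mem y hy =>
      rw [Set.mem_singleton_iff] at hy; subst hy
      exact ⟨c₀, t, Submodule.mem_sup_left (Ideal.mem_span_singleton_self t), by rw [ht, add_sub_cancel]⟩
    | algebraMap r => exact ⟨r, 0, T.zero_mem, by rw [add_zero]; rfl⟩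
    | add y z _ _ hy hz =>
      obtain ⟨a, x, hx, rfl⟩ := hy
      obtain ⟨b, w, hw, rfl⟩ := hz
      exact ⟨a + b, x + w, T.add_mem hx hw, by rw [← map_add (Ideal.Quotient.mk I)]; congr 1; rw [map_add]; ring⟩
    | mul y z _ _ hy hz =>
      obtain ⟨a, x, hx, rfl⟩ := hy
      obtain ⟨b, w, hw, rfl⟩ := hz
      exact ⟨a * b, algebraMap k A a * w + x * (algebraMap k A b + w),
        T.add_mem (T.mul_mem_left _ hw) (T.mul_mem_right _ hx), by rw [← map_mul (Ideal.Quotient.mk I)]; congr 1; rw [map_mul]; ring⟩
  have hle : m ≤ Ideal.span {t} ⊔ m • m := by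
    intro x hx
    obtain ⟨a, y, hy, he⟩ := hdec (Ideal.Quotient.mk I x) (hf ▸ Algebra.mem_top)
    have hmT : T ≤ m := sup_le ((Ideal.span_singleton_le_iff_mem _).mpr hc₀) (Ideal.pow_le_self two_ne_zero)
    have hI2 := hc _ (Ideal.Quotient.eq.mp he)
    have ha : algebraMap k A a ∈ m := by
      have := Ideal.add_mem _ (Ideal.sub_mem _ (Ideal.pow_le_self two_ne_zero hI2) (hmT hy)) hx
      rwa [show algebraMap k A a + y - x - y + x = algebraMap k A a by ring] at this
    have ha0 : a = 0 := by
      by_contra h
      exact (IsLocalRing.mem_maximalIdeal _).mp ha ((isUnit_iff_ne_zero.mpr h).map _)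
    subst ha0
    rw [map_zero, zero_add] at hI2
    rw [smul_eq_mul, ← sq]
    have := Ideal.sub_mem T hy (Submodule.mem_sup_right hI2)
    rwa [sub_sub_cancel] at this
  have hm : m ≤ Ideal.span {t} := Submodule.le_of_le_smul_of_le_jacobson_bot (IsNoetherian.noetherian _)
    (by rw [IsLocalRing.jacobson_eq_maximalIdeal ⊥ bot_ne_top]) hle
  have hprin : m.IsPrincipal := ⟨t, le_antisymm hm ((Ideal.span_singleton_le_iff_mem _).mpr hc₀)⟩
  have := IsLocalRing.finrank_cotangentSpace_le_one_iff.mpr hprin
  omega

end Groth.Agent.S19438
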