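import Groth.Statements.S19439
import Mathlib

set_option autoImplicit false
universe u
open CAlg

namespace Groth.Agent.S19439

/-- Affine form: for all n and N there is an integer d, that depends only on n and N, such that for
every algebraically closed field k and every ideal I of the polynomial ring in N variables over k
whose quotient has finite dimension n over k, the polynomials of total degree at most d map onto the
quotient. -/
theorem result (n N : ℕ) :
    ∃ d : ℕ, ∀ (k : Type u) [Field k] [IsAlgClosed k] (I : Ideal (MvPolynomial (Fin N) k))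
      [Module.Finite k (MvPolynomial (Fin N) k ⧸ I)],
      Module.finrank k (MvPolynomial (Fin N) k ⧸ I) = n →
      Submodule.map (Ideal.Quotient.mkₐ k I).toLinearMap (MvPolynomial.restrictTotalDegree (Fin N) k d) = ⊤ := by
  classical
  refine ⟨n, fun k _ _ I _ hn => ?_⟩
  let φ := (Ideal.Quotient.mkₐ k I).toLinearMap
  let V : ℕ → Submodule k (MvPolynomial (Fin N) k ⧸ I) := fun d => (MvPolynomial.restrictTotalDegree (Fin N) k d).map φ
  have hmono : ∀ d, V d ≤ V (d + 1) := fun d => Submodule.map_mono fun p hp => by
    rw [MvPolynomial.mem_restrictTotalDegree] at hp ⊢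
    omega
  have hone : ∀ d, (1 : MvPolynomial (Fin N) k ⧸ I) ∈ V d := fun d =>
    ⟨1, by rw [SetLike.mem_coe, MvPolynomial.mem_restrictTotalDegree]; simp, map_one (Ideal.Quotient.mkₐ k I)⟩
  have hstab : ∀ d, V (d + 1) ≤ V d → V d = ⊤ := by
    intro d hd
    rw [eq_top_iff]
    intro z _
    obtain ⟨p, rfl⟩ := Ideal.Quotient.mk_surjective z
    have hX : ∀ w ∈ V d, ∀ i, w * Ideal.Quotient.mk I (MvPolynomial.X i) ∈ V d := by
      rintro w ⟨q, hq, rfl⟩ i
      refine hd ⟨q * MvPolynomial.X i, ?_, map_mul (Ideal.Quotient.mkₐ k I) _ _⟩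
      rw [SetLike.mem_coe, MvPolynomial.mem_restrictTotalDegree] at hq ⊢
      refine (MvPolynomial.totalDegree_mul _ _).trans ?_
      rw [MvPolynomial.totalDegree_X]
      omega
    induction p using MvPolynomial.induction_on with
    | C a =>
      have h : Ideal.Quotient.mk I (MvPolynomial.C a) = a • (1 : MvPolynomial (Fin N) k ⧸ I) :=
        (Algebra.algebraMap_eq_smul_one (A := MvPolynomial (Fin N) k ⧸ I) a)
      rw [h]
      exact Submodule.smul_mem _ a (hone d)
    | add p q hp hq => rw [map_add]; exact add_mem (hp trivial) (hq trivial)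
    | mul_X p i hp => rw [map_mul]; exact hX _ (hp trivial) i
  have hmono' : ∀ d e, d ≤ e → V d ≤ V e := fun d e h => monotone_nat_of_le_succ hmono h
  change V n = ⊤
  by_contra hne
  have hlt : ∀ d ≤ n, d ≤ Module.finrank k (V d) := by
    intro d hd
    induction d with
    | zero => exact Nat.zero_le _
    | succ d ih =>
      have hlt : V d < V (d + 1) := lt_of_le_not_ge (hmono d) fun h => by
        refine hne (top_le_iff.1 ?_)
        rw [← hstab d h]
        exact hmono' d n (by omega)
      have := Submodule.finrank_lt_finrank_of_lt hlt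
      have := ih (by omega)
      omega
  refine hne (Submodule.eq_top_of_finrank_eq (le_antisymm (Submodule.finrank_le _) ?_))
  rw [hn]
  exact hlt n le_rfl

end Groth.Agent.S19439
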