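import Groth.Statements.S19440
import Mathlib
-- import your own Groth.Agent.* helpers here

set_option autoImplicit false
universe u
open LinAlg

namespace Groth.Agent.S19440

/-- Let U, V be commuting n × n matrices over a field k and e a vector which is cyclic for them (the
vectors U^p V^q e span k^n). An invertible matrix T which commutes with U and V and fixes e is the
identity: the general linear group acts freely by simultaneous conjugation on commuting pairs with a
cyclic vector. -/
theorem result (k : Type u) [Field k] (n : ℕ)
    (U V : Matrix (Fin n) (Fin n) k) (hUV : U * V = V * U) (e : Fin n → k)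
    (he : Submodule.span k (Set.range fun p : ℕ × ℕ => (U ^ p.1 * V ^ p.2).mulVec e) = ⊤)
    (T : Matrix.GeneralLinearGroup (Fin n) k)
    (hTU : (T : Matrix (Fin n) (Fin n) k) * U = U * T) (hTV : (T : Matrix (Fin n) (Fin n) k) * V = V * T)
    (hTe : (T : Matrix (Fin n) (Fin n) k).mulVec e = e) : T = 1 := by
  have hpow : ∀ p q : ℕ, (T : Matrix (Fin n) (Fin n) k) * (U ^ p * V ^ q) = (U ^ p * V ^ q) * T := fun p q =>
    ((Commute.pow_right hTU p).mul_right (Commute.pow_right hTV q)).eq
  apply Matrix.GeneralLinearGroup.ext
  intro i j
  have h1 : ∀ w : Fin n → k, (T : Matrix (Fin n) (Fin n) k).mulVec w = w := by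
    intro w
    have hw : w ∈ Submodule.span k (Set.range fun p : ℕ × ℕ => (U ^ p.1 * V ^ p.2).mulVec e) := he ▸ Submodule.mem_top
    induction hw using Submodule.span_induction with
    | mem x hx =>
      obtain ⟨⟨p, q⟩, rfl⟩ := hx
      simp only
      rw [Matrix.mulVec_mulVec, hpow, ← Matrix.mulVec_mulVec, hTe]
    | zero => simp
    | add x y _ _ hx hy => simp [Matrix.mulVec_add, hx, hy]
    | smul a x _ hx => simp [Matrix.mulVec_smul, hx]
  have : (T : Matrix (Fin n) (Fin n) k) = 1 := Matrix.ext_of_mulVec_single fun i => by rw [h1, Matrix.one_mulVec]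
  rw [this]; rfl

end Groth.Agent.S19440
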