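import Groth.Statements.S19443
import Mathlib
-- import your own Groth.Agent.* helpers here

set_option autoImplicit false
universe u
open LinAlg

namespace Groth.Agent.S19443

/-- Algebraic form: let G be a finite group with order invertible in the field k, ρ a linear
representation of G on a k-vector space V, and ω a nondegenerate bilinear form on V invariant under
G. Then ω restricted to the fixed subspace V^G is nondegenerate (for a finite group of symplectic
automorphisms, the fixed subspace is a symplectic subspace). -/
theorem result (k : Type u) [Field k]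
    (G : Type u) [Group G] [Finite G] (hG : (Nat.card G : k) ≠ 0)
    (V : Type u) [AddCommGroup V] [Module k V] (ρ : Representation k G V)
    (ω : LinearMap.BilinForm k V) (hω : ω.Nondegenerate)
    (hinv : ∀ (g : G) (v w : V), ω (ρ g v) (ρ g w) = ω v w) :
    (ω.restrict ρ.invariants).Nondegenerate := by
  classical
  have := Fintype.ofFinite G
  rw [Nat.card_eq_fintype_card] at hG
  have hsum : ∀ v : V, (Fintype.card G : k)⁻¹ • ∑ g : G, ρ g v ∈ ρ.invariants := by
    intro v g
    rw [map_smul, map_sum]
    congr 1
    refine Fintype.sum_equiv (Equiv.mulLeft g) _ _ fun h => ?_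
    simp [map_mul]
  have hinv' : ∀ (w v : V), w ∈ ρ.invariants → ω w ((Fintype.card G : k)⁻¹ • ∑ g : G, ρ g v) = ω w v ∧
      ω ((Fintype.card G : k)⁻¹ • ∑ g : G, ρ g v) w = ω v w := by
    intro w v hw
    have h1 : ∀ g : G, ω w (ρ g v) = ω w v := fun g => by
      conv_rhs => rw [← hinv g w v, hw g]
    have h2 : ∀ g : G, ω (ρ g v) w = ω v w := fun g => by
      conv_rhs => rw [← hinv g v w, hw g]
    constructor <;> simp [h1, h2, hG]
  constructor
  · rintro ⟨x, hx⟩ h
    apply Subtype.ext
    refine hω.1 x fun v => ?_
    rw [← (hinv' x v hx).1]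
    exact h ⟨_, hsum v⟩
  · rintro ⟨x, hx⟩ h
    apply Subtype.ext
    refine hω.2 x fun v => ?_
    rw [← (hinv' x v hx).2]
    exact h ⟨_, hsum v⟩

end Groth.Agent.S19443
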