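import Groth.Statements.S19445
import Mathlib
import Groth.Agent.CAlgH.TameAction
import Groth.Agent.CAlgReg.Basic

set_option autoImplicit false
universe u
open CAlg

namespace Groth.Agent.S19445

/-- Local form: let k be a field and A a regular local k-algebra with maximal ideal M and residue field
k (k maps onto A/M); let a finite group G whose order is invertible in k act on A by k-algebra
automorphisms. Then A/J is a regular local ring, where J is the ideal generated by the elements g·a
− a (J defines the fixed-point subscheme, so the fixed locus of G is smooth at the point). The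
accompanying identification of its tangent space with the G-invariants of the tangent space of A is
not restated here. -/
theorem result (k : Type u) [Field k] (A : Type u) [CommRing A]
    [Algebra k A] [IsRegularLocalRing A]
    (hres : Function.Surjective (algebraMap k (IsLocalRing.ResidueField A)))
    (G : Type u) [Group G] [Finite G] [MulSemiringAction G A] [SMulCommClass G k A]
    (hG : (Nat.card G : k) ≠ 0) :
    IsRegularLocalRing (A ⧸ Ideal.span {x : A | ∃ (g : G) (a : A), x = g • a - a}) := by
  classical
  cases nonempty_fintype G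
  set N : k := (Nat.card G : k) with hN
  let ρ : G → A →ₗ[k] A := fun g => DistribSMul.toLinearMap k A g
  let P : A →ₗ[k] A := N⁻¹ • ∑ g, ρ g
  let L : A →ₗ[k] A := LinearMap.id - P
  have hP : ∀ a, P a = N⁻¹ • ∑ g : G, g • a := fun a => by simp [P, ρ]
  have hPg : ∀ (h : G) a, P (h • a) = P a := fun h a => by
    rw [hP, hP]; congr 1
    exact Fintype.sum_equiv (Equiv.mulRight h) _ _ fun g => by simp [mul_smul]
  have hgP : ∀ (h : G) a, h • P a = P a := fun h a => by
    rw [hP, smul_comm, Finset.smul_sum]; congr 1
    exact Fintype.sum_equiv (Equiv.mulLeft h) _ _ fun g => by simp [mul_smul]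
  have hNN : (Fintype.card G : k) = N := by rw [hN, Nat.card_eq_fintype_card]
  have hPinv : ∀ a, (∀ g : G, g • a = a) → P a = a := fun a ha => by
    rw [hP, Finset.sum_congr rfl (fun g _ => ha g), Finset.sum_const, Finset.card_univ,
      ← Nat.cast_smul_eq_nsmul k, hNN, inv_smul_smul₀ hG]
  have hL : ∀ a, L a = N⁻¹ • ∑ g : G, (a - g • a) := fun a => by
    show a - P a = _
    rw [Finset.sum_sub_distrib, smul_sub, Finset.sum_const, Finset.card_univ,
      ← Nat.cast_smul_eq_nsmul k, hNN, inv_smul_smul₀ hG, hP]
  have hJ : Ideal.span {x : A | ∃ (g : G) (a : A), x = g • a - a} = Ideal.span (Set.range L) := by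
    refine le_antisymm (Ideal.span_le.2 ?_) (Ideal.span_le.2 ?_)
    · rintro _ ⟨g, a, rfl⟩
      have e : g • a - a = L (g • a) - L a := by
        show _ = (g • a - P (g • a)) - (a - P a)
        rw [hPg]; abel
      rw [e]
      exact sub_mem (Ideal.subset_span ⟨_, rfl⟩) (Ideal.subset_span ⟨_, rfl⟩)
    · rintro _ ⟨a, rfl⟩
      rw [hL, SetLike.mem_coe, Algebra.smul_def]
      refine Ideal.mul_mem_left _ _ (Ideal.sum_mem _ fun g _ => ?_)
      rw [← neg_sub]
      exact neg_mem (Ideal.subset_span ⟨g, a, rfl⟩)
  have hgM : ∀ (g : G) a, g • a - a ∈ IsLocalRing.maximalIdeal A := by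
    intro g a
    obtain ⟨c, hc⟩ := hres (IsLocalRing.residue A a)
    have hx : a - algebraMap k A c ∈ IsLocalRing.maximalIdeal A := by
      rw [← IsLocalRing.residue_eq_zero_iff, map_sub, sub_eq_zero, ← hc]
      rfl
    have h : g • (a - algebraMap k A c) ∈ IsLocalRing.maximalIdeal A :=
      Groth.Agent.CAlgH.TameAction.map_mem_maximalIdeal (MulSemiringAction.toRingHom G A g)
        (MulAction.bijective g) hx
    rw [smul_sub, Algebra.algebraMap_eq_smul_one, smul_comm, smul_one] at h
    rw [Algebra.algebraMap_eq_smul_one] at hx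
    simpa using sub_mem h hx
  have hLM : ∀ a, L a ∈ IsLocalRing.maximalIdeal A := fun a => by
    rw [hL, Algebra.smul_def]
    refine Ideal.mul_mem_left _ _ (Ideal.sum_mem _ fun g _ => ?_)
    rw [← neg_sub]
    exact neg_mem (hgM g a)
  obtain ⟨s, hs, hli⟩ := Groth.Agent.CAlgH.TameAction.exists_generators hres L
    (fun a => by
      show (a - P a) - P (a - P a) = a - P a
      rw [map_sub, hPinv (P a) (fun g => hgP g a)]; abel)
    hLM (fun a ha b hb => by
      rw [hL, ← hJ, Algebra.smul_def]
      refine Ideal.mul_mem_left _ _ (Ideal.sum_mem _ fun g _ => ?_)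
      have hgb : g • b ∈ IsLocalRing.maximalIdeal A := by simpa using add_mem (hgM g b) hb
      have e : a * b - g • (a * b) = (g • b) * (-(g • a - a)) + a * (-(g • b - b)) := by
        rw [smul_mul']; ring
      rw [e]
      exact add_mem (Ideal.mul_mem_mul hgb (neg_mem (Ideal.subset_span ⟨g, a, rfl⟩)))
        (Ideal.mul_mem_mul ha (neg_mem (Ideal.subset_span ⟨g, b, rfl⟩))))
  obtain ⟨d, hd⟩ := Groth.Agent.CAlgReg.exists_dim (R := A)
  obtain ⟨t, ht, htc⟩ := Groth.Agent.CAlgReg.exists_extend s hli
  rw [Groth.Agent.CAlgReg.spanFinrank_eq_of_dim hd] at htc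
  have := (Groth.Agent.CAlgReg.quotient_span hd (s.image (↑)) t (by rw [Finset.coe_image]; exact ht)
    (le_trans (Nat.add_le_add_right Finset.card_image_le _) htc)).1
  rwa [Finset.coe_image, hs, ← hJ] at this

end Groth.Agent.S19445
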