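import Groth.Statements.S19448
import Mathlib
import Groth.Agent.CAlgH.TameAction

set_option autoImplicit false
universe u
open CAlg

namespace Groth.Agent.S19448

/-- Let k be a field, A a Noetherian local k-algebra with maximal ideal M and residue field k, and G a
finite group with |G| ≠ 0 in k acting on A by k-algebra automorphisms. An element of G which acts
trivially on M/M^2 acts trivially on A; in other words the stabilizer acts faithfully on the
cotangent space whenever it acts faithfully on the local ring. -/
theorem result (k : Type u) [Field k] (A : Type u) [CommRing A]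
    [Algebra k A] [IsLocalRing A] [IsNoetherianRing A]
    (hres : Function.Surjective (algebraMap k (IsLocalRing.ResidueField A)))
    (G : Type u) [Group G] [Finite G] [MulSemiringAction G A] [SMulCommClass G k A]
    (hG : (Nat.card G : k) ≠ 0) (g : G)
    (hg : ∀ a ∈ IsLocalRing.maximalIdeal A, g • a - a ∈ IsLocalRing.maximalIdeal A ^ 2) (a : A) :
    g • a = a := by
  let σ : A →+* A := MulSemiringAction.toRingHom G A g
  have hord : ∀ a, σ^[Nat.card G] a = a := fun a => by
    show (fun x : A => g • x)^[Nat.card G] a = a
    rw [smul_iterate]
    show g ^ Nat.card G • a = a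
    rw [pow_card_eq_one', one_smul]
  have hn : IsUnit ((Nat.card G : ℕ) : A) := by
    rw [← map_natCast (algebraMap k A)]
    exact (Ne.isUnit hG).map _
  refine Groth.Agent.CAlgH.TameAction.apply_eq_self σ _ hn hord (fun x => ?_) hg a
  obtain ⟨c, hc⟩ := hres (IsLocalRing.residue A x)
  have hx : x - algebraMap k A c ∈ IsLocalRing.maximalIdeal A := by
    rw [← IsLocalRing.residue_eq_zero_iff, map_sub, sub_eq_zero, ← hc]
    rfl
  have h : g • (x - algebraMap k A c) = g • x - algebraMap k A c := by
    rw [smul_sub, Algebra.algebraMap_eq_smul_one, smul_comm, smul_one]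
  have := Ideal.pow_le_self two_ne_zero (hg _ hx)
  rw [h, sub_sub_sub_cancel_right] at this
  exact this

end Groth.Agent.S19448
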