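import Groth.Statements.S19453
import Mathlib.RingTheory.RegularLocalRing.Defs
import Mathlib.RingTheory.Ideal.Cotangent
import Mathlib.RingTheory.Nakayama
import Mathlib.RingTheory.AdjoinRoot
import Mathlib.RingTheory.Artinian.Module
import Mathlib.RingTheory.Artinian.Ring
import Mathlib.LinearAlgebra.FiniteDimensional.Basic

set_option autoImplicit false
universe u
open CAlg

namespace Groth.Agent.S19453

/-- Converse direction: let k be a field, A a regular local k-algebra of Krull dimension 2 with maximal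
ideal M and residue field k, and I an ideal with A/I of finite dimension n ≥ 1 over k. If some
element of I does not lie in M^2, then A/I is isomorphic as a k-algebra to k[x]/(x^n): a cluster
lying on a smooth curve germ of a smooth surface is curvilinear, with coordinate ring generated by
one element. -/
theorem result (k : Type u) [Field k]
    (A : Type u) [CommRing A] [Algebra k A] [IsRegularLocalRing A] (hdim : ringKrullDim A = 2)
    (hres : Function.Surjective (algebraMap k (IsLocalRing.ResidueField A)))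
    (I : Ideal A) [Module.Finite k (A ⧸ I)] (n : ℕ) (hn : Module.finrank k (A ⧸ I) = n) (h1 : 1 ≤ n)
    (g : A) (hgI : g ∈ I) (hg : g ∉ IsLocalRing.maximalIdeal A ^ 2) :
    Nonempty ((A ⧸ I) ≃ₐ[k] (Polynomial k ⧸ Ideal.span {(Polynomial.X : Polynomial k) ^ n})) := by
  classical
  set m := IsLocalRing.maximalIdeal A
  obtain ⟨t, hmt⟩ : ∃ t, m = Ideal.span {g} ⊔ Ideal.span {t} := by
    have h2 : m.spanFinrank = 2 := by
      have h := (isRegularLocalRing_iff (R := A)).mp inferInstance
      rw [hdim] at h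
      exact_mod_cast h
    obtain ⟨s, hs, hsspan⟩ : ∃ s : Finset A, s.card = 2 ∧ Ideal.span (s : Set A) = m := by
      obtain ⟨S, hSc, hS⟩ := Submodule.FG.exists_span_set_encard_eq_spanFinrank (IsNoetherian.noetherian m)
      rw [h2] at hSc
      obtain ⟨hfin⟩ : Nonempty (S.Finite) := ⟨Set.finite_of_encard_eq_coe hSc⟩
      refine ⟨hfin.toFinset, ?_, by rw [hfin.coe_toFinset]; exact hS⟩
      rw [hfin.encard_eq_coe_toFinset_card] at hSc
      exact_mod_cast hSc
    obtain ⟨a, b, -, rfl⟩ := Finset.card_eq_two.mp hs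
    rw [Finset.coe_pair] at hsspan
    have hgm : g ∈ Ideal.span ({a, b} : Set A) := by
      rw [hsspan, IsLocalRing.mem_maximalIdeal, mem_nonunits_iff]
      intro hu
      have hI : I = ⊤ := Ideal.eq_top_of_isUnit_mem _ hgI hu
      have : Subsingleton (A ⧸ I) := Ideal.Quotient.subsingleton_iff.mpr hI
      rw [Module.finrank_zero_of_subsingleton] at hn; omega
    obtain ⟨α, β, he⟩ := Ideal.mem_span_pair.mp hgm
    have key : ∀ a b α β : A, Ideal.span ({a, b} : Set A) = m → α * a + β * b = g → IsUnit α →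
        m = Ideal.span {g} ⊔ Ideal.span {b} := by
      intro a b α β hab he hu
      rw [← hab, ← Ideal.span_union, Set.singleton_union]
      refine le_antisymm (Ideal.span_le.mpr ?_) (Ideal.span_le.mpr ?_)
      · rintro x (rfl | rfl)
        · have : (↑hu.unit⁻¹ : A) * (g - β * b) = x := by
            rw [← he, add_sub_cancel_right, ← mul_assoc, IsUnit.val_inv_mul, one_mul]
          rw [← this]
          exact Ideal.mul_mem_left _ _ (Ideal.sub_mem _ (Ideal.subset_span (by simp)) (Ideal.mul_mem_left _ _ (Ideal.subset_span (by simp))))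
        · exact Ideal.subset_span (by simp)
      · rintro x (rfl | rfl)
        · rw [SetLike.mem_coe, ← he]
          exact Ideal.add_mem _ (Ideal.mul_mem_left _ _ (Ideal.subset_span (by simp))) (Ideal.mul_mem_left _ _ (Ideal.subset_span (by simp)))
        · exact Ideal.subset_span (by simp)
    by_cases hα : IsUnit α
    · exact ⟨b, key a b α β hsspan he hα⟩
    by_cases hβ : IsUnit β
    · exact ⟨a, key b a β α (by rw [Set.pair_comm]; exact hsspan) (by rw [add_comm]; exact he) hβ⟩
    exfalso
    apply hg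
    rw [← he, sq]
    exact Ideal.add_mem _ (Ideal.mul_mem_mul hα (hsspan ▸ Ideal.subset_span (by simp))) (Ideal.mul_mem_mul hβ (hsspan ▸ Ideal.subset_span (by simp)))
  have hIle : I ≤ m := IsLocalRing.le_maximalIdeal fun h => by
    have : Subsingleton (A ⧸ I) := Ideal.Quotient.subsingleton_iff.mpr h
    rw [Module.finrank_zero_of_subsingleton] at hn; omega
  have : IsArtinianRing (A ⧸ I) := IsArtinianRing.of_finite k _
  have : Nontrivial (A ⧸ I) := Ideal.Quotient.nontrivial_iff.mpr fun h => (IsLocalRing.maximalIdeal.isMaximal A).ne_top (top_le_iff.mp (h ▸ hIle))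
  have : IsLocalRing (A ⧸ I) := IsLocalRing.of_surjective' _ Ideal.Quotient.mk_surjective
  let τ := Ideal.Quotient.mk I t
  have hτnil : IsNilpotent τ := by
    obtain ⟨N, hN⟩ := IsArtinianRing.isNilpotent_jacobson_bot (R := A ⧸ I)
    rw [IsLocalRing.jacobson_eq_maximalIdeal ⊥ bot_ne_top] at hN
    refine ⟨N, ?_⟩
    have hτm : τ ∈ IsLocalRing.maximalIdeal (A ⧸ I) := by
      rw [IsLocalRing.mem_maximalIdeal, mem_nonunits_iff]
      intro hu
      obtain ⟨w, hw⟩ := Ideal.Quotient.mk_surjective (↑hu.unit⁻¹ : A ⧸ I)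
      have h1 : Ideal.Quotient.mk I (t * w) = Ideal.Quotient.mk I 1 := by rw [map_mul, hw, map_one, IsUnit.mul_val_inv]
      have : (1 : A) ∈ m := by
        rw [show (1 : A) = t * w - (t * w - 1) by ring]
        refine Ideal.sub_mem _ (Ideal.mul_mem_right _ _ ?_) (hIle (Ideal.Quotient.eq.mp h1))
        rw [hmt]; exact Submodule.mem_sup_right (Ideal.mem_span_singleton_self t)
      exact (IsLocalRing.maximalIdeal.isMaximal A).ne_top ((Ideal.eq_top_iff_one _).mpr this)
    have := Ideal.pow_mem_pow hτm N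
    rwa [hN, Submodule.zero_eq_bot, Submodule.mem_bot] at this
  let φ : Polynomial k →ₐ[k] A ⧸ I := Polynomial.aeval τ
  have hdec : ∀ x : A ⧸ I, ∃ (c : k) (y : A ⧸ I), x = algebraMap k _ c + τ * y := by
    intro x
    obtain ⟨x, rfl⟩ := Ideal.Quotient.mk_surjective x
    obtain ⟨c, hc⟩ := hres (IsLocalRing.residue A x)
    have : x - algebraMap k A c ∈ Ideal.span {g} ⊔ Ideal.span {t} := by
      rw [← hmt, ← IsLocalRing.residue_eq_zero_iff, map_sub, ← hc]
      exact sub_eq_zero.mpr rfl
    obtain ⟨u, hu, v, hv, huv⟩ := Submodule.mem_sup.mp this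
    obtain ⟨w, rfl⟩ := Ideal.mem_span_singleton.mp hv
    refine ⟨c, Ideal.Quotient.mk I w, ?_⟩
    rw [← sub_eq_iff_eq_add', show algebraMap k (A ⧸ I) c = Ideal.Quotient.mk I (algebraMap k A c) from rfl, ← map_sub, ← map_mul,
      Ideal.Quotient.eq, ← huv, add_sub_cancel_right]
    obtain ⟨r, rfl⟩ := Ideal.mem_span_singleton.mp hu
    exact I.mul_mem_right _ hgI
  have hφ : Function.Surjective φ := by
    obtain ⟨N, hN⟩ := hτnil
    have : ∀ j x, ∃ (q : Polynomial k) (y : A ⧸ I), x = φ q + τ ^ j * y := by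
      intro j
      induction j with
      | zero => exact fun x => ⟨0, x, by simp⟩
      | succ j ih =>
        intro x
        obtain ⟨q, y, rfl⟩ := ih x
        obtain ⟨c, z, rfl⟩ := hdec y
        refine ⟨q + Polynomial.X ^ j * Polynomial.C c, z, ?_⟩
        simp only [φ, map_add, map_mul, map_pow, Polynomial.aeval_X, Polynomial.aeval_C]
        ring
    intro x
    obtain ⟨q, y, rfl⟩ := this N x
    exact ⟨q, by rw [hN, zero_mul, add_zero]⟩
  obtain ⟨P, hP⟩ := IsPrincipalIdealRing.principal (RingHom.ker φ)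
  obtain ⟨N, hN⟩ := hτnil
  have hmem : (Polynomial.X : Polynomial k) ^ N ∈ RingHom.ker φ := by
    rw [RingHom.mem_ker]; simp [φ, hN]
  rw [hP, Ideal.submodule_span_eq, Ideal.mem_span_singleton, dvd_prime_pow Polynomial.prime_X] at hmem
  obtain ⟨j, -, hj⟩ := hmem
  have hker : RingHom.ker φ = Ideal.span {(Polynomial.X : Polynomial k) ^ j} := by
    rw [hP, Ideal.submodule_span_eq]; exact Ideal.span_singleton_eq_span_singleton.mpr hj
  let e := Ideal.quotientKerAlgEquivOfSurjective hφ
  let e' := (Ideal.quotientEquivAlgOfEq k hker.symm).trans e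
  have hjn : j = n := by
    rw [← hn, ← e'.toLinearEquiv.finrank_eq]
    have := (AdjoinRoot.powerBasis' (Polynomial.monic_X_pow (R := k) j)).finrank
    rw [AdjoinRoot.powerBasis'_dim, Polynomial.natDegree_X_pow] at this
    exact this.symm
  subst hjn
  exact ⟨e'.symm⟩

end Groth.Agent.S19453
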