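import Groth.Statements.S19462
import Mathlib

set_option autoImplicit false
universe u
open GrNak


namespace S19462Aux
open DirectSum
open scoped Classical

section dec
variable {ι : Type*} [DecidableEq ι] {M : Type*} [AddCommMonoid M] {τ : Type*} [SetLike τ M] [AddSubmonoidClass τ M]
  (ℳ : ι → τ) [DirectSum.Decomposition ℳ]

noncomputable def prj (j : ι) : M →+ M where
  toFun x := (decompose ℳ x j : M)
  map_zero' := by simp
  map_add' x y := by simp

lemma prj_mem (j : ι) (x : M) : prj ℳ j x ∈ ℳ j := (decompose ℳ x j).2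

lemma prj_of_mem {e : ι} {x : M} (hx : x ∈ ℳ e) (j : ι) : prj ℳ j x = if e = j then x else 0 := by
  show (decompose ℳ x j : M) = _
  split_ifs with h
  · subst h; exact decompose_of_mem_same ℳ hx
  · exact decompose_of_mem_ne ℳ hx h

lemma exists_sum_prj (x : M) : ∃ s : Finset ι, ∑ j ∈ s, prj ℳ j x = x :=
  ⟨_, sum_support_decompose ℳ x⟩
end dec

variable {k : Type u} [Field k] {R : Type u} [CommRing R] [Algebra k R]
    {σ : Type u} [SetLike σ R] [AddSubmonoidClass σ R] (𝒜 : ℤ → σ) [GradedRing 𝒜]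
    (hneg : ∀ i : ℤ, i < 0 → ∀ x ∈ 𝒜 i, x = 0)
    (h0 : ∀ x ∈ 𝒜 0, ∃ c : k, algebraMap k R c = x)
    {M : Type u} [AddCommGroup M] [Module R M]
    {τ : Type u} [SetLike τ M] [AddSubmonoidClass τ M] (ℳ : ℤ → τ) [DirectSum.Decomposition ℳ]
    [SetLike.GradedSMul 𝒜 ℳ]

def mm : Ideal R := Ideal.span {x | ∃ i : ℤ, 0 < i ∧ x ∈ 𝒜 i}

include hneg in
lemma prj_zero_of_mem_mm {x : R} (hx : x ∈ mm 𝒜) : prj 𝒜 0 x = 0 := by
  suffices ∀ r, prj 𝒜 0 (r * x) = 0 by simpa using this 1
  induction hx using Submodule.span_induction with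
  | mem x hx =>
    obtain ⟨i, hi, hx⟩ := hx
    intro r
    obtain ⟨s, hs⟩ := exists_sum_prj 𝒜 r
    rw [← hs, Finset.sum_mul, map_sum]
    refine Finset.sum_eq_zero fun b _ => ?_
    rcases lt_or_ge b 0 with hb | hb
    · rw [hneg b hb _ (prj_mem 𝒜 b r), zero_mul, map_zero]
    · rw [prj_of_mem 𝒜 (SetLike.mul_mem_graded (prj_mem 𝒜 b r) hx), if_neg (by omega)]
  | zero => simp
  | add x y _ _ hx hy => intro r; rw [mul_add, map_add, hx, hy, add_zero]
  | smul a x _ hx => intro r; rw [smul_eq_mul, ← mul_assoc, hx]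

include hneg in
lemma mem_mm {x : R} (hx : prj 𝒜 0 x = 0) : x ∈ mm 𝒜 := by
  obtain ⟨s, hs⟩ := exists_sum_prj 𝒜 x
  rw [← hs]
  refine Ideal.sum_mem _ fun b _ => ?_
  rcases lt_trichotomy b 0 with hb | rfl | hb
  · rw [hneg b hb _ (prj_mem 𝒜 b x)]; exact zero_mem _
  · rw [hx]; exact zero_mem _
  · exact Ideal.subset_span ⟨b, hb, prj_mem 𝒜 b x⟩

include hneg in
lemma eq_zero_of_mul {r x : R} (hr : r - 1 ∈ mm 𝒜) (h : r * x = 0) : x = 0 := by
  have hy0 := prj_zero_of_mem_mm 𝒜 hneg hr
  have hx : x = -((r - 1) * x) := by rw [sub_mul, one_mul, h, zero_sub, neg_neg]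
  have key : ∀ n : ℕ, ∀ i : ℤ, i < n → prj 𝒜 i x = 0 := by
    intro n
    induction n with
    | zero => exact fun i hi => hneg i (by omega) _ (prj_mem 𝒜 i x)
    | succ n ih =>
      intro i hi
      rw [hx, map_neg, neg_eq_zero]
      obtain ⟨s, hs⟩ := exists_sum_prj 𝒜 (r - 1)
      obtain ⟨t, ht⟩ := exists_sum_prj 𝒜 x
      rw [← hs, ← ht, Finset.sum_mul_sum, map_sum]
      refine Finset.sum_eq_zero fun a _ => ?_
      rw [map_sum]
      refine Finset.sum_eq_zero fun b _ => ?_
      rcases lt_trichotomy a 0 with ha | rfl | ha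
      · rw [hneg a ha _ (prj_mem 𝒜 a _), zero_mul, map_zero]
      · rw [hy0, zero_mul, map_zero]
      · rw [prj_of_mem 𝒜 (SetLike.mul_mem_graded (prj_mem 𝒜 a _) (prj_mem 𝒜 b _))]
        split_ifs with hab
        · rw [ih b (by omega), mul_zero]
        · rfl
  obtain ⟨t, ht⟩ := exists_sum_prj 𝒜 x
  rw [← ht]
  exact Finset.sum_eq_zero fun i _ => key (i.toNat + 1) i (by omega)

lemma prj_smul {e : ℤ} {x : M} (hx : x ∈ ℳ e) (r : R) (j : ℤ) :
    prj ℳ j (r • x) = prj 𝒜 (j - e) r • x := by
  obtain ⟨s, hs⟩ := exists_sum_prj 𝒜 r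
  conv_lhs => rw [← hs]
  conv_rhs => rw [← hs]
  rw [Finset.sum_smul, map_sum, map_sum, Finset.sum_smul]
  refine Finset.sum_congr rfl fun b _ => ?_
  have hm : prj 𝒜 b r • x ∈ ℳ (b + e) := by
    simpa using SetLike.GradedSMul.smul_mem (prj_mem 𝒜 b r) hx
  rw [prj_of_mem ℳ hm, prj_of_mem 𝒜 (prj_mem 𝒜 b r)]
  by_cases h : b + e = j
  · rw [if_pos h, if_pos (by omega)]
  · rw [if_neg h, if_neg (by omega), zero_smul]

include hneg h0 in
theorem exists_basis [Module.Finite R M] [Module.Projective R M] :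
    ∃ (ι : Type u) (b : Module.Basis ι R M), ∀ i : ι, SetLike.IsHomogeneousElem ℳ (b i) := by
  obtain ⟨G, hG⟩ := Module.Finite.fg_top (R := R) (M := M)
  let Good : ℕ → Prop := fun n => ∃ S : Finset M, S.card = n ∧
    (∀ x ∈ S, SetLike.IsHomogeneousElem ℳ x) ∧ Submodule.span R (S : Set M) = ⊤
  have hex : ∃ n, Good n := by
    choose s hs using exists_sum_prj ℳ
    refine ⟨_, G.biUnion (fun g => (s g).image (fun j => prj ℳ j g)), rfl, ?_, ?_⟩
    · intro x hx
      simp only [Finset.mem_biUnion, Finset.mem_image] at hx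
      obtain ⟨g, -, j, -, rfl⟩ := hx
      exact ⟨j, prj_mem ℳ j g⟩
    · rw [eq_top_iff, ← hG, Submodule.span_le]
      intro g hg
      rw [← hs g]
      refine Submodule.sum_mem _ fun j hj => Submodule.subset_span ?_
      simp only [Finset.coe_biUnion, Finset.coe_image, Set.mem_iUnion]
      exact ⟨g, hg, j, hj, rfl⟩
  obtain ⟨S, hcard, hhom, hspan⟩ := Nat.find_spec hex
  choose deg hdeg using fun b : S => hhom b.1 b.2
  let p : (S → R) →ₗ[R] M := Fintype.linearCombination R (fun b : S => (b : M))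
  have hp : Function.Surjective p := by
    rw [← LinearMap.range_eq_top, Fintype.range_linearCombination, Subtype.range_coe_subtype]
    exact hspan
  have hker : ∀ v ∈ LinearMap.ker p, ∀ b : S, v b ∈ mm 𝒜 := by
    intro v hv b
    refine mem_mm 𝒜 hneg (by_contra fun hne => ?_)
    obtain ⟨c, hc⟩ := h0 _ (prj_mem 𝒜 0 (v b))
    have hc0 : c ≠ 0 := fun h => hne (by rw [← hc, h, map_zero])
    have h1 := congrArg (prj ℳ (deg b)) (LinearMap.mem_ker.1 hv)
    simp only [p, Fintype.linearCombination_apply, map_sum, map_zero, prj_smul 𝒜 ℳ (hdeg _)] at h1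
    rw [← Finset.add_sum_erase _ _ (Finset.mem_univ b), sub_self, ← hc] at h1
    have hb : (b : M) ∈ Submodule.span R ((S.erase b : Finset M) : Set M) := by
      have h2 : algebraMap k R c • (b : M) ∈ Submodule.span R ((S.erase b : Finset M) : Set M) := by
        rw [eq_neg_of_add_eq_zero_left h1]
        refine Submodule.neg_mem _ (Submodule.sum_mem _ fun a ha => Submodule.smul_mem _ _ (Submodule.subset_span ?_))
        simp only [Finset.coe_erase, Set.mem_diff, Finset.mem_coe, Set.mem_singleton_iff]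
        exact ⟨a.2, fun h => (Finset.mem_erase.1 ha).1 (Subtype.ext h)⟩
      have h3 := Submodule.smul_mem _ (algebraMap k R c⁻¹) h2
      rwa [smul_smul, ← map_mul, inv_mul_cancel₀ hc0, map_one, one_smul] at h3
    refine Nat.find_min hex (m := (S.erase b).card) (by rw [← hcard]; exact Finset.card_erase_lt_of_mem b.2)
      ⟨S.erase b, rfl, fun x hx => hhom x (Finset.mem_of_mem_erase hx), ?_⟩
    rw [eq_top_iff, ← hspan, Submodule.span_le]
    intro x hx
    by_cases hxb : x = b
    · exact hxb ▸ hb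
    · exact Submodule.subset_span (Finset.mem_erase.2 ⟨hxb, hx⟩)
  obtain ⟨s, hs⟩ := Module.projective_lifting_property p LinearMap.id hp
  let e : (S → R) →ₗ[R] (S → R) := LinearMap.id - s ∘ₗ p
  have he : LinearMap.range e = LinearMap.ker p := by
    apply le_antisymm
    · rintro _ ⟨v, rfl⟩
      have := LinearMap.congr_fun hs (p v)
      simp only [LinearMap.comp_apply, LinearMap.id_apply] at this
      simp [e, this]
    · intro v hv
      exact ⟨v, by simp [e, LinearMap.mem_ker.1 hv]⟩
  have hfg : (LinearMap.ker p).FG := he ▸ (Module.Finite.fg_top.map e |> fun h => by rwa [Submodule.map_top] at h)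
  have hle : LinearMap.ker p ≤ mm 𝒜 • LinearMap.ker p := by
    intro v hv
    have h1 : e v = v := by simp [e, LinearMap.mem_ker.1 hv]
    have h2 : v = ∑ b : S, v b • e (Pi.single b 1) := by
      conv_lhs => rw [← h1, pi_eq_sum_univ' v, map_sum]
      simp
    rw [h2]
    exact Submodule.sum_mem _ fun b _ => Submodule.smul_mem_smul (hker v hv b) (he ▸ LinearMap.mem_range_self e _)
  obtain ⟨r, hr, hrk⟩ := Submodule.exists_sub_one_mem_and_smul_eq_zero_of_fg_of_le_smul (mm 𝒜) _ hfg hle
  have hinj : Function.Injective p := by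
    rw [← LinearMap.ker_eq_bot, eq_bot_iff]
    intro v hv
    exact funext fun b => eq_zero_of_mul 𝒜 hneg hr (congrFun (hrk v hv) b)
  let b : Module.Basis S R M := Module.Basis.ofEquivFun (LinearEquiv.ofBijective p ⟨hinj, hp⟩).symm
  refine ⟨S, b, fun i => ⟨deg i, ?_⟩⟩
  have : b i = (i : M) := by
    simp [b, Module.Basis.coe_ofEquivFun, p, Fintype.linearCombination_apply_single]
  rw [this]
  exact hdeg i

end S19462Aux

namespace Groth.Agent.S19462

/-- Let k be a field and R a commutative ℤ-graded k-algebra whose pieces of negative degree vanish and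
whose degree-zero piece is the image of k, and let M be a finitely generated ℤ-graded R-module,
graded compatibly with R. Then M is a projective R-module if and only if M has an R-basis consisting
of homogeneous elements, i.e. M is a free graded module. (The published statement takes R a graded
quotient of a polynomial ring k[x_0, …, x_n] with its standard grading; stated here for any
commutative graded k-algebra concentrated in non-negative degrees with degree-zero part k, to which
the same graded-Nakayama argument applies.) -/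
theorem result {k : Type u} [Field k] {R : Type u} [CommRing R] [Algebra k R]
    {σ : Type u} [SetLike σ R] [AddSubmonoidClass σ R] (𝒜 : ℤ → σ) [GradedRing 𝒜]
    (hneg : ∀ i : ℤ, i < 0 → ∀ x ∈ 𝒜 i, x = 0)
    (hk : ∀ c : k, algebraMap k R c ∈ 𝒜 0) (h0 : ∀ x ∈ 𝒜 0, ∃ c : k, algebraMap k R c = x)
    {M : Type u} [AddCommGroup M] [Module R M] [Module.Finite R M]
    {τ : Type u} [SetLike τ M] [AddSubmonoidClass τ M] (ℳ : ℤ → τ) [DirectSum.Decomposition ℳ]
    [SetLike.GradedSMul 𝒜 ℳ] :
    Module.Projective R M ↔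
      ∃ (ι : Type u) (b : Module.Basis ι R M), ∀ i : ι, SetLike.IsHomogeneousElem ℳ (b i) := by
  refine ⟨fun h => S19462Aux.exists_basis 𝒜 hneg h0 ℳ, fun ⟨ι, b, _⟩ => Module.Projective.of_basis b⟩

end Groth.Agent.S19462
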