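import Groth.Statements.S19465
import Groth.Agent.GrpSch.OverBase
import Groth.Agent.UnramFibre.Basic
import Mathlib.AlgebraicGeometry.Morphisms.FormallyUnramified

set_option autoImplicit false
universe u
open CategoryTheory CategoryTheory.Limits MonoidalCategory CartesianMonoidalCategory MonObj GrpObj AlgebraicGeometry
open AlgGrp

namespace Groth.Agent.S19465

/-- Let S be a scheme and G an S-group scheme whose structure morphism G → S is locally of finite type.
Then G → S is an isomorphism (G is the trivial group scheme over S) if and only if every fibre G_s →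
Spec κ(s), s ∈ S, is an isomorphism. -/
theorem result (S : Scheme.{u}) (G : Over S)
    [GrpObj G] [LocallyOfFiniteType G.hom] :
    IsIso G.hom ↔ ∀ s : S, IsIso (G.hom.fiberToSpecResidueField s) := by
  refine ⟨fun _ s => MorphismProperty.pullback_snd (P := MorphismProperty.isomorphisms Scheme.{u}) _ _ ‹_›,
    fun h => ?_⟩
  have : FormallyUnramified G.hom := Groth.Agent.UnramFibre.formallyUnramified_of_fibres G.hom fun s =>
    have := h s
    inferInstance
  have hη : IsOpenImmersion η[G].left :=
    Groth.Agent.GrpSch.property_one_of_diagonal (P := @IsOpenImmersion) G inferInstance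
  have hsec : η[G].left ≫ G.hom = 𝟙 S := Over.w η[G]
  have : Surjective η[G].left := ⟨fun x => ⟨G.hom x, by
    have hsub : Subsingleton (G.hom.fiber (G.hom x)) := by
      have := h (G.hom x)
      exact (G.hom.fiberToSpecResidueField (G.hom x)).homeomorph.toEquiv.subsingleton
    have := (G.hom.fiberHomeo (G.hom x)).symm.toEquiv.subsingleton
    have hmem : G.hom (η[G].left (G.hom x)) = G.hom x := by
      rw [← Scheme.Hom.comp_apply, hsec]; rfl
    exact congrArg Subtype.val (Subsingleton.elim (α := ↥(G.hom ⁻¹' {G.hom x}))
      ⟨η[G].left (G.hom x), hmem⟩ ⟨x, rfl⟩)⟩⟩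
  have : Epi η[G].left.base := (TopCat.epi_iff_surjective _).2 η[G].left.surjective
  have : IsIso η[G].left := IsOpenImmersion.isIso η[G].left
  have : IsIso (η[G].left ≫ G.hom) := by rw [hsec]; exact IsIso.id S
  exact IsIso.of_isIso_comp_left η[G].left G.hom

end Groth.Agent.S19465
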