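import Groth.Statements.S19474
import Mathlib
import Groth.Agent.AdicNoeth.Basic
import Groth.Agent.Hensel.TrivialFibresAtPrime
import Groth.Agent.S0565

set_option autoImplicit false
universe u
open CAlg

namespace Groth.Agent.S19474

/-- Let A be a Noetherian local ring and I an ideal of A different from A. Then the I-adic completion of
A has the same Krull dimension as A, and A is a regular local ring if and only if the I-adic
completion of A is a regular local ring (in particular the completion is then local and Noetherian).
The case where I is the maximal ideal is the classical one; here I is any proper ideal. -/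
theorem result (A : Type u) [CommRing A]
    [IsLocalRing A] [IsNoetherianRing A] (I : Ideal A) (hI : I ≠ ⊤) :
    ringKrullDim (AdicCompletion I A) = ringKrullDim A ∧
      (IsRegularLocalRing A ↔ IsRegularLocalRing (AdicCompletion I A)) := by
  have hfg : I.FG := IsNoetherian.noetherian I
  haveI := Groth.Agent.AdicNoeth.isNoetherianRing_adicCompletion I
  have hIm : I ≤ IsLocalRing.maximalIdeal A := IsLocalRing.le_maximalIdeal hI
  haveI hmax := AdicCompletion.isMaximal_map_of_le I (IsLocalRing.maximalIdeal A) hIm hfg
  haveI := AdicCompletion.isAdicComplete_self I hfg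
  have hjac : I.map (algebraMap A (AdicCompletion I A)) ≤ Ideal.jacobson ⊥ :=
    IsAdicComplete.le_jacobson_bot _
  have huniq : ∀ N : Ideal (AdicCompletion I A), N.IsMaximal →
      N = (IsLocalRing.maximalIdeal A).map (algebraMap A (AdicCompletion I A)) := by
    intro N hN
    refine hN.eq_of_le hmax.ne_top fun x hx => ?_
    obtain ⟨a, ha⟩ := Ideal.Quotient.mk_surjective (AdicCompletion.evalOneₐ I x)
    have hxa : x - algebraMap A _ a ∈ I.map (algebraMap A (AdicCompletion I A)) := by
      rw [← AdicCompletion.ker_evalOneₐ_eq_map I hfg, RingHom.mem_ker]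
      show AdicCompletion.evalOneₐ I (x - algebraMap A _ a) = 0
      rw [map_sub, AlgHom.commutes, sub_eq_zero, ← ha]
      rfl
    by_cases hau : IsUnit a
    · exfalso
      have hN' : algebraMap A _ a ∈ N := by
        simpa using sub_mem hx ((hjac.trans (sInf_le ⟨bot_le, hN⟩)) hxa)
      exact hN.ne_top (Ideal.eq_top_of_isUnit_mem _ hN' (hau.map _))
    · have := Ideal.mem_map_of_mem (algebraMap A (AdicCompletion I A)) ((IsLocalRing.mem_maximalIdeal a).2 hau)
      simpa using add_mem (Ideal.map_mono hIm hxa) this
  haveI : IsLocalRing (AdicCompletion I A) := IsLocalRing.of_unique_max_ideal ⟨_, hmax, huniq⟩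
  have hmap : (IsLocalRing.maximalIdeal A).map (algebraMap A (AdicCompletion I A)) =
      IsLocalRing.maximalIdeal (AdicCompletion I A) := IsLocalRing.eq_maximalIdeal hmax
  haveI : IsLocalHom (algebraMap A (AdicCompletion I A)) :=
    ((IsLocalRing.local_hom_TFAE _).out 0 2).mpr hmap.le
  haveI : Module.FaithfullyFlat A (AdicCompletion I A) := Module.FaithfullyFlat.of_flat_of_isLocalHom
  have hdim := Groth.Agent.Hensel.ringKrullDim_eq_of_faithfullyFlat hmap
  refine ⟨hdim, fun h => ?_, fun h => ?_⟩
  · refine IsRegularLocalRing.of_spanFinrank_maximalIdeal_le _ ?_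
    rw [hdim, ← hmap, ← IsRegularLocalRing.spanFinrank_maximalIdeal (R := A)]
    exact_mod_cast Ideal.spanFinrank_map_le_of_fg _ (IsNoetherian.noetherian _)
  · exact Groth.Agent.S0565.result A (AdicCompletion I A)

end Groth.Agent.S19474
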