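import Groth.Statements.S19475
import Mathlib

set_option autoImplicit false
universe u
open CAlg

namespace Groth.Agent.S19475
open scoped TensorProduct

open IsLocalRing in
/-- Let A be a Noetherian ring, B an A-algebra, q a prime ideal of B and p its preimage in A; let A_p
and B_q be the local rings at p and q and Â_p the completion of A_p at its maximal ideal pA_p. Then
the ideal generated by qB_q in B_q ⊗ Â_p is maximal. (The tensor product is formed over A; since A_p
is a localization of A it agrees with the tensor product over A_p used in the published statement.) -/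
theorem result (A B : Type u) [CommRing A] [CommRing B]
    [Algebra A B] [IsNoetherianRing A] (q : Ideal B) [q.IsPrime] :
    ((maximalIdeal (Localization.AtPrime q)).map
      (Algebra.TensorProduct.includeLeftRingHom :
        Localization.AtPrime q →+* TensorProduct A (Localization.AtPrime q)
          (AdicCompletion (maximalIdeal (Localization.AtPrime (q.under A)))
            (Localization.AtPrime (q.under A))))).IsMaximal := by
  classical
  set p := q.under A with hp
  let Ap := Localization.AtPrime p
  let Bq := Localization.AtPrime q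
  let mI := maximalIdeal Ap
  let C := AdicCompletion mI Ap
  let T := TensorProduct A Bq C
  set J : Ideal T := (maximalIdeal Bq).map Algebra.TensorProduct.includeLeftRingHom with hJ
  let f : Ap →ₐ[A] Bq :=
    { Localization.localRingHom p q (algebraMap A B) rfl with
      commutes' := fun a => by
        exact (Localization.localRingHom_to_map p q (algebraMap A B) rfl a).trans
          (IsScalarTower.algebraMap_apply A B Bq a).symm }
  haveI : IsLocalHom f.toRingHom :=
    Localization.isLocalHom_localRingHom p q (algebraMap A B) rfl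
  let g0 : (Ap ⧸ mI) →ₐ[A] (Bq ⧸ maximalIdeal Bq) :=
    Ideal.Quotient.liftₐ mI ((Ideal.Quotient.mkₐ A (maximalIdeal Bq)).comp f) (fun x hx => by
      show Ideal.Quotient.mk (maximalIdeal Bq) (f x) = 0
      rw [Ideal.Quotient.eq_zero_iff_mem]
      exact map_nonunit f.toRingHom x hx)
  let g : C →ₐ[A] (Bq ⧸ maximalIdeal Bq) := g0.comp ((AdicCompletion.evalOneₐ mI).restrictScalars A)
  let Φ : T →ₐ[A] (Bq ⧸ maximalIdeal Bq) :=
    Algebra.TensorProduct.lift (Ideal.Quotient.mkₐ A (maximalIdeal Bq)) g (fun _ _ => Commute.all _ _)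
  have hΦl : ∀ b : Bq, Φ (b ⊗ₜ[A] (1 : C)) = Ideal.Quotient.mk (maximalIdeal Bq) b := fun b => by
    simp [Φ, T]
  have hsurj : Function.Surjective Φ := fun y => by
    obtain ⟨b, rfl⟩ := Ideal.Quotient.mk_surjective y
    exact ⟨b ⊗ₜ 1, hΦl b⟩
  have hJle : J ≤ RingHom.ker Φ.toRingHom := by
    rw [hJ, Ideal.map_le_iff_le_comap]
    intro b hb
    show Φ (b ⊗ₜ 1) = 0
    rw [hΦl]
    exact Ideal.Quotient.eq_zero_iff_mem.2 hb
  -- p maps into J
  have hpJ : p.map (algebraMap A T) ≤ J := by
    rw [Ideal.map_le_iff_le_comap]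
    intro a ha
    show algebraMap A T a ∈ J
    rw [Algebra.TensorProduct.algebraMap_apply]
    refine Ideal.mem_map_of_mem _ ?_
    rw [IsScalarTower.algebraMap_apply A B Bq]
    exact (IsLocalization.AtPrime.to_map_mem_maximal_iff Bq q _).2 ha
  have hone : ∀ (b : Bq) (x : C), ∃ c : Bq, b ⊗ₜ[A] x - c ⊗ₜ[A] (1 : C) ∈ J := by
    intro b x
    obtain ⟨a, ha⟩ := Ideal.Quotient.mk_surjective (AdicCompletion.evalOneₐ mI x)
    have hz : x - algebraMap Ap C a ∈ (p.map (algebraMap A C)) := by
      have h1 : x - algebraMap Ap C a ∈ RingHom.ker (AdicCompletion.evalOneₐ mI).toRingHom := by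
        rw [RingHom.mem_ker]
        show AdicCompletion.evalOneₐ mI (x - algebraMap Ap C a) = 0
        rw [map_sub, AlgHom.commutes, ← ha]
        exact sub_self _
      rw [AdicCompletion.ker_evalOneₐ_eq_map mI (IsNoetherian.noetherian _)] at h1
      have h2 : mI = p.map (algebraMap A Ap) := (Localization.AtPrime.map_eq_maximalIdeal).symm
      have h2' : mI.map (algebraMap Ap C) = p.map (algebraMap A C) := by
        rw [IsScalarTower.algebraMap_eq A Ap C, ← Ideal.map_map]
        exact congrArg (Ideal.map (algebraMap Ap C)) h2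
      exact h2' ▸ h1
    obtain ⟨⟨a0, s⟩, has⟩ := IsLocalization.surj p.primeCompl a
    have hu : IsUnit (algebraMap A Bq s.1) := by
      rw [IsScalarTower.algebraMap_apply A B Bq]
      exact IsLocalization.map_units Bq (⟨algebraMap A B s.1, fun h => s.2 h⟩ : q.primeCompl)
    refine ⟨(↑hu.unit⁻¹ : Bq) * b * algebraMap A Bq a0, ?_⟩
    have e1 : b = (s.1 : A) • ((↑hu.unit⁻¹ : Bq) * b) := by
      rw [Algebra.smul_def, ← mul_assoc, IsUnit.mul_val_inv, one_mul]
    have e2 : b ⊗ₜ[A] algebraMap Ap C a = ((↑hu.unit⁻¹ : Bq) * b * algebraMap A Bq a0) ⊗ₜ[A] (1 : C) := by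
      conv_lhs => rw [e1, TensorProduct.smul_tmul]
      have : (s.1 : A) • algebraMap Ap C a = a0 • (1 : C) := by
        rw [Algebra.smul_def, Algebra.smul_def, mul_one, IsScalarTower.algebraMap_apply A Ap C,
          IsScalarTower.algebraMap_apply A Ap C a0, ← map_mul, mul_comm, has]
      rw [this, ← TensorProduct.smul_tmul, Algebra.smul_def, mul_comm]
    rw [← e2, ← TensorProduct.tmul_sub]
    have h3 : (1 : Bq) ⊗ₜ[A] (x - algebraMap Ap C a) ∈ J := by
      apply hpJ
      have := Ideal.mem_map_of_mem (Algebra.TensorProduct.includeRight : C →ₐ[A] T).toRingHom hz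
      have heq : (Algebra.TensorProduct.includeRight : C →ₐ[A] T).toRingHom.comp (algebraMap A C) =
          algebraMap A T := RingHom.ext fun y => AlgHom.commutes (Algebra.TensorProduct.includeRight : C →ₐ[A] T) y
      rw [Ideal.map_map] at this
      exact heq ▸ this
    have h4 := J.mul_mem_left (b ⊗ₜ[A] (1 : C)) h3
    rwa [Algebra.TensorProduct.tmul_mul_tmul, mul_one, one_mul] at h4
  have hall : ∀ t : T, ∃ c : Bq, t - c ⊗ₜ[A] (1 : C) ∈ J := by
    intro t
    induction t using TensorProduct.induction_on with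
    | zero => exact ⟨0, by simp⟩
    | tmul b x => exact hone b x
    | add s t hs ht =>
      obtain ⟨c, hc⟩ := hs
      obtain ⟨d, hd⟩ := ht
      refine ⟨c + d, ?_⟩
      have := J.add_mem hc hd
      rw [TensorProduct.add_tmul]
      convert this using 1
      abel
  have hker : RingHom.ker Φ.toRingHom = J := by
    refine le_antisymm (fun t ht => ?_) hJle
    obtain ⟨c, hc⟩ := hall t
    have h5 : Φ (c ⊗ₜ[A] (1 : C)) = 0 := by
      have h6 : Φ (t - c ⊗ₜ[A] (1 : C)) = 0 := hJle hc
      have h7 : Φ t = 0 := ht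
      rwa [map_sub, h7, zero_sub, neg_eq_zero] at h6
    rw [hΦl, Ideal.Quotient.eq_zero_iff_mem] at h5
    have h8 : c ⊗ₜ[A] (1 : C) ∈ J := Ideal.mem_map_of_mem _ h5
    simpa using J.add_mem hc h8
  show J.IsMaximal
  rw [← hker]
  haveI : (maximalIdeal Bq).IsMaximal := maximalIdeal.isMaximal _
  letI := Ideal.Quotient.field (maximalIdeal Bq)
  exact RingHom.ker_isMaximal_of_surjective Φ.toRingHom hsurj

end Groth.Agent.S19475
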