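import Mathlib
import Groth.Agent.ConnCompExt.Irreducible
import Groth.Statements.S19477
-- import your own Groth.Agent.* helpers here

set_option autoImplicit false
set_option backward.isDefEq.respectTransparency false
set_option backward.isDefEq.respectTransparency.types false
universe u
open Variety

namespace Groth.Agent.S19477

open AlgebraicGeometry CategoryTheory CategoryTheory.Limits
open scoped TensorProduct

/-- Let K be a field, B an integral K-algebra of finite type with fraction field F, and L a Galois
extension of K with group Γ = Aut_K(L). Then F ⊗_K L has only finitely many prime ideals and Γ,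
acting through the second factor, permutes them transitively: for prime ideals P, Q there is γ ∈ Γ
with Q the preimage of P under id ⊗ γ. (The published statement is the geometric one, that the
points of an algebraic K-scheme X correspond to the Γ-orbits of points of X_L and that these orbits
are finite; it reduces to this algebraic statement by passing to the fibre over a point, and the
algebraic statement is what is proved.) -/
theorem result (K B L : Type u) [Field K]
    [CommRing B] [IsDomain B] [Algebra K B] [Algebra.FiniteType K B] [Field L] [Algebra K L] [IsGalois K L] :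
    Finite (PrimeSpectrum (TensorProduct K (FractionRing B) L)) ∧
      ∀ P Q : PrimeSpectrum (TensorProduct K (FractionRing B) L), ∃ γ : L ≃ₐ[K] L,
        Q.asIdeal = P.asIdeal.comap
          (Algebra.TensorProduct.map (AlgHom.id K (FractionRing B)) (γ : L →ₐ[K] L)) := by
  let F := FractionRing B
  let f : Spec (CommRingCat.of F) ⟶ Spec (CommRingCat.of K) := Spec.map (CommRingCat.ofHom (algebraMap K F))
  haveI : Normal K L := IsGalois.to_normal
  have hc : Spec.map (CommRingCat.ofHom (algebraMap K F)) = 𝟙 _ ≫ f := (Category.id_comp _).symm
  have hsurj : ∀ (E : Type u) [Field E] [Algebra K E], Function.Surjective (ConnCompExt.chart f E (𝟙 _) hc) := by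
    intro E _ _
    rw [← Set.range_eq_univ, ConnCompExt.range_chart]
    simp
  have hinj : ∀ (E : Type u) [Field E] [Algebra K E], Function.Injective (ConnCompExt.chart f E (𝟙 _) hc) := by
    intro E _ _
    haveI := ConnCompExt.isOpenImmersion_chart f E (𝟙 _) hc
    exact (ConnCompExt.chart f E (𝟙 _) hc).isOpenEmbedding.injective
  have hnat : ∀ {E E' : Type u} [Field E] [Algebra K E] [Field E'] [Algebra K E'] (e : E →ₐ[K] E')
      (P : PrimeSpectrum (F ⊗[K] E')), ConnCompExt.bcMap f e (ConnCompExt.chart f E' (𝟙 _) hc P) =
        ConnCompExt.chart f E (𝟙 _) hc (PrimeSpectrum.comap (Algebra.TensorProduct.map (AlgHom.id K F) e).toRingHom P) := by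
    intro E E' _ _ _ _ e P
    rw [← Scheme.Hom.comp_apply, ConnCompExt.chart_bcMap, Scheme.Hom.comp_apply]
    rfl
  constructor
  · let Ω := SeparableClosure K
    let e : L →ₐ[K] Ω := IsSepClosed.lift
    haveI : Algebra.EssFiniteType B F := Algebra.EssFiniteType.of_isLocalization F (nonZeroDivisors B)
    haveI : Algebra.EssFiniteType K F := Algebra.EssFiniteType.comp K B F
    haveI : FiniteDimensional K (algebraicClosure K F) := S6333.result (IntermediateField.fg_top_iff.2 inferInstance)
    have hle : separableClosure K F ≤ algebraicClosure K F :=
      fun a ha => mem_algebraicClosure_iff.2 ((mem_separableClosure_iff.1 ha).isIntegral.isAlgebraic)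
    haveI : FiniteDimensional K (separableClosure K F) :=
      FiniteDimensional.of_injective (IntermediateField.inclusion hle).toLinearMap
        (IntermediateField.inclusion_injective hle)
    haveI := (GeomConnExt.finite_and_natCard_primes K F Ω
      fun a => IsSepClosed.splits_codomain _ (Algebra.IsSeparable.isSeparable K a)).1
    refine Finite.of_surjective
      (PrimeSpectrum.comap (Algebra.TensorProduct.map (AlgHom.id K F) e).toRingHom) fun P => ?_
    obtain ⟨z, hz⟩ := (ConnCompExt.surjective_bcMap f e).surj (ConnCompExt.chart f L (𝟙 _) hc P)
    obtain ⟨Q, rfl⟩ := hsurj Ω z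
    exact ⟨Q, hinj L ((hnat e Q).symm.trans hz)⟩
  · intro P Q
    obtain ⟨σ, hσ⟩ := ConnCompExt.exists_aut f L (ConnCompExt.chart f L (𝟙 _) hc P)
      (ConnCompExt.chart f L (𝟙 _) hc Q) (Subsingleton.elim (α := PrimeSpectrum F) _ _)
    rw [hnat] at hσ
    exact ⟨σ, (congrArg PrimeSpectrum.asIdeal (hinj L hσ)).symm⟩

end Groth.Agent.S19477
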