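import Groth.Statements.S19488
import Mathlib.AlgebraicGeometry.Morphisms.ClosedImmersion
import Mathlib.Algebra.Homology.ShortComplex.Exact

set_option autoImplicit false
universe u
open CategoryTheory CategoryTheory.Limits AlgebraicGeometry
open W4c1frobunstiva

namespace Groth.Agent.S19488

/-- Fix a closed immersion of schemes f : S → T, an O_T-module G, an O_S-module E and an epimorphism ψ :
G → f_*E. Then the morphism ψ′ : f^*G → E that corresponds to ψ under the adjunction between
pullback and pushforward (it is the pullback f^*ψ followed by the counit f^*f_*E → E, an isomorphism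
for a closed immersion) is an epimorphism, and the canonical map f^*(ker ψ) → ker(f^*ψ) is an
epimorphism. (The published statement takes G and E locally free, which these two assertions do not
use.) -/
theorem result
    {S T : Scheme.{u}} (f : S ⟶ T) [IsClosedImmersion f] (G : T.Modules) (E : S.Modules)
    (ψ : G ⟶ (Scheme.Modules.pushforward f).obj E) [Epi ψ] :
    Epi (((Scheme.Modules.pullbackPushforwardAdjunction f).homEquiv G E).symm ψ) ∧
      Epi (kernelComparison ψ (Scheme.Modules.pullback f)) := by
  haveI hfaith : (Scheme.Modules.pushforward f).Faithful := ⟨fun {M N} a b h => by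
    ext1 V
    have hV : IsOpen (f.base '' V) → True := fun _ => trivial
    obtain ⟨U, hU, hUV⟩ := f.isClosedEmbedding.isInducing.isOpen_iff.mp V.2
    have e : f ⁻¹ᵁ (⟨U, hU⟩ : T.Opens) = V := TopologicalSpace.Opens.ext hUV
    have h1 := congrArg (fun φ => φ.app (⟨U, hU⟩ : T.Opens)) h
    subst e
    exact h1⟩
  constructor
  · constructor
    intro Z a b hab
    have h := congrArg ((Scheme.Modules.pullbackPushforwardAdjunction f).homEquiv G Z) hab
    rw [Adjunction.homEquiv_naturality_right, Adjunction.homEquiv_naturality_right,
      Equiv.apply_symm_apply] at h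
    exact (Scheme.Modules.pushforward f).map_injective ((cancel_epi ψ).mp h)
  · haveI : (Scheme.Modules.pullback f).IsLeftAdjoint :=
      (Scheme.Modules.pullbackPushforwardAdjunction f).isLeftAdjoint
    let Sc := ShortComplex.mk (kernel.ι ψ) ψ (kernel.condition ψ)
    have hex : Sc.Exact := ShortComplex.exact_of_f_is_kernel _ (kernelIsKernel ψ)
    have h2 : (Sc.map (Scheme.Modules.pullback f)).Exact := by
      exact hex.map_of_epi_of_preservesCokernel (Scheme.Modules.pullback f) ‹Epi ψ› inferInstance
    rw [ShortComplex.exact_iff_epi_kernel_lift] at h2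
    exact h2

end Groth.Agent.S19488
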