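import Groth.Statements.S19489
import Mathlib

set_option autoImplicit false
open scoped TensorProduct
open ZeroCyc

namespace Groth.Agent.S19489

open scoped TensorProduct in
theorem exists_law (p : ℕ) [Fact p.Prime] (k : Type) [Field k] [CharP k p] :
    ∃ F : PolLaw.MulLaw k (FrobAlg.Twist p k) k p,
      ∀ (S : Type) [CommSemiring S] [Algebra k S] (s : S) (a : FrobAlg.Twist p k),
        F.law.toFun' S (s ⊗ₜ[k] a) = (s ^ p) ⊗ₜ[k] (FrobAlg.toTwist p k).symm a := by
  have hp : p.Prime := Fact.out
  let Φ : (S : Type) → [CommSemiring S] → [Algebra k S] → (S ⊗[k] FrobAlg.Twist p k →+ S ⊗[k] k) :=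
    fun S _ _ => TensorProduct.liftAddHom
      { toFun := fun s =>
          { toFun := fun a => (s ^ p) ⊗ₜ[k] (FrobAlg.toTwist p k).symm a
            map_zero' := by rw [map_zero, TensorProduct.tmul_zero]
            map_add' := fun a b => by rw [map_add, TensorProduct.tmul_add] }
        map_zero' := by
          ext a
          show ((0 : S) ^ p) ⊗ₜ[k] (FrobAlg.toTwist p k).symm a = 0
          rw [zero_pow hp.ne_zero, TensorProduct.zero_tmul]
        map_add' := fun s t => by
          ext a
          show ((s + t) ^ p) ⊗ₜ[k] (FrobAlg.toTwist p k).symm a = (s ^ p) ⊗ₜ[k] _ + (t ^ p) ⊗ₜ[k] _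
          have hpS : (p : S) = 0 := by
            rw [← map_natCast (algebraMap k S), CharP.cast_eq_zero, map_zero]
          obtain ⟨r, hr⟩ := exists_add_pow_prime_eq hp s t
          rw [hr, hpS, zero_mul, zero_mul, zero_mul, add_zero, TensorProduct.add_tmul] }
      (fun c s a => by
        show ((c • s) ^ p) ⊗ₜ[k] (FrobAlg.toTwist p k).symm a = (s ^ p) ⊗ₜ[k] (FrobAlg.toTwist p k).symm (c • a)
        rw [smul_pow, TensorProduct.smul_tmul, Algebra.smul_def c a, FrobAlg.algebraMap_twist, map_mul, RingEquiv.symm_apply_apply, smul_eq_mul])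
  have hΦ : ∀ (S : Type) [CommSemiring S] [Algebra k S] (s : S) (a : FrobAlg.Twist p k),
      Φ S (s ⊗ₜ[k] a) = (s ^ p) ⊗ₜ[k] (FrobAlg.toTwist p k).symm a := fun S _ _ s a => rfl
  refine ⟨⟨⟨fun S _ _ => Φ S, fun {S} _ _ {S'} _ _ φ => ?_⟩, fun S _ _ s x => ?_, fun S _ _ => ⟨?_, fun x y => ?_⟩⟩,
    fun S _ _ s a => rfl⟩
  · funext z
    simp only [Function.comp_apply]
    induction z using TensorProduct.induction_on with
    | zero => simp
    | tmul s a => simp [hΦ]
    | add x y hx hy => simp only [map_add, hx, hy]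
  · show Φ S (s • x) = s ^ p • Φ S x
    induction x using TensorProduct.induction_on with
    | zero => simp
    | tmul t a => rw [TensorProduct.smul_tmul', hΦ, hΦ, TensorProduct.smul_tmul', smul_eq_mul, smul_eq_mul, mul_pow]
    | add x y hx hy => simp only [smul_add, map_add, hx, hy]
  · show Φ S 1 = 1
    rw [Algebra.TensorProduct.one_def, hΦ, one_pow, map_one]
    rfl
  · show Φ S (x * y) = Φ S x * Φ S y
    induction x using TensorProduct.induction_on with
    | zero => simp
    | tmul s a =>
      induction y using TensorProduct.induction_on with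
      | zero => simp
      | tmul t b => rw [Algebra.TensorProduct.tmul_mul_tmul, hΦ, hΦ, hΦ, mul_pow, map_mul, Algebra.TensorProduct.tmul_mul_tmul]
      | add y z hy hz => simp only [mul_add, map_add, hy, hz]
    | add x z hx hz => simp only [add_mul, map_add, hx, hz]

open scoped TensorProduct in
theorem ker_eq_bot (p : ℕ) [Fact p.Prime] (k : Type) [Field k] [CharP k p]
    (F : PolLaw.MulLaw k (FrobAlg.Twist p k) k p)
    (hF : ∀ (S : Type) [CommSemiring S] [Algebra k S] (s : S) (a : FrobAlg.Twist p k),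
        F.law.toFun' S (s ⊗ₜ[k] a) = (s ^ p) ⊗ₜ[k] (FrobAlg.toTwist p k).symm a) :
    PolLaw.ker F.law = ⊥ := by
  rw [eq_bot_iff]
  intro b hb
  have h := hb k ((0 : k) ⊗ₜ[k] (0 : FrobAlg.Twist p k)) 1
  rw [TensorProduct.zero_tmul, one_mul, zero_add, hF, one_pow] at h
  have h2 := hF k 0 0
  rw [TensorProduct.zero_tmul, zero_pow (Fact.out : p.Prime).ne_zero, TensorProduct.zero_tmul] at h2
  rw [h2] at h
  have h3 := congrArg (Algebra.TensorProduct.lid k k) h
  rw [map_zero, Algebra.TensorProduct.lid_tmul, one_smul, EmbeddingLike.map_eq_zero_iff] at h3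
  exact h3

theorem linearIndependent_X (p : ℕ) [Fact p.Prime] [CharP (FractionRing (MvPolynomial ℕ (ZMod p))) p] :
    LinearIndependent (FractionRing (MvPolynomial ℕ (ZMod p))) (fun i : ℕ =>
      FrobAlg.toTwist p (FractionRing (MvPolynomial ℕ (ZMod p))) (algebraMap (MvPolynomial ℕ (ZMod p)) _ (MvPolynomial.X i))) := by
  classical
  have hp : p.Prime := Fact.out
  rw [linearIndependent_iff']
  intro s c hc j hj
  obtain ⟨d, hd⟩ := IsLocalization.exist_integer_multiples (nonZeroDivisors (MvPolynomial ℕ (ZMod p))) s c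
  choose! f hf using hd
  have h1 : ∑ i ∈ s, f i ^ p * MvPolynomial.X i = 0 := by
    apply IsFractionRing.injective (MvPolynomial ℕ (ZMod p)) (FractionRing (MvPolynomial ℕ (ZMod p)))
    rw [map_sum, map_zero]
    have h2 : ∑ i ∈ s, (c i) ^ p * algebraMap (MvPolynomial ℕ (ZMod p)) (FractionRing (MvPolynomial ℕ (ZMod p))) (MvPolynomial.X i) = 0 := by
      have h3 := congrArg (FrobAlg.toTwist p (FractionRing (MvPolynomial ℕ (ZMod p)))).symm hc
      rw [map_sum, map_zero] at h3
      refine Eq.trans (Finset.sum_congr rfl fun i _ => ?_) h3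
      rw [Algebra.smul_def, FrobAlg.algebraMap_twist, map_mul, RingEquiv.symm_apply_apply, RingEquiv.symm_apply_apply]
    have h6 := congrArg (fun z => algebraMap (MvPolynomial ℕ (ZMod p)) (FractionRing (MvPolynomial ℕ (ZMod p))) (↑d : MvPolynomial ℕ (ZMod p)) ^ p * z) h2
    simp only [Finset.mul_sum, mul_zero] at h6
    refine Eq.trans (Finset.sum_congr rfl fun i hi => ?_) h6
    rw [map_mul, map_pow, hf i hi, Algebra.smul_def, mul_pow, mul_assoc]
  have h4 := congrArg (MvPolynomial.pderiv j) h1
  rw [map_sum, map_zero, Finset.sum_eq_single j] at h4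
  · rw [Derivation.leibniz, Derivation.leibniz_pow, MvPolynomial.pderiv_X_self, smul_eq_mul, smul_eq_mul, mul_one,
      ← Nat.cast_smul_eq_nsmul (MvPolynomial ℕ (ZMod p)), CharP.cast_eq_zero, zero_smul, mul_zero, add_zero] at h4
    have h5 := hf j hj
    rw [eq_zero_of_pow_eq_zero h4, map_zero, Algebra.smul_def] at h5
    exact (mul_eq_zero.1 h5.symm).resolve_left (IsFractionRing.to_map_ne_zero_of_mem_nonZeroDivisors d.2)
  · intro i _ hij
    rw [Derivation.leibniz, Derivation.leibniz_pow, MvPolynomial.pderiv_X_of_ne hij,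
      ← Nat.cast_smul_eq_nsmul (MvPolynomial ℕ (ZMod p)), CharP.cast_eq_zero, zero_smul]
    simp
  · exact fun h => absurd hj h

/-- Let p be a prime, k = F_p(t_0, t_1, …) the field of rational functions over F_p in countably many
variables, and K = k^{1/p} = F_p(t_0^{1/p}, t_1^{1/p}, …), modelled here as a copy of k made into a
k-algebra through the Frobenius b ↦ b ^ p (under a ↦ a ^ p the extension k ⊆ k^{1/p} becomes this
algebra). Then a ↦ a ^ p is a multiplicative polynomial law from K to k over k, homogeneous of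
degree p: there is such a law sending s ⊗ a to s ^ p ⊗ a ^ p on every test algebra S, where a ^ p is
read in k. Every such law has zero kernel, so the support of the corresponding family of zero-cycles
of degree p on Spec K over Spec k is all of Spec K; and K is not finite over k. Thus the support of
a family of zero-cycles need not be finite over the base. -/
theorem result (p : ℕ) [Fact p.Prime] :
    (∃ F : PolLaw.MulLaw (FractionRing (MvPolynomial ℕ (ZMod p))) (FrobAlg.Twist p (FractionRing (MvPolynomial ℕ (ZMod p)))) (FractionRing (MvPolynomial ℕ (ZMod p))) p,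
      ∀ (S : Type) [CommSemiring S] [Algebra (FractionRing (MvPolynomial ℕ (ZMod p))) S] (s : S) (a : FrobAlg.Twist p (FractionRing (MvPolynomial ℕ (ZMod p)))),
        F.law.toFun' S (s ⊗ₜ[FractionRing (MvPolynomial ℕ (ZMod p))] a) =
          (s ^ p) ⊗ₜ[FractionRing (MvPolynomial ℕ (ZMod p))] (FrobAlg.toTwist p (FractionRing (MvPolynomial ℕ (ZMod p)))).symm a) ∧
    (∀ F : PolLaw.MulLaw (FractionRing (MvPolynomial ℕ (ZMod p))) (FrobAlg.Twist p (FractionRing (MvPolynomial ℕ (ZMod p)))) (FractionRing (MvPolynomial ℕ (ZMod p))) p,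
      (∀ (S : Type) [CommSemiring S] [Algebra (FractionRing (MvPolynomial ℕ (ZMod p))) S] (s : S) (a : FrobAlg.Twist p (FractionRing (MvPolynomial ℕ (ZMod p)))),
        F.law.toFun' S (s ⊗ₜ[FractionRing (MvPolynomial ℕ (ZMod p))] a) =
          (s ^ p) ⊗ₜ[FractionRing (MvPolynomial ℕ (ZMod p))] (FrobAlg.toTwist p (FractionRing (MvPolynomial ℕ (ZMod p)))).symm a) →
      PolLaw.ker F.law = ⊥) ∧
    ¬ Module.Finite (FractionRing (MvPolynomial ℕ (ZMod p))) (FrobAlg.Twist p (FractionRing (MvPolynomial ℕ (ZMod p)))) := by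
  classical
  haveI : CharP (MvPolynomial ℕ (ZMod p)) p := inferInstance
  haveI : CharP (FractionRing (MvPolynomial ℕ (ZMod p))) p :=
    charP_of_injective_algebraMap (IsFractionRing.injective (MvPolynomial ℕ (ZMod p)) _) p
  have hp : p.Prime := Fact.out
  refine ⟨exists_law p (FractionRing (MvPolynomial ℕ (ZMod p))), fun F hF => ker_eq_bot p _ F hF, ?_⟩
  intro hfin
  exact absurd (linearIndependent_X p).finite (by simpa using not_finite_iff_infinite.2 (inferInstance : Infinite ℕ))

end Groth.Agent.S19489
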