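import Groth.Statements.S19500
import Groth.Agent.CubicPts.Curve

set_option autoImplicit false
universe u
open Cubic

namespace Groth.Agent.S19500

/-- Let K be an algebraically closed field of characteristic zero and S = V(F) ⊂ P^3_K a cubic surface
(F homogeneous of degree 3) which is irreducible and not a cone (no nonzero vector v has Σ_i v_i
∂F/∂x_i = 0). For a nonzero vector b with F(b) = 0 write ℓ_b = Σ_i ∂F/∂x_i(b) · x_i for the linear
form of the tangent plane at b; call b a T-point when b is a smooth point of S (some ∂F/∂x_i(b) ≠ 0)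
and F is congruent modulo ℓ_b to a product of three linear forms (the plane cubic T_b S ∩ S is
set-theoretically a union of lines). Let a be a smooth point of S which is not a T-point and H ⊂ K^4
the hyperplane ℓ_a = 0 (the tangent plane T_a S). Then T_a S contains only finitely many T-points of
S: the set of one-dimensional subspaces U ≤ H all of whose nonzero vectors are T-points is finite. -/
theorem result (K : Type u) [Field K] [IsAlgClosed K]
    [CharZero K] (F : MvPolynomial (Fin 4) K) (hF : F.IsHomogeneous 3) (hirr : Irreducible F)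
    (hcone : ¬ ∃ v : Fin 4 → K, v ≠ 0 ∧ ∑ i : Fin 4, v i • MvPolynomial.pderiv i F = 0)
    (tp : (Fin 4 → K) → Prop)
    (htp : ∀ b : Fin 4 → K, tp b ↔ (b ≠ 0 ∧ MvPolynomial.eval b F = 0 ∧
      (∃ i : Fin 4, MvPolynomial.eval b (MvPolynomial.pderiv i F) ≠ 0) ∧
      ∃ L₁ L₂ L₃ : MvPolynomial (Fin 4) K, L₁.IsHomogeneous 1 ∧ L₂.IsHomogeneous 1 ∧ L₃.IsHomogeneous 1 ∧
        F - L₁ * L₂ * L₃ ∈ Ideal.span {∑ i : Fin 4,
          MvPolynomial.C (MvPolynomial.eval b (MvPolynomial.pderiv i F)) * MvPolynomial.X i}))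
    (a : Fin 4 → K) (haF : MvPolynomial.eval a F = 0)
    (hsm : ∃ i : Fin 4, MvPolynomial.eval a (MvPolynomial.pderiv i F) ≠ 0) (ha : ¬ tp a)
    (H : Submodule K (Fin 4 → K))
    (hH : ∀ x : Fin 4 → K, x ∈ H ↔ MvPolynomial.eval x (∑ i : Fin 4,
      MvPolynomial.C (MvPolynomial.eval a (MvPolynomial.pderiv i F)) * MvPolynomial.X i) = 0) :
    Set.Finite {U : Submodule K (Fin 4 → K) | Module.finrank K ↥U = 1 ∧ U ≤ H ∧
      ∀ b ∈ U, b ≠ 0 → tp b} := by
  classical
  have hne : a ≠ 0 := by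
    rintro rfl
    obtain ⟨i, hi⟩ := hsm
    refine hi ?_
    rw [MvPolynomial.eval_zero, MvPolynomial.constantCoeff_eq]
    exact (hF.pderiv (i := i)).coeff_eq_zero (d := 0) (by simp)
  have hT : ¬ CubicPts.TP F a := fun h => ha ((htp a).2 ⟨hne, haF, hsm, h⟩)
  obtain ⟨fr, hfr⟩ := CubicPts.exists_frame F hF hne (by rw [MvPolynomial.aeval_eq_eval]; exact haF)
    (by simpa [MvPolynomial.aeval_eq_eval] using hsm) (K := K)
    (by simpa [Algebra.algebraMap_self, MvPolynomial.map_id] using hT)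
  refine (CubicPts.finite_TP_tangent hF fr).subset ?_
  rintro U ⟨h1, hUH, hU⟩
  obtain ⟨p, hp, hspan⟩ := finrank_eq_one_iff'.1 h1
  have hp0 : (p : Fin 4 → K) ≠ 0 := fun h => hp (Subtype.ext h)
  have hUe : U = Submodule.span K {(p : Fin 4 → K)} := by
    refine le_antisymm (fun x hx => ?_) (by rw [Submodule.span_singleton_le_iff_mem]; exact p.2)
    obtain ⟨c, hc⟩ := hspan ⟨x, hx⟩
    exact Submodule.mem_span_singleton.2 ⟨c, congrArg Subtype.val hc⟩
  have ht := (htp _).1 (hU p p.2 hp0)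
  refine ⟨p, hp0, hUe, ht.2.1, ?_, ?_, ht.2.2.2, fun c hc => ?_⟩
  · have := (hH _).1 (hUH p.2)
    rw [hfr]
    simpa [CubicPts.Dv, MvPolynomial.aeval_eq_eval, mul_comm] using this
  · intro hm
    rw [hfr] at hm
    obtain ⟨c, hc⟩ := Submodule.mem_span_singleton.1 hm
    have hc0 : c ≠ 0 := fun h => hp0 (by rw [← hc, h, zero_smul])
    have haU : a ∈ U := by
      have := U.smul_mem c⁻¹ p.2
      rwa [← hc, smul_smul, inv_mul_cancel₀ hc0, one_smul] at this
    exact ha (hU a haU hne)
  · exact ((htp _).1 (hU _ (U.smul_mem c p.2) (smul_ne_zero hc hp0))).2.2.2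

end Groth.Agent.S19500
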