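import Groth.Statements.S19502
import Mathlib

set_option autoImplicit false
universe u
open W4c3ghconstell

namespace Groth.Agent.S19502

/-- Let ι index the irreducible representations, θ : ι → ℚ a weight which is negative exactly on the
finite set D₋, h h' : ι → ℕ with h' ≤ h pointwise (the isotypic dimensions of an object and of a
sub-object) and Σ_i θ_i h_i summable. For a finite set D of indices put S_D = Σ_{i ∉ D} θ_i h_i, d =
#(D ∖ D₋) and θ̃_D = Σ_{i ∈ D} θ_i h'_i + (S_D / d) · Σ_{i ∈ D ∖ D₋} h'_i / h_i, the modified weight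
attached to the parameters chosen for D (a quotient by zero is read as zero). Then for finite sets
D₋ ⊆ D ⊆ D̃ contained in the locus θ ≠ 0: (first error term) θ̃_{D̃} − θ̃_D = Σ_{τ ∈ D̃ ∖ D} (θ_τ
h_τ + S_{D̃}/d̃) · (h'_τ/h_τ − (1/d) Σ_{σ ∈ D ∖ D₋} h'_σ/h_σ); (second error term) Σ_i θ_i h'_i −
θ̃_D = Σ_{τ ∉ D} θ_τ h_τ · (h'_τ/h_τ − (1/d) Σ_{σ ∈ D ∖ D₋} h'_σ/h_σ). -/
theorem result {ι : Type u} [DecidableEq ι]
    (θ : ι → ℚ) (h h' : ι → ℕ) (hle : ∀ i, h' i ≤ h i) (hfin : {i | θ i < 0}.Finite)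
    (hsum : Summable (fun i => (θ i : ℝ) * (h i : ℝ))) (D D' : Finset ι)
    (hDm : hfin.toFinset ⊆ D) (hDD' : D ⊆ D') (hsupp : ∀ i ∈ D', θ i ≠ 0) :
    (((∑ i ∈ D', (θ i : ℝ) * (h' i : ℝ)) + ((∑' i, if i ∈ D' then (0 : ℝ) else (θ i : ℝ) * (h i : ℝ)) / ((D' \ hfin.toFinset).card : ℝ)) * (∑ σ ∈ D' \ hfin.toFinset, ((h' σ : ℝ) / (h σ : ℝ)))) - ((∑ i ∈ D, (θ i : ℝ) * (h' i : ℝ)) + ((∑' i, if i ∈ D then (0 : ℝ) else (θ i : ℝ) * (h i : ℝ)) / ((D \ hfin.toFinset).card : ℝ)) * (∑ σ ∈ D \ hfin.toFinset, ((h' σ : ℝ) / (h σ : ℝ)))) =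
      ∑ τ ∈ D' \ D, ((θ τ : ℝ) * (h τ : ℝ) + (∑' i, if i ∈ D' then (0 : ℝ) else (θ i : ℝ) * (h i : ℝ)) / ((D' \ hfin.toFinset).card : ℝ)) *
        (((h' τ : ℝ) / (h τ : ℝ)) - (1 / ((D \ hfin.toFinset).card : ℝ)) * (∑ σ ∈ D \ hfin.toFinset, ((h' σ : ℝ) / (h σ : ℝ))))) ∧
    ((∑' i, (θ i : ℝ) * (h' i : ℝ)) - ((∑ i ∈ D, (θ i : ℝ) * (h' i : ℝ)) + ((∑' i, if i ∈ D then (0 : ℝ) else (θ i : ℝ) * (h i : ℝ)) / ((D \ hfin.toFinset).card : ℝ)) * (∑ σ ∈ D \ hfin.toFinset, ((h' σ : ℝ) / (h σ : ℝ)))) =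
      ∑' τ, if τ ∈ D then (0 : ℝ) else (θ τ : ℝ) * (h τ : ℝ) *
        (((h' τ : ℝ) / (h τ : ℝ)) - (1 / ((D \ hfin.toFinset).card : ℝ)) * (∑ σ ∈ D \ hfin.toFinset, ((h' σ : ℝ) / (h σ : ℝ))))) := by
  have hs' : Summable (fun i => (θ i : ℝ) * (h' i : ℝ)) :=
    Summable.of_norm_bounded hsum.abs (fun i => by
      rw [Real.norm_eq_abs, abs_mul, abs_mul]
      exact mul_le_mul_of_nonneg_left (by simp only [Nat.abs_cast]; exact_mod_cast hle i) (abs_nonneg _))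
  have hr : ∀ i, (θ i : ℝ) * (h i : ℝ) * ((h' i : ℝ) / (h i : ℝ)) = (θ i : ℝ) * (h' i : ℝ) := by
    intro i
    by_cases hi : h i = 0
    · have : h' i = 0 := by have := hle i; omega
      simp [hi, this]
    · field_simp [Nat.cast_ne_zero.mpr hi]
  have hsplit : ∀ (F : Finset ι) (f : ι → ℝ), Summable f →
      Summable (fun i => if i ∈ F then (0 : ℝ) else f i) ∧
      (∑' i, if i ∈ F then (0 : ℝ) else f i) = (∑' i, f i) - ∑ i ∈ F, f i := by
    intro F f hf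
    have h1 : Summable (fun i => if i ∈ F then f i else 0) :=
      summable_of_ne_finset_zero (s := F) (fun i hi => if_neg hi)
    have h2 : (fun i => if i ∈ F then (0 : ℝ) else f i) = fun i => f i - if i ∈ F then f i else 0 := by
      funext i; split_ifs <;> simp
    refine ⟨h2 ▸ hf.sub h1, ?_⟩
    rw [h2, Summable.tsum_sub hf h1, tsum_eq_sum (s := F) (f := fun i => if i ∈ F then f i else 0) (fun i hi => if_neg hi),
      Finset.sum_congr rfl (fun i hi => if_pos hi)]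
  set N := hfin.toFinset with hN
  constructor
  · rw [(hsplit D' _ hsum).2, (hsplit D _ hsum).2]
    have hu : D' \ N = (D \ N) ∪ (D' \ D) := by
      ext i
      simp only [Finset.mem_sdiff, Finset.mem_union]
      refine ⟨fun hi => ?_, ?_⟩
      · by_cases hiD : i ∈ D
        · exact Or.inl ⟨hiD, hi.2⟩
        · exact Or.inr ⟨hi.1, hiD⟩
      · rintro (hi | hi)
        · exact ⟨hDD' hi.1, hi.2⟩
        · exact ⟨hi.1, fun hiN => hi.2 (hDm hiN)⟩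
    have hdisj : Disjoint (D \ N) (D' \ D) := Finset.disjoint_left.mpr (fun i hi hi' =>
      (Finset.mem_sdiff.mp hi').2 (Finset.mem_sdiff.mp hi).1)
    rw [hu, Finset.sum_union hdisj, Finset.card_union_of_disjoint hdisj, Nat.cast_add,
      ← Finset.sum_sdiff hDD' (f := fun i => (θ i : ℝ) * (h' i : ℝ)),
      ← Finset.sum_sdiff hDD' (f := fun i => (θ i : ℝ) * (h i : ℝ))]
    set T := ∑' i, (θ i : ℝ) * (h i : ℝ)
    set a := ∑ i ∈ D, (θ i : ℝ) * (h i : ℝ)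
    set b := ∑ i ∈ D' \ D, (θ i : ℝ) * (h i : ℝ) with hb
    set d : ℝ := ((D \ N).card : ℝ) with hd
    set e : ℝ := ((D' \ D).card : ℝ) with he
    set H := ∑ σ ∈ D \ N, ((h' σ : ℝ) / (h σ : ℝ)) with hH
    set R := ∑ σ ∈ D' \ D, ((h' σ : ℝ) / (h σ : ℝ)) with hR
    set c := (T - (b + a)) / (d + e) with hc
    have expand : (∑ τ ∈ D' \ D, ((θ τ : ℝ) * (h τ : ℝ) + c) * (((h' τ : ℝ) / (h τ : ℝ)) - 1 / d * H)) =
        (∑ τ ∈ D' \ D, (θ τ : ℝ) * (h' τ : ℝ)) - b * (1 / d * H) + c * R - e * (c * (1 / d * H)) := by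
      simp only [add_mul, mul_sub, hr, Finset.sum_add_distrib, Finset.sum_sub_distrib, Finset.sum_const,
        nsmul_eq_mul, ← Finset.mul_sum, ← Finset.sum_mul, hb, hR, he]
      ring
    rw [expand]
    by_cases hd0 : d = 0
    · have : H = 0 := by
        rw [hd, Nat.cast_eq_zero, Finset.card_eq_zero] at hd0
        rw [hH, hd0, Finset.sum_empty]
      rw [this]; ring
    · have h0 : 0 ≤ d := Nat.cast_nonneg _
      have h1 : 0 ≤ e := Nat.cast_nonneg _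
      have hde : d + e ≠ 0 := ne_of_gt (add_pos_of_pos_of_nonneg (lt_of_le_of_ne h0 (Ne.symm hd0)) h1)
      rw [hc]
      field_simp
      ring
  · set K := (1 / ((D \ N).card : ℝ)) * (∑ σ ∈ D \ N, ((h' σ : ℝ) / (h σ : ℝ))) with hK
    have h1 : (fun τ => if τ ∈ D then (0 : ℝ) else (θ τ : ℝ) * (h τ : ℝ) * (((h' τ : ℝ) / (h τ : ℝ)) - K)) =
        fun τ => (if τ ∈ D then (0 : ℝ) else (θ τ : ℝ) * (h' τ : ℝ)) -
          (if τ ∈ D then (0 : ℝ) else (θ τ : ℝ) * (h τ : ℝ)) * K := by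
      funext τ
      split_ifs
      · simp
      · rw [mul_sub, hr]
    rw [h1, Summable.tsum_sub (hsplit D _ hs').1 ((hsplit D _ hsum).1.mul_right K), tsum_mul_right,
      (hsplit D _ hs').2, hK]
    ring

end Groth.Agent.S19502
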