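import Groth.Statements.S19509
import Groth.Agent.PowEtale.Basic

set_option autoImplicit false
set_option backward.isDefEq.respectTransparency.types false
universe u
open CategoryTheory MonoidalCategory CartesianMonoidalCategory MonObj GrpObj AlgebraicGeometry
open Neron

open MonObj
namespace Groth.Agent.S19509

theorem ext_rational {R k : Type u} [CommRing R] [Field k] (π : R →+* k) (hπ : Function.Surjective π)
    {Z : Scheme.{u}} (pr : Z ⟶ Spec (CommRingCat.of R)) (f g : Spec (CommRingCat.of k) ⟶ Z)
    (hf : f ≫ pr = Spec.map (CommRingCat.ofHom π)) (hg : g ≫ pr = Spec.map (CommRingCat.ofHom π))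
    (h : f (IsLocalRing.closedPoint k) = g (IsLocalRing.closedPoint k)) : f = g := by
  obtain ⟨⟨p, φ⟩, rfl⟩ := (Scheme.SpecToEquivOfField k Z).symm.surjective f
  obtain ⟨⟨q, ψ⟩, rfl⟩ := (Scheme.SpecToEquivOfField k Z).symm.surjective g
  change Spec.map φ ≫ Z.fromSpecResidueField p = Spec.map ψ ≫ Z.fromSpecResidueField q
  change (Spec.map φ ≫ Z.fromSpecResidueField p) _ = (Spec.map ψ ≫ Z.fromSpecResidueField q) _ at h
  simp only [Scheme.Hom.comp_apply, Scheme.fromSpecResidueField_apply] at h
  subst h
  change (Spec.map φ ≫ Z.fromSpecResidueField p) ≫ pr = _ at hf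
  change (Spec.map ψ ≫ Z.fromSpecResidueField p) ≫ pr = _ at hg
  obtain ⟨θ, hθ⟩ : ∃ θ, Spec.map θ = Z.fromSpecResidueField p ≫ pr := ⟨Spec.preimage _, Spec.map_preimage _⟩
  rw [Category.assoc, ← hθ, ← Spec.map_comp] at hf hg
  have e1 := Spec.map_injective hf
  have e2 := Spec.map_injective hg
  congr 2
  ext x
  obtain ⟨r, hr⟩ := hπ (φ x)
  have h1 : φ (θ r) = φ x := (congrArg (fun m => m r) e1).trans hr
  have h2 : θ r = x := RingHom.injective φ.hom h1
  rw [← h2]
  exact (congrArg (fun m => m r) e1).trans (congrArg (fun m => m r) e2).symm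


/-- Let R be a complete discrete valuation ring whose fraction field K has characteristic zero and whose
residue field k has characteristic p > 0, and let N be a commutative R-group scheme which is a Néron
model of its generic fibre, an abelian variety over K. Then the torsion of order prime to p of N(R)
= A(K) injects into the special fibre under reduction: a section x with x^n = 1, n ≥ 1 prime to p,
whose value at the closed point of Spec R is the identity point of the special fibre, is the unit
section. -/
theorem result (R : Type u) [CommRing R] [IsDomain R]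
    [IsDiscreteValuationRing R] [IsAdicComplete (IsLocalRing.maximalIdeal R) R] (K : Type u) [Field K] [Algebra R K]
    [IsFractionRing R K] [CharZero K] (p : ℕ) [Fact p.Prime] [CharP (IsLocalRing.ResidueField R) p]
    (N : Over (Spec (CommRingCat.of R))) [GrpObj N] [IsCommMonObj N] (hN : SGA7.IsNeron R K N)
    [IsProper ((SGA7.genFib R K).obj N).hom] [GeometricallyIntegral ((SGA7.genFib R K).obj N).hom]
    (x : 𝟙_ (Over (Spec (CommRingCat.of R))) ⟶ N) (n : ℕ) (hn : 0 < n) (hx : x ^ n = 1)
    (hred : x.left.base (IsLocalRing.closedPoint R) = (η[N]).left.base (IsLocalRing.closedPoint R))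
    (hnp : Nat.Coprime n p) : x = 1 := by
  haveI : Smooth N.hom := hN.1
  have hne : (n : IsLocalRing.ResidueField R) ≠ 0 := by
    rw [Ne, CharP.cast_eq_zero_iff (IsLocalRing.ResidueField R) p]
    intro hd
    exact (Fact.out : p.Prime).one_lt.ne' (Nat.dvd_one.1 (hnp ▸ Nat.dvd_gcd hd dvd_rfl))
  haveI : Etale ((𝟙 N : N ⟶ N) ^ n).left :=
    Groth.Agent.PowEtale.etale_pow N n (Groth.Agent.PowEtale.natCast_residueField_ne_zero n hne)
  let i : Spec (CommRingCat.of (IsLocalRing.ResidueField R)) ⟶ Spec (CommRingCat.of R) :=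
    Spec.map (CommRingCat.ofHom (IsLocalRing.residue R))
  have hi : i (IsLocalRing.closedPoint (IsLocalRing.ResidueField R)) = IsLocalRing.closedPoint R :=
    IsLocalRing.comap_closedPoint (IsLocalRing.residue R)
  have hη : η[N].left ≫ N.hom = 𝟙 _ := Over.w η[N]
  have hxw : x.left ≫ N.hom = 𝟙 _ := Over.w x
  have h1 : (1 : 𝟙_ (Over (Spec (CommRingCat.of R))) ⟶ N).left = η[N].left := by
    rw [Hom.one_def]
    simp
  refine Over.OverMorphism.ext (Groth.Agent.PowEtale.eq_of_formallyUnramified (A := CommRingCat.of R)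
    ((𝟙 N : N ⟶ N) ^ n).left i ⟨_, hi⟩ x.left (1 : 𝟙_ (Over (Spec (CommRingCat.of R))) ⟶ N).left ?_ ?_)
  · rw [← Over.comp_left, ← Over.comp_left, MonObj.comp_pow, MonObj.comp_pow, Category.comp_id, Category.comp_id,
      hx, one_pow]
  · rw [h1]
    refine ext_rational (IsLocalRing.residue R) IsLocalRing.residue_surjective N.hom _ _
      ?_ ?_ ?_
    · rw [Category.assoc, hxw]; exact Category.comp_id i
    · rw [Category.assoc, hη]; exact Category.comp_id i
    · rw [Scheme.Hom.comp_apply, Scheme.Hom.comp_apply, hi]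
      exact hred

end Groth.Agent.S19509
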