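import Groth.Statements.S19522
import Groth.Agent.Comod.Basic

set_option autoImplicit false
universe u
open TensorProduct
open GLin

namespace Groth.Agent.S19522

/-- Let k be a field, A a commutative k-bialgebra coacting multiplicatively on a commutative k-algebra
R, and χ ∈ A a group-like element with an inverse χ' (χχ' = 1). Suppose the polynomial ring R[t]
carries a multiplicative coaction which restricts to the given one on constants and sends t to t ⊗
χ'. Then g ∈ R[t] is coinvariant if and only if, for every r, its r-th coefficient has coaction g_r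
↦ g_r ⊗ χ^r; that is, the ring of invariants of R[t] is the sum over r ≥ 0 of the weight-χ^r
semi-invariants of R times t^r. (The published statement is phrased for an affine variety with an
action of a linear algebraic group over an algebraically closed field of characteristic zero and
identifies the invariants of X × A¹ with the graded ring of invariant sections of the powers of the
linearised trivial bundle; this is its coordinate-ring content, valid over any field.) -/
theorem result (k : Type u) [Field k]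
    (A : Type u) [CommRing A] [Bialgebra k A]
    (R : Type u) [CommRing R] [Algebra k R] [HopfRep.Comod k A R] [GLin.IsCoactAlg k A R]
    [HopfRep.Comod k A (Polynomial R)] [GLin.IsCoactAlg k A (Polynomial R)]
    (χ χ' : A) (hχ : CoalgebraStruct.comul (R := k) (A := A) χ = χ ⊗ₜ[k] χ)
    (hχε : CoalgebraStruct.counit (R := k) (A := A) χ = 1) (hχχ' : χ * χ' = 1)
    (hC : ∀ r : R, HopfRep.Comod.coact (k := k) (A := A) (Polynomial.C r) =
      Algebra.TensorProduct.map (Polynomial.CAlgHom : R →ₐ[k] Polynomial R) (AlgHom.id k A)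
        (HopfRep.Comod.coact (k := k) (A := A) r))
    (hX : HopfRep.Comod.coact (k := k) (A := A) (Polynomial.X : Polynomial R) = Polynomial.X ⊗ₜ[k] χ')
    (g : Polynomial R) :
    g ∈ GLin.invariants k A (Polynomial R) ↔
      ∀ r : ℕ, g.coeff r ∈ HopfRep.eigenspace k A R (χ ^ r) := by
  classical
  let ρ := GLin.coactAlgHom k A (Polynomial R)
  let ρR := GLin.coactAlgHom k A R
  let ι : R →ₐ[k] Polynomial R := Polynomial.CAlgHom
  have hρX : ∀ n : ℕ, ρ (Polynomial.X ^ n) = (Polynomial.X ^ n) ⊗ₜ[k] (χ' ^ n) := fun n => by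
    rw [map_pow, GLin.coactAlgHom_apply, hX, Algebra.TensorProduct.tmul_pow]
  let L : ℕ → (Polynomial R ⊗[k] A →ₗ[k] R ⊗[k] A) := fun n =>
    ((Polynomial.lcoeff R n).restrictScalars k).rTensor A
  have hL : ∀ (n m : ℕ) (w : R ⊗[k] A), L n ((Algebra.TensorProduct.map ι (AlgHom.id k A) w) *
      ((Polynomial.X ^ m : Polynomial R) ⊗ₜ[k] (χ' ^ m))) =
        if n = m then w * ((1 : R) ⊗ₜ[k] (χ' ^ m)) else 0 := by
    intro n m w
    induction w with
    | zero => simp
    | add u v hu hv => simp only [map_add, add_mul, hu, hv]; split_ifs <;> simp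
    | tmul r a =>
      simp only [Algebra.TensorProduct.map_tmul, AlgHom.id_apply, Algebra.TensorProduct.tmul_mul_tmul, L, ι,
        LinearMap.rTensor_tmul, LinearMap.coe_restrictScalars, Polynomial.lcoeff_apply, Polynomial.CAlgHom_apply,
        Polynomial.coeff_C_mul_X_pow, mul_one]
      split_ifs <;> simp
  have hρg : ρ g = ∑ m ∈ g.support, (Algebra.TensorProduct.map ι (AlgHom.id k A) (ρR (g.coeff m))) *
      ((Polynomial.X ^ m : Polynomial R) ⊗ₜ[k] (χ' ^ m)) := by
    conv_lhs => rw [g.as_sum_support_C_mul_X_pow, map_sum]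
    refine Finset.sum_congr rfl fun m _ => ?_
    rw [map_mul, hρX, GLin.coactAlgHom_apply, hC]
    rfl
  have hcoef : ∀ n, L n (ρ g) = ρR (g.coeff n) * ((1 : R) ⊗ₜ[k] (χ' ^ n)) := by
    intro n
    rw [hρg, map_sum]
    simp only [hL, Finset.sum_ite_eq, Polynomial.mem_support_iff]
    split_ifs with h
    · rfl
    · rw [not_not.1 h, map_zero, zero_mul]
  have hinv : ∀ n, ((1 : R) ⊗ₜ[k] (χ' ^ n)) * ((1 : R) ⊗ₜ[k] (χ ^ n)) = 1 := fun n => by
    rw [Algebra.TensorProduct.tmul_mul_tmul, one_mul, ← mul_pow, mul_comm, hχχ', one_pow, Algebra.TensorProduct.one_def]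
  rw [GLin.mem_invariants_iff]
  constructor
  · intro h n
    show HopfRep.Comod.coact (k := k) (A := A) (g.coeff n) = g.coeff n ⊗ₜ[k] (χ ^ n)
    have h1 := hcoef n
    rw [GLin.coactAlgHom_apply, h] at h1
    calc HopfRep.Comod.coact (k := k) (A := A) (g.coeff n)
        = ρR (g.coeff n) * (((1 : R) ⊗ₜ[k] (χ' ^ n)) * ((1 : R) ⊗ₜ[k] (χ ^ n))) := by rw [hinv, mul_one]; rfl
      _ = (g.coeff n ⊗ₜ[k] (1 : A)) * ((1 : R) ⊗ₜ[k] (χ ^ n)) := by
          rw [← mul_assoc, ← h1]; simp [L]
      _ = g.coeff n ⊗ₜ[k] (χ ^ n) := by rw [Algebra.TensorProduct.tmul_mul_tmul, mul_one, one_mul]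
  · intro h
    rw [← GLin.coactAlgHom_apply, hρg]
    conv_rhs => rw [g.as_sum_support_C_mul_X_pow, TensorProduct.sum_tmul]
    refine Finset.sum_congr rfl fun m _ => ?_
    rw [GLin.coactAlgHom_apply, show HopfRep.Comod.coact (k := k) (A := A) (g.coeff m) = g.coeff m ⊗ₜ[k] (χ ^ m) from h m,
      Algebra.TensorProduct.map_tmul, Algebra.TensorProduct.tmul_mul_tmul, AlgHom.id_apply, ← mul_pow, hχχ', one_pow]
    rfl

end Groth.Agent.S19522
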