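-- statement TFCurv.GrothFrozen.S19532 (Groth/Statements/S19532.lean; the theorem TFCurv.length_ext_one_rankOne_modules_A_odd);
import Groth.Statements.S19532
import Groth.Agent.TFCurvSG.ExtLen

set_option autoImplicit false
set_option maxHeartbeats 4000000
set_option synthInstance.maxHeartbeats 400000
universe u
open CategoryTheory
open TFCurv Groth.Agent

namespace Groth.Agent.S19532

/-- Let k be an algebraically closed field of characteristic zero, δ ≥ 1, and O ⊂ k[[t]] × k[[t]] the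
complete local ring of the simple plane curve singularity A_{2δ−1} (two smooth branches with contact
of order δ, y² = x^{2δ}), namely the k-subalgebra of all pairs (f, g) of power series with f − g
divisible by t^δ. For 0 ≤ j ≤ δ let I_j ⊂ k[[t]] × k[[t]] be the O-submodule generated by (t^j, t^j)
and (t^δ, 0), so that I_0 = O and I_δ is the conductor; the I_j represent the rank-one torsion-free
O-modules M_j. Then for all 0 ≤ i, j ≤ δ the O-module Ext¹_O(I_i, I_j) has length 2·min(i, j)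
(length over O equals k-dimension here). (The one-branch case n = 2δ of the published lemma is
stated separately.) -/
theorem result (k : Type u) [Field k] [IsAlgClosed k] [CharZero k] (δ : ℕ) (hδ : 1 ≤ δ) (O : Subalgebra k (PowerSeries k × PowerSeries k)) (hO : ∀ f : (PowerSeries k × PowerSeries k), f ∈ O ↔ (δ : ℕ∞) ≤ PowerSeries.order (f.1 - f.2)) (i j : ℕ) (hi : i ≤ δ) (hj : j ≤ δ) : Module.length ↥O (Abelian.Ext (ModuleCat.of ↥O ↥(Submodule.span ↥O ({((PowerSeries.X : PowerSeries k) ^ i, (PowerSeries.X : PowerSeries k) ^ i), ((PowerSeries.X : PowerSeries k) ^ δ, 0)} : Set (PowerSeries k × PowerSeries k)))) (ModuleCat.of ↥O ↥(Submodule.span ↥O ({((PowerSeries.X : PowerSeries k) ^ j, (PowerSeries.X : PowerSeries k) ^ j), ((PowerSeries.X : PowerSeries k) ^ δ, 0)} : Set (PowerSeries k × PowerSeries k)))) 1) = ((2 * min i j : ℕ) : ℕ∞) := by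
  classical
  let X : PowerSeries k := PowerSeries.X
  let co : ℕ → (PowerSeries k →ₗ[k] k) := fun m => PowerSeries.coeff m
  -- membership of divisibility flavour
  have hlt : ∀ (N : ℕ) (f : PowerSeries k), ((N : ℕ∞) ≤ PowerSeries.order f ↔ X ^ N ∣ f) := fun N f => by
    rw [PowerSeries.X_pow_dvd_iff]
    exact ⟨fun h m hm => PowerSeries.coeff_of_lt_order m (lt_of_lt_of_le (by exact_mod_cast hm) h),
      fun h => PowerSeries.nat_le_order f N h⟩
  have hOd : ∀ f, f ∈ O ↔ X ^ δ ∣ f.1 - f.2 := fun f => (hO f).trans (hlt δ _)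
  have hcf : ∀ (N : ℕ) (f : PowerSeries k), X ^ N ∣ f ↔ ∀ m, m < N → PowerSeries.coeff m f = 0 :=
    fun N f => PowerSeries.X_pow_dvd_iff
  let ε : ↥O →ₐ[k] k :=
    { toFun := fun a => PowerSeries.constantCoeff a.1.1
      map_one' := by simp
      map_mul' := fun a b => by simp
      map_zero' := by simp
      map_add' := fun a b => by simp
      commutes' := fun c => by simp [PowerSeries.algebraMap_apply] }
  have hloc : ∀ a : ↥O, ε a ≠ 0 → IsUnit a := by
    intro a ha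
    have h0 : PowerSeries.constantCoeff a.1.2 ≠ 0 := by
      have := (hcf δ _).1 ((hOd a.1).1 a.2) 0 (by omega)
      rw [map_sub, PowerSeries.coeff_zero_eq_constantCoeff_apply, PowerSeries.coeff_zero_eq_constantCoeff_apply, sub_eq_zero] at this
      exact fun h => ha (this.trans h)
    obtain ⟨p, hp⟩ := (PowerSeries.isUnit_iff_constantCoeff.2 (isUnit_iff_ne_zero.2 ha)).exists_right_inv
    obtain ⟨q, hq⟩ := (PowerSeries.isUnit_iff_constantCoeff.2 (isUnit_iff_ne_zero.2 h0)).exists_right_inv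
    have hpq : (p, q) ∈ O := (hOd _).2 (by
      have e : p - q = p * q * (a.1.2 - a.1.1) := by linear_combination (-p) * hq + q * hp
      show X ^ δ ∣ p - q
      rw [e, ← neg_sub a.1.1]
      exact dvd_mul_of_dvd_right ((dvd_neg).2 ((hOd a.1).1 a.2)) _)
    exact IsUnit.of_mul_eq_one ⟨(p, q), hpq⟩ (Subtype.ext (Prod.ext hp hq))
  have hsm : ∀ (a : ↥O) (f : PowerSeries k × PowerSeries k), a • f = (a.1.1 * f.1, a.1.2 * f.2) := fun a f => rfl
  have hmem : ∀ (l : ℕ), l ≤ δ → ∀ f : PowerSeries k × PowerSeries k,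
      (f ∈ Submodule.span ↥O ({(X ^ l, X ^ l), (X ^ δ, 0)} : Set (PowerSeries k × PowerSeries k)) ↔
        X ^ l ∣ f.2 ∧ X ^ δ ∣ f.1 - f.2) := by
    intro l hl f
    rw [Submodule.mem_span_pair]
    constructor
    · rintro ⟨a, b, rfl⟩
      simp only [hsm, Prod.fst_add, Prod.snd_add, mul_zero, add_zero]
      refine ⟨dvd_mul_left _ _, ?_⟩
      obtain ⟨r, hr⟩ := (hOd a.1).1 a.2
      exact ⟨r * X ^ l + b.1.1, by linear_combination (X ^ l) * hr⟩
    · rintro ⟨⟨q, hq⟩, ⟨r, hr⟩⟩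
      refine ⟨⟨(q, q), (hOd _).2 (by simp)⟩, ⟨(r, r), (hOd _).2 (by simp)⟩, ?_⟩
      simp only [hsm, Prod.ext_iff, Prod.fst_add, Prod.snd_add, mul_zero, add_zero]
      exact ⟨by linear_combination -hr - hq, by rw [hq]; ring⟩
  set M := Submodule.span ↥O ({(X ^ i, X ^ i), (X ^ δ, 0)} : Set (PowerSeries k × PowerSeries k)) with hM
  set N := Submodule.span ↥O ({(X ^ j, X ^ j), (X ^ δ, 0)} : Set (PowerSeries k × PowerSeries k)) with hN
  let π : (↥O × ↥O) →ₗ[↥O] ↥M :=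
    (LinearMap.toSpanSingleton ↥O ↥M ⟨(X ^ i, X ^ i), Submodule.subset_span (Set.mem_insert _ _)⟩).coprod
      (LinearMap.toSpanSingleton ↥O ↥M ⟨(X ^ δ, 0), Submodule.subset_span (Set.mem_insert_of_mem _ rfl)⟩)
  have hπv : ∀ x, (π x : PowerSeries k × PowerSeries k) =
      (x.1.1.1 * X ^ i + x.2.1.1 * X ^ δ, x.1.1.2 * X ^ i) := fun x => by
    simp [π, hsm]
  have hπ : Function.Surjective π := fun y => by
    obtain ⟨a, b, h⟩ := Submodule.mem_span_pair.1 y.2
    exact ⟨(a, b), Subtype.ext (by rw [hπv, ← h]; simp [hsm])⟩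
  have hXi : ∀ m : ℕ, (X : PowerSeries k) ^ m ≠ 0 := fun m => pow_ne_zero m PowerSeries.X_ne_zero
  let K := LinearMap.ker π
  have hK : ∀ x : ↥K, x.1.1.1.2 = 0 ∧ x.1.1.1.1 = -(x.1.2.1.1 * X ^ (δ - i)) := fun x => by
    have h := congrArg (fun z : ↥M => (z : PowerSeries k × PowerSeries k)) (show π x = 0 from x.2)
    simp only [hπv, ZeroMemClass.coe_zero, Prod.ext_iff, Prod.fst_zero, Prod.snd_zero] at h
    refine ⟨(mul_eq_zero.1 h.2).resolve_right (hXi i), mul_right_cancel₀ (hXi i) ?_⟩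
    rw [neg_mul, mul_assoc, ← pow_add, Nat.sub_add_cancel hi]
    linear_combination h.1
  have hKb : ∀ x : ↥K, X ^ i ∣ x.1.2.1.1 ∧ X ^ i ∣ x.1.2.1.2 := fun x => by
    have h1 := (hOd _).1 x.1.1.2
    rw [(hK x).1, sub_zero, (hK x).2, dvd_neg] at h1
    have h2 : X ^ i ∣ x.1.2.1.1 := by
      obtain ⟨r, hr⟩ := h1
      refine ⟨r, mul_right_cancel₀ (hXi (δ - i)) ?_⟩
      rw [hr, mul_right_comm, ← pow_add, Nat.add_sub_cancel' hi]
    refine ⟨h2, ?_⟩
    have h3 : X ^ i ∣ x.1.2.1.1 - x.1.2.1.2 := (pow_dvd_pow X hi).trans ((hOd _).1 x.1.2.2)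
    have := dvd_sub h2 h3
    rwa [sub_sub_cancel] at this
  have hmk : ∀ (b : ↥O) (h : X ^ i ∣ b.1.1), ∃ x : ↥K, x.1.2 = b := fun b ⟨r, hr⟩ => by
    refine ⟨⟨(⟨(-(b.1.1 * X ^ (δ - i)), 0), (hOd _).2 ?_⟩, b), Subtype.ext ?_⟩, rfl⟩
    · show X ^ δ ∣ -(b.1.1 * X ^ (δ - i)) - 0
      rw [sub_zero, dvd_neg, hr, mul_right_comm, ← pow_add, Nat.add_sub_cancel' hi]
      exact dvd_mul_right _ _
    · rw [hπv]
      simp only [ZeroMemClass.coe_zero, zero_mul, Prod.mk_eq_zero]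
      refine ⟨?_, trivial⟩
      rw [neg_mul, mul_assoc, ← pow_add, Nat.sub_add_cancel hi]
      ring
  let cD : ↥O := ⟨(X ^ δ, X ^ δ), (hOd _).2 (by simp)⟩
  obtain ⟨κ, hκ⟩ := hmk cD (pow_dvd_pow X hi)
  have hcomm : ∀ x : ↥K, cD • x = x.1.2 • κ := fun x => by
    apply Subtype.ext
    refine Prod.ext (Subtype.ext ?_) ?_
    · show (X ^ δ * x.1.1.1.1, X ^ δ * x.1.1.1.2) = (x.1.2.1.1 * κ.1.1.1.1, x.1.2.1.2 * κ.1.1.1.2)
      rw [(hK x).1, (hK x).2, (hK κ).1, (hK κ).2, hκ]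
      simp only [cD, mul_zero, Prod.ext_iff]
      exact ⟨by ring, trivial⟩
    · show cD * x.1.2 = x.1.2 * κ.1.2
      rw [hκ, mul_comm]
  have hval : ∀ (f : ↥K →ₗ[↥O] ↥N) (x : ↥K),
      X ^ δ * (f x).1.1 = x.1.2.1.1 * (f κ).1.1 ∧ X ^ δ * (f x).1.2 = x.1.2.1.2 * (f κ).1.2 := fun f x => by
    have h := congrArg (fun z : ↥N => (z : PowerSeries k × PowerSeries k)) (congrArg f (hcomm x))
    simp only [map_smul, Submodule.coe_smul, hsm, Prod.ext_iff] at h
    exact h
  -- every restricted map is multiplication by some `w`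
  have hw : ∀ f : ↥K →ₗ[↥O] ↥N, ∃ w : PowerSeries k × PowerSeries k,
      (f κ : PowerSeries k × PowerSeries k) = (X ^ δ * w.1, X ^ δ * w.2) ∧
      X ^ j ∣ X ^ i * w.2 ∧ X ^ δ ∣ X ^ i * (w.1 - w.2) := by
    intro f
    obtain ⟨x₁, hx₁⟩ := hmk ⟨(X ^ δ, 0), (hOd _).2 (by simp)⟩ (pow_dvd_pow X hi)
    obtain ⟨x₂, hx₂⟩ := hmk ⟨(0, X ^ δ), (hOd _).2 (by simp)⟩ (dvd_zero _)
    obtain ⟨x₃, hx₃⟩ := hmk ⟨(X ^ i, X ^ i), (hOd _).2 (by simp)⟩ dvd_rfl
    have a1 := hval f x₁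
    have a2 := hval f x₂
    have a3 := hval f x₃
    simp only [hx₁, hx₂, hx₃, zero_mul] at a1 a2 a3
    have e1 : (f x₁).1.1 = (f κ).1.1 := mul_left_cancel₀ (hXi δ) a1.1
    have e1' : (f x₁).1.2 = 0 := (mul_eq_zero.1 a1.2).resolve_left (hXi δ)
    have e2 : (f x₂).1.2 = (f κ).1.2 := mul_left_cancel₀ (hXi δ) a2.2
    have e2' : (f x₂).1.1 = 0 := (mul_eq_zero.1 a2.1).resolve_left (hXi δ)
    have d1 := ((hmem j hj _).1 (f x₁).2).2
    have d2 := ((hmem j hj _).1 (f x₂).2).2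
    rw [e1, e1', sub_zero] at d1
    rw [e2, e2', zero_sub, dvd_neg] at d2
    obtain ⟨w₁, hw₁⟩ := d1
    obtain ⟨w₂, hw₂⟩ := d2
    refine ⟨(w₁, w₂), Prod.ext hw₁ hw₂, ?_⟩
    have d3 := (hmem j hj _).1 (f x₃).2
    rw [hw₁, hw₂] at a3
    have e3 : (f x₃).1.1 = X ^ i * w₁ := mul_left_cancel₀ (hXi δ) (by rw [a3.1]; ring)
    have e3' : (f x₃).1.2 = X ^ i * w₂ := mul_left_cancel₀ (hXi δ) (by rw [a3.2]; ring)
    rw [e3, e3', ← mul_sub] at d3
    exact d3
  let mn := min i j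
  let ψ : (↥K →ₗ[↥O] ↥N) →ₗ[k] (ULift.{u} (Fin mn ⊕ Fin mn) → k) :=
    { toFun := fun f p => Sum.elim (fun a : Fin mn => PowerSeries.coeff (δ + (j - mn + (a : ℕ))) (f κ).1.2)
          (fun a : Fin mn => PowerSeries.coeff (δ + (δ - i + (a : ℕ))) ((f κ).1.1 - (f κ).1.2)) p.down
      map_add' := fun f g => funext fun ⟨p⟩ => by
        cases p
        · simp
        · simp; ring
      map_smul' := fun c f => funext fun ⟨p⟩ => by
        cases p
        · simp
        · simp; ring }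
  have hlen := TFCurvSG.length_ext_one_sub O ε hloc M N π hπ ψ
  rw [Fintype.card_ulift, Fintype.card_sum, Fintype.card_fin, ← two_mul] at hlen
  refine hlen ?_ ?_
  · intro v
    let w₂ : PowerSeries k := PowerSeries.mk fun m =>
      if h : j - mn ≤ m ∧ m < j then v ⟨Sum.inl ⟨m - (j - mn), by omega⟩⟩ else 0
    let dd : PowerSeries k := PowerSeries.mk fun m =>
      if h : δ - i ≤ m ∧ m < δ - i + mn then v ⟨Sum.inr ⟨m - (δ - i), by omega⟩⟩ else 0
    have h2 : X ^ (j - mn) ∣ w₂ := (hcf _ _).2 fun m hm => by simp [w₂]; omega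
    have hd : X ^ (δ - i) ∣ dd := (hcf _ _).2 fun m hm => by simp [dd]; omega
    have hin : ∀ x : ↥K, ((x.1.2.1.1 * (w₂ + dd), x.1.2.1.2 * w₂) : PowerSeries k × PowerSeries k) ∈ N := fun x => by
      rw [hN, hmem j hj]
      constructor
      · exact (pow_dvd_pow X (show j ≤ i + (j - mn) by omega)).trans (by rw [pow_add]; exact mul_dvd_mul (hKb x).2 h2)
      · show X ^ δ ∣ x.1.2.1.1 * (w₂ + dd) - x.1.2.1.2 * w₂
        rw [show x.1.2.1.1 * (w₂ + dd) - x.1.2.1.2 * w₂ = (x.1.2.1.1 - x.1.2.1.2) * w₂ + x.1.2.1.1 * dd by ring]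
        refine dvd_add (dvd_mul_of_dvd_left ((hOd _).1 x.1.2.2) _) ?_
        exact (pow_dvd_pow X (show δ ≤ i + (δ - i) by omega)).trans (by rw [pow_add]; exact mul_dvd_mul (hKb x).1 hd)
    let f : ↥K →ₗ[↥O] ↥N :=
      { toFun := fun x => ⟨_, hin x⟩
        map_add' := fun x y => Subtype.ext (by
          show ((x.1.2.1.1 + y.1.2.1.1) * (w₂ + dd), (x.1.2.1.2 + y.1.2.1.2) * w₂) =
            (x.1.2.1.1 * (w₂ + dd), x.1.2.1.2 * w₂) + (y.1.2.1.1 * (w₂ + dd), y.1.2.1.2 * w₂)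
          simp only [Prod.mk_add_mk, add_mul])
        map_smul' := fun a x => Subtype.ext (by
          show ((a.1.1 * x.1.2.1.1) * (w₂ + dd), (a.1.2 * x.1.2.1.2) * w₂) =
            (a.1.1 * (x.1.2.1.1 * (w₂ + dd)), a.1.2 * (x.1.2.1.2 * w₂))
          simp only [mul_assoc]) }
    refine ⟨f, funext fun ⟨p⟩ => ?_⟩
    cases p with
    | inl a =>
      show PowerSeries.coeff (δ + (j - mn + (a : ℕ))) (κ.1.2.1.2 * w₂) = _
      rw [hκ]
      simp only [cD, X, w₂, PowerSeries.coeff_X_pow_mul', if_pos (Nat.le_add_right _ _), Nat.add_sub_cancel_left, PowerSeries.coeff_mk]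
      rw [dif_pos ⟨Nat.le_add_right _ _, by omega⟩]
    | inr a =>
      show PowerSeries.coeff (δ + (δ - i + (a : ℕ))) (κ.1.2.1.1 * (w₂ + dd) - κ.1.2.1.2 * w₂) = _
      rw [hκ, show cD.1.1 * (w₂ + dd) - cD.1.2 * w₂ = X ^ δ * dd by simp only [cD]; ring]
      simp only [X, dd, PowerSeries.coeff_X_pow_mul', if_pos (Nat.le_add_right _ _), Nat.add_sub_cancel_left, PowerSeries.coeff_mk]
      rw [dif_pos ⟨Nat.le_add_right _ _, by omega⟩]
  · intro f
    obtain ⟨w, hu, hw2, hwd⟩ := hw f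
    constructor
    · intro h
      have hw2' : X ^ j ∣ w.2 := (hcf _ _).2 fun m hm => by
        by_cases hm' : m < j - mn
        · have := (hcf _ _).1 hw2 (i + m) (by omega)
          simpa [X, PowerSeries.coeff_X_pow_mul'] using this
        · have := congrFun h ⟨Sum.inl ⟨m - (j - mn), by omega⟩⟩
          simpa [ψ, hu, X, PowerSeries.coeff_X_pow_mul', show j - mn + (m - (j - mn)) = m by omega] using this
      have hd' : X ^ (δ - i + mn) ∣ w.1 - w.2 := (hcf _ _).2 fun m hm => by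
        by_cases hm' : m < δ - i
        · have := (hcf _ _).1 hwd (i + m) (by omega)
          simpa [X, PowerSeries.coeff_X_pow_mul'] using this
        · have := congrFun h ⟨Sum.inr ⟨m - (δ - i), by omega⟩⟩
          simpa [ψ, hu, X, PowerSeries.coeff_X_pow_mul', show δ - i + (m - (δ - i)) = m by omega, map_sub] using this
      obtain ⟨r, hr⟩ := hd'
      obtain ⟨x, y, hx, hy, e1, e2⟩ : ∃ x y : PowerSeries k × PowerSeries k, x ∈ N ∧ y ∈ N ∧
          w.1 = y.1 - X ^ (δ - i) * x.1 ∧ w.2 = y.2 := by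
        rcases le_total i j with hij | hji
        · refine ⟨0, w, N.zero_mem, (hmem j hj _).2 ⟨hw2', ?_⟩, by simp, rfl⟩
          rw [hr, show δ - i + mn = δ by omega]; exact dvd_mul_right _ _
        · refine ⟨(-(X ^ j * r), -(X ^ j * r)), (w.2, w.2), (hmem j hj _).2 ⟨by simp, by simp⟩,
            (hmem j hj _).2 ⟨hw2', by simp⟩, ?_, rfl⟩
          rw [show δ - i + mn = δ - i + j by omega] at hr
          simp only
          rw [mul_neg, ← mul_assoc, ← pow_add]
          linear_combination hr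
      refine ⟨(LinearMap.toSpanSingleton ↥O ↥N ⟨x, hx⟩).coprod (LinearMap.toSpanSingleton ↥O ↥N ⟨y, hy⟩), fun z => ?_⟩
      obtain ⟨v1, v2⟩ := hval f z
      apply Subtype.ext
      simp only [LinearMap.coprod_apply, LinearMap.toSpanSingleton_apply, Submodule.coe_add, Submodule.coe_smul, hsm]
      refine Prod.ext ?_ ?_
      · simp only [Prod.fst_add]
        refine mul_left_cancel₀ (hXi δ) ?_
        rw [v1, hu, (hK z).2]; simp only [e1]; ring
      · simp only [Prod.snd_add]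
        refine mul_left_cancel₀ (hXi δ) ?_
        rw [v2, hu, (hK z).1]; simp only [e2]; ring
    · rintro ⟨g, hg⟩
      have e : (κ : ↥O × ↥O) = κ.1.1 • ((1 : ↥O), (0 : ↥O)) + κ.1.2 • ((0 : ↥O), (1 : ↥O)) := by
        refine Prod.ext ?_ ?_ <;> simp [smul_eq_mul]
      have hgκ := hg κ
      rw [e, map_add, map_smul, map_smul, hκ] at hgκ
      have hx := (hmem j hj _).1 (g (1, 0)).2
      have hy := (hmem j hj _).1 (g (0, 1)).2
      set x := (g (1, 0)).1
      set y := (g (0, 1)).1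
      have c1 : (f κ).1.1 = -(X ^ δ * X ^ (δ - i)) * x.1 + X ^ δ * y.1 := by
        rw [← hgκ]; show κ.1.1.1.1 * x.1 + cD.1.1 * y.1 = _
        rw [(hK κ).2, hκ]
      have c2 : (f κ).1.2 = X ^ δ * y.2 := by
        rw [← hgκ]; show κ.1.1.1.2 * x.2 + cD.1.2 * y.2 = _
        rw [(hK κ).1]; simp [cD]
      funext ⟨p⟩
      cases p with
      | inl a =>
        show PowerSeries.coeff (δ + (j - mn + (a : ℕ))) (f κ).1.2 = 0
        rw [c2, PowerSeries.coeff_X_pow_mul', if_pos (Nat.le_add_right _ _), Nat.add_sub_cancel_left]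
        exact (hcf _ _).1 hy.1 _ (by omega)
      | inr a =>
        show PowerSeries.coeff (δ + (δ - i + (a : ℕ))) ((f κ).1.1 - (f κ).1.2) = 0
        rw [c1, c2, show -(X ^ δ * X ^ (δ - i)) * x.1 + X ^ δ * y.1 - X ^ δ * y.2 =
          X ^ δ * ((y.1 - y.2) - X ^ (δ - i) * x.1) by ring,
          PowerSeries.coeff_X_pow_mul', if_pos (Nat.le_add_right _ _), Nat.add_sub_cancel_left, map_sub,
          (hcf _ _).1 hy.2 _ (by omega), zero_sub, neg_eq_zero,
          PowerSeries.coeff_X_pow_mul', if_pos (Nat.le_add_right _ _), Nat.add_sub_cancel_left]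
        have hx1 : X ^ j ∣ x.1 := by
          have := dvd_add ((pow_dvd_pow X hj).trans hx.2) hx.1
          rwa [sub_add_cancel] at this
        exact (hcf _ _).1 hx1 _ (by omega)

end Groth.Agent.S19532
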