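import Groth.Statements.S19540
import Mathlib.CategoryTheory.Sites.EpiMono
import Mathlib.CategoryTheory.Sites.Abelian
import Mathlib.CategoryTheory.Abelian.Basic
import Mathlib.Algebra.Homology.ShortComplex.Ab

set_option autoImplicit false
open CategoryTheory CategoryTheory.Limits Opposite
universe w v u
open CohSite

namespace Groth.Agent.S19540

/-- Let (C, J) be a site and B a class of objects of C, each weakly contractible (every epimorphism of
sheaves of sets, valued in a fixed universe, is surjective on sections over it), such that every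
object V of C has a covering sieve all of whose arrows factor through some object of B. Then a
three-term complex F ⟶ G ⟶ H of abelian sheaves on (C, J) is exact if and only if for every U in B
the sequence of section groups F(U) ⟶ G(U) ⟶ H(U) is exact. (The published statement is for sheaves
of modules over a sheaf of rings O; this row is the case of the constant sheaf of rings ℤ, i.e.
abelian sheaves, to which exactness questions for O-modules reduce. The universe set-up assumes that
abelian sheafification exists and inverts exactly the locally bijective maps, as on any small site.) -/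
theorem result
    {C : Type u} [Category.{v} C] (J : GrothendieckTopology C) [HasSheafify J AddCommGrpCat.{w}]
    [J.WEqualsLocallyBijective AddCommGrpCat.{w}]
    (B : C → Prop)
    (hB : ∀ U : C, B U → ∀ (P Q : Sheaf J (Type w)) (ψ : P ⟶ Q), Epi ψ → Function.Surjective (ψ.hom.app (op U)))
    (hcov : ∀ V : C, ∃ S : Sieve V, S ∈ J V ∧ ∀ ⦃W : C⦄ (f : W ⟶ V), S.arrows f →
      ∃ (U : C) (g : W ⟶ U) (h : U ⟶ V), B U ∧ g ≫ h = f)
    (S : ShortComplex (Sheaf J AddCommGrpCat.{w})) :
    S.Exact ↔ ∀ U : C, B U →
      (S.map (sheafToPresheaf J AddCommGrpCat.{w} ⋙ (evaluation Cᵒᵖ AddCommGrpCat.{w}).obj (op U))).Exact := by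
  let FF := fun U : C => sheafToPresheaf J AddCommGrpCat.{w} ⋙ (evaluation Cᵒᵖ AddCommGrpCat.{w}).obj (op U)
  haveI : ∀ U : C, (FF U).Additive := fun U => by
    haveI : ((evaluation Cᵒᵖ AddCommGrpCat.{w}).obj (op U)).Additive := ⟨by intros; rfl⟩
    infer_instance
  haveI : ∀ U : C, Limits.PreservesFiniteLimits (FF U) := fun U => Limits.comp_preservesFiniteLimits _ _
  have hker : ∀ U : C, ((ShortComplex.mk S.iCycles S.g S.iCycles_g).map (FF U)).Exact ∧
      Function.Injective ((FF U).map S.iCycles) := by
    intro U
    have hl := KernelFork.mapIsLimit _ S.cyclesIsKernel (FF U)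
    refine ⟨((ShortComplex.mk S.iCycles S.g S.iCycles_g).map (FF U)).exact_of_f_is_kernel hl, ?_⟩
    haveI : Mono ((FF U).map S.iCycles) := inferInstance
    exact (AddCommGrpCat.mono_iff_injective _).1 inferInstance
  constructor
  · intro hS U hU
    haveI : Epi S.toCycles := S.exact_iff_epi_toCycles.1 hS
    have hsurj : Sheaf.IsLocallySurjective S.toCycles := (Sheaf.isLocallySurjective_iff_epi' AddCommGrpCat.{w} S.toCycles).2 inferInstance
    let φ := (sheafCompose J (forget AddCommGrpCat.{w})).map S.toCycles
    haveI : Sheaf.IsLocallySurjective φ := ⟨fun s => hsurj.imageSieve_mem s⟩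
    have h2 := hB U hU _ _ φ inferInstance
    refine (ShortComplex.ab_exact_iff _).2 fun x hx => ?_
    obtain ⟨z, hz⟩ := (ShortComplex.ab_exact_iff _).1 (hker U).1 x hx
    obtain ⟨y, hy⟩ := h2 z
    refine ⟨y, ?_⟩
    have h3 : (FF U).map S.toCycles ≫ (FF U).map S.iCycles = (FF U).map S.f := by
      rw [← Functor.map_comp, S.toCycles_i]
    refine (ConcreteCategory.congr_hom h3 y).symm.trans ?_
    exact (congrArg ((FF U).map S.iCycles) hy).trans hz
  · intro h
    rw [S.exact_iff_epi_toCycles, ← Sheaf.isLocallySurjective_iff_epi' AddCommGrpCat.{w} S.toCycles]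
    refine ⟨fun {V} z => ?_⟩
    obtain ⟨R, hR, hR2⟩ := hcov V
    refine J.superset_covering ?_ hR
    intro W f hf
    obtain ⟨U, g, k, hU, rfl⟩ := hR2 f hf
    refine Sieve.downward_closed _ ?_ g
    let z2 : (FF U).obj S.cycles := S.cycles.obj.map k.op z
    have hx : (FF U).map S.g ((FF U).map S.iCycles z2) = 0 := by
      have h4 : (FF U).map S.iCycles ≫ (FF U).map S.g = 0 := by
        rw [← Functor.map_comp, S.iCycles_g, Functor.map_zero]
      exact ConcreteCategory.congr_hom h4 z2
    obtain ⟨y, hy⟩ := (ShortComplex.ab_exact_iff _).1 (h U hU) _ hx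
    have h3 : (FF U).map S.toCycles ≫ (FF U).map S.iCycles = (FF U).map S.f := by
      rw [← Functor.map_comp, S.toCycles_i]
    exact ⟨y, (hker U).2 ((ConcreteCategory.congr_hom h3 y).trans hy)⟩

end Groth.Agent.S19540
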