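import Groth.Statements.S19544
import Mathlib
import Groth.Agent.CAlgH.BasicElt

set_option autoImplicit false
universe u
open CAlg

namespace Groth.Agent.S19544

/-- Let R be a Noetherian ring of Krull dimension d and P a finitely generated projective R-module of
constant rank n at every prime of R, with n > d. Then P is isomorphic to P₀ ⊕ R^(n-d) for some
module P₀; concretely, P has complementary submodules P₀ and Q with Q free of rank n - d. -/
theorem result (R : Type u) [CommRing R]
    [IsNoetherianRing R] (d n : ℕ) (hdim : ringKrullDim R = d)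
    (P : Type u) [AddCommGroup P] [Module R P] [Module.Finite R P] [Module.Projective R P]
    (hrk : ∀ p : PrimeSpectrum R, Module.rankAtStalk (R := R) P p = n) (hnd : d < n) :
    ∃ (P₀ Q : Submodule R P), IsCompl P₀ Q ∧ Nonempty (Q ≃ₗ[R] (Fin (n - d) → R)) := by
  haveI : Nontrivial R := by
    rcases subsingleton_or_nontrivial R with h | h
    · exact absurd hdim (by rw [ringKrullDim_eq_bot_of_subsingleton]; exact (WithBot.bot_ne_coe))
    · exact h
  obtain ⟨P₀, _, _, _, _, -, ⟨e⟩⟩ := CAlgH.BasicElt.exists_equiv_prod (R := R) hdim.le (n - d) n P hrk (by omega)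
  refine ⟨(LinearMap.range (LinearMap.inr R (Fin (n - d) → R) P₀)).map e.symm.toLinearMap,
    (LinearMap.range (LinearMap.inl R (Fin (n - d) → R) P₀)).map e.symm.toLinearMap, ?_, ⟨?_⟩⟩
  · exact (Submodule.orderIsoMapComap e.symm).isCompl_iff.mp (LinearMap.isCompl_range_inl_inr.symm)
  · exact ((e.symm.submoduleMap _).symm).trans (LinearEquiv.ofInjective _ LinearMap.inl_injective).symm

end Groth.Agent.S19544
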