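import Groth.Statements.S19547
import Mathlib.RingTheory.Flat.FaithfullyFlat.Basic


set_option autoImplicit false
universe u
open TensorProduct
open Desc

namespace Groth.Agent.S19547

/-- Let A → A' be a faithfully flat homomorphism of commutative rings, M' an A'-module and φ : M' ⊗_A A'
→ A' ⊗_A M' an isomorphism of (A' ⊗_A A')-modules for the diagonal actions (x ⊗ y)(u ⊗ z) = xu ⊗ yz
and (x ⊗ y)(z ⊗ u) = xz ⊗ yu, satisfying the cocycle condition φ_13 = φ_23 ∘ φ_12 between the three
pullbacks to A' ⊗_A A' ⊗_A A'. Here linearity over A' ⊗_A A' is stated on the generators x ⊗ 1 and 1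
⊗ y, and the cocycle condition on pure tensors u ⊗ a ⊗ b: writing φ(u ⊗ a) = Σ a_i ⊗ u_i, it says Σ
a_i ⊗ φ(u_i ⊗ b) = Σ b_j ⊗ a ⊗ u'_j where φ(u ⊗ b) = Σ b_j ⊗ u'_j. Let M = {u ∈ M' : φ(u ⊗ 1) = 1 ⊗
u}, an A-submodule of M'. Then the canonical map λ : A' ⊗_A M → M', x ⊗ u ↦ xu, is an isomorphism. -/
theorem result (A A' : Type u) [CommRing A] [CommRing A']
    [Algebra A A'] [Module.FaithfullyFlat A A'] (M' : Type u) [AddCommGroup M'] [Module A M']
    [Module A' M'] [IsScalarTower A A' M']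
    (φ : M' ⊗[A] A' →ₗ[A] A' ⊗[A] M') (hφ : Function.Bijective φ)
    (h1 : ∀ (x : A') (u : M') (z : A'),
      φ ((x • u) ⊗ₜ[A] z) = LinearMap.rTensor M' (LinearMap.mulLeft A x) (φ (u ⊗ₜ[A] z)))
    (h2 : ∀ (y : A') (u : M') (z : A'),
      φ (u ⊗ₜ[A] (y * z)) = LinearMap.lTensor A' (Algebra.lsmul A A M' y) (φ (u ⊗ₜ[A] z)))
    (hcoc : ∀ (u : M') (a b : A'),
      LinearMap.lTensor A' φ (TensorProduct.assoc A A' M' A' (LinearMap.rTensor A' φ ((u ⊗ₜ[A] a) ⊗ₜ[A] b))) =
        LinearMap.lTensor A' (TensorProduct.mk A A' M' a) (φ (u ⊗ₜ[A] b)))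
    (M : Submodule A M') (hM : ∀ u : M', u ∈ M ↔ φ (u ⊗ₜ[A] (1 : A')) = (1 : A') ⊗ₜ[A] u) :
    Function.Bijective
      ((TensorProduct.lift (Algebra.lsmul A A M').toLinearMap) ∘ₗ (LinearMap.lTensor A' M.subtype)) := by
  classical
  let ins : M' →ₗ[A] A' ⊗[A] M' := TensorProduct.mk A A' M' 1
  let θ : M' →ₗ[A] A' ⊗[A] M' := φ ∘ₗ (TensorProduct.mk A M' A').flip 1
  let μ : A' ⊗[A] M' →ₗ[A] M' := TensorProduct.lift (Algebra.lsmul A A M').toLinearMap
  have hθ : ∀ u, θ u = φ (u ⊗ₜ 1) := fun u ↦ rfl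
  have hlin : ∀ (x : A') (u : M'), θ (x • u) = LinearMap.rTensor M' (LinearMap.mulLeft A x) (θ u) :=
    fun x u ↦ h1 x u 1
  have hμ : ∀ (x : A') (t : A' ⊗[A] M'),
      μ (LinearMap.rTensor M' (LinearMap.mulLeft A x) t) = x • μ t := fun x t ↦ by
    induction t using TensorProduct.induction_on with
    | zero => simp
    | tmul a v => simp [μ]
    | add p q hp hq => simp [hp, hq]
  have hcoassoc : ∀ u, LinearMap.lTensor A' θ (θ u) = LinearMap.lTensor A' ins (θ u) := fun u ↦ by
    have h := hcoc u 1 1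
    rw [LinearMap.rTensor_tmul] at h
    have key : ∀ t : A' ⊗[A] M', LinearMap.lTensor A' θ t =
        LinearMap.lTensor A' φ (TensorProduct.assoc A A' M' A' (t ⊗ₜ[A] 1)) := fun t ↦ by
      induction t using TensorProduct.induction_on with
      | zero => simp
      | tmul a v => simp [θ]
      | add p q hp hq => simp [hp, hq, TensorProduct.add_tmul]
    rw [key]
    exact h
  let m₂ : A' ⊗[A] (A' ⊗[A] M') →ₗ[A] A' ⊗[A] M' :=
    TensorProduct.lift (LinearMap.mk₂ A (fun a t ↦ LinearMap.rTensor M' (LinearMap.mulLeft A a) t)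
      (fun a b t ↦ by
        rw [show LinearMap.mulLeft A (a + b) = LinearMap.mulLeft A a + LinearMap.mulLeft A b from
          LinearMap.ext fun c ↦ add_mul a b c, LinearMap.rTensor_add, LinearMap.add_apply])
      (fun c a t ↦ by
        rw [show LinearMap.mulLeft A (c • a) = c • LinearMap.mulLeft A a from
          LinearMap.ext fun d ↦ smul_mul_assoc c a d, LinearMap.rTensor_smul, LinearMap.smul_apply])
      (fun a t t' ↦ map_add _ t t') (fun c a t ↦ map_smul _ c t))
  have he1 : ∀ t, θ (μ t) = m₂ (LinearMap.lTensor A' θ t) := fun t ↦ by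
    induction t using TensorProduct.induction_on with
    | zero => simp
    | tmul a v => simp [μ, m₂, hlin]
    | add p q hp hq => simp [hp, hq]
  have he2 : ∀ t, m₂ (LinearMap.lTensor A' ins t) = t := fun t ↦ by
    induction t using TensorProduct.induction_on with
    | zero => simp
    | tmul a v => simp [m₂, ins]
    | add p q hp hq => simp [hp, hq]
  have hinj : Function.Injective θ := by
    intro u v huv
    have := hφ.1 huv
    have h' := congrArg (μ ∘ₗ (TensorProduct.comm A M' A').toLinearMap) this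
    simpa [μ] using h'
  have hμθ : ∀ u, μ (θ u) = u := fun u ↦ hinj (by rw [he1, hcoassoc, he2])
  have hker : M = LinearMap.ker (θ - ins) := by
    ext u
    rw [hM, LinearMap.mem_ker, LinearMap.sub_apply, sub_eq_zero]
    rfl
  have hex : Function.Exact M.subtype (θ - ins) := by
    subst hker
    exact LinearMap.exact_subtype_ker_map _
  have hex' := Module.Flat.lTensor_exact A' hex
  have hsec : ∀ u, ∃ t, LinearMap.lTensor A' M.subtype t = θ u := fun u ↦ by
    refine (hex' (θ u)).mp ?_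
    rw [LinearMap.lTensor_sub, LinearMap.sub_apply, hcoassoc, sub_self]
  have hret : ∀ t : A' ⊗[A] M, θ (μ (LinearMap.lTensor A' M.subtype t)) = LinearMap.lTensor A' M.subtype t :=
    fun t ↦ by
      induction t using TensorProduct.induction_on with
      | zero => simp
      | tmul a v =>
        have hv : θ v.1 = (1 : A') ⊗ₜ[A] v.1 := (hM _).mp v.2
        simp [μ, hlin, hv]
      | add p q hp hq => simp [hp, hq]
  refine ⟨fun s t hst ↦ ?_, fun u ↦ ?_⟩
  · refine Module.Flat.lTensor_preserves_injective_linearMap M.subtype M.subtype_injective ?_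
    rw [← hret s, ← hret t]
    exact congrArg θ hst
  · obtain ⟨t, ht⟩ := hsec u
    exact ⟨t, by show μ _ = u; rw [ht, hμθ]⟩

end Groth.Agent.S19547
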