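import Groth.Agent.ConnIdemSpec.Basic
import Groth.Statements.S19550
-- import your own Groth.Agent.* helpers here

set_option autoImplicit false
set_option backward.isDefEq.respectTransparency false
set_option backward.isDefEq.respectTransparency.types false
universe u
open SchFin SchFin.RSpace

namespace Groth.Agent.S19550

open SchFin in
/-- Let X be a well-connected schematic finite space and f : A → B a morphism of quasi-coherent algebras
between trivial étale covers A ≅ O_X^F and B ≅ O_X^E, F and E finite sets. Then f is induced by a
map of finite sets φ : E → F. Here the trivial algebras are written out: f is a family of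
O_p-algebra maps (F → O_p) → (E → O_p), one for each point p, compatible with the restriction maps,
and the conclusion says f_p(g) = g ∘ φ for every p and g. (The published statement names a map F →
E; a map of algebras of functions O^F → O^E is composition with a map E → F, which is what this row
states.) -/
theorem result (X : RSpace.{u})
    (hX : X.IsSchematic) (hW : X.IsWellConnected) (F E : Type) [Finite F] [Finite E]
    (f : ∀ p : X.pt, (F → X.ring p) →ₐ[X.ring p] (E → X.ring p))
    (hf : ∀ (p q : X.pt) (h : p ≤ q) (g : F → X.ring p) (e : E),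
      X.res h (f p g e) = f q (fun i => X.res h (g i)) e) :
    ∃ φ : E → F, ∀ (p : X.pt) (g : F → X.ring p) (e : E), f p g e = g (φ e) := by
  classical
  letI := Fintype.ofFinite F
  obtain ⟨hc, hp⟩ := hW
  have key : ∀ (p : X.pt) (e : E), ∃! i : F, f p (Pi.single i 1) e = 1 := fun p e => by
    haveI := hp p
    refine ConnIdemSpec.existsUnique_eq_one _ (fun i => ?_) (fun i j hij => ?_) ?_
    · show _ * _ = _
      rw [← Pi.mul_apply, ← map_mul, ← Pi.single_mul, mul_one]
    · rw [← Pi.mul_apply, ← map_mul]
      have : (Pi.single i 1 * Pi.single j 1 : F → X.ring p) = 0 := by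
        ext a
        by_cases ha : a = i
        · subst ha; simp [hij]
        · simp [ha]
      rw [this, map_zero, Pi.zero_apply]
    · rw [← Finset.sum_apply, ← map_sum,
        show ∑ i, Pi.single i (1 : X.ring p) = (1 : F → X.ring p) from Finset.univ_sum_single 1]
      exact congrFun (map_one (f p)) e
  choose φ hφ hu using key
  have hval : ∀ p g e, f p g e = g (φ p e) := fun p g e => by
    have hz : ∀ i, i ≠ φ p e → f p (Pi.single i 1) e = 0 := fun i hi => by
      haveI := hp p
      rcases ConnIdemSpec.eq_zero_or_one (e := f p (Pi.single i 1) e)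
        (by show _ * _ = _; rw [← Pi.mul_apply, ← map_mul, ← Pi.single_mul, mul_one]) with h | h
      · exact h
      · exact absurd (hu p e i h) hi
    have hg : g = ∑ i, g i • (Pi.single i (1 : X.ring p) : F → X.ring p) := by
      ext a; simp [Finset.sum_apply, Pi.single_apply]
    conv_lhs => rw [hg, map_sum, Finset.sum_apply]
    rw [Finset.sum_eq_single (φ p e) (fun i _ hi => by rw [map_smul, Pi.smul_apply, hz i hi, smul_zero])
      (fun h => absurd (Finset.mem_univ _) h), map_smul, Pi.smul_apply, hφ p e, smul_eq_mul, mul_one]
  have hle : ∀ p q (h : p ≤ q) e, φ p e = φ q e := fun p q h e => by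
    refine hu q e (φ p e) ?_
    have := hf p q h (Pi.single (φ p e) 1) e
    rw [hφ, map_one] at this
    refine Eq.trans (congrArg (fun g : F → X.ring q => f q g e) (funext fun i => ?_)) this.symm
    by_cases hi : i = φ p e
    · subst hi; simp
    · simp [hi]
  have hconst : ∀ (e : E) (p q : X.pt), φ p e = φ q e := fun e p q => by
    haveI : ConnectedSpace (PrimeSpectrum (X.sectRing Set.univ)) := hc
    let s : X.sectRing Set.univ := ⟨fun a => if φ a.1 e = φ p e then 1 else 0, fun a b h => by
      show X.res h (if φ a.1 e = φ p e then 1 else 0) = if φ b.1 e = φ p e then 1 else 0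
      rw [hle a.1 b.1 h e]; split <;> simp [*]⟩
    have hs : IsIdempotentElem s := Subtype.ext (funext fun a => by
      show (if φ a.1 e = φ p e then (1 : X.ring a.1) else 0) * (if φ a.1 e = φ p e then 1 else 0) =
        if φ a.1 e = φ p e then 1 else 0
      split <;> simp)
    haveI := hp p
    haveI := hp q
    have hnt : ∀ r : X.pt, [ConnectedSpace (PrimeSpectrum (X.ring r))] → (1 : X.ring r) ≠ 0 := fun r _ h => by
      obtain ⟨w⟩ := (inferInstance : Nonempty (PrimeSpectrum (X.ring r)))
      exact w.isPrime.ne_top ((Ideal.eq_top_iff_one _).2 (h ▸ zero_mem _))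
    rcases ConnIdemSpec.eq_zero_or_one hs with h | h
    · have := congrFun (congrArg Subtype.val h) ⟨p, trivial⟩
      exact absurd (by simpa [s] using this) (hnt p)
    · have := congrFun (congrArg Subtype.val h) ⟨q, trivial⟩
      by_contra hne
      exact hnt q (by simpa [s, Ne.symm hne] using this.symm)
  have hne : Nonempty X.pt := by
    by_contra h
    rw [not_nonempty_iff] at h
    haveI : ConnectedSpace (PrimeSpectrum (X.sectRing Set.univ)) := hc
    obtain ⟨w⟩ := (inferInstance : Nonempty (PrimeSpectrum (X.sectRing Set.univ)))
    refine w.isPrime.ne_top ((Ideal.eq_top_iff_one _).2 ?_)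
    rw [show (1 : X.sectRing Set.univ) = 0 from Subtype.ext (funext fun a => (IsEmpty.false a.1).elim)]
    exact zero_mem _
  obtain ⟨p₀⟩ := hne
  exact ⟨φ p₀, fun p g e => by rw [hval, hconst e p p₀]⟩

end Groth.Agent.S19550
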