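import Groth.Statements.S19556
import Mathlib.AlgebraicGeometry.Morphisms.Finite
import Mathlib.AlgebraicGeometry.Morphisms.Separated
import Mathlib.AlgebraicGeometry.Morphisms.Proper
import Mathlib.AlgebraicGeometry.Morphisms.Immersion
import Mathlib.CategoryTheory.MorphismProperty.Limits

set_option autoImplicit false
universe u
open CategoryTheory AlgebraicGeometry
open Mor

namespace Groth.Agent.S19556

/-- Let S be a scheme, p : X → S and q : Y → S schemes over S, and π : X → Y a finite surjective
morphism over S (π ≫ q = p). If X is separated over S then Y is separated over S. (The published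
statement is about the quotient map X → X/G of a scheme by an action of a finite group scheme,
assumed to exist and then finite and surjective; this row keeps of it only a finite surjective
S-morphism π, which is all the argument uses.) -/
theorem result {S X Y : Scheme.{u}} (p : X ⟶ S) (q : Y ⟶ S)
    (π : X ⟶ Y) (hπ : π ≫ q = p) [IsFinite π] [Surjective π] [IsSeparated p] :
    IsSeparated q := by
  subst hπ
  open CategoryTheory.Limits in
  let m := pullback.map (π ≫ q) (π ≫ q) q q π π (𝟙 S) (by simp) (by simp)
  haveI : IsFinite m := MorphismProperty.pullbackMap (P := @IsFinite) inferInstance inferInstance (by simp) (by simp)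
  have hd : π ≫ pullback.diagonal q = pullback.diagonal (π ≫ q) ≫ m := by
    apply pullback.hom_ext <;> simp [m, pullback.map, pullback.lift_fst, pullback.lift_snd]
  haveI : IsClosedImmersion (pullback.diagonal (π ≫ q)) := IsSeparated.isClosedImmersion_diagonal
  refine ⟨IsClosedImmersion.of_isPreimmersion _ ?_⟩
  have hr : Set.range (pullback.diagonal q).base = m.base '' Set.range (pullback.diagonal (π ≫ q)).base := by
    rw [← Set.range_comp]
    calc Set.range (pullback.diagonal q).base
        = Set.range (π ≫ pullback.diagonal q).base := by
          simp [Scheme.Hom.comp_base, Set.range_comp, π.surjective.range_eq]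
      _ = _ := by rw [hd]; simp
  exact hr ▸ m.isClosedMap _ (pullback.diagonal (π ≫ q)).isClosedEmbedding.isClosed_range


end Groth.Agent.S19556
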