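import Groth.Statements.S19560
import Mathlib.RingTheory.Polynomial.Wronskian
import Mathlib.Algebra.Polynomial.RingDivision
import Mathlib.LinearAlgebra.Dimension.Finite
import Mathlib.LinearAlgebra.Dimension.OrzechProperty
import Mathlib.LinearAlgebra.FiniteDimensional.Lemmas
import Mathlib.Tactic.LinearCombination
import Mathlib.Tactic.Ring

set_option autoImplicit false
universe u
open W4c1limliniiii

namespace Groth.Agent.S19560

open Polynomial in
theorem ram_core {k : Type*} [Field k] (p : ℕ) [CharP k p] {H G : k[X]} {a : k} {e : ℕ}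
    (hH0 : H ≠ 0) (hHa : H.eval a = 0) (hGa : G.eval a ≠ 0) (hW : wronskian H G ≠ 0)
    (he : (wronskian H G).rootMultiplicity a + 1 = e) (hp : p = 0 ∨ e - 1 < p) :
    H.rootMultiplicity a = e ∧ ¬ p ∣ e := by
  obtain ⟨u, hu, hnd⟩ := exists_eq_pow_rootMultiplicity_mul_and_not_dvd H hH0 a
  have hpos : 0 < H.rootMultiplicity a := (rootMultiplicity_pos hH0).2 hHa
  obtain ⟨m, hm⟩ : ∃ m, H.rootMultiplicity a = m + 1 := ⟨_, (Nat.succ_pred_eq_of_pos hpos).symm⟩
  rw [hm] at hu ⊢
  set B : k[X] := (X - C a) * (u * derivative G - derivative u * G) - C ((m + 1 : ℕ) : k) * (u * G) with hB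
  have hWB : wronskian H G = (X - C a) ^ m * B := by
    rw [hB, hu, wronskian]
    simp only [derivative_mul, derivative_pow, derivative_sub, derivative_X, derivative_C, sub_zero,
      mul_one, Nat.add_sub_cancel, map_natCast]
    push_cast
    ring
  have hua : u.eval a ≠ 0 := fun h => hnd (dvd_iff_isRoot.2 h)
  by_cases hc : ((m + 1 : ℕ) : k) = 0
  · exfalso
    have hdvd : (X - C a) ^ (m + 1) ∣ wronskian H G := by
      rw [hWB, hB, hc, map_zero, zero_mul, sub_zero, pow_succ, ← mul_assoc]
      exact dvd_mul_right _ _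
    have h1 : m + 1 ≤ e - 1 := by
      have := (le_rootMultiplicity_iff hW).2 hdvd
      omega
    have h2 : p ∣ m + 1 := (CharP.cast_eq_zero_iff k p _).1 hc
    rcases hp with rfl | hp
    · simp at h2
    · have := Nat.le_of_dvd (by omega) h2
      omega
  have hBa : ¬ B.IsRoot a := by
    simp only [hB, IsRoot.def, eval_sub, eval_mul, eval_X, eval_C, sub_self, zero_mul, zero_sub,
      neg_eq_zero]
    exact mul_ne_zero hc (mul_ne_zero hua hGa)
  have hmul : (wronskian H G).rootMultiplicity a = m := by
    rw [hWB, rootMultiplicity_mul (hWB ▸ hW), rootMultiplicity_X_sub_C_pow,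
      rootMultiplicity_eq_zero hBa, add_zero]
  obtain rfl : e = m + 1 := by omega
  exact ⟨rfl, fun h => hc ((CharP.cast_eq_zero_iff k p _).2 h)⟩

open Polynomial in
/-- Let k be an algebraically closed field of characteristic p (a prime or zero) and let F, G be
polynomials spanning a base-point-free pencil V of degree d (a two-dimensional space of polynomials
of degree at most d containing one of degree d and with no common zero in k), so that V encodes a
degree-d self-map F/G of the projective line up to automorphisms of the target. Suppose the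
Wronskian W = F′G − FG′ is non-zero and vanishes at the point a to order exactly e − 1 with e ≥ 1,
and that p = 0 or e − 1 < p. Then the map is tamely ramified at a with index e: the largest order of
vanishing at a of a non-zero member of V is e, and p does not divide e. (The hypothesis W ≠ 0 makes
the order of vanishing meaningful; for W = 0 the map is inseparable.) -/
theorem result
    (k : Type u) [Field k] [IsAlgClosed k] (p : ℕ) [CharP k p]
    (d : ℕ) (F G : k[X]) (hV : W4c1limliniiii.IsPencil d (Submodule.span k {F, G}))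
    (hW : Polynomial.wronskian F G ≠ 0) (a : k) (e : ℕ)
    (he : (Polynomial.wronskian F G).rootMultiplicity a + 1 = e) (hp : p = 0 ∨ e - 1 < p) :
    W4c1limliniiii.HasRamIdx (Submodule.span k {F, G}) a e ∧ ¬ p ∣ e := by
  obtain ⟨-, hfin, -, hbpf⟩ := hV
  have hli : LinearIndependent k ![F, G] := by
    refine linearIndependent_iff_card_eq_finrank_span.2 ?_
    rw [Fintype.card_fin, Set.finrank, Matrix.range_cons, Matrix.range_cons, Matrix.range_empty,
      Set.union_empty, Set.singleton_union, hfin]
  rw [LinearIndependent.pair_iff] at hli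
  -- a member vanishing at `a` and one which does not
  obtain ⟨H, G₀, c, hc, hH0, hHa, hGa, hHV, hG₀V, hspan, hWeq⟩ :
      ∃ (H G₀ : k[X]) (c : k), c ≠ 0 ∧ H ≠ 0 ∧ H.eval a = 0 ∧ G₀.eval a ≠ 0 ∧
        H ∈ Submodule.span k {F, G} ∧ G₀ ∈ Submodule.span k {F, G} ∧
        (∀ s ∈ Submodule.span k ({F, G} : Set k[X]), ∃ x y : k, s = x • H + y • G₀) ∧
        wronskian H G₀ = C c * wronskian F G := by
    by_cases hG : G.eval a = 0
    · have hF : F.eval a ≠ 0 := by
        intro hF
        obtain ⟨s, hs, hsa⟩ := hbpf a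
        obtain ⟨x, y, rfl⟩ := Submodule.mem_span_pair.1 hs
        exact hsa (by simp [hF, hG])
      refine ⟨G, F, -1, by simp, ?_, hG, hF, Submodule.subset_span (by simp),
        Submodule.subset_span (by simp), fun s hs => ?_, ?_⟩
      · rintro rfl; exact one_ne_zero (hli 0 1 (by simp)).2
      · obtain ⟨x, y, rfl⟩ := Submodule.mem_span_pair.1 hs
        exact ⟨y, x, add_comm _ _⟩
      · rw [map_neg, map_one, neg_one_mul, wronskian_neg_eq]
    · refine ⟨G.eval a • F - F.eval a • G, G, G.eval a, hG, ?_, ?_, hG,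
        Submodule.mem_span_pair.2 ⟨G.eval a, -F.eval a, by simp [sub_eq_add_neg]⟩,
        Submodule.subset_span (by simp), fun s hs => ?_, ?_⟩
      · intro h
        exact hG (hli (G.eval a) (-F.eval a) (by simpa [sub_eq_add_neg] using h)).1
      · simp [mul_comm]
      · obtain ⟨x, y, rfl⟩ := Submodule.mem_span_pair.1 hs
        refine ⟨x * (G.eval a)⁻¹, y + x * (G.eval a)⁻¹ * F.eval a, ?_⟩
        simp only [smul_sub, smul_smul, add_smul, mul_assoc, inv_mul_cancel₀ hG, mul_one]
        abel
      · simp only [wronskian, derivative_sub, derivative_smul, derivative_C_mul, smul_eq_C_mul]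
        ring
  have hW' : wronskian H G₀ ≠ 0 := by
    rw [hWeq]; exact mul_ne_zero (fun h => hc (C_eq_zero.1 h)) hW
  have he' : (wronskian H G₀).rootMultiplicity a + 1 = e := by
    rw [hWeq, rootMultiplicity_mul (hWeq ▸ hW'), rootMultiplicity_C, zero_add, he]
  obtain ⟨hm, hpe⟩ := ram_core p hH0 hHa hGa hW' he' hp
  refine ⟨⟨⟨H, hHV, hH0, hm.ge⟩, fun s hs hs0 => ?_⟩, hpe⟩
  obtain ⟨x, y, rfl⟩ := hspan s hs
  by_cases hy : y = 0
  · subst hy
    rw [zero_smul, add_zero] at hs0 ⊢
    rw [smul_eq_C_mul, rootMultiplicity_mul (by rwa [← smul_eq_C_mul]), rootMultiplicity_C, zero_add, hm]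
  · rw [rootMultiplicity_eq_zero]
    · exact Nat.zero_le _
    · simp [IsRoot.def, hHa, hy, hGa]

end Groth.Agent.S19560
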