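import Groth.Statements.S19564
import Mathlib
import Groth.Agent.CAlgH.FrobW2
import Groth.Agent.S13146

set_option autoImplicit false
universe u
open scoped BigOperators
open FrobAlg

namespace Groth.Agent.S19564

/-- Let k be a perfect field of characteristic p ≥ 3 and n ≥ 3. Then the ordinary double point k[x_1,
y_1, …, x_n, y_n]/(x_1y_1 + ⋯ + x_ny_n), the affine cone over the split quadric in 2n ≥ 6 variables,
admits no flat lifting over W₂(k) compatible with Frobenius (no flat W₂(k)-algebra reducing to it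
that carries a ring endomorphism which is σ₂-semilinear and reduces to the p-th power map). (The
published statement is for any number N ≥ 5 of variables and allows arbitrary terms of degree ≥ 3 to
be added to a non-degenerate quadratic form; this row is the case of the split form in an even
number of variables with nothing added, the case in which the argument is a pure comparison of
homogeneous components.) -/
theorem result
    (p : ℕ) [Fact p.Prime] (hp : 3 ≤ p) (k : Type u) [Field k] [CharP k p] [PerfectRing k p]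
    (n : ℕ) (hn : 3 ≤ n) :
    ¬ FrobAlg.IsFLiftable p k
      (MvPolynomial (Fin n × Fin 2) k ⧸ Ideal.span
        {(∑ i : Fin n, MvPolynomial.X (i, (0 : Fin 2)) * MvPolynomial.X (i, (1 : Fin 2)) : MvPolynomial (Fin n × Fin 2) k)}) := by
  rintro ⟨B, _, ι, π, Φ, hF⟩
  have hL := hF.toIsLift
  obtain ⟨Γ, hΓ⟩ := Groth.Agent.S13146.exists_gamma p n
  set P := MvPolynomial (Fin n × Fin 2) k
  let z : Fin n → P := fun i => MvPolynomial.X (i, (0 : Fin 2)) * MvPolynomial.X (i, (1 : Fin 2))
  let J : Ideal P := Ideal.span (insert (∑ i : Fin n, MvPolynomial.X (i, (0 : Fin 2)) * MvPolynomial.X (i, (1 : Fin 2)))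
    (Set.range fun v : Fin n × Fin 2 => (MvPolynomial.X v : P) ^ p))
  have hp' := (Fact.out : p.Prime)
  let q : P →+* P ⧸ Ideal.span {(∑ i : Fin n, MvPolynomial.X (i, (0 : Fin 2)) * MvPolynomial.X (i, (1 : Fin 2)) : P)} :=
    Ideal.Quotient.mk _
  choose w hw using fun v : Fin n × Fin 2 => hL.surj (q (MvPolynomial.X v))
  let e := MvPolynomial.eval₂Hom (Int.castRingHom B) fun i : Fin n => w (i, 0) * w (i, 1)
  have hcomp : π.comp e = q.comp (MvPolynomial.eval₂Hom (Int.castRingHom _) z) :=
    MvPolynomial.ringHom_ext (fun c => by simp [e]) (fun i => by simp [e, z, hw])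
  have hΦ : ∀ v, ∃ c, Φ (w v) = w v ^ p + (p : B) * c := fun v => by
    obtain ⟨c, hc⟩ := (Groth.Agent.CAlgH.FrobW2.π_eq_zero_iff hL (Φ (w v) - w v ^ p)).mp (by
      rw [map_sub, hF.red, map_pow, sub_self])
    exact ⟨c, by rw [← hc]; ring⟩
  choose h hh using hΦ
  obtain ⟨cs, hcs⟩ := (Groth.Agent.CAlgH.FrobW2.π_eq_zero_iff hL (∑ i : Fin n, w (i, 0) * w (i, 1))).mp (by
    rw [map_sum, Finset.sum_congr rfl fun i _ => (show π (w (i, 0) * w (i, 1)) =
      q (MvPolynomial.X (i, (0 : Fin 2)) * MvPolynomial.X (i, (1 : Fin 2))) by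
        rw [map_mul, map_mul, hw, hw]), ← map_sum, Ideal.Quotient.eq_zero_iff_mem]
    exact Ideal.subset_span rfl)
  have hpp := Groth.Agent.CAlgH.FrobW2.natCast_mul_natCast hL
  have h1 := congrArg Φ hcs
  simp only [map_sum, map_mul, hh, map_natCast] at h1
  have h2 := congrArg e hΓ
  simp only [e, map_mul, map_sub, map_pow, map_sum, MvPolynomial.eval₂Hom_X', MvPolynomial.eval₂Hom_C,
    eq_intCast, Int.cast_natCast, map_natCast] at h2
  rw [hcs, pow_eq_zero_of_le hp'.two_le (by rw [pow_two, mul_mul_mul_comm, hpp, zero_mul]), zero_sub] at h2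
  have key : (p : B) * (-(e Γ) + (∑ i, (w (i, 0) ^ p * h (i, 1) + w (i, 1) ^ p * h (i, 0))) - Φ cs) = 0 := by
    rw [mul_sub, ← h1, mul_add, mul_neg, h2, neg_neg, Finset.mul_sum, ← Finset.sum_add_distrib,
      ← Finset.sum_sub_distrib]
    refine Finset.sum_eq_zero fun i _ => ?_
    linear_combination (-(h (i, 0) * h (i, 1))) * hpp
  rw [Groth.Agent.CAlgH.FrobW2.p_mul_eq_zero_iff hL] at key
  simp only [map_sub, map_add, map_neg, map_sum, map_mul, map_pow, hw, hF.red] at key
  rw [show π (e Γ) = q (MvPolynomial.eval₂Hom (Int.castRingHom _) z Γ) from RingHom.congr_fun hcomp Γ] at key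
  obtain ⟨c₀, hc₀⟩ := Ideal.Quotient.mk_surjective (π cs)
  choose g hg using fun v => Ideal.Quotient.mk_surjective (π (h v))
  simp only [q, ← hg, ← hc₀] at key
  have hsub : Ideal.span {(∑ i : Fin n, MvPolynomial.X (i, (0 : Fin 2)) * MvPolynomial.X (i, (1 : Fin 2)) : P)} ≤ J :=
    Ideal.span_le.mpr (Set.singleton_subset_iff.mpr (Ideal.subset_span (Set.mem_insert _ _)))
  have hX : ∀ v, (MvPolynomial.X v : P) ^ p ∈ J := fun v => Ideal.subset_span (Set.mem_insert_of_mem _ ⟨v, rfl⟩)
  have hc : ∀ c : P, c ^ p - MvPolynomial.C (MvPolynomial.constantCoeff c ^ p) ∈ J := by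
    intro c
    induction c using MvPolynomial.induction_on with
    | C a => simp
    | add a b ha hb =>
      rw [add_pow_char, map_add, add_pow_char, map_add]
      simpa [sub_add_sub_comm] using add_mem ha hb
    | mul_X a v ha =>
      rw [mul_pow, map_mul, MvPolynomial.constantCoeff_X, mul_zero, zero_pow hp'.ne_zero, map_zero, sub_zero]
      exact Ideal.mul_mem_left _ _ (hX v)
  obtain ⟨a, ha⟩ : ∃ a : k, c₀ ^ p - MvPolynomial.C a ∈ J := ⟨_, hc c₀⟩
  have hmem : MvPolynomial.eval₂Hom (Int.castRingHom _) z Γ + MvPolynomial.C a ∈ J := by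
    have key' : q (-(MvPolynomial.eval₂Hom (Int.castRingHom _) z Γ) + ∑ i, (MvPolynomial.X (i, (0 : Fin 2)) ^ p * g (i, 1) +
        MvPolynomial.X (i, (1 : Fin 2)) ^ p * g (i, 0)) - c₀ ^ p) = 0 := by
      refine Eq.trans ?_ key
      simp only [q, map_sub, map_add, map_neg, map_sum, map_mul, map_pow]
      rfl
    have k1 := hsub (Ideal.Quotient.eq_zero_iff_mem.mp key')
    have k2 : ∑ i, (MvPolynomial.X (i, (0 : Fin 2)) ^ p * g (i, 1) +
        MvPolynomial.X (i, (1 : Fin 2)) ^ p * g (i, 0)) ∈ J :=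
      Ideal.sum_mem _ fun i _ => add_mem (Ideal.mul_mem_right _ _ (hX _)) (Ideal.mul_mem_right _ _ (hX _))
    have := sub_mem k2 (add_mem k1 ha)
    convert this using 1
    ring
  have hv := Groth.Agent.S13146.coeff_eq_zero_of_mem p hp'.one_lt k _
    (Groth.Agent.S13146.Lam_mem k hn p _ hmem)
  rw [map_add, Groth.Agent.S13146.Lam_eval, MvPolynomial.coeff_add,
    show Groth.Agent.S13146.Lam k hn (MvPolynomial.C a) = MvPolynomial.C a by
      rw [← MvPolynomial.monomial_zero', ← mul_one a, ← smul_eq_mul, ← MvPolynomial.smul_monomial, map_smul,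
        Groth.Agent.S13146.Lam_monomial]
      simp [Groth.Agent.S13146.val, MvPolynomial.smul_eq_C_mul],
    MvPolynomial.coeff_C, if_neg (by
      intro h
      have := congrArg (fun d : Fin 2 →₀ ℕ => d 1) h
      simp at this), add_zero] at hv
  exact Groth.Agent.S13146.coeff_gamma_ne p k hn Γ hΓ hv

end Groth.Agent.S19564
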