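import Groth.Statements.S19567
import Groth.Agent.Hensel.EtaleNbhd

set_option autoImplicit false
universe u
open Hensel

namespace Groth.Agent.S19567

/-- Let A be a ring and I an ideal of A, and consider étale A-algebras A' for which the induced map A/I
→ A'/IA' is bijective. (1) For any two such algebras A₁ and A₂ there is a third such algebra A₃
admitting A-algebra maps from both. (2) For any two A-algebra maps f, g : A₁ → A₂ between such
algebras there are such an algebra A₃ and an A-algebra map h : A₂ → A₃ with h ∘ f = h ∘ g. (All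
algebras are taken in the universe of A. Since A itself is such an algebra, (1) and (2) say that the
category of these algebras and A-algebra maps is filtered.) -/
theorem result (A : Type u) [CommRing A] (I : Ideal A) :
    (∀ (A₁ A₂ : Type u) [CommRing A₁] [Algebra A A₁] [Algebra.Etale A A₁] [CommRing A₂] [Algebra A A₂]
        [Algebra.Etale A A₂],
        Function.Bijective (Ideal.quotientMap (I.map (algebraMap A A₁)) (algebraMap A A₁) Ideal.le_comap_map) →
        Function.Bijective (Ideal.quotientMap (I.map (algebraMap A A₂)) (algebraMap A A₂) Ideal.le_comap_map) →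
          ∃ (A₃ : Type u) (_ : CommRing A₃) (_ : Algebra A A₃) (_ : Algebra.Etale A A₃),
            Function.Bijective (Ideal.quotientMap (I.map (algebraMap A A₃)) (algebraMap A A₃) Ideal.le_comap_map) ∧
              Nonempty (A₁ →ₐ[A] A₃) ∧ Nonempty (A₂ →ₐ[A] A₃)) ∧
    (∀ (A₁ A₂ : Type u) [CommRing A₁] [Algebra A A₁] [Algebra.Etale A A₁] [CommRing A₂] [Algebra A A₂]
        [Algebra.Etale A A₂],
        Function.Bijective (Ideal.quotientMap (I.map (algebraMap A A₁)) (algebraMap A A₁) Ideal.le_comap_map) →
        Function.Bijective (Ideal.quotientMap (I.map (algebraMap A A₂)) (algebraMap A A₂) Ideal.le_comap_map) →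
          ∀ (f g : A₁ →ₐ[A] A₂),
            ∃ (A₃ : Type u) (_ : CommRing A₃) (_ : Algebra A A₃) (_ : Algebra.Etale A A₃),
              Function.Bijective (Ideal.quotientMap (I.map (algebraMap A A₃)) (algebraMap A A₃) Ideal.le_comap_map) ∧
                ∃ h : A₂ →ₐ[A] A₃, h.comp f = h.comp g) := by
  open Groth.Agent.Hensel in
  constructor
  · intro A₁ A₂ _ _ _ _ _ _ h₁ h₂
    have : Algebra.Etale A (TensorProduct A A₁ A₂) := Algebra.Etale.comp A A₁ _
    exact ⟨TensorProduct A A₁ A₂, inferInstance, inferInstance, inferInstance,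
      pairEtaleNbhds_exists_dominating I h₁ h₂,
      ⟨Algebra.TensorProduct.includeLeft⟩, ⟨Algebra.TensorProduct.includeRight⟩⟩
  · intro A₁ A₂ _ _ _ _ _ _ h₁ h₂ f g
    obtain ⟨u, hu1, hu2⟩ := exists_away_coequalizing f g
    let mk₂ := Ideal.Quotient.mkₐ A (I.map (algebraMap A A₂))
    have hfg : mk₂.comp f = mk₂.comp g := by
      refine AlgHom.ext fun s ↦ ?_
      obtain ⟨a, ha⟩ := h₁.2 (Ideal.Quotient.mk _ s)
      obtain ⟨a, rfl⟩ := Ideal.Quotient.mk_surjective a
      rw [Ideal.quotientMap_mk, eq_comm, Ideal.Quotient.eq] at ha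
      have key : ∀ χ : A₁ →ₐ[A] A₂, mk₂ (χ s) = mk₂ (algebraMap A A₂ a) := by
        intro χ
        refine Ideal.Quotient.eq.mpr ?_
        rw [← χ.commutes, ← map_sub]
        have : I.map (algebraMap A A₁) ≤ (I.map (algebraMap A A₂)).comap χ.toRingHom := by
          rw [Ideal.map_le_iff_le_comap, Ideal.comap_comap, AlgHom.toRingHom_eq_coe,
            AlgHom.comp_algebraMap]
          exact Ideal.le_comap_map
        exact this ha
      exact (key f).trans (key g).symm
    have hu : mk₂ u = 1 := hu1 _ mk₂.toRingHom (congrArg AlgHom.toRingHom hfg)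
    let e : Localization.Away u →ₐ[A] A₂ ⧸ I.map (algebraMap A A₂) :=
      IsLocalization.Away.liftAlgHom u (f := mk₂) (by rw [hu]; exact isUnit_one)
    have : Algebra.Etale A₂ (Localization.Away u) := Algebra.Etale.of_isLocalizationAway u
    have : Algebra.Etale A (Localization.Away u) := Algebra.Etale.comp A A₂ _
    refine ⟨Localization.Away u, inferInstance, inferInstance, inferInstance,
      quotientMap_bijective_of_comp I e h₂ ?_, IsScalarTower.toAlgHom A A₂ _, hu2⟩
    intro c hc
    obtain ⟨n, x, hx⟩ := IsLocalization.Away.surj u c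
    have hex : e (algebraMap A₂ (Localization.Away u) x) = mk₂ x := by
      simp [e, IsLocalization.Away.liftAlgHom]
    have hx' : x ∈ I.map (algebraMap A A₂) := by
      rw [← Ideal.Quotient.eq_zero_iff_mem]
      change mk₂ x = 0
      rw [← hex, ← hx, map_mul, show e c = 0 from hc, zero_mul]
    have hmem := Ideal.mem_map_of_mem (algebraMap A₂ (Localization.Away u)) hx'
    rw [Ideal.map_map, ← IsScalarTower.algebraMap_eq, ← hx] at hmem
    exact (Ideal.unit_mul_mem_iff_mem _ ((IsLocalization.Away.algebraMap_isUnit (S := Localization.Away u) u).pow n)).mp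
      (by rwa [mul_comm] at hmem)

end Groth.Agent.S19567
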