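import Groth.Statements.S19569
import Mathlib

set_option autoImplicit false
universe u
open CAlg

namespace Groth.Agent.S19569

open TensorProduct in
/-- Let A be the colimit of a directed system of rings (A_i), given by compatible ring maps A_i → A
which are jointly surjective and such that an element of some A_i mapping to zero in A already maps
to zero in some later A_j, and let B be an étale A-algebra. Then for some index i there is an étale
A_i-algebra B_i such that B is isomorphic, as an A-algebra, to the base change A ⊗_{A_i} B_i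
(existence of an isomorphism). (Stated for a system indexed by a directed preordered set.) -/
theorem result {ι : Type u} [Preorder ι] [IsDirected ι (· ≤ ·)] [Nonempty ι]
    (G : ι → Type u) [∀ i, CommRing (G i)] (f : ∀ i j, i ≤ j → (G i →+* G j))
    (A : Type u) [CommRing A] (g : ∀ i, G i →+* A) (hg : ∀ i j (h : i ≤ j), (g j).comp (f i j h) = g i)
    (hsurj : ∀ a : A, ∃ i, ∃ x : G i, g i x = a)
    (hker : ∀ i (x : G i), g i x = 0 → ∃ j, ∃ h : i ≤ j, f i j h x = 0)
    (B : Type u) [CommRing B] [Algebra A B] [Algebra.Etale A B] :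
    ∃ (i : ι) (Bi : Type u) (_ : CommRing Bi) (_ : Algebra (G i) Bi), Algebra.Etale (G i) Bi ∧
      letI : Algebra (G i) A := (g i).toAlgebra
      Nonempty (B ≃ₐ[A] A ⊗[G i] Bi) := by
  classical
  obtain ⟨A₀, B₀, _, _, hfg, hetale, ⟨e⟩⟩ := Algebra.Etale.exists_subalgebra_fg (R := ℤ) (A := A) (B := B)
  obtain ⟨s, hs⟩ := hfg
  choose i x hx using fun a : s => hsurj a.1
  obtain ⟨i₀, hi₀⟩ := Finite.exists_le i
  let y : s → G i₀ := fun a => f _ _ (hi₀ a) (x a)
  have hy : ∀ a, g i₀ (y a) = a.1 := fun a => by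
    rw [← hx a, ← hg _ _ (hi₀ a)]; rfl
  let π : MvPolynomial s ℤ →+* A₀ :=
    (MvPolynomial.aeval (fun a : s => (⟨a.1, hs ▸ Algebra.subset_adjoin a.2⟩ : A₀))).toRingHom
  have hπ : Function.Surjective π := by
    intro z
    have hz : (z : A) ∈ Algebra.adjoin ℤ (Set.range ((↑) : s → A)) := by rw [Subtype.range_coe]; exact hs ▸ z.2
    rw [Algebra.adjoin_range_eq_range_aeval] at hz
    obtain ⟨q, hq⟩ := hz
    refine ⟨q, Subtype.ext ?_⟩
    rw [← hq]
    show A₀.val (MvPolynomial.aeval _ q) = _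
    rw [← AlgHom.comp_apply, MvPolynomial.comp_aeval]
    rfl
  let Λ : MvPolynomial s ℤ →+* G i₀ := MvPolynomial.eval₂Hom (Int.castRingHom _) y
  have hΛ : ∀ q, g i₀ (Λ q) = (π q : A) := by
    intro q
    have : (g i₀).comp Λ = (A₀.val : A₀ →+* A).comp π := MvPolynomial.ringHom_ext' (RingHom.ext_int _ _) fun a => by
      simp [Λ, π, hy]
    exact RingHom.congr_fun this q
  obtain ⟨t, ht⟩ := (IsNoetherian.noetherian (RingHom.ker π : Ideal (MvPolynomial s ℤ)))
  -- a single stage killing all relations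
  have hstage : ∀ u : Finset (MvPolynomial s ℤ), (∀ q ∈ u, π q = 0) →
      ∃ l, ∃ Ψ : MvPolynomial s ℤ →+* G l, (g l).comp Ψ = (g i₀).comp Λ ∧ ∀ q ∈ u, Ψ q = 0 := by
    intro u
    induction u using Finset.induction_on with
    | empty => intro _; exact ⟨i₀, Λ, rfl, by simp⟩
    | insert q u _ ih =>
      intro hu
      obtain ⟨l, Ψ, hΨ, hΨ0⟩ := ih fun q' hq' => hu q' (Finset.mem_insert_of_mem hq')
      obtain ⟨l', hl, h0⟩ := hker l (Ψ q) (by
        show ((g l).comp Ψ) q = 0
        rw [hΨ, RingHom.comp_apply, hΛ, hu q (Finset.mem_insert_self q u)]; rfl)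
      refine ⟨l', (f l l' hl).comp Ψ, by rw [← RingHom.comp_assoc, hg, hΨ], fun q' hq' => ?_⟩
      rcases Finset.mem_insert.1 hq' with rfl | hq'
      · exact h0
      · rw [RingHom.comp_apply, hΨ0 q' hq', map_zero]
  obtain ⟨l, Ψ, hΨ, hΨ0⟩ := hstage t fun q hq => RingHom.mem_ker.1 (ht ▸ Submodule.subset_span hq : q ∈ RingHom.ker π)
  have hker' : RingHom.ker π ≤ RingHom.ker Ψ := by
    rw [← ht]; exact Submodule.span_le.2 fun q hq => hΨ0 q hq
  let φ : A₀ →+* G l := RingHom.liftOfSurjective π hπ ⟨Ψ, hker'⟩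
  have hφ : ∀ z : A₀, g l (φ z) = z := fun z => by
    obtain ⟨q, rfl⟩ := hπ z
    have : φ (π q) = Ψ q := RingHom.liftOfRightInverse_comp_apply π _ _ ⟨Ψ, hker'⟩ q
    rw [this, ← hΛ]
    exact RingHom.congr_fun hΨ q
  letI : Algebra A₀ (G l) := φ.toAlgebra
  letI : Algebra (G l) A := (g l).toAlgebra
  haveI : IsScalarTower A₀ (G l) A := IsScalarTower.of_algebraMap_eq fun z => (hφ z).symm
  exact ⟨l, G l ⊗[A₀] B₀, inferInstance, inferInstance, inferInstance,
    ⟨e.trans (Algebra.TensorProduct.cancelBaseChange A₀ (G l) A A B₀).symm⟩⟩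

end Groth.Agent.S19569
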