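import Groth.Statements.S1957
import Mathlib
import Groth.Agent.CAlgEtLift.Factor

set_option autoImplicit false
universe u
open Polynomial
open EtAlg

namespace Groth.Agent.S1957

/-- Let A be a ring, I an ideal and f a monic polynomial over A. Suppose the image of f in (A/I)[x]
factors as g h where the leading coefficient of g is a unit and g, h generate the unit ideal. Then
there is an etale A-algebra A' such that A/I -> A'/IA' is bijective, together with a factorization f
= g' h' in A'[x] whose reduction modulo IA' is the image of the given one. -/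
theorem result (A : Type u) [CommRing A] (I : Ideal A) (f : A[X]) (hf : f.Monic)
    (g h : (A ⧸ I)[X]) (hgh : f.map (Ideal.Quotient.mk I) = g * h) (hlead : IsUnit g.leadingCoeff)
    (hcop : IsCoprime g h) :
    ∃ (A' : Type u) (_ : CommRing A') (_ : Algebra A A') (_ : Algebra.Etale A A'),
      Function.Bijective (Ideal.quotientMap (I.map (algebraMap A A')) (algebraMap A A') Ideal.le_comap_map) ∧
      ∃ g' h' : A'[X], f.map (algebraMap A A') = g' * h' ∧
        g'.map (Ideal.Quotient.mk (I.map (algebraMap A A'))) =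
          g.map (Ideal.quotientMap (I.map (algebraMap A A')) (algebraMap A A') Ideal.le_comap_map) ∧
        h'.map (Ideal.Quotient.mk (I.map (algebraMap A A'))) =
          h.map (Ideal.quotientMap (I.map (algebraMap A A')) (algebraMap A A') Ideal.le_comap_map) := by
  cases subsingleton_or_nontrivial (A ⧸ I) with
  | inl hs =>
    refine ⟨Localization.Away (1 : A), inferInstance, inferInstance, Algebra.Etale.of_isLocalizationAway (1 : A),
      ⟨fun x y _ => Subsingleton.elim x y, fun x => ⟨0, ?_⟩⟩, f.map (algebraMap A _), 1, (mul_one _).symm, ?_, ?_⟩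
    all_goals
      have : Subsingleton (Localization.Away (1 : A) ⧸ I.map (algebraMap A (Localization.Away (1 : A)))) :=
        Ideal.Quotient.subsingleton_iff.mpr (by
          rw [Ideal.Quotient.subsingleton_iff.mp hs, Ideal.map_top])
      exact Subsingleton.elim _ _
  | inr hnt =>
    obtain ⟨u, hu⟩ := hlead
    obtain ⟨a, ha⟩ := Ideal.Quotient.mk_surjective (u : A ⧸ I)
    obtain ⟨b, hb⟩ := Ideal.Quotient.mk_surjective (↑u⁻¹ : A ⧸ I)
    have hab : a * b - 1 ∈ I := Ideal.Quotient.eq.mp (by rw [map_mul, ha, hb, Units.mul_inv, map_one])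
    have hg0 : (C (↑u⁻¹ : A ⧸ I) * g).Monic := monic_C_mul_of_mul_leadingCoeff_eq_one (by rw [← hu, Units.inv_mul])
    have hprod : (C (↑u⁻¹ : A ⧸ I) * g) * (C (u : A ⧸ I) * h) = f.map (Ideal.Quotient.mk I) := by
      rw [hgh, mul_mul_mul_comm, ← C_mul, Units.inv_mul, C_1, one_mul]
    have hh0 : (C (u : A ⧸ I) * h).Monic := hg0.of_mul_monic_left (hprod ▸ hf.map _)
    obtain ⟨c1, c2, hc12⟩ := hcop
    obtain ⟨A', i1, i2, het, hbij, g', h', -, -, hfgh', hg', hh'⟩ :=
      CAlgEtLift.exists_etale_lift_monic_factorization I f hf _ _ hg0 hh0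
        ⟨c1 * C (u : A ⧸ I), c2 * C (↑u⁻¹ : A ⧸ I), by
          have hu1 : C (u : A ⧸ I) * C (↑u⁻¹ : A ⧸ I) = 1 := by rw [← C_mul, Units.mul_inv, C_1]
          linear_combination hc12 + (c1 * g + c2 * h) * hu1⟩ hprod.symm
    let A'' := Localization.Away (algebraMap A A' a)
    haveI : Algebra.Etale A' A'' := Algebra.Etale.of_isLocalizationAway (algebraMap A A' a)
    haveI : Algebra.Etale A A'' := Algebra.Etale.comp A A' A''
    set J := I.map (algebraMap A A') with hJ
    have hJK : I.map (algebraMap A A'') = J.map (algebraMap A' A'') := by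
      rw [hJ, Ideal.map_map, ← IsScalarTower.algebraMap_eq]
    have hua : IsUnit (algebraMap A A'' a) := by
      rw [IsScalarTower.algebraMap_apply A A' A'']; exact IsLocalization.Away.algebraMap_isUnit _
    let q₁ := Ideal.quotientMap J (algebraMap A A') Ideal.le_comap_map
    let q₂ : A' ⧸ J →+* A'' ⧸ I.map (algebraMap A A'') :=
      Ideal.quotientMap _ (algebraMap A' A'') (Ideal.map_le_iff_le_comap.mp hJK.ge)
    have hq : Ideal.quotientMap (I.map (algebraMap A A'')) (algebraMap A A'') Ideal.le_comap_map = q₂.comp q₁ := by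
      refine Ideal.Quotient.ringHom_ext (RingHom.ext fun x => ?_)
      simp [q₁, q₂, ← IsScalarTower.algebraMap_apply]
    have hab' : ∀ n : ℕ, algebraMap A A' a ^ n * algebraMap A A' b ^ n - 1 ∈ J := fun n => by
      rw [← Ideal.Quotient.eq, map_mul, map_pow, map_pow, map_one, ← mul_pow, ← map_mul, ← map_mul]
      rw [show Ideal.Quotient.mk J (algebraMap A A' (a * b)) = 1 from by
        rw [← map_one (Ideal.Quotient.mk J), Ideal.Quotient.eq, ← map_one (algebraMap A A'), ← map_sub]
        exact Ideal.mem_map_of_mem _ hab, one_pow]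
    have hq₂ : Function.Bijective q₂ := by
      refine ⟨(injective_iff_map_eq_zero _).mpr fun x hx => ?_, fun y => ?_⟩
      · obtain ⟨x, rfl⟩ := Ideal.Quotient.mk_surjective x
        rw [Ideal.quotientMap_mk, Ideal.Quotient.eq_zero_iff_mem, hJK,
          IsLocalization.algebraMap_mem_map_algebraMap_iff (Submonoid.powers (algebraMap A A' a))] at hx
        obtain ⟨_, ⟨n, rfl⟩, hn⟩ := hx
        rw [Ideal.Quotient.eq_zero_iff_mem]
        have h1 := Ideal.mul_mem_left _ (algebraMap A A' b ^ n) hn
        have h2 := Ideal.mul_mem_right x J (hab' n)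
        convert Ideal.sub_mem _ h1 h2 using 1
        ring
      · obtain ⟨y, rfl⟩ := Ideal.Quotient.mk_surjective y
        obtain ⟨⟨x, _, n, rfl⟩, hx⟩ := IsLocalization.surj (Submonoid.powers (algebraMap A A' a)) y
        refine ⟨Ideal.Quotient.mk J (algebraMap A A' b ^ n * x), ?_⟩
        rw [Ideal.quotientMap_mk, Ideal.Quotient.eq, map_mul, ← hx, hJK]
        have h2 := Ideal.mul_mem_right y _ (Ideal.mem_map_of_mem (algebraMap A' A'') (hab' n))
        convert h2 using 1
        simp only [map_sub, map_mul, map_one, map_pow]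
        ring
    have e1 : ∀ P : A'[X], ∀ p : (A ⧸ I)[X], P.map (Ideal.Quotient.mk J) = p.map (algebraMap (A ⧸ I) (A' ⧸ J)) →
        (P.map (algebraMap A' A'')).map (Ideal.Quotient.mk (I.map (algebraMap A A''))) = p.map (q₂.comp q₁) := by
      intro P p hP
      rw [Polynomial.map_map, ← Polynomial.map_map q₁ q₂, show Polynomial.map q₁ p = p.map (algebraMap (A ⧸ I) (A' ⧸ J)) from rfl,
        ← hP, Polynomial.map_map]
      rfl
    refine ⟨A'', inferInstance, inferInstance, inferInstance, hq ▸ hq₂.comp hbij,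
      C (algebraMap A A'' a) * g'.map (algebraMap A' A''), C (↑hua.unit⁻¹ : A'') * h'.map (algebraMap A' A''), ?_, ?_, ?_⟩
    · rw [mul_mul_mul_comm, ← C_mul, IsUnit.mul_val_inv, C_1, one_mul, ← Polynomial.map_mul, ← hfgh',
        Polynomial.map_map, ← IsScalarTower.algebraMap_eq]
    · rw [hq, Polynomial.map_mul, map_C, e1 _ _ hg', Polynomial.map_mul, map_C, ← mul_assoc, ← C_mul]
      have : Ideal.Quotient.mk (I.map (algebraMap A A'')) (algebraMap A A'' a) = q₂.comp q₁ (u : A ⧸ I) := by
        rw [← hq, ← ha, Ideal.quotientMap_mk]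
      rw [this, ← map_mul, Units.mul_inv, map_one, C_1, one_mul]
    · rw [hq, Polynomial.map_mul, map_C, e1 _ _ hh', Polynomial.map_mul, map_C, ← mul_assoc, ← C_mul]
      have h1 : Ideal.Quotient.mk (I.map (algebraMap A A'')) (algebraMap A A'' a) = q₂.comp q₁ (u : A ⧸ I) := by
        rw [← hq, ← ha, Ideal.quotientMap_mk]
      rw [← h1, ← map_mul, IsUnit.val_inv_mul, map_one, C_1, one_mul]

end Groth.Agent.S1957
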