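import Groth.Statements.S19571
-- import your own Groth.Agent.* helpers here

set_option autoImplicit false
universe u
open CategoryTheory AlgebraicGeometry
open EtaPt

namespace Groth.Agent.S19571

/-- Let f : Y → X be a morphism of schemes which is flat, surjective and locally of finite presentation.
Then every affine open U of X is covered by affine opens V each of which is the image f(W) of some
affine open W of Y; stated pointwise: for every x ∈ U there are an affine open V of X with x ∈ V ≤ U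
and an affine open W of Y with f(W) = V as sets. (For such V and W the induced ring map Γ(V) → Γ(W)
is then faithfully flat.) -/
theorem result
    {X Y : Scheme.{u}} (f : Y ⟶ X) [Flat f] [Surjective f] [LocallyOfFinitePresentation f]
    (U : X.affineOpens) (x : X) (hx : x ∈ (U : X.Opens)) :
    ∃ V : X.affineOpens, x ∈ (V : X.Opens) ∧ (V : X.Opens) ≤ (U : X.Opens) ∧
      ∃ W : Y.affineOpens, f.base '' ((W : Y.Opens) : Set Y) = ((V : X.Opens) : Set X) := by
  obtain ⟨y, rfl⟩ := f.surjective x
  obtain ⟨_, ⟨W₀, hW₀, rfl⟩, hyW, hWU⟩ :=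
    Y.isBasis_affineOpens.exists_subset_of_mem_open (a := y) (u := f ⁻¹' ((U : X.Opens) : Set X)) hx
      ((U : X.Opens).2.preimage f.continuous)
  haveI : UniversallyOpen f := inferInstance
  obtain ⟨h, hhW, hyh⟩ := U.2.exists_basicOpen_le
    (V := ⟨f '' (W₀ : Set Y), f.isOpenMap _ W₀.2⟩) ⟨f y, ⟨y, hyW, rfl⟩⟩ hx
  refine ⟨⟨X.basicOpen h, U.2.basicOpen h⟩, hyh, X.basicOpen_le h,
    ⟨Y.basicOpen (f.appLE (U : X.Opens) W₀ hWU h), hW₀.basicOpen _⟩, ?_⟩
  show f.base '' (Y.basicOpen (f.appLE (U : X.Opens) W₀ hWU h) : Set Y) = (X.basicOpen h : Set X)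
  rw [Scheme.basicOpen_appLE]
  apply Set.Subset.antisymm
  · rintro _ ⟨z, ⟨-, hz⟩, rfl⟩; exact hz
  · intro t ht
    obtain ⟨z, hz, rfl⟩ := hhW ht
    exact ⟨z, ⟨hz, ht⟩, rfl⟩

end Groth.Agent.S19571
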