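-- statement Lie3Mod.GrothFrozen.S19574 (Groth/Statements/S19574.lean; the theorem Lie3Mod.flat_of_finite_flat_resolution_exact_after_quotients);
import Groth.Statements.S19574
import Mathlib.LinearAlgebra.TensorProduct.Quotient
import Mathlib.RingTheory.Flat.Tensor
import Mathlib.Algebra.Homology.ShortComplex.ModuleCat
import Mathlib.LinearAlgebra.TensorProduct.RightExactness

set_option autoImplicit false
universe u
open CategoryTheory MonoidalCategory
open Lie3Mod

namespace Groth.Agent.S19574

/-- Let R be a commutative ring and d ≥ 1. Let K be a chain complex of R-modules concentrated in degrees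
0, …, d + 1, written … → 0 → P_{d+1} → P_d → … → P_1 → M with M = K_0, which is exact (so 0 →
P_{d+1} → … → P_1 → M → 0 is an exact sequence), such that P_1, …, P_d are flat R-modules and such
that for every ideal I of R the complex obtained by applying (R/I) ⊗_R − termwise is again exact.
Then M is a flat R-module. (No flatness is assumed for P_{d+1}. The published lemma adds that for R
Noetherian it suffices to test prime ideals I; that refinement is not part of this statement.) -/
theorem result (R : Type u) [CommRing R]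
    (d : ℕ) (hd : 1 ≤ d) (K : ChainComplex (ModuleCat.{u} R) ℕ)
    (hzero : ∀ i : ℕ, d + 1 < i → Limits.IsZero (K.X i))
    (hflat : ∀ i : ℕ, 1 ≤ i → i ≤ d → Module.Flat R (K.X i))
    (hK : K.Acyclic)
    (hbc : ∀ I : Ideal R,
      (((tensorLeft (ModuleCat.of R (R ⧸ I))).mapHomologicalComplex (ComplexShape.down ℕ)).obj K).Acyclic) :
    Module.Flat R (K.X 0) := by
  haveI := hflat 1 le_rfl hd
  haveI : Module.Flat R (K.X 1) := hflat 1 le_rfl hd
  have hk : ((K.sc' 2 1 0)).Exact := (HomologicalComplex.exactAt_iff' K 2 1 0 (by simp) (by simp)).1 (hK 1)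
  have hsurj : Function.Surjective (K.d 1 0).hom := by
    have h0 : ((K.sc' 1 0 0)).Exact := (HomologicalComplex.exactAt_iff' K 1 0 0 (by simp) (by simp)).1 (hK 0)
    rw [ShortComplex.moduleCat_exact_iff] at h0
    intro x
    obtain ⟨y, hy⟩ := h0 x (by show (K.d 0 0).hom x = 0; rw [K.shape 0 0 (by simp)]; rfl)
    exact ⟨y, hy⟩
  rw [ShortComplex.moduleCat_exact_iff] at hk
  rw [Module.Flat.iff_rTensor_injective']
  intro I
  have hI : ∀ x : K.X 1, (K.d 1 0).hom x = 0 → x ∈ I • (⊤ : Submodule R (K.X 1)) →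
      x ∈ Submodule.map (K.d 2 1).hom (I • ⊤) := by
    intro x hx hxI
    obtain ⟨y, rfl⟩ : ∃ y : K.X 2, (K.d 2 1).hom y = x := hk x hx
    have e : (((tensorLeft (ModuleCat.of R (R ⧸ I))).mapHomologicalComplex (ComplexShape.down ℕ)).obj K).ExactAt 2 := hbc I 2
    rw [HomologicalComplex.exactAt_iff' _ 3 2 1 (by simp) (by simp), ShortComplex.moduleCat_exact_iff] at e
    obtain ⟨w, hw⟩ := e ((Ideal.Quotient.mk I 1) ⊗ₜ[R] y) (by
      show (Ideal.Quotient.mk I 1) ⊗ₜ[R] ((K.d 2 1).hom y) = 0
      apply (TensorProduct.quotTensorEquivQuotSMul (K.X 1) I).injective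
      rw [map_zero, TensorProduct.quotTensorEquivQuotSMul_mk_tmul, one_smul]
      exact (Submodule.Quotient.mk_eq_zero _).2 hxI)
    have hgen : ∀ v : TensorProduct R (R ⧸ I) (K.X 3), ∃ u : K.X 3,
        v = (Ideal.Quotient.mk I 1) ⊗ₜ[R] u := fun v => by
      obtain ⟨u, hu⟩ := Submodule.Quotient.mk_surjective _ (TensorProduct.quotTensorEquivQuotSMul (K.X 3) I v)
      refine ⟨u, (TensorProduct.quotTensorEquivQuotSMul (K.X 3) I).injective ?_⟩
      rw [TensorProduct.quotTensorEquivQuotSMul_mk_tmul, one_smul, hu]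
    obtain ⟨u, hu⟩ := hgen w
    subst hu
    have hdiff : y - (K.d 3 2).hom u ∈ I • (⊤ : Submodule R (K.X 2)) := by
      have h2 := congrArg (TensorProduct.quotTensorEquivQuotSMul (K.X 2) I) hw
      change TensorProduct.quotTensorEquivQuotSMul (K.X 2) I ((Ideal.Quotient.mk I 1) ⊗ₜ[R] ((K.d 3 2).hom u)) = _ at h2
      erw [TensorProduct.quotTensorEquivQuotSMul_mk_tmul, TensorProduct.quotTensorEquivQuotSMul_mk_tmul] at h2
      simp only [one_smul, Submodule.Quotient.eq] at h2
      have := Submodule.neg_mem _ h2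
      rwa [neg_sub] at this
    refine ⟨_, hdiff, ?_⟩
    have hdd : (K.d 2 1).hom ((K.d 3 2).hom u) = 0 := by
      rw [← LinearMap.comp_apply, ← ModuleCat.hom_comp, K.d_comp_d]; rfl
    show (K.d 2 1).hom (y - (K.d 3 2).hom u) = (K.d 2 1).hom y
    rw [map_sub, hdd, sub_zero]
  rw [injective_iff_map_eq_zero]
  intro z hz
  obtain ⟨y, rfl⟩ := LinearMap.lTensor_surjective _ hsurj z
  have h1 : (TensorProduct.lid R (K.X 1)) (I.subtype.rTensor _ y) ∈ I • (⊤ : Submodule R (K.X 1)) := by
    clear hz
    induction y with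
    | zero => simp
    | tmul a b => simpa using Submodule.smul_mem_smul a.2 (Submodule.mem_top : b ∈ ⊤)
    | add a b ha hb => simp only [map_add]; exact Submodule.add_mem _ ha hb
  have h2 : (K.d 1 0).hom ((TensorProduct.lid R (K.X 1)) (I.subtype.rTensor _ y)) = 0 := by
    have := congrArg (TensorProduct.lid R (K.X 0)) hz
    rw [map_zero] at this
    rw [← this]
    clear hz this h1
    induction y with
    | zero => simp
    | tmul a b => simp
    | add a b ha hb => simp only [map_add, ha, hb]
  obtain ⟨v, hv, hv'⟩ := hI _ h2 h1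
  obtain ⟨t, rfl⟩ : ∃ t : TensorProduct R I (K.X 2), TensorProduct.lid R (K.X 2) (I.subtype.rTensor _ t) = v := by
    clear hv'
    refine Submodule.smul_induction_on hv (fun a ha b _ => ⟨⟨a, ha⟩ ⊗ₜ b, by simp⟩) ?_
    rintro _ _ ⟨t, rfl⟩ ⟨t', rfl⟩
    exact ⟨t + t', by simp only [map_add]⟩
  have hy : y = (K.d 2 1).hom.lTensor I t := by
    apply Module.Flat.rTensor_preserves_injective_linearMap (M := K.X 1) I.subtype Subtype.val_injective
    apply (TensorProduct.lid R (K.X 1)).injective
    rw [← hv']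
    clear hv hv'
    induction t with
    | zero => simp
    | tmul a b => simp
    | add a b ha hb => simp only [map_add, ha, hb]
  rw [hy, ← LinearMap.comp_apply, ← LinearMap.lTensor_comp, ← ModuleCat.hom_comp, K.d_comp_d]
  simp

end Groth.Agent.S19574
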