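import Groth.Statements.S19575
import Groth.Agent.EtaLib.Away

set_option autoImplicit false
universe u
open EtaPt

namespace Groth.Agent.S19575

/-- Let η be the field-endofunctor datum of the pointwise construction, A a commutative ring with
finitely many minimal prime ideals and φ : A → B a ring map inducing a surjection on prime spectra.
If the canonical map A → (B/A)_η (the corestriction of φ onto the subring of B of elements whose
image in ∏_q F(k(q)) comes from M_η(A)) is bijective, then for every f ∈ A the canonical map A_f →
(B_f/A_f)_η attached to the localized map A_f → B_{φ(f)} is bijective as well. -/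
theorem result (η : EtaPt.FieldEndo.{u}) {A B : Type u} [CommRing A] [CommRing B]
    (hA : (minimalPrimes A).Finite) (φ : A →+* B) (hs : Function.Surjective (PrimeSpectrum.comap φ))
    (h : Function.Bijective (η.qRel φ)) (f : A) :
    Function.Bijective (η.qRel (Localization.awayMap φ f)) := by
  obtain ⟨i, s⟩ := (EtaLib.qRel_bijective_iff η φ).mp h
  have hc : ∀ a, Localization.awayMap φ f (algebraMap A (Localization.Away f) a) = algebraMap B (Localization.Away (φ f)) (φ a) :=
    fun a => IsLocalization.map_eq _ a
  refine (EtaLib.qRel_bijective_iff η _).mpr ⟨?_, fun y hy => ?_⟩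
  · rw [injective_iff_map_eq_zero]
    intro y hy
    obtain ⟨k, a, ha⟩ := IsLocalization.Away.surj f y
    have h0 : algebraMap B (Localization.Away (φ f)) (φ a) = 0 := by rw [← hc, ← ha, map_mul, hy, zero_mul]
    obtain ⟨⟨_, m, rfl⟩, hm⟩ := (IsLocalization.map_eq_zero_iff (Submonoid.powers (φ f)) _ _).mp h0
    have hm' : φ (f ^ m * a) = φ 0 := by rw [map_mul, map_pow, map_zero]; exact hm
    have h1 : algebraMap A (Localization.Away f) a = 0 :=
      (IsLocalization.map_eq_zero_iff (Submonoid.powers f) _ _).mpr ⟨⟨_, m, rfl⟩, i hm'⟩
    rw [h1] at ha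
    exact (((IsLocalization.Away.algebraMap_isUnit (S := Localization.Away f) f).pow k).mul_left_eq_zero).mp ha
  · obtain ⟨x, hx, n, hn⟩ := EtaLib.exists_rel_away η hA φ f y hy
    obtain ⟨a, rfl⟩ := s x hx
    obtain ⟨z, hz⟩ := ((IsLocalization.Away.algebraMap_isUnit (S := Localization.Away f) f).pow n).exists_right_inv
    refine ⟨algebraMap A (Localization.Away f) a * z, ?_⟩
    have hz' := congrArg (Localization.awayMap φ f) hz
    rw [map_mul, map_pow, hc, map_one] at hz'
    rw [map_mul, hc, ← hn, mul_assoc, hz', mul_one]

end Groth.Agent.S19575
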