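import Groth.Statements.S19576
import Groth.Agent.EtaLib.Away
import Mathlib.RingTheory.Ideal.Operations

set_option autoImplicit false
universe u
open EtaPt

namespace Groth.Agent.S19576

/-- Let η be the field-endofunctor datum of the pointwise construction, A a commutative ring with
finitely many minimal prime ideals and φ : A → B a ring map inducing a surjection on prime spectra.
If finitely many elements f_1, …, f_n of A generate the unit ideal and, for each i, the canonical
map A_{f_i} → (B_{f_i}/A_{f_i})_η attached to the localized map A_{f_i} → B_{φ(f_i)} is bijective,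
then the canonical map A → (B/A)_η is bijective. -/
theorem result (η : EtaPt.FieldEndo.{u}) {A B : Type u} [CommRing A] [CommRing B]
    (hA : (minimalPrimes A).Finite) (φ : A →+* B) (hs : Function.Surjective (PrimeSpectrum.comap φ))
    (s : Finset A) (hspan : Ideal.span (s : Set A) = ⊤)
    (h : ∀ f ∈ s, Function.Bijective (η.qRel (Localization.awayMap φ f))) :
    Function.Bijective (η.qRel φ) := by
  have hc : ∀ f a, Localization.awayMap φ f (algebraMap A (Localization.Away f) a) = algebraMap B (Localization.Away (φ f)) (φ a) :=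
    fun f a => IsLocalization.map_eq _ a
  refine (EtaLib.qRel_bijective_iff η φ).mpr ⟨?_, fun b hb => ?_⟩
  · rw [injective_iff_map_eq_zero]
    intro a ha
    have hI : (⊥ : Ideal A).colon ({a} : Set A) = ⊤ := by
      rw [eq_top_iff]
      choose m hm using fun f : s => show ∃ m : ℕ, (f : A) ^ m * a = 0 from by
        obtain ⟨⟨_, m, rfl⟩, hm⟩ := (IsLocalization.map_eq_zero_iff (Submonoid.powers (f : A)) (Localization.Away (f : A)) a).mp
          (((EtaLib.qRel_bijective_iff η _).mp (h f f.2)).1 (by rw [hc, ha, map_zero, map_zero]))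
        exact ⟨m, hm⟩
      refine (Ideal.span_range_pow_eq_top (s : Set A) hspan m).ge.trans (Ideal.span_le.mpr ?_)
      rintro _ ⟨f, rfl⟩
      simp [Submodule.mem_colon_singleton, hm f]
    have h1 : (1 : A) ∈ (⊥ : Ideal A).colon ({a} : Set A) := hI ▸ Submodule.mem_top
    simpa [Submodule.mem_colon_singleton] using h1
  · obtain ⟨I, hI⟩ : ∃ I : Ideal A, ∀ r, r ∈ I ↔ ∃ c, φ c = φ r * b :=
      ⟨{ carrier := {r | ∃ c, φ c = φ r * b}
         add_mem' := fun ⟨c, hc⟩ ⟨d, hd⟩ => ⟨c + d, by rw [map_add, map_add, hc, hd, add_mul]⟩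
         zero_mem' := ⟨0, by simp⟩
         smul_mem' := fun r x ⟨c, hc⟩ => ⟨r * c, by rw [map_mul, hc, smul_eq_mul, map_mul, mul_assoc]⟩ },
        fun r => Iff.rfl⟩
    have key : ∀ f : s, ∃ m : ℕ, (f : A) ^ m ∈ I := fun f => by
      obtain ⟨-, hs'⟩ := (EtaLib.qRel_bijective_iff η _).mp (h f f.2)
      obtain ⟨y, hy⟩ := hs' (algebraMap B _ b) (EtaLib.mem_rel_of_square η φ (algebraMap A (Localization.Away (f : A)))
        (algebraMap B (Localization.Away (φ f))) _ (IsLocalization.map_comp _) hb)
      obtain ⟨k, a, ha⟩ := IsLocalization.Away.surj (f : A) y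
      have h1 := congrArg (Localization.awayMap φ (f : A)) ha
      rw [map_mul, map_pow, hc, hc, hy, ← map_pow, ← map_mul] at h1
      obtain ⟨⟨_, m, rfl⟩, hm⟩ := IsLocalization.exists_of_eq (M := Submonoid.powers (φ f)) h1
      refine ⟨m + k, (hI _).mpr ⟨(f : A) ^ m * a, ?_⟩⟩
      rw [map_mul, map_pow, map_pow, ← hm]
      ring
    choose m hm using key
    have h1 : (1 : A) ∈ I := by
      have : Ideal.span (Set.range fun f : s => (f : A) ^ m f) ≤ I :=
        Ideal.span_le.mpr (by rintro _ ⟨f, rfl⟩; exact hm f)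
      exact this ((Ideal.span_range_pow_eq_top (s : Set A) hspan m).ge Submodule.mem_top)
    obtain ⟨c, hc⟩ := (hI 1).mp h1
    exact ⟨c, by rw [hc, map_one, one_mul]⟩

end Groth.Agent.S19576
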