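import Groth.Statements.S19577
import Groth.Agent.EtaLib.Away

set_option autoImplicit false
universe u
open EtaPt

namespace Groth.Agent.S19577

/-- Let f : A → B be a homomorphism of commutative rings, each with only finitely many minimal primes.
Then M_η(f) : M_η(A) → M_η(B) is integral exactly when f is integral, and Spec M_η(f) is surjective
exactly when Spec f is. Here η is the field-endofunctor datum of the pointwise construction, M_η(A)
⊆ ∏_p F(k(p)) the subring attached to A with q_A : A → M_η(A), and M_η(f) : M_η(A) → M_η(B) the ring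
map induced by N_η(f), pinned here as the ring map g compatible with N_η(f) under the two subring
inclusions. -/
theorem result (η : EtaPt.FieldEndo.{u}) {A B : Type u} [CommRing A] [CommRing B]
    (hA : (minimalPrimes A).Finite) (hB : (minimalPrimes B).Finite) (f : A →+* B)
    (g : η.M A →+* η.M B) (hg : ∀ x : η.M A, ((g x : η.M B) : η.N B) = η.Nmap f (x : η.N A)) :
    (f.IsIntegral ↔ g.IsIntegral) ∧
      (Function.Surjective (PrimeSpectrum.comap f) ↔ Function.Surjective (PrimeSpectrum.comap g)) := by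
  have hc : g.comp (η.q A) = (η.q B).comp f :=
    RingHom.ext fun a => Subtype.ext ((hg _).trans (η.Nmap_t_apply f a))
  refine ⟨⟨fun hf => ?_, fun hgi b => ?_⟩, ?_⟩
  · refine RingHom.IsIntegral.tower_top (η.q A) g ?_
    rw [hc]
    exact hf.trans _ _ (EtaLib.isIntegral_q η hB)
  · obtain ⟨P, hP, hP0⟩ := ((EtaLib.isIntegral_q η hA).trans _ _ hgi) (η.q B b)
    rw [hc, ← Polynomial.hom_eval₂] at hP0
    obtain ⟨k, hk⟩ := EtaLib.isNilpotent_of_t_eq_zero η (congrArg Subtype.val hP0)
    exact ⟨P ^ k, hP.pow k, by rw [Polynomial.eval₂_pow, hk]⟩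
  · have h : ∀ Q, PrimeSpectrum.comap f (PrimeSpectrum.comap (η.q B) Q) =
        PrimeSpectrum.comap (η.q A) (PrimeSpectrum.comap g Q) := fun Q => by
      rw [← PrimeSpectrum.comap_comp_apply, ← hc]; rfl
    refine ⟨fun hf P => ?_, fun hgs p => ?_⟩
    · obtain ⟨q, hq⟩ := hf (PrimeSpectrum.comap (η.q A) P)
      obtain ⟨Q, rfl⟩ := (EtaLib.bijective_comap_q η hB).2 q
      exact ⟨Q, (EtaLib.bijective_comap_q η hA).1 ((h Q).symm.trans hq)⟩
    · obtain ⟨P, rfl⟩ := (EtaLib.bijective_comap_q η hA).2 p
      obtain ⟨Q, rfl⟩ := hgs P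
      exact ⟨_, h Q⟩

end Groth.Agent.S19577
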