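import Groth.Statements.S19578
import Groth.Agent.EtaLib.Away

set_option autoImplicit false
universe u
open EtaPt

namespace Groth.Agent.S19578

/-- Let f : A → B be a homomorphism of commutative rings, each with only finitely many minimal primes,
and suppose the induced map M_η(f) : M_η(A) → M_η(B) is an isomorphism. Then Spec f is a bijection
between the prime ideals of B and of A, and for every prime q of B, with p = f⁻¹(q), there is a ring
map φ : k(q) → F(k(p)) whose composite with the residue field map k(p) → k(q) equals η_{k(p)}. Here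
η is the field-endofunctor datum of the pointwise construction, M_η(A) ⊆ ∏_p F(k(p)) the subring
attached to A with q_A : A → M_η(A), and M_η(f) : M_η(A) → M_η(B) the ring map induced by N_η(f),
pinned here as the ring map g compatible with N_η(f) under the two subring inclusions. -/
theorem result (η : EtaPt.FieldEndo.{u}) {A B : Type u} [CommRing A] [CommRing B]
    (hA : (minimalPrimes A).Finite) (hB : (minimalPrimes B).Finite) (f : A →+* B)
    (g : η.M A →+* η.M B) (hg : ∀ x : η.M A, ((g x : η.M B) : η.N B) = η.Nmap f (x : η.N A))
    (hbij : Function.Bijective g) :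
    Function.Bijective (PrimeSpectrum.comap f) ∧
      ∀ Q : PrimeSpectrum B,
        ∃ φ : Q.asIdeal.ResidueField →+* η.obj (PrimeSpectrum.comap f Q).asIdeal.ResidueField,
          φ.comp (Ideal.ResidueField.map (PrimeSpectrum.comap f Q).asIdeal Q.asIdeal f rfl) =
            η.eta (PrimeSpectrum.comap f Q).asIdeal.ResidueField := by
  have hc : g.comp (η.q A) = (η.q B).comp f :=
    RingHom.ext fun a => Subtype.ext ((hg _).trans (η.Nmap_t_apply f a))
  let e := RingEquiv.ofBijective g hbij
  have hb : Function.Bijective (PrimeSpectrum.comap f) := by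
    have h1 : Function.Bijective (PrimeSpectrum.comap f ∘ PrimeSpectrum.comap (η.q B)) := by
      have : PrimeSpectrum.comap f ∘ PrimeSpectrum.comap (η.q B) =
          PrimeSpectrum.comap (η.q A) ∘ PrimeSpectrum.comap g := funext fun Q => by
        rw [Function.comp_apply, Function.comp_apply, ← PrimeSpectrum.comap_comp_apply, ← hc]; rfl
      rw [this]
      exact (EtaLib.bijective_comap_q η hA).comp (PrimeSpectrum.comapEquiv e).symm.bijective
    exact (EtaLib.bijective_comap_q η hB).of_comp_iff _ |>.mp h1
  refine ⟨hb, fun Q => ?_⟩
  have hψ : ((EtaLib.evM η (PrimeSpectrum.comap f Q)).comp (e.symm.toRingHom.comp (η.q B))).comp f =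
      (η.eta _).comp (algebraMap A (PrimeSpectrum.comap f Q).asIdeal.ResidueField) := RingHom.ext fun a => by
    have : e.symm (η.q B (f a)) = η.q A a := e.injective
      ((e.apply_symm_apply _).trans (RingHom.congr_fun hc a).symm)
    show EtaLib.evM η _ (e.symm (η.q B (f a))) = _
    rw [this]
    exact RingHom.congr_fun (EtaLib.evM_comp_q η _) a
  refine EtaLib.exists_factor_res f Q ((EtaLib.evM η (PrimeSpectrum.comap f Q)).comp (e.symm.toRingHom.comp (η.q B))) ?_ _ hψ
  refine congrArg PrimeSpectrum.asIdeal (hb.1 (a₁ := EtaLib.pt _) (a₂ := Q) (PrimeSpectrum.ext ?_))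
  show (RingHom.ker _).comap f = _
  rw [RingHom.comap_ker, hψ, ← RingHom.comap_ker,
    (RingHom.injective_iff_ker_eq_bot _).mp (η.eta (PrimeSpectrum.comap f Q).asIdeal.ResidueField).injective]
  exact (PrimeSpectrum.comap f Q).asIdeal.ker_algebraMap_residueField

end Groth.Agent.S19578
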