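import Groth.Statements.S1959
import Mathlib

set_option autoImplicit false
universe u
open Polynomial
open EtAlg

namespace Groth.Agent.S1959

/-- Let I be an ideal of a ring A, A -> B an integral ring map and b an element of B whose image in B/IB
is idempotent. Then there are d ≥ 1 and a monic polynomial f over A with f(b) = 0 whose reduction
modulo I is x^d (x - 1)^d. -/
theorem result (A B : Type u) [CommRing A] [CommRing B] [Algebra A B]
    [Algebra.IsIntegral A B] (I : Ideal A) (b : B)
    (hb : IsIdempotentElem (Ideal.Quotient.mk (I.map (algebraMap A B)) b)) :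
    ∃ (f : A[X]) (d : ℕ), f.Monic ∧ 1 ≤ d ∧ aeval b f = 0 ∧
      f.map (Ideal.Quotient.mk I) = X ^ d * (X - 1) ^ d := by
  obtain ⟨g, hg, he, hc⟩ := exists_monic_aeval_eq_zero_forall_mem_of_mem_map (R := A) (I := I) (x := b * b - b)
    (by rw [← Ideal.Quotient.eq_zero_iff_mem, map_sub, map_mul, hb, sub_self])
  let q : A[X] := X * (X - 1)
  have hq : q.Monic := monic_X.mul (by simpa using monic_X_sub_C (1 : A))
  refine ⟨g.comp q * q, g.natDegree + 1, ?_, Nat.le_add_left 1 _, ?_, ?_⟩
  · rcases subsingleton_or_nontrivial A with h | h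
    · exact Subsingleton.elim _ _
    refine (hg.comp hq ?_).mul hq
    rw [monic_X.natDegree_mul (by simpa using monic_X_sub_C (1 : A)), natDegree_X,
      show (X - 1 : A[X]) = X - C 1 by rw [C_1], natDegree_X_sub_C]
    omega
  · rw [map_mul, aeval_comp]
    have hbq : aeval b q = b * b - b := by simp [q, mul_sub]
    rw [hbq, he, zero_mul]
  · have hg' : g.map (Ideal.Quotient.mk I) = X ^ g.natDegree := by
      ext i
      rw [coeff_map, coeff_X_pow]
      split_ifs with hi
      · rw [hi, show g.coeff g.natDegree = 1 from hg, map_one]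
      · exact Ideal.Quotient.eq_zero_iff_mem.2 (hc i hi)
    rw [Polynomial.map_mul, map_comp, hg', X_pow_comp, ← mul_pow (X : (A ⧸ I)[X]), pow_succ]
    simp [q]

end Groth.Agent.S1959
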