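import Groth.Statements.S19591
import Mathlib

set_option autoImplicit false
universe u v
open BddFin

namespace Groth.Agent.S19591

/-- Let K be a perfect field of characteristic 2, V a finite-dimensional K-vector space with dim V > 2
and q a quadratic form on V whose polar bilinear form is non-degenerate. Then q represents zero
non-trivially. (Non-degeneracy of the polar form, which is alternating in characteristic 2, forces
dim V to be even, as the published lemma notes.) -/
theorem result
    (K : Type u) [Field K] [CharP K 2] [PerfectField K]
    (V : Type v) [AddCommGroup V] [Module K V] [FiniteDimensional K V]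
    (hV : 2 < Module.finrank K V) (q : QuadraticForm K V)
    (hq : (QuadraticMap.polarBilin q).Nondegenerate) :
    ∃ v : V, v ≠ 0 ∧ q v = 0 := by
  obtain ⟨v, hv⟩ : ∃ v : V, v ≠ 0 := by
    haveI : Nontrivial V := Module.nontrivial_of_finrank_pos (R := K) (by omega)
    exact exists_ne 0
  by_cases hv0 : q v = 0
  · exact ⟨v, hv, hv0⟩
  let W := LinearMap.ker (QuadraticMap.polarBilin q v)
  have hW : ¬ W ≤ Submodule.span K {v} := by
    intro hle
    have h1 := Submodule.finrank_mono hle
    rw [finrank_span_singleton hv] at h1
    have h2 := LinearMap.finrank_range_add_finrank_ker (QuadraticMap.polarBilin q v)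
    have h3 := Submodule.finrank_le (LinearMap.range (QuadraticMap.polarBilin q v))
    rw [Module.finrank_self] at h3
    change _ + Module.finrank K W = _ at h2
    omega
  obtain ⟨w, hw, hwv⟩ := SetLike.not_le_iff_exists.1 hW
  haveI : ExpChar K 2 := ExpChar.prime Nat.prime_two
  obtain ⟨a, ha⟩ := (PerfectRing.bijective_frobenius (R := K) (p := 2)).2 (-(q w) / q v)
  simp only at ha
  refine ⟨a • v + w, fun h => hwv ?_, ?_⟩
  · rw [eq_neg_of_add_eq_zero_right h]
    exact neg_mem (Submodule.smul_mem _ _ (Submodule.mem_span_singleton_self v))
  · have hp : QuadraticMap.polar q v w = 0 := hw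
    rw [QuadraticMap.map_add (f := ⇑q), QuadraticMap.map_smul, QuadraticMap.polar_smul_left, hp,
      smul_zero, add_zero, smul_eq_mul, ← pow_two, ha, div_mul_cancel₀ _ hv0, neg_add_cancel]

end Groth.Agent.S19591
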