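import Groth.Statements.S19595
import Mathlib
import Groth.Agent.NodeAlgLib.Length

set_option autoImplicit false
universe u
open ArLef

namespace Groth.Agent.S19595

/-- In the case of a smooth point lying on the divisorial part of the fixed locus with multiplicity i
strictly between 0 and j, let B be a discrete valuation ring with uniformizer π and residue field k,
B[[t]] the complete local ring of a semi-stable arithmetic surface over B at a point x where the
closed fibre is smooth, and σ a ring automorphism of B[[t]] with σ(π) = π + γ π^j (γ a unit of B, j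
≥ 1) and σ(b) - b ∈ π^j B[[t]] for all b ∈ B (σ lies over an automorphism τ of B with v(τ(π) - π) =
j). Suppose σ(t) - t = π^i f with 0 < i < j and π not dividing f, so that the fixed-point ideal I of
σ is (π^j, π^i f) and its divisorial part near x is the closed fibre with multiplicity i. Then the
residual fixed-point scheme, with ideal (I : π^i), has length (j - i) m at x, where m is the length
of k[[t]]/(f mod π) (the order at x of the derivation induced by σ on the closed fibre). -/
theorem result (B : Type u) [CommRing B] [IsDomain B] [IsDiscreteValuationRing B] (π : B) (hπ : Irreducible π)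
    (j i : ℕ) (hi : 0 < i) (hij : i < j) (γ : B) (hγ : IsUnit γ)
    (σ : PowerSeries B ≃+* PowerSeries B)
    (hσB : ∀ b : B, σ (algebraMap B (PowerSeries B) b) - algebraMap B (PowerSeries B) b ∈
      Ideal.span ({algebraMap B (PowerSeries B) (π ^ j)} : Set (PowerSeries B)))
    (hσπ : σ (algebraMap B (PowerSeries B) π) = algebraMap B (PowerSeries B) (π + γ * π ^ j))
    (f : PowerSeries B) (hf : σ PowerSeries.X - PowerSeries.X = algebraMap B (PowerSeries B) (π ^ i) * f)
    (hfπ : ¬ (algebraMap B (PowerSeries B) π ∣ f)) :
    Module.length (PowerSeries B) (PowerSeries B ⧸ (ArLef.fixIdeal σ).colon ({algebraMap B (PowerSeries B) (π ^ i)} : Set (PowerSeries B))) =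
      ((j - i : ℕ) : ℕ∞) * Module.length (PowerSeries (IsLocalRing.ResidueField B)) (PowerSeries (IsLocalRing.ResidueField B) ⧸
        Ideal.span ({PowerSeries.map (IsLocalRing.residue B) f} : Set (PowerSeries (IsLocalRing.ResidueField B)))) := by
  classical
  let p := algebraMap B (PowerSeries B)
  obtain ⟨s, rfl⟩ : ∃ s, j = i + s := ⟨j - i, by omega⟩
  have hI : ArLef.fixIdeal σ = Ideal.span {p π ^ i} * Ideal.span {p π ^ s, f} := by
    rw [Ideal.span_mul_span', Set.singleton_mul, Set.image_pair, ← pow_add]
    refine le_antisymm (NodeAlgLib.fixIdeal_powerSeries_le (σ : PowerSeries B →+* PowerSeries B) _ (fun b => ?_) ?_) ?_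
    · refine Ideal.span_le.mpr ?_ (hσB b)
      rintro x rfl
      rw [map_pow]; exact Ideal.subset_span (by simp [p])
    · show σ PowerSeries.X - PowerSeries.X ∈ _
      rw [hf, map_pow]; exact Ideal.subset_span (by simp [p])
    · refine Ideal.span_le.mpr ?_
      rintro x (rfl | rfl)
      · rw [SetLike.mem_coe, ← Ideal.unit_mul_mem_iff_mem _ (hγ.map p), show p γ * p π ^ (i + s) = σ (p π) - p π by
          simp only [p]; rw [hσπ, map_add, map_mul, map_pow]; ring]
        exact Ideal.subset_span ⟨_, rfl⟩
      · exact Ideal.subset_span ⟨PowerSeries.X, by simp only [p]; rw [hf, map_pow]⟩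
  have hne : p π ^ i ≠ 0 := pow_ne_zero _ fun h => hπ.ne_zero (by simpa [p] using congrArg PowerSeries.constantCoeff h)
  rw [show algebraMap B (PowerSeries B) (π ^ i) = p π ^ i from map_pow _ _ _,
    NodeAlgLib.colon_mul_eq (p π ^ i) (fun x h => (mul_eq_zero.mp h).resolve_left hne) _ (Ideal.span {p π ^ s, f}) (fun x => by
      rw [hI, Ideal.mem_span_singleton_mul]; exact ⟨fun ⟨y, hy, h⟩ => ⟨y, hy, h.symm⟩, fun ⟨y, hy, h⟩ => ⟨y, hy, h.symm⟩⟩),
    Nat.add_sub_cancel_left]
  exact NodeAlgLib.length_pi_pow hπ f hfπ s

end Groth.Agent.S19595
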