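import Groth.Statements.S19596
import Mathlib
import Groth.Agent.NodeAlgLib.Length

set_option autoImplicit false
universe u
open ArLef ArLef.NodeAlg

namespace Groth.Agent.S19596

/-- In the cases where σ fixes the two branches through the point, these lie on different components,
and the second branch lies in the divisorial part of the fixed locus with multiplicity i₂ strictly
between 0 and j while the first has multiplicity i₁ ≤ i₂, let B be a discrete valuation ring with
uniformizer π, N = B[[t, e]]/(te - π) the complete local ring of a semi-stable arithmetic surface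
over B at a singular point x of the closed fibre, and σ a ring automorphism of N with σ(π) = π + γ
π^j (γ a unit of B, j ≥ 1) and σ(c) - c ∈ π^j N for all c ∈ B. Suppose σ(t) = α t and σ(e) = β e
with units α, β, and α - 1 = t^{i₁} e^{i₂} a, β - 1 = t^{i₁} e^{i₂} b with i₁ ≤ i₂, 0 < i₂ < j, e
not dividing a and t not dividing b. Then, I being the fixed-point ideal of σ, whose divisorial part
near x is t^{i₁} e^{i₂}, the residual fixed-point scheme with ideal (I : t^{i₁} e^{i₂}) has length 1
+ (j - i₁)·Leng N/(t, b) + (j - i₂)·Leng N/(e, a) at x; here Leng N/(t, b) + i₂ + 1 and Leng N/(e,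
a) + i₁ + 1 are the orders at x of the derivations σ induces on the two components (the fixed-point
multiplicities when the component is outside the divisorial part). -/
theorem result (B : Type u) [CommRing B] [IsDomain B] [IsDiscreteValuationRing B] (π : B) (hπ : Irreducible π)
    (j i₁ i₂ : ℕ) (h12 : i₁ ≤ i₂) (h2 : 0 < i₂) (h2j : i₂ < j) (γ : B) (hγ : IsUnit γ)
    (σ : ArLef.NodeAlg B π ≃+* ArLef.NodeAlg B π)
    (hσB : ∀ c : B, σ (algebraMap B (ArLef.NodeAlg B π) c) - algebraMap B (ArLef.NodeAlg B π) c ∈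
      Ideal.span ({algebraMap B (ArLef.NodeAlg B π) (π ^ j)} : Set (ArLef.NodeAlg B π)))
    (hσπ : σ (algebraMap B (ArLef.NodeAlg B π) π) = algebraMap B (ArLef.NodeAlg B π) (π + γ * π ^ j))
    (α β : (ArLef.NodeAlg B π)ˣ) (ht : σ (ArLef.NodeAlg.t π) = (α : ArLef.NodeAlg B π) * ArLef.NodeAlg.t π) (he : σ (ArLef.NodeAlg.e π) = (β : ArLef.NodeAlg B π) * ArLef.NodeAlg.e π)
    (a b : ArLef.NodeAlg B π) (ha : (α : ArLef.NodeAlg B π) - 1 = ArLef.NodeAlg.t π ^ i₁ * ArLef.NodeAlg.e π ^ i₂ * a) (hb : (β : ArLef.NodeAlg B π) - 1 = ArLef.NodeAlg.t π ^ i₁ * ArLef.NodeAlg.e π ^ i₂ * b)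
    (hea : ¬ (ArLef.NodeAlg.e π ∣ a)) (htb : ¬ (ArLef.NodeAlg.t π ∣ b)) :
    Module.length (ArLef.NodeAlg B π) (ArLef.NodeAlg B π ⧸ (ArLef.fixIdeal σ).colon ({ArLef.NodeAlg.t π ^ i₁ * ArLef.NodeAlg.e π ^ i₂} : Set (ArLef.NodeAlg B π))) =
      1 + ((j - i₁ : ℕ) : ℕ∞) * Module.length (ArLef.NodeAlg B π) (ArLef.NodeAlg B π ⧸ Ideal.span ({ArLef.NodeAlg.t π, b} : Set (ArLef.NodeAlg B π))) +
        ((j - i₂ : ℕ) : ℕ∞) * Module.length (ArLef.NodeAlg B π) (ArLef.NodeAlg B π ⧸ Ideal.span ({ArLef.NodeAlg.e π, a} : Set (ArLef.NodeAlg B π))) := by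
  classical
  haveI := NodeAlgLib.isDomain_quot hπ
  haveI := NodeAlgLib.isLocalRing hπ
  let p := algebraMap B (ArLef.NodeAlg B π)
  let t := ArLef.NodeAlg.t π
  let e := ArLef.NodeAlg.e π
  have hte : t * e = p π := NodeAlgLib.te π
  have rt := fun f (h : ¬ t ∣ f) => NodeAlgLib.prime_regular_mod (NodeAlgLib.prime_t hπ) (fun x => NodeAlgLib.regular_t hπ (x := x)) h
  have re := fun f (h : ¬ e ∣ f) => NodeAlgLib.prime_regular_mod (NodeAlgLib.prime_e hπ) (fun x => NodeAlgLib.regular_e hπ (x := x)) h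
  let L := fun u v : ArLef.NodeAlg B π => Module.length (ArLef.NodeAlg B π) (ArLef.NodeAlg B π ⧸ Ideal.span {u, v})
  have Lc : ∀ u v, L u v = L v u := fun u v => by simp only [L]; rw [Set.pair_comm]
  have Le : ∀ {u v u' v'}, Ideal.span {u, v} = Ideal.span {u', v'} → L u v = L u' v' := fun h => by simp only [L]; rw [h]
  have h4 : L t e = 1 := by
    refine Module.length_eq_one_iff.mpr (isSimpleModule_iff_isCoatom.mpr (Ideal.isMaximal_def.mp ?_))
    rw [show Ideal.span {t, e} = IsLocalRing.maximalIdeal (ArLef.NodeAlg B π) from Ideal.ext fun z => by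
      rw [IsLocalRing.mem_maximalIdeal, mem_nonunits_iff, NodeAlgLib.isUnit_iff hπ, not_not]]
    exact IsLocalRing.maximalIdeal.isMaximal _
  have hreg : ∀ (m l : ℕ) (x : ArLef.NodeAlg B π), t ^ m * e ^ l * x = 0 → x = 0 := by
    intro m
    induction m with
    | zero =>
      intro l
      induction l with
      | zero => intro x hx; simpa using hx
      | succ l ih => intro x hx; exact ih x (NodeAlgLib.regular_e hπ (by linear_combination hx))
    | succ m ih => intro l x hx; exact ih l x (NodeAlgLib.regular_t hπ (by linear_combination hx))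
  have h0 : σ t * σ e = p (π + γ * π ^ j) := by rw [← map_mul σ, hte, hσπ]
  obtain ⟨s, rfl⟩ : ∃ s, j = i₂ + s + 1 := ⟨j - i₂ - 1, by omega⟩
  obtain ⟨r, rfl⟩ : ∃ r, i₂ = i₁ + r := ⟨i₂ - i₁, by omega⟩
  let q : ArLef.NodeAlg B π := t ^ (r + s) * e ^ s
  let D : ArLef.NodeAlg B π := t ^ i₁ * e ^ (i₁ + r)
  have hDreg : ∀ x, D * x = 0 → x = 0 := hreg _ _
  have hq : D * q = p π ^ (i₁ + r + s) := by rw [← hte, mul_pow]; simp only [D, q]; ring
  have hab : (α : ArLef.NodeAlg B π) * b = p γ * q - a := by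
    refine sub_eq_zero.mp (hDreg _ (NodeAlgLib.regular_pi hπ ?_))
    simp only [p, t, e, map_add, map_mul, map_pow] at h0 hte hq ⊢
    rw [ht, he] at h0
    simp only [D, t, e] at hq ⊢
    linear_combination h0 - ((α : ArLef.NodeAlg B π) * β) * hte - (algebraMap B _ π * α) * hb - (algebraMap B _ π) * ha - (algebraMap B _ π * algebraMap B _ γ) * hq
  let J : Ideal (ArLef.NodeAlg B π) := Ideal.span {e * b, t * a}
  have hJe : e * b ∈ J := Ideal.subset_span (by simp)
  have hJt : t * a ∈ J := Ideal.subset_span (by simp)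
  have htD : D * (t * a) = σ t - t := by simp only [D, t, e]; rw [ht]; linear_combination (-ArLef.NodeAlg.t π) * ha
  have heD : D * (e * b) = σ e - e := by simp only [D, t, e]; rw [he]; linear_combination (-ArLef.NodeAlg.e π) * hb
  have hpD : D * (t * e * q) = p (π ^ (i₁ + r + s + 1)) := by rw [map_pow, pow_succ, ← hq, ← hte]; ring
  have hpJ : t * e * q ∈ J := by
    rw [← Ideal.unit_mul_mem_iff_mem _ (hγ.map p)]
    have h := add_mem (Ideal.mul_mem_left J ((α : ArLef.NodeAlg B π) * t) hJe) (Ideal.mul_mem_left J e hJt)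
    convert h using 1
    linear_combination (-(t * e)) * hab
  have hI : ∀ x, x ∈ ArLef.fixIdeal σ ↔ ∃ y ∈ J, x = D * y := by
    have hle : ArLef.fixIdeal σ ≤ Ideal.span {D} * J := by
      refine NodeAlgLib.fixIdeal_le hπ (σ : ArLef.NodeAlg B π →+* ArLef.NodeAlg B π) _ (fun c => ?_) ?_ ?_
      · show σ (p c) - p c ∈ _
        refine Ideal.span_le.mpr ?_ (hσB c)
        rintro x rfl
        exact Ideal.mem_span_singleton_mul.mpr ⟨_, hpJ, hpD⟩
      · exact Ideal.mem_span_singleton_mul.mpr ⟨_, hJt, htD⟩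
      · exact Ideal.mem_span_singleton_mul.mpr ⟨_, hJe, heD⟩
    have hge : Ideal.span {D} * J ≤ ArLef.fixIdeal σ := by
      rw [Ideal.span_mul_span', Set.singleton_mul, Set.image_pair, Ideal.span_le]
      rintro x (rfl | rfl)
      · rw [show D * _ = _ from heD]; exact Ideal.subset_span ⟨e, rfl⟩
      · rw [show D * _ = _ from htD]; exact Ideal.subset_span ⟨t, rfl⟩
    intro x
    rw [le_antisymm hle hge, Ideal.mem_span_singleton_mul]
    exact ⟨fun ⟨y, hy, h⟩ => ⟨y, hy, h.symm⟩, fun ⟨y, hy, h⟩ => ⟨y, hy, h.symm⟩⟩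
  rw [NodeAlgLib.colon_mul_eq D hDreg _ J hI]
  have h1 : L (e * b) (t * a) = L (e * b) t + L (e * b) a :=
    NodeAlgLib.length_pair_mul _ _ _ (rt _ fun h => ((NodeAlgLib.prime_t hπ).dvd_or_dvd h).elim (NodeAlgLib.not_t_dvd_e hπ) htb)
  have h2' : L t (e * b) = L t e + L t b := NodeAlgLib.length_pair_mul _ _ _ (re _ (NodeAlgLib.not_e_dvd_t hπ))
  have h3 : L a (e * b) = L a e + L a b := NodeAlgLib.length_pair_mul _ _ _ (re _ hea)
  have h5 : L a b = L a q := by
    refine Le (le_antisymm (Ideal.span_le.mpr ?_) (Ideal.span_le.mpr ?_))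
    · rintro x (rfl | rfl)
      · exact Ideal.subset_span (by simp)
      · rw [SetLike.mem_coe, ← Ideal.unit_mul_mem_iff_mem _ α.isUnit, hab]
        exact sub_mem (Ideal.mul_mem_left _ _ (Ideal.subset_span (by simp))) (Ideal.subset_span (by simp))
    · rintro x (rfl | rfl)
      · exact Ideal.subset_span (by simp)
      · rw [SetLike.mem_coe, ← Ideal.unit_mul_mem_iff_mem _ (hγ.map p), show p γ * q = (α : ArLef.NodeAlg B π) * b + a by rw [hab]; ring]
        exact add_mem (Ideal.mul_mem_left _ _ (Ideal.subset_span (by simp))) (Ideal.subset_span (by simp))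
  have h6 : L a q = ((r + s : ℕ) : ℕ∞) * L t b + (s : ℕ∞) * L a e := by
    rcases Nat.eq_zero_or_pos (r + s) with hz | hz
    · obtain ⟨rfl, rfl⟩ : r = 0 ∧ s = 0 := by omega
      simp only [q, add_zero, pow_zero, mul_one, Nat.cast_zero, zero_mul, L]
      rw [Module.length_eq_zero_iff, Ideal.Quotient.subsingleton_iff, Ideal.eq_top_iff_one]
      exact Ideal.subset_span (by simp)
    · obtain ⟨w, hw⟩ : t ∣ q := (dvd_pow_self _ (by omega)).mul_right _
      have hta : ¬ t ∣ a := fun h => by
        have : t ∣ (α : ArLef.NodeAlg B π) * b := hab ▸ dvd_sub ((Dvd.intro w hw.symm).mul_left _) h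
        exact htb ((IsUnit.dvd_mul_left α.isUnit).mp this)
      have eab : L a t = L t b := by
        refine Le (le_antisymm (Ideal.span_le.mpr ?_) (Ideal.span_le.mpr ?_))
        · rintro x (rfl | rfl)
          · exact Ideal.mem_span_pair.mpr ⟨p γ * w, -α, by linear_combination (-1 : ArLef.NodeAlg B π) * hab - p γ * hw⟩
          · exact Ideal.subset_span (by simp)
        · rintro x (rfl | rfl)
          · exact Ideal.subset_span (by simp)
          · rw [SetLike.mem_coe, ← Ideal.unit_mul_mem_iff_mem _ α.isUnit]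
            exact Ideal.mem_span_pair.mpr ⟨-1, p γ * w, by linear_combination -hab - p γ * hw⟩
      have hsplit : L a q = L a (t ^ (r + s)) + L a (e ^ s) :=
        NodeAlgLib.length_pair_mul _ _ _ fun x hx => by
          have h : ∀ m, a ∣ t ^ m * x → a ∣ x := fun m => by
            induction m with
            | zero => intro h; simpa using h
            | succ m ih => intro h; exact ih (rt a hta _ (by rwa [pow_succ', mul_assoc] at h))
          exact h _ hx
      rw [hsplit, show L a (t ^ (r + s)) = _ from NodeAlgLib.length_pair_pow a t (rt a hta) _,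
        show L a (e ^ s) = _ from NodeAlgLib.length_pair_pow a e (re a hea) s]
      show _ * L a t + _ * L a e = _
      rw [eab]
  show L (e * b) (t * a) = 1 + _ * L t b + _ * L e a
  rw [h1, Lc _ t, h2', Lc _ a, h3, h4, h5, h6, Lc e a,
    show i₁ + r + s + 1 - i₁ = r + s + 1 by omega, show i₁ + r + s + 1 - (i₁ + r) = s + 1 by omega]
  push_cast; ring

end Groth.Agent.S19596
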