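import Groth.Statements.S19597
import Mathlib
import Groth.Agent.NodeAlgLib.Length

set_option autoImplicit false
universe u
open ArLef ArLef.NodeAlg

namespace Groth.Agent.S19597

/-- In the cases where σ fixes the two branches through the point, these lie on different components,
the second lies in the divisorial part of the fixed locus with the maximal multiplicity j and the
first with multiplicity i₁ < j, let B be a discrete valuation ring with uniformizer π, N = B[[t,
e]]/(te - π) the complete local ring of a semi-stable arithmetic surface over B at a singular point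
x of the closed fibre, and σ a ring automorphism of N with σ(π) = π + γ π^j (γ a unit of B, j ≥ 1)
and σ(c) - c ∈ π^j N for all c ∈ B. Suppose σ(t) = α t and σ(e) = β e with units α, β, that α - 1 =
t^{i₁} e^j a and β - 1 = t^{i₁} e^{j-1} b with i₁ < j and t not dividing b. Then, I being the
fixed-point ideal of σ, whose divisorial part near x is t^{i₁} e^j, the length l of the residual
fixed-point scheme with ideal (I : t^{i₁} e^j) satisfies l + (j - 1 - i₁) = (j - i₁)·Leng N/(t, b);
for i₁ = 0, Leng N/(t, b) + j is the fixed-point multiplicity s₁ of σ at x on the first component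
and l = j (s₁ - j - 1) + 1. -/
theorem result (B : Type u) [CommRing B] [IsDomain B] [IsDiscreteValuationRing B] (π : B) (hπ : Irreducible π)
    (j i₁ : ℕ) (h1 : i₁ < j) (γ : B) (hγ : IsUnit γ)
    (σ : ArLef.NodeAlg B π ≃+* ArLef.NodeAlg B π)
    (hσB : ∀ c : B, σ (algebraMap B (ArLef.NodeAlg B π) c) - algebraMap B (ArLef.NodeAlg B π) c ∈
      Ideal.span ({algebraMap B (ArLef.NodeAlg B π) (π ^ j)} : Set (ArLef.NodeAlg B π)))
    (hσπ : σ (algebraMap B (ArLef.NodeAlg B π) π) = algebraMap B (ArLef.NodeAlg B π) (π + γ * π ^ j))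
    (α β : (ArLef.NodeAlg B π)ˣ) (ht : σ (ArLef.NodeAlg.t π) = (α : ArLef.NodeAlg B π) * ArLef.NodeAlg.t π) (he : σ (ArLef.NodeAlg.e π) = (β : ArLef.NodeAlg B π) * ArLef.NodeAlg.e π)
    (a b : ArLef.NodeAlg B π) (ha : (α : ArLef.NodeAlg B π) - 1 = ArLef.NodeAlg.t π ^ i₁ * ArLef.NodeAlg.e π ^ j * a) (hb : (β : ArLef.NodeAlg B π) - 1 = ArLef.NodeAlg.t π ^ i₁ * ArLef.NodeAlg.e π ^ (j - 1) * b)
    (htb : ¬ (ArLef.NodeAlg.t π ∣ b)) :
    Module.length (ArLef.NodeAlg B π) (ArLef.NodeAlg B π ⧸ (ArLef.fixIdeal σ).colon ({ArLef.NodeAlg.t π ^ i₁ * ArLef.NodeAlg.e π ^ j} : Set (ArLef.NodeAlg B π))) + ((j - 1 - i₁ : ℕ) : ℕ∞) =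
      ((j - i₁ : ℕ) : ℕ∞) * Module.length (ArLef.NodeAlg B π) (ArLef.NodeAlg B π ⧸ Ideal.span ({ArLef.NodeAlg.t π, b} : Set (ArLef.NodeAlg B π))) := by
  classical
  haveI := NodeAlgLib.isDomain_quot hπ
  haveI := NodeAlgLib.isLocalRing hπ
  let p := algebraMap B (ArLef.NodeAlg B π)
  let t := ArLef.NodeAlg.t π
  let e := ArLef.NodeAlg.e π
  have hte : t * e = p π := NodeAlgLib.te π
  have rt := fun f (h : ¬ t ∣ f) => NodeAlgLib.prime_regular_mod (NodeAlgLib.prime_t hπ) (fun x => NodeAlgLib.regular_t hπ (x := x)) h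
  have re := fun f (h : ¬ e ∣ f) => NodeAlgLib.prime_regular_mod (NodeAlgLib.prime_e hπ) (fun x => NodeAlgLib.regular_e hπ (x := x)) h
  let L := fun u v : ArLef.NodeAlg B π => Module.length (ArLef.NodeAlg B π) (ArLef.NodeAlg B π ⧸ Ideal.span {u, v})
  have Lc : ∀ u v, L u v = L v u := fun u v => by simp only [L]; rw [Set.pair_comm]
  have Le : ∀ {u v u' v'}, Ideal.span {u, v} = Ideal.span {u', v'} → L u v = L u' v' := fun h => by simp only [L]; rw [h]
  have h4 : L t e = 1 := by
    refine Module.length_eq_one_iff.mpr (isSimpleModule_iff_isCoatom.mpr (Ideal.isMaximal_def.mp ?_))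
    rw [show Ideal.span {t, e} = IsLocalRing.maximalIdeal (ArLef.NodeAlg B π) from Ideal.ext fun z => by
      rw [IsLocalRing.mem_maximalIdeal, mem_nonunits_iff, NodeAlgLib.isUnit_iff hπ, not_not]]
    exact IsLocalRing.maximalIdeal.isMaximal _
  have hreg : ∀ (m l : ℕ) (x : ArLef.NodeAlg B π), t ^ m * e ^ l * x = 0 → x = 0 := by
    intro m
    induction m with
    | zero =>
      intro l
      induction l with
      | zero => intro x hx; simpa using hx
      | succ l ih => intro x hx; exact ih x (NodeAlgLib.regular_e hπ (by linear_combination hx))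
    | succ m ih => intro l x hx; exact ih l x (NodeAlgLib.regular_t hπ (by linear_combination hx))
  have h0 : σ t * σ e = p (π + γ * π ^ j) := by rw [← map_mul σ, hte, hσπ]
  obtain ⟨q, rfl⟩ : ∃ q, j = i₁ + q + 1 := ⟨j - i₁ - 1, by omega⟩
  rw [show i₁ + q + 1 - 1 = i₁ + q by omega] at hb
  let D : ArLef.NodeAlg B π := t ^ i₁ * e ^ (i₁ + q + 1)
  have hDreg : ∀ x, D * x = 0 → x = 0 := hreg _ _
  have hq : t ^ i₁ * e ^ (i₁ + q) * t ^ q = p π ^ (i₁ + q) := by rw [← hte, mul_pow]; ring
  have hab : (α : ArLef.NodeAlg B π) * b = p γ * t ^ q - e * a := by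
    refine sub_eq_zero.mp (hreg i₁ (i₁ + q) _ (NodeAlgLib.regular_pi hπ ?_))
    simp only [p, t, e, map_add, map_mul, map_pow] at h0 hte hq ⊢
    rw [ht, he] at h0
    linear_combination h0 - ((α : ArLef.NodeAlg B π) * β) * hte - (algebraMap B _ π * α) * hb - (algebraMap B _ π) * ha - (algebraMap B _ π * algebraMap B _ γ) * hq
  let J : Ideal (ArLef.NodeAlg B π) := Ideal.span {b, t * a}
  have hJe : b ∈ J := Ideal.subset_span (by simp)
  have hJt : t * a ∈ J := Ideal.subset_span (by simp)
  have htD : D * (t * a) = σ t - t := by simp only [D, t, e]; rw [ht]; linear_combination (-ArLef.NodeAlg.t π) * ha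
  have heD : D * b = σ e - e := by simp only [D, t, e]; rw [he]; linear_combination (-ArLef.NodeAlg.e π) * hb
  have hpD : D * t ^ (q + 1) = p (π ^ (i₁ + q + 1)) := by rw [map_pow, pow_succ, ← hte, mul_pow]; simp only [D]; ring
  have hpJ : t ^ (q + 1) ∈ J := by
    rw [← Ideal.unit_mul_mem_iff_mem _ (hγ.map p)]
    have h := add_mem (Ideal.mul_mem_left J ((α : ArLef.NodeAlg B π) * t) hJe) (Ideal.mul_mem_left J e hJt)
    convert h using 1
    linear_combination (-t) * hab
  have hI : ∀ x, x ∈ ArLef.fixIdeal σ ↔ ∃ y ∈ J, x = D * y := by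
    have hle : ArLef.fixIdeal σ ≤ Ideal.span {D} * J := by
      refine NodeAlgLib.fixIdeal_le hπ (σ : ArLef.NodeAlg B π →+* ArLef.NodeAlg B π) _ (fun c => ?_) ?_ ?_
      · show σ (p c) - p c ∈ _
        refine Ideal.span_le.mpr ?_ (hσB c)
        rintro x rfl
        exact Ideal.mem_span_singleton_mul.mpr ⟨_, hpJ, hpD⟩
      · exact Ideal.mem_span_singleton_mul.mpr ⟨_, hJt, htD⟩
      · exact Ideal.mem_span_singleton_mul.mpr ⟨_, hJe, heD⟩
    have hge : Ideal.span {D} * J ≤ ArLef.fixIdeal σ := by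
      rw [Ideal.span_mul_span', Set.singleton_mul, Set.image_pair, Ideal.span_le]
      rintro x (rfl | rfl)
      · rw [show D * _ = _ from heD]; exact Ideal.subset_span ⟨e, rfl⟩
      · rw [show D * _ = _ from htD]; exact Ideal.subset_span ⟨t, rfl⟩
    intro x
    rw [le_antisymm hle hge, Ideal.mem_span_singleton_mul]
    exact ⟨fun ⟨y, hy, h⟩ => ⟨y, hy, h.symm⟩, fun ⟨y, hy, h⟩ => ⟨y, hy, h.symm⟩⟩
  rw [NodeAlgLib.colon_mul_eq D hDreg _ J hI]
  show L b (t * a) + _ = _ * L t b
  have h1' : L b (t * a) = L b t + L b a := NodeAlgLib.length_pair_mul _ _ _ (rt _ htb)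
  have h5 : L b a = L a (t ^ q) := by
    rw [Lc b a]
    refine Le (le_antisymm (Ideal.span_le.mpr ?_) (Ideal.span_le.mpr ?_))
    · rintro x (rfl | rfl)
      · exact Ideal.subset_span (by simp)
      · rw [SetLike.mem_coe, ← Ideal.unit_mul_mem_iff_mem _ α.isUnit, hab]
        exact sub_mem (Ideal.mul_mem_left _ _ (Ideal.subset_span (by simp))) (Ideal.mul_mem_left _ _ (Ideal.subset_span (by simp)))
    · rintro x (rfl | rfl)
      · exact Ideal.subset_span (by simp)
      · rw [SetLike.mem_coe, ← Ideal.unit_mul_mem_iff_mem _ (hγ.map p), show p γ * t ^ q = (α : ArLef.NodeAlg B π) * b + e * a by rw [hab]; ring]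
        exact add_mem (Ideal.mul_mem_left _ _ (Ideal.subset_span (by simp))) (Ideal.mul_mem_left _ _ (Ideal.subset_span (by simp)))
  rw [show i₁ + q + 1 - 1 - i₁ = q by omega, show i₁ + q + 1 - i₁ = q + 1 by omega, h1', h5, Lc b t]
  rcases Nat.eq_zero_or_pos q with hz | hz
  · subst hz
    have : L a (t ^ 0) = 0 := by
      simp only [pow_zero, L]
      rw [Module.length_eq_zero_iff, Ideal.Quotient.subsingleton_iff, Ideal.eq_top_iff_one]
      exact Ideal.subset_span (by simp)
    rw [this]; simp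
  · obtain ⟨w, hw⟩ : t ∣ t ^ q := dvd_pow_self _ (by omega)
    have hta : ¬ t ∣ a := fun h => by
      have : t ∣ (α : ArLef.NodeAlg B π) * b := hab ▸ dvd_sub ((Dvd.intro w hw.symm).mul_left _) (h.mul_left _)
      exact htb ((IsUnit.dvd_mul_left α.isUnit).mp this)
    have eab : L t b = L t (e * a) := by
      refine Le (le_antisymm (Ideal.span_le.mpr ?_) (Ideal.span_le.mpr ?_))
      · rintro x (rfl | rfl)
        · exact Ideal.subset_span (by simp)
        · rw [SetLike.mem_coe, ← Ideal.unit_mul_mem_iff_mem _ α.isUnit]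
          exact Ideal.mem_span_pair.mpr ⟨p γ * w, -1, by linear_combination -hab - p γ * hw⟩
      · rintro x (rfl | rfl)
        · exact Ideal.subset_span (by simp)
        · exact Ideal.mem_span_pair.mpr ⟨p γ * w, -α, by linear_combination -hab - p γ * hw⟩
    rw [eab, show L t (e * a) = L t e + L t a from NodeAlgLib.length_pair_mul _ _ _ (re _ (NodeAlgLib.not_e_dvd_t hπ)),
      h4, show L a (t ^ q) = _ from NodeAlgLib.length_pair_pow a t (rt a hta) q]
    show _ + _ * L a t + _ = _
    rw [Lc a t]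
    push_cast; ring

end Groth.Agent.S19597
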