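import Groth.Statements.S19606
import Groth.Agent.Devissage.Sub

set_option autoImplicit false
universe u
open CategoryTheory CategoryTheory.Limits AlgebraicGeometry
open ClSub

namespace Groth.Agent.S19606

set_option backward.isDefEq.respectTransparency false
open CategoryTheory CategoryTheory.Limits Groth.Agent.QCohBase

/-- Let X be a scheme and I₁, I₂ quasi-coherent ideal sheaves with I₁ ⊓ I₂ = 0, cutting out closed
subschemes X₁, X₂ and X₁ ∩ X₂ (ideal I₁ + I₂). Then 0 → O_X → O_X/I₁ ⊕ O_X/I₂ → O_X/(I₁ + I₂) → 0 is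
an exact sequence of O_X-modules, the maps being the two restrictions and the difference of the
restrictions q₁, q₂ (the module maps compatible with the quotient maps from O_X). The published
statement is for a locally free sheaf E on a reduced scheme with two irreducible components X₁, X₂
(whose ideals meet in zero); this row is the case E = O_X for any two ideals with zero intersection,
which is what the local argument uses. -/
theorem result (X : Scheme.{u}) (I₁ I₂ : X.IdealSheafData)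
    (h : I₁ ⊓ I₂ = ⊥)
    (q₁ : ClSub.quotMod I₁ ⟶ ClSub.quotMod (I₁ ⊔ I₂)) (q₂ : ClSub.quotMod I₂ ⟶ ClSub.quotMod (I₁ ⊔ I₂))
    (hq₁ : ClSub.toSubscheme I₁ ≫ q₁ = ClSub.toSubscheme (I₁ ⊔ I₂))
    (hq₂ : ClSub.toSubscheme I₂ ≫ q₂ = ClSub.toSubscheme (I₁ ⊔ I₂)) :
    Epi (biprod.desc q₁ (-q₂)) ∧
      ∃ w : biprod.lift (ClSub.toSubscheme I₁) (ClSub.toSubscheme I₂) ≫ biprod.desc q₁ (-q₂) = 0,
        Nonempty (IsLimit (KernelFork.ofι (biprod.lift (ClSub.toSubscheme I₁) (ClSub.toSubscheme I₂)) w)) := by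
  let p₁ : ClSub.quotMod I₁ ⊞ ClSub.quotMod I₂ ⟶ ClSub.quotMod I₁ := biprod.fst
  let p₂ : ClSub.quotMod I₁ ⊞ ClSub.quotMod I₂ ⟶ ClSub.quotMod I₂ := biprod.snd
  let f := biprod.lift (ClSub.toSubscheme I₁) (ClSub.toSubscheme I₂)
  let g := biprod.desc q₁ (-q₂)
  haveI : (modAb X).Faithful := inferInstanceAs (SheafOfModules.toSheaf X.ringCatSheaf).Faithful
  haveI : Epi (ClSub.toSubscheme (I₁ ⊔ I₂)) := by
    haveI : Epi ((modAb X).map (ClSub.toSubscheme (I₁ ⊔ I₂))) :=
      isLocallySurjective_of_basis _ {V | IsAffineOpen V} X.isBasis_affineOpens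
        fun V hV => (I₁ ⊔ I₂).subschemeι.app_surjective V hV
    exact (modAb X).epi_of_epi_map this
  haveI : Epi q₁ := epi_of_epi_fac hq₁
  have hepi : Epi g := epi_of_epi_fac (show biprod.inl ≫ g = q₁ from biprod.inl_desc _ _)
  have w : f ≫ g = 0 := by simp [f, g, hq₁, hq₂]
  have hk : ∀ (J : X.IdealSheafData) (V : X.affineOpens) (r : Γ(Coh.structureModule X, V.1)),
      (ClSub.toSubscheme J).app V.1 r = 0 ↔ (show Γ(X, V.1) from r) ∈ J.ideal V := by
    intro J V r
    rw [← J.ker_subschemeι_app V, RingHom.mem_ker]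
    rfl
  have hsurj : ∀ (J : X.IdealSheafData) (V : X.affineOpens), Function.Surjective ((ClSub.toSubscheme J).app V.1) :=
    fun J V => J.subschemeι.app_surjective V.1 V.2
  haveI : Mono f := by
    refine Preadditive.mono_of_cancel_zero _ fun {P} k hk0 => ?_
    refine Devissage.hom_ext_affine _ _ fun V hV t => ?_
    have h0 : f.app V (k.app V t) = 0 := by
      change (k ≫ f).app V t = 0
      rw [hk0]; rfl
    have h1 := congrArg ((biprod.fst : ClSub.quotMod I₁ ⊞ ClSub.quotMod I₂ ⟶ _).app V) h0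
    have h2 := congrArg ((biprod.snd : ClSub.quotMod I₁ ⊞ ClSub.quotMod I₂ ⟶ _).app V) h0
    rw [map_zero] at h1 h2
    have e1 : (ClSub.toSubscheme I₁).app V (k.app V t) = 0 := by
      rw [← biprod.lift_fst (ClSub.toSubscheme I₁) (ClSub.toSubscheme I₂)]; exact h1
    have e2 : (ClSub.toSubscheme I₂).app V (k.app V t) = 0 := by
      rw [← biprod.lift_snd (ClSub.toSubscheme I₁) (ClSub.toSubscheme I₂)]; exact h2
    have hmem : (show Γ(X, V) from k.app V t) ∈ (I₁ ⊓ I₂).ideal ⟨V, hV⟩ := by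
      rw [Scheme.IdealSheafData.ideal_inf]
      exact ⟨(hk I₁ ⟨V, hV⟩ _).1 e1, (hk I₂ ⟨V, hV⟩ _).1 e2⟩
    rw [h, Scheme.IdealSheafData.ideal_bot] at hmem
    exact (show k.app V t = 0 from hmem).trans rfl
  let T := ShortComplex.mk (kernel.ι g) g (kernel.condition g)
  let l : Coh.structureModule X ⟶ kernel g := kernel.lift g f w
  haveI : Mono l := mono_of_mono_fac (kernel.lift_ι g f w)
  haveI : Epi l := by
    haveI : Epi ((modAb X).map l) := by
      refine isLocallySurjective_of_basis _ {V | IsAffineOpen V} X.isBasis_affineOpens fun V hV t => ?_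
      let x := (kernel.ι g).app V t
      obtain ⟨r, hr⟩ := hsurj I₁ ⟨V, hV⟩ ((biprod.fst : ClSub.quotMod I₁ ⊞ ClSub.quotMod I₂ ⟶ _).app V x)
      obtain ⟨s, hs⟩ := hsurj I₂ ⟨V, hV⟩ ((biprod.snd : ClSub.quotMod I₁ ⊞ ClSub.quotMod I₂ ⟶ _).app V x)
      have hg : g.app V x = 0 := by
        change (kernel.ι g ≫ g).app V t = 0
        rw [kernel.condition]; rfl
      have hgd : g = biprod.fst ≫ q₁ - biprod.snd ≫ q₂ := by
        apply biprod.hom_ext' <;> simp [g]
      rw [hgd] at hg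
      change q₁.app V (p₁.app V x) - q₂.app V (p₂.app V x) = 0 at hg
      have h12 : (ClSub.toSubscheme (I₁ ⊔ I₂)).app V (r - s) = 0 := by
        rw [map_sub]
        nth_rw 1 [← hq₁]
        nth_rw 1 [← hq₂]
        change q₁.app V ((ClSub.toSubscheme I₁).app V r) - q₂.app V ((ClSub.toSubscheme I₂).app V s) = 0
        rw [hr, hs]; exact hg
      have hm := (hk (I₁ ⊔ I₂) ⟨V, hV⟩ _).1 h12
      rw [Scheme.IdealSheafData.ideal_sup, Pi.sup_apply] at hm
      obtain ⟨i, hi, j, hj, hij⟩ := Submodule.mem_sup.1 hm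
      let i' : Γ(Coh.structureModule X, V) := i
      have hrs : r - i' = s + (show Γ(Coh.structureModule X, V) from j) := by
        have e : r - s = i' + (show Γ(Coh.structureModule X, V) from j) := hij.symm
        linear_combination (norm := abel) e
      refine ⟨r - i', app_injective_of_mono (kernel.ι g) V ?_⟩
      change (l ≫ kernel.ι g).app V (r - i') = x
      rw [kernel.lift_ι]
      have e1 : (f ≫ biprod.fst).app V (r - i') = p₁.app V x := by
        rw [biprod.lift_fst, map_sub, (hk I₁ ⟨V, hV⟩ i').2 hi, sub_zero, hr]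
      have e2 : (f ≫ biprod.snd).app V (r - i') = p₂.app V x := by
        rw [biprod.lift_snd, hrs, map_add, (hk I₂ ⟨V, hV⟩ _).2 hj, add_zero, hs]
      have tot : ∀ z, z = (biprod.inl : _ ⟶ ClSub.quotMod I₁ ⊞ ClSub.quotMod I₂).app V ((biprod.fst : ClSub.quotMod I₁ ⊞ ClSub.quotMod I₂ ⟶ _).app V z) +
          (biprod.inr : _ ⟶ ClSub.quotMod I₁ ⊞ ClSub.quotMod I₂).app V ((biprod.snd : ClSub.quotMod I₁ ⊞ ClSub.quotMod I₂ ⟶ _).app V z) := fun z => by
        change z = (biprod.fst ≫ biprod.inl + biprod.snd ≫ biprod.inr : _ ⟶ ClSub.quotMod I₁ ⊞ ClSub.quotMod I₂).app V z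
        rw [biprod.total]; rfl
      rw [tot (f.app V (r - i')), tot x]
      exact congrArg₂ (fun a b => (biprod.inl : _ ⟶ ClSub.quotMod I₁ ⊞ ClSub.quotMod I₂).app V a + (biprod.inr : _ ⟶ ClSub.quotMod I₁ ⊞ ClSub.quotMod I₂).app V b) e1 e2
    exact (modAb X).epi_of_epi_map ‹_›
  haveI : IsIso l := isIso_of_mono_of_epi l
  exact ⟨hepi, w, ⟨IsLimit.ofIsoLimit (kernelIsKernel g)
    (Fork.ext (asIso l).symm (by simp [l, asIso_inv, kernel.lift_ι, IsIso.inv_comp_eq]; rfl))⟩⟩

end Groth.Agent.S19606
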