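import Groth.Statements.S19609
import Mathlib

set_option autoImplicit false
universe u
open CartMod

namespace Groth.Agent.S19609

/-- Let p be a prime and u : A → B a ring homomorphism between commutative rings which are complete and
separated for the p-adic topology and have no p-torsion (flat over the p-adic base). If u induces a
bijection A/pA → B/pB (injectivity: u a ∈ pB forces a ∈ pA; surjectivity: every b ∈ B is congruent
to some u a modulo pB), then u is bijective. (The published statement is for a morphism of flat
p-adic formal schemes over the Witt vectors of a perfect field: if its special fibre is an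
isomorphism, so is the morphism; this row is its affine, ring-level case.) -/
theorem result (p : ℕ) [Fact p.Prime]
    {A B : Type u} [CommRing A] [CommRing B]
    [IsAdicComplete (Ideal.span {(p : A)}) A] [IsAdicComplete (Ideal.span {(p : B)}) B]
    (hA : IsSMulRegular A (p : A)) (hB : IsSMulRegular B (p : B)) (u : A →+* B)
    (hinj : ∀ a : A, u a ∈ Ideal.span {(p : B)} → a ∈ Ideal.span {(p : A)})
    (hsurj : ∀ b : B, ∃ a : A, b - u a ∈ Ideal.span {(p : B)}) :
    Function.Bijective u := by
  let I := Ideal.span {(p : A)}
  let J := Ideal.span {(p : B)}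
  have memA : ∀ (n : ℕ) (a : A), a ∈ I ^ n • (⊤ : Submodule A A) ↔ (p : A) ^ n ∣ a := fun n a => by
    rw [smul_eq_mul, Ideal.mul_top, Ideal.span_singleton_pow, Ideal.mem_span_singleton]
  have memB : ∀ (n : ℕ) (b : B), b ∈ J ^ n • (⊤ : Submodule B B) ↔ (p : B) ^ n ∣ b := fun n b => by
    rw [smul_eq_mul, Ideal.mul_top, Ideal.span_singleton_pow, Ideal.mem_span_singleton]
  constructor
  · rw [injective_iff_map_eq_zero]
    intro a ha
    apply IsHausdorff.haus' (I := I) a
    intro n
    rw [SModEq.zero, memA]
    induction n generalizing a with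
    | zero => simp
    | succ n ih =>
      obtain ⟨a', rfl⟩ := Ideal.mem_span_singleton.1 (hinj a (by simp [ha]))
      rw [pow_succ']
      refine mul_dvd_mul_left _ (ih a' (hB ?_))
      simpa using ha
  · intro b
    have h : ∀ x : B, ∃ (a : A) (y : B), x = u a + (p : B) * y := fun x => by
      obtain ⟨a, ha⟩ := hsurj x
      obtain ⟨y, hy⟩ := Ideal.mem_span_singleton.1 ha
      exact ⟨a, y, by rw [← hy]; ring⟩
    choose g h hgh using h
    let a : ℕ → A := fun n => ∑ i ∈ Finset.range n, (p : A) ^ i * g (h^[i] b)
    have ha : ∀ n, b = u (a n) + (p : B) ^ n * h^[n] b := by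
      intro n
      induction n with
      | zero => simp [a]
      | succ n ih =>
        rw [show a (n + 1) = a n + (p : A) ^ n * g (h^[n] b) from Finset.sum_range_succ _ _,
          Function.iterate_succ_apply']
        conv_lhs => rw [ih, hgh (h^[n] b)]
        simp; ring
    obtain ⟨L, hL⟩ := IsPrecomplete.prec (I := I) inferInstance (f := a) (fun {m n} hmn => by
      rw [SModEq.sub_mem, memA]
      induction n, hmn using Nat.le_induction with
      | base => simp
      | succ k hk ih =>
        rw [show a (k + 1) = a k + (p : A) ^ k * g (h^[k] b) from Finset.sum_range_succ _ _,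
          show a m - (a k + (p : A) ^ k * g (h^[k] b)) = (a m - a k) - (p : A) ^ k * g (h^[k] b) by ring]
        exact dvd_sub ih (Dvd.dvd.mul_right (pow_dvd_pow _ hk) _))
    refine ⟨L, ?_⟩
    rw [← sub_eq_zero]
    apply IsHausdorff.haus' (I := J) (u L - b)
    intro n
    have := hL n
    rw [SModEq.sub_mem, memA] at this
    rw [SModEq.zero, memB]
    obtain ⟨c, hc⟩ := this
    refine ⟨-(u c) - h^[n] b, ?_⟩
    have hc' := congrArg u hc
    simp at hc'
    conv_lhs => rw [ha n]
    linear_combination -hc'

end Groth.Agent.S19609
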