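import Groth.Statements.S19610
import Groth.Agent.CAlgFlatTor.Basic

set_option autoImplicit false
universe u
open scoped TensorProduct
open CartMod

namespace Groth.Agent.S19610

/-- Let p be a prime and B a commutative algebra over the commutative ring A, both complete and
separated for the p-adic topology and both without p-torsion (flat over the p-adic base). If B/pB is
flat over A/pA, then B/p^nB is flat over A/p^nA for every n ≥ 1 (the quotients are written as base
changes (A/p^n) ⊗_A B). (The published statement is for a morphism of flat p-adic formal schemes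
over the Witt vectors of a perfect field: if its special fibre is flat, so are the induced morphisms
of schemes modulo every power of p; this row is its affine, ring-level case.) -/
theorem result (p : ℕ) [Fact p.Prime]
    {A B : Type u} [CommRing A] [CommRing B] [Algebra A B]
    [IsAdicComplete (Ideal.span {(p : A)}) A] [IsAdicComplete (Ideal.span {(p : B)}) B]
    (hA : IsSMulRegular A (p : A)) (hB : IsSMulRegular B (p : B))
    (h : Module.Flat (A ⧸ Ideal.span {(p : A)}) ((A ⧸ Ideal.span {(p : A)}) ⊗[A] B))
    (n : ℕ) (hn : 1 ≤ n) :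
    Module.Flat (A ⧸ (Ideal.span {(p : A)} ^ n)) ((A ⧸ (Ideal.span {(p : A)} ^ n)) ⊗[A] B) := by
  haveI := h
  refine Groth.Agent.CAlgFlatTor.flat_mod_pow ?_ n
  have hz : ∀ z : B ⊗[A] (Ideal.span {(p : A)}),
      ∃ b : B, z = b ⊗ₜ[A] (⟨(p : A), Ideal.mem_span_singleton_self _⟩ : Ideal.span {(p : A)}) := by
    intro z
    induction z using TensorProduct.induction_on with
    | zero => exact ⟨0, (TensorProduct.zero_tmul _ _).symm⟩
    | add x y hx hy =>
      obtain ⟨a, rfl⟩ := hx
      obtain ⟨b, rfl⟩ := hy
      exact ⟨a + b, (TensorProduct.add_tmul _ _ _).symm⟩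
    | tmul b i =>
      obtain ⟨i, hi⟩ := i
      obtain ⟨c, rfl⟩ := Ideal.mem_span_singleton'.1 hi
      refine ⟨c • b, ?_⟩
      rw [TensorProduct.smul_tmul]
      congr 1
  rw [injective_iff_map_eq_zero]
  intro z hz0
  obtain ⟨b, rfl⟩ := hz z
  have h1 := congrArg (TensorProduct.rid A B) hz0
  simp only [LinearMap.lTensor_tmul, Submodule.subtype_apply, TensorProduct.rid_tmul, map_zero] at h1
  have h2 : (p : B) * b = (p : B) * 0 := by
    rw [mul_zero, ← h1, Algebra.smul_def, map_natCast]
  have hb0 : b = 0 := hB h2
  rw [hb0, TensorProduct.zero_tmul]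

end Groth.Agent.S19610
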