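import Groth.Statements.S19611
import Groth.Agent.FrobUH.Basic
-- import your own Groth.Agent.* helpers here

set_option autoImplicit false
universe u
open CategoryTheory AlgebraicGeometry
open CartMod

namespace Groth.Agent.S19611

/-- For a prime p and a scheme Y of characteristic p, write Y♭ for the scheme-theoretic image of the
absolute Frobenius F_Y : Y → Y, i.e. the closed subscheme of Y defined by the sections of O_Y whose
p-th power vanishes, and Y → Y♭ for the canonical morphism through which F_Y factors. Then Y → Y♭ is
an epimorphism of schemes: two morphisms g₁, g₂ from Y♭ to a scheme Z with equal composites Y → Y♭ →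
Z are equal. (The published statement is for k-morphisms g₁, g₂ from Y♭ to a k-scheme Z over a
perfect field k of characteristic p, compared after Frobenius twist through Y → (Y♭)'; this row asks
right-cancellation against morphisms to every scheme Z, which is equivalent to it for k-morphisms.) -/
theorem result (p : ℕ) [Fact p.Prime] (Y : Scheme.{u}) [FrobSch.IsCharP Y p] :
    Epi (FrobSch.frob Y p).toImage := by
  haveI := Groth.Agent.FrobUH.isIntegralHom_frob Y p
  haveI : QuasiCompact (FrobSch.frob Y p) := inferInstance
  set f := FrobSch.frob Y p with hf
  have hb : f.toImage.base ≫ f.imageι.base = 𝟙 _ := by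
    rw [← Scheme.Hom.comp_base, f.toImage_imageι]
    exact FrobSch.frob_base Y p
  have hι : Function.Surjective f.imageι := fun y => ⟨f.toImage y, congrArg (fun q : Y.carrier ⟶ Y.carrier => q y) hb⟩
  have hind : Topology.IsInducing f.toImage := by
    refine Topology.IsInducing.of_comp f.toImage.continuous f.imageι.continuous ?_
    have : (f.imageι : _ → Y) ∘ f.toImage = id := funext fun y => congrArg (fun q : Y.carrier ⟶ Y.carrier => q y) hb
    rw [this]
    exact Topology.IsInducing.id
  have hsurj : Function.Surjective f.toImage := fun z =>
    ⟨f.imageι z, f.imageι.isEmbedding.injective (congrArg (fun q : Y.carrier ⟶ Y.carrier => q (f.imageι z)) hb)⟩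
  apply CategoryTheory.Functor.epi_of_epi_map (Scheme.forgetToLocallyRingedSpace)
  apply CategoryTheory.Functor.epi_of_epi_map (LocallyRingedSpace.forgetToSheafedSpace)
  apply SheafedSpace.epi_of_base_surjective_of_stalk_mono _ hsurj
  intro x
  apply ConcreteCategory.mono_of_injective
  haveI := TopCat.Presheaf.stalkPushforward.stalkPushforward_iso_of_isInducing CommRingCat hind Y.presheaf x
  exact ((ConcreteCategory.bijective_of_isIso
    (TopCat.Presheaf.stalkPushforward CommRingCat f.toImage.base Y.presheaf x)).1).comp
      (f.stalkFunctor_toImage_injective _)

end Groth.Agent.S19611
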