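import Groth.Statements.S19612
import Mathlib.RingTheory.WittVector.DiscreteValuationRing
import Mathlib

set_option autoImplicit false
universe u
open scoped TensorProduct
open CartMod

namespace Groth.Agent.S19612

/-- Let k be a perfect field of characteristic p, W = W(k) the ring of Witt vectors of k, and A a
commutative W-algebra which is complete and separated for the p-adic topology (an adic W-algebra).
Then flatness of A over W is equivalent to flatness of A/p^nA = (W/p^nW) ⊗_W A over W/p^nW for every
n ≥ 1. -/
theorem result (p : ℕ) [Fact p.Prime] (k : Type u) [Field k]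
    [CharP k p] [PerfectRing k p] (A : Type u) [CommRing A] [Algebra (WittVector p k) A]
    [IsAdicComplete (Ideal.span {(p : WittVector p k)}) A] :
    Module.Flat (WittVector p k) A ↔
      ∀ n : ℕ, 1 ≤ n →
        Module.Flat (WittVector p k ⧸ (Ideal.span {(p : WittVector p k)} ^ n))
          ((WittVector p k ⧸ (Ideal.span {(p : WittVector p k)} ^ n)) ⊗[WittVector p k] A) := by
  haveI := WittVector.isDiscreteValuationRing (p := p) (k := k)
  set W := WittVector p k
  set P : Ideal W := Ideal.span {(p : W)} with hP
  constructor
  · intro h n _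
    infer_instance
  · intro h
    have hirr : Irreducible (p : W) := WittVector.irreducible p
    have key : ∀ a : A, (p : W) • a = 0 → a = 0 := by
      intro a ha
      refine IsHausdorff.haus (I := P) inferInstance a fun n => ?_
      rw [SModEq.zero]
      haveI := h (n + 1) (Nat.succ_pos n)
      set Wn := W ⧸ P ^ (n + 1)
      set π : Wn := Ideal.Quotient.mk _ (p : W)
      have hex : Function.Exact (LinearMap.mulLeft Wn (π ^ n)) (LinearMap.mulLeft Wn π) := by
        intro x
        obtain ⟨x, rfl⟩ := Ideal.Quotient.mk_surjective x
        simp only [LinearMap.mulLeft_apply, Set.mem_range, π, ← map_pow, ← map_mul]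
        constructor
        · intro hc
          obtain ⟨c, hc⟩ : (p : W) ^ (n + 1) ∣ (p : W) * x := by
            have h := Ideal.Quotient.eq_zero_iff_mem.1 ((map_mul (Ideal.Quotient.mk (P ^ (n + 1))) _ _).trans hc)
            rwa [hP, Ideal.span_singleton_pow, Ideal.mem_span_singleton] at h
          rw [pow_succ', mul_assoc] at hc
          exact ⟨Ideal.Quotient.mk _ c,
            by rw [← map_mul, mul_left_cancel₀ hirr.ne_zero hc]⟩
        · rintro ⟨y, hy⟩
          obtain ⟨y, rfl⟩ := Ideal.Quotient.mk_surjective y
          rw [← map_mul, Ideal.Quotient.eq, Ideal.span_singleton_pow, Ideal.mem_span_singleton] at hy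
          have := (dvd_mul_of_dvd_right hy (p : W))
          rw [mul_sub, ← mul_assoc, ← pow_succ'] at this
          refine Ideal.Quotient.eq_zero_iff_mem.2 ?_
          rw [hP, Ideal.span_singleton_pow, Ideal.mem_span_singleton]
          exact (dvd_sub_right (dvd_mul_right _ _)).1 this
      have hL := Module.Flat.rTensor_exact (Wn ⊗[W] A) hex
      set e := TensorProduct.lid Wn (Wn ⊗[W] A)
      have he : ∀ (r : Wn) z, e ((LinearMap.mulLeft Wn r).rTensor _ z) = r • e z := fun r z => by
        induction z using TensorProduct.induction_on with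
        | zero => simp
        | add x y hx hy => simp only [map_add, hx, hy, smul_add]
        | tmul x y => simp [e, mul_smul]
      have h0 : π • ((1 : Wn) ⊗ₜ[W] a) = 0 := by
        change (algebraMap W Wn (p : W)) • _ = _
        rw [algebraMap_smul, ← TensorProduct.tmul_smul, ha, TensorProduct.tmul_zero]
      obtain ⟨y, hy⟩ := (hL (e.symm ((1 : Wn) ⊗ₜ[W] a))).1 (e.injective (by
        rw [he, LinearEquiv.apply_symm_apply, h0, map_zero]))
      have hy' := congrArg e hy
      rw [he, LinearEquiv.apply_symm_apply] at hy'
      obtain ⟨b, hb⟩ : ∃ b : A, e y = (1 : Wn) ⊗ₜ[W] b := by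
        generalize e y = z
        induction z using TensorProduct.induction_on with
        | zero => exact ⟨0, (TensorProduct.tmul_zero _ _).symm⟩
        | add x y hx hy =>
          obtain ⟨a, rfl⟩ := hx
          obtain ⟨b, rfl⟩ := hy
          exact ⟨a + b, (TensorProduct.tmul_add _ _ _).symm⟩
        | tmul x y =>
          obtain ⟨x, rfl⟩ := Ideal.Quotient.mk_surjective x
          exact ⟨x • y, by rw [TensorProduct.tmul_smul, TensorProduct.smul_tmul', ← Ideal.Quotient.algebraMap_eq, Algebra.algebraMap_eq_smul_one]⟩
      rw [hb, show π ^ n = algebraMap W Wn ((p : W) ^ n) from (map_pow (Ideal.Quotient.mk _) (p : W) n).symm, algebraMap_smul,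
        ← TensorProduct.tmul_smul] at hy'
      let ψ := TensorProduct.quotTensorEquivQuotSMul A (P ^ (n + 1))
      have h3 := congrArg ψ hy'
      simp only [ψ] at h3
      rw [show (1 : Wn) = Ideal.Quotient.mk _ 1 from rfl] at h3
      erw [TensorProduct.quotTensorEquivQuotSMul_mk_tmul, TensorProduct.quotTensorEquivQuotSMul_mk_tmul,
        one_smul, one_smul, Submodule.Quotient.eq] at h3
      have h4 : (p : W) ^ n • b ∈ (P ^ n) • (⊤ : Submodule W A) :=
        Submodule.smul_mem_smul (Ideal.pow_mem_pow (Ideal.mem_span_singleton_self _) n) trivial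
      have h5 := Submodule.smul_mono_left (N := (⊤ : Submodule W A)) (Ideal.pow_le_pow_right (Nat.le_succ n)) h3
      simpa using sub_mem h4 h5
    haveI : Module.IsTorsionFree W A := by
      refine ⟨fun r hr => ?_⟩
      obtain ⟨m, u, rfl⟩ := IsDiscreteValuationRing.eq_unit_mul_pow_irreducible hr.ne_zero hirr
      intro x y hxy
      simp only [mul_smul] at hxy
      have hxy' : (p : W) ^ m • x = (p : W) ^ m • y := u.isUnit.smul_left_cancel.1 hxy
      clear hxy hr
      induction m with
      | zero => simpa using hxy'
      | succ m ih =>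
        rw [pow_succ', mul_smul, mul_smul] at hxy'
        refine ih ?_
        exact sub_eq_zero.1 (key _ (by rw [smul_sub, hxy', sub_self]))
    infer_instance

end Groth.Agent.S19612
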