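import Groth.Statements.S19618
import Groth.Agent.ModPairLib.Image
import Mathlib.RingTheory.KrullDimension.Zero
-- import your own Groth.Agent.* helpers here

set_option autoImplicit false
universe u
open CategoryTheory CategoryTheory.Limits AlgebraicGeometry Opposite TopologicalSpace
open BlowUp

namespace Groth.Agent.S19618

/-- Let X be a locally Noetherian scheme, Y an effective Cartier divisor on X (a quasi-coherent ideal
sheaf which, near every point, is generated on some affine open by one nonzerodivisor; Y is its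
support) and Z a closed integral subscheme (a closed immersion i from an integral scheme with
generic point ξ). If Y and Z intersect properly — every point ζ of Y ∩ Z which is maximal under
generization inside Y ∩ Z satisfies dim O_{X,ζ} = codim(Y,X) + codim(Z,X), where codim(Y,X) is the
infimum over y ∈ Y of dim O_{X,y} and codim(Z,X) = dim O_{X,i(ξ)} — then Z is not contained in Y. -/
theorem result {X Z : Scheme.{u}}
    [IsLocallyNoetherian X] (𝓘 : X.IdealSheafData) (hY : BlowUp.IsEffCartierIdeal 𝓘)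
    (i : Z ⟶ X) [IsClosedImmersion i] [IsIntegral Z]
    (hprop : ∀ ζ : ↥X, ζ ∈ (𝓘.support : Set ↥X) ∩ Set.range i.base →
        (∀ ζ' : ↥X, ζ' ∈ (𝓘.support : Set ↥X) ∩ Set.range i.base → ζ' ⤳ ζ → ζ' = ζ) →
        ringKrullDim ↑(X.presheaf.stalk ζ) =
          (⨅ y : (𝓘.support : Set ↥X), ringKrullDim ↑(X.presheaf.stalk y.1)) +
            ringKrullDim ↑(X.presheaf.stalk (i (genericPoint ↥Z)))) :
    ¬ Set.range i.base ⊆ (𝓘.support : Set ↥X) := by
  intro hsub
  set ξ := i (genericPoint ↥Z)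
  have hξ : ξ ∈ (𝓘.support : Set ↥X) ∩ Set.range i.base := ⟨hsub ⟨_, rfl⟩, ⟨_, rfl⟩⟩
  have hmax := hprop ξ hξ fun ζ' hζ' h => by
    obtain ⟨z, hz⟩ := hζ'.2
    refine Inseparable.eq (inseparable_iff_specializes_and.2 ⟨h, ?_⟩)
    exact hz ▸ (genericPoint_specializes z).map i.continuous
  have hone : ∀ y : (𝓘.support : Set ↥X), (1 : WithBot ℕ∞) ≤ ringKrullDim ↑(X.presheaf.stalk y.1) := by
    rintro ⟨y, hy⟩
    obtain ⟨u, hu, huy⟩ := ModPairLib.exists_mem_interior_specializes hY y
    rw [ringKrullDim_stalk_eq_coheight]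
    refine WithBot.coe_le_coe.2 (Order.one_le_iff_pos.2 (Order.coheight_pos.2 ?_))
    intro hm
    have h' : u ⤳ y := huy
    have h'' : y ⤳ u := (Scheme.le_iff_specializes).1 (hm ((Scheme.le_iff_specializes).2 huy))
    exact hu ((inseparable_iff_specializes_and.2 ⟨h', h''⟩).eq ▸ hy)
  obtain ⟨n, hn⟩ : ∃ n : ℕ, ringKrullDim ↑(X.presheaf.stalk ξ) = (n : WithBot ℕ∞) := by
    obtain ⟨m, hm⟩ := WithBot.ne_bot_iff_exists.1 (ringKrullDim_ne_bot (R := ↑(X.presheaf.stalk ξ)))
    obtain ⟨n, rfl⟩ := ENat.ne_top_iff_exists.1 (fun h : m = ⊤ =>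
      ringKrullDim_ne_top (R := ↑(X.presheaf.stalk ξ)) (by rw [← hm, h]; rfl))
    exact ⟨n, hm.symm⟩
  have h2 : (1 : WithBot ℕ∞) + (n : WithBot ℕ∞) ≤ n := by
    conv_rhs => rw [← hn, hmax, hn]
    exact add_le_add (le_iInf hone) le_rfl
  have h3 : ((1 + n : ℕ) : WithBot ℕ∞) ≤ (n : WithBot ℕ∞) := by exact_mod_cast h2
  have h4 : 1 + n ≤ n := by exact_mod_cast h3
  omega

end Groth.Agent.S19618
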