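import Groth.Statements.S1962
import Groth.Agent.Hensel.Henselization
import Groth.Agent.Hensel.IndEtale
import Groth.Agent.IndEtFormal.Basic

set_option autoImplicit false
universe u
open EtAlg

namespace Groth.Agent.S1962

/-- A strict henselization S of a local ring R (characterized by its universal property, with R → S a
local homomorphism) is formally étale over R. -/
theorem result (R S : Type u) [CommRing R] [IsLocalRing R] [CommRing S]
    [IsLocalRing S] [Algebra R S] [IsLocalHom (algebraMap R S)] [Hensel.IsStrictHenselization R S] :
    Algebra.FormallyEtale R S := by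
  have : IsScalarTower R (IsLocalRing.ResidueField R) (IsLocalRing.ResidueField S) :=
    .of_algebraMap_eq fun r ↦ rfl
  obtain ⟨e, -⟩ := Groth.Agent.Hensel.exists_algEquiv_hens_strict (R := R) (S := S)
  exact Groth.Agent.IndEtFormal.formallyEtale_of_isIndEtale (Groth.Agent.Hensel.isIndEtale_of_algEquiv_hens e)

end Groth.Agent.S1962
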