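import Groth.Statements.S19624
import Groth.Agent.DetLen.General

set_option autoImplicit false
universe u v
open IntTh

namespace Groth.Agent.S19624

/-- Let B be a discrete valuation ring with its normalised additive valuation v (so v(0) = ∞) and ω a
ring automorphism of B. For each i in a finite index set let M_i and N_i be free B-modules with
chosen bases indexed by one and the same finite type, and χ_i : M_i → N_i an additive map which is
ω-semilinear, χ_i(b·x) = ω(b)·χ_i(x); write A_i for the matrix of χ_i in the chosen bases. Then the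
length over B of the cokernel of the direct sum χ = ⊕_i χ_i : ⊕_i M_i → ⊕_i N_i (the quotient of ⊕_i
N_i by the submodule generated by the image of χ) equals v(∏_i det A_i); in particular both sides
are infinite exactly when some det A_i is zero. -/
theorem result {B : Type u} [CommRing B] [IsDomain B]
    [IsDiscreteValuationRing B] (ω : B ≃+* B) {n : ℕ} (r : Fin n → ℕ)
    (M N : Fin n → Type v) [∀ i, AddCommGroup (M i)] [∀ i, Module B (M i)]
    [∀ i, AddCommGroup (N i)] [∀ i, Module B (N i)]
    (bM : ∀ i, Module.Basis (Fin (r i)) B (M i)) (bN : ∀ i, Module.Basis (Fin (r i)) B (N i))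
    (χ : ∀ i, M i →+ N i) (hχ : ∀ i (b : B) (x : M i), χ i (b • x) = ω b • χ i x) :
    Module.length B ((∀ i, N i) ⧸ Submodule.span B (Set.range (fun (x : ∀ i, M i) (i : Fin n) => χ i (x i)))) =
      IsDiscreteValuationRing.addVal B (∏ i, Matrix.det
        (Matrix.of fun (a c : Fin (r i)) => (bN i).repr (χ i (bM i c)) a)) := by
  classical
  haveI : Ring.KrullDimLE 1 B := inferInstance
  have hord : ∀ x : B, x ≠ 0 → Ring.ord B x = IsDiscreteValuationRing.addVal B x := fun x _ => Ring.ord_eq_addVal x
  have hlen : ∀ (m : ℕ) (Q : Matrix (Fin m) (Fin m) B),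
      Groth.Agent.DetLen.cokLen Q = IsDiscreteValuationRing.addVal B Q.det := by
    intro m Q
    rcases eq_or_ne Q.det 0 with h0 | h0
    · rw [h0, IsDiscreteValuationRing.addVal_zero]
      by_contra hfin
      rw [← ne_eq, Groth.Agent.DetLen.cokLen, Module.length_ne_top_iff] at hfin
      let C := (Fin m → B) ⧸ LinearMap.range Q.mulVecLin
      let ev : B →ₗ[B] (Fin m → C) := LinearMap.pi fun i =>
        LinearMap.toSpanSingleton B C (Submodule.Quotient.mk (Pi.single i 1))
      have hker : LinearMap.ker ev ≠ ⊥ := by
        intro hb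
        have h2 : IsFiniteLength B (Fin m → C) := by
          rw [← Module.length_ne_top_iff, Module.length_pi_of_fintype]
          exact ENat.sum_ne_top.mpr fun _ _ => Module.length_ne_top_iff.mpr hfin
        have hB := h2.of_injective (f := ev) (LinearMap.ker_eq_bot.mp hb)
        haveI : IsArtinianRing B := (isFiniteLength_iff_isNoetherian_isArtinian.mp hB).2
        exact IsDiscreteValuationRing.not_isField B (IsArtinianRing.isField_of_isDomain B)
      obtain ⟨a, ha, ha0⟩ := Submodule.exists_mem_ne_zero_of_ne_bot hker
      have hcol : ∀ i, ∃ y, Q.mulVec y = Pi.single i a := fun i => by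
        obtain ⟨y, hy⟩ := (Submodule.Quotient.mk_eq_zero _).mp
          (show (Submodule.Quotient.mk (a • Pi.single i 1) : C) = 0 from congrFun (LinearMap.mem_ker.mp ha) i)
        refine ⟨y, ?_⟩
        rw [← Pi.single_smul, smul_eq_mul, mul_one] at hy
        exact hy
      choose y hy using hcol
      have hY : Q * Matrix.of (fun k i => y i k) = Matrix.diagonal (fun _ => a) := by
        ext j i
        have := congrFun (hy i) j
        simp only [Matrix.mulVec, dotProduct] at this
        simp only [Matrix.mul_apply, Matrix.of_apply, this, Matrix.diagonal_apply, Pi.single_apply]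
      have := congrArg Matrix.det hY
      rw [Matrix.det_mul, h0, zero_mul, Matrix.det_diagonal, Finset.prod_const] at this
      exact pow_ne_zero _ ha0 this.symm
    · rw [Groth.Agent.DetLen.cokLen_eq_ord Q (mem_nonZeroDivisors_of_ne_zero h0), hord _ h0]
  let Q : ∀ i, Matrix (Fin (r i)) (Fin (r i)) B := fun i => Matrix.of fun a c => (bN i).repr (χ i (bM i c)) a
  let R : ∀ i, Submodule B (N i) := fun i => (LinearMap.range (Q i).mulVecLin).map (bN i).equivFun.symm.toLinearMap
  have hsum : ∀ i (x : M i), χ i x = (bN i).equivFun.symm ((Q i).mulVec (fun c => ω ((bM i).repr x c))) := by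
    intro i x
    refine (bN i).equivFun.injective (funext fun a => ?_)
    rw [LinearEquiv.apply_symm_apply, Module.Basis.equivFun_apply]
    conv_lhs => rw [← (bM i).sum_repr x, map_sum, map_sum]
    simp only [hχ, map_smul, Finsupp.coe_finset_sum, Finset.sum_apply, Finsupp.smul_apply, smul_eq_mul,
      Matrix.mulVec, dotProduct, Q, Matrix.of_apply]
    exact Finset.sum_congr rfl fun c _ => mul_comm _ _
  have hR : ∀ i (y : N i), y ∈ R i ↔ ∃ x, χ i x = y := by
    intro i y
    constructor
    · rintro ⟨-, ⟨v, rfl⟩, rfl⟩
      refine ⟨(bM i).equivFun.symm (fun c => ω.symm (v c)), ?_⟩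
      rw [hsum]
      have he : (fun c => ω ((bM i).repr ((bM i).equivFun.symm (fun c => ω.symm (v c))) c)) = v := by
        funext c
        rw [← Module.Basis.equivFun_apply, LinearEquiv.apply_symm_apply, RingEquiv.apply_symm_apply]
      rw [he]
      rfl
    · rintro ⟨x, rfl⟩
      exact ⟨_, ⟨_, rfl⟩, (hsum i x).symm⟩
  have hspan : Submodule.span B (Set.range (fun (x : ∀ i, M i) (i : Fin n) => χ i (x i))) = Submodule.pi Set.univ R := by
    refine le_antisymm (Submodule.span_le.mpr ?_) fun y hy => ?_
    · rintro - ⟨x, rfl⟩ i -
      exact (hR i _).mpr ⟨_, rfl⟩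
    · choose x hx using fun i => (hR i (y i)).mp (hy i trivial)
      exact Submodule.subset_span ⟨x, funext hx⟩
  rw [hspan, (Submodule.quotientPi R).length_eq, Module.length_pi_of_fintype]
  have hone : ∀ i, Module.length B (N i ⧸ R i) = IsDiscreteValuationRing.addVal B (Q i).det := by
    intro i
    rw [← hlen, Groth.Agent.DetLen.cokLen]
    exact (Submodule.Quotient.equiv _ _ (bN i).equivFun.symm rfl).length_eq.symm
  simp only [hone]
  show _ = IsDiscreteValuationRing.addVal B (∏ i, (Q i).det)
  induction (Finset.univ : Finset (Fin n)) using Finset.cons_induction with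
  | empty => simp
  | cons a s ha ih =>
    rw [Finset.sum_cons, Finset.prod_cons, IsDiscreteValuationRing.addVal_mul, ih]

end Groth.Agent.S19624
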