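import Groth.Statements.S19630
import Groth.Agent.DeRhamBasic.Map
import Mathlib.RingTheory.Unramified.Field
import Mathlib.FieldTheory.Perfect
import Mathlib.LinearAlgebra.TensorProduct.Basic

set_option autoImplicit false
universe u
open DeRham

namespace Groth.Agent.S19630

open exteriorPower in
/-- In the affine case, at ring level, let k ⊆ K be a finite extension of fields of characteristic zero
and B a smooth K-algebra, so that Y = Spec B is a smooth affine variety over K which may also be
regarded over k. Let ψ be the map of de Rham complexes from Ω•_{B/k} to Ω•_{B/K} induced by the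
identity of B. Then ψ is bijective in every degree: the de Rham complex of Y over k and over K
coincide, and hence the natural map H^i_dR(Y/k) → H^i_dR(Y/K) is an isomorphism. (The source states
the isomorphism on de Rham cohomology for any smooth variety Y over K, through the equality of the
two de Rham complexes; this row is that equality for affine Y.) -/
theorem result
    (k K : Type u) [Field k] [Field K] [CharZero k] [Algebra k K] [Module.Finite k K]
    (B : Type u) [CommRing B] [Algebra K B] [Algebra k B] [IsScalarTower k K B] [Algebra.Smooth K B]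
    (ψ : ∀ p : ℕ, ↥(⋀[B]^p (Ω[B⁄k])) →+ ↥(⋀[B]^p (Ω[B⁄K])))
    (hψ : DeRham.IsCxMap (KaehlerDifferential.D k B) (KaehlerDifferential.D K B) (RingHom.id B) ψ)
    (p : ℕ) :
    Function.Bijective (ψ p) := by
  have : Algebra.IsAlgebraic k K := Algebra.IsAlgebraic.of_finite k K
  have : Algebra.IsSeparable k K := inferInstance
  have : Algebra.FormallyUnramified k K := Algebra.FormallyUnramified.of_isSeparable k K
  have : SMulCommClass K B B := ⟨fun s a b => by simp only [Algebra.smul_def, smul_eq_mul]; ring⟩
  let π : Ω[B⁄k] →ₗ[B] Ω[B⁄K] := KaehlerDifferential.map k K B B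
  have hπ : Function.Bijective π := by
    refine ⟨?_, KaehlerDifferential.map_surjective k K B⟩
    rw [injective_iff_map_eq_zero]
    intro x hx
    obtain ⟨y, rfl⟩ := (KaehlerDifferential.exact_mapBaseChange_map k K B x).mp hx
    rw [Subsingleton.elim y 0, map_zero]
  let φ : ∀ q : ℕ, ↥(⋀[B]^q (Ω[B⁄k])) →+ ↥(⋀[B]^q (Ω[B⁄K])) :=
    fun q => (exteriorPower.map q π).toAddMonoidHom
  have hφ : DeRham.IsCxMap (KaehlerDifferential.D k B) (KaehlerDifferential.D K B) (RingHom.id B) φ := by
    intro q b₀ b
    simp [φ, π, DeRham.gen, Function.comp_def]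
  rw [DeRhamBasic.isCxMap_unique hψ hφ p]
  let e := LinearEquiv.ofBijective π hπ
  exact ⟨exteriorPower.map_injective e.symm.toLinearMap (LinearMap.ext e.symm_apply_apply),
    exteriorPower.map_surjective hπ.2⟩

end Groth.Agent.S19630
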