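import Groth.Statements.S1964
import Mathlib
import Groth.Agent.Hensel.Local
import Groth.Agent.WEtale.Olivier

set_option autoImplicit false
universe u
open EtAlg

namespace Groth.Agent.S1964

/-- A domain B integral over a henselian local ring A is itself henselian local, and the structure map A
-> B is local; if the residue field of A is separably closed, so is that of B, and the residue field
extension is purely inseparable. -/
theorem result (A B : Type u) [CommRing A] [HenselianLocalRing A] [CommRing B]
    [IsDomain B] [Algebra A B] [Algebra.IsIntegral A B] :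
    ∃ _ : HenselianLocalRing B, IsLocalHom (algebraMap A B) ∧
      (IsSepClosed (IsLocalRing.ResidueField A) →
        IsSepClosed (IsLocalRing.ResidueField B) ∧
        ∀ _ : IsLocalHom (algebraMap A B),
          letI := (IsLocalRing.ResidueField.map (algebraMap A B)).toAlgebra
          IsPurelyInseparable (IsLocalRing.ResidueField A) (IsLocalRing.ResidueField B)) := by
  have : IsLocalRing B := WEtale.Olivier.isLocalRing_of_isIntegral (A := A) (R := B)
  have hB : HenselianLocalRing B := Hensel.henselianLocalRing_of_isIntegral (R := A) B
  have hloc : IsLocalHom (algebraMap A B) := by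
    refine ((IsLocalRing.local_hom_TFAE _).out 0 4).mpr ?_
    exact IsLocalRing.eq_maximalIdeal
      (Ideal.isMaximal_comap_of_isIntegral_of_isMaximal (R := A) (IsLocalRing.maximalIdeal B))
  refine ⟨hB, hloc, fun hk => ?_⟩
  letI := (IsLocalRing.ResidueField.map (algebraMap A B)).toAlgebra
  have halg : Algebra.IsAlgebraic (IsLocalRing.ResidueField A) (IsLocalRing.ResidueField B) := by
    refine ⟨fun x => ?_⟩
    obtain ⟨b, rfl⟩ := IsLocalRing.residue_surjective x
    obtain ⟨p, hp, hpb⟩ := Algebra.IsIntegral.isIntegral (R := A) b
    refine IsIntegral.isAlgebraic ⟨p.map (IsLocalRing.residue A), hp.map _, ?_⟩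
    rw [Polynomial.eval₂_map, RingHom.algebraMap_toAlgebra]
    exact (show Polynomial.eval₂ ((IsLocalRing.residue B).comp (algebraMap A B)) (IsLocalRing.residue B b) p = 0
      by rw [← Polynomial.hom_eval₂, hpb, map_zero])
  have hsep : IsSepClosed (IsLocalRing.ResidueField B) :=
    Algebra.IsAlgebraic.isSepClosed (F := IsLocalRing.ResidueField A) (E := IsLocalRing.ResidueField B)
  exact ⟨hsep, fun _ => inferInstance⟩

end Groth.Agent.S1964
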