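import Groth.Statements.S19649
import Groth.Agent.GradedBasis.Prime

set_option autoImplicit false
set_option linter.style.haveILetI false
universe u v
open Instab

namespace Groth.Agent.S19649

open MvPolynomial DirectSum in
/-- The case of a point, in graded-module form over an affine base. Let R be a commutative ring, n a
natural number, A = R[x_1, …, x_n] the polynomial ring graded by ℤ^n with x_i of degree the i-th
basis vector (the weight grading of the standard action of the n-dimensional split torus on affine
n-space), and P a finitely generated projective A-module carrying a compatible ℤ^n-grading (an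
equivariant vector bundle on affine n-space over Spec R). Then P is graded-free Zariski-locally on
Spec R: for every prime p of R there are r ∉ p and finitely many homogeneous elements f_1, …, f_m of
P such that, after inverting r, the f_i form an A-basis of P — every element of P multiplied by a
power of r is an A-linear combination of the f_i, and the coefficients of every A-linear relation
among the f_i are killed by a power of r. (This is the case of a point of the source's description
of filtered points of quotient stacks by the general linear group, whose argument the source gives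
in full: an equivariant vector bundle on affine n-space over a base is, locally on the base, the
standard one attached to a cocharacter; the general case, an identification of mapping stacks, is
not stated here.) -/
theorem result
    {R : Type u} [CommRing R] (n : ℕ)
    {P : Type v} [AddCommGroup P] [Module (MvPolynomial (Fin n) R) P] [Module R P]
    [IsScalarTower R (MvPolynomial (Fin n) R) P]
    (ℳ : (Fin n → ℤ) → Submodule R P) [DirectSum.Decomposition ℳ]
    [SetLike.GradedSMul (MvPolynomial.weightedHomogeneousSubmodule R (fun i : Fin n => (Pi.single i 1 : Fin n → ℤ))) ℳ]
    [Module.Finite (MvPolynomial (Fin n) R) P] [Module.Projective (MvPolynomial (Fin n) R) P]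
    (p : PrimeSpectrum R) :
    ∃ r : R, r ∉ p.asIdeal ∧ ∃ (m : ℕ) (d : Fin m → (Fin n → ℤ)) (f : Fin m → P), (∀ i, f i ∈ ℳ (d i)) ∧
      (∀ q : P, ∃ (N : ℕ) (c : Fin m → MvPolynomial (Fin n) R), (MvPolynomial.C r : MvPolynomial (Fin n) R) ^ N • q = ∑ i, c i • f i) ∧
      (∀ c : Fin m → MvPolynomial (Fin n) R, ∑ i, c i • f i = 0 →
        ∃ N : ℕ, ∀ i, (MvPolynomial.C r : MvPolynomial (Fin n) R) ^ N * c i = 0) := by
  classical
  letI : GradedAlgebra (MvPolynomial.weightedHomogeneousSubmodule R (fun i : Fin n => (Pi.single i 1 : Fin n → ℤ))) :=
    MvPolynomial.weightedGradedAlgebra R _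
  let m : Ideal (MvPolynomial (Fin n) R) := p.asIdeal.comap MvPolynomial.constantCoeff
  obtain ⟨N, wt, f, hf, hli, t, ht, hsp⟩ := Groth.Agent.GradedBasisPrime.exists_family
    (MvPolynomial.weightedHomogeneousSubmodule R (fun i : Fin n => (Pi.single i 1 : Fin n → ℤ))) ℳ m
  obtain ⟨s, ⟨d, hd⟩, hs, h1, h2⟩ := Groth.Agent.GradedBasisPrime.exists_basis_away
    (MvPolynomial.weightedHomogeneousSubmodule R (fun i : Fin n => (Pi.single i 1 : Fin n → ℤ))) ℳ m wt f hf hli t ht hsp
  have hC : s = MvPolynomial.C (MvPolynomial.constantCoeff s) := by
    have hd0 : d = 0 := by
      by_contra hne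
      apply hs
      show MvPolynomial.constantCoeff s ∈ p.asIdeal
      have : MvPolynomial.constantCoeff s = 0 := by
        by_contra h0
        exact hne ((hd h0).symm.trans (by simp))
      rw [this]; exact zero_mem _
    ext e
    rw [MvPolynomial.coeff_C]
    by_cases he : 0 = e
    · subst he; simp [MvPolynomial.constantCoeff_eq]
    · rw [if_neg he]
      by_contra h0
      have hw := hd h0
      rw [hd0] at hw
      apply he
      ext i
      have hi := congrFun hw i
      simp only [Finsupp.weight_apply, Finsupp.sum_fintype, zero_smul, implies_true, Finset.sum_apply,
        Pi.smul_apply, Pi.single_apply, Pi.zero_apply] at hi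
      simp at hi
      simpa using hi.symm
  exact ⟨MvPolynomial.constantCoeff s, hs, N, wt, f, hf,
    fun q => by rw [← hC]; exact h1 q, fun c hc => by rw [← hC]; exact h2 c hc⟩

end Groth.Agent.S19649
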