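import Groth.Statements.S1965
import Mathlib
import Groth.Agent.Hensel.Local
import Groth.Agent.Hensel.Jacobian

set_option autoImplicit false
universe u
open Polynomial
open EtAlg

namespace Groth.Agent.S1965

/-- Let A be a complete Noetherian local domain of Krull dimension 1 with maximal ideal m, P a
polynomial over A and α a root of P which is not a root of the derivative P'. Then for every c there
is an n such that for every polynomial Q all of whose coefficients lie in m^n, the polynomial P + Q
has a root β with β - α in m^c. -/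
theorem result (A : Type u) [CommRing A] [IsDomain A] [IsLocalRing A] [IsNoetherianRing A]
    [IsAdicComplete (IsLocalRing.maximalIdeal A) A] (hdim : ringKrullDim A = 1) (P : A[X]) (α : A)
    (hα : P.eval α = 0) (hα' : (derivative P).eval α ≠ 0) (c : ℕ) :
    ∃ n : ℕ, ∀ Q : A[X], (∀ i, Q.coeff i ∈ IsLocalRing.maximalIdeal A ^ n) →
      ∃ β : A, (P + Q).eval β = 0 ∧ β - α ∈ IsLocalRing.maximalIdeal A ^ c := by
  haveI : Ring.KrullDimLE 1 A := Ring.krullDimLE_iff.mpr hdim.le
  have hx : (derivative P).eval α ^ 2 ≠ 0 := pow_ne_zero 2 hα'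
  obtain ⟨k, hk⟩ : ∃ k, IsLocalRing.maximalIdeal A ^ k ≤ Ideal.span {(derivative P).eval α ^ 2} := by
    refine Ideal.exists_pow_le_of_le_radical_of_fg ?_ (IsNoetherian.noetherian _)
    rw [Ideal.radical_eq_sInf]
    refine le_sInf fun p ⟨hle, hp⟩ => ?_
    have h0 : p ≠ ⊥ := fun h => hx (by
      have := hle (Ideal.mem_span_singleton_self ((derivative P).eval α ^ 2))
      rwa [h, Ideal.mem_bot] at this)
    exact (IsLocalRing.eq_maximalIdeal (hp.isMaximal_of_ne_bot h0)).ge
  haveI : HenselianLocalRing A :=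
    Hensel.henselianLocalRing_iff_henselianRing.mpr inferInstance
  refine ⟨k + c + 1, fun Q hQ => ?_⟩
  have hev : ∀ (R : A[X]) (I : Ideal A) (a : A), (∀ i, R.coeff i ∈ I) → R.eval a ∈ I := fun R I a h => by
    rw [Polynomial.eval_eq_sum, Polynomial.sum_def]
    exact Ideal.sum_mem _ fun i _ => Ideal.mul_mem_right _ _ (h i)
  set d₀ := (derivative P).eval α
  set F := P + Q with hF
  set d := (derivative F).eval α with hd
  -- d is a unit multiple of d₀
  obtain ⟨v, hv⟩ : ∃ v : Aˣ, d = d₀ * v := by
    have h1 : (derivative Q).eval α ∈ IsLocalRing.maximalIdeal A ^ (k + c + 1) :=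
      hev _ _ α fun i => by
        rw [Polynomial.coeff_derivative]; exact Ideal.mul_mem_right _ _ (hQ (i + 1))
    have h2 : (derivative Q).eval α ∈ Ideal.span {d₀} * IsLocalRing.maximalIdeal A := by
      rw [show k + c + 1 = k + (c + 1) by ring, pow_add] at h1
      exact Ideal.mul_mono (hk.trans ((Ideal.span_singleton_le_span_singleton).mpr (dvd_pow_self _ two_ne_zero)))
        (Ideal.pow_le_self (by omega)) h1
    obtain ⟨z, hz, hzq⟩ := Ideal.mem_span_singleton_mul.mp h2
    have hu : IsUnit (1 + z) := by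
      by_contra h
      exact (IsLocalRing.maximalIdeal.isMaximal A).ne_top ((Ideal.eq_top_iff_one _).mpr
        (by simpa using Ideal.sub_mem _ ((IsLocalRing.mem_maximalIdeal _).mpr h) hz))
    exact ⟨hu.unit, by rw [hd, hF, derivative_add, eval_add, IsUnit.unit_spec, ← hzq]; ring⟩
  have hmk : ∀ i, IsLocalRing.maximalIdeal A ^ (k + i) ≤ Ideal.span {d ^ 2} * IsLocalRing.maximalIdeal A ^ i :=
    fun i => by
      rw [pow_add, hv, mul_pow, Ideal.span_singleton_mul_right_unit (v.isUnit.pow 2)]
      exact Ideal.mul_mono hk le_rfl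
  obtain ⟨e, he, hee⟩ : ∃ e ∈ IsLocalRing.maximalIdeal A ^ (c + 1), d ^ 2 * e = F.eval α :=
    Ideal.mem_span_singleton_mul.mp (hmk _ (by
      rw [hF, eval_add, hα, zero_add, ← add_assoc]; exact hev Q _ α hQ))
  set U := (taylor α F).divX.divX
  have hU : ∀ y : A, F.eval (α + y) = F.eval α + d * y + y ^ 2 * U.eval y := fun y => by
    have h1 : F.eval (α + y) = (taylor α F).eval y := by rw [taylor_eval, add_comm]
    rw [h1, ← X_mul_divX_add (taylor α F), eval_add, eval_mul, eval_X, eval_C, taylor_coeff_zero,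
      ← X_mul_divX_add (taylor α F).divX, eval_add, eval_mul, eval_X, eval_C, coeff_divX,
      show (0 : ℕ) + 1 = 1 from rfl, taylor_coeff_one, ← hd]
    ring
  set G := C e + X + X ^ 2 * U.comp (C d * X) with hG
  let i₀ : Fin 1 := 0
  have hevG : ∀ (R : A[X]) (a : Fin 1 → A), MvPolynomial.eval a (Polynomial.aeval (MvPolynomial.X i₀) R) = R.eval (a i₀) := fun R a => by
    induction R using Polynomial.induction_on' with
    | add p q hp hq => simp [map_add, hp, hq]
    | monomial n b => simp [Polynomial.aeval_monomial, MvPolynomial.algebraMap_eq]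
  obtain ⟨t, ht, htm⟩ := Hensel.exists_common_zero_of_isUnit_jacobian
    (Hensel.gabberRoot_of_henselianLocalRing (R := A))
    (fun _ : Fin 1 => Polynomial.aeval (MvPolynomial.X i₀) G) 0 (fun _ => by
      rw [hevG, hG]; simpa using Ideal.pow_le_self (by omega) he) (by
      rw [Matrix.det_fin_one, Matrix.of_apply, Derivation.map_aeval, hG]
      simp [MvPolynomial.pderiv_X, hevG, i₀])
  have ht0 : G.eval (t i₀) = 0 := by rw [← hevG]; exact ht i₀
  have htm0 : t i₀ ∈ IsLocalRing.maximalIdeal A := by simpa using htm i₀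
  rw [hG] at ht0
  simp only [eval_add, eval_C, eval_X, eval_mul, eval_pow, eval_comp] at ht0
  refine ⟨α + d * t i₀, ?_, ?_⟩
  · rw [hU, ← hee]; linear_combination d ^ 2 * ht0
  · rw [add_sub_cancel_left]
    refine Ideal.mul_mem_left _ _ (Ideal.pow_le_pow_right (Nat.le_succ c) ?_)
    have hu : IsUnit (1 + t i₀ * U.eval (d * t i₀)) := by
      by_contra h
      exact (IsLocalRing.maximalIdeal.isMaximal A).ne_top ((Ideal.eq_top_iff_one _).mpr
        (by simpa using Ideal.sub_mem _ ((IsLocalRing.mem_maximalIdeal _).mpr h)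
              (Ideal.mul_mem_right (U.eval (d * t i₀)) (IsLocalRing.maximalIdeal A) htm0)))
    refine (Ideal.mul_unit_mem_iff_mem _ hu).mp ?_
    rw [show t i₀ * (1 + t i₀ * U.eval (d * t i₀)) = -e by linear_combination ht0]
    exact neg_mem he

end Groth.Agent.S1965
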