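import Groth.Statements.S19651
import Mathlib.Algebra.Polynomial.AlgebraMap
import Mathlib.Algebra.BigOperators.Intervals

set_option autoImplicit false
universe u v
open AbVar

namespace Groth.Agent.S19651

open Polynomial in
/-- Stated for an arbitrary invariant bilinear form, as the argument there allows. Let k be a field, V a
k-vector space with a bilinear form B and M a linear automorphism of V with B(Mx, My) = B(x, y) for
all x, y. If Q₁ and Q₂ are polynomials such that the reciprocal polynomial of Q₁ (its coefficient
list reversed) is coprime to Q₂, then every vector killed by a power of Q₁(M) is B-orthogonal to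
every vector killed by a power of Q₂(M). With Q₁ = Q₂ = Q this says that the generalized kernel of
Q(M) is totally isotropic whenever Q is coprime to its reciprocal polynomial, which for an
irreducible Q means that Q is not self-reciprocal. (The published statement takes M symplectic and
Q₁, Q₂ irreducible factors of the characteristic polynomial, with Q not self-reciprocal in the first
clause; its second clause asks Q₁ and Q₂ to be distinct and not reciprocal, which holds as proved
when this is read as saying that Q₂ is not the reciprocal of Q₁, but fails if it only means that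
neither is self-reciprocal, as the diagonal matrix with entries 2 and 1/2 preserving the standard
alternating form on k² shows; the coprimality of the reciprocal of Q₁ with Q₂, which is what the
published proof uses, is imposed here and covers both clauses.) -/
theorem result
    {k : Type u} [Field k] {V : Type v} [AddCommGroup V] [Module k V]
    (B : LinearMap.BilinForm k V) (M : V ≃ₗ[k] V)
    (hM : ∀ x y : V, B (M x) (M y) = B x y)
    (Q₁ Q₂ : k[X]) (h : IsCoprime Q₁.reverse Q₂)
    (x y : V)
    (hx : ∃ n : ℕ, (Polynomial.aeval (M : V →ₗ[k] V) Q₁ ^ n) x = 0)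
    (hy : ∃ n : ℕ, (Polynomial.aeval (M : V →ₗ[k] V) Q₂ ^ n) y = 0) :
    B x y = 0 := by
  let f : Module.End k V := (M : V →ₗ[k] V)
  let g : Module.End k V := (M.symm : V →ₗ[k] V)
  have hgf : g * f = 1 := LinearMap.ext fun v => M.symm_apply_apply v
  have hfg : f * g = 1 := LinearMap.ext fun v => M.apply_symm_apply v
  have hB : ∀ u w, B u (f w) = B (g u) w := fun u w => by
    conv_lhs => rw [show u = M (g u) from (M.apply_symm_apply u).symm]
    exact hM _ _
  have hBn : ∀ (n : ℕ) u w, B u ((f ^ n) w) = B ((g ^ n) u) w := by
    intro n
    induction n with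
    | zero => simp
    | succ n ih =>
      intro u w
      rw [pow_succ, Module.End.mul_apply, ih, hB, pow_succ', Module.End.mul_apply]
  have hcomm : Commute f g := hfg.trans hgf.symm
  have hrev : ∀ u w, B u (aeval f Q₁.reverse w) = B (aeval f Q₁ ((g ^ Q₁.natDegree) u)) w := by
    intro u w
    conv_rhs => rw [aeval_eq_sum_range]
    rw [aeval_eq_sum_range' (Nat.lt_succ_of_le (reverse_natDegree_le Q₁))]
    simp only [LinearMap.sum_apply, map_sum, LinearMap.smul_apply, map_smul, hBn]
    rw [← Finset.sum_range_reflect]
    refine Finset.sum_congr rfl fun i hi => ?_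
    have hid : i ≤ Q₁.natDegree := Nat.lt_succ_iff.mp (Finset.mem_range.mp hi)
    rw [show Q₁.natDegree + 1 - 1 - i = Q₁.natDegree - i by omega, coeff_reverse,
      revAt_le (Nat.sub_le _ _), show Q₁.natDegree - (Q₁.natDegree - i) = i by omega]
    congr 3
    conv_rhs => rw [← Module.End.mul_apply,
      show g ^ Q₁.natDegree = g ^ i * g ^ (Q₁.natDegree - i) by rw [← pow_add]; congr 1; omega,
      ← mul_assoc, ← hcomm.mul_pow, hfg, one_pow, one_mul]
  have hC : Commute (aeval f Q₁) (g ^ Q₁.natDegree) := by
    refine Commute.pow_right ?_ _
    rw [aeval_eq_sum_range]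
    exact Commute.sum_left _ _ _ fun i _ => (hcomm.pow_left i).smul_left _
  have hrevn : ∀ (n : ℕ) u w, B u ((aeval f Q₁.reverse ^ n) w) =
      B ((aeval f Q₁ ^ n) (((g ^ Q₁.natDegree) ^ n) u)) w := by
    intro n
    induction n with
    | zero => simp
    | succ n ih =>
      intro u w
      rw [pow_succ, Module.End.mul_apply, ih, hrev, ← Module.End.mul_apply, ← Module.End.mul_apply,
        ← Module.End.mul_apply, pow_succ' (aeval f Q₁), pow_succ' (g ^ Q₁.natDegree)]
      rw [← Module.End.mul_apply (_ * _) (_ * _)]
      refine congrArg (fun T : Module.End k V => B (T u) w) ?_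
      simp only [mul_assoc]
      rw [← mul_assoc (g ^ Q₁.natDegree), ← (hC.pow_left n).eq, mul_assoc]
  obtain ⟨n, hn⟩ := hx
  obtain ⟨m, hm⟩ := hy
  obtain ⟨a, b, hab⟩ := h.pow (m := n) (n := m)
  have e := congrArg (fun q => aeval f q y) hab
  simp only [map_add, map_mul, map_pow, map_one, LinearMap.add_apply, Module.End.mul_apply,
    Module.End.one_apply] at e
  replace hm : (aeval f Q₂ ^ m) y = 0 := hm
  replace hn : (aeval f Q₁ ^ n) x = 0 := hn
  rw [hm, map_zero, add_zero] at e
  rw [← e, ← Module.End.mul_apply, ← map_pow, ← map_mul, mul_comm, map_mul, map_pow,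
    Module.End.mul_apply, hrevn, ← Module.End.mul_apply, ((hC.pow_left n).pow_right n).eq,
    Module.End.mul_apply, hn, map_zero, map_zero, LinearMap.zero_apply]

end Groth.Agent.S19651
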