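import Groth.Statements.S19658
import Groth.Agent.PowEtale.Basic
import Groth.Agent.Hensel.EtaleLift

set_option autoImplicit false
set_option backward.isDefEq.respectTransparency.types false
universe u
open CategoryTheory CategoryTheory.Limits MonoidalCategory CartesianMonoidalCategory AlgebraicGeometry
open Neron
open MonObj

namespace Groth.Agent.S19658

theorem exists_section_etale {R : Type u} [CommRing R] [HenselianLocalRing R] {Z : Scheme.{u}}
    (pr : Z ⟶ Spec (CommRingCat.of R)) [Etale pr]
    (z₀ : Spec (CommRingCat.of (IsLocalRing.ResidueField R)) ⟶ Z)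
    (hz₀ : z₀ ≫ pr = Spec.map (CommRingCat.ofHom (IsLocalRing.residue R))) :
    ∃ z : Spec (CommRingCat.of R) ⟶ Z, z ≫ pr = 𝟙 _ ∧
      Spec.map (CommRingCat.ofHom (IsLocalRing.residue R)) ≫ z = z₀ := by
  obtain ⟨V, hV, hxV⟩ : ∃ V : Z.Opens, IsAffineOpen V ∧
      z₀ (IsLocalRing.closedPoint (IsLocalRing.ResidueField R)) ∈ V := by
    obtain ⟨_, ⟨V, hV, rfl⟩, hxV, -⟩ := Z.isBasis_affineOpens.exists_subset_of_mem_open
      (Set.mem_univ (z₀ (IsLocalRing.closedPoint (IsLocalRing.ResidueField R)))) isOpen_univ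
    exact ⟨V, hV, hxV⟩
  haveI : IsAffine (V : Scheme.{u}) := hV
  have hr : Set.range z₀ ⊆ Set.range V.ι := by
    rintro _ ⟨p, rfl⟩
    rw [Subsingleton.elim p (IsLocalRing.closedPoint (IsLocalRing.ResidueField R)), Scheme.Opens.range_ι]
    exact hxV
  let w := IsOpenImmersion.lift V.ι z₀ hr
  let i := (V : Scheme.{u}).isoSpec
  let ψ : CommRingCat.of R ⟶ Γ((V : Scheme.{u}), ⊤) := Spec.preimage (i.inv ≫ V.ι ≫ pr)
  have hψ : Spec.map ψ = i.inv ≫ V.ι ≫ pr := Spec.map_preimage _
  have het : ψ.hom.Etale := by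
    rw [← HasRingHomProperty.Spec_iff (P := @Etale), hψ]; infer_instance
  letI : Algebra R Γ((V : Scheme.{u}), ⊤) := ψ.hom.toAlgebra
  haveI : Algebra.Etale R Γ((V : Scheme.{u}), ⊤) := RingHom.etale_algebraMap.1 het
  let σ₀ : Γ((V : Scheme.{u}), ⊤) ⟶ CommRingCat.of (IsLocalRing.ResidueField R) := Spec.preimage (w ≫ i.hom)
  have hσ : ψ ≫ σ₀ = CommRingCat.ofHom (IsLocalRing.residue R) := by
    apply Spec.map_injective
    rw [Spec.map_comp, hψ, Spec.map_preimage, Category.assoc, Iso.hom_inv_id_assoc,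
      IsOpenImmersion.lift_fac_assoc, hz₀]
  let σ : Γ((V : Scheme.{u}), ⊤) →ₐ[R] IsLocalRing.ResidueField R :=
    { σ₀.hom with commutes' := fun r => RingHom.congr_fun (congrArg (·.hom) hσ) r }
  obtain ⟨τ, hτ, -⟩ := Groth.Agent.Hensel.existsUnique_algHom_of_residueField (R := R) (S := R) _ σ
  have h1 : ψ ≫ CommRingCat.ofHom τ.toRingHom = 𝟙 _ := by
    ext r
    exact τ.commutes r
  have h2 : CommRingCat.ofHom τ.toRingHom ≫ CommRingCat.ofHom (IsLocalRing.residue R) = σ₀ := by
    ext x
    exact hτ x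
  refine ⟨Spec.map (CommRingCat.ofHom τ.toRingHom) ≫ i.inv ≫ V.ι, ?_, ?_⟩
  · rw [Category.assoc, Category.assoc, ← hψ, ← Spec.map_comp]
    exact (congrArg Spec.map h1).trans (Spec.map_id _)
  · rw [← Category.assoc, ← Spec.map_comp]
    refine (congrArg (fun f => Spec.map f ≫ i.inv ≫ V.ι) h2).trans ?_
    rw [Spec.map_preimage, Category.assoc, Iso.hom_inv_id_assoc,
      IsOpenImmersion.lift_fac]


/-- The first display of the lemma, in the generality its argument gives. Let R be a henselian local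
ring with residue field k, G a commutative group scheme over Spec R that is smooth, separated and
quasi-compact, and N a natural number which is a unit in R. Then every k-valued point of G killed by
N lifts to exactly one R-valued point of G killed by N; that is, reduction G(R)[N] → G(k)[N] is a
bijection on N-torsion. (The text applies this to the Néron model of an abelian variety over a
henselian discrete valuation ring, where G(R) = A(K).) -/
theorem result
    (R : Type u) [CommRing R] [HenselianLocalRing R]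
    (G : Over (Spec (CommRingCat.of R))) [GrpObj G] [IsCommMonObj G]
    [Smooth G.hom] [IsSeparated G.hom] [QuasiCompact G.hom]
    (N : ℕ) (hN : IsUnit (N : R))
    (τ : Over.mk (Spec.map (CommRingCat.ofHom (IsLocalRing.residue R))) ⟶ G)
    (hτ : τ ∈ AbDual.torsPts G N (Over.mk (Spec.map (CommRingCat.ofHom (IsLocalRing.residue R))))) :
    ∃! σ : Over.mk (𝟙 (Spec (CommRingCat.of R))) ⟶ G,
      σ ∈ AbDual.torsPts G N (Over.mk (𝟙 (Spec (CommRingCat.of R)))) ∧
        Over.homMk (Spec.map (CommRingCat.ofHom (IsLocalRing.residue R))) (Category.comp_id _) ≫ σ = τ := by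
  have hne : (N : IsLocalRing.ResidueField R) ≠ 0 := by
    have := hN.map (IsLocalRing.residue R)
    rw [map_natCast] at this
    exact this.ne_zero
  haveI : Etale ((𝟙 G : G ⟶ G) ^ N).left :=
    Groth.Agent.PowEtale.etale_pow G N (Groth.Agent.PowEtale.natCast_residueField_ne_zero N hne)
  let pr := pullback.snd ((𝟙 G : G ⟶ G) ^ N).left η[G].left
  haveI : Etale pr := MorphismProperty.pullback_snd _ _ inferInstance
  have key : ∀ {T : Over (Spec (CommRingCat.of R))} (a : T ⟶ G), a ^ N = 1 →
      a.left ≫ ((𝟙 G : G ⟶ G) ^ N).left = T.hom ≫ η[G].left := by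
    intro T a ha
    have h : a ≫ ((𝟙 G : G ⟶ G) ^ N) = toUnit T ≫ η[G] := by
      rw [MonObj.comp_pow, Category.comp_id]; exact ha.trans Hom.one_def
    simpa using congrArg CommaMorphism.left h
  rw [AbDual.mem_torsPts] at hτ
  obtain ⟨z, hz, hz₀⟩ := exists_section_etale pr (pullback.lift τ.left (Over.mk (Spec.map (CommRingCat.ofHom (IsLocalRing.residue R)))).hom (key τ hτ))
    (pullback.lift_snd _ _ _)
  have hσw : (z ≫ pullback.fst _ _) ≫ G.hom = 𝟙 _ := by
    have h1 : η[G].left ≫ G.hom = 𝟙 _ := Over.w η[G]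
    rw [Category.assoc, ← Over.w ((𝟙 G : G ⟶ G) ^ N), pullback.condition_assoc, h1]
    simpa using hz
  refine ⟨Over.homMk (z ≫ pullback.fst _ _) hσw, ⟨?_, ?_⟩, ?_⟩
  · rw [AbDual.mem_torsPts, ← Category.comp_id (Over.homMk _ _ : Over.mk (𝟙 _) ⟶ G), ← MonObj.comp_pow]
    conv_rhs => rw [Hom.one_def]
    refine Over.OverMorphism.ext ?_
    simp only [Over.comp_left, Over.homMk_left, Category.assoc, pullback.condition]
    exact (reassoc_of% hz) η[G].left
  · refine Over.OverMorphism.ext ?_
    show Spec.map _ ≫ z ≫ pullback.fst _ _ = τ.left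
    rw [← Category.assoc, hz₀, pullback.lift_fst]
  · rintro σ' ⟨hσ', hσ'τ⟩
    rw [AbDual.mem_torsPts] at hσ'
    refine Over.OverMorphism.ext ?_
    have e := Groth.Agent.PowEtale.eq_of_formallyUnramified pr (Spec.map (CommRingCat.ofHom (IsLocalRing.residue R)))
      ⟨IsLocalRing.closedPoint (IsLocalRing.ResidueField R), IsLocalRing.comap_closedPoint (IsLocalRing.residue R)⟩
      (pullback.lift σ'.left (𝟙 _) (key σ' hσ')) z (by rw [pullback.lift_snd, hz]) (by
        rw [hz₀]
        apply pullback.hom_ext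
        · rw [Category.assoc, pullback.lift_fst, pullback.lift_fst]
          exact congrArg CommaMorphism.left hσ'τ
        · rw [Category.assoc, pullback.lift_snd, pullback.lift_snd, Category.comp_id]; rfl)
    show σ'.left = z ≫ pullback.fst _ _
    rw [← e, pullback.lift_fst]

end Groth.Agent.S19658
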