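import Groth.Statements.S1966
import Mathlib

set_option autoImplicit false
universe u
open EtAlg

namespace Groth.Agent.S1966

/-- Towers indexed by the natural numbers: let (A_k) be rings with surjective transition maps A_{k+1} ->
A_k whose kernels consist of nilpotent elements, and let A be a ring with compatible projections p_k
: A -> A_k identifying A with the set of compatible sequences (p is jointly injective and every
compatible sequence comes from an element of A). Then for every k the pair (A, ker p_k) is
henselian. -/
theorem result (A : Type u) [CommRing A] (As : ℕ → Type u) [∀ k, CommRing (As k)]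
    (t : ∀ k, As (k + 1) →+* As k) (ht : ∀ k, Function.Surjective (t k))
    (hnil : ∀ k (x : As (k + 1)), t k x = 0 → IsNilpotent x)
    (p : ∀ k, A →+* As k) (hp : ∀ k, (t k).comp (p (k + 1)) = p k)
    (hinj : ∀ a b : A, (∀ k, p k a = p k b) → a = b)
    (hsurj : ∀ x : ∀ k, As k, (∀ k, t k (x (k + 1)) = x k) → ∃ a : A, ∀ k, p k a = x k) (k : ℕ) :
    HenselianRing A (RingHom.ker (p k)) := by
  have hnilp : ∀ n, k ≤ n → ∀ x : A, p k x = 0 → IsNilpotent (p n x) := by
    intro n hkn x hx
    induction n, hkn using Nat.le_induction with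
    | base => rw [hx]; exact IsNilpotent.zero
    | succ n _ ih =>
      obtain ⟨m, hm⟩ := ih
      rw [← hp n, RingHom.comp_apply, ← map_pow] at hm
      exact (hnil n _ hm).of_pow
  have hnilp' : ∀ n, ∀ x : A, p k x = 0 → IsNilpotent (p n x) := by
    intro n x hx
    rcases le_total k n with h | h
    · exact hnilp n h x hx
    · suffices p n x = 0 by rw [this]; exact IsNilpotent.zero
      induction h using Nat.decreasingInduction with
      | self => exact hx
      | of_succ m _ ih => rw [← hp m, RingHom.comp_apply, ih, map_zero]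
  refine ⟨fun x hx => Ideal.mem_jacobson_bot.mpr fun y => ?_, fun f hf a0 h0 hd => ?_⟩
  · have hu : ∀ n, IsUnit (p n (x * y + 1)) := fun n => by
      rw [map_add, map_mul, map_one]
      exact IsNilpotent.isUnit_add_one ((Commute.all _ _).isNilpotent_mul_right (hnilp' n x hx))
    obtain ⟨z, hz⟩ := hsurj (fun n => ↑(hu n).unit⁻¹) fun n => by
      apply (hu n).mul_left_cancel
      conv_lhs => rw [← hp n, RingHom.comp_apply, ← map_mul, IsUnit.mul_val_inv, map_one]
      rw [IsUnit.mul_val_inv]
    exact IsUnit.of_mul_eq_one z (hinj _ _ fun n => by rw [map_mul, hz, IsUnit.mul_val_inv, map_one])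
  · obtain ⟨v, hv⟩ := Ideal.Quotient.mk_surjective (↑hd.unit⁻¹ : A ⧸ RingHom.ker (p k))
    have hv' : p k (f.derivative.eval a0 * v - 1) = 0 := by
      rw [← RingHom.mem_ker, ← Ideal.Quotient.eq_zero_iff_mem, map_sub, map_mul, map_one, hv,
        IsUnit.mul_val_inv, sub_self]
    have hu : ∀ n, IsUnit (p n (f.derivative.eval a0)) := fun n => by
      have := IsNilpotent.isUnit_add_one (hnilp' n _ hv')
      rw [← map_one (p n), ← map_add, sub_add_cancel, map_mul] at this
      exact isUnit_of_mul_isUnit_left this
    have key : ∀ n, ∃! r : As n, IsNilpotent (p n a0 - r) ∧ (f.map (p n)).eval r = 0 := fun n => by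
      have := Polynomial.existsUnique_nilpotent_sub_and_aeval_eq_zero (P := f.map (p n)) (x := p n a0)
        (by rw [Polynomial.coe_aeval_eq_eval, Polynomial.eval_map_apply]; exact hnilp' n _ h0)
        (by rw [Polynomial.coe_aeval_eq_eval, Polynomial.derivative_map, Polynomial.eval_map_apply]; exact hu n)
      simpa using this
    choose r hr hr' using key
    obtain ⟨a, ha⟩ := hsurj r fun n => hr' n (t n (r (n + 1))) ⟨by
      rw [← hp n, RingHom.comp_apply, ← map_sub]
      exact (hr (n + 1)).1.map _, by
      rw [← hp n, ← Polynomial.map_map, Polynomial.eval_map_apply, (hr (n + 1)).2, map_zero]⟩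
    refine ⟨a, hinj _ _ fun n => ?_, ?_⟩
    · rw [map_zero, ← Polynomial.eval_map_apply, ha]; exact (hr n).2
    · rw [RingHom.mem_ker, map_sub, ha, sub_eq_zero]
      refine (hr' k (p k a0) ⟨by rw [sub_self]; exact IsNilpotent.zero, ?_⟩).symm
      rw [Polynomial.eval_map_apply]; exact h0

end Groth.Agent.S1966
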