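import Groth.Statements.S19660
import Mathlib
-- import your own Groth.Agent.* helpers here

set_option autoImplicit false
universe u v
open AbVar

namespace Groth.Agent.S19660

/-- The text applies this to the Frobenius acting on the points of prime order of a principally
polarised abelian variety over a finite field with q elements and to their Weil pairing. Let k be a
field, V a finite-dimensional k-vector space with a nondegenerate bilinear form B, q a nonzero
element of k and M a linear automorphism of V with B(Mx, My) = q·B(x, y) for all x, y. Write V₁ and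
V_q for the generalized eigenspaces of M at 1 and at q. Then every vector of V₁ that is B-orthogonal
to all of V_q is zero, every vector of V_q that is B-orthogonal (on the right) to all of V₁ is zero,
and when q ≠ 1 the form B vanishes identically on V₁ × V₁ and on V_q × V_q. (The text asserts this
as the evident adaptation, to a form scaled by q, of the orthogonality and nondegeneracy facts for
generalized kernels of an automorphism preserving a form; the abstract statement is recorded here,
the application to the Weil pairing needing that pairing's formalism.) -/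
theorem result
    {k : Type u} [Field k] {V : Type v} [AddCommGroup V] [Module k V] [FiniteDimensional k V]
    (B : LinearMap.BilinForm k V) (hB : B.Nondegenerate) (q : k) (hq : q ≠ 0)
    (M : V ≃ₗ[k] V) (hM : ∀ x y : V, B (M x) (M y) = q * B x y) :
    (∀ x ∈ Module.End.maxGenEigenspace (M : Module.End k V) 1,
        (∀ y ∈ Module.End.maxGenEigenspace (M : Module.End k V) q, B x y = 0) → x = 0) ∧
      (∀ y ∈ Module.End.maxGenEigenspace (M : Module.End k V) q,
        (∀ x ∈ Module.End.maxGenEigenspace (M : Module.End k V) 1, B x y = 0) → y = 0) ∧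
      (q ≠ 1 → ∀ x ∈ Module.End.maxGenEigenspace (M : Module.End k V) 1,
        ∀ x' ∈ Module.End.maxGenEigenspace (M : Module.End k V) 1, B x x' = 0) ∧
      (q ≠ 1 → ∀ y ∈ Module.End.maxGenEigenspace (M : Module.End k V) q,
        ∀ y' ∈ Module.End.maxGenEigenspace (M : Module.End k V) q, B y y' = 0) := by
  have key : ∀ (C : LinearMap.BilinForm k V), (∀ x y, C (M x) (M y) = q * C x y) → ∀ a b : k, a * b = q → ∀ (n : ℕ) (u : V),
      (((M : Module.End k V) - a • 1) ^ n) u = 0 → ∀ w, C u ((((M : Module.End k V) - b • 1) ^ n) w) = 0 := by
    intro C hC a b hab n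
    induction n with
    | zero => intro u hu w; simp at hu; simp [hu]
    | succ n ih =>
      intro u hu w
      obtain ⟨u', rfl⟩ := M.surjective u
      have hc : Commute (((M : Module.End k V) - a • 1) ^ (n + 1)) (M : Module.End k V) :=
        ((Commute.refl _).sub_left ((Commute.one_left _).smul_left a)).pow_left _
      have h' : (((M : Module.End k V) - a • 1) ^ (n + 1)) u' = 0 := M.injective (by
        have := LinearMap.congr_fun hc.eq u'
        simp only [Module.End.mul_apply] at this
        simpa using this.symm.trans hu)
      rw [pow_succ, Module.End.mul_apply] at h'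
      rw [pow_succ', Module.End.mul_apply]
      have hz := ih _ h' w
      generalize (((M : Module.End k V) - b • 1) ^ n) w = z at hz ⊢
      simp only [LinearMap.sub_apply, LinearMap.smul_apply, Module.End.one_apply, LinearEquiv.coe_coe, map_sub, map_smul, smul_eq_mul] at hz ⊢
      rw [hC]
      linear_combination (-b) * hz - C u' z * hab
  have orth : ∀ a b : k, a * b ≠ q → ∀ (s n m : ℕ), n + m ≤ s → ∀ x y : V,
      (((M : Module.End k V) - a • 1) ^ n) x = 0 → (((M : Module.End k V) - b • 1) ^ m) y = 0 → B x y = 0 := by
    intro a b hab s
    induction s with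
    | zero =>
      intro n m h x y hx _
      obtain rfl : n = 0 := by omega
      simp at hx; simp [hx]
    | succ s ih =>
      intro n m h x y hx hy
      rcases n with _ | n
      · simp at hx; simp [hx]
      rcases m with _ | m
      · simp at hy; simp [hy]
      have hMy : (((M : Module.End k V) - b • 1) ^ (m + 1)) (M y) = 0 := by
        have hc : Commute (((M : Module.End k V) - b • 1) ^ (m + 1)) (M : Module.End k V) :=
          ((Commute.refl _).sub_left ((Commute.one_left _).smul_left b)).pow_left _
        have := LinearMap.congr_fun hc.eq y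
        simp only [Module.End.mul_apply, hy, map_zero] at this
        exact this
      have hx' := hx
      have hy' := hy
      rw [pow_succ, Module.End.mul_apply] at hx' hy'
      have e1 := ih n (m + 1) (by omega) _ _ hx' hMy
      have e2 := ih (n + 1) m (by omega) _ _ hx hy'
      have e := hM x y
      simp only [LinearMap.sub_apply, LinearMap.smul_apply, Module.End.one_apply, LinearEquiv.coe_coe, map_sub, map_smul, smul_eq_mul] at e1 e2
      have h0 : (a * b - q) * B x y = 0 := by linear_combination e - e1 - a * e2
      exact (mul_eq_zero.1 h0).resolve_left (sub_ne_zero.2 hab)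
  have mem : ∀ (a : k) (x : V), x ∈ Module.End.maxGenEigenspace (M : Module.End k V) a →
      ∃ n : ℕ, (((M : Module.End k V) - a • 1) ^ n) x = 0 := fun a x hx => (Module.End.mem_maxGenEigenspace _ _ _).1 hx
  have pair : ∀ (C : LinearMap.BilinForm k V), (∀ x y, C (M x) (M y) = q * C x y) → ∀ a b : k, a * b = q →
      ∀ x ∈ Module.End.maxGenEigenspace (M : Module.End k V) a,
        (∀ y ∈ Module.End.maxGenEigenspace (M : Module.End k V) b, C x y = 0) → ∀ v, C x v = 0 := by
    intro C hC a b hab x hx hy v
    obtain ⟨n, hn⟩ := mem a x hx
    obtain ⟨N, hN⟩ := Filter.eventually_atTop.1 (LinearMap.eventually_isCompl_ker_pow_range_pow ((M : Module.End k V) - b • 1))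
    have hc := hN (max N n) (le_max_left _ _)
    have hv : v ∈ LinearMap.ker (((M : Module.End k V) - b • 1) ^ max N n) ⊔ LinearMap.range (((M : Module.End k V) - b • 1) ^ max N n) :=
      hc.sup_eq_top ▸ Submodule.mem_top
    obtain ⟨y, hy1, _, ⟨w, rfl⟩, rfl⟩ := Submodule.mem_sup.1 hv
    rw [map_add, hy y ((Module.End.mem_maxGenEigenspace _ _ _).2 ⟨_, LinearMap.mem_ker.1 hy1⟩),
      key C hC a b hab _ x (Module.End.pow_map_zero_of_le (le_max_right _ _) hn) w, add_zero]
  refine ⟨fun x hx h => hB.1 x (pair B hM 1 q (one_mul q) x hx h),
    fun y hy h => hB.2 y (pair B.flip (fun u v => hM v u) q 1 (mul_one q) y hy h), fun hq1 x hx x' hx' => ?_, fun hq1 y hy y' hy' => ?_⟩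
  · obtain ⟨n, hn⟩ := mem _ x hx
    obtain ⟨m, hm⟩ := mem _ x' hx'
    exact orth 1 1 (by rw [one_mul]; exact Ne.symm hq1) (n + m) n m le_rfl x x' hn hm
  · obtain ⟨n, hn⟩ := mem _ y hy
    obtain ⟨m, hm⟩ := mem _ y' hy'
    exact orth q q (fun h => hq1 (mul_left_cancel₀ hq (h.trans (mul_one q).symm))) (n + m) n m le_rfl y y' hn hm

end Groth.Agent.S19660
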