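import Groth.Statements.S1967
import Mathlib
import Groth.Agent.Hensel.Henselization
import Groth.Agent.Hensel.HenselizationNormal
import Groth.Agent.Hensel.IndEtale
import Groth.Agent.IndEt.Ops
import Groth.Agent.WEtale.Olivier
import Groth.Agent.WLoc.WContr

set_option autoImplicit false
universe u
open TensorProduct
open EtAlg

namespace Groth.Agent.S1967

/-- If A is an integrally closed domain with fraction field K and B is weakly etale over A, then every
element of B ⊗_A K that is integral over B (via b ↦ b ⊗ 1) already comes from B. -/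
theorem result (A : Type u) [CommRing A] [IsDomain A] [IsIntegrallyClosed A]
    (K : Type u) [Field K] [Algebra A K] [IsFractionRing A K] (B : Type u) [CommRing B] [Algebra A B]
    [Algebra.WeaklyEtale A B] :
    IsIntegrallyClosedIn B (B ⊗[A] K) := by
  classical
  rw [isIntegrallyClosedIn_iff]
  have hinjK := IsFractionRing.injective A K
  refine ⟨fun x y h => ?_, fun {x} hx => ?_⟩
  · exact Module.Flat.lTensor_preserves_injective_linearMap (M := B) (Algebra.linearMap A K) hinjK |> fun hi => by
      have h1 := @hi (x ⊗ₜ[A] (1 : A)) (y ⊗ₜ[A] (1 : A)) (by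
        simpa [Algebra.TensorProduct.algebraMap_apply] using h)
      simpa using congrArg (TensorProduct.rid A B) h1
  -- clear denominators
  obtain ⟨a, ha, e, he⟩ : ∃ a : A, a ≠ 0 ∧ ∃ e : B, algebraMap B (B ⊗[A] K) e = algebraMap B _ (algebraMap A B a) * x := by
    clear hx
    induction x using TensorProduct.induction_on with
    | zero => exact ⟨1, one_ne_zero, 0, by simp⟩
    | tmul b k =>
      obtain ⟨c, d, hd, rfl⟩ := IsFractionRing.div_surjective (A := A) k
      refine ⟨d, nonZeroDivisors.ne_zero hd, c • b, ?_⟩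
      have hd' : algebraMap A K d ≠ 0 := IsFractionRing.to_map_ne_zero_of_mem_nonZeroDivisors hd
      simp only [Algebra.TensorProduct.algebraMap_apply, Algebra.algebraMap_self, RingHom.id_apply, Algebra.TensorProduct.tmul_mul_tmul, one_mul]
      rw [← Algebra.smul_def, TensorProduct.smul_tmul, TensorProduct.smul_tmul]
      congr 1
      rw [Algebra.smul_def, Algebra.smul_def, mul_one, mul_div_cancel₀ _ hd']
    | add u v hu hv =>
      obtain ⟨a, ha, e, he⟩ := hu
      obtain ⟨a', ha', e', he'⟩ := hv
      refine ⟨a * a', mul_ne_zero ha ha', algebraMap A B a' * e + algebraMap A B a * e', ?_⟩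
      simp only [map_add, map_mul, he, he']
      ring
  let J : Ideal B := (Ideal.span {algebraMap A B a}).colon {e}
  suffices hJ : J = ⊤ by
    have h1 : e ∈ Ideal.span {algebraMap A B a} := by
      have := Submodule.mem_colon.mp ((Ideal.eq_top_iff_one J).mp hJ) e rfl
      simpa using this
    obtain ⟨c, rfl⟩ := Ideal.mem_span_singleton'.mp h1
    refine ⟨c, ?_⟩
    have hu : IsUnit (algebraMap B (B ⊗[A] K) (algebraMap A B a)) := by
      refine IsUnit.of_mul_eq_one ((1 : B) ⊗ₜ[A] (algebraMap A K a)⁻¹) ?_
      rw [Algebra.TensorProduct.algebraMap_apply, Algebra.algebraMap_self, RingHom.id_apply, Algebra.algebraMap_eq_smul_one a,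
        TensorProduct.smul_tmul, Algebra.TensorProduct.tmul_mul_tmul, one_mul, ← Algebra.algebraMap_eq_smul_one,
        mul_inv_cancel₀ ((map_ne_zero_iff _ hinjK).mpr ha)]
      rfl
    rw [map_mul, mul_comm] at he
    exact hu.mul_left_cancel he
  by_contra hne
  obtain ⟨q, hq, hJq⟩ := Ideal.exists_le_maximal J hne
  let p := Ideal.comap (algebraMap A B) q
  let Ap := Localization.AtPrime p
  obtain ⟨D, _, _, _, _, hsh⟩ := Hensel.exists_isStrictHenselization Ap
  haveI := hsh
  haveI : HenselianLocalRing D := hsh.henselian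
  haveI : IsSepClosed (IsLocalRing.ResidueField D) := hsh.isSepClosure.sep_closed
  obtain ⟨eD, -⟩ := Hensel.exists_algEquiv_hens_strict (R := Ap) (S := D)
  haveI : IsIntegrallyClosed Ap := isIntegrallyClosed_of_isLocalization Ap p.primeCompl p.primeCompl_le_nonZeroDivisors
  obtain ⟨hdom, hnorm⟩ := Hensel.isNormal_of_algEquiv_hens eD
  haveI hwe : Algebra.WeaklyEtale Ap D :=
    IndEt.EtFactors.weaklyEtale (IndEt.etFactors_of_isIndEtale (Hensel.isIndEtale_of_algEquiv_hens eD))
  letI : Algebra A D := ((algebraMap Ap D).comp (algebraMap A Ap)).toAlgebra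
  haveI : IsScalarTower A Ap D := .of_algebraMap_eq' rfl
  haveI : Algebra.WeaklyEtale A Ap := WLoc.weaklyEtale_of_isLocalization p.primeCompl Ap
  haveI : Algebra.WeaklyEtale A D := Algebra.WeaklyEtale.trans A Ap D
  have hinjD : Function.Injective (algebraMap A D) := by
    haveI := Hensel.strictHenselization_faithfullyFlat (R := Ap) (S := D)
    exact (Hensel.algebraMap_injective_of_faithfullyFlat Ap D).comp
      (IsLocalization.injective Ap p.primeCompl_le_nonZeroDivisors)
  -- a prime of `B ⊗ D` over both closed points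
  let κ := p.ResidueField
  let κD := IsLocalRing.ResidueField D
  have hpD : Ideal.comap (algebraMap A D) (IsLocalRing.maximalIdeal D) = p := by
    rw [IsScalarTower.algebraMap_eq A Ap D, ← Ideal.comap_comap, IsLocalRing.maximalIdeal_comap (algebraMap Ap D)]
    exact IsLocalization.AtPrime.under_maximalIdeal Ap p
  have hamalg : ∀ (k K₁ K₂ : Type u) [Field k] [Field K₁] [Field K₂] (i : k →+* K₁) (j : k →+* K₂),
      ∃ (E : Type u) (_ : Field E) (f₁ : K₁ →+* E) (f₂ : K₂ →+* E), f₁.comp i = f₂.comp j := by
    intro k K₁ K₂ _ _ _ i j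
    letI := i.toAlgebra
    letI := j.toAlgebra
    obtain ⟨MT, hMT⟩ := Ideal.exists_maximal (K₁ ⊗[k] K₂)
    refine ⟨_, Ideal.Quotient.field MT, (Ideal.Quotient.mk MT).comp Algebra.TensorProduct.includeLeftRingHom,
      (Ideal.Quotient.mk MT).comp (Algebra.TensorProduct.includeRight : K₂ →ₐ[k] K₁ ⊗[k] K₂).toRingHom,
      RingHom.ext fun r => congrArg (Ideal.Quotient.mk MT) ?_⟩
    show i r ⊗ₜ[k] (1 : K₂) = (1 : K₁) ⊗ₜ[k] j r
    rw [show i r = algebraMap k K₁ r from rfl, Algebra.algebraMap_eq_smul_one, TensorProduct.smul_tmul,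
      ← Algebra.algebraMap_eq_smul_one]
    rfl
  obtain ⟨E, _, f₁, f₂, hf⟩ := hamalg p.ResidueField q.ResidueField κD
    (Ideal.ResidueField.map p q (algebraMap A B) rfl) (IsLocalRing.ResidueField.map (algebraMap Ap D))
  let fB : B →+* E := f₁.comp (algebraMap B q.ResidueField)
  let fD : D →+* E := f₂.comp (IsLocalRing.residue D)
  have hfc : fB.comp (algebraMap A B) = fD.comp (algebraMap A D) := by
    refine RingHom.ext fun r => ?_
    show f₁ (algebraMap B q.ResidueField (algebraMap A B r)) = f₂ (IsLocalRing.residue D (algebraMap A D r))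
    rw [← Ideal.ResidueField.map_algebraMap p q (algebraMap A B) rfl r]
    exact RingHom.congr_fun hf _
  letI : Algebra A E := (fB.comp (algebraMap A B)).toAlgebra
  let φ : D ⊗[A] B →ₐ[A] E := Algebra.TensorProduct.lift
    { fD with commutes' := fun r => (RingHom.congr_fun hfc r).symm }
    { fB with commutes' := fun r => rfl } fun _ _ => Commute.all _ _
  haveI : IsDomain E := inferInstance
  let M : Ideal (D ⊗[A] B) := RingHom.ker φ
  haveI : M.IsPrime := RingHom.ker_isPrime _
  let L := Localization.AtPrime M
  haveI : Algebra.WeaklyEtale (D ⊗[A] B) L := WLoc.weaklyEtale_of_isLocalization M.primeCompl L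
  haveI : Algebra.WeaklyEtale D L := Algebra.WeaklyEtale.trans D (D ⊗[A] B) L
  have hkD : ∀ d : D, d ∈ IsLocalRing.maximalIdeal D → fD d = 0 := fun d hd => by
    show f₂ (IsLocalRing.residue D d) = 0
    rw [(IsLocalRing.residue_eq_zero_iff d).mpr hd, map_zero]
  haveI : IsLocalHom (algebraMap D L) := by
    refine ⟨fun d hd => by_contra fun hn => ?_⟩
    have h1 : (algebraMap D (D ⊗[A] B) d) ∈ M := by
      show φ (d ⊗ₜ[A] (1 : B)) = 0
      simp only [φ, Algebra.TensorProduct.lift_tmul]
      show fD d * fB 1 = 0
      rw [hkD d hn, zero_mul]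
    rw [IsScalarTower.algebraMap_apply D (D ⊗[A] B) L] at hd
    exact (IsLocalization.AtPrime.isUnit_to_map_iff L M _).mp hd h1
  have hbij := WEtale.Olivier.bijective (A := D) (B := L)
  let θ : D ≃+* L := RingEquiv.ofBijective _ hbij
  let g : B →+* D := (θ.symm : L →+* D).comp ((algebraMap (D ⊗[A] B) L).comp (Algebra.TensorProduct.includeRight : B →ₐ[A] D ⊗[A] B).toRingHom)
  have hgA : ∀ r : A, g (algebraMap A B r) = algebraMap A D r := fun r => by
    show θ.symm (algebraMap (D ⊗[A] B) L ((1 : D) ⊗ₜ[A] algebraMap A B r)) = _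
    rw [RingEquiv.symm_apply_eq, Algebra.algebraMap_eq_smul_one r, ← TensorProduct.smul_tmul, ← Algebra.algebraMap_eq_smul_one]
    show _ = algebraMap D L (algebraMap A D r)
    rw [IsScalarTower.algebraMap_apply D (D ⊗[A] B) L]
    rfl
  -- transfer integrality
  letI : Algebra B D := g.toAlgebra
  haveI : IsScalarTower A B D := .of_algebraMap_eq fun r => (hgA r).symm
  let F := FractionRing D
  let G : B ⊗[A] K →ₐ[B] F := Algebra.TensorProduct.lift (Algebra.ofId B F)
    (IsFractionRing.liftAlgHom (g := Algebra.ofId A F)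
      (by
        show Function.Injective (algebraMap A F)
        rw [IsScalarTower.algebraMap_eq A D F]
        exact (IsFractionRing.injective D F).comp hinjD)) fun _ _ => Commute.all _ _
  have hGint : IsIntegral D (G x) := by
    have h1 : IsIntegral B (G x) := hx.map G
    exact h1.tower_top
  obtain ⟨d, hd⟩ := IsIntegrallyClosed.isIntegral_iff.mp hGint
  have hed : g e = algebraMap A D a * d := by
    apply IsFractionRing.injective D F
    rw [map_mul, hd]
    have h2 := congrArg G he
    rw [map_mul, G.commutes, G.commutes] at h2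
    rw [show algebraMap D F (g e) = algebraMap B F e from (IsScalarTower.algebraMap_apply B D F e).symm, h2]
    congr 1
    rw [IsScalarTower.algebraMap_apply B D F]
    exact congrArg _ (hgA a)
  -- descend along `B_q → D`
  haveI : Module.Flat B D := by
    haveI : Algebra.WeaklyEtale B D := WEtale.weaklyEtale_of_tower A B D
    infer_instance
  have hgq : Ideal.comap g (IsLocalRing.maximalIdeal D) = q := by
    refine (hq.eq_of_le (Ideal.IsPrime.ne_top (Ideal.comap_isPrime g _)) fun b hb => ?_).symm
    rw [Ideal.mem_comap, IsLocalRing.mem_maximalIdeal, mem_nonunits_iff]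
    intro hu
    have h3 : IsUnit (algebraMap (D ⊗[A] B) L ((1 : D) ⊗ₜ[A] b)) := by
      have := hu.map (θ : D →+* L)
      simpa [g] using this
    refine (IsLocalization.AtPrime.isUnit_to_map_iff L M _).mp h3 ?_
    show φ ((1 : D) ⊗ₜ[A] b) = 0
    simp only [φ, Algebra.TensorProduct.lift_tmul]
    show fD 1 * fB b = 0
    have hb' : algebraMap B q.ResidueField b = 0 := Ideal.algebraMap_residueField_eq_zero.mpr hb
    show fD 1 * f₁ (algebraMap B q.ResidueField b) = 0
    rw [hb', map_zero, mul_zero]
  have hgu : ∀ t : q.primeCompl, IsUnit (g t) := fun t =>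
    IsLocalRing.notMem_maximalIdeal.mp fun h => t.2 (hgq.le h)
  letI : Algebra (Localization.AtPrime q) D := (IsLocalization.lift (M := q.primeCompl) (g := g) hgu).toAlgebra
  haveI : IsScalarTower B (Localization.AtPrime q) D := .of_algebraMap_eq fun b => (IsLocalization.lift_eq _ b).symm
  haveI : Module.Flat (Localization.AtPrime q) D := (Module.flat_iff_of_isLocalization (Localization.AtPrime q) q.primeCompl (M := D)).mpr inferInstance
  haveI : IsLocalHom (algebraMap (Localization.AtPrime q) D) := by
    refine ((IsLocalRing.local_hom_TFAE _).out 0 4).mpr ?_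
    refine le_antisymm (IsLocalRing.le_maximalIdeal (Ideal.IsPrime.ne_top inferInstance)) ?_
    rw [← Localization.AtPrime.map_eq_maximalIdeal, Ideal.map_le_iff_le_comap, Ideal.comap_comap,
      ← IsScalarTower.algebraMap_eq B (Localization.AtPrime q) D]
    exact hgq.ge
  haveI : Module.FaithfullyFlat (Localization.AtPrime q) D := Module.FaithfullyFlat.of_flat_of_isLocalHom
  have hloc : algebraMap B (Localization.AtPrime q) e ∈ Ideal.span {algebraMap B (Localization.AtPrime q) (algebraMap A B a)} := by
    rw [← Ideal.comap_map_eq_self_of_faithfullyFlat (B := D) (Ideal.span {algebraMap B (Localization.AtPrime q) (algebraMap A B a)}),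
      Ideal.mem_comap, Ideal.map_span, Set.image_singleton, ← IsScalarTower.algebraMap_apply, ← IsScalarTower.algebraMap_apply,
      ← IsScalarTower.algebraMap_apply, Ideal.mem_span_singleton]
    exact ⟨d, hed⟩
  rw [← Set.image_singleton, ← Ideal.map_span, IsLocalization.algebraMap_mem_map_algebraMap_iff q.primeCompl] at hloc
  obtain ⟨s, hs, hse⟩ := hloc
  exact hs (hJq (Submodule.mem_colon.mpr fun y hy => by rw [Set.mem_singleton_iff.mp hy, smul_eq_mul]; exact hse))

end Groth.Agent.S1967
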