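import Groth.Statements.S19679
import Mathlib
import Groth.Agent.BalProd6.Basic

set_option autoImplicit false
universe u
open CategoryTheory MonoidalCategory CartesianMonoidalCategory MonObj AlgebraicGeometry
open ChGrp

namespace Groth.Agent.S19679

set_option backward.isDefEq.respectTransparency.types false
open Groth.Agent.BalProd6

/-- Let k be an algebraically closed field of characteristic zero, G and H affine group schemes of
finite type over k (algebraic groups) with i : H → G a homomorphism which is a closed immersion, and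
Z a reduced affine k-scheme of finite type (an affine variety) with an action of H. Let Y, with its
G-action and j : G × Z → Y, be the balanced product G ×^H Z for the fppf topology: j is
G-equivariant for left translation on the first factor, it is a torsor for the twisted H-action
h·(g, z) = (g i(h)⁻¹, h·z), and it has sections fppf-locally on Y. If π_Z : Z → P is a categorical
quotient of Z by H and π_Y : Y → Q a categorical quotient of Y by G, then the projection G × Z → Z
induces an isomorphism Q ≅ P, inverse to the morphism induced by the H-invariant map z ↦ π_Y(j(e,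
z)): there are mutually inverse φ : P → Q and χ : Q → P with π_Z followed by φ equal to z ↦ π_Y(j(e,
z)) and j followed by π_Y and χ equal to the projection followed by π_Z (so Y//G ≅ Z//H). (The
source assumes G and H reductive and defines G ×^H Z as the quotient (G × Z)//H, a principal
H-bundle; here the quotients are part of the data, the balanced product is taken in its torsor form,
and reductivity is not needed.) -/
theorem result
    (k : Type u) [Field k] [IsAlgClosed k] [CharZero k]
    (G H Z Y P Q : Over (Spec (CommRingCat.of k))) [GrpObj G] [GrpObj H]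
    [IsAffine G.left] [LocallyOfFiniteType G.hom] [IsAffine H.left] [LocallyOfFiniteType H.hom]
    (i : H ⟶ G) [IsMonHom i] [IsClosedImmersion i.left]
    [IsAffine Z.left] [LocallyOfFiniteType Z.hom] [IsReduced Z.left]
    (aZ : AlgGrp.Action H Z) (aY : AlgGrp.Action G Y) (j : G ⊗ Z ⟶ Y)
    (hY : ChGrp.IsBalProd Scheme.fppfPrecoverage i aZ aY j)
    (πZ : Z ⟶ P) (hP : GIT.IsCatQuot aZ πZ) (πY : Y ⟶ Q) (hQ : GIT.IsCatQuot aY πY) :
    ∃ (φ : P ⟶ Q) (χ : Q ⟶ P), φ ≫ χ = 𝟙 P ∧ χ ≫ φ = 𝟙 Q ∧
      πZ ≫ φ = lift (toUnit Z ≫ η[G]) (𝟙 Z) ≫ j ≫ πY ∧ j ≫ πY ≫ χ = snd G Z ≫ πZ := by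
  set e : Z ⟶ G ⊗ Z := lift (toUnit Z ≫ η[G]) (𝟙 Z) with he
  have hee : ∀ {T : Over (Spec (CommRingCat.of k))} (z : T ⟶ Z), z ≫ e = lift (1 : T ⟶ G) z := fun z => by
    rw [he, comp_lift, Category.comp_id, comp_toUnit_assoc, Hom.one_def]
  have hjQ : ∀ {T : Over (Spec (CommRingCat.of k))} (g : T ⟶ G) (z : T ⟶ Z), lift g z ≫ j ≫ πY = lift (1 : T ⟶ G) z ≫ j ≫ πY := fun g z => by
    have h1 := j_mul hY g 1 z
    rw [_root_.mul_one] at h1
    rw [← Category.assoc, h1, Category.assoc, hQ.1, lift_snd_assoc, Category.assoc]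
  obtain ⟨φ, hφ, -⟩ := hP.2 Q (e ≫ j ≫ πY) (AlgGrp.Action.hom_ext_lift₂ fun T h z => by
    rw [lift_snd_assoc, ← Category.assoc, ← Category.assoc (lift h z ≫ aZ.act), ← Category.assoc z, hee, hee,
      ← hjQ (h ≫ i) z]
    conv_rhs => rw [← Category.assoc, ← j_twist hY h (h ≫ i) z, mul_inv_cancel, Category.assoc])
  obtain ⟨χ₀, hχ₀⟩ := Groth.Agent.ExtDesc.exists_desc (cover_j hY) (snd G Z ≫ πZ) (fun T a b hab => by
    obtain ⟨c, hc⟩ := exists_twist hY hab
    have hb : lift (b ≫ fst G Z) (b ≫ snd G Z) = b := by rw [← comp_lift, lift_fst_snd, Category.comp_id]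
    rw [← hc, ← hb, ChGrp.lift_twist_act, lift_snd_assoc, lift_snd_assoc, Category.assoc, hP.1, lift_snd_assoc])
  obtain ⟨χ, hχ, -⟩ := hQ.2 P χ₀ (Groth.Agent.ExtDesc.over_hom_ext (Groth.Agent.ExtDesc.cover_whiskerLeft (cover_j hY) G) (AlgGrp.Action.hom_ext_lift₂ fun T g p => by
    obtain ⟨g', z, rfl⟩ : ∃ g' z, p = lift g' z := ⟨p ≫ fst G Z, p ≫ snd G Z, by rw [← comp_lift, lift_fst_snd, Category.comp_id]⟩
    rw [lift_whiskerLeft_assoc, lift_whiskerLeft_assoc, ← Category.assoc, ← j_mul hY, Category.assoc, hχ₀, lift_snd_assoc,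
      lift_snd_assoc, Category.assoc, hχ₀, lift_snd_assoc]))
  have hjχ : j ≫ πY ≫ χ = snd G Z ≫ πZ := by rw [hχ, hχ₀]
  refine ⟨φ, χ, ?_, ?_, by rw [hφ], hjχ⟩
  · obtain ⟨_, -, hu⟩ := hP.2 P πZ hP.1
    rw [hu (φ ≫ χ) (by show πZ ≫ φ ≫ χ = πZ; rw [← Category.assoc, hφ, Category.assoc, Category.assoc, hjχ, he, lift_snd_assoc, Category.id_comp]),
      hu (𝟙 P) (Category.comp_id _)]
  · obtain ⟨_, -, hu⟩ := hQ.2 Q πY hQ.1
    rw [hu (χ ≫ φ) ?_, hu (𝟙 Q) (Category.comp_id _)]
    refine Groth.Agent.ExtDesc.over_hom_ext (cover_j hY) ?_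
    rw [← Category.assoc πY, ← Category.assoc j, hjχ, Category.assoc, hφ]
    refine AlgGrp.Action.hom_ext_lift₂ fun T g z => ?_
    rw [lift_snd_assoc, hjQ g z, ← Category.assoc z, hee]

end Groth.Agent.S19679
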