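import Groth.Statements.S1968
import Mathlib
import Groth.Agent.WEtale.Olivier
import Groth.Agent.S1969

set_option autoImplicit false
universe u
open EtAlg

namespace Groth.Agent.S1968

/-- Let (A_j) be a family of valuation rings with fraction fields K_j. Then every ideal of the product
ring Π A_j is a flat Π A_j-module (that is, Π A_j has weak dimension at most 1), and Π K_j is the
localization of Π A_j at its non-zero-divisors. -/
theorem result {J : Type u} (A : J → Type u) [∀ j, CommRing (A j)] [∀ j, IsDomain (A j)]
    [∀ j, ValuationRing (A j)] (K : J → Type u) [∀ j, Field (K j)] [∀ j, Algebra (A j) (K j)]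
    [∀ j, IsFractionRing (A j) (K j)] :
    (∀ I : Ideal (∀ j, A j), Module.Flat (∀ j, A j) I) ∧
      IsLocalization (nonZeroDivisors (∀ j, A j)) (∀ j, K j) := by
  classical
  haveI := Groth.Agent.WEtale.Olivier.bezout_of_valuationRings A
  refine ⟨((Groth.Agent.S1969.result (∀ j, A j)).out 1 0).mp fun I hI => ?_, ?_⟩
  · obtain ⟨a, rfl⟩ := (IsBezout.isPrincipal_of_FG I hI).principal
    let e : ∀ j, A j := fun j => if a j = 0 then 0 else 1
    let g : (∀ j, A j) →ₗ[∀ j, A j] (Submodule.span (∀ j, A j) {a} : Submodule (∀ j, A j) (∀ j, A j)) :=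
      LinearMap.toSpanSingleton _ _ ⟨a, Submodule.mem_span_singleton_self a⟩
    have hg : Function.Surjective g := fun ⟨x, hx⟩ => by
      obtain ⟨c, rfl⟩ := Submodule.mem_span_singleton.mp hx
      exact ⟨c, Subtype.ext rfl⟩
    have hker : ∀ c, g c = 0 → c * e = 0 := fun c hc => funext fun j => by
      have := congrFun (congrArg Subtype.val hc) j
      simp only [g, LinearMap.toSpanSingleton_apply, SetLike.val_smul, smul_eq_mul, Pi.mul_apply, ZeroMemClass.coe_zero, Pi.zero_apply] at this
      simp only [e, Pi.mul_apply, Pi.zero_apply]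
      split_ifs with h
      · exact mul_zero _
      · rw [(mul_eq_zero.mp this).resolve_right h, zero_mul]
    let s : (Submodule.span (∀ j, A j) {a} : Submodule (∀ j, A j) (∀ j, A j)) →ₗ[∀ j, A j] (∀ j, A j) :=
      (Submodule.liftQ (LinearMap.ker g) (LinearMap.toSpanSingleton _ _ e) fun c hc => hker c hc).comp
        (g.quotKerEquivOfSurjective hg).symm.toLinearMap
    haveI : Module.Projective (∀ j, A j) (Submodule.span (∀ j, A j) {a} : Submodule (∀ j, A j) (∀ j, A j)) :=
      Module.Projective.of_split s g (LinearMap.ext fun x => by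
        obtain ⟨c, rfl⟩ := hg x
        have h1 : s (g c) = c * e := by
          simp only [s, LinearMap.comp_apply, LinearEquiv.coe_coe]
          rw [show (g.quotKerEquivOfSurjective hg).symm (g c) = Submodule.Quotient.mk c from
            (g.quotKerEquivOfSurjective hg).symm_apply_eq.mpr rfl]
          rfl
        rw [LinearMap.comp_apply, h1, LinearMap.id_apply]
        refine Subtype.ext (funext fun j => ?_)
        by_cases h : a j = 0 <;> simp [g, e, h])
    exact Module.Flat.of_projective
  · have hnzd : ∀ x : ∀ j, A j, x ∈ nonZeroDivisors (∀ j, A j) ↔ ∀ j, x j ≠ 0 := fun x => by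
      refine ⟨fun hx j h => ?_, fun hx => ?_⟩
      · have := (mem_nonZeroDivisors_iff_right.mp hx) (Pi.single j 1) (funext fun k => by
          rcases eq_or_ne k j with rfl | hk
          · simp [h]
          · simp [hk])
        exact one_ne_zero (α := A j) (by simpa using congrFun this j)
      · refine mem_nonZeroDivisors_iff_right.mpr fun y hy => funext fun j => ?_
        exact (mul_eq_zero.mp (show y j * x j = 0 from congrFun hy j)).resolve_right (hx j)
    constructor
    constructor
    · rintro ⟨x, hx⟩
      exact Pi.isUnit_iff.mpr fun j => (IsUnit.mk0 _ ((map_ne_zero_iff _ (IsFractionRing.injective (A j) (K j))).mpr ((hnzd x).mp hx j)) :)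
    · intro z
      choose c d hcd using fun j => IsLocalization.exists_mk'_eq (nonZeroDivisors (A j)) (z j)
      refine ⟨⟨c, ⟨fun j => (d j : A j), (hnzd _).mpr fun j => nonZeroDivisors.ne_zero (d j).2⟩⟩, funext fun j => ?_⟩
      show z j * algebraMap (A j) (K j) (d j : A j) = algebraMap (A j) (K j) (c j)
      rw [← hcd j, IsLocalization.mk'_spec]
    · intro x y h
      exact ⟨1, by rw [show x = y from funext fun j => IsFractionRing.injective (A j) (K j) (congrFun h j)]⟩

end Groth.Agent.S1968
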