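import Groth.Statements.S19681
import Mathlib
import Groth.Agent.BalProd6.Basic

set_option autoImplicit false
universe u
open CategoryTheory MonoidalCategory CartesianMonoidalCategory MonObj AlgebraicGeometry
open ChGrp

namespace Groth.Agent.S19681

set_option backward.isDefEq.respectTransparency.types false
open Groth.Agent.BalProd6 CategoryTheory.Limits

/-- Let k be an algebraically closed field of characteristic zero, G and H affine group schemes of
finite type over k with i : H → G a homomorphism which is a closed immersion, and Z a reduced affine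
k-scheme of finite type with an action of H. Let Y, with its G-action and j : G × Z → Y, be the
balanced product G ×^H Z for the fppf topology (j is G-equivariant for left translation on the first
factor, a torsor for the twisted H-action h·(g, z) = (g i(h)⁻¹, h·z), with sections fppf-locally on
Y). Let c : Y' → Y be a closed immersion from a reduced scheme Y' with a G-action making c
equivariant (a closed G-invariant subvariety of Y). Then Y' is again a balanced product: there are a
closed immersion c' : Z' → Z, an H-action on Z' for which c' is equivariant (a closed H-invariant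
subscheme of Z), and a morphism j' : G × Z' → Y' with j' followed by c equal to G × c' followed by
j, such that j' makes Y' the balanced product G ×^H Z' for the fppf topology. (The source assumes G
and H reductive and defines G ×^H Z as the quotient (G × Z)//H, a principal H-bundle; here the
balanced product is taken in its torsor form and reductivity is not needed.) -/
theorem result
    (k : Type u) [Field k] [IsAlgClosed k] [CharZero k]
    (G H Z Y Y' : Over (Spec (CommRingCat.of k))) [GrpObj G] [GrpObj H]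
    [IsAffine G.left] [LocallyOfFiniteType G.hom] [IsAffine H.left] [LocallyOfFiniteType H.hom]
    (i : H ⟶ G) [IsMonHom i] [IsClosedImmersion i.left]
    [IsAffine Z.left] [LocallyOfFiniteType Z.hom] [IsReduced Z.left]
    (aZ : AlgGrp.Action H Z) (aY : AlgGrp.Action G Y) (j : G ⊗ Z ⟶ Y)
    (hY : ChGrp.IsBalProd Scheme.fppfPrecoverage i aZ aY j)
    (c : Y' ⟶ Y) [IsClosedImmersion c.left] [IsReduced Y'.left]
    (aY' : AlgGrp.Action G Y') (hc : AlgGrp.Action.IsEquivariant aY' aY c) :
    ∃ (Z' : Over (Spec (CommRingCat.of k))) (c' : Z' ⟶ Z) (aZ' : AlgGrp.Action H Z') (j' : G ⊗ Z' ⟶ Y'),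
      IsClosedImmersion c'.left ∧ AlgGrp.Action.IsEquivariant aZ' aZ c' ∧
      j' ≫ c = (G ◁ c') ≫ j ∧ ChGrp.IsBalProd Scheme.fppfPrecoverage i aZ' aY' j' := by
  haveI : Mono c := (Over.forget _).mono_of_mono_map (inferInstanceAs (Mono c.left))
  set e : Z ⟶ G ⊗ Z := lift (toUnit Z ≫ η[G]) (𝟙 Z) with he
  have hee : ∀ {T : Over (Spec (CommRingCat.of k))} (z : T ⟶ Z), z ≫ e = lift (1 : T ⟶ G) z := fun z => by
    rw [he, comp_lift, Category.comp_id, comp_toUnit_assoc, Hom.one_def]
  have hjg : ∀ {T : Over (Spec (CommRingCat.of k))} (g : T ⟶ G) (z : T ⟶ Z), lift g z ≫ j = lift g (z ≫ e ≫ j) ≫ aY.act := fun g z => by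
    rw [← Category.assoc z, hee, ← j_mul hY, _root_.mul_one]
  have hcd : ∀ {T : Over (Spec (CommRingCat.of k))} (g : T ⟶ G) (y : T ⟶ Y'), (lift g y ≫ aY'.act) ≫ c = lift g (y ≫ c) ≫ aY.act := fun g y => by
    rw [Category.assoc, hc, lift_whiskerLeft_assoc]
  let Z' := pullback (e ≫ j) c
  let c' : Z' ⟶ Z := pullback.fst (e ≫ j) c
  let q : Z' ⟶ Y' := pullback.snd (e ≫ j) c
  have hq : c' ≫ e ≫ j = q ≫ c := pullback.condition
  have hc' : IsClosedImmersion c'.left :=
    MorphismProperty.of_isPullback (P := @IsClosedImmersion) ((IsPullback.of_hasPullback (e ≫ j) c).map (Over.forget _)).flip ‹_›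
  haveI : Mono c' := inferInstanceAs (Mono (pullback.fst (e ≫ j) c))
  have hact : ((H ◁ c') ≫ aZ.act) ≫ e ≫ j = (lift (fst H Z' ≫ i) (snd H Z' ≫ q) ≫ aY'.act) ≫ c := by
    refine AlgGrp.Action.hom_ext_lift₂ fun T h z => ?_
    rw [← Category.assoc (lift h z), ← Category.assoc (lift h z), ← Category.assoc (lift h z), ← Category.assoc (lift h z), lift_whiskerLeft, ← Category.assoc _ e, hee,
      comp_lift, lift_fst_assoc, lift_snd_assoc, hcd, Category.assoc z, ← hq, ← Category.assoc z, ← hjg]
    conv_rhs => rw [← j_twist hY h (h ≫ i) (z ≫ c'), mul_inv_cancel]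
  let act' : H ⊗ Z' ⟶ Z' := pullback.lift ((H ◁ c') ≫ aZ.act) (lift (fst H Z' ≫ i) (snd H Z' ≫ q) ≫ aY'.act) hact
  have hact' : act' ≫ c' = (H ◁ c') ≫ aZ.act := pullback.lift_fst _ _ _
  let aZ' : AlgGrp.Action H Z' :=
    { act := act'
      one_act := by
        refine (cancel_mono c').mp ?_
        rw [Category.assoc, hact', ← Category.assoc, ← whisker_exchange, Category.assoc, aZ.one_act, leftUnitor_naturality]
      mul_act := by
        refine (cancel_mono c').mp ?_
        refine AlgGrp.Action.hom_ext_lift₃ fun T h h' z => ?_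
        simp only [Category.assoc, hact', lift_whiskerRight_assoc, lift_whiskerLeft_assoc, lift_lift_associator_hom_assoc, ← Hom.mul_def]
        rw [AlgGrp.Action.lift_mul_act] }
  let j' : G ⊗ Z' ⟶ Y' := (G ◁ q) ≫ aY'.act
  have hj' : j' ≫ c = (G ◁ c') ≫ j := by
    refine AlgGrp.Action.hom_ext_lift₂ fun T g z => ?_
    show lift g z ≫ ((G ◁ q) ≫ aY'.act) ≫ c = _
    rw [Category.assoc, lift_whiskerLeft_assoc, lift_whiskerLeft_assoc, ← Category.assoc, hcd, Category.assoc, ← hq, ← Category.assoc z, ← hjg]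
  haveI : Mono (G ◁ c') := ⟨fun {T} u v huv => CartesianMonoidalCategory.hom_ext _ _
    (by simpa using congrArg (· ≫ fst G Z) huv) ((cancel_mono c').mp (by simpa using congrArg (· ≫ snd G Z) huv))⟩
  refine ⟨Z', c', aZ', j', hc', hact', hj', ?_, ?_, ?_⟩
  · refine AlgGrp.Action.hom_ext_lift₂ fun T g p => ?_
    obtain ⟨g', z, rfl⟩ : ∃ g' z, p = lift g' z := ⟨p ≫ fst G Z', p ≫ snd G Z', by rw [← comp_lift, lift_fst_snd, Category.comp_id]⟩
    rw [← Category.assoc, AlgGrp.Action.lift_prod_act, AlgGrp.Action.lift_trivial_act, lift_whiskerLeft_assoc]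
    rw [lift_whiskerLeft_assoc]
    show lift (lift g g' ≫ μ[G]) (z ≫ q) ≫ aY'.act = lift g (lift g' z ≫ (G ◁ q) ≫ aY'.act) ≫ aY'.act
    rw [lift_whiskerLeft_assoc, ← Hom.mul_def, AlgGrp.Action.lift_mul_act]
  · have hG : ∀ {T : Over (Spec (CommRingCat.of k))} (p : T ⟶ H ⊗ (G ⊗ Z')),
        p ≫ (ChGrp.twist i aZ').act ≫ (G ◁ c') = p ≫ (H ◁ (G ◁ c')) ≫ (ChGrp.twist i aZ).act := by
      intro T p
      obtain ⟨h, g, z, rfl⟩ : ∃ h g z, p = lift h (lift g z) := ⟨p ≫ fst _ _, p ≫ snd _ _ ≫ fst _ _, p ≫ snd _ _ ≫ snd _ _, by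
        rw [← comp_lift, ← comp_lift, ← comp_lift, lift_fst_snd, Category.comp_id, lift_fst_snd, Category.comp_id]⟩
      rw [← Category.assoc, ChGrp.lift_twist_act, lift_whiskerLeft, lift_whiskerLeft_assoc, lift_whiskerLeft, ChGrp.lift_twist_act,
        Category.assoc]
      exact congrArg (lift _) ((congrArg (lift h z ≫ ·) hact').trans (lift_whiskerLeft_assoc _ _ _ _))
    have hw : (ChGrp.twist i aZ').act ≫ j' = snd H (G ⊗ Z') ≫ j' := by
      refine (cancel_mono c).mp ?_
      rw [Category.assoc, hj', Category.assoc, hj', ← Category.assoc, ← Category.id_comp ((ChGrp.twist i aZ').act ≫ _), hG,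
        Category.id_comp, Category.assoc, hY.2.1.w, whiskerLeft_snd_assoc]
    have hex : ∀ {T : Over (Spec (CommRingCat.of k))} (a b : T ⟶ G ⊗ Z'), a ≫ j' = b ≫ j' →
        ∃ h : T ⟶ H, lift h b ≫ (ChGrp.twist i aZ').act = a := fun a b hab => by
      obtain ⟨h, hh⟩ := exists_twist hY (a := a ≫ (G ◁ c')) (b := b ≫ (G ◁ c')) (by
        rw [Category.assoc, Category.assoc, ← hj', ← Category.assoc, hab, Category.assoc])
      exact ⟨h, (cancel_mono (G ◁ c')).mp (by rw [Category.assoc, hG, lift_whiskerLeft_assoc, hh])⟩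
    refine ⟨⟨hw⟩, ⟨PullbackCone.IsLimit.mk hw (fun s => lift (hex s.fst s.snd s.condition).choose s.snd)
      (fun s => (hex s.fst s.snd s.condition).choose_spec) (fun s => lift_snd _ _) fun s m h1 h2 => ?_⟩⟩
    have hH : ∀ u v : s.pt ⟶ H ⊗ (G ⊗ Z'), u ≫ (ChGrp.twist i aZ').act = v ≫ (ChGrp.twist i aZ').act → u ≫ snd _ _ = v ≫ snd _ _ → u = v := by
      intro u v e1 e2
      refine CartesianMonoidalCategory.hom_ext _ _ ?_ e2
      have : u ≫ (H ◁ (G ◁ c')) = v ≫ (H ◁ (G ◁ c')) := hY.2.1.hom_ext (by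
          rw [Category.assoc, Category.assoc, ← hG, ← hG, ← Category.assoc, e1, Category.assoc]) (by
          rw [Category.assoc, Category.assoc, whiskerLeft_snd, ← Category.assoc, e2, Category.assoc])
      simpa using congrArg (· ≫ fst _ _) this
    exact hH _ _ (h1.trans (hex s.fst s.snd s.condition).choose_spec.symm) (h2.trans (lift_snd _ _).symm)
  · obtain ⟨R, hR, hs⟩ := hY.2.2
    refine ⟨R.pullbackArrows c.left, Precoverage.pullbackArrows_mem c.left hR, ?_⟩
    rintro _ _ ⟨U, h, hh⟩
    obtain ⟨sU, hsU⟩ := hs h hh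
    have hsU' : sU ≫ j.left = h := hsU
    let T : Over (Spec (CommRingCat.of k)) := Over.mk (pullback.snd h c.left ≫ Y'.hom)
    let p : T ⟶ Y' := Over.homMk (pullback.snd h c.left) rfl
    have hwu : (pullback.fst h c.left ≫ sU) ≫ (G ⊗ Z).hom = T.hom := by
      show _ = pullback.snd h c.left ≫ Y'.hom
      rw [← Over.w j, ← Over.w c, Category.assoc, ← Category.assoc sU, hsU', ← Category.assoc, pullback.condition, Category.assoc]
    let u : T ⟶ G ⊗ Z := Over.homMk (pullback.fst h c.left ≫ sU) hwu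
    have hu : u ≫ j = p ≫ c := Over.OverMorphism.ext (by
      show (pullback.fst h c.left ≫ sU) ≫ j.left = pullback.snd h c.left ≫ c.left
      rw [Category.assoc, hsU', pullback.condition])
    have hgz : lift (u ≫ fst G Z) (u ≫ snd G Z) = u := by rw [← comp_lift, lift_fst_snd, Category.comp_id]
    have hz : (u ≫ snd G Z) ≫ e ≫ j = (lift (u ≫ fst G Z)⁻¹ p ≫ aY'.act) ≫ c := by
      rw [hcd, ← hu, ← Category.assoc _ e, hee]
      conv_lhs => rw [← inv_mul_cancel (u ≫ fst G Z), j_mul hY, hgz]
    let z' : T ⟶ Z' := pullback.lift (u ≫ snd G Z) (lift (u ≫ fst G Z)⁻¹ p ≫ aY'.act) hz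
    have hsec : lift (u ≫ fst G Z) z' ≫ j' = p := by
      show lift (u ≫ fst G Z) z' ≫ (G ◁ q) ≫ aY'.act = p
      rw [lift_whiskerLeft_assoc, show z' ≫ q = lift (u ≫ fst G Z)⁻¹ p ≫ aY'.act from pullback.lift_snd _ _ _,
        ← AlgGrp.Action.lift_mul_act, mul_inv_cancel, AlgGrp.Action.lift_one_act]
    exact ⟨(lift (u ≫ fst G Z) z').left, congrArg (fun m => m.left) hsec⟩

end Groth.Agent.S19681
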