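import Groth.Statements.S19683
import Groth.Agent.BiextLib.Basic
import Mathlib.CategoryTheory.Sites.EpiMono

set_option autoImplicit false
universe u
open CategoryTheory CategoryTheory.Limits MonoidalCategory CartesianMonoidalCategory MonObj AlgebraicGeometry
open AbSch

namespace Groth.Agent.S19683

/-- Let S be a scheme, P, Q and G commutative S-group schemes with P and Q divisible (multiplication by
every non-zero integer is an epimorphism of their sheaves of points on the big fppf site), and n, m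
non-zero integers. Then the pull-back map on isomorphism classes of biextensions of (P, Q) by G
along (n, m) : P × Q → P × Q has trivial kernel: if B is a biextension of (P, Q) by G on the big
fppf site of all S-schemes, B' a biextension of (P, Q) by G with a morphism of biextensions B' → B
lying over multiplication by n on P, multiplication by m on Q and the identity of G (so that B' is
the inverse image of B by (n, m)), and B' is trivial, then B is trivial. -/
theorem result {S : Scheme.{u}} (P Q G : Over S)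
    [GrpObj P] [IsCommMonObj P] [GrpObj Q] [IsCommMonObj Q] [GrpObj G] [IsCommMonObj G]
    (hP : ∀ k : ℤ, k ≠ 0 → Epi (k • 𝟙 (CGrpSh.pts Scheme.fppfPrecoverage P)))
    (hQ : ∀ k : ℤ, k ≠ 0 → Epi (k • 𝟙 (CGrpSh.pts Scheme.fppfPrecoverage Q)))
    (n m : ℤ) (hn : n ≠ 0) (hm : m ≠ 0)
    (B B' : Biext (QuotSh.J Scheme.fppfPrecoverage S) (CGrpSh.pts Scheme.fppfPrecoverage P) (CGrpSh.pts Scheme.fppfPrecoverage Q) (CGrpSh.pts Scheme.fppfPrecoverage G))
    (φ : Biext.HomOver (QuotSh.J Scheme.fppfPrecoverage S) (n • 𝟙 (CGrpSh.pts Scheme.fppfPrecoverage P)) (m • 𝟙 (CGrpSh.pts Scheme.fppfPrecoverage Q)) (𝟙 (CGrpSh.pts Scheme.fppfPrecoverage G)) B' B)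
    (hB' : Biext.IsTrivial (QuotSh.J Scheme.fppfPrecoverage S) B') :
    Biext.IsTrivial (QuotSh.J Scheme.fppfPrecoverage S) B := by
  obtain ⟨s'⟩ := hB'
  let J := QuotSh.J Scheme.fppfPrecoverage S
  have hz : ∀ (X : Over S) [GrpObj X] [IsCommMonObj X] (k : ℤ) (T : Over S)
      (x : (CGrpSh.pts Scheme.fppfPrecoverage X).obj.obj (Opposite.op T)),
      (k • 𝟙 (CGrpSh.pts Scheme.fppfPrecoverage X)).hom.app (Opposite.op T) x = k • x := by
    intro X _ _ k T x
    rfl
  have hdiv : ∀ (X : Over S) [GrpObj X] [IsCommMonObj X],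
      (∀ k : ℤ, k ≠ 0 → Epi (k • 𝟙 (CGrpSh.pts Scheme.fppfPrecoverage X))) →
      ∀ k : ℤ, k ≠ 0 → Groth.Agent.BiextLib.LDiv k (CGrpSh.pts Scheme.fppfPrecoverage X) := by
    intro X _ _ hX k hk T p
    have hloc : Sheaf.IsLocallySurjective (k • 𝟙 (CGrpSh.pts Scheme.fppfPrecoverage X)) :=
      (Sheaf.isLocallySurjective_iff_epi' AddCommGrpCat.{u + 1} _).2 (hX k hk)
    refine ⟨_, Presheaf.imageSieve_mem J (k • 𝟙 (CGrpSh.pts Scheme.fppfPrecoverage X)).hom (U := Opposite.op T) p, ?_⟩
    intro T' f hf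
    obtain ⟨p', hp'⟩ := hf
    exact ⟨p', (hz X k T' p').symm.trans hp'⟩
  let ps : Groth.Agent.BiextLib.PreSplit B n m :=
    { τ := fun T p q => φ.map T (s'.σ T p q)
      hP := fun T p q => by rw [φ.πP_map, s'.πP_σ]; exact hz P n T p
      hQ := fun T p q => by rw [φ.πQ_map, s'.πQ_σ]; exact hz Q m T q
      hmap := fun f p q => by rw [← φ.map_res, s'.σ_map]
      hadd₁ := fun T p p' q => by simp only [s'.σ_add₁, φ.map_add₁]
      hadd₂ := fun T p q q' => by simp only [s'.σ_add₂, φ.map_add₂] }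
  exact ps.isTrivial (hdiv P hP n hn) (hdiv Q hQ n hn) (hdiv P hP m hm) (hdiv Q hQ m hm)

end Groth.Agent.S19683
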