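import Groth.Statements.S19686
import Groth.Agent.GrpSch.AbRigid
import Groth.Agent.GrpSch.FixedEtale
import Groth.Agent.GrpSch.SmoothGeomRed

set_option autoImplicit false
universe u
open CategoryTheory CategoryTheory.Limits MonoidalCategory CartesianMonoidalCategory MonObj AlgebraicGeometry
open AbSch

namespace Groth.Agent.S19686

/-- Let S be a scheme and A₁, A₂, A₃ abelian S-schemes (smooth, proper, connected fibres). Then the
category of biextensions of (A₁, A₂) by A₃ is rigid: for every biextension B of (A₁, A₂) by A₃,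
formed with the sheaves of points on the big fppf site of all S-schemes, the only endomorphism of B
inducing the identity on A₁, A₂ and A₃ is the identity (equivalently, there is no non-zero
biadditive morphism from A₁ × A₂ to A₃). The source also asserts that every such biextension is
trivial; that assertion is not part of this statement. -/
theorem result {S : Scheme.{u}} (A₁ A₂ A₃ : Over S)
    [GrpObj A₁] [IsCommMonObj A₁] [Smooth A₁.hom] [IsProper A₁.hom]
    (hA₁ : ∀ s : S, ConnectedSpace ↥(A₁.hom.fiber s))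
    [GrpObj A₂] [IsCommMonObj A₂] [Smooth A₂.hom] [IsProper A₂.hom]
    (hA₂ : ∀ s : S, ConnectedSpace ↥(A₂.hom.fiber s))
    [GrpObj A₃] [IsCommMonObj A₃] [Smooth A₃.hom] [IsProper A₃.hom]
    (hA₃ : ∀ s : S, ConnectedSpace ↥(A₃.hom.fiber s))
    (B : Biext (QuotSh.J Scheme.fppfPrecoverage S) (CGrpSh.pts Scheme.fppfPrecoverage A₁) (CGrpSh.pts Scheme.fppfPrecoverage A₂) (CGrpSh.pts Scheme.fppfPrecoverage A₃))
    (f : Biext.Hom (QuotSh.J Scheme.fppfPrecoverage S) B B) : f = Biext.HomOver.id (QuotSh.J Scheme.fppfPrecoverage S) B := by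
  haveI := Groth.Agent.GrpSch.FixedEtale.geometricallyConnected_of_connected A₁ hA₁
  haveI := Groth.Agent.GrpSch.FixedEtale.geometricallyConnected_of_connected A₂ hA₂
  let K := Scheme.fppfPrecoverage.{u}
  let J := QuotSh.J K S
  let G := CGrpSh.pts K A₃
  let P := CGrpSh.pts K A₁
  let Q := CGrpSh.pts K A₂
  -- the difference of f and the identity
  have hd : ∀ (T : Over S) (x : B.E.obj.obj (Opposite.op T)), ∃! g : G.obj.obj (Opposite.op T), B.act T g x = f.map T x :=
    fun T x => B.existsUnique_act T x (f.map T x) ((f.πP_map T x).symm) ((f.πQ_map T x).symm)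
  choose d hd hduniq using fun T x => hd T x
  have hd_map : ∀ (T T' : Over S) (h : T' ⟶ T) (x : B.E.obj.obj (Opposite.op T)),
      G.obj.map h.op (d T x) = d T' (B.E.obj.map h.op x) := fun T T' h x =>
    hduniq T' _ _ (by
      show B.act T' (G.obj.map h.op (d T x)) (B.E.obj.map h.op x) = f.map T' (B.E.obj.map h.op x)
      rw [← B.act_map, hd, f.map_res])
  have hd_eq : ∀ (T : Over S) (x x' : B.E.obj.obj (Opposite.op T)), B.πP T x = B.πP T x' → B.πQ T x = B.πQ T x' →
      d T x = d T x' := by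
    intro T x x' hP hQ
    obtain ⟨g, hg, -⟩ := B.existsUnique_act T x x' hP hQ
    subst hg
    refine (hduniq T _ _ ?_)
    show B.act T (d T x) (B.act T g x) = f.map T (B.act T g x)
    rw [← B.add_act, add_comm, B.add_act, hd, f.map_act]
    rfl
  have hd_add : ∀ (T : Over S) (x z : B.E.obj.obj (Opposite.op T)) (h : B.πQ T x = B.πQ T z),
      d T (B.add₁ T x z h) = d T x + d T z := fun T x z h => Eq.symm (hduniq T _ _ (by
    show B.act T (d T x + d T z) (B.add₁ T x z h) = f.map T (B.add₁ T x z h)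
    rw [B.add_act, B.add₁_comm T x z h, ← B.add₁_act, B.add₁_comm T (B.act T (d T z) z) x, ← B.add₁_act]
    rw [f.map_add₁, B.add₁_comm T (f.map T z)]
    congr 1
    · exact hd T x
    · exact hd T z))
  have hd_add2 : ∀ (T : Over S) (x z : B.E.obj.obj (Opposite.op T)) (h : B.πP T x = B.πP T z),
      d T (B.add₂ T x z h) = d T x + d T z := fun T x z h => Eq.symm (hduniq T _ _ (by
    show B.act T (d T x + d T z) (B.add₂ T x z h) = f.map T (B.add₂ T x z h)
    rw [B.add_act, B.add₂_comm T x z h, ← B.add₂_act, B.add₂_comm T (B.act T (d T z) z) x, ← B.add₂_act]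
    rw [f.map_add₂, B.add₂_comm T (f.map T z)]
    congr 1
    · exact hd T x
    · exact hd T z))
  -- the universal difference
  let U : Over S := A₁ ⊗ A₂
  let up : P.obj.obj (Opposite.op U) := ULift.up (Additive.ofMul (fst A₁ A₂))
  let uq : Q.obj.obj (Opposite.op U) := ULift.up (Additive.ofMul (snd A₁ A₂))
  obtain ⟨R, hR, hlift⟩ := B.locallySurjective U up uq
  choose xs hxs using hlift
  have hsh := (isSheaf_iff_isSheaf_of_type J (G.obj ⋙ forget AddCommGrpCat.{u + 1})).1
    ((Biext.uSh J G).property) R hR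
  let fam : Presieve.FamilyOfElements (G.obj ⋙ forget AddCommGrpCat.{u + 1}) R.arrows :=
    fun T h hh => d T (xs h hh)
  have hcompat : fam.Compatible := by
    intro Y₁ Y₂ Z g₁ g₂ f₁ f₂ h₁ h₂ e
    show G.obj.map g₁.op (d Y₁ (xs f₁ h₁)) = G.obj.map g₂.op (d Y₂ (xs f₂ h₂))
    rw [hd_map, hd_map]
    apply hd_eq
    · rw [B.πP_map, B.πP_map, (hxs f₁ h₁).1, (hxs f₂ h₂).1]
      show (P.obj.map f₁.op ≫ P.obj.map g₁.op) up = (P.obj.map f₂.op ≫ P.obj.map g₂.op) up
      rw [← Functor.map_comp, ← Functor.map_comp, ← CategoryTheory.op_comp, ← CategoryTheory.op_comp, e]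
    · rw [B.πQ_map, B.πQ_map, (hxs f₁ h₁).2, (hxs f₂ h₂).2]
      show (Q.obj.map f₁.op ≫ Q.obj.map g₁.op) uq = (Q.obj.map f₂.op ≫ Q.obj.map g₂.op) uq
      rw [← Functor.map_comp, ← Functor.map_comp, ← CategoryTheory.op_comp, ← CategoryTheory.op_comp, e]
  obtain ⟨D, hD, -⟩ := hsh fam hcompat
  let m : U ⟶ A₃ := D.down.toMul
  have hkey : ∀ (T : Over S) (x : B.E.obj.obj (Opposite.op T)),
      d T x = G.obj.map (lift (B.πP T x).down.toMul (B.πQ T x).down.toMul).op D := by
    intro T x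
    let t : T ⟶ U := lift (B.πP T x).down.toMul (B.πQ T x).down.toMul
    have hP : P.obj.map t.op up = B.πP T x := ULift.ext _ _ (by
      show Additive.ofMul (t ≫ fst A₁ A₂) = _
      rw [lift_fst]; rfl)
    have hQ : Q.obj.map t.op uq = B.πQ T x := ULift.ext _ _ (by
      show Additive.ofMul (t ≫ snd A₁ A₂) = _
      rw [lift_snd]; rfl)
    refine ((isSheaf_iff_isSheaf_of_type J (G.obj ⋙ forget AddCommGrpCat.{u + 1})).1
      ((Biext.uSh J G).property) (R.pullback t) (J.pullback_stable t hR)).isSeparatedFor.ext fun T' h hh => ?_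
    show G.obj.map h.op (d T x) = G.obj.map h.op (G.obj.map t.op D)
    have e1 : G.obj.map h.op (G.obj.map t.op D) = d T' (xs (h ≫ t) hh) := by
      refine Eq.trans ?_ (hD (h ≫ t) hh)
      show (G.obj.map t.op ≫ G.obj.map h.op) D = _
      rw [← Functor.map_comp]
      rfl
    rw [e1, hd_map]
    apply hd_eq
    · rw [B.πP_map, (hxs (h ≫ t) hh).1, ← hP]
      show (P.obj.map t.op ≫ P.obj.map h.op) up = _
      rw [← Functor.map_comp]
      rfl
    · rw [B.πQ_map, (hxs (h ≫ t) hh).2, ← hQ]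
      show (Q.obj.map t.op ≫ Q.obj.map h.op) uq = _
      rw [← Functor.map_comp]
      rfl
  -- the two axes
  have hax1 : ∀ (T : Over S) (q : Q.obj.obj (Opposite.op T)), G.obj.map (lift (1 : T ⟶ A₁) q.down.toMul).op D = 0 := by
    intro T q
    obtain ⟨R', hR', hl⟩ := B.locallySurjective T 0 q
    refine ((isSheaf_iff_isSheaf_of_type J (G.obj ⋙ forget AddCommGrpCat.{u + 1})).1
      ((Biext.uSh J G).property) R' hR').isSeparatedFor.ext fun T' h hh => ?_
    obtain ⟨x, hxP, hxQ⟩ := hl h hh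
    show G.obj.map h.op (G.obj.map (lift (1 : T ⟶ A₁) q.down.toMul).op D) = G.obj.map h.op 0
    rw [map_zero]
    rw [map_zero] at hxP
    have e : d T' x = G.obj.map h.op (G.obj.map (lift (1 : T ⟶ A₁) q.down.toMul).op D) := by
      rw [hkey, hxP, hxQ]
      show _ = (G.obj.map (lift (1 : T ⟶ A₁) q.down.toMul).op ≫ G.obj.map h.op) D
      rw [← Functor.map_comp, ← CategoryTheory.op_comp, comp_lift, MonObj.comp_one]
      rfl
    rw [← e]
    have h2 := hd_eq T' (B.add₁ T' x x rfl) x (by rw [B.πP_add₁, hxP, add_zero]) (B.πQ_add₁ T' x x rfl)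
    rw [hd_add] at h2
    exact add_eq_left.1 h2
  have hax2 : ∀ (T : Over S) (p : P.obj.obj (Opposite.op T)), G.obj.map (lift p.down.toMul (1 : T ⟶ A₂)).op D = 0 := by
    intro T p
    obtain ⟨R', hR', hl⟩ := B.locallySurjective T p 0
    refine ((isSheaf_iff_isSheaf_of_type J (G.obj ⋙ forget AddCommGrpCat.{u + 1})).1
      ((Biext.uSh J G).property) R' hR').isSeparatedFor.ext fun T' h hh => ?_
    obtain ⟨x, hxP, hxQ⟩ := hl h hh
    show G.obj.map h.op (G.obj.map (lift p.down.toMul (1 : T ⟶ A₂)).op D) = G.obj.map h.op 0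
    rw [map_zero]
    rw [map_zero] at hxQ
    have e : d T' x = G.obj.map h.op (G.obj.map (lift p.down.toMul (1 : T ⟶ A₂)).op D) := by
      rw [hkey, hxP, hxQ]
      show _ = (G.obj.map (lift p.down.toMul (1 : T ⟶ A₂)).op ≫ G.obj.map h.op) D
      rw [← Functor.map_comp, ← CategoryTheory.op_comp, comp_lift, MonObj.comp_one]
      rfl
    rw [← e]
    have h2 := hd_eq T' (B.add₂ T' x x rfl) x (B.πP_add₂ T' x x rfl) (by rw [B.πQ_add₂, hxQ, add_zero])
    rw [hd_add2] at h2
    exact add_eq_left.1 h2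
  -- rigidity
  have hm1 : lift (1 : A₂ ⟶ A₁) (𝟙 A₂) ≫ m = 1 := by
    have h := hax1 A₂ (ULift.up (Additive.ofMul (𝟙 A₂)))
    exact congrArg (fun z => z.down.toMul) h
  have hm2 : (A₁ ◁ η[A₂]) ≫ m = toUnit _ ≫ η[A₃] := by
    have h := hax2 (A₁ ⊗ 𝟙_ (Over S)) (ULift.up (Additive.ofMul (fst A₁ (𝟙_ (Over S)))))
    have h' : lift (fst A₁ (𝟙_ (Over S))) (1 : _ ⟶ A₂) ≫ m = 1 := congrArg (fun z => z.down.toMul) h
    rw [show A₁ ◁ η[A₂] = lift (fst A₁ (𝟙_ (Over S))) (1 : _ ⟶ A₂) by
      apply CartesianMonoidalCategory.hom_ext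
      · simp
      · rw [whiskerLeft_snd, lift_snd, Hom.one_def, toUnit_unique (toUnit _) (snd A₁ (𝟙_ _))], h', Hom.one_def]
  have hm : m = 1 := by
    rw [Groth.Agent.GrpSch.AbRigid.rigidity A₁ A₂ A₃ η[A₁] η[A₂] m η[A₃] hm2, ← Hom.one_def, hm1, MonObj.comp_one]
  apply Biext.HomOver.ext'
  intro T x
  show f.map T x = x
  rw [← hd T x, hkey T x]
  have hD0 : D = 0 := ULift.ext _ _ (congrArg Additive.ofMul hm)
  rw [hD0, map_zero, B.zero_act]

end Groth.Agent.S19686
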