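import Groth.Statements.S19702
import Groth.Agent.GrpSch.SepPoints

set_option autoImplicit false
universe u
open CategoryTheory MonoidalCategory CartesianMonoidalCategory MonObj GrpObj AlgebraicGeometry CategoryTheory.Limits
open AlgGrp

namespace Groth.Agent.S19702

/-- Let k be a field, K a field extension of k and G a k-group scheme of finite type. Then G is
anti-affine, i.e. O(G) = k, if and only if the base change G_K is anti-affine, i.e. O(G_K) = K. -/
theorem result (k : Type u) [Field k] (K : Type u) [Field K] [Algebra k K]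
    (G : Over (Spec (CommRingCat.of k))) [GrpObj G] [LocallyOfFiniteType G.hom] [QuasiCompact G.hom] :
    Function.Bijective ((Scheme.ΓSpecIso (CommRingCat.of k)).inv ≫ G.hom.appTop).hom ↔
      Function.Bijective ((Scheme.ΓSpecIso (CommRingCat.of K)).inv ≫ (Red.bc (Spec.map (CommRingCat.ofHom (algebraMap k K))) G).hom.appTop).hom := by
  let φ : CommRingCat.of k ⟶ CommRingCat.of K := CommRingCat.ofHom (algebraMap k K)
  let π := G.hom
  let ψ := (Scheme.ΓSpecIso (CommRingCat.of k)).inv ≫ π.appTop
  letI : Algebra k Γ(G.left, ⊤) := ψ.hom.toAlgebra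
  haveI : CompactSpace G.left := QuasiCompact.compactSpace_of_compactSpace π
  haveI := Groth.Agent.GrpSch.SepPoints.isSeparated_grp G
  haveI : QuasiSeparatedSpace G.left := quasiSeparatedSpace_of_quasiSeparated π
  let fst' := Limits.pullback.fst π (Spec.map φ)
  let snd' := Limits.pullback.snd π (Spec.map φ)
  haveI : Flat (Spec.map φ) := inferInstance
  have hiso := isIso_pushoutSection_of_isQuasiSeparated_of_flat_right
    (IsPullback.of_hasPullback π (Spec.map φ))
    (US := ⊤) (UT := ⊤) (UX := ⊤) le_top le_top (UY := ⊤) (by simp) (isAffineOpen_top _) (isAffineOpen_top _)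
    isCompact_univ isQuasiSeparated_univ
  have H := (isIso_pushoutSection_iff ..).mp hiso
  have H2 : IsPushout ψ φ fst'.appTop ((Scheme.ΓSpecIso (CommRingCat.of K)).inv ≫ snd'.appTop) := by
    refine H.of_iso (Scheme.ΓSpecIso (CommRingCat.of k)) (Iso.refl _) (Scheme.ΓSpecIso (CommRingCat.of K)) (Iso.refl _) ?_ ?_ ?_ ?_
    · simp only [ψ, Iso.refl_hom, Category.comp_id, Iso.hom_inv_id_assoc]; exact π.appLE_eq_app
    · simp only [Scheme.Hom.appLE_eq_app, φ]
      exact Scheme.ΓSpecIso_naturality φ
    · simp only [Iso.refl_hom, Category.comp_id, Category.id_comp]; exact fst'.appLE_eq_app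
    · simp only [Iso.refl_hom, Category.comp_id, Iso.hom_inv_id_assoc]; exact snd'.appLE_eq_app
  change Function.Bijective ψ.hom ↔
    Function.Bijective ((Scheme.ΓSpecIso (CommRingCat.of K)).inv ≫ snd'.appTop).hom
  let e := (H2.flip.isoIsPushout _ _ (CommRingCat.isPushout_tensorProduct k K Γ(G.left, ⊤)))
  have h1 : (((Scheme.ΓSpecIso (CommRingCat.of K)).inv ≫ snd'.appTop) ≫ e.hom).hom =
      (Algebra.TensorProduct.includeLeftRingHom : K →+* TensorProduct k K Γ(G.left, ⊤)) := by
    rw [IsPushout.inl_isoIsPushout_hom]; rfl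
  have h2 : Function.Bijective (Algebra.TensorProduct.includeLeftRingHom :
      K →+* TensorProduct k K Γ(G.left, ⊤)) ↔
      Function.Bijective ((Scheme.ΓSpecIso (CommRingCat.of K)).inv ≫ snd'.appTop).hom := by
    rw [← h1, CommRingCat.hom_comp]
    exact Function.Bijective.of_comp_iff' ((ConcreteCategory.isIso_iff_bijective e.hom).mp inferInstance) _
  rw [← h2, ← Module.FaithfullyFlat.lTensor_bijective_iff_bijective k K
    (f := Algebra.linearMap k Γ(G.left, ⊤)) |>.trans (by rfl : _ ↔ Function.Bijective ψ.hom)]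
  rw [← Function.Bijective.of_comp_iff _ (TensorProduct.rid k K).symm.bijective]
  refine iff_of_eq (congrArg Function.Bijective (funext fun x => ?_))
  simp

end Groth.Agent.S19702
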