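import Groth.Statements.S1971
import Groth.Agent.Hensel.Pairs

set_option autoImplicit false
universe u
open EtAlg

namespace Groth.Agent.S1971

theorem transfer (A : Type u) [CommRing A] (I J : Ideal A) (h : I.radical = J.radical)
    (B : Type u) [CommRing B] [Algebra A B] (hB : Hens2.IsPairHenselization A I B) :
    Hens2.IsPairHenselization A J B := by
  have hr : ∀ (C : Type u) [CommRing C] (f : A →+* C), (I.map f).radical = (J.map f).radical := by
    intro C _ f
    have key : ∀ P Q : Ideal A, P ≤ Q.radical → (P.map f).radical ≤ (Q.map f).radical := fun P Q hPQ =>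
      Ideal.radical_le_radical_iff.mpr ((Ideal.map_mono hPQ).trans (Ideal.map_radical_le f))
    exact le_antisymm (key I J (h ▸ Ideal.le_radical)) (key J I (h.symm ▸ Ideal.le_radical))
  refine ⟨?_, fun C _ K f hC hf => ?_⟩
  · have := hB.1
    rw [← Groth.Agent.Hensel.henselianRing_radical_iff, ← hr B (algebraMap A B),
      Groth.Agent.Hensel.henselianRing_radical_iff]
    exact hB.1
  · refine hB.2 C K.radical f (Groth.Agent.Hensel.henselianRing_radical_iff.mpr hC) ?_
    exact Ideal.le_radical.trans ((hr C f).trans_le (Ideal.radical_mono hf))


/-- Let A be a ring with ideals I and J having the same zero locus in Spec A. Then an A-algebra is a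
henselization of the pair (A, I) if and only if it is a henselization of the pair (A, J). -/
theorem result (A : Type u) [CommRing A] (I J : Ideal A)
    (h : PrimeSpectrum.zeroLocus (I : Set A) = PrimeSpectrum.zeroLocus (J : Set A)) (B : Type u) [CommRing B] [Algebra A B] :
    Hens2.IsPairHenselization A I B ↔ Hens2.IsPairHenselization A J B := by
  have hr : I.radical = J.radical := by
    rw [← PrimeSpectrum.vanishingIdeal_zeroLocus_eq_radical, h, PrimeSpectrum.vanishingIdeal_zeroLocus_eq_radical]
  exact ⟨transfer A I J hr B, transfer A J I hr.symm B⟩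

end Groth.Agent.S1971
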