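import Groth.Statements.S19710
import Mathlib
import Groth.Agent.FunFldLib.LimitSeries

set_option autoImplicit false
open FunFld

namespace Groth.Agent.S19710

/-- Let `k` be an algebraically closed field of characteristic zero. A `g^r_d` on a function field `K/k`
of one variable is a divisor `D` of degree `d` with a subspace `V ⊆ L(D)` of dimension `r + 1`;
`V(-nP) = V ∩ L(D - nP)`, and the `i`-th vanishing order `m_i(V, P)` (`m_0 < ⋯ < m_r`) equals `m`
exactly when `dim V(-mP) = r + 1 - i` and `dim V(-(m+1)P) = r - i`. Let `K_Y` have genus `0` and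
carry a `g^r_d` `(D_Y, V_Y)` with at least a cusp at a place `Q_Y` (`dim V_Y(-2Q_Y) ≥ r`); let
`(D_Z, V_Z)` be a `g^r_d` on a second function field `K_Z`, compatible with `(D_Y, V_Y)` at a node
formed by a place `P ≠ Q_Y` of `K_Y` and a place `Q` of `K_Z` (`dim V_Y(-nP) + dim V_Z(-(d+1-n)Q) =
r + 1` for `0 ≤ n ≤ d + 1`), and let `P'` be a place of `K_Y` different from `P` and from `Q_Y`.
Then `m_i(V_Y, P') < m_i(V_Z, Q)` for all but at most one index: the set of `i ≤ r` for which the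
`i`-th vanishing order of `V_Y` at `P'` equals the `i`-th vanishing order of `V_Z` at `Q` has at
most one element. (In the source `Q_Y` is the point where the rational component `Y` meets a chain
of curves ending in a curve of positive genus, which forces the cusp condition assumed here; the
source works over the complex numbers.) -/
theorem result
    (k : Type*) [Field k] [IsAlgClosed k] [CharZero k]
    (KY : Type*) [Field KY] [Algebra k KY] (hKY : FunFld.IsFunctionField k KY) (hg0 : FunFld.genus k KY = 0)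
    (KZ : Type*) [Field KZ] [Algebra k KZ] (hKZ : FunFld.IsFunctionField k KZ)
    (d r : ℕ) (DY : FunFld.Divisor k KY) (hDY : DY.deg = d) (DZ : FunFld.Divisor k KZ) (hDZ : DZ.deg = d)
    (VY : Submodule k KY) (hVY : VY ≤ FunFld.L DY) (hVYr : Module.finrank k ↥VY = r + 1)
    (VZ : Submodule k KZ) (hVZ : VZ ≤ FunFld.L DZ) (hVZr : Module.finrank k ↥VZ = r + 1)
    (QY : FunFld.Place k KY) (hcusp : r ≤ Module.finrank k ↥(VY ⊓ FunFld.L (DY - Finsupp.single QY ((2 : ℤ)))))
    (P : FunFld.Place k KY) (hP : P ≠ QY) (Q : FunFld.Place k KZ)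
    (hcomp : ∀ n : ℕ, n ≤ d + 1 →
      Module.finrank k ↥(VY ⊓ FunFld.L (DY - Finsupp.single P ((n : ℤ)))) + Module.finrank k ↥(VZ ⊓ FunFld.L (DZ - Finsupp.single Q ((d : ℤ) + 1 - n))) = r + 1)
    (P' : FunFld.Place k KY) (hP'P : P' ≠ P) (hP'Q : P' ≠ QY) :
    {i : ℕ | i ≤ r ∧ ∃ m : ℕ,
        Module.finrank k ↥(VY ⊓ FunFld.L (DY - Finsupp.single P' ((m : ℤ)))) = r + 1 - i ∧
        Module.finrank k ↥(VY ⊓ FunFld.L (DY - Finsupp.single P' ((m : ℤ) + 1))) = r - i ∧
        Module.finrank k ↥(VZ ⊓ FunFld.L (DZ - Finsupp.single Q ((m : ℤ)))) = r + 1 - i ∧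
        Module.finrank k ↥(VZ ⊓ FunFld.L (DZ - Finsupp.single Q ((m : ℤ) + 1))) = r - i}.Subsingleton := by
  classical
  rintro i ⟨hi, m, hY, -, -, hZ⟩ j ⟨hj, n, hY', -, -, hZ'⟩
  have hmem : ∀ (i m : ℕ), i ≤ r →
      Module.finrank k ↥(VY ⊓ FunFld.L (DY - Finsupp.single P' ((m : ℤ)))) = r + 1 - i →
      Module.finrank k ↥(VZ ⊓ FunFld.L (DZ - Finsupp.single Q ((m : ℤ) + 1))) = r - i →
      ∃ f ∈ VY, f ≠ 0 ∧ FunFld.div k f + DY = Finsupp.single P' (m : ℤ) + Finsupp.single P ((d : ℤ) - m) := by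
    intro i m hi hY hZ
    have hmd : m ≤ d := by
      by_contra h
      have h1 := Groth.Agent.FunFldLib.dimAt_eq_zero hKY (V := VY) hDY P' (z := (m : ℤ)) (by omega)
      simp only [Groth.Agent.FunFldLib.dimAt] at h1
      omega
    have h1 := hcomp (d - m) (by omega)
    rw [show (d : ℤ) + 1 - ((d - m : ℕ) : ℤ) = (m : ℤ) + 1 by omega] at h1
    haveI := Groth.Agent.FunFldLib.finite_V hKY hVY
    set U := VY ⊓ FunFld.L (DY - Finsupp.single P' ((m : ℤ)))
    set U' := VY ⊓ FunFld.L (DY - Finsupp.single P ((d - m : ℕ) : ℤ))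
    have h := Submodule.finrank_sup_add_finrank_inf_eq U U'
    have h2 := Submodule.finrank_mono (show U ⊔ U' ≤ VY from sup_le inf_le_left inf_le_left)
    have hne : U ⊓ U' ≠ ⊥ := by
      intro hb
      rw [hb, finrank_bot] at h
      omega
    obtain ⟨f, hf, hf0⟩ := Submodule.exists_mem_ne_zero_of_ne_bot hne
    refine ⟨f, hf.1.1, hf0, Groth.Agent.FunFldLib.div_eq_of_ge hKY hf0
      ((Groth.Agent.FunFldLib.mem_L_iff hf0).2 fun R => ?_) ?_⟩
    · have h1 := (Groth.Agent.FunFldLib.mem_L_iff hf0).1 hf.1.2 R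
      have h2 := (Groth.Agent.FunFldLib.mem_L_iff hf0).1 hf.2.2 R
      have h3 := (Groth.Agent.FunFldLib.mem_L_iff hf0).1 (hVY hf.1.1) R
      simp only [Finsupp.sub_apply, Finsupp.add_apply, Finsupp.single_apply] at h1 h2 ⊢
      by_cases hR : P' = R
      · subst hR; rw [if_pos rfl] at h1 ⊢; rw [if_neg (Ne.symm hP'P)] at h2 ⊢; omega
      · by_cases hR' : P = R
        · subst hR'; rw [if_pos rfl] at h2 ⊢; rw [if_neg hR] at h1 ⊢; omega
        · rw [if_neg hR, if_neg hR']; omega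
    · rw [Groth.Agent.FunFldLib.deg_add, Groth.Agent.FunFldLib.deg_single, Groth.Agent.FunFldLib.deg_single,
        Groth.Agent.FunFldLib.deg_eq_one hKY P, Groth.Agent.FunFldLib.deg_eq_one hKY P', hDY]
      push_cast; omega
  obtain ⟨f, hf, hf0, hfd⟩ := hmem i m hi hY hZ
  obtain ⟨g, hg, hg0', hgd⟩ := hmem j n hj hY' hZ'
  obtain ⟨c, hc⟩ := Groth.Agent.FunFldLib.unique_member hKY hg0 hDY hVY hVYr hcusp hP'Q hP hf hg hf0 hg0'
    (fun R hR hR' => by rw [hfd]; simp [hR, hR']) (fun R hR hR' => by rw [hgd]; simp [hR, hR'])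
  have hc0 : c ≠ 0 := fun h => hg0' (by rw [hc, h, zero_smul])
  have ho : P'.ord g = P'.ord f := by
    rw [hc, Algebra.smul_def, Groth.Agent.FunFldLib.ord_mul P' ((map_ne_zero _).2 hc0) hf0,
      Groth.Agent.FunFldLib.ord_algebraMap, zero_add]
  have e1 := congrArg (fun X : FunFld.Divisor k KY => X P') hfd
  have e2 := congrArg (fun X : FunFld.Divisor k KY => X P') hgd
  simp only [Finsupp.add_apply, Groth.Agent.FunFldLib.div_apply hKY.1, Finsupp.single_eq_same,
    Finsupp.single_eq_of_ne hP'P, ho] at e1 e2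
  have hmn : m = n := by omega
  subst hmn
  omega

end Groth.Agent.S19710
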