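import Groth.Statements.S19711
import Mathlib.Algebra.Module.FinitePresentation
import Mathlib.RingTheory.Spectrum.Prime.Topology
import Mathlib.LinearAlgebra.Basis.VectorSpace
import Mathlib.RingTheory.Localization.FractionRing

set_option autoImplicit false
universe u
open CategoryTheory
open Coh

namespace Groth.Agent.S19711

open nonZeroDivisors

lemma exists_almost_retraction {A : Type u} [CommRing A] [IsNoetherianRing A] [IsDomain A] {M N : Type u}
    [AddCommGroup M] [Module A M] [AddCommGroup N] [Module A N] [Module.Finite A M] (ι : N →ₗ[A] M)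
    (hι : Function.Injective ι) :
    ∃ (t : A) (r : M →ₗ[A] N), t ≠ 0 ∧ ∀ n, r (ι n) = t • n := by
  haveI : Module.Finite A N := Module.Finite.of_injective ι hι
  haveI : Module.FinitePresentation A M := Module.finitePresentation_of_finite A M
  let ι' : LocalizedModule A⁰ N →ₗ[FractionRing A] LocalizedModule A⁰ M := LocalizedModule.map A⁰ ι
  have hι' : Function.Injective ι' := LocalizedModule.map_injective A⁰ ι hι
  obtain ⟨r', hr'⟩ := LinearMap.exists_leftInverse_of_injective ι' (LinearMap.ker_eq_bot.2 hι')
  let mM := LocalizedModule.mkLinearMap A⁰ M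
  let mN := LocalizedModule.mkLinearMap A⁰ N
  let g : M →ₗ[A] LocalizedModule A⁰ N := (r'.restrictScalars A) ∘ₗ mM
  obtain ⟨h, s, hs⟩ := Module.FinitePresentation.exists_lift_of_isLocalizedModule A⁰ mN g
  have hcomp : mN ∘ₗ (h ∘ₗ ι) = mN ∘ₗ ((s : A) • LinearMap.id) := by
    ext n
    have h1 : mN (h (ι n)) = (s : A) • r' (mM (ι n)) := LinearMap.congr_fun hs (ι n)
    have h2 : r' (mM (ι n)) = mN n := by
      have : mM (ι n) = ι' (mN n) := by
        change LocalizedModule.mk (ι n) 1 = LocalizedModule.map A⁰ ι (LocalizedModule.mk n 1)
        rw [LocalizedModule.map_mk]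
      rw [this]
      exact LinearMap.congr_fun hr' (mN n)
    simp only [LinearMap.comp_apply, LinearMap.smul_apply, LinearMap.id_coe, id_eq, map_smul]
    rw [h1, h2]
  obtain ⟨t, ht⟩ := Module.Finite.exists_smul_of_comp_eq_of_isLocalizedModule A⁰ mN _ _ hcomp
  refine ⟨(t : A) * s, (t : A) • h, mul_ne_zero (nonZeroDivisors.ne_zero t.2) (nonZeroDivisors.ne_zero s.2),
    fun n => ?_⟩
  have h3 := LinearMap.congr_fun ht n
  simp only [LinearMap.smul_apply, LinearMap.comp_apply, LinearMap.id_coe, id_eq] at h3 ⊢
  rw [mul_smul]
  exact h3

/-- Let A be a Noetherian integral domain and F an A-linear additive functor from A-modules to A-modules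
with F(A) a finitely generated A-module. Call such a functor generically injective when there is a
dense open subset U of Spec A such that for every point u of U whose residue field κ(u) is a
finitely generated A-algebra the comparison map F(A) ⊗_A κ(u) → F(κ(u)) is injective; since F is
A-linear this injectivity says: every m in F(A) whose image under F(A → κ(u)) vanishes satisfies s·m
∈ u·F(A) for some s outside u. If F is generically injective then so is every A-linear additive
subfunctor K ⊆ F (a natural transformation K → F with injective components). (The published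
statement is over a reduced Noetherian affine scheme, for additive functors on quasi-coherent
sheaves with values in abelian groups and the induced A-action, assumes F weakly bounded (F(A/p)
finitely generated for every prime ideal p) and also records that K is again weakly bounded; only
the finite generation of F(A), which its argument uses, is assumed here, and the integral case with
A-linear functors stated here is the one its argument by generic flatness treats.) -/
theorem result {A : Type u} [CommRing A] [IsNoetherianRing A] [IsDomain A]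
    (F K : ModuleCat.{u} A ⥤ ModuleCat.{u} A) [F.Additive] [F.Linear A] [K.Additive] [K.Linear A]
    (ι : K ⟶ F) (hι : ∀ X : ModuleCat.{u} A, Function.Injective (ι.app X).hom)
    (hfin : Module.Finite A (F.obj (ModuleCat.of A A)))
    (hGI : ∃ U : Set (PrimeSpectrum A), IsOpen U ∧ Dense U ∧ ∀ u ∈ U, Algebra.FiniteType A u.asIdeal.ResidueField →
        ∀ m : F.obj (ModuleCat.of A A),
          (F.map (ModuleCat.ofHom (Algebra.linearMap A u.asIdeal.ResidueField))).hom m = 0 →
            ∃ s ∉ u.asIdeal, s • m ∈ u.asIdeal • (⊤ : Submodule A (F.obj (ModuleCat.of A A)))) :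
    ∃ U : Set (PrimeSpectrum A), IsOpen U ∧ Dense U ∧ ∀ u ∈ U, Algebra.FiniteType A u.asIdeal.ResidueField →
        ∀ m : K.obj (ModuleCat.of A A),
          (K.map (ModuleCat.ofHom (Algebra.linearMap A u.asIdeal.ResidueField))).hom m = 0 →
            ∃ s ∉ u.asIdeal, s • m ∈ u.asIdeal • (⊤ : Submodule A (K.obj (ModuleCat.of A A))) := by
  obtain ⟨U, hUo, hUd, hU⟩ := hGI
  let a := ModuleCat.of A A
  obtain ⟨t, r, ht, hr⟩ := exists_almost_retraction (ι.app a).hom (hι a)
  have hD : Dense (PrimeSpectrum.basicOpen t : Set (PrimeSpectrum A)) :=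
    IsOpen.dense (PrimeSpectrum.basicOpen t).2 ⟨⟨⊥, Ideal.isPrime_bot⟩, by simp [ht]⟩
  refine ⟨U ∩ (PrimeSpectrum.basicOpen t : Set (PrimeSpectrum A)), hUo.inter (PrimeSpectrum.basicOpen t).2,
    hUd.inter_of_isOpen_left hD hUo, fun u hu hft m hm => ?_⟩
  let q := ModuleCat.ofHom (Algebra.linearMap A u.asIdeal.ResidueField)
  have h1 : (F.map q).hom ((ι.app a).hom m) = 0 := by
    have := congrArg (fun φ => φ.hom m) (ι.naturality q)
    simp only [ModuleCat.hom_comp, LinearMap.comp_apply] at this
    exact this.symm.trans ((congrArg _ hm).trans (map_zero _))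
  obtain ⟨s, hs, hsm⟩ := hU u hu.1 hft _ h1
  refine ⟨s * t, fun h => (u.isPrime.mem_or_mem h).elim hs (by simpa using hu.2), ?_⟩
  have h2 : r (s • (ι.app a).hom m) ∈ u.asIdeal • (⊤ : Submodule A (K.obj a)) := by
    have := Submodule.mem_map_of_mem (f := r) hsm
    rw [Submodule.map_smul''] at this
    exact Submodule.smul_mono le_rfl le_top this
  rwa [map_smul, hr, ← mul_smul] at h2

end Groth.Agent.S19711
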