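import Groth.Statements.S1972
import Groth.Agent.Hensel.HenselizationNormal

set_option autoImplicit false
universe u
open EtAlg

namespace Groth.Agent.S1972

open Groth.Agent.Hensel in
theorem nilradical_hens (R K : Type u) [CommRing R] [CommRing K] [Algebra R K] :
    nilradical (Hens R K) ≤ (nilradical R).map (algebraMap R (Hens R K)) := by
  intro z hz
  obtain ⟨n, hn⟩ := mem_nilradical.mp hz
  obtain ⟨X, x, rfl⟩ := Hens.exists_rep z
  rw [← map_pow, ← map_zero (Hens.of X)] at hn
  obtain ⟨Y, f, hf⟩ := (Hens.of_eq_iff _ _).mp hn
  rw [map_pow, map_zero] at hf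
  rw [← Hens.of_hom f]
  let N := (nilradical R).map (algebraMap R Y.carrier)
  have : IsReduced (R ⧸ nilradical R) :=
    (Ideal.isRadical_iff_quotient_reduced _).mp (Ideal.radical_isRadical _)
  have h0 : IsReduced (TensorProduct R (R ⧸ nilradical R) Y.carrier) := Groth.Agent.S7128.result (R ⧸ nilradical R) _
  let e₀ := ((Algebra.TensorProduct.quotIdealMapEquivTensorQuot Y.carrier (nilradical R)).restrictScalars R).trans
    (Algebra.TensorProduct.comm R Y.carrier (R ⧸ nilradical R))
  have : IsReduced (Y.carrier ⧸ N) := isReduced_of_injective e₀ e₀.injective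
  have hm : f.1 x ∈ N := by
    refine Ideal.Quotient.eq_zero_iff_mem.mp (IsNilpotent.eq_zero ⟨n, ?_⟩)
    rw [← map_pow]
    exact (congrArg (Ideal.Quotient.mk N) hf).trans (map_zero _)
  have := Ideal.mem_map_of_mem (Hens.of Y).toRingHom hm
  rw [Ideal.map_map] at this
  have he : (Hens.of Y).toRingHom.comp (algebraMap R Y.carrier) = algebraMap R (Hens R K) :=
    (Hens.of Y).comp_algebraMap
  rwa [he] at this

open Groth.Agent.Hensel in
theorem nilradical_of_algEquiv {R K S : Type u} [CommRing R] [CommRing K] [Algebra R K]
    [CommRing S] [Algebra R S] (e : Hens R K ≃ₐ[R] S) :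
    (nilradical R).map (algebraMap R S) = nilradical S := by
  refine le_antisymm (Ideal.map_le_iff_le_comap.mpr fun a ha => IsNilpotent.map ha _) fun z hz => ?_
  have h := Ideal.mem_map_of_mem e.toAlgHom.toRingHom (nilradical_hens R K
    (show e.symm z ∈ nilradical (Hens R K) from IsNilpotent.map hz e.symm))
  rw [Ideal.map_map] at h
  have he : e.toAlgHom.toRingHom.comp (algebraMap R (Hens R K)) = algebraMap R S := e.toAlgHom.comp_algebraMap
  rw [he] at h
  simpa using h


/-- Let R be a local ring and S a henselization or a strict henselization of R. Then the nilradical of S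
is the extension of the nilradical of R. -/
theorem result (R S : Type u) [CommRing R] [IsLocalRing R] [CommRing S] [IsLocalRing S]
    [Algebra R S] [IsLocalHom (algebraMap R S)]
    (h : Hensel.IsHenselization R S ∨ Hensel.IsStrictHenselization R S) :
    (nilradical R).map (algebraMap R S) = nilradical S := by
  rcases h with h | h
  · obtain ⟨e⟩ := Groth.Agent.Hensel.exists_algEquiv_hens (R := R) (S := S)
    exact nilradical_of_algEquiv e
  · obtain ⟨e, -⟩ := Groth.Agent.Hensel.exists_algEquiv_hens_strict (R := R) (S := S)
    exact nilradical_of_algEquiv e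

end Groth.Agent.S1972
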