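import Groth.Statements.S1973
import Mathlib
import Groth.Agent.ValEt.Etale

set_option autoImplicit false
universe u
open EtAlg

namespace Groth.Agent.S1973

/-- Let A be a Dedekind domain and B an etale A-algebra. Then B is isomorphic as a ring to a finite
product of Dedekind domains, and for every maximal ideal q of B whose localization is not a field,
the localization B_q is a discrete valuation ring. (The source states the last claim for all maximal
ideals; it fails for field factors, e.g. A a DVR with uniformizer π and B = A[1/π], so the guard is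
needed.) -/
theorem result (A B : Type u) [CommRing A] [IsDedekindDomain A] [CommRing B] [Algebra A B]
    [Algebra.Etale A B] :
    (∃ (n : ℕ) (D : Fin n → Type u) (_ : ∀ i, CommRing (D i)) (_ : ∀ i, IsDedekindDomain (D i)),
      Nonempty (B ≃+* ∀ i, D i)) ∧
    ∀ (q : Ideal B) [q.IsMaximal], ¬ IsField (Localization.AtPrime q) →
      ∃ _ : IsDomain (Localization.AtPrime q), IsDiscreteValuationRing (Localization.AtPrime q) := by
  classical
  have hfl : ∀ (M : Type u) [AddCommGroup M] [Module A M], Module.Flat A M → ∀ N : Submodule A M, Module.Flat A N :=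
    fun M _ _ hM N => by
      haveI : Module.IsTorsionFree A M := inferInstance
      infer_instance
  have hval : ∀ (D : Type u) [CommRing D] [Algebra A D] [Algebra.Etale A D] (q : Ideal D) [q.IsPrime],
      ∃ _ : IsDomain (Localization.AtPrime q), ValuationRing (Localization.AtPrime q) := fun D _ _ _ q _ =>
    ((S1969.result D).out 0 3 rfl rfl).mp (ValEt.ideals_flat_of_weaklyEtale A D hfl) q
  haveI : IsNoetherianRing B := Algebra.FiniteType.isNoetherianRing A B
  refine ⟨?_, fun q _ hq => ?_⟩
  swap
  · obtain ⟨hd, hv⟩ := hval B q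
    exact ⟨hd, ((IsDiscreteValuationRing.TFAE _ hq).out 1 0 rfl rfl).mp hv⟩
  haveI : IsReduced B := ⟨fun x hx => by
    refine eq_zero_of_localization x fun q hq => ?_
    obtain ⟨hd, -⟩ := hval B q
    exact (hx.map (algebraMap B (Localization.AtPrime q))).eq_zero⟩
  haveI : Finite (minimalPrimes B) := (minimalPrimes.finite_of_isNoetherianRing B).to_subtype
  obtain ⟨n, ⟨σ⟩⟩ := Finite.exists_equiv_fin (minimalPrimes B)
  let P : Fin n → Ideal B := fun i => (σ.symm i).1
  have hPp : ∀ i, (P i).IsPrime := fun i => (σ.symm i).2.1.1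
  have hinj : Function.Injective P := Subtype.val_injective.comp σ.symm.injective
  have hcop : Pairwise fun i j => IsCoprime (P i) (P j) := by
    intro i j hij
    rw [Ideal.isCoprime_iff_sup_eq]
    by_contra h
    obtain ⟨q, hq, hle⟩ := Ideal.exists_le_maximal _ h
    obtain ⟨hd, -⟩ := hval B q
    have key : ∀ k, P k ≤ q → P k = Ideal.comap (algebraMap B (Localization.AtPrime q)) ⊥ := fun k hk => by
      refine le_antisymm ((σ.symm k).2.2 ⟨Ideal.comap_isPrime _ ⊥, bot_le⟩ ?_) ?_
      · intro x hx
        obtain ⟨⟨s, hs⟩, hsx⟩ := (IsLocalization.map_eq_zero_iff q.primeCompl (Localization.AtPrime q) x).mp hx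
        exact (((hPp k).mem_or_mem (show s * x ∈ P k by rw [show s * x = 0 from hsx]; exact zero_mem _)).resolve_left
          fun h => hs (hk h))
      · intro x hx
        obtain ⟨⟨s, hs⟩, hsx⟩ := (IsLocalization.map_eq_zero_iff q.primeCompl (Localization.AtPrime q) x).mp hx
        exact (((hPp k).mem_or_mem (show s * x ∈ P k by rw [show s * x = 0 from hsx]; exact zero_mem _)).resolve_left
          fun h => hs (hk h))
    exact hij (hinj ((key i (le_sup_left.trans hle)).trans (key j (le_sup_right.trans hle)).symm))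
  have hinf : ⨅ i, P i = ⊥ := by
    rw [eq_bot_iff]
    intro x hx
    rw [Ideal.mem_iInf] at hx
    refine (IsReduced.eq_zero x ?_ : x = 0)
    rw [← mem_nilradical, nilradical_eq_sInf, Submodule.mem_sInf]
    intro q hq
    haveI : Ideal.IsPrime q := hq
    obtain ⟨p, hp, hpq⟩ := Ideal.exists_minimalPrimes_le (J := (q : Ideal B)) (I := (⊥ : Ideal B)) bot_le
    have := hx (σ ⟨p, hp⟩)
    simp only [P, Equiv.symm_apply_apply] at this
    exact hpq this
  let E : B ≃+* ∀ i, B ⧸ P i :=
    (RingEquiv.quotientBot B).symm.trans ((Ideal.quotEquivOfEq hinf.symm).trans (Ideal.quotientInfRingEquivPiQuotient P hcop))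
  refine ⟨n, fun i => B ⧸ P i, inferInstance, fun i => ?_, ⟨E⟩⟩
  haveI := hPp i
  obtain ⟨y, hy⟩ : ∃ y : B, ∀ j, Ideal.Quotient.mk (P j) y = if j = i then 1 else 0 := by
    obtain ⟨y, hy⟩ := E.surjective (fun j => if j = i then 1 else 0)
    exact ⟨y, fun j => congrFun hy j⟩
  have hy1 : 1 - y ∈ P i := by rw [← Ideal.Quotient.eq_zero_iff_mem, map_sub, map_one, hy, if_pos rfl, sub_self]
  have hidem : ∀ x ∈ P i, x * y = 0 := fun x hx => by
    rw [← Ideal.mem_bot, ← hinf, Ideal.mem_iInf]
    intro j
    by_cases h : j = i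
    · subst h; exact Ideal.mul_mem_right _ _ hx
    · exact Ideal.mul_mem_left _ _ (Ideal.Quotient.eq_zero_iff_mem.mp (by rw [hy, if_neg h]))
  have hspan : P i = Ideal.span {1 - y} := le_antisymm (fun x hx => Ideal.mem_span_singleton'.mpr
    ⟨x, by rw [mul_sub, mul_one, hidem x hx, sub_zero]⟩) ((Ideal.span_singleton_le_iff_mem _).mpr hy1)
  have hyid : IsIdempotentElem y := by
    have := hidem _ hy1
    rw [sub_mul, one_mul, sub_eq_zero] at this
    exact this.symm
  haveI : IsLocalization.Away y (B ⧸ P i) := by rw [hspan]; exact IsLocalization.Away.quotient_of_isIdempotentElem hyid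
  haveI : Algebra.Etale B (B ⧸ P i) := Algebra.Etale.of_isLocalizationAway y
  haveI : Algebra.Etale A (B ⧸ P i) := Algebra.Etale.comp A B _
  haveI : IsDedekindDomainDvr (B ⧸ P i) :=
    { (inferInstance : IsNoetherianRing (B ⧸ P i)) with
      is_dvr_at_nonzero_prime := fun Q hQ _ => by
        obtain ⟨hd, hv⟩ := hval (B ⧸ P i) Q
        refine ((IsDiscreteValuationRing.TFAE (Localization.AtPrime Q) ?_).out 1 0 rfl rfl).mp hv
        exact IsLocalization.AtPrime.not_isField (B ⧸ P i) hQ (Localization.AtPrime Q) }
  infer_instance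

end Groth.Agent.S1973
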