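import Groth.Statements.S1974
import Groth.Agent.WEtale.Field

set_option autoImplicit false
universe u
open EtAlg

namespace Groth.Agent.S1974

/-- Let A -> B be weakly etale and q a prime of B lying over the prime p of A. Then the residue field of
q is a separable algebraic extension of the residue field of p. -/
theorem result (A B : Type u) [CommRing A] [CommRing B] [Algebra A B]
    [Algebra.WeaklyEtale A B] (p : Ideal A) [p.IsPrime] (q : Ideal B) [q.IsPrime] [q.LiesOver p]
    [Algebra (Localization.AtPrime p) (Localization.AtPrime q)] [Localization.AtPrime.IsLiesOverAlgebra p q] :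
    Algebra.IsSeparable p.ResidueField q.ResidueField := by
  refine Groth.Agent.WEtale.isSeparable_residue (A := A) (B := B) fun x => ?_
  obtain ⟨b, s, hs, rfl⟩ := IsFractionRing.div_surjective (B ⧸ q) x
  obtain ⟨b, rfl⟩ := Ideal.Quotient.mk_surjective b
  obtain ⟨s, rfl⟩ := Ideal.Quotient.mk_surjective s
  refine ⟨b, s, ?_, ?_⟩
  · intro h
    refine nonZeroDivisors.ne_zero hs (Ideal.Quotient.eq_zero_iff_mem.mpr ?_)
    exact Ideal.algebraMap_residueField_eq_zero.mp h
  · rw [Ideal.algebraMap_quotient_residueField_mk, Ideal.algebraMap_quotient_residueField_mk]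

end Groth.Agent.S1974
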