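-- statement GrSegre.GrothFrozen.S19747 (Groth/Statements/S19747.lean; the theorem GrSegre.moduleFinite_segreProduct);
import Groth.Statements.S19747
import Groth.Agent.GrSegreLib.Gen
import Groth.Agent.GrInj.Acyclic

set_option autoImplicit false
universe u
open scoped TensorProduct
open GrSegre

namespace Groth.Agent.S19747

set_option maxHeartbeats 1000000 in
/-- Let R and S be graded rings defined over a field k with Segre product T = R # S, and let M be a
finitely generated graded R-module and N a finitely generated graded S-module. Then M # N is a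
finitely generated T-module. Here a graded ring defined over k is a commutative k-algebra of finite
type, graded in nonnegative degrees by k-subspaces with degree-zero part k·1; the Segre product T =
R # S = ⊕_n R_n ⊗_k S_n is presented abstractly as a graded k-algebra T with an injective k-algebra
homomorphism ψ : T → R ⊗_k S carrying T_n onto the k-span of the elementary tensors a ⊗ b with a ∈
R_n, b ∈ S_n; the Segre product M # N = ⊕_n M_n ⊗_k N_n of a graded R-module M and a graded S-module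
N is presented abstractly as a graded T-module P with an injective k-linear map φ : P → M ⊗_k N
carrying P_n onto the k-span of the tensors x ⊗ y with x ∈ M_n, y ∈ N_n and turning the action of t
∈ T into that of ψ(t) (acting factorwise on M ⊗_k N). -/
theorem result (k : Type u) [Field k] (R : Type u) [CommRing R] [Algebra k R] (𝒜 : ℤ → Submodule k R) [GradedAlgebra 𝒜] (hposR : ∀ n : ℤ, n < 0 → 𝒜 n = ⊥) (h0R : 𝒜 0 = Submodule.span k {(1 : R)}) [Algebra.FiniteType k R] (S : Type u) [CommRing S] [Algebra k S] (ℬ : ℤ → Submodule k S) [GradedAlgebra ℬ] (hposS : ∀ n : ℤ, n < 0 → ℬ n = ⊥) (h0S : ℬ 0 = Submodule.span k {(1 : S)}) [Algebra.FiniteType k S] (T : Type u) [CommRing T] [Algebra k T] (𝒯 : ℤ → Submodule k T) [GradedAlgebra 𝒯] (ψ : T →ₐ[k] TensorProduct k R S) (hT : GrSeg.IsSegreRing 𝒜 ℬ 𝒯 ψ) (M : Type u) [AddCommGroup M] [Module R M] [Module k M] [IsScalarTower k R M] (ℳ : ℤ → AddSubgroup M) [DirectSum.Decomposition ℳ] [SetLike.GradedSMul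 𝒜 ℳ] [Module.Finite R M] (N : Type u) [AddCommGroup N] [Module S N] [Module k N] [IsScalarTower k S N] (𝒩 : ℤ → AddSubgroup N) [DirectSum.Decomposition 𝒩] [SetLike.GradedSMul ℬ 𝒩] [Module.Finite S N] (P : Type u) [AddCommGroup P] [Module T P] [Module k P] [IsScalarTower k T P] (𝒬 : ℤ → AddSubgroup P) [DirectSum.Decomposition 𝒬] (φ : P →ₗ[k] TensorProduct k M N) (hP : GrSeg.IsSegreMod ψ ℳ 𝒩 𝒬 φ) : Module.Finite T P := by
  classical
  obtain ⟨ι, _, a, d, ha, hspanR⟩ := Groth.Agent.GrSegreLib.exists_monomial_gens 𝒜 hposR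
  obtain ⟨κ, _, b, e, hb, hspanS⟩ := Groth.Agent.GrSegreLib.exists_monomial_gens ℬ hposS
  obtain ⟨μ, p, x, hx, hxs⟩ := Groth.Agent.GrInj.exists_hom_gens (R := R) ℳ
  obtain ⟨ν, q, y, hy, hys⟩ := Groth.Agent.GrInj.exists_hom_gens (R := S) 𝒩
  let degA : (ι ⊕ κ ⊕ Unit → ℕ) → ℤ := fun z => ∑ i, ((z (Sum.inl i) * d i : ℕ) : ℤ)
  let degB : (ι ⊕ κ ⊕ Unit → ℕ) → ℤ := fun z => ∑ j, ((z (Sum.inr (Sum.inl j)) * e j : ℕ) : ℤ)
  let tt : (ι ⊕ κ ⊕ Unit → ℕ) → ℕ := fun z => z (Sum.inr (Sum.inr ()))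
  let L : Fin μ × Fin ν → (ι ⊕ κ ⊕ Unit → ℕ) → ℤ := fun l z => degA z - degB z + (tt z : ℤ) * (p l.1 - q l.2)
  have hex : ∀ l, ∃ F : Finset (ι ⊕ κ ⊕ Unit → ℕ), (∀ z ∈ F, L l z = 0) ∧
      ∀ z, L l z = 0 → z ∈ AddSubmonoid.closure (F : Set (ι ⊕ κ ⊕ Unit → ℕ)) := fun l =>
    Groth.Agent.GrSegreLib.exists_finset_solutions (L l) fun u v => by
      simp only [L, degA, degB, tt, Pi.add_apply, add_mul, Nat.cast_add, Finset.sum_add_distrib]; ring
  choose F hF hgen using hex
  let mR : (ι ⊕ κ ⊕ Unit → ℕ) → R := fun z => ∏ i, a i ^ z (Sum.inl i)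
  let mS : (ι ⊕ κ ⊕ Unit → ℕ) → S := fun z => ∏ j, b j ^ z (Sum.inr (Sum.inl j))
  have hmR : ∀ z, mR z ∈ 𝒜 (degA z) := fun z => SetLike.prod_mem_graded (A := 𝒜) _ _ fun i _ => by
    simpa using SetLike.pow_mem_graded (z (Sum.inl i)) (ha i)
  have hmS : ∀ z, mS z ∈ ℬ (degB z) := fun z => SetLike.prod_mem_graded (A := ℬ) _ _ fun j _ => by
    simpa using SetLike.pow_mem_graded (z (Sum.inr (Sum.inl j))) (hb j)
  let mm : Fin μ × Fin ν → (ι ⊕ κ ⊕ Unit → ℕ) → TensorProduct k M N := fun l z => (mR z • x l.1) ⊗ₜ[k] (mS z • y l.2)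
  have hlift : ∀ l z, tt z = 1 → L l z = 0 → ∃ w : P, φ w = mm l z := by
    intro l z ht hz
    have he : degB z + q l.2 = degA z + p l.1 := by simp only [L, ht, Nat.cast_one, one_mul] at hz; omega
    have hm1 : mR z • x l.1 ∈ ℳ (degA z + p l.1) := SetLike.GradedSMul.smul_mem (hmR z) (hx l.1)
    have hm2 : mS z • y l.2 ∈ 𝒩 (degA z + p l.1) := he ▸ SetLike.GradedSMul.smul_mem (hmS z) (hy l.2)
    have hmem : mm l z ∈ φ '' (𝒬 (degA z + p l.1) : Set P) := by
      rw [hP.image_piece]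
      exact Submodule.subset_span ⟨_, hm1, _, hm2, rfl⟩
    obtain ⟨w, -, hw⟩ := hmem
    exact ⟨w, hw⟩
  choose! pre hpre using hlift
  let G : Finset P := Finset.univ.biUnion fun l : Fin μ × Fin ν =>
    ((F l).filter fun z => tt z = 1).image fun z => pre l z
  let Q := Submodule.span T (G : Set P)
  have hgood : ∀ l z, L l z = 0 → (tt z = 0 → ∃ t : T, ψ t = mR z ⊗ₜ[k] mS z) ∧
      (tt z = 1 → ∃ w ∈ Q, φ w = mm l z) := by
    intro l z hz
    replace hz := hgen l z hz
    induction hz using AddSubmonoid.closure_induction with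
    | mem z hz =>
      refine ⟨fun ht => ?_, fun ht => ⟨pre l z, Submodule.subset_span ?_, hpre l z ht (hF l z hz)⟩⟩
      · have he : degB z = degA z := by have := hF l z hz; simp only [L, ht, Nat.cast_zero, zero_mul, add_zero] at this; omega
        exact Groth.Agent.GrSegreLib.tmul_mem_range 𝒜 ℬ 𝒯 ψ hT.2 (hmR z) (he ▸ hmS z)
      · exact Finset.mem_biUnion.2 ⟨l, Finset.mem_univ _, Finset.mem_image_of_mem _ (Finset.mem_filter.2 ⟨hz, ht⟩)⟩
    | zero =>
      exact ⟨fun _ => ⟨1, by simp [mR, mS, Algebra.TensorProduct.one_def]⟩, fun h => by simp [tt] at h⟩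
    | add u v _ _ hu hv =>
      have hmul : ∀ u v, mR (u + v) = mR u * mR v ∧ mS (u + v) = mS u * mS v := fun u v => by
        simp [mR, mS, pow_add, Finset.prod_mul_distrib]
      have hcase : ∀ u v : ι ⊕ κ ⊕ Unit → ℕ, (∃ t : T, ψ t = mR u ⊗ₜ[k] mS u) → (∃ w ∈ Q, φ w = mm l v) →
          ∃ w ∈ Q, φ w = mm l (u + v) := by
        rintro u v ⟨t, ht⟩ ⟨w, hw, hwe⟩
        refine ⟨t • w, Q.smul_mem t hw, ?_⟩
        rw [hP.map_smul, ht, hwe, GrSeg.act_tmul, smul_smul, smul_smul, ← (hmul u v).1, ← (hmul u v).2]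
      refine ⟨fun ht => ?_, fun ht => ?_⟩
      · have h1 : tt u = 0 ∧ tt v = 0 := by simp only [tt, Pi.add_apply] at ht ⊢; omega
        obtain ⟨s, hs⟩ := hu.1 h1.1
        obtain ⟨t, ht'⟩ := hv.1 h1.2
        exact ⟨s * t, by rw [map_mul, hs, ht', Algebra.TensorProduct.tmul_mul_tmul, (hmul u v).1, (hmul u v).2]⟩
      · have h1 : (tt u = 0 ∧ tt v = 1) ∨ (tt u = 1 ∧ tt v = 0) := by simp only [tt, Pi.add_apply] at ht ⊢; omega
        rcases h1 with h1 | h1
        · exact hcase u v (hu.1 h1.1) (hv.2 h1.2)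
        · rw [add_comm]; exact hcase v u (hv.1 h1.2) (hu.2 h1.1)
  have hexp : ∀ {R' : Type u} [CommRing R'] [Algebra k R'] (𝒜' : ℤ → Submodule k R') [GradedAlgebra 𝒜'] {M' : Type u}
      [AddCommGroup M'] [Module R' M'] (ℳ' : ℤ → AddSubgroup M') [DirectSum.Decomposition ℳ'] [SetLike.GradedSMul 𝒜' ℳ']
      {m : ℕ} (p' : Fin m → ℤ) (x' : Fin m → M'), (∀ l, x' l ∈ ℳ' (p' l)) → Submodule.span R' (Set.range x') = ⊤ →
      ∀ (n : ℤ) (u : M'), u ∈ ℳ' n → ∃ c : Fin m → R', (∀ l, c l ∈ 𝒜' (n - p' l)) ∧ ∑ l, c l • x' l = u := by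
    intro R' _ _ 𝒜' _ M' _ _ ℳ' _ _ m p' x' hx' hs n u hu
    obtain ⟨c, rfl⟩ := (Submodule.mem_span_range_iff_exists_fun R').1 (hs.symm ▸ (Submodule.mem_top : u ∈ ⊤))
    refine ⟨fun l => (DirectSum.decompose 𝒜' (c l) (n - p' l) : R'), fun l => SetLike.coe_mem _, ?_⟩
    have hpr : ∀ (l : Fin m) (r : R'), (DirectSum.decompose ℳ' (r • x' l) n : M') =
        (DirectSum.decompose 𝒜' r (n - p' l) : R') • x' l := by
      intro l r
      induction r using DirectSum.Decomposition.inductionOn 𝒜' with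
      | zero => simp
      | @homogeneous i r =>
        have hm : (r : R') • x' l ∈ ℳ' (i + p' l) := SetLike.GradedSMul.smul_mem r.2 (hx' l)
        by_cases h : i + p' l = n
        · rw [DirectSum.decompose_of_mem_same ℳ' (h ▸ hm), show n - p' l = i by omega, DirectSum.decompose_coe,
            DirectSum.of_eq_same]
        · rw [DirectSum.decompose_of_mem_ne ℳ' hm h, DirectSum.decompose_of_mem_ne 𝒜' r.2 (show i ≠ n - p' l by omega), zero_smul]
      | add r r' h h' =>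
        simp only [add_smul, DirectSum.decompose_add, DirectSum.add_apply, AddMemClass.coe_add, h, h']
    conv_rhs => rw [← DirectSum.decompose_of_mem_same ℳ' hu]
    rw [DirectSum.decompose_sum, DFinsupp.finsetSum_apply, AddSubmonoidClass.coe_finsetSum]
    exact (Finset.sum_congr rfl fun l _ => (hpr l (c l)).symm)
  refine ⟨⟨G, eq_top_iff.2 fun w _ => ?_⟩⟩
  rw [← DirectSum.sum_support_decompose 𝒬 w]
  refine Submodule.sum_mem _ fun n _ => ?_
  have hn : φ (DirectSum.decompose 𝒬 w n : P) ∈ GrSeg.segrePiece k ℳ 𝒩 n :=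
    (hP.image_piece n).subset ⟨_, SetLike.coe_mem _, rfl⟩
  suffices key : ∃ w' ∈ Q, φ w' = φ (DirectSum.decompose 𝒬 w n : P) by
    obtain ⟨w', hw', he⟩ := key
    exact hP.injective he ▸ hw'
  generalize φ (DirectSum.decompose 𝒬 w n : P) = W at hn ⊢
  let QQ : Submodule k (TensorProduct k M N) := (Q.restrictScalars k).map φ
  suffices hQQ : W ∈ QQ by obtain ⟨w', hw', he⟩ := hQQ; exact ⟨w', hw', he⟩
  revert hn W
  show GrSeg.segrePiece k ℳ 𝒩 n ≤ QQ
  refine Submodule.span_le.2 ?_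
  rintro _ ⟨u, hu, v, hv, rfl⟩
  obtain ⟨c, hc, rfl⟩ := hexp 𝒜 ℳ p x hx hxs n u hu
  obtain ⟨c', hc', rfl⟩ := hexp ℬ 𝒩 q y hy hys n v hv
  rw [SetLike.mem_coe, TensorProduct.sum_tmul]
  refine QQ.sum_mem fun l _ => ?_
  rw [TensorProduct.tmul_sum]
  refine QQ.sum_mem fun l' _ => ?_
  have h1 := hspanR _ _ (hc l)
  have h2 := hspanS _ _ (hc' l')
  generalize c l = r at h1 ⊢
  generalize c' l' = s at h2 ⊢
  induction h1 using Submodule.span_induction with
  | mem r hr =>
    induction h2 using Submodule.span_induction with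
    | mem s hs =>
      obtain ⟨α, hα, rfl⟩ := hr
      obtain ⟨β, hβ, rfl⟩ := hs
      obtain ⟨w', hw', he⟩ := (hgood (l, l') (Sum.elim α (Sum.elim β fun _ => 1)) (by
        simp only [L, degA, degB, tt, Sum.elim_inl, Sum.elim_inr, hα, hβ]; push_cast; ring)).2 rfl
      exact ⟨w', hw', he⟩
    | zero => rw [zero_smul, TensorProduct.tmul_zero]; exact zero_mem _
    | add s s' _ _ hs hs' => rw [add_smul, TensorProduct.tmul_add]; exact add_mem hs hs'
    | smul k' s _ hs => rw [smul_assoc, TensorProduct.tmul_smul]; exact QQ.smul_mem _ hs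
  | zero => rw [zero_smul, TensorProduct.zero_tmul]; exact zero_mem _
  | add r r' _ _ hr hr' => rw [add_smul, TensorProduct.add_tmul]; exact add_mem hr hr'
  | smul k' r _ hr => rw [smul_assoc, ← TensorProduct.smul_tmul']; exact QQ.smul_mem _ hr

end Groth.Agent.S19747
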