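-- statement GrSegre.GrothFrozen.S19748 (Groth/Statements/S19748.lean; the theorem GrSegre.exists_homogeneous_smul_bijective_segreProduct);
import Groth.Statements.S19748
import Mathlib

set_option autoImplicit false
universe u
open scoped TensorProduct
open GrSegre

namespace Groth.Agent.S19748

/-- Let R and S be graded rings defined over a field k with Segre product T = R # S, M a graded R-module
and N a graded S-module. Suppose that multiplication by some homogeneous element f ∈ R_d of positive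
degree d is bijective on M and multiplication by some homogeneous g ∈ S_e of positive degree e is
bijective on N. Then multiplication by some homogeneous element of T of positive degree is bijective
on M # N. Here a graded ring defined over k is a commutative k-algebra of finite type, graded in
nonnegative degrees by k-subspaces with degree-zero part k·1; the Segre product T = R # S = ⊕_n R_n
⊗_k S_n is presented abstractly as a graded k-algebra T with an injective k-algebra homomorphism ψ :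
T → R ⊗_k S carrying T_n onto the k-span of the elementary tensors a ⊗ b with a ∈ R_n, b ∈ S_n; the
Segre product M # N = ⊕_n M_n ⊗_k N_n of a graded R-module M and a graded S-module N is presented
abstractly as a graded T-module P with an injective k-linear map φ : P → M ⊗_k N carrying P_n onto
the k-span of the tensors x ⊗ y with x ∈ M_n, y ∈ N_n and turning the action of t ∈ T into that of
ψ(t) (acting factorwise on M ⊗_k N). -/
theorem result (k : Type u) [Field k] (R : Type u) [CommRing R] [Algebra k R] (𝒜 : ℤ → Submodule k R) [GradedAlgebra 𝒜] (hposR : ∀ n : ℤ, n < 0 → 𝒜 n = ⊥) (h0R : 𝒜 0 = Submodule.span k {(1 : R)}) [Algebra.FiniteType k R] (S : Type u) [CommRing S] [Algebra k S] (ℬ : ℤ → Submodule k S) [GradedAlgebra ℬ] (hposS : ∀ n : ℤ, n < 0 → ℬ n = ⊥) (h0S : ℬ 0 = Submodule.span k {(1 : S)}) [Algebra.FiniteType k S] (T : Type u) [CommRing T] [Algebra k T] (𝒯 : ℤ → Submodule k T) [GradedAlgebra 𝒯] (ψ : T →ₐ[k] TensorProduct k R S) (hT : GrSeg.IsSegreRing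 𝒜 ℬ 𝒯 ψ) (M : Type u) [AddCommGroup M] [Module R M] [Module k M] [IsScalarTower k R M] (ℳ : ℤ → AddSubgroup M) [DirectSum.Decomposition ℳ] [SetLike.GradedSMul 𝒜 ℳ] (N : Type u) [AddCommGroup N] [Module S N] [Module k N] [IsScalarTower k S N] (𝒩 : ℤ → AddSubgroup N) [DirectSum.Decomposition 𝒩] [SetLike.GradedSMul ℬ 𝒩] (P : Type u) [AddCommGroup P] [Module T P] [Module k P] [IsScalarTower k T P] (𝒬 : ℤ → AddSubgroup P) [DirectSum.Decomposition 𝒬] (φ : P →ₗ[k] TensorProduct k M N) (hP : GrSeg.IsSegreMod ψ ℳ 𝒩 𝒬 φ) (d : ℕ) (hd : 0 < d) (f : R) (hf : f ∈ 𝒜 (d : ℤ)) (hfM : Function.Bijective (fun x : M => f • x)) (e : ℕ) (he : 0 < e) (g : S) (hg : g ∈ ℬ (e : ℤ)) (hgN : Function.Bijective (fun y : N => g • y)) : ∃ (c : ℤ) (t : T), 0 < c ∧ t ∈ 𝒯 c ∧ Function.Bijective (fun p : P => t • p) := by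
  classical
  have hC : (0 : ℤ) < ((d * e : ℕ) : ℤ) := by exact_mod_cast Nat.mul_pos hd he
  have hfe : f ^ e ∈ 𝒜 ((d * e : ℕ) : ℤ) := by
    have h := SetLike.pow_mem_graded e hf
    rwa [nsmul_eq_mul, ← Nat.cast_mul, mul_comm] at h
  have hgd : g ^ d ∈ ℬ ((d * e : ℕ) : ℤ) := by
    have h := SetLike.pow_mem_graded d hg
    rwa [nsmul_eq_mul, ← Nat.cast_mul] at h
  obtain ⟨t, ht, hψt⟩ : (f ^ e) ⊗ₜ[k] (g ^ d) ∈ (𝒯 ((d * e : ℕ) : ℤ)).map ψ.toLinearMap := by
    rw [hT.2]; exact Submodule.subset_span ⟨_, hfe, _, hgd, rfl⟩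
  refine ⟨_, t, hC, ht, ?_⟩
  have hpowb : ∀ {A : Type u} [Monoid A] {V : Type u} [MulAction A V] (a : A), Function.Bijective (fun v : V => a • v) →
      ∀ j : ℕ, Function.Bijective (fun v : V => a ^ j • v) := by
    intro A _ V _ a ha j
    induction j with
    | zero => simp only [pow_zero, one_smul]; exact Function.bijective_id
    | succ j ih => simpa [pow_succ, mul_smul, Function.comp_def] using ih.comp ha
  have hM := hpowb f hfM e
  have hN := hpowb g hgN d
  have hinvM : ∀ (n : ℤ) (u : M), u ∈ ℳ n → ∃ u' ∈ ℳ (n - ((d * e : ℕ) : ℤ)), f ^ e • u' = u := by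
    intro n u hu
    obtain ⟨u', hu'⟩ := hM.2 u
    refine ⟨_, SetLike.coe_mem (DirectSum.decompose ℳ u' (n - ((d * e : ℕ) : ℤ))), ?_⟩
    have hpr : ∀ v : M, f ^ e • (DirectSum.decompose ℳ v (n - ((d * e : ℕ) : ℤ)) : M) = (DirectSum.decompose ℳ (f ^ e • v) n : M) := by
      intro v
      induction v using DirectSum.Decomposition.inductionOn ℳ with
      | zero => simp
      | @homogeneous i v =>
        have hm : f ^ e • (v : M) ∈ ℳ (((d * e : ℕ) : ℤ) + i) := SetLike.GradedSMul.smul_mem hfe v.2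
        by_cases h : ((d * e : ℕ) : ℤ) + i = n
        · have hm' : f ^ e • (v : M) ∈ ℳ n := h ▸ hm
          rw [DirectSum.decompose_of_mem_same ℳ hm', show n - ((d * e : ℕ) : ℤ) = i by omega, DirectSum.decompose_coe, DirectSum.of_eq_same]
        · rw [DirectSum.decompose_of_mem_ne ℳ hm h, DirectSum.decompose_of_mem_ne ℳ v.2 (show i ≠ n - ((d * e : ℕ) : ℤ) by omega), smul_zero]
      | add v v' h h' => simp only [smul_add, DirectSum.decompose_add, DirectSum.add_apply, AddMemClass.coe_add, h, h']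
    rw [hpr, show f ^ e • u' = u from hu', DirectSum.decompose_of_mem_same ℳ hu]
  have hinvN : ∀ (n : ℤ) (u : N), u ∈ 𝒩 n → ∃ u' ∈ 𝒩 (n - ((d * e : ℕ) : ℤ)), g ^ d • u' = u := by
    intro n u hu
    obtain ⟨u', hu'⟩ := hN.2 u
    refine ⟨_, SetLike.coe_mem (DirectSum.decompose 𝒩 u' (n - ((d * e : ℕ) : ℤ))), ?_⟩
    have hpr : ∀ v : N, g ^ d • (DirectSum.decompose 𝒩 v (n - ((d * e : ℕ) : ℤ)) : N) = (DirectSum.decompose 𝒩 (g ^ d • v) n : N) := by
      intro v
      induction v using DirectSum.Decomposition.inductionOn 𝒩 with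
      | zero => simp
      | @homogeneous i v =>
        have hm : g ^ d • (v : N) ∈ 𝒩 (((d * e : ℕ) : ℤ) + i) := SetLike.GradedSMul.smul_mem hgd v.2
        by_cases h : ((d * e : ℕ) : ℤ) + i = n
        · have hm' : g ^ d • (v : N) ∈ 𝒩 n := h ▸ hm
          rw [DirectSum.decompose_of_mem_same 𝒩 hm', show n - ((d * e : ℕ) : ℤ) = i by omega, DirectSum.decompose_coe, DirectSum.of_eq_same]
        · rw [DirectSum.decompose_of_mem_ne 𝒩 hm h, DirectSum.decompose_of_mem_ne 𝒩 v.2 (show i ≠ n - ((d * e : ℕ) : ℤ) by omega), smul_zero]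
      | add v v' h h' => simp only [smul_add, DirectSum.decompose_add, DirectSum.add_apply, AddMemClass.coe_add, h, h']
    rw [hpr, show g ^ d • u' = u from hu', DirectSum.decompose_of_mem_same 𝒩 hu]
  let Φ := GrSeg.act k R S M N ((f ^ e) ⊗ₜ[k] (g ^ d))
  have hΦ : Function.Injective Φ := by
    have h : Φ = TensorProduct.map (Algebra.lsmul k k M (f ^ e)) (Algebra.lsmul k k N (g ^ d)) :=
      TensorProduct.ext' fun u v => GrSeg.act_tmul _ _ _ _
    rw [h]
    exact TensorProduct.map_injective_of_flat_flat _ _ hM.1 hN.1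
  have hmap : ∀ w : P, φ (t • w) = Φ (φ w) := fun w => by rw [hP.map_smul, show ψ t = _ from hψt]
  refine ⟨fun w w' h => hP.injective (hΦ (by rw [← hmap, ← hmap]; exact congrArg φ h)), fun w => ?_⟩
  suffices h : φ w ∈ (LinearMap.range φ).map Φ by
    obtain ⟨_, ⟨w', rfl⟩, hw'⟩ := h
    exact ⟨w', hP.injective (by rw [hmap]; exact hw')⟩
  rw [← DirectSum.sum_support_decompose 𝒬 w, map_sum]
  refine Submodule.sum_mem _ fun n _ => ?_
  refine (show GrSeg.segrePiece k ℳ 𝒩 n ≤ _ from ?_) ((hP.image_piece n).subset ⟨_, SetLike.coe_mem _, rfl⟩)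
  refine Submodule.span_le.2 ?_
  rintro _ ⟨u, hu, v, hv, rfl⟩
  obtain ⟨u', hu', rfl⟩ := hinvM n u hu
  obtain ⟨v', hv', rfl⟩ := hinvN n v hv
  refine ⟨u' ⊗ₜ[k] v', ?_, GrSeg.act_tmul _ _ _ _⟩
  obtain ⟨w', -, hw'⟩ := (hP.image_piece (n - ((d * e : ℕ) : ℤ))).superset (Submodule.subset_span ⟨u', hu', v', hv', rfl⟩)
  exact ⟨w', hw'⟩

end Groth.Agent.S19748
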