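import Groth.Statements.S1975
import Mathlib
import Groth.Agent.ValEt.Etale
import Groth.Agent.Hensel.Henselization
import Groth.Agent.Hensel.HenselizationNormal

set_option autoImplicit false
universe u
open EtAlg

namespace Groth.Agent.S1975

/-- Let A be a valuation ring and S a henselization or strict henselization of A. Then S is a valuation
ring, A -> S is injective, and every nonzero element of S is a unit multiple of the image of an
element of A (the value groups agree). -/
theorem result (A S : Type u) [CommRing A] [IsDomain A] [ValuationRing A] [CommRing S]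
    [IsLocalRing S] [Algebra A S] [IsLocalHom (algebraMap A S)]
    (h : Hensel.IsHenselization A S ∨ Hensel.IsStrictHenselization A S) :
    IsDomain S ∧ (∀ _ : IsDomain S, ValuationRing S) ∧ Function.Injective (algebraMap A S) ∧
      ∀ s : S, s ≠ 0 → ∃ (a : A) (u : Sˣ), s = u * algebraMap A S a := by
  have key : ∀ (K : Type u) [Field K] [Algebra A K] (e : Hensel.Hens A K ≃ₐ[A] S),
      Function.Injective (algebraMap A S) →
      IsDomain S ∧ (∀ _ : IsDomain S, ValuationRing S) ∧ Function.Injective (algebraMap A S) ∧
      ∀ s : S, s ≠ 0 → ∃ (a : A) (u : Sˣ), s = u * algebraMap A S a := by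
    intro K _ _ e hinj
    have hs : ∀ s : S, s ≠ 0 → ∃ (a : A) (u : Sˣ), s = u * algebraMap A S a := by
      intro s hs
      obtain ⟨E, _, _, _, φ, x, hx⟩ := Hensel.Hens.exists_rep_algHom (e.symm s)
      let ψ : E →ₐ[A] S := e.toAlgHom.comp φ
      have hψ : ψ x = s := by simp [ψ, hx]
      let m := Ideal.comap ψ.toRingHom (IsLocalRing.maximalIdeal S)
      have hm : Ideal.comap (algebraMap A E) m = IsLocalRing.maximalIdeal A := by
        rw [Ideal.comap_comap, show ψ.toRingHom.comp (algebraMap A E) = algebraMap A S from RingHom.ext fun a => ψ.commutes a]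
        exact IsLocalRing.maximalIdeal_comap (algebraMap A S)
      obtain ⟨-, -, -, -, hspec⟩ := ValEt.atPrime_spec A E m hm
      let g : Localization.AtPrime m →+* S := IsLocalization.lift (M := m.primeCompl) (g := ψ.toRingHom) fun y =>
        IsLocalRing.notMem_maximalIdeal.mp y.2
      have hg : ∀ z, g (algebraMap E _ z) = ψ z := fun z => IsLocalization.lift_eq _ z
      obtain ⟨a, t, ht⟩ := hspec (algebraMap E (Localization.AtPrime m) x) fun h => hs (by
        rw [← hψ, ← hg, h, map_zero])
      refine ⟨a, t.map g.toMonoidHom, ?_⟩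
      rw [← hψ, ← hg, ht, map_mul, IsScalarTower.algebraMap_apply A E (Localization.AtPrime m), hg, ψ.commutes]
      rfl
    haveI : Nontrivial S := hinj.nontrivial
    haveI : NoZeroDivisors S := ⟨fun {x y} hxy => by
      by_contra h
      push Not at h
      obtain ⟨a, p, rfl⟩ := hs x h.1
      obtain ⟨c, q, rfl⟩ := hs y h.2
      have : algebraMap A S (a * c) = 0 := by
        rw [map_mul]
        refine (Units.mul_right_eq_zero (p * q)).mp ?_
        rw [Units.val_mul, ← hxy]; ring
      rcases mul_eq_zero.mp ((map_eq_zero_iff _ hinj).mp this) with ha | hc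
      · exact h.1 (by rw [ha, map_zero, mul_zero])
      · exact h.2 (by rw [hc, map_zero, mul_zero])⟩
    refine ⟨NoZeroDivisors.to_isDomain S, fun _ => { cond' := fun x y => ?_ }, hinj, hs⟩
    rcases eq_or_ne x 0 with rfl | hx
    · exact ⟨0, Or.inr (by simp)⟩
    rcases eq_or_ne y 0 with rfl | hy
    · exact ⟨0, Or.inl (by simp)⟩
    obtain ⟨a, p, rfl⟩ := hs x hx
    obtain ⟨c, q, rfl⟩ := hs y hy
    obtain ⟨w, hw | hw⟩ := ValuationRing.cond a c
    · refine ⟨↑(p⁻¹ * q) * algebraMap A S w, Or.inl ?_⟩
      rw [← hw, map_mul, Units.val_mul]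
      linear_combination (↑q * algebraMap A S a * algebraMap A S w) * Units.mul_inv p
    · refine ⟨↑(q⁻¹ * p) * algebraMap A S w, Or.inr ?_⟩
      rw [← hw, map_mul, Units.val_mul]
      linear_combination (↑p * algebraMap A S c * algebraMap A S w) * Units.mul_inv q
  rcases h with h | h
  · haveI := h
    haveI := Hensel.henselization_faithfullyFlat (R := A) (S := S)
    obtain ⟨e⟩ := Hensel.exists_algEquiv_hens (R := A) (S := S)
    exact key _ e (Hensel.algebraMap_injective_of_faithfullyFlat A S)
  · haveI := h
    haveI := Hensel.strictHenselization_faithfullyFlat (R := A) (S := S)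
    obtain ⟨e, -⟩ := Hensel.exists_algEquiv_hens_strict (R := A) (S := S)
    exact key _ e (Hensel.algebraMap_injective_of_faithfullyFlat A S)

end Groth.Agent.S1975
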