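-- statement GrSegre.GrothFrozen.S19750 (Groth/Statements/S19750.lean; the theorem GrSegre.finrank_quotient_segreProduct_shifts_eq_finrank_piece);
import Groth.Statements.S19750
import Groth.Agent.GrSegreLib.PosGr

set_option autoImplicit false
universe u
open scoped TensorProduct
open GrSegre

open scoped TensorProduct
open Groth.Agent.PosGr

namespace Groth.Agent.S19750

open Groth.Agent.PosGr in
theorem cmp_succ {k : Type u} [Field k] {R : Type u} [CommRing R] [Algebra k R] (𝒜 : ℤ → Submodule k R) [GradedAlgebra 𝒜]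
    (hstd : pos 𝒜 = Ideal.span ((𝒜 1 : Submodule k R) : Set R)) (hpos : ∀ n : ℤ, n < 0 → 𝒜 n = ⊥)
    (m : ℤ) (hm : 0 ≤ m) (a : R) (ha : a ∈ 𝒜 (m + 1)) :
    a ∈ Submodule.span k {z | ∃ r ∈ 𝒜 1, ∃ x ∈ 𝒜 m, z = r * x} := by
  have key : ∀ u ∈ Ideal.span ((𝒜 1 : Submodule k R) : Set R), ∀ c : R,
      cmp 𝒜 (m + 1) (c * u) ∈ Submodule.span k {z | ∃ r ∈ 𝒜 1, ∃ x ∈ 𝒜 m, z = r * x} := by
    intro u hu
    induction hu using Submodule.span_induction with
    | mem u hu =>
      intro c
      rw [mul_comm, cmp_mul_left 𝒜 hu, add_sub_cancel_right]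
      exact Submodule.subset_span ⟨u, hu, _, cmp_mem 𝒜 _ _, rfl⟩
    | zero => intro c; rw [mul_zero, map_zero]; exact zero_mem _
    | add u v _ _ hu hv => intro c; rw [mul_add, map_add]; exact add_mem (hu c) (hv c)
    | smul d u _ hu => intro c; rw [smul_eq_mul, ← mul_assoc]; exact hu (c * d)
  have h := key a (hstd ▸ mem_pos_of_mem 𝒜 (by omega) ha) 1
  rwa [one_mul, cmp_of_mem 𝒜 ha, if_pos rfl] at h

set_option maxHeartbeats 2000000 in
/-- Let R and S be graded rings defined over a field k, both generated over k by their degree-one parts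
and of positive Krull dimension, T = R # S with irrelevant ideal T_+, and let a ≥ b be integers.
Then the number of generators ν_T(R(a) # S(b)) = dim_k (R(a) # S(b)) / T_+ (R(a) # S(b)) equals
dim_k R_{a−b}. Here a graded ring defined over k is a commutative k-algebra of finite type, graded
in nonnegative degrees by k-subspaces with degree-zero part k·1; the Segre product T = R # S = ⊕_n
R_n ⊗_k S_n is presented abstractly as a graded k-algebra T with an injective k-algebra homomorphism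
ψ : T → R ⊗_k S carrying T_n onto the k-span of the elementary tensors a ⊗ b with a ∈ R_n, b ∈ S_n;
the Segre product R(a) # S(b) = ⊕_n R_{n+a} ⊗_k S_{n+b} of the shifted modules is presented
abstractly as a graded T-module P with an injective k-linear map φ : P → R ⊗_k S carrying P_n onto
the k-span of the tensors x ⊗ y with x ∈ R_{n+a}, y ∈ S_{n+b} and turning the action of t ∈ T into
that of ψ(t); T_+ is the ideal spanned by the T_n with n > 0. -/
theorem result (k : Type u) [Field k] (R : Type u) [CommRing R] [Algebra k R] (𝒜 : ℤ → Submodule k R) [GradedAlgebra 𝒜] (hposR : ∀ n : ℤ, n < 0 → 𝒜 n = ⊥) (h0R : 𝒜 0 = Submodule.span k {(1 : R)}) [Algebra.FiniteType k R] (S : Type u) [CommRing S] [Algebra k S] (ℬ : ℤ → Submodule k S) [GradedAlgebra ℬ] (hposS : ∀ n : ℤ, n < 0 → ℬ n = ⊥) (h0S : ℬ 0 = Submodule.span k {(1 : S)}) [Algebra.FiniteType k S] (T : Type u) [CommRing T] [Algebra k T] (𝒯 : ℤ → Submodule k T) [GradedAlgebra 𝒯] (ψ : T →ₐ[k] TensorProduct k R S)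 (hT : GrSeg.IsSegreRing 𝒜 ℬ 𝒯 ψ) (hstdR : Ideal.span (⋃ n ∈ Set.Ioi (0 : ℤ), (𝒜 n : Set R)) = Ideal.span ((𝒜 1 : Submodule k R) : Set R)) (hstdS : Ideal.span (⋃ n ∈ Set.Ioi (0 : ℤ), (ℬ n : Set S)) = Ideal.span ((ℬ 1 : Submodule k S) : Set S)) (hr1 : 1 ≤ ringKrullDim R) (hs1 : 1 ≤ ringKrullDim S) (mT : HomogeneousIdeal 𝒯) (hmT : mT.toIdeal = Ideal.span (⋃ n ∈ Set.Ioi (0 : ℤ), (𝒯 n : Set T))) (a b : ℤ) (hab : b ≤ a) (P : Type u) [AddCommGroup P] [Module T P] [Module k P] [IsScalarTower k T P] (𝒬 : ℤ → AddSubgroup P) [DirectSum.Decomposition 𝒬] (φ : P →ₗ[k] TensorProduct k R S) (hP : GrSeg.IsSegreMod ψ (fun n : ℤ => 𝒜 (n + a)) (fun n : ℤ => ℬ (n + b)) 𝒬 φ) : Module.finrank k (P ⧸ (mT.toIdeal • (⊤ : Submodule T P))) = Module.finrank k (𝒜 (a - b)) := by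
  classical
  haveI : Nontrivial S := by
    by_contra hn
    rw [not_nontrivial_iff_subsingleton] at hn
    rw [ringKrullDim_eq_bot_of_subsingleton] at hs1
    simp at hs1
  haveI : Nontrivial R := by
    by_contra hn
    rw [not_nontrivial_iff_subsingleton] at hn
    rw [ringKrullDim_eq_bot_of_subsingleton] at hr1
    simp at hr1
  have hstdR' : pos 𝒜 = Ideal.span ((𝒜 1 : Submodule k R) : Set R) := by
    rw [← hstdR]; exact congrArg Ideal.span (by ext a; simp [Set.mem_Ioi])
  have hstdS' : pos ℬ = Ideal.span ((ℬ 1 : Submodule k S) : Set S) := by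
    rw [← hstdS]; exact congrArg Ideal.span (by ext a; simp [Set.mem_Ioi])
  have hact : ∀ z z' : R ⊗[k] S, GrSeg.act k R S R S z z' = z * z' := by
    intro z z'
    induction z using TensorProduct.induction_on with
    | zero => simp
    | add u v hu hv => rw [map_add, LinearMap.add_apply, hu, hv, add_mul]
    | tmul x y =>
      induction z' using TensorProduct.induction_on with
      | zero => simp
      | add u v hu hv => rw [map_add, hu, hv, mul_add]
      | tmul x' y' => rw [GrSeg.act_tmul, Algebra.TensorProduct.tmul_mul_tmul, smul_eq_mul, smul_eq_mul]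
  have hseg : ∀ (n : ℤ) (t : T), t ∈ 𝒯 n → ψ t ∈ Submodule.span k {z | ∃ x ∈ 𝒜 n, ∃ y ∈ ℬ n, z = x ⊗ₜ[k] y} := by
    intro n t ht
    have h : ψ t ∈ (𝒯 n).map ψ.toLinearMap := ⟨t, ht, rfl⟩
    rw [hT.2 n] at h
    exact h
  have hφmem : ∀ n, ∀ p ∈ 𝒬 n, φ p ∈ Submodule.span k {z | ∃ x ∈ 𝒜 (n + a), ∃ y ∈ ℬ (n + b), z = x ⊗ₜ[k] y} := by
    intro n p hp
    have h : φ p ∈ φ '' (𝒬 n : Set P) := ⟨p, hp, rfl⟩
    rw [hP.image_piece n] at h
    exact h
  let Rg : Submodule k (R ⊗[k] S) := LinearMap.range φ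
  have hlift : ∀ (n : ℤ) (z : R ⊗[k] S), z ∈ Submodule.span k {z | ∃ x ∈ 𝒜 (n + a), ∃ y ∈ ℬ (n + b), z = x ⊗ₜ[k] y} → z ∈ Rg := by
    intro n z hz
    have h : z ∈ φ '' (𝒬 n : Set P) := by rw [hP.image_piece n]; exact hz
    obtain ⟨p, -, rfl⟩ := h
    exact ⟨p, rfl⟩
  let X := (mT.toIdeal • (⊤ : Submodule T P)).restrictScalars k
  let J : Submodule k (R ⊗[k] S) := X.map φ
  have hJ : ∀ (n : ℤ) (z : R ⊗[k] S), -b < n → z ∈ Submodule.span k {z | ∃ x ∈ 𝒜 (n + a), ∃ y ∈ ℬ (n + b), z = x ⊗ₜ[k] y} → z ∈ J := by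
    intro n z hn hz
    refine Submodule.span_le.2 ?_ hz
    rintro _ ⟨x, hx, y, hy, rfl⟩
    have hx' := cmp_succ 𝒜 hstdR' hposR (n + a - 1) (by omega) x (by rwa [sub_add_cancel])
    have hy' := cmp_succ ℬ hstdS' hposS (n + b - 1) (by omega) y (by rwa [sub_add_cancel])
    have hle : ∀ r1 ∈ 𝒜 1, ∀ x' ∈ 𝒜 (n + a - 1), ∀ s1 ∈ ℬ 1, ∀ y' ∈ ℬ (n + b - 1), (r1 * x') ⊗ₜ[k] (s1 * y') ∈ J := by
      intro r1 hr x' hx' s1 hs y' hy'
      obtain ⟨t, ht, hte⟩ : r1 ⊗ₜ[k] s1 ∈ (𝒯 1).map ψ.toLinearMap := by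
        rw [hT.2]; exact Submodule.subset_span ⟨r1, hr, s1, hs, rfl⟩
      obtain ⟨p, hp⟩ := hlift (n - 1) (x' ⊗ₜ y') (Submodule.subset_span ⟨x', by rwa [sub_add_eq_add_sub], y', by rwa [sub_add_eq_add_sub], rfl⟩)
      have htm : t ∈ mT.toIdeal := by
        rw [hmT]; exact Ideal.subset_span (Set.mem_biUnion (Set.mem_Ioi.2 one_pos) ht)
      refine Submodule.mem_map.2 ⟨t • p, (Submodule.restrictScalars_mem k _ _).2 (Submodule.smul_mem_smul htm Submodule.mem_top), ?_⟩
      rw [hP.map_smul, show ψ t = r1 ⊗ₜ[k] s1 from hte, hp, GrSeg.act_tmul, smul_eq_mul, smul_eq_mul]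
    clear hx hy
    induction hx' using Submodule.span_induction with
    | mem u hu =>
      obtain ⟨r1, hr, x', hx'', rfl⟩ := hu
      induction hy' using Submodule.span_induction with
      | mem v hv => obtain ⟨s1, hs, y', hy'', rfl⟩ := hv; exact hle r1 hr x' hx'' s1 hs y' hy''
      | zero => rw [TensorProduct.tmul_zero]; exact J.zero_mem
      | add u v _ _ hu hv => rw [TensorProduct.tmul_add]; exact J.add_mem hu hv
      | smul c u _ hu => rw [TensorProduct.tmul_smul]; exact J.smul_mem c hu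
    | zero => rw [TensorProduct.zero_tmul]; exact J.zero_mem
    | add u v _ _ hu hv => rw [TensorProduct.add_tmul]; exact J.add_mem hu hv
    | smul c u _ hu => rw [← TensorProduct.smul_tmul']; exact J.smul_mem c hu
  let ι : 𝒜 (a - b) →ₗ[k] R ⊗[k] S := ((TensorProduct.mk k R S).flip 1) ∘ₗ (𝒜 (a - b)).subtype
  have hι : ∀ x : 𝒜 (a - b), ι x ∈ Rg := fun x => hlift (-b) _ (Submodule.subset_span
    ⟨x, by rw [neg_add_eq_sub]; exact x.2, 1, by rw [neg_add_cancel]; exact SetLike.GradedOne.one_mem, rfl⟩)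
  let L : 𝒜 (a - b) →ₗ[k] (P ⧸ (mT.toIdeal • (⊤ : Submodule T P))) :=
    ((mT.toIdeal • (⊤ : Submodule T P)).mkQ.restrictScalars k) ∘ₗ
      (LinearEquiv.ofInjective φ hP.injective).symm.toLinearMap ∘ₗ (ι.codRestrict Rg hι)
  have hL : ∀ x : 𝒜 (a - b), ∃ p : P, L x = Submodule.Quotient.mk p ∧ φ p = (x : R) ⊗ₜ[k] 1 := fun x =>
    ⟨_, rfl, congrArg Subtype.val ((LinearEquiv.ofInjective φ hP.injective).apply_symm_apply ⟨ι x, hι x⟩)⟩
  let F : R ⊗[k] S →ₗ[k] R ⊗[k] S := TensorProduct.map LinearMap.id (GradedAlgebra.proj ℬ 0)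
  have hF : ∀ p ∈ mT.toIdeal • (⊤ : Submodule T P), F (φ p) = 0 := by
    intro p hp
    refine Submodule.smul_induction_on hp (fun t ht q _ => ?_) (fun u v hu hv => by rw [map_add, map_add, hu, hv, add_zero])
    rw [hP.map_smul, hact]
    generalize φ q = z
    rw [hmT] at ht
    induction ht using Submodule.span_induction generalizing z with
    | mem t ht =>
      simp only [Set.mem_iUnion] at ht
      obtain ⟨n, hn, ht⟩ := ht
      have h := hseg n t ht
      generalize ψ t = q at h ⊢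
      induction h using Submodule.span_induction generalizing z with
      | mem w hw =>
        obtain ⟨u, -, v, hv, rfl⟩ := hw
        induction z using TensorProduct.induction_on with
        | zero => simp
        | add z z' hz hz' => rw [mul_add, map_add, hz, hz', add_zero]
        | tmul x y =>
          rw [Algebra.TensorProduct.tmul_mul_tmul]
          have h0 : GradedAlgebra.proj ℬ 0 (v * y) = 0 := by
            rw [show GradedAlgebra.proj ℬ 0 (v * y) = cmp ℬ 0 (v * y) from rfl, cmp_mul_left ℬ hv,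
              eq_zero_of_neg ℬ hposS (show 0 - n < 0 by rw [Set.mem_Ioi] at hn; omega) (cmp_mem ℬ _ _), mul_zero]
          simp [F, h0]
      | zero => simp
      | add u v _ _ hu hv => rw [add_mul, map_add, hu, hv, add_zero]
      | smul c u _ hu => rw [smul_mul_assoc, map_smul, hu, smul_zero]
    | zero => rw [map_zero ψ, zero_mul, map_zero]
    | add u v _ _ hu hv => rw [map_add ψ, add_mul, map_add, hu, hv, add_zero]
    | smul c u _ hu => rw [smul_eq_mul, mul_comm c, map_mul ψ, mul_assoc]; exact hu _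
  obtain ⟨f, hf⟩ := Module.Projective.exists_dual_eq_one k (one_ne_zero : (1 : S) ≠ 0)
  have hinj : Function.Injective L := by
    refine (injective_iff_map_eq_zero L).2 fun x hx => ?_
    obtain ⟨p, hp, hφp⟩ := hL x
    rw [hp, Submodule.Quotient.mk_eq_zero] at hx
    have h := hF p hx
    rw [hφp] at h
    have h1 : GradedAlgebra.proj ℬ 0 (1 : S) = 1 := by
      rw [GradedAlgebra.proj_apply, DirectSum.decompose_of_mem_same ℬ SetLike.GradedOne.one_mem]
    simp only [F, TensorProduct.map_tmul, LinearMap.id_apply, h1] at h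
    have h2 := congrArg ((TensorProduct.rid k R).toLinearMap ∘ₗ TensorProduct.map LinearMap.id f) h
    simp [hf] at h2
    exact h2
  have hsurj : Function.Surjective L := by
    rw [← LinearMap.range_eq_top, eq_top_iff]
    intro u _
    obtain ⟨p, rfl⟩ := Submodule.Quotient.mk_surjective _ u
    have hp0 : ∀ n, ∀ q ∈ 𝒬 n, Submodule.Quotient.mk q ∈ LinearMap.range L := by
      intro n q hq
      rcases lt_trichotomy n (-b) with hn | rfl | hn
      · have : φ q = 0 := by
          have h := hφmem n q hq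
          refine (Submodule.mem_bot k).1 (Submodule.span_le.2 ?_ h)
          rintro _ ⟨x, -, y, hy, rfl⟩
          rw [eq_zero_of_neg ℬ hposS (by omega) hy, TensorProduct.tmul_zero]; exact zero_mem _
        rw [hP.injective (this.trans (map_zero φ).symm), Submodule.Quotient.mk_zero]; exact zero_mem _
      · have h : φ q ∈ LinearMap.range ι := by
          refine Submodule.span_le.2 ?_ (hφmem _ q hq)
          rintro _ ⟨x, hx, y, hy, rfl⟩
          rw [neg_add_cancel] at hy
          rw [neg_add_eq_sub] at hx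
          obtain ⟨c, rfl⟩ := exists_algebraMap_eq ℬ h0S hy
          refine ⟨c • ⟨x, hx⟩, ?_⟩
          simp [ι, Algebra.algebraMap_eq_smul_one]
        obtain ⟨x, hx⟩ := h
        obtain ⟨p, hp, hφp⟩ := hL x
        exact ⟨x, by rw [hp, hP.injective (hφp.trans hx)]⟩
      · obtain ⟨p, hp, hpe⟩ := hJ n (φ q) hn (hφmem n q hq)
        rw [← hP.injective hpe]
        exact ⟨0, by rw [map_zero]; exact ((Submodule.Quotient.mk_eq_zero _).2 ((Submodule.restrictScalars_mem k _ _).1 hp)).symm⟩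
    rw [← DirectSum.sum_support_decompose 𝒬 p, ← Submodule.mkQ_apply, map_sum]
    exact Submodule.sum_mem _ fun i _ => hp0 i _ (DirectSum.decompose 𝒬 p i).2
  exact (LinearEquiv.ofBijective L ⟨hinj, hsurj⟩).finrank_eq.symm

end Groth.Agent.S19750
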