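-- statement GrDual.GrothFrozen.S19751 (Groth/Statements/S19751.lean; the theorem GrDual.ker_le_irrelevant_smul_iff_isStarEss_dualMap);
import Groth.Statements.S19751
import Groth.Agent.GrDualLib.Basic

set_option autoImplicit false
universe u
open GrDual

namespace Groth.Agent.S19751

/-- Let R be a graded ring defined over a field k with m = R_+, let F and M be finitely generated graded
R-modules and f : F → M a surjective homomorphism of graded R-modules, with dual f^* : M^* → F^* on
graded k-duals. Then f is minimal, that is Ker f ⊆ m F, if and only if f^* is essential: an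
injective homomorphism of graded modules such that every nonzero graded submodule of F^* meets its
image. Here a graded ring defined over k is a commutative k-algebra of finite type, graded in
nonnegative degrees by k-subspaces with degree-zero part k·1, and R_+ is the ideal spanned by the
R_n with n > 0; the graded k-dual M^* = ⊕_n Hom_k(M_{−n}, k) of a graded R-module M (with r ∈ R
acting by (r f)(x) = f(r x)) is presented abstractly as a graded R-module D with a k-bilinear
pairing β : D × M → k compatible with the R-actions, under which D_n pairs to zero with M_m for m ≠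
−n and is identified with the full dual space of M_{−n}; f^* is presented as the R-linear map g :
M^* → F^* with β_F(g d, x) = β_M(d, f x). -/
theorem result (k : Type u) [Field k] (R : Type u) [CommRing R] [Algebra k R] (𝒜 : ℤ → Submodule k R) [GradedAlgebra 𝒜] (hposR : ∀ n : ℤ, n < 0 → 𝒜 n = ⊥) (h0R : 𝒜 0 = Submodule.span k {(1 : R)}) [Algebra.FiniteType k R] (mR : HomogeneousIdeal 𝒜) (hmR : mR.toIdeal = Ideal.span (⋃ n ∈ Set.Ioi (0 : ℤ), (𝒜 n : Set R))) (F : Type u) [AddCommGroup F] [Module R F] [Module k F] [IsScalarTower k R F] (ℱ : ℤ → AddSubgroup F) [DirectSum.Decomposition ℱ] [SetLike.GradedSMul 𝒜 ℱ] [Module.Finite R F] (M : Type u) [AddCommGroup M] [Module R M] [Module k M] [IsScalarTower k R M] (ℳ : ℤ → AddSubgroup M) [DirectSum.Decomposition ℳ] [SetLike.GradedSMul 𝒜 ℳ] [Module.Finite R M] (f : F →ₗ[R] M) (hf : Function.Surjective f) (hfgr : GrLC.IsGrHom ℱ ℳ f) (DM : Type u) [AddCommGroup DM] [Module R DM] [Module k DM] [IsScalarTower k R DM] (𝒟M : ℤ → AddSubgroup DM)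 [DirectSum.Decomposition 𝒟M] [SetLike.GradedSMul 𝒜 𝒟M] (βM : DM →ₗ[k] M →ₗ[k] k) (hDM : GrSeg.IsGDual R ℳ 𝒟M βM) (DF : Type u) [AddCommGroup DF] [Module R DF] [Module k DF] [IsScalarTower k R DF] (𝒟F : ℤ → AddSubgroup DF) [DirectSum.Decomposition 𝒟F] [SetLike.GradedSMul 𝒜 𝒟F] (βF : DF →ₗ[k] F →ₗ[k] k) (hDF : GrSeg.IsGDual R ℱ 𝒟F βF) (g : DM →ₗ[R] DF) (hg : GrSeg.IsGDualMap βM βF f g) : LinearMap.ker f ≤ mR.toIdeal • (⊤ : Submodule R F) ↔ GrLC.IsStarEss 𝒟M 𝒟F g := by
  classical
  open Groth.Agent.GrDualLib in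
  have hinjF := injective_of_isGDual 𝒜 hDF
  have hinjM := Groth.Agent.GrDualLib.injective_of_isGDual 𝒜 hDM
  have hπf : ∀ n y, Groth.Agent.GrDualLib.projk 𝒜 ℳ n (f y) = f (Groth.Agent.GrDualLib.projk 𝒜 ℱ n y) := by
    intro n y
    induction y using DirectSum.Decomposition.inductionOn ℱ with
    | zero => simp
    | @homogeneous j y =>
      by_cases h : j = n
      · subst h; rw [Groth.Agent.GrDualLib.projk_of_mem 𝒜 ℱ y.2, Groth.Agent.GrDualLib.projk_of_mem 𝒜 ℳ (hfgr j y y.2)]
      · rw [Groth.Agent.GrDualLib.projk_of_mem_ne 𝒜 ℱ y.2 h, Groth.Agent.GrDualLib.projk_of_mem_ne 𝒜 ℳ (hfgr j y y.2) h, map_zero]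
    | add a b ha hb => simp only [map_add, ha, hb]
  have hginj : Function.Injective g := by
    refine (injective_iff_map_eq_zero g).2 fun d hd => hinjM ?_
    rw [map_zero]
    refine LinearMap.ext fun x => ?_
    obtain ⟨y, rfl⟩ := hf x
    rw [← hg d y, hd, map_zero]
    rfl
  have hggr : GrLC.IsGrHom 𝒟M 𝒟F g := by
    intro n d hd
    obtain ⟨e, he, hee⟩ := Groth.Agent.GrDualLib.exists_repr 𝒜 hDF n (βF (g d)) fun m hm x hx => by
      rw [hg]; exact hDM.vanish n d hd m hm _ (hfgr m x hx)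
    rw [← hinjF hee]; exact he
  have hrange : ∀ (n : ℤ), ∀ d ∈ 𝒟F n, (∀ y, f y = 0 → βF d y = 0) → d ∈ LinearMap.range g := by
    intro n d hd hker
    obtain ⟨σ, hσ⟩ := LinearMap.exists_rightInverse_of_surjective (f.restrictScalars k) (LinearMap.range_eq_top.2 hf)
    have hψ : ∀ y, (βF d ∘ₗ σ) (f y) = βF d y := fun y => by
      rw [LinearMap.comp_apply, ← sub_eq_zero, ← map_sub]
      refine hker _ ?_
      rw [map_sub, show f (σ (f y)) = f y from LinearMap.congr_fun hσ (f y), sub_self]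
    obtain ⟨e, -, hee⟩ := Groth.Agent.GrDualLib.exists_repr 𝒜 hDM n (βF d ∘ₗ σ) fun m hm x hx => by
      obtain ⟨y, rfl⟩ := hf x
      rw [← Groth.Agent.GrDualLib.projk_of_mem 𝒜 ℳ hx, hπf, hψ]
      exact hDF.vanish n d hd m hm _ (Groth.Agent.GrDualLib.projk_mem 𝒜 ℱ m y)
    exact ⟨e, hinjF (LinearMap.ext fun y => by rw [hg, hee, hψ])⟩
  have hgen : ∀ (r : R) (n : ℤ), r ∈ 𝒜 n → 0 < n → r ∈ mR.toIdeal := fun r n hr hn => by
    rw [hmR]; exact Ideal.subset_span (Set.mem_biUnion (Set.mem_Ioi.2 hn) hr)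
  have hproj_smul : ∀ (n j : ℤ) (r : R), r ∈ 𝒜 j → ∀ y : F, Groth.Agent.GrDualLib.projk 𝒜 ℱ n (r • y) = r • Groth.Agent.GrDualLib.projk 𝒜 ℱ (n - j) y := by
    intro n j r hr y
    induction y using DirectSum.Decomposition.inductionOn ℱ with
    | zero => simp
    | @homogeneous i y =>
      have hm : r • (y : F) ∈ ℱ (j + i) := SetLike.GradedSMul.smul_mem hr y.2
      by_cases h : j + i = n
      · subst h; rw [add_sub_cancel_left, Groth.Agent.GrDualLib.projk_of_mem 𝒜 ℱ y.2, Groth.Agent.GrDualLib.projk_of_mem 𝒜 ℱ hm]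
      · rw [Groth.Agent.GrDualLib.projk_of_mem_ne 𝒜 ℱ hm h, Groth.Agent.GrDualLib.projk_of_mem_ne 𝒜 ℱ y.2 (by omega), smul_zero]
    | add a b ha hb => simp only [smul_add, map_add, ha, hb]
  have hmF : ∀ n, ∀ y ∈ mR.toIdeal • (⊤ : Submodule R F), Groth.Agent.GrDualLib.projk 𝒜 ℱ n y ∈ mR.toIdeal • (⊤ : Submodule R F) := by
    intro n y hy
    refine Submodule.smul_induction_on hy (fun r hr z _ => ?_) (fun a b ha hb => by rw [map_add]; exact add_mem ha hb)
    rw [hmR] at hr
    induction hr using Submodule.span_induction generalizing z with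
    | mem r hr =>
      simp only [Set.mem_iUnion] at hr
      obtain ⟨j, hj, hr⟩ := hr
      rw [hproj_smul n j r hr]
      exact Submodule.smul_mem_smul (hgen r j hr hj) Submodule.mem_top
    | zero => rw [zero_smul, map_zero]; exact zero_mem _
    | add a b _ _ ha hb => rw [add_smul, map_add]; exact add_mem (ha z Submodule.mem_top) (hb z Submodule.mem_top)
    | smul c a _ ha => rw [smul_eq_mul, mul_comm, mul_smul]; exact ha _ Submodule.mem_top
  refine ⟨fun hker => ⟨hginj, hggr, fun P hP hP0 => ?_⟩, fun hess => ?_⟩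
  · obtain ⟨μ, p, x, hx, hxs⟩ := Groth.Agent.GrInj.exists_hom_gens (R := R) ℱ
    obtain ⟨N, hN⟩ : ∃ N : ℤ, ∀ l, N ≤ p l := ⟨-(∑ l, |p l|), fun l => by
      have h1 := Finset.single_le_sum (f := fun l => |p l|) (fun i _ => abs_nonneg _) (Finset.mem_univ l)
      have h2 := neg_abs_le (p l)
      omega⟩
    have hlow : ∀ n, n < N → ∀ y ∈ ℱ n, y = 0 := by
      intro n hn y hy
      obtain ⟨c, rfl⟩ := (Submodule.mem_span_range_iff_exists_fun R).1 (hxs ▸ (Submodule.mem_top : y ∈ ⊤))
      rw [← Groth.Agent.GrDualLib.projk_of_mem 𝒜 ℱ hy, map_sum]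
      refine Finset.sum_eq_zero fun l _ => ?_
      induction c l using DirectSum.Decomposition.inductionOn 𝒜 with
      | zero => simp
      | @homogeneous j r =>
        rw [hproj_smul n j r r.2]
        by_cases hj : j < 0
        · rw [show (r : R) = 0 from (Submodule.mem_bot k).1 (hposR j hj ▸ r.2), zero_smul]
        · rw [Groth.Agent.GrDualLib.projk_of_mem_ne 𝒜 ℱ (hx l) (by have := hN l; omega), smul_zero]
      | add a b ha hb => rw [add_smul, map_add, ha, hb, add_zero]
    obtain ⟨q, hq, hq0⟩ := Submodule.exists_mem_ne_zero_of_ne_bot hP0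
    let Q : ℤ → Prop := fun n => ∃ d ∈ P, d ∈ 𝒟F n ∧ d ≠ 0
    have hQ : ∃ n, Q n := by
      by_contra hc
      refine hq0 ?_
      rw [← DirectSum.sum_support_decompose 𝒟F q]
      refine Finset.sum_eq_zero fun i _ => by_contra fun h => hc ⟨i, _, hP i hq, (DirectSum.decompose 𝒟F q i).2, h⟩
    obtain ⟨n, ⟨d, hdP, hd, hd0⟩, hmax⟩ := Int.exists_greatest_of_bdd (P := Q) ⟨-N, fun n hn => by
      obtain ⟨d, -, hd, hd0⟩ := hn
      by_contra hlt
      refine hd0 (hDF.eq_zero n d hd fun y hy => ?_)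
      rw [hlow (-n) (by omega) y hy, map_zero]⟩ hQ
    have hkill : ∀ r ∈ mR.toIdeal, r • d = 0 := by
      intro r hr
      rw [hmR] at hr
      induction hr using Submodule.span_induction with
      | mem r hr =>
        simp only [Set.mem_iUnion] at hr
        obtain ⟨j, hj, hr⟩ := hr
        by_contra h
        have hm : r • d ∈ 𝒟F (j + n) := SetLike.GradedSMul.smul_mem hr hd
        have := hmax (j + n) ⟨_, P.smul_mem r hdP, hm, h⟩
        rw [Set.mem_Ioi] at hj
        omega
      | zero => exact zero_smul _ _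
      | add a b _ _ ha hb => rw [add_smul, ha, hb, add_zero]
      | smul c a _ ha => rw [smul_eq_mul, mul_smul, ha, smul_zero]
    obtain ⟨e, he⟩ := hrange n d hd fun y hy => by
      refine Submodule.smul_induction_on (hker (LinearMap.mem_ker.2 hy)) (fun r hr z _ => ?_) (fun a b ha hb => by rw [map_add, ha, hb, add_zero])
      rw [← hDF.map_smul, hkill r hr, map_zero]
      rfl
    intro hbot
    exact hd0 ((Submodule.mem_bot R).1 (hbot ▸ ⟨hdP, e, he⟩))
  · intro y hy
    rw [← DirectSum.sum_support_decompose ℱ y]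
    refine Submodule.sum_mem _ fun n _ => ?_
    by_contra hnm
    set z : F := (DirectSum.decompose ℱ y n : F) with hz
    have hfz : f z = 0 := by
      have h := hπf n y
      rw [LinearMap.mem_ker.1 hy, map_zero] at h
      exact h.symm
    obtain ⟨φ, hφz, hφm⟩ := Submodule.exists_dual_map_eq_bot_of_notMem (p := (mR.toIdeal • (⊤ : Submodule R F)).restrictScalars k) hnm inferInstance
    let φ' : F →ₗ[k] k := φ ∘ₗ Groth.Agent.GrDualLib.projk 𝒜 ℱ n
    have hφ'z : φ' z ≠ 0 := by
      simp only [φ', LinearMap.comp_apply, Groth.Agent.GrDualLib.projk_of_mem 𝒜 ℱ (show z ∈ ℱ n from (DirectSum.decompose ℱ y n).2)]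
      exact hφz
    have hφ'm : ∀ w ∈ mR.toIdeal • (⊤ : Submodule R F), φ' w = 0 := fun w hw => by
      have h : φ (Groth.Agent.GrDualLib.projk 𝒜 ℱ n w) ∈ Submodule.map φ ((mR.toIdeal • (⊤ : Submodule R F)).restrictScalars k) := Submodule.mem_map_of_mem (hmF n w hw)
      rw [hφm, Submodule.mem_bot] at h
      exact h
    obtain ⟨d, hd, hde⟩ := Groth.Agent.GrDualLib.exists_repr 𝒜 hDF (-n) φ' fun m hm x hx => by
      simp only [φ', LinearMap.comp_apply, Groth.Agent.GrDualLib.projk_of_mem_ne 𝒜 ℱ hx (show m ≠ n by omega), map_zero]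
    have hline : ∀ r : R, ∃ c : k, r • d = c • d := by
      intro r
      induction r using DirectSum.Decomposition.inductionOn 𝒜 with
      | zero => exact ⟨0, by simp⟩
      | @homogeneous j r =>
        rcases lt_trichotomy j 0 with hj | rfl | hj
        · exact ⟨0, by rw [show (r : R) = 0 from (Submodule.mem_bot k).1 (hposR j hj ▸ r.2)]; simp⟩
        · obtain ⟨c, hc⟩ := Submodule.mem_span_singleton.1 (h0R ▸ r.2 : (r : R) ∈ Submodule.span k {(1 : R)})
          exact ⟨c, by rw [← hc, smul_assoc, one_smul]⟩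
        · refine ⟨0, hinjF (LinearMap.ext fun w => ?_)⟩
          rw [zero_smul, map_zero, hDF.map_smul, hde, hφ'm _ (Submodule.smul_mem_smul (hgen _ j r.2 hj) Submodule.mem_top)]
          rfl
      | add a b ha hb =>
        obtain ⟨c, hc⟩ := ha
        obtain ⟨c', hc'⟩ := hb
        exact ⟨c + c', by rw [add_smul, hc, hc', add_smul]⟩
    have hd0 : d ≠ 0 := fun h => hφ'z (by rw [← hde, h, map_zero]; rfl)
    have hP : (Submodule.span R {d}).IsHomogeneous 𝒟F := by
      intro i w hw
      obtain ⟨r, rfl⟩ := Submodule.mem_span_singleton.1 hw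
      obtain ⟨c, hc⟩ := hline r
      rw [hc]
      have hcd := Groth.Agent.GrDualLib.smul_mem_piece 𝒜 𝒟F (-n) c hd
      by_cases hi : -n = i
      · subst hi; rw [DirectSum.decompose_of_mem_same 𝒟F hcd, ← hc]; exact Submodule.smul_mem _ r (Submodule.mem_span_singleton_self d)
      · rw [DirectSum.decompose_of_mem_ne 𝒟F hcd hi]; exact zero_mem _
    refine hess.essential _ hP (fun h => hd0 ?_) (eq_bot_iff.2 ?_)
    · exact (Submodule.mem_bot R).1 (h ▸ Submodule.mem_span_singleton_self d)
    · rintro w ⟨hw, e, he⟩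
      obtain ⟨r, rfl⟩ := Submodule.mem_span_singleton.1 hw
      obtain ⟨c, hc⟩ := hline r
      have h := hg e z
      rw [he, hc, hfz, map_zero, map_smul, LinearMap.smul_apply, hde, smul_eq_mul, mul_eq_zero] at h
      rw [Submodule.mem_bot, hc, h.resolve_right hφ'z, zero_smul]

end Groth.Agent.S19751
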