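-- statement GrDual.GrothFrozen.S19752 (Groth/Statements/S19752.lean; the theorem GrDual.isStarInjHull_residueField_gradedDual_self);
import Groth.Statements.S19752
import Groth.Agent.GrDualLib.Basic
import Groth.Agent.GrSegreLib.PosGr

set_option autoImplicit false
universe u
open GrDual

namespace Groth.Agent.S19752

/-- Let R = ⊕_{n ≥ 0} R_n be a Noetherian graded ring with R_0 = k a field, m = R_+ and k = R/m. Then
the graded k-dual R^* = ⊕_n Hom_k(R_{−n}, k) is the injective envelope of R/m in the category of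
graded R-modules: for every injective homomorphism of graded R-modules e : R/m → R^*, the module R^*
is an injective object of the graded category and every nonzero graded submodule of R^* meets the
image of e. Here a graded ring defined over k is a commutative k-algebra of finite type, graded in
nonnegative degrees by k-subspaces with degree-zero part k·1, and R_+ is the ideal spanned by the
R_n with n > 0 (a Noetherian such ring is the same as one of finite type over k); the graded k-dual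
M^* = ⊕_n Hom_k(M_{−n}, k) of a graded R-module M (with r ∈ R acting by (r f)(x) = f(r x)) is
presented abstractly as a graded R-module D with a k-bilinear pairing β : D × M → k compatible with
the R-actions, under which D_n pairs to zero with M_m for m ≠ −n and is identified with the full
dual space of M_{−n}. -/
theorem result (k : Type u) [Field k] (R : Type u) [CommRing R] [Algebra k R] (𝒜 : ℤ → Submodule k R) [GradedAlgebra 𝒜] (hposR : ∀ n : ℤ, n < 0 → 𝒜 n = ⊥) (h0R : 𝒜 0 = Submodule.span k {(1 : R)}) [Algebra.FiniteType k R] (mR : HomogeneousIdeal 𝒜) (hmR : mR.toIdeal = Ideal.span (⋃ n ∈ Set.Ioi (0 : ℤ), (𝒜 n : Set R))) (D : Type u) [AddCommGroup D] [Module R D] [Module k D] [IsScalarTower k R D] (𝒟 : ℤ → AddSubgroup D) [DirectSum.Decomposition 𝒟] [SetLike.GradedSMul 𝒜 𝒟] (β : D →ₗ[k] R →ₗ[k] k) (hD : GrSeg.IsGDual R 𝒜 𝒟 β) (e : (R ⧸ mR.toIdeal) →ₗ[R] D) (he : Function.Injective e) (hegr : GrLC.IsGrHom (GrLC.quotGr 𝒜 mR) 𝒟 e) : GrLC.IsStarInjHull 𝒜 (GrLC.quotGr 𝒜 mR) 𝒟 e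 := by
  classical
  let ℳ' : ℤ → AddSubgroup R := fun n => (𝒜 n).toAddSubgroup
  letI : DirectSum.Decomposition ℳ' :=
    { decompose' := DirectSum.Decomposition.decompose' (ℳ := 𝒜)
      left_inv := DirectSum.Decomposition.left_inv (ℳ := 𝒜)
      right_inv := DirectSum.Decomposition.right_inv (ℳ := 𝒜) }
  haveI : SetLike.GradedSMul 𝒜 ℳ' := ⟨by intros; exact SetLike.mul_mem_graded (A := 𝒜) ‹_› ‹_›⟩
  have hD' : GrSeg.IsGDual R ℳ' 𝒟 β := ⟨hD.map_smul, hD.vanish, hD.eq_zero, hD.exists_eq⟩
  have hinj := Groth.Agent.GrDualLib.injective_of_isGDual 𝒜 hD'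
  have hrepr := fun n φ hφ => Groth.Agent.GrDualLib.exists_repr 𝒜 hD' n φ hφ
  have h1 : (1 : R) ∈ 𝒜 0 := SetLike.GradedOne.one_mem
  have hd1 : ∀ (n : ℤ), n ≠ 0 → ∀ d ∈ 𝒟 n, β d 1 = 0 := fun n hn d hd => hD.vanish n d hd 0 (fun e => hn (by omega)) 1 h1
  have hzero : ∀ d ∈ 𝒟 0, β d 1 = 0 → d = 0 := by
    intro d hd h
    refine hD.eq_zero 0 d hd fun x hx => ?_
    rw [neg_zero] at hx
    obtain ⟨c, rfl⟩ := Submodule.mem_span_singleton.1 (h0R ▸ hx : x ∈ Submodule.span k {(1 : R)})
    rw [map_smul, h, smul_zero]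
  refine ⟨⟨he, hegr, fun P hP hP0 => ?_⟩, fun A B i hi hiinj φ hφ => ?_⟩
  · obtain ⟨p, hp, hp0⟩ := Submodule.exists_mem_ne_zero_of_ne_bot hP0
    obtain ⟨n, hn⟩ : ∃ n, (DirectSum.decompose 𝒟 p n : D) ≠ 0 := by
      by_contra hc
      push Not at hc
      exact hp0 (by rw [← DirectSum.sum_support_decompose 𝒟 p]; exact Finset.sum_eq_zero fun i _ => hc i)
    have hpn : (DirectSum.decompose 𝒟 p n : D) ∈ P := hP n hp
    obtain ⟨r, hr, hrd⟩ : ∃ r ∈ 𝒜 (-n), β (DirectSum.decompose 𝒟 p n : D) r ≠ 0 := by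
      by_contra hc
      push Not at hc
      exact hn (hD.eq_zero n _ (DirectSum.decompose 𝒟 p n).2 hc)
    set q := r • (DirectSum.decompose 𝒟 p n : D) with hq
    have hq0 : q ∈ 𝒟 0 := by
      have h := SetLike.GradedSMul.smul_mem (A := 𝒜) (B := 𝒟) hr (DirectSum.decompose 𝒟 p n).2
      rwa [vadd_eq_add, neg_add_cancel] at h
    have hq1 : β q 1 ≠ 0 := by rwa [hq, hD.map_smul, smul_eq_mul, mul_one]
    have he0 : e (Ideal.Quotient.mk _ 1) ∈ 𝒟 0 := hegr 0 _ ⟨1, h1, rfl⟩
    have he1 : β (e (Ideal.Quotient.mk mR.toIdeal 1)) 1 ≠ 0 := fun h => by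
      have h2 := he ((hzero _ he0 h).trans (map_zero e).symm)
      rw [Ideal.Quotient.eq_zero_iff_mem, hmR] at h2
      have h3 : PosGr.cmp 𝒜 0 (1 : R) = 0 := by
        refine PosGr.cmp_zero_of_mem_pos 𝒜 hposR ?_
        refine Ideal.span_le.2 (fun z hz => ?_) h2
        simp only [Set.mem_iUnion] at hz
        obtain ⟨j, hj, hz⟩ := hz
        exact PosGr.mem_pos_of_mem 𝒜 hj hz
      rw [PosGr.cmp_of_mem 𝒜 h1, if_pos rfl] at h3
      haveI : Nontrivial R := ⟨⟨r, 0, fun e0 => hrd (by rw [e0, map_zero])⟩⟩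
      exact (one_ne_zero : (1 : R) ≠ 0) h3
    set u := e (Ideal.Quotient.mk mR.toIdeal 1) with hu
    set c : k := β q 1 / β u 1
    have hqu : q = c • u := sub_eq_zero.1 (hzero _ (sub_mem hq0 (Groth.Agent.GrDualLib.smul_mem_piece 𝒜 𝒟 0 c he0)) (by
      rw [map_sub, LinearMap.sub_apply, LinearMap.map_smul β c u, LinearMap.smul_apply, smul_eq_mul, div_mul_cancel₀ _ he1, sub_self]))
    intro hbot
    have hmem : q ∈ P ⊓ LinearMap.range e := ⟨P.smul_mem r hpn, ⟨algebraMap k R c • Ideal.Quotient.mk mR.toIdeal 1, by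
      rw [map_smul, algebraMap_smul, hqu]⟩⟩
    rw [hbot, Submodule.mem_bot] at hmem
    exact hq1 (by rw [hmem, map_zero, LinearMap.zero_apply])
  · letI : Module k A.carrier := Module.compHom A.carrier (algebraMap k R)
    letI : Module k B.carrier := Module.compHom B.carrier (algebraMap k R)
    haveI : IsScalarTower k R A.carrier := IsScalarTower.of_algebraMap_smul fun _ _ => rfl
    haveI : IsScalarTower k R B.carrier := IsScalarTower.of_algebraMap_smul fun _ _ => rfl
    let GA : A.carrier →ₗ[k] k := β.flip 1 ∘ₗ φ.restrictScalars k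
    obtain ⟨π', hπ'⟩ := LinearMap.exists_leftInverse_of_injective (i.restrictScalars k) (LinearMap.ker_eq_bot.2 hiinj)
    let GB : B.carrier →ₗ[k] k := GA ∘ₗ π' ∘ₗ Groth.Agent.GrDualLib.projk 𝒜 B.gr 0
    let Θ : B.carrier →ₗ[k] R →ₗ[k] k := LinearMap.mk₂ k (fun b r => GB (r • b))
      (fun b b' r => by rw [smul_add, map_add]) (fun c b r => by rw [smul_comm, map_smul])
      (fun b r r' => by rw [add_smul, map_add]) (fun c b r => by rw [smul_assoc, map_smul])
    have hΘ : ∀ b r, Θ b r = GB (r • b) := fun b r => rfl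
    have hrep : ∀ (n : ℤ), ∀ b ∈ B.gr n, ∃ d ∈ 𝒟 n, β d = Θ b := by
      intro n b hb
      refine hrepr n (Θ b) fun m hm r hr => ?_
      have h : r • b ∈ B.gr (m + n) := SetLike.GradedSMul.smul_mem (A := 𝒜) hr hb
      rw [hΘ]
      simp only [GB, LinearMap.comp_apply, Groth.Agent.GrDualLib.projk_of_mem_ne 𝒜 B.gr h (show m + n ≠ 0 by omega), map_zero]
    have hrange : ∀ b, Θ b ∈ LinearMap.range β := by
      intro b
      induction b using DirectSum.Decomposition.inductionOn B.gr with
      | zero => simp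
      | @homogeneous j b => obtain ⟨x, -, hx⟩ := hrep j b b.2; exact ⟨x, hx⟩
      | add a b ha hb => rw [map_add]; exact add_mem ha hb
    choose f₀ hf₀ using hrange
    let ψ : B.carrier →ₗ[R] D :=
      { toFun := f₀
        map_add' := fun a b => hinj (by rw [map_add, hf₀, hf₀, hf₀, map_add])
        map_smul' := fun r a => hinj (LinearMap.ext fun s => by
          rw [hf₀, hΘ, RingHom.id_apply, hD.map_smul, hf₀, hΘ, smul_eq_mul, mul_comm, mul_smul]) }
    refine ⟨ψ, fun n b hb => ?_, LinearMap.ext fun a => ?_⟩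
    · obtain ⟨x, hx, hxe⟩ := hrep n b hb
      have : ψ b = x := hinj ((hf₀ b).trans hxe.symm)
      rw [this]; exact hx
    · induction a using DirectSum.Decomposition.inductionOn A.gr with
      | zero => simp
      | add a b ha hb => rw [map_add, map_add, ha, hb]
      | @homogeneous j a =>
        refine hinj (Groth.Agent.GrDualLib.ext_pieces ℳ' _ _ fun m r hr => ?_)
        change β (f₀ (i a)) r = β (φ a) r
        rw [hf₀, hΘ, ← map_smul i]
        have hra : r • (a : A.carrier) ∈ A.gr (m + j) := SetLike.GradedSMul.smul_mem (A := 𝒜) hr a.2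
        have hval : β (φ a) r = GA (r • (a : A.carrier)) := by
          change β (φ a) r = β (φ (r • (a : A.carrier))) 1
          rw [map_smul, hD.map_smul, smul_eq_mul, mul_one]
        rw [hval]
        by_cases hmj : m + j = 0
        · have hm2 : i (r • (a : A.carrier)) ∈ B.gr 0 := hmj ▸ hi _ _ hra
          simp only [GB, LinearMap.comp_apply, Groth.Agent.GrDualLib.projk_of_mem 𝒜 B.gr hm2]
          exact congrArg GA (LinearMap.congr_fun hπ' (r • (a : A.carrier)))
        · simp only [GB, LinearMap.comp_apply, Groth.Agent.GrDualLib.projk_of_mem_ne 𝒜 B.gr (hi _ _ hra) hmj, map_zero]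
          exact (hd1 _ hmj _ (hφ _ _ hra)).symm

end Groth.Agent.S19752
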