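import Groth.Statements.S19761
import Groth.Agent.GrDualLib.Basic
-- import your own Groth.Agent.* helpers here

set_option autoImplicit false
universe u
open GrDual

namespace Groth.Agent.S19761

open DirectSum Groth.Agent.GrDualLib

section
variable {k : Type u} [Field k] {R : Type u} [CommRing R] [Algebra k R] (𝒜 : ℤ → Submodule k R) [GradedAlgebra 𝒜]
variable {M : Type u} [AddCommGroup M] [Module R M] [Module k M] [IsScalarTower k R M]
variable (ℳ : ℤ → AddSubgroup M) [Decomposition ℳ] [SetLike.GradedSMul 𝒜 ℳ]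
variable {D : Type u} [AddCommGroup D] [Module R D] [Module k D] [IsScalarTower k R D]
variable (𝒟 : ℤ → AddSubgroup D) [Decomposition 𝒟] [SetLike.GradedSMul 𝒜 𝒟]
variable {β : D →ₗ[k] M →ₗ[k] k}

theorem projk_smul {j : ℤ} {r : R} (hr : r ∈ 𝒜 j) (x : M) (m : ℤ) :
    projk 𝒜 ℳ m (r • x) = r • projk 𝒜 ℳ (m - j) x := by
  induction x using Decomposition.inductionOn ℳ with
  | zero => simp
  | @homogeneous i x =>
    have h : r • (x : M) ∈ ℳ (j + i) := SetLike.GradedSMul.smul_mem hr x.2
    by_cases hm : j + i = m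
    · subst hm
      rw [projk_of_mem 𝒜 ℳ h, show j + i - j = i by omega, projk_of_mem 𝒜 ℳ x.2]
    · rw [projk_of_mem_ne 𝒜 ℳ h hm, projk_of_mem_ne 𝒜 ℳ x.2 (by omega), smul_zero]
  | add a b ha hb => simp only [smul_add, map_add, ha, hb]

theorem piece_lower (hpos : ∀ n : ℤ, n < 0 → 𝒜 n = ⊥) [Module.Finite R M] :
    ∃ a : ℤ, ∀ n < a, ∀ x ∈ ℳ n, x = 0 := by
  classical
  obtain ⟨μ, p, g, hg, hgs⟩ := Groth.Agent.GrInj.exists_hom_gens (R := R) ℳ
  refine ⟨- ∑ i, |p i|, fun n hn x hx => ?_⟩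
  have hle : ∀ i, -p i ≤ ∑ i, |p i| := fun i =>
    (neg_le_abs (p i)).trans (Finset.single_le_sum (fun j _ => abs_nonneg (p j)) (Finset.mem_univ i))
  have hy : x ∈ Submodule.span R (Set.range g) := hgs ▸ Submodule.mem_top
  obtain ⟨cf, hcf⟩ := (Submodule.mem_span_range_iff_exists_fun R).1 hy
  rw [← projk_of_mem 𝒜 ℳ hx, ← hcf, map_sum]
  refine Finset.sum_eq_zero fun l _ => ?_
  generalize cf l = r
  induction r using Decomposition.inductionOn 𝒜 with
  | zero => simp
  | @homogeneous j r =>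
    rcases lt_or_ge j 0 with hj | hj
    · have h0 : (r : R) = 0 := (Submodule.mem_bot k).1 (SetLike.le_def.1 (hpos j hj).le r.2)
      simp [h0]
    · have h1 := hle l
      exact projk_of_mem_ne 𝒜 ℳ (SetLike.GradedSMul.smul_mem r.2 (hg l))
        (by simp only [vadd_eq_add]; omega)
  | add a b ha hb => rw [add_smul, map_add, ha, hb, add_zero]

/-- lowest components of `N` in degree `n` -/
noncomputable def lead (N : Submodule R D) (n : ℤ) : Submodule k D :=
  ((N.restrictScalars k) ⊓ ⨅ (m : ℤ) (_ : m < n), LinearMap.ker (projk 𝒜 𝒟 m)).map (projk 𝒜 𝒟 n)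

theorem mem_lead {N : Submodule R D} {n : ℤ} {d : D} :
    d ∈ lead 𝒜 𝒟 N n ↔ ∃ e ∈ N, (∀ m < n, projk 𝒜 𝒟 m e = 0) ∧ projk 𝒜 𝒟 n e = d := by
  simp [lead, and_assoc]

/-- orthogonal of the lowest components -/
def leadOrth (hD : GrSeg.IsGDual R ℳ 𝒟 β) (N : Submodule R D) : Submodule R M where
  carrier := {x | ∀ n, ∀ d ∈ lead 𝒜 𝒟 N n, β d x = 0}
  add_mem' ha hb := fun n d hd => by rw [map_add, ha n d hd, hb n d hd, add_zero]
  zero_mem' := fun n d hd => map_zero _
  smul_mem' r x hx := by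
    intro n d hd
    induction r using Decomposition.inductionOn 𝒜 with
    | zero => simp
    | @homogeneous j r =>
      rw [← hD.map_smul]
      refine hx (n + j) _ ?_
      obtain ⟨e, he, hlow, rfl⟩ := (mem_lead 𝒜 𝒟).1 hd
      refine (mem_lead 𝒜 𝒟).2 ⟨(r : R) • e, N.smul_mem _ he, fun m hm => ?_, ?_⟩
      · rw [projk_smul 𝒜 𝒟 r.2, hlow (m - j) (by omega), smul_zero]
      · rw [projk_smul 𝒜 𝒟 r.2, add_sub_cancel_right]
    | add a b ha hb => rw [add_smul, map_add, ha, hb, add_zero]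

include 𝒜 in
theorem isArtinian_dual [IsNoetherian R M] (hD : GrSeg.IsGDual R ℳ 𝒟 β)
    (hfl : GrSeg.IsGDual R 𝒟 ℳ β.flip) (b : ℤ) (hb : ∀ n, b < n → ∀ d ∈ 𝒟 n, d = 0) : IsArtinian R D := by
  classical
  have hanti : StrictAnti (leadOrth 𝒜 ℳ 𝒟 hD) := by
    intro N N' hlt
    have hle : leadOrth 𝒜 ℳ 𝒟 hD N' ≤ leadOrth 𝒜 ℳ 𝒟 hD N := fun x hx n d hd => by
      obtain ⟨e, he, hlow, hd'⟩ := (mem_lead 𝒜 𝒟).1 hd
      exact hx n d ((mem_lead 𝒜 𝒟).2 ⟨e, hlt.le he, hlow, hd'⟩)
    refine lt_of_le_of_ne hle fun heq => hlt.not_ge ?_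
    have hlead : ∀ n, ∀ d ∈ lead 𝒜 𝒟 N' n, d ∈ lead 𝒜 𝒟 N n := by
      intro n d hd
      by_contra hdn
      obtain ⟨φ, hφd, hφ⟩ := Submodule.exists_dual_map_eq_bot_of_notMem hdn inferInstance
      obtain ⟨x, hx, hxe⟩ := hfl.exists_eq (-n) φ
      have hx0 : x ∈ leadOrth 𝒜 ℳ 𝒟 hD N := by
        intro m d' hd'
        obtain ⟨e, he, hlow, hde⟩ := (mem_lead 𝒜 𝒟).1 hd'
        have hd'm : d' ∈ 𝒟 m := hde ▸ projk_mem 𝒜 𝒟 m e
        by_cases hm : m = n
        · subst hm
          have h1 := hxe d' (by rw [neg_neg]; exact hd'm)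
          rw [LinearMap.flip_apply] at h1
          rw [h1, ← Submodule.mem_bot k, ← hφ]
          exact Submodule.mem_map_of_mem hd'
        · exact hD.vanish m d' hd'm (-n) (fun h => hm (by omega)) x hx
      rw [← heq] at hx0
      have hdm : d ∈ 𝒟 n := by obtain ⟨e, -, -, rfl⟩ := (mem_lead 𝒜 𝒟).1 hd; exact projk_mem 𝒜 𝒟 n e
      have h1 := hxe d (by rw [neg_neg]; exact hdm)
      rw [LinearMap.flip_apply, hx0 n d hd] at h1
      exact hφd h1.symm
    have key : ∀ K : ℕ, ∀ e ∈ N', (∀ m < b + 1 - (K : ℤ), projk 𝒜 𝒟 m e = 0) → e ∈ N := by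
      intro K
      induction K with
      | zero =>
        intro e _ h
        have he : e = 0 := by
          rw [← sum_support_decompose 𝒟 e]
          refine Finset.sum_eq_zero fun m _ => ?_
          rcases lt_or_ge b m with hm | hm
          · exact hb m hm _ (decompose 𝒟 e m).2
          · exact h m (by push_cast; omega)
        rw [he]; exact zero_mem _
      | succ K ih =>
        intro e he h
        obtain ⟨e0, he0, hlow, heq0⟩ := (mem_lead 𝒜 𝒟).1
          (hlead (b - K) _ ((mem_lead 𝒜 𝒟).2 ⟨e, he, fun m hm => h m (by push_cast; omega), rfl⟩))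
        have h2 : e - e0 ∈ N := ih _ (sub_mem he (hlt.le he0)) fun m hm => by
          rcases eq_or_ne m (b - K) with rfl | hne
          · rw [map_sub, heq0, sub_self]
          · rw [map_sub, h m (by push_cast; omega), hlow m (by omega), sub_zero]
        simpa using add_mem h2 he0
    intro e he
    refine key (∑ m ∈ (decompose 𝒟 e).support, (b + 1 - m).natAbs) e he fun m hm => ?_
    by_cases hs : m ∈ (decompose 𝒟 e).support
    · exfalso
      have h1 : (b + 1 - m).natAbs ≤ ∑ x ∈ (decompose 𝒟 e).support, (b + 1 - x).natAbs :=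
        Finset.single_le_sum (f := fun m : ℤ => (b + 1 - m).natAbs) (fun _ _ => Nat.zero_le _) hs
      omega
    · show ((decompose 𝒟 e m : 𝒟 m) : D) = 0
      rw [DFinsupp.notMem_support_iff.1 hs]; rfl
  exact ⟨Subrelation.wf (fun {a b} h => hanti h)
    (InvImage.wf (leadOrth 𝒜 ℳ 𝒟 hD) (wellFounded_gt (α := Submodule R M)))⟩

include 𝒜 in
theorem finite_piece_of_artinian (h0 : 𝒜 0 = Submodule.span k {(1 : R)}) [IsArtinian R M] (n : ℤ) :
    Module.Finite k (piece 𝒜 ℳ n) := by
  classical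
  let V := piece 𝒜 ℳ n
  let f : Submodule k V → Submodule R M := fun U => Submodule.span R (Subtype.val '' (U : Set V))
  have hf : ∀ U : Submodule k V, ∀ x : V, (x : M) ∈ f U → x ∈ U := by
    intro U x hx
    have : ∀ y ∈ f U, projk 𝒜 ℳ n y ∈ U.map V.subtype := by
      intro y hy
      obtain ⟨l, rfl⟩ := (Finsupp.mem_span_iff_linearCombination R (Subtype.val '' (U : Set V)) y).1 hy
      rw [Finsupp.linearCombination_apply, Finsupp.sum, map_sum]
      refine Submodule.sum_mem _ fun z _ => ?_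
      obtain ⟨u, hu, huz⟩ := z.2
      rw [← huz]
      generalize l z = r
      induction r using Decomposition.inductionOn 𝒜 with
      | zero => simp
      | @homogeneous j r =>
        by_cases hj : j = 0
        · subst hj
          obtain ⟨c, hc⟩ := Submodule.mem_span_singleton.1 (h0 ▸ r.2 : (r : R) ∈ Submodule.span k {(1 : R)})
          rw [← hc, smul_assoc, one_smul, map_smul, projk_of_mem 𝒜 ℳ u.2]
          exact Submodule.smul_mem _ _ ⟨u, hu, rfl⟩
        · rw [projk_of_mem_ne 𝒜 ℳ (SetLike.GradedSMul.smul_mem r.2 u.2) (by simp only [vadd_eq_add]; omega)]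
          exact zero_mem _
      | add a b ha hb => rw [add_smul, map_add]; exact add_mem ha hb
    have h := this _ hx
    rw [projk_of_mem 𝒜 ℳ x.2] at h
    obtain ⟨u, hu, hux⟩ := h
    rwa [← Subtype.ext hux]
  have hmono : StrictMono f := by
    intro U U' hlt
    refine lt_of_le_of_ne (Submodule.span_mono (Set.image_mono hlt.le)) fun heq => hlt.not_ge fun x hx => ?_
    exact hf U x (heq ▸ Submodule.subset_span ⟨x, hx, rfl⟩)
  haveI : IsArtinian k V := ⟨Subrelation.wf (fun {a b} h => hmono h) (InvImage.wf f wellFounded_lt)⟩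
  exact ((IsSemisimpleModule.finite_tfae (R := k) (M := V)).out 2 0).mp ‹_›

include 𝒜 in
theorem finite_dual [IsArtinian R M] (hD : GrSeg.IsGDual R ℳ 𝒟 β) (hfl : GrSeg.IsGDual R 𝒟 ℳ β.flip) :
    Module.Finite R D := by
  classical
  let orth : Finset (Σ n : ℤ, 𝒟 n) → Submodule R M := fun F =>
    { carrier := {x | ∀ e ∈ Submodule.span R ((fun s : Σ n : ℤ, 𝒟 n => (s.2 : D)) '' (F : Set _)), β e x = 0}
      add_mem' := fun ha hb e he => by rw [map_add, ha e he, hb e he, add_zero]
      zero_mem' := fun e _ => map_zero _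
      smul_mem' := fun r x hx e he => by rw [← hD.map_smul]; exact hx _ (Submodule.smul_mem _ r he) }
  obtain ⟨_, ⟨F, rfl⟩, hmin⟩ := set_has_minimal_iff_artinian.2 ‹IsArtinian R M› (Set.range orth)
    (Set.range_nonempty _)
  refine ⟨⟨F.image fun s => (s.2 : D), ?_⟩⟩
  rw [Finset.coe_image, eq_top_iff]
  intro d _
  set S := Submodule.span R ((fun s : Σ n : ℤ, 𝒟 n => (s.2 : D)) '' (F : Set _)) with hS
  have hcomp : ∀ (n : ℤ) (e : D), e ∈ S → projk 𝒜 𝒟 n e ∈ S := by
    intro n e he
    induction he using Submodule.span_induction generalizing n with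
    | mem e he =>
      obtain ⟨s, hs, rfl⟩ := he
      by_cases h : s.1 = n
      · subst h; rw [projk_of_mem 𝒜 𝒟 s.2.2]; exact Submodule.subset_span ⟨s, hs, rfl⟩
      · rw [projk_of_mem_ne 𝒜 𝒟 s.2.2 h]; exact zero_mem _
    | zero => simp
    | add a b _ _ ha hb => rw [map_add]; exact add_mem (ha n) (hb n)
    | smul r e _ ih =>
      induction r using Decomposition.inductionOn 𝒜 with
      | zero => simp
      | @homogeneous j r => rw [projk_smul 𝒜 𝒟 r.2]; exact Submodule.smul_mem _ _ (ih _)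
      | add a b ha hb => rw [add_smul, map_add]; exact add_mem ha hb
  rw [← sum_support_decompose 𝒟 d]
  refine Submodule.sum_mem _ fun n _ => ?_
  generalize hd : decompose 𝒟 d n = dn
  by_contra hdn
  obtain ⟨φ, hφd, hφ⟩ := Submodule.exists_dual_map_eq_bot_of_notMem
    (p := S.restrictScalars k) (x := (dn : D)) hdn inferInstance
  obtain ⟨x, hx, hxe⟩ := hfl.exists_eq (-n) φ
  have hxF : x ∈ orth F := by
    intro e he
    have h2 : β e x = β (projk 𝒜 𝒟 n e) x := by
      conv_lhs => rw [← sum_support_decompose 𝒟 e, map_sum, LinearMap.sum_apply]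
      rw [Finset.sum_eq_single n (fun j _ hj => hD.vanish j _ (decompose 𝒟 e j).2 (-n) (by omega) x hx)
        (fun h => by rw [DFinsupp.notMem_support_iff.1 h]; simp)]
      rfl
    have h1 := hxe (projk 𝒜 𝒟 n e) (by rw [neg_neg]; exact projk_mem 𝒜 𝒟 n e)
    rw [LinearMap.flip_apply] at h1
    rw [h2, h1, ← Submodule.mem_bot k, ← hφ]
    exact Submodule.mem_map_of_mem (hcomp n e he)
  have hle : orth (insert ⟨n, dn⟩ F) ≤ orth F := fun y hy e he =>
    hy e (Submodule.span_mono (Set.image_mono (by simp)) he)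
  have hxF' : x ∈ orth (insert ⟨n, dn⟩ F) := by
    by_contra h
    exact hmin _ ⟨_, rfl⟩ (lt_of_le_of_ne hle fun e => h (e ▸ hxF))
  have h1 := hxe (dn : D) (by rw [neg_neg]; exact dn.2)
  rw [LinearMap.flip_apply, hxF' _ (Submodule.subset_span ⟨⟨n, dn⟩, by simp, rfl⟩)] at h1
  exact hφd h1.symm

end

/-- Let R = ⊕_{n ≥ 0} R_n be a Noetherian graded ring with R_0 = k a field. The graded k-dual M ↦ M^* =
⊕_n Hom_k(M_{−n}, k) is an equivalence between the category of Noetherian graded R-modules and the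
opposite of the category of Artinian graded R-modules; on objects: if M is a finitely generated
graded R-module then M^* is an Artinian R-module and M = M^{**}, and if M is an Artinian graded
R-module then M^* is finitely generated and M = M^{**}. Here M = M^{**} is stated as: M is the
graded dual of M^* under the transposed pairing. Here a graded ring defined over k is a commutative
k-algebra of finite type, graded in nonnegative degrees by k-subspaces with degree-zero part k·1,
and R_+ is the ideal spanned by the R_n with n > 0 (a Noetherian such ring is the same as one of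
finite type over k); the graded k-dual M^* = ⊕_n Hom_k(M_{−n}, k) of a graded R-module M (with r ∈ R
acting by (r f)(x) = f(r x)) is presented abstractly as a graded R-module D with a k-bilinear
pairing β : D × M → k compatible with the R-actions, under which D_n pairs to zero with M_m for m ≠
−n and is identified with the full dual space of M_{−n}. -/
theorem result (k : Type u) [Field k] (R : Type u) [CommRing R] [Algebra k R] (𝒜 : ℤ → Submodule k R) [GradedAlgebra 𝒜] (hposR : ∀ n : ℤ, n < 0 → 𝒜 n = ⊥) (h0R : 𝒜 0 = Submodule.span k {(1 : R)}) [Algebra.FiniteType k R] (M : Type u) [AddCommGroup M] [Module R M] [Module k M] [IsScalarTower k R M] (ℳ : ℤ → AddSubgroup M) [DirectSum.Decomposition ℳ] [SetLike.GradedSMul 𝒜 ℳ] (D : Type u) [AddCommGroup D] [Module R D] [Module k D] [IsScalarTower k R D] (𝒟 : ℤ → AddSubgroup D) [DirectSum.Decomposition 𝒟] [SetLike.GradedSMul 𝒜 𝒟] (β : D →ₗ[k] M →ₗ[k] k) (hD : GrSeg.IsGDual R ℳ 𝒟 β) : (Module.Finite R M → IsArtinian R D ∧ GrSeg.IsGDual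 R 𝒟 ℳ β.flip) ∧ (IsArtinian R M → Module.Finite R D ∧ GrSeg.IsGDual R 𝒟 ℳ β.flip) := by
  refine ⟨fun hfinM => ?_, fun hart => ?_⟩
  · haveI := hfinM
    haveI : IsNoetherianRing R := Algebra.FiniteType.isNoetherianRing k R
    have hfl := Groth.Agent.GrDualLib.isGDual_flip 𝒜 hD
      fun n => Groth.Agent.GrDualLib.finite_piece 𝒜 ℳ hposR h0R n
    obtain ⟨a, ha⟩ := piece_lower 𝒜 ℳ hposR
    refine ⟨isArtinian_dual 𝒜 ℳ 𝒟 hD hfl (-a) fun n hn d hd => hD.eq_zero n d hd fun x hx => ?_, hfl⟩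
    rw [ha (-n) (by omega) x hx, map_zero]
  · haveI := hart
    have hfl := Groth.Agent.GrDualLib.isGDual_flip 𝒜 hD fun n => finite_piece_of_artinian 𝒜 ℳ h0R n
    exact ⟨finite_dual 𝒜 ℳ 𝒟 hD hfl, hfl⟩

end Groth.Agent.S19761
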