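import Groth.Statements.S19760
import Groth.Agent.GrDualLib.Basic
import Groth.Agent.S19761
-- import your own Groth.Agent.* helpers here

set_option autoImplicit false
universe u
open GrDual

namespace Groth.Agent.S19760

open DirectSum Groth.Agent.GrDualLib

section
variable {k : Type u} [Field k] {R : Type u} [CommRing R] [Algebra k R] (𝒜 : ℤ → Submodule k R) [GradedAlgebra 𝒜]

/-- the pieces of the ring as additive subgroups -/
abbrev ringPieces : ℤ → AddSubgroup R := fun n => (𝒜 n).toAddSubgroup

noncomputable instance : Decomposition (ringPieces 𝒜) where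
  decompose' := Decomposition.decompose' (ℳ := 𝒜)
  left_inv := Decomposition.left_inv (ℳ := 𝒜)
  right_inv := Decomposition.right_inv (ℳ := 𝒜)

instance : SetLike.GradedSMul 𝒜 (ringPieces 𝒜) :=
  ⟨fun {_ _ _ _} ha hb => SetLike.mul_mem_graded (A := 𝒜) ha hb⟩

end

/-- Let R = ⊕_{n ≥ 0} R_n be a Noetherian graded ring with R_0 = k a field and R^* = ⊕_n Hom_k(R_{−n},
k) its graded k-dual. A graded R-module M is Artinian exactly when, for some t and some integer
shifts n_1, …, n_t, it embeds as a graded module into the direct sum of the shifted duals R^*(n_1),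
…, R^*(n_t), that is, when there is an injective R-linear map M → (R^*)^t whose i-th component
carries M_g into R^*_{g+n_i} for every g. Here a graded ring defined over k is a commutative
k-algebra of finite type, graded in nonnegative degrees by k-subspaces with degree-zero part k·1,
and R_+ is the ideal spanned by the R_n with n > 0 (a Noetherian such ring is the same as one of
finite type over k); the graded k-dual M^* = ⊕_n Hom_k(M_{−n}, k) of a graded R-module M (with r ∈ R
acting by (r f)(x) = f(r x)) is presented abstractly as a graded R-module D with a k-bilinear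
pairing β : D × M → k compatible with the R-actions, under which D_n pairs to zero with M_m for m ≠
−n and is identified with the full dual space of M_{−n}. -/
theorem result (k : Type u) [Field k] (R : Type u) [CommRing R] [Algebra k R] (𝒜 : ℤ → Submodule k R) [GradedAlgebra 𝒜] (hposR : ∀ n : ℤ, n < 0 → 𝒜 n = ⊥) (h0R : 𝒜 0 = Submodule.span k {(1 : R)}) [Algebra.FiniteType k R] (D : Type u) [AddCommGroup D] [Module R D] [Module k D] [IsScalarTower k R D] (𝒟 : ℤ → AddSubgroup D) [DirectSum.Decomposition 𝒟] [SetLike.GradedSMul 𝒜 𝒟] (β : D →ₗ[k] R →ₗ[k] k) (hD : GrSeg.IsGDual R 𝒜 𝒟 β) (M : Type u) [AddCommGroup M] [Module R M] [Module k M] [IsScalarTower k R M] (ℳ : ℤ → AddSubgroup M) [DirectSum.Decomposition ℳ] [SetLike.GradedSMul 𝒜 ℳ] : IsArtinian R M ↔ ∃ (t : ℕ) (sh : Fin t → ℤ) (f : M →ₗ[R] (Fin t → D)), Function.Injective f ∧ ∀ (i : Fin t) (g : ℤ) (x : M), x ∈ ℳ g → f x i ∈ 𝒟 (g + sh i) := by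
  classical
  have hD' : GrSeg.IsGDual R (ringPieces 𝒜) 𝒟 β := ⟨hD.map_smul, hD.vanish, hD.eq_zero, hD.exists_eq⟩
  have hDart : IsArtinian R D :=
    ((Groth.Agent.S19761.result k R 𝒜 hposR h0R R (ringPieces 𝒜) D 𝒟 β hD').1 inferInstance).1
  constructor
  · intro hart
    have hinj := injective_of_isGDual 𝒜 hD'
    let ι := Σ g : ℤ, (M →ₗ[k] k)
    let L : ι → M →ₗ[k] (R →ₗ[k] k) := fun p =>
      LinearMap.mk₂ k (fun x r => p.2 (projk 𝒜 ℳ p.1 (r • x)))
        (fun x y r => by rw [smul_add, map_add, map_add])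
        (fun c x r => by rw [smul_comm r c x, map_smul, map_smul])
        (fun x r s => by rw [add_smul, map_add, map_add])
        (fun c x r => by rw [smul_assoc, map_smul, map_smul])
    have hLhom : ∀ (p : ι) (h : ℤ) (x : M), x ∈ ℳ h → ∃ d ∈ 𝒟 (h + -p.1), β d = L p x := by
      intro p h x hx
      refine exists_repr 𝒜 hD' _ (L p x) fun m hm r hr => ?_
      show p.2 (projk 𝒜 ℳ p.1 (r • x)) = 0
      rw [projk_of_mem_ne 𝒜 ℳ (SetLike.GradedSMul.smul_mem (A := 𝒜) hr hx) (by simp only [vadd_eq_add]; omega),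
        map_zero]
    have hLr : ∀ (p : ι) (x : M), ∃ d, β d = L p x := by
      intro p x
      induction x using Decomposition.inductionOn ℳ with
      | zero => exact ⟨0, by rw [map_zero, map_zero]⟩
      | @homogeneous h x => obtain ⟨d, -, hd⟩ := hLhom p h x x.2; exact ⟨d, hd⟩
      | add a b ha hb =>
        obtain ⟨d, hd⟩ := ha; obtain ⟨e, he⟩ := hb
        exact ⟨d + e, by rw [map_add, map_add, hd, he]⟩
    choose f hf using hLr
    let F : ι → M →ₗ[R] D := fun p =>
      { toFun := f p
        map_add' := fun x y => hinj (by rw [map_add, hf, hf, hf, map_add])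
        map_smul' := fun r x => hinj (LinearMap.ext fun s => by
          rw [RingHom.id_apply, hD.map_smul, hf, hf]
          show p.2 (projk 𝒜 ℳ p.1 (s • r • x)) = p.2 (projk 𝒜 ℳ p.1 ((r • s) • x))
          rw [smul_eq_mul, ← mul_smul, mul_comm]) }
    obtain ⟨_, ⟨S, rfl⟩, hmin⟩ := set_has_minimal_iff_artinian.2 ‹IsArtinian R M›
      (Set.range fun S : Finset ι => S.inf fun p => LinearMap.ker (F p)) (Set.range_nonempty _)
    have hbot : ∀ x ∈ S.inf (fun p => LinearMap.ker (F p)), x = 0 := by
      intro x hx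
      by_contra hx0
      obtain ⟨g, hg⟩ : ∃ g, (decompose ℳ x g : M) ≠ 0 := by
        by_contra! h
        exact hx0 (by rw [← sum_support_decompose ℳ x]; exact Finset.sum_eq_zero fun g _ => h g)
      obtain ⟨φ, hφ⟩ := Module.Projective.exists_dual_eq_one k hg
      have hx' : F ⟨g, φ⟩ x = 0 := by
        by_contra h
        refine hmin _ ⟨insert ⟨g, φ⟩ S, rfl⟩ (lt_of_le_of_ne (Finset.inf_mono (Finset.subset_insert _ _)) fun e => h ?_)
        have hx2 : x ∈ (insert (⟨g, φ⟩ : ι) S).inf (fun p => LinearMap.ker (F p)) := by beta_reduce at e; rw [e]; exact hx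
        rw [Finset.inf_insert] at hx2
        exact LinearMap.mem_ker.1 hx2.1
      have h1 := LinearMap.congr_fun (hf ⟨g, φ⟩ x) 1
      rw [show f ⟨g, φ⟩ x = 0 from hx', map_zero, LinearMap.zero_apply] at h1
      have h2 : φ (projk 𝒜 ℳ g ((1 : R) • x)) = 0 := h1.symm
      rw [one_smul, show projk 𝒜 ℳ g x = (decompose ℳ x g : M) from rfl, hφ] at h2
      exact one_ne_zero h2
    let e := (Fintype.equivFin S).symm
    refine ⟨Fintype.card S, fun i => -((e i : ι).1), LinearMap.pi fun i => F (e i : ι), ?_, fun i g x hx => ?_⟩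
    · refine (injective_iff_map_eq_zero _).2 fun x hx => hbot x ?_
      rw [Submodule.mem_finsetInf]
      intro p hp
      have h := congrFun hx (e.symm ⟨p, hp⟩)
      simp only [LinearMap.pi_apply, Equiv.apply_symm_apply, Pi.zero_apply] at h
      exact h
    · obtain ⟨d, hd, hdx⟩ := hLhom (e i : ι) g x hx
      have : f (e i : ι) x = d := hinj (by rw [hf, hdx])
      show f (e i : ι) x ∈ _
      rw [this]; exact hd
  · rintro ⟨t, sh, f, hf, -⟩
    haveI := hDart
    exact isArtinian_of_injective f hf

end Groth.Agent.S19760
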