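-- statement GrDual.GrothFrozen.S19762 (Groth/Statements/S19762.lean; the theorem GrDual.existsUnique_grHom_isGDualMap_of_finite);
import Groth.Statements.S19762
import Groth.Agent.GrDualLib.Basic

set_option autoImplicit false
universe u
open GrDual

namespace Groth.Agent.S19762

/-- Let R = ⊕_{n ≥ 0} R_n be a Noetherian graded ring with R_0 = k a field. The graded k-dual is an
equivalence between Noetherian graded R-modules and the opposite category of Artinian graded
R-modules; on morphisms: for finitely generated graded R-modules F and M, every homomorphism of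
graded R-modules g : M^* → F^* is f^* for a unique homomorphism of graded R-modules f : F → M. Here
a graded ring defined over k is a commutative k-algebra of finite type, graded in nonnegative
degrees by k-subspaces with degree-zero part k·1, and R_+ is the ideal spanned by the R_n with n > 0
(a Noetherian such ring is the same as one of finite type over k); the graded k-dual M^* = ⊕_n
Hom_k(M_{−n}, k) of a graded R-module M (with r ∈ R acting by (r f)(x) = f(r x)) is presented
abstractly as a graded R-module D with a k-bilinear pairing β : D × M → k compatible with the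
R-actions, under which D_n pairs to zero with M_m for m ≠ −n and is identified with the full dual
space of M_{−n}; f^* = g means β_F(g d, x) = β_M(d, f x) for all d and x. -/
theorem result (k : Type u) [Field k] (R : Type u) [CommRing R] [Algebra k R] (𝒜 : ℤ → Submodule k R) [GradedAlgebra 𝒜] (hposR : ∀ n : ℤ, n < 0 → 𝒜 n = ⊥) (h0R : 𝒜 0 = Submodule.span k {(1 : R)}) [Algebra.FiniteType k R] (F : Type u) [AddCommGroup F] [Module R F] [Module k F] [IsScalarTower k R F] (ℱ : ℤ → AddSubgroup F) [DirectSum.Decomposition ℱ] [SetLike.GradedSMul 𝒜 ℱ] [Module.Finite R F] (M : Type u) [AddCommGroup M] [Module R M] [Module k M] [IsScalarTower k R M] (ℳ : ℤ → AddSubgroup M) [DirectSum.Decomposition ℳ] [SetLike.GradedSMul 𝒜 ℳ] [Module.Finite R M] (DM : Type u) [AddCommGroup DM] [Module R DM] [Module k DM] [IsScalarTower k R DM] (𝒟M : ℤ → AddSubgroup DM) [DirectSum.Decomposition 𝒟M] [SetLike.GradedSMul 𝒜 𝒟M] (βM : DM →ₗ[k] M →ₗ[k] k) (hDM : GrSeg.IsGDual R ℳ 𝒟M βM) (DF : Type u) [AddCommGroup DF] [Module R DF] [Module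 k DF] [IsScalarTower k R DF] (𝒟F : ℤ → AddSubgroup DF) [DirectSum.Decomposition 𝒟F] [SetLike.GradedSMul 𝒜 𝒟F] (βF : DF →ₗ[k] F →ₗ[k] k) (hDF : GrSeg.IsGDual R ℱ 𝒟F βF) (g : DM →ₗ[R] DF) (hg : GrLC.IsGrHom 𝒟M 𝒟F g) : ∃! f : F →ₗ[R] M, GrLC.IsGrHom ℱ ℳ f ∧ GrSeg.IsGDualMap βM βF f g := by
  classical
  open Groth.Agent.GrDualLib in
  have hfin := fun n => finite_piece 𝒜 ℳ hposR h0R n
  have hflip := Groth.Agent.GrDualLib.isGDual_flip 𝒜 hDM hfin
  have hinj := Groth.Agent.GrDualLib.injective_of_isGDual 𝒜 hflip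
  let Θ : F →ₗ[k] DM →ₗ[k] k := (βF ∘ₗ g.restrictScalars k).flip
  have hΘ : ∀ y d, Θ y d = βF (g d) y := fun y d => rfl
  have hrep : ∀ (n : ℤ), ∀ y ∈ ℱ n, ∃ x ∈ ℳ n, βM.flip x = Θ y := by
    intro n y hy
    refine Groth.Agent.GrDualLib.exists_repr 𝒜 hflip n (Θ y) fun m hm d hd => ?_
    rw [hΘ]
    exact hDF.vanish m (g d) (hg m d hd) n (fun e => hm (by omega)) y hy
  have hrange : ∀ y, Θ y ∈ LinearMap.range βM.flip := by
    intro y
    induction y using DirectSum.Decomposition.inductionOn ℱ with
    | zero => simp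
    | @homogeneous j y => obtain ⟨x, -, hx⟩ := hrep j y y.2; exact ⟨x, hx⟩
    | add a b ha hb => rw [map_add]; exact add_mem ha hb
  choose f₀ hf₀ using hrange
  let f : F →ₗ[R] M :=
    { toFun := f₀
      map_add' := fun a b => hinj (by rw [map_add, hf₀, hf₀, hf₀, map_add])
      map_smul' := fun r a => hinj (LinearMap.ext fun d => by
        rw [hf₀, hΘ, RingHom.id_apply, LinearMap.flip_apply, ← hDM.map_smul r d (f₀ a),
          show βM (r • d) (f₀ a) = Θ a (r • d) from LinearMap.congr_fun (hf₀ a) (r • d), hΘ, map_smul g, hDF.map_smul]) }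
  refine ⟨f, ⟨?_, fun d y => ?_⟩, ?_⟩
  · intro n y hy
    obtain ⟨x, hx, hxe⟩ := hrep n y hy
    have : f y = x := hinj ((hf₀ y).trans hxe.symm)
    rw [this]; exact hx
  · exact (LinearMap.congr_fun (hf₀ y) d).symm
  · rintro f' ⟨-, hf'⟩
    refine LinearMap.ext fun y => hinj ((LinearMap.ext fun d => ?_).trans (hf₀ y).symm)
    exact (hf' d y).symm

end Groth.Agent.S19762
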