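-- statement GrSegre.GrothFrozen.S19764 (Groth/Statements/S19764.lean; the theorem GrSegre.cohenMacaulay_depth_segreProduct_polynomial_shifts_dim_one);
import Groth.Statements.S19764
import Groth.Agent.Depth.Basic
import Groth.Agent.GrassLib.CMQuot
import Groth.Agent.GrassLib.RegMod

set_option autoImplicit false
universe u
open scoped TensorProduct
attribute [local instance] MvPolynomial.weightedGradedAlgebra
open GrSegre

open scoped Pointwise TensorProduct

namespace Groth.Agent.S19764

set_option maxHeartbeats 2000000 in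
/-- Let R = k[X] and S = k[Y_1, …, Y_s] be polynomial rings over a field k with every variable of degree
1, s ≥ 2, T = R # S, and M = R(a), N = S(b) for integers a, b. Then (a) if a ≥ b, M # N is a
Cohen–Macaulay T-module; (b) if a < b, depth (M # N) = 1. (Part (a) of the published statement also
identifies M # N with S(b); that identification is not stated here.) Here the polynomial rings carry
the standard grading by k-subspaces of homogeneous polynomials (indexed by ℤ, all variables of
weight 1); the Segre product T = R # S = ⊕_n R_n ⊗_k S_n is presented abstractly as a graded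
k-algebra T with an injective k-algebra homomorphism ψ : T → R ⊗_k S carrying T_n onto the k-span of
the elementary tensors of bidegree (n, n), T_+ is the ideal spanned by the T_n with n > 0, and R(a)
# S(b) = ⊕_n R_{n+a} ⊗_k S_{n+b} is presented abstractly as a graded T-module P with an injective
k-linear map φ : P → R ⊗_k S carrying P_n onto the k-span of the tensors x ⊗ y with x ∈ R_{n+a}, y ∈
S_{n+b} and turning the action of t ∈ T into that of ψ(t); a module over a ring is called
Cohen–Macaulay when each of its localizations at a prime ideal is zero or a Cohen–Macaulay module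
over the local ring (dimension of the support equal to the depth), and the dimension of a module is
the Krull dimension of its support; the depth of P is its grade with respect to T_+ (the common
length of the maximal P-regular sequences in T_+). -/
theorem result (k : Type u) [Field k] (s : ℕ) (h2s : 2 ≤ s) (T : Type u) [CommRing T] [Algebra k T] (𝒯 : ℤ → Submodule k T) [GradedAlgebra 𝒯] (ψ : T →ₐ[k] TensorProduct k (MvPolynomial (Fin 1) k) (MvPolynomial (Fin s) k)) (hT : GrSeg.IsSegreRing (MvPolynomial.weightedHomogeneousSubmodule k (fun _ : Fin 1 => (1 : ℤ))) (MvPolynomial.weightedHomogeneousSubmodule k (fun _ : Fin s => (1 : ℤ))) 𝒯 ψ) (mT : HomogeneousIdeal 𝒯) (hmT : mT.toIdeal = Ideal.span (⋃ n ∈ Set.Ioi (0 : ℤ), (𝒯 n : Set T))) (a b : ℤ) (P : Type u) [AddCommGroup P] [Module T P] [Module k P] [IsScalarTower k T P] (𝒬 : ℤ → AddSubgroup P) [DirectSum.Decomposition 𝒬] (φ : P →ₗ[k] TensorProduct k (MvPolynomial (Fin 1) k) (MvPolynomial (Fin s) k)) (hP : GrSeg.IsSegreMod ψ (fun n : ℤ => (MvPolynomial.weightedHomogeneousSubmodule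 k (fun _ : Fin 1 => (1 : ℤ))) (n + a)) (fun n : ℤ => (MvPolynomial.weightedHomogeneousSubmodule k (fun _ : Fin s => (1 : ℤ))) (n + b)) 𝒬 φ) : (b ≤ a → (∀ (q : Ideal T) [q.IsPrime], Subsingleton (LocalizedModule q.primeCompl P) ∨ LocCoh.IsCohenMacaulayModule (Localization.AtPrime q) (LocalizedModule q.primeCompl P))) ∧ (a < b → LocCoh.idealDepth mT.toIdeal P = (1 : ℕ∞)) := by
  classical
  let w : Fin s → ℤ := fun _ => 1
  let w1 : Fin 1 → ℤ := fun _ => 1
  let S := MvPolynomial (Fin s) k
  have hwt : ∀ d : Fin s →₀ ℕ, Finsupp.weight w d = ∑ i, (d i : ℤ) := fun d => by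
    rw [Finsupp.weight_apply, Finsupp.sum_fintype _ _ (fun i => by simp)]; simp [w]
  have hwt0 : ∀ d : Fin s →₀ ℕ, 0 ≤ Finsupp.weight w d := fun d => by
    rw [hwt]; exact Finset.sum_nonneg fun i _ => Int.natCast_nonneg _
  have hwt1 : ∀ d : Fin 1 →₀ ℕ, Finsupp.weight w1 d = (d 0 : ℤ) := fun d => by
    rw [Finsupp.weight_apply, Finsupp.sum_fintype _ _ (fun i => by simp)]; simp [w1]
  let Φ : MvPolynomial (Fin 1) k ⊗[k] S →ₐ[k] S := Algebra.TensorProduct.lift
    ((Algebra.ofId k S).comp (MvPolynomial.aeval (fun _ => (1 : k)))) (AlgHom.id k S) (fun _ _ => Commute.all _ _)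
  let Xp : ℤ → MvPolynomial (Fin 1) k := fun m => MvPolynomial.monomial (Finsupp.single 0 m.toNat) 1
  have hline : ∀ (m : ℤ), ∀ x ∈ MvPolynomial.weightedHomogeneousSubmodule k w1 m, ∃ c : k, x = c • Xp m ∧ (x ≠ 0 → 0 ≤ m) := by
    intro m x hx
    rw [MvPolynomial.mem_weightedHomogeneousSubmodule] at hx
    refine ⟨MvPolynomial.coeff (Finsupp.single 0 m.toNat) x, ?_, fun hne => ?_⟩
    · ext d
      rw [MvPolynomial.coeff_smul, MvPolynomial.coeff_monomial, smul_eq_mul]
      split_ifs with h
      · rw [mul_one, h]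
      · rw [mul_zero]
        by_contra hd
        have := hx hd
        rw [hwt1] at this
        exact h (Finsupp.ext fun i => by rw [Subsingleton.elim i 0, Finsupp.single_eq_same]; omega)
    · obtain ⟨d, hd⟩ := MvPolynomial.ne_zero_iff.1 hne
      have := hx hd
      rw [hwt1] at this
      omega
  have hXp : ∀ m : ℤ, 0 ≤ m → Xp m ∈ MvPolynomial.weightedHomogeneousSubmodule k w1 m := by
    intro m hm
    rw [MvPolynomial.mem_weightedHomogeneousSubmodule]
    exact MvPolynomial.isWeightedHomogeneous_monomial _ _ _ (by rw [hwt1, Finsupp.single_eq_same]; omega)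
  have hΦX : ∀ (m : ℤ) (σ : S), Φ (Xp m ⊗ₜ σ) = σ := fun m σ => by
    simp [Φ, Xp, MvPolynomial.eval_monomial]
  have key : ∀ (n a' b' : ℤ) (z : MvPolynomial (Fin 1) k ⊗[k] S),
      z ∈ Submodule.span k {z | ∃ x ∈ MvPolynomial.weightedHomogeneousSubmodule k w1 (n + a'), ∃ y ∈ MvPolynomial.weightedHomogeneousSubmodule k w (n + b'), z = x ⊗ₜ[k] y} →
      Φ z ∈ MvPolynomial.weightedHomogeneousSubmodule k w (n + b') ∧ z = Xp (n + a') ⊗ₜ Φ z ∧ (n + a' < 0 → z = 0) := by
    intro n a' b' z hz
    induction hz using Submodule.span_induction with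
    | mem z hz =>
      obtain ⟨x, hx, y, hy, rfl⟩ := hz
      obtain ⟨c, rfl, hc⟩ := hline _ x hx
      have hv : Φ ((c • Xp (n + a')) ⊗ₜ y) = c • y := by rw [← TensorProduct.smul_tmul', map_smul, hΦX]
      refine ⟨hv ▸ Submodule.smul_mem _ c hy, by rw [hv, TensorProduct.smul_tmul], fun hneg => ?_⟩
      by_cases h0 : c • Xp (n + a') = 0
      · rw [h0, TensorProduct.zero_tmul]
      · exact absurd (hc h0) (not_le.2 hneg)
    | zero => exact ⟨by simp, by simp, fun _ => rfl⟩
    | add u v _ _ hu hv =>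
      refine ⟨by rw [map_add]; exact add_mem hu.1 hv.1, by rw [map_add, TensorProduct.tmul_add, ← hu.2.1, ← hv.2.1],
        fun h => by rw [hu.2.2 h, hv.2.2 h, add_zero]⟩
    | smul c u _ hu =>
      refine ⟨by rw [map_smul]; exact Submodule.smul_mem _ c hu.1, by rw [map_smul, TensorProduct.tmul_smul, ← hu.2.1],
        fun h => by rw [hu.2.2 h, smul_zero]⟩
  have hT' : ∀ (n : ℤ) (t : T), t ∈ 𝒯 n → ψ t ∈ Submodule.span k {z | ∃ x ∈ MvPolynomial.weightedHomogeneousSubmodule k w1 (n + 0), ∃ y ∈ MvPolynomial.weightedHomogeneousSubmodule k w (n + 0), z = x ⊗ₜ[k] y} := by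
    intro n t ht
    have h : ψ t ∈ (𝒯 n).map ψ.toLinearMap := ⟨t, ht, rfl⟩
    rw [hT.2 n] at h
    simpa [GrSeg.segrePiece] using h
  let θ : T →ₐ[k] S := Φ.comp ψ
  let Ψ : P →ₗ[k] S := Φ.toLinearMap ∘ₗ φ
  have hφmem : ∀ n, ∀ p ∈ 𝒬 n, φ p ∈ Submodule.span k {z | ∃ x ∈ MvPolynomial.weightedHomogeneousSubmodule k w1 (n + a), ∃ y ∈ MvPolynomial.weightedHomogeneousSubmodule k w (n + b), z = x ⊗ₜ[k] y} := by
    intro n p hp
    have h : φ p ∈ φ '' (𝒬 n : Set P) := ⟨p, hp, rfl⟩
    rw [hP.image_piece n] at h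
    exact h
  have hθinj : Function.Injective θ := by
    refine (injective_iff_map_eq_zero θ).2 fun t ht => ?_
    letI := (inferInstance : DirectSum.Decomposition 𝒯)
    rw [← DirectSum.sum_support_decompose 𝒯 t] at ht ⊢
    refine Finset.sum_eq_zero fun i hi => hT.1 ?_
    obtain ⟨-, he, -⟩ := key i 0 0 _ (hT' i _ (DirectSum.decompose 𝒯 t i).2)
    simp only [θ, AlgHom.comp_apply, map_sum] at ht
    have h := congrArg (MvPolynomial.weightedHomogeneousComponent w (i + 0)) ht
    rw [map_sum, map_zero, Finset.sum_eq_single i (fun j _ hj => ?_) (fun h' => absurd hi h'),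
      MvPolynomial.IsWeightedHomogeneous.weightedHomogeneousComponent_same
        (key i 0 0 _ (hT' i _ (DirectSum.decompose 𝒯 t i).2)).1] at h
    · rw [he, show Φ (ψ (DirectSum.decompose 𝒯 t i : T)) = 0 from h, TensorProduct.tmul_zero, map_zero]
    · exact MvPolynomial.IsWeightedHomogeneous.weightedHomogeneousComponent_ne _
        (key j 0 0 _ (hT' j _ (DirectSum.decompose 𝒯 t j).2)).1 (fun h => hj (by omega))
  have hθsurj : Function.Surjective θ := by
    intro f
    rw [← AlgHom.mem_range, MvPolynomial.as_sum f]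
    refine Subalgebra.sum_mem _ fun d _ => ?_
    have h : Xp (Finsupp.weight w d) ⊗ₜ[k] (MvPolynomial.monomial d (f.coeff d) : S) ∈ (𝒯 (Finsupp.weight w d)).map ψ.toLinearMap := by
      rw [hT.2]
      exact Submodule.subset_span ⟨_, hXp _ (hwt0 d), _, MvPolynomial.isWeightedHomogeneous_monomial _ _ _ rfl, rfl⟩
    obtain ⟨t, -, ht⟩ := h
    exact ⟨t, (congrArg Φ ht).trans (hΦX _ _)⟩
  have hact : ∀ z z' : MvPolynomial (Fin 1) k ⊗[k] S, GrSeg.act k (MvPolynomial (Fin 1) k) S (MvPolynomial (Fin 1) k) S z z' = z * z' := by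
    intro z z'
    induction z using TensorProduct.induction_on with
    | zero => simp
    | add u v hu hv => rw [map_add, LinearMap.add_apply, hu, hv, add_mul]
    | tmul x y =>
      induction z' using TensorProduct.induction_on with
      | zero => simp
      | add u v hu hv => rw [map_add, hu, hv, mul_add]
      | tmul x' y' => rw [GrSeg.act_tmul, Algebra.TensorProduct.tmul_mul_tmul, smul_eq_mul, smul_eq_mul]
  have hΨs : ∀ (t : T) (p : P), Ψ (t • p) = θ t * Ψ p := fun t p => by
    simp only [Ψ, θ, LinearMap.comp_apply, hP.map_smul, AlgHom.toLinearMap_apply, AlgHom.comp_apply]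
    exact (congrArg Φ (hact _ _)).trans (map_mul Φ _ _)
  have hΨinj : Function.Injective Ψ := by
    refine (injective_iff_map_eq_zero Ψ).2 fun p hp => ?_
    rw [← DirectSum.sum_support_decompose 𝒬 p] at hp ⊢
    refine Finset.sum_eq_zero fun i hi => hP.injective ?_
    obtain ⟨-, he, -⟩ := key i a b _ (hφmem i _ (DirectSum.decompose 𝒬 p i).2)
    simp only [Ψ, LinearMap.comp_apply, AlgHom.toLinearMap_apply, map_sum] at hp
    have h := congrArg (MvPolynomial.weightedHomogeneousComponent w (i + b)) hp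
    rw [map_sum, map_zero, Finset.sum_eq_single i (fun j _ hj => ?_) (fun h' => absurd hi h'),
      MvPolynomial.IsWeightedHomogeneous.weightedHomogeneousComponent_same
        (key i a b _ (hφmem i _ (DirectSum.decompose 𝒬 p i).2)).1] at h
    · rw [he, show Φ (φ (DirectSum.decompose 𝒬 p i : P)) = 0 from h, TensorProduct.tmul_zero, map_zero]
    · exact MvPolynomial.IsWeightedHomogeneous.weightedHomogeneousComponent_ne _
        (key j a b _ (hφmem j _ (DirectSum.decompose 𝒬 p j).2)).1 (fun h => hj (by omega))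
  let Θ : T ≃+* S := RingEquiv.ofBijective θ ⟨hθinj, hθsurj⟩
  have hlow : ∀ (p : P) (d : Fin s →₀ ℕ), Finsupp.weight w d < b - a → MvPolynomial.coeff d (Ψ p) = 0 := by
    intro p d hd
    rw [← DirectSum.sum_support_decompose 𝒬 p, map_sum, MvPolynomial.coeff_sum]
    refine Finset.sum_eq_zero fun i _ => ?_
    obtain ⟨h1, -, h3⟩ := key i a b _ (hφmem i _ (DirectSum.decompose 𝒬 p i).2)
    by_cases hi : i + a < 0
    · simp [Ψ, h3 hi]
    · exact h1.coeff_eq_zero d (by omega)
  have hhit : ∀ (d : Fin s →₀ ℕ) (c : k), b - a ≤ Finsupp.weight w d → ∃ p : P, Ψ p = MvPolynomial.monomial d c := by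
    intro d c hd
    have h : Xp (Finsupp.weight w d - b + a) ⊗ₜ[k] (MvPolynomial.monomial d c : S) ∈ φ '' (𝒬 (Finsupp.weight w d - b) : Set P) := by
      rw [hP.image_piece]
      refine Submodule.subset_span ⟨_, hXp _ (by omega), _, ?_, rfl⟩
      exact MvPolynomial.isWeightedHomogeneous_monomial _ _ _ (show Finsupp.weight w d = _ by omega)
    obtain ⟨p, -, hp⟩ := h
    exact ⟨p, by simp only [Ψ, LinearMap.comp_apply, hp]; exact hΦX _ _⟩
  let L : P →ₗ[T] T :=
    { toFun := fun p => Θ.symm (Ψ p)
      map_add' := fun p q => by rw [map_add, map_add]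
      map_smul' := fun t p => by
        rw [hΨs, map_mul, show θ t = Θ t from rfl, RingEquiv.symm_apply_apply]; rfl }
  have hLinj : Function.Injective L := fun p q h => hΨinj (Θ.symm.injective h)
  have hLΨ : ∀ p, Θ (L p) = Ψ p := fun p => Θ.apply_symm_apply _
  haveI : IsNoetherianRing T := isNoetherianRing_of_ringEquiv S Θ.symm
  haveI : Module.Finite T P := Module.Finite.of_injective L hLinj
  haveI : LocCoh.IsCohenMacaulayRing S := Groth.Agent.LocCohBasic.isCohenMacaulayRing_of_isRegularRing
  haveI : LocCoh.IsCohenMacaulayRing T := GrassLib.isCohenMacaulayRing_of_ringEquiv Θ.symm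
  refine ⟨fun hba q _ => Or.inr ?_, fun hab => ?_⟩
  · have hLsurj : Function.Surjective L := by
      intro t
      obtain ⟨p, hp⟩ : ∃ p, Ψ p = Θ t := by
        have h : Θ t ∈ LinearMap.range Ψ := by
          rw [MvPolynomial.as_sum (Θ t)]
          exact Submodule.sum_mem _ fun d _ => hhit d _ (by have := hwt0 d; omega)
        exact h
      exact ⟨p, Θ.injective (by rw [hLΨ, hp])⟩
    let e := IsLocalizedModule.mapEquiv q.primeCompl (LocalizedModule.mkLinearMap q.primeCompl P)
      (Algebra.linearMap T (Localization.AtPrime q)) (Localization.AtPrime q) (LinearEquiv.ofBijective L ⟨hLinj, hLsurj⟩)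
    unfold LocCoh.IsCohenMacaulayModule
    rw [Module.supportDim_eq_of_equiv e, Groth.Agent.Depth.depth_congr e]
    exact (LocCoh.IsCohenMacaulayRing.isCohenMacaulayLocalRing_localization q).supportDim_eq_depth
  · let y0 : Fin s := ⟨0, by omega⟩
    let y1 : Fin s := ⟨1, by omega⟩
    let j := (b - a).toNat
    obtain ⟨t0, ht0⟩ := hθsurj (MvPolynomial.X y0)
    have hm0 : ∀ t ∈ mT.toIdeal, MvPolynomial.coeff 0 (θ t) = 0 := by
      have hle : mT.toIdeal ≤ RingHom.ker ((MvPolynomial.constantCoeff).comp θ.toRingHom) := by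
        rw [hmT, Ideal.span_le]
        intro t ht
        simp only [Set.mem_iUnion] at ht
        obtain ⟨n, hn, ht⟩ := ht
        have h := (key n 0 0 _ (hT' n t ht)).1.coeff_eq_zero (0 : Fin s →₀ ℕ)
          (by rw [Set.mem_Ioi] at hn; rw [map_zero]; omega)
        exact h
      exact fun t ht => hle ht
    have ht0m : t0 ∈ mT.toIdeal := by
      have h : Xp 1 ⊗ₜ[k] (MvPolynomial.X y0 : S) ∈ (𝒯 1).map ψ.toLinearMap := by
        rw [hT.2]
        exact Submodule.subset_span ⟨_, hXp _ (by omega), _, MvPolynomial.isWeightedHomogeneous_X _ _ y0, rfl⟩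
      obtain ⟨u, hu, hue⟩ := h
      have : u = t0 := hθinj (by rw [ht0, AlgHom.comp_apply, show ψ u = _ from hue, hΦX])
      rw [hmT, ← this]
      exact Ideal.subset_span (Set.mem_biUnion (Set.mem_Ioi.2 one_pos) hu)
    let dj : Fin s →₀ ℕ := Finsupp.single y1 j
    have hdj : Finsupp.weight w dj = b - a := by
      rw [Finsupp.weight_apply, Finsupp.sum_single_index (by simp)]; simp [w, j]; omega
    obtain ⟨p0, hp0⟩ := hhit dj 1 hdj.ge
    have hne : ∀ p ∈ mT.toIdeal • (⊤ : Submodule T P), MvPolynomial.coeff dj (Ψ p) = 0 := by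
      intro p hp
      refine Submodule.smul_induction_on hp (fun t ht q _ => ?_) (fun u v hu hv => by rw [map_add, MvPolynomial.coeff_add, hu, hv, add_zero])
      rw [hΨs, MvPolynomial.coeff_mul]
      refine Finset.sum_eq_zero fun ⟨d1, d2⟩ hd => ?_
      replace hd : d1 + d2 = dj := Finset.HasAntidiagonal.mem_antidiagonal.1 hd
      by_cases h1 : d1 = 0
      · rw [h1, hm0 t ht, zero_mul]
      · rw [hlow q d2, mul_zero]
        have h2 : Finsupp.weight w dj = Finsupp.weight w d1 + Finsupp.weight w d2 := by rw [← map_add, hd]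
        have h3 : 0 < Finsupp.weight w d1 := by
          rw [hwt]
          obtain ⟨i, hi⟩ := Finsupp.ne_iff.1 h1
          exact Finset.sum_pos' (fun i _ => Int.natCast_nonneg _) ⟨i, Finset.mem_univ _, by exact_mod_cast Nat.pos_of_ne_zero hi⟩
        omega
    have htop : mT.toIdeal • (⊤ : Submodule T P) ≠ ⊤ := fun h => by
      have := hne p0 (by rw [h]; trivial)
      rw [hp0, MvPolynomial.coeff_monomial, if_pos rfl] at this
      exact one_ne_zero this
    have hreg : IsSMulRegular P t0 := fun p q hpq => hΨinj (mul_left_cancel₀ (MvPolynomial.X_ne_zero y0 : (MvPolynomial.X y0 : S) ≠ 0) (by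
      rw [← ht0, ← hΨs, ← hΨs]; exact congrArg Ψ hpq))
    rw [← Groth.Agent.Depth.idealDepth_quotSMulTop_add_one P ht0m hreg]
    let dm : Fin s →₀ ℕ := Finsupp.single y1 (j - 1)
    have hdm : Finsupp.weight w dm = b - a - 1 := by
      rw [Finsupp.weight_apply, Finsupp.sum_single_index (by simp)]; simp [w, j]; omega
    obtain ⟨u, hu⟩ := hhit (Finsupp.single y0 1 + dm) 1 (by rw [map_add, hdm, Finsupp.weight_apply, Finsupp.sum_single_index (by simp)]; simp [w])
    let π := Submodule.Quotient.mk (p := t0 • (⊤ : Submodule T P))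
    have hu0 : (π u : QuotSMulTop t0 P) ≠ 0 := fun h => by
      obtain ⟨p, -, hp⟩ := (Submodule.mem_smul_pointwise_iff_exists _ _ _).1 ((Submodule.Quotient.mk_eq_zero _).1 h)
      have h2 : Ψ p = MvPolynomial.monomial dm 1 := mul_left_cancel₀ (MvPolynomial.X_ne_zero y0 : (MvPolynomial.X y0 : S) ≠ 0) (by
        rw [← ht0, ← hΨs, hp, hu, ht0, MvPolynomial.X, MvPolynomial.monomial_mul, one_mul])
      have := hlow p dm (by omega)
      rw [h2, MvPolynomial.coeff_monomial, if_pos rfl] at this
      exact one_ne_zero this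
    have hkill : ∀ t ∈ mT.toIdeal, t • (π u : QuotSMulTop t0 P) = 0 := by
      intro t ht
      have h : θ t * MvPolynomial.monomial dm 1 ∈ LinearMap.range Ψ := by
        rw [MvPolynomial.as_sum (θ t * MvPolynomial.monomial dm 1)]
        refine Submodule.sum_mem _ fun d hd => ?_
        rw [MvPolynomial.mem_support_iff, MvPolynomial.coeff_mul_monomial', mul_one] at hd
        refine hhit d _ ?_
        by_cases hle : dm ≤ d
        · rw [if_pos hle] at hd
          have hne0 : d - dm ≠ 0 := fun h0 => hd (by rw [h0]; exact hm0 t ht)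
          have h2 : Finsupp.weight w d = Finsupp.weight w dm + Finsupp.weight w (d - dm) := by
            rw [← map_add, add_tsub_cancel_of_le hle]
          have h3 : 0 < Finsupp.weight w (d - dm) := by
            rw [hwt]
            obtain ⟨i, hi⟩ := Finsupp.ne_iff.1 hne0
            exact Finset.sum_pos' (fun i _ => Int.natCast_nonneg _) ⟨i, Finset.mem_univ _, by exact_mod_cast Nat.pos_of_ne_zero hi⟩
          omega
        · rw [if_neg hle] at hd; exact absurd rfl hd
      obtain ⟨p, hp⟩ := h
      rw [← Submodule.Quotient.mk_smul, Submodule.Quotient.mk_eq_zero]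
      refine (Submodule.mem_smul_pointwise_iff_exists _ _ _).2 ⟨p, trivial, hΨinj ?_⟩
      rw [hΨs, hΨs, hp, hu, ht0, MvPolynomial.X, mul_left_comm, MvPolynomial.monomial_mul, one_mul]
    have h1 : mT.toIdeal • (⊤ : Submodule T (QuotSMulTop t0 P)) ≠ ⊤ := fun h => htop (eq_top_iff.2 fun p _ => by
      have hp : (π p : QuotSMulTop t0 P) ∈ Submodule.map (t0 • (⊤ : Submodule T P)).mkQ (mT.toIdeal • (⊤ : Submodule T P)) := by
        rw [Submodule.map_smul'', Submodule.map_top, Submodule.range_mkQ]; rw [h]; trivial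
      obtain ⟨p', hp', hpe⟩ := hp
      have h2 := (Submodule.Quotient.eq _).1 hpe
      obtain ⟨r, -, hr⟩ := (Submodule.mem_smul_pointwise_iff_exists _ _ _).1 h2
      have h3 : p' - p ∈ mT.toIdeal • (⊤ : Submodule T P) := hr ▸ Submodule.smul_mem_smul ht0m trivial
      exact (Submodule.sub_mem_iff_right _ hp').1 h3)
    have h0 : LocCoh.idealDepth mT.toIdeal (QuotSMulTop t0 P) = 0 := by
      by_contra hne0
      obtain ⟨r, hr, hrr⟩ := (Groth.Agent.Depth.one_le_idealDepth_iff h1).1 (Order.one_le_iff_ne_zero.2 hne0)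
      exact hu0 (hrr ((hkill r hr).trans (smul_zero r).symm))
    rw [h0, zero_add]

end Groth.Agent.S19764
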