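import Groth.Statements.S19791
import Groth.Agent.HMNumLib.Translate

set_option autoImplicit false
universe u
open CategoryTheory MonoidalCategory CartesianMonoidalCategory MonObj AlgebraicGeometry Opposite
open GIT

namespace Groth.Agent.S19791

/-- Let k be an algebraically closed field, G a connected reductive algebraic group over k acting by σ
on a scheme X proper over k, L an ample G-linearised line bundle on X in total-space form, and ‖·‖ a
real-valued function on the one-parameter subgroups of G invariant under conjugation by k-points of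
G (‖γ·λ·γ⁻¹‖ = ‖λ‖; nothing else is assumed of ‖·‖). For a k-point x of X consider the set of real
numbers μ^L(x, λ)/‖λ‖, where λ runs over the non-trivial one-parameter subgroups of G and μ^L(x, λ)
= m means that the limit of λ(u)·x as u → 0 exists and 𝔾_m acts on the fibre of L over it with
exponent m; its infimum is the number M^L(x). Then for every k-point g of G the sets attached to g·x
and to x coincide, so that M^L(g·x) = M^L(x). (The published statement is for any reductive G, not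
necessarily connected, acting on a projective variety; this row takes G connected and X any scheme
proper over k.) -/
theorem result (k : Type u) [Field k] [IsAlgClosed k]
    (G X : Over (Spec (CommRingCat.of k))) [GrpObj G] (hG : Red.IsReductive G) [IsProper X.hom]
    (a : AlgGrp.Action G X) (B : GLinSh.LinBun G a) (hB : HMNum.AmpleCover B)
    (nrm : (Red.Gm (Spec (CommRingCat.of k)) ⟶ G) → ℝ)
    (hnrm : ∀ (l : Red.Gm (Spec (CommRingCat.of k)) ⟶ G) [IsMonHom l] (g : 𝟙_ (Over (Spec (CommRingCat.of k))) ⟶ G),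
      nrm ((toUnit _ ≫ g) * l * (toUnit _ ≫ g)⁻¹) = nrm l)
    (x : 𝟙_ (Over (Spec (CommRingCat.of k))) ⟶ X) (g : 𝟙_ (Over (Spec (CommRingCat.of k))) ⟶ G) (q : ℝ) :
    (∃ (l : Red.Gm (Spec (CommRingCat.of k)) ⟶ G) (_ : IsMonHom l) (m : ℤ),
        l ≠ 1 ∧ HMNum.IsMu B l (lift g x ≫ a.act) m ∧ q = (m : ℝ) / nrm l) ↔
      ∃ (l : Red.Gm (Spec (CommRingCat.of k)) ⟶ G) (_ : IsMonHom l) (m : ℤ),
        l ≠ 1 ∧ HMNum.IsMu B l x m ∧ q = (m : ℝ) / nrm l := by
  haveI : Subsingleton (Spec (CommRingCat.of k)) := inferInstanceAs (Subsingleton (PrimeSpectrum k))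
  have hconj : ∀ (g : 𝟙_ (Over (Spec (CommRingCat.of k))) ⟶ G) (l : Red.Gm (Spec (CommRingCat.of k)) ⟶ G) [IsMonHom l],
      IsMonHom ((toUnit _ ≫ g) * l * (toUnit _ ≫ g)⁻¹) := by
    intro g l _
    refine ⟨?_, ?_⟩
    · rw [MonObj.comp_mul, MonObj.comp_mul, GrpObj.comp_inv, IsMonHom.one_hom l, ← Category.assoc]
      simp [← Hom.one_def]
      rw [show (η[G] : 𝟙_ (Over (Spec (CommRingCat.of k))) ⟶ G) = 1 by rw [Hom.one_def]; simp]
      group
    · have hμ : ∀ (f : Red.Gm (Spec (CommRingCat.of k)) ⟶ G), (f ⊗ₘ f) ≫ μ[G] = (fst _ _ ≫ f) * (snd _ _ ≫ f) := by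
        intro f
        rw [Hom.mul_def]
        congr 1
      have hc : ∀ (W : Over (Spec (CommRingCat.of k))) (w : W ⟶ Red.Gm (Spec (CommRingCat.of k))),
          w ≫ toUnit _ ≫ g = toUnit W ≫ g := fun W w => by rw [← Category.assoc, toUnit_unique (w ≫ toUnit _) (toUnit W)]
      rw [hμ, MonObj.comp_mul, MonObj.comp_mul, GrpObj.comp_inv, IsMonHom.mul_hom l, hμ, MonObj.comp_mul,
        MonObj.comp_mul, MonObj.comp_mul, MonObj.comp_mul, GrpObj.comp_inv, GrpObj.comp_inv, hc, hc, hc]
      group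
  have hiff : ∀ (g : 𝟙_ (Over (Spec (CommRingCat.of k))) ⟶ G) (y : 𝟙_ (Over (Spec (CommRingCat.of k))) ⟶ X),
      (∃ (l : Red.Gm (Spec (CommRingCat.of k)) ⟶ G) (_ : IsMonHom l) (m : ℤ),
        l ≠ 1 ∧ HMNum.IsMu B l y m ∧ q = (m : ℝ) / nrm l) →
      ∃ (l : Red.Gm (Spec (CommRingCat.of k)) ⟶ G) (_ : IsMonHom l) (m : ℤ),
        l ≠ 1 ∧ HMNum.IsMu B l (lift g y ≫ a.act) m ∧ q = (m : ℝ) / nrm l := by
    rintro g y ⟨l, hl, m, h1, h2, h3⟩
    haveI := hconj g l
    refine ⟨(toUnit _ ≫ g) * l * (toUnit _ ≫ g)⁻¹, hconj g l, m, ?_, ?_, ?_⟩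
    · intro e
      apply h1
      rw [mul_inv_eq_one] at e
      simpa using e
    · exact (Groth.Agent.HMNumLib.isMu_act_iff a B g _ l (by group) y m).2 h2
    · rw [hnrm l g, h3]
  refine ⟨fun h => ?_, hiff g x⟩
  have := hiff g⁻¹ _ h
  rwa [← Groth.Agent.HMNumLib.lift_mul_act, inv_mul_cancel, Groth.Agent.HMNumLib.lift_one_act] at this

end Groth.Agent.S19791
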