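import Groth.Statements.S19799
import Groth.Agent.CAlgH.FinAlgClosed
import Mathlib.RingTheory.TensorProduct.Pi
import Mathlib.RingTheory.TensorProduct.Basic
import Mathlib.LinearAlgebra.TensorProduct.RightExactness

set_option autoImplicit false
universe u v w
open scoped TensorProduct
open CAlg

namespace Groth.Agent.S19799

/-- Let k be an algebraically closed field and A, B commutative k-algebras, each finite-dimensional as a
k-vector space. Then reduction commutes with tensor products: the kernel of the canonical surjection
A ⊗_k B ⟶ (A/nilradical A) ⊗_k (B/nilradical B) equals the nilradical of A ⊗_k B, so that this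
surjection induces an isomorphism (A ⊗_k B)_red ≅ A_red ⊗_k B_red and in particular A_red ⊗_k B_red
is reduced. -/
theorem result (k : Type u) [Field k]
    [IsAlgClosed k] (A : Type v) [CommRing A] [Algebra k A] [Module.Finite k A]
    (B : Type w) [CommRing B] [Algebra k B] [Module.Finite k B] :
    RingHom.ker (Algebra.TensorProduct.map (Ideal.Quotient.mkₐ k (nilradical A))
      (Ideal.Quotient.mkₐ k (nilradical B))).toRingHom = nilradical (A ⊗[k] B) := by
  open Groth.Agent.CAlgH in
  classical
  have := finite_maximalSpectrum k A
  have := finite_maximalSpectrum k B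
  refine le_antisymm ?_ fun x hx => ?_
  · have e := Algebra.TensorProduct.map_ker (Ideal.Quotient.mkₐ k (nilradical A)) (Ideal.Quotient.mkₐ k (nilradical B))
      Ideal.Quotient.mk_surjective Ideal.Quotient.mk_surjective
    refine le_of_eq_of_le e (sup_le (Ideal.map_le_iff_le_comap.mpr fun a ha => ?_) (Ideal.map_le_iff_le_comap.mpr fun b hb => ?_))
    · have : a ∈ nilradical A := by
        rw [RingHom.mem_ker] at ha; exact Ideal.Quotient.eq_zero_iff_mem.mp ha
      exact (mem_nilradical.mp this).map _
    · have : b ∈ nilradical B := by
        rw [RingHom.mem_ker] at hb; exact Ideal.Quotient.eq_zero_iff_mem.mp hb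
      exact (mem_nilradical.mp this).map _
  · have : Fintype (MaximalSpectrum B) := Fintype.ofFinite _
    let e : (A ⧸ nilradical A) ⊗[k] (B ⧸ nilradical B) ≃ₐ[k] (MaximalSpectrum B → (MaximalSpectrum A → k)) :=
      (Algebra.TensorProduct.congr (quotEquiv k A) (quotEquiv k B)).trans
        ((Algebra.TensorProduct.piRight k k (MaximalSpectrum A → k) (fun _ : MaximalSpectrum B => k)).trans
          (AlgEquiv.piCongrRight fun _ => Algebra.TensorProduct.rid k k _))
    have hred : IsReduced ((A ⧸ nilradical A) ⊗[k] (B ⧸ nilradical B)) := isReduced_of_injective e e.injective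
    rw [RingHom.mem_ker]
    exact ((mem_nilradical.mp hx).map _).eq_zero

end Groth.Agent.S19799
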