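import Groth.Statements.S19804
import Groth.Agent.CSA.Ideal

set_option autoImplicit false
open scoped TensorProduct
universe u v w
open Brauer

namespace Groth.Agent.S19804

theorem key {R : Type u} [CommRing R]
    [ConnectedSpace (PrimeSpectrum R)] {A : Type v} [Ring A] [Algebra R A] [IsAzumaya R A]
    (e : A) (he : IsIdempotentElem e) (R' : Type w) [CommRing R'] [Nontrivial R'] [Algebra R R']
    (h : (1 : R') ⊗ₜ[R] e = (0 : R' ⊗[R] A)) : e = 0 := by
  let L : A →ₗ[R] A := LinearMap.mulLeft R e
  let N := LinearMap.range L
  let p : A →ₗ[R] N := L.rangeRestrict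
  have hps : p.comp N.subtype = LinearMap.id := by
    refine LinearMap.ext fun x => Subtype.ext ?_
    obtain ⟨y, hy⟩ := x.2
    show e * x.1 = x.1
    rw [← hy]
    show e * (e * y) = e * y
    rw [← mul_assoc, he.eq]
  have hsurj : Function.Surjective p := fun x => ⟨x.1, LinearMap.congr_fun hps x⟩
  have : Module.Projective R N := Module.Projective.of_split N.subtype p hps
  have : Module.Finite R N := Module.Finite.of_surjective p hsurj
  have := Module.finitePresentation_of_projective R N
  have hz : ∀ z : R' ⊗[R] N, N.subtype.baseChange R' z = 0 := fun z => by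
    induction z using TensorProduct.induction_on with
    | zero => simp
    | add z z' hz hz' => rw [map_add, hz, hz', add_zero]
    | tmul r x =>
      have hx : e * (x : A) = x := congrArg Subtype.val (LinearMap.congr_fun hps x)
      rw [LinearMap.baseChange_tmul, Submodule.subtype_apply, ← hx,
        show r ⊗ₜ[R] (e * (x : A)) = ((1 : R') ⊗ₜ[R] e) * (r ⊗ₜ[R] (x : A)) by simp, h, zero_mul]
  have hsub : Subsingleton (R' ⊗[R] N) := ⟨fun a b => by
    have hinj : Function.Injective (N.subtype.baseChange R') :=
      Function.LeftInverse.injective (g := p.baseChange R') fun z => by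
        rw [← LinearMap.comp_apply, ← LinearMap.baseChange_comp, hps, LinearMap.baseChange_id]; rfl
    exact hinj (by rw [hz, hz])⟩
  obtain ⟨m, hm⟩ := Ideal.exists_maximal R'
  let q : PrimeSpectrum R' := ⟨m, hm.isPrime⟩
  have h0 : Module.rankAtStalk (R := R) N (q.comap (algebraMap R R')) = 0 := by
    rw [← Module.rankAtStalk_baseChange, Module.rankAtStalk_eq_zero_of_subsingleton]; rfl
  have hall : Module.rankAtStalk (R := R) N = 0 := funext fun p' => by
    rw [(Module.isLocallyConstant_rankAtStalk (R := R) (M := N)).apply_eq_of_preconnectedSpace p'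
      (q.comap (algebraMap R R')), h0]; rfl
  have : Subsingleton N := Module.rankAtStalk_eq_zero_iff_subsingleton.1 hall
  have : (⟨e, ⟨1, mul_one e⟩⟩ : N) = 0 := Subsingleton.elim _ _
  exact congrArg Subtype.val this

/-- Let R be a commutative ring with Spec R connected, A an Azumaya R-algebra and e an idempotent
element of A. If for some nonzero commutative R-algebra R' the element 1 ⊗ e of R' ⊗_R A is 0, then
e = 0; and if 1 ⊗ e = 1 in R' ⊗_R A, then e = 1. (The published statement is for an Azumaya algebra
over a connected scheme S and base change to an arbitrary nonempty S-scheme T; this row takes S and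
T affine.) -/
theorem result {R : Type u} [CommRing R]
    [ConnectedSpace (PrimeSpectrum R)] {A : Type v} [Ring A] [Algebra R A] [IsAzumaya R A]
    (e : A) (he : IsIdempotentElem e) (R' : Type w) [CommRing R'] [Nontrivial R'] [Algebra R R'] :
    ((1 : R') ⊗ₜ[R] e = (0 : R' ⊗[R] A) → e = 0) ∧ ((1 : R') ⊗ₜ[R] e = (1 : R' ⊗[R] A) → e = 1) := by
  exact ⟨fun h => key e he R' h, fun h => (sub_eq_zero.1 (key (1 - e) he.one_sub R'
    (show (1 : R') ⊗ₜ[R] (1 - e) = (0 : R' ⊗[R] A) by rw [TensorProduct.tmul_sub, h, ← Algebra.TensorProduct.one_def, sub_self]))).symm⟩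

end Groth.Agent.S19804
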