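import Groth.Statements.S1982
import Mathlib
import Groth.Agent.EtRamBC.Basic
import Groth.Agent.EtRamBC.ResField
import Groth.Agent.EtRamBC.Tame
import Groth.Agent.EtRamIdx.Basic
import Groth.Agent.RegLocus.GeomRedTrans
import Groth.Agent.GeomRed.Tensor

set_option autoImplicit false
universe u
open EtAlg

namespace Groth.Agent.S1982

open TensorProduct

open TensorProduct Polynomial in
/-- A field quotient of `(E ⊗ A)[X]/(X^n - w)` is geometrically reduced over `E`. -/
lemma isGeometricallyReduced_quotient (k E A Q : Type u) [Field k] [Field E] [Field A] [Field Q] [Algebra k E] [Algebra k A]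
    [Algebra E Q] [Module.Finite k E] [Algebra.IsGeometricallyReduced k A] (n : ℕ) (hn : (n : k) ≠ 0)
    (w : E ⊗[k] A) (hw : IsUnit w) (ψ : AdjoinRoot (X ^ n - C w : (E ⊗[k] A)[X]) →ₐ[E] Q) (hψ : Function.Surjective ψ) :
    Algebra.IsGeometricallyReduced E Q := by
  rw [Algebra.isGeometricallyReduced_field_iff]
  have hn0 : 0 < n := Nat.pos_of_ne_zero (fun h => hn (by rw [h, Nat.cast_zero]))
  let Ω := AlgebraicClosure E
  haveI : IsReduced (E ⊗[k] A) := Groth.Agent.RegLocus.isReduced_tensor_field k A E
  haveI : IsReduced (Ω ⊗[k] A) := Groth.Agent.RegLocus.isReduced_tensor_field k A Ω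
  haveI : IsReduced (Ω ⊗[E] (E ⊗[k] A)) := isReduced_of_injective (Algebra.TensorProduct.cancelBaseChange k E E Ω A).toAlgHom
    (Algebra.TensorProduct.cancelBaseChange k E E Ω A).injective
  have hnR : IsUnit (n : E ⊗[k] A) := by rw [← map_natCast (algebraMap k (E ⊗[k] A))]; exact (Ne.isUnit hn).map _
  let w' : Ω ⊗[E] (E ⊗[k] A) := Algebra.TensorProduct.includeRight (R := E) (A := Ω) w
  let S := AdjoinRoot (X ^ n - C w : (E ⊗[k] A)[X])
  haveI : IsReduced S := EtRamBC.isReduced_adjoinRoot hn0 hnR hw
  haveI : IsReduced (AdjoinRoot (X ^ n - C w' : (Ω ⊗[E] (E ⊗[k] A))[X])) :=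
    EtRamBC.isReduced_adjoinRoot hn0 (by
      rw [← map_natCast (Algebra.TensorProduct.includeRight : E ⊗[k] A →ₐ[E] Ω ⊗[E] (E ⊗[k] A))]; exact hnR.map _) (hw.map _)
  let eq := AdjoinRoot.tensorAlgEquiv (R := E) (T := Ω) (X ^ n - C w : (E ⊗[k] A)[X]) (X ^ n - C w') (by simp [w'])
  haveI : IsReduced (Ω ⊗[E] S) := isReduced_of_injective eq.toAlgHom eq.injective
  haveI : IsArtinianRing (E ⊗[k] A) := by
    haveI : IsArtinianRing (A ⊗[k] E) := IsArtinianRing.of_finite A (A ⊗[k] E)
    exact RingEquiv.isArtinianRing (Algebra.TensorProduct.comm k A E).toRingEquiv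
  haveI : Module.Finite (E ⊗[k] A) S := (monic_X_pow_sub_C w hn0.ne').finite_adjoinRoot
  haveI : IsArtinianRing S := IsArtinianRing.of_finite (E ⊗[k] A) S
  haveI : IsSemisimpleRing S := IsArtinianRing.isSemisimpleRing_of_isReduced _
  obtain ⟨e, he, hker⟩ := IsSemisimpleRing.ideal_eq_span_idempotent (RingHom.ker ψ)
  let Φ := Algebra.TensorProduct.map (AlgHom.id E Ω) ψ
  have hsurj : Function.Surjective Φ := LinearMap.lTensor_surjective Ω (g := ψ.toLinearMap) hψ
  have hkΦ : RingHom.ker Φ = Ideal.span {(1 : Ω) ⊗ₜ[E] e} := by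
    rw [Algebra.TensorProduct.lTensor_ker _ hψ, hker, Ideal.map_span, Set.image_singleton]
    rfl
  constructor
  rintro z ⟨m, hm⟩
  obtain ⟨x, rfl⟩ := hsurj z
  rcases m with _ | m
  · rw [pow_zero] at hm
    exact eq_zero_of_zero_eq_one hm.symm _
  rw [← map_pow, ← RingHom.mem_ker, hkΦ, Ideal.mem_span_singleton'] at hm
  obtain ⟨r, hr⟩ := hm
  have hidem : IsIdempotentElem ((1 : Ω) ⊗ₜ[E] e) := by
    show _ * _ = _
    rw [Algebra.TensorProduct.tmul_mul_tmul, one_mul, he]
  have h0 : ((1 - (1 : Ω) ⊗ₜ[E] e) * x) ^ (m + 1) = 0 := by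
    rw [mul_pow, hidem.one_sub.pow_succ_eq, ← hr, ← mul_assoc, mul_comm _ r, mul_assoc, sub_mul, one_mul, hidem.eq, sub_self, mul_zero]
  have h1 : (1 - (1 : Ω) ⊗ₜ[E] e) * x = 0 := IsNilpotent.eq_zero ⟨_, h0⟩
  rw [← RingHom.mem_ker, hkΦ, Ideal.mem_span_singleton']
  exact ⟨x, by linear_combination -h1⟩

lemma exists_geomReduced (A B : Type u) [CommRing A] [IsDomain A] [IsDiscreteValuationRing A]
    [CommRing B] [IsDomain B] [IsDiscreteValuationRing B] [Algebra A B] [IsLocalHom (algebraMap A B)]
    (htame : CharZero (IsLocalRing.ResidueField A) ∨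
      ∃ p : ℕ, p.Prime ∧ CharP (IsLocalRing.ResidueField A) p ∧
        ¬ p ∣ Ideal.ramificationIdx' (IsLocalRing.maximalIdeal A) (IsLocalRing.maximalIdeal B) ∧
        Algebra.IsGeometricallyReduced (IsLocalRing.ResidueField A) (IsLocalRing.ResidueField B)) :
    Algebra.IsGeometricallyReduced (IsLocalRing.ResidueField A) (IsLocalRing.ResidueField B) := by
  rcases htame with h | ⟨p, -, -, -, h⟩
  · haveI : PerfectField (IsLocalRing.ResidueField A) := PerfectField.ofCharZero
    rw [Algebra.isGeometricallyReduced_field_iff]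
    exact Groth.Agent.GeomRed.isReduced_tensorProduct_of_perfectField _ _ _
  · exact h


/-- Suppose A -> B makes the discrete valuation ring B an extension of the discrete valuation ring A,
write K ⊂ L for their fraction fields and e for the ramification index; assume the residue
characteristic of A is zero, or it is p with p not dividing e and the residue field extension of A
-> B separable (in the general sense, i.e. geometrically reduced; it need not be algebraic). Let
K₁/K be a finite extension. Then for every compositum M of L and K₁ and every valuation subring W of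
M dominating B such that e divides the ramification index of A -> W ∩ K₁, the extension W ∩ K₁ -> W
is weakly unramified with separable (geometrically reduced) residue field extension. -/
theorem result (A B K L : Type u) [CommRing A] [IsDomain A] [IsDiscreteValuationRing A]
    [CommRing B] [IsDomain B] [IsDiscreteValuationRing B] [Algebra A B] [IsLocalHom (algebraMap A B)]
    (hinj : Function.Injective (algebraMap A B))
    [Field K] [Field L] [Algebra A K] [IsFractionRing A K] [Algebra B L] [IsFractionRing B L]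
    [Algebra K L] [Algebra A L] [IsScalarTower A K L] [IsScalarTower A B L]
    (htame : CharZero (IsLocalRing.ResidueField A) ∨
      ∃ p : ℕ, p.Prime ∧ CharP (IsLocalRing.ResidueField A) p ∧
        ¬ p ∣ Ideal.ramificationIdx' (IsLocalRing.maximalIdeal A) (IsLocalRing.maximalIdeal B) ∧
        Algebra.IsGeometricallyReduced (IsLocalRing.ResidueField A) (IsLocalRing.ResidueField B))
    (K₁ : Type u) [Field K₁] [Algebra K K₁] [FiniteDimensional K K₁] :
    EtRam.ForallLocalExt B K L K₁ (fun M _ W f =>
      ∀ hA : ∀ a : A, (algebraMap K K₁) (algebraMap A K a) ∈ W.comap f,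
        letI : Algebra A (W.comap f) := (RingHom.codRestrict ((algebraMap K K₁).comp (algebraMap A K)) (W.comap f) hA).toAlgebra
        letI : Algebra (W.comap f) W := (EtRam.inclOfComap W f).toAlgebra
        Ideal.ramificationIdx' (IsLocalRing.maximalIdeal A) (IsLocalRing.maximalIdeal B) ∣
          Ideal.ramificationIdx' (IsLocalRing.maximalIdeal A) (IsLocalRing.maximalIdeal (W.comap f)) →
        EtRam.IsWeaklyUnramified (W.comap f) W ∧
          @Algebra.IsGeometricallyReduced (IsLocalRing.ResidueField (W.comap f)) (IsLocalRing.ResidueField W) _ _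
            (IsLocalRing.ResidueField.map (EtRam.inclOfComap W f)).toAlgebra) := by
  classical
  have hgr := exists_geomReduced A B htame
  intro M _ _ _ _ _ _ hgen W hW hA
  let gB : B →+* M := (algebraMap L M).comp (algebraMap B L)
  letI : Algebra B W := (RingHom.codRestrict gB W hW.1).toAlgebra
  haveI : IsLocalHom (algebraMap B W) := ⟨fun b hb => by
    by_contra hnu
    exact ((W.valuation_lt_one_iff _).mpr (hW.2 b hnu)) hb⟩
  set U := W.comap (algebraMap K₁ M) with hUdef
  letI : Algebra A K₁ := ((algebraMap K K₁).comp (algebraMap A K)).toAlgebra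
  haveI : IsScalarTower A K K₁ := IsScalarTower.of_algebraMap_eq fun _ => rfl
  have hagree : ∀ a : A, algebraMap K₁ M (algebraMap A K₁ a) = gB (algebraMap A B a) := by
    intro a
    show algebraMap K₁ M (algebraMap K K₁ (algebraMap A K a)) = algebraMap L M (algebraMap B L (algebraMap A B a))
    rw [← IsScalarTower.algebraMap_apply K K₁ M, IsScalarTower.algebraMap_apply K L M, ← IsScalarTower.algebraMap_apply A B L,
      ← IsScalarTower.algebraMap_apply A K L]
  have hgA : ∀ a, algebraMap A K₁ a ∈ U := fun a => by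
    show algebraMap K₁ M (algebraMap A K₁ a) ∈ W
    rw [hagree]; exact hW.1 _
  letI : Algebra A U := (RingHom.codRestrict (algebraMap A K₁) U hgA).toAlgebra
  letI : Algebra U W := (EtRam.inclOfComap W (algebraMap K₁ M)).toAlgebra
  letI : Algebra A W := ((algebraMap U W).comp (algebraMap A U)).toAlgebra
  haveI : IsScalarTower A U W := IsScalarTower.of_algebraMap_eq fun _ => rfl
  haveI : IsScalarTower A B W := IsScalarTower.of_algebraMap_eq fun a => Subtype.ext (hagree a)
  haveI hlAW : IsLocalHom (algebraMap A W) := by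
    rw [IsScalarTower.algebraMap_eq A B W]; exact RingHom.isLocalHom_comp _ _
  haveI hlAU : IsLocalHom (algebraMap A U) := ⟨fun a ha => (isUnit_map_iff (algebraMap A W) a).mp (ha.map (algebraMap U W))⟩
  haveI hlUW : IsLocalHom (algebraMap U W) := inferInstanceAs (IsLocalHom (EtRam.inclOfComap W (algebraMap K₁ M)))
  haveI := EtRamBC.finite_residueField A K U (fun _ => rfl)
  haveI := EtRamBC.isDiscreteValuationRing A K U (fun _ => rfl)
  haveI hgrB : Algebra.IsGeometricallyReduced (IsLocalRing.ResidueField A) (IsLocalRing.ResidueField B) := hgr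
  haveI : IsReduced (IsLocalRing.ResidueField U ⊗[IsLocalRing.ResidueField A] IsLocalRing.ResidueField B) :=
    Groth.Agent.RegLocus.isReduced_tensor_field _ _ _
  obtain ⟨π, hπ'⟩ := IsDiscreteValuationRing.exists_irreducible A
  have hπ := (IsDiscreteValuationRing.irreducible_iff_uniformizer π).mp hπ'
  obtain ⟨y, hy⟩ := IsDiscreteValuationRing.exists_irreducible U
  have hmU := (IsDiscreteValuationRing.irreducible_iff_uniformizer y).mp hy
  obtain ⟨x, hx⟩ := IsDiscreteValuationRing.exists_irreducible B
  have hmB := (IsDiscreteValuationRing.irreducible_iff_uniformizer x).mp hx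
  have hπU0 : algebraMap A U π ≠ 0 := fun h => hπ'.ne_zero (IsFractionRing.injective A K ((algebraMap K K₁).injective (by
    rw [map_zero, map_zero]; exact congrArg Subtype.val h)))
  have hπUm : algebraMap A U π ∈ IsLocalRing.maximalIdeal U := by
    rw [IsLocalRing.mem_maximalIdeal, mem_nonunits_iff, isUnit_map_iff]; exact hπ'.not_isUnit
  obtain ⟨e, u, hu⟩ := IsDiscreteValuationRing.eq_unit_mul_pow_irreducible hπU0 hy
  have hgenHom : EtRamBC.genHom A B U W (y ⊗ₜ (1 : B)) = algebraMap U W y := by simp [EtRamBC.genHom]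
  have hinjBM : Function.Injective gB := (algebraMap L M).injective.comp (IsFractionRing.injective B L)
  have hinjBW : Function.Injective (algebraMap B W) := fun a b hab => hinjBM (congrArg Subtype.val hab)
  have hdiv : ∀ x : M, ∃ s t, ((EtRamBC.genHom A B U W t : W) : M) ≠ 0 ∧
      x * (EtRamBC.genHom A B U W t : W) = (EtRamBC.genHom A B U W s : W) := by
    intro x
    have hx : x ∈ Algebra.adjoin L (Set.range (algebraMap K₁ M)) := hgen ▸ Algebra.mem_top
    induction hx using Algebra.adjoin_induction with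
    | mem x hx =>
      obtain ⟨k, rfl⟩ := hx
      obtain ⟨p, q, hq, rfl⟩ := IsFractionRing.div_surjective (A := U) k
      have h1 : ∀ p : U, ((EtRamBC.genHom A B U W (p ⊗ₜ (1 : B)) : W) : M) = algebraMap K₁ M p := fun p => by
        simp [EtRamBC.genHom]; rfl
      refine ⟨p ⊗ₜ 1, q ⊗ₜ 1, ?_, ?_⟩
      · rw [h1]; exact (map_ne_zero _).mpr (IsFractionRing.to_map_ne_zero_of_mem_nonZeroDivisors hq)
      · rw [h1, h1, map_div₀]
        exact div_mul_cancel₀ _ ((map_ne_zero _).mpr (IsFractionRing.to_map_ne_zero_of_mem_nonZeroDivisors hq))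
    | algebraMap l =>
      obtain ⟨b, c, hc, rfl⟩ := IsFractionRing.div_surjective (A := B) l
      have h1 : ∀ b : B, ((EtRamBC.genHom A B U W ((1 : U) ⊗ₜ b) : W) : M) = gB b := fun b => by
        simp [EtRamBC.genHom]; rfl
      refine ⟨1 ⊗ₜ b, 1 ⊗ₜ c, ?_, ?_⟩
      · rw [h1]; exact (map_ne_zero_iff _ hinjBM).mpr (nonZeroDivisors.ne_zero hc)
      · rw [h1, h1, map_div₀]
        exact div_mul_cancel₀ _ ((map_ne_zero_iff _ hinjBM).mpr (nonZeroDivisors.ne_zero hc))
    | add x z _ _ hx hz =>
      obtain ⟨s, t, ht, hst⟩ := hx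
      obtain ⟨s', t', ht', hst'⟩ := hz
      refine ⟨s * t' + s' * t, t * t', ?_, ?_⟩
      · rw [map_mul]; push_cast; exact mul_ne_zero ht ht'
      · rw [map_add (EtRamBC.genHom A B U W), map_mul, map_mul, map_mul]
        push_cast
        rw [← hst, ← hst']
        ring
    | mul x z _ _ hx hz =>
      obtain ⟨s, t, ht, hst⟩ := hx
      obtain ⟨s', t', ht', hst'⟩ := hz
      refine ⟨s * s', t * t', ?_, ?_⟩
      · rw [map_mul]; push_cast; exact mul_ne_zero ht ht'
      · rw [map_mul, map_mul]
        push_cast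
        rw [← hst, ← hst']
        ring
  letI : Algebra B M := gB.toAlgebra
  haveI : IsScalarTower B L M := IsScalarTower.of_algebraMap_eq fun _ => rfl
  have halgL : Algebra.IsAlgebraic L M := by
    haveI : Algebra.IsIntegral L M := ⟨fun x => by
      have hx : x ∈ Algebra.adjoin L (Set.range (algebraMap K₁ M)) := hgen ▸ Algebra.mem_top
      refine (Algebra.adjoin_le (S := integralClosure L M) ?_ : _ ≤ integralClosure L M) hx
      rintro _ ⟨k, rfl⟩
      exact ((Algebra.IsIntegral.isIntegral (R := K) k).map (IsScalarTower.toAlgHom K K₁ M)).tower_top⟩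
    infer_instance
  have halgB : Algebra.IsAlgebraic B M := (IsFractionRing.comap_isAlgebraic_iff (A := B) (K := L) (C := M)).mpr halgL
  obtain ⟨eB, v, hv⟩ := IsDiscreteValuationRing.eq_unit_mul_pow_irreducible ((map_ne_zero_iff _ hinj).mpr hπ'.ne_zero) hx
  have heB : Ideal.ramificationIdx' (IsLocalRing.maximalIdeal A) (IsLocalRing.maximalIdeal B) = eB :=
    EtRamIdx.eq_of_associated hπ hmB hx.ne_zero (hv ▸ associated_unit_mul_left _ _ v.isUnit)
  have heU : Ideal.ramificationIdx' (IsLocalRing.maximalIdeal A) (IsLocalRing.maximalIdeal U) = e :=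
    EtRamIdx.eq_of_associated hπ hmU hy.ne_zero (hu ▸ associated_unit_mul_left _ _ u.isUnit)
  have hπB : algebraMap A B π ∈ IsLocalRing.maximalIdeal B := by
    rw [IsLocalRing.mem_maximalIdeal, mem_nonunits_iff, isUnit_map_iff]; exact hπ'.not_isUnit
  have heB0 : eB ≠ 0 := fun h => hπB (by rw [hv, h, pow_zero, mul_one]; exact v.isUnit)
  have he0 : e ≠ 0 := fun h => hπUm (by rw [hu, h, pow_zero, mul_one]; exact u.isUnit)
  intro hdvd
  have hdvd' : eB ∣ e := by
    have h1 := hdvd
    rw [heB] at h1
    refine h1.trans (dvd_of_eq ?_)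
    exact heU
  obtain ⟨d, hd⟩ := hdvd'
  have hek : (eB : IsLocalRing.ResidueField A) ≠ 0 := by
    rcases htame with h | ⟨p, -, hc, hp, -⟩
    · exact_mod_cast heB0
    · rw [heB] at hp
      rw [Ne, CharP.cast_eq_zero_iff (IsLocalRing.ResidueField A) p]; exact hp
  obtain ⟨z, η, wR, hwR, hmax, -, hyz, h, hsurj⟩ := EtRamBC.tame A B U W π y x hmU hmB hx eB d 1
    (fun h => he0 (by rw [hd, h, mul_zero])) one_ne_zero (Nat.coprime_one_right d) hek u v
    (by rw [hu, hd]) (by rw [hv, mul_one])
    (fun a b hab => Subtype.ext ((algebraMap K₁ M).injective (congrArg Subtype.val hab))) hy.ne_zero hinjBW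
    (fun w => by
      let ι : W →ₐ[B] M := { W.subtype with commutes' := fun _ => rfl }
      exact (isAlgebraic_algHom_iff ι Subtype.val_injective).mp (halgB.isAlgebraic _))
    (fun w => by
      obtain ⟨s, t, ht, hst⟩ := hdiv (w : M)
      exact ⟨s, t, fun h0 => ht (by rw [h0]; rfl), Subtype.ext hst⟩)
  refine ⟨?_, ?_⟩
  · show (IsLocalRing.maximalIdeal U).map (algebraMap U W) = IsLocalRing.maximalIdeal W
    rw [hmax, hmU, Ideal.map_span, Set.image_singleton, Ideal.span_singleton_eq_span_singleton]
    rw [pow_one] at hyz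
    exact hyz
  · let ψ : AdjoinRoot (Polynomial.X ^ eB - Polynomial.C wR) →ₐ[IsLocalRing.ResidueField U] IsLocalRing.ResidueField W :=
      { AdjoinRoot.lift (EtRamBC.resHom A B U W).toRingHom (IsLocalRing.residue W η) h with
        commutes' := fun r => (AdjoinRoot.lift_of h).trans ((EtRamBC.resHom A B U W).commutes r) }
    have hg := isGeometricallyReduced_quotient (IsLocalRing.ResidueField A) (IsLocalRing.ResidueField U)
      (IsLocalRing.ResidueField B) (IsLocalRing.ResidueField W) eB hek wR hwR ψ hsurj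
    have e' : (IsLocalRing.ResidueField.map (EtRam.inclOfComap W (algebraMap K₁ M))).toAlgebra =
        (inferInstance : Algebra (IsLocalRing.ResidueField U) (IsLocalRing.ResidueField W)) := Algebra.algebra_ext _ _ fun r => by
      induction r using Quotient.inductionOn' with
      | h a => rfl
    exact e'.symm ▸ hg

end Groth.Agent.S1982
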