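import Groth.Statements.S1984
import Mathlib
import Groth.Agent.EtRamEis.Basic

set_option autoImplicit false
universe u
open EtAlg

namespace Groth.Agent.S1984

open Polynomial IsLocalRing in
/-- A totally ramified finite separable extension is generated by a root of an Eisenstein polynomial. -/
lemma exists_eisenstein {A K K₁ : Type u} [CommRing A] [IsDomain A] [IsDiscreteValuationRing A] [Field K] [Algebra A K]
    [IsFractionRing A K] [Field K₁] [Algebra K K₁] [FiniteDimensional K K₁] [Algebra.IsSeparable K K₁]
    (ht : EtRam.IsTotallyRamified A ((algebraMap K K₁).comp (algebraMap A K))) :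
    ∃ (f : A[X]) (x : K₁), f.Monic ∧ f.IsEisensteinAt (maximalIdeal A) ∧ 0 < f.natDegree ∧
      f.eval₂ ((algebraMap K K₁).comp (algebraMap A K)) x = 0 ∧ IntermediateField.adjoin K {x} = ⊤ := by
  classical
  letI : Algebra A K₁ := ((algebraMap K K₁).comp (algebraMap A K)).toAlgebra
  haveI : IsScalarTower A K K₁ := IsScalarTower.of_algebraMap_eq fun _ => rfl
  obtain ⟨⟨V, hV⟩, huniq, hres⟩ := ht
  have hinj : Function.Injective (algebraMap A K₁) := (algebraMap K K₁).injective.comp (IsFractionRing.injective A K)
  obtain ⟨π, hπ'⟩ := IsDiscreteValuationRing.exists_irreducible A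
  have hπ := (IsDiscreteValuationRing.irreducible_iff_uniformizer π).mp hπ'
  have hπm : π ∈ maximalIdeal A := by rw [hπ]; exact Ideal.mem_span_singleton_self π
  have hsub : ∀ z : K₁, z ∈ V → IsIntegral A z := by
    intro z hz
    have hmem : z ∈ (⨅ W : {W : ValuationSubring K₁ // Set.range (algebraMap A K₁) ⊆ W.toSubring}, W.1.toSubring) := by
      rw [Subring.mem_iInf]
      rintro ⟨W, hW⟩
      by_cases hd : EtRam.Dominates A (algebraMap A K₁) W
      · show z ∈ W
        exact huniq V W hV hd ▸ hz
      · have : ∀ k : K, algebraMap K K₁ k ∈ W := by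
          have h1 : ∃ a ∈ maximalIdeal A, ¬ W.valuation (algebraMap A K₁ a) < 1 := by
            by_contra hc
            push Not at hc
            exact hd ⟨fun a => hW ⟨a, rfl⟩, hc⟩
          obtain ⟨a, ha, hva⟩ := h1
          intro k
          have hπW : (algebraMap A K₁ π)⁻¹ ∈ W := by
            obtain ⟨c, rfl⟩ := Ideal.mem_span_singleton.mp (hπ ▸ ha)
            rw [map_mul] at hva
            rw [← ValuationSubring.valuation_le_one_iff, map_inv₀]
            refine inv_le_one_of_one_le₀ ?_
            by_contra hlt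
            rw [not_le] at hlt
            rw [map_mul] at hva
            exact hva ((mul_le_of_le_one_right zero_le ((W.valuation_le_one_iff _).mpr (hW ⟨c, rfl⟩))).trans_lt hlt)
          obtain ⟨a, b, hb, rfl⟩ := IsFractionRing.div_surjective (A := A) k
          obtain ⟨m, u, rfl⟩ := IsDiscreteValuationRing.eq_unit_mul_pow_irreducible (nonZeroDivisors.ne_zero hb) hπ'
          rw [map_div₀, ← IsScalarTower.algebraMap_apply, ← IsScalarTower.algebraMap_apply, map_mul, map_pow, div_eq_mul_inv,
            mul_inv, ← inv_pow, ← map_units_inv]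
          exact mul_mem (hW ⟨a, rfl⟩) (mul_mem (hW ⟨_, rfl⟩) (pow_mem hπW m))
        obtain ⟨P, hP, hP0⟩ := Algebra.IsIntegral.isIntegral (R := K) z
        let WK : K →+* W := (algebraMap K K₁).codRestrict W this
        obtain ⟨w, hw⟩ := (IsIntegrallyClosed.isIntegral_iff (R := W) (x := z)).mp ⟨P.map WK, hP.map _, by
          rw [eval₂_map]; exact hP0⟩
        rw [← hw]; exact w.2
    rw [iInf_valuationSubring_superset] at hmem
    obtain ⟨P, hP, hP0⟩ := hmem
    let e : A →+* Subring.closure (Set.range (algebraMap A K₁)) :=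
      (algebraMap A K₁).codRestrict _ fun a => Subring.subset_closure ⟨a, rfl⟩
    have he : Function.Surjective e := by
      rintro ⟨y, hy⟩
      rw [← RingHom.coe_range, Subring.closure_eq] at hy
      obtain ⟨a, rfl⟩ := hy
      exact ⟨a, rfl⟩
    obtain ⟨Q, hQ, -, hQm⟩ := Polynomial.lifts_and_degree_eq_and_monic (f := e) ((Polynomial.mem_lifts _).mpr (Polynomial.map_surjective e he P)) hP
    refine ⟨Q, hQm, ?_⟩
    have := hP0
    rw [← hQ, eval₂_map] at this
    exact this
  letI : Algebra A V := (RingHom.codRestrict (algebraMap A K₁) V hV.1).toAlgebra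
  haveI : Module.Finite A V := by
    haveI : Module.Finite A (integralClosure A K₁) := IsIntegralClosure.finite A K K₁ (integralClosure A K₁)
    let j : V →ₐ[A] integralClosure A K₁ :=
      { toFun := fun v => ⟨v, hsub v v.2⟩, map_one' := rfl, map_mul' := fun _ _ => rfl, map_zero' := rfl,
        map_add' := fun _ _ => rfl, commutes' := fun _ => rfl }
    exact Module.Finite.of_injective j.toLinearMap fun v w h => Subtype.ext (congrArg (fun t : integralClosure A K₁ => (t : K₁)) h)
  haveI : IsNoetherianRing V := IsNoetherianRing.of_finite A V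
  have hπV : algebraMap A V π ∈ maximalIdeal V := (V.valuation_lt_one_iff _).mpr (hV.2 π hπm)
  have hπV0 : algebraMap A V π ≠ 0 := fun h => hπ'.ne_zero (hinj (by rw [map_zero]; exact congrArg Subtype.val h))
  have hnf : ¬ IsField V := fun h => hπV0 (by
    rw [IsLocalRing.isField_iff_maximalIdeal_eq] at h; rw [h] at hπV; exact hπV)
  haveI : IsDiscreteValuationRing V :=
    ((IsDiscreteValuationRing.TFAE V hnf).out 1 0 rfl rfl).mp inferInstance
  obtain ⟨x, hx⟩ := IsDiscreteValuationRing.exists_irreducible V
  have hmx := (IsDiscreteValuationRing.irreducible_iff_uniformizer x).mp hx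
  obtain ⟨e, u, hu⟩ := IsDiscreteValuationRing.eq_unit_mul_pow_irreducible hπV0 hx
  have he : e ≠ 0 := fun h => hπV (by rw [hu, h, pow_zero, mul_one]; exact u.isUnit)
  have hsplit : ∀ v : V, ∃ a : A, ∃ w : V, v = algebraMap A V a + x * w := by
    intro v
    obtain ⟨a, ha⟩ := hres V hV (residue V v)
    obtain ⟨w, hw⟩ := Ideal.mem_span_singleton.mp (hmx ▸ Ideal.Quotient.eq.mp ha.symm)
    exact ⟨a, w, eq_add_of_sub_eq' hw⟩
  have htr : ∀ (j : ℕ) (v : V), ∃ c : ℕ → A, ∃ w : V, v = (∑ i ∈ Finset.range j, algebraMap A V (c i) * x ^ i) + x ^ j * w := by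
    intro j
    induction j with
    | zero => exact fun v => ⟨0, v, by simp⟩
    | succ j ih =>
      intro v
      obtain ⟨c, w, rfl⟩ := ih v
      obtain ⟨a, w', rfl⟩ := hsplit w
      refine ⟨Function.update c j a, w', ?_⟩
      rw [Finset.sum_range_succ, Function.update_self,
        Finset.sum_congr rfl (fun i hi => by rw [Function.update_of_ne (Finset.mem_range.mp hi).ne] :
          ∀ i ∈ Finset.range j, algebraMap A V (Function.update c j a i) * x ^ i = algebraMap A V (c i) * x ^ i)]
      ring
  let N : Submodule A V := Submodule.span A (Set.range fun i : Fin e => x ^ (i : ℕ))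
  have hN : N = ⊤ := by
    refine top_le_iff.mp (Submodule.le_of_le_smul_of_le_jacobson_bot Module.Finite.fg_top (IsLocalRing.maximalIdeal_le_jacobson ⊥) ?_)
    intro v _
    obtain ⟨c, w, rfl⟩ := htr e v
    refine Submodule.add_mem_sup (Submodule.sum_mem _ fun i hi => ?_) ?_
    · rw [← Algebra.smul_def]
      exact Submodule.smul_mem _ _ (Submodule.subset_span ⟨⟨i, Finset.mem_range.mp hi⟩, rfl⟩)
    · have : x ^ e * w = π • (((↑u⁻¹ : V)) * w) := by
        rw [Algebra.smul_def, hu, mul_mul_mul_comm, u.mul_inv, one_mul]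
      rw [this]
      exact Submodule.smul_mem_smul hπm trivial
  obtain ⟨c, hc⟩ := (Submodule.mem_span_range_iff_exists_fun A).mp (show (↑u⁻¹ : V) ∈ N by rw [hN]; trivial)
  let f : A[X] := X ^ e + -∑ i : Fin e, Polynomial.C (π * c i) * X ^ (i : ℕ)
  have hdegs : (-∑ i : Fin e, Polynomial.C (π * c i) * X ^ (i : ℕ)).degree < (e : WithBot ℕ) := by
    rw [degree_neg]; exact degree_sum_fin_lt _
  have hmon : f.Monic := monic_X_pow_add hdegs
  have hdeg : f.natDegree = e := natDegree_eq_of_degree_eq_some (by
    rw [degree_add_eq_left_of_degree_lt (by rwa [degree_X_pow]), degree_X_pow])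
  have hcoef : ∀ i, ∀ hi : i < e, f.coeff i = -(π * c ⟨i, hi⟩) := by
    intro i hi
    rw [coeff_add, coeff_X_pow, if_neg hi.ne, zero_add, coeff_neg, finsetSum_coeff, Finset.sum_eq_single ⟨i, hi⟩]
    · rw [coeff_C_mul_X_pow, if_pos rfl]
    · intro b _ hb
      rw [coeff_C_mul_X_pow, if_neg fun h => hb (Fin.ext h.symm)]
    · simp
  have heis : f.IsEisensteinAt (maximalIdeal A) := by
    refine hmon.isEisensteinAt_of_mem_of_notMem (Ideal.IsMaximal.ne_top inferInstance) (fun {i} hi => ?_) ?_
    · rw [hcoef i (by omega)]; exact neg_mem (Ideal.mul_mem_right _ _ hπm)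
    · rw [hcoef 0 (by omega), neg_mem_iff, hπ, Ideal.span_singleton_pow, Ideal.mem_span_singleton, pow_two,
        mul_dvd_mul_iff_left hπ'.ne_zero]
      rintro ⟨d, hd⟩
      have hxm : x ∈ maximalIdeal V := by rw [hmx]; exact Ideal.mem_span_singleton_self x
      have : (↑u⁻¹ : V) ∈ maximalIdeal V := by
        rw [← hc]
        refine Ideal.sum_mem _ fun i _ => ?_
        rw [Algebra.smul_def]
        rcases Nat.eq_zero_or_pos (i : ℕ) with h | h
        · rw [show i = ⟨0, by omega⟩ from Fin.ext h, hd, map_mul, mul_assoc]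
          exact Ideal.mul_mem_right _ _ hπV
        · exact Ideal.mul_mem_left _ _ (Ideal.pow_mem_of_mem _ hxm _ h)
      exact this (Units.isUnit _)
  have hroot : aeval x f = 0 := by
    simp only [f, map_add, map_neg, map_pow, aeval_X, map_sum, map_mul, aeval_C]
    have : ∑ i : Fin e, algebraMap A V π * algebraMap A V (c i) * x ^ (i : ℕ) = algebraMap A V π * ↑u⁻¹ := by
      rw [← hc, Finset.mul_sum]
      exact Finset.sum_congr rfl fun i _ => by rw [Algebra.smul_def, mul_assoc]
    rw [this, hu, mul_comm (u : V), mul_assoc, u.mul_inv, mul_one, add_neg_cancel]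
  let val : V →ₐ[A] K₁ := { toRingHom := V.subtype, commutes' := fun _ => rfl }
  refine ⟨f, val x, hmon, heis, by omega, ?_, ?_⟩
  · exact (aeval_algHom_apply val x f).trans (by rw [hroot, map_zero])
  · rw [eq_top_iff]
    intro z _
    haveI : Algebra.IsAlgebraic A K₁ := (IsFractionRing.comap_isAlgebraic_iff (A := A) (K := K) (C := K₁)).mpr inferInstance
    obtain ⟨a, ha, hint⟩ := (Algebra.IsAlgebraic.isAlgebraic (R := A) z).exists_integral_multiple
    have hzV : algebraMap A K₁ a * z ∈ V := by
      rw [← Algebra.smul_def]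
      obtain ⟨P, hP, hP0⟩ := hint
      obtain ⟨w, hw⟩ := (IsIntegrallyClosed.isIntegral_iff (R := V) (x := a • z)).mp ⟨P.map (algebraMap A V), hP.map _, by
        rw [eval₂_map]; exact hP0⟩
      rw [← hw]; exact w.2
    have hmem : ∀ v : V, (v : K₁) ∈ IntermediateField.adjoin K {val x} := by
      intro v
      obtain ⟨c, hc⟩ := (Submodule.mem_span_range_iff_exists_fun A).mp (show v ∈ N by rw [hN]; trivial)
      rw [show (v : K₁) = val v from rfl, ← hc, map_sum]
      refine sum_mem fun i _ => ?_
      rw [map_smul, map_pow, Algebra.smul_def, IsScalarTower.algebraMap_apply A K K₁]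
      exact mul_mem (IntermediateField.algebraMap_mem _ _) (pow_mem (IntermediateField.mem_adjoin_simple_self K _) _)
    have ha0 : algebraMap A K₁ a ≠ 0 := (map_ne_zero_iff _ hinj).mpr ha
    rw [← inv_mul_cancel_left₀ ha0 z]
    refine mul_mem (inv_mem ?_) (hmem ⟨_, hzV⟩)
    rw [IsScalarTower.algebraMap_apply A K K₁]
    exact IntermediateField.algebraMap_mem _ _


open TensorProduct in
/-- Let A -> B be a weakly unramified extension of discrete valuation rings with fraction fields K ⊂ L,
and K₁/K a finite separable extension which is totally ramified with respect to A. Then L ⊗_K K₁ is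
a field and K₁ is a weak solution for A -> B (the valuation ring of L ⊗_K K₁ over B is weakly
unramified over that of K₁ over A). -/
theorem result (A B K L : Type u) [CommRing A] [IsDomain A] [IsDiscreteValuationRing A]
    [CommRing B] [IsDomain B] [IsDiscreteValuationRing B] [Algebra A B] [IsLocalHom (algebraMap A B)]
    (hinj : Function.Injective (algebraMap A B))
    [Field K] [Field L] [Algebra A K] [IsFractionRing A K] [Algebra B L] [IsFractionRing B L]
    [Algebra K L] [Algebra A L] [IsScalarTower A K L] [IsScalarTower A B L]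
    (hw : EtRam.IsWeaklyUnramified A B) (K₁ : Type u) [Field K₁] [Algebra K K₁] [FiniteDimensional K K₁]
    [Algebra.IsSeparable K K₁] (ht : EtRam.IsTotallyRamified A ((algebraMap K K₁).comp (algebraMap A K))) :
    IsField (L ⊗[K] K₁) ∧ EtRam.IsWeakSolution B K L K₁ := by
  classical
  obtain ⟨f, x, hmon, heis, hn0, hfx, hgenx⟩ := exists_eisenstein ht
  obtain ⟨π, hπ'⟩ := IsDiscreteValuationRing.exists_irreducible A
  have hπ := (IsDiscreteValuationRing.irreducible_iff_uniformizer π).mp hπ'
  have hπB : IsLocalRing.maximalIdeal B = Ideal.span {algebraMap A B π} := by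
    rw [← hw, hπ, Ideal.map_span, Set.image_singleton]
  set fB := f.map (algebraMap A B) with hfB
  have hmonB : fB.Monic := hmon.map _
  have hdegB : fB.natDegree = f.natDegree := hmon.natDegree_map _
  have heisB : fB.IsEisensteinAt (IsLocalRing.maximalIdeal B) := by
    refine hmonB.isEisensteinAt_of_mem_of_notMem (Ideal.IsMaximal.ne_top inferInstance) (fun {i} hi => ?_) ?_
    · rw [hfB, Polynomial.coeff_map, ← hw]
      exact Ideal.mem_map_of_mem _ (heis.mem (hdegB ▸ hi))
    · rw [hfB, Polynomial.coeff_map, hπB, Ideal.span_singleton_pow, Ideal.mem_span_singleton]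
      intro hdiv
      obtain ⟨d, hd⟩ := Ideal.mem_span_singleton.mp (hπ ▸ heis.mem (n := 0) hn0)
      rw [hd, map_mul, pow_two, mul_dvd_mul_iff_left ((map_ne_zero_iff _ hinj).mpr hπ'.ne_zero)] at hdiv
      refine heis.notMem ?_
      rw [hπ, Ideal.span_singleton_pow, Ideal.mem_span_singleton, hd, pow_two]
      refine mul_dvd_mul_left π ?_
      rw [← Ideal.mem_span_singleton, ← hπ, IsLocalRing.mem_maximalIdeal, mem_nonunits_iff]
      intro hu
      exact (Ideal.mem_span_singleton.mpr hdiv |> fun h => hπB ▸ h : _ ∈ IsLocalRing.maximalIdeal B) (hu.map (algebraMap A B))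
  have hirrB := EtRamEis.irreducible hmonB heisB (by omega)
  haveI hirrL : Fact (Irreducible (fB.map (algebraMap B L))) :=
    ⟨(hmonB.irreducible_iff_irreducible_map_fraction_map).mp hirrB⟩
  have hfL : fB.map (algebraMap B L) = (f.map (algebraMap A K)).map (algebraMap K L) := by
    rw [hfB, Polynomial.map_map, Polynomial.map_map, ← IsScalarTower.algebraMap_eq, ← IsScalarTower.algebraMap_eq]
  have hirrK : Irreducible (f.map (algebraMap A K)) :=
    (hmon.irreducible_iff_irreducible_map_fraction_map).mp (EtRamEis.irreducible hmon heis hn0)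
  have hxK : Polynomial.aeval x (f.map (algebraMap A K)) = 0 := by
    rw [Polynomial.aeval_def, Polynomial.eval₂_map]; exact hfx
  have hmin : minpoly K x = f.map (algebraMap A K) :=
    (minpoly.eq_of_irreducible_of_monic hirrK hxK (hmon.map _)).symm
  have hxint : IsIntegral K x := Algebra.IsIntegral.isIntegral x
  have hdim : Module.finrank K K₁ = f.natDegree := by
    rw [← IntermediateField.finrank_top', ← hgenx, IntermediateField.adjoin.finrank hxint, hmin, hmon.natDegree_map]
  have hpoly : ∀ z : K₁, ∃ P : Polynomial K, Polynomial.aeval x P = z := by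
    intro z
    have hz : z ∈ (IntermediateField.adjoin K {x}).toSubalgebra := by rw [hgenx]; trivial
    rw [IntermediateField.adjoin_simple_toSubalgebra_of_isAlgebraic hxint.isAlgebraic, Algebra.adjoin_singleton_eq_range_aeval] at hz
    exact hz
  refine ⟨?_, ?_⟩
  · let E := AdjoinRoot (fB.map (algebraMap B L))
    have hrootE : Polynomial.aeval (AdjoinRoot.root (fB.map (algebraMap B L))) (minpoly K x) = 0 := by
      rw [hmin, ← Polynomial.aeval_map_algebraMap L, ← hfL, AdjoinRoot.aeval_eq, AdjoinRoot.mk_self]
    let φ : L ⊗[K] K₁ →ₐ[L] E := Algebra.TensorProduct.lift (Algebra.ofId L E)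
      (((IntermediateField.adjoin.powerBasis hxint).map ((IntermediateField.equivOfEq hgenx).trans IntermediateField.topEquiv)).lift
        (AdjoinRoot.root _) (by
          rw [PowerBasis.map_gen, minpoly.algEquiv_eq, IntermediateField.adjoin.powerBasis_gen, IntermediateField.minpoly_gen]
          exact hrootE)) (fun _ _ => Commute.all _ _)
    haveI : FiniteDimensional L E := (AdjoinRoot.powerBasis hirrL.out.ne_zero).finite
    have hsurj : Function.Surjective φ := by
      intro z
      obtain ⟨P, rfl⟩ := AdjoinRoot.mk_surjective z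
      refine ⟨Polynomial.aeval ((1 : L) ⊗ₜ[K] x) P, ?_⟩
      rw [← Polynomial.aeval_algHom_apply, Algebra.TensorProduct.lift_tmul, map_one, one_mul]
      refine Eq.trans (congrArg (fun t => Polynomial.aeval t P) ?_) (AdjoinRoot.aeval_eq P)
      exact PowerBasis.lift_gen _ _ _
    have hdimE : Module.finrank L (L ⊗[K] K₁) = Module.finrank L E := by
      rw [Module.finrank_baseChange, hdim, PowerBasis.finrank (AdjoinRoot.powerBasis hirrL.out.ne_zero), AdjoinRoot.powerBasis_dim,
        hmonB.natDegree_map, hdegB]
    have hinjφ : Function.Injective φ := (LinearMap.injective_iff_surjective_of_finrank_eq_finrank (f := φ.toLinearMap) hdimE).mpr hsurj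
    exact MulEquiv.isField (Field.toIsField E) (AlgEquiv.ofBijective φ ⟨hinjφ, hsurj⟩).toMulEquiv
  · intro M _ _ _ _ _ _ hgen W hW
    letI : Algebra (W.comap (algebraMap K₁ M)) W := (EtRam.inclOfComap W (algebraMap K₁ M)).toAlgebra
    letI : Algebra B M := ((algebraMap L M).comp (algebraMap B L)).toAlgebra
    haveI : IsScalarTower B L M := IsScalarTower.of_algebraMap_eq fun _ => rfl
    set y := algebraMap K₁ M x with hy'
    have hAM : ∀ a : A, algebraMap B M (algebraMap A B a) = algebraMap K₁ M (algebraMap K K₁ (algebraMap A K a)) := fun a => by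
      rw [← IsScalarTower.algebraMap_apply K K₁ M, IsScalarTower.algebraMap_apply K L M, ← IsScalarTower.algebraMap_apply A K L,
        IsScalarTower.algebraMap_apply A B L]
      rfl
    have hy : fB.eval₂ (algebraMap B M) y = 0 := by
      rw [hfB, Polynomial.eval₂_map, show (algebraMap B M).comp (algebraMap A B) = (algebraMap K₁ M).comp ((algebraMap K K₁).comp (algebraMap A K)) from RingHom.ext hAM,
        hy', ← Polynomial.hom_eval₂, hfx, map_zero]
    have hgenM : ∀ z : M, ∃ P : Polynomial L, Polynomial.aeval y P = z := by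
      intro z
      have hz : z ∈ Algebra.adjoin L {y} := by
        refine (Algebra.adjoin_le ?_ : Algebra.adjoin L (Set.range (algebraMap K₁ M)) ≤ Algebra.adjoin L {y}) (hgen ▸ Algebra.mem_top)
        rintro _ ⟨w, rfl⟩
        obtain ⟨P, rfl⟩ := hpoly w
        rw [← Polynomial.aeval_algebraMap_apply, ← hy', ← Polynomial.aeval_map_algebraMap L, SetLike.mem_coe,
          Algebra.adjoin_singleton_eq_range_aeval]
        exact ⟨_, rfl⟩
      rw [Algebra.adjoin_singleton_eq_range_aeval] at hz
      exact hz
    have hWB : EtRam.Dominates B (algebraMap B M) W := hW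
    obtain ⟨_, _, hmax, -, -⟩ := EtRamEis.exists_isDVR hmonB heisB (by omega)
    have hvy := EtRamEis.valuation_root_lt_one hmonB heisB (by omega) hy W hWB
    refine le_antisymm (Ideal.map_le_iff_le_comap.mpr fun v hv => ?_) fun w hwm => ?_
    · rw [Ideal.mem_comap, IsLocalRing.mem_maximalIdeal, mem_nonunits_iff]
      intro hu
      exact hv ((isUnit_map_iff (EtRam.inclOfComap W (algebraMap K₁ M)) v).mp hu)
    · obtain ⟨a, ha⟩ := (EtRamEis.mem_iff_exists hmonB heisB (by omega) hy (EtRamEis.exists_div_of_gen hy hgenM) W hWB w).mp w.2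
      have hmemW := EtRamEis.lift_mem hmonB heisB (by omega) hy W hWB
      have hau : ¬ IsUnit a := by
        intro hu
        obtain ⟨b, hb⟩ := isUnit_iff_exists_inv.mp hu
        exact hwm (IsUnit.of_mul_eq_one ⟨_, hmemW b⟩ (Subtype.ext (by
          show (w : M) * AdjoinRoot.lift _ y hy b = 1
          rw [← ha, ← map_mul, hb, map_one])))
      obtain ⟨b, rfl⟩ := Ideal.mem_span_singleton.mp (hmax ▸ (IsLocalRing.mem_maximalIdeal a).mpr hau)
      have hxU : x ∈ W.comap (algebraMap K₁ M) := (W.valuation_le_one_iff _).mp hvy.le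
      have hxm : (⟨x, hxU⟩ : W.comap (algebraMap K₁ M)) ∈ IsLocalRing.maximalIdeal _ := by
        intro hu
        exact (W.valuation_lt_one_iff _).mpr hvy (hu.map (EtRam.inclOfComap W (algebraMap K₁ M)))
      have hw' : w = EtRam.inclOfComap W (algebraMap K₁ M) ⟨x, hxU⟩ * ⟨_, hmemW b⟩ := by
        refine Subtype.ext ?_
        rw [← ha, map_mul, AdjoinRoot.lift_root]
        rfl
      rw [hw']
      exact Ideal.mul_mem_right _ _ (Ideal.mem_map_of_mem _ hxm)

end Groth.Agent.S1984
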