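import Groth.Statements.S1985
import Mathlib
import Groth.Agent.NagataDesc.Basic
import Groth.Agent.RegLocus.GeomRedTrans

set_option autoImplicit false
universe u
open EtAlg

namespace Groth.Agent.S1985

open TensorProduct

/-- Nagata descends along faithfully flat smooth maps -/
theorem isN2_quotient_of_reduced (R : Type u) [CommRing R] (S : Type u) [CommRing S] [Algebra R S]
    [Module.FaithfullyFlat R S] (hS : CAlg.IsNagata S) (p : Ideal R) [hp : p.IsPrime]
    (hred : ∀ (L : Type u) [Field L] [Algebra R L] [Algebra.EssFiniteType R L], RingHom.ker (algebraMap R L) = p → IsReduced (L ⊗[R] S)) :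
    CAlg.IsN2 (R ⧸ p) := by
  have := hS.1
  have hR := Groth.Agent.RegNormal.isNoetherianRing_of_faithfullyFlat R S
  intro L _ _ _ _ hfin
  letI : Algebra R L := ((algebraMap (R ⧸ p) L).comp (Ideal.Quotient.mk p)).toAlgebra
  have : IsScalarTower R (R ⧸ p) L := IsScalarTower.of_algebraMap_eq fun _ => rfl
  have : Algebra.EssFiniteType (R ⧸ p) L := Algebra.EssFiniteType.comp (R ⧸ p) (FractionRing (R ⧸ p)) L
  have : Algebra.EssFiniteType R L := Algebra.EssFiniteType.comp R (R ⧸ p) L
  have hLinj : Function.Injective (algebraMap (R ⧸ p) L) := by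
    rw [IsScalarTower.algebraMap_eq (R ⧸ p) (FractionRing (R ⧸ p)) L]
    exact (algebraMap (FractionRing (R ⧸ p)) L).injective.comp (IsFractionRing.injective _ _)
  let T := S ⊗[R] L
  have : IsReduced (L ⊗[R] S) := hred L (Ideal.ext fun r => by
    show algebraMap (R ⧸ p) L (Ideal.Quotient.mk p r) = 0 ↔ r ∈ p
    rw [map_eq_zero_iff _ hLinj, Ideal.Quotient.eq_zero_iff_mem])
  have : IsReduced T := isReduced_of_injective (Algebra.TensorProduct.comm R S L).toRingEquiv.toRingHom
    (Algebra.TensorProduct.comm R S L).injective
  have : IsNoetherianRing T := Algebra.EssFiniteType.isNoetherianRing S T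
  have halg : ∀ (P : Ideal T) [P.IsPrime], ∀ x : P.ResidueField,
      ∃ f : Polynomial S, f.map (algebraMap S P.ResidueField) ≠ 0 ∧ Polynomial.aeval x f = 0 := by
    intro P _ x
    let F := P.ResidueField
    let ψ : L →ₐ[R] F := ((IsScalarTower.toAlgHom R T F)).comp Algebra.TensorProduct.includeRight
    let q := RingHom.ker (algebraMap S F)
    have : q.IsPrime := RingHom.ker_isPrime _
    letI : Algebra (S ⧸ q) F := (Ideal.Quotient.lift q (algebraMap S F) fun a ha => ha).toAlgebra
    have : IsScalarTower S (S ⧸ q) F := IsScalarTower.of_algebraMap_eq fun _ => rfl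
    have hinj : Function.Injective (algebraMap (S ⧸ q) F) := (injective_iff_map_eq_zero _).2 fun a ha => by
      obtain ⟨r, rfl⟩ := Ideal.Quotient.mk_surjective a
      exact Ideal.Quotient.eq_zero_iff_mem.2 (RingHom.mem_ker.2 ha)
    have : FaithfulSMul (S ⧸ q) F := (faithfulSMul_iff_algebraMap_injective _ _).2 hinj
    letI : Algebra (FractionRing (S ⧸ q)) F := FractionRing.liftAlgebra (S ⧸ q) F
    let M := algebraicClosure (FractionRing (S ⧸ q)) F
    have hmemS : ∀ s : S, algebraMap S F s ∈ M := fun s => by
      rw [IsScalarTower.algebraMap_apply S (S ⧸ q) F, IsScalarTower.algebraMap_apply (S ⧸ q) (FractionRing (S ⧸ q)) F]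
      exact M.algebraMap_mem _
    have hmemL : ∀ l : L, ψ l ∈ M := fun l => by
      have hl : IsAlgebraic (R ⧸ p) l := (IsFractionRing.isAlgebraic_iff (R ⧸ p) (FractionRing (R ⧸ p)) L).2
        (Algebra.IsAlgebraic.isAlgebraic l)
      obtain ⟨f, hf, hfl⟩ := hl
      obtain ⟨g, rfl⟩ := Polynomial.map_surjective (Ideal.Quotient.mk p) Ideal.Quotient.mk_surjective f
      rw [← Ideal.Quotient.algebraMap_eq, Polynomial.aeval_map_algebraMap] at hfl
      refine mem_algebraicClosure_iff.2 ⟨g.map ((algebraMap S (FractionRing (S ⧸ q))).comp (algebraMap R S)),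
        fun h0 => hf ?_, ?_⟩
      · have h1 := congrArg (Polynomial.map (algebraMap (FractionRing (S ⧸ q)) F)) h0
        rw [Polynomial.map_map, Polynomial.map_zero, ← RingHom.comp_assoc, ← IsScalarTower.algebraMap_eq,
          ← IsScalarTower.algebraMap_eq, ← ψ.comp_algebraMap,
          show algebraMap R L = (algebraMap (R ⧸ p) L).comp (Ideal.Quotient.mk p) from rfl, ← Polynomial.map_map,
          ← Polynomial.map_map, Polynomial.map_eq_zero_iff (f := (ψ : L →+* F)) (RingHom.injective _),
          Polynomial.map_eq_zero_iff hLinj] at h1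
        exact h1
      · rw [Polynomial.aeval_def, Polynomial.eval₂_map, ← RingHom.comp_assoc, ← IsScalarTower.algebraMap_eq,
          ← IsScalarTower.algebraMap_eq, ← Polynomial.aeval_def, Polynomial.aeval_algHom_apply, hfl, map_zero]
    have hmemT : ∀ t : T, algebraMap T F t ∈ M := fun t => by
      induction t using TensorProduct.induction_on with
      | zero => exact (map_zero (algebraMap T F)).symm ▸ M.zero_mem
      | add a b ha hb => exact (map_add (algebraMap T F) a b).symm ▸ M.add_mem ha hb
      | tmul s l =>
        rw [show (s ⊗ₜ[R] l : T) = algebraMap S T s * (1 ⊗ₜ l) from (show ((s ⊗ₜ[R] (1 : L)) * ((1 : S) ⊗ₜ[R] l) : S ⊗[R] L) = s ⊗ₜ l by simp).symm,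
          map_mul, ← IsScalarTower.algebraMap_apply]
        exact M.mul_mem (hmemS s) (hmemL l)
    have hx : x ∈ M := by
      obtain ⟨a, b, hb, rfl⟩ := IsFractionRing.div_surjective (A := T ⧸ P) x
      obtain ⟨a, rfl⟩ := Ideal.Quotient.mk_surjective a
      obtain ⟨b, rfl⟩ := Ideal.Quotient.mk_surjective b
      exact M.div_mem (hmemT a) (hmemT b)
    obtain ⟨f, hf, hfx⟩ := (IsFractionRing.isAlgebraic_iff (S ⧸ q) (FractionRing (S ⧸ q)) F).2
      (mem_algebraicClosure_iff.1 hx)
    obtain ⟨g, rfl⟩ := Polynomial.map_surjective (Ideal.Quotient.mk q) Ideal.Quotient.mk_surjective f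
    refine ⟨g, fun h0 => hf ?_, by rwa [← Ideal.Quotient.algebraMap_eq, Polynomial.aeval_map_algebraMap] at hfx⟩
    rw [show algebraMap S F = (algebraMap (S ⧸ q) F).comp (Ideal.Quotient.mk q) from rfl, ← Polynomial.map_map,
      Polynomial.map_eq_zero_iff hinj] at h0
    exact h0
  have hT := Groth.Agent.NagataDesc.finite_integralClosure_reduced hS T halg
  let B := integralClosure (R ⧸ p) L
  let j : B →ₐ[R] L := B.val.restrictScalars R
  let Φ : S ⊗[R] B →ₐ[S] T := Algebra.TensorProduct.map (AlgHom.id S S) j
  have hΦ : Function.Injective Φ :=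
    Module.Flat.lTensor_preserves_injective_linearMap (M := S) j.toLinearMap Subtype.val_injective
  have hint : ∀ z, IsIntegral S (Φ z) := fun z => by
    induction z with
    | zero => rw [map_zero]; exact isIntegral_zero
    | add a b ha hb => rw [map_add]; exact ha.add hb
    | tmul s b =>
      rw [show (s ⊗ₜ[R] b : S ⊗[R] B) = s • (1 ⊗ₜ b) by simp [TensorProduct.smul_tmul'], map_smul]
      refine IsIntegral.smul s ?_
      show IsIntegral S ((Algebra.TensorProduct.includeRight : L →ₐ[R] T) b.1)
      exact ((isIntegral_trans (R := R) (A := R ⧸ p) b.1 b.2).map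
        (Algebra.TensorProduct.includeRight : L →ₐ[R] T)).tower_top
  have : Module.Finite S (S ⊗[R] B) := Module.Finite.of_injective
    ((Φ.codRestrict (integralClosure S T) hint).toLinearMap) fun a b h => hΦ (congrArg Subtype.val h)
  have : Module.Finite R B := Module.Finite.of_finite_tensorProduct_of_faithfullyFlat S
  exact Module.Finite.of_restrictScalars_finite R (R ⧸ p) B

lemma isGeometricallyReduced_of_separable (k E : Type u) [Field k] [Field E] [Algebra k E] [Algebra.IsSeparable k E] :
    Algebra.IsGeometricallyReduced k E := by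
  refine Algebra.IsGeometricallyReduced.of_forall_fg fun B hB => ?_
  haveI : Algebra.FiniteType k B := B.fg_iff_finiteType.mp hB
  haveI : Algebra.IsIntegral k B := ⟨fun x => (isIntegral_algHom_iff B.val Subtype.val_injective).1 (Algebra.IsIntegral.isIntegral _)⟩
  haveI : Module.Finite k B := Algebra.IsIntegral.finite
  letI : Field B := fieldOfFiniteDimensional k B
  haveI : Algebra.IsSeparable k B := ⟨fun x => (isSeparable_map_iff B.val Subtype.val_injective).1 (Algebra.IsSeparable.isSeparable k _)⟩
  rw [Algebra.isGeometricallyReduced_field_iff]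
  haveI : Algebra.FormallyUnramified k B := Algebra.FormallyUnramified.of_isSeparable k B
  exact Algebra.FormallyUnramified.isReduced_of_field (AlgebraicClosure k) _


/-- Let A -> B be an extension of discrete valuation rings whose extension of fraction fields L/K is
separable. If B is a Nagata ring then so is A. -/
theorem result (A B K L : Type u) [CommRing A] [IsDomain A] [IsDiscreteValuationRing A]
    [CommRing B] [IsDomain B] [IsDiscreteValuationRing B] [Algebra A B] [IsLocalHom (algebraMap A B)]
    (hinj : Function.Injective (algebraMap A B))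
    [Field K] [Field L] [Algebra A K] [IsFractionRing A K] [Algebra B L] [IsFractionRing B L]
    [Algebra K L] [Algebra A L] [IsScalarTower A K L] [IsScalarTower A B L] [Algebra.IsSeparable K L] (hB : CAlg.IsNagata B) :
    CAlg.IsNagata A := by
  haveI := hB.1
  haveI : Module.IsTorsionFree A B := Module.isTorsionFree_iff_algebraMap_injective.mpr hinj
  haveI : Module.FaithfullyFlat A B := Module.FaithfullyFlat.of_flat_of_isLocalHom
  refine ⟨inferInstance, fun p hp => ?_⟩
  by_cases hp0 : p = ⊥
  · subst hp0
    refine isN2_quotient_of_reduced A B hB ⊥ fun F _ _ _ hker => ?_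
    have hinjF : Function.Injective (algebraMap A F) := (RingHom.injective_iff_ker_eq_bot _).mpr hker
    haveI : FaithfulSMul A F := (faithfulSMul_iff_algebraMap_injective _ _).2 hinjF
    letI : Algebra K F := (IsFractionRing.lift hinjF).toAlgebra
    haveI : IsScalarTower A K F := IsScalarTower.of_algebraMap_eq fun a => (IsFractionRing.lift_algebraMap hinjF a).symm
    haveI := isGeometricallyReduced_of_separable K L
    haveI : IsReduced (F ⊗[K] L) := Groth.Agent.RegLocus.isReduced_tensor_field K L F
    haveI : TensorProduct.CompatibleSMul A K F L := IsLocalization.tensorProduct_compatibleSMul (nonZeroDivisors A) K F L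
    haveI : Module.Flat K F := inferInstance
    haveI : Module.Flat A F := Module.Flat.trans A K F
    let φ : F ⊗[A] B →ₐ[A] F ⊗[A] L := Algebra.TensorProduct.map (AlgHom.id A F) (IsScalarTower.toAlgHom A B L)
    have hφ : Function.Injective φ := Module.Flat.lTensor_preserves_injective_linearMap (M := F)
      (IsScalarTower.toAlgHom A B L).toLinearMap (IsFractionRing.injective B L)
    haveI : IsReduced (F ⊗[A] L) := isReduced_of_injective
      (Algebra.TensorProduct.equivOfCompatibleSMul K A A F L) (Algebra.TensorProduct.equivOfCompatibleSMul K A A F L).injective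
    exact isReduced_of_injective φ hφ
  · haveI := Ideal.IsPrime.isMaximal hp hp0
    letI : Field (A ⧸ p) := Ideal.Quotient.field p
    intro F _ _ _ _ hfd
    haveI : FiniteDimensional (A ⧸ p) (FractionRing (A ⧸ p)) :=
      Module.Finite.of_surjective (Algebra.linearMap (A ⧸ p) (FractionRing (A ⧸ p)))
        (IsFractionRing.surjective_iff_isField.mpr (Field.toIsField _))
    haveI : FiniteDimensional (A ⧸ p) F := Module.Finite.trans (FractionRing (A ⧸ p)) F
    exact Module.Finite.of_injective (integralClosure (A ⧸ p) F).val.toLinearMap Subtype.val_injective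

end Groth.Agent.S1985
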