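import Groth.Statements.S19856
import Mathlib
import Groth.Agent.CAlgH.TameAction

set_option autoImplicit false
universe u v
open CAlg

namespace Groth.Agent.S19856

/-- Ring-level form: let O be a discrete valuation ring and G a finite group acting faithfully on O by
ring automorphisms, such that every element of G acts trivially on the residue field of O (that is,
g • a - a lies in the maximal ideal for all a) and such that the order of G is nonzero in the
residue field of O. Then G is cyclic. (The source states this for a finite group of order invertible
in an algebraically closed field k acting faithfully on a smooth connected k-variety and the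
subgroup of elements fixing pointwise a codimension-one irreducible component of the ramification
locus, applied to the local ring at the generic point of that component; it is stated here for an
arbitrary discrete valuation ring with a faithful action. The source also shows that this subgroup
is nontrivial; that geometric part is not stated.) -/
theorem result
    (O : Type u) [CommRing O] [IsDomain O] [IsDiscreteValuationRing O]
    (G : Type v) [Group G] [Finite G] [MulSemiringAction G O] [FaithfulSMul G O]
    (htriv : ∀ (g : G) (a : O), g • a - a ∈ IsLocalRing.maximalIdeal O)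
    (hcard : ((Nat.card G : ℕ) : IsLocalRing.ResidueField O) ≠ 0) :
    IsCyclic G := by
  classical
  obtain ⟨π, hπ⟩ := IsDiscreteValuationRing.exists_irreducible O
  have hmax := hπ.maximalIdeal_eq
  have hn : IsUnit ((Nat.card G : ℕ) : O) := by
    by_contra h
    exact hcard (by rw [← map_natCast (IsLocalRing.residue O)]
                    exact (IsLocalRing.residue_eq_zero_iff _).2 ((IsLocalRing.mem_maximalIdeal _).2 h))
  have hdvd : ∀ g : G, ∃ u : O, g • π = u * π := by
    intro g
    have : g • π ∈ IsLocalRing.maximalIdeal O := by
      have := add_mem (htriv g π) (show π ∈ IsLocalRing.maximalIdeal O by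
        rw [hmax]; exact Ideal.mem_span_singleton_self π)
      simpa using this
    rw [hmax, Ideal.mem_span_singleton'] at this
    obtain ⟨u, hu⟩ := this
    exact ⟨u, hu.symm⟩
  choose u hu using hdvd
  have hres : ∀ (g : G) (a : O), IsLocalRing.residue O (g • a) = IsLocalRing.residue O a := fun g a => by
    rw [← sub_eq_zero, ← map_sub]
    exact (IsLocalRing.residue_eq_zero_iff _).2 (htriv g a)
  have hu1 : u 1 = 1 := mul_right_cancel₀ hπ.ne_zero (by rw [← hu, one_smul, one_mul])
  have humul : ∀ g h, u (g * h) = g • u h * u g := fun g h =>
    mul_right_cancel₀ hπ.ne_zero (by rw [← hu, mul_smul, hu h, smul_mul', hu g, mul_assoc])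
  let θ : G →* IsLocalRing.ResidueField O :=
    { toFun := fun g => IsLocalRing.residue O (u g)
      map_one' := by rw [hu1, map_one]
      map_mul' := fun g h => by rw [humul, map_mul, hres, mul_comm] }
  refine isCyclic_of_subgroup_isDomain θ ?_
  rw [injective_iff_map_eq_one]
  intro g hg
  have hu2 : u g - 1 ∈ IsLocalRing.maximalIdeal O := by
    rw [← IsLocalRing.residue_eq_zero_iff, map_sub, map_one, sub_eq_zero]
    exact hg
  apply FaithfulSMul.eq_of_smul_eq_smul (α := O)
  intro a
  rw [one_smul]
  refine Groth.Agent.CAlgH.TameAction.apply_eq_self (MulSemiringAction.toRingHom G O g) (Nat.card G) hn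
    (fun a => ?_) (htriv g) (fun x hx => ?_) a
  · show (fun x : O => g • x)^[Nat.card G] a = a
    rw [smul_iterate]
    show g ^ Nat.card G • a = a
    rw [pow_card_eq_one', one_smul]
  · rw [hmax, Ideal.mem_span_singleton'] at hx
    obtain ⟨b, rfl⟩ := hx
    show g • (b * π) - b * π ∈ _
    have e : g • (b * π) - b * π = ((g • b - b) * u g + b * (u g - 1)) * π := by
      rw [smul_mul', hu g]; ring
    rw [e, pow_two]
    refine Ideal.mul_mem_mul (add_mem (Ideal.mul_mem_right _ _ (htriv g b)) (Ideal.mul_mem_left _ _ hu2)) ?_
    rw [hmax]
    exact Ideal.mem_span_singleton_self π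

end Groth.Agent.S19856
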