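import Groth.Statements.S19857
import Groth.Agent.SyntLCI.SmoothOver


set_option autoImplicit false
universe u
open Synt

namespace Groth.Agent.S19857

open CategoryTheory AlgebraicGeometry in
/-- Let S be a scheme, p : X ⟶ S and q : Y ⟶ S smooth morphisms and f : X ⟶ Y a morphism over S (f ≫ q =
p) which is flat. Then f is syntomic (affine-locally given by flat ring maps of finite presentation
whose fibres are local complete intersections). -/
theorem result {X Y S : Scheme.{u}}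
    (p : X ⟶ S) (q : Y ⟶ S) [Smooth p] [Smooth q] (f : X ⟶ Y) (hf : f ≫ q = p) [Flat f] :
    Synt.IsSyntomicMor f := by
  intro x
  obtain ⟨_, ⟨W, hW, rfl⟩, hxW, -⟩ :=
    S.isBasis_affineOpens.exists_subset_of_mem_open (Set.mem_univ (q (f x))) isOpen_univ
  obtain ⟨_, ⟨V, hV, rfl⟩, hxV, hVW⟩ :=
    Y.isBasis_affineOpens.exists_subset_of_mem_open (show f x ∈ (q ⁻¹ᵁ W : Y.Opens) from hxW) (q ⁻¹ᵁ W).isOpen
  obtain ⟨_, ⟨U, hU, rfl⟩, hxU, hUV⟩ :=
    X.isBasis_affineOpens.exists_subset_of_mem_open (show x ∈ (f ⁻¹ᵁ V : X.Opens) from hxV) (f ⁻¹ᵁ V).isOpen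
  refine ⟨⟨U, hU⟩, ⟨V, hV⟩, hUV, hxU, ?_⟩
  have hUW : U ≤ p ⁻¹ᵁ W := fun z hz => by
    rw [← hf]
    exact hVW (hUV hz)
  let := (q.appLE W V hVW).hom.toAlgebra
  let := (f.appLE V U hUV).hom.toAlgebra
  let := (p.appLE W U hUW).hom.toAlgebra
  have : IsScalarTower Γ(S, W) Γ(Y, V) Γ(X, U) := IsScalarTower.of_algebraMap_eq' (by
    show (p.appLE W U hUW).hom = (f.appLE V U hUV).hom.comp (q.appLE W V hVW).hom
    rw [← CommRingCat.hom_comp, AlgebraicGeometry.Scheme.Hom.appLE_comp_appLE]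
    simp only [hf])
  have : Algebra.Smooth Γ(S, W) Γ(Y, V) := AlgebraicGeometry.Scheme.Hom.smooth_appLE q hW hV hVW
  have : Algebra.Smooth Γ(S, W) Γ(X, U) := AlgebraicGeometry.Scheme.Hom.smooth_appLE p hW hU hUW
  have : Module.Flat Γ(Y, V) Γ(X, U) := f.flat_appLE hV hU hUV
  exact Groth.Agent.SyntLCI.isSyntomic_of_smooth_over Γ(S, W) Γ(Y, V) Γ(X, U)

end Groth.Agent.S19857
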