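import Groth.Statements.S7151
import Mathlib
import Groth.Agent.EtRamDeform.Factor
import Groth.Agent.NagataDesc.Basic
import Groth.Agent.RegLocus.GeomRedTrans

set_option autoImplicit false
universe u
open EtAlg

namespace Groth.Agent.S7151

set_option maxHeartbeats 1000000
open Polynomial IsLocalRing TensorProduct EtRamDeform

lemma exists_clear {B L M₁ : Type u} [CommRing B] [IsDomain B] [IsDiscreteValuationRing B] [Field L] [Algebra B L]
    [IsFractionRing B L] [Field M₁] [Algebra L M₁] [Algebra B M₁] [IsScalarTower B L M₁] [Algebra.IsIntegral L M₁]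
    (ϖ : B) (hϖ : ϖ ∈ maximalIdeal B) (x : M₁) : ∃ k, IsIntegral B (algebraMap B M₁ ϖ ^ k * x) := by
  obtain ⟨⟨m, hm⟩, hmx⟩ := IsIntegral.exists_multiple_integral_of_isLocalization (nonZeroDivisors B) (Rₘ := L) x
    (Algebra.IsIntegral.isIntegral x)
  obtain ⟨t, ht⟩ := IsDiscreteValuationRing.exists_irreducible B
  obtain ⟨k, u, rfl⟩ := IsDiscreteValuationRing.eq_unit_mul_pow_irreducible (nonZeroDivisors.ne_zero hm) ht
  obtain ⟨w, hw⟩ : (u : B) * t ^ k ∣ ϖ ^ k :=
    (IsUnit.mul_left_dvd u.isUnit).mpr (pow_dvd_pow_of_dvd (Ideal.mem_span_singleton.mp (ht.maximalIdeal_eq ▸ hϖ)) k)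
  refine ⟨k, ?_⟩
  rw [← map_pow, hw, map_mul, mul_comm (algebraMap B M₁ _), mul_assoc]
  refine isIntegral_algebraMap.mul ?_
  rwa [Submonoid.smul_def, Algebra.smul_def] at hmx

lemma exists_bound {p : ℕ} [Fact p.Prime] {B L M₁ : Type u} [CommRing B] [IsDomain B] [IsDiscreteValuationRing B] [Field L]
    [Algebra B L] [IsFractionRing B L] [Field M₁] [Algebra L M₁] [Algebra B M₁] [IsScalarTower B L M₁] [FiniteDimensional L M₁]
    (hB : CAlg.IsNagata B) (ϖ : B) (hϖ : ϖ ∈ maximalIdeal B) (a : M₁) [Fact (Irreducible (X ^ p - C a))] :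
    ∃ s₀, ∀ s, s₀ ≤ s → Bound p B M₁ a (algebraMap B M₁ ϖ ^ s) := by
  classical
  have hm : (X ^ p - C a).Monic := monic_X_pow_sub_C a (Fact.out : p.Prime).ne_zero
  haveI : Module.Finite M₁ (AdjoinRoot (X ^ p - C a)) := hm.finite_adjoinRoot
  haveI : IsScalarTower B L (AdjoinRoot (X ^ p - C a)) := IsScalarTower.of_algebraMap_eq fun b => by
    rw [IsScalarTower.algebraMap_apply B M₁ (AdjoinRoot (X ^ p - C a)), IsScalarTower.algebraMap_apply L M₁ (AdjoinRoot (X ^ p - C a)),
      IsScalarTower.algebraMap_apply B L M₁]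
  haveI : Module.Finite L (AdjoinRoot (X ^ p - C a)) := Module.Finite.trans M₁ _
  haveI : Algebra.EssFiniteType B L := Algebra.EssFiniteType.of_isLocalization L (nonZeroDivisors B)
  haveI : Algebra.EssFiniteType B (AdjoinRoot (X ^ p - C a)) := Algebra.EssFiniteType.comp B L _
  have halg : Algebra.IsAlgebraic B (AdjoinRoot (X ^ p - C a)) :=
    (IsFractionRing.comap_isAlgebraic_iff (A := B) (K := L) (C := AdjoinRoot (X ^ p - C a))).mpr inferInstance
  have hinjB : Function.Injective (algebraMap B (AdjoinRoot (X ^ p - C a))) := by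
    rw [IsScalarTower.algebraMap_eq B L (AdjoinRoot (X ^ p - C a))]
    exact (algebraMap L _).injective.comp (IsFractionRing.injective B L)
  haveI := Groth.Agent.NagataDesc.finite_integralClosure_field hB (AdjoinRoot (X ^ p - C a)) fun x => by
    obtain ⟨f, hf, hfx⟩ := halg.isAlgebraic x
    exact ⟨f, (Polynomial.map_ne_zero_iff hinjB).mpr hf, hfx⟩
  obtain ⟨G, hG⟩ := (Module.Finite.fg_top : (⊤ : Submodule B (integralClosure B (AdjoinRoot (X ^ p - C a)))).FG)
  choose k hk using exists_clear (L := L) (M₁ := M₁) ϖ hϖ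
  let co := fun (g : AdjoinRoot (X ^ p - C a)) i => (AdjoinRoot.modByMonicHom hm g).coeff i
  refine ⟨G.sup fun g => (AdjoinRoot.modByMonicHom hm (g : AdjoinRoot (X ^ p - C a))).support.sup fun i => k (co g i),
    fun s hs x hx i => ?_⟩
  have hsub : ⊤ ≤ ({
      carrier := {y | ∀ i, IsIntegral B (algebraMap B M₁ ϖ ^ s * co y.1 i)}
      zero_mem' := fun i => by simp [co, isIntegral_zero]
      add_mem' := fun {y z} hy hz i => by simpa [co, mul_add] using (hy i).add (hz i)
      smul_mem' := fun r y hy i => by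
        show IsIntegral B (algebraMap B M₁ ϖ ^ s * co (r • y.1) i)
        simp only [co]
        rw [algebra_compatible_smul M₁ r, map_smul, coeff_smul, smul_eq_mul, mul_left_comm]
        exact isIntegral_algebraMap.mul (hy i) } : Submodule B (integralClosure B (AdjoinRoot (X ^ p - C a)))) := by
    rw [← hG, Submodule.span_le]
    intro g hg i
    by_cases hi : i ∈ (AdjoinRoot.modByMonicHom hm g.1).support
    · have hle : k (co g.1 i) ≤ s := le_trans (le_trans
        (Finset.le_sup (f := fun i => k (co g.1 i)) hi) (Finset.le_sup (f := fun g : integralClosure B (AdjoinRoot (X ^ p - C a)) =>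
          (AdjoinRoot.modByMonicHom hm g.1).support.sup fun i => k (co g.1 i)) hg)) hs
      obtain ⟨j, rfl⟩ := Nat.exists_eq_add_of_le hle
      rw [add_comm, pow_add, mul_assoc]
      exact (isIntegral_algebraMap.pow _).mul (hk _)
    · simp only [co, notMem_support_iff.mp hi, mul_zero]; exact isIntegral_zero
  exact hsub (Submodule.mem_top (x := (⟨x, hx⟩ : integralClosure B (AdjoinRoot (X ^ p - C a))))) i

lemma not_pow {p : ℕ} [Fact p.Prime] {K L K₁ K₂ : Type u} [Field K] [CharP K p] [Field L] [Algebra K L] [Algebra.IsGeometricallyReduced K L]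
    [Field K₁] [Field K₂] [Algebra K K₁] [Algebra K K₂] [Algebra K₁ K₂] [IsScalarTower K K₁ K₂] [FiniteDimensional K K₁]
    (a : K₁) (α : K₂) (hα : α ^ p = algebraMap K₁ K₂ a) (hαK : α ∉ (algebraMap K₁ K₂).range)
    (m : Ideal (L ⊗[K] K₁)) (hm : m ≠ ⊤) (b : L ⊗[K] K₁) :
    b ^ p - (1 : L) ⊗ₜ a ∉ m := by
  intro hb
  haveI : CharP K₂ p := charP_of_injective_algebraMap (algebraMap K K₂).injective p
  haveI : IsReduced (K₁ ⊗[K] L) := Groth.Agent.RegLocus.isReduced_tensor_field K L K₁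
  haveI : IsReduced (L ⊗[K] K₁) := isReduced_of_injective (Algebra.TensorProduct.comm K L K₁).toAlgHom (Algebra.TensorProduct.comm K L K₁).injective
  haveI : IsReduced (K₂ ⊗[K] L) := Groth.Agent.RegLocus.isReduced_tensor_field K L K₂
  haveI : IsReduced (L ⊗[K] K₂) := isReduced_of_injective (Algebra.TensorProduct.comm K L K₂).toAlgHom (Algebra.TensorProduct.comm K L K₂).injective
  haveI : IsArtinianRing (L ⊗[K] K₁) := IsArtinianRing.of_finite L _
  haveI : IsSemisimpleRing (L ⊗[K] K₁) := IsArtinianRing.isSemisimpleRing_of_isReduced _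
  obtain ⟨e, he, hker⟩ := IsSemisimpleRing.ideal_eq_span_idempotent m
  let j : L ⊗[K] K₁ →ₐ[K] L ⊗[K] K₂ := Algebra.TensorProduct.map (AlgHom.id K L) (IsScalarTower.toAlgHom K K₁ K₂)
  haveI : CharP (L ⊗[K] K₂) p := charP_of_injective_algebraMap' K p
  set f := 1 - e with hf
  have hfb : f * (b ^ p - (1 : L) ⊗ₜ a) = 0 := by
    obtain ⟨r, hr⟩ := Ideal.mem_span_singleton'.mp (hker ▸ hb : b ^ p - (1 : L) ⊗ₜ a ∈ Ideal.span {e})
    rw [← hr, hf]
    linear_combination (-r) * he.eq
  have hz : j f * (j b - (1 : L) ⊗ₜ α) = 0 := IsNilpotent.eq_zero ⟨p, by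
    rw [mul_pow, sub_pow_char, ← map_pow j b, Algebra.TensorProduct.tmul_pow, one_pow, hα,
      show (1 : L) ⊗ₜ[K] (algebraMap K₁ K₂ a) = j ((1 : L) ⊗ₜ a) by simp [j],
      ← map_sub, ← map_pow, he.one_sub.pow_eq (Fact.out : p.Prime).ne_zero, ← map_mul, hfb, map_zero]⟩
  have hα1 : α ∉ Submodule.span K₁ {(1 : K₂)} := fun h => hαK (by
    obtain ⟨c, hc⟩ := Submodule.mem_span_singleton.mp h
    exact ⟨c, by rw [← hc, Algebra.smul_def, mul_one]⟩)
  obtain ⟨l, hl, hl1⟩ := Submodule.exists_dual_map_eq_bot_of_notMem hα1 inferInstance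
  have hl1' : l 1 = 0 := by
    have : l 1 ∈ (Submodule.span K₁ {(1 : K₂)}).map l := Submodule.mem_map_of_mem (Submodule.mem_span_singleton_self 1)
    rwa [hl1, Submodule.mem_bot] at this
  let Λ : L ⊗[K] K₂ →ₗ[K] L ⊗[K] K₁ := TensorProduct.map LinearMap.id (l.restrictScalars K)
  have hΛ : ∀ (t : L ⊗[K] K₁) (y : K₂), Λ (j t * (1 : L) ⊗ₜ y) = t * (1 : L) ⊗ₜ l y := fun t y => by
    induction t using TensorProduct.induction_on with
    | zero => simp
    | tmul x k =>
      simp only [j, Λ, Algebra.TensorProduct.map_tmul, Algebra.TensorProduct.tmul_mul_tmul, TensorProduct.map_tmul, AlgHom.coe_id, id_eq,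
        IsScalarTower.coe_toAlgHom', mul_one, LinearMap.id_coe, LinearMap.restrictScalars_apply, ← Algebra.smul_def, map_smul, smul_eq_mul]
    | add s t hs ht => simp only [map_add, add_mul, hs, ht]
  have h1 := congrArg Λ hz
  rw [mul_sub, ← map_mul j, map_sub, map_zero, hΛ, ← mul_one (j (f * b)), Algebra.TensorProduct.one_def, hΛ, hl1', TensorProduct.tmul_zero, mul_zero,
    zero_sub, neg_eq_zero] at h1
  have hu : IsUnit ((1 : L) ⊗ₜ[K] l α : L ⊗[K] K₁) := IsUnit.of_mul_eq_one ((1 : L) ⊗ₜ[K] (l α)⁻¹) (by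
    rw [Algebra.TensorProduct.tmul_mul_tmul, one_mul, mul_inv_cancel₀ hl, Algebra.TensorProduct.one_def])
  apply hm
  rw [hker, Ideal.span_singleton_eq_top]
  have hf0 : f = 0 := hu.mul_left_eq_zero.mp h1
  rw [hf, sub_eq_zero] at hf0
  rw [← hf0]
  exact isUnit_one

/-- Let p be a prime and A → B an injective local homomorphism of discrete valuation rings whose fields
of fractions are K ⊆ L, where K has characteristic p, L is separable (geometrically reduced) over K
and B is a Nagata ring. Let K ⊆ K₁ ⊆ K₂ be finite extensions such that K₂ is a solution for A ⊆ B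
and K₂/K₁ is purely inseparable of degree p. Then some finite separable extension K₃/K₁ is also a
solution for A ⊆ B. -/
theorem result (p : ℕ) (hp : p.Prime) (A B K L : Type u)
    [CommRing A] [IsDomain A] [IsDiscreteValuationRing A] [CommRing B] [IsDomain B] [IsDiscreteValuationRing B]
    [Algebra A B] (hinj : Function.Injective (algebraMap A B)) [IsLocalHom (algebraMap A B)]
    [Field K] [Field L] [Algebra A K] [IsFractionRing A K] [Algebra B L] [IsFractionRing B L]
    [Algebra K L] [Algebra A L] [IsScalarTower A K L] [IsScalarTower A B L] [CharP K p]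
    [Algebra.IsGeometricallyReduced K L] (hB : CAlg.IsNagata B)
    (K₁ K₂ : Type u) [Field K₁] [Field K₂] [Algebra K K₁] [Algebra K K₂] [Algebra K₁ K₂] [IsScalarTower K K₁ K₂]
    [FiniteDimensional K K₁] [FiniteDimensional K₁ K₂] (hsol : EtRam.IsSolution B K L K₂)
    [IsPurelyInseparable K₁ K₂] (hdeg : Module.finrank K₁ K₂ = p) :
    ∃ (K₃ : Type u) (_ : Field K₃) (_ : Algebra K K₃) (_ : Algebra K₁ K₃) (_ : IsScalarTower K K₁ K₃),
      FiniteDimensional K₁ K₃ ∧ Algebra.IsSeparable K₁ K₃ ∧ EtRam.IsSolution B K L K₃ := by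
  classical
  haveI := Fact.mk hp
  haveI : CharP K₁ p := charP_of_injective_algebraMap (algebraMap K K₁).injective p
  haveI : CharP K₂ p := charP_of_injective_algebraMap (algebraMap K₁ K₂).injective p
  haveI : FiniteDimensional K K₂ := Module.Finite.trans K₁ K₂
  letI : Algebra A K₁ := ((algebraMap K K₁).comp (algebraMap A K)).toAlgebra
  haveI : IsScalarTower A K K₁ := IsScalarTower.of_algebraMap_eq fun _ => rfl
  obtain ⟨π, hπi⟩ := IsDiscreteValuationRing.exists_irreducible A
  have hπ : π ∈ maximalIdeal A := hπi.maximalIdeal_eq ▸ Ideal.mem_span_singleton_self π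
  obtain ⟨α₀, hα₀⟩ : ∃ x : K₂, x ∉ (algebraMap K₁ K₂).range := by
    by_contra hc
    push Not at hc
    have hb : Function.Surjective (Algebra.linearMap K₁ K₂) := hc
    have h2 := LinearMap.finrank_le_finrank_of_surjective hb
    rw [hdeg, Module.finrank_self] at h2
    exact absurd h2 (not_le.mpr hp.one_lt)
  obtain ⟨a₀, ha₀⟩ : ∃ a₀ : K₁, α₀ ^ p = algebraMap K₁ K₂ a₀ := by
    obtain ⟨n, y, hy⟩ := IsPurelyInseparable.minpoly_eq_X_pow_sub_C K₁ p α₀
    have hroot := minpoly.aeval K₁ α₀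
    rw [hy, map_sub, map_pow, aeval_X, aeval_C, sub_eq_zero] at hroot
    have hle := minpoly.natDegree_le (A := K₁) α₀
    rw [hy, natDegree_X_pow_sub_C, hdeg] at hle
    rcases n with _ | _ | n
    · exact absurd ⟨y, by rw [pow_zero, pow_one] at hroot; exact hroot.symm⟩ hα₀
    · exact ⟨y, by simpa using hroot⟩
    · exact absurd hle (not_le.mpr (lt_self_pow₀ hp.one_lt (by omega)))
  obtain ⟨a, α, hα, hαK, haA⟩ : ∃ (a : K₁) (α : K₂), α ^ p = algebraMap K₁ K₂ a ∧ α ∉ (algebraMap K₁ K₂).range ∧ IsIntegral A a := by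
    obtain ⟨⟨m, hm⟩, hma⟩ := IsIntegral.exists_multiple_integral_of_isLocalization (nonZeroDivisors A) (Rₘ := K) a₀
      (Algebra.IsIntegral.isIntegral a₀)
    refine ⟨algebraMap A K₁ m ^ p * a₀, algebraMap K₁ K₂ (algebraMap A K₁ m) * α₀, by rw [mul_pow, ha₀, map_mul, map_pow], ?_, ?_⟩
    · rintro ⟨z, hz⟩
      have hm0 : algebraMap K₁ K₂ (algebraMap A K₁ m) ≠ 0 := (_root_.map_ne_zero _).mpr
        (by rw [IsScalarTower.algebraMap_apply A K K₁]
            exact (_root_.map_ne_zero _).mpr ((map_ne_zero_iff _ (IsFractionRing.injective A K)).mpr (nonZeroDivisors.ne_zero hm)))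
      exact hα₀ ⟨(algebraMap A K₁ m)⁻¹ * z, by rw [map_mul, hz, map_inv₀, inv_mul_cancel_left₀ hm0]⟩
    · rw [show algebraMap A K₁ m ^ p * a₀ = algebraMap A K₁ m ^ (p - 1) * (algebraMap A K₁ m * a₀) by
        rw [← mul_assoc, ← pow_succ, Nat.sub_add_cancel hp.one_lt.le]]
      rw [Submonoid.smul_def, Algebra.smul_def] at hma
      exact (isIntegral_algebraMap.pow _).mul hma
  haveI hirr : Fact (Irreducible (X ^ p - C a)) := ⟨X_pow_sub_C_irreducible_of_prime hp fun b hb => hαK ⟨b, by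
    refine frobenius_inj K₂ p ?_
    rw [frobenius_def, frobenius_def, ← map_pow, hb, hα]⟩⟩
  let e₀ : AdjoinRoot (X ^ p - C a) →ₐ[K₁] K₂ := AdjoinRoot.liftAlgHom _ (Algebra.ofId K₁ K₂) α (by
    simp [eval₂_sub, eval₂_pow, hα])
  haveI : Module.Finite K₁ (AdjoinRoot (X ^ p - C a)) := (monic_X_pow_sub_C a hp.ne_zero).finite_adjoinRoot
  let e : AdjoinRoot (X ^ p - C a) ≃ₐ[K₁] K₂ := AlgEquiv.ofBijective e₀ ⟨e₀.toRingHom.injective,
    (LinearMap.injective_iff_surjective_of_finrank_eq_finrank (f := e₀.toLinearMap) (by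
      rw [(AdjoinRoot.powerBasis hirr.out.ne_zero).finrank, AdjoinRoot.powerBasis_dim, natDegree_X_pow_sub_C, hdeg])).mp e₀.toRingHom.injective⟩
  let T := L ⊗[K] K₁
  haveI : IsArtinianRing T := IsArtinianRing.of_finite L _
  haveI : Fintype (MaximalSpectrum T) := Fintype.ofFinite _
  have hπB : algebraMap A B π ∈ maximalIdeal B := by
    rw [mem_maximalIdeal, mem_nonunits_iff, isUnit_map_iff]; exact hπi.not_isUnit
  have hbnd : ∀ m : MaximalSpectrum T, ∃ s₀, ∀ s, s₀ ≤ s →
      letI := Ideal.Quotient.field m.asIdeal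
      Bound p B (T ⧸ m.asIdeal) (Ideal.Quotient.mk _ ((1 : L) ⊗ₜ a)) (algebraMap B (T ⧸ m.asIdeal) (algebraMap A B π) ^ s) := by
    intro m
    letI := Ideal.Quotient.field m.asIdeal
    haveI : CharP (T ⧸ m.asIdeal) p := charP_of_injective_algebraMap (algebraMap K (T ⧸ m.asIdeal)).injective p
    haveI : Fact (Irreducible (X ^ p - C (Ideal.Quotient.mk m.asIdeal ((1 : L) ⊗ₜ a)))) :=
      ⟨X_pow_sub_C_irreducible_of_prime hp fun b hb => by
        obtain ⟨b, rfl⟩ := Ideal.Quotient.mk_surjective b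
        rw [← map_pow, Ideal.Quotient.eq] at hb
        exact not_pow a α hα hαK m.asIdeal m.isMaximal.ne_top b hb⟩
    exact exists_bound (L := L) hB _ hπB _
  choose s₀ hs₀ using hbnd
  set s := Finset.univ.sup s₀ with hs
  set c := algebraMap K K₁ (algebraMap A K π) ^ (s * (p + 2) + 2) with hc
  set G : K₁[X] := X ^ p - C c * X - C a with hG
  have hc0 : c ≠ 0 := pow_ne_zero _ ((_root_.map_ne_zero _).mpr ((map_ne_zero_iff _ (IsFractionRing.injective A K)).mpr hπi.ne_zero))
  have hGd : G.natDegree ≠ 0 := by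
    have : G.natDegree = p := by
      rw [hG, natDegree_sub_C, natDegree_sub_eq_left_of_natDegree_lt]
      · exact natDegree_X_pow p
      · rw [natDegree_X_pow]; exact lt_of_le_of_lt (natDegree_C_mul_le c X) (by rw [natDegree_X]; exact hp.one_lt)
    rw [this]; exact hp.ne_zero
  have hGsep : G.Separable := by
    rw [separable_def, hG, derivative_sub, derivative_sub, derivative_X_pow, derivative_C, derivative_C_mul, derivative_X, mul_one,
      CharP.cast_eq_zero, C_0, zero_mul, zero_sub, sub_zero]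
    exact isCoprime_one_right.of_isCoprime_of_dvd_right ((isUnit_C.mpr hc0.isUnit).neg.dvd)
  set g := G.factor with hg
  haveI hgirr : Fact (Irreducible g) := ⟨irreducible_factor G⟩
  have hgG : g ∣ G := factor_dvd_of_natDegree_ne_zero hGd
  let K₃ := AdjoinRoot g
  haveI : Module.Finite K₁ K₃ := (AdjoinRoot.powerBasis hgirr.out.ne_zero).finite
  have hgen₃ : ∀ x : K₃, ∃ q : K₁[X], aeval (AdjoinRoot.root g) q = x := fun x => by
    obtain ⟨q, rfl⟩ := AdjoinRoot.mk_surjective x
    exact ⟨q, AdjoinRoot.aeval_eq q⟩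
  have hsep : Algebra.IsSeparable K₁ K₃ := by
    have hys : IsSeparable K₁ (AdjoinRoot.root g) := (hGsep.of_dvd hgG).of_dvd (minpoly.dvd K₁ _ (by rw [AdjoinRoot.aeval_eq, AdjoinRoot.mk_self]))
    haveI : Algebra.IsSeparable K₁ (IntermediateField.adjoin K₁ {AdjoinRoot.root g}) :=
      (IntermediateField.isSeparable_adjoin_simple_iff_isSeparable K₁ K₃).mpr hys
    exact AlgEquiv.Algebra.isSeparable ((IntermediateField.equivOfEq (IntermediateField.adjoin_root_eq_top _)).trans IntermediateField.topEquiv)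
  have hβ : AdjoinRoot.root g ^ p - algebraMap K₁ K₃ c * AdjoinRoot.root g = algebraMap K₁ K₃ a := by
    have h : aeval (AdjoinRoot.root g) G = 0 := by
      rw [AdjoinRoot.aeval_eq, AdjoinRoot.mk_eq_zero]; exact hgG
    rw [hG, map_sub, map_sub, map_mul, map_pow, aeval_X, aeval_C, aeval_C, sub_eq_zero] at h
    exact h
  refine ⟨K₃, inferInstance, inferInstance, inferInstance, inferInstance, inferInstance, hsep, ?_⟩
  intro N _ _ _ _ _ _ hgenN W₃ hW₃
  letI : Algebra K₁ N := ((algebraMap K₃ N).comp (algebraMap K₁ K₃)).toAlgebra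
  haveI : IsScalarTower K₁ K₃ N := IsScalarTower.of_algebraMap_eq fun _ => rfl
  haveI : IsScalarTower K K₁ N := IsScalarTower.of_algebraMap_eq fun x => by
    rw [IsScalarTower.algebraMap_apply K₁ K₃ N, ← IsScalarTower.algebraMap_apply K K₁ K₃, ← IsScalarTower.algebraMap_apply K K₃ N]
  let ψ : T →ₐ[L] N := Algebra.TensorProduct.lift (Algebra.ofId L N) (IsScalarTower.toAlgHom K K₁ N) fun _ _ => .all _ _
  haveI hprime : (RingHom.ker ψ).IsPrime := RingHom.ker_isPrime _
  let m : MaximalSpectrum T := ⟨RingHom.ker ψ, IsArtinianRing.isMaximal_of_isPrime _⟩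
  letI := Ideal.Quotient.field m.asIdeal
  letI : Algebra K₁ (T ⧸ m.asIdeal) :=
    ((Ideal.Quotient.mk m.asIdeal).comp (Algebra.TensorProduct.includeRight : K₁ →ₐ[K] T).toRingHom).toAlgebra
  haveI : IsScalarTower K K₁ (T ⧸ m.asIdeal) := IsScalarTower.of_algebraMap_eq fun x => by
    show algebraMap K (T ⧸ m.asIdeal) x = Ideal.Quotient.mk _ ((Algebra.TensorProduct.includeRight : K₁ →ₐ[K] T) (algebraMap K K₁ x))
    rw [AlgHom.commutes]
    rfl
  letI : Algebra (T ⧸ m.asIdeal) N := (Ideal.Quotient.lift m.asIdeal ψ.toRingHom fun x hx => hx).toAlgebra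
  haveI : IsScalarTower L (T ⧸ m.asIdeal) N := IsScalarTower.of_algebraMap_eq fun x => by
    show algebraMap L N x = ψ (algebraMap L T x)
    rw [AlgHom.commutes]
  haveI : IsScalarTower K₁ (T ⧸ m.asIdeal) N := IsScalarTower.of_algebraMap_eq fun x => by
    show algebraMap K₁ N x = ψ ((1 : L) ⊗ₜ x)
    exact ((Algebra.TensorProduct.lift_tmul _ _ _ _ _).trans (by rw [map_one, one_mul]; rfl)).symm
  have hgenM : Algebra.adjoin L (Set.range (algebraMap K₁ (T ⧸ m.asIdeal))) = ⊤ := by
    refine Algebra.eq_top_iff.mpr fun z => ?_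
    obtain ⟨z, rfl⟩ := Ideal.Quotient.mk_surjective z
    induction z using TensorProduct.induction_on with
    | zero => rw [map_zero]; exact zero_mem _
    | tmul x k =>
      rw [show (x ⊗ₜ[K] k : T) = algebraMap L T x * ((1 : L) ⊗ₜ k) by
        rw [Algebra.TensorProduct.algebraMap_apply, Algebra.TensorProduct.tmul_mul_tmul, one_mul]; simp, map_mul]
      exact mul_mem (Subalgebra.algebraMap_mem _ x) (Algebra.subset_adjoin ⟨k, rfl⟩)
    | add u v hu hv => rw [map_add]; exact add_mem hu hv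
  refine factor_solution (p := p) A B K L K₁ K₂ (T ⧸ m.asIdeal) K₃ N hgenM π hπ hπi.ne_zero s a ?_
    (exists_clear (L := L) _ hπB) ?_ (hs₀ m s (Finset.le_sup (Finset.mem_univ m))) e hsol (AdjoinRoot.root g) hβ hgen₃ hgenN W₃ hW₃
  · obtain ⟨P, hm, hP⟩ := haA
    refine ⟨P.map (algebraMap A B), hm.map _, ?_⟩
    rw [eval₂_map]
    have hcomp : (algebraMap B (T ⧸ m.asIdeal)).comp (algebraMap A B) = (algebraMap K₁ (T ⧸ m.asIdeal)).comp (algebraMap A K₁) := by
      refine RingHom.ext fun x => ?_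
      show algebraMap L (T ⧸ m.asIdeal) (algebraMap B L (algebraMap A B x)) = algebraMap K₁ (T ⧸ m.asIdeal) (algebraMap K K₁ (algebraMap A K x))
      rw [← IsScalarTower.algebraMap_apply A B L, IsScalarTower.algebraMap_apply A K L, ← IsScalarTower.algebraMap_apply K L,
        ← IsScalarTower.algebraMap_apply K K₁]
    rw [hcomp, ← hom_eval₂, hP, map_zero]
  · intro b hb
    obtain ⟨b, rfl⟩ := Ideal.Quotient.mk_surjective b
    rw [← map_pow] at hb
    exact not_pow a α hα hαK m.asIdeal m.isMaximal.ne_top b (Ideal.Quotient.eq.mp hb)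

end Groth.Agent.S7151
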