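import Groth.Statements.S1986
import Mathlib
import Groth.Agent.S7151

set_option autoImplicit false
universe u
open EtAlg

namespace Groth.Agent.S1986

lemma geomReduced_of_isSeparable (K L : Type u) [Field K] [Field L] [Algebra K L] [Algebra.IsSeparable K L] :
    Algebra.IsGeometricallyReduced K L := by
  refine Algebra.IsGeometricallyReduced.of_forall_fg fun B hB => ?_
  rw [Algebra.isGeometricallyReduced_field_iff]
  haveI : Algebra.IsAlgebraic K B := Algebra.IsAlgebraic.of_injective B.val Subtype.val_injective
  haveI : Algebra.IsIntegral K B := Algebra.IsAlgebraic.isIntegral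
  letI : Field B := (isField_of_isIntegral_of_isField' (Field.toIsField K)).toField
  haveI : Algebra.IsSeparable K B := ⟨fun x => (IsSeparable.of_algHom (f := B.val) (Algebra.IsSeparable.isSeparable K (x : L)))⟩
  haveI : Algebra.FiniteType K B := (Subalgebra.fg_iff_finiteType _).mp hB
  haveI : Algebra.FormallyUnramified K B := Algebra.FormallyUnramified.of_isSeparable K B
  exact Algebra.FormallyUnramified.isReduced_of_field (AlgebraicClosure K) _

open IntermediateField in
/-- A finite solution gives a finite separable one (geometrically reduced version). -/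
theorem separable_solution (A B K L : Type u) [CommRing A] [IsDomain A] [IsDiscreteValuationRing A]
    [CommRing B] [IsDomain B] [IsDiscreteValuationRing B] [Algebra A B] [IsLocalHom (algebraMap A B)]
    (hinj : Function.Injective (algebraMap A B))
    [Field K] [Field L] [Algebra A K] [IsFractionRing A K] [Algebra B L] [IsFractionRing B L]
    [Algebra K L] [Algebra A L] [IsScalarTower A K L] [IsScalarTower A B L] [Algebra.IsGeometricallyReduced K L]
    (hB : CAlg.IsNagata B)
    (K₂ : Type u) [Field K₂] [Algebra K K₂] [FiniteDimensional K K₂] (h₂ : EtRam.IsSolution B K L K₂) :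
    ∃ (K₃ : Type u) (_ : Field K₃) (_ : Algebra K K₃) (_ : FiniteDimensional K K₃) (_ : Algebra.IsSeparable K K₃),
      EtRam.IsSolution B K L K₃ := by
  classical
  rcases CharP.exists K with ⟨p, hpK⟩
  rcases CharP.char_is_prime_or_zero K p with hp | hp0
  swap
  · subst hp0
    haveI : CharZero K := CharP.charP_to_charZero K
    exact ⟨K₂, inferInstance, inferInstance, inferInstance, inferInstance, h₂⟩
  induction hn : Field.finInsepDegree K K₂ using Nat.strong_induction_on generalizing K₂ with
  | _ n ih =>
    by_cases hsep : Algebra.IsSeparable K K₂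
    · exact ⟨K₂, inferInstance, inferInstance, inferInstance, hsep, h₂⟩
    haveI : Fact p.Prime := ⟨hp⟩
    haveI : CharP K₂ p := charP_of_injective_algebraMap (algebraMap K K₂).injective p
    set Ks := separableClosure K K₂
    have hne : (⊥ : IntermediateField Ks K₂) ≠ ⊤ := by
      intro h
      apply hsep
      rw [← separableClosure.eq_top_iff]
      refine eq_top_iff.mpr fun x _ => ?_
      obtain ⟨y, hy⟩ := IntermediateField.mem_bot.mp (h ▸ IntermediateField.mem_top : x ∈ (⊥ : IntermediateField Ks K₂))
      exact hy ▸ y.2
    obtain ⟨K₁, hK₁, hmax⟩ := WellFounded.has_min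
      (InvImage.wf (fun E : IntermediateField Ks K₂ => Module.finrank Ks K₂ - Module.finrank Ks E) wellFounded_lt)
      {E | E ≠ ⊤} ⟨⊥, hne⟩
    haveI : IsPurelyInseparable Ks K₂ := separableClosure.isPurelyInseparable K K₂
    haveI : IsPurelyInseparable K₁ K₂ := IsPurelyInseparable.tower_top Ks K₁ K₂
    obtain ⟨x, hx⟩ : ∃ x : K₂, x ∉ K₁ := by
      by_contra hc
      push Not at hc
      exact hK₁ (eq_top_iff.mpr fun x _ => hc x)
    haveI : CharP K₁ p := (algebraMap K₁ K₂).charP (algebraMap K₁ K₂).injective p
    obtain ⟨y, hy, hyp⟩ : ∃ y : K₂, y ∉ K₁ ∧ y ^ p ∈ K₁ := by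
      have hex : ∃ n : ℕ, x ^ p ^ n ∈ K₁ := by
        obtain ⟨n, z, hz⟩ := IsPurelyInseparable.pow_mem K₁ p x
        exact ⟨n, hz ▸ z.2⟩
      obtain ⟨m, hm⟩ := Nat.exists_eq_succ_of_ne_zero (n := Nat.find hex) fun h => hx (by
        have := Nat.find_spec hex; rwa [h, pow_zero, pow_one] at this)
      exact ⟨x ^ p ^ m, Nat.find_min hex (by omega), by
        have h := Nat.find_spec hex
        rw [hm] at h
        rwa [← pow_mul, ← pow_succ]⟩
    have hdeg : Module.finrank K₁ K₂ = p := by
      have hint : IsIntegral K₁ y := Algebra.IsIntegral.isIntegral y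
      have hirr : Irreducible (Polynomial.X ^ p - Polynomial.C (⟨y ^ p, hyp⟩ : K₁)) := X_pow_sub_C_irreducible_of_prime hp fun b hb => hy (by
        have : (b : K₂) ^ p = y ^ p := by rw [← SubmonoidClass.coe_pow, hb]
        exact (frobenius_inj K₂ p (by rw [frobenius_def, frobenius_def, this]) : (b : K₂) = y) ▸ b.2)
      have htop : IntermediateField.adjoin K₁ {y} = ⊤ := by
        by_contra hc
        set E := (IntermediateField.adjoin K₁ {y}).restrictScalars Ks
        have hE : E ≠ ⊤ := fun h => hc (IntermediateField.restrictScalars_injective Ks (h.trans IntermediateField.restrictScalars_top.symm))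
        have hlt : K₁ < E := by
          refine lt_of_le_of_ne (fun z hz => IntermediateField.algebraMap_mem _ (⟨z, hz⟩ : K₁)) fun h => hy ?_
          rw [h]; exact IntermediateField.mem_adjoin_simple_self K₁ y
        refine hmax E hE ?_
        have h1 : Module.finrank Ks K₁ < Module.finrank Ks E := Submodule.finrank_lt_finrank_of_lt (show K₁.toSubalgebra.toSubmodule < E.toSubalgebra.toSubmodule from hlt)
        have h2 : Module.finrank Ks E ≤ Module.finrank Ks K₂ := Submodule.finrank_le E.toSubalgebra.toSubmodule
        show _ - _ < _ - _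
        omega
      rw [← (IntermediateField.topEquiv (F := K₁) (E := K₂)).toLinearEquiv.finrank_eq, ← htop, IntermediateField.adjoin.finrank hint,
        ← minpoly.eq_of_irreducible_of_monic hirr (by simp) (Polynomial.monic_X_pow_sub_C _ hp.ne_zero), Polynomial.natDegree_X_pow_sub_C]
    haveI : IsScalarTower K K₁ K₂ := IsScalarTower.of_algebraMap_eq fun _ => rfl
    haveI : FiniteDimensional K K₁ := Module.Finite.trans Ks K₁
    haveI : FiniteDimensional K₁ K₂ := Module.Finite.of_restrictScalars_finite K K₁ K₂
    obtain ⟨K₃, iF, iK, iK₁, iT, hfin, hsep₃, hsol⟩ := Groth.Agent.S7151.result p hp A B K L hinj hB K₁ K₂ h₂ hdeg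
    haveI : FiniteDimensional K K₃ := Module.Finite.trans K₁ K₃
    refine ih _ ?_ K₃ hsol rfl
    rw [← hn, ← Field.finInsepDegree_mul_finInsepDegree_of_isAlgebraic K K₁ K₃, ← Field.finInsepDegree_mul_finInsepDegree_of_isAlgebraic K K₁ K₂]
    have h1 : Field.finInsepDegree K₁ K₃ = 1 := Algebra.IsSeparable.finInsepDegree_eq K₁ K₃
    have h2 : Field.finInsepDegree K₁ K₂ = p := by
      rw [IsPurelyInseparable.finInsepDegree_eq, hdeg]
    rw [h1, h2, mul_one]
    refine lt_mul_of_one_lt_right ?_ hp.one_lt
    exact Nat.pos_of_ne_zero fun h => by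
      have := Field.finSepDegree_mul_finInsepDegree K K₁
      rw [h, mul_zero] at this
      exact Module.finrank_pos.ne' this.symm

/-- Let A -> B be an extension of discrete valuation rings with separable extension of fraction fields
L/K and B a Nagata ring. If some finite extension of K is a solution for A -> B, then some finite
separable extension of K is a solution as well. -/
theorem result (A B K L : Type u) [CommRing A] [IsDomain A] [IsDiscreteValuationRing A]
    [CommRing B] [IsDomain B] [IsDiscreteValuationRing B] [Algebra A B] [IsLocalHom (algebraMap A B)]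
    (hinj : Function.Injective (algebraMap A B))
    [Field K] [Field L] [Algebra A K] [IsFractionRing A K] [Algebra B L] [IsFractionRing B L]
    [Algebra K L] [Algebra A L] [IsScalarTower A K L] [IsScalarTower A B L] [Algebra.IsSeparable K L] (hB : CAlg.IsNagata B)
    (K₂ : Type u) [Field K₂] [Algebra K K₂] [FiniteDimensional K K₂] (h₂ : EtRam.IsSolution B K L K₂) :
    ∃ (K₃ : Type u) (_ : Field K₃) (_ : Algebra K K₃) (_ : FiniteDimensional K K₃) (_ : Algebra.IsSeparable K K₃),
      EtRam.IsSolution B K L K₃ := by
  haveI := geomReduced_of_isSeparable K L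
  exact separable_solution A B K L hinj hB K₂ h₂

end Groth.Agent.S1986
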