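import Groth.Statements.S19863
import Groth.Agent.RegLocus.OneAdd

set_option autoImplicit false
universe u
open EGA4

namespace Groth.Agent.S19863

/-- Let A be a Noetherian ring, J a proper ideal of A, Â the J-adic completion and A_T the localization
of A at T = 1 + J. If the canonical map A → Â is a regular homomorphism (flat, with Noetherian
geometrically regular fibres), then A_T is a regular ring if and only if Â is a regular ring
(Noetherian, with regular local rings at all primes). (The cases of the henselization of the pair
and of the weak completion are not stated here.) -/
theorem result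
    (A : Type u) [CommRing A] [IsNoetherianRing A] (J : Ideal A) (hJ : J ≠ ⊤)
    (hf : CAlg.IsRegularHom A (AdicCompletion J A))
    (T : Submonoid A) (hT : T = MonoidHom.mker (Ideal.Quotient.mk J)) :
    IsRegularRing (Localization T) ↔ IsRegularRing (AdicCompletion J A) := by
  refine RegLocus.isRegularRing_oneAdd_iff A J hf.1 (fun P _ => ?_) T hT
  obtain ⟨Q, hQ, ⟨f⟩⟩ := RegLocus.exists_fibre_localization A (AdicCompletion J A) P
  let p := P.comap (algebraMap A (AdicCompletion J A))
  haveI := (hf.2 p).1
  have h : IsRegularRing (p.Fiber (AdicCompletion J A)) :=
    RegLocus.isRegularRing_of_ringEquiv' (Algebra.TensorProduct.lid p.ResidueField _).toRingEquiv ((hf.2 p).2 p.ResidueField inferInstance)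
  haveI := h.isRegularLocalRing_localization Q
  exact IsRegularLocalRing.of_ringEquiv (R := Localization.AtPrime Q) f

end Groth.Agent.S19863
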