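import Groth.Statements.S19865
import Groth.Agent.SiteBase.ModGrothendieck
import Mathlib.CategoryTheory.Abelian.GrothendieckCategory.EnoughInjectives
import Mathlib.Algebra.Homology.DerivedCategory.Ext.EnoughInjectives
import Mathlib.Algebra.Homology.DerivedCategory.Ext.ExactSequences


set_option autoImplicit false
universe w u
open CategoryTheory CategoryTheory.Limits AlgebraicGeometry
open Deform

namespace Groth.Agent.S19865

theorem exists_extension_class {𝒜 : Type*} [Category 𝒜] [Abelian 𝒜] [EnoughInjectives 𝒜] [HasExt.{w} 𝒜]
    {M N : 𝒜} (e : Abelian.Ext M N 1) :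
    ∃ (F : 𝒜) (i : N ⟶ F) (p : F ⟶ M) (hip : i ≫ p = 0) (hS : (ShortComplex.mk i p hip).ShortExact),
      hS.extClass = e := by
  let j := Injective.ι N
  let S : ShortComplex 𝒜 := ShortComplex.mk j (cokernel.π j) (cokernel.condition j)
  have hS : S.ShortExact :=
    { exact := ShortComplex.exact_of_g_is_cokernel _ (cokernelIsCokernel j) }
  obtain ⟨x, hx⟩ := Abelian.Ext.covariant_sequence_exact₁ (hS := hS) _ e
    (Abelian.Ext.eq_zero_of_injective _) (zero_add 1)
  obtain ⟨φ, rfl⟩ := Abelian.Ext.addEquiv₀.symm.surjective x
  rw [Abelian.Ext.addEquiv₀_symm_apply] at hx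
  let F := pullback (cokernel.π j) φ
  let p : F ⟶ M := pullback.snd _ _
  let i : N ⟶ F := pullback.lift j 0 (by rw [cokernel.condition]; simp)
  have hip : i ≫ p = 0 := pullback.lift_snd _ _ _
  have hif : i ≫ pullback.fst (cokernel.π j) φ = j := pullback.lift_fst _ _ _
  haveI : Mono i := mono_of_mono_fac hif
  haveI : Epi p := inferInstanceAs (Epi (pullback.snd (cokernel.π j) φ))
  have hk : IsLimit (KernelFork.ofι i hip) := by
    refine KernelFork.IsLimit.ofι' i hip fun {T} k hk => ?_
    haveI : Mono S.f := inferInstanceAs (Mono j)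
    have h0 : (k ≫ pullback.fst (cokernel.π j) φ) ≫ cokernel.π j = 0 := by
      rw [Category.assoc, pullback.condition, ← Category.assoc, show k ≫ pullback.snd _ _ = 0 from hk, zero_comp]
    obtain ⟨l, hl⟩ := KernelFork.IsLimit.lift' hS.fIsKernel _ h0
    refine ⟨l, pullback.hom_ext ?_ ?_⟩
    · rw [Category.assoc, hif]; exact hl
    · rw [Category.assoc]
      exact (congrArg (l ≫ ·) hip).trans (comp_zero.trans hk.symm)
  have hS' : (ShortComplex.mk i p hip).ShortExact :=
    { exact := ShortComplex.exact_of_f_is_kernel _ hk }
  refine ⟨F, i, p, hip, hS', ?_⟩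
  have := ShortComplex.ShortExact.extClass_naturality hS' hS
    { τ₁ := 𝟙 N, τ₂ := pullback.fst _ _, τ₃ := φ,
      comm₁₂ := by dsimp [S]; rw [hif, Category.id_comp]
      comm₂₃ := pullback.condition }
  dsimp [S] at this
  rw [Abelian.Ext.comp_mk₀_id] at this
  rw [this]
  exact hx


/-- Every class is an extension class: let k be an algebraically closed field of characteristic zero and
X a projective k-scheme, given with a closed immersion ι into projective n-space over k compatible
with the structure maps; suppose the Ext groups of the abelian category of O_X-modules are w-small.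
Then every element e of Ext^1(Ω_{X/k}, O_X) (Ext in the category of O_X-modules, Ω_{X/k} the module
of differentials of the structure map) is the extension class of some short exact sequence 0 → O_X →
F → Ω_{X/k} → 0 of O_X-modules. (The source states an identification of Ext^1(Ω_X, O_X) with the set
of extensions of Ω_X by O_X; stated here is that every class arises from an extension, the direction
the source proves.) -/
theorem result
    (k : Type u) [Field k] [IsAlgClosed k] [CharZero k]
    (X : Scheme.{u}) [X.Over (Spec (CommRingCat.of k))] [IsProper (X ↘ Spec (CommRingCat.of k))]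
    (n : ℕ) (ι : X ⟶ CohB1.ProjSpace n k) [IsClosedImmersion ι]
    (hι : ι ≫ CohB1.ProjSpace.toSpec n k = X ↘ Spec (CommRingCat.of k))
    [HasExt.{w} X.Modules]
    (e : Abelian.Ext (Omega.sheaf (X ↘ Spec (CommRingCat.of k))) (Coh.structureModule X) 1) :
    ∃ (F : X.Modules) (i : Coh.structureModule X ⟶ F) (p : F ⟶ Omega.sheaf (X ↘ Spec (CommRingCat.of k)))
      (hip : i ≫ p = 0) (hS : (ShortComplex.mk i p hip).ShortExact), hS.extClass = e := by
  haveI : EnoughInjectives X.Modules := inferInstanceAs (EnoughInjectives (SheafOfModules.{u} X.ringCatSheaf))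
  exact exists_extension_class e

end Groth.Agent.S19865
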