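-- statement PLie.GrothFrozen.S19868 (Groth/Statements/S19868.lean; the theorem PLie.nonempty_pmap_h3_deformation_iff);
import Groth.Statements.S19868
import Mathlib
import Groth.Agent.PLieLib.Matrix3

set_option autoImplicit false
set_option maxHeartbeats 2000000
universe u v
open PLie

namespace Groth.Agent.S19868

open DualNumber in
/-- Let K be a field of prime characteristic p, K[ε] the ring of dual numbers (taken with its
characteristic-p structure) and a, …, i ∈ K. Let L be a Lie algebra over K[ε], free as a module with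
basis x = bs 0, y = bs 1, z = bs 2 and brackets [x,y] = aε x + bε y + cε z, [x,z] = dε x + eε y + fε
z, [y,z] = (1 + gε) x + hε y + iε z, a first-order deformation of the Heisenberg algebra (the Jacobi
identity forces b + f = 0). Then L carries a p-mapping over K[ε] if and only if b = c = e = 0 when p
= 2; for odd p there is no condition. (The published statement is about the singularity of the point
h_3 in the restrictable locus of the rank-one-centre stratum of the moduli scheme of based
three-dimensional Lie algebras over the prime field; this row states the restrictability criterion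
for the first-order deformations of h_3 asserted in its proof, over any field of characteristic p in
place of the prime field.) -/
theorem result (K : Type u) [Field K] (p : ℕ) [Fact p.Prime] [CharP K p]
    [CharP (DualNumber K) p] (a b c d e f g h i : K)
    (L : Type v) [LieRing L] [LieAlgebra (DualNumber K) L] (bs : Module.Basis (Fin 3) (DualNumber K) L)
    (hxy : ⁅bs 0, bs 1⁆ = (a • ε : DualNumber K) • bs 0 + (b • ε : DualNumber K) • bs 1 + (c • ε : DualNumber K) • bs 2)
    (hxz : ⁅bs 0, bs 2⁆ = (d • ε : DualNumber K) • bs 0 + (e • ε : DualNumber K) • bs 1 + (f • ε : DualNumber K) • bs 2)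
    (hyz : ⁅bs 1, bs 2⁆ = (1 + g • ε : DualNumber K) • bs 0 + (h • ε : DualNumber K) • bs 1 + (i • ε : DualNumber K) • bs 2) :
    Nonempty (PLie.PMap (DualNumber K) p L) ↔ (p = 2 → b = 0 ∧ c = 0 ∧ e = 0) := by
  classical
  let R := DualNumber K
  let M : Fin 3 → Matrix (Fin 3) (Fin 3) (DualNumber K) :=
    ![!![0, a • ε, d • ε; 0, b • ε, e • ε; 0, c • ε, f • ε],
      !![-(a • ε), 0, 1 + g • ε; -(b • ε), 0, h • ε; -(c • ε), 0, i • ε],
      !![-(d • ε), -(1 + g • ε), 0; -(e • ε), -(h • ε), 0; -(f • ε), -(i • ε), 0]]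
  have hyx := (lie_skew (bs 1) (bs 0)).symm
  have hzx := (lie_skew (bs 2) (bs 0)).symm
  have hzy := (lie_skew (bs 2) (bs 1)).symm
  rw [hxy] at hyx
  rw [hxz] at hzx
  rw [hyz] at hzy
  have hM : ∀ j, LinearMap.toMatrixAlgEquiv bs (LieAlgebra.ad (DualNumber K) L (bs j)) = M j := by
    intro j
    ext1 r s
    rw [LinearMap.toMatrixAlgEquiv_apply]
    fin_cases j <;> fin_cases r <;> fin_cases s <;>
      simp [M, LieAlgebra.ad_apply, hxy, hxz, hyz, hyx, hzx, hzy]
  -- Jacobi
  have hj : b + f = 0 := by
    have h1 := congrArg (fun v => TrivSqZeroExt.snd (bs.repr v 0)) (lie_jacobi (bs 0) (bs 1) (bs 2))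
    simp [hxy, hxz, hyz, hyx, hzx, hzy, lie_add, lie_smul, map_add, map_smul, DualNumber.snd_eps, DualNumber.fst_eps] at h1
    linear_combination -h1
  rw [PLieLib.nonempty_pmap_iff_matrix bs M hM]
  have hp2 := (Fact.out : p.Prime).two_le
  constructor
  · intro hall hp
    subst hp
    obtain ⟨w, hw⟩ := hall 1
    obtain ⟨w', hw'⟩ := hall 2
    have e := fun (r s : Fin 3) => congrArg (fun N : Matrix (Fin 3) (Fin 3) (DualNumber K) => TrivSqZeroExt.fst (N r s)) hw
    have e' := fun (r s : Fin 3) => congrArg (fun N : Matrix (Fin 3) (Fin 3) (DualNumber K) => TrivSqZeroExt.fst (N r s)) hw'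
    have q := fun (r s : Fin 3) => congrArg (fun N : Matrix (Fin 3) (Fin 3) (DualNumber K) => TrivSqZeroExt.snd (N r s)) hw
    have q' := fun (r s : Fin 3) => congrArg (fun N : Matrix (Fin 3) (Fin 3) (DualNumber K) => TrivSqZeroExt.snd (N r s)) hw'
    have e01 := e 0 1; have e02 := e 0 2; have e'01 := e' 0 1; have e'02 := e' 0 2
    simp [M, sq, Matrix.mul_apply, Fin.sum_univ_three, DualNumber.fst_eps] at e01 e02 e'01 e'02
    have q00 := q 0 0; have q11 := q 1 1; have q12 := q 1 2; have q'00 := q' 0 0
    simp [M, sq, Matrix.mul_apply, Fin.sum_univ_three, DualNumber.fst_eps, DualNumber.snd_eps, e01, ← e02, e'01, ← e'02] at q00 q11 q12 q'00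
    refine ⟨?_, q00, q'00⟩
    rcases q11 with h0 | h0
    · exact h0
    · rw [h0, mul_zero] at q12
      exact neg_eq_zero.1 q12
  · intro hc j
    by_cases h2 : p = 2
    · subst h2
      obtain ⟨rfl, rfl, rfl⟩ := hc rfl
      obtain rfl : f = 0 := by simpa using hj
      fin_cases j
      · refine ⟨0, ?_⟩
        ext r s <;> fin_cases r <;> fin_cases s <;>
          simp [M, sq, Matrix.mul_apply, Fin.sum_univ_three, DualNumber.fst_eps, DualNumber.snd_eps]
      · refine ⟨![0, (i - a) • ε, 0], ?_⟩
        ext r s <;> fin_cases r <;> fin_cases s <;>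
          simp [M, sq, Matrix.mul_apply, Fin.sum_univ_three, DualNumber.fst_eps, DualNumber.snd_eps] <;> ring
      · refine ⟨![0, 0, -((h + d) • ε)], ?_⟩
        ext r s <;> fin_cases r <;> fin_cases s <;>
          simp [M, sq, Matrix.mul_apply, Fin.sum_univ_three, DualNumber.fst_eps, DualNumber.snd_eps] <;> ring
    by_cases h3 : p = 3
    · subst h3
      fin_cases j
      · refine ⟨0, ?_⟩
        ext r s <;> fin_cases r <;> fin_cases s <;>
          simp [M, pow_succ, Matrix.mul_apply, Fin.sum_univ_three, DualNumber.fst_eps, DualNumber.snd_eps]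
      · refine ⟨![0, -(c • ε), 0], ?_⟩
        ext r s <;> fin_cases r <;> fin_cases s <;>
          simp [M, pow_succ, Matrix.mul_apply, Fin.sum_univ_three, DualNumber.fst_eps, DualNumber.snd_eps]
      · refine ⟨![0, 0, e • ε], ?_⟩
        ext r s <;> fin_cases r <;> fin_cases s <;>
          simp [M, pow_succ, Matrix.mul_apply, Fin.sum_univ_three, DualNumber.fst_eps, DualNumber.snd_eps]
    refine ⟨0, ?_⟩
    obtain ⟨m, hm⟩ : ∃ m, p = m + 4 := ⟨p - 4, by omega⟩
    have h4 : M j ^ 4 = 0 := by
      rw [show (4 : ℕ) = 2 * 2 from rfl, pow_mul]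
      ext r s <;> fin_cases j <;> fin_cases r <;> fin_cases s <;>
        simp [M, sq, Matrix.mul_apply, Fin.sum_univ_three, DualNumber.fst_eps, DualNumber.snd_eps]
    subst hm
    simp [pow_add, h4]

end Groth.Agent.S19868
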