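import Groth.Statements.S1987
import Mathlib

set_option autoImplicit false
universe u
open Polynomial
open EtAlg

namespace Groth.Agent.S1987

/-- Let A be a discrete valuation ring with uniformizer π and n ≥ 2, and let A' = A[x]/(x^n - π). Then
x^n - π is irreducible over A, A' is an integrally closed discrete valuation ring (so it is the
integral closure of A in its fraction field K₁ = K(π^{1/n}), of degree n over K), the maximal ideal
of A generates the n-th power of the maximal ideal of A' (ramification index n), and K₁ is totally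
ramified with respect to A. -/
theorem result (A : Type u) [CommRing A] [IsDomain A] [IsDiscreteValuationRing A] (π : A)
    (hπ : Irreducible π) (n : ℕ) (hn : 2 ≤ n) :
    Irreducible (X ^ n - C π : A[X]) ∧
    ∃ (_ : IsDomain (AdjoinRoot (X ^ n - C π : A[X]))) (_ : IsDiscreteValuationRing (AdjoinRoot (X ^ n - C π : A[X]))),
      IsIntegrallyClosed (AdjoinRoot (X ^ n - C π : A[X])) ∧
      (IsLocalRing.maximalIdeal A).map (algebraMap A (AdjoinRoot (X ^ n - C π : A[X]))) = IsLocalRing.maximalIdeal (AdjoinRoot (X ^ n - C π : A[X])) ^ n ∧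
      ∀ (K₁ : Type u) [Field K₁] [Algebra (AdjoinRoot (X ^ n - C π : A[X])) K₁] [IsFractionRing (AdjoinRoot (X ^ n - C π : A[X])) K₁],
        EtRam.IsTotallyRamified A ((algebraMap (AdjoinRoot (X ^ n - C π : A[X])) K₁).comp (algebraMap A (AdjoinRoot (X ^ n - C π : A[X])))) := by
  classical
  set f : A[X] := X ^ n - C π with hf
  have hm : IsLocalRing.maximalIdeal A = Ideal.span {π} := (IsDiscreteValuationRing.irreducible_iff_uniformizer π).mp hπ
  have hmon : f.Monic := monic_X_pow_sub_C π (by omega)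
  have hdeg : f.natDegree = n := natDegree_X_pow_sub_C
  have heis : f.IsEisensteinAt (IsLocalRing.maximalIdeal A) := by
    refine hmon.isEisensteinAt_of_mem_of_notMem (Ideal.IsMaximal.ne_top inferInstance) (fun {i} hi => ?_) ?_
    · rw [hdeg] at hi
      rw [hf, coeff_sub, coeff_X_pow, if_neg hi.ne, zero_sub, coeff_C]
      refine neg_mem ?_
      split_ifs
      · rw [hm]; exact Ideal.mem_span_singleton_self π
      · exact zero_mem _
    · rw [hf, coeff_sub, coeff_X_pow, if_neg (by omega), zero_sub, coeff_C_zero, neg_mem_iff, hm,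
        Ideal.span_singleton_pow, Ideal.mem_span_singleton]
      rintro ⟨c, hc⟩
      refine hπ.not_isUnit (IsUnit.of_mul_eq_one c (mul_left_cancel₀ hπ.ne_zero ?_))
      rw [← mul_assoc, ← pow_two, ← hc, mul_one]
  have hirr : Irreducible f :=
    heis.irreducible (IsLocalRing.maximalIdeal.isMaximal A).isPrime hmon.isPrimitive (by omega)
  refine ⟨hirr, ?_⟩
  haveI hdom : IsDomain (AdjoinRoot f) := AdjoinRoot.isDomain_of_prime hirr.prime
  haveI : Module.Finite A (AdjoinRoot f) := hmon.finite_adjoinRoot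
  haveI : IsNoetherianRing (AdjoinRoot f) := IsNoetherianRing.of_finite A (AdjoinRoot f)
  set x := AdjoinRoot.root f
  have hxn : x ^ n = algebraMap A (AdjoinRoot f) π := by
    have := AdjoinRoot.aeval_eq (f := f) f
    rw [AdjoinRoot.mk_self, hf, map_sub, map_pow, aeval_X, aeval_C, sub_eq_zero] at this
    exact this
  have hsplit : ∀ y : AdjoinRoot f, ∃ a z, y = algebraMap A _ a + x * z := fun y => by
    obtain ⟨p, rfl⟩ := AdjoinRoot.mk_surjective y
    refine ⟨p.coeff 0, AdjoinRoot.mk f p.divX, ?_⟩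
    conv_lhs => rw [← X_mul_divX_add p]
    rw [map_add, map_mul, AdjoinRoot.mk_X, AdjoinRoot.mk_C, add_comm]
    rfl
  have hMx : ∀ M : Ideal (AdjoinRoot f), M.IsMaximal → M = Ideal.span {x} := by
    intro M hM
    have hc : M.comap (algebraMap A (AdjoinRoot f)) = IsLocalRing.maximalIdeal A :=
      IsLocalRing.eq_maximalIdeal (Ideal.isMaximal_comap_of_isIntegral_of_isMaximal M)
    have hxM : x ∈ M := hM.isPrime.mem_of_pow_mem n (by
      rw [hxn, ← Ideal.mem_comap, hc, hm]; exact Ideal.mem_span_singleton_self π)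
    refine le_antisymm (fun y hy => ?_) ((Ideal.span_singleton_le_iff_mem _).mpr hxM)
    obtain ⟨a, z, rfl⟩ := hsplit y
    have ha : a ∈ M.comap (algebraMap A (AdjoinRoot f)) := (Ideal.add_mem_iff_left M (Ideal.mul_mem_right _ _ hxM)).mp hy
    rw [hc, hm, Ideal.mem_span_singleton] at ha
    obtain ⟨c, rfl⟩ := ha
    rw [map_mul, ← hxn, show n = n - 1 + 1 by omega, pow_succ]
    exact Ideal.mem_span_singleton.mpr ⟨x ^ (n - 1) * algebraMap A _ c + z, by ring⟩
  obtain ⟨M₀, hM₀⟩ := Ideal.exists_maximal (AdjoinRoot f)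
  haveI : IsLocalRing (AdjoinRoot f) :=
    IsLocalRing.of_unique_max_ideal ⟨M₀, hM₀, fun M hM => (hMx M hM).trans (hMx M₀ hM₀).symm⟩
  have hmax : IsLocalRing.maximalIdeal (AdjoinRoot f) = Ideal.span {x} := hMx _ inferInstance
  have hinj : Function.Injective (algebraMap A (AdjoinRoot f)) :=
    AdjoinRoot.of.injective_of_degree_ne_zero fun h => by
      rw [degree_eq_natDegree hmon.ne_zero, hdeg] at h; norm_cast at h; omega
  have hx0 : x ≠ 0 := fun h => hπ.ne_zero (hinj (by rw [← hxn, h, zero_pow (by omega), map_zero]))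
  have hnf : ¬ IsField (AdjoinRoot f) := fun h => hx0 (by
    rw [IsLocalRing.isField_iff_maximalIdeal_eq, hmax, Ideal.span_singleton_eq_bot] at h; exact h)
  haveI hdvr : IsDiscreteValuationRing (AdjoinRoot f) :=
    ((IsDiscreteValuationRing.TFAE (AdjoinRoot f) hnf).out 0 4 rfl rfl).mpr (by rw [hmax]; exact ⟨⟨x, rfl⟩⟩)
  refine ⟨hdom, hdvr, inferInstance, ?_, fun K₁ _ _ _ => ?_⟩
  · rw [hm, hmax, Ideal.map_span, Set.image_singleton, ← hxn, Ideal.span_singleton_pow]
  let ι := algebraMap (AdjoinRoot f) K₁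
  have hπ1 : ∀ V : ValuationSubring K₁, EtRam.Dominates A (ι.comp (algebraMap A (AdjoinRoot f))) V →
      V.valuation (ι x) < 1 := fun V hV => by
    have h1 := hV.2 π (by rw [hm]; exact Ideal.mem_span_singleton_self π)
    rw [RingHom.comp_apply, ← hxn, map_pow, map_pow] at h1
    exact (pow_lt_one_iff_of_nonneg zero_le (by omega)).mp h1
  have hmem : ∀ V : ValuationSubring K₁, EtRam.Dominates A (ι.comp (algebraMap A (AdjoinRoot f))) V →
      ∀ y, ι y ∈ V := fun V hV y => by
    obtain ⟨p, rfl⟩ := AdjoinRoot.mk_surjective y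
    induction p using Polynomial.induction_on' with
    | add p q hp hq => rw [map_add, map_add]; exact add_mem hp hq
    | monomial k a =>
      rw [← C_mul_X_pow_eq_monomial, map_mul, map_pow, AdjoinRoot.mk_C, AdjoinRoot.mk_X, map_mul, map_pow]
      exact mul_mem (hV.1 a) (pow_mem ((V.valuation_le_one_iff _).mp (hπ1 V hV).le) k)
  have hres : ∀ V : ValuationSubring K₁, EtRam.Dominates A (ι.comp (algebraMap A (AdjoinRoot f))) V →
      ∀ z : K₁, z ∈ V → ∃ y, ι y = z := fun V hV z hz => by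
    obtain ⟨a, b, hb, rfl⟩ := IsFractionRing.div_surjective (A := AdjoinRoot f) z
    rcases ValuationRing.dvd_total b a with ⟨c, rfl⟩ | ⟨c, rfl⟩
    · exact ⟨c, by rw [map_mul, mul_div_cancel_left₀ _ (IsFractionRing.to_map_ne_zero_of_mem_nonZeroDivisors hb)]⟩
    · by_cases hc : IsUnit c
      · obtain ⟨u, rfl⟩ := hc
        refine ⟨↑u⁻¹, ?_⟩
        have ha : ι a ≠ 0 := left_ne_zero_of_mul (a := ι a) (b := ι u) (by
          rw [← map_mul]; exact IsFractionRing.to_map_ne_zero_of_mem_nonZeroDivisors hb)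
        rw [map_mul, map_units_inv, div_mul_cancel_left₀ ha]
      · exfalso
        obtain ⟨d, rfl⟩ := Ideal.mem_span_singleton.mp (hmax ▸ (IsLocalRing.mem_maximalIdeal c).mpr hc)
        have hne : ι (a * (x * d)) ≠ 0 := IsFractionRing.to_map_ne_zero_of_mem_nonZeroDivisors hb
        rw [map_mul, map_mul] at hne hz
        have ha : ι a ≠ 0 := left_ne_zero_of_mul hne
        have h1 : V.valuation (ι a / (ι a * (ι x * ι d)) * (ι x * ι d)) < 1 := by
          rw [map_mul, map_mul]
          exact (mul_le_of_le_one_left zero_le ((V.valuation_le_one_iff _).mpr hz)).trans_lt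
            ((mul_le_of_le_one_right zero_le ((V.valuation_le_one_iff _).mpr (hmem V hV d))).trans_lt (hπ1 V hV))
        rw [div_mul_cancel_left₀ ha, inv_mul_cancel₀ (right_ne_zero_of_mul hne), map_one] at h1
        exact lt_irrefl _ h1
  let V₀ : ValuationSubring K₁ :=
    ⟨ι.range, fun z => by
      obtain ⟨a, b, hb, rfl⟩ := IsFractionRing.div_surjective (A := AdjoinRoot f) z
      rcases ValuationRing.dvd_total b a with ⟨c, rfl⟩ | ⟨c, rfl⟩
      · exact Or.inl ⟨c, by rw [map_mul, mul_div_cancel_left₀ _ (IsFractionRing.to_map_ne_zero_of_mem_nonZeroDivisors hb)]⟩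
      · refine Or.inr ⟨c, ?_⟩
        rw [inv_div, map_mul, mul_div_cancel_left₀]
        exact left_ne_zero_of_mul (a := ι a) (b := ι c) (by rw [← map_mul]; exact IsFractionRing.to_map_ne_zero_of_mem_nonZeroDivisors hb)⟩
  have hV₀ : EtRam.Dominates A (ι.comp (algebraMap A (AdjoinRoot f))) V₀ := by
    refine ⟨fun a => ⟨_, rfl⟩, fun a ha => ?_⟩
    rw [hm, Ideal.mem_span_singleton] at ha
    obtain ⟨c, rfl⟩ := ha
    have hxlt : V₀.valuation (ι x) < 1 := by
      refine lt_of_le_of_ne ((V₀.valuation_le_one_iff _).mpr ⟨_, rfl⟩) fun h => ?_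
      have h2 : (ι x)⁻¹ ∈ V₀ := (V₀.valuation_le_one_iff _).mp (by rw [map_inv₀, h, inv_one])
      obtain ⟨y, hy⟩ := h2
      have h3 : x * y = 1 := IsFractionRing.injective (AdjoinRoot f) K₁ (by
        rw [map_mul, map_one, show algebraMap (AdjoinRoot f) K₁ y = (ι x)⁻¹ from hy]
        exact mul_inv_cancel₀ (fun h0 => hx0 (IsFractionRing.injective (AdjoinRoot f) K₁ (by rw [h0, map_zero]))))
      exact (IsLocalRing.maximalIdeal.isMaximal (AdjoinRoot f)).ne_top
        ((Ideal.eq_top_iff_one _).mpr (h3 ▸ Ideal.mul_mem_right y _ (hmax ▸ Ideal.mem_span_singleton_self x)))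
    rw [RingHom.comp_apply, map_mul, ← hxn, map_mul, map_mul, map_pow, map_pow]
    exact (mul_le_of_le_one_right zero_le ((V₀.valuation_le_one_iff _).mpr ⟨_, rfl⟩)).trans_lt
      (pow_lt_one₀ zero_le hxlt (by omega))
  refine ⟨⟨V₀, hV₀⟩, fun V V' hV hV' => ?_, fun V hV r => ?_⟩
  · refine SetLike.ext fun z => ⟨fun hz => ?_, fun hz => ?_⟩
    · obtain ⟨y, rfl⟩ := hres V hV z hz; exact hmem V' hV' y
    · obtain ⟨y, rfl⟩ := hres V' hV' z hz; exact hmem V hV y
  obtain ⟨⟨z, hz⟩, rfl⟩ := IsLocalRing.residue_surjective r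
  obtain ⟨y, rfl⟩ := hres V hV z hz
  obtain ⟨a, w, rfl⟩ := hsplit y
  refine ⟨a, (Ideal.Quotient.eq.mpr ?_)⟩
  rw [IsLocalRing.mem_maximalIdeal, mem_nonunits_iff]
  intro hu
  have h1 := (V.valuation_eq_one_iff _).mp hu
  have h2 : V.valuation (ι (algebraMap A _ a) - ι (algebraMap A _ a + x * w)) < 1 := by
    rw [map_add, sub_add_cancel_left, Valuation.map_neg, map_mul, map_mul]
    exact (mul_le_of_le_one_right zero_le ((V.valuation_le_one_iff _).mpr (hmem V hV w))).trans_lt (hπ1 V hV)
  exact h2.ne h1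

end Groth.Agent.S1987
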