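import Groth.Statements.S1988
import Mathlib

set_option autoImplicit false
universe u
open EtAlg

namespace Groth.Agent.S1988

open IsLocalRing in
lemma exists_amalgam {B W C : Type u} [CommRing B] [IsDomain B] [IsDiscreteValuationRing B] [CommRing W] [IsDomain W] [IsLocalRing W]
    [CommRing C] [IsDomain C] [IsDiscreteValuationRing C] [Algebra B W] [Algebra B C]
    (hW : Function.Injective (algebraMap B W)) (hC : Function.Injective (algebraMap B C))
    [IsLocalHom (algebraMap B W)] [IsLocalHom (algebraMap B C)] :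
    ∃ (F : Type u) (_ : Field F) (a : W →+* F) (c : C →+* F) (V : ValuationSubring F),
      Function.Injective a ∧ Function.Injective c ∧ a.comp (algebraMap B W) = c.comp (algebraMap B C) ∧
      (∀ w, a w ∈ V) ∧ (∀ x, c x ∈ V) ∧ (∀ w ∈ maximalIdeal W, V.valuation (a w) < 1) ∧
      (∀ x ∈ maximalIdeal C, V.valuation (c x) < 1) := by
  classical
  obtain ⟨m, hm⟩ := Ideal.exists_maximal (TensorProduct (ResidueField B) (ResidueField W) (ResidueField C))
  let Ω := TensorProduct (ResidueField B) (ResidueField W) (ResidueField C) ⧸ m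
  letI : Field Ω := Ideal.Quotient.field m
  let fW : W →+* Ω := (Ideal.Quotient.mk m).comp ((Algebra.TensorProduct.includeLeftRingHom).comp (residue W))
  let fC : C →+* Ω := (Ideal.Quotient.mk m).comp (((Algebra.TensorProduct.includeRight : ResidueField C →ₐ[ResidueField B] _).toRingHom).comp (residue C))
  letI : Algebra B Ω := (fW.comp (algebraMap B W)).toAlgebra
  have hf : ∀ b, fC (algebraMap B C b) = fW (algebraMap B W b) := fun b =>
    congrArg (Ideal.Quotient.mk m) (((Algebra.TensorProduct.includeRight : ResidueField C →ₐ[ResidueField B] _).commutes (residue B b)).trans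
      ((Algebra.TensorProduct.includeLeft : ResidueField W →ₐ[ResidueField B] TensorProduct (ResidueField B) (ResidueField W) (ResidueField C)).commutes (residue B b)).symm)
  let gW : W →ₐ[B] Ω := ⟨fW, fun _ => rfl⟩
  let gC : C →ₐ[B] Ω := ⟨fC, hf⟩
  let G : TensorProduct B W C →ₐ[B] Ω := Algebra.TensorProduct.productMap gW gC
  let q : Ideal (TensorProduct B W C) := RingHom.ker G
  haveI : q.IsPrime := RingHom.ker_isPrime G
  haveI : Module.IsTorsionFree B C := Module.isTorsionFree_iff_algebraMap_injective.mpr hC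
  haveI : Module.Flat B C := inferInstance
  haveI : Module.Flat W (TensorProduct B W C) := inferInstance
  obtain ⟨P, hPq, hP, hPover⟩ := Ideal.exists_ideal_le_liesOver_of_le (p := (⊥ : Ideal W)) (q := q.under W) q bot_le
  let D := TensorProduct B W C ⧸ P
  let a0 : W →+* D := (Ideal.Quotient.mk P).comp Algebra.TensorProduct.includeLeftRingHom
  let c0 : C →+* D := (Ideal.Quotient.mk P).comp (Algebra.TensorProduct.includeRight : C →ₐ[B] _).toRingHom
  have hagree : a0.comp (algebraMap B W) = c0.comp (algebraMap B C) := RingHom.ext fun b => congrArg (Ideal.Quotient.mk P)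
    (((Algebra.TensorProduct.includeLeft : W →ₐ[B] TensorProduct B W C).commutes b).trans
      ((Algebra.TensorProduct.includeRight : C →ₐ[B] TensorProduct B W C).commutes b).symm)
  have ha0 : Function.Injective a0 := by
    rw [injective_iff_map_eq_zero]
    intro w hw
    have hw1 : Algebra.TensorProduct.includeLeftRingHom w ∈ P := Ideal.Quotient.eq_zero_iff_mem.mp hw
    have : w ∈ P.under W := hw1
    rwa [← hPover.over] at this
  have hc0 : Function.Injective c0 := by
    rw [RingHom.injective_iff_ker_eq_bot]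
    by_contra hne
    haveI : (RingHom.ker c0).IsPrime := RingHom.ker_isPrime c0
    have hmax : RingHom.ker c0 = maximalIdeal C := eq_maximalIdeal (Ideal.IsPrime.isMaximal inferInstance hne)
    obtain ⟨ϖ, hϖ⟩ := IsDiscreteValuationRing.exists_irreducible B
    have h1 : algebraMap B C ϖ ∈ RingHom.ker c0 := by
      rw [hmax, mem_maximalIdeal, mem_nonunits_iff, isUnit_map_iff]; exact hϖ.not_isUnit
    have h2 : a0 (algebraMap B W ϖ) = 0 := (RingHom.congr_fun hagree ϖ).trans h1
    exact hϖ.ne_zero (hW (ha0 (h2.trans (map_zero a0).symm) |>.trans (map_zero _).symm))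
  let F := FractionRing D
  let Gd : D →+* Ω := Ideal.Quotient.lift P G.toRingHom fun x hx => hPq hx
  let Q : Ideal D := RingHom.ker Gd
  haveI : Q.IsPrime := RingHom.ker_isPrime Gd
  let Dq := Localization.AtPrime Q
  let j : Dq →+* F := IsLocalization.lift (M := Q.primeCompl) (g := algebraMap D F) fun y =>
    isUnit_iff_ne_zero.mpr ((map_ne_zero_iff _ (IsFractionRing.injective D F)).mpr fun h => y.2 (h ▸ Q.zero_mem))
  obtain ⟨V, hle, hloc⟩ := (LocalSubring.range j).exists_le_valuationSubring
  have hmem : ∀ d, algebraMap D F d ∈ V := fun d => hle ⟨algebraMap D Dq d, IsLocalization.lift_eq _ d⟩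
  have hlt : ∀ d ∈ Q, V.valuation (algebraMap D F d) < 1 := by
    intro d hd
    refine (V.valuation_lt_one_iff ⟨_, hmem d⟩).mp fun hu => ?_
    have h1 : IsUnit (⟨algebraMap D F d, algebraMap D Dq d, IsLocalization.lift_eq _ d⟩ : j.range) := hloc.map_nonunit _ hu
    obtain ⟨⟨_, e, rfl⟩, he⟩ := isUnit_iff_exists_inv.mp h1
    have he' : j (algebraMap D Dq d * e) = j 1 := by
      rw [map_mul, map_one, IsLocalization.lift_eq]; exact congrArg Subtype.val he
    have hj : Function.Injective j := by
      rw [IsLocalization.lift_injective_iff]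
      exact fun x y => ⟨fun h => congrArg _ (IsLocalization.injective Dq Q.primeCompl_le_nonZeroDivisors h), fun h => congrArg _ (IsFractionRing.injective D F h)⟩
    have hu1 := IsUnit.of_mul_eq_one _ (hj he')
    rw [IsLocalization.AtPrime.isUnit_to_map_iff Dq Q d] at hu1
    exact hu1 hd
  refine ⟨F, inferInstance, (algebraMap D F).comp a0, (algebraMap D F).comp c0, V,
    (IsFractionRing.injective D F).comp ha0, (IsFractionRing.injective D F).comp hc0, ?_,
    fun w => hmem _, fun x => hmem _, fun w hw => hlt _ ?_, fun x hx => hlt _ ?_⟩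
  · exact RingHom.ext fun b => congrArg (algebraMap D F) (RingHom.congr_fun hagree b)
  · show G (w ⊗ₜ[B] 1) = 0
    rw [Algebra.TensorProduct.productMap_apply_tmul, map_one, mul_one]
    show Ideal.Quotient.mk m (residue W w ⊗ₜ[ResidueField B] 1) = 0
    rw [(residue_eq_zero_iff w).mpr hw, TensorProduct.zero_tmul, map_zero]
  · show G (1 ⊗ₜ[B] x) = 0
    rw [Algebra.TensorProduct.productMap_apply_tmul, map_one, one_mul]
    show Ideal.Quotient.mk m (1 ⊗ₜ[ResidueField B] residue C x) = 0
    rw [(residue_eq_zero_iff x).mpr hx, TensorProduct.tmul_zero, map_zero]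

lemma comap_eq_of_dominates {M F : Type u} [Field M] [Field F] (f : M →+* F) (W : ValuationSubring M) (V : ValuationSubring F)
    (h1 : ∀ w : W, f w ∈ V) (h2 : ∀ w : W, w ∈ IsLocalRing.maximalIdeal W → V.valuation (f w) < 1) (y : M) :
    f y ∈ V ↔ y ∈ W := by
  refine ⟨fun hy => ?_, fun hy => h1 ⟨y, hy⟩⟩
  by_contra hyW
  have hinv : y⁻¹ ∈ W := (W.mem_or_inv_mem y).resolve_left hyW
  have hy0 : y ≠ 0 := fun h => hyW (h ▸ W.zero_mem)
  have hm : (⟨y⁻¹, hinv⟩ : W) ∈ IsLocalRing.maximalIdeal W := by
    intro hu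
    obtain ⟨u, hu'⟩ := isUnit_iff_exists_inv.mp hu
    have h3 : y⁻¹ * (u : M) = 1 := congrArg Subtype.val hu'
    exact hyW (inv_inv y ▸ (eq_inv_of_mul_eq_one_right h3) ▸ u.2)
  have h4 := h2 _ hm
  have h5 : V.valuation (f y⁻¹) * V.valuation (f y) = 1 := by
    rw [← map_mul, ← map_mul, inv_mul_cancel₀ hy0, map_one, map_one]
  exact absurd h5 (ne_of_lt (mul_lt_one_of_nonneg_of_lt_one_left zero_le h4 ((V.valuation_le_one_iff _).mpr hy)))

lemma exists_dvd_of_mem_map {U W : Type u} [CommRing U] [CommRing W] [IsDomain W] [ValuationRing W] [IsLocalRing U] (g : U →+* W) {x : W}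
    (hx : x ∈ (IsLocalRing.maximalIdeal U).map g) : ∃ u ∈ IsLocalRing.maximalIdeal U, g u ∣ x := by
  induction hx using Submodule.span_induction with
  | mem x hx => obtain ⟨u, hu, rfl⟩ := hx; exact ⟨u, hu, dvd_rfl⟩
  | zero => exact ⟨0, Ideal.zero_mem _, dvd_zero _⟩
  | add x y _ _ hx hy =>
    obtain ⟨u, hu, hux⟩ := hx
    obtain ⟨v, hv, hvy⟩ := hy
    rcases ValuationRing.dvd_total (g u) (g v) with h | h
    · exact ⟨u, hu, dvd_add hux (h.trans hvy)⟩
    · exact ⟨v, hv, dvd_add (h.trans hux) hvy⟩
  | smul a x _ hx => obtain ⟨u, hu, hux⟩ := hx; exact ⟨u, hu, hux.mul_left a⟩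

lemma desc {M M' K₁ : Type u} [Field M] [Field M'] [Field K₁] (ι : M →+* M') (W : ValuationSubring M) (W' : ValuationSubring M')
    (hiff : ∀ y, ι y ∈ W' ↔ y ∈ W) (U U' : ValuationSubring K₁) (hU : U = U') (g : U →+* W) (g' : U' →+* W')
    [IsLocalHom g] [IsLocalHom g'] (hg : ∀ (u : U) (u' : U'), (u : K₁) = u' → ι (g u) = g' u') :
    ((@EtRam.IsWeaklyUnramified U' W' _ _ _ _ g'.toAlgebra) → @EtRam.IsWeaklyUnramified U W _ _ _ _ g.toAlgebra) ∧
    ((@Algebra.IsGeometricallyReduced (IsLocalRing.ResidueField U') (IsLocalRing.ResidueField W') _ _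
        (IsLocalRing.ResidueField.map g').toAlgebra) →
      @Algebra.IsGeometricallyReduced (IsLocalRing.ResidueField U) (IsLocalRing.ResidueField W) _ _
        (IsLocalRing.ResidueField.map g).toAlgebra) := by
  subst hU
  let j : W →+* W' := RingHom.codRestrict (ι.comp W.subtype) W' fun w => (hiff _).mpr w.2
  have hjdiv : ∀ x y : W, j x ∣ j y → x ∣ y := by
    rintro x y ⟨w, hw⟩
    have hw' : ι y = ι x * (w : M') := congrArg Subtype.val hw
    by_cases hx : (x : M) = 0
    · refine ⟨0, Subtype.ext (ι.injective ?_)⟩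
      rw [hw', hx, map_zero, zero_mul]; simp
    refine ⟨⟨(x : M)⁻¹ * y, (hiff _).mp ?_⟩, Subtype.ext (mul_inv_cancel_left₀ hx _).symm⟩
    rw [map_mul, map_inv₀, hw', inv_mul_cancel_left₀ ((map_ne_zero _).mpr hx)]
    exact w.2
  haveI hjloc : IsLocalHom j := ⟨fun x hx => isUnit_of_dvd_one (hjdiv x 1 (by rw [map_one]; exact hx.dvd))⟩
  have hjg : ∀ u, j (g u) = g' u := fun u => Subtype.ext (hg u u rfl)
  constructor
  · intro h
    unfold EtRam.IsWeaklyUnramified at h ⊢
    rw [RingHom.algebraMap_toAlgebra] at h ⊢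
    refine le_antisymm (Ideal.map_le_iff_le_comap.mpr fun u hu => ?_) fun x hx => ?_
    · rw [Ideal.mem_comap, IsLocalRing.mem_maximalIdeal, mem_nonunits_iff, isUnit_map_iff]; exact hu
    · have hjx : j x ∈ IsLocalRing.maximalIdeal W' := by
        rw [IsLocalRing.mem_maximalIdeal, mem_nonunits_iff, isUnit_map_iff]; exact hx
      rw [← h] at hjx
      obtain ⟨u, hu, hdvd⟩ := exists_dvd_of_mem_map _ hjx
      rw [← hjg] at hdvd
      obtain ⟨w, rfl⟩ := hjdiv _ _ hdvd
      exact Ideal.mul_mem_right _ _ (Ideal.mem_map_of_mem g hu)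
  · intro h
    letI := (IsLocalRing.ResidueField.map g).toAlgebra
    letI := (IsLocalRing.ResidueField.map g').toAlgebra
    let f : IsLocalRing.ResidueField W →ₐ[IsLocalRing.ResidueField U] IsLocalRing.ResidueField W' :=
      { IsLocalRing.ResidueField.map j with
        commutes' := fun r => by
          obtain ⟨u, rfl⟩ := IsLocalRing.residue_surjective r
          show IsLocalRing.residue W' (j (g u)) = IsLocalRing.residue W' (g' u)
          rw [hjg] }
    exact @Algebra.IsGeometricallyReduced.of_injective _ _ _ _ _ _ _ _ f (RingHom.injective _) h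


/-- Let A -> B -> C be extensions of discrete valuation rings (local injective maps) with fraction
fields K ⊂ L ⊂ M₀ and K₁/K a finite extension. (The solution predicates mention only B, C and the
fields: in them the bottom ring is recovered as B ∩ K, which the hypotheses on A force to be A.) If
K₁ is a weak solution (resp. a solution) for A -> C then it is a weak solution (resp. a solution)
for A -> B. -/
theorem result (A B C K L M₀ K₁ : Type u) [CommRing A] [IsDomain A] [IsDiscreteValuationRing A]
    [CommRing B] [IsDomain B] [IsDiscreteValuationRing B] [Algebra A B] [IsLocalHom (algebraMap A B)]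
    (hinjA : Function.Injective (algebraMap A B))
    [CommRing C] [IsDomain C] [IsDiscreteValuationRing C] [Algebra B C] [IsLocalHom (algebraMap B C)]
    (hinj : Function.Injective (algebraMap B C))
    [Field K] [Field L] [Field M₀] [Field K₁] [Algebra K L] [Algebra K M₀] [Algebra L M₀] [IsScalarTower K L M₀]
    [Algebra K K₁] [FiniteDimensional K K₁] [Algebra A K] [IsFractionRing A K]
    [Algebra B L] [IsFractionRing B L] [Algebra A L] [IsScalarTower A K L] [IsScalarTower A B L]
    [Algebra C M₀] [IsFractionRing C M₀] [Algebra B M₀]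
    [IsScalarTower B C M₀] [IsScalarTower B L M₀] :
    (EtRam.IsWeakSolution C K M₀ K₁ → EtRam.IsWeakSolution B K L K₁) ∧
    (EtRam.IsSolution C K M₀ K₁ → EtRam.IsSolution B K L K₁) := by
  classical
  have main : ∀ (M : Type u) [Field M] [Algebra K M] [Algebra L M] [Algebra K₁ M] [IsScalarTower K L M] [IsScalarTower K K₁ M],
      Algebra.adjoin L (Set.range (algebraMap K₁ M)) = ⊤ →
      ∀ W : ValuationSubring M, EtRam.Dominates B ((algebraMap L M).comp (algebraMap B L)) W →
      ∃ (M' : Type u) (_ : Field M') (_ : Algebra K M') (_ : Algebra M₀ M') (_ : Algebra K₁ M')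
        (_ : IsScalarTower K M₀ M') (_ : IsScalarTower K K₁ M') (ι : M →+* M') (W' : ValuationSubring M'),
        Algebra.adjoin M₀ (Set.range (algebraMap K₁ M')) = ⊤ ∧
        EtRam.Dominates C ((algebraMap M₀ M').comp (algebraMap C M₀)) W' ∧
        ι.comp (algebraMap K₁ M) = algebraMap K₁ M' ∧ ∀ y, ι y ∈ W' ↔ y ∈ W := by
    intro M _ _ _ _ _ _ hgen W hW
    let gB : B →+* W := RingHom.codRestrict ((algebraMap L M).comp (algebraMap B L)) W hW.1
    letI : Algebra B W := gB.toAlgebra
    have hgB : ∀ b, ((algebraMap B W b : W) : M) = algebraMap L M (algebraMap B L b) := fun b => rfl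
    haveI : IsLocalHom (algebraMap B W) := ⟨fun b hb => by
      by_contra hnu
      exact ((W.valuation_lt_one_iff _).mpr (hW.2 b hnu)) hb⟩
    have hBW : Function.Injective (algebraMap B W) := fun x y h =>
      IsFractionRing.injective B L ((algebraMap L M).injective (congrArg Subtype.val h))
    obtain ⟨F, _, a, c, V, ha, hc, hac, haV, hcV, haV', hcV'⟩ := exists_amalgam (B := B) (W := W) (C := C) hBW hinj
    let aM : M →+* F := IsFractionRing.lift (A := W) (K := M) ha
    let cM : M₀ →+* F := IsFractionRing.lift (A := C) (K := M₀) hc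
    have haM : ∀ w : W, aM (w : M) = a w := fun w => IsFractionRing.lift_algebraMap ha w
    have hcM : ∀ x : C, cM (algebraMap C M₀ x) = c x := fun x => IsFractionRing.lift_algebraMap hc x
    have hL : aM.comp (algebraMap L M) = cM.comp (algebraMap L M₀) := by
      refine IsLocalization.ringHom_ext (nonZeroDivisors B) (RingHom.ext fun b => ?_)
      simp only [RingHom.comp_apply]
      rw [← hgB, haM, ← IsScalarTower.algebraMap_apply B L M₀, IsScalarTower.algebraMap_apply B C M₀, hcM]
      exact RingHom.congr_fun hac b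
    letI : Algebra M₀ F := cM.toAlgebra
    letI : Algebra K F := (cM.comp (algebraMap K M₀)).toAlgebra
    haveI : IsScalarTower K M₀ F := IsScalarTower.of_algebraMap_eq fun _ => rfl
    have hK : ∀ x, aM (algebraMap K M x) = cM (algebraMap K M₀ x) := fun x => by
      rw [IsScalarTower.algebraMap_apply K L M, IsScalarTower.algebraMap_apply K L M₀]
      exact RingHom.congr_fun hL _
    let k1 : K₁ →ₐ[K] F := ⟨aM.comp (algebraMap K₁ M), fun x => by
      show aM (algebraMap K₁ M (algebraMap K K₁ x)) = _
      rw [← IsScalarTower.algebraMap_apply]; exact hK x⟩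
    let S : IntermediateField M₀ F := IntermediateField.adjoin M₀ (Set.range k1)
    have hmemS : ∀ x, k1 x ∈ S := fun x => IntermediateField.subset_adjoin _ _ ⟨x, rfl⟩
    have hM : ∀ m, aM m ∈ S := by
      intro m
      have hm : m ∈ Algebra.adjoin L (Set.range (algebraMap K₁ M)) := hgen ▸ Algebra.mem_top
      induction hm using Algebra.adjoin_induction with
      | mem x hx => obtain ⟨y, rfl⟩ := hx; exact hmemS y
      | algebraMap l =>
        rw [← RingHom.comp_apply, hL, RingHom.comp_apply]
        exact S.algebraMap_mem _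
      | add x y _ _ hx hy => rw [map_add]; exact add_mem hx hy
      | mul x y _ _ hx hy => rw [map_mul]; exact mul_mem hx hy
    letI : Algebra K₁ S := (k1.toRingHom.codRestrict S hmemS).toAlgebra
    haveI : IsScalarTower K K₁ S := IsScalarTower.of_algebraMap_eq fun x => Subtype.ext (k1.commutes x).symm
    refine ⟨S, inferInstance, inferInstance, inferInstance, inferInstance, inferInstance, inferInstance,
      aM.codRestrict S hM, V.comap (algebraMap S F), ?_, ⟨fun x => ?_, fun x hx => ?_⟩, ?_, fun y => ?_⟩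
    · have halg : ∀ x ∈ Set.range k1, IsAlgebraic M₀ x := by
        rintro _ ⟨x, rfl⟩
        exact ((Algebra.IsAlgebraic.isAlgebraic (R := K) x).algHom k1).tower_top M₀
      have hS : S.toSubalgebra = Algebra.adjoin M₀ (Set.range k1) := IntermediateField.adjoin_toSubalgebra_of_isAlgebraic halg
      rw [eq_top_iff]
      rintro ⟨y, hy⟩ -
      have hy' : y ∈ Algebra.adjoin M₀ (Set.range k1) := hS ▸ hy
      have himg : (Algebra.adjoin M₀ (Set.range (algebraMap K₁ S))).map S.val = Algebra.adjoin M₀ (Set.range k1) := by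
        rw [AlgHom.map_adjoin, ← Set.range_comp]; rfl
      rw [← himg] at hy'
      obtain ⟨z, hz, hzy⟩ := hy'
      rwa [show (⟨y, hy⟩ : S) = z from Subtype.ext hzy.symm]
    · show cM (algebraMap C M₀ x) ∈ V
      rw [hcM]; exact hcV x
    · refine ((V.comap (algebraMap S F)).valuation_lt_one_iff ⟨_, ?_⟩).mp ?_
      · show cM (algebraMap C M₀ x) ∈ V
        rw [hcM]; exact hcV x
      · intro hu
        have hu2 := hu.map (RingHom.codRestrict ((algebraMap S F).comp (V.comap (algebraMap S F)).subtype) V fun v => v.2)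
        refine ((V.valuation_lt_one_iff _).mpr ?_) hu2
        show V.valuation (cM (algebraMap C M₀ x)) < 1
        rw [hcM]; exact hcV' x hx
    · exact RingHom.ext fun x => rfl
    · show aM y ∈ V ↔ y ∈ W
      exact comap_eq_of_dominates aM W V (fun w => by rw [haM]; exact haV w) (fun w hw => by rw [haM]; exact haV' w hw) y
  have descend : ∀ (M M' : Type u) [Field M] [Field M'] (f : K₁ →+* M) (f' : K₁ →+* M') (ι : M →+* M') (W : ValuationSubring M)
      (W' : ValuationSubring M'), ι.comp f = f' → (∀ y, ι y ∈ W' ↔ y ∈ W) →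
      ((@EtRam.IsWeaklyUnramified (W'.comap f') W' _ _ _ _ (EtRam.inclOfComap W' f').toAlgebra) →
        @EtRam.IsWeaklyUnramified (W.comap f) W _ _ _ _ (EtRam.inclOfComap W f).toAlgebra) ∧
      ((@Algebra.IsGeometricallyReduced (IsLocalRing.ResidueField (W'.comap f')) (IsLocalRing.ResidueField W') _ _
        (IsLocalRing.ResidueField.map (EtRam.inclOfComap W' f')).toAlgebra) →
      @Algebra.IsGeometricallyReduced (IsLocalRing.ResidueField (W.comap f)) (IsLocalRing.ResidueField W) _ _
        (IsLocalRing.ResidueField.map (EtRam.inclOfComap W f)).toAlgebra) := by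
    intro M M' _ _ f f' ι W W' hf hiff
    subst hf
    exact desc ι W W' hiff (W.comap f) (W'.comap (ι.comp f)) (SetLike.ext fun x => (hiff (f x)).symm)
      (EtRam.inclOfComap W f) (EtRam.inclOfComap W' (ι.comp f)) (fun u u' hu => congrArg (fun z => ι (f z)) hu)
  refine ⟨fun h M _ _ _ _ _ _ hgen W hW => ?_, fun h M _ _ _ _ _ _ hgen W hW => ?_⟩
  all_goals
    obtain ⟨M', _, _, _, _, _, _, ι, W', hgen', hW', hι, hiff⟩ := main M hgen W hW
    have hh := h M' hgen' W' hW'
    obtain ⟨d1, d2⟩ := descend M M' (algebraMap K₁ M) (algebraMap K₁ M') ι W W' hι hiff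
  · exact d1 hh
  · exact ⟨d1 hh.1, d2 hh.2⟩

end Groth.Agent.S1988
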