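import Groth.Statements.S19889
import Groth.Agent.GrpSch.TorsionLift

set_option autoImplicit false
universe u
open CategoryTheory CategoryTheory.Limits MonoidalCategory CartesianMonoidalCategory MonObj GrpObj AlgebraicGeometry
open GrpSch

namespace Groth.Agent.S19889

/-- Let k be an algebraically closed field, G a commutative group scheme locally of finite type over k,
and i : G⁰ → G its identity component (a homomorphism that is an open immersion onto the connected
component of the unit point). Then the natural map from the torsion subgroup of G(k) to the torsion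
subgroup of G(k)/G⁰(k) is surjective: if g is a k-point of G and gⁿ lies in G⁰(k) for some n ≥ 1,
then there is a k-point t of G of finite order such that t⁻¹ g lies in G⁰(k). -/
theorem result (k : Type u) [Field k] [IsAlgClosed k]
    {G G0 : Over (Spec (CommRingCat.of k))} [GrpObj G] [IsCommMonObj G] [GrpObj G0]
    [LocallyOfFiniteType G.hom] (i : G0 ⟶ G) [IsMonHom i] (hi : AutSch.IsIdComp i)
    (g : 𝟙_ (Over (Spec (CommRingCat.of k))) ⟶ G) (n : ℕ) (hn : 0 < n)
    (hg : g ^ n ∈ AutSch.ptsRange i) :
    ∃ t : 𝟙_ (Over (Spec (CommRingCat.of k))) ⟶ G, IsOfFinOrder t ∧ t⁻¹ * g ∈ AutSch.ptsRange i := by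
  obtain ⟨h1, h2, h3⟩ := hi
  haveI := h2
  haveI : LocallyOfFiniteType G0.hom := by rw [← Over.w i]; infer_instance
  haveI : ConnectedSpace G0.left := by
    have hr : Set.range i.left.base = connectedComponent (η[G].left (IsLocalRing.closedPoint k)) := by
      rw [h3, SGA3x.neutralSet]
      haveI hsub : Subsingleton ↥(𝟙_ (Over (Spec (CommRingCat.of k)))).left :=
        inferInstanceAs (Subsingleton (PrimeSpectrum k))
      refine Set.Subset.antisymm (Set.iUnion_subset fun p => ?_) fun z hz =>
        Set.mem_iUnion.2 ⟨IsLocalRing.closedPoint k, ?_⟩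
      · rw [show p = IsLocalRing.closedPoint k from hsub.elim _ _]
        intro z hz; have hmem : η[G].left.base (IsLocalRing.closedPoint k) ∈ connectedComponentIn _ _ := mem_connectedComponentIn (connectedComponentIn_nonempty_iff.1 ⟨z, hz⟩); exact isPreconnected_connectedComponentIn.subset_connectedComponent hmem hz
      · have huniv : (G.hom.base ⁻¹' {(𝟙_ (Over (Spec (CommRingCat.of k)))).hom.base (IsLocalRing.closedPoint k)}) = Set.univ :=
          Set.eq_univ_of_forall fun w => Subsingleton.elim (α := PrimeSpectrum k) _ _
        rw [huniv, connectedComponentIn_univ]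
        exact hz
    have hc : _root_.IsConnected (Set.range i.left.base) := hr ▸ isConnected_connectedComponent
    haveI : ConnectedSpace ↥(Set.range i.left.base) := isConnected_iff_connectedSpace.1 hc
    exact i.left.isOpenEmbedding.isEmbedding.toHomeomorph.symm.surjective.connectedSpace
      i.left.isOpenEmbedding.isEmbedding.toHomeomorph.symm.continuous
  haveI : IrreducibleSpace G0.left := Groth.Agent.GrpSch.irreducibleSpace_of_connectedSpace G0
  haveI : CompactSpace G0.left := Groth.Agent.GrpSch.compactSpace_of_irreducibleSpace G0
  obtain ⟨x, hx⟩ := hg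
  exact Groth.Agent.GrpSch.TorsionLift.exists_torsion i g n hn x hx

end Groth.Agent.S19889
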