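import Groth.Statements.S1989
import Mathlib

set_option autoImplicit false
universe u
open EtAlg

namespace Groth.Agent.S1989

open IsLocalRing in
lemma key {A V W : Type u} [CommRing A] [IsDomain A] [IsDiscreteValuationRing A] [CommRing V] [IsDomain V] [IsLocalRing V]
    [CommRing W] [IsDomain W] [ValuationRing W] [Algebra A V] [Algebra A W] [Algebra V W] [IsScalarTower A V W]
    (hinj : Function.Injective (algebraMap A V)) (hVW : Function.Injective (algebraMap V W))
    [IsLocalHom (algebraMap A V)] [IsLocalHom (algebraMap V W)] [IsLocalHom (algebraMap A W)]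
    (hdiv : ∀ x y : V, algebraMap V W x ∣ algebraMap V W y → x ∣ y)
    [Algebra.IsSeparable (ResidueField A) (ResidueField W)] :
    Algebra.IsSeparable (ResidueField A) (ResidueField V) ∧
    (EtRam.IsWeaklyUnramified A W → EtRam.IsWeaklyUnramified A V) ∧
    ∀ p : ℕ, ¬ p ∣ Ideal.ramificationIdx' (maximalIdeal A) (maximalIdeal W) →
      ¬ p ∣ Ideal.ramificationIdx' (maximalIdeal A) (maximalIdeal V) := by
  classical
  obtain ⟨π, hπ⟩ := IsDiscreteValuationRing.exists_irreducible A
  have hm : maximalIdeal A = Ideal.span {π} := (IsDiscreteValuationRing.irreducible_iff_uniformizer π).mp hπ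
  have hπm : π ∈ maximalIdeal A := by rw [hm]; exact Ideal.mem_span_singleton_self π
  have hπV : algebraMap A V π ∈ maximalIdeal V := by
    rw [mem_maximalIdeal, mem_nonunits_iff, isUnit_map_iff]; exact hπ.not_isUnit
  have hmapV : (maximalIdeal A).map (algebraMap A V) = Ideal.span {algebraMap A V π} := by
    rw [hm, Ideal.map_span, Set.image_singleton]
  have hmapW : (maximalIdeal A).map (algebraMap A W) = Ideal.span {algebraMap V W (algebraMap A V π)} := by
    rw [hm, Ideal.map_span, Set.image_singleton, ← IsScalarTower.algebraMap_apply]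
  have hπ0 : algebraMap A V π ≠ 0 := (map_ne_zero_iff _ hinj).mpr hπ.ne_zero
  refine ⟨?_, ?_, ?_⟩
  · letI := (ResidueField.map (algebraMap V W)).toAlgebra
    haveI : IsScalarTower (ResidueField A) (ResidueField V) (ResidueField W) := by
      refine IsScalarTower.of_algebraMap_eq fun x => ?_
      obtain ⟨a, rfl⟩ := residue_surjective x
      show residue W (algebraMap A W a) = residue W (algebraMap V W (algebraMap A V a))
      rw [← IsScalarTower.algebraMap_apply]
    exact Algebra.isSeparable_tower_bot_of_isSeparable (ResidueField A) (ResidueField V) (ResidueField W)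
  · intro h
    rw [EtRam.IsWeaklyUnramified, hmapV]
    refine le_antisymm ((Ideal.span_singleton_le_iff_mem _).mpr hπV) fun x hx => Ideal.mem_span_singleton.mpr (hdiv _ _ ?_)
    rw [← Ideal.mem_span_singleton, ← hmapW, h, mem_maximalIdeal, mem_nonunits_iff, isUnit_map_iff]
    exact hx
  · intro p hp
    set n := Ideal.ramificationIdx' (maximalIdeal A) (maximalIdeal W) with hn
    have hn0 : n ≠ 0 := fun h => hp (h ▸ dvd_zero p)
    have hne : ¬ (∀ k : ℕ, ∃ j, (maximalIdeal A).map (algebraMap A W) ≤ maximalIdeal W ^ j ∧ k < j) :=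
      fun h => hn0 (Ideal.ramificationIdx'_eq_zero h)
    obtain ⟨t, ht, ht'⟩ : ∃ t ∈ maximalIdeal W, t ∉ maximalIdeal W ^ 2 := by
      by_contra hc
      push Not at hc
      have hidem : ∀ j, maximalIdeal W ≤ maximalIdeal W ^ (j + 1) := by
        intro j
        induction j with
        | zero => rw [pow_one]
        | succ j ih =>
          calc maximalIdeal W ≤ maximalIdeal W ^ 2 := hc
            _ = maximalIdeal W * maximalIdeal W := pow_two _
            _ ≤ maximalIdeal W * maximalIdeal W ^ (j + 1) := Ideal.mul_mono_right ih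
            _ = _ := (pow_succ' _ _).symm
      refine hne fun k => ⟨k + 1, le_trans ?_ (hidem k), Nat.lt_succ_self k⟩
      rw [hmapW, Ideal.span_singleton_le_iff_mem, mem_maximalIdeal, mem_nonunits_iff, isUnit_map_iff]
      exact hπV
    have hmW : maximalIdeal W = Ideal.span {t} := by
      refine le_antisymm (fun s hs => ?_) ((Ideal.span_singleton_le_iff_mem _).mpr ht)
      rcases ValuationRing.dvd_total t s with h | ⟨c, hc⟩
      · exact Ideal.mem_span_singleton.mpr h
      · by_cases hu : IsUnit c
        · exact Ideal.mem_span_singleton.mpr ⟨↑hu.unit⁻¹, by rw [hc, mul_assoc, hu.mul_val_inv, mul_one]⟩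
        · exact absurd (hc ▸ pow_two (maximalIdeal W) ▸ Ideal.mul_mem_mul hs hu) ht'
    have hspec : (maximalIdeal A).map (algebraMap A W) ≤ maximalIdeal W ^ n :=
      Ideal.le_pow_of_le_ramificationIdx' le_rfl
    have hspec' : ¬ (maximalIdeal A).map (algebraMap A W) ≤ maximalIdeal W ^ (n + 1) := by
      intro h
      refine hne fun k => ?_
      by_contra hk
      push Not at hk
      have hbdd : BddAbove {j | (maximalIdeal A).map (algebraMap A W) ≤ maximalIdeal W ^ j} := ⟨k, fun j hj => hk j hj⟩
      have hle : n + 1 ≤ n := le_csSup hbdd h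
      omega
    rw [hmapW, hmW, Ideal.span_singleton_pow, Ideal.span_singleton_le_span_singleton] at hspec hspec'
    obtain ⟨c, hc⟩ := hspec
    have hcu : IsUnit c := by
      by_contra hcu
      obtain ⟨d, rfl⟩ : t ∣ c := Ideal.mem_span_singleton.mp (hmW ▸ hcu)
      exact hspec' ⟨d, by rw [hc]; ring⟩
    have ht0 : t ≠ 0 := fun h => (map_ne_zero_iff _ hVW).mpr hπ0 (by rw [hc, h, zero_pow hn0, zero_mul])
    let S : Set ℕ := {j | j ≠ 0 ∧ ∃ x : V, Associated (algebraMap V W x) (t ^ j)}
    have hnS : n ∈ S := ⟨hn0, algebraMap A V π, by rw [hc]; exact associated_mul_unit_left _ _ hcu⟩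
    have hex : ∃ j, j ∈ S := ⟨n, hnS⟩
    obtain ⟨hj0, x, hx⟩ := Nat.find_spec hex
    set j := Nat.find hex with hj
    have hdvd : j ∣ n := by
      obtain ⟨y, hy⟩ : ∃ y, algebraMap A V π = x ^ (n / j) * y := by
        refine hdiv _ _ ?_
        rw [map_pow]
        refine ((hx.pow_pow (n := n / j)).dvd).trans ?_
        rw [← pow_mul, hc]
        exact (pow_dvd_pow t (Nat.mul_div_le n j)).mul_right c
      by_contra hnd
      have hr : n % j ∈ S := by
        refine ⟨fun h => hnd (Nat.dvd_of_mod_eq_zero h), y, ?_⟩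
        have h1 : Associated (algebraMap V W x ^ (n / j) * algebraMap V W y) (t ^ (j * (n / j)) * t ^ (n % j)) := by
          rw [← pow_add, Nat.div_add_mod, ← map_pow, ← map_mul, ← hy, hc]
          exact associated_mul_unit_left _ _ hcu
        refine h1.of_mul_left ?_ (pow_ne_zero _ ?_)
        · rw [pow_mul]; exact hx.pow_pow
        · exact fun h0 => pow_ne_zero _ ht0 (hx.eq_zero_iff.mp h0)
      exact absurd (Nat.mod_lt n (Nat.pos_of_ne_zero hj0)) (not_lt.mpr (Nat.find_le hr))
    obtain ⟨q, hq⟩ := hdvd
    have hxV : x ∈ maximalIdeal V := by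
      intro hu
      have := hx.isUnit (hu.map (algebraMap V W))
      rw [isUnit_pow_iff hj0] at this
      exact ht this
    have hmV : maximalIdeal V = Ideal.span {x} := by
      refine le_antisymm (fun y hy => Ideal.mem_span_singleton.mpr (hdiv _ _ (hx.dvd.trans ?_))) ((Ideal.span_singleton_le_iff_mem _).mpr hxV)
      by_contra hnd
      have hlt : ∃ i, ¬ t ^ i ∣ algebraMap V W y := ⟨j, hnd⟩
      set i := Nat.find hlt with hi
      have hi0 : i ≠ 0 := fun h => Nat.find_spec hlt (by rw [← hi, h, pow_zero]; exact one_dvd _)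
      have hij : i ≤ j := Nat.find_le hnd
      obtain ⟨d, hd⟩ : t ^ (i - 1) ∣ algebraMap V W y := not_not.mp (Nat.find_min hlt (show i - 1 < i by omega))
      have hdu : IsUnit d := by
        by_contra hdu
        obtain ⟨d', rfl⟩ : t ∣ d := Ideal.mem_span_singleton.mp (hmW ▸ hdu)
        refine Nat.find_spec hlt ⟨d', ?_⟩
        rw [← hi, hd, ← mul_assoc, ← pow_succ, show i - 1 + 1 = i by omega]
      have hi1 : i - 1 ≠ 0 := by
        intro h
        rw [h, pow_zero, one_mul] at hd
        exact hy ((isUnit_map_iff (algebraMap V W) y).mp (hd ▸ hdu))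
      have hmem : i - 1 ∈ S := ⟨hi1, y, by rw [hd]; exact associated_mul_unit_left _ _ hdu⟩
      have := Nat.find_le (h := hex) hmem
      omega
    have hπx : Associated (algebraMap A V π) (x ^ q) := by
      have h1 : Associated (algebraMap V W (algebraMap A V π)) (algebraMap V W (x ^ q)) := by
        rw [hc, map_pow, hq]
        refine (associated_mul_unit_left _ _ hcu).trans ?_
        rw [pow_mul]
        exact hx.symm.pow_pow
      exact associated_of_dvd_dvd (hdiv _ _ h1.dvd) (hdiv _ _ h1.symm.dvd)
    have he : Ideal.ramificationIdx' (maximalIdeal A) (maximalIdeal V) = q := by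
      refine Ideal.ramificationIdx'_spec ?_ ?_
      · rw [hmapV, hmV, Ideal.span_singleton_pow, Ideal.span_singleton_le_span_singleton]
        exact hπx.symm.dvd
      · rw [hmapV, hmV, Ideal.span_singleton_pow, Ideal.span_singleton_le_span_singleton]
        intro h
        have hx0 : x ≠ 0 := fun h0 => pow_ne_zero j ht0 (hx.eq_zero_iff.mp (by rw [h0, map_zero]))
        have h2 : x ^ q * x ∣ x ^ q * 1 := by rw [← pow_succ, mul_one]; exact h.trans hπx.dvd
        exact hxV (isUnit_of_dvd_one ((mul_dvd_mul_iff_left (pow_ne_zero _ hx0)).mp h2))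
    rw [he]
    exact fun h => hp (h.trans (hq ▸ dvd_mul_left q j))

lemma exists_ext {L M : Type u} [Field L] [Field M] [Algebra L M] (V : ValuationSubring L) :
    ∃ W : ValuationSubring M, (∀ y : L, algebraMap L M y ∈ W ↔ y ∈ V) ∧
      ∀ v : V, W.valuation (algebraMap L M v) < 1 ↔ V.valuation v < 1 := by
  let f : V →+* M := (algebraMap L M).comp V.subtype
  obtain ⟨W, hle, hloc⟩ := (LocalSubring.range f).exists_le_valuationSubring
  have hmem : ∀ v : V, algebraMap L M v ∈ W := fun v => hle ⟨v, rfl⟩
  let g : V →+* W := f.codRestrict W hmem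
  haveI hg : IsLocalHom g := by
    constructor
    intro v hv
    have h1 : IsUnit (⟨f v, v, rfl⟩ : f.range) := hloc.map_nonunit (⟨f v, v, rfl⟩ : f.range) hv
    obtain ⟨⟨_, w, rfl⟩, hw⟩ := isUnit_iff_exists_inv.mp h1
    have hw' : f (v * w) = f 1 := by rw [map_mul, map_one]; exact congrArg Subtype.val hw
    exact IsUnit.of_mul_eq_one w (Subtype.ext ((algebraMap L M).injective hw'))
  have hiff : ∀ v : V, W.valuation (algebraMap L M v) < 1 ↔ V.valuation v < 1 := by
    intro v
    have h1 := W.valuation_lt_one_iff (g v)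
    have h2 := V.valuation_lt_one_iff v
    rw [← h2, show algebraMap L M v = ((g v : W) : M) from rfl, ← h1, IsLocalRing.mem_maximalIdeal, IsLocalRing.mem_maximalIdeal, mem_nonunits_iff, mem_nonunits_iff, isUnit_map_iff]
  refine ⟨W, fun y => ⟨fun hy => ?_, fun hy => hmem ⟨y, hy⟩⟩, hiff⟩
  by_contra hyV
  have hinv : y⁻¹ ∈ V := (V.mem_or_inv_mem y).resolve_left hyV
  have hy0 : y ≠ 0 := fun h => hyV (h ▸ V.zero_mem)
  have hu : IsUnit (g ⟨y⁻¹, hinv⟩) := IsUnit.of_mul_eq_one ⟨_, hy⟩ (Subtype.ext (by
    show algebraMap L M y⁻¹ * algebraMap L M y = 1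
    rw [← map_mul, inv_mul_cancel₀ hy0, map_one]))
  obtain ⟨u, hu'⟩ := isUnit_iff_exists_inv.mp ((isUnit_map_iff g _).mp hu)
  have h3 : y⁻¹ * (u : L) = 1 := congrArg Subtype.val hu'
  exact hyV (inv_inv y ▸ (eq_inv_of_mul_eq_one_right h3) ▸ u.2)


/-- Let K be the fraction field of a discrete valuation ring A, and K ⊂ L ⊂ M finite separable
extensions. If M is tamely ramified, respectively unramified, with respect to A, then so is L. -/
theorem result (A K : Type u) [CommRing A] [IsDomain A] [IsDiscreteValuationRing A] [Field K] [Algebra A K] [IsFractionRing A K] (L M : Type u) [Field L] [Field M]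
    [Algebra K L] [Algebra K M] [Algebra L M] [IsScalarTower K L M] [FiniteDimensional K M] [Algebra.IsSeparable K M] :
    (EtRam.IsTamelyRamified A ((algebraMap K M).comp (algebraMap A K)) →
      EtRam.IsTamelyRamified A ((algebraMap K L).comp (algebraMap A K))) ∧
    (EtRam.IsUnramifiedExt A ((algebraMap K M).comp (algebraMap A K)) →
      EtRam.IsUnramifiedExt A ((algebraMap K L).comp (algebraMap A K))) := by
  have main : ∀ (V : ValuationSubring L) (h : EtRam.Dominates A ((algebraMap K L).comp (algebraMap A K)) V),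
      ∃ (W : ValuationSubring M) (hW : EtRam.Dominates A ((algebraMap K M).comp (algebraMap A K)) W),
      (letI : Algebra A V := (RingHom.codRestrict ((algebraMap K L).comp (algebraMap A K)) V h.1).toAlgebra
      letI : Algebra A W := (RingHom.codRestrict ((algebraMap K M).comp (algebraMap A K)) W hW.1).toAlgebra
      ∀ [IsLocalHom (algebraMap A V)], ∃ _ : IsLocalHom (algebraMap A W),
        Algebra.IsSeparable (IsLocalRing.ResidueField A) (IsLocalRing.ResidueField W) →
        Algebra.IsSeparable (IsLocalRing.ResidueField A) (IsLocalRing.ResidueField V) ∧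
        (EtRam.IsWeaklyUnramified A W → EtRam.IsWeaklyUnramified A V) ∧
        ∀ p : ℕ, ¬ p ∣ Ideal.ramificationIdx' (IsLocalRing.maximalIdeal A) (IsLocalRing.maximalIdeal W) →
          ¬ p ∣ Ideal.ramificationIdx' (IsLocalRing.maximalIdeal A) (IsLocalRing.maximalIdeal V)) := by
    intro V h
    obtain ⟨W, hW1, hW2⟩ := exists_ext (M := M) V
    have hcomp : ∀ a, (algebraMap K M).comp (algebraMap A K) a = algebraMap L M ((algebraMap K L).comp (algebraMap A K) a) :=
      fun a => IsScalarTower.algebraMap_apply K L M _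
    have hW : EtRam.Dominates A ((algebraMap K M).comp (algebraMap A K)) W :=
      ⟨fun a => by rw [hcomp]; exact (hW1 _).mpr (h.1 a), fun a ha => by rw [hcomp]; exact (hW2 ⟨_, h.1 a⟩).mpr (h.2 a ha)⟩
    refine ⟨W, hW, ?_⟩
    intro hloc
    letI : Algebra A V := (RingHom.codRestrict ((algebraMap K L).comp (algebraMap A K)) V h.1).toAlgebra
    letI : Algebra A W := (RingHom.codRestrict ((algebraMap K M).comp (algebraMap A K)) W hW.1).toAlgebra
    letI : Algebra V W := (((algebraMap L M).comp V.subtype).codRestrict W fun v => (hW1 _).mpr v.2).toAlgebra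
    haveI : IsScalarTower A V W := IsScalarTower.of_algebraMap_eq fun a => Subtype.ext (hcomp a)
    haveI hVW : IsLocalHom (algebraMap V W) := ⟨fun v hv => by
      by_contra hnu
      exact ((W.valuation_lt_one_iff _).mpr ((hW2 v).mpr ((V.valuation_lt_one_iff v).mp hnu))) hv⟩
    haveI hlA : IsLocalHom (algebraMap A W) := by
      rw [IsScalarTower.algebraMap_eq A V W]; exact RingHom.isLocalHom_comp _ _
    refine ⟨hlA, fun hsep => ?_⟩
    refine key ?_ ?_ ?_
    · intro a b hab
      exact IsFractionRing.injective A K ((algebraMap K L).injective (congrArg Subtype.val hab))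
    · intro a b hab
      exact Subtype.ext ((algebraMap L M).injective (congrArg Subtype.val hab))
    · rintro x y ⟨w, hw⟩
      by_cases hx : (x : L) = 0
      · have : x = 0 := Subtype.ext hx
        subst this
        rw [map_zero, zero_mul] at hw
        exact ⟨0, by rw [zero_mul]; exact Subtype.ext ((algebraMap L M).injective (congrArg Subtype.val hw |>.trans (map_zero _).symm))⟩
      refine ⟨⟨(x : L)⁻¹ * y, (hW1 _).mp ?_⟩, Subtype.ext (mul_inv_cancel_left₀ hx _).symm⟩
      have hw' : algebraMap L M y = algebraMap L M x * (w : M) := congrArg Subtype.val hw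
      rw [map_mul, map_inv₀, hw', inv_mul_cancel_left₀ ((map_ne_zero _).mpr hx)]
      exact w.2
  refine ⟨fun hM V h => ?_, fun hM V h => ?_⟩
  all_goals
    intro hloc
    obtain ⟨W, hW, hk⟩ := main V h
    obtain ⟨hl, hk⟩ := @hk hloc
    have hMW := @hM W hW hl
  · obtain ⟨h1, h2, h3⟩ := hk hMW.1
    exact ⟨h1, fun p hp hc => h3 p (hMW.2 p hp hc)⟩
  · obtain ⟨h1, h2, h3⟩ := hk hMW.2
    exact ⟨h2 hMW.1, h1⟩

end Groth.Agent.S1989
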