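import Groth.Statements.S19890
import Groth.Agent.S17722
import Mathlib.RingTheory.Flat.EquationalCriterion
import Mathlib.RingTheory.UniqueFactorizationDomain.Defs
import Mathlib.RingTheory.Ideal.Colon
import Mathlib.RingTheory.UniqueFactorizationDomain.GCDMonoid

set_option autoImplicit false
universe u
open CAlg

namespace Groth.Agent.S19890

/-- Let R → R' be a faithfully flat ring map between Noetherian integrally closed local domains. Then
unique factorization descends along this map: when R' is a UFD, so is R. (The first assertion of the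
lemma, descent of principality for an ideal whose extension to R' is principal, is a separate
statement.) -/
theorem result
    (R R' : Type u) [CommRing R] [CommRing R'] [IsDomain R] [IsDomain R']
    [IsNoetherianRing R] [IsNoetherianRing R'] [IsLocalRing R] [IsLocalRing R']
    [IsIntegrallyClosed R] [IsIntegrallyClosed R']
    [Algebra R R'] [Module.FaithfullyFlat R R'] [UniqueFactorizationMonoid R'] :
    UniqueFactorizationMonoid R := by
  classical
  let colonR : R → R → Ideal R := fun a b => LinearMap.ker ((Submodule.mkQ (Ideal.span {a})) ∘ₗ LinearMap.mulRight R b)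
  have hmem : ∀ a b x : R, x ∈ colonR a b ↔ a ∣ x * b := fun a b x => by
    show Submodule.Quotient.mk (x * b) = 0 ↔ _
    rw [Submodule.Quotient.mk_eq_zero, Ideal.mem_span_singleton]
  have hprinc : ∀ a b : R, (colonR a b).IsPrincipal := by
    intro a b
    rcases eq_or_ne b 0 with rfl | hb
    · refine ⟨1, Submodule.ext fun x => ?_⟩
      simp [hmem, Ideal.submodule_span_eq]
    apply Groth.Agent.S17722.result R R'
    let a' := algebraMap R R' a
    let b' := algebraMap R R' b
    have hinj := FaithfulSMul.algebraMap_injective R R'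
    have hmap : ∀ z : R', z ∈ (colonR a b).map (algebraMap R R') ↔ a' ∣ z * b' := by
      intro z
      refine ⟨fun hz => ?_, fun ⟨s, hs⟩ => ?_⟩
      · have : (colonR a b).map (algebraMap R R') ≤ LinearMap.ker ((Submodule.mkQ (Ideal.span {a'})) ∘ₗ LinearMap.mulRight R' b') := by
          refine Ideal.map_le_iff_le_comap.mpr fun x hx => ?_
          rw [Ideal.mem_comap, LinearMap.mem_ker]
          simp only [LinearMap.comp_apply, LinearMap.mulRight_apply, Submodule.mkQ_apply, Submodule.Quotient.mk_eq_zero, Ideal.mem_span_singleton, b', a', ← map_mul]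
          exact map_dvd _ ((hmem a b x).mp hx)
        exact Ideal.mem_span_singleton.mp ((Submodule.Quotient.mk_eq_zero _).mp (LinearMap.mem_ker.mp (this hz)))
      · have h0 : ∑ i : Fin 2, ![b, -a] i • ![z, s] i = 0 := by
          simp [Fin.sum_univ_two, Algebra.smul_def]
          linear_combination hs
        obtain ⟨k, A, y, hy, hA⟩ := Module.Flat.isTrivialRelation_of_sum_smul_eq_zero h0
        have h1 := hy 0
        simp only [Matrix.cons_val_zero] at h1
        rw [h1]
        refine Submodule.sum_mem _ fun j _ => ?_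
        rw [Algebra.smul_def]
        refine Ideal.mul_mem_right _ _ (Ideal.mem_map_of_mem _ ((hmem _ _ _).mpr ⟨A 1 j, ?_⟩))
        have := hA j
        simp [Fin.sum_univ_two] at this
        linear_combination this
    let : StrongNormalizationMonoid R' := UniqueFactorizationMonoid.strongNormalizationMonoid
    let : GCDMonoid R' := UniqueFactorizationMonoid.toGCDMonoid R'
    have hg0 : gcd a' b' ≠ 0 := fun h => hb (hinj (((gcd_eq_zero_iff a' b').mp h).2.trans (map_zero _).symm))
    obtain ⟨a₁, ha₁⟩ := gcd_dvd_left a' b'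
    obtain ⟨b₁, hb₁⟩ := gcd_dvd_right a' b'
    have hcop : IsUnit (gcd a₁ b₁) := by
      have h1 : gcd a' b' * gcd a₁ b₁ ∣ gcd a' b' :=
        dvd_gcd ((mul_dvd_mul_left _ (gcd_dvd_left a₁ b₁)).trans (dvd_of_eq ha₁.symm))
          ((mul_dvd_mul_left _ (gcd_dvd_right a₁ b₁)).trans (dvd_of_eq hb₁.symm))
      exact isUnit_of_dvd_one ((mul_dvd_mul_iff_left hg0).mp (h1.trans (dvd_of_eq (mul_one _).symm)))
    refine ⟨a₁, Submodule.ext fun z => ?_⟩
    rw [hmap, Ideal.submodule_span_eq, Ideal.mem_span_singleton]
    generalize hg : gcd a' b' = g at ha₁ hb₁ hg0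
    constructor
    · intro h
      rw [ha₁, hb₁, mul_left_comm, mul_dvd_mul_iff_left hg0] at h
      exact (dvd_gcd (dvd_mul_left a₁ z) h).trans ((gcd_mul_left' z a₁ b₁).dvd.trans (hcop.mul_right_dvd.mpr dvd_rfl))
    · rintro ⟨c, rfl⟩
      exact ⟨c * b₁, by rw [ha₁, hb₁]; ring⟩
  have : WfDvdMonoid R := inferInstance
  refine { irreducible_iff_prime := fun {a} => ⟨fun ha => ⟨ha.ne_zero, ha.not_isUnit, fun b c hbc => ?_⟩, Prime.irreducible⟩ }
  obtain ⟨d, hd⟩ := hprinc a b
  rw [Ideal.submodule_span_eq] at hd
  obtain ⟨e, he⟩ := Ideal.mem_span_singleton.mp (hd ▸ (hmem a b a).mpr (dvd_mul_right a b))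
  rcases ha.isUnit_or_isUnit he with hu | hu
  · left
    have : (1 : R) ∈ colonR a b := hd ▸ Ideal.mem_span_singleton.mpr hu.dvd
    simpa using (hmem a b 1).mp this
  · right
    have hcm : c ∈ Ideal.span {d} := hd ▸ (hmem a b c).mpr (mul_comm b c ▸ hbc)
    rw [he]
    exact hu.mul_right_dvd.mpr (Ideal.mem_span_singleton.mp hcm)

end Groth.Agent.S19890
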