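import Groth.Statements.S19892
import Groth.Agent.ValDense.Basic


set_option autoImplicit false
set_option backward.isDefEq.respectTransparency false
set_option backward.isDefEq.respectTransparency.types false
universe u
open CategoryTheory AlgebraicGeometry
open ValCrit

namespace Groth.Agent.S19892

/-- Let h : Z → Y and f : Y → X be morphisms of quasi-compact quasi-separated schemes, with h dominant
and f locally of finite type. Then f is proper if and only if the following refined valuative
criterion holds: for every point z of Z, every valuation ring R of the residue field κ(z) and every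
morphism φ : Spec R → X whose restriction to Spec κ(z) is the canonical morphism Spec κ(z) → Z → Y →
X, there is exactly one morphism Spec R → Y lying over φ and restricting to Spec κ(z) → Z → Y on the
generic point. (The published statement does not require h to be dominant; its proof uses that every
point of Y generalises to a point of h(Z), and for Z empty the criterion holds whatever f is, so
dominance of h is assumed here.) -/
theorem result {X Y Z : Scheme.{u}} (h : Z ⟶ Y) (f : Y ⟶ X)
    [CompactSpace ↥Z] [QuasiSeparatedSpace ↥Z] [CompactSpace ↥Y] [QuasiSeparatedSpace ↥Y]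
    [CompactSpace ↥X] [QuasiSeparatedSpace ↥X] (hd : DenseRange h.base)
    [LocallyOfFiniteType f] :
    IsProper f ↔
      ∀ (z : ↥Z) (R : ValuationSubring ↑(Z.residueField z)) (φ : Spec (CommRingCat.of ↥R) ⟶ X),
        Spec.map (CommRingCat.ofHom R.subtype) ≫ φ = Z.fromSpecResidueField z ≫ h ≫ f →
        ∃! φ' : Spec (CommRingCat.of ↥R) ⟶ Y,
          Spec.map (CommRingCat.ofHom R.subtype) ≫ φ' = Z.fromSpecResidueField z ≫ h ∧ φ' ≫ f = φ := by
  haveI : QuasiSeparated f := AlgebraicGeometry.QuasiSeparated.of_quasiSeparatedSpace f
  haveI : QuasiCompact h := AlgebraicGeometry.quasiCompact_of_compactSpace h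
  haveI : QuasiCompact f := AlgebraicGeometry.quasiCompact_of_compactSpace f
  constructor
  · intro hp z R φ hφ
    have hE : ValuativeCriterion.Existence f := by
      have := hp.toUniversallyClosed
      rw [UniversallyClosed.eq_valuativeCriterion] at this
      exact this.1
    obtain ⟨l, hl, hlf⟩ := Groth.Agent.ValDense.existAlong_of_existence h f hE z R φ hφ
    exact ⟨l, ⟨hl, hlf⟩, fun l' hl' => Groth.Agent.ValDense.uniqueAlong_of_isSeparated h f z R l' l
      (hl'.2.trans hlf.symm) hl'.1 hl⟩
  · intro H
    have hU : Groth.Agent.ValDense.UniqueAlong h f := fun z R l₁ l₂ e h₁ h₂ =>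
      (H z R (l₁ ≫ f) (by rw [reassoc_of% h₁])).unique ⟨h₁, rfl⟩ ⟨h₂, e.symm⟩
    haveI : IsSeparated f := Groth.Agent.ValDense.isSeparated_of_uniqueAlong h f hd hU
    haveI : UniversallyClosed f := Groth.Agent.ValDense.universallyClosed_of_along h f hd
      (fun z R φ hφ => (H z R φ hφ).exists) hU
    exact {}

end Groth.Agent.S19892
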