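import Groth.Statements.S19895
import Groth.Agent.VerlindeCombLib.Vanish

set_option autoImplicit false
open Complex
open VerlindeComb Finset

namespace Groth.Agent.S19895

/-- Fix integers r ≥ 2 and k ≥ 1, and two partitions λ, λ' with k ≥ λ_1 ≥ ⋯ ≥ λ_{r-1} ≥ λ_r = 0 and k ≥
λ'_1 ≥ ⋯ ≥ λ'_{r-1} ≥ λ'_r = 0 such that λ is not equivalent to the dual partition λ'* = (k − λ'_r,
…, k − λ'_1), two integer vectors being equivalent when their difference is a constant vector (a, …,
a). For an integer vector v with r + k > v_1 > ⋯ > v_{r-1} > v_r = 0 put z(v)_j = exp(2πi v_j / (r +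
k)), let S_μ(v) = det(z(v)_j^{μ_i + r − i}) / det(z(v)_j^{r − i}) be the Schur value and P(v) =
∏_{i<j} (2 sin(π (v_i − v_j)/(r + k)))². Then the sum over all such v of exp(−2πi (|λ| + |λ'|) (v_1
+ ⋯ + v_r) / (r (r + k))) · S_λ(v) · S_{λ'}(v) · P(v) vanishes; that is, the genus-zero Verlinde
number of rank r, degree 0 and level k with two parabolic points of types λ, λ' is zero. (Only the
vanishing case is stated; the complementary case, where the number equals 1, is not part of this
statement. The source allows r = 1, where the non-equivalence hypothesis cannot hold.) Indices are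
0-based below: lam i stands for λ_{i+1}. -/
theorem result (r k : ℕ) (hr : 2 ≤ r)
    (hk : 1 ≤ k) (lam lam' : Fin r → ℕ) (hlam : Antitone lam) (hlamk : ∀ i, lam i ≤ k)
    (hlam0 : ∀ i : Fin r, (i : ℕ) = r - 1 → lam i = 0)
    (hlam' : Antitone lam') (hlam'k : ∀ i, lam' i ≤ k) (hlam'0 : ∀ i : Fin r, (i : ℕ) = r - 1 → lam' i = 0)
    (hne : ¬ ∃ a : ℤ, ∀ i, (lam i : ℤ) - ((k - lam' (Fin.rev i) : ℕ) : ℤ) = a)
    (z : (Fin r → ℕ) → Fin r → ℂ)
    (hz : ∀ v j, z v j = Complex.exp (2 * Real.pi * Complex.I * (v j : ℂ) / ((r : ℂ) + k)))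
    (S : (Fin r → ℕ) → (Fin r → ℕ) → ℂ)
    (hS : ∀ μ v, S μ v = (Matrix.of fun i j : Fin r => z v j ^ (μ i + (r - 1 - (i : ℕ)))).det /
        (Matrix.of fun i j : Fin r => z v j ^ (r - 1 - (i : ℕ))).det)
    (P : (Fin r → ℕ) → ℝ)
    (hP : ∀ v, P v = ∏ p ∈ (Finset.univ : Finset (Fin r × Fin r)).filter (fun p => p.1 < p.2),
        ((2 : ℝ) * Real.sin (Real.pi * ((v p.1 : ℝ) - (v p.2 : ℝ)) / ((r : ℝ) + k))) ^ 2) :
    (∑ v ∈ (Finset.univ : Finset (Fin r → Fin (r + k))).filter
        (fun v : Fin r → Fin (r + k) => StrictAnti v ∧ ∀ i : Fin r, (i : ℕ) = r - 1 → (v i : ℕ) = 0),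
      Complex.exp (-(2 * Real.pi * Complex.I * (((∑ i, lam i) + (∑ i, lam' i) : ℕ) : ℂ) *
          ((∑ j, (v j : ℕ) : ℕ) : ℂ) / ((r : ℂ) * ((r : ℂ) + k)))) *
        S lam (fun j => (v j : ℕ)) * S lam' (fun j => (v j : ℕ)) * (P (fun j => (v j : ℕ)) : ℂ)) = 0 := by
  classical
  obtain ⟨m, rfl⟩ : ∃ m, r = m + 2 := ⟨r - 2, by omega⟩
  set N := m + 2 + k with hN
  haveI : NeZero N := ⟨by omega⟩
  have hNC : (N : ℂ) ≠ 0 := Nat.cast_ne_zero.mpr (by omega)
  have hrC : ((m + 2 : ℕ) : ℂ) ≠ 0 := Nat.cast_ne_zero.mpr (by omega)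
  let δ : Fin (m + 2) → ℕ := fun i => m + 2 - 1 - (i : ℕ)
  let μ : Fin (m + 2) → ℤ := fun i => ((lam i + δ i : ℕ) : ℤ)
  let μ' : Fin (m + 2) → ℤ := fun i => ((lam' i + δ i : ℕ) : ℤ)
  let T : ℤ := ∑ i, μ i + ∑ i, μ' i
  have hzpow : ∀ (v : Fin (m + 2) → ℕ) (j : Fin (m + 2)) (n : ℕ),
      z v j ^ n = VerlindeCombLib.e N ((n : ℤ) * (v j : ℤ)) := by
    intro v j n
    rw [hz, VerlindeCombLib.e, ← Complex.exp_nat_mul]
    congr 1
    push_cast [hN]
    ring
  have hAd : ∀ (f : Fin (m + 2) → ℕ) (v : Fin (m + 2) → Fin N),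
      (Matrix.of fun i j : Fin (m + 2) => z (fun j => (v j : ℕ)) j ^ (f i + δ i)).det =
        VerlindeCombLib.A N (fun i => ((f i + δ i : ℕ) : ℤ)) (VerlindeCombLib.lift v) := by
    intro f v
    simp only [hzpow]
    rfl
  have key : ∀ v ∈ VerlindeCombLib.vset m N,
      Complex.exp (-(2 * Real.pi * Complex.I * (((∑ i, lam i) + (∑ i, lam' i) : ℕ) : ℂ) *
          ((∑ j, (v j : ℕ) : ℕ) : ℂ) / (((m + 2 : ℕ) : ℂ) * (((m + 2 : ℕ) : ℂ) + k)))) *
        S lam (fun j => (v j : ℕ)) * S lam' (fun j => (v j : ℕ)) * (P (fun j => (v j : ℕ)) : ℂ) =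
      (-1 : ℂ) ^ ((univ : Finset (Fin (m + 2) × Fin (m + 2))).filter (fun p => p.1 < p.2)).card *
        VerlindeCombLib.GI N T μ μ' (VerlindeCombLib.lift v) := by
    intro v hv
    obtain ⟨hanti, -⟩ := VerlindeCombLib.mem_vset.mp hv
    set w : Fin (m + 2) → ℕ := fun j => (v j : ℕ) with hw
    set F := (univ : Finset (Fin (m + 2) × Fin (m + 2))).filter (fun p => p.1 < p.2) with hF
    set Δ := (Matrix.of fun i j : Fin (m + 2) => z w j ^ (δ i)).det with hΔ
    have hzne : ∀ j, z w j ≠ 0 := fun j => by rw [hz]; exact Complex.exp_ne_zero _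
    have hzinj : ∀ i j, z w i = z w j → i = j := by
      intro i j h
      rw [hz, hz, ← div_eq_one_iff_eq (Complex.exp_ne_zero _), ← Complex.exp_sub] at h
      have h' : VerlindeCombLib.e N ((w i : ℤ) - w j) = 1 := by
        rw [← h, VerlindeCombLib.e]; congr 1; push_cast [hN]; ring
      obtain ⟨q, hq⟩ := VerlindeCombLib.e_eq_one (NeZero.ne N) h'
      have := (v i).isLt; have := (v j).isLt
      have : q = 0 := by nlinarith
      subst this
      exact hanti.injective (Fin.ext (by simp only [hw] at hq; omega))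
    have hΔ2 : Δ ^ 2 = (∏ p ∈ F, (z w p.2 - z w p.1)) ^ 2 := by
      have e1 : (Matrix.of fun i j : Fin (m + 2) => z w j ^ (δ i)) =
          ((Matrix.vandermonde (z w)).transpose).submatrix Fin.revPerm id := by
        ext i j
        simp only [Matrix.of_apply, Matrix.submatrix_apply, Matrix.transpose_apply,
          Matrix.vandermonde_apply, Fin.revPerm_apply, Fin.val_rev, id_eq, δ]
        congr 1
        omega
      rw [hΔ, e1, Matrix.det_permute, Matrix.det_transpose, Matrix.det_vandermonde, mul_pow,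
        ← Int.cast_pow, ← Units.val_pow_eq_pow_val, Int.units_sq, Units.val_one, Int.cast_one,
        one_mul, hF, prod_filter, Fintype.prod_prod_type]
      congr 1
      refine prod_congr rfl fun i _ => ?_
      rw [← prod_filter]
      exact prod_congr (by ext j; simp) fun j _ => rfl
    have hΔne : Δ ≠ 0 := by
      have h2 : Δ ^ 2 ≠ 0 := by
        rw [hΔ2]
        refine pow_ne_zero _ (prod_ne_zero_iff.mpr fun p hp => sub_ne_zero.mpr fun h => ?_)
        exact (mem_filter.mp hp).2.ne (hzinj _ _ h).symm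
      exact fun h => h2 (by rw [h]; ring)
    have hpair : ∀ p ∈ F, (((2 : ℝ) * Real.sin (Real.pi * ((w p.1 : ℝ) - (w p.2 : ℝ)) /
        (((m + 2 : ℕ) : ℝ) + k))) ^ 2 : ℝ) * (z w p.1 * z w p.2) =
        -((z w p.2 - z w p.1) ^ 2 : ℂ) := by
      intro p _
      rw [hz, hz]
      push_cast
      rw [Complex.sin, show (2 : ℂ) * Real.pi * Complex.I * (w p.1 : ℂ) / ((m : ℂ) + 2 + k) =
          (Real.pi * (w p.1 : ℂ) / ((m : ℂ) + 2 + k)) * Complex.I +
            (Real.pi * (w p.1 : ℂ) / ((m : ℂ) + 2 + k)) * Complex.I by ring,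
        show (2 : ℂ) * Real.pi * Complex.I * (w p.2 : ℂ) / ((m : ℂ) + 2 + k) =
          (Real.pi * (w p.2 : ℂ) / ((m : ℂ) + 2 + k)) * Complex.I +
            (Real.pi * (w p.2 : ℂ) / ((m : ℂ) + 2 + k)) * Complex.I by ring,
        show (Real.pi : ℂ) * ((w p.1 : ℂ) - (w p.2 : ℂ)) / ((m : ℂ) + 2 + k) =
          (Real.pi * (w p.1 : ℂ) / ((m : ℂ) + 2 + k)) -
            (Real.pi * (w p.2 : ℂ) / ((m : ℂ) + 2 + k)) by ring]
      generalize (Real.pi * (w p.1 : ℂ) / ((m : ℂ) + 2 + k)) = a
      generalize (Real.pi * (w p.2 : ℂ) / ((m : ℂ) + 2 + k)) = b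
      simp only [neg_mul, neg_sub, sub_mul, Complex.exp_sub, Complex.exp_add]
      have := Complex.exp_ne_zero (a * Complex.I)
      have := Complex.exp_ne_zero (b * Complex.I)
      field_simp
      ring_nf
      rw [Complex.I_sq]
      ring
    have hprod : ∏ p ∈ F, (z w p.1 * z w p.2) = ∏ j, z w j ^ (m + 1) := by
      rw [prod_mul_distrib, hF, prod_filter, prod_filter, Fintype.prod_prod_type,
        Fintype.prod_prod_type_right]
      simp only []
      rw [← prod_mul_distrib]
      refine prod_congr rfl fun i _ => ?_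
      rw [← prod_mul_distrib]
      have : ∀ j : Fin (m + 2), (if i < j then z w i else 1) * (if j < i then z w i else 1) =
          if j ∈ ({i}ᶜ : Finset (Fin (m + 2))) then z w i else 1 := by
        intro j
        rcases lt_trichotomy i j with h | h | h
        · simp [h, h.ne', not_lt.mpr h.le]
        · simp [h]
        · simp [h, h.ne, not_lt.mpr h.le]
      simp only [this]
      rw [prod_ite_mem, univ_inter, prod_const, card_compl, card_singleton, Fintype.card_fin]
      rfl
    have hPv : (P w : ℂ) * ∏ j, z w j ^ (m + 1) = (-1) ^ F.card * Δ ^ 2 := by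
      rw [hP, Complex.ofReal_prod, ← hprod, ← prod_mul_distrib, prod_congr rfl hpair, prod_neg,
        hΔ2, prod_pow]
    have hL : Complex.exp (-(2 * Real.pi * Complex.I * (((∑ i, lam i) + (∑ i, lam' i) : ℕ) : ℂ) *
          ((∑ j, w j : ℕ) : ℂ) / (((m + 2 : ℕ) : ℂ) * (((m + 2 : ℕ) : ℂ) + k)))) =
        (∏ j, z w j ^ (m + 1)) * ∏ j, VerlindeCombLib.u (m + 2) N T (VerlindeCombLib.lift v j) := by
      simp only [hzpow, VerlindeCombLib.e, VerlindeCombLib.u]
      generalize hLd : (∑ i, lam i) + (∑ i, lam' i) = L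
      rw [← Complex.exp_sum, ← Complex.exp_sum, ← Complex.exp_add, ← sum_add_distrib]
      congr 1
      have h2 : (∑ i : Fin (m + 2), δ i) * 2 = (m + 2) * (m + 1) := by
        rw [Fin.sum_univ_eq_sum_range (fun i => m + 2 - 1 - i) (m + 2),
          sum_range_reflect (fun i => i) (m + 2), sum_range_id_mul_two]
        rfl
      have hT : T = ((L : ℕ) : ℤ) + ((m + 2) * (m + 1) : ℕ) := by
        rw [← h2, ← hLd]
        simp only [T, μ, μ', Nat.cast_add, Nat.cast_mul, Nat.cast_sum, sum_add_distrib]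
        push_cast; ring
      rw [hT, Nat.cast_sum, mul_sum, sum_div, ← sum_neg_distrib]
      refine sum_congr rfl fun j _ => ?_
      simp only [VerlindeCombLib.lift, hw]
      push_cast [hN]
      have : ((m : ℂ) + 2 + k) ≠ 0 := by exact_mod_cast (show m + 2 + k ≠ 0 by omega)
      have : ((m : ℂ) + 2) ≠ 0 := by exact_mod_cast (show m + 2 ≠ 0 by omega)
      field_simp
      ring
    rw [hL, hS, hS]
    change _ * ((Matrix.of fun i j : Fin (m + 2) => z w j ^ (lam i + δ i)).det / Δ) *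
      ((Matrix.of fun i j : Fin (m + 2) => z w j ^ (lam' i + δ i)).det / Δ) * _ = _
    rw [hAd lam v, hAd lam' v, VerlindeCombLib.GI]
    field_simp
    linear_combination ((∏ j, VerlindeCombLib.u (m + 2) N T (VerlindeCombLib.lift v j)) *
      VerlindeCombLib.A N μ (VerlindeCombLib.lift v) *
      VerlindeCombLib.A N μ' (VerlindeCombLib.lift v)) * hPv
  have hG : ∑ v ∈ VerlindeCombLib.vset m N,
      VerlindeCombLib.GI N T μ μ' (VerlindeCombLib.lift v) = 0 := by
    by_cases hω : VerlindeCombLib.u (m + 2) N T N = 1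
    · obtain ⟨q, hq⟩ := Complex.exp_eq_one_iff.mp hω
      have ha : T = ((m + 2 : ℕ) : ℤ) * (-q) := by
        have : (T : ℂ) = ((m + 2 : ℕ) : ℂ) * (-(q : ℂ)) := by
          rw [Int.cast_natCast] at hq
          field_simp at hq
          linear_combination (-1 : ℂ) * hq
        exact_mod_cast this
      rw [ha]
      refine VerlindeCombLib.sum_eq_zero_of_periodic (-q) μ μ' (fun σ τ => ?_) ha.symm
      by_contra hall
      push Not at hall
      have hsa : ∀ (f : Fin (m + 2) → ℕ), Antitone f →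
          StrictAnti (fun i => ((f i + δ i : ℕ) : ℤ)) := by
        intro f hf i j hij
        have := hf hij.le
        have := Fin.lt_def.mp hij
        have := j.isLt
        simp only [δ]
        omega
      have hbd : ∀ (f : Fin (m + 2) → ℕ), (∀ i, f i ≤ k) → ∀ i : Fin (m + 2),
          0 ≤ ((f i + δ i : ℕ) : ℤ) ∧ ((f i + δ i : ℕ) : ℤ) < N := by
        intro f hf i
        have := hf i
        simp only [δ, hN]
        omega
      have hc := VerlindeCombLib.combinatorics (by omega) (-q) μ μ' (hsa lam hlam) (hsa lam' hlam')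
        (hbd lam hlamk) (hbd lam' hlam'k)
        (fun i hi => by
          have := hlam0 i hi
          simp only [μ, δ]; omega)
        (fun i hi => by
          have := hlam'0 i hi
          simp only [μ', δ]; omega) ha.symm σ τ hall
      refine hne ⟨-q - (k : ℤ) - (m + 1), fun i => ?_⟩
      have := hc i
      have := hlam'k i.rev
      have := i.isLt
      simp only [μ, μ', δ, Fin.val_rev] at *
      omega
    · exact VerlindeCombLib.sum_eq_zero_of_twist T μ μ' rfl hω
  refine (Finset.sum_congr rfl key).trans ?_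
  rw [← mul_sum, hG, mul_zero]

end Groth.Agent.S19895
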