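import Groth.Statements.S1990
import Mathlib
import Groth.Agent.EtRamIdx.Basic

set_option autoImplicit false
universe u
open EtAlg

namespace Groth.Agent.S1990

/-- Let K be the fraction field of a discrete valuation ring A, and K ⊂ L ⊂ M finite separable
extensions. If L/K is tamely ramified (resp. unramified) with respect to A and M/L is tamely
ramified (resp. unramified) with respect to every valuation subring of L dominating A, then M/K is
tamely ramified (resp. unramified) with respect to A. -/
theorem result (A K : Type u) [CommRing A] [IsDomain A] [IsDiscreteValuationRing A] [Field K] [Algebra A K] [IsFractionRing A K] (L M : Type u) [Field L] [Field M]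
    [Algebra K L] [Algebra K M] [Algebra L M] [IsScalarTower K L M] [FiniteDimensional K M] [Algebra.IsSeparable K M] :
    (EtRam.IsTamelyRamified A ((algebraMap K L).comp (algebraMap A K)) →
      (∀ (V : ValuationSubring L), EtRam.Dominates A ((algebraMap K L).comp (algebraMap A K)) V →
        EtRam.IsTamelyRamified V ((algebraMap L M).comp V.subtype)) →
      EtRam.IsTamelyRamified A ((algebraMap K M).comp (algebraMap A K))) ∧
    (EtRam.IsUnramifiedExt A ((algebraMap K L).comp (algebraMap A K)) →
      (∀ (V : ValuationSubring L), EtRam.Dominates A ((algebraMap K L).comp (algebraMap A K)) V →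
        EtRam.IsUnramifiedExt V ((algebraMap L M).comp V.subtype)) →
      EtRam.IsUnramifiedExt A ((algebraMap K M).comp (algebraMap A K))) := by
  have main : ∀ (W : ValuationSubring M) (h : EtRam.Dominates A ((algebraMap K M).comp (algebraMap A K)) W),
      ∃ (hV : EtRam.Dominates A ((algebraMap K L).comp (algebraMap A K)) (W.comap (algebraMap L M)))
        (hW : EtRam.Dominates (W.comap (algebraMap L M)) ((algebraMap L M).comp (W.comap (algebraMap L M)).subtype) W),
        letI : Algebra A (W.comap (algebraMap L M)) := (RingHom.codRestrict ((algebraMap K L).comp (algebraMap A K)) _ hV.1).toAlgebra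
        letI : Algebra (W.comap (algebraMap L M)) W := (RingHom.codRestrict ((algebraMap L M).comp (W.comap (algebraMap L M)).subtype) W hW.1).toAlgebra
        letI : Algebra A W := (RingHom.codRestrict ((algebraMap K M).comp (algebraMap A K)) W h.1).toAlgebra
        IsScalarTower A (W.comap (algebraMap L M)) W ∧ IsLocalHom (algebraMap A (W.comap (algebraMap L M))) ∧
          IsLocalHom (algebraMap (W.comap (algebraMap L M)) W) := by
    intro W h
    have hcomp : ∀ a, (algebraMap K M).comp (algebraMap A K) a = algebraMap L M ((algebraMap K L).comp (algebraMap A K) a) :=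
      fun a => IsScalarTower.algebraMap_apply K L M _
    set V := W.comap (algebraMap L M) with hVdef
    let g : V →+* W := RingHom.codRestrict ((algebraMap L M).comp V.subtype) W fun v => v.2
    haveI hg : IsLocalHom g := by
      constructor
      intro v hv
      obtain ⟨u, hu⟩ := isUnit_iff_exists_inv.mp hv
      have hu' : algebraMap L M v * (u : M) = 1 := congrArg Subtype.val hu
      have hv0 : (v : L) ≠ 0 := fun h0 => by rw [h0, map_zero, zero_mul] at hu'; exact zero_ne_one hu'
      refine IsUnit.of_mul_eq_one ⟨(v : L)⁻¹, ?_⟩ (Subtype.ext (mul_inv_cancel₀ hv0))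
      show algebraMap L M (v : L)⁻¹ ∈ W
      rw [map_inv₀, ← eq_inv_of_mul_eq_one_right hu']
      exact u.2
    have hlt : ∀ v : V, v ∈ IsLocalRing.maximalIdeal V ↔ W.valuation (algebraMap L M v) < 1 := by
      intro v
      rw [show algebraMap L M v = ((g v : W) : M) from rfl, ← W.valuation_lt_one_iff, IsLocalRing.mem_maximalIdeal,
        IsLocalRing.mem_maximalIdeal, mem_nonunits_iff, mem_nonunits_iff, isUnit_map_iff]
    have hmem : ∀ a, (algebraMap K L).comp (algebraMap A K) a ∈ V := fun a => by
      show algebraMap L M _ ∈ W
      rw [← hcomp]; exact h.1 a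
    have hV : EtRam.Dominates A ((algebraMap K L).comp (algebraMap A K)) V :=
      ⟨hmem, fun a ha => (V.valuation_lt_one_iff ⟨_, hmem a⟩).mp ((hlt _).mpr (by rw [← hcomp]; exact h.2 a ha))⟩
    refine ⟨hV, ⟨fun v => v.2, fun v hv => (hlt v).mp hv⟩, ?_, ?_, hg⟩
    · letI : Algebra A V := (RingHom.codRestrict ((algebraMap K L).comp (algebraMap A K)) V hV.1).toAlgebra
      letI : Algebra V W := (RingHom.codRestrict ((algebraMap L M).comp V.subtype) W fun v => v.2).toAlgebra
      letI : Algebra A W := (RingHom.codRestrict ((algebraMap K M).comp (algebraMap A K)) W h.1).toAlgebra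
      exact IsScalarTower.of_algebraMap_eq fun a => Subtype.ext (hcomp a)
    · constructor
      intro a ha
      by_contra hna
      have := (V.valuation_lt_one_iff ⟨_, hmem a⟩).mpr (hV.2 a hna)
      exact this ha
  refine ⟨fun h1 h2 W h => ?_, fun h1 h2 W h => ?_⟩
  all_goals
    obtain ⟨hV, hW, htow, hl1, hl2⟩ := main W h
    intro hloc
    have hVs := @h1 _ hV hl1
    have hWs := @h2 _ hV W hW hl2
    letI : Algebra A (W.comap (algebraMap L M)) := (RingHom.codRestrict ((algebraMap K L).comp (algebraMap A K)) _ hV.1).toAlgebra
    letI : Algebra (W.comap (algebraMap L M)) W := (RingHom.codRestrict ((algebraMap L M).comp (W.comap (algebraMap L M)).subtype) W hW.1).toAlgebra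
    letI : Algebra A W := (RingHom.codRestrict ((algebraMap K M).comp (algebraMap A K)) W h.1).toAlgebra
    haveI := hl1
    haveI := hl2
    haveI := htow
    haveI : IsScalarTower (IsLocalRing.ResidueField A) (IsLocalRing.ResidueField (W.comap (algebraMap L M))) (IsLocalRing.ResidueField W) := by
      refine IsScalarTower.of_algebraMap_eq fun x => ?_
      obtain ⟨a, rfl⟩ := IsLocalRing.residue_surjective x
      show IsLocalRing.residue W (algebraMap A W a) = IsLocalRing.residue W (algebraMap (W.comap (algebraMap L M)) W (algebraMap A (W.comap (algebraMap L M)) a))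
      rw [← IsScalarTower.algebraMap_apply]
  · haveI := hVs.1
    haveI := hWs.1
    refine ⟨Algebra.IsSeparable.trans (IsLocalRing.ResidueField A) (IsLocalRing.ResidueField (W.comap (algebraMap L M))) (IsLocalRing.ResidueField W), fun p hp hc => ?_⟩
    have ha := hVs.2 p hp hc
    haveI := hc
    have hcV : CharP (IsLocalRing.ResidueField (W.comap (algebraMap L M))) p :=
      charP_of_injective_algebraMap (algebraMap (IsLocalRing.ResidueField A) (IsLocalRing.ResidueField (W.comap (algebraMap L M)))).injective p
    have hb := hWs.2 p hp hcV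
    obtain ⟨π, hπ⟩ := IsDiscreteValuationRing.exists_irreducible A
    have hm : IsLocalRing.maximalIdeal A = Ideal.span {π} := (IsDiscreteValuationRing.irreducible_iff_uniformizer π).mp hπ
    obtain ⟨x, hx, hπx⟩ := EtRamIdx.exists_generator hm (fun h0 => ha (h0 ▸ dvd_zero p))
    obtain ⟨t, ht, hxt⟩ := EtRamIdx.exists_generator hx (fun h0 => hb (h0 ▸ dvd_zero p))
    have hπ0 : algebraMap A W π ≠ 0 := fun h0 => hπ.ne_zero (IsFractionRing.injective A K ((algebraMap K M).injective (by
      rw [map_zero, map_zero]; exact congrArg Subtype.val h0)))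
    have hπW : Associated (algebraMap A W π) (t ^ (Ideal.ramificationIdx' (IsLocalRing.maximalIdeal (W.comap (algebraMap L M))) (IsLocalRing.maximalIdeal W) *
        Ideal.ramificationIdx' (IsLocalRing.maximalIdeal A) (IsLocalRing.maximalIdeal (W.comap (algebraMap L M))))) := by
      rw [IsScalarTower.algebraMap_apply A (W.comap (algebraMap L M)) W, pow_mul]
      refine (hπx.map (algebraMap (W.comap (algebraMap L M)) W)).trans ?_
      rw [map_pow]
      exact hxt.pow_pow
    have ht0 : t ≠ 0 := by
      intro h0
      subst h0
      rw [Ideal.span_singleton_eq_bot.mpr rfl] at ht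
      have hmem : algebraMap A W π ∈ IsLocalRing.maximalIdeal W := by
        rw [IsLocalRing.mem_maximalIdeal, mem_nonunits_iff, isUnit_map_iff]; exact hπ.not_isUnit
      exact hπ0 (by rw [ht] at hmem; exact hmem)
    rw [EtRamIdx.eq_of_associated hm ht ht0 hπW]
    exact fun hd => (hp.dvd_mul.mp hd).elim hb ha
  · haveI := hVs.2
    haveI := hWs.2
    refine ⟨?_, Algebra.IsSeparable.trans (IsLocalRing.ResidueField A) (IsLocalRing.ResidueField (W.comap (algebraMap L M))) (IsLocalRing.ResidueField W)⟩
    have e1 := hVs.1
    have e2 := hWs.1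
    unfold EtRam.IsWeaklyUnramified at e1 e2 ⊢
    rw [IsScalarTower.algebraMap_eq A (W.comap (algebraMap L M)) W, ← Ideal.map_map, e1, e2]

end Groth.Agent.S1990
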