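import Groth.Statements.S19904
import Groth.Agent.ArtHull.Deform
-- import your own Groth.Agent.* helpers here

set_option autoImplicit false
universe u v
open CategoryTheory
open ArtFun

namespace Groth.Agent.S19904

/-- For functors F, G, G' on Artinian local Λ-algebras with residue field k and morphisms φ : F → G, ψ :
G' → G: if φ is smooth then the base change F ×_G G' → G' (second projection of the fibre product of
functors) is smooth. -/
theorem result {Λ : Type u} {k : Type u} [CommRing Λ] [Field k] [Algebra Λ k]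
    [IsNoetherianRing Λ] [Module.Finite Λ k]
    {F G G' : ArtFun.Art Λ k ⥤ Type v} (φ : F ⟶ G) (ψ : G' ⟶ G) (hφ : ArtFun.IsSmooth φ) :
    ArtFun.IsSmooth (Limits.pullback.snd φ ψ) := by
  intro B A μ hμ x
  obtain ⟨a, ha₁, ha₂⟩ := Groth.Agent.ArtHull.exists_of_relCmp_surjective (hφ μ hμ)
    ((CategoryTheory.Limits.pullback.fst φ ψ).app A x.1.1) (ψ.app B x.1.2)
    (by rw [Groth.Agent.ArtHull.pullback_elt_w, x.2, NatTrans.naturality_apply])
  obtain ⟨z, hz₁, hz₂⟩ := Groth.Agent.ArtHull.exists_pullback_elt φ ψ B a x.1.2 ha₂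
  refine ⟨z, Subtype.ext (Prod.ext (Groth.Agent.ArtHull.pullback_elt_ext φ ψ A ?_ ?_) hz₂)⟩
  · change (CategoryTheory.Limits.pullback.fst φ ψ).app A ((CategoryTheory.Limits.pullback φ ψ).map μ z) = _
    rw [NatTrans.naturality_apply, hz₁, ha₁]
  · change (CategoryTheory.Limits.pullback.snd φ ψ).app A ((CategoryTheory.Limits.pullback φ ψ).map μ z) = _
    rw [NatTrans.naturality_apply, hz₂]
    exact x.2.symm

end Groth.Agent.S19904
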