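import Groth.Statements.S19907
import Groth.Agent.AlgSpLoc.EtaleCotangent
import Mathlib.RingTheory.Etale.Field
import Mathlib.RingTheory.Kaehler.JacobiZariski

set_option autoImplicit false
universe u
open CategoryTheory TensorProduct
open ArtFun

namespace Groth.Agent.S19907

/-- Let Λ be a Noetherian ring with a finite ring map to a field k, let k' ⊂ k be the image of Λ and m_Λ
the kernel, so that m_Λ/m_Λ² = H₁(L_{k'/Λ}) (Λ → k' being surjective with kernel m_Λ). If k is
separable over k', the canonical map m_Λ/m_Λ² ⊗_{k'} k → H₁(L_{k/Λ}) is an isomorphism. Stated for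
H₁(L_{k'/Λ}) in place of m_Λ/m_Λ²: the k-linear base change of the functoriality map H₁(L_{k'/Λ}) →
H₁(L_{k/Λ}) is bijective. (The general construction of the map and the case k = k' are the other
assertions of the source; only the separable case is stated here.) -/
theorem result {Λ : Type u} {k : Type u} [CommRing Λ] [Field k] [Algebra Λ k]
    [IsNoetherianRing Λ] [Module.Finite Λ k]
    [Algebra.IsSeparable (↥(algebraMap Λ k).range) k] :
    letI : Algebra Λ (↥(algebraMap Λ k).range) := (algebraMap Λ k).rangeRestrict.toAlgebra
    letI : IsScalarTower Λ (↥(algebraMap Λ k).range) k := IsScalarTower.of_algebraMap_eq (fun _ ↦ rfl)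
    Function.Bijective ((Algebra.H1Cotangent.map Λ Λ (↥(algebraMap Λ k).range) k).liftBaseChange k) := by
  letI : Algebra Λ (↥(algebraMap Λ k).range) := (algebraMap Λ k).rangeRestrict.toAlgebra
  letI : IsScalarTower Λ (↥(algebraMap Λ k).range) k := IsScalarTower.of_algebraMap_eq (fun _ ↦ rfl)
  show Function.Bijective ((Algebra.H1Cotangent.map Λ Λ (↥(algebraMap Λ k).range) k).liftBaseChange k)
  have hsurj : Function.Surjective (algebraMap Λ (↥(algebraMap Λ k).range)) :=
    (algebraMap Λ k).rangeRestrict_surjective
  haveI hfin : Module.Finite (↥(algebraMap Λ k).range) k := Module.Finite.of_restrictScalars_finite Λ _ k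
  haveI : Algebra.IsIntegral (↥(algebraMap Λ k).range) k := Algebra.IsIntegral.of_finite _ _
  have hF : IsField (↥(algebraMap Λ k).range) :=
    isField_of_isIntegral_of_isField Subtype.val_injective (Field.toIsField k)
  letI : Field (↥(algebraMap Λ k).range) := hF.toField
  haveI : Algebra.FormallyEtale (↥(algebraMap Λ k).range) k := Algebra.FormallyEtale.of_isSeparable _ _
  haveI : Algebra.Etale (↥(algebraMap Λ k).range) k :=
    { finitePresentation := (Algebra.FinitePresentation.of_finiteType).1 inferInstance }
  haveI : Algebra.FiniteType Λ (↥(algebraMap Λ k).range) :=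
    RingHom.FiniteType.of_surjective _ hsurj
  haveI : Algebra.FinitePresentation Λ (↥(algebraMap Λ k).range) :=
    (Algebra.FinitePresentation.of_finiteType).1 inferInstance
  haveI : Module.Free (↥(algebraMap Λ k).range) Ω[(↥(algebraMap Λ k).range)⁄Λ] :=
    Module.Free.of_divisionRing _ _
  haveI : Module.Finite (↥(algebraMap Λ k).range) (Algebra.H1Cotangent Λ (↥(algebraMap Λ k).range)) :=
    inferInstance
  obtain ⟨e⟩ := Groth.Agent.AlgSpLoc.nonempty_tensor_h1Cotangent_equiv Λ (↥(algebraMap Λ k).range) k
  have hex := Algebra.H1Cotangent.exact_liftBaseChange_map_of_flat Λ (↥(algebraMap Λ k).range) k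
  have hs : Function.Surjective ((Algebra.H1Cotangent.map Λ Λ (↥(algebraMap Λ k).range) k).liftBaseChange k) :=
    fun x => (hex x).1 (Subsingleton.elim _ _)
  have hi : Function.Injective (e.symm.toLinearMap ∘ₗ
      ((Algebra.H1Cotangent.map Λ Λ (↥(algebraMap Λ k).range) k).liftBaseChange k)) :=
    OrzechProperty.injective_of_surjective_endomorphism _ (e.symm.surjective.comp hs)
  exact ⟨fun a b hab => hi (congrArg e.symm hab), hs⟩

end Groth.Agent.S19907
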