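import Groth.Statements.S9307
import Mathlib
import Groth.Agent.EtRamBC.Basic
import Groth.Agent.EtRamBC.ResField
import Groth.Agent.EtRamBC.Tame
import Groth.Agent.EtRamIdx.Basic
import Groth.Agent.RegLocus.GeomRedTrans

set_option autoImplicit false
universe u
open EtRam

namespace Groth.Agent.S9307

open IsLocalRing TensorProduct in
/-- A finite separable extension gives reduced tensor products with every field. -/
lemma isReduced_tensor_of_separable (k E F : Type u) [Field k] [Field E] [Field F] [Algebra k E] [Algebra k F]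
    [Module.Finite k E] [Algebra.IsSeparable k E] : IsReduced (E ⊗[k] F) := by
  haveI : Algebra.IsGeometricallyReduced k E := by
    rw [Algebra.isGeometricallyReduced_field_iff]
    haveI : Algebra.FormallyUnramified k E := Algebra.FormallyUnramified.of_isSeparable k E
    exact Algebra.FormallyUnramified.isReduced_of_field (AlgebraicClosure k) _
  haveI : IsReduced (F ⊗[k] E) := Groth.Agent.RegLocus.isReduced_tensor_field k E F
  exact isReduced_of_injective (Algebra.TensorProduct.comm k E F).toAlgHom (Algebra.TensorProduct.comm k E F).injective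


open TensorProduct in


open TensorProduct in
/-- Let A → B be an injective local homomorphism of discrete valuation rings with fraction fields K ⊆ L,
and let K' be a finite separable extension of K that is tamely ramified relative to A. Then every
field F onto which K' ⊗_K L surjects is, as an extension of L, tamely ramified relative to B. (The
published statement also records that K' ⊗_K L is a finite product of fields, whose factors are
these F; this row does not state that part.) -/
theorem result (A B K L K' : Type u) [CommRing A] [IsDomain A]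
    [IsDiscreteValuationRing A] [CommRing B] [IsDomain B] [IsDiscreteValuationRing B] [Algebra A B]
    [IsLocalHom (algebraMap A B)] (hinj : Function.Injective (algebraMap A B))
    [Field K] [Field L] [Field K'] [Algebra A K] [IsFractionRing A K] [Algebra B L] [IsFractionRing B L]
    [Algebra K L] [Algebra A L] [IsScalarTower A K L] [IsScalarTower A B L]
    [Algebra K K'] [FiniteDimensional K K'] [Algebra.IsSeparable K K']
    (h : EtRam.IsTamelyRamified A ((algebraMap K K').comp (algebraMap A K)))
    (F : Type u) [Field F] [Algebra (K' ⊗[K] L) F] (hF : Function.Surjective (algebraMap (K' ⊗[K] L) F)) :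
    EtRam.IsTamelyRamified B ((algebraMap (K' ⊗[K] L) F).comp
      ((Algebra.TensorProduct.includeRight : L →ₐ[K] K' ⊗[K] L).toRingHom.comp (algebraMap B L))) := by
  classical
  set g := (algebraMap (K' ⊗[K] L) F).comp ((Algebra.TensorProduct.includeRight : L →ₐ[K] K' ⊗[K] L).toRingHom.comp (algebraMap B L)) with hg
  let gK : K' →+* F := (algebraMap (K' ⊗[K] L) F).comp Algebra.TensorProduct.includeLeftRingHom
  let gL : L →+* F := (algebraMap (K' ⊗[K] L) F).comp (Algebra.TensorProduct.includeRight : L →ₐ[K] K' ⊗[K] L).toRingHom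
  have hKagree : ∀ a : A, gK (algebraMap K K' (algebraMap A K a)) = g (algebraMap A B a) := by
    intro a
    refine congrArg (algebraMap (K' ⊗[K] L) F) ?_
    show (algebraMap K K' (algebraMap A K a)) ⊗ₜ[K] (1 : L) = (1 : K') ⊗ₜ[K] algebraMap B L (algebraMap A B a)
    rw [← IsScalarTower.algebraMap_apply A B L, IsScalarTower.algebraMap_apply A K L, Algebra.algebraMap_eq_smul_one,
      Algebra.algebraMap_eq_smul_one (A := L) ((algebraMap A K) a), TensorProduct.smul_tmul]
  intro W hW hloc
  let bW : B →+* W := RingHom.codRestrict g W hW.1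
  letI : Algebra B W := bW.toAlgebra
  haveI : IsLocalHom (algebraMap B W) := hloc
  set U := W.comap gK with hUdef
  have hgA : ∀ a, (algebraMap K K').comp (algebraMap A K) a ∈ U := fun a => by
    show gK (algebraMap K K' (algebraMap A K a)) ∈ W
    rw [hKagree]; exact hW.1 _
  letI : Algebra A U := (RingHom.codRestrict ((algebraMap K K').comp (algebraMap A K)) U hgA).toAlgebra
  letI : Algebra U W := (EtRam.inclOfComap W gK).toAlgebra
  letI : Algebra A W := ((algebraMap U W).comp (algebraMap A U)).toAlgebra
  haveI : IsScalarTower A U W := IsScalarTower.of_algebraMap_eq fun _ => rfl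
  haveI : IsScalarTower A B W := IsScalarTower.of_algebraMap_eq fun a => Subtype.ext (hKagree a)
  haveI hlAW : IsLocalHom (algebraMap A W) := by
    rw [IsScalarTower.algebraMap_eq A B W]; exact RingHom.isLocalHom_comp _ _
  haveI hlAU : IsLocalHom (algebraMap A U) := ⟨fun a ha => (isUnit_map_iff (algebraMap A W) a).mp (ha.map (algebraMap U W))⟩
  haveI hlUW : IsLocalHom (algebraMap U W) := inferInstanceAs (IsLocalHom (EtRam.inclOfComap W gK))
  have hdomU : EtRam.Dominates A ((algebraMap K K').comp (algebraMap A K)) U := by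
    refine ⟨hgA, fun a ha => (U.valuation_lt_one_iff ⟨_, hgA a⟩).mp fun hu => ?_⟩
    exact ha ((isUnit_map_iff (algebraMap A U) a).mp hu)
  obtain ⟨hsep, htU⟩ := @h U hdomU hlAU
  haveI := hsep
  letI : Algebra A K' := ((algebraMap K K').comp (algebraMap A K)).toAlgebra
  haveI : IsScalarTower A K K' := IsScalarTower.of_algebraMap_eq fun _ => rfl
  haveI := EtRamBC.finite_residueField A K U (fun _ => rfl)
  haveI : IsReduced (IsLocalRing.ResidueField U ⊗[IsLocalRing.ResidueField A] IsLocalRing.ResidueField B) :=
    isReduced_tensor_of_separable _ _ _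
  obtain ⟨ϖ, hϖ⟩ := IsDiscreteValuationRing.exists_irreducible B
  have hmB := (IsDiscreteValuationRing.irreducible_iff_uniformizer ϖ).mp hϖ
  have hinjBL : Function.Injective g := fun x y hxy => IsFractionRing.injective B L (gL.injective hxy)
  have hinjBW : Function.Injective (algebraMap B W) := fun x y hxy => hinjBL (congrArg Subtype.val hxy)
  have hgenHom : EtRamBC.genHom A B U W ((1 : U) ⊗ₜ ϖ) = algebraMap B W ϖ := by
    simp [EtRamBC.genHom]
  have hdiv : ∀ x : K' ⊗[K] L, ∃ s t, ((EtRamBC.genHom A B U W t : W) : F) ≠ 0 ∧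
      algebraMap (K' ⊗[K] L) F x * (EtRamBC.genHom A B U W t : W) = (EtRamBC.genHom A B U W s : W) := by
    intro x
    induction x using TensorProduct.induction_on with
    | zero => exact ⟨0, 1, by simp, by simp⟩
    | tmul k l =>
      obtain ⟨p, q, hq, rfl⟩ := IsFractionRing.div_surjective (A := U) k
      obtain ⟨b, c, hc, rfl⟩ := IsFractionRing.div_surjective (A := B) l
      refine ⟨p ⊗ₜ b, q ⊗ₜ c, ?_, ?_⟩
      · have h1 : ((EtRamBC.genHom A B U W (q ⊗ₜ c) : W) : F) = gK q * g c := by simp [EtRamBC.genHom]; rfl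
        rw [h1]
        refine mul_ne_zero ?_ ((map_ne_zero_iff _ hinjBL).mpr (nonZeroDivisors.ne_zero hc))
        exact (map_ne_zero gK).mpr (IsFractionRing.to_map_ne_zero_of_mem_nonZeroDivisors hq)
      · have h1 : ((EtRamBC.genHom A B U W (q ⊗ₜ c) : W) : F) = gK q * g c := by simp [EtRamBC.genHom]; rfl
        have h2 : ((EtRamBC.genHom A B U W (p ⊗ₜ b) : W) : F) = gK p * g b := by simp [EtRamBC.genHom]; rfl
        rw [h1, h2]
        show algebraMap (K' ⊗[K] L) F _ * (algebraMap (K' ⊗[K] L) F _ * algebraMap (K' ⊗[K] L) F _) =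
          algebraMap (K' ⊗[K] L) F _ * algebraMap (K' ⊗[K] L) F _
        rw [← map_mul, ← map_mul, ← map_mul]
        refine congrArg (algebraMap (K' ⊗[K] L) F) ?_
        show _ ⊗ₜ[K] _ * ((_ ⊗ₜ[K] (1 : L)) * ((1 : K') ⊗ₜ[K] _)) = (_ ⊗ₜ[K] (1 : L)) * ((1 : K') ⊗ₜ[K] _)
        simp only [Algebra.TensorProduct.tmul_mul_tmul, mul_one, one_mul]
        congr 1
        · exact div_mul_cancel₀ _ (IsFractionRing.to_map_ne_zero_of_mem_nonZeroDivisors hq)
        · exact div_mul_cancel₀ _ (IsFractionRing.to_map_ne_zero_of_mem_nonZeroDivisors hc)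
    | add x y hx hy =>
      obtain ⟨s, t, ht, hst⟩ := hx
      obtain ⟨s', t', ht', hst'⟩ := hy
      refine ⟨s * t' + s' * t, t * t', ?_, ?_⟩
      · rw [map_mul]; push_cast; exact mul_ne_zero ht ht'
      · rw [map_add (EtRamBC.genHom A B U W), map_mul, map_mul, map_mul, map_add]
        push_cast
        rw [← hst, ← hst']
        ring
  letI : Algebra L F := gL.toAlgebra
  letI : Algebra B F := g.toAlgebra
  haveI : IsScalarTower B L F := IsScalarTower.of_algebraMap_eq fun _ => rfl
  haveI : Module.Finite L F := by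
    let φ : (L ⊗[K] K') →ₐ[L] F :=
      { (algebraMap (K' ⊗[K] L) F).comp (Algebra.TensorProduct.comm K L K').toAlgHom.toRingHom with
        commutes' := fun l => congrArg (algebraMap (K' ⊗[K] L) F) (Algebra.TensorProduct.comm_tmul K l (1 : K')) }
    exact Module.Finite.of_surjective φ.toLinearMap (hF.comp (Algebra.TensorProduct.comm K L K').surjective)
  have halgF : Algebra.IsAlgebraic B F := (IsFractionRing.comap_isAlgebraic_iff (A := B) (K := L) (C := F)).mpr inferInstance
  haveI := EtRamBC.isDiscreteValuationRing A K U (fun _ => rfl)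
  obtain ⟨π, hπ'⟩ := IsDiscreteValuationRing.exists_irreducible A
  have hπ := (IsDiscreteValuationRing.irreducible_iff_uniformizer π).mp hπ'
  obtain ⟨y, hy⟩ := IsDiscreteValuationRing.exists_irreducible U
  have hmU := (IsDiscreteValuationRing.irreducible_iff_uniformizer y).mp hy
  have hπUm : algebraMap A U π ∈ IsLocalRing.maximalIdeal U := by
    rw [IsLocalRing.mem_maximalIdeal, mem_nonunits_iff, isUnit_map_iff]; exact hπ'.not_isUnit
  have hπBm : algebraMap A B π ∈ IsLocalRing.maximalIdeal B := by
    rw [IsLocalRing.mem_maximalIdeal, mem_nonunits_iff, isUnit_map_iff]; exact hπ'.not_isUnit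
  have hπU0 : algebraMap A U π ≠ 0 := fun h => hπ'.ne_zero (IsFractionRing.injective A K ((algebraMap K K').injective (by
    rw [map_zero, map_zero]; exact congrArg Subtype.val h)))
  obtain ⟨eU, u, hu⟩ := IsDiscreteValuationRing.eq_unit_mul_pow_irreducible hπU0 hy
  obtain ⟨eB, v, hv⟩ := IsDiscreteValuationRing.eq_unit_mul_pow_irreducible ((map_ne_zero_iff _ hinj).mpr hπ'.ne_zero) hϖ
  have heU : Ideal.ramificationIdx' (IsLocalRing.maximalIdeal A) (IsLocalRing.maximalIdeal U) = eU :=
    EtRamIdx.eq_of_associated hπ hmU hy.ne_zero (hu ▸ associated_unit_mul_left _ _ u.isUnit)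
  have heB0 : eB ≠ 0 := fun h => hπBm (by rw [hv, h, pow_zero, mul_one]; exact v.isUnit)
  have heU0 : eU ≠ 0 := fun h => hπUm (by rw [hu, h, pow_zero, mul_one]; exact u.isUnit)
  have hgpos : 0 < Nat.gcd eU eB := Nat.gcd_pos_of_pos_left _ (Nat.pos_of_ne_zero heU0)
  obtain ⟨e', d', hcop, he', hd'⟩ := Nat.exists_coprime eU eB
  have hgk : ((Nat.gcd eU eB : ℕ) : IsLocalRing.ResidueField A) ≠ 0 := by
    obtain ⟨p, hp⟩ := CharP.exists (IsLocalRing.ResidueField A)
    rw [Ne, CharP.cast_eq_zero_iff (IsLocalRing.ResidueField A) p]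
    rcases CharP.char_is_prime_or_zero (IsLocalRing.ResidueField A) p with hpp | rfl
    · intro hdvd
      exact htU p hpp hp (heU ▸ hdvd.trans (Nat.gcd_dvd_left eU eB))
    · rw [Nat.zero_dvd]; omega
  obtain ⟨z, η, wR, hwR, hmax, hxz, -, hroot, hsurj⟩ := EtRamBC.tame A B U W π y ϖ hmU hmB hϖ (Nat.gcd eU eB) e' d'
    (fun h => heU0 (by rw [he', h, zero_mul])) (fun h => heB0 (by rw [hd', h, zero_mul])) hcop hgk u v
    (by rw [hu]; congr 2; rw [mul_comm]; exact he') (by rw [hv]; congr 2; rw [mul_comm]; exact hd')
    (fun a b hab => Subtype.ext (gK.injective (congrArg Subtype.val hab))) hy.ne_zero hinjBW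
    (fun w => by
      let ι : W →ₐ[B] F := { W.subtype with commutes' := fun _ => rfl }
      exact (isAlgebraic_algHom_iff ι Subtype.val_injective).mp (halgF.isAlgebraic _))
    (fun w => by
      obtain ⟨x, hx⟩ := hF (w : F)
      obtain ⟨s, t, ht, hst⟩ := hdiv x
      refine ⟨s, t, fun h0 => ht (by rw [h0]; rfl), Subtype.ext ?_⟩
      rw [hx] at hst
      exact hst)
  have hsepR : ∀ r, EtRamBC.resHom A B U W r ∈ separableClosure (IsLocalRing.ResidueField B) (IsLocalRing.ResidueField W) := by
    intro r
    induction r using TensorProduct.induction_on with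
    | zero => rw [map_zero]; exact zero_mem _
    | tmul x y =>
      rw [EtRamBC.resHom, Algebra.TensorProduct.lift_tmul]
      refine mul_mem ?_ ((separableClosure _ _).algebraMap_mem y)
      rw [mem_separableClosure_iff]
      exact IsSeparable.tower_top _ ((Algebra.IsSeparable.isSeparable (IsLocalRing.ResidueField A) x).map
        (IsScalarTower.toAlgHom (IsLocalRing.ResidueField A) (IsLocalRing.ResidueField U) (IsLocalRing.ResidueField W))
        (RingHom.injective _))
    | add a b ha hb => rw [map_add]; exact add_mem ha hb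
  refine ⟨?_, fun p hp hc => ?_⟩
  · show Algebra.IsSeparable (IsLocalRing.ResidueField B) (IsLocalRing.ResidueField W)
    set S := separableClosure (IsLocalRing.ResidueField B) (IsLocalRing.ResidueField W) with hS
    have hη : IsLocalRing.residue W η ∈ S := by
      have hcS : IsLocalRing.residue W η ^ Nat.gcd eU eB = EtRamBC.resHom A B U W wR := by
        have h1 := hroot
        rw [Polynomial.eval₂_sub, Polynomial.eval₂_X_pow, Polynomial.eval₂_C, sub_eq_zero] at h1
        exact h1
      haveI : NeZero (Nat.gcd eU eB) := ⟨hgpos.ne'⟩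
      have hgW : ((Nat.gcd eU eB : ℕ) : S) ≠ 0 := by
        rw [← map_natCast (algebraMap (IsLocalRing.ResidueField B) S), ← map_natCast (algebraMap (IsLocalRing.ResidueField A) (IsLocalRing.ResidueField B))]
        exact (map_ne_zero _).mpr ((map_ne_zero _).mpr hgk)
      have hc0 : (⟨EtRamBC.resHom A B U W wR, hsepR wR⟩ : S) ≠ 0 := fun h0 =>
        (hwR.map (EtRamBC.resHom A B U W)).ne_zero (congrArg Subtype.val h0)
      have hsepη : IsSeparable S (IsLocalRing.residue W η) := by
        refine (Polynomial.separable_X_pow_sub_C (⟨_, hsepR wR⟩ : S) hgW hc0).of_dvd (minpoly.dvd _ _ ?_)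
        rw [map_sub, map_pow, Polynomial.aeval_X, Polynomial.aeval_C, hcS, sub_eq_zero]
        rfl
      haveI : Algebra.IsSeparable (IsLocalRing.ResidueField B) S := separableClosure.isSeparable _ _
      exact mem_separableClosure_iff.mpr (IsSeparable.of_algebra_isSeparable_of_isSeparable _ hsepη)
    constructor
    intro c
    obtain ⟨r, rfl⟩ := hsurj c
    rw [← mem_separableClosure_iff]
    obtain ⟨P, rfl⟩ := AdjoinRoot.mk_surjective r
    rw [AdjoinRoot.lift_mk, Polynomial.eval₂_eq_sum, Polynomial.sum_def]
    exact sum_mem fun i _ => mul_mem (hsepR _) (pow_mem hη i)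
  · show ¬ p ∣ Ideal.ramificationIdx' (IsLocalRing.maximalIdeal B) (IsLocalRing.maximalIdeal W)
    have hz0 : z ≠ 0 := by
      intro h0
      have := hxz
      rw [h0, zero_pow (fun h => heU0 (by rw [he', h, zero_mul])), associated_zero_iff_eq_zero] at this
      exact (map_ne_zero_iff _ hinjBW).mpr hϖ.ne_zero this
    rw [EtRamIdx.eq_of_associated hmB hmax hz0 hxz]
    haveI hc' : CharP (IsLocalRing.ResidueField B) p := hc
    have hcA : CharP (IsLocalRing.ResidueField A) p := (RingHom.charP_iff (algebraMap (IsLocalRing.ResidueField A) (IsLocalRing.ResidueField B)) (RingHom.injective _) p).mpr hc'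
    intro hd
    refine htU p hp hcA ?_
    rw [heU, he']
    exact hd.mul_right _

end Groth.Agent.S9307
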