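import Groth.Statements.S1991
import Mathlib
import Groth.Agent.S1989
import Groth.Agent.S1990
import Groth.Agent.S9306
import Groth.Agent.S9307
import Groth.Agent.EtRamBC.ResField

set_option autoImplicit false
universe u
open EtAlg

namespace Groth.Agent.S1991

open TensorProduct

open IntermediateField in
lemma sup_step (A K Ω : Type u) [CommRing A] [IsDomain A] [IsDiscreteValuationRing A] [Field K] [Algebra A K] [IsFractionRing A K]
    [Field Ω] [Algebra K Ω] (E₁ E₂ : IntermediateField K Ω) [FiniteDimensional K E₁] [FiniteDimensional K E₂]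
    [Algebra.IsSeparable K E₁] [Algebra.IsSeparable K E₂] :
    (EtRam.IsUnramifiedExt A ((algebraMap K E₁).comp (algebraMap A K)) →
      EtRam.IsUnramifiedExt A ((algebraMap K E₂).comp (algebraMap A K)) →
      EtRam.IsUnramifiedExt A ((algebraMap K (E₁ ⊔ E₂ : IntermediateField K Ω)).comp (algebraMap A K))) ∧
    (EtRam.IsTamelyRamified A ((algebraMap K E₁).comp (algebraMap A K)) →
      EtRam.IsTamelyRamified A ((algebraMap K E₂).comp (algebraMap A K)) →
      EtRam.IsTamelyRamified A ((algebraMap K (E₁ ⊔ E₂ : IntermediateField K Ω)).comp (algebraMap A K))) := by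
  set F : IntermediateField K Ω := E₁ ⊔ E₂
  haveI : FiniteDimensional K F := IntermediateField.finiteDimensional_sup E₁ E₂
  haveI : Algebra.IsSeparable K F := IntermediateField.isSeparable_sup K Ω E₁ E₂
  let i₁ : E₁ →ₐ[K] F := IntermediateField.inclusion le_sup_left
  let i₂ : E₂ →ₐ[K] F := IntermediateField.inclusion le_sup_right
  letI : Algebra E₁ F := i₁.toRingHom.toAlgebra
  haveI : IsScalarTower K E₁ F := IsScalarTower.of_algebraMap_eq fun x => (i₁.commutes x).symm
  letI : Algebra (E₂ ⊗[K] E₁) F := (Algebra.TensorProduct.productMap i₂ i₁).toRingHom.toAlgebra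
  have hsurj : Function.Surjective (Algebra.TensorProduct.productMap i₂ i₁) := by
    have hr : (Algebra.TensorProduct.productMap i₂ i₁).range.map F.val = F.toSubalgebra := by
      rw [Algebra.TensorProduct.productMap_range, Algebra.map_sup, show F.toSubalgebra = E₂.toSubalgebra ⊔ E₁.toSubalgebra by
        rw [sup_comm, ← IntermediateField.sup_toSubalgebra_of_left]]
      congr 1
      · rw [← AlgHom.range_comp, show F.val.comp i₂ = E₂.val from AlgHom.ext fun _ => rfl, IntermediateField.range_val]
      · rw [← AlgHom.range_comp, show F.val.comp i₁ = E₁.val from AlgHom.ext fun _ => rfl, IntermediateField.range_val]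
    intro y
    obtain ⟨z, ⟨w, hw⟩, hz⟩ : (y : Ω) ∈ (Algebra.TensorProduct.productMap i₂ i₁).range.map F.val := by rw [hr]; exact y.2
    exact ⟨w, hw.trans (Subtype.ext hz)⟩
  refine ⟨fun h₁ h₂ => (Groth.Agent.S1990.result A K E₁ F).2 h₁ fun V hV => ?_, fun h₁ h₂ => (Groth.Agent.S1990.result A K E₁ F).1 h₁ fun V hV => ?_⟩
  all_goals
    letI : Algebra A V := (RingHom.codRestrict ((algebraMap K E₁).comp (algebraMap A K)) V hV.1).toAlgebra
    haveI : IsLocalHom (algebraMap A V) := ⟨fun a ha => by
      by_contra hna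
      exact ((V.valuation_lt_one_iff _).mpr (hV.2 a hna)) ha⟩
    letI : Algebra A E₁ := ((algebraMap K E₁).comp (algebraMap A K)).toAlgebra
    haveI : IsScalarTower A K E₁ := IsScalarTower.of_algebraMap_eq fun _ => rfl
    haveI : IsScalarTower A V E₁ := IsScalarTower.of_algebraMap_eq fun _ => rfl
    haveI := EtRamBC.isDiscreteValuationRing A K V (fun _ => rfl)
    have hinj : Function.Injective (algebraMap A V) := fun a b hab =>
      IsFractionRing.injective A K ((algebraMap K E₁).injective (congrArg Subtype.val hab))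
  · convert Groth.Agent.S9306.result A V K E₁ E₂ hinj h₂ F hsurj using 1
    refine RingHom.ext fun v => ?_
    show i₁ (v : E₁) = Algebra.TensorProduct.productMap i₂ i₁ ((1 : E₂) ⊗ₜ[K] (v : E₁))
    rw [Algebra.TensorProduct.productMap_apply_tmul, map_one, one_mul]
  · convert Groth.Agent.S9307.result A V K E₁ E₂ hinj h₂ F hsurj using 1
    refine RingHom.ext fun v => ?_
    show i₁ (v : E₁) = Algebra.TensorProduct.productMap i₂ i₁ ((1 : E₂) ⊗ₜ[K] (v : E₁))
    rw [Algebra.TensorProduct.productMap_apply_tmul, map_one, one_mul]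

lemma transfer (A K L E : Type u) [CommRing A] [IsDomain A] [IsDiscreteValuationRing A] [Field K] [Algebra A K] [IsFractionRing A K]
    [Field L] [Field E] [Algebra K L] [Algebra K E] [FiniteDimensional K L] [Algebra.IsSeparable K L] (e : E ≃ₐ[K] L) :
    (EtRam.IsTamelyRamified A ((algebraMap K L).comp (algebraMap A K)) →
      EtRam.IsTamelyRamified A ((algebraMap K E).comp (algebraMap A K))) ∧
    (EtRam.IsUnramifiedExt A ((algebraMap K L).comp (algebraMap A K)) →
      EtRam.IsUnramifiedExt A ((algebraMap K E).comp (algebraMap A K))) := by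
  letI : Algebra E L := e.toRingEquiv.toRingHom.toAlgebra
  haveI : IsScalarTower K E L := IsScalarTower.of_algebraMap_eq fun x => (e.commutes x).symm
  exact Groth.Agent.S1989.result A K E L

open IntermediateField in
lemma closure_step (A K L : Type u) [CommRing A] [IsDomain A] [IsDiscreteValuationRing A] [Field K] [Algebra A K] [IsFractionRing A K]
    [Field L] [Algebra K L] [FiniteDimensional K L] [Algebra.IsSeparable K L]
    (P : ∀ (M : Type u) [Field M] [Algebra K M], Prop)
    (hequiv : ∀ (E : IntermediateField K (AlgebraicClosure K)), (E ≃ₐ[K] L) → P E)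
    (hsup : ∀ (E₁ E₂ : IntermediateField K (AlgebraicClosure K)) [FiniteDimensional K E₁] [FiniteDimensional K E₂]
      [Algebra.IsSeparable K E₁] [Algebra.IsSeparable K E₂], P E₁ → P E₂ → P (E₁ ⊔ E₂ : IntermediateField K (AlgebraicClosure K))) :
    ∃ (M : Type u) (_ : Field M) (_ : Algebra K M) (_ : FiniteDimensional K M) (_ : IsGalois K M) (_ : L →ₐ[K] M), P M := by
  classical
  let Ω := AlgebraicClosure K
  haveI : Nonempty (L →ₐ[K] Ω) := ⟨IsAlgClosed.lift⟩
  have key : ∀ (s : Finset (L →ₐ[K] Ω)) (hs : s.Nonempty), FiniteDimensional K (s.sup' hs AlgHom.fieldRange : IntermediateField K Ω) ∧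
      Algebra.IsSeparable K (s.sup' hs AlgHom.fieldRange : IntermediateField K Ω) ∧ P (s.sup' hs AlgHom.fieldRange : IntermediateField K Ω) := by
    intro s hs
    induction hs using Finset.Nonempty.cons_induction with
    | singleton f =>
      rw [Finset.sup'_singleton]
      let ef : L ≃ₐ[K] f.fieldRange := AlgEquiv.ofInjectiveField f
      exact ⟨LinearEquiv.finiteDimensional ef.toLinearEquiv, AlgEquiv.Algebra.isSeparable ef, hequiv _ ef.symm⟩
    | cons f s hf hs ih =>
      rw [Finset.sup'_cons hs]
      let ef : L ≃ₐ[K] f.fieldRange := AlgEquiv.ofInjectiveField f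
      haveI := LinearEquiv.finiteDimensional ef.toLinearEquiv
      haveI := AlgEquiv.Algebra.isSeparable ef
      haveI := ih.1
      haveI := ih.2.1
      exact ⟨IntermediateField.finiteDimensional_sup _ _, IntermediateField.isSeparable_sup K Ω f.fieldRange _,
        hsup _ _ (hequiv _ ef.symm) ih.2.2⟩
  have hN : normalClosure K L Ω = (Finset.univ : Finset (L →ₐ[K] Ω)).sup' Finset.univ_nonempty AlgHom.fieldRange := by
    rw [normalClosure_def, Finset.sup'_univ_eq_ciSup]
  obtain ⟨h1, h2, h3⟩ := key Finset.univ Finset.univ_nonempty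
  rw [← hN] at h1 h2 h3
  haveI := h2
  haveI : IsGalois K (normalClosure K L Ω) := ⟨⟩
  let f : L →ₐ[K] Ω := IsAlgClosed.lift
  let j : L →ₐ[K] normalClosure K L Ω := f.codRestrict (normalClosure K L Ω).toSubalgebra
    (fun x => (f.fieldRange_le_normalClosure : f.fieldRange ≤ _) ⟨x, rfl⟩)
  exact ⟨normalClosure K L Ω, inferInstance, inferInstance, h1, inferInstance, j, h3⟩


/-- Let A be a discrete valuation ring with fraction field K. A finite separable extension L/K that is
unramified (resp. tamely ramified) with respect to A embeds over K into a finite Galois extension of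
K that is unramified (resp. tamely ramified) with respect to A; and two finite separable extensions
of K that are unramified (resp. tamely ramified) with respect to A embed over K into a common finite
separable extension with the same property. -/
theorem result (A K : Type u) [CommRing A] [IsDomain A] [IsDiscreteValuationRing A] [Field K] [Algebra A K] [IsFractionRing A K] :
    (∀ (L : Type u) [Field L] [Algebra K L] [FiniteDimensional K L] [Algebra.IsSeparable K L],
      (EtRam.IsUnramifiedExt A ((algebraMap K L).comp (algebraMap A K)) →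
        ∃ (M : Type u) (_ : Field M) (_ : Algebra K M) (_ : FiniteDimensional K M) (_ : IsGalois K M) (_ : L →ₐ[K] M),
          EtRam.IsUnramifiedExt A ((algebraMap K M).comp (algebraMap A K))) ∧
      (EtRam.IsTamelyRamified A ((algebraMap K L).comp (algebraMap A K)) →
        ∃ (M : Type u) (_ : Field M) (_ : Algebra K M) (_ : FiniteDimensional K M) (_ : IsGalois K M) (_ : L →ₐ[K] M),
          EtRam.IsTamelyRamified A ((algebraMap K M).comp (algebraMap A K)))) ∧
    (∀ (L₁ L₂ : Type u) [Field L₁] [Field L₂] [Algebra K L₁] [Algebra K L₂] [FiniteDimensional K L₁] [FiniteDimensional K L₂]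
      [Algebra.IsSeparable K L₁] [Algebra.IsSeparable K L₂],
      (EtRam.IsUnramifiedExt A ((algebraMap K L₁).comp (algebraMap A K)) →
        EtRam.IsUnramifiedExt A ((algebraMap K L₂).comp (algebraMap A K)) →
        ∃ (M : Type u) (_ : Field M) (_ : Algebra K M) (_ : FiniteDimensional K M) (_ : Algebra.IsSeparable K M)
          (_ : L₁ →ₐ[K] M) (_ : L₂ →ₐ[K] M), EtRam.IsUnramifiedExt A ((algebraMap K M).comp (algebraMap A K))) ∧
      (EtRam.IsTamelyRamified A ((algebraMap K L₁).comp (algebraMap A K)) →
        EtRam.IsTamelyRamified A ((algebraMap K L₂).comp (algebraMap A K)) →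
        ∃ (M : Type u) (_ : Field M) (_ : Algebra K M) (_ : FiniteDimensional K M) (_ : Algebra.IsSeparable K M)
          (_ : L₁ →ₐ[K] M) (_ : L₂ →ₐ[K] M), EtRam.IsTamelyRamified A ((algebraMap K M).comp (algebraMap A K)))) := by
  classical
  refine ⟨fun L _ _ _ _ => ⟨fun h => ?_, fun h => ?_⟩, fun L₁ L₂ _ _ _ _ _ _ _ _ => ?_⟩
  · exact closure_step A K L (fun M _ _ => EtRam.IsUnramifiedExt A ((algebraMap K M).comp (algebraMap A K)))
      (fun E e => (transfer A K L E e).2 h) (fun E₁ E₂ _ _ _ _ => (sup_step A K _ E₁ E₂).1)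
  · exact closure_step A K L (fun M _ _ => EtRam.IsTamelyRamified A ((algebraMap K M).comp (algebraMap A K)))
      (fun E e => (transfer A K L E e).1 h) (fun E₁ E₂ _ _ _ _ => (sup_step A K _ E₁ E₂).2)
  let f₁ : L₁ →ₐ[K] AlgebraicClosure K := IsAlgClosed.lift
  let f₂ : L₂ →ₐ[K] AlgebraicClosure K := IsAlgClosed.lift
  let e₁ := AlgEquiv.ofInjectiveField f₁
  let e₂ := AlgEquiv.ofInjectiveField f₂
  haveI : FiniteDimensional K f₁.fieldRange := LinearEquiv.finiteDimensional e₁.toLinearEquiv
  haveI : FiniteDimensional K f₂.fieldRange := LinearEquiv.finiteDimensional e₂.toLinearEquiv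
  haveI : Algebra.IsSeparable K f₁.fieldRange := AlgEquiv.Algebra.isSeparable e₁
  haveI : Algebra.IsSeparable K f₂.fieldRange := AlgEquiv.Algebra.isSeparable e₂
  let F : IntermediateField K (AlgebraicClosure K) := f₁.fieldRange ⊔ f₂.fieldRange
  have hd : FiniteDimensional K F := IntermediateField.finiteDimensional_sup _ _
  have hs : Algebra.IsSeparable K F := IntermediateField.isSeparable_sup K (AlgebraicClosure K) f₁.fieldRange f₂.fieldRange
  have hS := sup_step A K (AlgebraicClosure K) f₁.fieldRange f₂.fieldRange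
  refine ⟨fun h₁ h₂ => ?_, fun h₁ h₂ => ?_⟩
  all_goals
    refine ⟨F, inferInstance, inferInstance, hd, hs,
      (IntermediateField.inclusion le_sup_left).comp e₁.toAlgHom, (IntermediateField.inclusion le_sup_right).comp e₂.toAlgHom, ?_⟩
  · exact hS.1 ((transfer A K L₁ _ e₁.symm).2 h₁) ((transfer A K L₂ _ e₂.symm).2 h₂)
  · exact hS.2 ((transfer A K L₁ _ e₁.symm).1 h₁) ((transfer A K L₂ _ e₂.symm).1 h₂)

end Groth.Agent.S1991
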