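import Groth.Statements.S1992
import Mathlib
import Groth.Agent.CAlgAIC.Basic
import Groth.Agent.Hensel.Local

set_option autoImplicit false
universe u
open Polynomial
open EtAlg

namespace Groth.Agent.S1992

open Polynomial

/-- Let A be an absolutely integrally closed ring, i.e. every monic polynomial over A is a product of
linear factors X - a. Then for every prime p of A the localization A_p is a strictly henselian local
ring (henselian with separably closed residue field). -/
theorem result (A : Type u) [CommRing A]
    (hA : ∀ f : A[X], f.Monic → ∃ s : Multiset A, f = (s.map fun a => X - C a).prod)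
    (p : Ideal A) [p.IsPrime] :
    EtCoh.IsStrictlyHenselianLocalRing (Localization.AtPrime p) := by
  have hP : ∀ f : (Localization.AtPrime p)[X], f.Monic →
      ∃ s : Multiset (Localization.AtPrime p), f = (s.map fun a => X - C a).prod := by
    intro f hf
    have hl := IsLocalization.scaleRoots_commonDenom_mem_lifts p.primeCompl f
      (by rw [hf.leadingCoeff]; exact one_mem _)
    obtain ⟨g, hg, -, hgm⟩ := lifts_and_natDegree_eq_and_monic hl ((monic_scaleRoots_iff _).2 hf)
    obtain ⟨s, rfl⟩ := hA g hgm
    have h1 : ((s.map fun a => X - C a).prod.map (algebraMap A (Localization.AtPrime p))).Splits :=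
      (Splits.multisetProd fun q hq => by
        obtain ⟨a, -, rfl⟩ := Multiset.mem_map.mp hq
        exact Splits.X_sub_C a).map _
    rw [hg] at h1
    obtain ⟨w, hw⟩ := IsLocalization.map_units (Localization.AtPrime p)
      (IsLocalization.commonDenom p.primeCompl f.support f.coeff)
    rw [← hw] at h1
    have h2 := h1.scaleRoots (↑w⁻¹)
    rw [← scaleRoots_mul, Units.mul_inv, scaleRoots_one] at h2
    obtain ⟨m, hm⟩ := splits_iff_exists_multiset.mp h2
    rw [hf.leadingCoeff, map_one, one_mul] at hm
    exact ⟨m, hm⟩
  have h := Groth.Agent.CAlgAIC.henselianRing hP (IsLocalRing.maximalIdeal _)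
    (IsLocalRing.maximalIdeal_le_jacobson _) fun e he => by
      letI := Ideal.Quotient.field (IsLocalRing.maximalIdeal (Localization.AtPrime p))
      rcases IsIdempotentElem.iff_eq_zero_or_one.mp he with rfl | rfl
      · exact ⟨0, IsIdempotentElem.zero, map_zero _⟩
      · exact ⟨1, IsIdempotentElem.one, map_one _⟩
  refine ⟨Groth.Agent.Hensel.henselianLocalRing_iff_henselianRing.mpr h, ?_⟩
  haveI : IsAlgClosed (IsLocalRing.ResidueField (Localization.AtPrime p)) := by
    refine IsAlgClosed.of_exists_root _ fun q hq hirr => ?_
    obtain ⟨g, hg, hd, hgm⟩ := lifts_and_natDegree_eq_and_monic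
      (Polynomial.map_surjective _ IsLocalRing.residue_surjective q) hq
    obtain ⟨s, rfl⟩ := hP g hgm
    rcases s.empty_or_exists_mem with rfl | ⟨a, ha⟩
    · refine absurd ?_ hirr.not_isUnit
      simp [← hg]
    · obtain ⟨t, rfl⟩ := Multiset.exists_cons_of_mem ha
      refine ⟨IsLocalRing.residue _ a, ?_⟩
      rw [← hg]
      simp
  infer_instance

end Groth.Agent.S1992
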