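import Groth.Statements.S1993
import Mathlib
import Groth.Agent.Hensel.Henselization
import Groth.Agent.Hensel.PairHens
import Groth.Agent.Hensel.Local

set_option autoImplicit false
universe u
open EtAlg

namespace Groth.Agent.S1993

/-- Let A be a local ring with maximal ideal m and B a local A-algebra with local structure map. Then B
is a henselization of the pair (A, m) if and only if B is a henselization of the local ring A (both
in the sense of the universal properties). -/
theorem result (A B : Type u) [CommRing A] [IsLocalRing A] [CommRing B]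
    [IsLocalRing B] [Algebra A B] [IsLocalHom (algebraMap A B)] :
    Hens2.IsPairHenselization A (IsLocalRing.maximalIdeal A) B ↔ Hensel.IsHenselization A B := by
  constructor
  · intro hB
    obtain ⟨e⟩ : Nonempty (Hensel.Hens A (IsLocalRing.ResidueField A) ≃ₐ[A] B) := Hensel.exists_algEquiv_hens_pair hB
    have hH : Hensel.IsHenselization A (Hensel.Hens A (IsLocalRing.ResidueField A)) := inferInstance
    haveI := hH.henselian
    refine ⟨Hensel.henselianLocalRing_of_ringEquiv e.toRingEquiv, fun T _ _ f hf => ?_⟩
    obtain ⟨g, hg, hu⟩ := hH.universal T f hf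
    refine ⟨g.comp (e.symm : B →+* _), RingHom.ext fun a => ?_, fun g' hg' => RingHom.ext fun x => ?_⟩
    · show g (e.symm (algebraMap A B a)) = f a
      rw [e.symm.commutes]; exact RingHom.congr_fun hg a
    · have := RingHom.congr_fun (hu (g'.comp (e : _ →+* B)) (RingHom.ext fun a => by
        show g' (e (algebraMap A _ a)) = f a
        rw [e.commutes]; exact RingHom.congr_fun hg' a)) (e.symm x)
      simpa using this
  · intro hB
    obtain ⟨e⟩ : Nonempty (Hensel.Hens A (A ⧸ IsLocalRing.maximalIdeal A) ≃ₐ[A] B) := Hensel.exists_algEquiv_hens (S := B)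
    obtain ⟨h1, h2⟩ := Hensel.isPairHenselization_hens A (IsLocalRing.maximalIdeal A)
    have hmap : (IsLocalRing.maximalIdeal A).map (algebraMap A B) =
        ((IsLocalRing.maximalIdeal A).map (algebraMap A _)).map (e.toRingEquiv : Hensel.Hens A (A ⧸ IsLocalRing.maximalIdeal A) →+* B) := by
      rw [Ideal.map_map]
      congr 1
      exact RingHom.ext fun a => (e.commutes a).symm
    refine ⟨hmap ▸ Hensel.henselianRing_of_ringEquiv e.toRingEquiv _, fun C _ J f hC hf => ?_⟩
    obtain ⟨g, hg, hu⟩ := h2 C J f hC hf
    refine ⟨g.comp (e.symm : B →+* _), RingHom.ext fun a => ?_, fun g' hg' => RingHom.ext fun x => ?_⟩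
    · show g (e.symm (algebraMap A B a)) = f a
      rw [e.symm.commutes]; exact RingHom.congr_fun hg a
    · have := RingHom.congr_fun (hu (g'.comp (e : _ →+* B)) (RingHom.ext fun a => by
        show g' (e (algebraMap A _ a)) = f a
        rw [e.commutes]; exact RingHom.congr_fun hg' a)) (e.symm x)
      simpa using this

end Groth.Agent.S1993
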