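import Groth.Statements.S19945
import Groth.Agent.GenLocus.PullTensor
import Groth.Agent.TensorMod.Dual
import Groth.Agent.TensorMod.Invertible
import Mathlib.CategoryTheory.FiberedCategory.Grothendieck

set_option backward.isDefEq.respectTransparency.types false

set_option autoImplicit false
universe u
open CategoryTheory MonoidalCategory CartesianMonoidalCategory MonObj GrpObj AlgebraicGeometry
open ThetaGrp

namespace Groth.Agent.S19945Aux

open CategoryTheory CategoryTheory.Limits MonoidalCategory CartesianMonoidalCategory MonObj AlgebraicGeometry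
open Pseudofunctor

/-- composition of inverse images along an equality -/
noncomputable def pc {X Y Z : Scheme.{u}} (f : X ⟶ Y) (g : Y ⟶ Z) {h : X ⟶ Z} (e : f ≫ g = h) (L : Z.Modules) :
    (Scheme.Modules.pullback f).obj ((Scheme.Modules.pullback g).obj L) ≅ (Scheme.Modules.pullback h).obj L :=
  (Scheme.Modules.pullbackComp f g).app L ≪≫ (Scheme.Modules.pullbackCongr e).app L

section CoGroth

variable {C : Type*} [Category C] {F : Pseudofunctor (LocallyDiscrete Cᵒᵖ) Cat} {S : C}

set_option backward.defeqAttrib.useBackward true in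
set_option backward.isDefEq.respectTransparency false in
theorem ι_surj {a b : F.obj ⟨Opposite.op S⟩}
    (f : (CoGrothendieck.ι F S).obj a ⟶ (CoGrothendieck.ι F S).obj b) (hf : f.base = 𝟙 S) :
    ∃ φ, (CoGrothendieck.ι F S).map φ = f := by
  refine ⟨f.fiber ≫ eqToHom (by simp [hf]) ≫ (F.mapId ⟨Opposite.op S⟩).hom.toNatTrans.app b, ?_⟩
  ext <;> simp [hf, ← Cat.Hom₂.comp_app]

set_option backward.defeqAttrib.useBackward true in
set_option backward.isDefEq.respectTransparency false in
theorem ι_inj {a b : F.obj ⟨Opposite.op S⟩} {φ ψ : a ⟶ b}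
    (h : (CoGrothendieck.ι F S).map φ = (CoGrothendieck.ι F S).map ψ) : φ = ψ := by
  simpa [cancel_mono, ← Cat.Hom.toNatIso_hom, ← Cat.Hom.toNatIso_inv] using
    ((CoGrothendieck.Hom.ext_iff _ _).mp h).2

theorem isIso_cartesianLift {R : C} (a : F.obj ⟨Opposite.op S⟩) (f : R ⟶ S) [IsIso f] :
    IsIso (CoGrothendieck.cartesianLift a f) :=
  haveI := CoGrothendieck.isStronglyCartesian_homCartesianLift a f
  Functor.IsStronglyCartesian.isIso_of_base_isIso (CoGrothendieck.forget F) f _

end CoGroth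

section Theta

variable {S : Scheme.{u}} {A : Over S} [GrpObj A] {L : A.left.Modules}

theorem isIso_transl {T : Over S} (y : T ⟶ A) : IsIso (ThetaGrp.transl A y).left := by
  refine ⟨(ThetaGrp.transl A y⁻¹).left, ?_, ?_⟩ <;>
    rw [← Over.comp_left, ← ThetaGrp.transl_mul] <;>
    simp [ThetaGrp.transl_one]

theorem exists_thetaPt {T : Over S} (y : T ⟶ A)
    (φ : (Scheme.Modules.pullback (fst A T).left).obj L ≅
      (Scheme.Modules.pullback (ThetaGrp.transl A y).left).obj ((Scheme.Modules.pullback (fst A T).left).obj L)) :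
    ∃ β : ThetaGrp.thetaPts A L T, ThetaGrp.IsOverPt β y := by
  haveI := isIso_transl y
  let cl := CoGrothendieck.cartesianLift (F := ThetaGrp.modPF.{u}) (S := (A ⊗ T).left)
    ((Scheme.Modules.pullback (fst A T).left).obj L) (ThetaGrp.transl A y).left
  haveI hcl : IsIso cl := isIso_cartesianLift _ _
  let v := (CoGrothendieck.ι ThetaGrp.modPF.{u} (A ⊗ T).left).mapIso φ
  refine ⟨⟨(v ≪≫ @asIso _ _ _ _ cl hcl : ThetaGrp.thetaObj A L T ≅ ThetaGrp.thetaObj A L T), ⟨y, ?_⟩⟩, ?_⟩
  · show 𝟙 _ ≫ _ = _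
    exact Category.id_comp _
  · show 𝟙 _ ≫ _ = _
    exact Category.id_comp _

theorem nonempty_iso_of_thetaPt {T : Over S} {y : T ⟶ A} (β : ThetaGrp.thetaPts A L T)
    (h : ThetaGrp.IsOverPt β y) :
    Nonempty ((Scheme.Modules.pullback (fst A T).left).obj L ≅
      (Scheme.Modules.pullback (ThetaGrp.transl A y).left).obj ((Scheme.Modules.pullback (fst A T).left).obj L)) := by
  haveI := isIso_transl y
  let cl := CoGrothendieck.cartesianLift (F := ThetaGrp.modPF.{u}) (S := (A ⊗ T).left)
    ((Scheme.Modules.pullback (fst A T).left).obj L) (ThetaGrp.transl A y).left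
  haveI : IsIso cl := isIso_cartesianLift _ _
  let v : ThetaGrp.thetaObj A L T ≅ _ := β.1 ≪≫ (asIso cl).symm
  have hb : v.hom.base = 𝟙 _ := by
    show β.1.hom.base ≫ (inv cl).base = _
    rw [h]
    have h1 : (cl ≫ inv cl).base = 𝟙 _ := by rw [IsIso.hom_inv_id]; rfl
    exact h1
  have hb' : v.inv.base = 𝟙 _ := by
    have h1 : (v.inv ≫ v.hom).base = 𝟙 _ := by rw [Iso.inv_hom_id]; rfl
    rw [CoGrothendieck.categoryStruct_comp_base, hb] at h1
    exact (Category.comp_id _).symm.trans h1
  obtain ⟨φ, hφ⟩ := ι_surj (F := ThetaGrp.modPF.{u}) (S := (A ⊗ T).left) v.hom hb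
  obtain ⟨ψ, hψ⟩ := ι_surj (F := ThetaGrp.modPF.{u}) (S := (A ⊗ T).left) v.inv hb'
  exact ⟨{ hom := φ, inv := ψ
           hom_inv_id := ι_inj (F := ThetaGrp.modPF.{u}) (S := (A ⊗ T).left) ((CategoryTheory.Functor.map_comp _ _ _).trans ((congrArg₂ (· ≫ ·) hφ hψ).trans (v.hom_inv_id.trans ((CoGrothendieck.ι ThetaGrp.modPF.{u} (A ⊗ T).left).map_id _).symm)))
           inv_hom_id := ι_inj (F := ThetaGrp.modPF.{u}) (S := (A ⊗ T).left) ((CategoryTheory.Functor.map_comp _ _ _).trans ((congrArg₂ (· ≫ ·) hψ hφ).trans (v.inv_hom_id.trans ((CoGrothendieck.ι ThetaGrp.modPF.{u} (A ⊗ T).left).map_id _).symm))) }⟩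

theorem transl_fst_left {T : Over S} (y : T ⟶ A) :
    (ThetaGrp.transl A y).left ≫ (fst A T).left = ((A ◁ y) ≫ μ[A]).left := by
  rw [← Over.comp_left, ThetaGrp.transl_fst, Hom.mul_def]
  congr 2

theorem exists_thetaPt_iff {T : Over S} (y : T ⟶ A) :
    (∃ β : ThetaGrp.thetaPts A L T, ThetaGrp.IsOverPt β y) ↔
      Nonempty ((Scheme.Modules.pullback (fst A T).left).obj L ≅
        (Scheme.Modules.pullback ((A ◁ y) ≫ μ[A]).left).obj L) :=
  ⟨fun ⟨β, h⟩ => (nonempty_iso_of_thetaPt β h).map fun e => e ≪≫ pc _ _ (transl_fst_left y) L,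
    fun ⟨e⟩ => exists_thetaPt y (e ≪≫ (pc _ _ (transl_fst_left y) L).symm)⟩

theorem isMumfordTriv_of_iso (hL : PicF.IsInvertible L) {T : Over S} (y : T ⟶ A)
    (e : (Scheme.Modules.pullback (fst A T).left).obj L ≅
      (Scheme.Modules.pullback ((A ◁ y) ≫ μ[A]).left).obj L) :
    ThetaGrp.IsMumfordTriv A L y := by
  have hQ := GenLocus.isInvertible_pullback y.left hL
  obtain ⟨M, hM, ⟨t⟩, -⟩ := TensorMod.exists_inverse hQ
  refine ⟨M, hM, ⟨?_⟩⟩
  refine TensorMod.tensorIso (TensorMod.commIso _ _) (pc (snd A T).left y.left (by rw [← Over.comp_left]) L).symm ≪≫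
    TensorMod.assocIso _ _ _ ≪≫
    TensorMod.tensorIso (Iso.refl _) ((GenLocus.pullTensorIso _ hM hQ).symm ≪≫
      (Scheme.Modules.pullback _).mapIso (TensorMod.commIso _ _ ≪≫ t) ≪≫ GenLocus.pullUnitIso _) ≪≫
    TensorMod.unitRightIso _ ≪≫ e

theorem iso_of_triv (hL : PicF.IsInvertible L) {T T' : Over S} (g : T' ⟶ T) (x : T ⟶ A)
    (M : T.left.Modules) (hM : PicF.IsInvertible M)
    (hx : AgPol.IsLambdaSheaf ((A ◁ x) ≫ μ[A]).left (fst A T).left (snd A T ≫ x).left L
      ((Scheme.Modules.pullback (snd A T).left).obj M))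
    (a : (Scheme.Modules.pullback g.left).obj M ≅ Coh.structureModule _)
    (b : (Scheme.Modules.pullback (g ≫ x).left).obj L ≅ Coh.structureModule _) :
    Nonempty ((Scheme.Modules.pullback (fst A T').left).obj L ≅
        (Scheme.Modules.pullback ((A ◁ (g ≫ x)) ≫ μ[A]).left).obj L) := by
  obtain ⟨e⟩ := hx
  have hN := GenLocus.isInvertible_pullback (snd A T).left hM
  have hP := GenLocus.isInvertible_pullback (fst A T).left hL
  have hQ := GenLocus.isInvertible_pullback (snd A T ≫ x).left hL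
  let h := (A ◁ g).left
  have e1 : h ≫ (fst A T).left = (fst A T').left := by rw [← Over.comp_left, whiskerLeft_fst]
  have e2 : h ≫ (snd A T).left = (snd A T').left ≫ g.left := by
    rw [← Over.comp_left, whiskerLeft_snd, Over.comp_left]
  have e3 : h ≫ (snd A T ≫ x).left = (snd A T').left ≫ (g ≫ x).left := by
    rw [← Over.comp_left, ← Over.comp_left, whiskerLeft_snd_assoc]
  have e4 : h ≫ ((A ◁ x) ≫ μ[A]).left = ((A ◁ (g ≫ x)) ≫ μ[A]).left := by
    rw [← Over.comp_left, MonoidalCategory.whiskerLeft_comp_assoc]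
  let iN : (Scheme.Modules.pullback h).obj ((Scheme.Modules.pullback (snd A T).left).obj M) ≅
      Coh.structureModule _ :=
    pc _ _ e2 M ≪≫ (pc (snd A T').left g.left rfl M).symm ≪≫
      (Scheme.Modules.pullback _).mapIso a ≪≫ GenLocus.pullUnitIso _
  let iQ : (Scheme.Modules.pullback h).obj ((Scheme.Modules.pullback (snd A T ≫ x).left).obj L) ≅
      Coh.structureModule _ :=
    pc _ _ e3 L ≪≫ (pc (snd A T').left (g ≫ x).left rfl L).symm ≪≫
      (Scheme.Modules.pullback _).mapIso b ≪≫ GenLocus.pullUnitIso _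
  exact ⟨(TensorMod.tensorIso
      ((GenLocus.pullTensorIso h hN hP) ≪≫ TensorMod.tensorIso iN (pc _ _ e1 L) ≪≫ TensorMod.unitLeftIso _) iQ ≪≫
      TensorMod.unitRightIso _).symm ≪≫
    (GenLocus.pullTensorIso h (TensorMod.isInvertible_tensorMod hN hP) hQ).symm ≪≫
    (Scheme.Modules.pullback h).mapIso e ≪≫ pc _ _ e4 L⟩

end Theta

end Groth.Agent.S19945Aux

namespace Groth.Agent.S19945

/-- Let X be an abelian variety over a field k (a proper, geometrically integral, commutative k-group
scheme), L an invertible O_X-module and i : K → X a closed immersion exhibiting K as K(L), the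
maximal closed subscheme of X over which the Mumford bundle m^*L ⊗ p_1^*L⁻¹ ⊗ p_2^*L⁻¹, restricted
to X ×_k K, is the inverse image of an invertible module on K, with its universal property for
morphisms T → X. For a k-scheme T and a T-valued point x of X, the following are equivalent: x
factors through i; every point of T has an open neighbourhood U over which some point of the theta
group G(L)(U) lies over the restriction of x, that is, there is an isomorphism L_U ≅ t_x^*L_U of
modules on X ×_k U. In other words the map G(L) → X, (x, φ) ↦ x, has image the subfunctor K(L),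
surjectively for the Zariski topology. -/
theorem result (k : Type u) [Field k]
    (A : Over (Spec (CommRingCat.of k))) [GrpObj A] [IsCommMonObj A] [IsProper A.hom] [GeometricallyIntegral A.hom]
    (L : A.left.Modules) (hL : PicF.IsInvertible L)
    (K : Over (Spec (CommRingCat.of k))) (iK : K ⟶ A) (hK : ThetaGrp.IsKL A L iK)
    (T : Over (Spec (CommRingCat.of k))) (x : T ⟶ A) :
    (∃ y : T ⟶ K, y ≫ iK = x) ↔
      ∀ t : ↥T.left, ∃ U : T.left.Opens, t ∈ U ∧
        ∃ β : ThetaGrp.thetaPts A L (Over.mk (U.ι ≫ T.hom)),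
          ThetaGrp.IsOverPt β ((Over.homMk U.ι rfl : Over.mk (U.ι ≫ T.hom) ⟶ T) ≫ x) := by
  constructor
  · intro hy t
    obtain ⟨M, hM, hx⟩ := (hK.univ T x).2 hy
    obtain ⟨U, hU, ⟨a⟩⟩ := hM t
    obtain ⟨V, hV, hVU, ⟨b⟩⟩ := TensorMod.exists_triv_le (GenLocus.isInvertible_pullback x.left hL) hU
    let g : Over.mk (V.ι ≫ T.hom) ⟶ T := Over.homMk V.ι rfl
    refine ⟨V, hV, (S19945Aux.exists_thetaPt_iff (g ≫ x)).2 ?_⟩
    exact S19945Aux.iso_of_triv hL g x M hM hx
      (((Scheme.Modules.restrictFunctorIsoPullback V.ι).app M).symm ≪≫ TensorMod.trivRestrict hVU a)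
      ((S19945Aux.pc V.ι x.left rfl L).symm ≪≫
        ((Scheme.Modules.restrictFunctorIsoPullback V.ι).app _).symm ≪≫ b)
  · intro h
    choose U htU β hβ using h
    have hy : ∀ t, ∃ y : Over.mk ((U t).ι ≫ T.hom) ⟶ K, y ≫ iK = Over.homMk (U t).ι rfl ≫ x := fun t => by
      obtain ⟨e⟩ := (S19945Aux.exists_thetaPt_iff _).1 ⟨β t, hβ t⟩
      exact (hK.univ _ _).1 (S19945Aux.isMumfordTriv_of_iso hL _ e)
    choose y hy using hy
    haveI := hK.closed
    let 𝒰 : T.left.OpenCover := T.left.openCoverOfIsOpenCover U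
      (TopologicalSpace.IsOpenCover.mk (eq_top_iff.2 fun t _ => TopologicalSpace.Opens.mem_iSup.2 ⟨t, htU t⟩))
    have hy' : ∀ t, (y t).left ≫ iK.left = (U t).ι ≫ x.left := fun t => by
      have := congrArg CommaMorphism.left (hy t)
      exact this
    let z : T.left ⟶ K.left := 𝒰.glueMorphisms (fun t => (y t).left) (fun i j => by
      rw [← cancel_mono iK.left, Category.assoc, Category.assoc]
      refine (congrArg (fun f => _ ≫ f) (hy' i)).trans (Eq.trans ?_ (congrArg (fun f => _ ≫ f) (hy' j)).symm)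
      exact Limits.pullback.condition_assoc x.left)
    have hz : z ≫ iK.left = x.left := 𝒰.hom_ext _ _ fun t => by
      rw [← Category.assoc, 𝒰.ι_glueMorphisms]
      exact hy' t
    exact ⟨Over.homMk z (by rw [← Over.w iK, ← Category.assoc, hz, Over.w]), Over.OverMorphism.ext hz⟩


end Groth.Agent.S19945
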