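import Groth.Statements.S1995
import Mathlib
import Groth.Agent.Hensel.HenselizationBasic
import Groth.Agent.Hensel.Pairs
import Groth.Agent.Hensel.Local

set_option autoImplicit false
universe u
open EtAlg

namespace Groth.Agent.S1995

/-- Let I_1, …, I_n be pairwise comaximal ideals of a ring A, B a henselization of the pair (A, I_1 ∩ …
∩ I_n) and B_i a henselization of (A, I_i) for each i. Then B is isomorphic as an A-algebra to the
product of the B_i (any such isomorphism is the natural comparison map, by the universal property). -/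
theorem result (A : Type u) [CommRing A] {n : ℕ} (I : Fin n → Ideal A)
    (hI : Pairwise fun i j => I i ⊔ I j = ⊤) (B : Type u) [CommRing B] [Algebra A B]
    (hB : Hens2.IsPairHenselization A (⨅ i, I i) B) (Bi : Fin n → Type u) [∀ i, CommRing (Bi i)] [∀ i, Algebra A (Bi i)]
    (hBi : ∀ i, Hens2.IsPairHenselization A (I i) (Bi i)) :
    Nonempty (B ≃ₐ[A] ∀ i, Bi i) := by
  classical
  suffices h : Hens2.IsPairHenselization A (⨅ i, I i) (∀ i, Bi i) from Hensel.exists_algEquiv_of_isPairHenselization hB h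
  have hcr : ∀ i, ∃ a : A, a - 1 ∈ I i ∧ ∀ j, j ≠ i → a ∈ I j := fun i => by
    obtain ⟨a, ha⟩ := Ideal.quotientInfToPiQuotient_surj (fun i j hij => Ideal.isCoprime_iff_sup_eq.mpr (hI hij))
      (Pi.single i 1)
    obtain ⟨a, rfl⟩ := Ideal.Quotient.mk_surjective a
    refine ⟨a, Ideal.Quotient.eq.mp ?_, fun j hj => Ideal.Quotient.eq_zero_iff_mem.mp ?_⟩
    · have := congrFun ha i; rw [Ideal.quotientInfToPiQuotient_mk'] at this; simpa using this
    · have := congrFun ha j; rw [Ideal.quotientInfToPiQuotient_mk'] at this; simpa [hj] using this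
  choose a ha1 ha0 using hcr
  -- the ideal of the product
  set K := (⨅ i, I i).map (algebraMap A (∀ i, Bi i)) with hK
  set P := ⨅ i, ((I i).map (algebraMap A (Bi i))).comap (Pi.evalRingHom Bi i) with hP
  have hmemP : ∀ x, x ∈ P ↔ ∀ i, x i ∈ (I i).map (algebraMap A (Bi i)) := fun x => by simp [hP]
  have hKP : K ≤ P := Ideal.map_le_iff_le_comap.mpr fun x hx =>
    (hmemP _).mpr fun i => Ideal.mem_map_of_mem _ ((Ideal.mem_iInf.mp hx) i)
  have hax : ∀ j, ∀ x ∈ I j, a j * x ∈ ⨅ i, I i := fun j x hx => Ideal.mem_iInf.mpr fun k => by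
    by_cases hk : k = j
    · exact Ideal.mul_mem_left _ _ (hk ▸ hx)
    · exact Ideal.mul_mem_right _ _ (ha0 j k hk)
  have hsingle : ∀ j, ∀ z ∈ (I j).map (algebraMap A (Bi j)), Pi.single j z ∈ K := by
    intro j z hz
    induction hz using Submodule.span_induction with
    | mem y hy =>
      obtain ⟨x, hx, rfl⟩ := hy
      obtain ⟨w, hw⟩ : ∃ w, w * algebraMap A (Bi j) (a j) = 1 := by
        have := Ideal.mem_jacobson_bot.mp ((hBi j).1.jac (Ideal.mem_map_of_mem (algebraMap A (Bi j)) (ha1 j))) 1
        rw [mul_one, map_sub, map_one, sub_add_cancel] at this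
        exact this.exists_left_inv
      rw [show (Pi.single j (algebraMap A (Bi j) x) : ∀ i, Bi i) = Pi.single j w * algebraMap A (∀ i, Bi i) (a j * x) from ?_]
      · exact Ideal.mul_mem_left _ _ (Ideal.mem_map_of_mem _ (hax j x hx))
      funext k
      by_cases hk : k = j
      · subst hk; simp [← mul_assoc, hw]
      · simp [hk]
    | zero => rw [Pi.single_zero]; exact zero_mem _
    | add y z _ _ hy hz => rw [Pi.single_add]; exact add_mem hy hz
    | smul c y _ hy => rw [smul_eq_mul, Pi.single_mul]; exact Ideal.mul_mem_left _ _ hy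
  have hPK : P ≤ K := fun x hx => by
    rw [← Finset.univ_sum_single x]
    exact sum_mem fun j _ => hsingle j _ ((hmemP x).mp hx j)
  refine ⟨?_, fun C _ J f hC hf => ?_⟩
  · haveI : HenselianRing (∀ i, Bi i) P := by
      have hu : ∀ i, HenselianRing (Bi i) ((I i).map (algebraMap A (Bi i))) := fun i => (hBi i).1
      have e : ∀ {J' : Type u} (σ : J' ≃ Fin n), HenselianRing (∀ j, Bi (σ j))
          (⨅ j, Ideal.comap (Pi.evalRingHom (fun j => Bi (σ j)) j) ((I (σ j)).map (algebraMap A (Bi (σ j))))) :=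
        fun σ => (Hensel.henselianRing_pi_iff (R := fun j => Bi (σ j)) _).mpr fun j => hu (σ j)
      let σ : ULift.{u} (Fin n) ≃ Fin n := Equiv.ulift
      let E : (∀ j, Bi (σ j)) ≃+* ∀ i, Bi i := RingEquiv.piCongrLeft Bi σ
      have := @Hensel.henselianRing_of_ringEquiv _ _ _ _ E _ (e σ)
      refine @Hensel.henselianRing_of_le _ _ _ _ this fun x hx => ?_
      refine Ideal.mem_map_of_equiv E x |>.mpr ⟨E.symm x, Ideal.mem_iInf.mpr fun j => ?_, E.apply_symm_apply x⟩
      exact (hmemP x).mp hx (σ j)
    exact Hensel.henselianRing_of_le hKP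
  have hfJ : ∀ x ∈ ⨅ i, I i, f x ∈ J := fun x hx => hf (Ideal.mem_map_of_mem f hx)
  have hid : ∀ i, ∃ e : C, IsIdempotentElem e ∧ e - f (a i) ∈ J := fun i => by
    obtain ⟨e, he, hee⟩ := Hensel.exists_idem_lift_of_isIntegral (Hensel.gabberRoot_of_henselianRing (I := J)) (B := C) (f (a i))
      (by
        rw [Algebra.algebraMap_self, Ideal.map_id, ← map_mul, ← map_sub]
        refine hfJ _ (Ideal.mem_iInf.mpr fun k => ?_)
        by_cases hk : k = i
        · subst hk
          rw [show a k * a k - a k = a k * (a k - 1) by ring]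
          exact Ideal.mul_mem_left _ _ (ha1 k)
        · exact sub_mem (Ideal.mul_mem_left _ _ (ha0 i k hk)) (ha0 i k hk))
    exact ⟨e, he, by rwa [Algebra.algebraMap_self, Ideal.map_id] at hee⟩
  choose e he hef using hid
  have hjac : J ≤ Ideal.jacobson ⊥ := hC.jac
  have horth : ∀ i j, i ≠ j → e i * e j = 0 := fun i j hij => by
    refine Hensel.idem_eq_of_sub_mem_jacobson ((he i).mul (he j)) IsIdempotentElem.zero (hjac ?_)
    rw [sub_zero, show e i * e j = (e i - f (a i)) * e j + f (a i) * (e j - f (a j)) + f (a i * a j) by rw [map_mul]; ring]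
    refine add_mem (add_mem (Ideal.mul_mem_right _ _ (hef i)) (Ideal.mul_mem_left _ _ (hef j))) (hfJ _ ?_)
    refine Ideal.mem_iInf.mpr fun k => ?_
    by_cases hk : k = i
    · exact Ideal.mul_mem_left _ _ (ha0 j k (hk ▸ hij))
    · exact Ideal.mul_mem_right _ _ (ha0 i k hk)
  have hsum : ∑ i, e i = 1 := by
    refine Hensel.idem_eq_of_sub_mem_jacobson ?_ IsIdempotentElem.one (hjac ?_)
    · show _ * _ = _
      rw [Finset.sum_mul]
      refine Finset.sum_congr rfl fun i _ => ?_
      rw [Finset.mul_sum, Finset.sum_eq_single i (fun j _ hj => horth i j (Ne.symm hj)) (fun h => absurd (Finset.mem_univ i) h)]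
      exact he i
    · rw [show (∑ i, e i) - 1 = ∑ i, (e i - f (a i)) + f (∑ i, a i - 1) by
        rw [Finset.sum_sub_distrib, map_sub, map_sum, map_one]; ring]
      refine add_mem (sum_mem fun i _ => hef i) (hfJ _ (Ideal.mem_iInf.mpr fun k => ?_))
      rw [← Finset.add_sum_erase _ _ (Finset.mem_univ k), add_sub_right_comm]
      exact add_mem (ha1 k) (sum_mem fun j hj => ha0 j k (Finset.ne_of_mem_erase hj).symm)
  let q : Fin n → Ideal C := fun i => Ideal.span {1 - e i}
  let pr : ∀ i, C →+* C ⧸ q i := fun i => Ideal.Quotient.mk (q i)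
  have hpe : ∀ i, pr i (e i) = 1 := fun i => by
    rw [← map_one (pr i), Ideal.Quotient.eq, ← neg_sub]
    exact neg_mem (Ideal.mem_span_singleton_self _)
  have hfi : ∀ i, ∃! g : Bi i →+* C ⧸ q i, g.comp (algebraMap A (Bi i)) = (pr i).comp f := fun i => by
    haveI := Hensel.henselianRing_quotient (I := J) (q i)
    refine (hBi i).2 _ (J.map (pr i)) _ inferInstance (Ideal.map_le_iff_le_comap.mpr fun x hx => ?_)
    rw [Ideal.mem_comap, RingHom.comp_apply, ← one_mul (pr i (f x)), ← hpe i, ← map_mul]
    refine Ideal.mem_map_of_mem _ ?_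
    rw [show e i * f x = (e i - f (a i)) * f x + f (a i * x) by rw [map_mul]; ring]
    exact add_mem (Ideal.mul_mem_right _ _ (hef i)) (hfJ _ (hax i x hx))
  choose g hg hu using hfi
  let Φ : C →+* ∀ i, C ⧸ q i := Pi.ringHom pr
  have hΦ : Function.Bijective Φ := by
    refine ⟨(injective_iff_map_eq_zero _).mpr fun x hx => ?_, fun y => ?_⟩
    · rw [← one_mul x, ← hsum, Finset.sum_mul]
      refine Finset.sum_eq_zero fun i _ => ?_
      obtain ⟨c, hc⟩ := Ideal.mem_span_singleton'.mp (Ideal.Quotient.eq_zero_iff_mem.mp (congrFun hx i))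
      rw [← hc, mul_left_comm, mul_sub, mul_one, (he i).eq, sub_self, mul_zero]
    · choose l hl using fun i => Ideal.Quotient.mk_surjective (y i)
      refine ⟨∑ i, e i * l i, funext fun i => ?_⟩
      show pr i (∑ j, e j * l j) = y i
      rw [map_sum, Finset.sum_eq_single i (fun j _ hj => ?_) (fun h => absurd (Finset.mem_univ i) h), map_mul, hpe, one_mul]
      · exact hl i
      · rw [← one_mul (pr i (e j * l j)), ← hpe i, ← map_mul, ← mul_assoc, horth i j (Ne.symm hj), zero_mul, map_zero]
  let E := RingEquiv.ofBijective Φ hΦ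
  have hE : ∀ (G : (∀ i, Bi i) →+* C) (b : ∀ i, Bi i) i, E (G b) i = pr i (G b) := fun _ _ _ => rfl
  refine ⟨(E.symm : _ →+* C).comp (Pi.ringHom fun i => (g i).comp (Pi.evalRingHom Bi i)), RingHom.ext fun x => ?_,
    fun G hG => RingHom.ext fun b => E.injective (funext fun i => ?_)⟩
  · apply E.injective
    simp only [RingHom.comp_apply, RingHom.coe_coe, RingEquiv.apply_symm_apply]
    exact funext fun i => RingHom.congr_fun (hg i) x
  have hδ : pr i (G (Pi.single i 1)) = 1 := by
    rw [← hpe i]
    congr 1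
    have hδid : IsIdempotentElem (Pi.single i (1 : Bi i)) := by rw [IsIdempotentElem, ← Pi.single_mul, one_mul]
    refine Hensel.idem_eq_of_sub_mem_jacobson (hδid.map G) (he i) (hjac ?_)
    rw [show G (Pi.single i 1) - e i = G (Pi.single i 1 - algebraMap A _ (a i)) - (e i - f (a i)) by
      rw [map_sub, show G (algebraMap A _ (a i)) = f (a i) from RingHom.congr_fun hG (a i)]; ring]
    refine sub_mem ?_ (hef i)
    have h1 : Pi.single i (1 : Bi i) - algebraMap A (∀ i, Bi i) (a i) ∈ K := hPK ((hmemP _).mpr fun k => by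
      by_cases hk : k = i
      · subst hk
        rw [Pi.sub_apply, Pi.single_eq_same, Pi.algebraMap_apply, ← neg_sub, ← map_one (algebraMap A (Bi k)), ← map_sub]
        exact neg_mem (Ideal.mem_map_of_mem _ (ha1 k))
      · rw [Pi.sub_apply, Pi.single_eq_of_ne hk, Pi.algebraMap_apply, zero_sub]
        exact neg_mem (Ideal.mem_map_of_mem _ (ha0 i k hk)))
    have h2 : K.map G ≤ J := by rw [hK, Ideal.map_map, hG]; exact hf
    exact h2 (Ideal.mem_map_of_mem G h1)
  let hh : Bi i →+* C ⧸ q i :=
    { toFun := fun z => pr i (G (Pi.single i z))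
      map_one' := hδ
      map_mul' := fun z z' => by simp only [Pi.single_mul, map_mul]
      map_zero' := by simp
      map_add' := fun z z' => by simp only [Pi.single_add, map_add] }
  have hhg : hh = g i := hu i hh (RingHom.ext fun x => by
    show pr i (G (Pi.single i (algebraMap A (Bi i) x))) = pr i (f x)
    rw [show (Pi.single i (algebraMap A (Bi i) x) : ∀ i, Bi i) = Pi.single i 1 * algebraMap A _ x from ?_,
      map_mul, map_mul, hδ, one_mul, show G (algebraMap A _ x) = f x from RingHom.congr_fun hG x]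
    funext k
    by_cases hk : k = i
    · subst hk; simp
    · simp [hk])
  rw [hE]
  simp only [RingHom.comp_apply, RingHom.coe_coe, RingEquiv.apply_symm_apply]
  show pr i (G b) = g i (b i)
  rw [← hhg]
  show pr i (G b) = pr i (G (Pi.single i (b i)))
  rw [← one_mul (pr i (G b)), ← hδ, ← map_mul, ← map_mul]
  congr 2
  funext k
  by_cases hk : k = i
  · subst hk; simp
  · simp [hk]

end Groth.Agent.S1995
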