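import Groth.Statements.S19953
import Mathlib.CategoryTheory.FiberedCategory.Grothendieck
import Groth.Agent.S19945

set_option backward.isDefEq.respectTransparency.types false

set_option autoImplicit false
universe u
open CategoryTheory MonoidalCategory CartesianMonoidalCategory MonObj GrpObj AlgebraicGeometry
open ThetaGrp

namespace Groth.Agent.S19953Aux

open CategoryTheory CategoryTheory.Limits MonoidalCategory CartesianMonoidalCategory MonObj GrpObj AlgebraicGeometry
open Pseudofunctor

noncomputable abbrev F := ThetaGrp.modPF.{u}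

/-- cartesian over its underlying morphism of schemes -/
abbrev Cart {a b : CoGrothendieck F.{u}} (φ : a ⟶ b) : Prop :=
  Functor.IsStronglyCartesian (CoGrothendieck.forget F) φ.base φ

theorem cart_comp {a b c : CoGrothendieck F.{u}} {φ : a ⟶ b} {ψ : b ⟶ c} (h : Cart φ) (h' : Cart ψ) :
    Cart (φ ≫ ψ) := by
  haveI := h; haveI := h'
  exact (Functor.IsStronglyCartesian.comp (p := CoGrothendieck.forget F) :
    Functor.IsStronglyCartesian (CoGrothendieck.forget F) (φ.base ≫ ψ.base) (φ ≫ ψ))

theorem cart_of_isIso {a b : CoGrothendieck F.{u}} (φ : a ⟶ b) [IsIso φ] : Cart φ := by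
  haveI : (CoGrothendieck.forget F).IsHomLift φ.base φ := IsHomLift.map (CoGrothendieck.forget F) φ
  exact Functor.IsStronglyCartesian.of_isIso _ φ.base φ

theorem cart_lift {R S : Scheme.{u}} (a : F.{u}.obj ⟨Opposite.op S⟩) (f : R ⟶ S) :
    Cart (CoGrothendieck.cartesianLift a f) :=
  CoGrothendieck.isStronglyCartesian_homCartesianLift a f

theorem cart_ext {a b c : CoGrothendieck F.{u}} {φ : b ⟶ c} (hφ : Cart φ) {ψ ψ' : a ⟶ b}
    (hb : ψ.base = ψ'.base) (h : ψ ≫ φ = ψ' ≫ φ) : ψ = ψ' := by
  haveI := hφ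
  haveI : (CoGrothendieck.forget F).IsHomLift ψ.base ψ := IsHomLift.map (CoGrothendieck.forget F) ψ
  haveI : (CoGrothendieck.forget F).IsHomLift ψ.base ψ' := by
    rw [hb]; exact IsHomLift.map (CoGrothendieck.forget F) ψ'
  exact Functor.IsStronglyCartesian.ext (CoGrothendieck.forget F) φ.base φ ψ.base h

theorem cart_exists {a b c : CoGrothendieck F.{u}} {φ : b ⟶ c} (hφ : Cart φ) (τ : a ⟶ c)
    (g : a.base ⟶ b.base) (hg : τ.base = g ≫ φ.base) : ∃ ψ : a ⟶ b, ψ.base = g ∧ ψ ≫ φ = τ := by
  haveI := hφ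
  haveI : (CoGrothendieck.forget F).IsHomLift τ.base τ := IsHomLift.map (CoGrothendieck.forget F) τ
  refine ⟨Functor.IsStronglyCartesian.map (CoGrothendieck.forget F) φ.base φ hg τ, ?_, by simp⟩
  exact ((IsHomLift.fac (CoGrothendieck.forget F) g
    (Functor.IsStronglyCartesian.map (CoGrothendieck.forget F) φ.base φ hg τ)).trans
      ((Category.id_comp _).trans (Category.comp_id _))).symm

section Theta

variable {S : Scheme.{u}} {A : Over S} [GrpObj A] {L : A.left.Modules}

variable (A L) in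
/-- the projection to `(A, L)` -/
noncomputable def π₀ (T : Over S) : ThetaGrp.thetaObj A L T ⟶ (⟨A.left, L⟩ : CoGrothendieck F.{u}) :=
  CoGrothendieck.cartesianLift (F := F.{u}) L (fst A T).left

set_option backward.defeqAttrib.useBackward true in
set_option backward.isDefEq.respectTransparency false in
theorem bcLift_π₀ {T G : Over S} (g : T ⟶ G) : ThetaGrp.bcLift A L g ≫ π₀ A L G = π₀ A L T := by
  refine CoGrothendieck.Hom.ext _ _ ?_ ?_
  · show (A ◁ g).left ≫ (fst A G).left = (fst A T).left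
    rw [← Over.comp_left, whiskerLeft_fst]
  · simp [ThetaGrp.bcLift, π₀, Scheme.Modules.pullbackCongr]

theorem transl_comp_bc {T G : Over S} (g : T ⟶ G) (x : G ⟶ A) :
    ThetaGrp.transl A (g ≫ x) ≫ (A ◁ g) = (A ◁ g) ≫ ThetaGrp.transl A x := by
  apply CartesianMonoidalCategory.hom_ext
  · simp [ThetaGrp.transl, comp_mul]
  · simp [ThetaGrp.transl]

theorem transl_inj {T : Over S} {x y : T ⟶ A} (h : (ThetaGrp.transl A x).left = (ThetaGrp.transl A y).left) :
    x = y := by
  have h' : ThetaGrp.transl A x = ThetaGrp.transl A y := Over.OverMorphism.ext h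
  have := congrArg (fun m => lift (1 : T ⟶ A) (𝟙 T) ≫ m ≫ fst A T) h'
  simpa [comp_mul] using this

end Theta

end Groth.Agent.S19953Aux

namespace Groth.Agent.S19953

/-- Let f : X → Y be a surjective homomorphism of abelian varieties over a field k (proper,
geometrically integral, commutative k-group schemes), i : N → X its kernel (a homomorphism forming a
cartesian square with the unit section of Y), L an invertible O_X-module, M an invertible O_Y-module
with f^*M ≅ L, and G a k-group scheme with a point u ∈ G(L)(G) representing the theta group of L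
(every point of G(L)(T) is the base change of u along a unique T → G, multiplicatively). Then there
is a level subgroup of G(L) whose image in K(L) is Ker(f): a homomorphism of group schemes j : N → G
that is an immersion, such that a point of N whose image lies over the identity translation is
trivial, and that lies over i (for every k-scheme T and T-valued point n of N, the base change of u
along j(n) lies over the translation by i(n)). -/
theorem result (k : Type u) [Field k]
    (A : Over (Spec (CommRingCat.of k))) [GrpObj A] [IsCommMonObj A] [IsProper A.hom] [GeometricallyIntegral A.hom]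
    (B : Over (Spec (CommRingCat.of k))) [GrpObj B] [IsCommMonObj B] [IsProper B.hom] [GeometricallyIntegral B.hom]
    (f : A ⟶ B) [IsMonHom f] (hf : Surjective f.left)
    (N : Over (Spec (CommRingCat.of k))) [GrpObj N] (i : N ⟶ A) [IsMonHom i] (hN : AlgGrp.IsKernel i f)
    (L : A.left.Modules) (hL : PicF.IsInvertible L)
    (M : B.left.Modules) (hM : PicF.IsInvertible M)
    (hLM : Nonempty ((Scheme.Modules.pullback f.left).obj M ≅ L))
    (G : Over (Spec (CommRingCat.of k))) [GrpObj G] (u : ThetaGrp.thetaPts A L G)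
    (hG : ThetaGrp.IsThetaGrpSch A L G u) :
    ∃ j : N ⟶ G, IsMonHom j ∧ ThetaGrp.IsLevelSubgrp u j ∧
      ∀ (T : Over (Spec (CommRingCat.of k))) (n : T ⟶ N) (β : ThetaGrp.thetaPts A L T),
        ThetaGrp.IsBaseChange β (n ≫ j) u → ThetaGrp.IsOverPt β (n ≫ i) := by
  obtain ⟨e⟩ := hLM
  -- the projection to `(B, M)`
  let ρ : (⟨A.left, L⟩ : Pseudofunctor.CoGrothendieck S19953Aux.F.{u}) ⟶ ⟨B.left, M⟩ :=
    (Pseudofunctor.CoGrothendieck.ι S19953Aux.F.{u} A.left).map e.inv ≫
      Pseudofunctor.CoGrothendieck.cartesianLift (F := S19953Aux.F.{u}) M f.left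
  have hρ : S19953Aux.Cart ρ := S19953Aux.cart_comp
    (@S19953Aux.cart_of_isIso _ _ _ ((Pseudofunctor.CoGrothendieck.ι S19953Aux.F.{u} A.left).map_isIso e.inv))
    (S19953Aux.cart_lift _ _)
  let π := fun T : Over (Spec (CommRingCat.of k)) => S19953Aux.π₀ A L T ≫ ρ
  have hπ : ∀ T, S19953Aux.Cart (π T) := fun T => S19953Aux.cart_comp (S19953Aux.cart_lift _ _) hρ
  have hρb : ρ.base = f.left := Category.id_comp _
  have hπb : ∀ T, (π T).base = (fst A T ≫ f).left := fun T => by
    show (fst A T).left ≫ ρ.base = _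
    rw [hρb]; rfl
  have hif : i ≫ f = 1 := hN.w
  haveI : Mono i := ⟨fun p q h => hN.hom_ext h (toUnit_unique _ _)⟩
  have hfix : ∀ (T : Over (Spec (CommRingCat.of k))) (n : T ⟶ N),
      (π T).base = (ThetaGrp.transl A (n ≫ i)).left ≫ (π T).base := fun T n => by
    rw [hπb, ← Over.comp_left, ← Category.assoc, ThetaGrp.transl_fst, mul_comp, Category.assoc, Category.assoc, hif,
      comp_one, comp_one, _root_.mul_one]
  choose χ hχb hχ using fun (T : Over (Spec (CommRingCat.of k))) (n : T ⟶ N) =>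
    S19953Aux.cart_exists (hπ T) (π T) (ThetaGrp.transl A (n ≫ i)).left (hfix T n)
  have hχmul : ∀ T (m n : T ⟶ N), χ T m ≫ χ T n = χ T (m * n) := fun T m n => by
    refine S19953Aux.cart_ext (hπ T) ?_ (by rw [Category.assoc, hχ, hχ, hχ])
    rw [Pseudofunctor.CoGrothendieck.categoryStruct_comp_base, hχb, hχb, hχb, mul_comp,
      ThetaGrp.transl_mul, Over.comp_left]
  have hχcomm : ∀ T (m n : T ⟶ N), χ T (m * n) = χ T (n * m) := fun T m n => by
    refine S19953Aux.cart_ext (hπ T) ?_ (by rw [hχ, hχ])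
    rw [hχb, hχb, mul_comp, mul_comp, _root_.mul_comm]
  have hχone : ∀ T, χ T 1 = 𝟙 _ := fun T => by
    refine S19953Aux.cart_ext (hπ T) ?_ (by rw [hχ, Category.id_comp])
    rw [hχb, one_comp, ThetaGrp.transl_one]
    rfl
  let b : ∀ (T : Over (Spec (CommRingCat.of k))) (n : T ⟶ N), ThetaGrp.thetaPts A L T := fun T n =>
    ⟨{ hom := χ T n, inv := χ T n⁻¹
       hom_inv_id := by rw [hχmul, mul_inv_cancel, hχone]
       inv_hom_id := by rw [hχmul, inv_mul_cancel, hχone] }, ⟨n ≫ i, hχb T n⟩⟩
  have hbmul : ∀ T (m n : T ⟶ N), b T (m * n) = b T m * b T n := fun T m n => by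
    refine Subtype.ext (Iso.ext ?_)
    show χ T (m * n) = χ T n ≫ χ T m
    rw [hχmul, hχcomm]
  have hnat : ∀ T (n : T ⟶ N), (b T n).1.hom ≫ ThetaGrp.bcLift A L n = ThetaGrp.bcLift A L n ≫ (b N (𝟙 N)).1.hom :=
    fun T n => by
    have hbc : ThetaGrp.bcLift A L n ≫ π N = π T := by
      show ThetaGrp.bcLift A L n ≫ S19953Aux.π₀ A L N ≫ ρ = _
      rw [← Category.assoc, S19953Aux.bcLift_π₀]
    refine S19953Aux.cart_ext (hπ N) ?_ ?_
    · show (χ T n).base ≫ (A ◁ n).left = (A ◁ n).left ≫ (χ N (𝟙 N)).base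
      rw [hχb, hχb, ← Over.comp_left, ← Over.comp_left, Category.id_comp, S19953Aux.transl_comp_bc]
    · show (χ T n ≫ _) ≫ π N = (_ ≫ χ N (𝟙 N)) ≫ π N
      rw [Category.assoc, Category.assoc, hbc, hχ, hχ, hbc]
  have hbcc : ∀ {T U W : Over (Spec (CommRingCat.of k))} (p : T ⟶ U) (q : U ⟶ W),
      ThetaGrp.bcLift A L p ≫ ThetaGrp.bcLift A L q = ThetaGrp.bcLift A L (p ≫ q) := fun {T U W} p q => by
    refine S19953Aux.cart_ext (φ := S19953Aux.π₀ A L W) (S19953Aux.cart_lift _ _) ?_ ?_
    · show (A ◁ p).left ≫ (A ◁ q).left = (A ◁ (p ≫ q)).left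
      rw [← Over.comp_left, MonoidalCategory.whiskerLeft_comp]
    · rw [Category.assoc, S19953Aux.bcLift_π₀, S19953Aux.bcLift_π₀, S19953Aux.bcLift_π₀]
  obtain ⟨j, hj, -⟩ := hG.univ N (b N (𝟙 N))
  have hbc : ∀ T (n : T ⟶ N), ThetaGrp.IsBaseChange (b T n) (n ≫ j) u := fun T n => by
    show _ ≫ _ = _ ≫ _
    rw [← hbcc, ← Category.assoc, hnat, Category.assoc, Category.assoc]
    exact congrArg (fun m => ThetaGrp.bcLift A L n ≫ m) hj
  have hmul : ∀ T (m n : T ⟶ N), (m * n) ≫ j = (m ≫ j) * (n ≫ j) := fun T m n =>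
    (hG.univ T (b T (m * n))).unique (hbc T _)
      (by rw [hbmul]; exact hG.mul T _ _ _ _ (hbc T m) (hbc T n))
  have hone : ∀ T, (1 : T ⟶ N) ≫ j = 1 := fun T => by
    have := hmul T 1 1
    rw [_root_.mul_one] at this
    exact mul_left_cancel (a := (1 : T ⟶ N) ≫ j) (this.symm.trans (_root_.mul_one _).symm)
  haveI hjm : IsMonHom j :=
    { one_hom := by
        have := hone (𝟙_ _)
        rw [Hom.one_def, Hom.one_def] at this
        simpa [toUnit_unique (toUnit (𝟙_ _)) (𝟙 _)] using this
      mul_hom := by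
        have h2 := hmul (N ⊗ N) (fst N N) (snd N N)
        rw [Hom.mul_def, Hom.mul_def] at h2
        have e1 : lift (fst N N ≫ j) (snd N N ≫ j) = j ⊗ₘ j := by
          apply CartesianMonoidalCategory.hom_ext <;> simp
        simpa [e1] using h2 }
  have hover : ∀ T (n : T ⟶ N) (β : ThetaGrp.thetaPts A L T),
      ThetaGrp.IsBaseChange β (n ≫ j) u → ThetaGrp.IsOverPt β (n ≫ i) := fun T n β hβ => by
    rw [(hG.exists_bc T (n ≫ j)).unique hβ (hbc T n)]
    exact hχb T n
  refine ⟨j, hjm, ⟨?_, hjm, fun T h β hβ h1 => ?_⟩, hover⟩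
  · obtain ⟨xu, hxu⟩ := u.2
    have e1 : i = j ≫ xu := by
      have h0 := congrArg Pseudofunctor.CoGrothendieck.Hom.base hj
      have h0' : (χ N (𝟙 N)).base ≫ (A ◁ j).left = (A ◁ j).left ≫ u.1.hom.base := h0
      rw [hχb, Category.id_comp, hxu, ← Over.comp_left, ← Over.comp_left] at h0'
      have h1 : ThetaGrp.transl A i ≫ (A ◁ j) = (A ◁ j) ≫ ThetaGrp.transl A xu := Over.OverMorphism.ext h0'
      rw [← S19953Aux.transl_comp_bc] at h1
      have h2 := congrArg (fun m => lift (1 : N ⟶ A) (𝟙 N) ≫ m ≫ fst A G) h1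
      simpa [comp_mul] using h2
    haveI : IsClosedImmersion η[B].left := inferInstance
    haveI : IsClosedImmersion i.left :=
      MorphismProperty.of_isPullback (P := @IsClosedImmersion) (hN.map (Over.forget _)).flip this
    haveI : IsImmersion (j.left ≫ xu.left) := by
      rw [← Over.comp_left, ← e1]; infer_instance
    exact IsImmersion.of_comp j.left xu.left
  · have h2 := S19953Aux.transl_inj ((hover T h β hβ).symm.trans h1)
    rw [← cancel_mono i, h2, one_comp]


end Groth.Agent.S19953
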