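import Groth.Statements.S19964
import Groth.Agent.TorsorDesc.Generic
import Groth.Agent.ModPairLib.Closure
import Groth.Agent.GrpSch.Cat


set_option autoImplicit false
set_option synthInstance.maxHeartbeats 200000
set_option maxHeartbeats 800000
set_option backward.isDefEq.respectTransparency false
universe u
open CategoryTheory MonoidalCategory CartesianMonoidalCategory MonObj GrpObj AlgebraicGeometry CategoryTheory.Limits
open Neron

namespace Groth.Agent.S19964
open CategoryTheory.Limits MonoidalCategory CartesianMonoidalCategory MonObj GrpObj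
noncomputable section Pre
open Groth.Agent

variable {R : Type u} [CommRing R] [IsDedekindDomain R]
  (G : Over (Spec (CommRingCat.of R)))
  (HK : Over (Spec (CommRingCat.of (FractionRing R))))
  (i : HK ⟶ Red.bc (Neron.genPt R) G)

theorem flat_genPt : Flat (Neron.genPt R) := by
  rw [HasRingHomProperty.Spec_iff (P := @Flat), CommRingCat.hom_ofHom, RingHom.flat_algebraMap_iff]
  exact IsLocalization.flat (FractionRing R) (nonZeroDivisors R)

theorem mono_genPt : Mono (Neron.genPt R) := by
  haveI : Epi (CommRingCat.ofHom (algebraMap R (FractionRing R))) :=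
    IsLocalization.epi (nonZeroDivisors R) _
  exact inferInstanceAs (Mono (Scheme.Spec.map (CommRingCat.ofHom (algebraMap R (FractionRing R))).op))

/-- the composite `H_K ⟶ G` -/
def km : HK.left ⟶ G.left := i.left ≫ pullback.fst G.hom (Neron.genPt R)

instance [IsClosedImmersion i.left] : QuasiCompact (km G HK i) := by
  unfold km; infer_instance

/-- the schematic closure -/
def HH : Over (Spec (CommRingCat.of R)) := Over.mk ((km G HK i).imageι ≫ G.hom)

def jj : HH G HK i ⟶ G := Over.homMk (km G HK i).imageι rfl

variable [IsClosedImmersion i.left]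

omit [IsDedekindDomain R] in
theorem w_HK : km G HK i ≫ G.hom = HK.hom ≫ Neron.genPt R := by
  have h := Over.w i
  rw [km, Category.assoc, pullback.condition, ← Category.assoc]
  exact congrArg (fun a => a ≫ Neron.genPt R) h

omit [IsDedekindDomain R] in
theorem w_phi : (km G HK i).toImage ≫ (HH G HK i).hom = HK.hom ≫ Neron.genPt R := by
  show (km G HK i).toImage ≫ (km G HK i).imageι ≫ G.hom = _
  rw [Scheme.Hom.toImage_imageι_assoc, w_HK]

theorem flat_HH : Flat (HH G HK i).hom :=
  haveI := ModPairLib.std_toImage (km G HK i)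
  TorsorDesc.flat_of_dominant (km G HK i).toImage _ HK.hom (w_phi G HK i)

theorem isPullback_HH : IsPullback (km G HK i).toImage HK.hom (HH G HK i).hom (Neron.genPt R) := by
  haveI := flat_genPt (R := R)
  haveI := mono_genPt (R := R)
  haveI := ModPairLib.std_toImage (km G HK i)
  let P := pullback (HH G HK i).hom (Neron.genPt R)
  let e : HK.left ⟶ P := pullback.lift (km G HK i).toImage HK.hom (w_phi G HK i)
  let p' : P ⟶ pullback G.hom (Neron.genPt R) :=
    pullback.map _ _ _ _ (km G HK i).imageι (𝟙 _) (𝟙 _) (Category.comp_id _) (by rw [Category.comp_id, Category.id_comp])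
  have hp : e ≫ p' = i.left := by
    apply pullback.hom_ext
    · rw [Category.assoc, pullback.lift_fst, pullback.lift_fst_assoc, Scheme.Hom.toImage_imageι]; rfl
    · rw [Category.assoc, pullback.lift_snd, pullback.lift_snd_assoc, Category.comp_id]; exact (Over.w i).symm
  haveI : IsClosedImmersion p' := MorphismProperty.pullbackMap (P := @IsClosedImmersion) inferInstance inferInstance rfl (Category.id_comp _).symm
  haveI : IsClosedImmersion e := by
    haveI : IsClosedImmersion (e ≫ p') := by rw [hp]; infer_instance
    exact IsClosedImmersion.of_comp e p'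
  let k' : HK.left ⟶ (HH G HK i).left := (km G HK i).toImage
  haveI : QuasiCompact k' := inferInstanceAs (QuasiCompact (km G HK i).toImage)
  haveI : IsSchemeTheoreticallyDominant k' := inferInstanceAs (IsSchemeTheoreticallyDominant (km G HK i).toImage)
  haveI : QuasiCompact (pullback.fst (HH G HK i).hom (Neron.genPt R)) := inferInstance
  haveI : Flat (pullback.fst (HH G HK i).hom (Neron.genPt R)) := MorphismProperty.pullback_fst _ _ inferInstance
  haveI : IsSchemeTheoreticallyDominant (pullback.snd k' (pullback.fst (HH G HK i).hom (Neron.genPt R))) :=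
    inferInstance
  haveI : IsIso e := by
    refine TorsorDesc.isIso_of_std_factors (pullback.snd k' (pullback.fst (HH G HK i).hom (Neron.genPt R))) e
      (pullback.fst _ _) ?_
    apply pullback.hom_ext
    · rw [Category.assoc, pullback.lift_fst]; exact pullback.condition
    · rw [Category.assoc, pullback.lift_snd, ← cancel_mono (Neron.genPt R), Category.assoc, ← w_phi G HK i, Category.assoc,
        ← pullback.condition, ← pullback.condition_assoc]
  exact IsPullback.of_iso_pullback ⟨w_phi G HK i⟩ (asIso e) (pullback.lift_fst _ _ _) (pullback.lift_snd _ _ _)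

theorem exists_lift {T : Over (Spec (CommRingCat.of R))} [Flat T.hom] (t : T ⟶ G)
    (a : Red.bc (Neron.genPt R) T ⟶ HK) (ha : a ≫ i = (Over.pullback (Neron.genPt R)).map t) :
    ∃ s : T ⟶ HH G HK i, s ≫ jj G HK i = t := by
  haveI := TorsorDesc.isSTD_genPt (R := R)
  let q : pullback T.hom (Neron.genPt R) ⟶ T.left := pullback.fst T.hom (Neron.genPt R)
  haveI : IsSchemeTheoreticallyDominant q := IsSchemeTheoreticallyDominant.pullbackFst _ _
  have h1 : a.left ≫ km G HK i = q ≫ t.left := by
    rw [km, ← Category.assoc, ← Over.comp_left, ha]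
    exact pullback.lift_fst _ _ _
  have hker : ((km G HK i).imageι).ker ≤ t.left.ker := by
    rw [Scheme.IdealSheafData.ker_subschemeι]
    have h2 : (q ≫ t.left).ker = t.left.ker := by
      rw [Scheme.Hom.ker_comp, q.ker_eq_bot, Scheme.IdealSheafData.map_bot]
    rw [← h2, ← h1]
    exact Scheme.Hom.le_ker_comp _ _
  refine ⟨Over.homMk (IsClosedImmersion.lift (km G HK i).imageι t.left hker) ?_, ?_⟩
  · show IsClosedImmersion.lift _ _ _ ≫ (km G HK i).imageι ≫ G.hom = T.hom
    rw [IsClosedImmersion.lift_fac_assoc, Over.w t]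
  · exact Over.OverMorphism.ext (IsClosedImmersion.lift_fac _ _ _)

end Pre

/-- Let R be a Dedekind domain with fraction field K, G a group scheme over Spec R and i : H_K → G_K a
closed subgroup scheme of the generic fibre G_K = G ×_R K (a homomorphism which is a closed
immersion). Then there are a group scheme H over Spec R, flat over Spec R, and a homomorphism j : H
→ G which is a closed immersion, together with a morphism H_K → H presenting H_K as the generic
fibre H ×_R K compatibly with i and the embedding G_K → G, and with trivial kernel ideal sheaf (H_K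
is schematically dense in H). In words: the schematic closure in G of a closed K-subgroup of the
generic fibre is a flat closed R-subgroup scheme of G. (The source states this for group algebraic
spaces over a connected Dedekind scheme; the case of schemes over an affine base is stated.) -/
theorem result
    (R : Type u) [CommRing R] [IsDedekindDomain R]
    (G : Over (Spec (CommRingCat.of R))) [GrpObj G]
    (HK : Over (Spec (CommRingCat.of (FractionRing R)))) [GrpObj HK]
    (i : HK ⟶ Red.bc (Neron.genPt R) G) [IsMonHom i] [IsClosedImmersion i.left] :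
    ∃ (H : Over (Spec (CommRingCat.of R))) (_ : GrpObj H) (j : H ⟶ G) (φ : HK.left ⟶ H.left),
      IsMonHom j ∧ IsClosedImmersion j.left ∧ Flat H.hom ∧
      IsPullback φ HK.hom H.hom (Neron.genPt R) ∧
      φ ≫ j.left = i.left ≫ pullback.fst G.hom (Neron.genPt R) ∧
      φ.ker = ⊥ := by
  haveI := flat_HH G HK i
  haveI : IsClosedImmersion (jj G HK i).left := inferInstanceAs (IsClosedImmersion (km G HK i).imageι)
  haveI : Mono (jj G HK i) := haveI : Mono (jj G HK i).left := inferInstance; Over.mono_of_mono_left _
  let F := Over.pullback (Neron.genPt R)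
  have hpb := isPullback_HH G HK i
  let eh : F.obj (HH G HK i) ≅ HK := (Over.isoMk hpb.isoPullback (hpb.isoPullback_hom_snd)).symm
  have hj : eh.hom ≫ i = F.map (jj G HK i) := by
    rw [← Iso.cancel_iso_inv_left eh, Iso.inv_hom_id_assoc]
    refine Over.OverMorphism.ext (pullback.hom_ext ?_ ?_)
    · show i.left ≫ pullback.fst _ _ = (hpb.isoPullback.hom ≫ pullback.lift _ _ _) ≫ pullback.fst _ _
      rw [Category.assoc, pullback.lift_fst, IsPullback.isoPullback_hom_fst_assoc]
      exact ((km G HK i).toImage_imageι).symm
    · show i.left ≫ pullback.snd _ _ = (hpb.isoPullback.hom ≫ pullback.lift _ _ _) ≫ pullback.snd _ _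
      rw [Category.assoc, pullback.lift_snd, IsPullback.isoPullback_hom_snd]
      exact Over.w i
  obtain ⟨e1, he1⟩ : ∃ e1 : 𝟙_ (Over (Spec (CommRingCat.of R))) ⟶ HH G HK i, e1 ≫ jj G HK i = η[G] := by
    haveI : Flat (𝟙_ (Over (Spec (CommRingCat.of R)))).hom := inferInstanceAs (Flat (𝟙 _))
    refine exists_lift G HK i _ (1 : F.obj (𝟙_ _) ⟶ HK) ?_
    rw [MonObj.one_comp]
    exact (Functor.map_one F).symm.trans (congrArg F.map (by simp [Hom.one_def]))
  obtain ⟨m, hm⟩ : ∃ m : HH G HK i ⊗ HH G HK i ⟶ HH G HK i,
      m ≫ jj G HK i = (fst _ _ ≫ jj G HK i) * (snd _ _ ≫ jj G HK i) := by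
    haveI : Flat (HH G HK i ⊗ HH G HK i).hom := by rw [Over.tensorObj_hom]; infer_instance
    refine exists_lift G HK i _ ((F.map (fst _ _) ≫ eh.hom) * (F.map (snd _ _) ≫ eh.hom) : F.obj _ ⟶ HK) ?_
    rw [MonObj.mul_comp, Category.assoc, Category.assoc, hj, ← F.map_comp, ← F.map_comp]
    exact (Functor.map_mul F _ _).symm
  obtain ⟨n, hn⟩ : ∃ n : HH G HK i ⟶ HH G HK i, n ≫ jj G HK i = (jj G HK i)⁻¹ := by
    refine exists_lift G HK i _ (eh.hom⁻¹ : F.obj _ ⟶ HK) ?_
    rw [GrpSch.inv_comp_of_isMonHom, hj]
    exact inv_eq_of_mul_eq_one_left (by rw [← Functor.map_mul F, inv_mul_cancel, Functor.map_one F])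
  let gH := GrpSch.grpObjOfMono (jj G HK i) e1 he1 m hm n hn
  refine ⟨HH G HK i, gH, jj G HK i, (km G HK i).toImage, ?_, inferInstance, inferInstance, hpb, ?_, ?_⟩
  · refine ⟨he1, ?_⟩
    show m ≫ jj G HK i = _
    rw [hm, GrpSch.mul_eq_lift]
    congr 1
    skip
  · exact (km G HK i).toImage_imageι
  · haveI := ModPairLib.std_toImage (km G HK i)
    exact Scheme.Hom.ker_eq_bot _

end Groth.Agent.S19964
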