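import Groth.Statements.S1997
import Mathlib

set_option autoImplicit false
universe u
open CategoryTheory
open EtAlg

namespace Groth.Agent.S1997

open TensorProduct in
theorem isIntClosed_of_epi (A B : Type u) [CommRing A] [CommRing B] [Algebra A B] (hA : ∀ I : Ideal A, Module.Flat A I)
    [Module.Flat A B] (hinj : Function.Injective (algebraMap A B)) (hepi : Epi (CommRingCat.ofHom (algebraMap A B))) :
    IsIntegrallyClosedIn A B := by
  haveI : Algebra.IsEpi A B := CommRingCat.epi_iff_epi.mp hepi
  refine isIntegrallyClosedIn_iff.mpr ⟨hinj, fun {b} hb => ?_⟩
  let C := Algebra.adjoin A {b}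
  haveI : Module.Finite A C := Module.Finite.iff_fg.mpr hb.fg_adjoin_singleton
  haveI : Module.Flat A C := by
    rw [Module.Flat.iff_rTensor_injective']
    intro I
    haveI := hA I
    have h1 : Function.Injective (LinearMap.lTensor I C.val.toLinearMap) :=
      Module.Flat.lTensor_preserves_injective_linearMap _ Subtype.val_injective
    have h2 : Function.Injective (LinearMap.rTensor B (Submodule.subtype I)) :=
      Module.Flat.rTensor_preserves_injective_linearMap _ Subtype.val_injective
    have h3 : LinearMap.lTensor A C.val.toLinearMap ∘ₗ LinearMap.rTensor C (Submodule.subtype I) =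
        LinearMap.rTensor B (Submodule.subtype I) ∘ₗ LinearMap.lTensor I C.val.toLinearMap := by
      rw [LinearMap.lTensor_comp_rTensor, LinearMap.rTensor_comp_lTensor]
    refine Function.Injective.of_comp (f := LinearMap.lTensor A C.val.toLinearMap) ?_
    rw [← LinearMap.coe_comp, h3]
    exact h2.comp h1
  haveI : Algebra.IsEpi A C := by
    rw [Algebra.isEpi_iff_forall_one_tmul_eq]
    intro c
    have h1 : Function.Injective (TensorProduct.map C.val.toLinearMap C.val.toLinearMap) := by
      rw [← LinearMap.lTensor_comp_rTensor]
      exact (Module.Flat.lTensor_preserves_injective_linearMap (M := B) _ Subtype.val_injective).comp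
        (Module.Flat.rTensor_preserves_injective_linearMap (M := C) _ Subtype.val_injective)
    refine h1 ?_
    simp only [TensorProduct.map_tmul, AlgHom.toLinearMap_apply, map_one]
    exact (Algebra.isEpi_iff_forall_one_tmul_eq A B).mp inferInstance _
  obtain ⟨a, ha⟩ := (Algebra.isEpi_iff_surjective_algebraMap_of_finite (R := A) (A := C)).mp inferInstance
    ⟨b, Algebra.self_mem_adjoin_singleton A b⟩
  exact ⟨a, congrArg Subtype.val ha⟩


/-- Let A be a ring all of whose ideals are flat (weak dimension at most one) and A -> B a flat,
injective ring map which is an epimorphism in the category of commutative rings. Then A is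
integrally closed in B. -/
theorem result (A B : Type u) [CommRing A] [CommRing B] [Algebra A B]
    (hA : ∀ I : Ideal A, Module.Flat A I) [Module.Flat A B] (hinj : Function.Injective (algebraMap A B))
    (hepi : Epi (CommRingCat.ofHom (algebraMap A B))) : IsIntegrallyClosedIn A B := by
  exact isIntClosed_of_epi A B hA hinj hepi

end Groth.Agent.S1997
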