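import Groth.Statements.S19974
import Mathlib.Algebra.TrivSqZeroExt.Basic


set_option autoImplicit false
universe u v w x
open scoped BigOperators
open DefMod

namespace Groth.Agent.S19974

/-- Let K be a field of characteristic 0, O a commutative K-algebra with a K-linear derivation δ, and D
the ring of differential operators O[∂], presented abstractly as a K-algebra D with an algebra map ι
: O → D and an element ∂ of D such that ∂ ι(f) = ι(f) ∂ + ι(δ f) for every f in O and such that
every element of D is in a unique way a finite sum of terms ι(f_i) ∂^i. Let E be a left D-module,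
given as a K-vector space with a K-algebra map ρ : D → End_K(E), which is finite free as an
O-module. A K-derivation of D with values in the D-bimodule End_K(E) is a K-linear map s with s(PQ)
= s(P) ρ(Q) + ρ(P) s(Q); a K-derivation of O with values in End_K(E) is a K-linear map r with r(fg)
= r(f) ρ(ι g) + ρ(ι f) r(g). Then: (a) for every K-derivation s of D into End_K(E), the pair (r, v)
= (s ∘ ι, s(∂)) satisfies the identity [r(f), ρ(∂)] + [ρ(ι f), v] + r(δ f) = 0 for all f in O; (b)
conversely, for every K-derivation r of O into End_K(E) and every v in End_K(E) satisfying that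
identity for all f, there is exactly one K-derivation s of D into End_K(E) with s ∘ ι = r and s(∂) =
v. In other words s ↦ (s ∘ ι, s(∂)) maps the K-derivations of D injectively onto the pairs
satisfying the identity. -/
theorem result
    (K : Type u) [Field K] [CharZero K]
    (O : Type v) [CommRing O] [Algebra K O] (δ : Derivation K O O)
    (D : Type w) [Ring D] [Algebra K D] (ι : O →ₐ[K] D) (d : D)
    (hd : ∀ f : O, d * ι f = ι f * d + ι (δ f))
    (hbasis : Function.Bijective (fun c : ℕ →₀ O => c.sum (fun i f => ι f * d ^ i)))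
    (E : Type x) [AddCommGroup E] [Module K E] (ρ : D →ₐ[K] Module.End K E)
    (hE : ∃ (n : ℕ) (b : Fin n → E), Function.Bijective (fun c : Fin n → O => ∑ i, ρ (ι (c i)) (b i))) :
    (∀ s : D →ₗ[K] Module.End K E, (∀ P Q : D, s (P * Q) = s P * ρ Q + ρ P * s Q) →
      ∀ f : O, (s (ι f) * ρ d - ρ d * s (ι f)) + (ρ (ι f) * s d - s d * ρ (ι f)) + s (ι (δ f)) = 0) ∧
    ∀ (r : O →ₗ[K] Module.End K E) (v : Module.End K E),
      (∀ f g : O, r (f * g) = r f * ρ (ι g) + ρ (ι f) * r g) →
      (∀ f : O, (r f * ρ d - ρ d * r f) + (ρ (ι f) * v - v * ρ (ι f)) + r (δ f) = 0) →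
      ∃! s : D →ₗ[K] Module.End K E,
        (∀ P Q : D, s (P * Q) = s P * ρ Q + ρ P * s Q) ∧ s ∘ₗ ι.toLinearMap = r ∧ s d = v := by
  classical
  have part1 : ∀ s : D →ₗ[K] Module.End K E, (∀ P Q : D, s (P * Q) = s P * ρ Q + ρ P * s Q) →
      ∀ f : O, (s (ι f) * ρ d - ρ d * s (ι f)) + (ρ (ι f) * s d - s d * ρ (ι f)) + s (ι (δ f)) = 0 := by
    intro s hs f
    have h := congrArg s (hd f)
    rw [map_add, hs, hs] at h
    rw [← sub_eq_zero.2 h.symm]
    abel
  refine ⟨part1, fun r v hr hv => ?_⟩
  let R : O →ₗ[K] TrivSqZeroExt (Module.End K E) (Module.End K E) :=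
    { toFun := fun f => TrivSqZeroExt.inl (ρ (ι f)) + TrivSqZeroExt.inr (r f)
      map_add' := fun f g => by ext <;> simp
      map_smul' := fun c f => by ext <;> simp }
  let V : TrivSqZeroExt (Module.End K E) (Module.End K E) := TrivSqZeroExt.inl (ρ d) + TrivSqZeroExt.inr v
  have hr1 : r 1 = 0 := by
    have h := hr 1 1
    simp only [mul_one, map_one, one_mul] at h
    exact left_eq_add.1 h
  have hR1 : R 1 = 1 := by ext <;> simp [R, hr1]
  have hRmul : ∀ f g, R (f * g) = R f * R g := by
    intro f g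
    ext : 1
    · simp [R]
    · simp [R, hr, add_comm, smul_eq_mul]
  have hVR : ∀ f, V * R f = R f * V + R (δ f) := by
    intro f
    ext : 1
    · have h := congrArg ρ (hd f)
      simpa [R, V] using h
    · simp only [R, V, LinearMap.coe_mk, AddHom.coe_mk, TrivSqZeroExt.snd_add, TrivSqZeroExt.snd_mul,
        TrivSqZeroExt.fst_add, TrivSqZeroExt.fst_inl, TrivSqZeroExt.fst_inr, TrivSqZeroExt.snd_inl,
        TrivSqZeroExt.snd_inr, zero_add, add_zero, smul_eq_mul, MulOpposite.smul_eq_mul_unop,
        MulOpposite.unop_op]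
      rw [← sub_eq_zero, ← neg_eq_zero, ← hv f]
      abel
  let L : (ℕ →₀ O) →ₗ[K] D := Finsupp.lsum K fun i => (LinearMap.mulRight K (d ^ i)).comp ι.toLinearMap
  have hL : Function.Bijective L := by
    convert hbasis using 1
    ext c
    simp [L, Finsupp.sum]
  let e := LinearEquiv.ofBijective L hL
  have heL : ∀ i f, e.symm (ι f * d ^ i) = Finsupp.single i f := fun i f => by
    rw [LinearEquiv.symm_apply_eq]
    simp [e, L]
  let Φ : D →ₗ[K] TrivSqZeroExt (Module.End K E) (Module.End K E) := (Finsupp.lsum K fun i => (LinearMap.mulRight K (V ^ i)).comp R).comp e.symm.toLinearMap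
  have hΦ : ∀ i f, Φ (ι f * d ^ i) = R f * V ^ i := fun i f => by simp [Φ, heL]
  have hgen : ∀ {p : D → Prop}, p 0 → (∀ x y, p x → p y → p (x + y)) → (∀ i f, p (ι f * d ^ i)) → ∀ x, p x := by
    intro p h0 ha hb x
    obtain ⟨c, rfl⟩ := hbasis.2 x
    exact Finset.sum_induction _ p ha h0 fun i _ => hb i _
  have hιf : ∀ f Q, Φ (ι f * Q) = R f * Φ Q := by
    intro f
    refine hgen (by simp) (fun x y hx hy => by rw [mul_add, map_add, map_add, hx, hy, mul_add]) fun i g => ?_
    rw [← mul_assoc, ← map_mul, hΦ, hΦ, hRmul, mul_assoc]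
  have hdQ : ∀ Q, Φ (d * Q) = V * Φ Q := by
    refine hgen (by simp) (fun x y hx hy => by rw [mul_add, map_add, map_add, hx, hy, mul_add]) fun i g => ?_
    rw [← mul_assoc, hd, add_mul, map_add, mul_assoc, ← pow_succ', hΦ, hΦ, hΦ, ← mul_assoc V, hVR, add_mul,
      mul_assoc, ← pow_succ']
  have hmul : ∀ P Q, Φ (P * Q) = Φ P * Φ Q := by
    refine hgen (by simp) (fun x y hx hy Q => by rw [add_mul, map_add, map_add, hx, hy, add_mul]) fun i g Q => ?_
    rw [hΦ, mul_assoc, hιf, mul_assoc]
    congr 1
    clear g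
    induction i generalizing Q with
    | zero => simp
    | succ n ih => rw [pow_succ, mul_assoc, ih, hdQ, pow_succ, mul_assoc]
  have hΦd : Φ d = V := by simpa [hR1] using hΦ 1 1
  have hΦι : ∀ f, Φ (ι f) = R f := fun f => by simpa using hΦ 0 f
  have hfst : ∀ P, TrivSqZeroExt.fst (Φ P) = ρ P := by
    refine hgen (by simp) (fun x y hx hy => by rw [map_add, TrivSqZeroExt.fst_add, hx, hy, map_add]) fun i f => ?_
    rw [hΦ, TrivSqZeroExt.fst_mul, map_mul, map_pow, TrivSqZeroExt.fst_pow]
    simp [R, V]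
  let s : D →ₗ[K] Module.End K E :=
    { toFun := fun P => TrivSqZeroExt.snd (Φ P)
      map_add' := fun P Q => by simp
      map_smul' := fun c P => by simp }
  have hs : ∀ P Q : D, s (P * Q) = s P * ρ Q + ρ P * s Q := by
    intro P Q
    simp only [s, LinearMap.coe_mk, AddHom.coe_mk]
    rw [hmul, TrivSqZeroExt.snd_mul, hfst, hfst, smul_eq_mul, MulOpposite.smul_eq_mul_unop,
      MulOpposite.unop_op, add_comm]
  refine ⟨s, ⟨hs, ?_, ?_⟩, ?_⟩
  · ext f : 1
    simp [s, hΦι, R]
  · simp [s, hΦd, V]
  · rintro s' ⟨hs', hs'r, hs'v⟩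
    have hιeq : ∀ f, s' (ι f) = r f := fun f => LinearMap.congr_fun hs'r f
    refine LinearMap.ext (hgen (by simp) (fun x y hx hy => by rw [map_add, map_add, hx, hy]) fun i f => ?_)
    induction i with
    | zero => simp [hιeq, s, hΦι, R]
    | succ n ih =>
      rw [pow_succ, ← mul_assoc, hs', hs, ih, hs'v]
      simp [s, hΦd, V]

end Groth.Agent.S19974
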