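import Groth.Statements.S19976
import Groth.Agent.NFApprox.StrongAn

set_option autoImplicit false
universe u
open NumberField

namespace Groth.Agent.S19976

/-- Strong approximation off a place v₀ for the complement of a closed subset of codimension at least 2
in affine n-space over a number field, here in the following explicit form for a finite place v₀ and
the standard integral model. Let k be a number field with ring of integers O_k, n ≥ 1, and f_1, …,
f_m polynomials in n variables with coefficients in O_k whose common zero locus F in 𝔸ⁿ_k has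
codimension at least 2, i.e. the k-algebra k[x_1, …, x_n]/(f_1, …, f_m) has Krull dimension at most
n − 2 (dimension −∞ when F is empty). Put U = 𝔸ⁿ_k ∖ F and 𝒰 = 𝔸ⁿ_{O_k} ∖ V(f_1, …, f_m), so that
for a finite place v the O_v-points of 𝒰 are the P ∈ O_vⁿ with some f_j(P) a unit. Let S_f be a
finite set of finite places containing v₀ (the set S of the source is S_f together with all infinite
places). Suppose given, for every v ∈ S_f other than v₀, a point P_v ∈ U(k_v) with an open
neighbourhood N_v ⊆ k_vⁿ; for every infinite place w, a point P_w ∈ U(k_w) with an open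
neighbourhood N_w ⊆ k_wⁿ; for every v in a finite set T of finite places disjoint from S_f, a point
Q_v ∈ 𝒰(O_v) with an open neighbourhood W_v ⊆ k_vⁿ; and suppose 𝒰(O_v) is nonempty for every finite
place v ∉ S_f. Then there is a point P ∈ kⁿ whose coordinates are v-integral and some f_j(P) is a
v-unit at every finite place v ∉ S_f (so P ∈ 𝒰(O_S)), and whose image lies in N_v for v ∈ S_f ∖
{v₀}, in N_w for every infinite w, and in W_v for v ∈ T. (The source states strong approximation off
an arbitrary place v₀ and for every model over O_S; this row is the case of a finite v₀ and of the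
standard model, approximation at a basic open set of the restricted product.) -/
theorem result
    (k : Type u) [Field k] [NumberField k] (n : ℕ) (hn : 1 ≤ n) (m : ℕ)
    (f : Fin m → MvPolynomial (Fin n) (NumberField.RingOfIntegers k))
    (hcodim : ringKrullDim (MvPolynomial (Fin n) k ⧸ Ideal.span (Set.range fun j =>
        MvPolynomial.map (algebraMap (NumberField.RingOfIntegers k) k) (f j))) + 2 ≤ (n : WithBot ℕ∞))
    (v₀ : IsDedekindDomain.HeightOneSpectrum (NumberField.RingOfIntegers k)) (Sf : Finset (IsDedekindDomain.HeightOneSpectrum (NumberField.RingOfIntegers k))) (hv₀ : v₀ ∈ Sf)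
    (Pf : (v : IsDedekindDomain.HeightOneSpectrum (NumberField.RingOfIntegers k)) → (Fin n → v.adicCompletion k))
    (hPf : ∀ v ∈ Sf, v ≠ v₀ → ∃ j, MvPolynomial.aeval (Pf v)
      (MvPolynomial.map (algebraMap (NumberField.RingOfIntegers k) k) (f j)) ≠ 0)
    (Nf : (v : IsDedekindDomain.HeightOneSpectrum (NumberField.RingOfIntegers k)) → Set (Fin n → v.adicCompletion k))
    (hNf : ∀ v ∈ Sf, v ≠ v₀ → IsOpen (Nf v) ∧ Pf v ∈ Nf v)
    (Pi : (w : NumberField.InfinitePlace k) → (Fin n → w.Completion))
    (hPi : ∀ w, ∃ j, MvPolynomial.aeval (Pi w)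
      (MvPolynomial.map (algebraMap (NumberField.RingOfIntegers k) k) (f j)) ≠ 0)
    (Ni : (w : NumberField.InfinitePlace k) → Set (Fin n → w.Completion))
    (hNi : ∀ w, IsOpen (Ni w) ∧ Pi w ∈ Ni w)
    (T : Finset (IsDedekindDomain.HeightOneSpectrum (NumberField.RingOfIntegers k))) (hT : Disjoint T Sf)
    (Q : (v : IsDedekindDomain.HeightOneSpectrum (NumberField.RingOfIntegers k)) → (Fin n → v.adicCompletion k))
    (hQ : ∀ v ∈ T, (∀ i, Q v i ∈ v.adicCompletionIntegers k) ∧ ∃ j, Valued.v (MvPolynomial.aeval (Q v)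
      (MvPolynomial.map (algebraMap (NumberField.RingOfIntegers k) k) (f j))) = 1)
    (W : (v : IsDedekindDomain.HeightOneSpectrum (NumberField.RingOfIntegers k)) → Set (Fin n → v.adicCompletion k))
    (hW : ∀ v ∈ T, IsOpen (W v) ∧ Q v ∈ W v)
    (hne : ∀ v : IsDedekindDomain.HeightOneSpectrum (NumberField.RingOfIntegers k), v ∉ Sf → ∃ R : Fin n → v.adicCompletion k,
      (∀ i, R i ∈ v.adicCompletionIntegers k) ∧ ∃ j, Valued.v (MvPolynomial.aeval R
        (MvPolynomial.map (algebraMap (NumberField.RingOfIntegers k) k) (f j))) = 1) :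
    ∃ P : Fin n → k,
      (∀ v : IsDedekindDomain.HeightOneSpectrum (NumberField.RingOfIntegers k), v ∉ Sf → (∀ i, v.valuation k (P i) ≤ 1) ∧
        ∃ j, v.valuation k (MvPolynomial.aeval P
          (MvPolynomial.map (algebraMap (NumberField.RingOfIntegers k) k) (f j))) = 1) ∧
      (∀ v ∈ Sf, v ≠ v₀ → (fun i => algebraMap k (v.adicCompletion k) (P i)) ∈ Nf v) ∧
      (∀ w : NumberField.InfinitePlace k, (fun i => algebraMap k w.Completion (P i)) ∈ Ni w) ∧
      (∀ v ∈ T, (fun i => algebraMap k (v.adicCompletion k) (P i)) ∈ W v) := by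
  classical
  obtain ⟨n', rfl⟩ : ∃ n', n = n' + 1 := ⟨n - 1, by omega⟩
  let fk : Fin m → MvPolynomial (Fin (n' + 1)) k := fun j => MvPolynomial.map (algebraMap (NumberField.RingOfIntegers k) k) (f j)
  set I := Ideal.span (Set.range fk) with hI
  change ringKrullDim (MvPolynomial (Fin (n' + 1)) k ⧸ I) + 2 ≤ _ at hcodim
  obtain ⟨h, hhI, hh0⟩ : ∃ h ∈ I, h ≠ 0 := by
    refine Submodule.exists_mem_ne_zero_of_ne_bot fun hbot => ?_
    rw [hbot, ringKrullDim_eq_of_ringEquiv (RingEquiv.quotientBot _), MvPolynomial.ringKrullDim_of_isNoetherianRing,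
      ringKrullDim_eq_zero_of_field, zero_add, Nat.card_fin] at hcodim
    have : ((n' + 1 + 2 : ℕ) : WithBot ℕ∞) ≤ ((n' + 1 : ℕ) : WithBot ℕ∞) := by push_cast; push_cast at hcodim; exact hcodim
    have : n' + 1 + 2 ≤ n' + 1 := by exact_mod_cast this
    omega
  let Tr := NFApprox.Nagata.T h
  let r : Fin (n' + 1) → ℕ := fun i => (2 + h.totalDegree) ^ (i : ℕ)
  let f' : Fin m → MvPolynomial (Fin (n' + 1)) k := fun j => Tr (fk j)
  -- integrality of the transformed polynomials
  have hint : ∀ (v : IsDedekindDomain.HeightOneSpectrum (NumberField.RingOfIntegers k)) j d, v.valuation k ((f' j).coeff d) ≤ 1 := by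
    intro v j d
    have e : f' j = MvPolynomial.map (algebraMap (NumberField.RingOfIntegers k) k) (MvPolynomial.aeval
        (fun i : Fin (n' + 1) => if i = 0 then (MvPolynomial.X 0 : MvPolynomial (Fin (n' + 1)) (NumberField.RingOfIntegers k)) else MvPolynomial.X i + MvPolynomial.X 0 ^ r i) (f j)) := by
      change NFApprox.Nagata.T1 h 1 (MvPolynomial.map (algebraMap (NumberField.RingOfIntegers k) k) (f j)) = _
      induction f j using MvPolynomial.induction_on with
      | C a => simp [MvPolynomial.algebraMap_eq]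
      | add p q hp hq => simp only [map_add, hp, hq]
      | mul_X p i hp =>
        simp only [map_mul, hp, MvPolynomial.map_X, MvPolynomial.aeval_X]
        congr 1
        split_ifs <;> simp [r]
    rw [e, MvPolynomial.coeff_map]
    exact v.valuation_le_one _
  set H := Tr h with hH
  obtain ⟨a', ha'⟩ := (Submodule.mem_span_range_iff_exists_fun _).1 hhI
  have hHa : ∑ j, Tr (a' j) * f' j = H := by
    rw [hH, ← ha', map_sum]; simp [f', map_mul, smul_eq_mul]
  have hlc : IsUnit (MvPolynomial.finSuccEquiv k n' (∑ j, Tr (a' j) * f' j)).leadingCoeff :=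
    hHa ▸ NFApprox.Nagata.T_leadingcoeff_isUnit h hh0
  -- eliminate the last variable
  set J := Ideal.span (Set.range f') with hJ
  obtain ⟨g, hg, hgJ⟩ : ∃ g : MvPolynomial (Fin n') k, g ≠ 0 ∧ MvPolynomial.rename Fin.succ g ∈ J := by
    by_contra! hno
    set J2 : Ideal (Polynomial (MvPolynomial (Fin n') k)) := Ideal.map (MvPolynomial.finSuccEquiv k n').toRingEquiv J with hJ2
    have hJI : J = Ideal.map Tr.toRingEquiv I := by
      rw [hJ, hI, Ideal.map_span, ← Set.range_comp]; rfl
    haveI : Algebra.IsIntegral (MvPolynomial (Fin n') k) (Polynomial (MvPolynomial (Fin n') k) ⧸ J2) := by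
      have hu : IsUnit (MvPolynomial.finSuccEquiv k n' H).leadingCoeff := hHa ▸ hlc
      have hmem : MvPolynomial.finSuccEquiv k n' H ∈ J2 :=
        Ideal.mem_map_of_mem _ (hHa ▸ sum_mem fun j _ => Ideal.mul_mem_left _ _ (Ideal.subset_span ⟨j, rfl⟩))
      exact ⟨(Polynomial.monic_of_isUnit_leadingCoeff_inv_smul hu).quotient_isIntegral
        (Submodule.smul_of_tower_mem J2 hu.unit⁻¹.val hmem)⟩
    have hren : ∀ q : MvPolynomial (Fin n') k, MvPolynomial.finSuccEquiv k n' (MvPolynomial.rename Fin.succ q) = Polynomial.C q := by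
      intro q
      induction q using MvPolynomial.induction_on with
      | C a => simp [MvPolynomial.finSuccEquiv_apply]
      | add p q hp hq => simp only [map_add, hp, hq]
      | mul_X p i hp => simp [map_mul, hp, MvPolynomial.finSuccEquiv_X_succ]
    have hinj : ∀ q : MvPolynomial (Fin n') k, Ideal.Quotient.mk J2 (Polynomial.C q) = 0 → q = 0 := by
      intro q hq
      by_contra hq0
      refine hno q hq0 ?_
      rw [Ideal.Quotient.eq_zero_iff_mem] at hq
      rw [← hren] at hq
      rw [hJ2] at hq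
      obtain ⟨z, hz, hz'⟩ := (Ideal.mem_map_iff_of_surjective _ (MvPolynomial.finSuccEquiv k n').surjective).1 hq
      rwa [show z = MvPolynomial.rename Fin.succ q from (MvPolynomial.finSuccEquiv k n').injective hz'] at hz
    have hd := NFApprox.ringKrullDim_le_of_isIntegral_injective (R := MvPolynomial (Fin n') k) (S := Polynomial (MvPolynomial (Fin n') k) ⧸ J2)
      ((injective_iff_map_eq_zero _).2 fun q hq => hinj q hq)
    have e1 := ringKrullDim_eq_of_ringEquiv (R := MvPolynomial (Fin (n' + 1)) k ⧸ J) (S := Polynomial (MvPolynomial (Fin n') k) ⧸ J2) (Ideal.quotientEquiv J J2 (MvPolynomial.finSuccEquiv k n').toRingEquiv hJ2)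
    have e2 := ringKrullDim_eq_of_ringEquiv (Ideal.quotientEquiv I J Tr.toRingEquiv hJI)
    rw [← e1, ← e2,
      MvPolynomial.ringKrullDim_of_isNoetherianRing, ringKrullDim_eq_zero_of_field, zero_add, Nat.card_fin] at hd
    have := (add_le_add hd le_rfl).trans hcodim
    have : ((n' + 2 : ℕ) : WithBot ℕ∞) ≤ ((n' + 1 : ℕ) : WithBot ℕ∞) := by push_cast; push_cast at this; exact this
    have : n' + 2 ≤ n' + 1 := by exact_mod_cast this
    omega
  obtain ⟨b, hb⟩ := (Submodule.mem_span_range_iff_exists_fun _).1 hgJ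
  simp only [smul_eq_mul] at hb
  -- the coordinate change on points
  have hpt : ∀ {L : Type u} [Field L] [Algebra k L] (Q : Fin (n' + 1) → L) (p : MvPolynomial (Fin (n' + 1)) k),
      MvPolynomial.aeval Q (Tr p) = MvPolynomial.aeval (fun i => if i = 0 then Q 0 else Q i + Q 0 ^ r i) p := by
    intro L _ _ Q p
    change MvPolynomial.aeval Q (NFApprox.Nagata.T1 h 1 p) = _
    rw [← AlgHom.comp_apply, MvPolynomial.comp_aeval]
    congr 2
    funext i
    split_ifs <;> simp [r]
  let φ : ∀ {L : Type u} [Field L], (Fin (n' + 1) → L) → (Fin (n' + 1) → L) :=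
    fun {L} _ Q i => if i = 0 then Q 0 else Q i + Q 0 ^ r i
  let ψ : ∀ {L : Type u} [Field L], (Fin (n' + 1) → L) → (Fin (n' + 1) → L) :=
    fun {L} _ Q i => if i = 0 then Q 0 else Q i - Q 0 ^ r i
  have hφψ : ∀ {L : Type u} [Field L] (Q : Fin (n' + 1) → L), φ (ψ Q) = Q := fun {L} _ Q => funext fun i => by
    rcases eq_or_ne i 0 with rfl | hi
    · simp [φ, ψ]
    · simp [φ, ψ, hi]
  let good : (v : IsDedekindDomain.HeightOneSpectrum (NumberField.RingOfIntegers k)) → Set (Fin (n' + 1) → v.adicCompletion k) := fun v =>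
    {y | (∀ i, Valued.v (y i) ≤ 1) ∧ ∃ j, Valued.v (MvPolynomial.aeval y (fk j)) = 1}
  let U : (v : IsDedekindDomain.HeightOneSpectrum (NumberField.RingOfIntegers k)) → Set (Fin (n' + 1) → v.adicCompletion k) := fun v =>
    φ ⁻¹' (if v ∈ T then W v ∩ good v else Nf v)
  let p : (v : IsDedekindDomain.HeightOneSpectrum (NumberField.RingOfIntegers k)) → Fin (n' + 1) → v.adicCompletion k := fun v =>
    ψ (if v ∈ T then Q v else Pf v)
  have hU : ∀ v ∈ Sf.erase v₀ ∪ T, U v ∈ nhds (p v) := by
    intro v hv
    refine (show Continuous (φ : (Fin (n' + 1) → v.adicCompletion k) → _) from ?_).continuousAt.preimage_mem_nhds ?_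
    · refine continuous_pi fun i => ?_
      simp only [φ]; split_ifs <;> fun_prop
    · simp only [p, hφψ]
      split_ifs with hvT
      · exact Filter.inter_mem ((hW v hvT).1.mem_nhds (hW v hvT).2) (NFApprox.good_mem_nhds v fk ⟨(hQ v hvT).1, (hQ v hvT).2⟩)
      · have hv' : v ∈ Sf.erase v₀ := (Finset.mem_union.1 hv).resolve_right hvT
        obtain ⟨hv0, hvS⟩ := Finset.mem_erase.1 hv'
        exact (hNf v hvS hv0).1.mem_nhds (hNf v hvS hv0).2
  have hUi : ∀ w : NumberField.InfinitePlace k, φ ⁻¹' Ni w ∈ nhds (ψ (Pi w)) := by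
    intro w
    refine (show Continuous (φ : (Fin (n' + 1) → w.Completion) → _) from ?_).continuousAt.preimage_mem_nhds ?_
    · refine continuous_pi fun i => ?_
      simp only [φ]; split_ifs <;> fun_prop
    · rw [hφψ]; exact (hNi w).1.mem_nhds (hNi w).2
  have hne' : ∀ v : IsDedekindDomain.HeightOneSpectrum (NumberField.RingOfIntegers k), v ∉ Sf.erase v₀ ∪ T → v ≠ v₀ →
      ∃ R : Fin (n' + 1) → v.adicCompletion k, (∀ i, Valued.v (R i) ≤ 1) ∧ ∃ j, Valued.v (MvPolynomial.aeval R (f' j)) = 1 := by
    intro v hv hv0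
    obtain ⟨R, hR, j, hj⟩ := hne v (fun h => hv (Finset.mem_union_left _ (Finset.mem_erase.2 ⟨hv0, h⟩)))
    refine ⟨ψ R, fun i => ?_, j, ?_⟩
    · simp only [ψ]
      split_ifs
      · exact hR 0
      · exact (Valuation.map_sub _ _ _).trans (max_le (hR i) (by rw [map_pow]; exact pow_le_one₀ zero_le (hR 0)))
    · rw [hpt]
      change Valued.v (MvPolynomial.aeval (φ (ψ R)) (fk j)) = 1
      rw [hφψ]; exact hj
  obtain ⟨P, hP1, hP2, hP3⟩ := NFApprox.exists_point f' hint (fun j => Tr (a' j)) b hlc g hg hb v₀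
    ((Sf.erase v₀) ∪ T) (by simp [Finset.disjoint_right.1 hT hv₀]) p U hU (fun w => ψ (Pi w)) (fun w => φ ⁻¹' Ni w) hUi hne'
  refine ⟨φ P, fun v hv => ?_, fun v hv hv0 => ?_, fun w => ?_, fun v hv => ?_⟩
  · have hv0 : v ≠ v₀ := fun e => hv (e ▸ hv₀)
    have hmapφ : (fun i => algebraMap k (v.adicCompletion k) (φ P i)) = φ (fun i => algebraMap k (v.adicCompletion k) (P i)) :=
      funext fun i => by simp only [φ]; split_ifs <;> simp only [map_add, map_pow]
    by_cases hvT : v ∈ T
    · have h1 := hP1 v (Finset.mem_union_right _ hvT)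
      simp only [U, if_pos hvT, Set.mem_preimage, ← hmapφ] at h1
      obtain ⟨hi, j, hj⟩ := h1.2
      refine ⟨fun i => (le_of_eq (v.valuedAdicCompletion_eq_valuation' (φ P i)).symm).trans (hi i), j, ?_⟩
      rw [← v.valuedAdicCompletion_eq_valuation']
      exact (congrArg _ (MvPolynomial.aeval_algebraMap_apply (v.adicCompletion k) (φ P) (fk j)).symm).trans hj
    · obtain ⟨hi, j, hj⟩ := hP3 v (by simp [hv, hvT]) hv0
      refine ⟨fun i => ?_, j, by rw [← hj, hpt]⟩
      simp only [φ]
      split_ifs
      · exact hi 0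
      · exact (Valuation.map_add _ _ _).trans (max_le (hi i) (by rw [map_pow]; exact pow_le_one₀ zero_le (hi 0)))
  · have h1 := hP1 v (Finset.mem_union_left _ (Finset.mem_erase.2 ⟨hv0, hv⟩))
    simp only [U, if_neg (fun h => Finset.disjoint_left.1 hT h hv : v ∉ T), Set.mem_preimage] at h1
    convert h1 using 1
    funext i; simp only [φ]; split_ifs <;> simp only [map_add, map_pow]
  · have h1 := hP2 w
    simp only [Set.mem_preimage] at h1
    convert h1 using 1
    funext i; simp only [φ]; split_ifs <;> simp only [map_add, map_pow]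
  · have h1 := hP1 v (Finset.mem_union_right _ hv)
    simp only [U, if_pos hv, Set.mem_preimage] at h1
    convert h1.1 using 1
    funext i; simp only [φ]; split_ifs <;> simp only [map_add, map_pow]

end Groth.Agent.S19976
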