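import Groth.Statements.S1998
import Mathlib
import Groth.Agent.Hensel.DirectLim
import Groth.Agent.Hensel.Local

set_option autoImplicit false
universe u
open EtAlg

namespace Groth.Agent.S1998

/-- Let (A_j, I_j) be a directed system of henselian pairs (ring maps A_j -> A_k for j ≤ k carrying I_j
into I_k). Then the direct limit A of the A_j together with the ideal generated by the images of the
I_j is a henselian pair. -/
theorem result {ι : Type u} [Preorder ι] [IsDirected ι (· ≤ ·)] [Nonempty ι]
    (G : ι → Type u) [∀ i, CommRing (G i)] (f : ∀ i j, i ≤ j → G i →+* G j)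
    [DirectedSystem G fun i j h => f i j h] (I : ∀ i, Ideal (G i))
    (hI : ∀ i j (h : i ≤ j), (I i).map (f i j h) ≤ I j) (hh : ∀ i, HenselianRing (G i) (I i)) :
    HenselianRing (Ring.DirectLimit G fun i j h => f i j h)
      (⨆ i, (I i).map (Ring.DirectLimit.of G (fun i j h => f i j h) i)) := by
  have := Groth.Agent.Hensel.henselianRing_directLimit f I hI hh
  let e := (Ring.DirectLimit.ringEquiv G f).symm
  have h2 := Groth.Agent.Hensel.henselianRing_of_ringEquiv e (⨆ i, (I i).map (DirectLimit.Ring.of G f i))
  rw [Ideal.map_iSup] at h2
  simp only [Ideal.map_map] at h2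
  exact h2

end Groth.Agent.S1998
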