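import Groth.Statements.S1999
import Mathlib
import Groth.Agent.CAlgH.RamGroups

set_option autoImplicit false
universe u
open scoped Pointwise
open EtAlg

namespace Groth.Agent.S1999

open Groth.Agent.CAlgH.RamGroups in
theorem ram_groups (A K L B : Type u) [CommRing A] [IsDomain A] [IsDiscreteValuationRing A]
    [CommRing B] [IsDomain B] [Field K] [Field L] [Algebra A K] [Algebra B L] [IsFractionRing A K] [IsFractionRing B L]
    [Algebra A B] [Algebra K L] [Algebra A L] [IsScalarTower A K L] [IsScalarTower A B L] [IsIntegralClosure B A L]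
    [FiniteDimensional K L] [IsGalois K L] (m : Ideal B) [m.IsMaximal]
    [Algebra.IsSeparable (A ⧸ m.comap (algebraMap A B)) (B ⧸ m)] :
    letI := IsIntegralClosure.MulSemiringAction A K L B
    let D : Subgroup (L ≃ₐ[K] L) := MulAction.stabilizer (L ≃ₐ[K] L) m
    let I : Subgroup (L ≃ₐ[K] L) := m.inertia (L ≃ₐ[K] L)
    let P : Subgroup (L ≃ₐ[K] L) := D ⊓ (m ^ 2).inertia (L ≃ₐ[K] L)
    let e : ℕ := Ideal.ramificationIdx' (IsLocalRing.maximalIdeal A) m
    P ≤ I ∧ I ≤ D ∧ (P.subgroupOf D).Normal ∧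
    (∀ p : ℕ, p.Prime → CharP (A ⧸ m.comap (algebraMap A B)) p → IsPGroup p P) ∧
    (CharZero (A ⧸ m.comap (algebraMap A B)) → P = ⊥) ∧
    (∀ [(P.subgroupOf I).Normal],
      IsCyclic (I ⧸ P.subgroupOf I) ∧
      (∀ p : ℕ, p.Prime → CharP (A ⧸ m.comap (algebraMap A B)) p → Nat.card (I ⧸ P.subgroupOf I) = e / p ^ e.factorization p) ∧
      (CharZero (A ⧸ m.comap (algebraMap A B)) → Nat.card (I ⧸ P.subgroupOf I) = e) ∧
      Nonempty (I ⧸ P.subgroupOf I ≃* ↥(rootsOfUnity e (B ⧸ m)))) := by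
  classical
  letI := IsIntegralClosure.MulSemiringAction A K L B
  intro D I P e
  haveI : IsDedekindDomain B := IsIntegralClosure.isDedekindDomain A K L B
  haveI : Module.Finite A B := IsIntegralClosure.finite A K L B
  haveI : IsGaloisGroup (L ≃ₐ[K] L) A B := IsGaloisGroup.of_isFractionRing _ _ _ K L
  haveI : FaithfulSMul (L ≃ₐ[K] L) B := IsGaloisGroup.faithful A
  haveI : SMulCommClass (L ≃ₐ[K] L) A B := IsGaloisGroup.commutes
  haveI : FaithfulSMul A B := (faithfulSMul_iff_algebraMap_injective A B).mpr fun x y h => by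
    have := congrArg (algebraMap B L) h
    rw [← IsScalarTower.algebraMap_apply, ← IsScalarTower.algebraMap_apply, IsScalarTower.algebraMap_apply A K L,
      IsScalarTower.algebraMap_apply A K L] at this
    exact IsFractionRing.injective A K ((algebraMap K L).injective this)
  set p0 := m.comap (algebraMap A B) with hp0
  haveI hp0max : p0.IsMaximal := Ideal.isMaximal_comap_of_isIntegral_of_isMaximal m
  haveI : m.LiesOver p0 := ⟨rfl⟩
  have hp0eq : p0 = IsLocalRing.maximalIdeal A := IsLocalRing.eq_maximalIdeal hp0max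
  letI := Ideal.Quotient.field p0
  letI := Ideal.Quotient.field m
  haveI hfinres : Module.Finite (A ⧸ p0) (B ⧸ m) := Ideal.Quotient.finite_of_isInvariant (L ≃ₐ[K] L) p0 m
  obtain ⟨t, ht⟩ := IsDiscreteValuationRing.exists_irreducible A
  have htmax : IsLocalRing.maximalIdeal A = Ideal.span {t} := (IsDiscreteValuationRing.irreducible_iff_uniformizer t).mp ht
  have hm0 : m ≠ ⊥ := by
    intro h
    have htm : algebraMap A B t ∈ m := by
      show t ∈ p0
      rw [hp0eq, htmax]; exact Ideal.mem_span_singleton_self t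
    rw [h, Ideal.mem_bot] at htm
    exact ht.ne_zero ((FaithfulSMul.algebraMap_injective A B) (htm.trans (map_zero _).symm))
  obtain ⟨π, hπ, hπ2⟩ := exists_uniformizer hm0
  obtain ⟨θ, hθ1, hθe⟩ := exists_thetaHom (G := L ≃ₐ[K] L) hπ hπ2
  have hPI : P ≤ I := fun σ hσ x => Ideal.pow_le_self two_ne_zero (hσ.2 x)
  have hID : I ≤ D := Ideal.inertia_le_stabilizer m
  have hnormal : (P.subgroupOf D).Normal := by
    refine (Subgroup.normal_subgroupOf_iff inf_le_left).mpr fun h g hh hg => ⟨?_, fun x => ?_⟩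
    · exact D.mul_mem (D.mul_mem hg hh.1) (D.inv_mem hg)
    · have h1 := hh.2 (g⁻¹ • x)
      have h2 : (g * h * g⁻¹) • x - x = g • (h • (g⁻¹ • x) - g⁻¹ • x) := by
        rw [smul_sub, mul_smul, mul_smul, smul_inv_smul]
      rw [h2]
      have h3 := Ideal.smul_mem_pointwise_smul g _ (m ^ 2) h1
      rwa [smul_pow', MulAction.mem_stabilizer_iff.mp hg] at h3
  have hgpow : ∀ q : ℕ, (∀ r : ℕ, r.Prime → r ≠ q → (r : B ⧸ m) ≠ 0) → ∀ σ ∈ P, ∀ r, r.Prime → r ∣ orderOf σ → r = q := by
    intro q hq σ hσ r hr hdvd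
    by_contra hne
    obtain ⟨c, hc⟩ := hdvd
    have h1 : (σ ^ c) ^ r = 1 := by rw [← pow_mul, mul_comm, ← hc]; exact pow_orderOf_eq_one σ
    have h2 := eq_one_of_pow_eq_one hπ hπ2 (pow_mem hσ.2 c) h1 (hq r hr hne)
    have hlt : c < orderOf σ := by
      rw [hc]
      have : 0 < c := Nat.pos_of_ne_zero fun h0 => (orderOf_pos σ).ne' (by rw [hc, h0, mul_zero])
      exact lt_mul_of_one_lt_left this hr.one_lt
    have hc0 : c ≠ 0 := fun h0 => (orderOf_pos σ).ne' (by rw [hc, h0, mul_zero])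
    exact pow_ne_one_of_lt_orderOf hc0 hlt h2
  have hchar : ∀ q : ℕ, CharP (A ⧸ p0) q → CharP (B ⧸ m) q := fun q _ =>
    charP_of_injective_algebraMap (algebraMap (A ⧸ p0) (B ⧸ m)).injective q
  have hpgrp : ∀ p : ℕ, p.Prime → CharP (A ⧸ p0) p → IsPGroup p P := by
    intro p hp hcp σ
    haveI := hchar p hcp
    have huniq : ∀ r, r.Prime → r ∣ orderOf (σ : L ≃ₐ[K] L) → r = p := hgpow p (fun r hr hne h0 => hne
      ((Nat.prime_dvd_prime_iff_eq hp hr).mp ((CharP.cast_eq_zero_iff (B ⧸ m) p r).mp h0)).symm) σ.1 σ.2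
    obtain ⟨j, hj⟩ : ∃ j, orderOf (σ : L ≃ₐ[K] L) = p ^ j :=
      ⟨_, Nat.eq_prime_pow_of_unique_prime_dvd (orderOf_pos _).ne' fun {d} hd hdvd => huniq d hd hdvd⟩
    exact ⟨j, Subtype.ext (by rw [Subgroup.coe_pow, ← hj, pow_orderOf_eq_one, Subgroup.coe_one])⟩
  have hbot : CharZero (A ⧸ p0) → P = ⊥ := by
    intro h0
    haveI : CharZero (B ⧸ m) := charZero_of_injective_algebraMap (algebraMap (A ⧸ p0) (B ⧸ m)).injective
    rw [Subgroup.eq_bot_iff_forall]
    intro σ hσ
    rw [← orderOf_eq_one_iff]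
    by_contra hne
    obtain ⟨r, hr, hdvd⟩ := Nat.exists_prime_and_dvd hne
    have h3 := hgpow 0 (fun r hr _ => Nat.cast_ne_zero.mpr hr.ne_zero) σ hσ r hr hdvd
    exact hr.ne_zero h3
  refine ⟨hPI, hID, hnormal, hpgrp, hbot, ?_⟩
  intro hPnormal
  -- the ramification index
  have hmapt : Ideal.map (algebraMap A B) (IsLocalRing.maximalIdeal A) = Ideal.span {algebraMap A B t} := by
    rw [htmax, Ideal.map_span, Set.image_singleton]
  have hcardI : Nat.card I = e := by
    have hd : Nat.card (MulAction.stabilizer (L ≃ₐ[K] L) m) =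
        Nat.card (m.inertia (L ≃ₐ[K] L)) * m.inertiaDeg A := by
      haveI : IsGalois (A ⧸ p0) (B ⧸ m) := { __ := Ideal.Quotient.normal (A := A) (L ≃ₐ[K] L) p0 m }
      have h1 : Subgroup.index _ = _ :=
        Nat.card_congr (Ideal.Quotient.stabilizerQuotientInertiaEquiv (A := A) (L ≃ₐ[K] L) p0 m).toEquiv
      rw [Ideal.inertiaDeg_eq_of_isMaximal p0 m, ← IsGalois.card_aut_eq_finrank (A ⧸ p0) (B ⧸ m), ← h1,
        ← ((m.inertia (L ≃ₐ[K] L)).subgroupOf (MulAction.stabilizer (L ≃ₐ[K] L) m)).card_mul_index,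
        Nat.card_congr (Subgroup.subgroupOfEquivOfLe (Ideal.inertia_le_stabilizer (M := L ≃ₐ[K] L) m)).toEquiv,
        AddSubgroup.subgroupOf_inertia]
    have hn : (p0.primesOver B).ncard * Nat.card (m.inertia (L ≃ₐ[K] L)) * m.inertiaDeg A = Nat.card (L ≃ₐ[K] L) := by
      rw [mul_assoc, ← hd, ← Algebra.IsInvariant.orbit_eq_primesOver A B (L ≃ₐ[K] L) p0 m]
      simpa using Nat.card_congr (MulAction.orbitProdStabilizerEquivGroup (L ≃ₐ[K] L) m)
    rw [← Ideal.inertiaDegIn_eq_inertiaDeg p0 m (L ≃ₐ[K] L)] at hn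
    have h1 : (p0.primesOver B).ncard ≠ 0 := by grind [Nat.card_pos]
    have h2 : p0.inertiaDegIn B ≠ 0 := by grind [Nat.card_pos]
    rw [← Ideal.ncard_primesOver_mul_ramificationIdxIn_mul_inertiaDegIn p0 B (L ≃ₐ[K] L), mul_assoc,
      mul_right_inj' h1, mul_left_inj' h2, Ideal.ramificationIdxIn_eq_ramificationIdx p0 m (L ≃ₐ[K] L)] at hn
    have hp0bot : p0 ≠ ⊥ := by
      rw [hp0eq]; exact IsDiscreteValuationRing.not_a_field A
    rw [show e = Ideal.ramificationIdx' p0 m by rw [hp0eq], Ideal.ramificationIdx'_eq_ramificationIdx p0 m hp0bot]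
    exact hn
  have he0 : e ≠ 0 := by rw [← hcardI]; exact Nat.card_pos.ne'
  have hte : algebraMap A B t ∈ m ^ e := by
    rw [← Ideal.span_singleton_le_iff_mem, ← hmapt]; exact Ideal.le_pow_ramificationIdx'
  have hte1 : algebraMap A B t ∉ m ^ (e + 1) := by
    intro h
    have hle : Ideal.map (algebraMap A B) (IsLocalRing.maximalIdeal A) ≤ m ^ (e + 1) := by
      rw [hmapt, Ideal.span_singleton_le_iff_mem]; exact h
    obtain ⟨n0, hn0⟩ : ∃ n0, algebraMap A B t ∉ m ^ n0 := by
      by_contra hne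
      push_neg at hne
      have h0 : algebraMap A B t ∈ ⨅ n : ℕ, m ^ n := by rw [Submodule.mem_iInf]; exact hne
      rw [Ideal.iInf_pow_eq_bot_of_isDomain m (Ideal.IsPrime.ne_top inferInstance), Ideal.mem_bot] at h0
      exact ht.ne_zero ((FaithfulSMul.algebraMap_injective A B) (h0.trans (map_zero _).symm))
    have hb : BddAbove {n | Ideal.map (algebraMap A B) (IsLocalRing.maximalIdeal A) ≤ m ^ n} := ⟨n0, fun n hn => by
      by_contra hlt
      refine hn0 (Ideal.pow_le_pow_right (show n0 ≤ n by omega) ?_ : algebraMap A B t ∈ m ^ n0)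
      rw [← Ideal.span_singleton_le_iff_mem, ← hmapt]; exact hn⟩
    have := le_csSup hb hle
    change e + 1 ≤ e at this
    exact Nat.not_succ_le_self e this
  have hθroots : ∀ σ : I, θ σ ∈ rootsOfUnity e (B ⧸ m) := fun σ => by
    rw [mem_rootsOfUnity]
    exact hθe e (algebraMap A B t) (fun g => smul_algebraMap g t) hte hte1 σ
  let Θ : I →* rootsOfUnity e (B ⧸ m) := θ.codRestrict _ hθroots
  have hker : Θ.ker = P.subgroupOf I := by
    ext σ
    rw [MonoidHom.mem_ker, Subgroup.mem_subgroupOf]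
    have h1 : Θ σ = 1 ↔ θ σ = 1 := Subtype.ext_iff
    rw [h1, hθ1]
    exact ⟨fun h => ⟨hID σ.2, mem_inertia_sq (A := A) hπ hπ2 σ.2 h⟩, fun h => h.2 π⟩
  haveI : NeZero e := ⟨he0⟩
  have hcyc : IsCyclic (rootsOfUnity e (B ⧸ m)) := inferInstance
  let ev : I ⧸ P.subgroupOf I ≃* Θ.range :=
    (QuotientGroup.quotientMulEquivOfEq hker.symm).trans (QuotientGroup.quotientKerEquivRange Θ)
  have hcardmul : Nat.card (I ⧸ P.subgroupOf I) * Nat.card P = e := by
    rw [← hcardI, Subgroup.card_eq_card_quotient_mul_card_subgroup (P.subgroupOf I),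
      Nat.card_congr (Subgroup.subgroupOfEquivOfLe hPI).toEquiv]
  have hn : Nat.card (I ⧸ P.subgroupOf I) ∣ Nat.card (rootsOfUnity e (B ⧸ m)) := by
    rw [Nat.card_congr ev.toEquiv]; exact Subgroup.card_subgroup_dvd_card Θ.range
  obtain ⟨g, hg⟩ := hcyc.exists_generator
  have hre : Nat.card (rootsOfUnity e (B ⧸ m)) ∣ e := by
    rw [← orderOf_eq_card_of_forall_mem_zpowers hg, orderOf_dvd_iff_pow_eq_one]
    exact Subtype.ext g.2
  have hcop : ∀ p : ℕ, p.Prime → CharP (B ⧸ m) p → ¬ p ∣ Nat.card (rootsOfUnity e (B ⧸ m)) := by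
    intro p hp _ hdvd
    haveI : Fact p.Prime := ⟨hp⟩
    obtain ⟨x, hx⟩ := exists_prime_orderOf_dvd_card' p hdvd
    have h1 : (((x : (B ⧸ m)ˣ) : B ⧸ m)) ^ p = 1 := by
      have := pow_orderOf_eq_one x
      rw [hx] at this
      simpa using congrArg (fun z : rootsOfUnity e (B ⧸ m) => ((z : (B ⧸ m)ˣ) : B ⧸ m)) this
    have h2 : ((x : (B ⧸ m)ˣ) : B ⧸ m) = 1 := frobenius_inj (B ⧸ m) p (by rw [frobenius_def, map_one]; exact h1)
    have hx1 : x = 1 := Subtype.ext (Units.ext h2)
    rw [hx1, orderOf_one] at hx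
    exact hp.one_lt.ne hx
  have hmain : Nat.card (I ⧸ P.subgroupOf I) = Nat.card (rootsOfUnity e (B ⧸ m)) ∧
      (∀ p : ℕ, p.Prime → CharP (A ⧸ p0) p → Nat.card (I ⧸ P.subgroupOf I) = e / p ^ e.factorization p) ∧
      (CharZero (A ⧸ p0) → Nat.card (I ⧸ P.subgroupOf I) = e) := by
    have hp' : ∀ p : ℕ, p.Prime → CharP (A ⧸ p0) p →
        Nat.card (I ⧸ P.subgroupOf I) = Nat.card (rootsOfUnity e (B ⧸ m)) ∧
        Nat.card (I ⧸ P.subgroupOf I) = e / p ^ e.factorization p := by
      intro p hp hcp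
      haveI := hchar p hcp
      haveI : Fact p.Prime := ⟨hp⟩
      obtain ⟨a, ha⟩ := IsPGroup.iff_card.mp (hpgrp p hp hcp)
      rw [ha] at hcardmul
      have hnd : ¬ p ∣ Nat.card (I ⧸ P.subgroupOf I) := fun h => hcop p hp inferInstance (h.trans hn)
      refine ⟨Nat.dvd_antisymm hn ?_, ?_⟩
      · refine (((hp.coprime_iff_not_dvd.mpr (hcop p hp inferInstance)).symm).pow_right a).dvd_of_dvd_mul_right ?_
        rw [hcardmul]; exact hre
      · have hne : Nat.card (I ⧸ P.subgroupOf I) ≠ 0 := fun h => he0 (by rw [← hcardmul, h, zero_mul])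
        have hv : e.factorization p = a := by
          rw [← hcardmul, Nat.factorization_mul hne (pow_ne_zero _ hp.ne_zero), Finsupp.add_apply,
            Nat.factorization_eq_zero_of_not_dvd hnd, Nat.factorization_pow, Finsupp.smul_apply, hp.factorization_self]
          simp
        rw [hv, ← hcardmul, Nat.mul_div_cancel _ (pow_pos hp.pos a)]
    have hz : CharZero (A ⧸ p0) → Nat.card (I ⧸ P.subgroupOf I) = Nat.card (rootsOfUnity e (B ⧸ m)) ∧
        Nat.card (I ⧸ P.subgroupOf I) = e := by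
      intro h0
      have h1 : Nat.card (I ⧸ P.subgroupOf I) = e := by
        rw [← hcardmul, show Nat.card P = 1 by rw [hbot h0]; exact Subgroup.card_bot, mul_one]
      exact ⟨Nat.dvd_antisymm hn (h1 ▸ hre), h1⟩
    refine ⟨?_, fun p hp hcp => (hp' p hp hcp).2, fun h => (hz h).2⟩
    obtain ⟨q, hq⟩ := CharP.exists (A ⧸ p0)
    rcases CharP.char_is_prime_or_zero (A ⧸ p0) q with hqp | rfl
    · exact (hp' q hqp hq).1
    · exact (hz (CharP.charP_to_charZero _)).1
  have hbij : Function.Bijective Θ.range.subtype :=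
    ⟨Subtype.val_injective, (Nat.bijective_iff_injective_and_card _).mpr
      ⟨Subtype.val_injective, by rw [← Nat.card_congr ev.toEquiv]; exact hmain.1⟩ |>.2⟩
  let e2 : I ⧸ P.subgroupOf I ≃* rootsOfUnity e (B ⧸ m) := ev.trans (MulEquiv.ofBijective _ hbij)
  exact ⟨isCyclic_of_surjective e2.symm e2.symm.surjective, hmain.2.1, hmain.2.2, ⟨e2⟩⟩


/-- Parts (2)–(5) in the case of part (6): let A be a discrete valuation ring with fraction field K, L/K
a finite Galois extension with group G, B the integral closure of A in L, m a maximal ideal of B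
whose residue field is separable over that of A, and e the ramification index of m over A. Let D be
the decomposition group (stabilizer of m), I the inertia group (elements acting trivially on B/m)
and P the wild inertia group, here the elements of D acting trivially on B/m² (the description valid
in the separable residue field case). Then P ≤ I, P is normal in D, P is a p-group if the residue
characteristic is p > 0 and trivial if it is 0, and I/P is cyclic of order the prime-to-p part of e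
and isomorphic to a subgroup of the e-th roots of unity of B/m — more precisely to the full group of
e-th roots of unity of B/m. -/
theorem result (A K L B : Type u) [CommRing A] [IsDomain A] [IsDiscreteValuationRing A]
    [CommRing B] [IsDomain B] [Field K] [Field L] [Algebra A K] [Algebra B L] [IsFractionRing A K] [IsFractionRing B L]
    [Algebra A B] [Algebra K L] [Algebra A L] [IsScalarTower A K L] [IsScalarTower A B L] [IsIntegralClosure B A L]
    [FiniteDimensional K L] [IsGalois K L] (m : Ideal B) [m.IsMaximal]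
    [Algebra.IsSeparable (A ⧸ m.comap (algebraMap A B)) (B ⧸ m)] :
    letI := IsIntegralClosure.MulSemiringAction A K L B
    let D : Subgroup (L ≃ₐ[K] L) := MulAction.stabilizer (L ≃ₐ[K] L) m
    let I : Subgroup (L ≃ₐ[K] L) := m.inertia (L ≃ₐ[K] L)
    let P : Subgroup (L ≃ₐ[K] L) := D ⊓ (m ^ 2).inertia (L ≃ₐ[K] L)
    let e : ℕ := Ideal.ramificationIdx' (IsLocalRing.maximalIdeal A) m
    P ≤ I ∧ I ≤ D ∧ (P.subgroupOf D).Normal ∧
    (∀ p : ℕ, p.Prime → CharP (A ⧸ m.comap (algebraMap A B)) p → IsPGroup p P) ∧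
    (CharZero (A ⧸ m.comap (algebraMap A B)) → P = ⊥) ∧
    (∀ [(P.subgroupOf I).Normal],
      IsCyclic (I ⧸ P.subgroupOf I) ∧
      (∀ p : ℕ, p.Prime → CharP (A ⧸ m.comap (algebraMap A B)) p → Nat.card (I ⧸ P.subgroupOf I) = e / p ^ e.factorization p) ∧
      (CharZero (A ⧸ m.comap (algebraMap A B)) → Nat.card (I ⧸ P.subgroupOf I) = e) ∧
      Nonempty (I ⧸ P.subgroupOf I ≃* ↥(rootsOfUnity e (B ⧸ m)))) := by
  exact ram_groups A K L B m

end Groth.Agent.S1999
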