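import Groth.Statements.S19997
import Groth.Agent.WildQuotGal.ASFamily
import Groth.Agent.WildQuotGal.FixedAdjoin

set_option autoImplicit false
universe u
open WildQuot

namespace Groth.Agent.S19997

open MvPolynomial in
/-- Let `k` be a field of characteristic `p > 0`, `n ≥ 2`, `R = k[[x_1, …, x_n]]`, `a_1, …, a_n ∈ R`
with zero constant term and pairwise coprime, `μ ∈ R` nonzero and coprime to each `a_i`, `A = R[u_1,
…, u_n] / (u_i ^ p - (μ a_i) ^ (p-1) u_i - x_i : i = 1..n)`, and `σ` the `R`-algebra automorphism of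
`A` with `σ u_i = u_i + μ a_i` for every `i` (it generates a group `G` of order `p`). Fix an index
`i₀` and let `A_ci ⊆ A` be the `R`-subalgebra generated by the minor elements `z_j = a_{i₀} u_j -
a_j u_{i₀}`, `j ≠ i₀` (these are `σ`-invariant). Then `A_ci[1/(μ a_{i₀})] = A^G[1/(μ a_{i₀})]`: for
every `σ`-invariant `t ∈ A` some power `(μ a_{i₀}) ^ N t` lies in `A_ci`. (The published statement
uses the first index for `i₀`.) -/
theorem result
    (p : ℕ) [Fact p.Prime] (k : Type u) [Field k] [CharP k p] (n : ℕ) (hn : 2 ≤ n)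
    (a : Fin n → MvPowerSeries (Fin n) k) (μ : MvPowerSeries (Fin n) k)
    (ham : ∀ i, MvPowerSeries.constantCoeff (a i) = 0) (hcop : ∀ i j, i ≠ j → IsRelPrime (a i) (a j))
    (hμ : μ ≠ 0) (hμa : ∀ i, IsRelPrime μ (a i)) (i₀ : Fin n) :
    let R := MvPowerSeries (Fin n) k
    let I : Ideal (MvPolynomial (Fin n) R) :=
      Ideal.span (Set.range fun i : Fin n =>
        X i ^ p - C ((μ * a i) ^ (p - 1)) * X i - C (MvPowerSeries.X i))
    let A := MvPolynomial (Fin n) R ⧸ I
    let u : Fin n → A := fun i => Ideal.Quotient.mk I (X i)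
    let z : {j : Fin n // j ≠ i₀} → A := fun j =>
      algebraMap R A (a i₀) * u j.1 - algebraMap R A (a j.1) * u i₀
    ∀ σ : A ≃ₐ[R] A, (∀ i, σ (u i) = u i + algebraMap R A (μ * a i)) →
      ∀ t : A, σ t = t →
        ∃ N : ℕ, algebraMap R A (μ * a i₀) ^ N * t ∈ Algebra.adjoin R (Set.range z) := by
  intro R I A u z σ hσ t ht
  have hp := Fact.out (p := p.Prime)
  have hc : ∀ i, MvPowerSeries.constantCoeff ((μ * a i) ^ (p - 1)) = 0 := fun i => by
    rw [map_pow, map_mul, ham, mul_zero, zero_pow (Nat.sub_ne_zero_of_lt hp.one_lt)]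
  haveI : IsDomain A := Groth.Agent.ASFamily.isDomain p k n _ hc
  haveI : FaithfulSMul R A := Groth.Agent.ASFamily.faithfulSMul p k n (fun i => (μ * a i) ^ (p - 1))
  haveI : CharP R p := charP_of_injective_ringHom (f := MvPowerSeries.C (σ := Fin n) (R := k))
    (fun x y h => by simpa using congrArg MvPowerSeries.constantCoeff h) p
  haveI : CharP A p := charP_of_injective_algebraMap (FaithfulSMul.algebraMap_injective R A) p
  haveI : IsDomain R := Groth.Agent.CAlgReg.isDomain
  have ha : a i₀ ≠ 0 := fun h => by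
    obtain ⟨j, hj⟩ : ∃ j, j ≠ i₀ := by
      haveI : Nontrivial (Fin n) := Fin.nontrivial_iff_two_le.2 hn
      exact exists_ne i₀
    have hu : IsUnit (a j) := by
      refine hcop i₀ j (Ne.symm hj) ?_ (dvd_refl _)
      rw [h]; exact dvd_zero _
    rw [MvPowerSeries.isUnit_iff_constantCoeff, ham] at hu
    exact not_isUnit_zero hu
  have hd : algebraMap R A (μ * a i₀) ≠ 0 := fun h =>
    mul_ne_zero hμ ha (FaithfulSMul.algebraMap_injective R A (h.trans (map_zero _).symm))
  have hgens : Algebra.adjoin R (Set.range u) = ⊤ := by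
    refine Algebra.eq_top_iff.2 fun x => ?_
    obtain ⟨f, rfl⟩ := Ideal.Quotient.mk_surjective x
    induction f using MvPolynomial.induction_on with
    | C r => exact Subalgebra.algebraMap_mem _ r
    | add f g hf hg => rw [map_add]; exact add_mem hf hg
    | mul_X f i hf => rw [map_mul]; exact mul_mem hf (Algebra.subset_adjoin ⟨i, rfl⟩)
  refine Groth.Agent.WildQuotGal.fixed_mem_adjoin p (Set.range z) (Set.range u) hgens (u i₀) (μ * a i₀)
    ((μ * a i₀) ^ (p - 1)) (MvPowerSeries.X i₀) hd ?_ ?_ σ (hσ i₀) ?_ t ht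
  · exact Groth.Agent.ASFamily.relation (p := p) (fun i => (μ * a i) ^ (p - 1)) (MvPowerSeries.X : Fin n → R) i₀
  · rintro _ ⟨i, rfl⟩
    have hu0 : u i₀ ∈ Algebra.adjoin R (Set.range z ∪ {u i₀}) := Algebra.subset_adjoin (Or.inr rfl)
    by_cases hi : i = i₀
    · subst hi; exact mul_mem (Subalgebra.algebraMap_mem _ _) hu0
    · have e : algebraMap R A (μ * a i₀) * u i =
          algebraMap R A μ * z ⟨i, hi⟩ + algebraMap R A (μ * a i) * u i₀ := by
        simp only [z, map_mul]; ring
      rw [e]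
      exact add_mem (mul_mem (Subalgebra.algebraMap_mem _ _) (Algebra.subset_adjoin (Or.inl ⟨_, rfl⟩)))
        (mul_mem (Subalgebra.algebraMap_mem _ _) hu0)
  · rintro _ ⟨j, rfl⟩
    simp only [z, map_sub, map_mul, AlgEquiv.commutes, hσ]
    skip
    ring

end Groth.Agent.S19997
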