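import Groth.Statements.S2000
import Mathlib
import Groth.Agent.CAlgH.BLGlue4

set_option autoImplicit false
universe u
open TensorProduct
open EtAlg

namespace Groth.Agent.S2000

/-- Beauville–Laszlo, essential surjectivity with glueability: take a glueing pair (R -> R', f). Fix an
R'-module M', an R-module M₁ on which multiplication by f is bijective (i.e. an R_f-module), and α
an R'-linear isomorphism from the localization of M' at f to R' ⊗_R M₁ (an isomorphism of
R'_f-modules). Then there is an R-module M, glueable for (R -> R', f), with an R'-isomorphism R' ⊗_R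
M ≅ M' and an R-isomorphism M_f ≅ M₁ under which α becomes the canonical identification (R' ⊗_R M)_f
= R' ⊗_R M_f. -/
theorem result (R R' : Type u) [CommRing R] [CommRing R'] [Algebra R R'] (f : R)
    (hRR : EtGlue.IsGlueingPair R R' f) (M' : Type u) [AddCommGroup M'] [Module R' M'] (M₁ : Type u) [AddCommGroup M₁]
    [Module R M₁] (hf : Function.Bijective fun x : M₁ => f • x)
    (α : LocalizedModule (Submonoid.powers (algebraMap R R' f)) M' ≃ₗ[R'] R' ⊗[R] M₁) :
    ∃ (M : Type u) (_ : AddCommGroup M) (_ : Module R M) (_ : EtGlue.IsGlueable R R' f M)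
      (e' : R' ⊗[R] M ≃ₗ[R'] M') (e₁ : LocalizedModule (Submonoid.powers f) M ≃ₗ[R] M₁),
      ∀ m : M, α (LocalizedModule.mkLinearMap (Submonoid.powers (algebraMap R R' f)) M' (e' ((1 : R') ⊗ₜ[R] m))) =
        (1 : R') ⊗ₜ[R] e₁ (LocalizedModule.mkLinearMap (Submonoid.powers f) M m) := by
  letI : Module R M' := Module.compHom M' (algebraMap R R')
  haveI : IsScalarTower R R' M' := ⟨fun r x y => by rw [Algebra.smul_def, mul_smul]; rfl⟩
  let F := algebraMap R R' f
  let γ : M' →ₗ[R'] R' ⊗[R] M₁ := α.toLinearMap ∘ₗ LocalizedModule.mkLinearMap (Submonoid.powers F) M'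
  let P : Submodule R (M' × M₁) := LinearMap.ker ((γ.restrictScalars R) ∘ₗ LinearMap.fst R M' M₁ -
    (TensorProduct.mk R R' M₁ 1) ∘ₗ LinearMap.snd R M' M₁)
  have hP : ∀ v : M' × M₁, v ∈ P ↔ γ v.1 = (1 : R') ⊗ₜ[R] v.2 := fun v => sub_eq_zero
  have d : Groth.Agent.CAlgH.BLGlue.PullData f γ ((LinearMap.fst R M' M₁).comp P.subtype)
      ((LinearMap.snd R M' M₁).comp P.subtype) :=
    { bij := hf
      comm := fun m => (hP m.1).mp m.2
      ext := fun m h1 h2 => Subtype.ext (Prod.ext h1 h2)
      lift := fun x' x₁ hx => ⟨⟨(x', x₁), (hP _).mpr hx⟩, rfl, rfl⟩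
      ker_torsion := fun x hx => by
        obtain ⟨⟨_, n, rfl⟩, hn⟩ := (IsLocalizedModule.eq_zero_iff (Submonoid.powers F)
          (LocalizedModule.mkLinearMap (Submonoid.powers F) M')).mp (α.injective (hx.trans α.map_zero.symm))
        refine ⟨n, ?_⟩
        rw [← algebraMap_smul R' (f ^ n) x, map_pow]
        exact hn
      surj := fun k => by
        obtain ⟨⟨x, _, n, rfl⟩, hx⟩ := IsLocalizedModule.surj (Submonoid.powers F)
          (LocalizedModule.mkLinearMap (Submonoid.powers F) M') (α.symm k)
        refine ⟨n, x, ?_⟩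
        have hk := congrArg α hx
        rw [Submonoid.smul_def, map_smul, α.apply_symm_apply] at hk
        rw [← algebraMap_smul R' (f ^ n) k, map_pow]
        exact hk }
  have := d.isLocalizedModule
  refine ⟨P, inferInstance, inferInstance, d.isGlueable hRR, d.equiv' hRR,
    IsLocalizedModule.iso (Submonoid.powers f) ((LinearMap.snd R M' M₁).comp P.subtype), fun m => ?_⟩
  rw [d.equiv'_tmul, one_smul]
  refine (d.comm m).trans ?_
  congr 1
  exact ((IsLocalizedModule.iso_apply_mk (Submonoid.powers f) ((LinearMap.snd R M' M₁).comp P.subtype) m 1).trans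
    (IsLocalizedModule.mk'_one _ _ m)).symm

end Groth.Agent.S2000
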