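import Groth.Statements.S2001
import Mathlib

set_option autoImplicit false
universe u
open TensorProduct
open EtAlg

namespace Groth.Agent.S2001

/-- Let (R -> R', f) be a glueing pair and M, N R-modules glueable for it. Given an R'-linear map φ' :
R' ⊗_R M -> R' ⊗_R N and an R-linear map φ₁ : M_f -> N_f which induce the same map into (R' ⊗_R N)_f
on elements of M, there is a unique R-linear map ψ : M -> N whose base change to R' is φ' and whose
localization is φ₁. -/
theorem result (R R' : Type u) [CommRing R] [CommRing R'] [Algebra R R'] (f : R)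
    (hRR : EtGlue.IsGlueingPair R R' f) (M N : Type u) [AddCommGroup M] [Module R M] [AddCommGroup N] [Module R N]
    (hM : EtGlue.IsGlueable R R' f M) (hN : EtGlue.IsGlueable R R' f N)
    (φ' : R' ⊗[R] M →ₗ[R'] R' ⊗[R] N)
    (φ₁ : LocalizedModule (Submonoid.powers f) M →ₗ[R] LocalizedModule (Submonoid.powers f) N)
    (hc : ∀ m : M, EtGlue.locOfTensor R R' f N (φ' ((1 : R') ⊗ₜ[R] m)) =
      EtGlue.tensorOfLoc R R' f N (φ₁ (LocalizedModule.mkLinearMap (Submonoid.powers f) M m))) :
    ∃! ψ : M →ₗ[R] N, ψ.baseChange R' = φ' ∧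
      IsLocalizedModule.map (Submonoid.powers f) (LocalizedModule.mkLinearMap (Submonoid.powers f) M)
        (LocalizedModule.mkLinearMap (Submonoid.powers f) N) ψ = φ₁ := by
  let ι : N →ₗ[R] (R' ⊗[R] N) × LocalizedModule (Submonoid.powers f) N :=
    (TensorProduct.mk R R' N 1).prod (LocalizedModule.mkLinearMap (Submonoid.powers f) N)
  have hι : Function.Injective ι := hN.1
  let g : M →ₗ[R] (R' ⊗[R] N) × LocalizedModule (Submonoid.powers f) N :=
    ((φ'.restrictScalars R) ∘ₗ TensorProduct.mk R R' M 1).prod (φ₁ ∘ₗ LocalizedModule.mkLinearMap (Submonoid.powers f) M)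
  have hg : ∀ m, g m ∈ LinearMap.range ι := fun m => by
    obtain ⟨n, h1, h2⟩ := hN.2 _ _ (hc m)
    exact ⟨n, Prod.ext h1 h2⟩
  let ψ : M →ₗ[R] N := (LinearEquiv.ofInjective ι hι).symm.toLinearMap ∘ₗ LinearMap.codRestrict _ g hg
  have hψ : ∀ m, ι (ψ m) = g m := fun m =>
    congrArg Subtype.val ((LinearEquiv.ofInjective ι hι).apply_symm_apply ⟨g m, hg m⟩)
  refine ⟨ψ, ⟨?_, ?_⟩, ?_⟩
  · refine LinearMap.ext fun z => ?_
    induction z using TensorProduct.induction_on with
    | zero => simp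
    | tmul r m =>
      have : (1 : R') ⊗ₜ[R] ψ m = φ' ((1 : R') ⊗ₜ[R] m) := (Prod.ext_iff.mp (hψ m)).1
      calc ψ.baseChange R' (r ⊗ₜ[R] m) = r • ((1 : R') ⊗ₜ[R] ψ m) := by
            rw [LinearMap.baseChange_tmul, TensorProduct.smul_tmul', smul_eq_mul, mul_one]
        _ = φ' (r ⊗ₜ[R] m) := by rw [this, ← map_smul, TensorProduct.smul_tmul', smul_eq_mul, mul_one]
    | add a b ha hb => simp only [map_add, ha, hb]
  · refine IsLocalizedModule.linearMap_ext (Submonoid.powers f) (LocalizedModule.mkLinearMap (Submonoid.powers f) M)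
      (LocalizedModule.mkLinearMap (Submonoid.powers f) N) (LinearMap.ext fun m => ?_)
    rw [LinearMap.comp_apply, LinearMap.comp_apply, IsLocalizedModule.map_apply]
    exact (Prod.ext_iff.mp (hψ m)).2
  · rintro χ ⟨h1, h2⟩
    refine LinearMap.ext fun m => hι ((Prod.ext ?_ ?_ : ι (χ m) = g m).trans (hψ m).symm)
    · show (1 : R') ⊗ₜ[R] χ m = φ' ((1 : R') ⊗ₜ[R] m)
      rw [← h1, LinearMap.baseChange_tmul]
    · show LocalizedModule.mkLinearMap _ N (χ m) = φ₁ (LocalizedModule.mkLinearMap _ M m)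
      rw [← h2, IsLocalizedModule.map_apply]

end Groth.Agent.S2001
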