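import Groth.Statements.S20014
import Groth.Agent.ConnIdem.Basic
import Groth.Agent.IrredComp.Basic
import Groth.Agent.FormalFun.Fibration
import Mathlib.RingTheory.IntegralClosure.IntegrallyClosed
-- import your own Groth.Agent.* helpers here

set_option autoImplicit false
set_option linter.style.haveILetI false
universe u
open CategoryTheory CategoryTheory.Limits AlgebraicGeometry
open RatSing

namespace Groth.Agent.S20014

/-- Let k be a field, X an integral k-scheme which is separated and of finite type over k, and f : X̃ →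
X a proper morphism of k-schemes which is birational — an isomorphism over some nonempty open subset
of X — and for which O_X → f_*O_X̃ is an isomorphism (Γ(V, O_X) → Γ(f⁻¹V, O_X̃) bijective for every
open V of X). If X̃ is normal (every local ring an integrally closed domain), then X is normal. (In
the text this is the last clause of a lemma whose other hypotheses — X̃ Cohen–Macaulay, vanishing of
the higher direct images of O_X̃ and of the dualizing sheaf — and whose standing assumption that k
is perfect of positive characteristic play no role in this clause; they are omitted here.) -/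
theorem result (k : Type u) [Field k]
    (X Xt : Scheme.{u}) [X.Over (Spec (CommRingCat.of k))] [Xt.Over (Spec (CommRingCat.of k))]
    [IsIntegral X] [IsSeparated (X ↘ Spec (CommRingCat.of k))]
    [LocallyOfFiniteType (X ↘ Spec (CommRingCat.of k))] [QuasiCompact (X ↘ Spec (CommRingCat.of k))]
    (f : Xt ⟶ X) (hf : f ≫ (X ↘ Spec (CommRingCat.of k)) = Xt ↘ Spec (CommRingCat.of k)) [IsProper f]
    (U : X.Opens) (hU : (U : Set X).Nonempty) (hbir : IsIso (f ∣_ U))
    (hfib : ∀ V : X.Opens, IsIso (f.app V))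
    (hXt : Pi1.IsNormalScheme Xt) : Pi1.IsNormalScheme X := by
  obtain ⟨u, hu⟩ := hU
  have hdom : ∀ t : Xt, IsDomain (Xt.presheaf.stalk t) := fun t => (hXt t).1
  haveI : IsReduced Xt := by
    haveI : ∀ t : Xt, _root_.IsReduced (Xt.presheaf.stalk t) := fun t => haveI := hdom t; inferInstance
    exact isReduced_of_isReduced_stalk Xt
  haveI : Nonempty Xt := by
    haveI := hbir
    have hs : Function.Surjective (f ∣_ U) := (f ∣_ U).homeomorph.surjective
    obtain ⟨z, -⟩ := hs ⟨u, hu⟩
    exact ⟨(f ⁻¹ᵁ U).ι z⟩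
  haveI : PreconnectedSpace Xt := by
    refine (Groth.Agent.ConnIdem.preconnectedSpace_iff Xt.toLocallyRingedSpace).2 fun e he => ?_
    have hbij : Function.Bijective (f.app ⊤).hom := by
      haveI := hfib ⊤
      exact ConcreteCategory.bijective_of_isIso (f.app ⊤)
    haveI : Nonempty (↑(⊤ : X.Opens) : Scheme.{u}) := ⟨⟨u, trivial⟩⟩
    obtain ⟨a, ha⟩ := hbij.2 e
    have h2 : a * a = a := hbij.1 ((map_mul (f.app ⊤).hom a a).trans ((congrArg₂ (· * ·) ha ha).trans (he.trans ha.symm)))
    rcases (IsIdempotentElem.iff_eq_zero_or_one (G₀ := Γ(X, ⊤))).1 h2 with h | h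
    · exact Or.inl (ha ▸ h ▸ map_zero (f.app ⊤).hom)
    · exact Or.inr (ha ▸ h ▸ map_one (f.app ⊤).hom)
  haveI : IsLocallyNoetherian X := LocallyOfFiniteType.isLocallyNoetherian (X ↘ Spec (CommRingCat.of k))
  haveI : IsLocallyNoetherian Xt := LocallyOfFiniteType.isLocallyNoetherian f
  haveI : IrreducibleSpace Xt := by
    have hpd : (irreducibleComponents (Xt : Type u)).PairwiseDisjoint id :=
      (Groth.Agent.IrredComp.pairwiseDisjoint_iff Xt).2 fun x => by
        haveI := hdom x
        exact Groth.Agent.IrredComp.isPrime_nilradical_of_isDomain _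
    let x₀ : Xt := Classical.arbitrary Xt
    have hopen := Groth.Agent.IrredComp.isOpen_of_pairwiseDisjoint
      (fun x => Groth.Agent.IrredComp.exists_noetherian_nhd Xt x) hpd (irreducibleComponent_mem_irreducibleComponents x₀)
    have heq : irreducibleComponent x₀ = Set.univ :=
      IsClopen.eq_univ ⟨isClosed_irreducibleComponent, hopen⟩ ⟨x₀, mem_irreducibleComponent⟩
    exact (irreducibleSpace_def _).2 (by rw [Set.top_eq_univ, ← heq]; exact isIrreducible_irreducibleComponent)
  haveI : IsIntegral Xt := isIntegral_of_irreducibleSpace_of_isReduced Xt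
  intro x
  obtain ⟨_, ⟨V, hV, rfl⟩, hxV, -⟩ :=
    X.isBasis_affineOpens.exists_subset_of_mem_open (Set.mem_univ x) isOpen_univ
  haveI : Nonempty V := ⟨⟨x, hxV⟩⟩
  refine ⟨inferInstance, ?_⟩
  let e : Γ(X, V) ≃+* Γ(Xt, f ⁻¹ᵁ V) :=
    haveI := hfib V
    RingEquiv.ofBijective (f.app V).hom (ConcreteCategory.bijective_of_isIso (f.app V))
  have hne : ((f ⁻¹ᵁ V : Xt.Opens) : Set Xt).Nonempty := by
    by_contra hc
    have hb : f ⁻¹ᵁ V = ⊥ := by
      ext1
      exact Set.not_nonempty_iff_eq_empty.1 hc
    haveI : Subsingleton Γ(Xt, f ⁻¹ᵁ V) := by rw [hb]; infer_instance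
    exact one_ne_zero (α := Γ(X, V)) (e.injective (Subsingleton.elim _ _))
  haveI : Nonempty (f ⁻¹ᵁ V : Xt.Opens) := hne.to_subtype
  have hg : genericPoint Xt ∈ f ⁻¹ᵁ V :=
    ((genericPoint_spec Xt).mem_open_set_iff (f ⁻¹ᵁ V).2).2 (by rwa [Set.univ_inter])
  haveI hB : IsIntegrallyClosed Γ(Xt, f ⁻¹ᵁ V) := by
    let B := Γ(Xt, f ⁻¹ᵁ V)
    let θ : FractionRing B →+* Xt.functionField :=
      IsFractionRing.lift (A := B) (g := (Xt.presheaf.germ (f ⁻¹ᵁ V) (genericPoint Xt) hg).hom)
        (germ_injective_of_isIntegral (X := Xt) (genericPoint Xt) hg)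
    rw [isIntegrallyClosed_iff (FractionRing B)]
    intro t ht
    obtain ⟨P, hP, hPt⟩ := ht
    obtain ⟨s, hs⟩ := Groth.Agent.FormalFun.exists_germ_generic_eq (f ⁻¹ᵁ V) hg (θ t) (fun p hp => by
      haveI := (hXt p).2
      have hint : _root_.IsIntegral (Xt.presheaf.stalk p) (θ t) := by
        refine ⟨P.map (Xt.presheaf.germ (f ⁻¹ᵁ V) p hp).hom, hP.map _, ?_⟩
        rw [Polynomial.eval₂_map]
        have hcomp : (algebraMap (Xt.presheaf.stalk p) Xt.functionField).comp (Xt.presheaf.germ (f ⁻¹ᵁ V) p hp).hom =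
            θ.comp (algebraMap B (FractionRing B)) := by
          ext b
          simp only [RingHom.comp_apply, θ, IsFractionRing.lift_algebraMap]
          exact ConcreteCategory.congr_hom (Xt.presheaf.germ_stalkSpecializes hp (genericPoint_specializes p)) b
        rw [hcomp, ← Polynomial.hom_eval₂, hPt, map_zero]
      obtain ⟨a, ha⟩ := IsIntegrallyClosed.algebraMap_eq_of_integral hint
      exact ⟨a, ha⟩)
    refine ⟨s, θ.injective ?_⟩
    show IsFractionRing.lift _ _ = _
    rw [IsFractionRing.lift_algebraMap]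
    exact hs
  haveI : IsIntegrallyClosed Γ(X, V) := IsIntegrallyClosed.of_equiv e.symm
  letI := TopCat.Presheaf.algebra_section_stalk X.presheaf (⟨x, hxV⟩ : V)
  haveI := hV.isLocalization_stalk ⟨x, hxV⟩
  exact isIntegrallyClosed_of_isLocalization (X.presheaf.stalk x)
    (hV.primeIdealOf ⟨x, hxV⟩).asIdeal.primeCompl (Ideal.primeCompl_le_nonZeroDivisors _)

end Groth.Agent.S20014
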