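import Groth.Statements.S20018
import Mathlib.RingTheory.PowerSeries.Trunc

set_option autoImplicit false
open CAlg

namespace Groth.Agent.S20018

open PowerSeries in
/-- Product expansion of big Witt vectors: let R be a commutative ring and x ∈ 1 + tR[[t]] a formal
power series with constant term 1. Then x can be written uniquely as an infinite product ∏_{i ≥ 1}
(1 - α_i t^i) with α_i ∈ R. The infinite product is expressed through its truncations: there is a
unique sequence α : ℕ → R (α i standing for the coefficient attached to t^{i+1}) such that for every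
N the series x and the finite product ∏_{i=0}^{N} (1 - α_i t^{i+1}) agree modulo t^{N+2}. -/
theorem result
    (R : Type*) [CommRing R] (x : PowerSeries R) (hx : PowerSeries.constantCoeff x = 1) :
    ∃! α : ℕ → R, ∀ N : ℕ,
      PowerSeries.trunc (N + 2) x =
        PowerSeries.trunc (N + 2) (∏ i ∈ Finset.range (N + 1),
          (1 - PowerSeries.C (α i) * PowerSeries.X ^ (i + 1) : PowerSeries R)) := by
  classical
  open PowerSeries in
  let P : ℕ → PowerSeries R := fun N => Nat.rec 1 (fun N PN => PN * (1 - C (coeff (N + 1) PN - coeff (N + 1) x) * X ^ (N + 1))) N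
  let α : ℕ → R := fun N => coeff (N + 1) (P N) - coeff (N + 1) x
  have hprod : ∀ (β : ℕ → R) N, constantCoeff (∏ i ∈ Finset.range N, (1 - C (β i) * X ^ (i + 1) : PowerSeries R)) = 1 := by
    intro β N
    rw [map_prod]; exact Finset.prod_eq_one fun i _ => by simp
  have hlow : ∀ (β : ℕ → R) N j, j ≤ N → coeff j (∏ i ∈ Finset.range (N + 1), (1 - C (β i) * X ^ (i + 1) : PowerSeries R)) =
      coeff j (∏ i ∈ Finset.range N, (1 - C (β i) * X ^ (i + 1) : PowerSeries R)) := by
    intro β N j hj
    rw [Finset.prod_range_succ, mul_sub, mul_one, ← mul_assoc, map_sub, coeff_mul_X_pow', if_neg (by omega), sub_zero]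
  have htop : ∀ (β : ℕ → R) N, coeff (N + 1) (∏ i ∈ Finset.range (N + 1), (1 - C (β i) * X ^ (i + 1) : PowerSeries R)) =
      coeff (N + 1) (∏ i ∈ Finset.range N, (1 - C (β i) * X ^ (i + 1) : PowerSeries R)) - β N := by
    intro β N
    rw [Finset.prod_range_succ, mul_sub, mul_one, ← mul_assoc, map_sub, coeff_mul_X_pow', if_pos le_rfl, Nat.sub_self,
      coeff_zero_eq_constantCoeff_apply, map_mul, hprod, one_mul, constantCoeff_C]
  have hP : ∀ N, P N = ∏ i ∈ Finset.range N, (1 - C (α i) * X ^ (i + 1) : PowerSeries R) := by
    intro N; induction N with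
    | zero => rfl
    | succ N ih => rw [Finset.prod_range_succ, ← ih]
  have hex : ∀ N j, j ≤ N → coeff j (∏ i ∈ Finset.range N, (1 - C (α i) * X ^ (i + 1) : PowerSeries R)) = coeff j x := by
    intro N
    induction N with
    | zero => intro j hj; obtain rfl : j = 0 := by omega
              simp [hx]
    | succ N ih =>
      intro j hj
      rcases Nat.lt_or_ge j (N + 1) with h | h
      · rw [hlow α N j (by omega)]; exact ih j (by omega)
      · obtain rfl : j = N + 1 := by omega
        rw [htop, ← hP]; simp only [α, sub_sub_cancel]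
  refine ⟨α, fun N => ?_, fun β hβ => ?_⟩
  · ext j
    rw [coeff_trunc, coeff_trunc]
    split_ifs with hj
    · exact (hex (N + 1) j (by omega)).symm
    · rfl
  · funext N
    induction N using Nat.strong_induction_on with
    | _ N ih =>
      have h := congrArg (fun q : Polynomial R => q.coeff (N + 1)) (hβ N)
      simp only [coeff_trunc, if_pos (show N + 1 < N + 2 by omega)] at h
      rw [htop, Finset.prod_congr rfl (fun i hi => by rw [ih i (Finset.mem_range.mp hi)]), ← hP] at h
      show β N = coeff (N + 1) (P N) - coeff (N + 1) x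
      rw [h]; ring

end Groth.Agent.S20018
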