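import Groth.Statements.S20019
import Groth.Agent.CharSpan.Minor
import Groth.Agent.CharSpan.Eigen
import Groth.Agent.CAlgNagata.Reduced
import Groth.Agent.EGA2Curve.Finite
import Groth.Agent.LinRed.HopfReduced

set_option autoImplicit false
open scoped TensorProduct
open HopfRep

namespace Groth.Agent.S20019

theorem isNagata_field (k : Type) [Field k] : CAlg.IsNagata k := by
  refine ⟨inferInstance, fun p _ => ?_⟩
  intro L _ _ _ _ hL
  haveI := hL
  exact EGA2Curve.finite_integralClosure k (k ⧸ p) (FractionRing (k ⧸ p)) L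

/-- the character of a comodule on a coordinate space is the trace of its comatrix -/
theorem char_eq_trace {A : Type} [CommRing A] [Bialgebra ℂ A] (d : ℕ) (c : HopfRep.Comod ℂ A (Fin d → ℂ)) :
    ∃ M : Fin d → Fin d → A, Comod.IsComatrix (k := ℂ) M ∧
      ∑ i : Fin d, TensorProduct.lid ℂ A (LinearMap.rTensor A (LinearMap.proj i)
        (@HopfRep.Comod.coact ℂ A _ _ _ _ (Fin d → ℂ) _ _ c (Pi.single i 1))) = ∑ i, M i i := by
  letI := c
  refine ⟨Comod.matrixOf (Pi.basisFun ℂ (Fin d)), Comod.isComatrix_matrixOf _, Finset.sum_congr rfl fun i _ => ?_⟩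
  rw [Comod.matrixOf, Comod.coeffMap_apply, Pi.basisFun_apply]
  have h : (Pi.basisFun ℂ (Fin d)).coord i = LinearMap.proj i := by
    ext v
    simp
  rw [h]
  rfl

/-- traces of comatrices are characters -/
theorem trace_mem_char {A : Type} [CommRing A] [Bialgebra ℂ A] {ι : Type} [Fintype ι] [DecidableEq ι]
    {M : ι → ι → A} (hM : Comod.IsComatrix (k := ℂ) M) :
    ∑ i, M i i ∈ Set.range (fun p : (Σ d : ℕ, HopfRep.Comod ℂ A (Fin d → ℂ)) =>
          ∑ i : Fin p.1, TensorProduct.lid ℂ A (LinearMap.rTensor A (LinearMap.proj i)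
            (@HopfRep.Comod.coact ℂ A _ _ _ _ (Fin p.1 → ℂ) _ _ p.2 (Pi.single i 1)))) := by
  classical
  let e := (Fintype.equivFin ι).symm
  refine ⟨⟨_, Comod.ofMatrix (CharSpan.IsComatrix.reindex hM e)⟩, ?_⟩
  rw [← Equiv.sum_comp e fun i => M i i]
  refine Finset.sum_congr rfl fun i _ => ?_
  show TensorProduct.lid ℂ A (LinearMap.rTensor A (LinearMap.proj i) (Comod.matCoact _ (Pi.single i 1))) = _
  rw [← Pi.basisFun_apply, Comod.matCoact_basis, map_sum, map_sum, Finset.sum_eq_single i]
  · simp
  · intro j _ hj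
    simp [Pi.single_eq_of_ne' hj]
  · simp


/-- Let A → B be a surjective homomorphism of finitely generated commutative Hopf algebras over the
complex numbers, that is a closed embedding H ↪ G of complex linear algebraic groups with G = Spec A
and H = Spec B. For a comodule structure on the coordinate space ℂ^d with coaction e_i ↦ Σ_j e_j ⊗
a_ji, its character is Σ_i a_ii. Then R(H) is a finite R(G)-module, with the complexified
representation rings realised inside the coordinate rings by characters: there are finitely many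
characters f_1, …, f_r of H-comodule structures such that every ℂ-linear combination of characters
of H-comodule structures on coordinate spaces is of the form Σ_j s_j f_j with each s_j in the
ℂ-subalgebra of B generated by the images of the characters of G-comodule structures on coordinate
spaces. (The representation rings of the published statement are rendered through characters; over
the complex numbers the characters of pairwise non-isomorphic simple comodules are linearly
independent, so the span of characters is the complexified representation ring.) -/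
theorem result
    (A B : Type) [CommRing A] [HopfAlgebra ℂ A] [Algebra.FiniteType ℂ A]
    [CommRing B] [HopfAlgebra ℂ B] [Algebra.FiniteType ℂ B]
    (π : A →ₐc[ℂ] B) (hπ : Function.Surjective π) :
    ∃ F : Finset B,
      (↑F : Set B) ⊆ Set.range (fun p : (Σ d : ℕ, HopfRep.Comod ℂ B (Fin d → ℂ)) =>
          ∑ i : Fin p.1, TensorProduct.lid ℂ B (LinearMap.rTensor B (LinearMap.proj i)
            (@HopfRep.Comod.coact ℂ B _ _ _ _ (Fin p.1 → ℂ) _ _ p.2 (Pi.single i 1)))) ∧
      (↑(Submodule.span ℂ (Set.range (fun p : (Σ d : ℕ, HopfRep.Comod ℂ B (Fin d → ℂ)) =>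
          ∑ i : Fin p.1, TensorProduct.lid ℂ B (LinearMap.rTensor B (LinearMap.proj i)
            (@HopfRep.Comod.coact ℂ B _ _ _ _ (Fin p.1 → ℂ) _ _ p.2 (Pi.single i 1)))))) : Set B) ⊆
        ↑(Submodule.span (Algebra.adjoin ℂ (π '' Set.range (fun p : (Σ d : ℕ, HopfRep.Comod ℂ A (Fin d → ℂ)) =>
          ∑ i : Fin p.1, TensorProduct.lid ℂ A (LinearMap.rTensor A (LinearMap.proj i)
            (@HopfRep.Comod.coact ℂ A _ _ _ _ (Fin p.1 → ℂ) _ _ p.2 (Pi.single i 1))))))
          (↑F : Set B)) := by
  classical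
  haveI : IsReduced B := LinRed.isReduced_of_hopfAlgebra_charZero ℂ B
  haveI : IsNoetherianRing B := Algebra.FiniteType.isNoetherianRing ℂ B
  set CA : Set A := Set.range (fun p : (Σ d : ℕ, HopfRep.Comod ℂ A (Fin d → ℂ)) =>
    ∑ i : Fin p.1, TensorProduct.lid ℂ A (LinearMap.rTensor A (LinearMap.proj i)
      (@HopfRep.Comod.coact ℂ A _ _ _ _ (Fin p.1 → ℂ) _ _ p.2 (Pi.single i 1))))
  set CB : Set B := Set.range (fun p : (Σ d : ℕ, HopfRep.Comod ℂ B (Fin d → ℂ)) =>
    ∑ i : Fin p.1, TensorProduct.lid ℂ B (LinearMap.rTensor B (LinearMap.proj i)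
      (@HopfRep.Comod.coact ℂ B _ _ _ _ (Fin p.1 → ℂ) _ _ p.2 (Pi.single i 1))))
  obtain ⟨s, hs⟩ := (Algebra.FiniteType.out : (⊤ : Subalgebra ℂ A).FG)
  obtain ⟨W, hWf, hsW, hW⟩ :=
    Comod.exists_finite_subcomod (k := ℂ) (A := A) (V := A) (↑s) s.finite_toSet
  letI : HopfRep.Comod ℂ A W := ComodSub.Comod.restr inferInstance W hW
  set d := Module.finrank ℂ W
  let bW : Module.Basis (Fin d) ℂ W := Module.finBasis ℂ W
  let b : Fin d → Fin d → A := Comod.matrixOf bW
  have hM : Comod.IsComatrix (k := ℂ) b := Comod.isComatrix_matrixOf bW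
  have hgenA : Algebra.adjoin ℂ (Set.range fun p : Fin d × Fin d => b p.1 p.2) = ⊤ := by
    refine top_le_iff.1 (hs ▸ Algebra.adjoin_le fun x hx => ?_)
    obtain ⟨w, rfl⟩ : ∃ w : W, (w : A) = x := ⟨⟨x, hsW hx⟩, rfl⟩
    have hW' : (W : Submodule ℂ A) ≤ Subalgebra.toSubmodule
        (Algebra.adjoin ℂ (Set.range fun p : Fin d × Fin d => b p.1 p.2)) := by
      have htop : (⊤ : Submodule ℂ W).map W.subtype ≤ Subalgebra.toSubmodule
          (Algebra.adjoin ℂ (Set.range fun p : Fin d × Fin d => b p.1 p.2)) := by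
        rw [← bW.span_eq, Submodule.map_span, Submodule.span_le]
        rintro _ ⟨_, ⟨j, rfl⟩, rfl⟩
        have h1 : ((bW j : W) : A) = ∑ i, Coalgebra.counit (R := ℂ) (bW i : A) • b i j := by
          rw [← Comod.slL_counit_comul (k := ℂ) ((bW j : W) : A)]
          have h2 := ComodSub.restr_coact_coe (k := ℂ) (A := A) inferInstance W hW (bW j)
          have h3 : Coalgebra.comul (R := ℂ) ((bW j : W) : A) = W.subtype.rTensor A
              (HopfRep.Comod.coact (k := ℂ) (A := A) (bW j)) := h2.symm
          rw [h3, Comod.coact_basis bW, map_sum, map_sum]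
          exact Finset.sum_congr rfl fun i _ => by simp [b]
        show ((bW j : W) : A) ∈ Algebra.adjoin ℂ (Set.range fun p : Fin d × Fin d => b p.1 p.2)
        rw [h1]
        exact sum_mem fun i _ => Subalgebra.smul_mem _ (Algebra.subset_adjoin
          ⟨(i, j), rfl⟩ : b i j ∈ Algebra.adjoin ℂ (Set.range fun p : Fin d × Fin d => b p.1 p.2)) _
      rwa [Submodule.map_top, Submodule.range_subtype] at htop
    exact hW' w.2
  let N : Fin d → Fin d → B := fun i j => π (b i j)
  have hN : Comod.IsComatrix (k := ℂ) N := hM.map π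
  have hgen : Algebra.adjoin ℂ (Set.range fun p : Fin d × Fin d => N p.1 p.2) = ⊤ := by
    have h := (π : A →ₐ[ℂ] B).map_adjoin (Set.range fun p : Fin d × Fin d => b p.1 p.2)
    rw [hgenA, Algebra.map_top, (AlgHom.range_eq_top _).2 hπ, ← Set.range_comp] at h
    exact h.symm
  let C : Subalgebra ℂ B := Algebra.adjoin ℂ ↑((Finset.range (d + 1)).image fun i => (Matrix.of N).charpoly.coeff i)
  have hC : ∀ i, (Matrix.of N).charpoly.coeff i ∈ C := fun i => by
    by_cases hi : i ≤ d
    · exact Algebra.subset_adjoin (Finset.mem_coe.2 (Finset.mem_image_of_mem _ (Finset.mem_range.2 (by omega))))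
    · rw [Polynomial.coeff_eq_zero_of_natDegree_lt]
      · exact zero_mem _
      · refine (Polynomial.natDegree_le_iff_coeff_eq_zero.2 fun m hm => ?_).trans_lt (not_le.1 hi)
        rcases subsingleton_or_nontrivial B with hB | hB
        · exact Subsingleton.elim _ _
        · exact Polynomial.coeff_eq_zero_of_natDegree_lt (by
            rw [Matrix.charpoly_natDegree_eq_dim]; simpa using hm)
  have hCle : C ≤ Algebra.adjoin ℂ (π '' CA) := Algebra.adjoin_le fun x hx => by
    obtain ⟨i, hi, rfl⟩ := Finset.mem_image.1 (Finset.mem_coe.1 hx)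
    have hi' : i ≤ d := by simpa [Nat.lt_succ_iff] using hi
    have h := CharSpan.charpoly_coeff_eq_sum (k := d - i) (Matrix.of N) (Nat.sub_le _ _)
    rw [Nat.sub_sub_self hi'] at h
    rw [SetLike.mem_coe, h]
    refine mul_mem (pow_mem (neg_mem (one_mem _)) _) (Algebra.subset_adjoin ⟨_,
      trace_mem_char (CharSpan.isComatrix_minor hM (d - i)), ?_⟩)
    rw [map_sum]
    exact Finset.sum_congr rfl fun t _ => CharSpan.map_minorMat (π : A →+* B) (Matrix.of b) t t
  haveI : Algebra.FiniteType ℂ C := C.fg_iff_finiteType.1 ⟨_, rfl⟩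
  haveI : IsNoetherianRing C := Algebra.FiniteType.isNoetherianRing ℂ C
  haveI : Algebra.FiniteType C B := Algebra.FiniteType.of_restrictScalars_finiteType ℂ C B
  haveI : Module.Finite C (integralClosure C B) :=
    CAlgNagata.finite_integralClosure_reduced (CAlgNagata.isNagata_of_finiteType (isNagata_field ℂ) C) B
  have hint : CB ⊆ (Subalgebra.toSubmodule (integralClosure C B) : Set B) := by
    rintro _ ⟨⟨n, c⟩, rfl⟩
    obtain ⟨M, hM', he⟩ := char_eq_trace n c
    show IsIntegral C _
    simp only
    rw [he]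
    exact CharSpan.isIntegral_trace hN hgen C hC hM'
  have hfgI : (Subalgebra.toSubmodule (integralClosure C B)).FG := Module.Finite.iff_fg.1 inferInstance
  have hfg : (Submodule.span C CB).FG :=
    haveI := Module.Finite.iff_fg.2 hfgI
    haveI := isNoetherian_of_fg_of_noetherian _ hfgI
    Submodule.FG.of_le (Module.Finite.iff_fg.1 inferInstance) (Submodule.span_le.2 hint)
  obtain ⟨F, hF, hFspan⟩ := (Submodule.fg_span_iff_fg_span_finset_subset _).1 hfg
  refine ⟨F, hF, fun x hx => ?_⟩
  have h1 : x ∈ Submodule.span C (↑F : Set B) := hFspan ▸ Submodule.span_subset_span ℂ C CB hx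
  clear hx
  induction h1 using Submodule.span_induction with
  | mem y hy => exact Submodule.subset_span hy
  | zero => exact zero_mem _
  | add y z _ _ hy hz => exact add_mem hy hz
  | smul c y _ hy =>
    exact Submodule.smul_mem _ (⟨(c : B), hCle c.2⟩ : Algebra.adjoin ℂ (π '' CA)) hy

end Groth.Agent.S20019
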