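import Groth.Statements.S20021
import Groth.Agent.LinRed.StableLocus

set_option autoImplicit false
universe u
open GIT

namespace Groth.Agent.S20021

open TensorProduct


/-- Let k be an algebraically closed field of arbitrary characteristic, A a reduced commutative Hopf
algebra of finite type over k all of whose finite-dimensional comodules are semisimple (a linearly
reductive affine algebraic group G = Spec A, an affine variety), and R a reduced commutative
k-algebra of finite type carrying an A-comodule structure whose coaction is an algebra map (an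
action of G on the affine variety X = Spec R, which may be reducible). Call a k-point x of X stable
when the image of its orbit morphism Spec A → Spec R is closed and A modulo the stabiliser ideal of
x is a finite k-module (closed orbit and zero-dimensional stabiliser). Then there is a set S of
invariant elements of R such that x is stable if and only if some member of S does not vanish at x;
in particular the stable locus is a union of basic open sets X_f with f invariant, hence open. (The
further assertion that the quotient map restricted to the stable locus is a geometric quotient onto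
an open subset of Spec R^G is not part of this row. No hypothesis on the characteristic of k.) -/
theorem result (k : Type u) [Field k]
    [IsAlgClosed k] (A : Type u) [CommRing A] [HopfAlgebra k A] [Algebra.FiniteType k A] [IsReduced A]
    (hG : HopfRep.IsLinearlyReductive k A)
    (R : Type u) [CommRing R] [IsReduced R] [Algebra k R] [Algebra.FiniteType k R]
    [HopfRep.Comod k A R] [GLin.IsCoactAlg k A R] :
    ∃ S : Set R, S ⊆ (GLin.invariants k A R : Set R) ∧
      ∀ x : R →ₐ[k] k, GLin.IsStablePt k A x ↔ ∃ f ∈ S, x f ≠ 0 := by
  classical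
  obtain ⟨α, hα⟩ := Groth.Agent.LinRed.exists_isNormIntegral hG
  refine ⟨{f | f ∈ GLin.invariants k A R ∧ ∀ y : R →ₐ[k] k, y f ≠ 0 → GLin.HasFiniteStab k A y},
    fun f hf => hf.1, fun x => ⟨fun hx => ?_, ?_⟩⟩
  · -- the points with infinite stabiliser
    let Z : Set (R →ₐ[k] k) := {y | ¬ GLin.HasFiniteStab k A y}
    let F : Ideal R := ⨅ y ∈ Z, RingHom.ker y
    have hF : ∀ a, a ∈ F ↔ ∀ y ∈ Z, y a = 0 := fun a => by
      simp only [F, Ideal.mem_iInf, RingHom.mem_ker]
    have htop : F ⊔ RingHom.ker (GLin.orbitHom k A x) = ⊤ := by
      by_contra hne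
      obtain ⟨z, hz⟩ := Groth.Agent.LinRed.exists_point_of_ne_top (k := k) _ hne
      have hmem : (⟨RingHom.ker z, RingHom.ker_isPrime _⟩ : PrimeSpectrum R) ∈
          closure (Set.range (PrimeSpectrum.comap (GLin.orbitHom k A x).toRingHom)) := by
        rw [PrimeSpectrum.closure_range_comap, PrimeSpectrum.mem_zeroLocus]
        intro r hr
        exact hz (le_sup_right (a := F) (b := RingHom.ker (GLin.orbitHom k A x)) hr)
      rw [hx.1.closure_eq] at hmem
      obtain ⟨Q, hQ⟩ := hmem
      obtain ⟨g, hg⟩ := Groth.Agent.LinRed.exists_point_of_ne_top (k := k) (R := A) Q.asIdeal Q.isPrime.ne_top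
      have hgz : GLin.actPt k g x = z := AlgHom.ext fun f => by
        have h : f - algebraMap k R (z f) ∈ (PrimeSpectrum.comap (GLin.orbitHom k A x).toRingHom Q).asIdeal := by
          rw [hQ]; simp [RingHom.mem_ker]
        have h1 := hg h
        rw [RingHom.mem_ker] at h1
        simpa [GLin.actPt, sub_eq_zero] using h1
      have hzfin : GLin.HasFiniteStab k A z := by
        rw [← hgz]
        exact Groth.Agent.LinRed.hasFiniteStab_actPt x (WithConv.toConv g) hx.2
      obtain ⟨f, hf, hf'⟩ := Groth.Agent.LinRed.exists_hasFiniteStab_nhd z hzfin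
      exact hf (RingHom.mem_ker.1 ((le_sup_left.trans hz) ((hF f).2 fun y hy => by
        by_contra h0; exact hy (hf' y h0))))
    obtain ⟨a, ha, b, hb, hab⟩ := Submodule.mem_sup.1 ((Ideal.eq_top_iff_one _).1 htop)
    refine ⟨Groth.Agent.Comod.actL α a, ⟨Groth.Agent.LinRed.actL_mem_fixedPts hα a, fun y hy => ?_⟩, ?_⟩
    · by_contra hbad
      apply hy
      have h0 : GLin.orbitHom k A y a = 0 := by
        haveI : IsJacobsonRing A := isJacobsonRing_of_finiteType (A := k)
        refine Groth.Agent.LinRed.eq_zero_of_forall_transR (Bialgebra.counitAlgHom k A) fun γ => ?_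
        show ((1 : WithConv (A →ₐ[k] k)).ofConv) (Groth.Agent.LinRed.transR γ (GLin.orbitHom k A y a)) = 0
        rw [Groth.Agent.LinRed.apply_transR, one_mul]
        show GLin.actPt k γ.ofConv y a = 0
        refine (hF a).1 ha _ fun hfin => hbad ?_
        have h := Groth.Agent.LinRed.hasFiniteStab_actPt _ γ⁻¹ hfin
        rwa [← Groth.Agent.LinRed.actPt_mul, mul_inv_cancel, Groth.Agent.LinRed.actPt_one] at h
      rw [← Groth.Agent.LinRed.counit_orbitHom (A := A) y, Groth.Agent.LinRed.orbitHom_actL, h0, map_zero,
        map_zero, map_zero]
    · have h1 : GLin.orbitHom k A x a = 1 := by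
        have := congrArg (GLin.orbitHom k A x) hab
        rwa [map_add, map_one, show GLin.orbitHom k A x b = 0 from hb, add_zero] at this
      rw [← Groth.Agent.LinRed.counit_orbitHom (A := A) x, Groth.Agent.LinRed.orbitHom_actL, h1,
        Bialgebra.comul_one, Algebra.TensorProduct.one_def, Groth.Agent.Comod.slR_tmul, hα.map_one, one_smul,
        Bialgebra.counit_one]
      exact one_ne_zero
  · rintro ⟨f, ⟨hfi, hf⟩, hfx⟩
    refine ⟨Groth.Agent.LinRed.isClosedOrbit_of_forall_hasFiniteStab x fun z hz => hf z ?_, hf x hfx⟩
    rwa [Groth.Agent.LinRed.apply_eq_of_inOrbitClosure hz hfi]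

end Groth.Agent.S20021
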