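import Groth.Statements.S20022
import Groth.Agent.GrInj.Basic

set_option autoImplicit false
universe u
open GrLC

namespace Groth.Agent.S20022

/-- Let R be a commutative ℤ-graded ring whose degree-zero subring R_0 is a field k and which is the
Laurent polynomial ring k[T, T⁻¹] on a homogeneous invertible element T of positive degree d, in the
following intrinsic sense: T is a unit lying in R_d, and every nonzero homogeneous element of degree
n equals a·T^j for some a ∈ R_0 and some integer j with j·d = n (so R_n = 0 unless d divides n, and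
R_{jd} = k·T^j). Then every graded R-module M is free in the graded sense: M has an R-basis
consisting of homogeneous elements. (The other case of condition (2), R = k concentrated in degree
zero, is not included.) -/
theorem result (R : Type u) [CommRing R]
    (𝒜 : ℤ → AddSubgroup R) [GradedRing 𝒜] (h0 : IsField (GrLC.deg0 𝒜))
    (d : ℤ) (hd : 0 < d) (T : Rˣ) (hT : (T : R) ∈ 𝒜 d)
    (hA : ∀ (n : ℤ) (x : R), x ∈ 𝒜 n → x ≠ 0 →
      ∃ j : ℤ, ∃ a ∈ 𝒜 0, j * d = n ∧ x = a * ((T ^ j : Rˣ) : R))
    (M : Type u) [AddCommGroup M] [Module R M] (ℳ : ℤ → AddSubgroup M)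
    [DirectSum.Decomposition ℳ] [SetLike.GradedSMul 𝒜 ℳ] :
    ∃ (κ : Type u) (b : Module.Basis κ R M), ∀ i : κ, SetLike.IsHomogeneousElem ℳ (b i) := by
  classical
  have hunit : ∀ (n : ℤ) (x : R), x ∈ 𝒜 n → x ≠ 0 → IsUnit x := fun n x hx hx0 => by
    obtain ⟨j, a, ha, -, rfl⟩ := hA n x hx hx0
    have ha0 : (⟨a, ha⟩ : GrLC.deg0 𝒜) ≠ 0 := fun h => hx0 (by
      rw [show a = 0 from congrArg Subtype.val h, zero_mul])
    obtain ⟨b, hb⟩ := h0.mul_inv_cancel ha0
    exact (IsUnit.of_mul_eq_one (b : R) (congrArg Subtype.val hb)).mul (Units.isUnit _)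
  let H : Type u := {x : M // SetLike.IsHomogeneousElem ℳ x}
  let v : H → M := Subtype.val
  obtain ⟨I, hI, hmax⟩ := exists_maximal_linearIndepOn R v
  let P := Submodule.span R (v '' I)
  have hP : P.IsHomogeneous ℳ := by
    refine Groth.Agent.GrInj.isHomogeneous_iff.2 fun g x hx => ?_
    induction hx using Submodule.span_induction generalizing g with
    | zero => rw [map_zero]; exact zero_mem _
    | add p q _ _ hp hq => rw [map_add]; exact add_mem (hp g) (hq g)
    | mem z hz =>
      obtain ⟨⟨z', i, hi⟩, hzI, rfl⟩ := hz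
      by_cases hg : i = g
      · subst hg; rw [Groth.Agent.GrInj.proj_of_mem ℳ hi]; exact Submodule.subset_span ⟨_, hzI, rfl⟩
      · rw [Groth.Agent.GrInj.proj_of_mem_ne ℳ hi hg]; exact zero_mem _
    | smul r p _ hp =>
      induction r using DirectSum.Decomposition.inductionOn 𝒜 with
      | zero => rw [zero_smul, map_zero]; exact zero_mem _
      | add r s hr hs => rw [add_smul, map_add]; exact add_mem hr hs
      | @homogeneous k r =>
        rw [show g = k + (g - k) by abel, Groth.Agent.GrInj.proj_smul (𝒜 := 𝒜) r.2]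
        exact P.smul_mem _ (hp _)
  have hmem : ∀ x : H, (x : M) ∈ P := fun x => by
    by_cases hx : x ∈ I
    · exact Submodule.subset_span ⟨x, hx, rfl⟩
    obtain ⟨a, ha, hax⟩ := hmax x hx
    obtain ⟨i, hi⟩ := x.2
    obtain ⟨k, hk⟩ := Groth.Agent.GrInj.exists_proj_ne_zero 𝒜 ha
    have := Groth.Agent.GrInj.isHomogeneous_iff.1 hP (k + i) _ hax
    rw [Groth.Agent.GrInj.proj_smul_mem (𝒜 := 𝒜) hi, add_sub_cancel_right] at this
    obtain ⟨w, hw⟩ := hunit k _ (Groth.Agent.GrInj.proj_mem 𝒜 k a) hk
    have := P.smul_mem (↑w⁻¹ : R) this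
    rwa [← hw, smul_smul, Units.inv_mul, one_smul] at this
  have hspan : ⊤ ≤ P := fun x _ => Groth.Agent.GrInj.mem_of_proj ℳ P fun g =>
    hmem ⟨_, g, Groth.Agent.GrInj.proj_mem ℳ g x⟩
  have hI' : LinearIndependent R fun x : I => v x := hI
  refine ⟨I, Module.Basis.mk hI' (by rwa [show Set.range (fun i : I => v i) = v '' I from (Set.image_eq_range _ _).symm]), fun i => ?_⟩
  rw [Module.Basis.mk_apply]
  exact i.1.2

end Groth.Agent.S20022
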