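import Groth.Statements.S2006
import Mathlib

set_option autoImplicit false
universe u
open TensorProduct
open EtAlg

namespace Groth.Agent.S2006

/-- Let R -> R' induce bijections R/f^n R -> R'/f^n R' for all n > 0 and let M be an R-module. Then M is
finitely generated if and only if R' ⊗_R M is finitely generated over R' and M_f is finitely
generated over R_f. -/
theorem result (R R' : Type u) [CommRing R] [CommRing R'] [Algebra R R'] (f : R)
    (hq : EtGlue.QuotPowBijective R R' f) (M : Type u) [AddCommGroup M] [Module R M] :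
    Module.Finite R M ↔ Module.Finite R' (R' ⊗[R] M) ∧
      Module.Finite (Localization.Away f) (LocalizedModule (Submonoid.powers f) M) := by
  refine ⟨fun _ => ⟨inferInstance, inferInstance⟩, fun ⟨h1, h2⟩ => ?_⟩
  classical
  have hfac : ∀ z : R' ⊗[R] M, z ∈ Submodule.span R' (Set.range fun m : M => (1 : R') ⊗ₜ[R] m) := by
    intro z
    induction z using TensorProduct.induction_on with
    | zero => exact zero_mem _
    | add x y hx hy => exact add_mem hx hy
    | tmul r m =>
      rw [show r ⊗ₜ[R] m = r • ((1 : R') ⊗ₜ[R] m) by rw [TensorProduct.smul_tmul', smul_eq_mul, mul_one]]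
      exact Submodule.smul_mem _ _ (Submodule.subset_span ⟨m, rfl⟩)
  have htop : Submodule.span R' (Set.range fun m : M => (1 : R') ⊗ₜ[R] m) = ⊤ := eq_top_iff.mpr fun z _ => hfac z
  obtain ⟨s₁, hs₁', hs₁⟩ := Submodule.mem_span_finite_of_mem_span (R := R') (M := R' ⊗[R] M) (hfac 0) |> fun _ =>
    Submodule.fg_span_iff_fg_span_finset_subset (R := R') _ |>.mp (htop ▸ h1.fg_top)
  obtain ⟨t₁, ht₁⟩ := Finset.subset_set_image_iff.mp (show (s₁ : Set (R' ⊗[R] M)) ⊆ (fun m : M => (1 : R') ⊗ₜ[R] m) '' Set.univ by rwa [Set.image_univ])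
  obtain ⟨s₂, hs₂⟩ := h2.fg_top
  let T : Finset M := t₁ ∪ s₂.image fun z => (Function.surjInv (IsLocalizedModule.mk'_surjective (Submonoid.powers f) (LocalizedModule.mkLinearMap (Submonoid.powers f) M)) z).1
  let N := Submodule.span R (T : Set M)
  refine ⟨⟨T, eq_top_iff.mpr fun m _ => ?_⟩⟩
  -- torsion
  have htor : ∀ m : M, ∃ n : ℕ, f ^ n • m ∈ N := by
    intro m
    have hmem : LocalizedModule.mkLinearMap (Submonoid.powers f) M m ∈
        N.localized' (Localization.Away f) (Submonoid.powers f) (LocalizedModule.mkLinearMap (Submonoid.powers f) M) := by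
      suffices (⊤ : Submodule (Localization.Away f) (LocalizedModule (Submonoid.powers f) M)) ≤
          N.localized' (Localization.Away f) (Submonoid.powers f) (LocalizedModule.mkLinearMap (Submonoid.powers f) M) from this trivial
      rw [← hs₂, Submodule.span_le]
      intro z hz
      have hz' := Function.surjInv_eq (IsLocalizedModule.mk'_surjective (Submonoid.powers f) (LocalizedModule.mkLinearMap (Submonoid.powers f) M)) z
      exact ⟨_, Submodule.subset_span (Finset.mem_union_right _ (Finset.mem_image_of_mem _ hz)), _, hz'⟩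
    obtain ⟨n, hn, ⟨_, k, rfl⟩, hk⟩ := hmem
    rw [IsLocalizedModule.mk'_eq_iff, ← LinearMap.map_smul_of_tower] at hk
    obtain ⟨⟨_, c, rfl⟩, hc⟩ := (IsLocalizedModule.eq_iff_exists (Submonoid.powers f) _).mp hk
    refine ⟨c + k, ?_⟩
    simp only [Submonoid.smul_def] at hc
    rw [pow_add, mul_smul, ← hc]
    exact Submodule.smul_mem _ _ hn
  -- action of `R'` on the torsion quotient
  have hlift : ∀ (n : ℕ) (c : R'), ∃ r : R, algebraMap R R' r - c ∈ (Ideal.span {f ^ n}).map (algebraMap R R') := by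
    intro n c
    rcases Nat.eq_zero_or_pos n with rfl | hn
    · exact ⟨0, by simp [Ideal.span_singleton_one, Ideal.map_top]⟩
    obtain ⟨z, hz⟩ := (hq n hn).2 (Ideal.Quotient.mk _ c)
    obtain ⟨r, rfl⟩ := Ideal.Quotient.mk_surjective z
    rw [Ideal.quotientMap_mk, Ideal.Quotient.mk_eq_mk_iff_sub_mem] at hz
    exact ⟨r, hz⟩
  have hwd : ∀ (n n' : ℕ) (q : M ⧸ N) (c : R') (r r' : R), f ^ n • q = 0 → f ^ n' • q = 0 →
      algebraMap R R' r - c ∈ (Ideal.span {f ^ n}).map (algebraMap R R') →
      algebraMap R R' r' - c ∈ (Ideal.span {f ^ n'}).map (algebraMap R R') → r • q = r' • q := by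
    intro n n' q c r r' h h' hr hr'
    wlog hle : n ≤ n' generalizing n n' r r'
    · exact (this n' n r' r h' h hr' hr (le_of_lt (not_le.mp hle))).symm
    rcases Nat.eq_zero_or_pos n with rfl | hn
    · rw [pow_zero, one_smul] at h
      rw [h, smul_zero, smul_zero]
    have hsub : r - r' ∈ Ideal.span {f ^ n} := by
      rw [← Ideal.Quotient.eq_zero_iff_mem]
      apply (hq n hn).1
      rw [map_zero, Ideal.quotientMap_mk, Ideal.Quotient.eq_zero_iff_mem, map_sub, ← sub_sub_sub_cancel_right _ _ c]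
      exact sub_mem hr (Ideal.map_mono (Ideal.span_singleton_le_span_singleton.mpr (pow_dvd_pow f hle)) hr')
    obtain ⟨w, hw⟩ := Ideal.mem_span_singleton'.mp hsub
    rw [← sub_eq_zero, ← sub_smul, ← hw, mul_smul, h, smul_zero]
  have htQ : ∀ q : M ⧸ N, ∃ n : ℕ, f ^ n • q = 0 := fun q => by
    obtain ⟨x, rfl⟩ := Submodule.Quotient.mk_surjective N q
    obtain ⟨n, hn⟩ := htor x
    exact ⟨n, by rw [← Submodule.Quotient.mk_smul, Submodule.Quotient.mk_eq_zero]; exact hn⟩
  choose ord hord using htQ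
  choose lf hlf using hlift
  let act : R' → M ⧸ N → M ⧸ N := fun c q => lf (ord q) c • q
  have hact : ∀ c q n r, f ^ n • q = 0 → algebraMap R R' r - c ∈ (Ideal.span {f ^ n}).map (algebraMap R R') → act c q = r • q :=
    fun c q n r h hr => hwd _ _ q c _ _ (hord q) h (hlf _ _) hr
  let β : R' →ₗ[R] M ⧸ N →ₗ[R] M ⧸ N := LinearMap.mk₂ R act
    (fun c c' q => by
      rw [hact (c + c') q _ (lf (ord q) c + lf (ord q) c') (hord q) (by
        rw [map_add, add_sub_add_comm]; exact add_mem (hlf _ _) (hlf _ _)), add_smul])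
    (fun a c q => by
      rw [hact (a • c) q _ (a * lf (ord q) c) (hord q) (by
        rw [map_mul, Algebra.smul_def, ← mul_sub]; exact Ideal.mul_mem_left _ _ (hlf _ _)), mul_smul])
    (fun c q q' => by
      have h1 : f ^ (ord q + ord q') • q = 0 := by rw [add_comm, pow_add, mul_smul, hord, smul_zero]
      have h2 : f ^ (ord q + ord q') • q' = 0 := by rw [pow_add, mul_smul, hord, smul_zero]
      rw [hact c q _ _ h1 (hlf _ _), hact c q' _ _ h2 (hlf _ _),
        hact c (q + q') _ _ (by rw [smul_add, h1, h2, add_zero]) (hlf (ord q + ord q') c), smul_add])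
    (fun a c q => by
      rw [hact c (a • q) _ _ (by rw [smul_comm, hord, smul_zero]) (hlf (ord q) c), smul_comm])
  let G : R' ⊗[R] (M ⧸ N) →ₗ[R] M ⧸ N := TensorProduct.lift β
  have hG : ∀ q, G ((1 : R') ⊗ₜ[R] q) = q := fun q => by
    show act 1 q = q
    rw [hact 1 q _ 1 (hord q) (by rw [map_one, sub_self]; exact zero_mem _), one_smul]
  have hzero : ∀ z : R' ⊗[R] M, TensorProduct.AlgebraTensorModule.lTensor R' R' N.mkQ z = 0 := by
    intro z
    have hz : z ∈ Submodule.span R' (s₁ : Set (R' ⊗[R] M)) := by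
      rw [← hs₁, htop]; trivial
    rw [← ht₁.2, Finset.coe_image] at hz
    suffices Submodule.span R' ((fun m : M => (1 : R') ⊗ₜ[R] m) '' (t₁ : Set M)) ≤
      LinearMap.ker (TensorProduct.AlgebraTensorModule.lTensor R' R' N.mkQ) from this hz
    rw [Submodule.span_le]
    rintro _ ⟨x, hx, rfl⟩
    show (1 : R') ⊗ₜ[R] N.mkQ x = 0
    rw [show N.mkQ x = 0 from (Submodule.Quotient.mk_eq_zero N).mpr (Submodule.subset_span (Finset.mem_union_left _ hx)), TensorProduct.tmul_zero]
  rw [← Submodule.Quotient.mk_eq_zero (p := N), ← hG (Submodule.Quotient.mk m)]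
  have := hzero ((1 : R') ⊗ₜ[R] m)
  rw [TensorProduct.AlgebraTensorModule.lTensor_tmul, Submodule.mkQ_apply] at this
  rw [this, map_zero]

end Groth.Agent.S2006
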