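import Groth.Statements.S2007
import Mathlib
import Groth.Agent.FlatGlue.Torsion

set_option autoImplicit false
universe u
open TensorProduct
open EtAlg

namespace Groth.Agent.S2007

/-- Let R -> S be a flat ring map and I a finitely generated ideal of R such that R/I -> S/IS is
bijective. Let N be an R-module, M' an S-module and φ : M' -> S ⊗_R N an S-linear map whose kernel
and cokernel are I-power torsion (every element of the kernel, resp. of the target modulo the image,
is killed by some power of I). Then there are an R-module M, an R-linear map ψ : M -> N and an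
S-isomorphism S ⊗_R M ≅ M' identifying φ with the base change of ψ. -/
theorem result (R S : Type u) [CommRing R] [CommRing S] [Algebra R S] [Module.Flat R S] (I : Ideal R)
    (hI : I.FG) (hq : Function.Bijective (Ideal.quotientMap (I.map (algebraMap R S)) (algebraMap R S) Ideal.le_comap_map))
    (N : Type u) [AddCommGroup N] [Module R N] (M' : Type u) [AddCommGroup M'] [Module S M'] (φ : M' →ₗ[S] S ⊗[R] N)
    (hker : ∀ x : M', φ x = 0 → ∃ n : ℕ, ∀ a ∈ I ^ n, algebraMap R S a • x = 0)
    (hcoker : ∀ y : S ⊗[R] N, ∃ n : ℕ, ∀ a ∈ I ^ n, algebraMap R S a • y ∈ LinearMap.range φ) :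
    ∃ (M : Type u) (_ : AddCommGroup M) (_ : Module R M) (ψ : M →ₗ[R] N) (e : S ⊗[R] M ≃ₗ[S] M'),
      φ ∘ₗ e.toLinearMap = ψ.baseChange S := by
  letI : Module R M' := Module.compHom M' (algebraMap R S)
  haveI : IsScalarTower R S M' := IsScalarTower.of_algebraMap_smul fun _ _ => rfl
  have htor : ∀ (a : R) (x : M'), algebraMap R S a • x = a • x := fun _ _ => rfl
  -- the cokernel and the elements of N landing in the image
  let Q := (S ⊗[R] N) ⧸ LinearMap.range φ
  have hQt : ∀ q : Q, ∃ n : ℕ, ∀ a ∈ I ^ n, a • q = 0 := fun q => by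
    obtain ⟨y, rfl⟩ := Submodule.Quotient.mk_surjective _ q
    obtain ⟨n, hn⟩ := hcoker y
    refine ⟨n, fun a ha => ?_⟩
    rw [← Submodule.Quotient.mk_smul, Submodule.Quotient.mk_eq_zero, ← algebraMap_smul S a y]
    exact hn a ha
  have hQb := FlatGlue.bijective_mk hq Q hQt
  let π : N →ₗ[R] Q := ((LinearMap.range φ).mkQ.restrictScalars R) ∘ₗ TensorProduct.mk R S N 1
  let M : Submodule R (M' × N) :=
    LinearMap.eqLocus ((φ.restrictScalars R) ∘ₗ LinearMap.fst R M' N) (TensorProduct.mk R S N 1 ∘ₗ LinearMap.snd R M' N)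
  let ψ : M →ₗ[R] N := LinearMap.snd R M' N ∘ₗ M.subtype
  let g : S ⊗[R] M →ₗ[S] M' := LinearMap.liftBaseChange S (LinearMap.fst R M' N ∘ₗ M.subtype)
  have hcomm : φ ∘ₗ g = ψ.baseChange S := by
    refine LinearMap.ext fun z => ?_
    induction z using TensorProduct.induction_on with
    | zero => simp
    | tmul s m =>
      show φ (s • (m : M' × N).1) = s ⊗ₜ[R] (m : M' × N).2
      rw [map_smul, show φ (m : M' × N).1 = (1 : S) ⊗ₜ[R] (m : M' × N).2 from m.2,
        TensorProduct.smul_tmul', smul_eq_mul, mul_one]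
    | add a b ha hb => simp only [map_add, ha, hb]
  -- kernel of ψ
  have hk0 : ∀ k : LinearMap.ker ψ, φ (k.1 : M' × N).1 = 0 := fun k => by
    rw [show φ (k.1 : M' × N).1 = (1 : S) ⊗ₜ[R] (k.1 : M' × N).2 from k.1.2,
      show (k.1 : M' × N).2 = 0 from LinearMap.mem_ker.mp k.2, TensorProduct.tmul_zero]
  letI : AddCommGroup M := Submodule.addCommGroup M
  letI : AddCommGroup ↥(LinearMap.ker ψ) := Submodule.addCommGroup (LinearMap.ker ψ)
  have hKb := FlatGlue.bijective_mk hq (LinearMap.ker ψ) fun k => by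
    obtain ⟨n, hn⟩ := hker _ (hk0 k)
    refine ⟨n, fun a ha => Subtype.ext (Subtype.ext (Prod.ext ?_ ?_))⟩
    · exact hn a ha
    · show a • (k.1 : M' × N).2 = 0
      rw [show (k.1 : M' × N).2 = 0 from LinearMap.mem_ker.mp k.2, smul_zero]
  have hinj : Function.Injective g := by
    rw [injective_iff_map_eq_zero]
    intro z hz
    have h0 : ψ.lTensor S z = 0 := by
      rw [← LinearMap.baseChange_eq_ltensor (A := S), ← hcomm, LinearMap.comp_apply, hz, map_zero]
    obtain ⟨w, rfl⟩ := (Module.Flat.lTensor_exact S (LinearMap.exact_subtype_ker_map ψ) z).mp h0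
    obtain ⟨k, rfl⟩ := hKb.2 w
    have hk : (k.1 : M' × N).1 = 0 := by simpa [g] using hz
    have : k = 0 := Subtype.ext (Subtype.ext (Prod.ext hk (LinearMap.mem_ker.mp k.2)))
    simp [this]
  have hsurj : Function.Surjective g := by
    intro x
    -- φ x comes from elements of N landing in the image
    have h1 : π.lTensor S (φ x) = 0 := by
      apply FlatGlue.injective_liftBaseChange S hQb.2
      rw [map_zero]
      have h2 : ∀ y, LinearMap.liftBaseChange S (LinearMap.id (R := R) (M := Q)) (π.lTensor S y) =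
          (LinearMap.range φ).mkQ y := by
        intro y
        induction y using TensorProduct.induction_on with
        | zero => simp
        | tmul s n =>
          rw [LinearMap.lTensor_tmul, LinearMap.liftBaseChange_tmul, LinearMap.id_apply]
          show s • (LinearMap.range φ).mkQ ((1 : S) ⊗ₜ[R] n) = _
          rw [← map_smul, TensorProduct.smul_tmul', smul_eq_mul, mul_one]
        | add a b ha hb => simp only [map_add, ha, hb]
      rw [h2, Submodule.mkQ_apply, Submodule.Quotient.mk_eq_zero]
      exact ⟨x, rfl⟩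
    obtain ⟨w, hw⟩ := (Module.Flat.lTensor_exact S (LinearMap.exact_subtype_ker_map π) (φ x)).mp h1
    have h3 : ∀ w, ∃ z, φ (g z) = (LinearMap.ker π).subtype.lTensor S w := by
      intro w
      induction w using TensorProduct.induction_on with
      | zero => exact ⟨0, by simp⟩
      | tmul s n =>
        obtain ⟨x', hx'⟩ := (Submodule.Quotient.mk_eq_zero _).mp (LinearMap.mem_ker.mp n.2)
        refine ⟨s ⊗ₜ[R] ⟨(x', n.1), hx'⟩, ?_⟩
        rw [← LinearMap.comp_apply, hcomm, LinearMap.baseChange_tmul, LinearMap.lTensor_tmul]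
        rfl
      | add a b ha hb =>
        obtain ⟨z, hz⟩ := ha
        obtain ⟨z', hz'⟩ := hb
        exact ⟨z + z', by simp only [map_add, hz, hz']⟩
    obtain ⟨z, hz⟩ := h3 w
    have h4 : φ (x - g z) = 0 := by rw [map_sub, hz, hw, sub_self]
    refine ⟨z + (1 : S) ⊗ₜ[R] ⟨(x - g z, 0), show φ (x - g z) = (1 : S) ⊗ₜ[R] (0 : N) by rw [h4, TensorProduct.tmul_zero]⟩, ?_⟩
    rw [map_add, LinearMap.liftBaseChange_tmul, one_smul]
    simp
  exact ⟨M, inferInstance, inferInstance, ψ, LinearEquiv.ofBijective g ⟨hinj, hsurj⟩, hcomm⟩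

end Groth.Agent.S2007
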