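import Groth.Statements.S2008
import Mathlib

set_option autoImplicit false
universe u
open TensorProduct
open EtAlg

namespace Groth.Agent.S2008

/-- For a ring map R -> S and an ideal I of R the following are equivalent: (1) S is flat over R and
S/IS is faithfully flat over R/I; (2) S is flat over R and Spec(S/IS) -> Spec(R/I) is surjective;
(3) S is flat over R and S ⊗_R M is nonzero for every nonzero R-module M killed by I; (4) S is flat
over R and S ⊗_R M is nonzero for every nonzero I-power torsion R-module M. (Faithfulness of base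
change on these subcategories is stated as detection of nonzero objects, which is equivalent for an
exact functor.) -/
theorem result (R S : Type u) [CommRing R] [CommRing S] [Algebra R S] (I : Ideal R) :
    List.TFAE [
      Module.Flat R S ∧ Module.FaithfullyFlat (R ⧸ I) (S ⧸ I.map (algebraMap R S)),
      Module.Flat R S ∧ Function.Surjective (PrimeSpectrum.comap (Ideal.quotientMap (I.map (algebraMap R S)) (algebraMap R S) Ideal.le_comap_map)),
      Module.Flat R S ∧ ∀ (M : Type u) [AddCommGroup M] [Module R M], (∀ (a : R) (m : M), a ∈ I → a • m = 0) →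
        Nontrivial M → Nontrivial (S ⊗[R] M),
      Module.Flat R S ∧ ∀ (M : Type u) [AddCommGroup M] [Module R M], (∀ m : M, ∃ n : ℕ, ∀ a ∈ I ^ n, a • m = 0) →
        Nontrivial M → Nontrivial (S ⊗[R] M)] := by
  have hflatq : Module.Flat R S → Module.Flat (R ⧸ I) (S ⧸ I.map (algebraMap R S)) := fun _ => by
    let e : (R ⧸ I) ⊗[R] S ≃ₗ[R] S ⧸ I.map (algebraMap R S) :=
      TensorProduct.quotTensorEquivQuotSMul S I ≪≫ₗ Submodule.quotEquivOfEq _ _ (Ideal.smul_top_eq_map I) ≪≫ₗ
        Submodule.Quotient.restrictScalarsEquiv R _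
    exact Module.Flat.of_linearEquiv (e.extendScalarsOfSurjective Ideal.Quotient.mk_surjective).symm
  tfae_have 1 → 2 := fun ⟨h, hff⟩ => ⟨h, PrimeSpectrum.comap_surjective_of_faithfullyFlat (A := R ⧸ I) (B := S ⧸ I.map (algebraMap R S))⟩
  tfae_have 2 → 1 := fun ⟨h, hs⟩ => by
    haveI := hflatq h
    exact ⟨h, Module.FaithfullyFlat.of_comap_surjective hs⟩
  tfae_have 3 → 4 := fun ⟨h, h3⟩ => ⟨h, fun M _ _ hM hne => by
    haveI := h
    obtain ⟨m, hm⟩ := exists_ne (0 : M)
    obtain ⟨n, hn⟩ := hM m
    have key : ∀ (n : ℕ) (m : M), m ≠ 0 → (∀ a ∈ I ^ n, a • m = 0) → ∃ m' : M, m' ≠ 0 ∧ ∀ a ∈ I, a • m' = 0 := by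
      intro n
      induction n with
      | zero => intro m hm h; exact absurd (by simpa using h 1 (by simp)) hm
      | succ n ih =>
        intro m hm h
        by_cases hc : ∀ a ∈ I, a • m = 0
        · exact ⟨m, hm, hc⟩
        · push Not at hc
          obtain ⟨a, ha, ham⟩ := hc
          exact ih _ ham fun b hb => by rw [smul_smul]; exact h _ (by rw [pow_succ]; exact Ideal.mul_mem_mul hb ha)
    obtain ⟨m', hm', hIm⟩ := key n m hm hn
    let N := Submodule.span R {m'}
    haveI : Nontrivial N := nontrivial_of_ne (⟨m', Submodule.mem_span_singleton_self m'⟩ : N) 0 fun h => hm' (congrArg Subtype.val h)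
    haveI := h3 N (fun a x ha => Subtype.ext (by
      obtain ⟨r, hr⟩ := Submodule.mem_span_singleton.mp x.2
      show a • (x : M) = 0
      rw [← hr, smul_comm, hIm a ha, smul_zero])) inferInstance
    exact (Module.Flat.lTensor_preserves_injective_linearMap (M := S) N.subtype N.subtype_injective).nontrivial⟩
  tfae_have 4 → 2 := fun ⟨h, h4⟩ => ⟨h, fun q => by
    let p : PrimeSpectrum R := PrimeSpectrum.comap (Ideal.Quotient.mk I) q
    have hp : I ≤ p.asIdeal := fun x hx => by
      show Ideal.Quotient.mk I x ∈ q.asIdeal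
      rw [Ideal.Quotient.eq_zero_iff_mem.mpr hx]; exact zero_mem _
    haveI := h4 p.asIdeal.ResidueField (fun m => ⟨1, fun a ha => by
      rw [pow_one] at ha
      rw [Algebra.smul_def, Ideal.algebraMap_residueField_eq_zero.mpr (hp ha), zero_mul]⟩) inferInstance
    haveI : Nontrivial (p.asIdeal.ResidueField ⊗[R] S) := (TensorProduct.comm R p.asIdeal.ResidueField S).toEquiv.nontrivial
    obtain ⟨P, hP⟩ := (PrimeSpectrum.nontrivial_iff_mem_rangeComap p).mp this
    have hIP : I.map (algebraMap R S) ≤ P.asIdeal := Ideal.map_le_iff_le_comap.mpr (by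
      rw [← PrimeSpectrum.comap_asIdeal, hP]; exact hp)
    haveI : (P.asIdeal.map (Ideal.Quotient.mk (I.map (algebraMap R S)))).IsPrime :=
      Ideal.map_isPrime_of_surjective Ideal.Quotient.mk_surjective (by rwa [Ideal.mk_ker])
    refine ⟨⟨P.asIdeal.map (Ideal.Quotient.mk _), inferInstance⟩, PrimeSpectrum.comap_injective_of_surjective _ Ideal.Quotient.mk_surjective ?_⟩
    refine Eq.trans ?_ hP
    apply PrimeSpectrum.ext
    simp only [PrimeSpectrum.comap_asIdeal, Ideal.comap_comap, Ideal.quotientMap_comp_mk]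
    rw [← Ideal.comap_comap, Ideal.comap_map_of_surjective _ Ideal.Quotient.mk_surjective, ← RingHom.ker_eq_comap_bot, Ideal.mk_ker, sup_eq_left.mpr hIP]⟩
  tfae_have 2 → 3 := fun ⟨h, hs⟩ => ⟨h, fun M _ _ hM hne => by
    haveI := h
    obtain ⟨m, hm⟩ := exists_ne (0 : M)
    set J := LinearMap.ker (LinearMap.toSpanSingleton R M m)
    have hJ : J ≠ ⊤ := fun h => hm (by simpa [J] using LinearMap.congr_fun (LinearMap.ker_eq_top.mp h) 1)
    have hIJ : I ≤ J := fun a ha => hM a m ha
    obtain ⟨P, hP, hJP⟩ := Ideal.exists_le_maximal (J : Ideal R) hJ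
    haveI : (P.map (Ideal.Quotient.mk I)).IsPrime :=
      Ideal.map_isPrime_of_surjective Ideal.Quotient.mk_surjective (by rw [Ideal.mk_ker]; exact hIJ.trans hJP)
    obtain ⟨Q, hQ⟩ := hs ⟨P.map (Ideal.Quotient.mk I), inferInstance⟩
    let g : R ⧸ J →ₗ[R] M := Submodule.liftQ J (LinearMap.toSpanSingleton R M m) le_rfl
    have hg : Function.Injective g := by
      rw [← LinearMap.ker_eq_bot]; exact Submodule.ker_liftQ_eq_bot _ _ _ le_rfl
    haveI : Nontrivial (S ⧸ (J • ⊤ : Submodule R S)) := Submodule.Quotient.nontrivial_iff.mpr fun htop => by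
      let Q' := Q.asIdeal.comap (Ideal.Quotient.mk (I.map (algebraMap R S)))
      have h1 : Ideal.map (algebraMap R S) J ≤ Q' := by
        refine Ideal.map_le_iff_le_comap.mpr fun x hx => ?_
        have : Ideal.Quotient.mk I x ∈ P.map (Ideal.Quotient.mk I) := Ideal.mem_map_of_mem _ (hJP hx)
        have hQ' := congrArg PrimeSpectrum.asIdeal hQ
        rw [PrimeSpectrum.comap_asIdeal] at hQ'
        simp only at hQ'
        rw [← hQ'] at this
        exact this
      rw [Ideal.smul_top_eq_map, Submodule.restrictScalars_eq_top_iff] at htop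
      rw [htop, top_le_iff] at h1
      exact (Q.isPrime.comap _).ne_top h1
    haveI : Nontrivial (S ⊗[R] (R ⧸ J)) := (TensorProduct.tensorQuotEquivQuotSMul S J).toEquiv.nontrivial
    exact (Module.Flat.lTensor_preserves_injective_linearMap (M := S) g hg).nontrivial⟩
  tfae_finish

end Groth.Agent.S2008
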