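import Groth.Statements.S2010
import Mathlib
import Groth.Agent.FlatGlue.Cech

set_option autoImplicit false
universe u
open TensorProduct
open EtAlg

namespace Groth.Agent.S2010

/-- Let R -> S be flat and I a finitely generated ideal with R/I -> S/IS bijective; let N be an R-module
and M an I-power torsion R-module. For every short exact sequence 0 -> S ⊗_R N -> E' -> S ⊗_R M -> 0
of S-modules there are a short exact sequence 0 -> N -> E -> M -> 0 of R-modules and an R-linear map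
E -> E' making the two squares with the maps n ↦ 1 ⊗ n and m ↦ 1 ⊗ m commute. -/
theorem result (R S : Type u) [CommRing R] [CommRing S] [Algebra R S] [Module.Flat R S] (I : Ideal R)
    (hI : I.FG) (hq : Function.Bijective (Ideal.quotientMap (I.map (algebraMap R S)) (algebraMap R S) Ideal.le_comap_map))
    (N M : Type u) [AddCommGroup N] [Module R N] [AddCommGroup M] [Module R M]
    (hM : ∀ m : M, ∃ n : ℕ, ∀ a ∈ I ^ n, a • m = 0)
    (E' : Type u) [AddCommGroup E'] [Module S E'] [Module R E'] [IsScalarTower R S E'] (i' : S ⊗[R] N →ₗ[S] E') (p' : E' →ₗ[S] S ⊗[R] M)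
    (hi' : Function.Injective i') (hp' : Function.Surjective p') (hex' : LinearMap.range i' = LinearMap.ker p') :
    ∃ (E : Type u) (_ : AddCommGroup E) (_ : Module R E) (i : N →ₗ[R] E) (p : E →ₗ[R] M) (g : E →ₗ[R] E'),
      Function.Injective i ∧ Function.Surjective p ∧ LinearMap.range i = LinearMap.ker p ∧
      (∀ n : N, g (i n) = i' ((1 : S) ⊗ₜ[R] n)) ∧ (∀ e : E, p' (g e) = (1 : S) ⊗ₜ[R] p e) := by
  classical
  obtain ⟨T, hT⟩ := hI
  let f : Fin T.toList.length → R := fun i => T.toList[i]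
  have hf : Ideal.span (Set.range f) = I := by
    rw [← hT]
    refine congrArg Ideal.span (Set.ext fun x => ⟨?_, fun hx => ?_⟩)
    · rintro ⟨i, rfl⟩
      exact Finset.mem_toList.mp (List.getElem_mem _)
    · obtain ⟨i, hi, rfl⟩ := List.getElem_of_mem (Finset.mem_toList.mpr hx)
      exact ⟨⟨i, hi⟩, rfl⟩
  have hfI : ∀ i, f i ∈ I := fun i => hf ▸ Ideal.subset_span ⟨i, rfl⟩
  let ι' : S ⊗[R] N →ₗ[R] E' := i'.restrictScalars R
  have hpow : ∀ (e : E') (r : R), r ∈ I → ∃ (k : ℕ) (z : S ⊗[R] N), ι' z = r ^ k • e := by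
    intro e r hr
    obtain ⟨m, hm⟩ := (FlatGlue.bijective_mk hq M hM).2 (p' e)
    obtain ⟨k, hk⟩ := hM m
    have h0 : p' (r ^ k • e) = 0 := by
      rw [p'.map_smul_of_tower, ← hm, ← map_smul, hk _ (Ideal.pow_mem_pow hr k), map_zero]
    obtain ⟨z, hz⟩ := (hex' ▸ LinearMap.mem_ker.mpr h0 : r ^ k • e ∈ LinearMap.range i')
    exact ⟨k, z, hz⟩
  -- the maps `E' → S ⊗ N_{f_i}` extending the localization maps
  have hloc : ∀ i, IsLocalizedModule (Submonoid.powers (f i))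
      (LocalizedModule.mkLinearMap (Submonoid.powers (f i)) E' ∘ₗ ι') := fun i => by
    let g := LocalizedModule.mkLinearMap (Submonoid.powers (f i)) E'
    refine ⟨fun s => IsLocalizedModule.map_units g s, fun y => ?_, fun {a b} h => ?_⟩
    · obtain ⟨⟨e, s⟩, hs⟩ := IsLocalizedModule.surj (Submonoid.powers (f i)) g y
      obtain ⟨k, z, hz⟩ := hpow e (f i) (hfI i)
      refine ⟨(z, ⟨f i ^ k, k, rfl⟩ * s), ?_⟩
      show (⟨f i ^ k, k, rfl⟩ * s : Submonoid.powers (f i)) • y = g (ι' z)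
      rw [mul_smul, hs, hz, Submonoid.smul_def, map_smul]
    · obtain ⟨c, hc⟩ := (IsLocalizedModule.eq_iff_exists (Submonoid.powers (f i)) g).mp h
      exact ⟨c, hi' (by simpa [Submonoid.smul_def, ι', map_smul] using hc)⟩
  let χ : ∀ i, E' →ₗ[R] S ⊗[R] FlatGlue.Lf f N i := fun i =>
    (haveI := hloc i
     IsLocalizedModule.linearEquiv (Submonoid.powers (f i))
      (LocalizedModule.mkLinearMap (Submonoid.powers (f i)) E' ∘ₗ ι') (FlatGlue.ell S f N i)).toLinearMap ∘ₗ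
    LocalizedModule.mkLinearMap (Submonoid.powers (f i)) E'
  have hχ : ∀ i z, χ i (ι' z) = FlatGlue.ell S f N i z := fun i z => by
    haveI := hloc i
    exact IsLocalizedModule.linearEquiv_apply (Submonoid.powers (f i))
      (LocalizedModule.mkLinearMap (Submonoid.powers (f i)) E' ∘ₗ ι') (FlatGlue.ell S f N i) z
  have hcomp : ∀ (e : E') (p : Fin T.toList.length × Fin T.toList.length),
      (FlatGlue.resL f N p).lTensor S (χ p.1 e) = (FlatGlue.resR f N p).lTensor S (χ p.2 e) := by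
    intro e p
    obtain ⟨k, z, hz⟩ := hpow e (f p.1) (hfI p.1)
    have hu := FlatGlue.isUnit_of_dvd (S ⊗[R] N) (a := f p.1 * f p.2) (dvd_mul_right _ _) _
      ((FlatGlue.mk₂ f N p).lTensor S) (⟨f p.1 ^ k, k, rfl⟩ : Submonoid.powers (f p.1))
    apply ((Module.End.isUnit_iff _).mp hu).1
    simp only [Module.algebraMap_end_apply]
    rw [← map_smul ((FlatGlue.resL f N p).lTensor S), ← map_smul (χ p.1), ← map_smul ((FlatGlue.resR f N p).lTensor S), ← map_smul (χ p.2), ← hz, hχ, hχ,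
      ← LinearMap.lTensor_comp_apply, ← LinearMap.lTensor_comp_apply]
    congr 2
    exact LinearMap.ext fun m => (FlatGlue.resL_mk f N p m).trans (FlatGlue.resR_mk f N p m).symm
  let Φe : E' × (Π i, FlatGlue.Lf f N i) × M →ₗ[R] E' := LinearMap.fst R _ _
  let Φc : E' × (Π i, FlatGlue.Lf f N i) × M →ₗ[R] (Π i, FlatGlue.Lf f N i) :=
    LinearMap.fst R _ _ ∘ₗ LinearMap.snd R _ _
  let Φm : E' × (Π i, FlatGlue.Lf f N i) × M →ₗ[R] M := LinearMap.snd R _ _ ∘ₗ LinearMap.snd R _ _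
  let E : Submodule R (E' × (Π i, FlatGlue.Lf f N i) × M) :=
    LinearMap.ker (FlatGlue.d₁ f N ∘ₗ Φc) ⊓ LinearMap.eqLocus (p'.restrictScalars R ∘ₗ Φe) (TensorProduct.mk R S M 1 ∘ₗ Φm) ⊓
      ⨅ i, LinearMap.eqLocus (χ i ∘ₗ Φe) (TensorProduct.mk R S (FlatGlue.Lf f N i) 1 ∘ₗ LinearMap.proj i ∘ₗ Φc)
  have hmem : ∀ x, x ∈ E ↔ (FlatGlue.d₁ f N x.2.1 = 0 ∧ p' x.1 = (1 : S) ⊗ₜ[R] x.2.2) ∧
      ∀ i, χ i x.1 = (1 : S) ⊗ₜ[R] x.2.1 i := fun x => by
    simp [E, Φe, Φc, Φm]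
  have hpi : ∀ z, p' (ι' z) = 0 := fun z =>
    LinearMap.mem_ker.mp (hex' ▸ LinearMap.mem_range_self i' z : ι' z ∈ LinearMap.ker p')
  have hι : ∀ n : N, (ι' ((1 : S) ⊗ₜ[R] n), FlatGlue.d₀ f N n, (0 : M)) ∈ E := fun n =>
    (hmem _).mpr ⟨⟨FlatGlue.d₁_d₀ f N n, by rw [hpi, TensorProduct.tmul_zero]⟩, fun i => hχ i _⟩
  let iN : N →ₗ[R] E := LinearMap.codRestrict E
    (LinearMap.prod (ι' ∘ₗ TensorProduct.mk R S N 1) (LinearMap.prod (FlatGlue.d₀ f N) 0)) hι
  refine ⟨E, inferInstance, inferInstance, iN, Φm ∘ₗ E.subtype, Φe ∘ₗ E.subtype, ?_, ?_, ?_,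
    fun n => rfl, fun e => ((hmem _).mp e.2).1.2⟩
  · rw [injective_iff_map_eq_zero]
    intro n hn
    have h0 := congrArg Subtype.val hn
    exact FlatGlue.eq_zero f hf hq (hi' (by rw [map_zero]; exact congrArg Prod.fst h0))
      (congrArg (fun v => v.2.1) h0)
  · intro m
    obtain ⟨e, he⟩ := hp' ((1 : S) ⊗ₜ[R] m)
    obtain ⟨z, c, hc, hzc⟩ := FlatGlue.exists_decomp f hf hq (fun i => χ i e) (hcomp e)
    refine ⟨⟨(e - ι' z, c, m), (hmem _).mpr ⟨⟨hc, ?_⟩, fun i => ?_⟩⟩, rfl⟩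
    · rw [map_sub, hpi, sub_zero, he]
    · rw [map_sub, hχ, hzc i, add_sub_cancel_left]
  · refine le_antisymm (LinearMap.range_le_ker_iff.mpr (LinearMap.ext fun n => rfl)) fun x hx => ?_
    obtain ⟨⟨e, c, m⟩, hx'⟩ := x
    obtain rfl : m = 0 := hx
    obtain ⟨⟨h1, h2⟩, h3⟩ := (hmem _).mp hx'
    rw [TensorProduct.tmul_zero] at h2
    obtain ⟨z, rfl⟩ := (hex' ▸ LinearMap.mem_ker.mpr h2 : e ∈ LinearMap.range i')
    obtain ⟨μ, hμ, hμ'⟩ := FlatGlue.exists_eq f hf hq z c h1 fun i => (hχ i z).symm.trans (h3 i)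
    exact ⟨μ, Subtype.ext (Prod.ext (congrArg i' hμ) (Prod.ext hμ' rfl))⟩

end Groth.Agent.S2010
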