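import Groth.Statements.S2011
import Mathlib
import Groth.Agent.NoethPts.Basic
import Groth.Agent.NoethPts.Jacobson

set_option autoImplicit false
universe u
open EtAlg

namespace Groth.Agent.S2011

/-- Let A be a Noetherian ring and I an ideal contained in the Jacobson radical of A (a Zariski pair).
Then for every f in I the localization A_f is a Jacobson ring. -/
theorem result (A : Type u) [CommRing A] [IsNoetherianRing A] (I : Ideal A)
    (hI : I ≤ (⊥ : Ideal A).jacobson) (f : A) (hf : f ∈ I) : IsJacobsonRing (Localization.Away f) := by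
  by_contra hJ
  obtain ⟨P, g, hPmax, hgP, hiso⟩ := Groth.Agent.NoethPts.exists_prime_of_not_isJacobsonRing hJ
  obtain ⟨a, s, rfl⟩ := IsLocalization.exists_mk'_eq (Submonoid.powers f) g
  set p := P.asIdeal.comap (algebraMap A (Localization.Away f)) with hp
  have hfp : f ∉ p := fun h => P.isPrime.ne_top (Ideal.eq_top_of_isUnit_mem _ h (IsLocalization.Away.algebraMap_isUnit f))
  have hap : a ∉ p := fun h => hgP (by
    rw [IsLocalization.mk'_eq_mul_mk'_one]; exact Ideal.mul_mem_right _ _ h)
  obtain ⟨M, hM, hPM⟩ := P.asIdeal.exists_le_maximal P.isPrime.ne_top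
  let q := M.comap (algebraMap A (Localization.Away f))
  haveI : q.IsPrime := hM.isPrime.comap _
  haveI : p.IsPrime := P.isPrime.comap _
  have hfq : f ∉ q := fun h => hM.ne_top (Ideal.eq_top_of_isUnit_mem _ h (IsLocalization.Away.algebraMap_isUnit f))
  have hpq : p ≤ q := Ideal.comap_mono hPM
  let π := Ideal.Quotient.mk p
  have hmax := (Groth.Agent.NoethPts.isMaximal_and_finite_of_isolated (B := A ⧸ p) (f := π (f * a))
    (fun h => (Ideal.IsPrime.mem_or_mem ‹p.IsPrime› (Ideal.Quotient.eq_zero_iff_mem.mp h)).elim hfp hap) (fun Q hQ hQf => by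
      let r := Q.comap π
      haveI : r.IsPrime := hQ.comap _
      have hfr : f ∉ r ∧ a ∉ r := ⟨fun h => hQf (by rw [map_mul]; exact Ideal.mul_mem_right _ _ h),
        fun h => hQf (by rw [map_mul]; exact Ideal.mul_mem_left _ _ h)⟩
      have hd : Disjoint ((Submonoid.powers f : Submonoid A) : Set A) r := by
        rw [Set.disjoint_left]
        rintro _ ⟨n, rfl⟩ hx
        exact hfr.1 (Ideal.IsPrime.mem_of_pow_mem ‹r.IsPrime› n hx)
      have hR : (r.map (algebraMap A (Localization.Away f))).IsPrime :=
        IsLocalization.isPrime_of_isPrime_disjoint (Submonoid.powers f) _ r ‹_› hd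
      have hcm : (r.map (algebraMap A (Localization.Away f))).comap (algebraMap A (Localization.Away f)) = r :=
        IsLocalization.comap_map_of_isPrime_disjoint (Submonoid.powers f) _ ‹_› hd
      have hge : P ≤ ⟨_, hR⟩ := by
        show P.asIdeal ≤ r.map (algebraMap A (Localization.Away f))
        rw [← IsLocalization.map_comap (Submonoid.powers f) _ P.asIdeal]
        refine Ideal.map_mono fun x hx => ?_
        show π x ∈ Q
        rw [Ideal.Quotient.eq_zero_iff_mem.mpr hx]; exact zero_mem _
      have heq := hiso ⟨_, hR⟩ hge (fun h => hfr.2 (by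
        rw [← hcm, Ideal.mem_comap, ← IsLocalization.mk'_spec (Localization.Away f) a s]
        exact Ideal.mul_mem_right _ _ h))
      have hrp : r = p := by rw [← hcm]; exact congrArg (fun R => Ideal.comap (algebraMap A (Localization.Away f)) R.asIdeal) heq
      refine le_bot_iff.mp fun x hx => ?_
      obtain ⟨x, rfl⟩ := Ideal.Quotient.mk_surjective x
      exact Ideal.Quotient.eq_zero_iff_mem.mpr (hrp ▸ hx))).1
  by_cases hqp : q ≤ p
  · refine hPmax ?_
    have : P.asIdeal = M := by
      rw [← IsLocalization.map_comap (Submonoid.powers f) _ P.asIdeal, ← IsLocalization.map_comap (Submonoid.powers f) _ M]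
      exact congrArg _ (le_antisymm hpq hqp)
    rwa [this]
  · haveI : (q.map π).IsPrime := Ideal.map_isPrime_of_surjective Ideal.Quotient.mk_surjective (by rwa [Ideal.mk_ker])
    have hm : (q.map π).IsMaximal := hmax _ inferInstance fun h => hqp (by
      intro x hx
      rw [← Ideal.Quotient.eq_zero_iff_mem, ← Ideal.mem_bot, ← h]
      exact Ideal.mem_map_of_mem _ hx)
    have hq : q.IsMaximal := by
      have := Ideal.comap_isMaximal_of_surjective π Ideal.Quotient.mk_surjective (K := q.map π)
      rwa [Ideal.comap_map_of_surjective _ Ideal.Quotient.mk_surjective, ← RingHom.ker_eq_comap_bot, Ideal.mk_ker, sup_eq_left.mpr hpq] at this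
    exact hfq (Ideal.jacobson_bot (R := A) ▸ hI hf |> fun h => (Ideal.mem_sInf.mp (hI hf)) ⟨bot_le, hq⟩)

end Groth.Agent.S2011
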