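import Groth.Statements.S2012
import Mathlib

set_option autoImplicit false
universe u
open EtAlg

namespace Groth.Agent.S2012

/-- Let A be a ring and I an ideal contained in its Jacobson radical. Let B be an A-algebra which is
flat, integral and of finite presentation over A and such that A/I -> B/IB is bijective. Then A -> B
is bijective. -/
theorem result (A B : Type u) [CommRing A] [CommRing B] [Algebra A B]
    (I : Ideal A) (hI : I ≤ (⊥ : Ideal A).jacobson) [Module.Flat A B] [Algebra.IsIntegral A B] [Algebra.FinitePresentation A B]
    (hq : Function.Bijective (Ideal.quotientMap (I.map (algebraMap A B)) (algebraMap A B) Ideal.le_comap_map)) :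
    Function.Bijective (algebraMap A B) := by
  haveI : Module.Finite A B := Algebra.IsIntegral.finite
  haveI : Module.FinitePresentation A B := Module.FinitePresentation.of_finite_of_finitePresentation A B
  haveI : Module.Projective A B := Module.Flat.projective_of_finitePresentation
  have hsur : Function.Surjective (Algebra.linearMap A B) := by
    rw [← LinearMap.range_eq_top, eq_top_iff]
    refine Submodule.le_of_le_smul_of_le_jacobson_bot Module.Finite.fg_top hI fun b _ => ?_
    obtain ⟨x, hx⟩ := hq.2 (Ideal.Quotient.mk _ b)
    obtain ⟨a, rfl⟩ := Ideal.Quotient.mk_surjective x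
    rw [Ideal.quotientMap_mk, Ideal.Quotient.mk_eq_mk_iff_sub_mem] at hx
    rw [← sub_sub_cancel (algebraMap A B a) b]
    refine sub_mem (Submodule.mem_sup_left ⟨a, rfl⟩) (Submodule.mem_sup_right ?_)
    rw [Ideal.smul_top_eq_map]
    exact hx
  refine ⟨?_, hsur⟩
  obtain ⟨s, hs⟩ := Module.projective_lifting_property (Algebra.linearMap A B) LinearMap.id hsur
  have h1 : algebraMap A B (s 1) = 1 := LinearMap.congr_fun hs 1
  have h3 : ∀ a, s (algebraMap A B a) = a * s 1 := fun a => by
    rw [Algebra.algebraMap_eq_smul_one, map_smul, smul_eq_mul]
  have hk : IsUnit (s 1) := by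
    have : s 1 - 1 ∈ I := by
      rw [← Ideal.Quotient.eq_zero_iff_mem]
      apply hq.1
      rw [Ideal.quotientMap_mk, map_sub, h1, map_one, sub_self, map_zero, map_zero]
    have := Ideal.mem_jacobson_bot.mp (hI this) 1
    rwa [mul_one, sub_add_cancel] at this
  rw [injective_iff_map_eq_zero]
  intro a ha
  have := h3 a
  rw [ha, map_zero] at this
  exact hk.mul_left_eq_zero.mp this.symm

end Groth.Agent.S2012
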