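import Groth.Statements.S2014
import Mathlib
import Groth.Agent.TopPrimes.Basic

set_option autoImplicit false
universe u
open EtAlg

namespace Groth.Agent.S2014

/-- Let R be a Noetherian local ring of Krull dimension 1 and x an element of the maximal ideal
contained in no minimal prime of R. Then the number of minimal prime ideals of R is at most the
length of R/xR as an R-module. -/
theorem result (R : Type u) [CommRing R] [IsNoetherianRing R] [IsLocalRing R]
    (hdim : ringKrullDim R = 1) (x : R) (hx : x ∈ IsLocalRing.maximalIdeal R) (hmin : ∀ p ∈ minimalPrimes R, x ∉ p) :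
    (Set.ncard (minimalPrimes R) : ℕ∞) ≤ Module.length R (R ⧸ Ideal.span {x}) := by
  classical
  have hfin : (minimalPrimes R).Finite := minimalPrimes.finite_of_isNoetherianRing R
  let T := hfin.toFinset
  have hne : ∀ p ∈ minimalPrimes R, p < IsLocalRing.maximalIdeal R := fun p hp =>
    lt_of_le_of_ne (IsLocalRing.le_maximalIdeal hp.1.1.ne_top) fun h => hmin p hp (h ▸ hx)
  have hrad : IsLocalRing.maximalIdeal R ≤ ((⊥ : Ideal R) ⊔ Ideal.span (Set.range ![x])).radical := by
    rw [bot_sup_eq, Matrix.range_cons, Matrix.range_empty, Set.union_empty, Ideal.radical_eq_sInf]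
    refine le_sInf fun q ⟨hxq, hq⟩ => ?_
    by_contra hc
    obtain ⟨p, hp, hpq⟩ := Ideal.exists_minimalPrimes_le (I := (⊥ : Ideal R)) (J := q) bot_le
    have := hp.1.1
    have h1 : p < q := lt_of_le_of_ne hpq fun h => hmin p hp (h ▸ hxq (Ideal.mem_span_singleton_self x))
    have h2 : q < IsLocalRing.maximalIdeal R := lt_of_le_of_ne (IsLocalRing.le_maximalIdeal hq.ne_top) fun h => hc h.ge
    have h3 := Ideal.height_add_one_le_of_lt_of_isPrime h1
    have h4 := Ideal.height_add_one_le_of_lt_of_isPrime h2
    have h5 : (IsLocalRing.maximalIdeal R).height = 1 := by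
      have := IsLocalRing.maximalIdeal_height_eq_ringKrullDim (R := R)
      rw [hdim] at this
      exact_mod_cast this
    rw [h5] at h4
    have : (1 : ℕ∞) + 1 ≤ 1 := le_trans (add_le_add (le_trans le_add_self h3) le_rfl) h4
    exact absurd this (by decide)
  obtain ⟨-, hsum⟩ := Groth.Agent.TopPrimes.sum_le 1 (⊥ : Ideal R) ![x] (fun i => by simpa [Subsingleton.elim i 0] using hx) hrad
  have hT : ∀ p ∈ T, p ∈ (⊥ : Ideal R).minimalPrimes ∧ ((1 : ℕ) : WithBot ℕ∞) ≤ Groth.Agent.TopPrimes.dimV p := fun p hp => by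
    have hp' : p ∈ minimalPrimes R := hfin.mem_toFinset.mp hp
    refine ⟨hp', ?_⟩
    haveI := hp'.1.1
    have h1 := Groth.Agent.TopPrimes.dimV_add_one_le (d := 0) (hne p hp') (by
      rw [Groth.Agent.TopPrimes.dimV]
      letI := Ideal.Quotient.field (IsLocalRing.maximalIdeal R)
      rw [ringKrullDim_eq_zero_of_field]; simp)
    exact h1
  have hle := hsum T hT
  rw [bot_sup_eq, Matrix.range_cons, Matrix.range_empty, Set.union_empty] at hle
  refine le_trans ?_ hle
  rw [Set.ncard_eq_toFinset_card _ hfin, ← Finset.card_attach, Finset.card_eq_sum_ones, Nat.cast_sum]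
  refine Finset.sum_le_sum fun p _ => ?_
  haveI := (hT p.1 p.2).1.1.1
  show ((1 : ℕ) : ℕ∞) ≤ Module.length _ _
  rw [Nat.cast_one]
  haveI : Nontrivial (LocalizedModule p.1.primeCompl (R ⧸ (⊥ : Ideal R))) := by
    refine Module.mem_support_iff (p := (⟨p.1, inferInstance⟩ : PrimeSpectrum R)).mp ?_
    rw [Module.support_eq_zeroLocus, Ideal.annihilator_quotient]
    exact fun z hz => by simp [(Ideal.mem_bot (R := R)).mp hz]
  exact Order.one_le_iff_pos.mpr Module.length_pos

end Groth.Agent.S2014
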