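import Groth.Statements.S2016
import Mathlib
import Groth.Agent.CMAux.ChainRingFP

set_option autoImplicit false
universe u
open EtAlg

namespace Groth.Agent.S2016

/-- Let R be a ring such that for every maximal ideal m and all a, b in R_m, either a divides b or b
divides a in R_m. Then each finitely presented R-module is a direct summand of a direct sum of
finitely many cyclic modules R/fR. -/
theorem result (R : Type u) [CommRing R]
    (h : ∀ (m : Ideal R) [m.IsMaximal], ∀ a b : Localization.AtPrime m, a ∣ b ∨ b ∣ a)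
    (M : Type u) [AddCommGroup M] [Module R M] [Module.FinitePresentation R M] :
    ∃ (n : ℕ) (f : Fin n → R) (N : Type u) (_ : AddCommGroup N) (_ : Module R N),
      Nonempty ((M × N) ≃ₗ[R] ((i : Fin n) → R ⧸ Ideal.span {f i})) := by
  classical
  have key : ∀ (m : Ideal R) [m.IsMaximal], ∃ s ∉ m, ∃ (n : ℕ) (b : Fin n → R)
      (φ : ((i : Fin n) → R ⧸ Ideal.span {b i}) →ₗ[R] M) (g : M →ₗ[R] ((i : Fin n) → R ⧸ Ideal.span {b i})),
      ∀ x, φ (g x) = s • x := by
    intro m _
    let S := m.primeCompl
    let Rm := Localization.AtPrime m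
    haveI : Module.FinitePresentation Rm (LocalizedModule S M) :=
      inferInstanceAs (Module.FinitePresentation (Localization S) (LocalizedModule S M))
    obtain ⟨n, a, ⟨e⟩⟩ := Groth.Agent.CMAux.ChainRing.exists_equiv_of_finitePresentation (h m) (LocalizedModule S M)
    choose b u hbu using fun i => IsLocalization.exists_mk'_eq S (a i)
    let y : Fin n → LocalizedModule S M := fun i => e.symm (Pi.single i (Ideal.Quotient.mk _ 1))
    have hy : ∀ i (c : Rm), e.symm (Pi.single i (Ideal.Quotient.mk _ c)) = c • y i := fun i c => by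
      rw [← map_smul, ← Pi.single_smul]
      congr 2
      rw [show c = c • (1 : Rm) by rw [smul_eq_mul, mul_one]]
      exact (Submodule.Quotient.mk_smul _ _ _).trans (by rw [smul_eq_mul, mul_one]; rfl)
    choose p hp using fun i => IsLocalizedModule.surj S (LocalizedModule.mkLinearMap S M) (y i)
    have hann : ∀ i, LocalizedModule.mkLinearMap S M (b i • (p i).1) = 0 := fun i => by
      rw [map_smul, ← hp i, smul_comm]
      have h1 : (algebraMap R Rm (b i)) • y i = 0 := by
        rw [← hy]
        have : Ideal.Quotient.mk (Ideal.span {a i}) (algebraMap R Rm (b i)) = 0 := by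
          rw [Ideal.Quotient.eq_zero_iff_mem, Ideal.mem_span_singleton', ]
          exact ⟨algebraMap R Rm (u i : R), by rw [← hbu i, mul_comm, IsLocalization.mk'_spec]⟩
        rw [this, Pi.single_zero, map_zero]
      rw [algebraMap_smul] at h1
      rw [h1, smul_zero]
    choose t ht using fun i => (IsLocalizedModule.eq_zero_iff S (LocalizedModule.mkLinearMap S M)).mp (hann i)
    let x : Fin n → M := fun i => (t i : R) • (p i).1
    have hx : ∀ i, b i • x i = 0 := fun i => by
      show b i • (t i : R) • (p i).1 = 0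
      rw [smul_comm]
      exact ht i
    let φi : ∀ i, (R ⧸ Ideal.span {b i}) →ₗ[R] M := fun i => Submodule.liftQ _ (LinearMap.toSpanSingleton R M (x i)) (by
      rw [Ideal.span, Submodule.span_singleton_le_iff_mem]; exact hx i)
    let κ : ∀ i, (Rm ⧸ Ideal.span {a i}) →ₗ[Rm] LocalizedModule S (R ⧸ Ideal.span {b i}) := fun i =>
      Submodule.liftQ _ (LinearMap.toSpanSingleton Rm _ (LocalizedModule.mkLinearMap S _ (Ideal.Quotient.mk _ 1))) (by
        rw [Ideal.span, Submodule.span_singleton_le_iff_mem, LinearMap.mem_ker, LinearMap.toSpanSingleton_apply,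
          ← hbu i, IsLocalization.mk'_eq_mul_mk'_one, mul_comm, mul_smul, algebraMap_smul, ← map_smul,
          show b i • Ideal.Quotient.mk (Ideal.span {b i}) 1 = 0 from by
            rw [Algebra.smul_def, Ideal.Quotient.algebraMap_eq, ← map_mul, mul_one, Ideal.Quotient.eq_zero_iff_mem]
            exact Ideal.mem_span_singleton_self _, map_zero, smul_zero])
    let ε : ∀ i, LocalizedModule S (R ⧸ Ideal.span {b i}) →ₗ[Rm] LocalizedModule S M := fun i => LocalizedModule.map S (φi i)
    have hε : ∀ i z, ε i (LocalizedModule.mkLinearMap S _ z) = LocalizedModule.mkLinearMap S M (φi i z) := fun i z => by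
      simp only [ε, LocalizedModule.mkLinearMap_apply]
      first | exact LocalizedModule.map_mk _ _ _ | exact IsLocalizedModule.map_apply S (LocalizedModule.mkLinearMap S _) (LocalizedModule.mkLinearMap S M) (φi i) z
    have hεκ : ∀ i (c : Rm), ε i (κ i (Ideal.Quotient.mk _ c)) = (c * algebraMap R Rm ((t i : R) * (p i).2)) • y i := fun i c => by
      show ε i (c • LocalizedModule.mkLinearMap S _ (Ideal.Quotient.mk _ 1)) = _
      rw [map_smul, hε, show φi i (Ideal.Quotient.mk _ 1) = x i from one_smul R (x i), mul_smul, algebraMap_smul, mul_smul]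
      congr 1
      show LocalizedModule.mkLinearMap S M ((t i : R) • (p i).1) = _
      rw [map_smul, ← hp i]
      rfl
    have hunit : ∀ i, IsUnit (algebraMap R Rm ((t i : R) * (p i).2)) := fun i =>
      IsLocalization.map_units Rm (t i * (p i).2)
    let hh : ∀ i, M →ₗ[R] LocalizedModule S (R ⧸ Ideal.span {b i}) := fun i =>
      ((↑(hunit i).unit⁻¹ : Rm) • (κ i ∘ₗ LinearMap.proj i ∘ₗ e.toLinearMap)).restrictScalars R ∘ₗ LocalizedModule.mkLinearMap S M
    choose g₀ s₀ hg₀ using fun i => Module.FinitePresentation.exists_lift_of_isLocalizedModule S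
      (LocalizedModule.mkLinearMap S (R ⧸ Ideal.span {b i})) (hh i)
    let φ : ((i : Fin n) → R ⧸ Ideal.span {b i}) →ₗ[R] M := ∑ i, φi i ∘ₗ LinearMap.proj i
    let g : M →ₗ[R] ((i : Fin n) → R ⧸ Ideal.span {b i}) :=
      LinearMap.pi fun i => (∏ k ∈ Finset.univ.erase i, (s₀ k : R)) • g₀ i
    let s : R := ∏ k, (s₀ k : R)
    have hloc : ∀ z, LocalizedModule.mkLinearMap S M (φ (g z) - s • z) = 0 := by
      intro z
      rw [map_sub, sub_eq_zero, map_smul]
      conv_rhs => rw [← e.symm_apply_apply (LocalizedModule.mkLinearMap S M z), ← Finset.univ_sum_single (e (LocalizedModule.mkLinearMap S M z))]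
      simp only [φ, g, LinearMap.coe_sum, Finset.sum_apply, LinearMap.comp_apply, LinearMap.proj_apply, LinearMap.pi_apply,
        LinearMap.smul_apply, map_smul, map_sum, Finset.smul_sum]
      refine Finset.sum_congr rfl fun i _ => ?_
      rw [← hε, show LocalizedModule.mkLinearMap S _ (g₀ i z) = s₀ i • hh i z from LinearMap.congr_fun (hg₀ i) z,
        Submonoid.smul_def, LinearMap.map_smul_of_tower, smul_smul,
        show (∏ k ∈ Finset.univ.erase i, (s₀ k : R)) * (s₀ i : R) = s from Finset.prod_erase_mul _ _ (Finset.mem_univ i)]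
      congr 1
      obtain ⟨c, hc⟩ := Ideal.Quotient.mk_surjective (e (LocalizedModule.mkLinearMap S M z) i)
      simp only [hh, LinearMap.comp_apply, LinearMap.coe_restrictScalars, LinearMap.smul_apply, LinearMap.proj_apply, map_smul,
        LinearEquiv.coe_coe]
      rw [← hc, hεκ, hy, smul_smul, mul_left_comm, IsUnit.val_inv_mul, mul_one]
    obtain ⟨T, hT⟩ := (inferInstance : Module.Finite R M).fg_top
    choose c hc using fun z => (IsLocalizedModule.eq_zero_iff S (LocalizedModule.mkLinearMap S M)).mp (hloc z)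
    refine ⟨(∏ z ∈ T, (c z : R)) * s, m.primeCompl.mul_mem (Submonoid.prod_mem _ fun z _ => (c z).2)
      (Submonoid.prod_mem _ fun k _ => (s₀ k).2), n, b, φ, (∏ z ∈ T, (c z : R)) • g, fun z => ?_⟩
    have hz : z ∈ Submodule.span R (T : Set M) := hT ▸ Submodule.mem_top
    have key : ∀ z ∈ Submodule.span R (T : Set M), (∏ z ∈ T, (c z : R)) • (φ (g z) - s • z) = 0 := by
      intro z hz
      induction hz using Submodule.span_induction with
      | mem z hz =>
        rw [← Finset.prod_erase_mul _ _ hz, mul_smul]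
        have := hc z
        rw [Submonoid.smul_def] at this
        rw [this, smul_zero]
      | zero => simp
      | add z w _ _ hz hw => rw [map_add, map_add, smul_add s, add_sub_add_comm, smul_add, hz, hw, add_zero]
      | smul r z _ hz => rw [map_smul, map_smul, smul_comm s r, ← smul_sub, smul_comm, hz, smul_zero]
    have := key z hz
    rw [smul_sub, sub_eq_zero] at this
    rw [LinearMap.smul_apply, map_smul, mul_smul, this]
  let G : Set R := {s | ∃ (n : ℕ) (b : Fin n → R)
      (φ : ((i : Fin n) → R ⧸ Ideal.span {b i}) →ₗ[R] M) (g : M →ₗ[R] ((i : Fin n) → R ⧸ Ideal.span {b i})),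
      ∀ x, φ (g x) = s • x}
  have hG : Ideal.span G = ⊤ := by
    by_contra hne
    obtain ⟨m, hm, hle⟩ := Ideal.exists_le_maximal _ hne
    obtain ⟨s, hs, hsG⟩ := key m
    exact hs (hle (Ideal.subset_span hsG))
  obtain ⟨T, hTG, hT⟩ := Submodule.mem_span_finite_of_mem_span (show (1 : R) ∈ Ideal.span G from hG ▸ Submodule.mem_top)
  obtain ⟨r, hr⟩ := (Submodule.mem_span_finset' (s := T)).mp hT
  choose nn bb pp gg hh using fun s : T => hTG s.2
  let ι := Σ s : T, Fin (nn s)
  let f : ι → R := fun i => bb i.1 i.2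
  let Φ : ((i : ι) → R ⧸ Ideal.span {f i}) →ₗ[R] M :=
    ∑ s : T, pp s ∘ₗ LinearMap.pi fun j => LinearMap.proj (⟨s, j⟩ : ι)
  let Γ : M →ₗ[R] ((i : ι) → R ⧸ Ideal.span {f i}) :=
    LinearMap.pi fun i => r i.1 • (LinearMap.proj i.2 ∘ₗ gg i.1)
  have hΦΓ : ∀ x, Φ (Γ x) = x := fun x => by
    simp only [Φ, LinearMap.coe_sum, Finset.sum_apply, LinearMap.comp_apply]
    conv_rhs => rw [← one_smul R x, ← hr, Finset.sum_smul]
    refine Finset.sum_congr rfl fun s _ => ?_
    rw [show (LinearMap.pi fun j => LinearMap.proj (⟨s, j⟩ : ι)) (Γ x) = r s • gg s x from rfl, map_smul, hh, smul_smul, smul_eq_mul]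
  let en := Fintype.equivFin ι
  let eP : ((i : ι) → R ⧸ Ideal.span {f i}) ≃ₗ[R] ((k : Fin (Fintype.card ι)) → R ⧸ Ideal.span {f (en.symm k)}) :=
    (LinearEquiv.piCongrLeft' R (fun i => R ⧸ Ideal.span {f i}) en)
  let F : (M × LinearMap.ker Φ) →ₗ[R] ((i : ι) → R ⧸ Ideal.span {f i}) := Γ.coprod (LinearMap.ker Φ).subtype
  have hF : Function.Bijective F := by
    refine ⟨(injective_iff_map_eq_zero _).mpr fun p hxz => ?_, fun w => ⟨(Φ w, ⟨w - Γ (Φ w), ?_⟩), ?_⟩⟩
    · obtain ⟨x, z⟩ := p
      have h1 : x = 0 := by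
        have h2 := congrArg Φ hxz
        simpa [F, hΦΓ, LinearMap.mem_ker.mp z.2] using h2
      have h2 : z = 0 := Subtype.ext (by simpa [F, h1] using hxz)
      rw [h1, h2]
      rfl
    · rw [LinearMap.mem_ker, map_sub, hΦΓ, sub_self]
    · simp [F]
  exact ⟨Fintype.card ι, fun k => f (en.symm k), ↥(LinearMap.ker Φ), inferInstance, inferInstance, ⟨(LinearEquiv.ofBijective F hF).trans eP⟩⟩

end Groth.Agent.S2016
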