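import Groth.Statements.S2017
import Mathlib

set_option autoImplicit false
universe u
open EtAlg

namespace Groth.Agent.S2017

/-- Let R be a Noetherian ring, A, B, C R-algebras of finite type, f : A -> B a surjective R-algebra map
and g : C -> B an R-algebra map making B a finite C-module. Then the fibre product A ×_B C (the
equalizer of f ∘ pr₁ and g ∘ pr₂ in A × C) is an R-algebra of finite type. -/
theorem result (R A B C : Type u) [CommRing R] [IsNoetherianRing R] [CommRing A] [CommRing B]
    [CommRing C] [Algebra R A] [Algebra R B] [Algebra R C] [Algebra.FiniteType R A] [Algebra.FiniteType R B]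
    [Algebra.FiniteType R C] (f : A →ₐ[R] B) (hf : Function.Surjective f) (g : C →ₐ[R] B)
    (hg : (g.toRingHom).Finite) :
    Algebra.FiniteType R ↥(AlgHom.equalizer (f.comp (AlgHom.fst R A C)) (g.comp (AlgHom.snd R A C))) := by
  set φ := f.comp (AlgHom.fst R A C)
  set ψ := g.comp (AlgHom.snd R A C)
  let P := AlgHom.equalizer φ ψ
  letI : Algebra P A := ((AlgHom.fst R A C).comp P.val).toRingHom.toAlgebra
  haveI : IsScalarTower R P A := IsScalarTower.of_algebraMap_eq fun r => rfl
  haveI : Algebra.IsIntegral P A := by
    refine ⟨fun a => ?_⟩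
    obtain ⟨p, hpm, hp⟩ := hg.to_isIntegral (f a)
    have hpm' : (p * Polynomial.X).Monic := hpm.mul Polynomial.monic_X
    have hlift : p * Polynomial.X ∈ Polynomial.lifts ((AlgHom.snd R A C).comp P.val).toRingHom := by
      rw [Polynomial.lifts_iff_coeff_lifts]
      intro n
      obtain ⟨c, hc⟩ := hf (g ((p * Polynomial.X).coeff n))
      exact ⟨⟨(c, _), show f c = g _ from hc⟩, rfl⟩
    obtain ⟨q, hq, hqd, hqm⟩ := Polynomial.lifts_and_natDegree_eq_and_monic hlift hpm'
    have hk : f (Polynomial.aeval a q) = 0 := by
      have hcomp : f.toRingHom.comp (algebraMap P A) = g.toRingHom.comp ((AlgHom.snd R A C).comp P.val).toRingHom :=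
        RingHom.ext fun x => x.2
      show f.toRingHom (Polynomial.eval₂ (algebraMap P A) a q) = 0
      rw [Polynomial.hom_eval₂, hcomp, ← Polynomial.eval₂_map, hq, Polynomial.eval₂_mul]
      exact mul_eq_zero_of_left hp _
    let c : P := ⟨(Polynomial.aeval a q, (0 : C)), show f (Polynomial.aeval a q) = g (0 : C) by rw [map_zero, hk]⟩
    rcases subsingleton_or_nontrivial C with hC | hC
    · refine ⟨Polynomial.X - Polynomial.C (⟨(a, (0 : C)), show f a = g (0 : C) from ?_⟩ : P), Polynomial.monic_X_sub_C _, ?_⟩
      · haveI : Subsingleton B := subsingleton_of_zero_eq_one (by rw [← map_zero g, ← map_one g, Subsingleton.elim (0 : C) 1])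
        exact Subsingleton.elim _ _
      · simp only [Polynomial.eval₂_sub, Polynomial.eval₂_X, Polynomial.eval₂_C]
        exact sub_self a
    refine ⟨q - Polynomial.C c, hqm.sub_of_left (lt_of_le_of_lt Polynomial.degree_C_le ?_), ?_⟩
    · rw [← Polynomial.natDegree_pos_iff_degree_pos, hqd, Polynomial.natDegree_mul_X hpm.ne_zero]
      omega
    · simp only [Polynomial.eval₂_sub, Polynomial.eval₂_C]
      exact sub_self _
  haveI : Algebra.FiniteType P A := Algebra.FiniteType.of_restrictScalars_finiteType R P A
  haveI : Module.Finite P A := Algebra.IsIntegral.finite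
  letI : Algebra P C := ((AlgHom.snd R A C).comp P.val).toRingHom.toAlgebra
  haveI : IsScalarTower R P C := IsScalarTower.of_algebraMap_eq fun r => rfl
  haveI : Module.Finite P C := Module.Finite.of_surjective (Algebra.linearMap P C) fun c => by
    obtain ⟨a, ha⟩ := hf (g c)
    exact ⟨⟨(a, c), show f a = g c from ha⟩, rfl⟩
  haveI : IsScalarTower R P (A × C) := IsScalarTower.of_algebraMap_eq fun r => rfl
  have hfin : Module.Finite P (A × C) := Module.Finite.prod
  refine ⟨fg_of_fg_of_fg R P (A × C) ?_ hfin.fg_top fun x y h => Subtype.ext h⟩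
  exact (inferInstance : Algebra.FiniteType R (A × C)).out

end Groth.Agent.S2017
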