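import Groth.Statements.S2018
import Mathlib

set_option autoImplicit false
universe u
open EtAlg

namespace Groth.Agent.S2018

/-- Let g : A' -> A be a surjective ring map and f : B -> A an integral ring map. Then the projection
from the fibre product B ×_A A' (the equalizer of f ∘ pr₁ and g ∘ pr₂ in B × A') to A' is integral. -/
theorem result (A A' B : Type u) [CommRing A] [CommRing A'] [CommRing B] (g : A' →+* A)
    (hg : Function.Surjective g) (f : B →+* A) (hf : f.IsIntegral) :
    ((RingHom.snd B A').comp ((f.comp (RingHom.fst B A')).eqLocus (g.comp (RingHom.snd B A'))).subtype).IsIntegral := by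
  intro a
  let P := (f.comp (RingHom.fst B A')).eqLocus (g.comp (RingHom.snd B A'))
  let φ : P →+* A' := (RingHom.snd B A').comp P.subtype
  show φ.IsIntegralElem a
  obtain ⟨p, hpm, hp⟩ := hf (g a)
  have hpm' : (p * Polynomial.X).Monic := hpm.mul Polynomial.monic_X
  have hlift : p * Polynomial.X ∈ Polynomial.lifts ((RingHom.fst B A').comp P.subtype) := by
    rw [Polynomial.lifts_iff_coeff_lifts]
    intro n
    obtain ⟨c, hc⟩ := hg (f ((p * Polynomial.X).coeff n))
    exact ⟨⟨(_, c), show f _ = g c from hc.symm⟩, rfl⟩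
  obtain ⟨q, hq, hqd, hqm⟩ := Polynomial.lifts_and_natDegree_eq_and_monic hlift hpm'
  have hk : g (q.eval₂ φ a) = 0 := by
    have hcomp : g.comp φ = f.comp ((RingHom.fst B A').comp P.subtype) := RingHom.ext fun x => x.2.symm
    rw [Polynomial.hom_eval₂, hcomp, ← Polynomial.eval₂_map, hq, Polynomial.eval₂_mul, hp, zero_mul]
  let c : P := ⟨((0 : B), q.eval₂ φ a), show f (0 : B) = g (q.eval₂ φ a) by rw [map_zero, hk]⟩
  rcases subsingleton_or_nontrivial B with hB | hB
  · refine ⟨Polynomial.X - Polynomial.C (⟨((0 : B), a), show f (0 : B) = g a from ?_⟩ : P), Polynomial.monic_X_sub_C _, ?_⟩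
    · haveI : Subsingleton A := subsingleton_of_zero_eq_one (by rw [← map_zero f, ← map_one f, Subsingleton.elim (0 : B) 1])
      exact Subsingleton.elim _ _
    · simp only [Polynomial.eval₂_sub, Polynomial.eval₂_X, Polynomial.eval₂_C]
      exact sub_self a
  refine ⟨q - Polynomial.C c, hqm.sub_of_left (lt_of_le_of_lt Polynomial.degree_C_le ?_), ?_⟩
  · rw [← Polynomial.natDegree_pos_iff_degree_pos, hqd, Polynomial.natDegree_mul_X hpm.ne_zero]
    omega
  · rw [Polynomial.eval₂_sub, Polynomial.eval₂_C]
    exact sub_self _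

end Groth.Agent.S2018
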