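import Groth.Statements.S2026
import Groth.Agent.Smoothing.Standard


set_option autoImplicit false
universe u
open Smoothing

namespace Groth.Agent.S2026

/-- For a finitely presented `R`-algebra `A`, the singular ideal (functions vanishing on the non-smooth
locus) coincides with the radical of the ideal spanned by all strictly standard elements, and
equally with the radical of the ideal spanned by all elementary standard elements. -/
theorem result {R A : Type u} [CommRing R] [CommRing A]
    [Algebra R A] [Algebra.FinitePresentation R A] :
    Smoothing.singularIdeal R A = (Ideal.span {a : A | Smoothing.IsStrictlyStandard R A a}).radical ∧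
      Smoothing.singularIdeal R A =
        (Ideal.span {a : A | Smoothing.IsElementaryStandard R A a}).radical := by
  have hes : ∀ a : A, Smoothing.IsElementaryStandard R A a →
      Smoothing.IsStrictlyStandard R A a := by
    rintro a ⟨P, ⟨a', rfl⟩, hk⟩
    exact ⟨P, Ideal.mul_mem_left _ a' (Ideal.subset_span ⟨_, rfl⟩), hk⟩
  have hrad : (Smoothing.singularIdeal R A).radical = Smoothing.singularIdeal R A :=
    Ideal.IsRadical.radical (PrimeSpectrum.isRadical_vanishingIdeal _)
  have hle : (Ideal.span {a : A | Smoothing.IsStrictlyStandard R A a}).radical ≤
      Smoothing.singularIdeal R A := by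
    rw [← hrad]
    exact Ideal.radical_mono (Ideal.span_le.mpr fun a ha =>
      Groth.Agent.Smoothing.mem_singularIdeal_of_isStrictlyStandard ha)
  have hge : Smoothing.singularIdeal R A ≤
      (Ideal.span {a : A | Smoothing.IsElementaryStandard R A a}).radical := by
    rw [Ideal.radical_eq_sInf]
    refine le_sInf fun p ⟨hp, hpp⟩ a ha => ?_
    by_contra hap
    rw [Smoothing.singularIdeal, PrimeSpectrum.mem_vanishingIdeal] at ha
    by_cases hs : Algebra.IsSmoothAt R p
    · obtain ⟨b, hb, hbe⟩ := Groth.Agent.Smoothing.exists_elementary_notMem (R := R) p
      exact hb (hp (Ideal.subset_span hbe))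
    · exact hap (ha ⟨p, hpp⟩ hs)
  have hmono : (Ideal.span {a : A | Smoothing.IsElementaryStandard R A a}).radical ≤
      (Ideal.span {a : A | Smoothing.IsStrictlyStandard R A a}).radical :=
    Ideal.radical_mono (Ideal.span_mono hes)
  exact ⟨le_antisymm (hge.trans hmono) hle, le_antisymm hge (hmono.trans hle)⟩

end Groth.Agent.S2026
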