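import Groth.Statements.S2032
import Groth.Agent.Smoothing.Elementary


set_option autoImplicit false
universe u
open Smoothing

namespace Groth.Agent.S2032

/-- For a finitely presented `R`-algebra `A` and `a ∈ A`, if `a` is elementary standard then `A_a` is
standard smooth over `R`. (Part (f), the converse for large powers of `a`, is not stated: as
published it fails, for example for the nodal cubic `A = {g ∈ ℚ[u] : g(0) = g(1)}` and `a =
u(u-1)`.) -/
theorem result {R A : Type u} [CommRing R] [CommRing A]
    [Algebra R A] [Algebra.FinitePresentation R A] (a : A)
    (ha : Smoothing.IsElementaryStandard R A a) : Algebra.IsStandardSmooth R (Localization.Away a) := by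
  obtain ⟨P, ⟨a', ha'⟩, hkill⟩ := ha
  exact Groth.Agent.Smoothing.isStandardSmooth_away P.rel P.hom P.surj P.ker_eq _ _
    (Fin.castLE_injective P.hcn) a a' ha' ((Groth.Agent.Smoothing.killsTail_iff P a).mp hkill)

end Groth.Agent.S2032
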