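import Groth.Statements.S2039
import Groth.Agent.CAlgAndre.Local

set_option autoImplicit false
universe u
open CAlg

namespace Groth.Agent.S2039

/-- A local homomorphism `A → B` of Noetherian complete local rings is a regular ring map (flat with
Noetherian geometrically regular fibres) if and only if it is formally smooth for the adic topology
of the maximal ideal of `B`. -/
theorem result {A B : Type u} [CommRing A] [CommRing B]
    [IsLocalRing A] [IsLocalRing B] [IsNoetherianRing A] [IsNoetherianRing B]
    [IsAdicComplete (IsLocalRing.maximalIdeal A) A] [IsAdicComplete (IsLocalRing.maximalIdeal B) B]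
    [Algebra A B] [IsLocalHom (algebraMap A B)] :
    CAlg.IsRegularHom A B ↔ CAlgX.IsAdicFormallySmooth A B (IsLocalRing.maximalIdeal B) := by
  open Groth.Agent.CAlgAndre in
  exact ⟨fun h => by
    haveI := h.1
    exact discrete_of_flat_of_fibre A B ((fibre_iff A B).2 (h.2 (IsLocalRing.maximalIdeal A)).2),
    fun h => isRegularHom_of_complete h⟩

end Groth.Agent.S2039
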