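import Groth.Statements.S2040
import Groth.Agent.CAlgAndre.Flat

set_option autoImplicit false
universe u
open CAlg

namespace Groth.Agent.S2040

/-- For a complete Noetherian local ring `A` with residue field `k`, and a complete Noetherian local
`k`-algebra `B` which is formally smooth over `k` for the adic topology of its maximal ideal, there
is a Noetherian complete local ring `C` with a local homomorphism `A → C`, formally smooth for the
adic topology of the maximal ideal of `C`, whose special fibre `C ⊗ k` is isomorphic to `B` over
`k`. -/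
theorem result {A B : Type u} [CommRing A] [IsLocalRing A]
    [IsNoetherianRing A] [IsAdicComplete (IsLocalRing.maximalIdeal A) A] [CommRing B] [IsLocalRing B]
    [IsNoetherianRing B] [IsAdicComplete (IsLocalRing.maximalIdeal B) B]
    [Algebra (IsLocalRing.maximalIdeal A).ResidueField B]
    (hB : CAlgX.IsAdicFormallySmooth (IsLocalRing.maximalIdeal A).ResidueField B (IsLocalRing.maximalIdeal B)) :
    ∃ (C : Type u) (_ : CommRing C) (_ : IsLocalRing C) (_ : Algebra A C),
      IsNoetherianRing C ∧ IsAdicComplete (IsLocalRing.maximalIdeal C) C ∧ IsLocalHom (algebraMap A C) ∧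
        CAlgX.IsAdicFormallySmooth A C (IsLocalRing.maximalIdeal C) ∧
        Nonempty ((IsLocalRing.maximalIdeal A).Fiber C ≃ₐ[(IsLocalRing.maximalIdeal A).ResidueField] B) := by
  open Groth.Agent.CAlgAndre IsLocalRing TensorProduct in
  haveI hBr : IsRegularLocalRing B := (Groth.Agent.SymGr.isAdicFormallySmooth_field_iff_regular.1 hB).1
  let π : A →+* B := (algebraMap (maximalIdeal A).ResidueField B).comp (algebraMap A (maximalIdeal A).ResidueField)
  have hπ : maximalIdeal A ≤ RingHom.ker π := fun a ha => by
    show algebraMap (maximalIdeal A).ResidueField B (algebraMap A _ a) = 0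
    rw [Ideal.algebraMap_residueField_eq_zero.2 ha, map_zero]
  obtain ⟨C, _, _, _, g, hCn, hCc, hCl, hCf, hg, hcomp, hker⟩ := exists_lift π hπ
  haveI := hCn
  haveI := hCc
  haveI := hCl
  haveI := hCf
  let I : Ideal C := (maximalIdeal A).map (algebraMap A C)
  let e : (C ⧸ I) ≃+* B := (Ideal.quotEquivOfEq hker.symm).trans (RingHom.quotientKerEquivOfSurjective hg)
  have he : ∀ a : A, e (Ideal.Quotient.mk I (algebraMap A C a)) = π a := fun a => RingHom.congr_fun hcomp a
  refine ⟨C, inferInstance, inferInstance, inferInstance, hCn, hCc, hCl, discrete_of_flat_of_fibre A C ?_, ?_⟩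
  · haveI := isLocalRing_quotient_map A C
    have h1 := discrete_of_equiv (residueEquiv A).toRingEquiv.symm e.symm (fun c => by
      obtain ⟨c, rfl⟩ := (residueEquiv A).toRingEquiv.surjective c
      obtain ⟨a, rfl⟩ := Ideal.Quotient.mk_surjective c
      rw [RingEquiv.symm_apply_apply, RingEquiv.symm_apply_eq]
      exact ((he a).trans (congrArg (algebraMap (maximalIdeal A).ResidueField B) ((residueEquiv A).commutes a).symm)).symm) _ hB
    have hm : (maximalIdeal B).map e.symm.toRingHom = (maximalIdeal C).map (Ideal.Quotient.mk I) :=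
      (IsLocalRing.map_maximalIdeal_of_surjective e.symm.toRingHom e.symm.surjective).trans
        (IsLocalRing.map_maximalIdeal_of_surjective _ Ideal.Quotient.mk_surjective).symm
    rw [hm] at h1
    exact h1
  · refine ⟨AlgEquiv.ofRingEquiv (f := (fibreEquiv A C).symm.toRingEquiv.trans e) fun x => ?_⟩
    obtain ⟨c, rfl⟩ := (residueEquiv A).surjective x
    obtain ⟨a, rfl⟩ := Ideal.Quotient.mk_surjective c
    show e ((fibreEquiv A C).symm _) = _
    rw [← fibreEquiv_algebraMap, AlgEquiv.symm_apply_apply]
    exact (he a).trans (congrArg (algebraMap (maximalIdeal A).ResidueField B) ((residueEquiv A).commutes a).symm)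

end Groth.Agent.S2040
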