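import Groth.Statements.S2041
import Mathlib
import Groth.Agent.CAlgH.EtaleNbhd

set_option autoImplicit false
universe u
open CAlg

namespace Groth.Agent.S2041

open TensorProduct in
/-- Let `I ⊆ A` be an ideal, `A → B` integral and `ē` an idempotent of `B/IB`. Then there is an étale
`A`-algebra `A'` with `A/I → A'/IA'` bijective and an idempotent of `A' ⊗ B` whose class modulo `I`
agrees with that of any lift of `ē`. -/
theorem result {A B : Type u} [CommRing A] [CommRing B] [Algebra A B]
    [Algebra.IsIntegral A B] (I : Ideal A) (e : B ⧸ I.map (algebraMap A B)) (he : IsIdempotentElem e) :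
    ∃ (A' : Type u) (_ : CommRing A') (_ : Algebra A A'), Algebra.Etale A A' ∧
      Function.Bijective (algebraMap (A ⧸ I) (A' ⧸ I.map (algebraMap A A'))) ∧
      ∃ e' : A' ⊗[A] B, IsIdempotentElem e' ∧
        ∀ b : B, Ideal.Quotient.mk (I.map (algebraMap A B)) b = e →
          e' - 1 ⊗ₜ b ∈ I.map (algebraMap A (A' ⊗[A] B)) := by
  open Polynomial TensorProduct in
  obtain ⟨b, rfl⟩ := Ideal.Quotient.mk_surjective e
  have hb : b ^ 2 - b ∈ I.map (algebraMap A B) := by
    rw [← Ideal.Quotient.eq, map_pow, pow_two]; exact he.eq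
  obtain ⟨q₀, hq₀, hq₀b, hq₀I⟩ := Polynomial.exists_monic_aeval_eq_zero_forall_mem_of_mem_map hb
  set q := q₀ * X with hqdef
  have hq : q.Monic := hq₀.mul monic_X
  rcases subsingleton_or_nontrivial A with hA | hA
  · refine ⟨A, inferInstance, inferInstance, inferInstance, ?_, 1, IsIdempotentElem.one, ?_⟩
    · refine ⟨fun x y _ => ?_, fun z => ⟨0, ?_⟩⟩
      · exact (Ideal.Quotient.mk_surjective.subsingleton : Subsingleton (A ⧸ I)).elim _ _
      · exact (Ideal.Quotient.mk_surjective.subsingleton :
          Subsingleton (A ⧸ I.map (algebraMap A A))).elim _ _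
    · intro c _
      have : Subsingleton (A ⊗[A] B) := Module.subsingleton A _
      convert (I.map (algebraMap A (A ⊗[A] B))).zero_mem
  have hqI : ∀ i ≠ q.natDegree, q.coeff i ∈ I := by
    intro i hi
    rw [hqdef, hq₀.natDegree_mul monic_X, natDegree_X] at hi
    rcases i with _ | j
    · simp [hqdef]
    · rw [hqdef, coeff_mul_X]; exact hq₀I j (by omega)
  have hn : 1 ≤ q.natDegree := by rw [hqdef, hq₀.natDegree_mul monic_X, natDegree_X]; omega
  set f := q.comp (X ^ 2 - X) with hfdef
  have hf : f.Monic := by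
    have h2 : (X ^ 2 - X : A[X]).Monic := monic_X_pow_sub (by simp [degree_X])
    refine hq.comp h2 ?_
    rw [natDegree_sub_eq_left_of_natDegree_lt] <;> simp
  obtain ⟨A', _, _, het, hbij, p, r, hfp, hpI⟩ :=
    Groth.Agent.CAlgH.EtaleNbhd.exists_idempotent_polynomial I f hf q.natDegree hn
      (Groth.Agent.CAlgH.EtaleNbhd.comp_map_eq I q hq hqI)
  refine ⟨A', inferInstance, inferInstance, het, hbij, ?_⟩
  set c : A' ⊗[A] B := 1 ⊗ₜ b
  have hfc : aeval c (f.map (algebraMap A A')) = 0 := by
    rw [aeval_map_algebraMap, show c = Algebra.TensorProduct.includeRight (R := A) (A := A') b from rfl,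
      aeval_algHom_apply, hfdef, aeval_comp]
    simp [hqdef, hq₀b]
  have hidem : IsIdempotentElem (aeval c p) := by
    obtain ⟨s, hs⟩ := hfp
    have := congrArg (aeval c) hs
    rw [map_sub, map_pow, map_mul, hfc, zero_mul, sub_eq_zero, pow_two] at this
    exact this
  have hincl : ∀ x ∈ I.map (algebraMap A B),
      (1 : A') ⊗ₜ[A] x ∈ I.map (algebraMap A (A' ⊗[A] B)) := by
    intro x hx
    rw [← (Algebra.TensorProduct.includeRight (R := A) (A := A') (B := B)).comp_algebraMap,
      ← Ideal.map_map]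
    exact Ideal.mem_map_of_mem _ hx
  refine ⟨aeval c p, hidem, fun b' hb' => ?_⟩
  have h1 : aeval c p - c ∈ I.map (algebraMap A (A' ⊗[A] B)) := by
    have h2 : aeval c (p - X - (X ^ 2 - X) * r) ∈ I.map (algebraMap A (A' ⊗[A] B)) := by
      have := Ideal.mem_map_of_mem (aeval c : A'[X] →ₐ[A'] A' ⊗[A] B).toRingHom hpI
      rw [Ideal.map_map, Ideal.map_map] at this
      convert this using 2
      all_goals first
        | rfl
        | (ext a; simp [IsScalarTower.algebraMap_apply A A' (A' ⊗[A] B)])
    have h3 : aeval c p - c = aeval c (p - X - (X ^ 2 - X) * r) + (c ^ 2 - c) * aeval c r := by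
      simp [map_sub, map_mul]
    rw [h3]
    refine add_mem h2 (Ideal.mul_mem_right _ _ ?_)
    rw [pow_two, Algebra.TensorProduct.tmul_mul_tmul, one_mul, ← TensorProduct.tmul_sub, ← pow_two]
    exact hincl _ hb
  have h4 : (1 : A') ⊗ₜ[A] (b - b') ∈ I.map (algebraMap A (A' ⊗[A] B)) :=
    hincl _ (Ideal.Quotient.eq.mp hb'.symm)
  have := add_mem h1 h4
  rw [TensorProduct.tmul_sub] at this
  convert this using 1
  ring

end Groth.Agent.S2041
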