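import Groth.Statements.S2044
import Mathlib
import Groth.Agent.CAlgH.EtaleNbhd

set_option autoImplicit false
universe u
open CAlg

namespace Groth.Agent.S2044

open Polynomial in
theorem exists_poly_matrix {A : Type u} [CommRing A] [Nontrivial A] (I : Ideal A) {n : ℕ}
    (M : Matrix (Fin n) (Fin n) A)
    (hM : (M * M - M).map (Ideal.Quotient.mk I) = 0) :
    ∃ (A' : Type u) (_ : CommRing A') (_ : Algebra A A'), Algebra.Etale A A' ∧
      Function.Bijective (algebraMap (A ⧸ I) (A' ⧸ I.map (algebraMap A A'))) ∧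
      ∃ E : Matrix (Fin n) (Fin n) A', IsIdempotentElem E ∧
        E.map (Ideal.Quotient.mk (I.map (algebraMap A A'))) =
          (M.map (Ideal.Quotient.mk I)).map (algebraMap (A ⧸ I) (A' ⧸ I.map (algebraMap A A'))) := by
  set N := M * M - M
  set q := N.charpoly * X with hqdef
  have hc : N.charpoly.map (Ideal.Quotient.mk I) = X ^ n := by
    rw [← Matrix.charpoly_map, hM, Matrix.charpoly_zero, Fintype.card_fin]
  have hq : q.Monic := N.charpoly_monic.mul monic_X
  have hdeg : q.natDegree = n + 1 := by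
    rw [hqdef, N.charpoly_monic.natDegree_mul monic_X, natDegree_X,
      Matrix.charpoly_natDegree_eq_dim, Fintype.card_fin]
  have hqI : ∀ i ≠ q.natDegree, q.coeff i ∈ I := by
    intro i hi
    rw [← Ideal.Quotient.eq_zero_iff_mem, ← coeff_map, hqdef, Polynomial.map_mul, hc, map_X,
      ← pow_succ, coeff_X_pow, if_neg (hdeg ▸ hi)]
  set f := q.comp (X ^ 2 - X) with hfdef
  have hf : f.Monic := by
    refine hq.comp (monic_X_pow_sub (by simp [degree_X])) ?_
    rw [natDegree_sub_eq_left_of_natDegree_lt] <;> simp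
  obtain ⟨A', _, _, het, hbij, p, r, hfp, hpI⟩ :=
    Groth.Agent.CAlgH.EtaleNbhd.exists_idempotent_polynomial I f hf q.natDegree (by omega)
      (Groth.Agent.CAlgH.EtaleNbhd.comp_map_eq I q hq hqI)
  refine ⟨A', inferInstance, inferInstance, het, hbij, ?_⟩
  set M' : Matrix (Fin n) (Fin n) A' := (Algebra.ofId A A').mapMatrix M
  have hfM : aeval M' (f.map (algebraMap A A')) = 0 := by
    rw [aeval_map_algebraMap, aeval_algHom_apply, hfdef, aeval_comp]
    have : aeval M (X ^ 2 - X : A[X]) = N := by simp [N, pow_two]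
    rw [this, hqdef, map_mul, Matrix.aeval_self_charpoly, zero_mul, map_zero]
  refine ⟨aeval M' p, ?_, ?_⟩
  · obtain ⟨s, hs⟩ := hfp
    have := congrArg (aeval M') hs
    rw [map_sub, map_pow, map_mul, hfM, zero_mul, sub_eq_zero, pow_two] at this
    exact this
  · set π : A' →ₐ[A'] A' ⧸ I.map (algebraMap A A') := Ideal.Quotient.mkₐ A' _
    set M'' : Matrix (Fin n) (Fin n) (A' ⧸ I.map (algebraMap A A')) :=
      (M.map (Ideal.Quotient.mk I)).map (algebraMap (A ⧸ I) _)
    have hM'' : π.mapMatrix M' = M'' := by ext i j; rfl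
    have hidem : M'' * M'' = M'' := by
      rw [← sub_eq_zero, ← Matrix.map_mul, ← Matrix.map_mul]
      rw [← Matrix.map_sub _ (by simp), ← Matrix.map_sub _ (by simp), hM,
        Matrix.map_zero _ (map_zero _)]
    change π.mapMatrix (aeval M' p) = M''
    rw [← aeval_algHom_apply, hM'']
    have h0 : aeval M'' (p - X - (X ^ 2 - X) * r) = 0 := by
      rw [← aeval_map_algebraMap (A' ⧸ I.map (algebraMap A A'))]
      have : (p - X - (X ^ 2 - X) * r).map (algebraMap A' (A' ⧸ I.map (algebraMap A A'))) = 0 := by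
        ext i
        rw [coeff_map, coeff_zero, Ideal.Quotient.algebraMap_eq, Ideal.Quotient.eq_zero_iff_mem]
        exact Ideal.mem_map_C_iff.mp hpI i
      rw [this, map_zero]
    simp only [map_sub, map_mul, map_pow, aeval_X, pow_two, hidem, sub_self, zero_mul, sub_zero,
      sub_eq_zero] at h0
    exact h0

theorem nonempty_equiv_of_split {T F P Q : Type*} [CommRing T] [AddCommGroup F] [Module T F]
    [AddCommGroup P] [Module T P] [AddCommGroup Q] [Module T Q]
    (i₁ : P →ₗ[T] F) (p₁ : F →ₗ[T] P) (i₂ : Q →ₗ[T] F) (p₂ : F →ₗ[T] Q)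
    (h₁ : p₁ ∘ₗ i₁ = LinearMap.id) (h₂ : p₂ ∘ₗ i₂ = LinearMap.id) (h : i₁ ∘ₗ p₁ = i₂ ∘ₗ p₂) :
    Nonempty (P ≃ₗ[T] Q) := by
  refine ⟨LinearEquiv.ofLinearMap (p₂ ∘ₗ i₁) (p₁ ∘ₗ i₂) ?_ ?_⟩
  · rw [LinearMap.comp_assoc, ← LinearMap.comp_assoc i₂ p₁ i₁, h, LinearMap.comp_assoc, h₂,
      LinearMap.comp_id, h₂]
  · rw [LinearMap.comp_assoc, ← LinearMap.comp_assoc i₁ p₂ i₂, ← h, LinearMap.comp_assoc, h₁,
      LinearMap.comp_id, h₁]

open TensorProduct in
theorem baseChange_split {S T P : Type*} [CommRing S] [CommRing T] [Algebra S T] [AddCommGroup P]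
    [Module S P] {n : ℕ} (i : P →ₗ[S] (Fin n → S)) (p : (Fin n → S) →ₗ[S] P)
    (h : p ∘ₗ i = LinearMap.id) (E : Matrix (Fin n) (Fin n) S) (hE : i ∘ₗ p = Matrix.toLin' E) :
    ∃ (i' : T ⊗[S] P →ₗ[T] (Fin n → T)) (p' : (Fin n → T) →ₗ[T] T ⊗[S] P),
      p' ∘ₗ i' = LinearMap.id ∧ i' ∘ₗ p' = Matrix.toLin' (E.map (algebraMap S T)) := by
  set e := TensorProduct.piScalarRight S T T (Fin n)
  refine ⟨e.toLinearMap ∘ₗ i.baseChange T, p.baseChange T ∘ₗ e.symm.toLinearMap, ?_, ?_⟩
  · rw [LinearMap.comp_assoc, ← LinearMap.comp_assoc _ _ e.symm.toLinearMap,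
      LinearEquiv.symm_comp, LinearMap.id_comp, ← LinearMap.baseChange_comp, h,
      LinearMap.baseChange_id]
  · rw [LinearMap.comp_assoc, ← LinearMap.comp_assoc _ (p.baseChange T) (i.baseChange T),
      ← LinearMap.baseChange_comp, hE]
    refine LinearMap.pi_ext' fun j => LinearMap.ext_ring (funext fun k => ?_)
    simp [e, TensorProduct.piScalarRight_symm_single, Algebra.smul_def, Matrix.mulVec_single]

open TensorProduct in
/-- Let `I ⊆ A` be an ideal and `P` a finite projective `A/I`-module. Then there is an étale `A`-algebra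
`A'` with `A/I → A'/IA'` bijective and a finite projective `A'`-module whose reduction modulo `IA'`
is the base change of `P`. -/
theorem result {A : Type u} [CommRing A] (I : Ideal A) (P : Type u)
    [AddCommGroup P] [Module (A ⧸ I) P] [Module.Finite (A ⧸ I) P] [Module.Projective (A ⧸ I) P] :
    ∃ (A' : Type u) (_ : CommRing A') (_ : Algebra A A'), Algebra.Etale A A' ∧
      Function.Bijective (algebraMap (A ⧸ I) (A' ⧸ I.map (algebraMap A A'))) ∧
      ∃ (P' : Type u) (_ : AddCommGroup P') (_ : Module A' P'), Module.Finite A' P' ∧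
        Module.Projective A' P' ∧
        Nonempty (((A' ⧸ I.map (algebraMap A A')) ⊗[A'] P') ≃ₗ[A' ⧸ I.map (algebraMap A A')]
          ((A' ⧸ I.map (algebraMap A A')) ⊗[A ⧸ I] P)) := by
  rcases subsingleton_or_nontrivial A with hA | hA
  · refine ⟨A, inferInstance, inferInstance, inferInstance, ?_, PUnit, inferInstance, inferInstance,
      inferInstance, inferInstance, ?_⟩
    · have : Subsingleton (A ⧸ I) := Ideal.Quotient.mk_surjective.subsingleton
      have : Subsingleton (A ⧸ I.map (algebraMap A A)) := Ideal.Quotient.mk_surjective.subsingleton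
      exact ⟨fun x y _ => Subsingleton.elim _ _, fun z => ⟨0, Subsingleton.elim _ _⟩⟩
    · have : Subsingleton (A ⧸ I.map (algebraMap A A)) := Ideal.Quotient.mk_surjective.subsingleton
      have h1 := Module.subsingleton (A ⧸ I.map (algebraMap A A))
        ((A ⧸ I.map (algebraMap A A)) ⊗[A] PUnit.{u + 1})
      have h2 := Module.subsingleton (A ⧸ I.map (algebraMap A A))
        ((A ⧸ I.map (algebraMap A A)) ⊗[A ⧸ I] P)
      exact ⟨{ toFun := fun _ => 0, invFun := fun _ => 0, map_add' := fun _ _ => Subsingleton.elim _ _,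
               map_smul' := fun _ _ => Subsingleton.elim _ _, left_inv := fun _ => Subsingleton.elim _ _,
               right_inv := fun _ => Subsingleton.elim _ _ }⟩
  obtain ⟨n, p, i, -, -, hpi⟩ := Module.Finite.exists_comp_eq_id_of_projective (A ⧸ I) P
  set Eb := LinearMap.toMatrix' (i ∘ₗ p)
  have hEb : Eb * Eb = Eb := by
    rw [← LinearMap.toMatrix'_comp]
    congr 1
    rw [LinearMap.comp_assoc, ← LinearMap.comp_assoc p i p, hpi, LinearMap.id_comp]
  choose M hM using fun a b => Ideal.Quotient.mk_surjective (Eb a b)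
  have hMmap : (Matrix.of M).map (Ideal.Quotient.mk I) = Eb := by ext a b; exact hM a b
  obtain ⟨A', _, _, het, hbij, E, hE, hEI⟩ := exists_poly_matrix I (Matrix.of M) (by
    rw [Matrix.map_sub _ (by simp), Matrix.map_mul, hMmap, hEb, sub_self])
  refine ⟨A', inferInstance, inferInstance, het, hbij, ↥(LinearMap.range (Matrix.toLin' E)),
    inferInstance, inferInstance, inferInstance, ?_, ?_⟩
  all_goals
    set L := Matrix.toLin' E with hL
    have hLL : L ∘ₗ L = L := by rw [hL, ← Matrix.toLin'_mul, hE.eq]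
    have hri : L.rangeRestrict ∘ₗ (LinearMap.range L).subtype = LinearMap.id := by
      refine LinearMap.ext fun x => Subtype.ext ?_
      obtain ⟨_, y, rfl⟩ := x
      exact LinearMap.congr_fun hLL y
  · exact Module.Projective.of_split _ _ hri
  · obtain ⟨i₁, p₁, h₁, h₁'⟩ := baseChange_split (T := A' ⧸ I.map (algebraMap A A'))
      (LinearMap.range L).subtype L.rangeRestrict hri E (by ext1; rfl)
    obtain ⟨i₂, p₂, h₂, h₂'⟩ := baseChange_split (T := A' ⧸ I.map (algebraMap A A'))
      i p hpi Eb (Matrix.toLin'_toMatrix' _).symm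
    refine nonempty_equiv_of_split i₁ p₁ i₂ p₂ h₁ h₂ ?_
    rw [h₁', h₂', Ideal.Quotient.algebraMap_eq, hEI, hMmap]

end Groth.Agent.S2044
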