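import Groth.Statements.S2046
import Groth.Agent.CAlgAndre.Henselization

set_option autoImplicit false
universe u
open CAlg

namespace Groth.Agent.S2046

/-- If `R` is a Noetherian local G-ring then its strict henselization is a G-ring. -/
theorem result {R S : Type u} [CommRing R] [IsLocalRing R] [IsNoetherianRing R]
    (hR : CAlg.IsGRing R) [CommRing S] [IsLocalRing S] [Algebra R S] [IsLocalHom (algebraMap R S)]
    [Hensel.IsStrictHenselization R S] : CAlg.IsGRing S := by
  haveI := Groth.Agent.Hensel.strictHenselization_isNoetherianRing (R := R) (S := S)
  obtain ⟨e, -⟩ := Groth.Agent.Hensel.exists_algEquiv_hens_strict (R := R) (S := S)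
  haveI := (Hensel.IsStrictHenselization.isSepClosure (R := R) (S := S)).separable
  exact Groth.Agent.CAlgAndre.isGRing_of_unramified hR e
    (Groth.Agent.CAlgAndre.discrete_of_separable (Groth.Agent.Hensel.strictHenselization_map_maximalIdeal (R := R) (S := S)))

end Groth.Agent.S2046
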