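import Groth.Statements.S2049
import Mathlib
import Groth.Agent.PruferCoh.Main

set_option autoImplicit false
universe u
open CAlg

namespace Groth.Agent.S2049

/-- Let `A` be a valuation ring, `A → B` a local homomorphism of local rings essentially of finite type,
and `M` a finite `B`-module which is flat over `A`. Then `M` is finitely presented over `B`. -/
theorem result {A B M : Type u} [CommRing A] [IsDomain A]
    [ValuationRing A] [CommRing B] [IsLocalRing B] [Algebra A B] [IsLocalHom (algebraMap A B)]
    [Algebra.EssFiniteType A B] [AddCommGroup M] [Module B M] [Module A M] [IsScalarTower A B M]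
    [Module.Finite B M] [Module.Flat A M] : Module.FinitePresentation B M := by
  classical
  have hA : ∀ (p : Ideal A) [p.IsPrime], ValuationRing (Localization.AtPrime p) := fun p _ =>
    ValuationRing.iff_dvd_total.2 ⟨fun a b => by
      obtain ⟨a, sa, rfl⟩ := IsLocalization.exists_mk'_eq p.primeCompl a
      obtain ⟨b, sb, rfl⟩ := IsLocalization.exists_mk'_eq p.primeCompl b
      rw [IsLocalization.mk'_eq_mul_mk'_one a sa, IsLocalization.mk'_eq_mul_mk'_one b sb]
      have hu : ∀ s : p.primeCompl, IsUnit (IsLocalization.mk' (Localization.AtPrime p) 1 s) :=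
        fun s => IsUnit.of_mul_eq_one _ (IsLocalization.mk'_spec' _ (1 : A) s |>.trans (map_one _) |> (mul_comm _ _).trans)
      rw [(hu sb).dvd_mul_right, (hu sa).dvd_mul_right]
      rcases (ValuationRing.iff_dvd_total.1 ‹ValuationRing A›).total a b with h | h
      · exact Or.inl ((hu sa).mul_right_dvd.2 (map_dvd _ h))
      · exact Or.inr ((hu sb).mul_right_dvd.2 (map_dvd _ h))⟩
  let C0 := Algebra.EssFiniteType.subalgebra A B
  let S0 : Submonoid C0 := Algebra.EssFiniteType.submonoid A B
  obtain ⟨n, φ, hφ⟩ := Algebra.FiniteType.iff_quotient_mvPolynomial''.1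
    (inferInstance : Algebra.FiniteType A C0)
  obtain ⟨G, hG⟩ := Module.Finite.fg_top (R := B) (M := M)
  let M0 : Submodule C0 M := Submodule.span C0 (G : Set M)
  haveI : Module.Finite C0 M0 := Module.Finite.span_of_finite C0 G.finite_toSet
  algebraize [φ.toRingHom]
  letI : Module (MvPolynomial (Fin n) A) M0 := Module.compHom M0 φ.toRingHom
  haveI : IsScalarTower (MvPolynomial (Fin n) A) C0 M0 := IsScalarTower.of_algebraMap_smul fun _ _ => rfl
  haveI : Module.Finite (MvPolynomial (Fin n) A) C0 := Module.Finite.of_surjective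
    (Algebra.linearMap (MvPolynomial (Fin n) A) C0) hφ
  haveI : Module.Finite (MvPolynomial (Fin n) A) M0 := Module.Finite.trans C0 M0
  haveI : Module.FinitePresentation (MvPolynomial (Fin n) A) M0 :=
    PruferCoh.finitePresentation_of_torsionFree hA M0 fun c x hc hx => by
      have h1 : ((φ (MvPolynomial.C c) : C0) • (x : M)) = 0 := congrArg Subtype.val hx
      rw [← MvPolynomial.algebraMap_eq, φ.commutes, algebraMap_smul] at h1
      exact Subtype.ext (Module.Flat.isSMulRegular_of_isRegular (M := M) (IsRegular.of_ne_zero hc)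
        (by simpa using h1))
  haveI : Module.FinitePresentation C0 M0 := by
    refine FinitePresentation.of_isBaseChange (R := MvPolynomial (Fin n) A) (A := C0)
      (LinearMap.id : M0 →ₗ[MvPolynomial (Fin n) A] M0) ?_
    refine IsBaseChange.of_lift_unique _ fun Q _ _ _ _ g => ?_
    let G' : M0 →ₗ[C0] Q :=
      { toFun := g
        map_add' := g.map_add
        map_smul' := fun a x => by
          obtain ⟨a, rfl⟩ := hφ a
          show g (algebraMap _ C0 a • x) = algebraMap _ C0 a • g x
          rw [algebraMap_smul, algebraMap_smul, map_smul] }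
    exact ⟨G', LinearMap.ext fun _ => rfl, fun G'' h => LinearMap.ext fun x => LinearMap.congr_fun h x⟩
  have hunit : ∀ s : S0, IsUnit ((s : C0) : B) := fun s => IsLocalization.map_units B s
  have hloc : IsLocalizedModule S0 M0.subtype := by
    refine ⟨fun s => ?_, fun y => ?_, fun {x₁ x₂} h => ⟨1, by simpa using Subtype.ext h⟩⟩
    · refine (Module.End.isUnit_iff _).2 ⟨fun a b hab => ?_, fun z => ⟨(hunit s).unit⁻¹.1 • z, ?_⟩⟩
      · simp only [Module.algebraMap_end_apply] at hab
        exact (hunit s).smul_left_cancel.1 hab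
      · simp only [Module.algebraMap_end_apply]
        show ((s : C0) : B) • _ = z
        rw [smul_smul, IsUnit.mul_val_inv, one_smul]
    · have hy : y ∈ Submodule.span B (G : Set M) := hG.ge Submodule.mem_top
      induction hy using Submodule.span_induction with
      | mem g hg => exact ⟨⟨⟨g, Submodule.subset_span hg⟩, 1⟩, one_smul _ _⟩
      | zero => exact ⟨⟨0, 1⟩, by simp⟩
      | add a b _ _ ha hb =>
        obtain ⟨⟨a', s⟩, ha⟩ := ha
        obtain ⟨⟨b', t⟩, hb⟩ := hb
        refine ⟨⟨(t : C0) • a' + (s : C0) • b', s * t⟩, ?_⟩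
        simp only [Submonoid.smul_def, Submodule.subtype_apply, Submodule.coe_add, Submodule.coe_smul] at ha hb ⊢
        rw [← ha, ← hb, Submonoid.coe_mul, smul_add, mul_smul, mul_smul, smul_comm (t : C0) (s : C0)]
      | smul b a _ ha =>
        obtain ⟨⟨a', s⟩, ha⟩ := ha
        obtain ⟨⟨c, t⟩, hc⟩ := IsLocalization.surj S0 b
        refine ⟨⟨c • a', s * t⟩, ?_⟩
        simp only [Submonoid.smul_def, Submodule.subtype_apply, Submodule.coe_smul] at ha ⊢
        rw [← ha, ← algebraMap_smul B c, ← algebraMap_smul B (s : C0) a, ← hc,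
          ← algebraMap_smul B ((s * t : S0) : C0), Submonoid.coe_mul, map_mul, smul_smul, smul_smul]
        congr 1
        ring
  haveI := hloc
  exact FinitePresentation.of_isBaseChange (R := C0) (A := B) M0.subtype
    (IsLocalizedModule.isBaseChange S0 B M0.subtype)

end Groth.Agent.S2049
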