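import Groth.Statements.S2053
import Groth.Agent.CAlgPres.Basic

set_option autoImplicit false
universe u
open CAlg

namespace Groth.Agent.S2053

/-- Consider a local homomorphism `A → B` between complete Noetherian local rings. Then there are power
series rings `R`, `S` in finitely many variables over coefficient rings which are both fields (when
the residue characteristic of `A` is zero) or both Cohen rings (when it is positive), surjections `R
→ A`, `S → B` and a ring map `R → S` making the square commute, such that `R → S` is flat and `S/𝔪_R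
S` is a regular ring. (The published statement also arranges that a regular system of parameters
maps into one; that is not asserted here.) -/
theorem result {A B : Type u} [CommRing A] [CommRing B]
    [IsLocalRing A] [IsLocalRing B] [IsNoetherianRing A] [IsNoetherianRing B]
    [IsAdicComplete (IsLocalRing.maximalIdeal A) A] [IsAdicComplete (IsLocalRing.maximalIdeal B) B]
    [Algebra A B] [IsLocalHom (algebraMap A B)] :
    ∃ (Λ Λ' : Type u) (_ : CommRing Λ) (_ : CommRing Λ') (_ : IsLocalRing Λ) (n m : ℕ)
      (ρ : MvPowerSeries (Fin n) Λ →+* A) (σ : MvPowerSeries (Fin m) Λ' →+* B)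
      (τ : MvPowerSeries (Fin n) Λ →+* MvPowerSeries (Fin m) Λ'),
      ((CharZero (IsLocalRing.ResidueField A) ∧ IsField Λ ∧ IsField Λ') ∨
        (¬ CharZero (IsLocalRing.ResidueField A) ∧ CAlg.IsCohenRing Λ ∧ CAlg.IsCohenRing Λ')) ∧
        Function.Surjective ρ ∧ Function.Surjective σ ∧ σ.comp τ = (algebraMap A B).comp ρ ∧
        τ.Flat ∧ IsRegularRing (MvPowerSeries (Fin m) Λ' ⧸
          (IsLocalRing.maximalIdeal (MvPowerSeries (Fin n) Λ)).map τ) := by
  classical
  by_cases h0 : CharZero (IsLocalRing.ResidueField A)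
  · haveI := h0
    haveI : CharZero (IsLocalRing.ResidueField B) :=
      charZero_of_injective_ringHom (RingHom.injective (IsLocalRing.ResidueField.map (algebraMap A B)))
    obtain ⟨sA, hsA⟩ := Groth.Agent.CAlgCohen.exists_coefficientField A fun p hp h =>
      absurd (Nat.cast_eq_zero.1 h) hp.ne_zero
    obtain ⟨sB, hsB⟩ := Groth.Agent.CAlgCohen.exists_coefficientField B fun p hp h =>
      absurd (Nat.cast_eq_zero.1 h) hp.ne_zero
    have hmax : ∀ (K : Type u) [Field K], IsLocalRing.maximalIdeal K = Ideal.span {((0 : ℕ) : K)} := fun K _ => by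
      rw [Nat.cast_zero, Ideal.span_singleton_zero, IsLocalRing.isField_iff_maximalIdeal_eq.1 (Field.toIsField K)]
    haveI : IsAdicComplete (IsLocalRing.maximalIdeal (IsLocalRing.ResidueField B)) (IsLocalRing.ResidueField B) := by
      rw [IsLocalRing.isField_iff_maximalIdeal_eq.1 (Field.toIsField _)]; infer_instance
    obtain ⟨n, m, ρ, σ, τ, h⟩ := Groth.Agent.CAlgPres.exists_presentation (A := A) (B := B)
      (Λ := IsLocalRing.ResidueField A) (Λ' := IsLocalRing.ResidueField B)
      (.inl ⟨Field.toIsField _, inferInstance⟩)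
      (by rw [ringKrullDim_eq_zero_of_isField (Field.toIsField _), ringKrullDim_eq_zero_of_isField (Field.toIsField _)])
      0 (hmax _) (hmax _) sA (fun x => ⟨x, RingHom.congr_fun hsA x⟩) sB (fun x => ⟨x, RingHom.congr_fun hsB x⟩)
    exact ⟨_, _, inferInstance, inferInstance, inferInstance, n, m, ρ, σ, τ,
      .inl ⟨h0, Field.toIsField _, Field.toIsField _⟩, h⟩
  · obtain ⟨p, hchar⟩ := CharP.exists (IsLocalRing.ResidueField A)
    rcases CharP.char_is_prime_or_zero (IsLocalRing.ResidueField A) p with hp | rfl
    swap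
    · exact absurd (CharP.charP_to_charZero _) h0
    haveI := Fact.mk hp
    haveI := hchar
    haveI : CharP (IsLocalRing.ResidueField B) p :=
      charP_of_injective_ringHom (RingHom.injective (IsLocalRing.ResidueField.map (algebraMap A B))) p
    obtain ⟨Λ, _, _, _, φA, hc, hm, hφA⟩ := Groth.Agent.CAlgCohen.exists_cohen_map A p
    obtain ⟨Λ', _, _, _, φB, hc', hm', hφB⟩ := Groth.Agent.CAlgCohen.exists_cohen_map B p
    haveI := hc'
    have hC : CAlg.IsCohenRing Λ := ⟨inferInstance, inferInstance, hc, p, hp, hm⟩
    obtain ⟨n, m, ρ, σ, τ, h⟩ := Groth.Agent.CAlgPres.exists_presentation (A := A) (B := B)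
      (Λ := Λ) (Λ' := Λ') (.inr hC)
      (by rw [IsPrincipalIdealRing.ringKrullDim_eq_one Λ (IsDiscreteValuationRing.not_isField Λ),
        IsPrincipalIdealRing.ringKrullDim_eq_one Λ' (IsDiscreteValuationRing.not_isField Λ')])
      p hm hm' φA hφA φB hφB
    exact ⟨Λ, Λ', inferInstance, inferInstance, inferInstance, n, m, ρ, σ, τ,
      .inr ⟨h0, hC, ⟨inferInstance, inferInstance, hc', p, hp, hm'⟩⟩, h⟩

end Groth.Agent.S2053
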