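import Groth.Statements.S2065
import Groth.Agent.McCoy.BENec

set_option autoImplicit false
universe u
open CAlg

namespace Groth.Agent.S2065

/-- Let `R` be a Noetherian local ring and `0 → R^{n_e} → … → R^{n_1} → R^{n_0}` a complex of finite
free modules, the map `R^{n_{i+1}} → R^{n_i}` being given by the matrix `A i`. The complex is exact
at `R^{n_e}, …, R^{n_1}` if and only if for each `1 ≤ j ≤ e` the matrix of `R^{n_j} → R^{n_{j-1}}`
has rank `n_j - n_{j+1} + … ± n_e` and its ideal of minors of that size is the unit ideal or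
contains a regular sequence of length `j`. -/
theorem result {R : Type u} [CommRing R] [IsLocalRing R] [IsNoetherianRing R]
    (e : ℕ) (he : 1 ≤ e) (n : ℕ → ℕ) (A : (i : ℕ) → Matrix (Fin (n i)) (Fin (n (i + 1))) R)
    (hA : ∀ i, i + 2 ≤ e → A i * A (i + 1) = 0) :
    (LinearMap.ker (A (e - 1)).mulVecLin = ⊥ ∧
        ∀ i, i + 2 ≤ e → LinearMap.ker (A i).mulVecLin = LinearMap.range (A (i + 1)).mulVecLin) ↔
      ∀ j, 1 ≤ j → j ≤ e →
        (CAlgX.matrixRank (A (j - 1)) : ℤ) = ∑ t ∈ Finset.Icc j e, (-1 : ℤ) ^ (t - j) * (n t : ℤ) ∧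
          (CAlgX.detIdeal (A (j - 1)) = ⊤ ∨
            ∃ rs : List R, rs.length = j ∧ (∀ r ∈ rs, r ∈ CAlgX.detIdeal (A (j - 1))) ∧
              RingTheory.Sequence.IsRegular R rs) := by
  classical
  rw [← Groth.Agent.McCoy.isExact_iff e n A he]
  constructor
  · intro h j hj1 hje
    obtain ⟨r, hr, hbot, hann⟩ := Groth.Agent.McCoy.exists_rank_of_isExact e n A h
      (show j - 1 < e by omega)
    have hne0 : CAlgX.minorIdeal (A (j - 1)) r ≠ ⊥ := by
      intro hb
      rw [hb, Submodule.annihilator_bot] at hann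
      exact top_ne_bot hann
    have hrk := Groth.Agent.McCoy.matrixRank_eq (A (j - 1)) hbot hne0
    refine ⟨by rw [hrk, hr, Groth.Agent.McCoy.sum_Icc_eq_rk e n hj1], ?_⟩
    rw [CAlgX.detIdeal, hrk]
    by_cases htop : CAlgX.minorIdeal (A (j - 1)) r = ⊤
    · exact Or.inl htop
    right
    have hd := Groth.Agent.McCoy.le_idealDepth_of_isExact e n A h (show j - 1 < e by omega) hr htop
    have hne' := Groth.Agent.Depth.smul_top_ne_top_self htop
    obtain ⟨rs, h1, h2, h3⟩ := (Groth.Agent.Depth.le_idealDepth_iff_exists hne').1 hd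
    exact ⟨rs, by omega, h2, Groth.Agent.Depth.isRegular_of_isWeaklyRegular hne' h3 h2⟩
  · intro h
    refine Groth.Agent.McCoy.isExact_of_rank e n A hA (fun i => CAlgX.matrixRank (A i))
      (fun i hi => ?_) (fun i _ => Groth.Agent.McCoy.minorIdeal_rank_succ _) (fun i hi => ?_)
    · have := (h (i + 1) (by omega) hi).1
      rw [Groth.Agent.McCoy.sum_Icc_eq_rk e n (by omega)] at this
      exact this
    · rcases (h (i + 1) (by omega) hi).2 with h' | ⟨rs, h1, h2, h3⟩
      · exact Or.inl h'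
      · exact Or.inr ⟨rs, h1, h2, h3.toIsWeaklyRegular⟩

end Groth.Agent.S2065
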