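import Groth.Statements.S2076
import Groth.Agent.LimSch.Sections
import Groth.Agent.LimSch.DescendsCores
import Mathlib.CategoryTheory.Limits.Constructions.Over.Connected
import Mathlib.AlgebraicGeometry.Morphisms.ClosedImmersion

set_option autoImplicit false
universe u


open CategoryTheory AlgebraicGeometry in
theorem Groth.Agent.S2076.isClosedImmersion_restrict_of_appLE {X Y : Scheme.{u}} (f : X ⟶ Y) {D : Y.Opens} {W : X.Opens}
    (hD : IsAffineOpen D) (hW : IsAffineOpen W) (e : f ⁻¹ᵁ D = W)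
    (h : Function.Surjective (f.appLE D W e.ge)) : IsClosedImmersion (f ∣_ D) := by
  haveI : IsAffine (D : Scheme.{u}) := hD
  rw [HasAffineProperty.iff_of_isAffine (P := @IsClosedImmersion)]
  refine ⟨show IsAffineOpen (f ⁻¹ᵁ D) from e ▸ hW, ?_⟩
  subst e
  rw [← Scheme.Hom.app_eq_appLE] at h
  rw [morphismRestrict_appTop]
  refine (ConcreteCategory.bijective_of_isIso (X.presheaf.map (eqToHom (image_morphismRestrict_preimage f D ⊤)).op)).2.comp ?_
  have key : ∀ D' : Y.Opens, D' = D → Function.Surjective (f.app D') := by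
    rintro _ rfl; exact h
  exact key _ D.ι_image_top

open CategoryTheory AlgebraicGeometry
open Lim

namespace Groth.Agent.S2076

/-- Let `X = lim X_i` be a cofiltered limit of quasi-compact schemes over `S` with affine transition
morphisms and `h : Y → X` a closed immersion with `Y → S` locally of finite type. Then `Y → X_i` is
a closed immersion for some `i`. -/
theorem result {I : Type u} [SmallCategory I] [IsCofiltered I] (S : Scheme.{u})
    (D : I ⥤ Over S) (c : Limits.Cone D) (hc : Limits.IsLimit c)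
    [∀ (i j : I) (f : i ⟶ j), IsAffineHom (D.map f).left] [∀ i, CompactSpace (D.obj i).left]
    {Y : Scheme.{u}} (h : Y ⟶ c.pt.left) [IsClosedImmersion h] [LocallyOfFiniteType (h ≫ c.pt.hom)] :
    ∃ i : I, IsClosedImmersion (h ≫ (c.π.app i).left) := by
  classical
  haveI := IsCofiltered.isConnected I
  let D' : I ⥤ Scheme.{u} := D ⋙ Over.forget S
  let c' : Limits.Cone D' := (Over.forget S).mapCone c
  have hc' : Limits.IsLimit c' := Limits.isLimitOfPreserves (Over.forget S) hc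
  haveI : ∀ (i j : I) (f : i ⟶ j), IsAffineHom (D'.map f) := fun i j f =>
    (inferInstance : IsAffineHom (D.map f).left)
  haveI haff : ∀ {i j : I} (f : i ⟶ j), IsAffineHom (D'.map f) := fun f => inferInstance
  obtain ⟨i₀⟩ := IsCofiltered.nonempty (C := I)
  let X := fun i => (D.obj i).left
  -- charts
  have hch : ∀ x : X i₀, ∃ V : (X i₀).affineOpens, x ∈ V.1 ∧ ∃ U : S.affineOpens, V.1 ≤ (D.obj i₀).hom ⁻¹ᵁ U.1 := by
    intro x
    obtain ⟨U, hU, hxU, -⟩ := exists_isAffineOpen_mem_and_subset (U := (⊤ : S.Opens)) (x := (D.obj i₀).hom x) trivial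
    obtain ⟨V, hV, hxV, hVU⟩ := exists_isAffineOpen_mem_and_subset (U := (D.obj i₀).hom ⁻¹ᵁ U) hxU
    exact ⟨⟨V, hV⟩, hxV, ⟨U, hU⟩, hVU⟩
  choose V hxV U hVU using hch
  obtain ⟨T, hT⟩ := isCompact_univ.elim_finite_subcover (fun x => ((V x).1 : Set (X i₀)))
    (fun x => (V x).1.2) (fun x _ => Set.mem_iUnion.mpr ⟨x, hxV x⟩)
  let g := fun j => h ≫ (c.π.app j).left
  have hpre : ∀ (W : (X i₀).Opens) {j : I} (φ : j ⟶ i₀),
      g j ⁻¹ᵁ ((D.map φ).left ⁻¹ᵁ W) = g i₀ ⁻¹ᵁ W := by
    intro W j φ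
    simp only [g, ← Scheme.Hom.comp_preimage, Category.assoc, ← Over.comp_left, c.w]
  obtain ⟨k, φ, hk⟩ := Groth.Agent.LimSch.exists_stage_forall (i := i₀) T
    (fun x j φ => Function.Surjective ((g j).appLE ((D.map φ).left ⁻¹ᵁ (V x).1) (g i₀ ⁻¹ᵁ (V x).1) (hpre _ φ).ge))
    (fun x j k φ ψ hs b => by
      obtain ⟨a, rfl⟩ := hs b
      refine ⟨(D.map ψ).left.appLE _ ((D.map (ψ ≫ φ)).left ⁻¹ᵁ (V x).1)
        (by rw [← Scheme.Hom.comp_preimage, ← Over.comp_left, ← D.map_comp]) a, ?_⟩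
      rw [← CommRingCat.comp_apply]
      exact congr($(Groth.Agent.LimSch.appLE_comp' (g := g k) (f := (D.map ψ).left) (h := g j)
        (by simp only [g, Category.assoc, ← Over.comp_left, c.w]) _ _ _) a))
    (fun x _ => by
      let W : c.pt.left.Opens := (c.π.app i₀).left ⁻¹ᵁ (V x).1
      have hW : IsAffineOpen W := @IsAffineOpen.preimage _ _ _ (V x).2 (c'.π.app i₀) (isAffineHom_π_app _ _ hc' i₀)
      have hWY : IsAffineOpen (g i₀ ⁻¹ᵁ (V x).1) := hW.preimage h
      have hsurj : Function.Surjective (h.app W) := h.app_surjective W hW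
      have e : g i₀ ⁻¹ᵁ (V x).1 ≤ (h ≫ c.pt.hom) ⁻¹ᵁ (U x).1 := by
        rw [show h ≫ c.pt.hom = g i₀ ≫ (D.obj i₀).hom from by simp only [g, Category.assoc, Over.w]; rfl, Scheme.Hom.comp_preimage]
        exact (g i₀).preimage_mono (hVU x)
      obtain ⟨G, hG⟩ := ((h ≫ c.pt.hom).finiteType_appLE (U x).2 hWY e).out
      choose s hs using fun b => hsurj b
      haveI : CompactSpace (V x).1.toScheme := isCompact_iff_compactSpace.mp (V x).2.isCompact
      haveI : IsAffine (V x).1.toScheme := (V x).2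
      obtain ⟨j, φ, hj⟩ := Groth.Agent.LimSch.exists_stage_forall (i := i₀) G
        (fun b j φ => ∃ t, (g j).appLE ((D.map φ).left ⁻¹ᵁ (V x).1) (g i₀ ⁻¹ᵁ (V x).1) (hpre _ φ).ge t = b)
        (fun b j k φ ψ ⟨t, ht⟩ => by
          refine ⟨(D.map ψ).left.appLE _ ((D.map (ψ ≫ φ)).left ⁻¹ᵁ (V x).1)
            (by rw [← Scheme.Hom.comp_preimage, ← Over.comp_left, ← D.map_comp]) t, ?_⟩
          rw [← ht, ← CommRingCat.comp_apply]
          exact congr($(Groth.Agent.LimSch.appLE_comp' (g := g k) (f := (D.map ψ).left) (h := g j)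
            (by simp only [g, Category.assoc, ← Over.comp_left, c.w]) _ _ _) t))
        (fun b _ => by
          obtain ⟨j, φ, t, ht⟩ := Groth.Agent.LimSch.exists_appLE_eq hc' (i := i₀) (U := (V x).1) (s b)
          refine ⟨j, φ, t, ?_⟩
          have h3 := congr(h.app W $ht)
          refine Eq.trans ?_ (h3.trans (hs b))
          rw [Scheme.Hom.app_eq_appLE]
          exact congr($((Groth.Agent.LimSch.appLE_comp' (g := h) (f := (c.π.app j).left) (h := g j) rfl _ _ _).symm) t))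
      refine ⟨j, φ, fun b => ?_⟩
      let R := ((g j).appLE ((D.map φ).left ⁻¹ᵁ (V x).1) (g i₀ ⁻¹ᵁ (V x).1) (hpre _ φ).ge).hom.range
      letI := ((h ≫ c.pt.hom).appLE (U x).1 (g i₀ ⁻¹ᵁ (V x).1) e).hom.toAlgebra
      have hb : b ∈ Algebra.adjoin Γ(S, (U x).1) (G : Set Γ(Y, g i₀ ⁻¹ᵁ (V x).1)) := hG ▸ trivial
      show b ∈ R
      induction hb using Algebra.adjoin_induction with
      | mem a ha => exact hj a ha
      | algebraMap r =>
        refine ⟨(D.obj j).hom.appLE (U x).1 ((D.map φ).left ⁻¹ᵁ (V x).1) ?_ r, ?_⟩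
        · rw [← Over.w (D.map φ), Scheme.Hom.comp_preimage]
          exact (D.map φ).left.preimage_mono (hVU x)
        · rw [← CommRingCat.comp_apply]
          exact congr($(Groth.Agent.LimSch.appLE_comp' (g := g j) (f := (D.obj j).hom) (h := h ≫ c.pt.hom)
            (by simp only [g, Category.assoc, Over.w]; rfl) _ _ _) r)
      | add p q _ _ hp hq => exact add_mem hp hq
      | mul p q _ _ hp hq => exact mul_mem hp hq)
  refine ⟨k, IsZariskiLocalAtTarget.of_iSup_eq_top (fun x : T => (D.map φ).left ⁻¹ᵁ (V x.1).1) ?_ fun x => ?_⟩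
  · rw [← Scheme.Hom.preimage_iSup]
    convert Scheme.Hom.preimage_top _
    refine top_le_iff.mp fun z _ => ?_
    obtain ⟨x, hx, hz⟩ := Set.mem_iUnion₂.mp (hT (Set.mem_univ z))
    exact TopologicalSpace.Opens.mem_iSup.mpr ⟨⟨x, hx⟩, hz⟩
  · exact isClosedImmersion_restrict_of_appLE (g k) ((V x.1).2.preimage (D.map φ).left)
      (@IsAffineOpen.preimage _ _ _ (@IsAffineOpen.preimage _ _ _ (V x.1).2 (c'.π.app i₀) (isAffineHom_π_app _ _ hc' i₀)) h (inferInstanceAs (IsAffineHom h))) (hpre _ φ) (hk x.1 x.2)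

end Groth.Agent.S2076
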