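import Groth.Statements.S9682
import Groth.Agent.FlatMorLib.FiberPoints
import Groth.Agent.Birat.Generic


set_option autoImplicit false
universe u
open CategoryTheory CategoryTheory.Limits AlgebraicGeometry
open Mor

namespace Groth.Agent.S9682

/-- Take f : X ⟶ Y locally of finite type and η the generic point of some irreducible component of Y.
Three conditions turn out to coincide: (1) each point of X mapping to η is the generic point of some
irreducible component of X; (2) f is quasi-finite at every point over η; (3) f is quasi-finite at
each point over η that is generic in some irreducible component of X. Stated as (1) iff (2) together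
with (1) iff (3). -/
theorem result {X Y : Scheme.{u}} (f : X ⟶ Y)
    [LocallyOfFiniteType f] (η : Y) (hη : closure {η} ∈ irreducibleComponents ↥Y) :
    ((∀ x : X, f.base x = η → closure {x} ∈ irreducibleComponents ↥X) ↔
      (∀ x : X, f.base x = η → f.QuasiFiniteAt x)) ∧
    ((∀ x : X, f.base x = η → closure {x} ∈ irreducibleComponents ↥X) ↔
      (∀ x : X, f.base x = η → closure {x} ∈ irreducibleComponents ↥X → f.QuasiFiniteAt x)) := by
  have hmax : ∀ x : X, closure {x} ∈ irreducibleComponents ↥X → ∀ y : X, y ⤳ x → y = x :=
    fun x hx y hy => Groth.Agent.Birat.eq_of_specializes_max hx hy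
  have h12 : (∀ x : X, f.base x = η → closure {x} ∈ irreducibleComponents ↥X) →
      ∀ x : X, f.base x = η → f.QuasiFiniteAt x := by
    intro h x hx
    rw [Groth.Agent.FlatMorLib.quasiFiniteAt_iff_isClosed_and_maximal]
    have hz : ∀ z w : f.fiber (f x), z ⤳ w → z = w := by
      intro z w hzw
      apply (f.fiberι (f x)).isEmbedding.injective
      refine hmax _ (h _ ?_) _ (hzw.map (f.fiberι (f x)).base.hom.continuous)
      have : (f.fiberι (f x)).base w ∈ f ⁻¹' {f x} := by
        rw [← f.range_fiberι]; exact ⟨w, rfl⟩
      exact (Set.mem_singleton_iff.mp this).trans hx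
    refine ⟨?_, fun x' hx' => hz _ _ hx'⟩
    rw [← closure_subset_iff_isClosed]
    exact fun w hw => Set.mem_singleton_iff.mpr (hz _ _ (specializes_iff_mem_closure.mpr hw)).symm
  have h31 : (∀ x : X, f.base x = η → closure {x} ∈ irreducibleComponents ↥X → f.QuasiFiniteAt x) →
      ∀ x : X, f.base x = η → closure {x} ∈ irreducibleComponents ↥X := by
    intro h x hx
    obtain ⟨x', hx', hx'x⟩ := Groth.Agent.Birat.exists_max_specializes x
    have hfx' : f.base x' = η := by
      refine Groth.Agent.Birat.eq_of_specializes_max hη ?_
      rw [← hx]; exact hx'x.map f.base.hom.continuous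
    have hcl := ((Groth.Agent.FlatMorLib.quasiFiniteAt_iff_isClosed_and_maximal f x').mp (h x' hfx' hx')).1
    suffices x = x' by rw [this]; exact hx'
    obtain ⟨w, hw⟩ : ∃ w, f.fiberι (f x') w = x := by
      have : x ∈ Set.range (f.fiberι (f x')) := by
        rw [f.range_fiberι]; exact hx.trans hfx'.symm
      exact this
    have h2 : f.asFiber x' ⤳ w := by
      refine (f.fiberι (f x')).isEmbedding.isInducing.specializes_iff.mp ?_
      rw [hw, f.fiberι_asFiber]; exact hx'x
    have h3 : w = f.asFiber x' := Set.mem_singleton_iff.mp (hcl.closure_subset h2.mem_closure)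
    rw [← hw, h3, f.fiberι_asFiber]
  exact ⟨⟨h12, fun h => h31 fun x hx _ => h x hx⟩, ⟨fun h x hx _ => h12 h x hx, h31⟩⟩

end Groth.Agent.S9682
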