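import Groth.Statements.S2080
import Groth.Agent.GenFinite.Basic
import Groth.Agent.S9682


set_option autoImplicit false
universe u
open CategoryTheory AlgebraicGeometry
open Mor

namespace Groth.Agent.S2080

/-- Let `f : X → Y` be locally of finite type, quasi-compact and quasi-separated, and `η` a generic
point of an irreducible component of `Y`. Then `f⁻¹{η}` is finite if and only if there is an affine
open `V ∋ η` such that `f⁻¹(V) → V` is finite. -/
theorem result {X Y : Scheme.{u}} (f : X ⟶ Y) [LocallyOfFiniteType f]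
    [QuasiCompact f] [QuasiSeparated f] (η : Y) (hη : closure {η} ∈ irreducibleComponents (Y : Type u)) :
    (f.base ⁻¹' {η}).Finite ↔ ∃ V : Y.Opens, IsAffineOpen V ∧ η ∈ V ∧ IsFinite (f ∣_ V) := by
  constructor
  swap
  · rintro ⟨V, hV, hηV, hfinite⟩
    exact Groth.Agent.GenFinite.finite_fibre_of_isFinite_restrict f η hηV
  intro hfin
  have hqf : ∀ x : X, f.base x = η → f.QuasiFiniteAt x := by
    intro x hx
    haveI : Finite (f.fiber (f.base x)) := (f.fiberHomeo (f.base x)).finite_iff.mpr (by rw [hx]; exact hfin)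
    exact Scheme.Hom.quasiFiniteAt_iff_isOpen_singleton_asFiber.mpr (isOpen_discrete _)
  have hmax : ∀ x : X, f.base x = η → closure {x} ∈ irreducibleComponents ↥X :=
    (Groth.Agent.S9682.result f η hη).1.mpr hqf
  obtain ⟨_, ⟨V, hV, rfl⟩, hηV, -⟩ :=
    Y.isBasis_affineOpens.exists_subset_of_mem_open (Set.mem_univ η) isOpen_univ
  haveI : IsAffine (V : Scheme.{u}) := hV
  haveI : QuasiSeparated (f ∣_ V) := inferInstance
  haveI : QuasiSeparatedSpace ((f ⁻¹ᵁ V : X.Opens) : Scheme.{u}) := quasiSeparatedSpace_of_quasiSeparated (f ∣_ V)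
  have hmax' : ∀ x : ((f ⁻¹ᵁ V : X.Opens) : Scheme.{u}), f.base x.1 = η → x ∈ Groth.Agent.Birat.Max _ := by
    intro x hx
    obtain ⟨z, hz, hzx⟩ := Groth.Agent.Birat.exists_max_specializes x
    have h1 := Groth.Agent.Birat.eq_of_specializes_max (hmax _ hx) (hzx.map (f ⁻¹ᵁ V).ι.base.hom.continuous)
    exact (Subtype.ext h1 : z = x) ▸ hz
  obtain ⟨U', hU', hsub⟩ := Groth.Agent.GenFinite.exists_affine_superset
    {x : ((f ⁻¹ᵁ V : X.Opens) : Scheme.{u}) | f.base x.1 = η}
    (Set.Finite.of_finite_image (hfin.subset (by rintro _ ⟨x, hx, rfl⟩; exact hx)) Subtype.val_injective.injOn)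
    (fun x hx y hy hxy => Groth.Agent.GenFinite.exists_disjoint_nhds (hmax' x hx) (hmax' y hy) hxy)
  obtain ⟨W, hW, hηW, -, hfinite⟩ := Groth.Agent.GenFinite.exists_affine_finite f η hη
    ((f ⁻¹ᵁ V).ι ''ᵁ U') (hU'.image_of_isOpenImmersion _) hV hηV ((f ⁻¹ᵁ V).ι_image_le _) (by
      intro x hx
      have hxV : x ∈ f ⁻¹ᵁ V := by
        show f.base x ∈ V
        rw [Set.mem_singleton_iff.mp hx]; exact hηV
      exact ⟨⟨x, hxV⟩, hsub (show f.base x = η from hx), rfl⟩) hfin
  exact ⟨W, hW, hηW, hfinite⟩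

end Groth.Agent.S2080
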