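import Groth.Statements.S2081
import Groth.Agent.GenFinite.Basic


set_option autoImplicit false
universe u
open CategoryTheory AlgebraicGeometry
open Mor

namespace Groth.Agent.S2081

/-- Let `f : X → Y` be locally of finite type and quasi-compact. Suppose `X` and `Y` have finitely many
irreducible components and that a point of `X` is a generic point of an irreducible component
exactly when its image is one in `Y`. Then `f⁻¹(V) → V` is finite for some dense open `V ⊆ Y`. -/
theorem result {X Y : Scheme.{u}} (f : X ⟶ Y) [LocallyOfFiniteType f]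
    [QuasiCompact f] (hX : (irreducibleComponents (X : Type u)).Finite) (hY : (irreducibleComponents (Y : Type u)).Finite)
    (hgen : ∀ x : X, closure {x} ∈ irreducibleComponents (X : Type u) ↔
      closure {f.base x} ∈ irreducibleComponents (Y : Type u)) :
    ∃ V : Y.Opens, Dense (V : Set Y) ∧ IsFinite (f ∣_ V) := by
  classical
  have key : ∀ η : Y, η ∈ Groth.Agent.Birat.Max Y → ∃ W : Y.Opens, η ∈ W ∧ IsFinite (f ∣_ W) := by
    intro η hη
    have hmaxX : ∀ x : X, f.base x = η → x ∈ Groth.Agent.Birat.Max X := fun x hx => (hgen x).mpr (hx ▸ hη)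
    have hfin : (f.base ⁻¹' {η}).Finite :=
      (Groth.Agent.Birat.finite_max hX).subset fun x hx => hmaxX x hx
    obtain ⟨_, ⟨V, hV, rfl⟩, hηV, -⟩ :=
      Y.isBasis_affineOpens.exists_subset_of_mem_open (Set.mem_univ η) isOpen_univ
    have hsubV : f.base ⁻¹' {η} ⊆ (f ⁻¹ᵁ V : X.Opens) := fun x hx => by
      show f.base x ∈ V
      rw [Set.mem_singleton_iff.mp hx]; exact hηV
    obtain ⟨U', hU', hsub⟩ := Groth.Agent.GenFinite.exists_affine_superset (X := ((f ⁻¹ᵁ V : X.Opens) : Scheme.{u}))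
      {x | f.base x.1 = η}
      (Set.Finite.of_finite_image (hfin.subset (by rintro _ ⟨x, hx, rfl⟩; exact hx)) Subtype.val_injective.injOn)
      (fun x hx y hy hxy => ⟨(f ⁻¹ᵁ V).ι ⁻¹ᵁ ⟨_, Groth.Agent.Birat.isOpen_excl hX x.1⟩,
        (f ⁻¹ᵁ V).ι ⁻¹ᵁ ⟨_, Groth.Agent.Birat.isOpen_excl hX y.1⟩,
        Groth.Agent.Birat.mem_excl (hmaxX _ hx), Groth.Agent.Birat.mem_excl (hmaxX _ hy),
        Set.disjoint_left.mpr fun z hz1 hz2 => hxy (Subtype.ext
          (Groth.Agent.Birat.disjoint_excl (hmaxX _ hx) (hmaxX _ hy) hz1 hz2))⟩)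
    obtain ⟨W, -, hηW, -, hfinite⟩ := Groth.Agent.GenFinite.exists_affine_finite f η hη
      ((f ⁻¹ᵁ V).ι ''ᵁ U') (hU'.image_of_isOpenImmersion _) hV hηV ((f ⁻¹ᵁ V).ι_image_le _)
      (fun x hx => ⟨⟨x, hsubV hx⟩, hsub (show f.base x = η from hx), rfl⟩) hfin
    exact ⟨W, hηW, hfinite⟩
  choose W hηW hfinite using key
  refine ⟨⨆ η : Groth.Agent.Birat.Max Y, W η.1 η.2, ?_,
    Groth.Agent.GenFinite.isFinite_restrict_iSup f _ (fun η => hfinite η.1 η.2)⟩
  exact Groth.Agent.Birat.dense_of_max_subset fun η hη =>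
    TopologicalSpace.Opens.mem_iSup.mpr ⟨⟨η, hη⟩, hηW η hη⟩

end Groth.Agent.S2081
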