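import Groth.Statements.S2099
import Groth.Agent.CTensorLib.Basic
import Groth.Agent.FSAdic.Transfer


set_option autoImplicit false
set_option backward.isDefEq.respectTransparency false
universe u
open CAlg

namespace Groth.Agent.S2099

section Pre

open MvPowerSeries Groth.Agent.FSAdic

theorem main {R S : Type u} [CommRing R] [CommRing S] [Algebra R S]
    [Algebra.Smooth R S] (σ : S →ₐ[R] R) (d : ℕ)
    (e : (RingHom.ker σ.toRingHom).Cotangent ≃ₗ[R] (Fin d → R)) :
    Nonempty (AdicCompletion (RingHom.ker σ.toRingHom) S ≃ₐ[R] MvPowerSeries (Fin d) R) := by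
  classical
  set I : Ideal S := RingHom.ker σ.toRingHom with hIdef
  have hσ : Function.Surjective σ := fun r => ⟨algebraMap R S r, σ.commutes r⟩
  have hI : I.FG := Algebra.FinitePresentation.ker_fG_of_surjective σ hσ
  let C := AdicCompletion I S
  haveI := Groth.Agent.CTensorLib.isAdicComplete_compl I hI
  let IC := I.map (algebraMap S C)
  let P := MvPowerSeries (Fin d) R
  let m : Ideal P := augIdeal R d
  choose x hx using fun i => Ideal.toCotangent_surjective I (e.symm (Pi.single i 1))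
  obtain ⟨φ, hφ⟩ := Groth.Agent.MvPSLib.exists_algHom (A := R) IC (fun i => algebraMap S C (x i).1)
    (fun i => Ideal.mem_map_of_mem _ (x i).2)
  have hφm : m.map φ ≤ IC := by
    rw [Groth.Agent.MvPSLib.map_augIdeal, Ideal.span_le]
    rintro _ ⟨i, rfl⟩
    show φ (X i) ∈ IC
    rw [hφ]
    exact Ideal.mem_map_of_mem _ (x i).2
  let q : P →ₐ[R] S ⧸ I ^ 2 := ((AdicCompletion.evalₐ I 2).restrictScalars R).comp φ
  have hqm : ∀ p ∈ m ^ 2, q p = 0 := fun p hp => by
    have h1 : φ p ∈ IC ^ 2 := Ideal.pow_right_mono hφm 2 (Ideal.map_pow φ m 2 ▸ Ideal.mem_map_of_mem φ hp)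
    rw [← ker_evalₐ I hI] at h1
    exact h1
  have hqX : ∀ i, q (X i) = Ideal.Quotient.mk (I ^ 2) (x i).1 := fun i => by
    show AdicCompletion.evalₐ I 2 (φ (X i)) = _
    rw [hφ, AlgHom.commutes]
    rfl
  have hqC : ∀ a : R, q (MvPowerSeries.C a) = Ideal.Quotient.mk (I ^ 2) (algebraMap R S a) := fun a => q.commutes a
  have hdec : ∀ p : P, ∃ (c : Fin d → R),
      p - (MvPowerSeries.C (constantCoeff p) + ∑ i, MvPowerSeries.C (c i) * X i) ∈ m ^ 2 := by
    intro p
    have h1 : p - MvPowerSeries.C (constantCoeff p) ∈ Ideal.span (Set.range (X : Fin d → P)) := by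
      rw [← augIdeal_eq_span, RingHom.mem_ker, map_sub, constantCoeff_C, sub_self]
    obtain ⟨t, ht⟩ := Ideal.mem_span_range_iff_exists_fun.1 h1
    refine ⟨fun i => constantCoeff (t i), ?_⟩
    rw [← sub_sub, ← ht, ← Finset.sum_sub_distrib, pow_two]
    refine Ideal.sum_mem _ fun i _ => ?_
    rw [← sub_mul]
    exact Ideal.mul_mem_mul (by rw [RingHom.mem_ker, map_sub, constantCoeff_C, sub_self]) (X_mem_augIdeal i)
  have hqlin : ∀ (a : R) (c : Fin d → R), q (MvPowerSeries.C a + ∑ i, MvPowerSeries.C (c i) * X i) =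
      Ideal.Quotient.mk (I ^ 2) (algebraMap R S a + ∑ i, algebraMap R S (c i) * (x i).1) := fun a c => by
    simp only [map_add, map_sum, map_mul, hqC, hqX]
  have hker : RingHom.ker q.toRingHom = m ^ 2 := by
    refine le_antisymm (fun p hp => ?_) (fun p hp => hqm p hp)
    obtain ⟨c, hc⟩ := hdec p
    have h0 : q p = 0 := hp
    have h1 := hqm _ hc
    rw [map_sub, h0, zero_sub, neg_eq_zero, hqlin, Ideal.Quotient.eq_zero_iff_mem] at h1
    have hσx : ∀ y ∈ I, σ y = 0 := fun y hy => hy
    have ha : constantCoeff p = 0 := by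
      have h2 := hσx _ (Ideal.pow_le_self two_ne_zero h1)
      simpa [hσx _ (x _).2] using h2
    rw [ha, map_zero, zero_add] at h1
    have hc0 : c = 0 := by
      have hmem : ∑ i, algebraMap R S (c i) * (x i).1 ∈ I :=
        sum_mem fun i _ => I.mul_mem_left _ (x i).2
      have h3 : I.toCotangent ⟨_, hmem⟩ = ∑ i, c i • e.symm (Pi.single i 1) := by
        rw [show (⟨_, hmem⟩ : I) = ∑ i, algebraMap R S (c i) • x i from Subtype.ext (by simp [Algebra.smul_def]), map_sum]
        refine Finset.sum_congr rfl fun i _ => ?_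
        rw [map_smul, algebraMap_smul, hx]
      rw [(I.toCotangent_eq_zero _).2 h1] at h3
      have h4 := congrArg e h3
      rw [map_zero, map_sum] at h4
      simp only [map_smul, LinearEquiv.apply_symm_apply] at h4
      rw [show c = ∑ i, c i • (Pi.single i (1 : R) : Fin d → R) from (pi_eq_sum_univ' c), ← h4]
    rw [ha, hc0] at hc
    simpa using hc
  have hqs : Function.Surjective q := fun y => by
    obtain ⟨s, rfl⟩ := Ideal.Quotient.mk_surjective y
    have hmem : s - algebraMap R S (σ s) ∈ I := by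
      show σ (s - algebraMap R S (σ s)) = 0
      rw [map_sub, σ.commutes]
      exact sub_self _
    set c : Fin d → R := e (I.toCotangent ⟨_, hmem⟩) with hc
    refine ⟨MvPowerSeries.C (σ s) + ∑ i, MvPowerSeries.C (c i) * X i, ?_⟩
    rw [hqlin, Ideal.Quotient.eq]
    have hmem' : ∑ i, algebraMap R S (c i) * (x i).1 ∈ I :=
      sum_mem fun i _ => I.mul_mem_left _ (x i).2
    have h3 : I.toCotangent ⟨_, hmem'⟩ = I.toCotangent ⟨_, hmem⟩ := by
      rw [show (⟨_, hmem'⟩ : I) = ∑ i, algebraMap R S (c i) • x i from Subtype.ext (by simp [Algebra.smul_def]), map_sum]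
      apply e.injective
      rw [← hc, map_sum, show c = ∑ i, c i • (Pi.single i (1 : R) : Fin d → R) from (pi_eq_sum_univ' c)]
      refine Finset.sum_congr rfl fun i _ => ?_
      rw [map_smul, algebraMap_smul, hx, map_smul, LinearEquiv.apply_symm_apply]
      rw [← (pi_eq_sum_univ' c)]
    have h4 := (Ideal.toCotangent_eq I).1 h3
    convert h4 using 1
    simp only
    ring
  let φ2 : (P ⧸ m ^ 2) ≃ₐ[R] S ⧸ I ^ 2 :=
    (Ideal.quotientEquivAlgOfEq R hker.symm).trans (Ideal.quotientKerAlgEquivOfSurjective hqs)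
  let u : S →ₐ[R] P ⧸ m ^ 2 := φ2.symm.toAlgHom.comp (Ideal.Quotient.mkₐ R (I ^ 2))
  have hFS : EGA41.IsFormallySmoothAdic R (⊥ : Ideal R) S (⊥ : Ideal S) := fun T _ _ J hJ _ v _ =>
    ⟨Algebra.FormallySmooth.lift J hJ v, Algebra.FormallySmooth.comp_lift J hJ v⟩
  haveI : IsHausdorff (m.map (Ideal.Quotient.mk (m ^ 2))) (P ⧸ m ^ 2) := ⟨fun y hy => by
    have h := hy 2
    rwa [SModEq.zero, smul_eq_mul, Ideal.mul_top, ← Ideal.map_pow, Ideal.map_quotient_self, Ideal.mem_bot] at h⟩
  obtain ⟨g, -, hg⟩ := lift_adicComplete (⊥ : Ideal R) (⊥ : Ideal S) m hFS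
    ⟨1, by rw [pow_one, Ideal.map_bot]; exact bot_le⟩ (m ^ 2) ⟨1, (pow_one (m ^ 2)).le.trans (Ideal.pow_le_self two_ne_zero)⟩ u
    ⟨1, by rw [pow_one, Ideal.map_bot]; exact bot_le⟩
  have hgx : ∀ i, g (x i).1 - X i ∈ m ^ 2 := fun i => by
    rw [← Ideal.Quotient.eq]
    apply φ2.injective
    have h1 : Ideal.Quotient.mk (m ^ 2) (g (x i).1) = u (x i).1 := congrArg (fun f => f (x i).1) hg
    rw [h1]
    show φ2 (φ2.symm (Ideal.Quotient.mk (I ^ 2) (x i).1)) = q (X i)
    rw [AlgEquiv.apply_symm_apply, hqX]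
  have hgI : I ≤ m.comap g := fun s hs => by
    obtain ⟨p, hp⟩ := Ideal.Quotient.mk_surjective (u s)
    have h1 : Ideal.Quotient.mk (m ^ 2) (g s) = Ideal.Quotient.mk (m ^ 2) p := by
      rw [hp]; exact congrArg (fun f => f s) hg
    have h2 : q p = Ideal.Quotient.mk (I ^ 2) s := by
      show φ2 (Ideal.Quotient.mk (m ^ 2) p) = _
      rw [hp]
      exact φ2.apply_symm_apply _
    obtain ⟨c, hc⟩ := hdec p
    have h3 := hqm _ hc
    rw [map_sub, sub_eq_zero, h2, hqlin, Ideal.Quotient.eq] at h3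
    have h4 : σ (s - (algebraMap R S (constantCoeff p) + ∑ i, algebraMap R S (c i) * (x i).1)) = 0 :=
      Ideal.pow_le_self two_ne_zero h3
    have hσx : ∀ y ∈ I, σ y = 0 := fun y hy => hy
    have h5 : constantCoeff p = 0 := by
      simpa [hσx s hs, hσx _ (x _).2] using h4
    have h6 := Ideal.pow_le_self two_ne_zero (Ideal.Quotient.eq.1 h1) (I := m)
    rw [Ideal.mem_comap, RingHom.mem_ker]
    rwa [RingHom.mem_ker, map_sub, h5, sub_zero] at h6
  let f : ∀ n, C →ₐ[R] P ⧸ m ^ n := fun n =>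
    (Ideal.quotientMapₐ (m ^ n) g ((Ideal.pow_right_mono hgI n).trans (Ideal.le_comap_pow _ n))).comp
      ((AdicCompletion.evalₐ I n).restrictScalars R)
  have hfC : ∀ n (s : S), f n (algebraMap S C s) = Ideal.Quotient.mk (m ^ n) (g s) := fun n s => by
    show Ideal.quotientMapₐ (m ^ n) g ((Ideal.pow_right_mono hgI n).trans (Ideal.le_comap_pow _ n))
      (AdicCompletion.evalₐ I n (algebraMap S C s)) = _
    rw [AlgHom.commutes]
    rfl
  have hf : ∀ {a b : ℕ} (hab : a ≤ b),
      (Ideal.Quotient.factorₐ R (Ideal.pow_le_pow_right hab : m ^ b ≤ m ^ a)).comp (f b) = f a := by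
    intro a b hab
    refine AlgHom.ext fun y => ?_
    obtain ⟨r, hr⟩ := Groth.Agent.CTensorLib.exists_approx I hI y b
    have hfa : ∀ c ≤ b, f c y = f c (algebraMap S C r) := fun c hc => by
      rw [← sub_eq_zero, ← map_sub]
      show Ideal.quotientMapₐ (m ^ c) g ((Ideal.pow_right_mono hgI c).trans (Ideal.le_comap_pow _ c))
        (AdicCompletion.evalₐ I c (y - algebraMap S C r)) = 0
      have := (ker_evalₐ I hI c).ge (Ideal.pow_le_pow_right hc hr)
      rw [show AdicCompletion.evalₐ I c (y - algebraMap S C r) = 0 from this, map_zero]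
    rw [AlgHom.comp_apply, hfa b le_rfl, hfa a hab, hfC, hfC]
    rfl
  let G : C →ₐ[R] P := IsAdicComplete.liftAlgHom m f hf
  have hG : ∀ n y, Ideal.Quotient.mk (m ^ n) (G y) = f n y := fun n y => IsAdicComplete.mk_liftAlgHom m f hf n y
  have hGX : ∀ i, G (φ (X i)) - X i ∈ m ^ 2 := fun i => by
    have := hG 2 (φ (X i))
    rw [hφ, hfC, Ideal.Quotient.eq, ← hφ] at this
    simpa using add_mem this (hgx i)
  have hbij : Function.Bijective (G.comp φ) := by
    refine Groth.Agent.MvPSLib.bijective_of_span _ (le_antisymm ?_ ?_)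
    · rw [Groth.Agent.MvPSLib.map_augIdeal, Ideal.span_le]
      rintro _ ⟨i, rfl⟩
      have h := add_mem (Ideal.pow_le_self two_ne_zero (hGX i) (I := m)) (X_mem_augIdeal i)
      rw [sub_add_cancel] at h
      exact h
    · refine Submodule.le_of_le_smul_of_le_jacobson_bot (I := m) ?_ (IsAdicComplete.le_jacobson_bot m) ?_
      · show (augIdeal R d).FG
        rw [augIdeal_eq_span]
        exact Submodule.fg_span (Set.finite_range _)
      · rw [smul_eq_mul, ← pow_two, Groth.Agent.MvPSLib.map_augIdeal]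
        calc m = Ideal.span (Set.range (X : Fin d → P)) := augIdeal_eq_span
          _ ≤ _ := by
            rw [Ideal.span_le]
            rintro _ ⟨i, rfl⟩
            rw [show (X i : P) = (G.comp φ) (X i) - (G (φ (X i)) - X i) from (sub_sub_cancel _ _).symm]
            exact sub_mem (Ideal.mem_sup_left (Ideal.subset_span ⟨i, rfl⟩)) (Ideal.mem_sup_right (hGX i))
  have hsurj : Function.Surjective φ := by
    haveI : IsHausdorff ((augIdeal R d).map φ.toRingHom) C :=
      Groth.Agent.MvPSLib.isHausdorff_mono (J := IC) hφm inferInstance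
    refine Groth.Agent.MvPSLib.surjective_of_mod φ.toRingHom fun b => ?_
    obtain ⟨r, hr⟩ := Groth.Agent.CTensorLib.exists_approx I hI b 1
    refine ⟨σ r, ?_⟩
    rw [pow_one] at hr
    have heq : IC ≤ (augIdeal R d).map φ.toRingHom := by
      refine Submodule.le_of_le_smul_of_le_jacobson_bot (I := IC) (hI.map _) (IsAdicComplete.le_jacobson_bot IC) ?_
      rw [smul_eq_mul, ← pow_two, Ideal.map_le_iff_le_comap]
      intro s hs
      obtain ⟨p, hp⟩ := hqs (Ideal.Quotient.mk (I ^ 2) s)
      have hp0 : p ∈ augIdeal R d := by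
        obtain ⟨c, hc⟩ := hdec p
        have h3 := hqm _ hc
        rw [map_sub, sub_eq_zero, hp, hqlin, Ideal.Quotient.eq] at h3
        have h4 : σ (s - (algebraMap R S (constantCoeff p) + ∑ i, algebraMap R S (c i) * (x i).1)) = 0 :=
          Ideal.pow_le_self two_ne_zero h3
        have hσx : ∀ y ∈ I, σ y = 0 := fun y hy => hy
        rw [RingHom.mem_ker]
        simpa [hσx s hs, hσx _ (x _).2] using h4
      rw [Ideal.mem_comap]
      have h5 : algebraMap S C s - φ p ∈ IC ^ 2 := by
        rw [← ker_evalₐ I hI, RingHom.mem_ker]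
        show AdicCompletion.evalₐ I 2 (algebraMap S C s - φ p) = 0
        rw [map_sub, AlgHom.commutes]
        exact sub_eq_zero.2 hp.symm
      rw [← sub_add_cancel (algebraMap S C s) (φ p)]
      exact add_mem (Ideal.mem_sup_right h5) (Ideal.mem_sup_left (Ideal.mem_map_of_mem _ hp0))
    show b - φ.toRingHom (MvPowerSeries.C (σ r)) ∈ (augIdeal R d).map φ.toRingHom
    refine heq ?_
    have h6 : algebraMap S C (r - algebraMap R S (σ r)) ∈ IC :=
      Ideal.mem_map_of_mem _ (show σ (r - algebraMap R S (σ r)) = 0 by rw [map_sub, σ.commutes]; exact sub_self _)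
    rw [show φ.toRingHom (MvPowerSeries.C (σ r)) = algebraMap R C (σ r) from φ.commutes _,
      IsScalarTower.algebraMap_apply R S C]
    rw [map_sub] at h6
    have h7 := add_mem hr h6
    rw [sub_add_sub_cancel] at h7
    exact h7
  exact ⟨(AlgEquiv.ofBijective φ ⟨Function.Injective.of_comp (f := G) (show Function.Injective (G ∘ φ) from hbij.1), hsurj⟩).symm⟩

end Pre

/-- Let `R → S` be smooth with an `R`-algebra retraction `σ : S → R` and `I = ker σ`. If `I/I²` is free
of rank `d` over `R`, then the `I`-adic completion of `S` is isomorphic as an `R`-algebra to the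
power series ring in `d` variables over `R`. -/
theorem result {R S : Type u} [CommRing R] [CommRing S] [Algebra R S]
    [Algebra.Smooth R S] (σ : S →ₐ[R] R) (d : ℕ)
    (e : (RingHom.ker σ.toRingHom).Cotangent ≃ₗ[R] (Fin d → R)) :
    Nonempty (AdicCompletion (RingHom.ker σ.toRingHom) S ≃ₐ[R] MvPowerSeries (Fin d) R) := by
  exact main σ d e

end Groth.Agent.S2099
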