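import Groth.Statements.S2100
import Mathlib
import Groth.Agent.CAlgH.NoetherInt
-- import your own Groth.Agent.* helpers here

set_option autoImplicit false
universe u
open CAlg

open MvPolynomial

namespace Groth.Agent.S2100

variable {k : Type u} [Field k]

/-- an algebra map from a polynomial ring is finite if every variable of the target is integral over it -/
theorem finite_of_forall_integral {n m : ℕ} (φ : MvPolynomial (Fin n) k →ₐ[k] MvPolynomial (Fin m) k)
    (h : ∀ j, φ.toRingHom.IsIntegralElem (X j)) : φ.toRingHom.Finite := by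
  letI := φ.toRingHom.toAlgebra
  haveI : IsScalarTower k (MvPolynomial (Fin n) k) (MvPolynomial (Fin m) k) := IsScalarTower.of_algHom φ
  haveI : Algebra.IsIntegral (MvPolynomial (Fin n) k) (MvPolynomial (Fin m) k) := by
    refine ⟨fun a => ?_⟩
    induction a using MvPolynomial.induction_on with
    | C c =>
      rw [← MvPolynomial.algebraMap_eq, IsScalarTower.algebraMap_apply k (MvPolynomial (Fin n) k) (MvPolynomial (Fin m) k)]
      exact isIntegral_algebraMap
    | add p q hp hq => exact hp.add hq
    | mul_X p j hp => exact hp.mul (h j)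
  haveI : Algebra.FiniteType (MvPolynomial (Fin n) k) (MvPolynomial (Fin m) k) :=
    Algebra.FiniteType.of_restrictScalars_finiteType k _ _
  exact Algebra.IsIntegral.finite

theorem trdeg_eq_of_finite_injective {A B : Type u} [CommRing A] [CommRing B] [IsDomain A] [IsDomain B]
    [Algebra k A] [Algebra k B] (φ : A →ₐ[k] B) (hinj : Function.Injective φ) (hfin : φ.toRingHom.Finite) :
    Algebra.trdeg k A = Algebra.trdeg k B := by
  letI := φ.toRingHom.toAlgebra
  haveI : IsScalarTower k A B := IsScalarTower.of_algHom φ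
  haveI : Module.Finite A B := hfin
  haveI : FaithfulSMul A B := (faithfulSMul_iff_algebraMap_injective A B).2 hinj
  haveI : FaithfulSMul k A := (faithfulSMul_iff_algebraMap_injective k A).2 (RingHom.injective _)
  haveI : Algebra.IsAlgebraic A B := inferInstance
  rw [← trdeg_add_eq k A (A := B), trdeg_eq_zero (R := A) (A := B), add_zero]

theorem trdeg_residueField (B : Type u) [CommRing B] [Algebra k B] (q : Ideal B) [q.IsPrime] :
    Algebra.trdeg k (B ⧸ q) = Algebra.trdeg k q.ResidueField := by
  haveI : FaithfulSMul (B ⧸ q) q.ResidueField :=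
    (faithfulSMul_iff_algebraMap_injective _ _).2 (IsFractionRing.injective (B ⧸ q) q.ResidueField)
  haveI : FaithfulSMul k (B ⧸ q) := (faithfulSMul_iff_algebraMap_injective _ _).2 (RingHom.injective _)
  haveI : IsScalarTower k (B ⧸ q) q.ResidueField := IsScalarTower.of_algebraMap_eq fun x => by
    rw [IsScalarTower.algebraMap_apply k B q.ResidueField, IsScalarTower.algebraMap_apply k B (B ⧸ q),
      ← IsScalarTower.algebraMap_apply B (B ⧸ q) q.ResidueField]
  haveI : Algebra.IsAlgebraic (B ⧸ q) q.ResidueField := IsLocalization.isAlgebraic _ (nonZeroDivisors (B ⧸ q))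
  rw [← trdeg_add_eq k (B ⧸ q) (A := q.ResidueField), trdeg_eq_zero (R := B ⧸ q) (A := q.ResidueField), add_zero]

open CAlgH.NoetherInt in
/-- change of coordinates making a given nonzero nonunit polynomial one of the variables -/
theorem exists_finite_last {m : ℕ} (f : MvPolynomial (Fin (m + 1)) k) (hf : f ≠ 0) (hu : ¬ IsUnit f) :
    ∃ Φ : MvPolynomial (Fin (m + 1)) k →ₐ[k] MvPolynomial (Fin (m + 1)) k,
      Φ.toRingHom.Finite ∧ Φ (X (Fin.last m)) = f := by
  let Φ : MvPolynomial (Fin (m + 1)) k →ₐ[k] MvPolynomial (Fin (m + 1)) k :=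
    aeval (Fin.lastCases (motive := fun _ => MvPolynomial (Fin (m + 1)) k) f (fun i => (T f).symm (X i.succ)))
  have hlast : Φ (X (Fin.last m)) = f := by simp [Φ]
  have hcast : ∀ i : Fin m, Φ (X i.castSucc) = (T f).symm (X i.succ) := fun i => by simp [Φ]
  refine ⟨Φ, ?_, hlast⟩
  letI := Φ.toRingHom.toAlgebra
  -- coefficients map
  let c : MvPolynomial (Fin m) k →ₐ[k] MvPolynomial (Fin (m + 1)) k := rename Fin.castSucc
  let P := finSuccEquiv k m (T f f)
  obtain ⟨u, hu'⟩ := T_leadingcoeff_isUnit f hf
  have hev : ∀ p : MvPolynomial (Fin (m + 1)) k,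
      Polynomial.eval₂ (Φ.comp c).toRingHom ((T f).symm (X 0)) (finSuccEquiv k m p) = (T f).symm p := by
    intro p
    induction p using MvPolynomial.induction_on with
    | C a => simp [finSuccEquiv_apply, c]
    | add p q hp hq => rw [map_add, Polynomial.eval₂_add, hp, hq, map_add]
    | mul_X p j hp =>
      rw [map_mul, Polynomial.eval₂_mul, hp, map_mul]
      congr 1
      cases j using Fin.cases with
      | zero => simp [finSuccEquiv_X_zero]
      | succ i => simp [finSuccEquiv_X_succ, c, hcast]
  have hdeg : 0 < P.natDegree := by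
    refine Nat.pos_of_ne_zero fun h0 => hu ?_
    have h1 : P = Polynomial.C (u : MvPolynomial (Fin m) k) := by
      conv_lhs => rw [Polynomial.eq_C_of_natDegree_eq_zero h0]
      rw [hu', Polynomial.leadingCoeff, h0]
    have h2 : IsUnit (finSuccEquiv k m (T f f)) := by
      show IsUnit P
      rw [h1]
      exact u.isUnit.map Polynomial.C
    have h3 := (h2.map (finSuccEquiv k m).symm).map (T f).symm
    rwa [AlgEquiv.symm_apply_apply, AlgEquiv.symm_apply_apply] at h3
  let Q : Polynomial (MvPolynomial (Fin (m + 1)) k) := P.map c.toRingHom - Polynomial.C (X (Fin.last m))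
  let v : MvPolynomial (Fin (m + 1)) k := c ↑u⁻¹
  have hint0 : Φ.toRingHom.IsIntegralElem ((T f).symm (X 0)) := by
    refine ⟨Polynomial.C v * Q, ?_, ?_⟩
    · have hci : Function.Injective c := rename_injective _ (Fin.castSucc_injective m)
      have hlt : (Polynomial.C (X (Fin.last m) : MvPolynomial (Fin (m + 1)) k)).degree < (P.map c.toRingHom).degree := by
        rw [Polynomial.degree_map_eq_of_injective hci]
        exact lt_of_le_of_lt Polynomial.degree_C_le (Polynomial.natDegree_pos_iff_degree_pos.1 hdeg)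
      refine Polynomial.monic_C_mul_of_mul_leadingCoeff_eq_one ?_
      rw [Polynomial.leadingCoeff_sub_of_degree_lt hlt, Polynomial.leadingCoeff_map_of_injective hci]
      show c ↑u⁻¹ * c P.leadingCoeff = 1
      rw [← map_mul, ← hu', Units.inv_mul, map_one]
    · rw [Polynomial.eval₂_mul, Polynomial.eval₂_sub, Polynomial.eval₂_map, Polynomial.eval₂_C, Polynomial.eval₂_C]
      have := hev (T f f)
      rw [AlgEquiv.symm_apply_apply] at this
      rw [show Φ.toRingHom.comp c.toRingHom = (Φ.comp c).toRingHom from rfl, this]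
      show _ * (f - Φ (X (Fin.last m))) = 0
      rw [hlast, sub_self, mul_zero]
  refine finite_of_forall_integral Φ fun j => ?_
  have hall : ∀ p : MvPolynomial (Fin (m + 1)) k, Φ.toRingHom.IsIntegralElem ((T f).symm p) := by
    intro p
    induction p using MvPolynomial.induction_on with
    | C a =>
      have e : (T f).symm (C a) = Φ (C a) := by
        rw [← MvPolynomial.algebraMap_eq, AlgEquiv.commutes, AlgHom.commutes]
      rw [e]
      exact RingHom.isIntegralElem_map _
    | add p q hp hq => rw [map_add]; exact hp.add _ hq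
    | mul_X p j hp =>
      rw [map_mul]
      refine hp.mul _ ?_
      cases j using Fin.cases with
      | zero => exact hint0
      | succ i => rw [← hcast]; exact RingHom.isIntegralElem_map _
  have := hall (T f (X j))
  rwa [AlgEquiv.symm_apply_apply] at this

theorem main : ∀ (n r : ℕ) (q : Ideal (MvPolynomial (Fin n) k)) [q.IsPrime],
    Algebra.trdeg k (MvPolynomial (Fin n) k ⧸ q) = r →
    ∃ φ : MvPolynomial (Fin n) k →ₐ[k] MvPolynomial (Fin n) k, φ.toRingHom.Finite ∧
      q.comap φ = Ideal.span (Set.range fun i : {i : Fin n // r ≤ (i : ℕ)} => X (i : Fin n)) := by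
  intro n
  induction n with
  | zero =>
    intro r q _ _
    refine ⟨AlgHom.id k _, RingHom.Finite.id _, ?_⟩
    rw [Set.range_eq_empty_iff.2 ⟨fun i => i.1.elim0⟩, Ideal.span_empty]
    ext x
    rw [Ideal.mem_comap, AlgHom.id_apply, Ideal.mem_bot]
    refine ⟨fun hx => ?_, fun h => h ▸ zero_mem q⟩
    by_contra h0
    rw [MvPolynomial.eq_C_of_isEmpty x] at hx h0
    refine (‹q.IsPrime›).ne_top (Ideal.eq_top_of_isUnit_mem _ hx ((isUnit_iff_ne_zero.2 ?_).map C))
    exact fun h => h0 (by rw [h, map_zero])
  | succ m ih =>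
    intro r q _ hr
    rcases eq_or_ne q ⊥ with rfl | hq
    · have hrn : r = m + 1 := by
        rw [(AlgEquiv.quotientBot k (MvPolynomial (Fin (m + 1)) k)).trdeg_eq, MvPolynomial.trdeg_of_isDomain] at hr
        simp only [Cardinal.mk_fin, Cardinal.lift_natCast] at hr
        exact_mod_cast hr.symm
      refine ⟨AlgHom.id k _, RingHom.Finite.id _, ?_⟩
      rw [Set.range_eq_empty_iff.2 ⟨fun i => absurd i.2 (by have := i.1.2; omega)⟩, Ideal.span_empty]
      rfl
    obtain ⟨f, hfq, hf⟩ := Submodule.exists_mem_ne_zero_of_ne_bot hq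
    obtain ⟨Φ, hΦ, hΦf⟩ := exists_finite_last f hf (fun h => (‹q.IsPrime›).ne_top (q.eq_top_of_isUnit_mem hfq h))
    let q1 := q.comap Φ.toRingHom
    let ι : MvPolynomial (Fin m) k →ₐ[k] MvPolynomial (Fin (m + 1)) k := rename Fin.castSucc
    let π : MvPolynomial (Fin (m + 1)) k →ₐ[k] MvPolynomial (Fin m) k :=
      aeval (Fin.lastCases (motive := fun _ => MvPolynomial (Fin m) k) 0 X)
    have hlast : X (Fin.last m) ∈ q1 := by show Φ _ ∈ q; rw [hΦf]; exact hfq
    have hdiff : ∀ (J : Ideal (MvPolynomial (Fin (m + 1)) k)), X (Fin.last m) ∈ J → ∀ a, a - ι (π a) ∈ J := by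
      intro J hJ a
      rw [← Ideal.Quotient.eq]
      suffices (Ideal.Quotient.mkₐ k J) = (Ideal.Quotient.mkₐ k J).comp (ι.comp π) from congr($this a)
      refine MvPolynomial.algHom_ext fun j => ?_
      cases j using Fin.lastCases with
      | last => simpa [π] using Ideal.Quotient.eq_zero_iff_mem.2 hJ
      | cast i => simp [π, ι]
    haveI : q1.IsPrime := Ideal.IsPrime.comap _
    let q' := q1.comap ι.toRingHom
    haveI : q'.IsPrime := Ideal.IsPrime.comap _
    -- transcendence degrees
    let j1 : (MvPolynomial (Fin m) k ⧸ q') →ₐ[k] (MvPolynomial (Fin (m + 1)) k ⧸ q) :=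
      Ideal.quotientMapₐ q (Φ.comp ι) (le_refl q')
    have hj1 : Function.Injective j1 :=
      Ideal.quotientMap_injective
    have hj1f : j1.toRingHom.Finite := by
      have e1 : j1.toRingHom.comp (Ideal.Quotient.mk q') = (Ideal.Quotient.mk q).comp (Φ.comp ι).toRingHom := rfl
      have e2 : ((Ideal.Quotient.mk q).comp (Φ.comp ι).toRingHom).comp π.toRingHom =
          (Ideal.Quotient.mk q).comp Φ.toRingHom := by
        refine MvPolynomial.ringHom_ext (fun c => ?_) (fun j => ?_)
        · simp
        · show Ideal.Quotient.mk q (Φ (ι (π (X j)))) = Ideal.Quotient.mk q (Φ (X j))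
          rw [eq_comm, Ideal.Quotient.eq, ← map_sub]
          exact hdiff q1 hlast (X j)
      have h3 : ((j1.toRingHom.comp (Ideal.Quotient.mk q')).comp π.toRingHom).Finite := by
        rw [e1, e2]
        exact RingHom.Finite.comp (RingHom.Finite.of_surjective _ Ideal.Quotient.mk_surjective) hΦ
      exact (h3.of_comp_finite).of_comp_finite
    have hr' : Algebra.trdeg k (MvPolynomial (Fin m) k ⧸ q') = r := by
      rw [trdeg_eq_of_finite_injective j1 hj1 hj1f, hr]
    have hrm : r ≤ m := by
      have := trdeg_le_of_surjective (Ideal.Quotient.mkₐ k q') (Ideal.Quotient.mkₐ_surjective k q')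
      rw [hr', MvPolynomial.trdeg_of_isDomain] at this
      simpa using this
    obtain ⟨φ', hφ', hφ'q⟩ := ih r q' hr'
    let ε : MvPolynomial (Fin (m + 1)) k →ₐ[k] MvPolynomial (Fin (m + 1)) k :=
      aeval (Fin.lastCases (motive := fun _ => MvPolynomial (Fin (m + 1)) k) (X (Fin.last m)) (fun i => ι (φ' (X i))))
    have hει : ε.comp ι = ι.comp φ' := MvPolynomial.algHom_ext fun i => by simp [ε, ι]
    have hεl : ε (X (Fin.last m)) = X (Fin.last m) := by simp [ε]
    have hε : ε.toRingHom.Finite := by
      refine finite_of_forall_integral ε fun j => ?_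
      cases j using Fin.lastCases with
      | last => rw [← hεl]; exact RingHom.isIntegralElem_map _
      | cast i =>
        obtain ⟨p, hp, hp0⟩ := hφ'.to_isIntegral (X i)
        refine ⟨p.map ι.toRingHom, hp.map _, ?_⟩
        rw [Polynomial.eval₂_map, show ε.toRingHom.comp ι.toRingHom = ι.toRingHom.comp φ'.toRingHom from
          congrArg AlgHom.toRingHom hει, show (X i.castSucc : MvPolynomial (Fin (m + 1)) k) = ι.toRingHom (X i) from
          (rename_X _ _).symm, ← Polynomial.hom_eval₂, hp0, map_zero]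
    refine ⟨Φ.comp ε, RingHom.Finite.comp hΦ hε, ?_⟩
    set S := Ideal.span (Set.range fun i : {i : Fin (m + 1) // r ≤ (i : ℕ)} => (X (i : Fin (m + 1)) : MvPolynomial (Fin (m + 1)) k))
    have hSlast : X (Fin.last m) ∈ S := Ideal.subset_span ⟨⟨Fin.last m, hrm⟩, rfl⟩
    refine le_antisymm (fun a (ha : Φ (ε a) ∈ q) => ?_) (Ideal.span_le.2 ?_)
    · have h1 : ε (ι (π a)) ∈ q1 := by
        have h2 := hdiff (q1.comap ε.toRingHom) (show ε _ ∈ q1 by rw [hεl]; exact hlast) a
        have h3 : ε a - ε (ι (π a)) ∈ q1 := by rw [← map_sub]; exact h2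
        exact (Submodule.sub_mem_iff_right q1 (show ε a ∈ q1 from ha)).1 h3
      have h4 : π a ∈ q'.comap φ' := by
        show ι (φ' (π a)) ∈ q1
        rw [← AlgHom.comp_apply, ← hει]
        exact h1
      rw [hφ'q] at h4
      have h5 : ι (π a) ∈ S := by
        refine (Ideal.span_le.2 ?_ : _ ≤ S.comap ι.toRingHom) h4
        rintro _ ⟨⟨i, hi⟩, rfl⟩
        exact Ideal.subset_span ⟨⟨i.castSucc, hi⟩, by simp [ι]⟩
      have := add_mem (hdiff S hSlast a) h5
      rwa [sub_add_cancel] at this
    · rintro _ ⟨⟨j, hj⟩, rfl⟩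
      show Φ (ε (X j)) ∈ q
      cases j using Fin.lastCases with
      | last => rw [hεl, hΦf]; exact hfq
      | cast i =>
        have h6 : X i ∈ q'.comap φ' := by rw [hφ'q]; exact Ideal.subset_span ⟨⟨i, hj⟩, rfl⟩
        have e : ε (X i.castSucc) = ι (φ' (X i)) := by simp [ε]
        rw [e]
        exact h6

end Groth.Agent.S2100

namespace Groth.Agent.S2100

/-- Let `k` be a field, `𝔮` a prime of `k[x_1, …, x_n]` and `r` the transcendence degree of `κ(𝔮)` over
`k`. Then there is a finite `k`-algebra map `φ : k[y_1, …, y_n] → k[x_1, …, x_n]` with `φ⁻¹(𝔮) =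
(y_{r+1}, …, y_n)`. -/
theorem result {k : Type u} [Field k] (n r : ℕ) (q : Ideal (MvPolynomial (Fin n) k))
    [q.IsPrime] (hr : Algebra.trdeg k q.ResidueField = r) :
    ∃ φ : MvPolynomial (Fin n) k →ₐ[k] MvPolynomial (Fin n) k, φ.toRingHom.Finite ∧
      q.comap φ = Ideal.span (Set.range fun i : {i : Fin n // r ≤ (i : ℕ)} => MvPolynomial.X (i : Fin n)) := by
  exact main n r q ((trdeg_residueField _ q).trans hr)

end Groth.Agent.S2100
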