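import Groth.Statements.S2102
import Groth.Agent.DivPts.NormalIso


set_option autoImplicit false
set_option backward.isDefEq.respectTransparency false
set_option backward.isDefEq.respectTransparency.types false
universe u
open CategoryTheory AlgebraicGeometry
open Mor

namespace Groth.Agent.S2102

/-- The ring of global sections of an integral normal scheme is an integrally closed domain. -/
theorem result (X : Scheme.{u}) [IsIntegral X] (hX : Pi1.IsNormalScheme X) :
    IsIntegrallyClosed (Γ(X, ⊤) : Type u) := by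
  haveI : Nonempty (⊤ : X.Opens) := ⟨⟨genericPoint X, trivial⟩⟩
  refine (isIntegrallyClosed_iff (FractionRing Γ(X, ⊤))).2 fun {w} hw => ?_
  let ψ : FractionRing Γ(X, ⊤) →+* X.functionField :=
    IsFractionRing.lift (g := (X.germToFunctionField ⊤).hom) (Scheme.germToFunctionField_injective X ⊤)
  suffices h : ∃ g : Γ(X, ⊤), X.germToFunctionField ⊤ g = ψ w by
    obtain ⟨g, hg⟩ := h
    exact ⟨g, ψ.injective ((IsFractionRing.lift_algebraMap (g := (X.germToFunctionField ⊤).hom) (Scheme.germToFunctionField_injective X ⊤) g).trans hg)⟩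
  have hz : IsIntegral Γ(X, ⊤) (ψ w) := by
    obtain ⟨p, hp, hev⟩ := hw
    refine ⟨p, hp, ?_⟩
    have e : algebraMap Γ(X, ⊤) X.functionField = ψ.comp (algebraMap Γ(X, ⊤) (FractionRing Γ(X, ⊤))) :=
      RingHom.ext fun a => (IsFractionRing.lift_algebraMap (g := (X.germToFunctionField ⊤).hom) (Scheme.germToFunctionField_injective X ⊤) a).symm
    rw [e, ← Polynomial.hom_eval₂, hev, map_zero]
  generalize ψ w = z at hz ⊢
  let ι := {U : X.Opens // IsAffineOpen U ∧ Nonempty U}
  have hsec : ∀ i : ι, ∃ a : Γ(X, i.1), (haveI := i.2.2; X.germToFunctionField i.1 a) = z := fun i => by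
    haveI := i.2.2
    haveI := Groth.Agent.DivPts.isIntegrallyClosed_sections hX i.2.1
    haveI := functionField_isFractionRing_of_isAffineOpen X i.1 i.2.1
    have hz' : IsIntegral Γ(X, i.1) z := by
      obtain ⟨p, hp, hev⟩ := hz
      refine ⟨p.map (X.presheaf.map (homOfLE (le_top : i.1 ≤ ⊤)).op).hom, hp.map _, ?_⟩
      rw [Polynomial.eval₂_map]
      rw [← hev]
      congr 1
      ext a
      exact (TopCat.Presheaf.germ_res_apply X.presheaf (homOfLE (le_top : i.1 ≤ ⊤)) (genericPoint X) _ a)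
    exact (IsIntegrallyClosed.isIntegral_iff (R := Γ(X, i.1)) (K := X.functionField)).1 hz'
  choose s hs using hsec
  have hinj : ∀ (U : X.Opens) [Nonempty U], Function.Injective (X.germToFunctionField U) := fun U _ =>
    Scheme.germToFunctionField_injective X U
  obtain ⟨g, hg, -⟩ := X.sheaf.existsUnique_gluing' (fun i : ι => i.1) ⊤ (fun i => homOfLE le_top)
    (by
      intro x _
      obtain ⟨_, ⟨U, hU, rfl⟩, hxU, -⟩ :=
        X.isBasis_affineOpens.exists_subset_of_mem_open (Set.mem_univ x) isOpen_univ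
      exact TopologicalSpace.Opens.mem_iSup.2 ⟨⟨U, hU, ⟨⟨x, hxU⟩⟩⟩, hxU⟩)
    s (by
      intro i j
      by_cases hne : Nonempty ↥(i.1 ⊓ j.1 : X.Opens)
      · haveI : Nonempty ↥((i.1 ⊓ j.1 : X.Opens) : Set X) := hne
        apply @hinj (i.1 ⊓ j.1) hne
        haveI := i.2.2
        haveI := j.2.2
        refine Eq.trans (TopCat.Presheaf.germ_res_apply X.presheaf _ _ _ _) ?_
        refine Eq.trans ?_ (TopCat.Presheaf.germ_res_apply X.presheaf _ _ _ _).symm
        exact (hs i).trans (hs j).symm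
      · have : (i.1 ⊓ j.1 : X.Opens) = ⊥ := TopologicalSpace.Opens.ext (Set.eq_empty_of_forall_notMem fun w hw => hne ⟨⟨w, hw⟩⟩)
        exact @Subsingleton.elim _ (by show Subsingleton Γ(X, i.1 ⊓ j.1); rw [this]; infer_instance) _ _)
  refine ⟨g, ?_⟩
  obtain ⟨_, ⟨U, hU, rfl⟩, hxU, -⟩ :=
    X.isBasis_affineOpens.exists_subset_of_mem_open (Set.mem_univ (genericPoint X)) isOpen_univ
  haveI : Nonempty U := ⟨⟨_, hxU⟩⟩
  refine Eq.trans ?_ (hs ⟨U, hU, inferInstance⟩)
  rw [← hg ⟨U, hU, inferInstance⟩]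
  exact (TopCat.Presheaf.germ_res_apply X.presheaf _ _ _ _).symm

end Groth.Agent.S2102
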