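import Groth.Statements.S2106
import Mathlib
import Groth.Agent.FlatFibrePD.EssFP
import Groth.Agent.FlatFibrePD.Basic

set_option autoImplicit false
universe u
open CAlg

namespace Groth.Agent.S2106

open Groth.Agent.FlatFibrePD TensorProduct Function

/-- Relative flatness over a localization gives relative flatness over the ring. -/
theorem relFlat_of_localization {R S₁ S N : Type u} [CommRing R] (p : Ideal R) [CommRing S₁] [CommRing S]
    [Algebra R S₁] [Algebra R S] [Algebra S₁ S] [IsScalarTower R S₁ S] [Module.Flat S₁ S]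
    [AddCommGroup N] [Module S N] [Module S₁ N] [IsScalarTower S₁ S N]
    (h : Groth.Agent.FlatLocus.RelFlat R p S N) : Groth.Agent.FlatLocus.RelFlat R p S₁ N := by
  intro X Y _ _ _ _ f hX hY hf
  have hkill : ∀ (Z : Type u) [AddCommGroup Z] [Module S₁ Z],
      (∀ r ∈ p, ∀ z : Z, algebraMap R S₁ r • z = 0) → ∀ r ∈ p, ∀ w : S ⊗[S₁] Z, algebraMap R S r • w = 0 := by
    intro Z _ _ hZ r hr w
    rw [IsScalarTower.algebraMap_apply R S₁ S, algebraMap_smul]
    induction w with
    | zero => simp
    | add a b ha hb => rw [smul_add, ha, hb, add_zero]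
    | tmul l z => rw [← TensorProduct.tmul_smul, hZ r hr, TensorProduct.tmul_zero]
  have hg : Injective ((f.baseChange S).lTensor N) :=
    h (f.baseChange S) (hkill X hX) (hkill Y hY) (Module.Flat.lTensor_preserves_injective_linearMap f hf)
  let eX := TensorProduct.AlgebraTensorModule.cancelBaseChange S₁ S S N X
  let eY := TensorProduct.AlgebraTensorModule.cancelBaseChange S₁ S S N Y
  have key : ∀ z, eY ((f.baseChange S).lTensor N z) = f.lTensor N (eX z) := by
    intro z
    induction z with
    | zero => simp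
    | add a b ha hb => simp [ha, hb]
    | tmul m w =>
      induction w with
      | zero => simp
      | add a b ha hb => simp only [TensorProduct.tmul_add, map_add, ha, hb]
      | tmul l x => simp [eX, eY]
  intro x y hxy
  obtain ⟨x, rfl⟩ := eX.surjective x
  obtain ⟨y, rfl⟩ := eX.surjective y
  rw [← key, ← key] at hxy
  exact congrArg eX (hg (eY.injective hxy))

/-- Let `R → S → S'` be local homomorphisms of local rings with `S` and `S'` essentially of finite
presentation over `R`, and `M` a nonzero finitely presented `S'`-module which is flat over `R` and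
such that `M/𝔪_R M` is flat over `S/𝔪_R S`. Then `S` is flat over `R` and `M` is flat over `S`. -/
theorem result {R S S' M : Type u} [CommRing R] [CommRing S] [CommRing S']
    [IsLocalRing R] [IsLocalRing S] [IsLocalRing S'] [Algebra R S] [Algebra S S'] [Algebra R S'] [IsScalarTower R S S']
    [IsLocalHom (algebraMap R S)] [IsLocalHom (algebraMap S S')]
    (hS : CAlgX.IsEssFinitePresentation R S) (hS' : CAlgX.IsEssFinitePresentation R S')
    [AddCommGroup M] [Module S' M] [Module S M] [Module R M] [IsScalarTower S S' M] [IsScalarTower R S' M]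
    [IsScalarTower R S M] [Module.FinitePresentation S' M] [Nontrivial M] [Module.Flat R M]
    (hfib : Module.Flat (S ⧸ (IsLocalRing.maximalIdeal R).map (algebraMap R S))
      (M ⧸ (IsLocalRing.maximalIdeal R).map (algebraMap R S) • (⊤ : Submodule S M))) :
    Module.Flat R S ∧ Module.Flat S M := by
  obtain ⟨S₁, _, _, _, _, T₁, hfp₁, hloc₁⟩ := hS
  obtain ⟨S₂, _, _, _, _, T₂, hfp₂, hloc₂⟩ := hS'
  obtain ⟨t, ht, ψ, ι, hιψ, hι⟩ := Groth.Agent.FlatFibrePD.exists_lift_away T₂
    ((IsScalarTower.toAlgHom R S S').comp (IsScalarTower.toAlgHom R S₁ S))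
  let S₃ := Localization.Away t
  have : Algebra.FinitePresentation R S₃ := Groth.Agent.FlatFibrePD.finitePresentation_away t
  let : Algebra S₁ S₃ := ψ.toRingHom.toAlgebra
  have : IsScalarTower R S₁ S₃ := IsScalarTower.of_algebraMap_eq fun r => (ψ.commutes r).symm
  let : Algebra S₃ S' := ι.toRingHom.toAlgebra
  have : IsScalarTower R S₃ S' := IsScalarTower.of_algebraMap_eq fun r => (ι.commutes r).symm
  have : IsScalarTower S₂ S₃ S' := IsScalarTower.of_algebraMap_eq fun x => (hι x).symm
  let : Algebra S₁ S' := ((algebraMap S S').comp (algebraMap S₁ S)).toAlgebra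
  have : IsScalarTower S₁ S S' := IsScalarTower.of_algebraMap_eq fun _ => rfl
  have : IsScalarTower S₁ S₃ S' := IsScalarTower.of_algebraMap_eq fun x => (AlgHom.congr_fun hιψ x).symm
  have hle : Submonoid.powers t ≤ T₂ := Submonoid.powers_le.2 ht
  have : IsLocalization (T₂.map (algebraMap S₂ S₃)) S' :=
    IsLocalization.isLocalization_of_submonoid_le S₃ S' (Submonoid.powers t) T₂ hle
  let q : Ideal S₃ := (IsLocalRing.maximalIdeal S').comap (algebraMap S₃ S')
  have : IsLocalization q.primeCompl S' :=
    Groth.Agent.FlatFibrePD.isLocalization_comap_maximalIdeal (T₂.map (algebraMap S₂ S₃))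
  obtain ⟨M₀, _, _, hM₀, ⟨e⟩⟩ := Groth.Agent.FlatFibrePD.exists_module_model_localization (B := S₃) (L := S') q.primeCompl M
  let : Module S₁ M₀ := Module.compHom M₀ (algebraMap S₁ S₃)
  have : IsScalarTower S₁ S₃ M₀ := IsScalarTower.of_compHom S₁ S₃ M₀
  let : Module R M₀ := Module.compHom M₀ (algebraMap R S₃)
  have : IsScalarTower R S₃ M₀ := IsScalarTower.of_compHom R S₃ M₀
  let N := LocalizedModule q.primeCompl M₀
  let : Module S₃ M := Module.compHom M (algebraMap S₃ S')
  have : IsScalarTower S₃ S' M := IsScalarTower.of_compHom S₃ S' M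
  let : Module S₁ M := Module.compHom M (algebraMap S₁ S)
  have : IsScalarTower S₁ S M := IsScalarTower.of_compHom S₁ S M
  have : IsLocalizedModule q.primeCompl (TensorProduct.mk S₃ S' M₀ 1) :=
    (isLocalizedModule_iff_isBaseChange q.primeCompl S' _).2 (TensorProduct.isBaseChange S₃ M₀ S')
  let eN : N ≃ₗ[S₃] M :=
    (IsLocalizedModule.iso q.primeCompl (TensorProduct.mk S₃ S' M₀ 1)).trans (e.restrictScalars S₃)
  have hsmul₁ : ∀ (s : S₁) (z : N), eN (s • z) = s • eN z := by
    intro s z
    rw [← algebraMap_smul S₃ s z, eN.map_smul, ← algebraMap_smul S' (algebraMap S₁ S₃ s) (eN z),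
      ← IsScalarTower.algebraMap_apply, IsScalarTower.algebraMap_apply S₁ S S', algebraMap_smul, algebraMap_smul]
  let e₁ : N ≃ₗ[S₁] M := { eN with map_smul' := hsmul₁ }
  have hsmulR : ∀ (r : R) (z : N), eN (r • z) = r • eN z := by
    intro r z
    rw [← algebraMap_smul S₃ r z, eN.map_smul, ← algebraMap_smul S' (algebraMap R S₃ r) (eN z),
      ← IsScalarTower.algebraMap_apply, algebraMap_smul]
  let eR : N ≃ₗ[R] M := { eN with map_smul' := hsmulR }
  have : Module.Flat R N := Module.Flat.of_linearEquiv eR
  have : Nontrivial N := eN.toEquiv.nontrivial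
  have hS : Module.Flat S₁ S := IsLocalization.flat S T₁
  have hp : q.comap (algebraMap R S₃) = IsLocalRing.maximalIdeal R := by
    rw [Ideal.comap_comap, ← IsScalarTower.algebraMap_eq]
    ext r
    rw [Ideal.mem_comap, IsLocalRing.mem_maximalIdeal, IsLocalRing.mem_maximalIdeal, mem_nonunits_iff,
      mem_nonunits_iff, IsScalarTower.algebraMap_apply R S S']
    refine not_congr ⟨fun h => ?_, fun h => (h.map _).map _⟩
    exact isUnit_of_map_unit (algebraMap R S) r (isUnit_of_map_unit (algebraMap S S') _ h)
  have hrelM : Groth.Agent.FlatLocus.RelFlat R (IsLocalRing.maximalIdeal R) S M := by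
    rw [Groth.Agent.FlatLocus.relFlat_iff_flat_quotient]
    let e' := TensorProduct.quotTensorEquivQuotSMul M ((IsLocalRing.maximalIdeal R).map (algebraMap R S))
    have e'' : (S ⧸ (IsLocalRing.maximalIdeal R).map (algebraMap R S)) ⊗[S] M
        ≃ₗ[S ⧸ (IsLocalRing.maximalIdeal R).map (algebraMap R S)]
        M ⧸ (IsLocalRing.maximalIdeal R).map (algebraMap R S) • (⊤ : Submodule S M) :=
      { e' with
        map_smul' := fun c z => by
          obtain ⟨c, rfl⟩ := Ideal.Quotient.mk_surjective c
          show e' (c • z) = c • e' z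
          exact e'.map_smul c z }
    exact Module.Flat.of_linearEquiv e''
  have hrelN : Groth.Agent.FlatLocus.RelFlat R (q.comap (algebraMap R S₃)) S₁ N := by
    rw [hp]
    exact (relFlat_of_localization _ hrelM).congr e₁.symm
  obtain ⟨h1, h2⟩ := Groth.Agent.FlatLocus.fibre_criterion (R := R) (S := S₁) (S' := S₃) (M := M₀) q hrelN
  refine ⟨?_, ?_⟩
  · let q₁ := q.comap (algebraMap S₁ S₃)
    have hq₁ : q₁ = (IsLocalRing.maximalIdeal S).comap (algebraMap S₁ S) := by
      show Ideal.comap _ (Ideal.comap _ _) = _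
      rw [Ideal.comap_comap, ← IsScalarTower.algebraMap_eq, IsScalarTower.algebraMap_eq S₁ S S',
        ← Ideal.comap_comap]
      congr 1
      exact ((IsLocalRing.local_hom_TFAE (algebraMap S S')).out 0 4).mp ‹_›
    have hl : IsLocalization q₁.primeCompl S := by
      rw! [hq₁]
      exact Groth.Agent.FlatFibrePD.isLocalization_comap_maximalIdeal T₁
    have : IsLocalizedModule q₁.primeCompl (Algebra.linearMap S₁ S) := inferInstance
    let e' : LocalizedModule q₁.primeCompl S₁ ≃ₗ[S₁] S := IsLocalizedModule.iso q₁.primeCompl (Algebra.linearMap S₁ S)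
    exact Module.Flat.of_linearEquiv (e'.restrictScalars R).symm
  · have h3 : Module.Flat S₁ M := Module.Flat.of_linearEquiv e₁.symm
    exact (Module.flat_iff_of_isLocalization S T₁ M).2 h3

end Groth.Agent.S2106
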