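import Groth.Statements.S2107
import Mathlib
import Groth.Agent.FlatInjCoker.Basic
import Groth.Agent.UnivInjFib.Slice

set_option autoImplicit false
universe u
open CAlg

namespace Groth.Agent.S2107

/-- Let `R → S` be a local homomorphism of local rings with `S` essentially of finite presentation over
`R`, `M`, `N` finitely presented `S`-modules with `N` flat over `R`, and `u : M → N` an `S`-linear
map which is injective modulo `𝔪_R`. Then `u` is injective and its cokernel is flat over `R`. -/
theorem result {R S M N : Type u} [CommRing R] [CommRing S] [IsLocalRing R]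
    [IsLocalRing S] [Algebra R S] [IsLocalHom (algebraMap R S)] (hS : CAlgX.IsEssFinitePresentation R S)
    [AddCommGroup M] [Module S M] [Module R M] [IsScalarTower R S M] [Module.FinitePresentation S M]
    [AddCommGroup N] [Module S N] [Module R N] [IsScalarTower R S N] [Module.FinitePresentation S N] [Module.Flat R N]
    (u : M →ₗ[S] N)
    (hu : ∀ x : M, u x ∈ (IsLocalRing.maximalIdeal R).map (algebraMap R S) • (⊤ : Submodule S N) →
      x ∈ (IsLocalRing.maximalIdeal R).map (algebraMap R S) • (⊤ : Submodule S M)) :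
    Function.Injective u ∧ Module.Flat R (N ⧸ LinearMap.range u) := by
  classical
  obtain ⟨B, _, _, _, _, T, _, _⟩ := hS
  let q : Ideal B := (IsLocalRing.maximalIdeal S).comap (algebraMap B S)
  have hu' : ∀ x ∈ q.primeCompl, IsUnit (algebraMap B S x) := fun x hx => IsLocalRing.notMem_maximalIdeal.1 hx
  have hle : T ≤ q.primeCompl := fun x hx hmem =>
    (IsLocalRing.mem_maximalIdeal _).1 hmem (IsLocalization.map_units S ⟨x, hx⟩)
  letI : Module B M := Module.compHom M (algebraMap B S)
  haveI : IsScalarTower B S M := IsScalarTower.of_compHom _ _ M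
  letI : Module B N := Module.compHom N (algebraMap B S)
  haveI : IsScalarTower B S N := IsScalarTower.of_compHom _ _ N
  haveI : IsScalarTower R B N := IsScalarTower.of_algebraMap_smul fun r n => by
    show algebraMap B S (algebraMap R B r) • n = r • n
    rw [← IsScalarTower.algebraMap_apply, algebraMap_smul]
  obtain ⟨M₀, _, _, fM, _, _⟩ := UnivInjFib.exists_module_model T q.primeCompl hle hu' M
  obtain ⟨N₀, _, _, fN, _, _⟩ := UnivInjFib.exists_module_model T q.primeCompl hle hu' N
  letI : Module R N₀ := Module.compHom N₀ (algebraMap R B)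
  haveI : IsScalarTower R B N₀ := IsScalarTower.of_compHom _ _ N₀
  let eN : LocalizedModule q.primeCompl N₀ ≃ₗ[B] N := IsLocalizedModule.iso q.primeCompl fN
  haveI : Module.Flat R (LocalizedModule q.primeCompl N₀) := Module.Flat.of_linearEquiv (eN.restrictScalars R)
  obtain ⟨u₀, c, hc⟩ := Module.FinitePresentation.exists_lift_of_isLocalizedModule q.primeCompl fN
    ((u.restrictScalars B) ∘ₗ fM)
  have hcu : ∀ x, fN (u₀ x) = algebraMap B S c • u (fM x) := fun x => by
    rw [show fN (u₀ x) = _ from LinearMap.congr_fun hc x, algebraMap_smul]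
    rfl
  have hp : q.comap (algebraMap R B) = IsLocalRing.maximalIdeal R := by
    rw [Ideal.comap_comap, ← IsScalarTower.algebraMap_eq]
    exact IsLocalRing.maximalIdeal_comap _
  -- membership in `m • ⊤` through a localization map
  have hmem : ∀ {V₀ V : Type u} [AddCommGroup V₀] [Module B V₀] [AddCommGroup V] [Module S V] [Module B V]
      [IsScalarTower B S V] (f : V₀ →ₗ[B] V) [IsLocalizedModule q.primeCompl f] (x : V₀),
      f x ∈ (IsLocalRing.maximalIdeal R).map (algebraMap R S) • (⊤ : Submodule S V) ↔
        ∃ s ∉ q, s • x ∈ (IsLocalRing.maximalIdeal R).map (algebraMap R B) • (⊤ : Submodule B V₀) := by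
    intro V₀ V _ _ _ _ _ _ f _ x
    rw [IsScalarTower.algebraMap_eq R B S, ← Ideal.map_map,
      FlatInjCoker.mem_map_smul_iff (R := B) (S := S)]
    set I := (IsLocalRing.maximalIdeal R).map (algebraMap R B)
    constructor
    · intro h
      have key : ∀ v ∈ I • (⊤ : Submodule B V), ∃ s ∉ q, ∃ y ∈ I • (⊤ : Submodule B V₀), s • v = f y := by
        intro v hv
        induction hv using Submodule.smul_induction_on' with
        | smul r hr w _ =>
          obtain ⟨⟨w₀, s⟩, hw⟩ := IsLocalizedModule.surj q.primeCompl f w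
          refine ⟨s, s.2, r • w₀, Submodule.smul_mem_smul hr Submodule.mem_top, ?_⟩
          rw [map_smul, ← hw, smul_comm]
          rfl
        | add a _ b _ ha hb =>
          obtain ⟨s, hs, y, hy, hsy⟩ := ha
          obtain ⟨t, ht, z, hz, htz⟩ := hb
          refine ⟨s * t, q.primeCompl.mul_mem hs ht, t • y + s • z,
            Submodule.add_mem _ (Submodule.smul_mem _ _ hy) (Submodule.smul_mem _ _ hz), ?_⟩
          rw [smul_add, mul_comm, mul_smul, hsy, mul_comm t s, mul_smul, htz, map_add, map_smul, map_smul]
      obtain ⟨s, hs, y, hy, hsy⟩ := key _ h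
      rw [← map_smul] at hsy
      obtain ⟨t, ht⟩ := (IsLocalizedModule.eq_iff_exists q.primeCompl f).1 hsy
      refine ⟨(t : B) * s, q.primeCompl.mul_mem t.2 hs, ?_⟩
      rw [mul_smul, show (t : B) • s • x = (t : B) • y from ht]
      exact Submodule.smul_mem _ _ hy
    · rintro ⟨s, hs, hsx⟩
      have h1 : f (s • x) ∈ I • (⊤ : Submodule B V) := by
        have := Submodule.mem_map_of_mem (f := f) hsx
        rw [Submodule.map_smul''] at this
        exact Submodule.smul_mono le_rfl le_top this
      rw [map_smul, ← algebraMap_smul S s (f x),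
        ← FlatInjCoker.mem_map_smul_iff (R := B) (S := S)] at h1
      rw [← FlatInjCoker.mem_map_smul_iff (R := B) (S := S)]
      have h2 := Submodule.smul_mem _ (↑(hu' s hs).unit⁻¹ : S) h1
      rwa [smul_smul, IsUnit.val_inv_mul, one_smul] at h2
  have hfib : FlatInjCoker.FibInj R u₀ q := by
    intro x hx
    rw [hp] at hx ⊢
    have h1 : fN (u₀ x) ∈ _ := (hmem fN (u₀ x)).2 ⟨1, q.primeCompl.one_mem, by rwa [one_smul]⟩
    rw [hcu] at h1
    have h2 := Submodule.smul_mem _ (↑(hu' c c.2).unit⁻¹ : S) h1
    rw [smul_smul, IsUnit.val_inv_mul, one_smul] at h2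
    exact (hmem fM x).1 (hu _ h2)
  obtain ⟨hinj, hflat⟩ := FlatInjCoker.injFlat u₀ q hfib
  refine ⟨(injective_iff_map_eq_zero u).2 fun m hm => ?_, ?_⟩
  · obtain ⟨⟨x, s⟩, hxs⟩ := IsLocalizedModule.surj q.primeCompl fM m
    have h0 : fN (u₀ x) = 0 := by
      rw [hcu, show fM x = algebraMap B S s • m by rw [algebraMap_smul]; exact hxs.symm, map_smul, hm,
        smul_zero, smul_zero]
    obtain ⟨t, ht⟩ := (IsLocalizedModule.eq_zero_iff q.primeCompl fN).1 h0
    rw [Submonoid.smul_def, ← map_smul] at ht
    obtain ⟨t', ht', htx⟩ := hinj _ ht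
    have h1 : (t' * t * s : B) • m = 0 := by
      rw [mul_smul, show (s : B) • m = fM x from hxs, ← map_smul, mul_smul, htx, map_zero]
    rw [← algebraMap_smul S (t' * t * s) m] at h1
    exact ((hu' _ (q.primeCompl.mul_mem (q.primeCompl.mul_mem ht' t.2) s.2)).smul_eq_zero).1 h1
  · let ρ := (LinearMap.range u).mkQ.restrictScalars B ∘ₗ fN
    have hker : LinearMap.range u₀ ≤ LinearMap.ker ρ := by
      rintro _ ⟨x, rfl⟩
      change (LinearMap.range u).mkQ (fN (u₀ x)) = 0
      rw [Submodule.mkQ_apply, Submodule.Quotient.mk_eq_zero, hcu, ← map_smul]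
      exact ⟨_, rfl⟩
    let g := (LinearMap.range u₀).liftQ ρ hker
    haveI : IsLocalizedModule q.primeCompl g := by
      constructor
      · intro r
        rw [Module.End.isUnit_iff]
        have h := (hu' r r.2).smul_bijective (β := N ⧸ LinearMap.range u)
        convert h using 1
        ext z
        simp [Module.algebraMap_end_apply]
      · intro z
        obtain ⟨n, rfl⟩ := Submodule.Quotient.mk_surjective _ z
        obtain ⟨⟨y, s⟩, hy⟩ := IsLocalizedModule.surj q.primeCompl fN n
        refine ⟨⟨Submodule.Quotient.mk y, s⟩, ?_⟩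
        change (s : B) • (LinearMap.range u).mkQ n = (LinearMap.range u).mkQ (fN y)
        rw [← hy]
        rfl
      · intro z z' h
        obtain ⟨y, rfl⟩ := Submodule.Quotient.mk_surjective _ z
        obtain ⟨y', rfl⟩ := Submodule.Quotient.mk_surjective _ z'
        have h' : fN (y - y') ∈ LinearMap.range u := by
          rw [map_sub]; exact (Submodule.Quotient.eq _).1 h
        obtain ⟨m, hm⟩ := h'
        obtain ⟨⟨x, s⟩, hxs⟩ := IsLocalizedModule.surj q.primeCompl fM m
        have h1 : fN (((c * s : q.primeCompl) : B) • (y - y')) = fN (u₀ x) := by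
          rw [map_smul, hcu, show fM x = (s : B) • m from hxs.symm, LinearMap.map_smul_of_tower, hm,
            Submonoid.coe_mul, mul_smul, algebraMap_smul]
        obtain ⟨t, ht⟩ := (IsLocalizedModule.eq_iff_exists q.primeCompl fN).1 h1
        refine ⟨t * (c * s), ?_⟩
        rw [Submonoid.smul_def, Submonoid.smul_def, ← Submodule.Quotient.mk_smul, ← Submodule.Quotient.mk_smul,
          Submodule.Quotient.eq, ← smul_sub, Submonoid.coe_mul, mul_smul]
        rw [show (t : B) • ((c * s : q.primeCompl) : B) • (y - y') = (t : B) • u₀ x from ht, ← map_smul]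
        exact ⟨_, rfl⟩
    haveI : IsScalarTower R B (N ⧸ LinearMap.range u) := IsScalarTower.of_algebraMap_smul fun r z => by
      rw [← algebraMap_smul S (algebraMap R B r) z, ← IsScalarTower.algebraMap_apply, algebraMap_smul]
    exact Module.Flat.of_linearEquiv
      ((IsLocalizedModule.iso q.primeCompl g).restrictScalars R).symm

end Groth.Agent.S2107
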