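import Groth.Statements.S9394
import Mathlib
import Groth.Agent.N2Lib.Basic
-- import your own Groth.Agent.* helpers here

set_option autoImplicit false
universe u
open CAlg

namespace Groth.Agent.S9394

/-- Being N-2 (Japanese) can be checked on a finite cover of Spec R by principal opens whose rings are
N-2 domains. -/
theorem result (R : Type u) [CommRing R] [IsDomain R]
    {ι : Type u} [Finite ι] (f : ι → R) (hf : Ideal.span (Set.range f) = ⊤)
    (Rf : ι → Type u) [∀ i, CommRing (Rf i)] [∀ i, IsDomain (Rf i)] [∀ i, Algebra R (Rf i)]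
    [∀ i, IsLocalization.Away (f i) (Rf i)] (h : ∀ i, CAlg.IsN2 (Rf i)) : CAlg.IsN2 R := by
  have hne : ∀ i, f i ≠ 0 := fun i h0 => not_isUnit_zero (M₀ := Rf i) (by
    simpa [h0] using IsLocalization.Away.algebraMap_isUnit (S := Rf i) (f i))
  intro L _ _ _ _ hfin
  refine Groth.Agent.N2Lib.finite_integralClosure_of_cover f hf L fun i => ?_
  let _ : Algebra (Rf i) (FractionRing R) :=
    (IsLocalization.Away.lift (f i) (g := algebraMap R (FractionRing R)) (isUnit_iff_ne_zero.mpr
      (by simpa using (IsFractionRing.injective R (FractionRing R)).ne (hne i)))).toAlgebra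
  have : IsScalarTower R (Rf i) (FractionRing R) := IsScalarTower.of_algebraMap_eq fun r =>
    (IsLocalization.Away.lift_eq (f i) _ r).symm
  have : IsFractionRing (Rf i) (FractionRing R) :=
    IsFractionRing.isFractionRing_of_isLocalization (Submonoid.powers (f i)) _ _
      (powers_le_nonZeroDivisors_of_noZeroDivisors (hne i))
  let _ : Algebra (Rf i) L := ((algebraMap (FractionRing R) L).comp (algebraMap (Rf i) (FractionRing R))).toAlgebra
  have : IsScalarTower (Rf i) (FractionRing R) L := IsScalarTower.of_algebraMap_eq fun _ => rfl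
  have : IsScalarTower R (Rf i) L := IsScalarTower.of_algebraMap_eq fun r => by
    rw [IsScalarTower.algebraMap_apply (Rf i) (FractionRing R) L, ← IsScalarTower.algebraMap_apply R (Rf i) (FractionRing R),
      ← IsScalarTower.algebraMap_apply R (FractionRing R) L]
  have := Groth.Agent.N2Lib.finite_integralClosure_of_isN2 (h i) (FractionRing R) L
  exact Groth.Agent.N2Lib.exists_gens_of_away (Rf i) L

end Groth.Agent.S9394
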