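import Groth.Statements.S2114
import Groth.Agent.CAlgN2.CompleteLocal
import Groth.Agent.S9394

set_option autoImplicit false
universe u
open CAlg

namespace Groth.Agent.S2114

/-- Let `R ⊆ S` be an extension of domains which is of finite type and quasi-finite, with `R` Noetherian
and N-2 (integral closures in finite extensions of the fraction field are finite). Then `S` is N-2. -/
theorem result {R S : Type u} [CommRing R] [IsDomain R] [IsNoetherianRing R] [CommRing S]
    [IsDomain S] [Algebra R S] (hinj : Function.Injective (algebraMap R S)) [Algebra.FiniteType R S]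
    [Algebra.QuasiFinite R S] (hR : CAlg.IsN2 R) : CAlg.IsN2 S := by
  classical
  haveI hqf : ∀ (q : Ideal S) [q.IsPrime], Algebra.WeaklyQuasiFiniteAt R q := fun q _ => inferInstance
  choose S' hfg r hrq hbij using fun q : PrimeSpectrum S =>
    Algebra.QuasiFiniteAt.exists_fg_and_exists_notMem_and_awayMap_bijective (R := R) q.asIdeal
  have htop : Ideal.span (Set.range fun q => (r q : S)) = ⊤ := by
    by_contra hne
    obtain ⟨M, hM, hle⟩ := Ideal.exists_le_maximal _ hne
    exact hrq ⟨M, hM.isPrime⟩ (hle (Ideal.subset_span ⟨⟨M, hM.isPrime⟩, rfl⟩))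
  obtain ⟨T, hT, hTspan⟩ := (Ideal.span_eq_top_iff_finite _).1 htop
  choose q hq using fun t : T => hT t.2
  have hne : ∀ t : T, t.1 ≠ 0 := fun t h0 => hrq (q t) (by
    rw [show ((r (q t) : S' (q t)) : S) = t.1 from hq t, h0]
    exact zero_mem _)
  haveI : ∀ t : T, IsDomain (Localization.Away t.1) := fun t =>
    IsLocalization.isDomain_localization (powers_le_nonZeroDivisors_of_noZeroDivisors (hne t))
  refine S9394.result S (fun t : T => t.1) (by simpa using hTspan) (fun t => Localization.Away t.1)
    fun t => ?_
  haveI : Module.Finite R (S' (q t)) := Module.Finite.iff_fg.2 (hfg (q t))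
  have hN : CAlg.IsN2 (S' (q t)) := CAlgN2.isN2_of_finite R (S' (q t))
    (fun a b h => hinj (congrArg (fun z : S' (q t) => z.1) h)) hR
  haveI : IsNoetherianRing (S' (q t)) := IsNoetherianRing.of_finite R _
  have hr0 : r (q t) ≠ 0 := fun h0 => hne t ((hq t).symm.trans (congrArg Subtype.val h0))
  haveI : IsDomain (Localization.Away (r (q t))) :=
    IsLocalization.isDomain_localization (powers_le_nonZeroDivisors_of_noZeroDivisors hr0)
  have e : ((S' (q t)).val.toRingHom (r (q t))) = t.1 := hq t
  haveI : IsLocalization.Away t.1 (Localization.Away ((S' (q t)).val.toRingHom (r (q t)))) :=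
    e ▸ inferInstance
  exact N2Poly.isN2_of_ringEquiv
    ((RingEquiv.ofBijective _ (hbij (q t))).trans
      (IsLocalization.algEquiv (Submonoid.powers t.1) (Localization.Away ((S' (q t)).val.toRingHom (r (q t))))
        (Localization.Away t.1)).toRingEquiv)
    (N2Lib.isN2_of_isLocalization (Submonoid.powers (r (q t))) _ hN)

end Groth.Agent.S2114
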