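import Groth.Statements.S2120
import Groth.Agent.FpqcDescent.Basic
import Mathlib.AlgebraicGeometry.Morphisms.FlatDescent


set_option autoImplicit false
universe u
open CategoryTheory AlgebraicGeometry
open Mor

namespace Groth.Agent.S2120

/-- Let `f : X → Y` be surjective and universally closed. If `X` is quasi-separated then so is `Y`; if
`X` is separated then so is `Y`. -/
theorem result {X Y : Scheme.{u}} (f : X ⟶ Y) [Surjective f] [UniversallyClosed f] :
    (QuasiSeparatedSpace X → QuasiSeparatedSpace Y) ∧ (X.IsSeparated → Y.IsSeparated) := by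
  have hc : Limits.pullback.diagonal (Limits.terminal.from X) ≫
      Limits.pullback.map _ _ _ _ f f (𝟙 _) (Limits.terminal.hom_ext _ _) (Limits.terminal.hom_ext _ _) =
      f ≫ Limits.pullback.diagonal (Limits.terminal.from Y) := by
    apply Limits.pullback.hom_ext
    · simp only [Category.assoc, Limits.pullback.lift_fst, Limits.pullback.diagonal_fst, Category.comp_id, Limits.pullback.diagonal_fst_assoc]
    · simp only [Category.assoc, Limits.pullback.lift_snd, Limits.pullback.diagonal_snd, Category.comp_id, Limits.pullback.diagonal_snd_assoc]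
  let m : Limits.pullback (Limits.terminal.from X) (Limits.terminal.from X) ⟶ Limits.pullback (Limits.terminal.from Y) (Limits.terminal.from Y) :=
    Limits.pullback.map _ _ _ _ f f (𝟙 _) (Limits.terminal.hom_ext _ _) (Limits.terminal.hom_ext _ _)
  have : UniversallyClosed m := MorphismProperty.pullbackMap (P := @UniversallyClosed) ‹_› ‹_›
    (Limits.terminal.hom_ext _ _) (Limits.terminal.hom_ext _ _)
  constructor
  · intro hX
    rw [← quasiSeparated_iff_quasiSeparatedSpace (Limits.terminal.from X), quasiSeparated_iff] at hX
    rw [← quasiSeparated_iff_quasiSeparatedSpace (Limits.terminal.from Y), quasiSeparated_iff]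
    have : QuasiCompact (f ≫ Limits.pullback.diagonal (Limits.terminal.from Y)) := by
      rw [← hc]
      exact MorphismProperty.comp_mem _ _ _ hX (inferInstanceAs (QuasiCompact m))
    refine (quasiCompact_iff _).mpr fun U hU hU' ↦ ?_
    rw [← Set.image_preimage_eq (_ ⁻¹' U) f.surjective]
    exact ((f ≫ Limits.pullback.diagonal (Limits.terminal.from Y)).isCompact_preimage (U := ⟨U, hU⟩) hU').image
      f.continuous
  · intro hX
    refine ⟨⟨IsClosedImmersion.of_isPreimmersion _ ?_⟩⟩
    have h1 := f.surjective.range_comp (Limits.pullback.diagonal (Limits.terminal.from Y)).base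
    rw [← h1, ← TopCat.coe_comp, ← Scheme.Hom.comp_base, ← hc, Scheme.Hom.comp_base, TopCat.coe_comp,
      Set.range_comp]
    exact m.isClosedMap _ (Limits.pullback.diagonal (Limits.terminal.from X)).isClosedEmbedding.isClosed_range

end Groth.Agent.S2120
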