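import Groth.Statements.S2121
import Mathlib.AlgebraicGeometry.ValuativeCriterion
import Groth.Agent.LimSch.ClosureRange


set_option autoImplicit false
universe u
open CategoryTheory AlgebraicGeometry
open Mor

namespace Groth.Agent.S2121

/-- Let `f : X → Y` be quasi-compact and `z` a point in the closure of `f(X)` (the underlying set of the
scheme theoretic image). Then there are a valuation ring `A` with fraction field `K` and morphisms
`Spec K → X`, `Spec A → Y` forming a commutative square with `f` and `Spec K → Spec A`, such that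
the closed point of `Spec A` maps to `z`. -/
theorem result {X Y : Scheme.{u}} (f : X ⟶ Y) [QuasiCompact f] (z : Y)
    (hz : z ∈ closure (Set.range f.base)) :
    ∃ (A : Type u) (_ : CommRing A) (_ : IsDomain A) (_ : ValuationRing A)
      (x : Spec (CommRingCat.of (FractionRing A)) ⟶ X) (y : Spec (CommRingCat.of A) ⟶ Y),
      x ≫ f = Spec.map (CommRingCat.ofHom (algebraMap A (FractionRing A))) ≫ y ∧
      y.base (IsLocalRing.closedPoint A) = z := by
  obtain ⟨x, hx⟩ := Groth.Agent.LimSch.exists_specializes_of_mem_closure_range f hz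
  obtain ⟨A, hA, hloc⟩ := IsLocalRing.exists_factor_valuationRing
    (Y.presheaf.stalkSpecializes hx ≫ f.stalkMap x ≫ X.residue x).hom
  let ψ : Y.presheaf.stalk z ⟶ CommRingCat.of A := CommRingCat.ofHom (RingHom.codRestrict
    (Y.presheaf.stalkSpecializes hx ≫ f.stalkMap x ≫ X.residue x).hom A.toSubring hA)
  have : IsLocalHom ψ.hom := hloc
  let e : FractionRing A ≃ₐ[A] X.residueField x := FractionRing.algEquiv A _
  have w : X.fromSpecResidueField x ≫ f =
      Spec.map (CommRingCat.ofHom (algebraMap A (X.residueField x))) ≫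
        Spec.map ψ ≫ Y.fromSpecStalk z := by
    rw [Scheme.fromSpecResidueField, Category.assoc, ← Scheme.SpecMap_stalkMap_fromSpecStalk,
      ← Scheme.SpecMap_stalkSpecializes_fromSpecStalk hx]
    simp_rw [← Spec.map_comp_assoc]
    rfl
  refine ⟨A, inferInstance, inferInstance, inferInstance,
    Spec.map (CommRingCat.ofHom e.symm.toRingHom) ≫ X.fromSpecResidueField x,
    Spec.map ψ ≫ Y.fromSpecStalk z, ?_, ?_⟩
  · rw [Category.assoc, w, ← Spec.map_comp_assoc, ← CommRingCat.ofHom_comp]
    refine congrArg (fun q ↦ q ≫ Spec.map ψ ≫ Y.fromSpecStalk z) (?_ : _ = _)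
    exact (congrArg (fun q : A →+* FractionRing A ↦ Spec.map (CommRingCat.ofHom q))
      e.symm.toAlgHom.comp_algebraMap :)
  · exact (congrArg (Y.fromSpecStalk z) (Spec_closedPoint (f := ψ))).trans
      Scheme.fromSpecStalk_closedPoint

end Groth.Agent.S2121
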