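import Groth.Statements.S2140
import Groth.Agent.GenFree.Algebra

set_option autoImplicit false
universe u
open CAlg

namespace Groth.Agent.S2140

/-- Let `R → S` be an injective ring map of finite type between domains. Then there are nonzero `f ∈ R`
and `g ∈ S` such that `S_{fg}` is a finitely presented `R_f`-algebra. -/
theorem result {R S : Type u} [CommRing R] [IsDomain R] [CommRing S] [IsDomain S]
    [Algebra R S] [Algebra.FiniteType R S] (hinj : Function.Injective (algebraMap R S)) :
    ∃ (f : R) (g : S), f ≠ 0 ∧ g ≠ 0 ∧
      ∀ (Rf Sfg : Type u) [CommRing Rf] [CommRing Sfg] [Algebra R Rf] [IsLocalization.Away f Rf]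
        [Algebra S Sfg] [IsLocalization.Away (algebraMap R S f * g) Sfg] [Algebra Rf Sfg] [Algebra R Sfg]
        [IsScalarTower R S Sfg] [IsScalarTower R Rf Sfg], Algebra.FinitePresentation Rf Sfg := by
  classical
  obtain ⟨f, -, hf, -, -, hfp, -⟩ :=
    Groth.Agent.GenFree.exists_generic_freeness (R := R) S S one_ne_zero
  refine ⟨f, 1, hf, one_ne_zero, ?_⟩
  intro Rf Sfg _ _ _ _ _ _ _ _ _ _
  have h := Groth.Agent.GenFree.finitePresentation_awayMap S f hfp
  haveI : IsLocalization.Away (algebraMap R S f) Sfg := by
    rw [← mul_one (algebraMap R S f)]; infer_instance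
  let e₁ := IsLocalization.algEquiv (Submonoid.powers f) Rf (Localization.Away f)
  let e₂ := IsLocalization.algEquiv (Submonoid.powers (algebraMap R S f)) (Localization.Away (algebraMap R S f)) Sfg
  have he : algebraMap Rf Sfg = (e₂.toRingEquiv.toRingHom.comp
      (Localization.awayMap (algebraMap R S) f)).comp e₁.toRingEquiv.toRingHom := by
    refine IsLocalization.ringHom_ext (Submonoid.powers f) (RingHom.ext fun r => ?_)
    have h1 : e₁ (algebraMap R Rf r) = algebraMap R (Localization.Away f) r := e₁.commutes r
    have h2 : Localization.awayMap (algebraMap R S) f (algebraMap R (Localization.Away f) r) =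
        algebraMap S (Localization.Away (algebraMap R S f)) (algebraMap R S r) := by
      simp [Localization.awayMap, IsLocalization.Away.map, IsLocalization.map_eq]
    have h3 := e₂.commutes (algebraMap R S r)
    show algebraMap Rf Sfg (algebraMap R Rf r) = e₂ (Localization.awayMap (algebraMap R S) f (e₁ (algebraMap R Rf r)))
    rw [h1, h2, h3, ← IsScalarTower.algebraMap_apply, ← IsScalarTower.algebraMap_apply]
  have hall := RingHom.finitePresentation_respectsIso.2 _ e₁.toRingEquiv
    (RingHom.finitePresentation_respectsIso.1 _ e₂.toRingEquiv h)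
  refine RingHom.finitePresentation_algebraMap.1 ?_
  rw [he]
  exact hall

end Groth.Agent.S2140
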