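import Groth.Statements.S2148
import Groth.Agent.PBasis.Field

set_option autoImplicit false
universe u
open CAlg

namespace Groth.Agent.S2148

/-- Let `k` be a perfect field of characteristic `p > 0` and `K` an extension field of `k`. For `a ∈ K`,
the differential `da` vanishes in `Ω_{K/k}` if and only if `a` is a `p`-th power in `K`. -/
theorem result {k K : Type u} [Field k] [Field K] [Algebra k K] (p : ℕ) [Fact p.Prime]
    [CharP k p] [PerfectRing k p] (a : K) :
    KaehlerDifferential.D k K a = 0 ↔ ∃ b : K, b ^ p = a := by
  haveI : CharP K p := charP_of_injective_algebraMap (algebraMap k K).injective p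
  constructor
  · intro h
    by_contra hne
    let F : IntermediateField k K := IntermediateField.adjoin k (Set.range fun y : K => y ^ p)
    have hFle : ∀ y ∈ F, y ∈ (frobenius K p).fieldRange := by
      intro y hy
      induction hy using IntermediateField.adjoin_induction with
      | mem x hx => obtain ⟨b, rfl⟩ := hx; exact ⟨b, rfl⟩
      | algebraMap c =>
        obtain ⟨c', rfl⟩ := surjective_frobenius k p c
        exact ⟨algebraMap k K c', by simp [frobenius_def]⟩
      | add x y _ _ hx hy => exact add_mem hx hy
      | inv x _ hx => exact inv_mem hx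
      | mul x y _ _ hx hy => exact mul_mem hx hy
    obtain ⟨D, -, hD⟩ := PBasis.exists_derivation_apply_eq_one (p := p) F
      (fun y => IntermediateField.subset_adjoin _ _ ⟨y, rfl⟩) (t := a) (fun ha => by
        obtain ⟨b, hb⟩ := hFle a ha
        exact hne ⟨b, hb⟩)
    have := D.liftKaehlerDifferential_comp_D a
    rw [h, map_zero, hD] at this
    exact zero_ne_one this
  · rintro ⟨b, rfl⟩
    rw [Derivation.leibniz_pow, ← Nat.cast_smul_eq_nsmul K, CharP.cast_eq_zero, zero_smul]

end Groth.Agent.S2148
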