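import Groth.Statements.S2159
import Mathlib

set_option autoImplicit false
universe u
open CAlg

namespace Groth.Agent.S2159
open TensorProduct

/-- Given surjections `p₁ : P₁ → M` and `p₂ : P₂ → M` from projective modules, with kernels `K` and `L`,
there is an isomorphism `K ⊕ P₂ ≅ L ⊕ P₁`. -/
theorem result {R M P₁ P₂ : Type u} [CommRing R] [AddCommGroup M] [Module R M] [AddCommGroup P₁] [Module R P₁]
    [Module.Projective R P₁] [AddCommGroup P₂] [Module R P₂] [Module.Projective R P₂] (p₁ : P₁ →ₗ[R] M) (p₂ : P₂ →ₗ[R] M)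
    (h₁ : Function.Surjective p₁) (h₂ : Function.Surjective p₂) :
    Nonempty ((LinearMap.ker p₁ × P₂) ≃ₗ[R] (LinearMap.ker p₂ × P₁)) := by
  obtain ⟨a, ha⟩ := Module.projective_lifting_property p₁ p₂ h₁
  obtain ⟨b, hb⟩ := Module.projective_lifting_property p₂ p₁ h₂
  have ha' : ∀ x, p₁ (a x) = p₂ x := fun x => LinearMap.congr_fun ha x
  have hb' : ∀ x, p₂ (b x) = p₁ x := fun x => LinearMap.congr_fun hb x
  -- pullback
  let P : Submodule R (P₁ × P₂) := LinearMap.eqLocus (p₁.comp (LinearMap.fst R P₁ P₂)) (p₂.comp (LinearMap.snd R P₁ P₂))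
  have hP : ∀ q : P₁ × P₂, q ∈ P ↔ p₁ q.1 = p₂ q.2 := fun q => Iff.rfl
  let e₁ : (LinearMap.ker p₁ × P₂) ≃ₗ[R] P :=
    { toFun := fun q => ⟨(q.1.1 + a q.2, q.2), by
        have := q.1.2; rw [LinearMap.mem_ker] at this
        rw [hP, map_add, this, zero_add, ha']⟩
      map_add' := fun q r => by ext <;> simp [add_add_add_comm]
      map_smul' := fun c q => by ext <;> simp
      invFun := fun q => (⟨q.1.1 - a q.1.2, by
        rw [LinearMap.mem_ker, map_sub, ha', (hP _).1 q.2, sub_self]⟩, q.1.2)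
      left_inv := fun q => by ext <;> simp
      right_inv := fun q => by ext <;> simp }
  let e₂ : (LinearMap.ker p₂ × P₁) ≃ₗ[R] P :=
    { toFun := fun q => ⟨(q.2, q.1.1 + b q.2), by
        have := q.1.2; rw [LinearMap.mem_ker] at this
        rw [hP, map_add, this, zero_add, hb']⟩
      map_add' := fun q r => by ext <;> simp [add_add_add_comm]
      map_smul' := fun c q => by ext <;> simp
      invFun := fun q => (⟨q.1.2 - b q.1.1, by
        rw [LinearMap.mem_ker, map_sub, hb', (hP _).1 q.2, sub_self]⟩, q.1.1)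
      left_inv := fun q => by ext <;> simp
      right_inv := fun q => by ext <;> simp }
  exact ⟨e₁.trans e₂.symm⟩

end Groth.Agent.S2159
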