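import Groth.Statements.S2165
import Groth.Agent.CIPres.Completion


set_option autoImplicit false
universe u
open LCI

namespace Groth.Agent.S2165

/-- Let R be a regular ring, p a prime ideal of R and f_1, ..., f_r a regular sequence of R contained in
p. Then the local ring R_p/(f_1, ..., f_r) is a complete intersection: its completion is a regular
local ring modulo a regular sequence. The instance hypothesis that the quotient is local always
holds. -/
theorem result {R : Type u} [CommRing R] [IsRegularRing R]
    (p : Ideal R) [p.IsPrime] (rs : List R) (hmem : ∀ r ∈ rs, r ∈ p)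
    (hreg : RingTheory.Sequence.IsRegular R rs)
    [IsLocalRing (Localization.AtPrime p ⧸
      Ideal.map (algebraMap R (Localization.AtPrime p)) (Ideal.ofList rs))] :
    Pi1.IsCompleteIntersection (Localization.AtPrime p ⧸
      Ideal.map (algebraMap R (Localization.AtPrime p)) (Ideal.ofList rs)) := by
  haveI : IsRegularLocalRing (Localization.AtPrime p) := IsRegularRing.isRegularLocalRing_localization p
  have hm : ∀ r ∈ rs.map (algebraMap R (Localization.AtPrime p)),
      r ∈ IsLocalRing.maximalIdeal (Localization.AtPrime p) := by
    intro r hr
    obtain ⟨a, ha, rfl⟩ := List.mem_map.1 hr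
    rw [← Localization.AtPrime.map_eq_maximalIdeal]
    exact Ideal.mem_map_of_mem _ (hmem a ha)
  have hne : (Ideal.ofList rs).map (algebraMap R (Localization.AtPrime p)) ≠ ⊤ := by
    rw [Ideal.map_ofList]
    intro h
    refine (IsLocalRing.maximalIdeal.isMaximal (Localization.AtPrime p)).ne_top (top_le_iff.1 ?_)
    rw [← h, Ideal.ofList, Ideal.span_le]
    exact hm
  rw [Groth.Agent.CIPres.isCI_quotient_iff _ hne]
  exact ⟨rs.map (algebraMap R (Localization.AtPrime p)), (Ideal.map_ofList _ _).symm,
    hreg.toIsWeaklyRegular.isRegular_of_isLocalization_of_mem (Localization.AtPrime p) p hmem⟩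

end Groth.Agent.S2165
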