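import Groth.Statements.S2167
import Groth.Agent.CIPres.Completion


set_option autoImplicit false
universe u
open LCI

namespace Groth.Agent.S2167

/-- Equivalence of (2) and (3), special case with R already a regular local ring: for a regular local
ring R and a proper ideal I, the ideal I is generated by a regular sequence if and only if the
conormal module I/I^2 can be generated by (dim R - dim R/I) elements, the inequality below being the
additive form of that count. -/
theorem result {R : Type u} [CommRing R] [IsRegularLocalRing R]
    (I : Ideal R) (hI : I ≠ ⊤) :
    (∃ rs : List R, Ideal.ofList rs = I ∧ RingTheory.Sequence.IsRegular R rs) ↔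
      (((⊤ : Submodule (R ⧸ I) I.Cotangent).spanFinrank : WithBot ℕ∞) + ringKrullDim (R ⧸ I)
        ≤ ringKrullDim R) := by
  have key : (⊤ : Submodule (R ⧸ I) I.Cotangent).spanFinrank = I.spanFinrank := by
    apply le_antisymm
    · obtain ⟨s, hcard, hspan⟩ := (IsNoetherian.noetherian I).exists_span_finset_card_eq_spanFinrank
      classical
      have hs : ∀ x ∈ s, x ∈ I := fun x hx => hspan.le (Submodule.subset_span hx)
      let t : Set I.Cotangent := Set.range fun x : (s : Set R) => I.toCotangent ⟨x, hs x x.2⟩
      have ht : Submodule.span (R ⧸ I) t = ⊤ := by
        rw [eq_top_iff]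
        intro z _
        obtain ⟨⟨y, hy⟩, rfl⟩ := I.toCotangent_surjective z
        have hy' : (⟨y, hy⟩ : I) ∈ Submodule.span R (Set.range fun x : (s : Set R) => (⟨x, hs x x.2⟩ : I)) := by
          have h : (Submodule.span R (Set.range fun x : (s : Set R) => (⟨x, hs x x.2⟩ : I))).map I.subtype = I := by
            rw [Submodule.map_span, ← Set.range_comp]
            refine Eq.trans ?_ hspan
            congr 1
            ext w
            simp
          have := h.ge hy
          obtain ⟨w, hw, hwy⟩ := this
          rwa [show w = ⟨y, hy⟩ from Subtype.ext hwy] at hw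
        have := Submodule.mem_map_of_mem (f := I.toCotangent) hy'
        rw [Submodule.map_span, ← Set.range_comp] at this
        exact Submodule.span_le_restrictScalars R (R ⧸ I) _ this
      refine le_trans (le_trans (by rw [ht]) (Submodule.spanFinrank_span_le_ncard_of_finite (R := R ⧸ I)
        (Set.finite_range _ : t.Finite))) ?_
      rw [← Nat.card_coe_set_eq, ← hcard, ← Set.ncard_coe_finset, ← Nat.card_coe_set_eq]
      exact Finite.card_range_le _
    · haveI : Module.Finite R I.Cotangent := Module.Finite.of_surjective I.toCotangent I.toCotangent_surjective
      haveI : Module.Finite (R ⧸ I) I.Cotangent := Module.Finite.of_restrictScalars_finite R (R ⧸ I) _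
      obtain ⟨s, hcard, hspan⟩ :=
        (Module.Finite.fg_top : (⊤ : Submodule (R ⧸ I) I.Cotangent).FG).exists_span_finset_card_eq_spanFinrank
      classical
      choose g hg using fun z : I.Cotangent => I.toCotangent_surjective z
      let t : Set R := (fun z => (g z : R)) '' (s : Set I.Cotangent)
      have hle : I ≤ Ideal.span t ⊔ I • I := by
        intro y hy
        have hz : I.toCotangent ⟨y, hy⟩ ∈ Submodule.span R (s : Set I.Cotangent) := by
          have h1 : I.toCotangent ⟨y, hy⟩ ∈ (Submodule.span (R ⧸ I) (s : Set I.Cotangent)).restrictScalars R := by
            rw [hspan]; exact Submodule.mem_top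
          rwa [Submodule.restrictScalars_span _ _ Ideal.Quotient.mk_surjective] at h1
        have hs' : Submodule.span R (s : Set I.Cotangent) =
            (Submodule.span R (g '' (s : Set I.Cotangent))).map I.toCotangent := by
          rw [Submodule.map_span, ← Set.image_comp]
          simp [Function.comp_def, hg]
        rw [hs'] at hz
        obtain ⟨w, hw, hwz⟩ := hz
        rw [I.toCotangent_eq] at hwz
        have hw' : (w : R) ∈ Ideal.span t := by
          have := Submodule.mem_map_of_mem (f := I.subtype) hw
          rwa [Submodule.map_span, ← Set.image_comp] at this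
        rw [smul_eq_mul, ← pow_two]
        simpa using Submodule.sub_mem_sup hw' hwz
      have := Submodule.le_of_le_smul_of_le_jacobson_bot (IsNoetherian.noetherian I)
        ((IsLocalRing.le_maximalIdeal hI).trans (IsLocalRing.maximalIdeal_le_jacobson ⊥)) hle
      have hspan' : Ideal.span t = I :=
        le_antisymm (Ideal.span_le.2 (by rintro _ ⟨z, -, rfl⟩; exact (g z).2)) this
      rw [← hcard]
      conv_lhs => rw [← hspan']
      refine (Submodule.spanFinrank_span_le_ncard_of_finite (s.finite_toSet.image _)).trans ?_
      exact (Set.ncard_image_le s.finite_toSet).trans (Set.ncard_coe_finset s).le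
  rw [key]
  exact Groth.Agent.CIPres.exists_regular_iff I hI

end Groth.Agent.S2167
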