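import Groth.Statements.S2170
import Groth.Agent.NumType.Extra

set_option autoImplicit false
open Finset
open Models

namespace Groth.Agent.S2170

/-- Let A be a symmetric real n × n matrix with non-negative off-diagonal entries and m a vector with
positive entries such that for every i, ∑_{j ≠ i} A_{ij} m_j ≤ −A_{ii} m_i. Then the kernel of A is
the span of the vectors equal to m on an index set I and zero off I, for those I such that A_{ij} =
0 whenever i ∈ I and j ∉ I and such that equality holds in the above inequality for every i ∈ I. The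
published statement omits the symmetry of A (without which it fails) and applies it only to
symmetric matrices; stated here with A symmetric. -/
theorem result {n : ℕ} (A : Matrix (Fin n) (Fin n) ℝ) (m : Fin n → ℝ)
    (hsymm : A.IsSymm) (hA : ∀ i j, i ≠ j → 0 ≤ A i j) (hm : ∀ i, 0 < m i)
    (hle : ∀ i, ∑ j ∈ univ.erase i, A i j * m j ≤ -(A i i * m i)) :
    LinearMap.ker (Matrix.mulVecLin A) = Submodule.span ℝ
      {x : Fin n → ℝ | ∃ I : Finset (Fin n), (∀ i ∈ I, ∀ j ∉ I, A i j = 0) ∧
        (∀ i ∈ I, ∑ j ∈ univ.erase i, A i j * m j = -(A i i * m i)) ∧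
        x = fun i => if i ∈ I then m i else 0} := by
  classical
  have hsy : ∀ i j, A i j = A j i := fun i j => (hsymm.apply i j).symm
  have hAm : ∀ i, ∑ j, A i j * m j ≤ 0 := fun i => by
    rw [← Finset.sum_erase_add _ _ (Finset.mem_univ i)]; linarith [hle i]
  apply le_antisymm
  · intro x hx
    rw [LinearMap.mem_ker, Matrix.mulVecLin_apply] at hx
    obtain ⟨-, h2⟩ := NumType.quad_nonpos (fun i j => A i j) hsy hA m hm hAm x
    have h0 : ∑ i, ∑ j, A i j * x i * x j = 0 := by
      refine Finset.sum_eq_zero fun i _ => ?_
      rw [Finset.sum_congr rfl fun j _ => show A i j * x i * x j = x i * (A i j * x j) by ring, ← Finset.mul_sum,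
        show ∑ j, A i j * x j = 0 from congrFun hx i, mul_zero]
    obtain ⟨hy, hz⟩ := h2 h0
    let y : Fin n → ℝ := fun i => x i / m i
    let Q : Finset ℝ := (Finset.univ.image y).filter (· ≠ 0)
    have hdec : x = ∑ q ∈ Q, q • (fun i => if i ∈ Finset.univ.filter (fun j => y j = q) then m i else 0) := by
      funext i
      simp only [Finset.sum_apply, Pi.smul_apply, smul_eq_mul, Finset.mem_filter, Finset.mem_univ, true_and,
        mul_ite, mul_zero, Finset.sum_ite_eq]
      split_ifs with h
      · exact (div_mul_cancel₀ _ (hm i).ne').symm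
      · simp only [Q, Finset.mem_filter, Finset.mem_image, Finset.mem_univ, true_and, not_and, not_not] at h
        have := h ⟨i, rfl⟩
        rcases div_eq_zero_iff.mp this with e | e
        · exact e
        · exact absurd e (hm i).ne'
    rw [hdec]
    refine Submodule.sum_mem _ fun q hq => Submodule.smul_mem _ _ (Submodule.subset_span ?_)
    have hq0 : q ≠ 0 := (Finset.mem_filter.mp hq).2
    refine ⟨Finset.univ.filter (fun j => y j = q), fun i hi j hj => ?_, fun i hi => ?_, rfl⟩
    · simp only [Finset.mem_filter, Finset.mem_univ, true_and] at hi hj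
      by_contra hne
      exact hj ((hy i j (fun e => hj (e ▸ hi)) hne).symm.trans hi)
    · simp only [Finset.mem_filter, Finset.mem_univ, true_and] at hi
      refine le_antisymm (hle i) ?_
      by_contra hlt; push Not at hlt
      have : x i = 0 := hz i (by rw [← Finset.sum_erase_add _ _ (Finset.mem_univ i)]; linarith)
      apply hq0
      rw [← hi]; simp [y, this]
  · rw [Submodule.span_le]
    rintro _ ⟨I, hI, he, rfl⟩
    rw [SetLike.mem_coe, LinearMap.mem_ker, Matrix.mulVecLin_apply]
    funext i
    show ∑ j, A i j * (if j ∈ I then m j else 0) = 0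
    by_cases hi : i ∈ I
    · have : ∀ j, A i j * (if j ∈ I then m j else 0) = A i j * m j := fun j => by
        split_ifs with h
        · rfl
        · rw [hI i hi j h, zero_mul, zero_mul]
      rw [Finset.sum_congr rfl fun j _ => this j, ← Finset.sum_erase_add _ _ (Finset.mem_univ i), he i hi]
      ring
    · refine Finset.sum_eq_zero fun j _ => ?_
      split_ifs with h
      · rw [hsy, hI j h i hi, zero_mul]
      · rw [mul_zero]

end Groth.Agent.S2170
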