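import Groth.Statements.S2171
import Groth.Agent.NumType.Basic

set_option autoImplicit false
open Finset
open Models

namespace Groth.Agent.S2171

/-- Let A be a symmetric real n by n matrix with non-negative off-diagonal entries, m a vector with
positive entries such that A m = 0, and assume no proper non-empty index set I has A i j = 0 for all
i in I and j outside I. Then x^t A x is at most 0 for every real vector x, with equality exactly
when x is a real multiple of m. -/
theorem result {n : ℕ} (A : Matrix (Fin n) (Fin n) ℝ)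
    (m : Fin n → ℝ) (hsymm : A.IsSymm) (hA : ∀ i j, i ≠ j → 0 ≤ A i j) (hm : ∀ i, 0 < m i)
    (hAm : A.mulVec m = 0)
    (hconn : ∀ I : Finset (Fin n), I.Nonempty → I ≠ univ → ∃ i ∈ I, ∃ j ∉ I, A i j ≠ 0)
    (x : Fin n → ℝ) :
    dotProduct x (A.mulVec x) ≤ 0 ∧ (dotProduct x (A.mulVec x) = 0 ↔ ∃ q : ℝ, x = q • m) := by
  obtain ⟨h1, h2⟩ := NumType.quad_nonpos (fun i j => A i j) (fun i j => (hsymm.apply i j).symm) hA m hm
    (fun i => le_of_eq (congrFun hAm i)) x
  have he : dotProduct x (A.mulVec x) = ∑ i, ∑ j, A i j * x i * x j := by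
    simp only [dotProduct, Matrix.mulVec, Finset.mul_sum]
    exact Finset.sum_congr rfl fun i _ => Finset.sum_congr rfl fun j _ => by ring
  refine ⟨he ▸ h1, fun h => ?_, ?_⟩
  · rcases Nat.eq_zero_or_pos n with rfl | hn
    · exact ⟨0, funext fun i => i.elim0⟩
    · have hc := NumType.const_of_connected (fun i j => A i j) hconn _ (h2 (he ▸ h)).1
      refine ⟨x ⟨0, hn⟩ / m ⟨0, hn⟩, funext fun i => ?_⟩
      have := hc i ⟨0, hn⟩
      simp only [Pi.smul_apply, smul_eq_mul]
      rw [← this, div_mul_cancel₀ _ (hm i).ne']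
  · rintro ⟨q, rfl⟩
    simp [Matrix.mulVec_smul, hAm]

end Groth.Agent.S2171
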