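import Groth.Statements.S2176
import Groth.Agent.NumType.Basic

set_option autoImplicit false
open Finset
open Models Models.NumericalType

namespace Groth.Agent.S2176

/-- A minimal numerical type (no (-1)-index) with n > 1 indices has genus at least 1. -/
theorem result {n : ℕ} (T : Models.NumericalType n) (hmin : T.IsMinimal) (hn : 1 < n) : 1 ≤ T.genus := by
  have h := Finset.sum_nonneg fun i (_ : i ∈ Finset.univ) =>
    mul_nonneg (T.m_pos i).le (NumType.contrib_nonneg T hn hmin i)
  rw [← NumType.two_genus T] at h
  linarith

end Groth.Agent.S2176
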