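import Groth.Statements.S2177
import Groth.Agent.NumType.Extra

set_option autoImplicit false
open Finset
open Models Models.NumericalType

namespace Groth.Agent.S2177

/-- If a numerical type is minimal and has at least two indices, its genus is bounded below by the
topological genus 1 - n + e, e being the number of pairs i < j with a i j > 0. -/
theorem result {n : ℕ} (T : Models.NumericalType n) (hmin : T.IsMinimal) (hn : 1 < n) : T.topGenus ≤ T.genus := by
  classical
  let N : Fin n → Fin n → Prop := fun i j => i ≠ j ∧ 0 < T.a i j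
  have hN : ∀ i j, N i j → N j i := fun i j h => ⟨h.1.symm, by rw [NumType.symm' T]; exact h.2⟩
  let S : Finset (Fin n × Fin n) := Finset.univ.filter fun p => N p.1 p.2
  -- lower bound for each index
  have h1 : ∀ i, ∑ j ∈ Finset.univ.filter (N i), ((T.m j : ℚ) / T.m i) - 2 ≤ ((T.m i * NumType.contrib T i : ℤ) : ℚ) := by
    intro i
    obtain ⟨k, hk, hak⟩ := NumType.exists_mult T i
    have hm := T.m_pos i
    have hw := T.w_pos i
    have hr := NumType.row_le T i (Finset.univ.filter (N i)) (by simp [N])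
    have hS : ∑ j ∈ Finset.univ.filter (N i), T.m j ≤ k * T.m i := by
      refine le_of_mul_le_mul_left ?_ hw
      rw [Finset.mul_sum]
      refine le_trans (Finset.sum_le_sum fun j hj => ?_) (hr.trans (le_of_eq ?_))
      · have hj' := (Finset.mem_filter.mp hj).2
        exact mul_le_mul_of_nonneg_right (NumType.w_le T hj'.1 hj'.2.ne').1 (T.m_pos j).le
      · rw [hak]; ring
    have hmq : (0 : ℚ) < T.m i := by exact_mod_cast hm
    have hS' : ∑ j ∈ Finset.univ.filter (N i), ((T.m j : ℚ) / T.m i) ≤ (k : ℚ) := by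
      rw [← Finset.sum_div, div_le_iff₀ hmq]
      exact_mod_cast hS
    have hc := NumType.contrib_nonneg T hn hmin i
    have hcm : k - 2 ≤ T.m i * NumType.contrib T i := by
      refine le_trans ?_ (le_mul_of_one_le_left hc hm)
      have hg := T.g_nonneg i
      rw [NumType.contrib, hak] at hc ⊢
      rcases eq_or_lt_of_le hg with h0 | h0
      · rw [← h0] at hc ⊢
        have : 2 ≤ k := by nlinarith
        nlinarith
      · have : 1 ≤ T.g i := h0
        nlinarith
    have : ((k : ℚ) - 2) ≤ ((T.m i * NumType.contrib T i : ℤ) : ℚ) := by exact_mod_cast hcm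
    linarith
  have h2 : ((2 * (T.genus - 1) : ℤ) : ℚ) = ∑ i, ((T.m i * NumType.contrib T i : ℤ) : ℚ) := by
    rw [NumType.two_genus T, Int.cast_sum]
  have h3 : ∑ i, (∑ j ∈ Finset.univ.filter (N i), ((T.m j : ℚ) / T.m i) - 2) ≤ ((2 * (T.genus - 1) : ℤ) : ℚ) :=
    h2 ▸ Finset.sum_le_sum fun i _ => h1 i
  rw [Finset.sum_sub_distrib, Finset.sum_const, Finset.card_univ, Fintype.card_fin, nsmul_eq_mul] at h3
  -- the double sum dominates twice the number of edges
  have h4 : ∑ i, ∑ j ∈ Finset.univ.filter (N i), ((T.m j : ℚ) / T.m i) = ∑ p ∈ S, ((T.m p.2 : ℚ) / T.m p.1) := by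
    simp only [S, Finset.sum_filter, Fintype.sum_prod_type]
  have h5 : ∑ p ∈ S, ((T.m p.1 : ℚ) / T.m p.2) = ∑ p ∈ S, ((T.m p.2 : ℚ) / T.m p.1) := by
    refine Finset.sum_nbij' Prod.swap Prod.swap ?_ ?_ (fun a _ => Prod.swap_swap a) (fun a _ => Prod.swap_swap a) (fun a _ => rfl) <;>
      intro p hp <;> simp only [S, Finset.coe_filter, Set.mem_setOf_eq, Finset.mem_univ, true_and, Finset.mem_filter] at hp ⊢ <;>
      exact hN _ _ hp
  have h6 : (S.card : ℚ) * 2 ≤ ∑ p ∈ S, ((T.m p.2 : ℚ) / T.m p.1) + ∑ p ∈ S, ((T.m p.1 : ℚ) / T.m p.2) := by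
    rw [← Finset.sum_add_distrib, ← nsmul_eq_mul, ← Finset.sum_const]
    refine Finset.sum_le_sum fun p _ => ?_
    have a := T.m_pos p.1
    have b := T.m_pos p.2
    have a' : (0 : ℚ) < T.m p.1 := by exact_mod_cast a
    have b' : (0 : ℚ) < T.m p.2 := by exact_mod_cast b
    rw [div_add_div _ _ a'.ne' b'.ne', le_div_iff₀ (mul_pos a' b')]
    nlinarith [sq_nonneg ((T.m p.1 : ℚ) - T.m p.2)]
  have h7 : S.card = T.edgeCount + T.edgeCount := by
    rw [← Finset.card_filter_add_card_filter_not (fun p : Fin n × Fin n => p.1 < p.2)]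
    congr 1
    · rw [Models.NumericalType.edgeCount]
      congr 1
      ext p
      simp only [S, N, Finset.mem_filter, Finset.mem_univ, true_and]
      exact ⟨fun h => ⟨h.2, h.1.2⟩, fun h => ⟨⟨h.1.ne, h.2⟩, h.1⟩⟩
    · rw [Models.NumericalType.edgeCount]
      refine Finset.card_nbij' Prod.swap Prod.swap ?_ ?_ (fun a _ => Prod.swap_swap a) (fun a _ => Prod.swap_swap a) <;>
        intro p hp <;> simp only [S, N, Finset.coe_filter, Set.mem_setOf_eq, Finset.mem_univ, true_and, Finset.mem_filter, Prod.fst_swap, Prod.snd_swap, not_lt] at hp ⊢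
      · exact ⟨lt_of_le_of_ne hp.2 hp.1.1.symm, by rw [NumType.symm' T]; exact hp.1.2⟩
      · exact ⟨⟨hp.1.ne', by rw [NumType.symm' T]; exact hp.2⟩, hp.1.le⟩
  rw [h7] at h6
  push_cast at h6 h3
  rw [Models.NumericalType.topGenus]
  have : ((1 : ℚ) - n + T.edgeCount) ≤ (T.genus : ℚ) := by
    linarith
  exact_mod_cast this

end Groth.Agent.S2177
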