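import Groth.Statements.S2178
import Groth.Agent.NumType.Extra
import Mathlib.LinearAlgebra.Dimension.Localization
import Mathlib.LinearAlgebra.Dimension.RankNullity
import Mathlib.LinearAlgebra.FreeModule.PID

set_option autoImplicit false
open Finset
open Models Models.NumericalType

namespace Groth.Agent.S2178

/-- The Picard group of a numerical type (the cokernel of the matrix (a i j / w i) acting on Z^n) has
free rank one: its rank as a Z-module is 1. -/
theorem result {n : ℕ} (T : Models.NumericalType n) : Module.finrank ℤ T.Pic = 1 := by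
  let f := T.picMatrix.mulVecLin
  let i0 : Fin n := ⟨0, T.pos⟩
  have hm : T.m ∈ LinearMap.ker f := by
    rw [LinearMap.mem_ker, Matrix.mulVecLin_apply, NumType.mem_ker_pic_iff]; exact T.mulVec_m
  let π : LinearMap.ker f →ₗ[ℤ] ℤ := (LinearMap.proj i0).comp (LinearMap.ker f).subtype
  have hπ : Function.Injective π := by
    rw [injective_iff_map_eq_zero]
    rintro ⟨y, hy⟩ h
    rw [LinearMap.mem_ker, Matrix.mulVecLin_apply, NumType.mem_ker_pic_iff] at hy
    have hy0 : y i0 = 0 := h
    refine Subtype.ext (funext fun i => ?_)
    have := NumType.ker_line T hy i i0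
    rw [hy0, zero_mul] at this
    exact (mul_eq_zero.mp this).resolve_right (T.m_pos i0).ne'
  have hle : Module.finrank ℤ (LinearMap.ker f) ≤ 1 := by
    simpa using LinearMap.finrank_le_finrank_of_injective hπ
  have hpos : 0 < Module.finrank ℤ (LinearMap.ker f) := by
    rw [Module.finrank_pos_iff]
    exact ⟨⟨T.m, hm⟩, 0, fun e => (T.m_pos i0).ne' (congrFun (congrArg Subtype.val e) i0)⟩
  have h1 := Submodule.finrank_quotient_add_finrank (LinearMap.range f)
  have h2 := Submodule.finrank_quotient_add_finrank (LinearMap.ker f)
  rw [LinearEquiv.finrank_eq f.quotKerEquivRange] at h2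
  show Module.finrank ℤ ((Fin n → ℤ) ⧸ LinearMap.range f) = 1
  omega

end Groth.Agent.S2178
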