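import Groth.Statements.S2179
import Groth.Agent.NumType.Basic
import Mathlib.LinearAlgebra.Quotient.Basic

set_option autoImplicit false
open Finset
open Models Models.NumericalType

namespace Groth.Agent.S2179

/-- For a numerical type T, the map Z^n -> Z^n multiplying the i-th coordinate by w i induces a
well-defined injective homomorphism from Pic(T), the cokernel of (a i j / w i), to the cokernel of
the matrix a. -/
theorem result {n : ℕ} (T : Models.NumericalType n) :
    ∃ f : T.Pic →+ T.CokerA, Function.Injective f ∧
      ∀ x : Fin n → ℤ, f (Submodule.Quotient.mk x) = Submodule.Quotient.mk (fun i => T.w i * x i) := by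
  let D : (Fin n → ℤ) →ₗ[ℤ] (Fin n → ℤ) :=
    { toFun := fun x i => T.w i * x i
      map_add' := fun x y => funext fun i => mul_add _ _ _
      map_smul' := fun c x => funext fun i => by
        simp only [Pi.smul_apply, smul_eq_mul, RingHom.id_apply]; ring }
  have hD : ∀ y, D (T.picMatrix.mulVec y) = T.a.mulVec y := fun y => funext fun i => by
    show T.w i * (T.picMatrix.mulVec y i) = T.a.mulVec y i
    simp only [Matrix.mulVec, dotProduct, Finset.mul_sum, Models.NumericalType.picMatrix]
    exact Finset.sum_congr rfl fun j _ => by rw [← mul_assoc, Int.mul_ediv_cancel' (T.w_dvd i j)]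
  have hle : LinearMap.range T.picMatrix.mulVecLin ≤ (LinearMap.range T.a.mulVecLin).comap D := by
    rintro _ ⟨y, rfl⟩
    exact ⟨y, (hD y).symm⟩
  refine ⟨((LinearMap.range T.picMatrix.mulVecLin).mapQ _ D hle).toAddMonoidHom, ?_, fun x => rfl⟩
  rw [injective_iff_map_eq_zero]
  intro z hz
  obtain ⟨x, rfl⟩ := Submodule.Quotient.mk_surjective _ z
  change Submodule.Quotient.mk (D x) = 0 at hz
  rw [Submodule.Quotient.mk_eq_zero] at hz ⊢
  obtain ⟨y, hy⟩ := hz
  refine ⟨y, funext fun i => mul_left_cancel₀ (T.w_pos i).ne' ?_⟩
  have := congrFun ((hD y).trans hy) i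
  exact this

end Groth.Agent.S2179
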