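import Groth.Statements.S2181
import Groth.Agent.NumType.Torsion
import Groth.Agent.S2176
import Groth.Agent.S2178
import Mathlib.LinearAlgebra.Span.Basic
import Mathlib.RingTheory.PrincipalIdealDomain

set_option autoImplicit false
open Finset
open Models Models.NumericalType

namespace Groth.Agent.S2181

/-- If the genus of a numerical type is at most 0 then its Picard group is infinite cyclic. -/
theorem result {n : ℕ} (T : Models.NumericalType n) (hg : T.genus ≤ 0) : Nonempty (T.Pic ≃+ ℤ) := by
  induction n with
  | zero => exact absurd T.pos (lt_irrefl 0)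
  | succ n ih =>
    rcases Nat.eq_zero_or_pos n with rfl | hn
    · have hP : T.picMatrix = 0 := by
        ext i j
        obtain rfl : i = 0 := Fin.ext (by omega)
        obtain rfl : j = 0 := Fin.ext (by omega)
        have := NumType.row T 0
        rw [Fin.sum_univ_one] at this
        simp [Models.NumericalType.picMatrix, (mul_eq_zero.mp this).resolve_right (T.m_pos 0).ne']
      have h0 : LinearMap.range T.picMatrix.mulVecLin = ⊥ := by rw [hP]; simp
      exact ⟨((Submodule.quotEquivOfEqBot _ h0).trans (LinearEquiv.funUnique (Fin 1) ℤ ℤ)).toAddEquiv⟩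
    · obtain ⟨i, hi⟩ : ∃ i, T.IsMinusOne i := by
        by_contra g
        push Not at g
        have := S2176.result T g (by omega)
        omega
      obtain ⟨T', hT', f, hf⟩ := NumType.exists_contract T hi
      obtain ⟨e⟩ := ih T' (hT'.trans_le hg)
      let F : T.Pic →ₗ[ℤ] ℤ := e.toIntLinearEquiv.toLinearMap.comp f
      have hF : Function.Injective F := fun a b g => hf (e.injective g)
      let E := LinearEquiv.ofInjective F hF
      obtain ⟨d, hd⟩ := (IsPrincipalIdealRing.principal (LinearMap.range F : Ideal ℤ)).principal
      have hd0 : d ≠ 0 := by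
        intro h
        have h1 : Module.finrank ℤ T.Pic = 0 := by
          rw [E.finrank_eq, hd, h]
          simp
        rw [S2178.result T] at h1
        exact one_ne_zero h1
      exact ⟨(E.trans ((LinearEquiv.ofEq _ _ hd).trans (LinearEquiv.toSpanNonzeroSingleton ℤ ℤ d hd0).symm)).toAddEquiv⟩

end Groth.Agent.S2181
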