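import Groth.Statements.S2184
import Groth.Agent.NumType.Bound

set_option autoImplicit false
open Finset
open Models Models.NumericalType

namespace Groth.Agent.S2184

/-- For a minimal numerical type of genus g at least 2 one has m i * |a i j| at most 768 g for all
indices i, j. -/
theorem result {n : ℕ} (T : Models.NumericalType n) (hmin : T.IsMinimal) (hg : 2 ≤ T.genus) (i j : Fin n) :
    T.m i * |T.a i j| ≤ 768 * T.genus := by
  rcases Nat.lt_or_ge 1 n with hn | hn
  · have key : ∀ j, T.m j * |T.a j j| ≤ 768 * T.genus := by
      intro j
      by_cases hj : T.IsMinusTwo j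
      · have hb := NumType.minusTwo_bound T hmin hn hg j hj
        rw [hj.2, abs_of_neg (by have := T.w_pos j; linarith)]
        linarith
      · have := ((S2183.result T hmin hn hg).2 j hj).2.1
        linarith
    by_cases hij : i = j
    · subst hij; exact key i
    rw [abs_of_nonneg (T.offDiag_nonneg i j hij)]
    rcases eq_or_lt_of_le (T.offDiag_nonneg i j hij) with h | h
    · rw [← h, mul_zero]; linarith
    · exact ((S2182.result T i j h).1).trans (key j)
  · obtain rfl : n = 1 := le_antisymm hn T.pos
    obtain rfl : i = 0 := Fin.ext (by omega)
    obtain rfl : j = 0 := Fin.ext (by omega)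
    have := NumType.row T 0
    rw [Fin.sum_univ_one] at this
    rw [(mul_eq_zero.mp this).resolve_right (T.m_pos 0).ne', abs_zero, mul_zero]
    linarith

end Groth.Agent.S2184
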