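import Groth.Statements.S2185
import Groth.Agent.NumType.Torsion
import Groth.Agent.S2177
import Groth.Agent.S2179
import Groth.Agent.S2184

set_option autoImplicit false
open Finset
open Models Models.NumericalType

namespace Groth.Agent.S2185

/-- Let T be a numerical type of genus g at least 2 and l a prime bigger than 768 g. Then the l-torsion
subgroup of Pic(T) has at most l^g elements (F_l-dimension at most g); if T is minimal it has at
most l^(g_top) elements where g_top is the topological genus, itself at most g. -/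
theorem result {n : ℕ} (T : Models.NumericalType n) (hg : 2 ≤ T.genus) (ℓ : ℕ) (hℓ : ℓ.Prime)
    (hℓg : 768 * T.genus < ℓ) :
    Nat.card (Submodule.torsionBy ℤ T.Pic (ℓ : ℤ)) ≤ ℓ ^ T.genus.toNat ∧
      (T.IsMinimal → Nat.card (Submodule.torsionBy ℤ T.Pic (ℓ : ℤ)) ≤ ℓ ^ T.topGenus.toNat ∧
        T.topGenus ≤ T.genus) := by
  have restr : ∀ {A B : Type} [AddCommGroup A] [AddCommGroup B] (f : A →+ B), Function.Injective f →
      ∀ [Finite (Submodule.torsionBy ℤ B (ℓ : ℤ))],
      Finite (Submodule.torsionBy ℤ A (ℓ : ℤ)) ∧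
        Nat.card (Submodule.torsionBy ℤ A (ℓ : ℤ)) ≤ Nat.card (Submodule.torsionBy ℤ B (ℓ : ℤ)) := by
    intro A B _ _ f hf _
    let F : Submodule.torsionBy ℤ A (ℓ : ℤ) → Submodule.torsionBy ℤ B (ℓ : ℤ) := fun a => ⟨f a.1, by
      rw [Submodule.mem_torsionBy_iff, ← map_zsmul, (Submodule.mem_torsionBy_iff _ _).mp a.2, map_zero]⟩
    have hF : Function.Injective F := fun a b e => Subtype.ext (hf (congrArg Subtype.val e))
    exact ⟨Finite.of_injective F hF, Nat.card_le_card_of_injective F hF⟩
  suffices H : ∀ {n : ℕ} (T : Models.NumericalType n), 2 ≤ T.genus → 768 * T.genus < ℓ →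
      Finite (Submodule.torsionBy ℤ T.Pic (ℓ : ℤ)) ∧
      Nat.card (Submodule.torsionBy ℤ T.Pic (ℓ : ℤ)) ≤ ℓ ^ T.genus.toNat ∧
      (T.IsMinimal → Nat.card (Submodule.torsionBy ℤ T.Pic (ℓ : ℤ)) ≤ ℓ ^ T.topGenus.toNat ∧
        T.topGenus ≤ T.genus) from (H T hg hℓg).2
  clear hℓg hg T n
  intro n T hg hℓg
  induction n with
  | zero => exact absurd T.pos (lt_irrefl 0)
  | succ n ih =>
    by_cases hmin : T.IsMinimal
    · rcases Nat.eq_zero_or_pos n with rfl | hn
      · have hP : LinearMap.range T.picMatrix.mulVecLin = ⊥ := by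
          have : T.picMatrix = 0 := by
            ext i j
            obtain rfl : i = 0 := Fin.ext (by omega)
            obtain rfl : j = 0 := Fin.ext (by omega)
            have := NumType.row T 0
            rw [Fin.sum_univ_one] at this
            simp [Models.NumericalType.picMatrix, (mul_eq_zero.mp this).resolve_right (T.m_pos 0).ne']
          rw [this]; simp
        haveI : Subsingleton (Submodule.torsionBy ℤ T.Pic (ℓ : ℤ)) := ⟨by
          have h0 : ∀ a : Submodule.torsionBy ℤ T.Pic (ℓ : ℤ), a = 0 := by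
            rintro ⟨a, ha⟩
            obtain ⟨x, rfl⟩ := Submodule.Quotient.mk_surjective _ a
            rw [Submodule.mem_torsionBy_iff, ← Submodule.Quotient.mk_smul, Submodule.Quotient.mk_eq_zero, hP,
              Submodule.mem_bot, smul_eq_zero] at ha
            refine Subtype.ext ?_
            show Submodule.Quotient.mk x = (0 : T.Pic)
            rw [ha.resolve_left (by exact_mod_cast hℓ.ne_zero), Submodule.Quotient.mk_zero]
          intro a b; rw [h0 a, h0 b]⟩
        have htop : T.topGenus = 0 := by
          rw [Models.NumericalType.topGenus, Models.NumericalType.edgeCount]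
          rw [Finset.filter_eq_empty_iff.mpr fun p _ h => absurd h.1 (by omega)]
          simp
        refine ⟨inferInstance, ?_, fun _ => ⟨?_, by omega⟩⟩ <;>
          rw [Nat.card_of_subsingleton (0 : Submodule.torsionBy ℤ T.Pic (ℓ : ℤ))] <;>
          exact Nat.one_le_pow _ _ hℓ.pos
      · have htop := S2177.result T hmin (by omega)
        have hsmall : ∀ z : ℤ, z ≠ 0 → |z| ≤ 768 * T.genus → ¬ (ℓ : ℤ) ∣ z := fun z hz hle hd => by
          have := Int.le_of_dvd (abs_pos.mpr hz) ((dvd_abs _ _).mpr hd)
          linarith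
        obtain ⟨hfin, hcard⟩ := NumType.card_torsion_le T.a T.m (NumType.symm' T) T.offDiag_nonneg T.mulVec_m
          T.connected ℓ hℓ
          (fun i j h => hsmall _ h (le_trans (le_mul_of_one_le_left (abs_nonneg _) (T.m_pos i))
            (S2184.result T hmin hg i j)))
          (fun i => hsmall _ (T.m_pos i).ne' (by
            rw [abs_of_pos (T.m_pos i)]
            refine le_trans (le_mul_of_one_le_right (T.m_pos i).le ?_) (S2184.result T hmin hg i i)
            exact Int.one_le_abs (NumType.diag_neg T (by omega) i).ne))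
        obtain ⟨f, hf, -⟩ := S2179.result T
        obtain ⟨h1, h2⟩ := restr f hf
        have hb : Nat.card (Submodule.torsionBy ℤ T.Pic (ℓ : ℤ)) ≤ ℓ ^ T.topGenus.toNat := by
          refine (h2.trans hcard).trans (le_of_eq (congrArg (ℓ ^ ·) ?_))
          simp only [Models.NumericalType.topGenus, Models.NumericalType.edgeCount]
          omega
        exact ⟨h1, hb.trans (Nat.pow_le_pow_right hℓ.pos (by omega)), fun _ => ⟨hb, htop⟩⟩
    · obtain ⟨i, hi⟩ : ∃ i, T.IsMinusOne i := by
        by_contra g
        push Not at g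
        exact hmin g
      obtain ⟨T', hT', f, hf⟩ := NumType.exists_contract T hi
      obtain ⟨hfin, hcard, -⟩ := ih T' (hT' ▸ hg) (hT' ▸ hℓg)
      obtain ⟨h1, h2⟩ := restr f.toAddMonoidHom hf
      exact ⟨h1, hT' ▸ h2.trans hcard, fun h => absurd h hmin⟩

end Groth.Agent.S2185
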