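import Groth.Statements.S2188
import Mathlib
import Groth.Agent.CAlgH.Vasconcelos

set_option autoImplicit false
universe u
open CategoryTheory
open LCI

namespace Groth.Agent.S2188

/-- Let R be a Noetherian local ring and I an ideal of finite projective dimension as an R-module. If F
is a direct summand of I/I^2 which is free of rank r over R/I, then there is a regular sequence x_1,
..., x_r of R inside I whose classes in I/I^2 generate F. -/
theorem result {R : Type u} [CommRing R]
    [IsNoetherianRing R] [IsLocalRing R] (I : Ideal R) (hI : I ≠ ⊤) (n : ℕ)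
    (hpd : HasProjectiveDimensionLT (ModuleCat.of R I) n)
    (F G : Submodule (R ⧸ I) I.Cotangent) (hFG : IsCompl F G) (r : ℕ)
    (e : F ≃ₗ[R ⧸ I] (Fin r → R ⧸ I)) :
    ∃ (x : Fin r → R) (hx : ∀ i, x i ∈ I), RingTheory.Sequence.IsRegular R (List.ofFn x) ∧
      Submodule.span (R ⧸ I) (Set.range fun i => I.toCotangent ⟨x i, hx i⟩) = F := by
  classical
  have hn : HasProjectiveDimensionLT (ModuleCat.of R I) (n + 1) := hasProjectiveDimensionLT_of_ge _ n (n + 1) (by omega)
  choose y hy using fun i => I.toCotangent_surjective ((e.symm (Pi.single i 1) : F) : I.Cotangent)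
  obtain ⟨x, hxy, hx⟩ := Groth.Agent.CAlgH.Vasconcelos.exists_regular_lift r R I hI n hn
    ((e.toLinearMap ∘ₗ F.projectionOnto G hFG).restrictScalars R ∘ₗ I.toCotangent) y (fun i => by
      rw [LinearMap.comp_apply, hy, LinearMap.restrictScalars_apply, LinearMap.comp_apply,
        Submodule.projectionOnto_apply_left, LinearEquiv.coe_coe, LinearEquiv.apply_symm_apply])
  have hxI : ∀ i, x i ∈ I := fun i => by
    simpa using add_mem (Ideal.pow_le_self two_ne_zero (hxy i)) (y i).2
  refine ⟨x, hxI, ?_, ?_⟩
  · refine (IsLocalRing.isRegular_iff_isWeaklyRegular_of_subset_maximalIdeal ?_).mpr hx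
    intro a ha
    obtain ⟨i, rfl⟩ := (List.mem_ofFn).mp ha
    exact IsLocalRing.le_maximalIdeal hI (hxI i)
  · have h : ∀ i, I.toCotangent ⟨x i, hxI i⟩ = F.subtype (e.symm (Pi.single i 1)) := fun i => by
      rw [Submodule.subtype_apply, ← hy]
      exact I.toCotangent_eq.mpr (hxy i)
    rw [show (Set.range fun i => I.toCotangent ⟨x i, hxI i⟩) =
      (F.subtype ∘ₗ e.symm.toLinearMap) '' Set.range (Pi.basisFun (R ⧸ I) (Fin r)) by
        rw [← Set.range_comp]; congr 1; funext i; simp [h], Submodule.span_image, Module.Basis.span_eq,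
      Submodule.map_top, LinearMap.range_comp_of_range_eq_top _ e.symm.range, Submodule.range_subtype]

end Groth.Agent.S2188
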