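import Groth.Statements.S2187
import Groth.Agent.S2188
import Mathlib


set_option autoImplicit false
universe u
open CategoryTheory
open LCI

namespace Groth.Agent.S2187

/-- Let R be a Noetherian local ring and I an ideal of finite projective dimension as an R-module. If F
is a direct summand of the conormal module I/I^2 which is isomorphic to R/I, then there is a
nonzerodivisor x in I whose class in I/I^2 generates F. -/
theorem result {R : Type u} [CommRing R]
    [IsNoetherianRing R] [IsLocalRing R] (I : Ideal R) (n : ℕ)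
    (hpd : HasProjectiveDimensionLT (ModuleCat.of R I) n)
    (F G : Submodule (R ⧸ I) I.Cotangent) (hFG : IsCompl F G) (e : F ≃ₗ[R ⧸ I] (R ⧸ I)) :
    ∃ (x : R) (hx : x ∈ I), x ∈ nonZeroDivisors R ∧
      Submodule.span (R ⧸ I) {I.toCotangent ⟨x, hx⟩} = F := by
  by_cases hI : I = ⊤
  · subst hI
    have hs : Subsingleton (⊤ : Ideal R).Cotangent := ⟨fun a b => by
      obtain ⟨a, rfl⟩ := Ideal.toCotangent_surjective _ a
      obtain ⟨b, rfl⟩ := Ideal.toCotangent_surjective _ b
      rw [Ideal.toCotangent_eq, pow_two, Ideal.top_mul]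
      trivial⟩
    exact ⟨1, trivial, one_mem _, Subsingleton.elim _ _⟩
  · obtain ⟨x, hx, hreg, hspan⟩ := Groth.Agent.S2188.result I hI n hpd F G hFG 1
      (e.trans (LinearEquiv.funUnique (Fin 1) (R ⧸ I) (R ⧸ I)).symm)
    refine ⟨x 0, hx 0, ?_, ?_⟩
    · have h := hreg.toIsWeaklyRegular
      rw [List.ofFn_succ, RingTheory.Sequence.isWeaklyRegular_cons_iff] at h
      exact mem_nonZeroDivisors_iff_right.2 fun z hz => h.1 (show x 0 * z = x 0 * 0 by rw [mul_zero, mul_comm, hz])
    · rw [← hspan]
      congr 1
      ext z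
      simp [Fin.exists_fin_one, eq_comm]

end Groth.Agent.S2187
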