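import Groth.Statements.S2190
import Groth.Agent.NumType.Basic
import Groth.Agent.S3349

set_option autoImplicit false
open Finset
open Models Models.NumericalType

namespace Groth.Agent.S2190

/-- A minimal numerical type of genus zero has a single index, with m = 1, a = 0, w = 1 and g = 0. -/
theorem result {n : ℕ} (T : Models.NumericalType n) (hmin : T.IsMinimal) (hg : T.genus = 0) :
    n = 1 ∧ ∀ i, T.m i = 1 ∧ T.a i i = 0 ∧ T.w i = 1 ∧ T.g i = 0 := by
  have hn : n = 1 := by
    by_contra hne
    have hp := T.pos
    have h := Finset.sum_nonneg fun i (_ : i ∈ Finset.univ) =>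
      mul_nonneg (T.m_pos i).le (NumType.contrib_nonneg T (by omega) hmin i)
    rw [← NumType.two_genus T, hg] at h
    norm_num at h
  subst hn
  obtain ⟨h0, -, -, hz, -, -⟩ := S3349.result T
  refine ⟨rfl, fun i => ?_⟩
  obtain rfl : i = 0 := Subsingleton.elim _ _
  exact ⟨(hz hg).1, h0, (hz hg).2.1, (hz hg).2.2⟩

end Groth.Agent.S2190
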