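import Groth.Statements.S2203
import Mathlib.Algebra.Category.ModuleCat.Abelian
import Mathlib.CategoryTheory.Preadditive.AdditiveFunctor
import Mathlib.CategoryTheory.Limits.Preserves.Shapes.Biproducts
import Mathlib.CategoryTheory.Adjunction.Limits

set_option autoImplicit false
universe u
open CategoryTheory
open QCohCat

namespace Groth.Agent.S2203

/-- Ring-isomorphism part of the statement: let A and B be commutative rings whose categories of modules
are equivalent. Then A and B are isomorphic as rings. (The source moreover describes the equivalence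
as base change followed by tensoring with an invertible module.) -/
theorem result (A B : Type u) [CommRing A] [CommRing B]
    (F : ModuleCat.{u} A ≌ ModuleCat.{u} B) : Nonempty (A ≃+* B) := by
  have key : ∀ {R S : Type u} [CommRing R] [CommRing S] (H : ModuleCat.{u} R ⥤ ModuleCat.{u} S),
      H.Full → H.EssSurj → ∀ r : R, ∃ s : S, ∀ M, H.map (r • 𝟙 M) = s • 𝟙 (H.obj M) := by
    intro R S _ _ H _ _ r
    let M₀ := H.objPreimage (ModuleCat.of S S)
    let e : H.obj M₀ ≅ ModuleCat.of S S := H.objObjPreimageIso (ModuleCat.of S S)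
    let z : H.obj M₀ := e.inv (1 : S)
    refine ⟨e.hom (H.map (r • 𝟙 M₀) z), fun M => ModuleCat.hom_ext (LinearMap.ext fun x => ?_)⟩
    let g := H.preimage (e.hom ≫ ModuleCat.ofHom (LinearMap.toSpanSingleton S (H.obj M) x))
    have hg : H.map g = e.hom ≫ ModuleCat.ofHom (LinearMap.toSpanSingleton S (H.obj M) x) := H.map_preimage _
    have hx : H.map g z = x := by
      rw [hg]
      show LinearMap.toSpanSingleton S (H.obj M) x (e.hom (e.inv (1 : S))) = x
      rw [← ModuleCat.comp_apply, Iso.inv_hom_id]
      exact one_smul S x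
    have hc : g ≫ (r • 𝟙 M) = (r • 𝟙 M₀) ≫ g := by simp
    have h2 : H.map g ≫ H.map (r • 𝟙 M) = H.map (r • 𝟙 M₀) ≫ H.map g := by
      rw [← H.map_comp, ← H.map_comp, hc]
    have h3 := congrArg (fun t => t.hom z) h2
    show H.map (r • 𝟙 M) x = (e.hom (H.map (r • 𝟙 M₀) z) : S) • x
    conv_lhs => rw [← hx]
    refine h3.trans ?_
    show H.map g (H.map (r • 𝟙 M₀) z) = _
    rw [hg]
    rfl
  have smul_inj : ∀ {R : Type u} [CommRing R] (r r' : R),
      r • 𝟙 (ModuleCat.of R R) = r' • 𝟙 (ModuleCat.of R R) → r = r' := fun {R} _ r r' h => by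
    have h1 : r • (1 : R) = r' • (1 : R) := congrArg (fun t => t.hom (1 : R)) h
    simpa using h1
  haveI : Limits.PreservesLimitsOfSize.{0, 0} F.functor := F.symm.toAdjunction.rightAdjoint_preservesLimits
  haveI : Limits.PreservesLimitsOfSize.{0, 0} F.inverse := F.toAdjunction.rightAdjoint_preservesLimits
  haveI := Limits.preservesBinaryBiproducts_of_preservesBinaryProducts F.functor
  haveI : F.functor.Additive := Functor.additive_of_preservesBinaryBiproducts _
  haveI := Limits.preservesBinaryBiproducts_of_preservesBinaryProducts F.inverse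
  haveI : F.inverse.Additive := Functor.additive_of_preservesBinaryBiproducts _
  choose θ hθ using key F.functor inferInstance inferInstance
  choose θ' hθ' using key F.inverse inferInstance inferInstance
  let M₁ := F.functor.objPreimage (ModuleCat.of B B)
  let e₁ : F.functor.obj M₁ ≅ ModuleCat.of B B := F.functor.objObjPreimageIso (ModuleCat.of B B)
  have val : ∀ b b' : B, b • 𝟙 (F.functor.obj M₁) = b' • 𝟙 (F.functor.obj M₁) → b = b' := fun b b' h =>
    smul_inj b b' (by simpa using congrArg (fun t => e₁.inv ≫ t ≫ e₁.hom) h)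
  let Θ : A →+* B :=
    { toFun := θ
      map_one' := val _ _ (by rw [← hθ, one_smul, one_smul, F.functor.map_id])
      map_mul' := fun x y => val _ _ (by
        rw [← hθ]
        have h : F.functor.map (y • 𝟙 M₁) ≫ F.functor.map (x • 𝟙 M₁) = F.functor.map ((x * y) • 𝟙 M₁) := by
          rw [← F.functor.map_comp, Linear.smul_comp, Category.id_comp, smul_smul, mul_comm]
        rw [← h, hθ, hθ, Linear.smul_comp, Category.id_comp, smul_smul, mul_comm])
      map_zero' := val _ _ (by rw [← hθ, zero_smul, zero_smul, F.functor.map_zero])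
      map_add' := fun x y => val _ _ (by rw [← hθ, add_smul, F.functor.map_add, hθ, hθ, add_smul]) }
  refine ⟨RingEquiv.ofBijective Θ ⟨fun x y h => ?_, fun b => ?_⟩⟩
  · have h' : θ x = θ y := h
    exact smul_inj x y (F.functor.map_injective (by rw [hθ, hθ, h']))
  · refine ⟨θ' b, val _ _ ?_⟩
    show θ (θ' b) • 𝟙 (F.functor.obj M₁) = _
    rw [← hθ]
    refine F.inverse.map_injective ?_
    rw [hθ']
    have hn := F.unitIso.hom.naturality (θ' b • 𝟙 M₁)
    simp only [Functor.id_map, Functor.comp_map] at hn
    rw [← cancel_epi (F.unitIso.hom.app M₁), ← hn]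
    simp

end Groth.Agent.S2203
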