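import Groth.Statements.S2206
import Groth.Agent.Rodicio.Smooth
import Groth.Agent.PCHom.Perfect


set_option autoImplicit false
set_option linter.style.haveILetI false
universe u
open TensorProduct
open LCI

namespace Groth.Agent.S2206

open TensorProduct

attribute [local instance] HasDerivedCategory.standard

/-- finite tor dimension under flat base change -/
theorem hasFiniteTorDim_baseChange (C D M : Type u) [CommRing C] [CommRing D] [Algebra C D] [Module.Flat C D]
    [AddCommGroup M] [Module C M] (h : DRing.HasFiniteTorDim C M) : DRing.HasFiniteTorDim D (D ⊗[C] M) := by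
  obtain ⟨d, hd⟩ := h
  obtain ⟨E, h1, h2, ⟨e⟩⟩ := (DRingTorAmp.hasTorDimLE_iff _ _).1 hd
  have he : (algebraMap C D).toAlgebra = (inferInstance : Algebra C D) := Algebra.algebra_ext _ _ fun _ => rfl
  have hφ : (algebraMap C D).Flat := by rwa [RingHom.flat_algebraMap_iff]
  have e₂ := DRingTorAmp.exists_inD_esc_iso hφ M e
  rw [he] at e₂
  obtain ⟨e₂⟩ := e₂
  exact ⟨d, (DRingTorAmp.hasTorDimLE_iff _ _).2
    ⟨_, DRingTorAmp.esc_outside _ h1, DRingTorAmp.esc_flat _ h2, ⟨e₂⟩⟩⟩

/-- passing to a flat localization-like extension acting on the module -/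
theorem hasFiniteTorDim_transfer (C D M : Type u) [CommRing C] [CommRing D] [CommRing M] [Algebra C D]
    [Module.Flat C D] [Algebra C M] [Algebra D M] [IsScalarTower C D M]
    (hepi : ∀ d : D, ∃ c s : C, algebraMap C D s * d = algebraMap C D c ∧ IsUnit (algebraMap C M s))
    (h : DRing.HasFiniteTorDim C M) : DRing.HasFiniteTorDim D M := by
  let ψ : D ⊗[C] M →ₗ[D] M :=
    TensorProduct.AlgebraTensorModule.lift (LinearMap.toSpanSingleton D (M →ₗ[C] M) LinearMap.id)
  have hψ : ∀ d m, ψ (d ⊗ₜ m) = d • m := fun d m => rfl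
  have key : ∀ (d : D) (m : M), d ⊗ₜ[C] m = (1 : D) ⊗ₜ[C] (d • m) := by
    intro d m
    obtain ⟨c, s, hd, hu⟩ := hepi d
    obtain ⟨m', rfl⟩ : ∃ m', s • m' = m := ⟨(↑hu.unit⁻¹ : M) * m, by
      rw [Algebra.smul_def, ← mul_assoc, hu.mul_val_inv, one_mul]⟩
    have hd' : s • d = c • (1 : D) := by rw [Algebra.smul_def, hd, Algebra.smul_def, mul_one]
    rw [← TensorProduct.smul_tmul, hd', TensorProduct.smul_tmul, smul_comm, ← smul_assoc, hd', smul_assoc, one_smul]
  refine PCHom.hasFiniteTorDim_congr (LinearEquiv.ofBijective ψ ⟨fun z w hzw => ?_, fun m => ⟨1 ⊗ₜ m, by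
    rw [hψ, one_smul]⟩⟩) (hasFiniteTorDim_baseChange C D M h)
  have hz : ∀ z, z = (1 : D) ⊗ₜ[C] ψ z := fun z => by
    induction z using TensorProduct.induction_on with
    | zero => simp
    | add a b ha hb => rw [map_add, TensorProduct.tmul_add, ← ha, ← hb]
    | tmul d m => rw [hψ]; exact key d m
  rw [hz z, hz w, hzw]

theorem formallySmooth_atPrime {A B : Type u} [CommRing A] [CommRing B] [Algebra A B] [IsNoetherianRing A]
    [Algebra.FiniteType A B] [Module.Flat A B] [Algebra (B ⊗[A] B) B]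
    (hmul : ∀ x y : B, algebraMap (B ⊗[A] B) B (x ⊗ₜ[A] y) = x * y)
    (h : DRing.HasFiniteTorDim (B ⊗[A] B) B) (Q : Ideal B) [Q.IsPrime] :
    Algebra.FormallySmooth A (Localization.AtPrime Q) := by
  haveI : IsNoetherianRing B := Algebra.FiniteType.isNoetherianRing A B
  let p := Q.comap (algebraMap A B)
  haveI : Q.LiesOver p := ⟨rfl⟩
  let A' := Localization.AtPrime p
  let B' := Localization.AtPrime Q
  letI := Localization.AtPrime.algebraOfLiesOver p Q
  haveI : IsScalarTower A A' B' := IsScalarTower.of_algebraMap_eq fun a => by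
    rw [IsScalarTower.algebraMap_apply A B B']
    exact (Localization.localRingHom_to_map _ _ _ (Ideal.over_def Q p) a).symm
  haveI : IsLocalHom (algebraMap A' B') := Localization.isLocalHom_localRingHom _ _ _ (Ideal.over_def Q p)
  haveI : Module.Flat A B' := Module.Flat.trans A B B'
  haveI : Module.Flat A' B' := (Module.flat_iff_of_isLocalization A' p.primeCompl B').2 ‹_›
  haveI : Algebra.EssFiniteType B B' := Algebra.EssFiniteType.of_isLocalization B' Q.primeCompl
  haveI : Algebra.EssFiniteType A B' := Algebra.EssFiniteType.comp A B B'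
  haveI : Algebra.EssFiniteType A' B' := Algebra.EssFiniteType.of_comp A A' B'
  letI : Algebra (B' ⊗[A'] B') B' := (Algebra.TensorProduct.lmul' A' (S := B')).toRingHom.toAlgebra
  let f : B →ₐ[A] B' := IsScalarTower.toAlgHom A B B'
  let ε := IsLocalization.algebraTensorEquiv p.primeCompl (R := A) A' B' B'
  let χ : B ⊗[A] B →+* B' ⊗[A'] B' := ε.symm.toRingEquiv.toRingHom.comp (Algebra.TensorProduct.map f f).toRingHom
  have hff : f.toRingHom.Flat := RingHom.flat_algebraMap_iff.2 (inferInstance : Module.Flat B B')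
  have hχflat : χ.Flat :=
    RingHom.Flat.comp (RingHom.Flat.tensorProductMap hff hff) (RingHom.Flat.of_bijective ε.symm.bijective)
  have hχ : ∀ x y : B, χ (x ⊗ₜ[A] y) = algebraMap B B' x ⊗ₜ[A'] algebraMap B B' y := fun x y => by
    show ε.symm (Algebra.TensorProduct.map f f (x ⊗ₜ[A] y)) = _
    rw [AlgEquiv.symm_apply_eq]
    rfl
  have hcompat : ∀ z : B ⊗[A] B, algebraMap (B ⊗[A] B) B' z = algebraMap (B' ⊗[A'] B') B' (χ z) := fun z => by
    induction z using TensorProduct.induction_on with
    | zero => simp only [map_zero]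
    | add a b ha hb => simp only [map_add, ha, hb]
    | tmul x y =>
      rw [IsScalarTower.algebraMap_apply (B ⊗[A] B) B B', hmul, map_mul]
      show _ = Algebra.TensorProduct.lmul' A' (χ (x ⊗ₜ[A] y))
      rw [hχ, Algebra.TensorProduct.lmul'_apply_tmul]
  have h₁ : DRing.HasFiniteTorDim (B ⊗[A] B) B' :=
    PCHom.hasFiniteTorDim_trans (B ⊗[A] B) B B' h (PCHom.hasFiniteTorDim_of_flat B B')
  have hepi : ∀ d : B' ⊗[A'] B', ∃ c s : B ⊗[A] B, χ s * d = χ c ∧ IsUnit (algebraMap (B ⊗[A] B) B' s) := by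
    intro d
    induction d using TensorProduct.induction_on with
    | zero => exact ⟨0, 1, by simp, by simp⟩
    | add a b ha hb =>
      obtain ⟨c₁, s₁, e₁, u₁⟩ := ha
      obtain ⟨c₂, s₂, e₂, u₂⟩ := hb
      refine ⟨c₁ * s₂ + c₂ * s₁, s₁ * s₂, ?_, by rw [map_mul]; exact u₁.mul u₂⟩
      rw [map_mul, map_add, map_mul, map_mul, ← e₁, ← e₂]
      ring
    | tmul a b =>
      obtain ⟨x, s, rfl⟩ := IsLocalization.exists_mk'_eq Q.primeCompl a
      obtain ⟨y, t, rfl⟩ := IsLocalization.exists_mk'_eq Q.primeCompl b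
      refine ⟨x ⊗ₜ[A] y, (s : B) ⊗ₜ[A] (t : B), ?_, ?_⟩
      · rw [hχ, hχ, Algebra.TensorProduct.tmul_mul_tmul, IsLocalization.mk'_spec', IsLocalization.mk'_spec']
      · rw [IsScalarTower.algebraMap_apply (B ⊗[A] B) B B', hmul, map_mul]
        exact (IsLocalization.map_units B' s).mul (IsLocalization.map_units B' t)
  have h₂ : DRing.HasFiniteTorDim (B' ⊗[A'] B') B' :=
    @hasFiniteTorDim_transfer (B ⊗[A] B) (B' ⊗[A'] B') B' _ _ _ χ.toAlgebra
      (@RingHom.flat_algebraMap_iff _ _ _ _ χ.toAlgebra |>.1 hχflat) _ _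
      (@IsScalarTower.of_algebraMap_eq (B ⊗[A] B) (B' ⊗[A'] B') B' _ _ _ χ.toAlgebra _ _ hcompat) hepi h₁
  obtain ⟨R, _, _, _, _, q, _, hR, hRB⟩ := Rodicio.exists_smooth_localization (A := A') (B := B')
    (fun x y => Algebra.TensorProduct.lmul'_apply_tmul x y) h₂
  haveI := hR
  haveI := hRB
  haveI : Algebra.FormallySmooth R B' := Algebra.FormallySmooth.of_isLocalization q.primeCompl
  haveI : Algebra.FormallySmooth A' B' := Algebra.FormallySmooth.comp A' R B'
  haveI : Algebra.FormallySmooth A A' := Algebra.FormallySmooth.of_isLocalization p.primeCompl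
  exact Algebra.FormallySmooth.comp A A' B'


/-- Let A be a Noetherian ring and B a flat A-algebra of finite type, viewed as an algebra over B
tensor_A B through the multiplication map. If B, as a module over B tensor_A B, has finite
Tor-dimension (the diagonal is a perfect ring map), then B is smooth over A. -/
theorem result {A B : Type u} [CommRing A] [CommRing B]
    [Algebra A B] [IsNoetherianRing A] [Algebra.FiniteType A B] [Module.Flat A B]
    [Algebra (B ⊗[A] B) B]
    (hmul : ∀ x y : B, algebraMap (B ⊗[A] B) B (x ⊗ₜ[A] y) = x * y)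
    (h : DRing.HasFiniteTorDim (B ⊗[A] B) B) : Algebra.Smooth A B := by
  haveI : Algebra.FinitePresentation A B := Algebra.FinitePresentation.of_finiteType.1 inferInstance
  refine ⟨?_, inferInstance⟩
  exact Algebra.smoothLocus_eq_univ_iff.1 (Set.eq_univ_of_forall fun Q => formallySmooth_atPrime hmul h Q.asIdeal)

end Groth.Agent.S2206
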