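import Groth.Statements.S2219
import Groth.Agent.TraceLength.Basic

set_option autoImplicit false
universe u
open Disc

namespace Groth.Agent.S2219

/-- Equivalence of (1) and (3): let k be a field and A a finite-dimensional local k-algebra with residue
field k'. Then the trace map Tr_{A/k} is not identically zero if and only if k' is separable over k
and the length of A as a module over itself is not divisible by the characteristic of k (no
condition in characteristic zero). -/
theorem result (k A : Type u) [Field k] [CommRing A]
    [Algebra k A] [FiniteDimensional k A] [IsLocalRing A] :
    Algebra.trace k A ≠ 0 ↔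
      (Algebra.IsSeparable k (IsLocalRing.ResidueField A) ∧
        ∀ p : ℕ, p.Prime → CharP k p → ¬ p ∣ (Module.length A A).toNat) := by
  rw [Groth.Agent.TraceLength.trace_ne_zero_iff A]
  refine and_congr_right fun _ => ⟨fun h p hp hc hd => h ?_, fun h h0 => ?_⟩
  · exact (CharP.cast_eq_zero_iff k p _).mpr hd
  · obtain ⟨q, hq⟩ := CharP.exists k
    rcases CharP.char_is_prime_or_zero k q with hp | hp
    · exact h q hp hq ((CharP.cast_eq_zero_iff k q _).mp h0)
    · subst hp
      haveI := CharP.charP_to_charZero k
      rw [Nat.cast_eq_zero, ENat.toNat_eq_zero] at h0
      haveI : IsArtinianRing A := isArtinian_of_tower k inferInstance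
      haveI : IsNoetherianRing A := IsNoetherianRing.of_finite k A
      rcases h0 with h0 | h0
      · haveI := Module.length_eq_zero_iff.mp h0
        exact not_subsingleton A this
      · exact Module.length_ne_top_iff.mpr
          (isFiniteLength_iff_isNoetherian_isArtinian.mpr ⟨inferInstance, inferInstance⟩) h0


end Groth.Agent.S2219
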