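import Groth.Statements.S2229
import Groth.Agent.S2216
import Mathlib.RingTheory.Nakayama
import Mathlib.LinearAlgebra.TensorProduct.Quotient
import Mathlib.RingTheory.Artinian.Module
import Mathlib.RingTheory.Norm.Basic


set_option autoImplicit false
universe u
open Disc

open scoped TensorProduct

namespace Groth.Agent.S2229

/-- Part (2), special case: affine with B finite free over the Noetherian ring A (basis b) and omega =
Hom_A(B, A) an invertible B-module. Then the ideal of A generated by the norms of all elements of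
the different of B over A equals the ideal generated by the discriminant of the basis b (the norm of
the ramification locus is the discriminant). -/
theorem result {A B : Type u} [CommRing A] [CommRing B]
    [Algebra A B] [IsNoetherianRing A] {ι : Type} [Fintype ι] [DecidableEq ι]
    (b : Module.Basis ι A B) [Module.Invertible B (Disc.Omega A B)] :
    Ideal.span (Algebra.norm A '' Disc.differentSet A B) = Ideal.span {Algebra.discr A b} := by
  classical
  have : Module.Finite A B := .of_basis b
  have : Module.Free A B := .of_basis b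
  refine le_antisymm ?_ ?_
  · rw [Ideal.span_le]
    rintro _ ⟨x, hx, rfl⟩
    exact Groth.Agent.S2216.result b x hx
  rw [Ideal.span_le, Set.singleton_subset_iff]
  set J := Ideal.span (Algebra.norm A '' Disc.differentSet A B)
  set col : Ideal A := J.colon {Algebra.discr A b} with hcol
  suffices htop : col = ⊤ by
    have h := Submodule.mem_colon_singleton.1 (htop ▸ Submodule.mem_top : (1 : A) ∈ col)
    simpa using h
  by_contra hne
  obtain ⟨m, hm, hle⟩ := Ideal.exists_le_maximal col hne
  -- a local generator `ψ`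
  let 𝔪 : Ideal B := m.map (algebraMap A B)
  let Q := B ⧸ 𝔪
  have : IsArtinianRing Q := by
    letI := Ideal.Quotient.field m
    exact IsArtinianRing.of_finite (A ⧸ m) Q
  have hfree : Module.Free Q (Q ⊗[B] Disc.Omega A B) := inferInstance
  obtain ⟨e⟩ := Module.Invertible.free_iff_linearEquiv.1 hfree
  have hsurjQ : Function.Surjective (fun φ : Disc.Omega A B => (1 : Q) ⊗ₜ[B] φ) := by
    intro z
    induction z using TensorProduct.induction_on with
    | zero => exact ⟨0, TensorProduct.tmul_zero _ _⟩
    | add x y hx hy =>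
      obtain ⟨x', rfl⟩ := hx; obtain ⟨y', rfl⟩ := hy
      exact ⟨x' + y', TensorProduct.tmul_add _ _ _⟩
    | tmul q φ =>
      obtain ⟨c, rfl⟩ := Ideal.Quotient.mk_surjective q
      refine ⟨c • φ, ?_⟩
      show (1 : Q) ⊗ₜ[B] (c • φ) = _
      rw [TensorProduct.tmul_smul, TensorProduct.smul_tmul', Algebra.smul_def, mul_one]
      rfl
  obtain ⟨ψ, hψ⟩ := hsurjQ (e.symm 1)
  let W : Submodule B (Disc.Omega A B) := B ∙ ψ
  have hgen : (⊤ : Submodule B (Disc.Omega A B)) ≤ W ⊔ 𝔪 • ⊤ := by
    intro φ _
    obtain ⟨c, hc⟩ := Ideal.Quotient.mk_surjective (e ((1 : Q) ⊗ₜ[B] φ))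
    have h0 : (1 : Q) ⊗ₜ[B] (φ - c • ψ) = 0 := by
      apply e.injective
      rw [TensorProduct.tmul_sub, map_sub, TensorProduct.tmul_smul, map_zero,
        ← algebraMap_smul Q c ((1 : Q) ⊗ₜ[B] ψ), map_smul, algebraMap_smul]
      have : e ((1 : Q) ⊗ₜ[B] ψ) = 1 := by
        rw [show (1 : Q) ⊗ₜ[B] ψ = e.symm 1 from hψ, e.apply_symm_apply]
      rw [this, Algebra.smul_def, mul_one]
      exact sub_eq_zero.2 hc.symm
    have h1 : φ - c • ψ ∈ 𝔪 • (⊤ : Submodule B (Disc.Omega A B)) := by
      rw [← Submodule.Quotient.mk_eq_zero]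
      have := congrArg (TensorProduct.quotTensorEquivQuotSMul (Disc.Omega A B) 𝔪) h0
      rwa [map_zero, show (1 : Q) = Ideal.Quotient.mk 𝔪 1 from rfl, TensorProduct.quotTensorEquivQuotSMul_mk_tmul, one_smul] at this
    rw [← add_sub_cancel (c • ψ) φ]
    exact Submodule.add_mem_sup (Submodule.smul_mem _ _ (Submodule.mem_span_singleton_self _)) h1
  obtain ⟨r, hr1, hr⟩ : ∃ r : B, r - 1 ∈ 𝔪 ∧ ∀ φ : Disc.Omega A B, r • φ ∈ W := by
    obtain ⟨r, hr1, hr⟩ := Submodule.exists_sub_one_mem_and_smul_eq_zero_of_fg_of_le_smul 𝔪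
      (⊤ : Submodule B (Disc.Omega A B ⧸ W)) Module.Finite.fg_top (by
        rintro z -
        obtain ⟨φ, rfl⟩ := Submodule.mkQ_surjective _ z
        obtain ⟨w, hw, u, hu, rfl⟩ := Submodule.mem_sup.1 (hgen (Submodule.mem_top (x := φ)))
        rw [map_add, Submodule.mkQ_apply, (Submodule.Quotient.mk_eq_zero _).2 hw, zero_add]
        have := Submodule.mem_map_of_mem (f := W.mkQ) hu
        rw [Submodule.map_smul'', Submodule.map_top, Submodule.range_mkQ] at this
        exact this)
    exact ⟨r, hr1, fun φ => (Submodule.Quotient.mk_eq_zero _).1 (hr (W.mkQ φ) Submodule.mem_top)⟩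
  -- replace `r` by its norm
  set s : A := Algebra.norm A r with hs
  have hsm : s ∉ m := by
    have hcoord : ∀ x ∈ 𝔪, ∀ i, b.repr x i ∈ m := by
      intro x hx
      have hx' : x ∈ m • (⊤ : Submodule A B) := by rw [Ideal.smul_top_eq_map]; exact hx
      intro i
      refine Submodule.smul_induction_on hx' (fun a ha y _ => ?_) (fun y z hy hz => ?_)
      · rw [map_smul]; exact m.mul_mem_right _ ha
      · rw [map_add]; exact m.add_mem hy hz
    have hmat : (Algebra.leftMulMatrix b r).map (Ideal.Quotient.mk m) = 1 := by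
      ext i j
      rw [Matrix.map_apply, Algebra.leftMulMatrix_eq_repr_mul, Matrix.one_apply]
      have h1 := hcoord ((r - 1) * b j) (𝔪.mul_mem_right _ hr1) i
      rw [sub_mul, one_mul, map_sub, Finsupp.sub_apply, ← Ideal.Quotient.eq] at h1
      rw [h1, b.repr_self, Finsupp.single_apply]
      split_ifs with h2 h3 h3
      · exact map_one _
      · exact absurd h2.symm h3
      · exact absurd h3.symm h2
      · exact map_zero _
    intro h
    rw [hs, Algebra.norm_eq_matrix_det b, ← Ideal.Quotient.eq_zero_iff_mem, RingHom.map_det,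
      RingHom.mapMatrix_apply, hmat, Matrix.det_one] at h
    exact hm.ne_top ((Ideal.eq_top_iff_one m).2 (by rw [← Ideal.Quotient.eq_zero_iff_mem, map_one]; exact h))
  obtain ⟨r', hr'⟩ : ∃ r' : B, r * r' = algebraMap A B s := by
    refine ⟨Matrix.toLin b b (Algebra.leftMulMatrix b r).adjugate 1, ?_⟩
    have h := congrArg (fun M => Matrix.toLin b b M (1 : B)) (Matrix.mul_adjugate (Algebra.leftMulMatrix b r))
    simp only [Matrix.toLin_mul b b b, LinearMap.comp_apply, map_smul, Matrix.toLin_one, LinearMap.smul_apply,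
      LinearMap.id_apply] at h
    have h' : ∀ y : B, Matrix.toLin b b (Algebra.leftMulMatrix b r) y = r * y := fun y => by
      rw [Algebra.leftMulMatrix_apply, Matrix.toLin_toMatrix]; rfl
    rw [h'] at h
    rw [hs, Algebra.norm_eq_matrix_det b, h, ← Algebra.algebraMap_eq_smul_one]
  set σ : B := algebraMap A B s
  have hS : ∀ φ : Disc.Omega A B, ∃ c : B, σ • φ = c • ψ := by
    intro φ
    obtain ⟨c, hc⟩ := Submodule.mem_span_singleton.1 (hr (r' • φ))
    exact ⟨c, by rw [hc, smul_smul, hr']⟩
  have hσ : ∀ (φ : Disc.Omega A B) (y : B), (σ • φ).toLinearMap y = s * φ.toLinearMap y := by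
    intro φ y
    rw [Disc.Omega.smul_toLinearMap_apply, ← Algebra.smul_def, map_smul, smul_eq_mul]
  obtain ⟨d, hd⟩ := hS (Disc.Omega.trace A B)
  have hmem : d * σ ∈ Disc.differentSet A B := by
    intro φ
    obtain ⟨c, hc⟩ := hS ⟨φ⟩
    refine ⟨c * σ, fun x => ?_⟩
    have h1 : φ (d * σ * x) = (d • (σ • (⟨φ⟩ : Disc.Omega A B))).toLinearMap x := by
      simp only [Disc.Omega.smul_toLinearMap_apply]
      congr 1; ring
    have h2 : Algebra.trace A B (c * σ * x) = (c • (σ • Disc.Omega.trace A B)).toLinearMap x := by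
      simp only [Disc.Omega.smul_toLinearMap_apply]
      show _ = Algebra.trace A B _
      congr 1; ring
    rw [h1, h2, hc, hd, smul_smul, smul_smul, mul_comm]
  -- the Gram matrix of `ψ`
  let G : Matrix ι ι A := Matrix.of fun i j => ψ.toLinearMap (b i * b j)
  have hdet : G.det ∉ m := by
    choose c hc using fun i => hS ⟨b.coord i⟩
    have hEG : (Matrix.of fun i k => b.repr (c i) k) * G = s • (1 : Matrix ι ι A) := by
      ext i j
      have h := congrArg (fun ω : Disc.Omega A B => ω.toLinearMap (b j)) (hc i)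
      simp only [hσ] at h
      rw [Disc.Omega.smul_toLinearMap_apply] at h
      rw [Matrix.mul_apply, Matrix.smul_apply, Matrix.one_apply]
      have h2 : ψ.toLinearMap (c i * b j) = ∑ k, b.repr (c i) k * ψ.toLinearMap (b k * b j) := by
        conv_lhs => rw [← b.sum_repr (c i), Finset.sum_mul, map_sum]
        refine Finset.sum_congr rfl fun k _ => ?_
        rw [smul_mul_assoc, map_smul, smul_eq_mul]
      simp only [Matrix.of_apply, G]
      rw [← h2, ← h, Module.Basis.coord_apply, b.repr_self, Finsupp.single_apply, smul_eq_mul]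
      simp [eq_comm]
    intro h
    have h3 := congrArg Matrix.det hEG
    rw [Matrix.det_mul, Matrix.det_smul, Matrix.det_one, mul_one] at h3
    exact hsm (hm.isPrime.mem_of_pow_mem _ (h3 ▸ m.mul_mem_left _ h))
  have hT : (s • (1 : Matrix ι ι A)) * Algebra.traceMatrix A b = (Algebra.leftMulMatrix b d).transpose * G := by
    ext i j
    rw [Matrix.smul_mul, one_mul, Matrix.smul_apply, Algebra.traceMatrix_apply, Algebra.traceForm_apply,
      Matrix.mul_apply, smul_eq_mul]
    have h : s * Algebra.trace A B (b i * b j) = ψ.toLinearMap (d * (b i * b j)) := by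
      have := congrArg (fun ω : Disc.Omega A B => ω.toLinearMap (b i * b j)) hd
      simp only [hσ] at this
      rw [Disc.Omega.smul_toLinearMap_apply] at this
      exact this
    rw [h, ← mul_assoc]
    conv_lhs => rw [← b.sum_repr (d * b i), Finset.sum_mul, map_sum]
    refine Finset.sum_congr rfl fun k _ => ?_
    rw [smul_mul_assoc, map_smul, smul_eq_mul, Matrix.transpose_apply, Algebra.leftMulMatrix_eq_repr_mul]
    rfl
  have hfin : s ^ Fintype.card ι * s ^ Fintype.card ι * Algebra.discr A b = Algebra.norm A (d * σ) * G.det := by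
    have h4 := congrArg Matrix.det hT
    rw [Matrix.det_mul, Matrix.det_mul, Matrix.det_smul, Matrix.det_one, mul_one, Matrix.det_transpose,
      ← Algebra.norm_eq_matrix_det b] at h4
    rw [map_mul, Algebra.norm_algebraMap_of_basis b, mul_assoc, Algebra.discr_def, h4]
    ring
  have hmemcol : s ^ Fintype.card ι * s ^ Fintype.card ι ∈ col := by
    rw [hcol, Submodule.mem_colon_singleton, smul_eq_mul, hfin]
    exact J.mul_mem_right _ (Ideal.subset_span ⟨_, hmem, rfl⟩)
  exact (hm.isPrime.mem_or_mem (hle hmemcol)).elim (fun h => hsm (hm.isPrime.mem_of_pow_mem _ h))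
    (fun h => hsm (hm.isPrime.mem_of_pow_mem _ h))

end Groth.Agent.S2229
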