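import Groth.Statements.S2236
import Groth.Agent.NLAmp.Main
import Groth.Agent.PerfHom.Basic
import Groth.Agent.CAlgH.Vasconcelos
import Groth.Agent.LCIPres.FibreCrit
import Groth.Agent.PCHom.Perfect


set_option autoImplicit false
set_option linter.style.haveILetI false
universe u
attribute [local instance] HasDerivedCategory.standard
open LCI

namespace Groth.Agent.S2236

open CategoryTheory IsLocalRing RingTheory.Sequence Groth.Agent.CAlgReg
open scoped TensorProduct

attribute [local instance] HasDerivedCategory.standard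

variable {A : Type u} [CommRing A] [IsNoetherianRing A] {n : ℕ}

theorem pdLT_of_torDim : ∀ (d : ℕ) (M : Type u) [AddCommGroup M] [Module (MvPolynomial (Fin n) A) M] [Module A M]
    [IsScalarTower A (MvPolynomial (Fin n) A) M] [Module.Finite (MvPolynomial (Fin n) A) M],
    DRing.HasTorDimLE A d M → PdLT (MvPolynomial (Fin n) A) M (n + 1 + d) := by
  intro d
  induction d with
  | zero =>
    intro M _ _ _ _ _ h
    haveI := TorShift.flat_of_hasTorDimLE_zero h
    haveI : Module.FinitePresentation (MvPolynomial (Fin n) A) M := Module.finitePresentation_of_finite _ M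
    exact PerfHom.pdLT_of_flat M
  | succ d ih =>
    intro M _ _ _ _ _ h
    obtain ⟨r, π, hπ⟩ := Module.Finite.exists_fin' (MvPolynomial (Fin n) A) M
    haveI : Module.Finite (MvPolynomial (Fin n) A) (LinearMap.ker π) :=
      Module.Finite.of_fg (IsNoetherian.noetherian _)
    have hk : PdLT (MvPolynomial (Fin n) A) (LinearMap.ker π) (n + 1 + d) :=
      ih (LinearMap.ker π) (TorShift.hasTorDimLE_of_exact (i := (LinearMap.ker π).subtype.restrictScalars A)
        (π := π.restrictScalars A) Subtype.val_injective (LinearMap.exact_subtype_ker_map π) hπ h)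
    haveI : HasProjectiveDimensionLT (ModuleCat.of (MvPolynomial (Fin n) A) (LinearMap.ker π)) (n + 1 + d) := hk
    have hS := LinearMap.shortExact_shortComplexKer hπ
    exact hS.hasProjectiveDimensionLT_X₃ (n + 1 + d) hk
      (hasProjectiveDimensionLT_of_ge _ 1 _ (by omega))

theorem exists_pd_ideal (I : Ideal (MvPolynomial (Fin n) A)) {d : ℕ}
    (h : DRing.HasTorDimLE A d (MvPolynomial (Fin n) A ⧸ I)) : ∃ k : ℕ, PdLT (MvPolynomial (Fin n) A) I (k + 1) := by
  haveI hB : HasProjectiveDimensionLT (ModuleCat.of (MvPolynomial (Fin n) A) (MvPolynomial (Fin n) A ⧸ I)) (n + 1 + d) := pdLT_of_torDim (n := n) d (MvPolynomial (Fin n) A ⧸ I) h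
  have hS := LinearMap.shortExact_shortComplexKer (f := I.mkQ) I.mkQ_surjective
  have h1 : HasProjectiveDimensionLT (ModuleCat.of (MvPolynomial (Fin n) A) (LinearMap.ker I.mkQ)) (n + 1 + d) :=
    hS.hasProjectiveDimensionLT_X₁ (n + 1 + d) (hasProjectiveDimensionLT_of_ge _ 1 _ (by omega))
      (hasProjectiveDimensionLT_of_ge _ (n + 1 + d) _ (by omega))
  refine ⟨n + d, pdLT_congr (LinearEquiv.ofEq _ _ (Submodule.ker_mkQ I)) ?_⟩
  show HasProjectiveDimensionLT _ (n + d + 1)
  rw [show n + d + 1 = n + 1 + d by omega]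
  exact h1

theorem isKoszulRegularIdeal_of_pd {P : Type u} [CommRing P] [IsNoetherianRing P] (I : Ideal P) {k : ℕ}
    (hpd : PdLT P I (k + 1)) (hflat : NLAmp.ConormalFlat I) : LCI.IsKoszulRegularIdeal I := by
  classical
  rw [LCIPres.isKoszulRegularIdeal_iff]
  intro q hq hIq
  haveI := hq
  let S := Localization.AtPrime q
  let J := I.map (algebraMap P S)
  obtain ⟨r, x, hxI, hxJ, hind⟩ := NLAmp.exists_minimal_generators q (IsNoetherian.noetherian I) hflat
  have hJ : J ≠ ⊤ := by
    refine ne_top_of_le_ne_top (maximalIdeal.isMaximal S).ne_top ?_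
    rw [← Localization.AtPrime.map_eq_maximalIdeal]
    exact Ideal.map_mono hIq
  have hpdJ : PdLT S J (k + 1) :=
    pdLT_congr (IsLocalizedModule.isBaseChange q.primeCompl S (Algebra.idealMap I (S := S))).equiv
      (pdLT_localization q.primeCompl k I hpd)
  let y : Fin r → J := fun i => ⟨algebraMap P S (x i), Ideal.mem_map_of_mem _ (hxI i)⟩
  let π : (Fin r → S) →ₗ[S] J := Fintype.linearCombination S y
  have hπv : ∀ a : Fin r → S, (π a : S) = ∑ i, a i * algebraMap P S (x i) := fun a => by
    simp [π, y, Fintype.linearCombination_apply]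
  have hπ : Function.Surjective π := fun z => by
    obtain ⟨a, ha⟩ := (Ideal.mem_span_range_iff_exists_fun).1 (hxJ.ge z.2)
    exact ⟨a, Subtype.ext ((hπv a).trans ha)⟩
  let red : (Fin r → S) →ₗ[S] (Fin r → S ⧸ J) := LinearMap.pi fun i => J.mkQ ∘ₗ LinearMap.proj i
  obtain ⟨φ, hφ⟩ := DRingTwoTerm.exists_factor π hπ red fun a ha => by
    funext i
    exact (Submodule.Quotient.mk_eq_zero _).2 (hind a (by rw [← hπv, ha]; exact zero_mem _) i)
  have hφy : ∀ i, φ (y i) = Pi.single i 1 := fun i => by
    rw [show y i = π (Pi.single i 1) by simp [π], hφ]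
    funext j
    rcases eq_or_ne j i with rfl | hne
    · simp [red]
    · simp [red, Pi.single_eq_of_ne hne]
  obtain ⟨x', hx', hreg⟩ := CAlgH.Vasconcelos.exists_regular_lift r S J hJ k hpdJ φ y hφy
  refine LCIPres.krAt_of_isWeaklyRegular q x' hreg ?_
  refine le_antisymm (Ideal.span_le.2 ?_) ?_
  · rintro _ ⟨i, rfl⟩
    simpa using add_mem (Ideal.pow_le_self two_ne_zero (hx' i)) (y i).2
  · refine Submodule.le_of_le_smul_of_le_jacobson_bot (IsNoetherian.noetherian _)
      ((IsLocalRing.le_maximalIdeal hJ).trans (IsLocalRing.jacobson_eq_maximalIdeal _ bot_ne_top).ge) ?_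
    show J ≤ Ideal.span (Set.range x') ⊔ J • J
    rw [smul_eq_mul, ← sq]
    intro z hz
    refine (Ideal.span_le.2 ?_) (hxJ.ge hz)
    rintro _ ⟨i, rfl⟩
    show algebraMap P S (x i) ∈ _
    rw [show algebraMap P S (x i) = x' i - (x' i - (y i).1) by simp [y]]
    exact sub_mem (Ideal.mem_sup_left (Ideal.subset_span ⟨i, rfl⟩)) (Ideal.mem_sup_right (hx' i))


/-- Equivalence of (1) and (3): let A be a Noetherian ring and B an A-algebra of finite type which has
finite Tor-dimension as an A-module (so that A -> B is a perfect ring map). Then NL_{B/A} has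
tor-amplitude in [-1, 0] if and only if A -> B is a local complete intersection homomorphism (some
presentation has Koszul-regular kernel ideal). -/
theorem result {A B : Type u} [CommRing A] [CommRing B]
    [Algebra A B] [IsNoetherianRing A] [Algebra.FiniteType A B] (hB : DRing.HasFiniteTorDim A B) :
    DRing.HasTorAmplitudeIn B (-1) 0 (LCI.NL A B) ↔ LCI.IsLCI A B := by
  refine ⟨fun h => ?_, fun h => (NLAmp.isPerfect_and_torAmp A B h).2⟩
  haveI : Algebra.FinitePresentation A B := Algebra.FinitePresentation.of_finiteType.1 inferInstance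
  obtain ⟨n, f, hf, -⟩ := Algebra.FinitePresentation.out (R := A) (A := B)
  refine ⟨inferInstance, n, f, hf, ?_⟩
  obtain ⟨d, hd⟩ := PCHom.hasFiniteTorDim_congr (Ideal.quotientKerAlgEquivOfSurjective hf).symm.toLinearEquiv hB
  obtain ⟨k, hk⟩ := exists_pd_ideal (RingHom.ker f.toRingHom) hd
  exact isKoszulRegularIdeal_of_pd _ hk (NLAmp.conormalFlat_of_torAmp A B f hf h)

end Groth.Agent.S2236
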