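import Groth.Statements.S2237
import Groth.Agent.SyntLCI.Nhd


set_option autoImplicit false
universe u
attribute [local instance] HasDerivedCategory.standard
open LCI

namespace Groth.Agent.S2237

/-- Implication (2) to (5), affine form: let A -> B be flat, quasi-finite and a local complete
intersection homomorphism (finite type with a Koszul-regular presentation). Then for every prime q
of B there are g in B outside q, a natural number n and polynomials f_1, ..., f_n in A[x_1, ...,
x_n] such that B_g is isomorphic as an A-algebra to A[x_1, ..., x_n]/(f_1, ..., f_n). -/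
theorem result {A B : Type u} [CommRing A]
    [CommRing B] [Algebra A B] [Module.Flat A B] [Algebra.QuasiFinite A B] (hlci : LCI.IsLCI A B)
    (q : Ideal B) [q.IsPrime] :
    ∃ g : B, g ∉ q ∧ ∃ (n : ℕ) (f : Fin n → MvPolynomial (Fin n) A),
      Nonempty (Localization.Away g ≃ₐ[A]
        (MvPolynomial (Fin n) A ⧸ Ideal.span (Set.range f))) := by
  obtain ⟨g, hg, m, c, F, hF, -, ⟨e⟩⟩ :=
    SyntLCI.exists_relGCI_nhd_of_isSyntomic ((SyntLCI.isSyntomic_iff A B).2 ⟨inferInstance, hlci⟩) q
  suffices hmc : c = m by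
    subst hmc
    exact ⟨g, hg, c, F, ⟨e⟩⟩
  let p : PrimeSpectrum A := ⟨q.comap (algebraMap A B), inferInstance⟩
  have hd : Disjoint (Submonoid.powers g : Set B) (q : Set B) :=
    (Ideal.disjoint_powers_iff_notMem g (Ideal.IsPrime.isRadical ‹_›)).2 hg
  let q₁ : PrimeSpectrum (Localization.Away g) :=
    ⟨q.map (algebraMap B (Localization.Away g)), IsLocalization.isPrime_of_isPrime_disjoint _ _ _ ‹_› hd⟩
  have hq₁ : PrimeSpectrum.comap (algebraMap A (Localization.Away g)) q₁ = p := by
    ext1
    show (q.map (algebraMap B (Localization.Away g))).comap (algebraMap A (Localization.Away g)) = q.comap (algebraMap A B)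
    rw [IsScalarTower.algebraMap_eq A B (Localization.Away g), ← Ideal.comap_comap]
    exact congrArg (Ideal.comap (algebraMap A B)) (IsLocalization.under_map_of_isPrime_disjoint (Submonoid.powers g) _ ‹q.IsPrime› hd)
  have hne : Nonempty (PrimeSpectrum (p.asIdeal.Fiber (Localization.Away g))) :=
    ⟨PrimeSpectrum.preimageEquivFiber A (Localization.Away g) p ⟨q₁, hq₁⟩⟩
  have hnt : Nontrivial (p.asIdeal.Fiber (Localization.Away g)) := PrimeSpectrum.nonempty_iff_nontrivial.1 hne
  let e' := Algebra.TensorProduct.congr (AlgEquiv.refl (R := A) (A₁ := p.asIdeal.ResidueField)) e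
  have hnt' : Nontrivial (p.asIdeal.Fiber (Synt.RelGCIRing A m c F)) := e'.toEquiv.symm.nontrivial
  obtain ⟨hcm, hdim⟩ := hF p hnt'
  have h0 : ringKrullDim (p.asIdeal.Fiber (Localization.Away g)) ≤ ((0 : ℕ) : WithBot ℕ∞) := by
    let T := Localization.Away ((1 : p.asIdeal.ResidueField) ⊗ₜ[A] g)
    rw [ringKrullDim_eq_of_ringEquiv (IsLocalization.Away.tensorProductEquivTMulRight A p.asIdeal.ResidueField g (Localization.Away g)).toRingEquiv]
    exact (SyntLCI.ringKrullDim_localization_le (Submonoid.powers ((1 : p.asIdeal.ResidueField) ⊗ₜ[A] g)) T).trans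
      (Ring.krullDimLE_iff.1 inferInstance)
  rw [ringKrullDim_eq_of_ringEquiv (R := p.asIdeal.Fiber (Localization.Away g))
    (S := p.asIdeal.Fiber (Synt.RelGCIRing A m c F)) e'.toRingEquiv, hdim] at h0
  have : m - c ≤ 0 := by exact_mod_cast h0
  omega

end Groth.Agent.S2237
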