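import Groth.Statements.S4653
import Groth.Agent.QCohPull.Affine
import Mathlib.LinearAlgebra.Dual.Lemmas
import Groth.Agent.DCohBridge.StalkTensor
import Groth.Agent.S4357
import Groth.Agent.FlatOver.Basic
import Groth.Agent.QCohBase.Finite
import Groth.Agent.QCohBase.FiniteTypePullback
import Mathlib.RingTheory.Ideal.MinimalPrime.Localization


set_option autoImplicit false
set_option backward.isDefEq.respectTransparency false
set_option backward.isDefEq.respectTransparency.types false
open CategoryTheory AlgebraicGeometry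
universe u
open FDesc

namespace Groth.Agent.S4653

section Pre

open TensorProduct

/-- Going down for the support of a finite module flat over the base ring. -/
lemma exists_le_mem_support {R S M : Type u} [CommRing R] [CommRing S] [Algebra R S]
    [AddCommGroup M] [Module R M] [Module S M] [IsScalarTower R S M] [Module.Finite S M]
    [Module.Flat R M] (q : PrimeSpectrum S) (hq : q ∈ Module.support S M)
    (p : Ideal R) [p.IsPrime] (hp : p ≤ q.asIdeal.comap (algebraMap R S)) :
    ∃ q' : PrimeSpectrum S, q'.asIdeal ≤ q.asIdeal ∧ q' ∈ Module.support S M ∧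
      q'.asIdeal.comap (algebraMap R S) = p := by
  let J : Ideal S := p.map (algebraMap R S)
  let N := M ⧸ (J • ⊤ : Submodule S M)
  have hqN : q ∈ Module.support S N := by
    rw [Module.support_quotient]
    exact ⟨hq, Ideal.map_le_iff_le_comap.2 hp⟩
  rw [Module.mem_support_iff_of_finite] at hqN
  obtain ⟨q', hq', hle⟩ := Ideal.exists_minimalPrimes_le hqN
  haveI : q'.IsPrime := hq'.1.1
  have hq'N : (⟨q', inferInstance⟩ : PrimeSpectrum S) ∈ Module.support S N :=
    Module.mem_support_iff_of_finite.2 hq'.1.2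
  rw [Module.support_quotient] at hq'N
  refine ⟨⟨q', inferInstance⟩, hle, hq'N.1, le_antisymm (fun r hr => ?_) (Ideal.map_le_iff_le_comap.1 hq'N.2)⟩
  by_contra hrp
  obtain ⟨y, hy, hry⟩ := Ideal.exists_mul_mem_of_mem_minimalPrimes hq' (show algebraMap R S r ∈ q' from hr)
  refine hy (Module.mem_annihilator.2 fun n => ?_)
  -- multiplication by r is injective on N
  have hJ : ∀ m : M, m ∈ (J • ⊤ : Submodule S M) ↔ m ∈ (p • ⊤ : Submodule R M) := by
    intro m
    have e := Ideal.smul_restrictScalars (R := R) (S := S) (M := M) p ⊤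
    rw [Submodule.restrictScalars_top] at e
    rw [← e, Submodule.restrictScalars_mem]
  obtain ⟨m, rfl⟩ := Submodule.Quotient.mk_surjective _ n
  have h1 := Module.mem_annihilator.1 hry (Submodule.Quotient.mk m)
  rw [mul_smul, ← Submodule.Quotient.mk_smul, ← Submodule.Quotient.mk_smul,
    Submodule.Quotient.mk_eq_zero, hJ, algebraMap_smul] at h1
  rw [← Submodule.Quotient.mk_smul, Submodule.Quotient.mk_eq_zero, hJ]
  let e := TensorProduct.quotTensorEquivQuotSMul M p
  have hinj : Function.Injective (LinearMap.rTensor M (LinearMap.lsmul R (R ⧸ p) r)) :=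
    Module.Flat.rTensor_preserves_injective_linearMap _ (by
      intro a b hab
      have hab' : (Ideal.Quotient.mk p r) * a = (Ideal.Quotient.mk p r) * b := by
        simpa [Algebra.smul_def] using hab
      exact mul_left_cancel₀ (fun h => hrp (Ideal.Quotient.eq_zero_iff_mem.1 h)) hab')
  have hcomm : ∀ t : (R ⧸ p) ⊗[R] M, LinearMap.rTensor M (LinearMap.lsmul R (R ⧸ p) r) t = r • t := by
    intro t
    induction t with
    | zero => simp
    | tmul a b => rw [LinearMap.rTensor_tmul, LinearMap.lsmul_apply, TensorProduct.smul_tmul']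
    | add a b ha hb => rw [map_add, ha, hb, smul_add]
  rw [← Submodule.Quotient.mk_eq_zero (p • ⊤ : Submodule R M)] at h1 ⊢
  rw [Submodule.Quotient.mk_smul] at h1
  have h2 : e.symm (Submodule.Quotient.mk (y • m)) = 0 := by
    apply hinj
    rw [map_zero, hcomm, ← map_smul, h1, map_zero]
  exact e.symm.map_eq_zero_iff.1 h2

/-- Tensor products of nonzero finite modules over a local ring. -/
lemma subsingleton_tensor_iff {R M N : Type u} [CommRing R] [IsLocalRing R]
    [AddCommGroup M] [Module R M] [Module.Finite R M]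
    [AddCommGroup N] [Module R N] [Module.Finite R N] :
    Subsingleton (M ⊗[R] N) ↔ Subsingleton M ∨ Subsingleton N := by
  constructor
  · intro h
    by_contra hcon
    rw [not_or, not_subsingleton_iff_nontrivial, not_subsingleton_iff_nontrivial] at hcon
    let k := IsLocalRing.ResidueField R
    have hM : Nontrivial (k ⊗[R] M) := by
      rw [← not_subsingleton_iff_nontrivial, IsLocalRing.subsingleton_tensorProduct,
        not_subsingleton_iff_nontrivial]
      exact hcon.1
    have hN : Nontrivial (k ⊗[R] N) := by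
      rw [← not_subsingleton_iff_nontrivial, IsLocalRing.subsingleton_tensorProduct,
        not_subsingleton_iff_nontrivial]
      exact hcon.2
    obtain ⟨a, ha⟩ := exists_ne (0 : k ⊗[R] M)
    obtain ⟨b, hb⟩ := exists_ne (0 : k ⊗[R] N)
    obtain ⟨φ, hφ⟩ := Module.Projective.exists_dual_ne_zero k ha
    obtain ⟨ψ, hψ⟩ := Module.Projective.exists_dual_ne_zero k hb
    let f : M →ₗ[R] k := (φ.restrictScalars R).comp (TensorProduct.mk R k M 1)
    let g : N →ₗ[R] k := (ψ.restrictScalars R).comp (TensorProduct.mk R k N 1)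
    have hf : ∃ m, f m ≠ 0 := by
      by_contra h0
      push_neg at h0
      refine hφ ?_
      have : φ = 0 := by
        ext m
        simpa [f] using h0 m
      simp [this]
    have hg : ∃ n, g n ≠ 0 := by
      by_contra h0
      push_neg at h0
      refine hψ ?_
      have : ψ = 0 := by
        ext n
        simpa [g] using h0 n
      simp [this]
    obtain ⟨m, hm⟩ := hf
    obtain ⟨n, hn⟩ := hg
    have h0 : TensorProduct.lift ((LinearMap.mul R k).compl₁₂ f g) (m ⊗ₜ[R] n) = 0 := by
      rw [Subsingleton.elim (m ⊗ₜ[R] n) 0, map_zero]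
    rw [TensorProduct.lift.tmul, LinearMap.compl₁₂_apply, LinearMap.mul_apply'] at h0
    exact mul_ne_zero hm hn h0
  · rintro (h | h)
    · exact inferInstance
    · exact inferInstance

variable {X Y : Scheme.{u}}

lemma mem_support_tensorMod_iff (M N : X.Modules) (hM : Coh.IsCoh M) (hN : Coh.IsCoh N) (x : X) :
    x ∈ CohB1.support (CohB1.tensorMod M N) ↔ x ∈ CohB1.support M ∧ x ∈ CohB1.support N := by
  haveI := hM.1
  haveI := hN.1
  haveI : Module.Finite (X.presheaf.stalk x) (M.presheaf.stalk x) :=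
    Groth.Agent.QuasiFlatLib.finite_stalk M hM x
  haveI : Module.Finite (X.presheaf.stalk x) (N.presheaf.stalk x) :=
    Groth.Agent.QuasiFlatLib.finite_stalk N hN x
  have e : Subsingleton ((CohB1.tensorMod M N).presheaf.stalk x) ↔
      Subsingleton (TensorProduct (X.presheaf.stalk x) (M.presheaf.stalk x) (N.presheaf.stalk x)) :=
    (Groth.Agent.DCohBridge.stalkTensorIso x M N).toLinearEquiv.toEquiv.subsingleton_congr
  change ¬ _ ↔ ¬ _ ∧ ¬ _
  rw [e, subsingleton_tensor_iff, not_or]

lemma mem_support_pullback_iff (f : X ⟶ Y) (E : Y.Modules) (hE : Coh.IsCoh E) (x : X) :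
    x ∈ CohB1.support ((Scheme.Modules.pullback f).obj E) ↔ f x ∈ CohB1.support E := by
  haveI : Coh.IsQCoh E := hE.1
  rw [Groth.Agent.S4357.result f E hE.2]
  rfl

/-- Generizations lift along the support of a coherent module flat over the base. -/
lemma exists_specializes (f : X ⟶ Y) (F : X.Modules) (hF : Coh.IsCoh F)
    (hfl : FlatMod.IsFlatOver f F) {x : X} (hx : x ∈ CohB1.support F) {w : Y} (hw : w ⤳ f x) :
    ∃ z, z ∈ CohB1.support F ∧ z ⤳ x ∧ f z = w := by
  haveI := hF.1
  obtain ⟨V, hV, hxV, -⟩ := exists_isAffineOpen_mem_and_subset (x := f x) (U := ⊤) trivial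
  obtain ⟨U, hU, hxU, hUV⟩ := exists_isAffineOpen_mem_and_subset (x := x) (U := f ⁻¹ᵁ V) hxV
  have hwV : w ∈ V := hw.mem_open V.isOpen hxV
  letI : Algebra Γ(Y, V) Γ(X, U) := (f.appLE V U hUV).hom.toAlgebra
  letI := Groth.Agent.FlatOver.baseModule f F hUV
  haveI : IsScalarTower Γ(Y, V) Γ(X, U) Γ(F, U) := .of_algebraMap_smul fun _ _ => rfl
  haveI : Module.Flat Γ(Y, V) Γ(F, U) :=
    Groth.Agent.FlatOver.flat_of_isFlatOverAt f F hUV hU hV fun z _ => hfl z
  haveI : Module.Finite Γ(X, U) Γ(F, U) := Groth.Agent.QCohBase.finite_sections F hF.2 hU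
  have hq := (Groth.Agent.QCohBase.mem_support_iff F hU x hxU).2 hx
  have hcomap : ∀ (z : X) (hz : z ∈ U),
      (hV.primeIdealOf ⟨f z, hUV hz⟩).asIdeal =
        (hU.primeIdealOf ⟨z, hz⟩).asIdeal.comap (algebraMap Γ(Y, V) Γ(X, U)) := fun z hz =>
    congrArg PrimeSpectrum.asIdeal (IsAffineOpen.comap_primeIdealOf_appLE V hV U hU hUV hz).symm
  have hle : (hV.primeIdealOf ⟨w, hwV⟩).asIdeal ≤ (hV.primeIdealOf ⟨f x, hxV⟩).asIdeal := by
    refine (PrimeSpectrum.le_iff_specializes _ _).2 ?_
    rw [← hV.fromSpec.isEmbedding.isInducing.specializes_iff, hV.fromSpec_primeIdealOf,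
      hV.fromSpec_primeIdealOf]
    exact hw
  obtain ⟨q', hq'le, hq'supp, hq'eq⟩ := exists_le_mem_support (M := Γ(F, U))
    (hU.primeIdealOf ⟨x, hxU⟩) hq (hV.primeIdealOf ⟨w, hwV⟩).asIdeal (hle.trans (hcomap x hxU).le)
  have hzU : hU.fromSpec q' ∈ U := by
    have := Set.mem_range_self (f := hU.fromSpec) q'
    rwa [hU.range_fromSpec] at this
  have hzq : hU.primeIdealOf ⟨hU.fromSpec q', hzU⟩ = q' :=
    hU.fromSpec.isOpenEmbedding.injective (hU.fromSpec_primeIdealOf ⟨hU.fromSpec q', hzU⟩)
  refine ⟨hU.fromSpec q', ?_, ?_, ?_⟩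
  · exact (Groth.Agent.QCohBase.mem_support_iff F hU _ hzU).1 (hzq.symm ▸ hq'supp)
  · have h1 : q' ⤳ hU.primeIdealOf ⟨x, hxU⟩ := (PrimeSpectrum.le_iff_specializes _ _).1 hq'le
    have h2 := h1.map hU.fromSpec.continuous
    rwa [hU.fromSpec_primeIdealOf] at h2
  · have h1 : hV.primeIdealOf ⟨f (hU.fromSpec q'), hUV hzU⟩ = hV.primeIdealOf ⟨w, hwV⟩ := by
      apply PrimeSpectrum.ext
      rw [hcomap _ hzU, hzq, hq'eq]
    have h2 := congrArg hV.fromSpec h1
    rwa [hV.fromSpec_primeIdealOf, hV.fromSpec_primeIdealOf] at h2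

end Pre


/-- Let f : X → Y be a morphism of schemes, F a quasi-coherent O_X-module of finite type which is flat
over Y, E a quasi-coherent O_Y-module of finite type, and x a point of X with image y. Then x is a
maximal point of the support of f^*E ⊗ F (a point of the support admitting no proper generization in
it) if and only if y is a maximal point of Supp E and x, viewed in the fibre f⁻¹(y), is a maximal
point of the support of the restriction of F to that fibre. -/
theorem result {X Y : Scheme.{u}} (f : X ⟶ Y) (F : X.Modules) (hF : Coh.IsCoh F)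
    (hfl : FlatMod.IsFlatOver f F) (E : Y.Modules) (hE : Coh.IsCoh E) (x : X) :
    (x ∈ CohB1.support (CohB1.tensorMod ((Scheme.Modules.pullback f).obj E) F) ∧
        ∀ z ∈ CohB1.support (CohB1.tensorMod ((Scheme.Modules.pullback f).obj E) F), z ⤳ x → z = x) ↔
      ((f x ∈ CohB1.support E ∧ ∀ w ∈ CohB1.support E, w ⤳ f x → w = f x) ∧
        (f.asFiber x ∈ CohB1.support ((Scheme.Modules.pullback (f.fiberι (f x))).obj F) ∧
          ∀ z ∈ CohB1.support ((Scheme.Modules.pullback (f.fiberι (f x))).obj F), z ⤳ f.asFiber x → z = f.asFiber x)) := by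
  have hfE : Coh.IsCoh ((Scheme.Modules.pullback f).obj E) :=
    ⟨haveI := hE.1; Groth.Agent.QCohPull.isQuasicoherent_pullback f E, Groth.Agent.QCohBase.isFT_pullback f hE.2⟩
  simp only [mem_support_tensorMod_iff _ _ hfE hF, mem_support_pullback_iff f E hE,
    mem_support_pullback_iff (f.fiberι (f x)) F hF, f.fiberι_asFiber]
  have hind := (f.fiberι (f x)).isEmbedding.isInducing
  constructor
  · rintro ⟨⟨hy, hxF⟩, hmax⟩
    refine ⟨⟨hy, fun w hwE hw => ?_⟩, hxF, fun z' hz' hsp => ?_⟩
    · obtain ⟨z, hz, hzx, rfl⟩ := exists_specializes f F hF hfl hxF hw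
      rw [hmax z ⟨hwE, hz⟩ hzx]
    · have hsp' : f.fiberι (f x) z' ⤳ x := by
        have := hsp.map (f.fiberι (f x)).continuous
        rwa [f.fiberι_asFiber] at this
      have hfz : f (f.fiberι (f x) z') = f x := by
        have := Set.mem_range_self (f := f.fiberι (f x)) z'
        rw [f.range_fiberι] at this
        exact this
      refine (f.fiberι (f x)).isEmbedding.injective ?_
      rw [f.fiberι_asFiber]
      exact hmax _ ⟨hfz.symm ▸ hy, hz'⟩ hsp'
  · rintro ⟨⟨hy, hymax⟩, hxF, hfib⟩
    refine ⟨⟨hy, hxF⟩, fun z ⟨hzE, hzF⟩ hzx => ?_⟩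
    have hfz : f z = f x := hymax _ hzE (hzx.map f.continuous)
    have hzr : z ∈ Set.range (f.fiberι (f x)) := by
      rw [f.range_fiberι]
      exact hfz
    obtain ⟨z', rfl⟩ := hzr
    have := hfib z' hzF (by
      rw [← hind.specializes_iff, f.fiberι_asFiber]
      exact hzx)
    rw [this, f.fiberι_asFiber]

end Groth.Agent.S4653
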