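import Groth.Statements.S3571
import Groth.Agent.RelSpecLib.Basic
import Groth.Agent.QCohBase.Localization

set_option autoImplicit false
universe u
open CategoryTheory AlgebraicGeometry TopologicalSpace
open EGA2

namespace Groth.Agent.S3571

open Groth.Agent.QCohBase Opposite in
lemma isQC_of_isQCoh {S : Scheme.{u}}
    (B : Sheaf (Opens.grothendieckTopology S) CommRingCat.{u}) (φ : S.sheaf ⟶ B)
    (M : S.Modules)
    (hM : M = (SheafOfModules.restrictScalars
      ((sheafCompose (Opens.grothendieckTopology S) (forget₂ CommRingCat.{u} RingCat.{u})).map φ)).obj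
      (SheafOfModules.unit ((sheafCompose (Opens.grothendieckTopology S) (forget₂ CommRingCat.{u} RingCat.{u})).obj B)))
    [M.IsQuasicoherent] : RelSpec.IsQC B.obj φ.hom := by
  intro U hU r
  subst hM
  set M := (SheafOfModules.restrictScalars
      ((sheafCompose (Opens.grothendieckTopology S) (forget₂ CommRingCat.{u} RingCat.{u})).map φ)).obj
      (SheafOfModules.unit ((sheafCompose (Opens.grothendieckTopology S) (forget₂ CommRingCat.{u} RingCat.{u})).obj B))
  let le := S.basicOpen_le r
  letI := (B.obj.map (homOfLE le).op).hom.toAlgebra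
  show IsLocalization.Away _ _
  have hnat : ∀ x : Γ(S, U), B.obj.map (homOfLE le).op (φ.hom.app (op U) x) =
      φ.hom.app (op (S.basicOpen r)) (ores le x) := fun x =>
    (ConcreteCategory.congr_hom (φ.hom.naturality (homOfLE le).op) x).symm
  have hu : IsUnit (B.obj.map (homOfLE le).op (φ.hom.app (op U) r)) := by
    rw [hnat]
    exact (RingedSpace.isUnit_res_basicOpen _ r).map (φ.hom.app (op (S.basicOpen r))).hom
  refine IsLocalization.Away.mk _ hu (fun z => ?_) (fun x y hxy => ?_)
  · obtain ⟨n, y, hy⟩ := exists_pow_smul_eq_mres M hU r rfl le (show Γ(M, _) from z)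
    refine ⟨n, y, ?_⟩
    have hy' : B.obj.map (homOfLE le).op y =
        φ.hom.app (op (S.basicOpen r)) (ores le r ^ n) * z := hy
    show z * B.obj.map (homOfLE le).op (φ.hom.app (op U) r) ^ n = B.obj.map (homOfLE le).op y
    rw [hnat, hy']
    exact (mul_comm _ _).trans (congrArg (· * z) (map_pow (φ.hom.app (op (S.basicOpen r))).hom _ n).symm)
  · have h0 : mres M le (show Γ(M, U) from (x - y : B.obj.obj (op U))) = 0 := by
      show B.obj.map (homOfLE le).op (x - y) = 0
      rw [map_sub, sub_eq_zero]; exact hxy
    obtain ⟨n, hn⟩ := exists_pow_smul_eq_zero M hU r rfl le _ h0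
    refine ⟨n, ?_⟩
    have hn' : φ.hom.app (op U) (r ^ n) * (x - y) = 0 := hn
    have hp := map_pow (φ.hom.app (op U)).hom r n
    have hn'' : (φ.hom.app (op U)).hom r ^ n * (x - y) = 0 :=
      (congrArg (· * (x - y)) hp.symm).trans hn'
    rw [mul_sub, sub_eq_zero] at hn''
    exact hn''

/-- Let S be a scheme and B a sheaf of commutative rings on S with a morphism O_S → B making B a
quasi-coherent O_S-module (a quasi-coherent O_S-algebra). Then there are a scheme X and an affine
morphism f : X → S together with an isomorphism of sheaves of rings B ≅ f_*O_X compatible with the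
two structure maps from O_S (X is the relative spectrum of B; it is in fact unique up to unique
S-isomorphism, but only existence is asserted here). -/
theorem result {S : Scheme.{u}}
    (B : Sheaf (Opens.grothendieckTopology S) CommRingCat.{u}) (φ : S.sheaf ⟶ B)
    (hB : Coh.IsQCoh ((SheafOfModules.restrictScalars
      ((sheafCompose (Opens.grothendieckTopology S) (forget₂ CommRingCat.{u} RingCat.{u})).map φ)).obj
      (SheafOfModules.unit ((sheafCompose (Opens.grothendieckTopology S) (forget₂ CommRingCat.{u} RingCat.{u})).obj B)))) :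
    ∃ (X : Scheme.{u}) (f : X ⟶ S) (_ : IsAffineHom f)
      (e : B ≅ (TopCat.Sheaf.pushforward CommRingCat.{u} f.base).obj X.sheaf),
      (φ ≫ e.hom).hom = f.c := by
  haveI := hB
  let A : RelSpec.QCAlg S := ⟨B.obj, B.property, φ.hom, isQC_of_isQCoh B φ _ rfl⟩
  haveI := RelSpecLib.isIso_gammaMap A
  exact ⟨A.spec, A.π, inferInstance,
    ⟨⟨RelSpecLib.gammaInv A⟩, ⟨A.gammaMap⟩, Sheaf.hom_ext (RelSpecLib.gammaInv_gammaMap A),
      Sheaf.hom_ext (IsIso.hom_inv_id A.gammaMap)⟩, RelSpecLib.str_gammaInv A⟩

end Groth.Agent.S3571
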