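import Groth.Statements.S2331
import Groth.Agent.ProjUPLib.RelAmpleTwist
import Groth.Agent.GenLocus.UnivClosed
import Groth.Agent.ProjUPLib.RelVeryAmple
-- import your own Groth.Agent.* helpers here

set_option autoImplicit false
universe u
open CategoryTheory CategoryTheory.Limits AlgebraicGeometry
open EGA2

namespace Groth.Agent.S2331

/-- Let Z be quasi-compact, f : X → Y and g : Y → Z quasi-compact morphisms, L an O_X-module ample
relative to f and K an O_Y-module ample relative to g. Then there is n₀ > 0 such that L ⊗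
f^*(K^{⊗n}) is ample relative to g ∘ f for every n ≥ n₀. -/
theorem result {X Y Z : Scheme.{u}} [CompactSpace Z] (f : X ⟶ Y) (g : Y ⟶ Z)
    [QuasiCompact f] [QuasiCompact g] (L : X.Modules) (K : Y.Modules)
    (hL : RelAmple.IsRelAmple f L) (hK : RelAmple.IsRelAmple g K) :
    ∃ n₀ : ℕ, 0 < n₀ ∧ ∀ n, n₀ ≤ n →
      RelAmple.IsRelAmple (f ≫ g) (CohB1.tensorMod L ((Scheme.Modules.pullback f).obj (CohB1.tensorPow K n))) := by
  haveI := hL.1
  haveI := hK.1
  have hLi := Groth.Agent.GenLocus.isInvertible_of_isRelAmple f hL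
  have hKi := Groth.Agent.GenLocus.isInvertible_of_isRelAmple g hK
  obtain ⟨ι, _, W, hW, -, hcov⟩ := Groth.Agent.QCohBase.exists_finite_affine_cover
    (X := Z) (V := ⊤) isCompact_univ
  have H : ∀ i : ι, ∀ᶠ n in Filter.atTop, CohB1.IsAmple ((CohB1.tensorMod L
      ((Scheme.Modules.pullback f).obj (CohB1.tensorPow K n))).restrict (f ⁻¹ᵁ (g ⁻¹ᵁ W i)).ι) := by
    intro i
    refine (Groth.Agent.ProjUPLib.eventually_isAmple_twist (f ∣_ (g ⁻¹ᵁ W i))
      (Groth.Agent.GenLocus.isRelAmple_morphismRestrict f hL (g ⁻¹ᵁ W i))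
      (Groth.Agent.TensorMod.isInvertible_restrict hLi _) (hK.2 ⟨W i, hW i⟩)).mono fun n hn ↦ ?_
    refine Groth.Agent.GenLocus.isAmple_of_iso ?_ hn
    exact Groth.Agent.TensorMod.tensorIso ((Scheme.Modules.restrictFunctorIsoPullback _).app L)
        ((Scheme.Modules.pullback _).mapIso (Groth.Agent.ProjUPLib.restrictPowIso hKi (g ⁻¹ᵁ W i) n).symm ≪≫
          (Groth.Agent.TensorMod.pullbackRestrictIso f (g ⁻¹ᵁ W i) _).symm ≪≫
          (Scheme.Modules.restrictFunctorIsoPullback _).app _) ≪≫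
      (Groth.Agent.GenLocus.pullTensorIso _ hLi (Groth.Agent.GenLocus.isInvertible_pullback f
        (Groth.Agent.TensorMod.isInvertible_tensorPow hKi n))).symm ≪≫
      ((Scheme.Modules.restrictFunctorIsoPullback _).app _).symm
  obtain ⟨n₀, hn₀⟩ := Filter.eventually_atTop.1 (Filter.eventually_all.2 H)
  refine ⟨n₀ + 1, n₀.succ_pos, fun n hn ↦ ?_⟩
  refine Groth.Agent.GenLocus.isRelAmple_of_cover (f ≫ g) W (top_le_iff.mp hcov) fun i ↦ ?_
  haveI : IsAffine (W i).toScheme := hW i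
  exact Groth.Agent.GenLocus.isRelAmple_of_isAmple _ (hn₀ n (le_trans n₀.le_succ hn) i)

end Groth.Agent.S2331
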