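import Groth.Statements.S2342
import Groth.Agent.DVRDom.SectionVal
-- import your own Groth.Agent.* helpers here

set_option autoImplicit false
universe u
open CategoryTheory CategoryTheory.Limits AlgebraicGeometry
open EGA2

namespace Groth.Agent.S2342

/-- Let A be a valuation ring with Y = Spec A, X an integral separated scheme and f : X → Y a morphism
which is closed as a map of topological spaces, such that the fibre over the generic point of Y
consists of exactly one point x and the induced map from the residue field of the generic point of Y
to that of x is bijective. Then f is an isomorphism. -/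
theorem result (A : Type u) [CommRing A] [IsDomain A] [ValuationRing A]
    (X : Scheme.{u}) [IsIntegral X] [X.IsSeparated] (f : X ⟶ Spec (CommRingCat.of A)) (hf : IsClosedMap f.base)
    (x : X) (hx : f.base ⁻¹' {genericPoint (Spec (CommRingCat.of A))} = {x})
    (hres : Function.Bijective (f.residueFieldMap x).hom) : IsIso f := by
  let Y := Spec (CommRingCat.of A)
  let K := Y.residueField (f.base x)
  have hfx : f.base x = genericPoint Y := by
    have : x ∈ f.base ⁻¹' {genericPoint Y} := by rw [hx]; exact Set.mem_singleton x
    exact this
  have hξ : genericPoint X = x := by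
    have h1 : f.base (genericPoint X) ⤳ f.base x :=
      ((genericPoint_spec X).specializes trivial).map f.continuous
    have h2 : f.base (genericPoint X) = genericPoint Y := by
      rw [hfx] at h1
      exact (h1.antisymm ((genericPoint_spec Y).specializes trivial)).eq
    have : genericPoint X ∈ f.base ⁻¹' {genericPoint Y} := h2
    rw [hx] at this
    exact this
  obtain ⟨g, hg⟩ : ∃ g : Spec (CommRingCat.of (FractionRing A)) ⟶ X,
      g ≫ f = Spec.map (CommRingCat.ofHom (algebraMap A (FractionRing A))) ∧
        g (IsLocalRing.closedPoint (FractionRing A)) = x := by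
    have : IsIso (f.residueFieldMap x) := (ConcreteCategory.isIso_iff_bijective _).mpr hres
    let pt : Spec (CommRingCat.of (FractionRing A)) := IsLocalRing.closedPoint (FractionRing A)
    let q : Spec (CommRingCat.of (FractionRing A)) ⟶ Y :=
      Spec.map (CommRingCat.ofHom (algebraMap A (FractionRing A)))
    have hq : q pt = f.base x := by
      rw [hfx, AlgebraicGeometry.genericPoint_eq_bot_of_affine]
      apply PrimeSpectrum.ext
      change Ideal.comap (algebraMap A (FractionRing A)) (IsLocalRing.maximalIdeal (FractionRing A)) = ⊥
      rw [IsLocalRing.maximalIdeal_eq_bot, ← RingHom.ker_eq_comap_bot, ← RingHom.injective_iff_ker_eq_bot]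
      exact IsFractionRing.injective A _
    let θ : Y.residueField (f.base x) ⟶ CommRingCat.of (FractionRing A) :=
      (Y.residueFieldCongr hq).inv ≫ Y.descResidueField (Scheme.stalkClosedPointTo q)
    have hθ : Spec.map θ ≫ Y.fromSpecResidueField (f.base x) = q := by
      simp only [θ, Spec.map_comp, Category.assoc, Scheme.residueFieldCongr_inv, Scheme.residueFieldCongr_fromSpecResidueField]
      exact Y.descResidueField_stalkClosedPointTo_fromSpecResidueField _ q
    refine ⟨Spec.map (inv (f.residueFieldMap x) ≫ θ) ≫ X.fromSpecResidueField x, ?_, ?_⟩
    · rw [Category.assoc, ← Scheme.Hom.SpecMap_residueFieldMap_fromSpecResidueField, ← Spec.map_comp_assoc]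
      simp only [IsIso.hom_inv_id_assoc]
      exact hθ
    · rw [Scheme.Hom.comp_apply]
      exact Scheme.fromSpecResidueField_apply x _
  have : IsSeparated (f ≫ terminal.from Y) := by rw [terminal.comp_from]; infer_instance
  have : IsSeparated f := IsSeparated.of_comp f (terminal.from Y)
  obtain ⟨s, hs1, hs2⟩ := Groth.Agent.DVRDom.exists_section_of_isClosedMap f hf g hg.1
  have : IsClosedImmersion (s ≫ f) := by rw [hs1]; infer_instance
  have : IsClosedImmersion s := IsClosedImmersion.of_comp s f
  have : Surjective s := by
    refine ⟨fun z => ?_⟩
    have hmem : x ∈ Set.range s.base := by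
      rw [← hg.2, ← hs2, Scheme.Hom.comp_apply]
      exact Set.mem_range_self _
    have hcl : IsClosed (Set.range s.base) := s.isClosedEmbedding.isClosed_range
    rw [← hξ] at hmem
    have huniv := ((genericPoint_spec X).mem_closed_set_iff hcl).mp hmem
    exact huniv (trivial : z ∈ (⊤ : Set X))
  have : IsIso s := isIso_of_isClosedImmersion_of_surjective s
  have : IsIso (s ≫ f) := by rw [hs1]; infer_instance
  exact IsIso.of_isIso_comp_left s f

end Groth.Agent.S2342
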