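import Groth.Statements.S2345
import Groth.Agent.EGA2Curve.FunctionField
import Groth.Agent.EGA2Curve.P1
import Groth.Agent.EGA2Curve.Transc
-- import your own Groth.Agent.* helpers here

set_option autoImplicit false
universe u
open CategoryTheory CategoryTheory.Limits AlgebraicGeometry
attribute [local instance] Curv2.stalkAlgebra
open EGA2

namespace Groth.Agent.S2345

set_option linter.style.haveILetI false
open scoped IntermediateField
open Groth.Agent.ProjCoord Groth.Agent.EGA2Curve

attribute [local instance] Curv2.stalkAlgebra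

lemma exists_curve (k : Type u) [Field k] (K : Type u) [Field K] [Algebra k K]
    (hfg : (⊤ : IntermediateField k K).FG) (htr : Algebra.trdeg k K = 1) :
    ∃ (X : Scheme.{u}) (_ : X.Over (Spec (CommRingCat.of k))) (_ : IsIntegral X), IsProper (X ↘ (Spec (CommRingCat.of k))) ∧ Pi1.IsNormalScheme X ∧
      (∀ x : X, IsClosed ({x} : Set X) → ringKrullDim (X.presheaf.stalk x) = 1) ∧
      ∃ e : X.presheaf.stalk (genericPoint X) ≃+* K, ∀ c : k, e (algebraMap k (X.presheaf.stalk (genericPoint X)) c) = algebraMap k K c := by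
  obtain ⟨t, ht, hfin⟩ := exists_transcendental_finite k K hfg htr
  haveI := isIntegral_p1 k
  let 𝒜 := CohB1.polyGrading 1 k
  let Y := Proj 𝒜
  let U : Y.Opens := Proj.basicOpen 𝒜 (MvPolynomial.X (0 : Fin 2))
  have hU : IsAffineOpen U := Proj.isAffineOpen_basicOpen 𝒜 _ (X_mem (n := 1) (0 : Fin 2)) one_pos
  obtain ⟨E, hEc, hEX⟩ := exists_polynomial_equiv (R := k) (0 : Fin 2) 1 (by decide)
  let io := Proj.basicOpenIsoAway 𝒜 (MvPolynomial.X (0 : Fin 2)) (X_mem (n := 1) (0 : Fin 2)) one_pos
  let θ : Γ(Y, U) →+* K :=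
    (Polynomial.aeval t).toRingHom.comp (E.symm.toRingHom.comp io.inv.hom)
  have hθ : Function.Injective θ :=
    (transcendental_iff_injective.mp ht).comp (E.symm.injective.comp
      (ConcreteCategory.bijective_of_isIso io.inv).injective)
  haveI : Nonempty U := by
    by_contra h
    have hU0 : U = ⊥ := by
      ext x
      exact ⟨fun hx => h ⟨⟨x, hx⟩⟩, fun hx => hx.elim⟩
    haveI : Subsingleton Γ(Y, U) := by rw [hU0]; infer_instance
    exact zero_ne_one ((map_zero θ).symm.trans ((congrArg θ (Subsingleton.elim 0 1)).trans (map_one θ)))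
  haveI := functionField_isFractionRing_of_isAffineOpen Y U hU
  let φ : Y.functionField →+* K := IsFractionRing.lift hθ
  have hφa : ∀ a, φ (algebraMap Γ(Y, U) Y.functionField a) = θ a := IsFractionRing.lift_algebraMap hθ
  have hθc : ∀ c, θ (io.hom.hom (const 0 c)) = algebraMap k K c := fun c => by
    have h1 : io.inv.hom (io.hom.hom (const 0 c)) = const 0 c := by
      rw [← CommRingCat.comp_apply, io.hom_inv_id]; rfl
    simp only [θ, RingHom.comp_apply, h1]
    rw [show (E.symm.toRingHom (const 0 c)) = Polynomial.C c from E.symm_apply_eq.mpr (hEc c).symm]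
    simp
  have hθX : θ (io.hom.hom (ratio 0 1)) = t := by
    have h1 : io.inv.hom (io.hom.hom (ratio (R := k) (0 : Fin 2) 1)) = ratio 0 1 := by
      rw [← CommRingCat.comp_apply, io.hom_inv_id]; rfl
    simp only [θ, RingHom.comp_apply, h1]
    rw [show E.symm.toRingHom (ratio 0 1) = Polynomial.X from E.symm_apply_eq.mpr hEX.symm]
    simp
  have hfinφ : φ.Finite := by
    letI := φ.toAlgebra
    obtain ⟨s, hs⟩ := hfin.fg_top
    let M : IntermediateField k K := φ.fieldRange.toIntermediateField fun c =>
      ⟨algebraMap Γ(Y, U) Y.functionField (io.hom.hom (const 0 c)), (hφa _).trans (hθc c)⟩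
    have hle : k⟮t⟯ ≤ M := IntermediateField.adjoin_simple_le_iff.mpr
      ⟨algebraMap Γ(Y, U) Y.functionField (io.hom.hom (ratio 0 1)), (hφa _).trans hθX⟩
    refine ⟨⟨s, eq_top_iff.mpr fun z _ => ?_⟩⟩
    have hz : z ∈ Submodule.span k⟮t⟯ (s : Set K) := hs ▸ Submodule.mem_top
    induction hz using Submodule.span_induction with
    | mem x hx => exact Submodule.subset_span hx
    | zero => exact zero_mem _
    | add x y _ _ hx hy => exact add_mem (hx trivial) (hy trivial)
    | smul c x _ hx =>
      obtain ⟨c', hc'⟩ := hle c.2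
      have : c • x = c' • x := by
        show (c : K) * x = φ c' * x
        rw [hc']
      rw [this]
      exact Submodule.smul_mem _ _ (hx trivial)
  let g : Spec (CommRingCat.of K) ⟶ Y :=
    Spec.map (CommRingCat.ofHom φ) ≫ Y.fromSpecStalk (genericPoint Y)
  haveI : QuasiCompact g := by
    haveI : QuasiCompact (g ≫ baseMap 1 k) := inferInstance
    exact QuasiCompact.of_comp g (baseMap 1 k)
  haveI : QuasiSeparated g := by
    haveI : QuasiSeparated (g ≫ baseMap 1 k) := inferInstance
    exact QuasiSeparated.of_comp g (baseMap 1 k)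
  haveI := isFinite_fromNormalization (g := g) rfl (baseMap 1 k) hfinφ
  let X := g.normalization
  letI : X.Over (Spec (CommRingCat.of k)) := ⟨g.fromNormalization ≫ baseMap 1 k⟩
  have hη : genericPoint Y ∈ U := Groth.Agent.EGA2Curve.mem_of_nonempty U
    ⟨_, (Classical.arbitrary U).2⟩
  obtain ⟨z⟩ : Nonempty ↥(Spec (CommRingCat.of K)) := inferInstance
  have hη' : genericPoint g.normalization ∈ g.fromNormalization ⁻¹ᵁ U := by
    refine Groth.Agent.EGA2Curve.mem_of_nonempty _ ⟨g.toNormalization z, ?_⟩
    show g.fromNormalization (g.toNormalization z) ∈ U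
    rw [← Scheme.Hom.comp_apply, g.toNormalization_fromNormalization]
    exact mem_preimage (g := g) rfl U z hη
  obtain ⟨e, he⟩ := exists_functionField_equiv (g := g) rfl hfinφ hU hη hη'
  refine ⟨X, inferInstance, inferInstance, ?_, isNormalScheme_normalization rfl (baseMap 1 k) hfinφ,
    fun x hx => dim_stalk_eq_one rfl (baseMap 1 k) hfinφ (fun y hy => dim_stalk_closed k y hy) x hx,
    e, fun c => ?_⟩
  · show IsProper (g.fromNormalization ≫ baseMap 1 k)
    infer_instance
  · have hs : (baseMap 1 k).appLE ⊤ U le_top =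
        (Scheme.ΓSpecIso (CommRingCat.of k)).hom ≫ CommRingCat.ofHom (const (0 : Fin 2)) ≫ io.hom := by
      have h1 := Proj.awayι_toSpecZero 𝒜 (MvPolynomial.X (0 : Fin 2)) (X_mem (n := 1) (0 : Fin 2)) one_pos
      have h2 : Proj.awayι 𝒜 (MvPolynomial.X (0 : Fin 2)) (X_mem (n := 1) (0 : Fin 2)) one_pos ≫ baseMap 1 k =
          Spec.map (CommRingCat.ofHom (const (0 : Fin 2))) := by
        simp only [baseMap]
        rw [reassoc_of% h1, ← Spec.map_comp]
        rfl
      rw [Proj.awayι, Category.assoc, Iso.inv_comp_eq, Proj.basicOpenIsoSpec_hom, Proj.basicOpenToSpec,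
        Category.assoc, ← Spec.map_comp] at h2
      have h3 := congrArg (fun f => f.appTop ≫ (Proj.basicOpen 𝒜 (MvPolynomial.X (0 : Fin 2))).topIso.hom) h2
      simp only [Scheme.Hom.comp_appTop, Scheme.Opens.toSpecΓ_appTop, Category.assoc,
        Iso.inv_hom_id, Category.comp_id] at h3
      have h4 : ∀ {T : Scheme.{u}} (s : Y ⟶ T),
          s.appTop ≫ U.ι.appTop ≫ U.topIso.hom = s.appLE ⊤ U le_top := fun s => by
        simp [Scheme.Hom.appLE, Scheme.Opens.ι_appTop, ← Functor.map_comp]
        rfl
      rw [← h4]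
      refine Eq.trans ?_ (h3.trans ?_)
      · exact Category.assoc _ _ _
      · rw [← Category.assoc, Scheme.ΓSpecIso_naturality, Category.assoc]
        rfl
    have key : algebraMap k (X.presheaf.stalk (genericPoint X)) c =
        (X.presheaf.germ _ _ hη').hom ((g.fromNormalization.app U).hom (io.hom.hom (const 0 c))) := by
      have hc : io.hom.hom (const 0 c) =
          ((baseMap 1 k).appLE ⊤ U le_top).hom ((Scheme.ΓSpecIso (CommRingCat.of k)).inv.hom c) := by
        rw [hs, ← CommRingCat.comp_apply, Iso.inv_hom_id_assoc]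
        rfl
      rw [hc]
      have e : (g.fromNormalization ≫ baseMap 1 k).appTop ≫
          g.normalization.presheaf.germ ⊤ (genericPoint g.normalization) trivial =
          (baseMap 1 k).appLE ⊤ U le_top ≫ g.fromNormalization.app U ≫
            g.normalization.presheaf.germ _ _ hη' := by
        simp only [Scheme.Hom.appLE, Category.assoc, Scheme.Hom.naturality_assoc,
          TopCat.Presheaf.germ_res, Scheme.Hom.comp_appTop]
        rfl
      exact congr($(e).hom ((Scheme.ΓSpecIso (CommRingCat.of k)).inv.hom c))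
    rw [key, he]
    exact (hφa _).trans (hθc c)

/-- Let K be a finitely generated field extension of k of transcendence degree one. Then there is an
integral normal algebraic curve X, proper over k, whose function field is isomorphic to K compatibly
with the maps from k. -/
theorem result (k : Type u) [Field k] (K : Type u) [Field K] [Algebra k K]
    (hfg : (⊤ : IntermediateField k K).FG) (htr : Algebra.trdeg k K = 1) :
    ∃ (X : Scheme.{u}) (_ : X.Over (Spec (CommRingCat.of k))) (_ : IsIntegral X), IsProper (X ↘ (Spec (CommRingCat.of k))) ∧ Pi1.IsNormalScheme X ∧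
      (∀ x : X, IsClosed ({x} : Set X) → ringKrullDim (X.presheaf.stalk x) = 1) ∧
      ∃ e : X.presheaf.stalk (genericPoint X) ≃+* K, ∀ c : k, e (algebraMap k (X.presheaf.stalk (genericPoint X)) c) = algebraMap k K c := by
  exact exists_curve k K hfg htr

end Groth.Agent.S2345
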