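import Groth.Statements.S2349
-- import your own Groth.Agent.* helpers here

set_option autoImplicit false
universe u
open CategoryTheory CategoryTheory.Limits AlgebraicGeometry
open EGA2

namespace Groth.Agent.S2349

/-- Let f : X → Y be separated and of finite type, and let j_i : X_i → X and h_i : Y_i → Y (i in a
finite index type) be closed immersions with morphisms f_i : X_i → Y_i satisfying j_i ≫ f = f_i ≫
h_i, such that the images of the j_i cover X. Then f is proper if and only if every f_i is proper. -/
theorem result {X Y : Scheme.{u}} (f : X ⟶ Y) [IsSeparated f] [LocallyOfFiniteType f] [QuasiCompact f]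
    (ι : Type u) [Finite ι] (Xi Yi : ι → Scheme.{u}) (j : ∀ i, Xi i ⟶ X) (h : ∀ i, Yi i ⟶ Y) (fi : ∀ i, Xi i ⟶ Yi i)
    [∀ i, IsClosedImmersion (j i)] [∀ i, IsClosedImmersion (h i)] (hcomm : ∀ i, j i ≫ f = fi i ≫ h i)
    (hcov : ∀ x : X, ∃ i, x ∈ Set.range (j i).base) : IsProper f ↔ ∀ i, IsProper (fi i) := by
  constructor
  · intro hf i
    have : IsProper (fi i ≫ h i) := by
      rw [← hcomm i]
      exact MorphismProperty.comp_mem _ _ _ inferInstance hf
    exact IsProper.of_comp (fi i) (h i)
  · intro hfi
    have hc : ∀ i, UniversallyClosed (j i ≫ f) := fun i => by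
      rw [hcomm i]
      infer_instance
    have : UniversallyClosed f := by
      constructor
      intro X' Y' i₁ y f' hsq
      intro Z hZ
      let F := fun i => pullback.snd (j i) i₁
      have hbase : ∀ i, IsClosedMap (F i ≫ f').base := by
        intro i
        have hp : IsPullback (pullback.fst (j i) i₁) (F i) (j i) i₁ :=
          IsPullback.of_hasPullback _ _
        exact (hc i).universally_isClosedMap _ _ _ (hp.flip.paste_horiz hsq)
      have hZ' : f'.base '' Z = ⋃ i, (F i ≫ f').base '' ((F i).base ⁻¹' Z) := by
        ext w
        simp only [Set.mem_image, Set.mem_iUnion, Set.mem_preimage, Scheme.Hom.comp_apply]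
        constructor
        · rintro ⟨z, hz, rfl⟩
          obtain ⟨i, hi⟩ := hcov (i₁ z)
          have : z ∈ Set.range (F i) := by
            rw [Scheme.Pullback.range_snd]
            exact hi
          obtain ⟨t, rfl⟩ := this
          exact ⟨i, t, hz, rfl⟩
        · rintro ⟨i, t, ht, rfl⟩
          exact ⟨_, ht, rfl⟩
      show IsClosed (f'.base '' Z)
      rw [hZ']
      exact isClosed_iUnion_of_finite fun i => hbase i _ (hZ.preimage (F i).continuous)
    exact ⟨⟩

end Groth.Agent.S2349
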