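import Groth.Statements.S2352
import Groth.Agent.ProjUPLib.TwistN
-- import your own Groth.Agent.* helpers here

set_option autoImplicit false
universe u
open CategoryTheory CategoryTheory.Limits AlgebraicGeometry
open EGA2

namespace Groth.Agent.S2352

open Groth.Agent.ProjUPLib

/-- Let A be a graded ring whose irrelevant ideal is generated by the elements of degree one. Then on
Proj A every twisting sheaf O(n), n ∈ ℤ, is invertible; O(m) ⊗ O(n) ≅ O(m + n) for all integers m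
and n; and O(n) ≅ O(1)^{⊗ n} for every natural number n. -/
theorem result {R A : Type u} [CommRing R] [CommRing A] [Algebra R A] (𝒜 : ℕ → Submodule R A) [GradedAlgebra 𝒜] (hgen : (HomogeneousIdeal.irrelevant 𝒜).toIdeal = Ideal.span (𝒜 1 : Set A)) :
    (∀ n : ℤ, PicF.IsInvertible (Twist.twist 𝒜 n)) ∧
      (∀ m n : ℤ, Nonempty (CohB1.tensorMod (Twist.twist 𝒜 m) (Twist.twist 𝒜 n) ≅ Twist.twist 𝒜 (m + n))) ∧
      ∀ n : ℕ, Nonempty (Twist.twist 𝒜 (n : ℤ) ≅ CohB1.tensorPow (Twist.twist 𝒜 1) n) := by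
  have hcov : (⨆ f : 𝒜 1, Proj.basicOpen 𝒜 (f : A)) = ⊤ :=
    Proj.iSup_basicOpen_eq_top 𝒜 (fun f : 𝒜 1 ↦ (f : A)) (hgen.le.trans (Ideal.span_mono fun f hf ↦ ⟨⟨f, hf⟩, rfl⟩))
  exact ⟨fun n ↦ isInvertible_twist 𝒜 n hcov, fun m n ↦ ⟨@asIso _ _ _ _ _ (isIso_mulMap 𝒜 m n hcov)⟩,
    nonempty_tensorPow_iso 𝒜 hcov⟩

end Groth.Agent.S2352
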