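import Groth.Statements.S4433
import Groth.Agent.DVRDom.Scheme
-- import your own Groth.Agent.* helpers here

set_option autoImplicit false
universe u
open EGA2

namespace Groth.Agent.S4433

/-- Let A be a Noetherian local domain that is not a field, K its field of fractions and L a finitely
generated field extension of K. Then there is a discrete valuation subring of L, with fraction field
L, which contains the image of A and dominates A (elements of the maximal ideal of A have valuation
less than one). -/
theorem result (A : Type u) [CommRing A] [IsDomain A] [IsNoetherianRing A]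
    [IsLocalRing A] (hA : ¬ IsField A) (K : Type u) [Field K] [Algebra A K] [IsFractionRing A K]
    (L : Type u) [Field L] [Algebra K L] [Algebra A L] [IsScalarTower A K L] (hfg : (⊤ : IntermediateField K L).FG) :
    ∃ R : ValuationSubring L, IsDiscreteValuationRing R ∧ (∀ a : A, algebraMap A L a ∈ R) ∧
      ∀ a ∈ IsLocalRing.maximalIdeal A, R.valuation (algebraMap A L a) < 1 := by
  obtain ⟨s, hs⟩ := hfg
  have hclos : Subfield.closure (Set.range (algebraMap A L) ∪ s) = ⊤ := by
    refine top_le_iff.mp fun z _ => ?_
    have hz : z ∈ (IntermediateField.adjoin K (s : Set L)).toSubfield := by rw [hs]; trivial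
    rw [IntermediateField.adjoin_toSubfield] at hz
    refine (Subfield.closure_le.mpr ?_) hz
    rintro w (⟨k, rfl⟩ | hw)
    · obtain ⟨a, b, -, rfl⟩ := IsFractionRing.div_surjective A k
      rw [map_div₀, ← IsScalarTower.algebraMap_apply, ← IsScalarTower.algebraMap_apply]
      exact div_mem (Subfield.subset_closure (Or.inl ⟨a, rfl⟩)) (Subfield.subset_closure (Or.inl ⟨b, rfl⟩))
    · exact Subfield.subset_closure (Or.inr hw)
  obtain ⟨a, ha, ha0⟩ := Submodule.exists_mem_ne_zero_of_ne_bot (fun h => hA (IsLocalRing.isField_iff_maximalIdeal_eq.mpr h))
  exact Groth.Agent.DVRDom.exists_dvr_dominating s hclos ⟨a, ha, fun h => ha0 ((IsFractionRing.injective A K) (by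
    apply (algebraMap K L).injective
    rw [map_zero, map_zero, ← IsScalarTower.algebraMap_apply, h]))⟩

end Groth.Agent.S4433
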