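import Groth.Statements.S2452
import Mathlib
import Groth.Agent.FSAdic.Discrete
import Groth.Agent.FSAdic.Basic
import Groth.Agent.PBasis.Separable

set_option autoImplicit false
universe u
open EGA41

namespace Groth.Agent.S2452

open IsLocalRing in
/-- Let A be a local ring which is separated and complete for the adic topology of its maximal ideal
(not necessarily Noetherian), k a field contained in A, and suppose the residue field K of A is a
separable extension of k. Then there is a k-algebra section K → A of the residue map, i.e. a
coefficient field of A containing k. -/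
theorem result {k A : Type u} [Field k] [CommRing A] [IsLocalRing A] [Algebra k A]
    [IsAdicComplete (maximalIdeal A) A] [Algebra.IsGeometricallyReduced k (ResidueField A)] :
    ∃ σ : ResidueField A →ₐ[k] A, ∀ x : ResidueField A, residue A (σ x) = x := by
  haveI : Algebra.FormallySmooth k (ResidueField A) :=
    Groth.Agent.PBasis.formallySmooth_iff_isGeometricallyReduced.mpr inferInstance
  haveI : IsHausdorff ((maximalIdeal A).map (Ideal.Quotient.mk (maximalIdeal A)))
      (A ⧸ maximalIdeal A) := ⟨fun x hx => by
    have h2 := hx 1
    rw [pow_one, SModEq.zero, smul_eq_mul, Ideal.mul_top, Ideal.map_quotient_self, Ideal.mem_bot] at h2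
    exact h2⟩
  obtain ⟨v, -, hv⟩ := Groth.Agent.FSAdic.lift_adicComplete (A := k) (B := ResidueField A) ⊥ ⊥
    (maximalIdeal A) (Groth.Agent.FSAdicDiscrete.isFormallySmoothAdic_of_formallySmooth k (ResidueField A) _ _)
    ⟨1, by simp⟩ (maximalIdeal A) ⟨1, by rw [pow_one]⟩ (AlgHom.id k (A ⧸ maximalIdeal A)) ⟨1, by simp⟩
  exact ⟨v, fun x => congrArg (fun f => f x) hv⟩

end Groth.Agent.S2452
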