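import Groth.Statements.S2453
import Groth.Agent.SymGr.NagataJac
import Groth.Agent.PBasis.Separable
import Groth.Agent.MvPSLib.Eval
import Groth.Agent.FSAdic.Transfer
import Groth.Agent.FSAdic.Discrete
import Groth.Agent.CAlgCompl.Basic
import Groth.Agent.AdicNoeth.Basic

set_option autoImplicit false
universe u
open EGA41

namespace Groth.Agent.S2453

open IsLocalRing in
theorem exists_iso {k A : Type u} [Field k] [CommRing A] [IsLocalRing A] [IsNoetherianRing A] [Algebra k A]
    [Algebra.FormallySmooth k (ResidueField A)] [IsRegularLocalRing (AdicCompletion (maximalIdeal A) A)] :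
    ∃ (n : ℕ) (e : AdicCompletion (maximalIdeal A) A ≃+* MvPowerSeries (Fin n) (ResidueField A)),
      ∀ x : k, e (algebraMap A (AdicCompletion (maximalIdeal A) A) (algebraMap k A x)) =
        algebraMap (ResidueField A) (MvPowerSeries (Fin n) (ResidueField A)) (algebraMap k (ResidueField A) x) := by
  let D := AdicCompletion (maximalIdeal A) A
  letI : Algebra k D := ((algebraMap A D).comp (algebraMap k A)).toAlgebra
  have hDm : maximalIdeal D = (maximalIdeal A).map (algebraMap A D) := AdicCompletion.maximalIdeal_eq_map
  let ι : ResidueField A →ₐ[k] D ⧸ maximalIdeal D :=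
    { Ideal.quotientMap (maximalIdeal D) (algebraMap A D)
        (hDm ▸ Ideal.le_comap_map : maximalIdeal A ≤ (maximalIdeal D).comap (algebraMap A D)) with
      commutes' := fun c => rfl }
  have hι : Function.Surjective ι := fun y => by
    obtain ⟨d, rfl⟩ := Ideal.Quotient.mk_surjective y
    obtain ⟨a, ha⟩ := Ideal.Quotient.mk_surjective (AdicCompletion.evalₐ (maximalIdeal A) 1 d)
    refine ⟨residue A a, ?_⟩
    show Ideal.Quotient.mk (maximalIdeal D) (algebraMap A D a) = Ideal.Quotient.mk (maximalIdeal D) d
    rw [Ideal.Quotient.eq, hDm, ← pow_one ((maximalIdeal A).map (algebraMap A D)),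
      ← Groth.Agent.FSAdic.ker_evalₐ (maximalIdeal A) (IsNoetherian.noetherian _), RingHom.mem_ker, map_sub,
      sub_eq_zero]
    exact (AlgHom.commutes _ a).trans ha
  haveI : IsHausdorff ((maximalIdeal D).map (Ideal.Quotient.mk (maximalIdeal D))) (D ⧸ maximalIdeal D) := by
    rw [Ideal.map_quotient_self]; infer_instance
  obtain ⟨σ, -, hσ⟩ := Groth.Agent.FSAdic.lift_adicComplete (A := k) (B := ResidueField A) ⊥ ⊥
    (maximalIdeal D) (Groth.Agent.FSAdicDiscrete.isFormallySmoothAdic_of_formallySmooth k (ResidueField A) _ _)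
    ⟨1, by simp⟩ (maximalIdeal D) ⟨1, by rw [pow_one]⟩ ι ⟨1, by simp⟩
  letI : Algebra (ResidueField A) D := σ.toRingHom.toAlgebra
  have hR : Function.Surjective ((residue D).comp (algebraMap (ResidueField A) D)) := fun y => by
    obtain ⟨x, hx⟩ := hι y
    exact ⟨x, (AlgHom.congr_fun hσ x).trans hx⟩
  obtain ⟨n, ⟨e⟩⟩ := Groth.Agent.MvPSLib.exists_algEquiv (k := ResidueField A) (R := D) hR
  refine ⟨n, e.toRingEquiv, fun x => ?_⟩
  show e (algebraMap A D (algebraMap k A x)) = _
  rw [show algebraMap A D (algebraMap k A x) = algebraMap (ResidueField A) D (algebraMap k (ResidueField A) x) from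
    (σ.commutes x).symm]
  exact e.commutes _


open IsLocalRing in
/-- Let k be a field and A a Noetherian local k-algebra with maximal ideal 𝔪 and residue field K
separable over k; give A the 𝔪-adic topology (k discrete). The following are equivalent: (a) A is
formally smooth over k; (b) the 𝔪-adic completion of A is isomorphic to some K[[T_1, …, T_n]] by an
isomorphism carrying the image of k in A to the image of k under k → K → K[[T]]; (b') the completion
is isomorphic as a ring to some K[[T_1, …, T_n]]; (c) A is a regular local ring. -/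
theorem result {k A : Type u} [Field k] [CommRing A] [IsLocalRing A] [IsNoetherianRing A] [Algebra k A]
    [Algebra.IsGeometricallyReduced k (ResidueField A)] :
    [CAlgX.IsAdicFormallySmooth k A (maximalIdeal A),
     ∃ (n : ℕ) (e : AdicCompletion (maximalIdeal A) A ≃+* MvPowerSeries (Fin n) (ResidueField A)),
       ∀ x : k, e (algebraMap A (AdicCompletion (maximalIdeal A) A) (algebraMap k A x)) =
         algebraMap (ResidueField A) (MvPowerSeries (Fin n) (ResidueField A)) (algebraMap k (ResidueField A) x),
     ∃ n : ℕ, Nonempty (AdicCompletion (maximalIdeal A) A ≃+* MvPowerSeries (Fin n) (ResidueField A)),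
     IsRegularLocalRing A].TFAE := by
  haveI hfsK : Algebra.FormallySmooth k (ResidueField A) :=
    Groth.Agent.PBasis.formallySmooth_iff_isGeometricallyReduced.mpr inferInstance
  tfae_have 1 → 4 := fun h => (Groth.Agent.SymGr.isAdicFormallySmooth_field_iff_regular.1 h).1
  tfae_have 4 → 1 := fun h => by
    haveI := h
    exact Groth.Agent.SymGr.isAdicFormallySmooth_of_regular_residue
  tfae_have 2 → 3 := fun ⟨n, e, _⟩ => ⟨n, ⟨e⟩⟩
  tfae_have 3 → 4 := fun ⟨n, ⟨e⟩⟩ => by
    haveI : IsNoetherianRing (AdicCompletion (maximalIdeal A) A) :=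
      Groth.Agent.AdicNoeth.isNoetherianRing_adicCompletion _
    haveI : IsRegularLocalRing (AdicCompletion (maximalIdeal A) A) := IsRegularLocalRing.of_ringEquiv e.symm
    exact (Groth.Agent.CAlgCompl.isRegularLocalRing_adicCompletion_iff A).2 inferInstance
  tfae_have 4 → 2 := fun h => by
    haveI := h
    haveI : IsRegularLocalRing (AdicCompletion (maximalIdeal A) A) :=
      (Groth.Agent.CAlgCompl.isRegularLocalRing_adicCompletion_iff A).1 inferInstance
    exact exists_iso
  tfae_finish

end Groth.Agent.S2453
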