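import Groth.Statements.S2454
import Mathlib
import Groth.Agent.CAlgFS.CharP
import Groth.Agent.FSAdic.Basic
import Groth.Agent.FSAdic.Discrete
import Groth.Agent.PBasis.Separable

set_option autoImplicit false
universe u
open EGA41

namespace Groth.Agent.S2454

open scoped TensorProduct

open IsLocalRing in
/-- Let A → B be a local homomorphism of Noetherian local rings making B a Cohen A-algebra. Then B, with
its adic topology, is formally smooth over A with its adic topology. -/
theorem result {A B : Type u} [CommRing A] [IsLocalRing A] [CommRing B] [IsLocalRing B]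
    [Algebra A B] [IsLocalHom (algebraMap A B)] (h : EGA41.IsCohenAlgebra A B) :
    EGA41.IsFormallySmoothAdic A (maximalIdeal A) B (maximalIdeal B) := by
  obtain ⟨hA, hB, hc, hflat, hm, hgr⟩ := h
  haveI := hA
  haveI := hflat
  haveI := hgr
  haveI : Algebra.FormallySmooth (ResidueField A) (ResidueField B) :=
    Groth.Agent.PBasis.formallySmooth_iff_isGeometricallyReduced.mpr inferInstance
  refine Groth.Agent.FSAdic.of_quotient_pow (maximalIdeal A) (maximalIdeal B) fun n => ?_
  rcases Nat.eq_zero_or_pos n with rfl | hn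
  · intro T _ _ J _ _ u _
    haveI : Subsingleton (A ⧸ maximalIdeal A ^ 0) :=
      Ideal.Quotient.subsingleton_iff.mpr (by rw [pow_zero, Ideal.one_eq_top])
    haveI : Subsingleton T := Module.subsingleton (A ⧸ maximalIdeal A ^ 0) T
    haveI : Subsingleton (T ⧸ J) := Ideal.Quotient.mk_surjective.subsingleton
    exact ⟨AlgHom.ofLinearMap 0 (Subsingleton.elim _ _) (fun _ _ => Subsingleton.elim _ _),
      AlgHom.ext fun x => Subsingleton.elim _ _⟩
  let R := A ⧸ maximalIdeal A ^ n
  let S := B ⧸ (maximalIdeal A ^ n).map (algebraMap A B)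
  have hle : maximalIdeal A ^ n ≤ maximalIdeal A := Ideal.pow_le_self hn.ne'
  have hleB : (maximalIdeal A ^ n).map (algebraMap A B) ≤ maximalIdeal B := hm ▸ Ideal.map_mono hle
  let r : R →+* ResidueField A := Ideal.Quotient.factor hle
  let g : S →+* ResidueField B := Ideal.Quotient.factor hleB
  have hk1 : RingHom.ker (Ideal.Quotient.factor hle) =
      (maximalIdeal A).map (Ideal.Quotient.mk (maximalIdeal A ^ n)) := Ideal.Quotient.factor_ker hle
  have hk2 : RingHom.ker (Ideal.Quotient.factor hleB) =
      (maximalIdeal B).map (Ideal.Quotient.mk ((maximalIdeal A ^ n).map (algebraMap A B))) :=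
    Ideal.Quotient.factor_ker hleB
  haveI : Module.Flat R S :=
    Groth.Agent.CAlgFS.flat_of_surjective (R := A) (S := B) (Ideal.Quotient.mk _)
      Ideal.Quotient.mk_surjective (Ideal.Quotient.mk _) Ideal.Quotient.mk_surjective
      (by rw [Ideal.mk_ker, Ideal.mk_ker]) rfl
  haveI : Algebra.FormallySmooth R S := Groth.Agent.CAlgFS.formallySmooth_of_flat_of_surjective (S := S) (k := ResidueField A) (K := ResidueField B) (Ideal.Quotient.factor hle : R →+* ResidueField A)
    (Ideal.Quotient.factor_surjective hle) ⟨n, (congrArg (· ^ n) hk1).trans (by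
      rw [← Ideal.map_pow, Ideal.map_quotient_self]; rfl)⟩
    (Ideal.Quotient.factor hleB : S →+* ResidueField B) (Ideal.Quotient.factor_surjective hleB) (hk2.le.trans ((le_of_eq (by rw [← hm, Ideal.map_map, Ideal.map_map]; rfl)).trans (Ideal.map_mono hk1.ge))) (RingHom.ext fun x => by obtain ⟨x, rfl⟩ := Ideal.Quotient.mk_surjective x; rfl)
  exact Groth.Agent.FSAdicDiscrete.isFormallySmoothAdic_of_formallySmooth R S _ _

end Groth.Agent.S2454
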