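import Groth.Statements.S2455
import Groth.Agent.CAlgAndre.LiftQuot

set_option autoImplicit false
universe u
open EGA41

namespace Groth.Agent.S2455

open IsLocalRing in
/-- Let A be a Noetherian local ring with residue field k and K a separable extension field of k. Then
there is a Cohen A-algebra B whose residue field is k-isomorphic to K; and two Cohen A-algebras
whose residue fields are k-isomorphic to K are isomorphic as A-algebras. -/
theorem result {A : Type u} [CommRing A] [IsLocalRing A] [IsNoetherianRing A]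
    (K : Type u) [Field K] [Algebra (ResidueField A) K] [Algebra.IsGeometricallyReduced (ResidueField A) K] :
    (∃ (B : Type u) (_ : CommRing B) (_ : IsLocalRing B) (_ : Algebra A B) (_ : IsLocalHom (algebraMap A B)),
      EGA41.IsCohenAlgebra A B ∧ Nonempty (ResidueField B ≃ₐ[ResidueField A] K)) ∧
    ∀ (B B' : Type u) [CommRing B] [IsLocalRing B] [Algebra A B] [IsLocalHom (algebraMap A B)]
      [CommRing B'] [IsLocalRing B'] [Algebra A B'] [IsLocalHom (algebraMap A B')],
      EGA41.IsCohenAlgebra A B → EGA41.IsCohenAlgebra A B' →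
      Nonempty (ResidueField B ≃ₐ[ResidueField A] K) → Nonempty (ResidueField B' ≃ₐ[ResidueField A] K) →
      Nonempty (B ≃ₐ[A] B') := by
  let k := IsLocalRing.ResidueField A
  let m := IsLocalRing.maximalIdeal A
  haveI : IsLocalRing (A ⧸ m) :=
    IsLocalRing.of_surjective' (Ideal.Quotient.mk m) Ideal.Quotient.mk_surjective
  haveI : Algebra.FormallySmooth k K :=
    Groth.Agent.PBasis.formallySmooth_iff_isGeometricallyReduced.2 ‹_›
  letI : Algebra (A ⧸ m) K := (algebraMap k K : (A ⧸ m) →+* K).toAlgebra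
  haveI : IsLocalHom (algebraMap (A ⧸ m) K) := by
    refine ⟨fun a ha => ?_⟩
    obtain ⟨a, rfl⟩ := Ideal.Quotient.mk_surjective a
    refine IsUnit.map (Ideal.Quotient.mk m) ?_
    by_contra hu
    have h0 : (Ideal.Quotient.mk m a : A ⧸ m) = 0 := Ideal.Quotient.eq_zero_iff_mem.2 hu
    rw [h0, map_zero] at ha
    exact not_isUnit_zero ha
  haveI : IsAdicComplete (IsLocalRing.maximalIdeal K) K := by
    rw [IsLocalRing.isField_iff_maximalIdeal_eq.1 (Field.toIsField K)]; infer_instance
  have h₀ : CAlgX.IsAdicFormallySmooth (A ⧸ m) K (IsLocalRing.maximalIdeal K) := by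
    intro C _ _ J hJ ψ _
    letI : Algebra k C := (algebraMap (A ⧸ m) C : k →+* C).toAlgebra
    let ψ' : K →ₐ[k] C ⧸ J := { ψ.toRingHom with commutes' := fun x => ψ.commutes x }
    obtain ⟨χ, hχ⟩ := Algebra.FormallySmooth.exists_lift J ⟨2, hJ⟩ ψ'
    exact ⟨{ χ.toRingHom with commutes' := fun x => χ.commutes x }, AlgHom.ext fun x => AlgHom.congr_fun hχ x⟩
  refine ⟨?_, ?_⟩
  · obtain ⟨B, _, _, hn, _, hl, p, hc, hf, hp, hpa, hker⟩ := Groth.Agent.CAlgAndre.exists_flat_lift m le_rfl K h₀
    haveI := hl
    have hmB : m.map (algebraMap A B) = IsLocalRing.maximalIdeal B := by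
      rw [← hker]
      exact IsLocalRing.eq_maximalIdeal (RingHom.ker_isMaximal_of_surjective p hp)
    let e : IsLocalRing.ResidueField B ≃+* K :=
      (Ideal.quotEquivOfEq (hmB.symm.trans hker.symm)).trans (RingHom.quotientKerEquivOfSurjective hp)
    let eK : IsLocalRing.ResidueField B ≃ₐ[k] K := AlgEquiv.ofRingEquiv (f := e) fun x => by
      obtain ⟨x, rfl⟩ := IsLocalRing.residue_surjective x
      exact hpa x
    exact ⟨B, inferInstance, inferInstance, inferInstance, hl, ⟨inferInstance, hn, hc, hf, hmB,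
      Algebra.IsGeometricallyReduced.of_injective eK.toAlgHom eK.injective⟩, ⟨eK⟩⟩
  · intro B B' _ _ _ _ _ _ _ _ hB hB' hK hK'
    obtain ⟨eB⟩ := hK
    obtain ⟨eB'⟩ := hK'
    obtain ⟨-, hBn, hBc, hBf, hBm, -⟩ := hB
    obtain ⟨-, hB'n, hB'c, hB'f, hB'm, -⟩ := hB'
    haveI := hBn; haveI := hBc; haveI := hBf; haveI := hB'n; haveI := hB'c; haveI := hB'f
    let p : B →+* K := eB.toRingEquiv.toRingHom.comp (IsLocalRing.residue B)
    have hpa : ∀ a, p (algebraMap A B a) = algebraMap (A ⧸ m) K (Ideal.Quotient.mk m a) := fun a =>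
      eB.commutes (IsLocalRing.residue A a)
    have hker : RingHom.ker p = m.map (algebraMap A B) := by
      rw [hBm]
      ext b
      rw [RingHom.mem_ker, ← IsLocalRing.residue_eq_zero_iff]
      exact map_eq_zero_iff _ eB.injective
    have hFS : CAlgX.IsAdicFormallySmooth A B (IsLocalRing.maximalIdeal B) :=
      Groth.Agent.CAlgAndre.discrete_of_flat_lift m le_rfl h₀ p
        (eB.surjective.comp IsLocalRing.residue_surjective) hpa hker
    let q : IsLocalRing.ResidueField B' ≃+* B' ⧸ m.map (algebraMap A B') := Ideal.quotEquivOfEq hB'm.symm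
    let e := eB.trans eB'.symm
    let u : B →ₐ[A] B' ⧸ m.map (algebraMap A B') :=
      { (q.toRingHom.comp e.toRingEquiv.toRingHom).comp (IsLocalRing.residue B) with
        commutes' := fun a => congrArg q (e.commutes (IsLocalRing.residue A a)) }
    obtain ⟨v, hv, hvu⟩ := Groth.Agent.CAlgAndre.exists_surjective_lift hFS m le_rfl u
      ((q.surjective.comp e.surjective).comp IsLocalRing.residue_surjective)
    have hinj : Function.Injective v := Groth.Agent.CAlgAndre.injective_of_flat v hv m
      (hBm.le.trans (IsLocalRing.maximalIdeal_le_jacobson _)) fun b hb => by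
        rw [hBm, ← IsLocalRing.residue_eq_zero_iff]
        refine e.injective (q.injective ?_)
        rw [map_zero e, map_zero q]
        exact (hvu b).symm.trans (by rw [hb, map_zero])
    exact ⟨AlgEquiv.ofBijective v ⟨hinj, hv⟩⟩

end Groth.Agent.S2455
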