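import Groth.Statements.S2456
import Groth.Agent.CohenLift.Iso

set_option autoImplicit false
universe u
open EGA41

namespace Groth.Agent.S2456

open IsLocalRing

open IsLocalRing in
/-- Let W be a Cohen ring (a field of characteristic zero, or a complete discrete valuation ring with
maximal ideal generated by the residue characteristic), C a complete Noetherian local ring and J ≠ C
an ideal of C. Then every local homomorphism u : W → C/J is induced by a local homomorphism v : W →
C. -/
theorem result {W C : Type u} [CommRing W] [IsLocalRing W] (hW : EGA41.IsCohenRingEGA W)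
    [CommRing C] [IsLocalRing C] [IsNoetherianRing C] [IsAdicComplete (maximalIdeal C) C]
    (J : Ideal C) (hJ : J ≠ ⊤) [IsLocalRing (C ⧸ J)] (u : W →+* C ⧸ J) [IsLocalHom u] :
    ∃ v : W →+* C, IsLocalHom v ∧ (Ideal.Quotient.mk J).comp v = u := by
  obtain ⟨v, hv⟩ := Groth.Agent.CohenLift.exists_lift hW J hJ u (fun x hx => by
    obtain ⟨z, hz⟩ := Ideal.Quotient.mk_surjective (u x)
    rw [← hz, Ideal.Quotient.factor_mk, Ideal.Quotient.eq_zero_iff_mem, mem_maximalIdeal]
    intro h
    exact (mem_maximalIdeal x).1 hx (‹IsLocalHom u›.map_nonunit x (hz ▸ h.map (Ideal.Quotient.mk J))))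
  refine ⟨v, ⟨fun x hx => ?_⟩, hv⟩
  refine ‹IsLocalHom u›.map_nonunit x ?_
  rw [← hv]
  exact hx.map (Ideal.Quotient.mk J)

end Groth.Agent.S2456
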