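import Groth.Statements.S2458
import Groth.Agent.CAlgCohen.Structure
import Groth.Agent.MvPSLib.Basic
import Groth.Agent.SymGr.CompleteFibre
import Groth.Agent.SymGr.PowerSeriesReg
import Groth.Agent.AdicRingLib.Saturated

set_option autoImplicit false
universe u
open EGA41

namespace Groth.Agent.S2458

open IsLocalRing in
/-- A local map onto a ring with square-zero maximal ideal, hitting a basis, induces an isomorphism. -/
noncomputable def ringEquiv_of_basis {A S : Type u} [CommRing A] [IsLocalRing A] [CommRing S] [IsLocalRing S]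
    (h : maximalIdeal A ^ 2 = ⊥) (hinj : Function.Injective (maximalIdeal A).toCotangent) (f : S →+* A)
    {ι : Type*} [Fintype ι] (y : ι → S) (b : Module.Basis ι (ResidueField A) (CotangentSpace A))
    (z : ι → maximalIdeal A) (hz : ∀ i, (maximalIdeal A).toCotangent (z i) = b i)
    (hy : Ideal.span (Set.range y) = maximalIdeal S) (hf : ∀ i, f (y i) = z i)
    (hres : ∀ x : A, ∃ s, f s - x ∈ maximalIdeal A) : S ⧸ maximalIdeal S ^ 2 ≃+* A :=
  have hmap : (maximalIdeal S).map f ≤ maximalIdeal A := by
    rw [← hy, Ideal.map_span, Ideal.span_le]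
    rintro _ ⟨_, ⟨i, rfl⟩, rfl⟩
    rw [SetLike.mem_coe, hf]
    exact (z i).2
  have hsurj : Function.Surjective f := fun x => by
    obtain ⟨s, hs⟩ := hres x
    let w : maximalIdeal A := ⟨x - f s, by rw [← neg_sub]; exact neg_mem hs⟩
    choose c hc using fun i => hres (Function.surjInv residue_surjective (b.repr ((maximalIdeal A).toCotangent w) i))
    refine ⟨s + ∑ i, c i * y i, ?_⟩
    have hw : (w : A) = ∑ i, f (c i) * (z i : A) := by
      have h1 : (maximalIdeal A).toCotangent w = (maximalIdeal A).toCotangent (∑ i, f (c i) • z i) := by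
        rw [map_sum]
        conv_lhs => rw [← b.sum_repr ((maximalIdeal A).toCotangent w)]
        refine Finset.sum_congr rfl fun i _ => ?_
        rw [map_smul, hz, ← algebraMap_smul (ResidueField A) (f (c i)) (b i)]
        congr 1
        show _ = residue A (f (c i))
        rw [sub_eq_zero.1 ((map_sub (residue A) _ _).symm.trans ((residue_eq_zero_iff _).2 (hc i))),
          Function.surjInv_eq residue_surjective]
      have h2 := congrArg Subtype.val (hinj h1)
      simpa using h2
    rw [map_add, map_sum]
    simp only [map_mul, hf]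
    rw [← hw]
    exact add_sub_cancel (f s) x
  have hker : RingHom.ker f = maximalIdeal S ^ 2 := by
    refine le_antisymm (fun x hx => ?_) ((Ideal.map_eq_bot_iff_le_ker f).1 (le_bot_iff.1 ?_))
    · have hxm : x ∈ maximalIdeal S := le_maximalIdeal (RingHom.ker_ne_top f) hx
      rw [← hy, Ideal.mem_span_range_iff_exists_fun] at hxm
      obtain ⟨c, rfl⟩ := hxm
      rw [RingHom.mem_ker, map_sum] at hx
      have h1 : ∑ i, residue A (f (c i)) • b i = 0 := by
        have h2 : (maximalIdeal A).toCotangent (∑ i, f (c i) • z i) = 0 := by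
          rw [show (∑ i, f (c i) • z i) = 0 from Subtype.ext (by simpa [hf] using hx), map_zero]
        rw [map_sum] at h2
        refine (Finset.sum_congr rfl fun i _ => ?_).trans h2
        rw [map_smul, hz, ← algebraMap_smul (ResidueField A) (f (c i)) (b i)]
        rfl
      refine Ideal.sum_mem _ fun i _ => ?_
      rw [sq]
      refine Ideal.mul_mem_mul ?_ (hy ▸ Ideal.subset_span (Set.mem_range_self i))
      rw [mem_maximalIdeal, mem_nonunits_iff]
      intro hu
      have hu' : IsUnit (residue A (f (c i))) := (hu.map f).map (residue A)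
      exact hu'.ne_zero (Fintype.linearIndependent_iff.1 b.linearIndependent _ h1 i)
    · rw [Ideal.map_pow, ← h]
      exact Ideal.pow_right_mono hmap 2
  (Ideal.quotEquivOfEq hker.symm).trans (RingHom.quotientKerEquivOfSurjective hsurj)


open IsLocalRing in
/-- Let A be an Artinian local ring whose maximal ideal 𝔪 satisfies 𝔪² = 0. Then there is a regular
local ring B with maximal ideal 𝔫 such that A ≅ B/𝔫². -/
theorem result {A : Type u} [CommRing A] [IsLocalRing A] [IsArtinianRing A]
    (h : maximalIdeal A ^ 2 = ⊥) :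
    ∃ (B : Type u) (_ : CommRing B) (_ : IsRegularLocalRing B), Nonempty (A ≃+* B ⧸ IsLocalRing.maximalIdeal B ^ 2) := by
  classical
  haveI : IsAdicComplete (maximalIdeal A) A :=
    Groth.Agent.AdicRingLib.isAdicComplete_of_pow_eq_bot h
  let m := maximalIdeal A
  have hinj : Function.Injective m.toCotangent := fun x y hxy => Subtype.ext (sub_eq_zero.1 (by
    have := m.toCotangent_eq.1 hxy
    rwa [h, Ideal.mem_bot] at this))
  by_cases hp0 : ∀ q : ℕ, q.Prime → (q : ResidueField A) = 0 → (q : A) = 0
  · obtain ⟨s, hs⟩ := Groth.Agent.CAlgCohen.exists_coefficientField (R := A) hp0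
    let r := Module.finrank (ResidueField A) (CotangentSpace A)
    let b : Module.Basis (Fin r) (ResidueField A) (CotangentSpace A) := Module.finBasis _ _
    choose z hz using fun i => m.toCotangent_surjective (b i)
    obtain ⟨f, hfX, hfC⟩ := Groth.Agent.CAlgCohen.exists_eval (R := A) s (fun i => (z i : A)) (fun i => (z i).2)
    refine ⟨_, inferInstance, inferInstance, ⟨(ringEquiv_of_basis h hinj f MvPowerSeries.X b z hz
      ?_ hfX (fun x => ⟨MvPowerSeries.C (residue A x), ?_⟩)).symm⟩⟩
    · rw [← Groth.Agent.FSAdic.augIdeal_eq_span, Groth.Agent.MvPSLib.maximalIdeal_eq]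
    · rw [hfC, ← residue_eq_zero_iff, map_sub, ← RingHom.comp_apply, hs, RingHom.id_apply, sub_self]
  · push_neg at hp0
    obtain ⟨p, hpr, hpk, hpA⟩ := hp0
    haveI := Fact.mk hpr
    haveI : CharP (ResidueField A) p := CharP.charP_iff_prime_eq_zero hpr |>.2 hpk
    obtain ⟨Λ, _, _, _, φ, -, hΛ, hφ⟩ := Groth.Agent.CAlgCohen.exists_cohen_map A p
    haveI : IsRegularRing Λ := Groth.Agent.RegLocus.isRegularRing_of_regular_local Λ
    let pm : m := ⟨(p : A), by rwa [← residue_eq_zero_iff, map_natCast]⟩
    have hpv : m.toCotangent pm ≠ 0 := fun h0 => hpA (congrArg Subtype.val (hinj (h0.trans (map_zero _).symm)))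
    let hli : LinearIndepOn (ResidueField A) id ({m.toCotangent pm} : Set (CotangentSpace A)) :=
      LinearIndepOn.singleton hpv
    let b₀ := Module.Basis.extend hli
    haveI : Finite ↥(hli.extend (Set.subset_univ _)) := Module.Finite.finite_basis b₀
    let t₀ : ↥(hli.extend (Set.subset_univ _)) := ⟨m.toCotangent pm, hli.subset_extend _ (Set.mem_singleton _)⟩
    haveI : Fintype {t : ↥(hli.extend (Set.subset_univ _)) // t ≠ t₀} := Fintype.ofFinite _
    let n := Fintype.card {t : ↥(hli.extend (Set.subset_univ _)) // t ≠ t₀}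
    let e : Option (Fin n) ≃ ↥(hli.extend (Set.subset_univ _)) :=
      (Equiv.optionCongr (Fintype.equivFin {t : ↥(hli.extend (Set.subset_univ _)) // t ≠ t₀}).symm).trans
        (Equiv.optionSubtypeNe t₀)
    let b : Module.Basis (Option (Fin n)) (ResidueField A) (CotangentSpace A) := b₀.reindex e.symm
    choose z hz using fun i => m.toCotangent_surjective (b (some i))
    obtain ⟨f, hfX, hfC⟩ := Groth.Agent.CAlgCohen.exists_eval (R := A) φ (fun i => (z i : A)) (fun i => (z i).2)
    haveI : IsRegularRing (MvPowerSeries (Fin n) Λ) := Groth.Agent.SymGr.isRegularRing_mvPowerSeries Λ n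
    haveI : IsRegularLocalRing (MvPowerSeries (Fin n) Λ) := Groth.Agent.SymGr.isRegularLocalRing_of_isRegularRing _
    refine ⟨_, inferInstance, inferInstance, ⟨(ringEquiv_of_basis h hinj f
      (fun o => Option.elim o (p : MvPowerSeries (Fin n) Λ) MvPowerSeries.X) b (fun o => Option.elim o pm z)
      ?_ ?_ ?_ (fun x => ?_)).symm⟩⟩
    · rintro (_ | i)
      · show m.toCotangent pm = b none
        rw [Module.Basis.reindex_apply, Equiv.symm_symm, Module.Basis.extend_apply_self]
        rfl
      · exact hz i
    · rw [Groth.Agent.CAlgCohen.maximalIdeal_mvPowerSeries, hΛ, Ideal.map_span, Set.image_singleton, map_natCast,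
        Groth.Agent.FSAdic.augIdeal_eq_span, Option.range_elim, Ideal.span_insert]
    · rintro (_ | i)
      · exact map_natCast f p
      · exact hfX i
    · obtain ⟨l, hl⟩ := hφ (residue A x)
      exact ⟨MvPowerSeries.C l, by rw [hfC, ← residue_eq_zero_iff, map_sub, ← RingHom.comp_apply, hl, sub_self]⟩

end Groth.Agent.S2458
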