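import Groth.Statements.S2459
import Groth.Agent.CohenLift.Iso
import Groth.Agent.CAlgCohen.Structure

set_option autoImplicit false
universe u
open EGA41

namespace Groth.Agent.S2459

open IsLocalRing

open IsLocalRing in
/-- Let A be an Artinian local ring with maximal ideal 𝔪 and residue field of characteristic p (p = 0
allowed). Then A is isomorphic to a quotient of a Cohen ring if and only if 𝔪 is generated by p·1. -/
theorem result {A : Type u} [CommRing A] [IsLocalRing A] [IsArtinianRing A]
    (p : ℕ) [CharP (ResidueField A) p] :
    (∃ (W : Type u) (_ : CommRing W) (I : Ideal W), EGA41.IsCohenRingEGA W ∧ Nonempty (A ≃+* W ⧸ I)) ↔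
      maximalIdeal A = Ideal.span {(p : A)} := by
  haveI : IsAdicComplete (maximalIdeal A) A := by
    obtain ⟨n, hn⟩ := IsArtinianRing.isNilpotent_jacobson_bot (R := A)
    rw [IsLocalRing.jacobson_eq_maximalIdeal ⊥ bot_ne_top] at hn
    refine { haus' := fun x hx => ?_, prec' := fun f hf => ⟨f n, fun m => ?_⟩ }
    · have := hx n
      rwa [SModEq.zero, hn, Ideal.zero_eq_bot, Submodule.bot_smul, Submodule.mem_bot] at this
    · rcases le_total m n with h | h
      · exact hf h
      · have h1 := hf h
        rw [SModEq.sub_mem, hn, Ideal.zero_eq_bot, Submodule.bot_smul, Submodule.mem_bot] at h1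
        rw [sub_eq_zero] at h1
        rw [h1]
  constructor
  · rintro ⟨W, _, I, hW, ⟨e⟩⟩
    haveI := Groth.Agent.CohenLift.isLocalRing hW
    let g : W →+* A := e.symm.toRingHom.comp (Ideal.Quotient.mk I)
    have hg : Function.Surjective g := e.symm.surjective.comp Ideal.Quotient.mk_surjective
    haveI : IsLocalHom g := hg.isLocalHom g
    rcases hW with ⟨hF, h0⟩ | ⟨_, _, hc, q, hq, hm⟩
    · letI : Field W := hF.toField
      have hb : Function.Bijective g := ⟨g.injective, hg⟩
      have hF' : IsField A := MulEquiv.isField hF (RingEquiv.ofBijective g hb).symm.toMulEquiv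
      haveI : CharZero A := charZero_of_injective_ringHom g.injective
      letI : Field A := hF'.toField
      have hbot : maximalIdeal A = ⊥ := isField_iff_maximalIdeal_eq.1 hF'
      have hp : p = 0 := by
        haveI : CharZero (ResidueField A) := charZero_of_injective_ringHom (residue A).injective
        exact CharP.eq (ResidueField A) inferInstance (CharP.ofCharZero _)
      rw [hbot, hp, Nat.cast_zero, Ideal.span_singleton_zero]
    · have h1 : maximalIdeal A = (maximalIdeal W).map g := by
        refine ((IsLocalRing.eq_maximalIdeal ?_).symm)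
        refine (Ideal.map_eq_top_or_isMaximal_of_surjective g hg (maximalIdeal.isMaximal W)).resolve_left ?_
        intro h
        exact (maximalIdeal.isMaximal A).ne_top (top_le_iff.1 (h ▸ IsLocalRing.map_maximalIdeal_le g))
      rw [hm, Ideal.map_span, Set.image_singleton, map_natCast] at h1
      have hq' : (q : ResidueField A) = 0 := by
        rw [← map_natCast (residue A), residue_eq_zero_iff, h1]; exact Ideal.subset_span rfl
      haveI := (CharP.charP_iff_prime_eq_zero (R := ResidueField A) hq).2 hq'
      rwa [CharP.eq (ResidueField A) ‹CharP (ResidueField A) p› this]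
  · intro h
    rcases CharP.char_is_prime_or_zero (ResidueField A) p with hp | rfl
    · haveI := Fact.mk hp
      obtain ⟨Λ, _, _, _, φ, hc, hm, hφ⟩ := Groth.Agent.CAlgCohen.exists_cohen_map A p
      have hmap : (maximalIdeal Λ).map φ = maximalIdeal A := by
        rw [hm, Ideal.map_span, Set.image_singleton, map_natCast, h]
      haveI := hc
      haveI : IsHausdorff ((maximalIdeal Λ).map φ) A := by rw [hmap]; infer_instance
      have hsurj : Function.Surjective φ := surjective_of_mk_map_comp_surjective φ (fun y => by
        obtain ⟨y, rfl⟩ := Ideal.Quotient.mk_surjective y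
        obtain ⟨x, hx⟩ := hφ (residue A y)
        refine ⟨x, ?_⟩
        rw [RingHom.comp_apply, Ideal.Quotient.eq, hmap]
        exact Ideal.Quotient.eq.1 hx)
      exact ⟨Λ, inferInstance, RingHom.ker φ, Or.inr ⟨inferInstance, inferInstance, hc, p, hp, hm⟩,
        ⟨(RingHom.quotientKerEquivOfSurjective hsurj).symm⟩⟩
    · rw [Nat.cast_zero, Ideal.span_singleton_zero] at h
      have hF : IsField A := isField_iff_maximalIdeal_eq.2 h
      haveI : CharZero (ResidueField A) := CharP.charP_to_charZero _
      haveI : CharZero A := charZero_of_inj_zero fun n hn => by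
        have := congrArg (residue A) hn
        rwa [map_natCast, map_zero, Nat.cast_eq_zero] at this
      exact ⟨A, inferInstance, ⊥, Or.inl ⟨hF, inferInstance⟩, ⟨(RingEquiv.quotientBot A).symm⟩⟩

end Groth.Agent.S2459
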