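import Groth.Statements.S2460
import Mathlib
import Groth.Agent.CAlgCohen.Normalization
import Groth.Agent.MvPSLib.Basic
import Groth.Agent.MvPSLib.Eval
import Groth.Agent.CAlgCompl.Basic

set_option autoImplicit false
universe u
open EGA41

namespace Groth.Agent.S2460

open IsLocalRing in
/-- Let A be a complete Noetherian local domain containing a field k₀ such that the residue field of A
is a finite extension of k₀. Then there are n and an injective local k₀-algebra homomorphism from
the power series ring k₀[[T_1, …, T_n]] into A making A a finite module over it. -/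
theorem result {k₀ A : Type u} [Field k₀] [CommRing A] [IsDomain A] [IsLocalRing A] [IsNoetherianRing A]
    [IsAdicComplete (maximalIdeal A) A] [Algebra k₀ A] [Module.Finite k₀ (ResidueField A)] :
    ∃ (n : ℕ) (w : MvPowerSeries (Fin n) k₀ →ₐ[k₀] A), Function.Injective w ∧ IsLocalHom w.toRingHom ∧ w.toRingHom.Finite := by
  classical
  obtain ⟨n, z, hdim, hz, N, hN⟩ := Groth.Agent.CAlgCohen.exists_sop A
  obtain ⟨w, hw⟩ := Groth.Agent.MvPSLib.exists_algHom (A := k₀) (maximalIdeal A) z hz
  let W := MvPowerSeries (Fin n) k₀
  haveI : IsAdicComplete (maximalIdeal W) W := by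
    rw [Groth.Agent.MvPSLib.maximalIdeal_eq]; infer_instance
  haveI : IsDomain W := NoZeroDivisors.to_isDomain _
  have hmap : (maximalIdeal W).map w.toRingHom = Ideal.span (Set.range z) := by
    rw [Groth.Agent.MvPSLib.maximalIdeal_eq, Groth.Agent.FSAdic.augIdeal_eq_span, Ideal.map_span, ← Set.range_comp]
    exact congrArg Ideal.span (congrArg Set.range (funext hw))
  have hloc : IsLocalHom w.toRingHom := by
    refine ((IsLocalRing.local_hom_TFAE w.toRingHom).out 2 0).mp ?_
    rw [hmap, Ideal.span_le]
    rintro _ ⟨i, rfl⟩
    exact hz i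
  -- finiteness over `k₀` modulo powers of the maximal ideal
  have hfin : ∀ i, Module.Finite k₀ (A ⧸ maximalIdeal A ^ i) := by
    intro i
    induction i with
    | zero =>
      have : Subsingleton (A ⧸ maximalIdeal A ^ 0) :=
        Ideal.Quotient.subsingleton_iff.mpr (by rw [pow_zero, Ideal.one_eq_top])
      exact Module.Finite.of_finite
    | succ i ih =>
      obtain ⟨G, hG⟩ := (maximalIdeal A ^ i).fg_of_isNoetherianRing
      let f : (A ⧸ maximalIdeal A ^ (i + 1)) →ₗ[k₀] (A ⧸ maximalIdeal A ^ i) :=
        (Ideal.Quotient.factorₐ k₀ (Ideal.pow_le_pow_right i.le_succ)).toLinearMap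
      let μ : (g : {g // g ∈ G}) → (A ⧸ maximalIdeal A) →ₗ[A] (A ⧸ maximalIdeal A ^ (i + 1)) := fun g =>
        Submodule.liftQ (maximalIdeal A) (LinearMap.toSpanSingleton A _ (Ideal.Quotient.mk _ g.1)) fun a ha => by
          rw [LinearMap.mem_ker, LinearMap.toSpanSingleton_apply, Algebra.smul_def,
            Ideal.Quotient.algebraMap_eq, ← map_mul, Ideal.Quotient.eq_zero_iff_mem, pow_succ']
          exact Ideal.mul_mem_mul ha (hG ▸ Ideal.subset_span g.2)
      let Φ : ({g // g ∈ G} → (A ⧸ maximalIdeal A)) →ₗ[A] (A ⧸ maximalIdeal A ^ (i + 1)) :=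
        ∑ g, (μ g) ∘ₗ LinearMap.proj g
      haveI : Module.Finite k₀ (A ⧸ maximalIdeal A) := inferInstanceAs (Module.Finite k₀ (ResidueField A))
      refine ⟨Submodule.fg_of_fg_map_of_fg_inf_ker f ?_ ?_⟩
      · rw [Submodule.map_top]; exact IsNoetherian.noetherian _
      · rw [top_inf_eq]
        have hker : LinearMap.ker f = LinearMap.range (Φ.restrictScalars k₀) := by
          have hrange : ∀ x ∈ maximalIdeal A ^ i, Ideal.Quotient.mk _ x ∈ LinearMap.range Φ := by
            intro x hx
            rw [← hG] at hx
            induction hx using Submodule.span_induction with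
            | mem g hg =>
              refine ⟨Pi.single ⟨g, hg⟩ (Submodule.Quotient.mk 1), ?_⟩
              simp only [Φ, LinearMap.sum_apply]
              rw [Finset.sum_eq_single ⟨g, hg⟩]
              · simp only [μ, LinearMap.coe_comp, Function.comp_apply, LinearMap.proj_apply, Pi.single_eq_same]
                exact one_smul A ((Ideal.Quotient.mk (maximalIdeal A ^ (i + 1))) g)
              · intro b _ hb; simp [Pi.single_eq_of_ne hb]
              · exact fun h => absurd (Finset.mem_univ _) h
            | zero => rw [map_zero]; exact zero_mem _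
            | add a b _ _ ha hb => rw [map_add]; exact add_mem ha hb
            | smul c a _ ha =>
              have := Submodule.smul_mem _ c ha
              rwa [Algebra.smul_def, Ideal.Quotient.algebraMap_eq, ← map_mul] at this
          refine le_antisymm (fun y hy => ?_) ?_
          · obtain ⟨x, rfl⟩ := Ideal.Quotient.mk_surjective y
            exact hrange x (Ideal.Quotient.eq_zero_iff_mem.mp hy)
          · rintro _ ⟨v, rfl⟩
            change f (Φ v) = 0
            simp only [Φ, LinearMap.sum_apply, map_sum]
            refine Finset.sum_eq_zero fun g _ => ?_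
            obtain ⟨a, ha⟩ := Submodule.Quotient.mk_surjective _ (v g)
            change f (μ g (v g)) = 0
            rw [← ha]
            change Ideal.Quotient.factor (Ideal.pow_le_pow_right i.le_succ) (a • Ideal.Quotient.mk (maximalIdeal A ^ (i + 1)) g.1) = 0
            rw [Algebra.smul_def, Ideal.Quotient.algebraMap_eq, ← map_mul, Ideal.Quotient.factor_mk,
              Ideal.Quotient.eq_zero_iff_mem]
            exact Ideal.mul_mem_left _ _ (hG ▸ Ideal.subset_span g.2)
        rw [hker, LinearMap.range_eq_map]
        exact Module.Finite.fg_top.map _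
  algebraize [w.toRingHom]
  haveI : IsScalarTower k₀ W A := .of_algebraMap_eq fun a => (w.commutes a).symm
  have hI : ∀ j : ℕ, ((maximalIdeal W) ^ j • ⊤ : Submodule W A) ≤ (maximalIdeal A ^ j).restrictScalars W := by
    intro j
    rw [Ideal.smul_top_eq_map, Submodule.restrictScalars_le, Ideal.map_pow]
    refine Ideal.pow_right_mono ?_ j
    change (maximalIdeal W).map w.toRingHom ≤ _
    rw [hmap, Ideal.span_le]
    rintro _ ⟨i, rfl⟩
    exact hz i
  haveI : IsHausdorff (maximalIdeal W) A := ⟨fun x hx => IsHausdorff.haus (I := maximalIdeal A) inferInstance x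
    fun j => by
      rw [SModEq.zero, smul_eq_mul, Ideal.mul_top]
      exact hI j (SModEq.zero.mp (hx j))⟩
  have hAfin : Module.Finite W A := by
    refine Groth.Agent.CAlgCompl.finite_of_finite_quotient (maximalIdeal W) A ?_
    haveI := hfin N
    have hle : maximalIdeal A ^ N ≤ Ideal.span (Set.range z) := hN
    have h2 : Module.Finite k₀ (A ⧸ Ideal.span (Set.range z)) :=
      Module.Finite.of_surjective (Ideal.Quotient.factorₐ k₀ hle).toLinearMap
        (Ideal.Quotient.factor_surjective hle)
    have h4 : (maximalIdeal W • ⊤ : Submodule W A) = (Ideal.span (Set.range z)).restrictScalars W := by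
      rw [Ideal.smul_top_eq_map]; exact congrArg _ hmap
    have h3 : Module.Finite W (A ⧸ (Ideal.span (Set.range z)).restrictScalars W) := by
      haveI : Module.Finite k₀ (A ⧸ (Ideal.span (Set.range z)).restrictScalars W) := h2
      exact Module.Finite.of_restrictScalars_finite k₀ W _
    exact Module.Finite.equiv (Submodule.quotEquivOfEq _ _ h4).symm
  exact ⟨n, w, Groth.Agent.CAlgCohen.injective_of_finite w.toRingHom hAfin
    (Groth.Agent.MvPSLib.ringKrullDim_eq k₀ n).le hdim, hloc, hAfin⟩

end Groth.Agent.S2460
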