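import Groth.Statements.S2465
import Groth.Agent.PBasis.Field

set_option autoImplicit false
universe u
open EGA41

namespace Groth.Agent.S2465

/-- Let p be a prime, B a ring of characteristic p, A → B injective with image containing all p-th
powers, (x_α) a p-basis of B over A, and L a B-module. (i) An additive derivation D : A → L extends
to a derivation of B if and only if D vanishes on the elements of A mapping to p-th powers. (ii) In
that case, for every family (y_α) in L there is a unique derivation D' of B into L extending D with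
D'(x_α) = y_α for all α. -/
theorem result (p : ℕ) [Fact p.Prime] {A B : Type u} [CommRing A] [CommRing B] [Algebra A B] [CharP B p]
    (hinj : Function.Injective (algebraMap A B)) (hpow : ∀ b : B, b ^ p ∈ Set.range (algebraMap A B))
    {ι : Type u} (x : ι → B) (hx : EGA41.IsPBasis p A x)
    (L : Type u) [AddCommGroup L] [Module B L] [Module A L] [IsScalarTower A B L] (D : Derivation ℤ A L) :
    ((∃ D' : Derivation ℤ B L, ∀ a : A, D' (algebraMap A B a) = D a) ↔ ∀ (a : A) (b : B), algebraMap A B a = b ^ p → D a = 0) ∧
    ((∀ (a : A) (b : B), algebraMap A B a = b ^ p → D a = 0) →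
      ∀ y : ι → L, ∃! D' : Derivation ℤ B L, (∀ a : A, D' (algebraMap A B a) = D a) ∧ ∀ i, D' (x i) = y i) := by
  have hp : p ≠ 0 := (Fact.out : p.Prime).ne_zero
  have part2 : (∀ (a : A) (b : B), algebraMap A B a = b ^ p → D a = 0) →
      ∀ y : ι → L, ∃! D' : Derivation ℤ B L,
        (∀ a : A, D' (algebraMap A B a) = D a) ∧ ∀ i, D' (x i) = y i := by
    intro H y
    obtain ⟨D', h₀, h⟩ := Groth.Agent.PBasis.exists_derivation' hp hinj hpow hx
      (D : A →ₗ[ℤ] L).toAddMonoidHom
      (fun a b => by
        show D (a * b) = algebraMap A B a • D b + algebraMap A B b • D a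
        rw [Derivation.leibniz, algebraMap_smul, algebraMap_smul])
      (fun i a ha => H a (x i) ha) y
    exact ⟨D', ⟨h₀, h⟩, fun E hE => Groth.Agent.PBasis.derivation_ext hp hx.2
      (fun a => by rw [hE.1]; exact (h₀ a).symm) (fun i => (hE.2 i).trans (h i).symm)⟩
  refine ⟨⟨?_, fun H => ?_⟩, part2⟩
  · rintro ⟨D', hD'⟩ a b hab
    rw [← hD', hab]
    exact Groth.Agent.PBasis.derivation_pow_eq_zero D' b
  · obtain ⟨D', hD', -⟩ := part2 H 0
    exact ⟨D', hD'.1⟩

end Groth.Agent.S2465
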