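import Groth.Statements.S2466
import Groth.Agent.PBasis.Field

set_option autoImplicit false
universe u
open EGA41

namespace Groth.Agent.S2466

/-- Let p be a prime, B an A-algebra of characteristic p and (x_α) a p-basis of B over A. Then the
family of differentials (d_{B/A} x_α) is a basis of the B-module Ω_{B/A}. -/
theorem result (p : ℕ) [Fact p.Prime] {A B : Type u} [CommRing A] [CommRing B] [Algebra A B] [CharP B p]
    {ι : Type u} (x : ι → B) (hx : EGA41.IsPBasis p A x) :
    ∃ b : Module.Basis ι B (Ω[B⁄A]), ∀ i, b i = KaehlerDifferential.D A B (x i) := by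
  classical
  have hp : p ≠ 0 := (Fact.out : p.Prime).ne_zero
  have hd : ∀ i, ∃ E : Derivation A B B, ∀ j, E (x j) = if j = i then 1 else 0 := fun i => by
    obtain ⟨D, hD₀, hD⟩ := Groth.Agent.PBasis.exists_derivation hp hx
      (0 : EGA41.pPowerSubalgebra p A B →+ B) (by simp) (by simp) (fun j => if j = i then 1 else 0)
    have hA : ∀ a : A, D (algebraMap A B a) = 0 := fun a =>
      hD₀ ⟨algebraMap A B a, Subalgebra.algebraMap_mem _ a⟩
    exact ⟨Derivation.mk'
      { toFun := fun b => D b
        map_add' := fun a b => by simp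
        map_smul' := fun a b => by simp [Algebra.smul_def, hA] }
      (fun a b => by simp), hD⟩
  choose E hE using hd
  have hli : LinearIndependent B fun i => KaehlerDifferential.D A B (x i) := by
    rw [linearIndependent_iff']
    intro s c hc i hi
    have := congrArg (E i).liftKaehlerDifferential hc
    simpa [hE, hi] using this
  have hsp : ⊤ ≤ Submodule.span B (Set.range fun i => KaehlerDifferential.D A B (x i)) := by
    rw [← KaehlerDifferential.span_range_derivation A B, Submodule.span_le]
    rintro _ ⟨y, rfl⟩
    have h0 : ∀ b ∈ EGA41.pPowerSubalgebra p A B, KaehlerDifferential.D A B b = 0 := fun b hb => by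
      induction hb using Algebra.adjoin_induction with
      | mem _ hb =>
        obtain ⟨c, rfl⟩ := hb
        rw [Derivation.leibniz_pow, ← Nat.cast_smul_eq_nsmul B, CharP.cast_eq_zero, zero_smul]
      | algebraMap a => simp
      | add _ _ _ _ h1 h2 => simp [h1, h2]
      | mul _ _ _ _ h1 h2 => simp [h1, h2]
    have hy : y ∈ Algebra.adjoin (EGA41.pPowerSubalgebra p A B) (Set.range x) := by
      rw [(Groth.Agent.PBasis.isPGenerating_iff hp x).1 hx.2]; trivial
    induction hy using Algebra.adjoin_induction with
    | mem _ hy => obtain ⟨i, rfl⟩ := hy; exact Submodule.subset_span ⟨i, rfl⟩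
    | algebraMap a =>
      rw [SetLike.mem_coe, show KaehlerDifferential.D A B (algebraMap _ B a) = 0 from h0 _ a.2]
      exact Submodule.zero_mem _
    | add _ _ _ _ h1 h2 =>
      rw [SetLike.mem_coe, map_add]; exact Submodule.add_mem _ h1 h2
    | mul a b _ _ h1 h2 =>
      rw [SetLike.mem_coe, Derivation.leibniz]
      exact Submodule.add_mem _ (Submodule.smul_mem _ a h2) (Submodule.smul_mem _ b h1)
  exact ⟨Module.Basis.mk hli hsp, fun i => Module.Basis.mk_apply hli hsp i⟩

end Groth.Agent.S2466
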