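import Groth.Statements.S2473
import Groth.Agent.SymGr.RootCotangent
import Groth.Agent.CAlgReg.Basic
import Groth.Agent.S0564

set_option autoImplicit false
universe u
open EGA41

namespace Groth.Agent.S2473

open MvPolynomial in
theorem ringKrullDim_eq {A : Type u} [CommRing A] [IsRegularLocalRing A] (p : ℕ) [Fact p.Prime] {r : ℕ}
    (g : Fin r → MvPolynomial (Fin r) A) (f : Fin r → A) (q : Fin r → Polynomial A) (hq : ∀ i, (q i).Monic)
    (hqX : ∀ i, Polynomial.aeval (X i : MvPolynomial (Fin r) A) (q i) = Groth.Agent.SymGr.rootRel p g f i)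
    [Algebra.IsIntegral A (MvPolynomial (Fin r) A ⧸ Groth.Agent.SymGr.rootIdeal p g f)] [CharP (IsLocalRing.ResidueField A) p] :
    ringKrullDim (MvPolynomial (Fin r) A ⧸ Groth.Agent.SymGr.rootIdeal p g f) = ringKrullDim A := by
  haveI : IsDomain A := Groth.Agent.CAlgReg.isDomain
  let Ω := AlgebraicClosure (FractionRing A)
  haveI : FaithfulSMul A Ω := (faithfulSMul_iff_algebraMap_injective _ _).2 (by
    rw [IsScalarTower.algebraMap_eq A (FractionRing A) Ω, RingHom.coe_comp]
    exact (algebraMap (FractionRing A) Ω).injective.comp (IsFractionRing.injective A (FractionRing A)))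
  have hroot : ∀ i, ∃ w : Ω, Polynomial.aeval w (q i) = 0 := fun i => by
    refine IsAlgClosed.exists_aeval_eq_zero Ω (q i) fun h => ?_
    obtain ⟨χ, hχ, -⟩ := Groth.Agent.SymGr.exists_point p g f
    have h1 : q i = 1 := (hq i).natDegree_eq_zero.1 (Polynomial.natDegree_eq_zero_iff_degree_le_zero.2 h.le)
    have h2 := hχ i
    rw [← hqX i, h1, map_one, map_one] at h2
    exact one_ne_zero h2
  choose w hw using hroot
  let φ : MvPolynomial (Fin r) A ⧸ Groth.Agent.SymGr.rootIdeal p g f →ₐ[A] Ω :=
    Ideal.Quotient.liftₐ _ (aeval w) fun x hx => by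
      refine (Ideal.span_le (I := RingHom.ker (aeval w : MvPolynomial (Fin r) A →ₐ[A] Ω))).2 ?_ hx
      rintro _ ⟨i, rfl⟩
      rw [SetLike.mem_coe, RingHom.mem_ker, ← hqX i, ← Polynomial.aeval_algHom_apply, aeval_X, hw]
  haveI : FaithfulSMul A (MvPolynomial (Fin r) A ⧸ Groth.Agent.SymGr.rootIdeal p g f) :=
    (faithfulSMul_iff_algebraMap_injective _ _).2 fun x y hxy =>
      FaithfulSMul.algebraMap_injective A Ω ((φ.commutes x).symm.trans ((congrArg φ hxy).trans (φ.commutes y)))
  exact Groth.Agent.DimTheory.ringKrullDim_eq_of_integral A _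


open IsLocalRing TensorProduct in
/-- Let A be a regular local ring whose residue field K has characteristic p > 0; for 1 ≤ i ≤ r let F_i
= T_i^p + p Σ_{j=1}^{p-1} c_{ij} T_i^{p-j} − f_i with c_{ij}, f_i ∈ A, and let B be the quotient of
A[T_1, …, T_r] by the ideal generated by the F_i. Then B is a local ring, and B is regular if and
only if the elements d f_i ⊗ 1 of Ω_{A/ℤ} ⊗_A K are linearly independent over K. Assumed in
addition: p lies in the square of the maximal ideal of A (which covers the case where A has
characteristic p); the printed statement omits this, and the equivalence can fail for A absolutely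
unramified, e.g. A = ℤ_(p), r = 1, f_1 = p. (Condition (c) of the source, on the characteristic
homomorphism Ξ, is not stated.) -/
theorem result {A : Type u} [CommRing A] [IsRegularLocalRing A] (p : ℕ) [Fact p.Prime] [CharP (ResidueField A) p]
    {r : ℕ} (c : Fin r → Fin p → A) (f : Fin r → A)
    (hp : (p : A) ∈ maximalIdeal A ^ 2) :
    let F : Fin r → MvPolynomial (Fin r) A := fun i =>
      MvPolynomial.X i ^ p + (p : MvPolynomial (Fin r) A) * (Finset.univ.sum fun j : Fin p =>
        if (j : ℕ) = 0 then 0 else MvPolynomial.C (c i j) * MvPolynomial.X i ^ (p - (j : ℕ))) - MvPolynomial.C (f i)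
    IsLocalRing (MvPolynomial (Fin r) A ⧸ Ideal.span (Set.range F)) ∧
      (IsRegularRing (MvPolynomial (Fin r) A ⧸ Ideal.span (Set.range F)) ↔
        LinearIndependent (ResidueField A) (fun i => (1 : ResidueField A) ⊗ₜ[A] KaehlerDifferential.D ℤ A (f i))) := by
  intro F
  let g : Fin r → MvPolynomial (Fin r) A := fun i => Finset.univ.sum fun j : Fin p =>
    if (j : ℕ) = 0 then 0 else MvPolynomial.C (c i j) * MvPolynomial.X i ^ (p - (j : ℕ))
  let low : Fin r → Polynomial A := fun i => Finset.univ.sum fun j : Fin p =>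
    if (j : ℕ) = 0 then 0 else Polynomial.C (c i j) * Polynomial.X ^ (p - (j : ℕ))
  let q : Fin r → Polynomial A := fun i => Polynomial.X ^ p + ((p : Polynomial A) * low i - Polynomial.C (f i))
  have hp0 : 0 < p := (Fact.out : p.Prime).pos
  have hq : ∀ i, (q i).Monic := fun i => Polynomial.monic_X_pow_add (by
    refine (Polynomial.degree_sub_le _ _).trans_lt (max_lt ?_ ?_)
    · rw [Polynomial.degree_lt_iff_coeff_zero]
      intro m hm
      rw [← map_natCast Polynomial.C, Polynomial.coeff_C_mul]
      simp only [low, Polynomial.finset_sum_coeff]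
      refine mul_eq_zero_of_right _ (Finset.sum_eq_zero fun j _ => ?_)
      split
      · simp
      · rw [Polynomial.coeff_C_mul, Polynomial.coeff_X_pow, if_neg (by omega), mul_zero]
    · exact Polynomial.degree_C_le.trans_lt (by exact_mod_cast hp0))
  have hqX : ∀ i, Polynomial.aeval (MvPolynomial.X i : MvPolynomial (Fin r) A) (q i) =
      Groth.Agent.SymGr.rootRel p g f i := fun i => by
    simp only [q, low, g, Groth.Agent.SymGr.rootRel, map_add, map_sub, map_mul, map_pow, map_sum, map_natCast,
      Polynomial.aeval_X, Polynomial.aeval_C, MvPolynomial.algebraMap_eq, apply_ite (Polynomial.aeval (MvPolynomial.X i : MvPolynomial (Fin r) A)), map_zero]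
    ring
  have hI : Ideal.span (Set.range F) = Groth.Agent.SymGr.rootIdeal p g f := rfl
  rw [hI]
  haveI := Groth.Agent.SymGr.isIntegral_roots p g f q hq hqX
  haveI := Groth.Agent.SymGr.isLocalRing_roots p g f
  refine ⟨inferInstance, ?_⟩
  rw [← Groth.Agent.SymGr.spanFinrank_roots_eq_iff p g f hp]
  have hdim := ringKrullDim_eq p g f q hq hqX
  constructor
  · intro h
    haveI := IsRegularLocalRing.of_isRegularRing_of_isLocalRing (MvPolynomial (Fin r) A ⧸ Groth.Agent.SymGr.rootIdeal p g f)
    have h1 := (IsRegularLocalRing.spanFinrank_maximalIdeal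
      (R := MvPolynomial (Fin r) A ⧸ Groth.Agent.SymGr.rootIdeal p g f)).trans
      (hdim.trans IsRegularLocalRing.spanFinrank_maximalIdeal.symm)
    exact_mod_cast h1
  · intro h
    haveI : IsRegularLocalRing (MvPolynomial (Fin r) A ⧸ Groth.Agent.SymGr.rootIdeal p g f) := by
      rw [isRegularLocalRing_iff, h, hdim]
      exact IsRegularLocalRing.spanFinrank_maximalIdeal
    exact isRegularRing_iff.2 fun P hP => haveI := hP; S0564.result _ P

end Groth.Agent.S2473
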