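import Groth.Statements.S2477
import Mathlib
import Groth.Agent.FSAdic.PowerSeries

set_option autoImplicit false
universe u
open EGA41

namespace Groth.Agent.S2477

open scoped TensorProduct

open IsLocalRing in
/-- Let k be a field and A = k[[T_1, …, T_r]] with its usual k-algebra structure. Then the adic
completion Ω̂_{A/k} of Ω_{A/k} is a free A-module of rank r. -/
theorem result (k : Type u) [Field k] (r : ℕ) :
    Module.Finite (MvPowerSeries (Fin r) k) (AdicCompletion (maximalIdeal (MvPowerSeries (Fin r) k)) (Ω[MvPowerSeries (Fin r) k⁄k])) ∧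
    Module.Free (MvPowerSeries (Fin r) k) (AdicCompletion (maximalIdeal (MvPowerSeries (Fin r) k)) (Ω[MvPowerSeries (Fin r) k⁄k])) ∧
      Module.finrank (MvPowerSeries (Fin r) k) (AdicCompletion (maximalIdeal (MvPowerSeries (Fin r) k)) (Ω[MvPowerSeries (Fin r) k⁄k])) = r := by
  classical
  let A := MvPowerSeries (Fin r) k
  set m := maximalIdeal (MvPowerSeries (Fin r) k) with hmdef
  set X' : Fin r → A := MvPowerSeries.X with hX'
  have haug : m = Groth.Agent.FSAdic.augIdeal k r :=
    (IsLocalRing.eq_maximalIdeal (RingHom.ker_isMaximal_of_surjective _ fun c =>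
      ⟨MvPowerSeries.C c, MvPowerSeries.constantCoeff_C c⟩)).symm
  have hspan : m = Ideal.span (Set.range X') := haug.trans Groth.Agent.FSAdic.augIdeal_eq_span
  have : IsAdicComplete m A := by rw [hspan]; infer_instance
  let Φ : (Fin r → A) →ₗ[A] Ω[A⁄k] :=
    Fintype.linearCombination A fun i => KaehlerDifferential.D k A (X' i)
  let Ψ : Ω[A⁄k] →ₗ[A] (Fin r → A) :=
    LinearMap.pi fun i => (MvPowerSeries.pderiv k i).liftKaehlerDifferential
  have hΨD : ∀ (a : A) (i : Fin r), Ψ (KaehlerDifferential.D k A a) i = MvPowerSeries.pderiv k i a :=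
    fun a i => Derivation.liftKaehlerDifferential_comp_D _ a
  have hΦsingle : ∀ j, Φ (Pi.single j 1) = KaehlerDifferential.D k A (X' j) := fun j => by
    simp [Φ, Fintype.linearCombination_apply_single]
  have hΨX : ∀ j, Ψ (KaehlerDifferential.D k A (X' j)) = Pi.single j 1 := fun j => funext fun i => by
    rw [hΨD]
    rcases eq_or_ne j i with rfl | hne
    · rw [Pi.single_eq_same]; exact MvPowerSeries.pderiv_X_self
    · rw [Pi.single_eq_of_ne hne.symm]; exact MvPowerSeries.pderiv_X_of_ne hne
  have hΨΦ : Ψ ∘ₗ Φ = LinearMap.id := LinearMap.pi_ext' fun j => LinearMap.ext_ring (by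
    simp only [LinearMap.coe_comp, Function.comp_apply, LinearMap.coe_single, LinearMap.id_coe, id_eq]
    rw [hΦsingle, hΨX])
  let δ : Derivation k A (Ω[A⁄k]) :=
    ((Φ ∘ₗ Ψ) - LinearMap.id).compDer (KaehlerDifferential.D k A)
  have hδpow : ∀ n : ℕ, ∀ a ∈ m ^ (n + 1), δ a ∈ (m ^ n • ⊤ : Submodule A (Ω[A⁄k])) := by
    intro n
    induction n with
    | zero => intro a _; simp
    | succ n ih =>
      intro a ha
      rw [pow_succ] at ha
      induction ha using Submodule.mul_induction_on' with
      | mem_mul_mem x hx y hy =>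
        rw [Derivation.leibniz]
        refine add_mem (Submodule.smul_mem_smul hx Submodule.mem_top) ?_
        rw [pow_succ', Submodule.mul_smul]
        exact Submodule.smul_mem_smul hy (ih x hx)
      | add x _ y _ h1 h2 => rw [map_add]; exact add_mem h1 h2
  have hδpoly : ∀ P : MvPolynomial (Fin r) k, δ (P : A) = 0 := by
    intro P
    induction P using MvPolynomial.induction_on with
    | C c =>
      rw [MvPolynomial.coe_C, show (MvPowerSeries.C c : A) = algebraMap k A c by
        rw [MvPowerSeries.algebraMap_apply]; rfl]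
      exact δ.map_algebraMap c
    | add p q hp hq => rw [MvPolynomial.coe_add, map_add, hp, hq, add_zero]
    | mul_X p i hp =>
      rw [MvPolynomial.coe_mul, MvPolynomial.coe_X, Derivation.leibniz, hp, smul_zero, add_zero]
      have : δ (X' i) = 0 := by
        change (Φ ∘ₗ Ψ - LinearMap.id : Ω[A⁄k] →ₗ[A] Ω[A⁄k]) (KaehlerDifferential.D k A (X' i)) = 0
        rw [LinearMap.sub_apply, LinearMap.comp_apply, LinearMap.id_apply, hΨX, hΦsingle, sub_self]
      rw [this, smul_zero]
  have hΦΨ : ∀ (n : ℕ) (ω : Ω[A⁄k]), (Φ ∘ₗ Ψ - LinearMap.id : Ω[A⁄k] →ₗ[A] Ω[A⁄k]) ω ∈ (m ^ n • ⊤ : Submodule A (Ω[A⁄k])) := by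
    intro n ω
    induction (KaehlerDifferential.span_range_derivation k A).ge (Submodule.mem_top (x := ω))
      using Submodule.span_induction with
    | mem z hz =>
      obtain ⟨a, rfl⟩ := hz
      have h1 := Groth.Agent.FSAdic.sub_truncTotal_mem (n + 1) a
      rw [← haug] at h1
      have h2 := hδpow n _ h1
      rw [map_sub, hδpoly, sub_zero] at h2
      exact h2
    | zero => simp
    | add a b _ _ ha hb => rw [map_add]; exact add_mem ha hb
    | smul c a _ ha => rw [map_smul]; exact Submodule.smul_mem _ _ ha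
  have hid : (AdicCompletion.map m Φ) ∘ₗ (AdicCompletion.map m Ψ) = LinearMap.id := by
    rw [AdicCompletion.map_comp]
    refine LinearMap.ext fun x => AdicCompletion.ext fun {n} => ?_
    rw [AdicCompletion.map_val_apply]
    obtain ⟨ω, hω⟩ := Submodule.Quotient.mk_surjective _ (x.val n)
    change LinearMap.reduceModIdeal (m ^ n) (Φ ∘ₗ Ψ) (x.val n) = x.val n
    rw [← hω, LinearMap.reduceModIdeal_apply, Submodule.Quotient.eq]
    exact hΦΨ n ω
  have hid' : (AdicCompletion.map m Ψ) ∘ₗ (AdicCompletion.map m Φ) = LinearMap.id := by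
    rw [AdicCompletion.map_comp, hΨΦ, AdicCompletion.map_id]
  let e : (Fin r → A) ≃ₗ[A] AdicCompletion m (Ω[A⁄k]) :=
    ((LinearEquiv.piCongrRight fun _ => AdicCompletion.ofLinearEquiv m A).trans
      ((AdicCompletion.piEquivFin m r).restrictScalars A).symm).trans
    ((LinearEquiv.ofLinear (AdicCompletion.map m Φ) (AdicCompletion.map m Ψ) hid hid').restrictScalars A)
  exact ⟨Module.Finite.equiv e, Module.Free.of_equiv e, by
    rw [← e.finrank_eq, Module.finrank_fin_fun]⟩

end Groth.Agent.S2477
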