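import Groth.Statements.S4574
import Groth.Agent.SymGr.RegLoc

set_option autoImplicit false
universe u
open IsLocalRing
open EGA41

namespace Groth.Agent.S4574

/-- Let k be a field and A a Noetherian local k-algebra, formally smooth over k for its adic topology.
Then every localization A_p at a prime p is formally smooth over k for the pA_p-adic topology. -/
theorem result {k A : Type u} [Field k] [CommRing A]
    [IsLocalRing A] [IsNoetherianRing A] [Algebra k A] (h : CAlgX.IsAdicFormallySmooth k A (maximalIdeal A))
    (p : Ideal A) [p.IsPrime] :
    CAlgX.IsAdicFormallySmooth k (Localization.AtPrime p) (maximalIdeal (Localization.AtPrime p)) := by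
  exact Groth.Agent.SymGr.isAdicFormallySmooth_of_isGeometricallyRegular
    (Groth.Agent.SymGr.isGeometricallyRegular_of_isLocalization p.primeCompl
      (Groth.Agent.SymGr.isGeometricallyRegular_of_isAdicFormallySmooth h))

end Groth.Agent.S4574
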