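import Groth.Statements.S2481
import Groth.Agent.FSAdic.Lifting
import Groth.Agent.FSAdic.Transfer

set_option autoImplicit false
universe u
open EGA41

namespace Groth.Agent.S2481

open IsLocalRing in
/-- Let A → B be a local homomorphism of Noetherian local rings with the adic topologies, K the residue
field of B. Then B is formally smooth over A if and only if: for every Artinian local ring C with a
local homomorphism A → C, every nilpotent ideal J of C and every local A-algebra homomorphism u : B
→ C/J inducing a bijection of residue fields (so that C has residue field K and u induces the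
identity on it), u is induced by a local A-algebra homomorphism B → C. -/
theorem result {A B : Type u} [CommRing A] [IsLocalRing A] [IsNoetherianRing A] [CommRing B] [IsLocalRing B] [IsNoetherianRing B]
    [Algebra A B] [IsLocalHom (algebraMap A B)] :
    EGA41.IsFormallySmoothAdic A (maximalIdeal A) B (maximalIdeal B) ↔
      ∀ (C : Type u) [CommRing C] [IsLocalRing C] [IsArtinianRing C] [Algebra A C] [IsLocalHom (algebraMap A C)]
        (J : Ideal C), IsNilpotent J → ∀ [IsLocalRing (C ⧸ J)] (u : B →ₐ[A] C ⧸ J) [IsLocalHom u.toRingHom],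
        Function.Bijective (ResidueField.map u.toRingHom) →
        ∃ f : B →ₐ[A] C, IsLocalHom f.toRingHom ∧ (Ideal.Quotient.mkₐ A J).comp f = u := by
  constructor
  · intro h C _ _ _ _ _ J hJ _ u _ _
    have hnil : ∃ n : ℕ, maximalIdeal C ^ n = ⊥ :=
      (IsArtinianRing.isNilpotent_jacobson_bot (R := C)).imp fun n hn => by
        rwa [IsLocalRing.jacobson_eq_maximalIdeal ⊥ bot_ne_top, Submodule.zero_eq_bot] at hn
    obtain ⟨n, hn⟩ := hnil
    obtain ⟨v, hv⟩ := h C J hJ ⟨n, by
        rw [Ideal.map_pow]
        exact le_bot_iff.mp ((Ideal.pow_right_mono (IsLocalRing.map_maximalIdeal_le _) n).trans hn.le)⟩ u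
      (Groth.Agent.FSAdic.exists_pow_vanish u.toRingHom
        (Groth.Agent.FSAdic.exists_maximalIdeal_quotient_pow J ⟨n, hn⟩))
    exact ⟨v, Groth.Agent.FSAdic.isLocalHom_of_lift J v.toRingHom u.toRingHom
      (by rw [← hv]; rfl), hv⟩
  · intro h
    refine Groth.Agent.FSAdic.isFormallySmoothAdic_of_smallLifting ?_ _
    intro C _ _ _ _ J hJ _ _ hart _ u _ hres
    have := hart inferInstance
    obtain ⟨v, _, hv⟩ := h C J ⟨2, hJ⟩ u hres
    exact ⟨v, hv⟩

end Groth.Agent.S2481
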