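import Groth.Statements.S2482
import Groth.Agent.SymGr.FlatFormallyProjective
import Groth.Agent.PBasis.Separable
import Groth.Agent.FSAdic.Basic

set_option autoImplicit false
universe u
open EGA41

namespace Groth.Agent.S2482

open IsLocalRing in
/-- (a) ⟹ (b): let A, B be complete discrete valuation rings and u : A → B a ring homomorphism with
u(𝔪_A)B = 𝔪_B, such that the residue field L of B is separable over the residue field K of A. Then
for every complete discrete valuation ring B', every homomorphism u' : A → B' with u'(𝔪_A)B' =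
𝔪_{B'} and every isomorphism σ of residue fields L ≅ L' compatible with the maps from K, there is an
isomorphism w : B ≅ B' with u' = w ∘ u inducing σ on residue fields. -/
theorem result {A B B' : Type u} [CommRing A] [IsDomain A] [IsDiscreteValuationRing A] [IsAdicComplete (maximalIdeal A) A]
    [CommRing B] [IsDomain B] [IsDiscreteValuationRing B] [IsAdicComplete (maximalIdeal B) B]
    [CommRing B'] [IsDomain B'] [IsDiscreteValuationRing B'] [IsAdicComplete (maximalIdeal B') B']
    (u : A →+* B) [IsLocalHom u] (hu : (maximalIdeal A).map u = maximalIdeal B)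
    (hsep : letI := (ResidueField.map u).toAlgebra; Algebra.IsGeometricallyReduced (ResidueField A) (ResidueField B))
    (u' : A →+* B') [IsLocalHom u'] (hu' : (maximalIdeal A).map u' = maximalIdeal B')
    (σ : ResidueField B ≃+* ResidueField B') (hσ : (σ : ResidueField B →+* ResidueField B').comp (ResidueField.map u) = ResidueField.map u') :
    ∃ w : B ≃+* B', (w : B →+* B').comp u = u' ∧ ∀ b : B, residue B' (w b) = σ (residue B b) := by
  letI : Algebra A B := u.toAlgebra
  letI : Algebra A B' := u'.toAlgebra
  haveI : IsLocalHom (algebraMap A B) := ‹IsLocalHom u›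
  have hinju : Function.Injective (algebraMap A B) := by
    rw [RingHom.injective_iff_ker_eq_bot]
    by_contra h
    have h1 : RingHom.ker u = maximalIdeal A :=
      IsLocalRing.eq_maximalIdeal ((RingHom.ker_isPrime u).isMaximal h)
    exact IsDiscreteValuationRing.not_a_field B (by rw [← hu, Ideal.map_eq_bot_iff_le_ker, h1])
  haveI : Module.IsTorsionFree A B := Module.IsTorsionFree.comap (algebraMap A B)
    (fun r hr => isRegular_of_ne_zero ((map_ne_zero_iff _ hinju).2 hr.ne_zero))
    (fun r b => (Algebra.smul_def r b).symm)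
  haveI : Module.Flat A B := inferInstance
  letI : Algebra (ResidueField A) (ResidueField B) := (ResidueField.map u).toAlgebra
  haveI hfs : Algebra.FormallySmooth (ResidueField A) (ResidueField B) := by
    haveI := hsep
    exact Groth.Agent.PBasis.formallySmooth_iff_isGeometricallyReduced.2 inferInstance
  let e : (B ⧸ (maximalIdeal A).map (algebraMap A B)) ≃+* ResidueField B := Ideal.quotEquivOfEq hu
  have hfib : CAlgX.IsAdicFormallySmooth (A ⧸ maximalIdeal A) (B ⧸ (maximalIdeal A).map (algebraMap A B))
      ((maximalIdeal B).map (Ideal.Quotient.mk ((maximalIdeal A).map (algebraMap A B)))) := by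
    intro C _ _ J hJ ψ _
    letI : Algebra (ResidueField A) C := ((algebraMap (A ⧸ maximalIdeal A) C).comp (RingHom.id (ResidueField A))).toAlgebra
    have hcomm : ∀ c, e (algebraMap (A ⧸ maximalIdeal A) _ c) = algebraMap (ResidueField A) (ResidueField B) c := fun c => by
      obtain ⟨c, rfl⟩ := Ideal.Quotient.mk_surjective c
      rfl
    let ψ' : ResidueField B →ₐ[ResidueField A] C ⧸ J :=
      { ψ.toRingHom.comp e.symm.toRingHom with
        commutes' := fun c => by
          show ψ (e.symm (algebraMap (ResidueField A) (ResidueField B) c)) = _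
          rw [← hcomm, RingEquiv.symm_apply_apply]
          exact ψ.commutes c }
    refine ⟨{ (Algebra.FormallySmooth.lift J ⟨2, hJ⟩ ψ').toRingHom.comp e.toRingHom with
        commutes' := fun c => by
          show Algebra.FormallySmooth.lift J ⟨2, hJ⟩ ψ' (e (algebraMap (A ⧸ maximalIdeal A) _ c)) = _
          rw [hcomm, AlgHom.commutes]
          rfl }, AlgHom.ext fun x => ?_⟩
    show Ideal.Quotient.mk J (Algebra.FormallySmooth.lift J ⟨2, hJ⟩ ψ' (e x)) = ψ x
    rw [Algebra.FormallySmooth.mk_lift]
    show ψ (e.symm (e x)) = ψ x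
    rw [RingEquiv.symm_apply_apply]
  have hB := Groth.Agent.SymGr.isFormallySmoothAdic_of_flat_of_fibre (A := A) (B := B) hfib
  let w₀ : B →ₐ[A] B' ⧸ maximalIdeal B' :=
    { (σ : ResidueField B →+* ResidueField B').comp (residue B) with
      commutes' := fun a => RingHom.congr_fun hσ (residue A a) }
  haveI : IsHausdorff ((maximalIdeal B').map (Ideal.Quotient.mk (maximalIdeal B'))) (B' ⧸ maximalIdeal B') := by
    rw [Ideal.map_quotient_self]; infer_instance
  obtain ⟨v, -, hv⟩ := Groth.Agent.FSAdic.lift_adicComplete (maximalIdeal A) (maximalIdeal B) (maximalIdeal B') hB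
    ⟨1, by rw [pow_one]; exact hu'.le⟩ (maximalIdeal B') ⟨1, by rw [pow_one]⟩ w₀ ⟨1, by
      rw [pow_one, Ideal.map_quotient_self, le_bot_iff, Ideal.map_eq_bot_iff_le_ker]
      intro x hx
      show σ (residue B x) = 0
      rw [(residue_eq_zero_iff x).2 hx, map_zero]⟩
  have hv' : ∀ b, residue B' (v b) = σ (residue B b) := fun b => AlgHom.congr_fun hv b
  have hmap : (maximalIdeal B).map v.toRingHom = maximalIdeal B' :=
    (congrArg (Ideal.map v.toRingHom) hu.symm).trans
      ((Ideal.map_map _ _).trans ((congrArg (fun f => (maximalIdeal A).map f) v.comp_algebraMap).trans hu'))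
  haveI : IsHausdorff ((maximalIdeal B).map v.toRingHom) B' := by rw [hmap]; exact IsAdicComplete.toIsHausdorff
  have hsurj : Function.Surjective v.toRingHom :=
    surjective_of_mk_map_comp_surjective (I := maximalIdeal B) v.toRingHom (fun y => by
      obtain ⟨y, rfl⟩ := Ideal.Quotient.mk_surjective y
      obtain ⟨x, hx⟩ := σ.surjective (residue B' y)
      obtain ⟨x, rfl⟩ := residue_surjective x
      refine ⟨x, Ideal.Quotient.eq.2 ?_⟩
      rw [hmap]
      exact Ideal.Quotient.eq.1 ((hv' x).trans hx))
  have hinj : Function.Injective v.toRingHom := by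
    rw [RingHom.injective_iff_ker_eq_bot]
    by_contra h
    have h1 : RingHom.ker v.toRingHom = maximalIdeal B :=
      IsLocalRing.eq_maximalIdeal ((RingHom.ker_isPrime v.toRingHom).isMaximal h)
    exact IsDiscreteValuationRing.not_a_field B' (by rw [← hmap, Ideal.map_eq_bot_iff_le_ker, h1])
  exact ⟨RingEquiv.ofBijective v.toRingHom ⟨hinj, hsurj⟩, RingHom.ext fun a => v.commutes a, hv'⟩

end Groth.Agent.S2482
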