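import Groth.Statements.S2483
import Mathlib
import Groth.Agent.FSAdic.Discrete
import Groth.Agent.FSAdic.Basic
import Groth.Agent.PBasis.Separable
import Groth.Agent.GeomRed.Tensor

set_option autoImplicit false
universe u
open EGA41

namespace Groth.Agent.S2483

theorem exists_derivation_ne_zero (K : Type u) [Field K] [Nontrivial (Ω[K⁄ℤ])] :
    ∃ (dd : Derivation ℤ K K) (x : K), dd x ≠ 0 := by
  by_contra hall
  push_neg at hall
  obtain ⟨ω, hω⟩ := exists_ne (0 : Ω[K⁄ℤ])
  refine hω ((Module.forall_dual_apply_eq_zero_iff K ω).mp fun lam => ?_)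
  have : lam = 0 := by
    refine LinearMap.ext_on_range (KaehlerDifferential.span_range_derivation ℤ K) fun a => ?_
    exact hall (lam.compDer (KaehlerDifferential.D ℤ K)) a
  rw [this, LinearMap.zero_apply]

theorem derivation_apply_eq_zero {K M : Type u} [CommRing K] [AddCommGroup M] [Module K M]
    [Subsingleton (Ω[K⁄ℤ])] (D : Derivation ℤ K M) (x : K) : D x = 0 := by
  rw [← Derivation.liftKaehlerDifferential_comp_D D x,
    Subsingleton.elim (KaehlerDifferential.D ℤ K x) 0, map_zero]

open IsLocalRing in
/-- Let C be a complete Noetherian local ring with maximal ideal 𝔍 ≠ 0 and residue field K, and u : K →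
C a ring homomorphism which is a section of the residue map. Then u is the only such section if and
only if Ω_{K/ℤ} = 0. -/
theorem result {C : Type u} [CommRing C] [IsLocalRing C] [IsNoetherianRing C] [IsAdicComplete (maximalIdeal C) C]
    (hm : maximalIdeal C ≠ ⊥) (u : ResidueField C →+* C) (hu : ∀ x, residue C (u x) = x) :
    (∀ v : ResidueField C →+* C, (∀ x, residue C (v x) = x) → v = u) ↔ Subsingleton (Ω[ResidueField C⁄ℤ]) := by
  set m := maximalIdeal C with hm'
  set K := ResidueField C
  have hres : ∀ {v : K →+* C}, (∀ x, residue C (v x) = x) → ∀ x, v x - u x ∈ m := fun hv x => by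
    rw [← residue_eq_zero_iff, map_sub, hv, hu, sub_self]
  constructor
  · -- uniqueness forces `Ω = 0`
    intro huniq
    by_contra hne
    rw [not_subsingleton_iff_nontrivial] at hne
    obtain ⟨dd, x₀, hdd⟩ := @exists_derivation_ne_zero K _ hne
    obtain ⟨t, ht, ht2⟩ : ∃ t ∈ m, t ∉ m ^ 2 := by
      by_contra hall
      push_neg at hall
      refine hm (Submodule.eq_bot_of_le_smul_of_le_jacobson_bot m m (IsNoetherian.noetherian m)
        (fun x hx => by rw [smul_eq_mul, ← sq]; exact hall x hx) ?_)
      rw [IsLocalRing.jacobson_eq_maximalIdeal ⊥ bot_ne_top]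
    let P : Subfield K := ⊥
    have hperf : PerfectField P := by
      obtain _ | ⟨p, hp, hk⟩ := CharP.exists' K
      · haveI : CharZero P := ⟨fun a b hab => Nat.cast_injective (R := K) (by
          simpa using congrArg (fun z : P => (z : K)) hab)⟩
        exact PerfectField.ofCharZero
      · letI := ZMod.algebra K p
        haveI : Finite P := by
          have := Subfield.bot_eq_of_zMod_algebra (K := K) p
          rw [show P = _ from this]
          exact (Set.finite_range (algebraMap (ZMod p) K)).to_subtype
        exact PerfectField.ofFinite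
    haveI : Algebra.IsGeometricallyReduced P K := ⟨fun q _ =>
      Groth.Agent.GeomRed.isReduced_tensorProduct_of_perfectField P _ K⟩
    have hFS : Algebra.FormallySmooth P K :=
      Groth.Agent.PBasis.formallySmooth_iff_isGeometricallyReduced.mpr inferInstance
    have hdP : ∀ c : P, dd (c : K) = 0 := by
      intro c
      let Z : Subfield K :=
        { carrier := {x | dd x = 0}
          zero_mem' := map_zero dd
          one_mem' := dd.map_one_eq_zero
          add_mem' := fun {a b} (ha : dd a = 0) (hb : dd b = 0) => by
            change dd (a + b) = 0; rw [map_add, ha, hb, add_zero]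
          neg_mem' := fun {a} (ha : dd a = 0) => by
            change dd (-a) = 0; rw [map_neg, ha, neg_zero]
          mul_mem' := fun {a b} (ha : dd a = 0) (hb : dd b = 0) => by
            change dd (a * b) = 0; rw [Derivation.leibniz, ha, hb, smul_zero, smul_zero, add_zero]
          inv_mem' := fun a (ha : dd a = 0) => by
            change dd a⁻¹ = 0; rw [Derivation.leibniz_inv, ha, smul_zero] }
      exact (bot_le : P ≤ Z) c.2
    letI : Algebra P C := (u.comp P.subtype).toAlgebra
    have hT : ∀ x y : K, (u (dd x) * t) * (u (dd y) * t) ∈ m ^ 2 := fun x y => by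
      rw [sq]; exact Ideal.mul_mem_mul (m.mul_mem_left _ ht) (m.mul_mem_left _ ht)
    let u' : K →ₐ[P] C ⧸ m ^ 2 :=
      { toFun := fun x => Ideal.Quotient.mk _ (u x + u (dd x) * t)
        map_one' := by simp [Derivation.map_one_eq_zero]
        map_mul' := fun x y => by
          rw [← map_mul, Ideal.Quotient.eq, Derivation.leibniz, smul_eq_mul, smul_eq_mul,
            map_mul u, map_add u, map_mul u, map_mul u]
          convert (m ^ 2).neg_mem (hT x y) using 1
          ring
        map_zero' := by simp
        map_add' := fun x y => by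
          rw [← map_add]; congr 1; rw [map_add dd, map_add u, map_add u]; ring
        commutes' := fun c => by
          change Ideal.Quotient.mk _ (u (c : K) + u (dd (c : K)) * t) = Ideal.Quotient.mk _ (u (c : K))
          rw [hdP, map_zero, zero_mul, add_zero] }
    haveI : IsHausdorff (m.map (Ideal.Quotient.mk (m ^ 2))) (C ⧸ m ^ 2) := ⟨fun x hx => by
      have h2 := hx 2
      rw [SModEq.zero, smul_eq_mul, Ideal.mul_top, ← Ideal.map_pow, Ideal.map_quotient_self,
        Ideal.mem_bot] at h2
      exact h2⟩
    obtain ⟨v, -, hv⟩ := Groth.Agent.FSAdic.lift_adicComplete (A := P) (B := K) ⊥ ⊥ m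
      (Groth.Agent.FSAdicDiscrete.isFormallySmoothAdic_of_formallySmooth P K _ _) ⟨1, by simp⟩
      (m ^ 2) ⟨1, by rw [pow_one]; exact Ideal.pow_le_self two_ne_zero⟩ u' ⟨1, by simp⟩
    have hvx : ∀ x, v x - (u x + u (dd x) * t) ∈ m ^ 2 := fun x =>
      Ideal.Quotient.eq.mp (congrArg (fun f => f x) hv)
    have hsec : ∀ x, residue C (v.toRingHom x) = x := fun x => by
      have h1 : v x - u x ∈ m := by
        have := add_mem (Ideal.pow_le_self two_ne_zero (hvx x)) (m.mul_mem_left (u (dd x)) ht)
        convert this using 1
        ring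
      rw [← residue_eq_zero_iff, map_sub, sub_eq_zero, hu] at h1
      exact h1
    have h2 := hvx x₀
    rw [show v x₀ = u x₀ from congrArg (fun f => f x₀) (huniq v.toRingHom hsec)] at h2
    have hunit : IsUnit (u (dd x₀)) := (IsUnit.mk0 _ hdd).map u
    refine ht2 ((Ideal.unit_mul_mem_iff_mem _ hunit).mp ?_)
    convert (m ^ 2).neg_mem h2 using 1
    ring
  · intro hsub v hv
    ext x
    rw [← sub_eq_zero]
    refine IsHausdorff.haus inferInstance (I := m) _ fun n => ?_
    rw [SModEq.zero, smul_eq_mul, Ideal.mul_top]
    induction n generalizing x with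
    | zero => simp
    | succ n ih =>
      rcases Nat.eq_zero_or_pos n with rfl | hn
      · rw [pow_one]; exact hres hv x
      letI : Algebra K C := u.toAlgebra
      let δ : Derivation ℤ K (C ⧸ m ^ (n + 1)) := Derivation.mk'
        ((AddMonoidHom.mk' (fun y => Ideal.Quotient.mk (m ^ (n + 1)) (v y - u y)) fun a b => by
          rw [← map_add]; congr 1; rw [map_add, map_add]; ring).toIntLinearMap)
        fun a b => by
          change Ideal.Quotient.mk _ (v (a * b) - u (a * b)) =
            Ideal.Quotient.mk _ (u a * (v b - u b)) + Ideal.Quotient.mk _ (u b * (v a - u a))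
          rw [← map_add, Ideal.Quotient.eq]
          have h3 : (v a - u a) * (v b - u b) ∈ m ^ (n + 1) :=
            Ideal.pow_le_pow_right (by omega : n + 1 ≤ n + n) (by
              rw [pow_add]; exact Ideal.mul_mem_mul (ih a) (ih b))
          convert h3 using 1
          rw [map_mul, map_mul]; ring
      have h4 : δ x = 0 := @derivation_apply_eq_zero K _ _ _ _ hsub δ x
      exact Ideal.Quotient.eq_zero_iff_mem.mp h4

end Groth.Agent.S2483
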