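import Groth.Statements.S2484
import Groth.Agent.PBasis.Separable

set_option autoImplicit false
universe u
open EGA41

namespace Groth.Agent.S2484

/-- Let K ⊆ E ⊆ F be fields. (i) If F is a separable extension of E, then Υ_{F/E/K} = 0, i.e. the
canonical map Ω_{E/K} ⊗_E F → Ω_{F/K} is injective. (ii) Conversely, if F is separable over K and
this map is injective, then F is separable over E. (Separable means geometrically reduced.) -/
theorem result {K E F : Type u} [Field K] [Field E] [Field F] [Algebra K E] [Algebra E F] [Algebra K F] [IsScalarTower K E F] :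
    (Algebra.IsGeometricallyReduced E F → Function.Injective (KaehlerDifferential.mapBaseChange K E F)) ∧
    (Algebra.IsGeometricallyReduced K F → Function.Injective (KaehlerDifferential.mapBaseChange K E F) → Algebra.IsGeometricallyReduced E F) := by
  have hδ := Algebra.H1Cotangent.exact_δ_mapBaseChange (R := K) (S := E) (T := F)
  refine ⟨fun h => ?_, fun h hi => ?_⟩
  · haveI := Groth.Agent.PBasis.formallySmooth_iff_isGeometricallyReduced.2 h
    rw [← LinearMap.ker_eq_bot, hδ.linearMap_ker_eq, LinearMap.range_eq_bot]
    exact LinearMap.ext fun z => by simp [Subsingleton.elim z 0]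
  · haveI := Groth.Agent.PBasis.formallySmooth_iff_isGeometricallyReduced.2 h
    rw [← Groth.Agent.PBasis.formallySmooth_iff_isGeometricallyReduced]
    refine ⟨inferInstance, subsingleton_of_forall_eq 0 fun z => ?_⟩
    obtain ⟨y, rfl⟩ := (Algebra.H1Cotangent.exact_map_δ (R := K) (S := E) (T := F) z).1
      (hi (by rw [(hδ _).2 ⟨z, rfl⟩, map_zero]))
    simp [Subsingleton.elim y 0]

end Groth.Agent.S2484
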