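import Groth.Statements.S4517
import Groth.Agent.PBasis.Field

set_option autoImplicit false
universe u
open EGA41

namespace Groth.Agent.S4517

open scoped TensorProduct

theorem pow_char_pow {p : ℕ} [Fact p.Prime] {R : Type*} [CommRing R] (hp : (p : R) = 0) (a b : R) :
    ∀ s, (a + b) ^ p ^ s = a ^ p ^ s + b ^ p ^ s
  | 0 => by simp
  | s + 1 => by
    rw [pow_succ, pow_mul, pow_mul, pow_mul, pow_char_pow hp a b s,
      Groth.Agent.PBasis.add_pow_of_cast_eq_zero hp]


/-- Let p be a prime, B an A-algebra of characteristic p, and suppose there is s ≥ 0 such that b^(p^s)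
lies in the image of A for every b ∈ B. Then the kernel of the multiplication map B ⊗_A B → B is a
nil ideal. -/
theorem result (p : ℕ) [Fact p.Prime] {A B : Type u}
    [CommRing A] [CommRing B] [Algebra A B] [CharP B p] (s : ℕ)
    (hpow : ∀ b : B, b ^ p ^ s ∈ Set.range (algebraMap A B)) :
    ∀ x ∈ KaehlerDifferential.ideal A B, IsNilpotent x := by
  intro z hz
  refine ⟨p ^ s, ?_⟩
  have hp : ((p : ℕ) : B ⊗[A] B) = 0 := by
    rw [← map_natCast (algebraMap B (B ⊗[A] B)), CharP.cast_eq_zero, map_zero]
  have key : ∀ w : B ⊗[A] B,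
      w ^ p ^ s = (1 : B) ⊗ₜ[A] (Algebra.TensorProduct.lmul' (S := B) A w ^ p ^ s) := by
    intro w
    induction w using TensorProduct.induction_on with
    | zero => simp [(Fact.out : p.Prime).ne_zero]
    | tmul b c =>
      obtain ⟨a, ha⟩ := hpow b
      rw [Algebra.TensorProduct.tmul_pow, Algebra.TensorProduct.lmul'_apply_tmul, mul_pow, ← ha,
        Algebra.algebraMap_eq_smul_one, TensorProduct.smul_tmul, smul_one_mul]
    | add u v hu hv =>
      have h1 := pow_char_pow hp u v s
      have hB : ((p : ℕ) : B) = 0 := CharP.cast_eq_zero B p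
      rw [h1, hu, hv, map_add, pow_char_pow hB _ _ s, TensorProduct.tmul_add]
  rw [key, show Algebra.TensorProduct.lmul' (S := B) A z = 0 from hz,
    zero_pow (pow_ne_zero _ (Fact.out : p.Prime).ne_zero), TensorProduct.tmul_zero]

end Groth.Agent.S4517
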