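import Groth.Statements.S2485
import Groth.Agent.PBasis.Field
import Groth.Agent.S4517

set_option autoImplicit false
universe u
open EGA41

namespace Groth.Agent.S2485

/-- Let p be a prime and A → B a ring homomorphism making B an A-algebra of finite type, with B of
characteristic p, such that for some s ≥ 0 every p^s-th power of an element of B lies in the image
of A. If Ω_{B/A} = 0 then A → B is surjective. -/
theorem result (p : ℕ) [Fact p.Prime] {A B : Type u} [CommRing A] [CommRing B] [Algebra A B] [CharP B p]
    [Algebra.FiniteType A B] (s : ℕ) (hpow : ∀ b : B, b ^ p ^ s ∈ Set.range (algebraMap A B)) [Subsingleton (Ω[B⁄A])] :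
    Function.Surjective (algebraMap A B) := by
  haveI : Algebra.IsIntegral A B := ⟨fun b => by
    obtain ⟨a, ha⟩ := hpow b
    exact IsIntegral.of_pow (pow_pos (Fact.out : p.Prime).pos s) (ha ▸ isIntegral_algebraMap)⟩
  haveI : Module.Finite A B := Algebra.IsIntegral.finite
  rw [← Algebra.isEpi_iff_surjective_algebraMap_of_finite, Algebra.isEpi_iff_forall_one_tmul_eq]
  intro b
  obtain ⟨e, he, hIe⟩ := (Ideal.isIdempotentElem_iff_of_fg _ (KaehlerDifferential.ideal_fg A B)).1
    ((Ideal.cotangent_subsingleton_iff _).1
      (show Subsingleton (KaehlerDifferential.ideal A B).Cotangent from ‹Subsingleton (Ω[B⁄A])›))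
  obtain ⟨n, hn⟩ := Groth.Agent.S4517.result p s hpow e (hIe ▸ Ideal.mem_span_singleton_self e)
  have he0 : e = 0 := he.eq_zero_of_isNilpotent ⟨n, hn⟩
  have hmem := KaehlerDifferential.one_smul_sub_smul_one_mem_ideal A (S := B) b
  rw [hIe, he0] at hmem
  simp only [Submodule.mem_span_singleton, smul_zero, exists_const] at hmem
  exact sub_eq_zero.1 hmem.symm

end Groth.Agent.S2485
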