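import Groth.Statements.S2486
import Groth.Agent.PBasis.Field
import Groth.Agent.S2485

set_option autoImplicit false
universe u
open EGA41

namespace Groth.Agent.S2486

/-- Let p be a prime, B an A-algebra of characteristic p and (x_α) a family of elements of B. Then (a) B
is generated as an A[B^p]-algebra by the x_α if and only if (b) (x_α) is a system of p-generators of
B over A; these imply (c) Ω_{B/A} is generated by the d x_α; and if B is an A[B^p]-algebra of finite
type, (c) implies (a). -/
theorem result (p : ℕ) [Fact p.Prime] {A B : Type u} [CommRing A] [CommRing B] [Algebra A B] [CharP B p]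
    {ι : Type u} (x : ι → B) :
    (Algebra.adjoin (EGA41.pPowerSubalgebra p A B) (Set.range x) = ⊤ ↔ EGA41.IsPGenerating p A x) ∧
    (EGA41.IsPGenerating p A x → Submodule.span B (Set.range fun i => KaehlerDifferential.D A B (x i)) = ⊤) ∧
    (Algebra.FiniteType (EGA41.pPowerSubalgebra p A B) B →
      Submodule.span B (Set.range fun i => KaehlerDifferential.D A B (x i)) = ⊤ → EGA41.IsPGenerating p A x) := by
  classical
  have hp : p ≠ 0 := (Fact.out : p.Prime).ne_zero
  have hspan : EGA41.IsPGenerating p A x →
      Submodule.span B (Set.range fun i => KaehlerDifferential.D A B (x i)) = ⊤ := by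
    intro hx
    rw [← top_le_iff, ← KaehlerDifferential.span_range_derivation A B, Submodule.span_le]
    rintro _ ⟨y, rfl⟩
    have h0 : ∀ b ∈ EGA41.pPowerSubalgebra p A B, KaehlerDifferential.D A B b = 0 := fun b hb => by
      induction hb using Algebra.adjoin_induction with
      | mem _ hb =>
        obtain ⟨c, rfl⟩ := hb
        rw [Derivation.leibniz_pow, ← Nat.cast_smul_eq_nsmul B, CharP.cast_eq_zero, zero_smul]
      | algebraMap a => simp
      | add _ _ _ _ h1 h2 => simp [h1, h2]
      | mul _ _ _ _ h1 h2 => simp [h1, h2]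
    have hy : y ∈ Algebra.adjoin (EGA41.pPowerSubalgebra p A B) (Set.range x) := by
      rw [(Groth.Agent.PBasis.isPGenerating_iff hp x).1 hx]; trivial
    induction hy using Algebra.adjoin_induction with
    | mem _ hy => obtain ⟨i, rfl⟩ := hy; exact Submodule.subset_span ⟨i, rfl⟩
    | algebraMap a =>
      rw [SetLike.mem_coe, show KaehlerDifferential.D A B (algebraMap _ B a) = 0 from h0 _ a.2]
      exact Submodule.zero_mem _
    | add _ _ _ _ h1 h2 =>
      rw [SetLike.mem_coe, map_add]; exact Submodule.add_mem _ h1 h2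
    | mul a b _ _ h1 h2 =>
      rw [SetLike.mem_coe, Derivation.leibniz]
      exact Submodule.add_mem _ (Submodule.smul_mem _ a h2) (Submodule.smul_mem _ b h1)
  refine ⟨(Groth.Agent.PBasis.isPGenerating_iff hp x).symm, hspan, fun hft hc => ?_⟩
  rw [Groth.Agent.PBasis.isPGenerating_iff hp x]
  let B' : Subalgebra A B := (Algebra.adjoin (EGA41.pPowerSubalgebra p A B) (Set.range x)).restrictScalars A
  have hle : ∀ a : EGA41.pPowerSubalgebra p A B, (a : B) ∈ B' :=
    fun a => (Algebra.adjoin (EGA41.pPowerSubalgebra p A B) (Set.range x)).algebraMap_mem a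
  haveI : Algebra.FiniteType B' B := by
    obtain ⟨s, hs⟩ := hft.out
    refine ⟨⟨s, top_unique fun b hb0 => ?_⟩⟩
    clear hb0
    have hb : b ∈ Algebra.adjoin (EGA41.pPowerSubalgebra p A B) (s : Set B) := by rw [hs]; trivial
    induction hb using Algebra.adjoin_induction with
    | mem _ h => exact Algebra.subset_adjoin h
    | algebraMap a => exact (Algebra.adjoin B' (s : Set B)).algebraMap_mem ⟨a, hle a⟩
    | add _ _ _ _ h1 h2 => exact Subalgebra.add_mem _ h1 h2
    | mul _ _ _ _ h1 h2 => exact Subalgebra.mul_mem _ h1 h2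
  haveI : Subsingleton (Ω[B⁄B']) := by
    refine subsingleton_of_forall_eq 0 fun z => ?_
    obtain ⟨w, rfl⟩ := KaehlerDifferential.map_surjective_of_surjective A B' B B
      Function.surjective_id z
    have hw : w ∈ Submodule.span B (Set.range fun i => KaehlerDifferential.D A B (x i)) := by
      rw [hc]; trivial
    induction hw using Submodule.span_induction with
    | mem _ h =>
      obtain ⟨i, rfl⟩ := h
      rw [KaehlerDifferential.map_D, Algebra.algebraMap_self, RingHom.id_apply]
      exact (KaehlerDifferential.D B' B).map_algebraMap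
        ⟨x i, Algebra.subset_adjoin (s := Set.range x) ⟨i, rfl⟩⟩
    | zero => simp
    | add _ _ _ _ h1 h2 => simp [h1, h2]
    | smul b _ _ h => rw [map_smul, h, smul_zero]
  have hsurj := Groth.Agent.S2485.result p (A := B') (B := B) 1 fun b =>
    ⟨⟨b ^ p ^ 1, by rw [pow_one]; exact hle ⟨b ^ p, Algebra.subset_adjoin ⟨b, rfl⟩⟩⟩, rfl⟩
  refine top_unique fun b _ => ?_
  obtain ⟨⟨b', hb'⟩, rfl⟩ := hsurj b
  exact hb'

end Groth.Agent.S2486
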