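import Groth.Statements.S2487
import Groth.Agent.CAlgAndre.LiftQuot

set_option autoImplicit false
universe u
open EGA41

namespace Groth.Agent.S2487

open IsLocalRing TensorProduct in
/-- Let A be a Noetherian local ring, J an ideal contained in the maximal ideal, A₀ = A/J, and B₀ a
complete Noetherian local ring with a local homomorphism A₀ → B₀ making B₀ formally smooth over A₀
(adic topologies). Then (existence) there are a complete Noetherian local ring B, a local
homomorphism A → B making B a flat A-module, and an A₀-algebra isomorphism u : A₀ ⊗_A B ≅ B₀;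
(uniqueness) if (B', u') is another such pair, there is an A-algebra isomorphism v : B ≅ B' with u'
∘ (1 ⊗ v) = u. -/
theorem result {A : Type u} [CommRing A] [IsLocalRing A] [IsNoetherianRing A]
    (J : Ideal A) (hJ : J ≤ maximalIdeal A) [IsLocalRing (A ⧸ J)]
    (B₀ : Type u) [CommRing B₀] [IsLocalRing B₀] [IsNoetherianRing B₀] [IsAdicComplete (maximalIdeal B₀) B₀]
    [Algebra (A ⧸ J) B₀] [IsLocalHom (algebraMap (A ⧸ J) B₀)]
    (hfs : EGA41.IsFormallySmoothAdic (A ⧸ J) (maximalIdeal (A ⧸ J)) B₀ (maximalIdeal B₀)) :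
    (∃ (B : Type u) (_ : CommRing B) (_ : IsLocalRing B) (_ : IsNoetherianRing B) (_ : Algebra A B) (_ : IsLocalHom (algebraMap A B)),
      IsAdicComplete (maximalIdeal B) B ∧ Module.Flat A B ∧ Nonempty ((A ⧸ J) ⊗[A] B ≃ₐ[A ⧸ J] B₀)) ∧
    ∀ (B B' : Type u) [CommRing B] [IsLocalRing B] [IsNoetherianRing B] [Algebra A B] [IsLocalHom (algebraMap A B)]
      [CommRing B'] [IsLocalRing B'] [IsNoetherianRing B'] [Algebra A B'] [IsLocalHom (algebraMap A B')],
      IsAdicComplete (maximalIdeal B) B → Module.Flat A B → IsAdicComplete (maximalIdeal B') B' → Module.Flat A B' →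
      ∀ (u : (A ⧸ J) ⊗[A] B ≃ₐ[A ⧸ J] B₀) (u' : (A ⧸ J) ⊗[A] B' ≃ₐ[A ⧸ J] B₀),
      ∃ v : B ≃ₐ[A] B', (u' : (A ⧸ J) ⊗[A] B' →ₐ[A ⧸ J] B₀).comp
          (Algebra.TensorProduct.map (AlgHom.id (A ⧸ J) (A ⧸ J)) (v : B →ₐ[A] B')) = (u : (A ⧸ J) ⊗[A] B →ₐ[A ⧸ J] B₀) := by
  open Groth.Agent.CAlgAndre in

  have h₀ : CAlgX.IsAdicFormallySmooth (A ⧸ J) B₀ (maximalIdeal B₀) :=
    discrete_of_adic ⟨1, by rw [pow_one]; exact map_maximalIdeal_le _ _⟩ hfs
  refine ⟨?_, ?_⟩
  · obtain ⟨B, _, _, hn, _, hl, p, hc, hf, hp, hpa, hker⟩ := exists_flat_lift J hJ B₀ h₀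
    refine ⟨B, inferInstance, inferInstance, hn, inferInstance, hl, hc, hf, ⟨?_⟩⟩
    refine AlgEquiv.ofRingEquiv (f := (quotTensorEquiv A B J).symm.toRingEquiv.trans
      ((Ideal.quotEquivOfEq hker.symm).trans (RingHom.quotientKerEquivOfSurjective hp))) fun x => ?_
    obtain ⟨a, rfl⟩ := Ideal.Quotient.mk_surjective x
    show (Ideal.quotEquivOfEq hker.symm).trans (RingHom.quotientKerEquivOfSurjective hp)
      ((quotTensorEquiv A B J).symm (algebraMap (A ⧸ J) _ (Ideal.Quotient.mk J a))) = _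
    rw [AlgEquiv.commutes]
    exact hpa a
  · intro B B' _ _ _ _ _ _ _ _ _ _ hBc hBf hB'c hB'f u u'
    haveI := hBc; haveI := hBf; haveI := hB'c; haveI := hB'f
    let e := (quotTensorEquiv A B J).trans u
    let e' := (quotTensorEquiv A B' J).trans u'
    let p : B →+* B₀ := e.toRingEquiv.toRingHom.comp (Ideal.Quotient.mk _)
    have hpa : ∀ a, p (algebraMap A B a) = algebraMap (A ⧸ J) B₀ (Ideal.Quotient.mk J a) := fun a =>
      e.commutes (Ideal.Quotient.mk J a)
    have hker : RingHom.ker p = J.map (algebraMap A B) := Ideal.ext fun b => by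
      rw [RingHom.mem_ker, ← Ideal.Quotient.eq_zero_iff_mem]
      exact ⟨fun h => e.injective (h.trans (map_zero e).symm), fun h => by
        show e _ = 0
        rw [h, map_zero]⟩
    have hB : CAlgX.IsAdicFormallySmooth A B (maximalIdeal B) :=
      discrete_of_flat_lift J hJ h₀ p (e.surjective.comp Ideal.Quotient.mk_surjective) hpa hker
    let u₀ : B →ₐ[A] B' ⧸ J.map (algebraMap A B') :=
      { (e.trans e'.symm).toRingEquiv.toRingHom.comp (Ideal.Quotient.mk _) with
        commutes' := fun a => (e.trans e'.symm).commutes (Ideal.Quotient.mk J a) }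
    obtain ⟨v, hv, hvu⟩ := exists_surjective_lift hB J hJ u₀ ((e.trans e'.symm).surjective.comp Ideal.Quotient.mk_surjective)
    have hinj : Function.Injective v := injective_of_flat v hv J
      (((Ideal.map_mono hJ).trans (map_maximalIdeal_le A B)).trans (maximalIdeal_le_jacobson _)) fun b hb => by
        rw [← Ideal.Quotient.eq_zero_iff_mem]
        refine (e.trans e'.symm).injective ?_
        rw [map_zero]
        exact (hvu b).symm.trans (by rw [hb, map_zero])
    refine ⟨AlgEquiv.ofBijective v ⟨hinj, hv⟩, AlgHom.ext fun x => ?_⟩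
    induction x using TensorProduct.induction_on with
    | zero => simp
    | tmul c b =>
      obtain ⟨a, rfl⟩ := Ideal.Quotient.mk_surjective c
      have h1 : (Ideal.Quotient.mk J a ⊗ₜ[A] b : (A ⧸ J) ⊗[A] B) = a • ((1 : A ⧸ J) ⊗ₜ[A] b) := by
        rw [TensorProduct.smul_tmul', ← Algebra.algebraMap_eq_smul_one, Ideal.Quotient.algebraMap_eq]
      have h1' : (Ideal.Quotient.mk J a ⊗ₜ[A] v b : (A ⧸ J) ⊗[A] B') = a • ((1 : A ⧸ J) ⊗ₜ[A] v b) := by
        rw [TensorProduct.smul_tmul', ← Algebra.algebraMap_eq_smul_one, Ideal.Quotient.algebraMap_eq]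
      show u' (Ideal.Quotient.mk J a ⊗ₜ[A] v b) = u (Ideal.Quotient.mk J a ⊗ₜ[A] b)
      rw [h1, h1', ← quotTensorEquiv_mk, ← quotTensorEquiv_mk, ← IsScalarTower.algebraMap_smul (A ⧸ J) a,
        ← IsScalarTower.algebraMap_smul (A ⧸ J) a, map_smul, map_smul, hvu]
      exact congrArg _ (e'.apply_symm_apply _)
    | add x y hx hy => simp only [map_add, hx, hy]

end Groth.Agent.S2487
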