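import Groth.Statements.S4628
import Groth.Agent.GeomRed.Alg
import Mathlib


set_option autoImplicit false
open CategoryTheory AlgebraicGeometry
universe u
open FBase

namespace Groth.Agent.S4628

open CategoryTheory.Limits in
/-- Let X be a scheme over a field k which is geometrically reduced (X ⊗_k K is reduced for every
extension field K of k), and let S be any reduced scheme over k. Then the product X ×_k S is
reduced. (No Noetherian or finiteness assumption on S.) -/
theorem result {k : Type u} [Field k] {X S : Scheme.{u}}
    (f : X ⟶ Spec (CommRingCat.of k)) (g : S ⟶ Spec (CommRingCat.of k)) [GeometricallyReduced f]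
    [AlgebraicGeometry.IsReduced S] : AlgebraicGeometry.IsReduced (pullback f g) := by
  apply +allowSynthFailures @IsReduced.of_openCover _
    (Scheme.Pullback.openCoverOfLeftRight X.affineOpenCover.openCover S.affineOpenCover.openCover f g)
  intro ij
  suffices ∀ (a : X.affineOpenCover.I₀) (b : S.affineOpenCover.I₀),
      AlgebraicGeometry.IsReduced
        (pullback (X.affineOpenCover.f a ≫ f) (S.affineOpenCover.f b ≫ g)) from this _ _
  intro a b
  have hgeom : ∀ (K : Type u) [Field K] (y : Spec (CommRingCat.of K) ⟶ Spec (CommRingCat.of k)),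
      AlgebraicGeometry.IsReduced (pullback (X.affineOpenCover.f a ≫ f) y) := fun K _ y => by
    haveI : AlgebraicGeometry.IsReduced (pullback f y) :=
      GeometricallyReduced.geometrically_isReduced (f := f) y _ _ (.of_hasPullback _ _)
    haveI : IsOpenImmersion (pullback.map (X.affineOpenCover.f a ≫ f) y f y (X.affineOpenCover.f a)
        (𝟙 _) (𝟙 _) (by simp) (by simp)) := inferInstance
    exact isReduced_of_isOpenImmersion (pullback.map (X.affineOpenCover.f a ≫ f) y f y
      (X.affineOpenCover.f a) (𝟙 _) (𝟙 _) _ _)
  obtain ⟨φ, hφ⟩ := Spec.map_surjective (X.affineOpenCover.f a ≫ f)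
  obtain ⟨ψ, hψ⟩ := Spec.map_surjective (S.affineOpenCover.f b ≫ g)
  rw [← hφ] at hgeom
  rw [← hφ, ← hψ]
  haveI := affine_isReduced_iff _ |>.mp (isReduced_of_isOpenImmersion (S.affineOpenCover.f b))
  algebraize [φ.hom, ψ.hom]
  let A := X.affineOpenCover.X a
  let B := S.affineOpenCover.X b
  haveI : ∀ p : PrimeSpectrum B, _root_.IsReduced (TensorProduct k A p.asIdeal.ResidueField) := fun p => by
    haveI := hgeom p.asIdeal.ResidueField
      (Spec.map (CommRingCat.ofHom (algebraMap k p.asIdeal.ResidueField)))
    exact affine_isReduced_iff (.of (TensorProduct k A p.asIdeal.ResidueField)) |>.mp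
      (isReduced_of_isOpenImmersion (pullbackSpecIso k A p.asIdeal.ResidueField).inv)
  haveI : _root_.IsReduced (TensorProduct k A B) := by
    refine Groth.Agent.GeomRed.isReduced_baseChange_of_family (F := fun p : PrimeSpectrum B => p.asIdeal.ResidueField)
      (fun p => IsScalarTower.toAlgHom k B p.asIdeal.ResidueField) fun a ha => ?_
    apply IsNilpotent.eq_zero
    rw [nilpotent_iff_mem_prime]
    intro J hJ
    exact Ideal.algebraMap_residueField_eq_zero.1 (ha ⟨J, hJ⟩)
  haveI := affine_isReduced_iff (.of (TensorProduct k A B)) |>.mpr ‹_›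
  exact isReduced_of_isOpenImmersion (pullbackSpecIso k A B).hom

end Groth.Agent.S4628
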