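import Groth.Statements.S9583
import Mathlib
import Groth.Agent.WeakAss.Basic
-- import your own Groth.Agent.* helpers here

set_option autoImplicit false
universe u
open CAlg

namespace Groth.Agent.S9583

/-- For a ring R and a short exact sequence 0 → M' → M → M'' → 0 of R-modules, every prime weakly
associated to M' is weakly associated to M, and every prime weakly associated to M is weakly
associated to M' or to M''. -/
theorem result {R : Type u} [CommRing R] {M' M M'' : Type u} [AddCommGroup M'] [Module R M'] [AddCommGroup M] [Module R M] [AddCommGroup M''] [Module R M''] (f : M' →ₗ[R] M) (g : M →ₗ[R] M'') (hf : Function.Injective f) (hg : Function.Surjective g) (hfg : Function.Exact f g) :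
    FlatCA.weakAss R M' ⊆ FlatCA.weakAss R M ∧ FlatCA.weakAss R M ⊆ FlatCA.weakAss R M' ∪ FlatCA.weakAss R M'' := by
  refine ⟨Groth.Agent.WeakAss.weakAss_mono f hf, fun p hp => ?_⟩
  obtain ⟨hp', m, h1, h2⟩ := Groth.Agent.WeakAss.mem_weakAss_iff.mp hp
  by_cases hc : ∀ r : R, r • g m = 0 → r ∈ p
  · right
    refine Groth.Agent.WeakAss.mem_weakAss_iff.mpr ⟨hp', g m, hc, fun a ha => ?_⟩
    obtain ⟨s, hs, n, hn⟩ := h2 a ha
    exact ⟨s, hs, n, by rw [← map_smul, hn, map_zero]⟩
  · left
    push Not at hc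
    obtain ⟨t, ht, htp⟩ := hc
    obtain ⟨m', hm'⟩ := (hfg (t • m)).mp (by rw [map_smul, ht])
    refine Groth.Agent.WeakAss.mem_weakAss_iff.mpr ⟨hp', m', fun r hr => ?_, fun a ha => ?_⟩
    · refine (hp'.mem_or_mem (h1 (r * t) ?_)).resolve_right htp
      rw [mul_smul, ← hm', ← map_smul, hr, map_zero]
    · obtain ⟨s, hs, n, hn⟩ := h2 a ha
      exact ⟨s, hs, n, hf (by rw [map_smul, hm', smul_comm, hn, smul_zero, map_zero])⟩

end Groth.Agent.S9583
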