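import Groth.Statements.S2556
import Groth.Agent.S4938
import Groth.Agent.Chevalley.Equiv
import Groth.Agent.EquidimChart.Section
import Groth.Agent.AlgSpDesc.LqfFibre
import Mathlib

set_option autoImplicit false
open CategoryTheory AlgebraicGeometry
universe u
open EGA43

set_option backward.isDefEq.respectTransparency.types false
set_option linter.style.haveILetI false
namespace Groth.Agent.S2556

open Groth.Agent Groth.Agent.DimTheory Groth.Agent.EquidimChart


/-- Suppose Y is a locally Noetherian scheme whose local rings are all geometrically unibranch, and f :
X ⟶ Y is locally of finite type. Then f is universally open exactly when its underlying map of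
spaces is open. -/
theorem result {X Y : Scheme.{u}} [IsLocallyNoetherian Y]
    (hY : ∀ y : Y, CAlg2.IsGeomUnibranch (Y.presheaf.stalk y)) (f : X ⟶ Y) [LocallyOfFiniteType f] :
    UniversallyOpen f ↔ IsOpenMap f.base := by
  refine ⟨fun h => f.isOpenMap, fun h => Chevalley.universallyOpen_of_forall f fun x => ?_⟩
  have hT := (S4938.result f (f x) (hY _)).out 3 0
  refine hT.mp (fun x' _ => ?_) x rfl
  intro U hU
  exact h.image_mem_nhds hU

end Groth.Agent.S2556
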