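import Groth.Statements.S2557
import Groth.Agent.Chevalley.FiniteBaseChange
import Mathlib

set_option autoImplicit false
open CategoryTheory AlgebraicGeometry
universe u
open EGA43

set_option backward.isDefEq.respectTransparency.types false
set_option linter.style.haveILetI false
namespace Groth.Agent.S2557

open Groth.Agent Groth.Agent.DimTheory Groth.Agent.EquidimChart


open CategoryTheory.Limits in
/-- Let Y be a Noetherian scheme and f : X ⟶ Y locally of finite type. Then f is universally open if and
only if, for every finite morphism Y₁ ⟶ Y, the base change X ×_Y Y₁ ⟶ Y₁ is an open map. -/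
theorem result {X Y : Scheme.{u}} [IsNoetherian Y] (f : X ⟶ Y)
    [LocallyOfFiniteType f] :
    UniversallyOpen f ↔
      ∀ (Y₁ : Scheme.{u}) (g : Y₁ ⟶ Y) [IsFinite g], IsOpenMap (pullback.snd f g).base := by
  refine ⟨fun h Y₁ g _ => ?_, fun h => Chevalley.universallyOpen_of_forall f fun x => ?_⟩
  · haveI : UniversallyOpen (CategoryTheory.Limits.pullback.snd f g) :=
      MorphismProperty.pullback_snd (P := @UniversallyOpen) f g h
    exact (CategoryTheory.Limits.pullback.snd f g).isOpenMap
  · refine Chevalley.isUnivOpenAt_of_fibreMax f x fun m _ _ hm =>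
      Chevalley.isUnivOpenAt_of_finite f m hm fun Y' g _ x' _ => fun U hU => ?_
    exact (h Y' g).image_mem_nhds hU

end Groth.Agent.S2557
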