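import Groth.Statements.S2558
import Groth.Agent.Chevalley.LiftFP
import Mathlib

set_option autoImplicit false
open CategoryTheory AlgebraicGeometry
universe u
open EGA43

set_option backward.isDefEq.respectTransparency.types false
namespace Groth.Agent.S2558

open Groth.Agent Groth.Agent.DimTheory


open CategoryTheory.Limits in
/-- Let f : X ⟶ Y be locally of finite presentation. Suppose that for every irreducible scheme Y' and
every morphism of finite type g : Y' ⟶ Y, each irreducible component of X ×_Y Y' has dense image in
Y'. Then f is universally open. -/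
theorem result {X Y : Scheme.{u}} (f : X ⟶ Y) [LocallyOfFinitePresentation f]
    (h : ∀ (Y' : Scheme.{u}) (g : Y' ⟶ Y) [IrreducibleSpace Y'] [LocallyOfFiniteType g] [QuasiCompact g],
      ∀ Z ∈ irreducibleComponents (↥(pullback f g) : Type u), Dense ((pullback.snd f g).base '' Z)) :
    UniversallyOpen f := by
  refine Chevalley.universallyOpen_of_forall f fun x => Chevalley.isUnivOpenAt_of_ftLift f x ?_
  intro Y₁ g _ _ _ x' _
  have hZ := irreducibleComponent_mem_irreducibleComponents x'
  obtain ⟨ζ, hζ⟩ := Chevalley.exists_generic hZ
  refine ⟨ζ, specializes_iff_mem_closure.2 (hζ.symm ▸ mem_irreducibleComponent), ?_⟩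
  have hd := h Y₁ g _ hZ
  rw [← hζ] at hd
  have h2 : closure ((CategoryTheory.Limits.pullback.snd f g).base '' closure {ζ}) ⊆
      closure {(CategoryTheory.Limits.pullback.snd f g) ζ} :=
    closure_minimal ((image_closure_subset_closure_image (CategoryTheory.Limits.pullback.snd f g).continuous).trans
      (by rw [Set.image_singleton])) isClosed_closure
  exact ((genericPoint_specializes _).antisymm (specializes_iff_mem_closure.2 (h2 (hd (genericPoint Y₁))))).eq.symm

end Groth.Agent.S2558
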