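import Groth.Statements.S2559
import Groth.Agent.EquidimChart.DimOpen
import Groth.Agent.CMAux.DimIneq
import Groth.Agent.FlatLocalDepth.FibreStalk
import Mathlib

set_option autoImplicit false
open CategoryTheory AlgebraicGeometry
universe u
open EGA43

set_option backward.isDefEq.respectTransparency.types false
namespace Groth.Agent.S2559

open AlgebraicGeometry CategoryTheory in
theorem exists_over_gen {X Y : Scheme.{u}} [IsLocallyNoetherian X] (f : X ⟶ Y) (z : X)
    (hz : EGA43.IsOpenAt f.base z) {y' : Y} (hy : y' ⤳ f z) : ∃ u : X, u ⤳ z ∧ f u = y' := by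
  obtain ⟨U, hU, hzU, -⟩ := exists_isAffineOpen_mem_and_subset (X := X) (x := z) (U := ⊤) trivial
  haveI : IsNoetherianRing Γ(X, U) := IsLocallyNoetherian.component_noetherian ⟨U, hU⟩
  haveI := noetherianSpace_of_isAffineOpen U hU
  haveI : IsAffine (U : Scheme.{u}) := hU
  let T : Set (U : Scheme.{u}) := U.ι ⁻¹' (f.base ⁻¹' {y'})
  let z' : (U : Scheme.{u}) := ⟨z, hzU⟩
  have hzT : z' ∈ closure T := by
    refine mem_closure_iff.2 fun O hO hzO => ?_
    have h1 := hz _ ((U.ι.isOpenEmbedding.isOpenMap O hO).mem_nhds ⟨z', hzO, rfl⟩)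
    obtain ⟨W, hW, hWo, hzW⟩ := mem_nhds_iff.1 h1
    obtain ⟨a, ⟨b, hb, rfl⟩, hab⟩ := hW (hy.mem_open hWo hzW)
    exact ⟨b, hb, hab⟩
  obtain ⟨F, hF, hFc, hFi, hFT⟩ := TopologicalSpace.NoetherianSpace.exists_finite_set_isClosed_irreducible (isClosed_closure (s := T))
  obtain ⟨Z₀, hZ₀, hzZ₀⟩ := Set.mem_sUnion.1 (hFT ▸ hzT)
  obtain ⟨Z, hle, hmax⟩ := hF.exists_le_maximal hZ₀
  obtain ⟨ζ, hζ⟩ := QuasiSober.sober (hFi Z hmax.1) (hFc Z hmax.1)
  let R : Set (U : Scheme.{u}) := ⋃ Z' ∈ {Z' ∈ F | ζ ∉ Z'}, Z'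
  have hR : IsClosed R := (hF.subset fun _ h => h.1).isClosed_biUnion fun Z' h => hFc Z' h.1
  have hζR : ζ ∉ R := by
    intro h
    obtain ⟨Z', ⟨-, hn⟩, hm⟩ := Set.mem_iUnion₂.1 h
    exact hn hm
  have hζT : ζ ∈ closure T := by rw [hFT]; exact ⟨Z, hmax.1, hζ.mem⟩
  obtain ⟨b, hbR, hbT⟩ := mem_closure_iff.1 hζT Rᶜ hR.isOpen_compl hζR
  obtain ⟨Z', hZ', hbZ'⟩ := Set.mem_sUnion.1 (hFT ▸ subset_closure hbT)
  have hζZ' : ζ ∈ Z' := by
    by_contra h
    exact hbR (Set.mem_iUnion₂.2 ⟨Z', ⟨hZ', h⟩, hbZ'⟩)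
  have hbZ : b ∈ Z := hmax.2 hZ' (hζ.def ▸ closure_minimal (Set.singleton_subset_iff.2 hζZ') (hFc Z' hZ')) hbZ'
  refine ⟨U.ι ζ, (hζ.specializes (hle hzZ₀)).map U.ι.continuous, ?_⟩
  have hs1 : f (U.ι ζ) ⤳ y' := by
    rw [← show f (U.ι b) = y' from hbT]
    exact ((hζ.specializes hbZ).map U.ι.continuous).map f.continuous
  have hs2 : y' ⤳ f (U.ι ζ) := by
    refine specializes_iff_mem_closure.2 ?_
    have h : f (U.ι ζ) ∈ closure ((U.ι ≫ f).base '' T) := by
      rw [← Scheme.Hom.comp_apply]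
      exact image_closure_subset_closure_image (U.ι ≫ f).continuous ⟨ζ, hζT, rfl⟩
    refine closure_mono ?_ h
    rintro _ ⟨t, ht, rfl⟩
    rw [Set.mem_singleton_iff, Scheme.Hom.comp_apply]
    exact ht
  exact (hs1.antisymm hs2).eq

open IsLocalRing in
theorem dim_add_le {A B : Type u} [CommRing A] [CommRing B] [IsNoetherianRing A] [IsNoetherianRing B]
    [IsLocalRing A] [IsLocalRing B] [Algebra A B] [IsLocalHom (algebraMap A B)]
    (h : ∀ Q : Ideal B, Q ∈ ((maximalIdeal A).map (algebraMap A B)).minimalPrimes → ∀ q : Ideal A, q.IsPrime →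
      ∃ Q' : Ideal B, Q'.IsPrime ∧ Q' ≤ Q ∧ Q'.comap (algebraMap A B) = q) :
    ringKrullDim A + ringKrullDim (B ⧸ (maximalIdeal A).map (algebraMap A B)) ≤ ringKrullDim B := by
  set J := (maximalIdeal A).map (algebraMap A B) with hJ
  have hJle : J ≤ maximalIdeal B := ((local_hom_TFAE (algebraMap A B)).out 0 2 rfl rfl).1 inferInstance
  haveI : Nontrivial (B ⧸ J) := Ideal.Quotient.nontrivial_iff.2 (ne_top_of_le_ne_top (maximalIdeal.isMaximal B).ne_top hJle)
  haveI : IsLocalRing (B ⧸ J) := IsLocalRing.of_surjective' _ Ideal.Quotient.mk_surjective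
  obtain ⟨d, hd⟩ := Groth.Agent.LeadFCat.exists_dim (B ⧸ J)
  obtain ⟨l, hl⟩ := Order.le_krullDim_iff.1 (show (d : WithBot ℕ∞) ≤ Order.krullDim (PrimeSpectrum (B ⧸ J)) from hd.ge)
  let c : PrimeSpectrum (B ⧸ J) → PrimeSpectrum B := PrimeSpectrum.comap (Ideal.Quotient.mk J)
  have hc : StrictMono c := by
    refine Monotone.strictMono_of_injective (fun a b hab x hx => hab hx) ?_
    exact PrimeSpectrum.comap_injective_of_surjective _ Ideal.Quotient.mk_surjective
  have hJc : J ≤ (c l.head).asIdeal := fun x hx => by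
    show Ideal.Quotient.mk J x ∈ l.head.asIdeal
    rw [Ideal.Quotient.eq_zero_iff_mem.2 hx]
    exact Submodule.zero_mem _
  obtain ⟨Q, hQ, hQle⟩ := Ideal.exists_minimalPrimes_le hJc
  haveI := hQ.1.1
  let x : PrimeSpectrum B := ⟨Q, inferInstance⟩
  have h1 : (d : ℕ∞) ≤ Order.coheight x := by
    refine le_trans ?_ (Order.coheight_anti (show x ≤ c l.head from hQle))
    have := Order.length_le_coheight_head (p := l.map c hc)
    rw [LTSeries.head_map, LTSeries.map_length, hl] at this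
    exact this
  have hAQ : ringKrullDim A ≤ (Q.height : WithBot ℕ∞) := by
    rw [← IsLocalization.AtPrime.ringKrullDim_eq_height Q (Localization.AtPrime Q)]
    obtain ⟨s, hs⟩ := Groth.Agent.LeadFCat.exists_dim (Localization.AtPrime Q)
    rw [hs]
    refine Groth.Agent.EquidimChart.ringKrullDim_le_of_surjective_comap s (A := A) (B := Localization.AtPrime Q) ?_ ?_ hs.le
    · intro q hq
      obtain ⟨Q', hQ', hQ'le, hQ'c⟩ := h Q hQ q hq
      haveI := hQ'
      have hdisj : Disjoint (Q.primeCompl : Set B) Q' := Set.disjoint_left.2 fun a ha ha' => ha (hQ'le ha')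
      refine ⟨Q'.map (algebraMap B (Localization.AtPrime Q)), IsLocalization.isPrime_of_isPrime_disjoint Q.primeCompl _ Q' hQ' hdisj, ?_⟩
      rw [IsScalarTower.algebraMap_eq A B (Localization.AtPrime Q), ← Ideal.comap_comap,
        show Ideal.comap (algebraMap B (Localization.AtPrime Q)) (Q'.map (algebraMap B (Localization.AtPrime Q))) = Q' from
          IsLocalization.comap_map_of_isPrime_disjoint Q.primeCompl _ hQ' hdisj, hQ'c]
    · intro P hP hPc
      haveI := hP
      have hJP : J ≤ P.comap (algebraMap B (Localization.AtPrime Q)) := by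
        rw [hJ, Ideal.map_le_iff_le_comap, Ideal.comap_comap, ← IsScalarTower.algebraMap_eq, hPc]
      have hPQ : P.comap (algebraMap B (Localization.AtPrime Q)) ≤ Q := by
        exact (Ideal.comap_mono (IsLocalRing.le_maximalIdeal hP.ne_top)).trans
          (IsLocalization.AtPrime.under_maximalIdeal (Localization.AtPrime Q) Q).le
      have he : Q ≤ P.comap (algebraMap B (Localization.AtPrime Q)) := hQ.2 ⟨hP.comap _, hJP⟩ hPQ
      refine le_antisymm (IsLocalRing.le_maximalIdeal hP.ne_top) ?_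
      rw [← IsLocalization.map_comap Q.primeCompl (Localization.AtPrime Q) P,
        ← Localization.AtPrime.map_eq_maximalIdeal]
      exact Ideal.map_mono he
  have h2 : (Q.height : WithBot ℕ∞) + (Order.coheight x : WithBot ℕ∞) ≤ ringKrullDim B := by
    rw [ringKrullDim, Order.krullDim_eq_iSup_height_add_coheight_of_nonempty,
      show Q.height = Order.height x from PrimeSpectrum.height_eq_orderHeight x, ← WithBot.coe_add, WithBot.coe_le_coe]
    exact le_iSup (fun a : PrimeSpectrum B => Order.height a + Order.coheight a) x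
  refine le_trans (add_le_add hAQ ?_) h2
  rw [hd]
  exact_mod_cast h1


/-- Let f : X ⟶ Y be a morphism of locally Noetherian schemes, x a point of X and y = f x. Suppose f is
open at the generic point of every irreducible component of the fibre over y passing through x. Then
dim O_{X,x} = dim O_{Y,y} + dim O_{X_y,x}. -/
theorem result {X Y : Scheme.{u}} [IsLocallyNoetherian X] [IsLocallyNoetherian Y]
    (f : X ⟶ Y) (x : X)
    (h : ∀ z : ↥(f.fiber (f.base x)), f.asFiber x ∈ closure {z} →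
      (∀ z' : ↥(f.fiber (f.base x)), z ∈ closure {z'} → z' = z) →
      EGA43.IsOpenAt f.base ((f.fiberι (f.base x)).base z)) :
    ringKrullDim (X.presheaf.stalk x) =
      ringKrullDim (Y.presheaf.stalk (f.base x)) +
        ringKrullDim ((f.fiber (f.base x)).presheaf.stalk (f.asFiber x)) := by
  obtain ⟨e⟩ := Groth.Agent.FlatLocalDepth.nonempty_fibre_stalk_equiv f (f.base x) (f.asFiber x) x (f.fiberι_asFiber x)
  rw [← ringKrullDim_eq_of_ringEquiv e]
  letI : Algebra (Y.presheaf.stalk (f x)) (X.presheaf.stalk x) := (f.stalkMap x).hom.toAlgebra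
  haveI : IsLocalHom (algebraMap (Y.presheaf.stalk (f x)) (X.presheaf.stalk x)) :=
    inferInstanceAs (IsLocalHom (f.stalkMap x).hom)
  refine le_antisymm (Groth.Agent.CMAux.ringKrullDim_le_add_fibre (Y.presheaf.stalk (f x)) (X.presheaf.stalk x)) ?_
  refine dim_add_le fun Q hQ q hq => ?_
  haveI := hQ.1.1
  have hnat : ∀ P : Spec (X.presheaf.stalk x),
      f (X.fromSpecStalk x P) = Y.fromSpecStalk (f x) (PrimeSpectrum.comap (f.stalkMap x).hom P) :=
    fun P => (congr($(Scheme.SpecMap_stalkMap_fromSpecStalk f (x := x)) P)).symm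
  have hover : ∀ P : Spec (X.presheaf.stalk x), (IsLocalRing.maximalIdeal (Y.presheaf.stalk (f x))).map (f.stalkMap x).hom ≤ P.asIdeal →
      f (X.fromSpecStalk x P) = f x := fun P hP => by
    rw [hnat, show PrimeSpectrum.comap (f.stalkMap x).hom P = IsLocalRing.closedPoint _ from PrimeSpectrum.ext
      ((IsLocalRing.maximalIdeal.isMaximal _).eq_of_le (P.2.comap _).ne_top (Ideal.map_le_iff_le_comap.1 hP)).symm,
      Scheme.fromSpecStalk_closedPoint]
  let Qp : Spec (X.presheaf.stalk x) := ⟨Q, inferInstance⟩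
  obtain ⟨z, hz⟩ : X.fromSpecStalk x Qp ∈ Set.range (f.fiberι (f x)) := by
    rw [f.range_fiberι]; exact hover Qp hQ.1.2
  have hzx : z ⤳ f.asFiber x := by
    refine (f.fiberι (f x)).isEmbedding.isInducing.specializes_iff.1 ?_
    rw [hz]
    exact (f.fiberι_asFiber x).symm ▸ (X.range_fromSpecStalk (x := x)).le ⟨Qp, rfl⟩
  have hgen : ∀ v, v ⤳ f.asFiber x → f.fiberι (f x) v ⤳ x := fun v hv => by
    have := hv.map (f.fiberι (f x)).continuous
    rwa [f.fiberι_asFiber x] at this
  have hop := h z hzx.mem_closure fun v hv => by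
    have hv' : v ⤳ z := specializes_iff_mem_closure.2 hv
    obtain ⟨P, hP⟩ : f.fiberι (f x) v ∈ Set.range (X.fromSpecStalk x) := (X.range_fromSpecStalk (x := x)).ge
      (hgen v (hv'.trans hzx))
    refine (f.fiberι (f x)).isEmbedding.injective ?_
    rw [hz, ← hP]
    refine congrArg _ (PrimeSpectrum.ext ?_)
    have hle : P.asIdeal ≤ Q := (PrimeSpectrum.le_iff_specializes P Qp).2 ((X.fromSpecStalk x).isEmbedding.isInducing.specializes_iff.1
      (show X.fromSpecStalk x P ⤳ X.fromSpecStalk x Qp by rw [hP, ← hz]; exact hv'.map (f.fiberι (f x)).continuous))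
    refine le_antisymm hle (hQ.2 ⟨P.2, Ideal.map_le_iff_le_comap.2 ?_⟩ hle)
    have hfP : f (X.fromSpecStalk x P) = f x := by
      rw [hP]; exact Groth.Agent.FlatEquidim.fiberι_apply_eq f (f x) v
    rw [hnat] at hfP
    have h1 := (Y.fromSpecStalk (f x)).isEmbedding.injective (hfP.trans Scheme.fromSpecStalk_closedPoint.symm)
    exact (congrArg PrimeSpectrum.asIdeal h1).ge
  let qp : Spec (Y.presheaf.stalk (f x)) := ⟨q, hq⟩
  obtain ⟨w, hwz, hfw⟩ := exists_over_gen f _ hop (y' := Y.fromSpecStalk (f x) qp) (by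
    rw [Groth.Agent.FlatEquidim.fiberι_apply_eq f (f x) z]
    exact (Y.range_fromSpecStalk (x := f x)).le ⟨qp, rfl⟩)
  obtain ⟨P, hP⟩ : w ∈ Set.range (X.fromSpecStalk x) := (X.range_fromSpecStalk (x := x)).ge
    (hwz.trans (hgen z hzx))
  refine ⟨P.asIdeal, P.2, ?_, ?_⟩
  · exact (PrimeSpectrum.le_iff_specializes P Qp).2 ((X.fromSpecStalk x).isEmbedding.isInducing.specializes_iff.1
      (show X.fromSpecStalk x P ⤳ X.fromSpecStalk x Qp by rw [hP, ← hz]; exact hwz))
  · rw [← hP, hnat] at hfw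
    exact congrArg PrimeSpectrum.asIdeal ((Y.fromSpecStalk (f x)).isEmbedding.injective hfw)

end Groth.Agent.S2559
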