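import Groth.Statements.S2563
import Mathlib

set_option autoImplicit false
open TensorProduct
universe u
open EGA43

namespace Groth.Agent.S2563

open TensorProduct

theorem eq_top_of_sup_smul {A : Type u} [CommRing A] (J : Ideal A) (hJ : IsNilpotent J) {N : Type u} [AddCommGroup N]
    [Module A N] (K : Submodule A N) (h : ⊤ ≤ K ⊔ J • (⊤ : Submodule A N)) : K = ⊤ := by
  obtain ⟨n, hn⟩ := hJ
  have : ∀ m, ⊤ ≤ K ⊔ J ^ m • (⊤ : Submodule A N) := fun m => by
    induction m with
    | zero => rw [pow_zero, Ideal.one_eq_top, Submodule.top_smul]; exact le_sup_right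
    | succ m ih =>
      refine ih.trans (sup_le le_sup_left ?_)
      calc J ^ m • (⊤ : Submodule A N) ≤ J ^ m • (K ⊔ J • ⊤) := smul_mono_right _ h
        _ ≤ K ⊔ J ^ (m + 1) • ⊤ := by
          rw [Submodule.smul_sup, pow_succ, Submodule.mul_smul]
          exact sup_le_sup Submodule.smul_le_right le_rfl
  have h' := this n
  rw [hn, show (0 : Ideal A) • (⊤ : Submodule A N) = ⊥ from Submodule.bot_smul _, sup_bot_eq] at h'
  exact eq_top_iff.2 h'

theorem eq_zero_of_split {A : Type u} [CommRing A] (J : Ideal A) (hJ : IsNilpotent J) {N P : Type u} [AddCommGroup N]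
    [Module A N] [AddCommGroup P] [Module A P] (g : N →ₗ[A] P) (s : P →ₗ[A] N) (hs : ∀ p, g (s p) = p)
    (hker : ∀ x, g x = 0 → x ∈ J • (⊤ : Submodule A N)) : Function.Injective g := by
  have htop : LinearMap.range s = ⊤ := eq_top_of_sup_smul J hJ _ fun x _ => by
    have : x = s (g x) + (x - s (g x)) := by abel
    rw [this]
    exact Submodule.add_mem_sup (LinearMap.mem_range_self s _) (hker _ (by rw [map_sub, hs, sub_self]))
  intro x y hxy
  obtain ⟨a, rfl⟩ : x ∈ LinearMap.range s := htop ▸ Submodule.mem_top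
  obtain ⟨b, rfl⟩ : y ∈ LinearMap.range s := htop ▸ Submodule.mem_top
  rw [hs, hs] at hxy
  rw [hxy]


theorem ker_le {A : Type u} [CommRing A] (J : Ideal A) {F M : Type u} [AddCommGroup F] [Module A F] [AddCommGroup M]
    [Module A M] (φ : F →ₗ[A] M) (hφ : Function.Surjective φ)
    (hker : ∀ x, φ x ∈ J • (⊤ : Submodule A M) → x ∈ J • (⊤ : Submodule A F))
    (C : Type u) [AddCommGroup C] [Module A C] (w : C ⊗[A] F) (hw : φ.lTensor C w = 0) :
    w ∈ J • (⊤ : Submodule A (C ⊗[A] F)) := by
  obtain ⟨v, rfl⟩ := (lTensor_exact C (LinearMap.exact_subtype_ker_map φ) hφ w).1 hw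
  clear hw
  induction v using TensorProduct.induction_on with
  | zero => rw [map_zero]; exact zero_mem _
  | tmul c z =>
    have hz : (z : F) ∈ J • (⊤ : Submodule A F) := hker _ (by rw [LinearMap.mem_ker.1 z.2]; exact zero_mem _)
    have hle : J • (⊤ : Submodule A F) ≤ (J • (⊤ : Submodule A (C ⊗[A] F))).comap (TensorProduct.mk A C F c) :=
      Submodule.smul_le.2 fun r hr n _ => by
        rw [Submodule.mem_comap, map_smul]; exact Submodule.smul_mem_smul hr Submodule.mem_top
    exact hle hz
  | add y z hy hz => rw [map_add]; exact add_mem hy hz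

/-- Let A be a commutative ring, J a nilpotent ideal of A, and (B_i) a family of commutative A-algebras
such that an element of A vanishing in every B_i is zero. Let M be an A-module such that each B_i
⊗_A M is a free B_i-module and (A/J) ⊗_A M is a free (A/J)-module. Then M is a free A-module. -/
theorem result {A : Type u} [CommRing A] (J : Ideal A) (hJ : IsNilpotent J)
    {ι : Type u} (B : ι → Type u) [∀ i, CommRing (B i)] [∀ i, Algebra A (B i)]
    (hB : ∀ a : A, (∀ i, algebraMap A (B i) a = 0) → a = 0)
    (M : Type u) [AddCommGroup M] [Module A M]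
    (hfree : ∀ i, Module.Free (B i) (B i ⊗[A] M)) (hfreeJ : Module.Free (A ⧸ J) ((A ⧸ J) ⊗[A] M)) :
    Module.Free A M := by
  classical
  let b := Module.Free.chooseBasis (A ⧸ J) ((A ⧸ J) ⊗[A] M)
  let κ := Module.Free.ChooseBasisIndex (A ⧸ J) ((A ⧸ J) ⊗[A] M)
  let q : M →ₗ[A] (A ⧸ J) ⊗[A] M := TensorProduct.mk A (A ⧸ J) M 1
  have hq : Function.Surjective q := TensorProduct.mk_surjective A M (A ⧸ J) Ideal.Quotient.mk_surjective
  choose m hm using fun i => hq (b i)
  let φ : (κ →₀ A) →ₗ[A] M := Finsupp.linearCombination A m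
  have hqφ : ∀ x : κ →₀ A, q (φ x) = b.repr.symm (x.mapRange (Ideal.Quotient.mk J) (map_zero _)) := fun x => by
    induction x using Finsupp.induction_linear with
    | zero => simp
    | add x y hx hy =>
      rw [map_add, map_add, hx, hy, ← map_add b.repr.symm]
      congr 1
      ext i
      simp
    | single i a =>
      simp only [φ, Finsupp.linearCombination_single, map_smul, hm, Finsupp.mapRange_single]
      rw [Module.Basis.repr_symm_single]
      exact (algebraMap_smul (A ⧸ J) a (b i)).symm
  have hqker : ∀ z : M, q z = 0 → z ∈ J • (⊤ : Submodule A M) := fun z hz => by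
    have h := congrArg (TensorProduct.quotTensorEquivQuotSMul M J) hz
    rw [map_zero] at h
    have e : TensorProduct.quotTensorEquivQuotSMul M J (q z) = Submodule.Quotient.mk z := by
      simp [q]
    rw [e] at h
    exact (Submodule.Quotient.mk_eq_zero _).1 h
  have hφ : Function.Surjective φ := by
    rw [← LinearMap.range_eq_top]
    refine eq_top_of_sup_smul J hJ _ fun z _ => ?_
    obtain ⟨y, hy⟩ := Finsupp.mapRange_surjective (Ideal.Quotient.mk J) (map_zero _) Ideal.Quotient.mk_surjective (b.repr (q z))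
    have : z = φ y + (z - φ y) := by abel
    rw [this]
    refine Submodule.add_mem_sup (LinearMap.mem_range_self φ _) (hqker _ ?_)
    rw [map_sub, hqφ, hy, LinearEquiv.symm_apply_apply, sub_self]
  have hkerA : ∀ x : κ →₀ A, φ x ∈ J • (⊤ : Submodule A M) → x ∈ J • (⊤ : Submodule A (κ →₀ A)) := fun x hx => by
    have h0 : q (φ x) = 0 := by
      have h : φ x ∈ LinearMap.ker q := by
        refine (Submodule.smul_le.2 fun r hr n _ => ?_) hx
        rw [LinearMap.mem_ker, map_smul, ← algebraMap_smul (A ⧸ J), Ideal.Quotient.algebraMap_eq,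
          Ideal.Quotient.eq_zero_iff_mem.2 hr, zero_smul]
      exact h
    rw [hqφ, LinearEquiv.map_eq_zero_iff] at h0
    rw [← x.sum_single]
    refine Submodule.sum_mem _ fun i _ => ?_
    have hi := DFunLike.congr_fun h0 i
    rw [Finsupp.mapRange_apply, Finsupp.zero_apply, Ideal.Quotient.eq_zero_iff_mem] at hi
    rw [← mul_one (x i), ← smul_eq_mul, ← Finsupp.smul_single]
    exact Submodule.smul_mem_smul hi Submodule.mem_top
  refine Module.Free.of_equiv (LinearEquiv.ofBijective φ ⟨(injective_iff_map_eq_zero φ).2 fun x hx => ?_, hφ⟩)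
  ext i
  refine hB _ fun l => ?_
  have := hfree l
  let g : B l ⊗[A] (κ →₀ A) →ₗ[B l] B l ⊗[A] M := φ.baseChange (B l)
  have hg : Function.Surjective g := LinearMap.lTensor_surjective (B l) hφ
  obtain ⟨s, hs⟩ := Module.projective_lifting_property g LinearMap.id hg
  have hginj : Function.Injective g := eq_zero_of_split J hJ (g.restrictScalars A) (s.restrictScalars A)
    (fun p => LinearMap.congr_fun hs p) (fun w hw => ker_le J φ hφ hkerA (B l) w hw)
  have h1 : (1 : B l) ⊗ₜ[A] x = 0 := hginj (by simp [g, hx])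
  have h2 := congrArg (fun w => (TensorProduct.finsuppRight A A (B l) A κ w) i) h1
  simpa [TensorProduct.finsuppRight_apply_tmul_apply, Algebra.algebraMap_eq_smul_one] using
    congrArg (TensorProduct.rid A (B l)) h2

end Groth.Agent.S2563
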