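import Groth.Statements.S2567
import Mathlib
import Groth.Agent.RectDepth.GeomProps
import Groth.Agent.GenFlat.Descent
import Groth.Agent.AlgSpLoc.FlatFibres

set_option autoImplicit false
open CategoryTheory AlgebraicGeometry
set_option backward.isDefEq.respectTransparency.types false
universe u
open EGA43

namespace Groth.Agent.S2567

open CategoryTheory CategoryTheory.Limits AlgebraicGeometry TensorProduct
set_option synthInstance.maxHeartbeats 100000

/-- A flat finitely presented algebra over a reduced ring with reduced local rings above the minimal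
primes is reduced. -/
theorem isReduced_of_minimal (A B : Type u) [CommRing A] [CommRing B] [Algebra A B] [IsReduced A]
    [Module.Flat A B] [Algebra.FinitePresentation A B]
    (h : ∀ (q : Ideal B) [q.IsPrime], q.comap (algebraMap A B) ∈ minimalPrimes A → IsReduced (Localization.AtPrime q)) :
    IsReduced B := by
  classical
  refine ⟨fun b hb => ?_⟩
  have hkill : ∀ p ∈ minimalPrimes A, ∃ s ∉ p, algebraMap A B s * b = 0 := by
    intro p hp
    haveI := hp.1.1
    let J : Ideal B := LinearMap.ker (LinearMap.toSpanSingleton B B b)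
    by_contra hc
    push Not at hc
    let M := Algebra.algebraMapSubmonoid B p.primeCompl
    obtain ⟨q, hq, hJq, hqM⟩ := Ideal.exists_le_prime_disjoint J M (Set.disjoint_left.2 (by
      rintro _ h1 ⟨s, hs, rfl⟩
      exact hc s hs (by simpa [J] using h1)))
    haveI := hq
    have hle : q.comap (algebraMap A B) ≤ p := fun a ha => by
      by_contra hap
      exact Set.disjoint_left.1 hqM ha ⟨a, hap, rfl⟩
    have hqp : q.comap (algebraMap A B) = p := le_antisymm hle (hp.2 ⟨inferInstance, bot_le⟩ hle)
    haveI := h q (by rw [hqp]; exact hp)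
    have h0 : algebraMap B (Localization.AtPrime q) b = 0 :=
      (hb.map _).eq_zero
    obtain ⟨t, ht⟩ := (IsLocalization.map_eq_zero_iff q.primeCompl _ b).1 h0
    exact t.2 (hJq (show (t : B) ∈ J by simpa [J] using ht))
  obtain ⟨S, B0, _, _, hS, hflat, hfp, ⟨e⟩⟩ := GenFlat.exists_flat_model (K := ℤ) (B := A) (C := B)
  haveI : Algebra.FiniteType ℤ S := S.fg_iff_finiteType.mp hS
  haveI : IsNoetherianRing S := Algebra.FiniteType.isNoetherianRing ℤ S
  obtain ⟨T, hT⟩ := TensorProduct.exists_finset (R := S) (e b)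
  let S' : Subalgebra S A := Algebra.adjoin S (↑(T.image Prod.fst) : Set A)
  haveI : Algebra.FiniteType S S' := Algebra.FiniteType.adjoin_of_finite (T.image Prod.fst).finite_toSet
  haveI : IsNoetherianRing S' := Algebra.FiniteType.isNoetherianRing S S'
  haveI : IsReduced S' := isReduced_of_injective S'.val Subtype.val_injective
  let ι : S' →ₗ[S] A := S'.val.toLinearMap
  let b1 : S' ⊗[S] B0 := ∑ i ∈ T.attach, (⟨i.1.1, Algebra.subset_adjoin (Finset.mem_coe.2 (Finset.mem_image_of_mem _ i.2))⟩ : S') ⊗ₜ i.1.2
  have hb1 : ι.rTensor B0 b1 = e b := by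
    rw [hT, map_sum, ← Finset.sum_attach T]
    rfl
  have hι : Function.Injective (ι.rTensor B0) := Module.Flat.rTensor_preserves_injective_linearMap ι Subtype.val_injective
  suffices b1 = 0 by
    rw [this, map_zero] at hb1
    exact e.injective (hb1.symm.trans (map_zero e).symm)
  let P := {p : Ideal S' // p ∈ minimalPrimes S'}
  haveI : Finite P := (minimalPrimes.finite_of_isNoetherianRing S').to_subtype
  haveI : Fintype P := Fintype.ofFinite P
  let π : S' →ₗ[S] (∀ p : P, S' ⧸ p.1) := LinearMap.pi fun p => (Ideal.Quotient.mkₐ S p.1).toLinearMap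
  have hπ : Function.Injective π := by
    refine (injective_iff_map_eq_zero π).2 fun x hx => ?_
    refine IsNilpotent.eq_zero (nilpotent_iff_mem_prime.2 fun J hJ => ?_)
    obtain ⟨p, hp, hpJ⟩ := Ideal.exists_minimalPrimes_le (bot_le : ⊥ ≤ J)
    exact hpJ (Ideal.Quotient.eq_zero_iff_mem.1 (congrFun hx ⟨p, hp⟩))
  refine Module.Flat.rTensor_preserves_injective_linearMap (M := B0) π hπ ?_
  rw [map_zero]
  refine (TensorProduct.piLeft S B0 fun p : P => S' ⧸ p.1).injective ?_
  rw [LinearEquiv.map_zero]
  funext p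
  have hproj : ∀ z : (∀ q : P, S' ⧸ q.1) ⊗[S] B0,
      TensorProduct.piLeft S B0 (fun q : P => S' ⧸ q.1) z p = (LinearMap.proj p).rTensor B0 z := fun z => by
    induction z using TensorProduct.induction_on with
    | zero => rw [LinearEquiv.map_zero, LinearMap.map_zero]; rfl
    | tmul m n => rfl
    | add z1 z2 h1 h2 => rw [LinearEquiv.map_add, LinearMap.map_add, Pi.add_apply, h1, h2]
  rw [hproj, ← LinearMap.rTensor_comp_apply, Pi.zero_apply,
    show LinearMap.proj p ∘ₗ π = (Ideal.Quotient.mkₐ S p.1).toLinearMap from rfl]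
  -- compare with a minimal prime of `A`
  haveI := p.2.1.1
  obtain ⟨p', hp', hp'p⟩ := Ideal.exists_minimalPrimes_comap_eq (I := (⊥ : Ideal A)) S'.val.toRingHom p.1
    (by rw [Ideal.comap_bot_of_injective _ (show Function.Injective S'.val.toRingHom from Subtype.val_injective)]; exact p.2)
  haveI := hp'.1.1
  let j : (S' ⧸ p.1) →ₐ[S] (A ⧸ p') :=
    Ideal.Quotient.liftₐ p.1 ((Ideal.Quotient.mkₐ S p').comp S'.val) fun a ha =>
      Ideal.Quotient.eq_zero_iff_mem.2 (show a ∈ p'.comap S'.val.toRingHom by rw [hp'p]; exact ha)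
  have hj : Function.Injective j.toLinearMap := by
    refine (injective_iff_map_eq_zero j.toLinearMap).2 fun a ha => ?_
    obtain ⟨a, rfl⟩ := Ideal.Quotient.mk_surjective a
    refine Ideal.Quotient.eq_zero_iff_mem.2 ?_
    rw [← hp'p]
    have ha' : Ideal.Quotient.mk p' (S'.val a) = 0 := ha
    show S'.val a ∈ p'
    exact Ideal.Quotient.eq_zero_iff_mem.1 ha'
  refine Module.Flat.rTensor_preserves_injective_linearMap (M := B0) j.toLinearMap hj ?_
  rw [map_zero, ← LinearMap.rTensor_comp_apply,
    show j.toLinearMap ∘ₗ (Ideal.Quotient.mkₐ S p.1).toLinearMap = (Ideal.Quotient.mkₐ S p').toLinearMap ∘ₗ ι from rfl,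
    LinearMap.rTensor_comp_apply, hb1]
  obtain ⟨s, hs, hsb⟩ := hkill p' hp'
  let mul : (A ⧸ p') →ₗ[S] (A ⧸ p') := LinearMap.mulLeft S (Ideal.Quotient.mk p' s)
  have hmul : Function.Injective mul := fun a c hac =>
    mul_left_cancel₀ (fun h0 => hs (Ideal.Quotient.eq_zero_iff_mem.1 h0)) hac
  refine Module.Flat.rTensor_preserves_injective_linearMap (M := B0) mul hmul ?_
  rw [map_zero, ← LinearMap.rTensor_comp_apply,
    show mul ∘ₗ (Ideal.Quotient.mkₐ S p').toLinearMap = (Ideal.Quotient.mkₐ S p').toLinearMap ∘ₗ LinearMap.mulLeft S s from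
      LinearMap.ext fun a => (map_mul (Ideal.Quotient.mk p') s a).symm,
    LinearMap.rTensor_comp_apply]
  have : (LinearMap.mulLeft S s).rTensor B0 (e b) = e (algebraMap A B s * b) := by
    rw [map_mul, e.commutes]
    generalize e b = z
    induction z using TensorProduct.induction_on with
    | zero => simp
    | tmul m n => simp [Algebra.TensorProduct.algebraMap_apply]
    | add z1 z2 h1 h2 => simp only [map_add, mul_add, h1, h2]
  rw [this, hsb, map_zero, map_zero]

theorem isReduced_of_isGeomReducedAt {k : Type u} [Field k] {Z : Scheme.{u}}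
    {f : Z ⟶ Spec (CommRingCat.of k)} {z : Z} (h : FBase.IsGeomReducedAt f z) :
    _root_.IsReduced (Z.presheaf.stalk z) := by
  haveI : IsIso (CommRingCat.ofHom (algebraMap k k)) := by
    rw [show CommRingCat.ofHom (algebraMap k k) = 𝟙 _ from rfl]; infer_instance
  haveI : IsIso (FBase.bcπ f k) := inferInstanceAs (IsIso (pullback.fst f _))
  obtain ⟨z', rfl⟩ := (asIso (FBase.bcπ f k)).hom.surjective z
  have := h k z' rfl
  have : _root_.IsReduced ((FBase.bc f k).presheaf.stalk z') := this
  exact isReduced_of_injective (asIso ((FBase.bcπ f k).stalkMap z')).commRingCatIsoToRingEquiv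
    (asIso ((FBase.bcπ f k).stalkMap z')).commRingCatIsoToRingEquiv.injective

/-- Reduced case (the source only needs f flat and of finite presentation at the point x): let f : X ⟶ Y
be flat and locally of finite presentation, x a point of X with y = f x. If the local ring of Y at y
is reduced and the fibre of f over y is geometrically reduced at x, then the local ring of X at x is
reduced. -/
theorem result {X Y : Scheme.{u}} (f : X ⟶ Y) [Flat f]
    [LocallyOfFinitePresentation f] (x : X) (hy : FBase.IsReducedAt Y (f.base x))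
    (hx : FBase.IsGeomReducedAt (f.fiberToSpecResidueField (f.base x)) (f.asFiber x)) :
    FBase.IsReducedAt X x := by
  haveI hyred : _root_.IsReduced (Y.presheaf.stalk (f x)) := hy
  obtain ⟨W, hxW, hW⟩ : ∃ W : X.Opens, x ∈ W ∧ ∀ u ∈ W,
      FBase.IsGeomReducedAt (f.fiberToSpecResidueField (f u)) (f.asFiber u) :=
    ⟨⟨_, RectDepth.isOpen_fibre_geomReducedAt f⟩, hx, fun u hu => hu⟩
  obtain ⟨V, hV, hxV, -⟩ := exists_isAffineOpen_mem_and_subset (X := Y) (x := f x) (U := (⊤ : Y.Opens)) trivial
  obtain ⟨U, hU, hxU, hUVW⟩ := exists_isAffineOpen_mem_and_subset (X := X) (x := x) (U := f ⁻¹ᵁ V ⊓ W) ⟨hxV, hxW⟩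
  have hUV : U ≤ f ⁻¹ᵁ V := fun a ha => (hUVW ha).1
  let A0 := Γ(Y, V)
  let BU := Γ(X, U)
  let φ0 := f.appLE V U hUV
  letI : Algebra A0 BU := φ0.hom.toAlgebra
  haveI : Algebra.FinitePresentation A0 BU := f.finitePresentation_appLE hV hU hUV
  haveI : Module.Flat A0 BU := f.flat_appLE hV hU hUV
  let py := hV.primeIdealOf ⟨f x, hxV⟩
  let A := Localization.AtPrime py.asIdeal
  letI := TopCat.Presheaf.algebra_section_stalk Y.presheaf (⟨f x, hxV⟩ : V)
  haveI := hV.isLocalization_stalk ⟨f x, hxV⟩
  let eA : A ≃ₐ[A0] Y.presheaf.stalk (f x) := IsLocalization.algEquiv py.asIdeal.primeCompl A _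
  haveI : _root_.IsReduced A := isReduced_of_injective eA eA.injective
  let M := Algebra.algebraMapSubmonoid BU py.asIdeal.primeCompl
  let B := Localization M
  haveI : IsLocalization (Algebra.algebraMapSubmonoid BU py.asIdeal.primeCompl) B := Localization.isLocalization
  haveI : IsLocalization (Submonoid.map (algebraMap A0 BU) py.asIdeal.primeCompl) B := Localization.isLocalization
  letI : Algebra A B := localizationAlgebra py.asIdeal.primeCompl BU
  haveI : IsScalarTower A0 A B := IsScalarTower.of_algebraMap_eq' (IsLocalization.map_comp (Submonoid.le_comap_map _)).symm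
  haveI : Algebra.IsPushout A0 A BU B := (Algebra.isPushout_of_isLocalization py.asIdeal.primeCompl A BU B).symm
  let eB : A ⊗[A0] BU ≃ₐ[A] B := Algebra.IsPushout.equiv A0 A BU B
  haveI : Algebra.FinitePresentation A B := Algebra.FinitePresentation.equiv eB
  haveI : Module.Flat A B := Module.Flat.of_linearEquiv eB.symm.toLinearEquiv
  haveI : _root_.IsReduced B := isReduced_of_minimal A B fun q _ hq => by
    let q0 : PrimeSpectrum BU := ⟨q.comap (algebraMap BU B), inferInstance⟩
    let u := hU.fromSpec q0
    have hu : u ∈ U := hU.range_fromSpec.le ⟨_, rfl⟩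
    have hu' : hU.primeIdealOf ⟨u, hu⟩ = q0 :=
      hU.fromSpec.isOpenEmbedding.injective (hU.fromSpec_primeIdealOf _)
    let p := q.comap (algebraMap A B)
    let p0 : PrimeSpectrum A0 := PrimeSpectrum.comap φ0.hom q0
    have hp0 : hV.fromSpec p0 = f u := by
      show (Spec.map φ0 ≫ hV.fromSpec) q0 = _
      rw [IsAffineOpen.SpecMap_appLE_fromSpec, Scheme.Hom.comp_apply]
    have hfu : f u ∈ V := hUV hu
    have hp0' : hV.primeIdealOf ⟨f u, hfu⟩ = p0 :=
      hV.fromSpec.isOpenEmbedding.injective ((hV.fromSpec_primeIdealOf _).trans hp0.symm)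
    have hpp : p.comap (algebraMap A0 A) = p0.asIdeal := by
      show (q.comap (algebraMap A B)).comap (algebraMap A0 A) = (q.comap (algebraMap BU B)).comap (algebraMap A0 BU)
      rw [Ideal.comap_comap, Ideal.comap_comap, ← IsScalarTower.algebraMap_eq, ← IsScalarTower.algebraMap_eq]
    letI := TopCat.Presheaf.algebra_section_stalk Y.presheaf (⟨f u, hfu⟩ : V)
    haveI : IsLocalization.AtPrime (Y.presheaf.stalk (f u)) (p.comap (algebraMap A0 A)) := by
      have aux : ∀ (I J : Ideal A0) [I.IsPrime] [J.IsPrime], I = J → IsLocalization.AtPrime (Y.presheaf.stalk (f u)) I →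
          IsLocalization.AtPrime (Y.presheaf.stalk (f u)) J := fun I J _ _ e hh => by subst e; exact hh
      exact aux _ _ ((congrArg PrimeSpectrum.asIdeal hp0').trans hpp.symm) (hV.isLocalization_stalk ⟨f u, hfu⟩)
    haveI : IsLocalization.AtPrime (Localization.AtPrime p) (p.comap (algebraMap A0 A)) :=
      IsLocalization.isLocalization_isLocalization_atPrime_isLocalization py.asIdeal.primeCompl _ p
    let eu : Localization.AtPrime p ≃ₐ[A0] Y.presheaf.stalk (f u) :=
      IsLocalization.algEquiv (p.comap (algebraMap A0 A)).primeCompl _ _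
    haveI : _root_.IsReduced (Localization.AtPrime p) := inferInstance
    haveI : Ring.KrullDimLE 0 (Localization.AtPrime p) := by
      rw [Ring.krullDimLE_iff, IsLocalization.AtPrime.ringKrullDim_eq_height p, Ideal.height_eq_zero_iff.2 hq]
      rfl
    have hfield : IsField (Y.presheaf.stalk (f u)) :=
      MulEquiv.isField (Ring.KrullDimLE.isField_of_isReduced (R := Localization.AtPrime p)) eu.symm.toMulEquiv
    have hm : IsLocalRing.maximalIdeal (Y.presheaf.stalk (f u)) = ⊥ :=
      IsLocalRing.isField_iff_maximalIdeal_eq.1 hfield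
    obtain ⟨hsurj, hker⟩ := AlgSpLoc.fiber_stalk_congr f (f u) (f.asFiber u) u (f.fiberι_asFiber u)
    rw [hm, Ideal.map_bot, RingHom.ker_eq_bot_iff_eq_zero, ← injective_iff_map_eq_zero] at hker
    haveI := isReduced_of_isGeomReducedAt (hW u (hUVW hu).2)
    haveI : _root_.IsReduced (X.presheaf.stalk u) := isReduced_of_injective _ hker
    letI := TopCat.Presheaf.algebra_section_stalk X.presheaf (⟨u, hu⟩ : U)
    haveI : IsLocalization.AtPrime (X.presheaf.stalk u) (q.comap (algebraMap BU B)) := by
      have aux : ∀ (I J : Ideal BU) [I.IsPrime] [J.IsPrime], I = J → IsLocalization.AtPrime (X.presheaf.stalk u) I →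
          IsLocalization.AtPrime (X.presheaf.stalk u) J := fun I J _ _ e hh => by subst e; exact hh
      exact aux _ _ (congrArg PrimeSpectrum.asIdeal hu') (hU.isLocalization_stalk ⟨u, hu⟩)
    haveI : IsLocalization.AtPrime (Localization.AtPrime q) (q.comap (algebraMap BU B)) :=
      IsLocalization.isLocalization_isLocalization_atPrime_isLocalization M _ q
    let eq' : Localization.AtPrime q ≃ₐ[BU] X.presheaf.stalk u :=
      IsLocalization.algEquiv (q.comap (algebraMap BU B)).primeCompl _ _
    exact isReduced_of_injective eq' eq'.injective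
  -- the local ring at `x` is a localization of `B`
  let px := hU.primeIdealOf ⟨x, hxU⟩
  letI := TopCat.Presheaf.algebra_section_stalk X.presheaf (⟨x, hxU⟩ : U)
  haveI := hU.isLocalization_stalk ⟨x, hxU⟩
  have hMle : M ≤ px.asIdeal.primeCompl := by
    rintro _ ⟨a, ha, rfl⟩ hmem
    refine ha ?_
    have h1 : PrimeSpectrum.comap φ0.hom px = py := hV.fromSpec.isOpenEmbedding.injective (by
      show (Spec.map φ0 ≫ hV.fromSpec) px = hV.fromSpec py
      rw [IsAffineOpen.SpecMap_appLE_fromSpec f hV hU hUV, Scheme.Hom.comp_apply, hU.fromSpec_primeIdealOf,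
        hV.fromSpec_primeIdealOf])
    rw [← h1]
    exact hmem
  letI : Algebra B (X.presheaf.stalk x) := IsLocalization.localizationAlgebraOfSubmonoidLe B (X.presheaf.stalk x) M _ hMle
  haveI : IsScalarTower BU B (X.presheaf.stalk x) := IsLocalization.localization_isScalarTower_of_submonoid_le B (X.presheaf.stalk x) M _ hMle
  haveI : IsLocalization (px.asIdeal.primeCompl.map (algebraMap BU B)) (X.presheaf.stalk x) :=
    IsLocalization.isLocalization_of_submonoid_le B (X.presheaf.stalk x) M _ hMle
  exact isReduced_localizationPreserves (R := B) (px.asIdeal.primeCompl.map (algebraMap BU B)) (X.presheaf.stalk x) inferInstance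

end Groth.Agent.S2567
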