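import Groth.Statements.S2568
import Groth.Agent.Chevalley.Equiv
import Groth.Agent.EquidimChart.Section
import Groth.Agent.AlgSpDesc.LqfFibre
import Mathlib

set_option autoImplicit false
open CategoryTheory AlgebraicGeometry
universe u
open EGA43

set_option backward.isDefEq.respectTransparency.types false
set_option linter.style.haveILetI false
namespace Groth.Agent.S2568

open Groth.Agent Groth.Agent.DimTheory Groth.Agent.EquidimChart


/-- Chevalley's criterion in the case of irreducible source and base: let X and Y be irreducible
schemes, all local rings of Y geometrically unibranch, and f : X ⟶ Y a dominant morphism locally of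
finite type such that for every point x the local dimension at x of the fibre through x equals the
dimension of the generic fibre (the fibre over the image of the generic point of X). Then f is
universally open. -/
theorem result {X Y : Scheme.{u}} [IrreducibleSpace X] [IrreducibleSpace Y]
    (hY : ∀ y : Y, CAlg2.IsGeomUnibranch (Y.presheaf.stalk y)) (f : X ⟶ Y) [LocallyOfFiniteType f] [IsDominant f]
    (h : ∀ x : X, FlatMor.fibreDimAt f x = topologicalKrullDim ↥(f.fiber (f.base (genericPoint X)))) :
    UniversallyOpen f := by
  refine Chevalley.universallyOpen_of_forall f fun x => ?_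
  have hd : f (genericPoint X) = genericPoint Y := by
    refine ((genericPoint_spec Y).eq ?_).symm
    show IsGenericPoint (f (genericPoint X)) _
    rw [IsGenericPoint]
    refine Set.eq_univ_of_univ_subset ?_
    rw [← f.denseRange.closure_range]
    refine closure_minimal ?_ isClosed_closure
    rintro _ ⟨a, rfl⟩
    exact specializes_iff_mem_closure.1 (((genericPoint_spec X).specializes (Set.mem_univ a)).map f.continuous)
  have hξ : FlatEquidim.IsFibreMax f (genericPoint X) := fun z hz _ =>
    (hz.antisymm ((genericPoint_spec X).specializes (Set.mem_univ z))).eq
  obtain ⟨e, he, -⟩ := height_asFiber f (genericPoint X)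
  refine Chevalley.isUnivOpenAt_of_generic f x _ ((genericPoint_spec X).specializes (Set.mem_univ x))
    (fun w hw => ?_) ?_ e he ?_ (hY _)
  · rw [hd] at hw ⊢
    exact (hw.antisymm ((genericPoint_spec Y).specializes (Set.mem_univ w))).eq
  · rw [hd, (genericPoint_spec Y).def]
    exact Filter.univ_mem
  · rw [h x, ← h (genericPoint X), fibreDimAt_of_fibreMax f hξ he]

end Groth.Agent.S2568
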