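import Groth.Statements.S2572
import Groth.Agent.Chevalley.DVRCrit
import Groth.Agent.EquidimChart.ChainIneq
import Groth.Agent.CAlgSerre.Normal
import Groth.Agent.FlatLocalDepth.FibreStalk
import Mathlib

set_option autoImplicit false
open CategoryTheory AlgebraicGeometry
universe u
open EGA43

set_option backward.isDefEq.respectTransparency.types false
set_option linter.style.haveILetI false
namespace Groth.Agent.S2572

open Groth.Agent Groth.Agent.DimTheory Groth.Agent.EquidimChart


/-- Let Y be an irreducible locally Noetherian scheme whose local rings are regular of dimension at most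
one, f : X ⟶ Y locally of finite type, and y a point of Y. If every irreducible component of X
meeting the fibre over y has dense image in Y, then there is an open subset U of X containing that
fibre such that the restriction of f to U is universally open. -/
theorem result {X Y : Scheme.{u}} [IsLocallyNoetherian Y]
    [IrreducibleSpace Y]
    (hY : ∀ y : Y, IsRegularLocalRing (Y.presheaf.stalk y) ∧ ringKrullDim (Y.presheaf.stalk y) ≤ 1)
    (f : X ⟶ Y) [LocallyOfFiniteType f] (y : Y)
    (h : ∀ Z ∈ irreducibleComponents (X : Type u), (Z ∩ f.base ⁻¹' {y}).Nonempty → Dense (f.base '' Z)) :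
    ∃ U : X.Opens, f.base ⁻¹' {y} ⊆ (U : Set X) ∧ UniversallyOpen (U.ι ≫ f) := by
  haveI : IsLocallyNoetherian X := LocallyOfFiniteType.isLocallyNoetherian f
  have hgu : ∀ y : Y, CAlg2.IsGeomUnibranch (Y.presheaf.stalk y) := fun y => by
    haveI := (hY y).1
    haveI : IsDomain (Y.presheaf.stalk y) := CAlgReg.isDomain (R := Y.presheaf.stalk y)
    haveI := CAlgSerre.isIntegrallyClosed_of_regular_dim_le_one _ (hY y).2
    exact S9812.result _
  have hmaxY : ∀ w : Y, w ⤳ genericPoint Y → w = genericPoint Y := fun w hw =>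
    (hw.antisymm (genericPoint_specializes w)).eq
  let U : X.Opens := ⟨{x | ∀ ξ, ξ ⤳ x → (∀ v, v ⤳ ξ → v = ξ) → f ξ = genericPoint Y}, by
    rw [isOpen_iff_mem_nhds]
    intro x hx
    obtain ⟨U', hxU', -, hU'⟩ := exists_nbhd_max_specializes (x := x) (U := ⊤) trivial
    exact Filter.mem_of_superset (U'.2.mem_nhds hxU') fun v hv ξ hξv hξ =>
      hx ξ (hU' ξ (hξv.mem_open U'.2 hv) hξ) hξ⟩
  refine ⟨U, fun x hx ξ hξx hξ => ?_, ?_⟩
  · have hZ : closure ({ξ} : Set X) ∈ irreducibleComponents (X : Type u) :=
      FlatDim.closure_mem_irreducibleComponents hξ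
    have hd := h _ hZ ⟨x, hξx.mem_closure, hx⟩
    refine FlatDim.eq_genericPoint fun v hv => (hv.antisymm (specializes_iff_mem_closure.2 ?_)).eq
    have h2 : closure (f.base '' closure {ξ}) ⊆ closure {f ξ} :=
      closure_minimal ((image_closure_subset_closure_image f.continuous).trans
        (by rw [Set.image_singleton])) isClosed_closure
    exact h2 (hd.closure_eq.symm ▸ Set.mem_univ v)
  refine Chevalley.universallyOpen_of_forall _ fun x => ?_
  let g := U.ι ≫ f
  obtain ⟨m, n, hmx, hfm, hm, hn, hxn⟩ := Chevalley.exists_fibreMax_eq g x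
  obtain ⟨ξ, hξm, hξ⟩ := FlatMorLib.exists_maximal_generization m
  have hgξ : g ξ = genericPoint Y :=
    (Scheme.Hom.comp_apply _ _ _).trans (x.2 (U.ι ξ) ((hξm.trans hmx).map U.ι.continuous) (isMax_of_open U ξ hξ))
  obtain ⟨e, he, -⟩ := height_asFiber g ξ
  have hne : n ≤ e := by
    by_cases hξeq : m = ξ
    · subst hξeq
      exact (Nat.cast_injective (R := Cardinal.{u}) (hn.symm.trans he)).le
    · have hlt : m < ξ := FlatDim.lt_of_specializes_of_ne hξm hξeq
      obtain ⟨r, hr1, -, hr⟩ := chain_ineq g hn he ((RelSeries.singleton _ m).snoc ξ hlt)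
        (by simp) (by simp [specializes_rfl])
      have h1 : (r.length : WithBot ℕ∞) ≤ 1 := by
        refine le_trans ?_ (hY (g m)).2
        rw [ringKrullDim_stalk_eq_coheight]
        exact WithBot.coe_le_coe.2 (Order.length_le_coheight (le_of_eq hr1.symm))
      have h2 : r.length ≤ 1 := by exact_mod_cast h1
      simp only [RelSeries.snoc_length, RelSeries.singleton_length, zero_add] at hr
      omega
  refine Chevalley.isUnivOpenAt_of_generic g x ξ (hξm.trans hmx) (hgξ ▸ hmaxY) ?_ e he ?_ (hgu _)
  · rw [hgξ, (genericPoint_spec Y).def]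
    exact Filter.univ_mem
  · rw [hxn]
    exact_mod_cast hne

end Groth.Agent.S2572
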