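import Groth.Statements.S2573
import Mathlib
import Groth.Agent.FlatFree.Stratify
import Groth.Agent.FlatFree.Spread

set_option autoImplicit false
universe u
open EGA43
open scoped TensorProduct

namespace Groth.Agent.S2573

/-- Let A be a commutative ring whose spectrum is irreducible, with unique minimal prime p, let B be a
finitely presented A-algebra and M a finitely presented B-module. If the localization M_p is flat
over A_p, then there is t ∉ p such that M_t is a free A_t-module. -/
theorem result {A B : Type u} [CommRing A] [CommRing B] [Algebra A B]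
    [Algebra.FinitePresentation A B] (p : Ideal A) [p.IsPrime] (hp : minimalPrimes A = {p})
    (M : Type u) [AddCommGroup M] [Module B M] [Module A M] [IsScalarTower A B M] [Module.FinitePresentation B M]
    (hflat : Module.Flat (Localization.AtPrime p) (LocalizedModule p.primeCompl M)) :
    ∃ t : A, t ∉ p ∧ Module.Free (Localization.Away t) (LocalizedModule (Submonoid.powers t) M) := by
  classical
  have hnil : p = nilradical A := by
    refine le_antisymm ?_ (nilradical_le_prime p)
    rw [nilradical_eq_sInf]
    refine le_sInf fun Q hQ => ?_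
    obtain ⟨P, hP, hPQ⟩ := @Ideal.exists_minimalPrimes_le A _ ⊥ Q hQ bot_le
    obtain rfl : P = p := hp.le hP
    exact hPQ
  obtain ⟨t₀, ht₀, hflat'⟩ := Groth.Agent.FlatFree.exists_flat_away (B := B) (M := M) p hnil.le
  let B' := Localization.Away (algebraMap A B t₀)
  let M' := LocalizedModule (Submonoid.powers (algebraMap A B t₀)) M
  have : Algebra.FinitePresentation A B' :=
    have : Algebra.FinitePresentation B B' := IsLocalization.Away.finitePresentation (algebraMap A B t₀)
    Algebra.FinitePresentation.trans A B B'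
  have : Module.FinitePresentation B' M' := Module.FinitePresentation.of_equiv
    (LocalizedModule.equivTensorProduct (Submonoid.powers (algebraMap A B t₀)) M).symm
  obtain ⟨l, hl, hfree⟩ := Groth.Agent.FlatFree.exists_list (A := A) (B := B') M'
  have hex : ∃ i, ∃ hi : i < l.length, l[i] ∉ p := by
    by_contra hcon
    push Not at hcon
    refine ‹p.IsPrime›.ne_top (top_le_iff.1 ?_)
    rw [← hl]
    refine Ideal.span_le.2 fun a ha => ?_
    obtain ⟨i, hi, rfl⟩ := List.getElem_of_mem ha
    exact hcon i hi
  obtain ⟨hi, hip⟩ := Nat.find_spec hex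
  have := hfree (Nat.find hex) hi
  generalize hf : l[Nat.find hex] = f at this hip
  let I : Ideal A := Ideal.span {a | a ∈ l.take (Nat.find hex)}
  have hI : IsNilpotent I := by
    rw [Ideal.FG.isNilpotent_iff_le_nilradical ⟨(l.take (Nat.find hex)).toFinset, by simp [I]⟩, ← hnil]
    refine Ideal.span_le.2 fun a ha => ?_
    obtain ⟨j, hj, rfl⟩ := List.getElem_of_mem ha
    rw [List.getElem_take]
    rw [List.length_take, lt_min_iff] at hj
    by_contra hjp
    exact Nat.find_min hex hj.1 ⟨hj.2, hjp⟩
  let Af := Localization.Away f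
  let J : Ideal Af := I.map (algebraMap A Af)
  have hJ : IsNilpotent J := by
    obtain ⟨n, hn⟩ := hI
    exact ⟨n, by rw [← Ideal.map_pow, hn, Ideal.zero_eq_bot, Ideal.map_bot, Ideal.zero_eq_bot]⟩
  have : Module.Flat A M' := hflat'
  have : Module.Free (Af ⧸ J) ((Af ⧸ J) ⊗[Af] (Af ⊗[A] M')) :=
    Module.Free.of_equiv (TensorProduct.AlgebraTensorModule.cancelBaseChange A Af (Af ⧸ J) (Af ⧸ J) M').symm
  have : Module.Free Af (Af ⊗[A] M') := Groth.Agent.FlatFree.free_of_flat_of_free_quotient _ J hJ
  refine ⟨t₀ * f, fun h => ((Ideal.IsPrime.mem_or_mem ‹_› h).elim ht₀ hip), ?_⟩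
  let At := Localization.Away (t₀ * f)
  let g : Af →ₐ[A] At :=
    { IsLocalization.Away.awayToAwayLeft f t₀ with
      commutes' := fun a => IsLocalization.Away.awayToAwayLeft_eq f t₀ a }
  have := Groth.Agent.FlatFree.free_baseChange_of_algHom (R := A) (C := Af) (D := At) (M := M') g
  let φ : M →ₗ[A] M' := (LocalizedModule.mkLinearMap (Submonoid.powers (algebraMap A B t₀)) M).restrictScalars A
  have ht : IsUnit (algebraMap A At t₀) :=
    isUnit_of_dvd_unit (map_dvd _ (dvd_mul_right t₀ f)) (IsLocalization.Away.algebraMap_isUnit _)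
  have hbij : Function.Bijective (φ.baseChange At) := by
    constructor
    · have hlM : IsLocalizedModule (Submonoid.powers (t₀ * f)) (TensorProduct.mk A At M 1) :=
        (isLocalizedModule_iff_isBaseChange _ At _).2 (TensorProduct.isBaseChange A M At)
      have hlM' : IsLocalizedModule (Submonoid.powers (t₀ * f)) (TensorProduct.mk A At M' 1) :=
        (isLocalizedModule_iff_isBaseChange _ At _).2 (TensorProduct.isBaseChange A M' At)
      rw [injective_iff_map_eq_zero]
      intro w hw
      obtain ⟨⟨m, s⟩, hms⟩ := IsLocalizedModule.surj (Submonoid.powers (t₀ * f)) (TensorProduct.mk A At M 1) w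
      have h0 : TensorProduct.mk A At M' 1 (φ m) = 0 := by
        change φ.baseChange At (TensorProduct.mk A At M 1 m) = 0
        rw [← hms, Submonoid.smul_def, LinearMap.map_smul_of_tower, hw, smul_zero]
      obtain ⟨⟨_, j, rfl⟩, hs'⟩ := (IsLocalizedModule.eq_zero_iff (Submonoid.powers (t₀ * f)) _).1 h0
      change (t₀ * f) ^ j • φ m = 0 at hs'
      rw [← map_smul] at hs'
      obtain ⟨⟨_, i, rfl⟩, hi'⟩ := (IsLocalizedModule.eq_zero_iff (Submonoid.powers (algebraMap A B t₀))
        (LocalizedModule.mkLinearMap _ M)).1 hs'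
      change (algebraMap A B t₀) ^ i • ((t₀ * f) ^ j • m) = 0 at hi'
      rw [← map_pow, algebraMap_smul, smul_smul] at hi'
      have h1 : TensorProduct.mk A At M 1 m = 0 := by
        refine (IsLocalizedModule.eq_zero_iff (Submonoid.powers (t₀ * f)) _).2 ⟨⟨_, i + j, rfl⟩, ?_⟩
        show (t₀ * f) ^ (i + j) • m = 0
        rw [show (t₀ * f) ^ (i + j) = f ^ i * (t₀ ^ i * (t₀ * f) ^ j) by ring, mul_smul, hi', smul_zero]
      rw [← hms] at h1
      exact (IsLocalizedModule.smul_inj (TensorProduct.mk A At M 1) s w 0).1 (by rw [h1, smul_zero])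
    · intro w
      induction w with
      | zero => exact ⟨0, map_zero _⟩
      | add a b ha hb =>
        obtain ⟨x, rfl⟩ := ha
        obtain ⟨y, rfl⟩ := hb
        exact ⟨x + y, map_add _ _ _⟩
      | tmul a m' =>
        obtain ⟨⟨m, ⟨_, k, rfl⟩⟩, hm⟩ := IsLocalizedModule.surj (Submonoid.powers (algebraMap A B t₀))
          (LocalizedModule.mkLinearMap _ M) m'
        change (algebraMap A B t₀) ^ k • m' = φ m at hm
        rw [← map_pow, algebraMap_smul] at hm
        refine ⟨(a * (((ht.pow k).unit⁻¹ : Atˣ) : At)) ⊗ₜ[A] m, ?_⟩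
        rw [LinearMap.baseChange_tmul, ← hm, ← TensorProduct.smul_tmul, Algebra.smul_def, map_pow,
          mul_left_comm, IsUnit.mul_val_inv, mul_one]
  have : Module.Free At (At ⊗[A] M) := Module.Free.of_equiv (LinearEquiv.ofBijective _ hbij).symm
  exact Module.Free.of_equiv (LocalizedModule.equivTensorProduct (Submonoid.powers (t₀ * f)) M).symm

end Groth.Agent.S2573
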