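import Groth.Statements.S2574
import Groth.Agent.FlatCrit.Basic
import Mathlib

set_option autoImplicit false
open TensorProduct
universe u
open EGA43

namespace Groth.Agent.S2574

open TensorProduct


variable {A : Type u} [CommRing A] (M : Type u) [AddCommGroup M] [Module A M]

/-- elements of `M ⊗ N` vanishing at all associated primes of `A` vanish -/
def Sep (N : Type u) [AddCommGroup N] [Module A N] : Prop :=
  ∀ x : M ⊗[A] N, (∀ p ∈ associatedPrimes A A, ∃ s ∉ p, s • x = 0) → x = 0

theorem smul_injective_lTensor {N' : Type u} [AddCommGroup N'] [Module A N'] (S : Submonoid A)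
    {N : Type u} [AddCommGroup N] [Module A N] (g : N →ₗ[A] N') [IsLocalizedModule S g] {s : A} (hs : s ∈ S)
    (y : M ⊗[A] N') (h : s • y = 0) : y = 0 := by
  obtain ⟨u, hu⟩ := IsLocalizedModule.map_units g ⟨s, hs⟩
  have h1 : LinearMap.lTensor M (u : Module.End A N') y = s • y := by
    rw [hu]; clear h
    induction y with
    | zero => simp
    | add a b ha hb => simp only [smul_add, map_add] at ha hb ⊢; rw [ha, hb]
    | tmul a b => simp
  have h2 : LinearMap.lTensor M ((↑(u⁻¹) : Module.End A N') * (↑u : Module.End A N')) y = y := by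
    rw [Units.inv_mul]; simp [Module.End.one_eq_id]
  rw [← h2, Module.End.mul_eq_comp, LinearMap.lTensor_comp_apply, h1, h, map_zero]

theorem eq_zero_of_pi (J : Ideal A) [Module.Flat (A ⧸ J) ((A ⧸ J) ⊗[A] M)] {ι : Type u} [Fintype ι]
    (L : ι → Type u) [∀ i, AddCommGroup (L i)] [∀ i, Module A (L i)] {N : Type u} [AddCommGroup N] [Module A N]
    (htor : Module.IsTorsionBySet A N J) (g : N →ₗ[A] (∀ i, L i)) (hg : Function.Injective g)
    (htorL : ∀ (i : ι) (z : L i) (a : J), (a : A) • z = 0) (x : M ⊗[A] N)
    (h : ∀ i, ((LinearMap.proj i).comp g).lTensor M x = 0) : x = 0 := by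
  classical
  have htorπ : Module.IsTorsionBySet A (∀ i, L i) J := fun z a => funext fun i => htorL i (z i) a
  letI := htor.module
  haveI : IsScalarTower A (A ⧸ J) N := htor.isScalarTower
  letI := htorπ.module
  haveI : IsScalarTower A (A ⧸ J) (∀ i, L i) := htorπ.isScalarTower
  let g' : N →ₗ[A ⧸ J] (∀ i, L i) := g.extendScalarsOfSurjective Ideal.Quotient.mk_surjective
  have hinj := FlatCrit.lTensor_injective_of_flat_baseChange (R := A) (M := M) (A ⧸ J) g' (fun a b h => hg h)
  apply hinj
  rw [map_zero]
  apply (TensorProduct.piRight A A M L).injective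
  rw [map_zero]
  funext i
  have key : ∀ y : M ⊗[A] N, TensorProduct.piRight A A M L ((g'.restrictScalars A).lTensor M y) i =
      ((LinearMap.proj i).comp g).lTensor M y := by
    intro y
    induction y with
    | zero => simp
    | add a b ha hb => simp only [map_add, Pi.add_apply, ha, hb]
    | tmul a b => simp [g']
  rw [key, h]
  rfl

/-- submodules of free modules killed by `J` -/
theorem sep_of_smul [IsNoetherianRing A] (J : Ideal A) [Module.Flat (A ⧸ J) ((A ⧸ J) ⊗[A] M)] {m : ℕ}
    (N : Submodule A (Fin m → A)) (hN : J • N = ⊥) : Sep (A := A) M ↥N := by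
  intro x hx
  classical
  have htor : Module.IsTorsionBySet A N J := fun y a => Subtype.ext (by
    have : (a : A) • (y : Fin m → A) ∈ J • N := Submodule.smul_mem_smul a.2 y.2
    simpa [hN] using this)
  let P := associatedPrimes A A
  have hP : ∀ p : P, p.1.IsPrime := fun p => IsAssociatedPrime.isPrime (show p.1 ∈ associatedPrimes A A from p.2)
  have : Fintype P := (associatedPrimes.finite A A).fintype
  let g : N →ₗ[A] (∀ p : P, LocalizedModule (p.1.primeCompl) N) :=
    LinearMap.pi fun p => LocalizedModule.mkLinearMap p.1.primeCompl N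
  have hg : Function.Injective g := by
    rw [injective_iff_map_eq_zero]
    intro y hy
    by_contra hne
    obtain ⟨i, hi⟩ : ∃ i, (y : Fin m → A) i ≠ 0 := by
      by_contra hc; push Not at hc; exact hne (Subtype.ext (funext hc))
    obtain ⟨p, hp, hle⟩ := exists_le_isAssociatedPrime_of_isNoetherianRing A _ hi
    have : p.IsPrime := IsAssociatedPrime.isPrime hp
    have := congrFun hy ⟨p, hp⟩
    obtain ⟨⟨s, hs⟩, hsy⟩ := (IsLocalizedModule.eq_zero_iff p.primeCompl (LocalizedModule.mkLinearMap p.primeCompl N)).1 this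
    have hsi : s • (y : Fin m → A) i = 0 := congrFun (congrArg Subtype.val hsy) i
    exact hs (hle (by simpa [Submodule.mem_colon_singleton] using hsi))
  refine eq_zero_of_pi M J (fun p : P => LocalizedModule (p.1.primeCompl) N) htor g hg (fun p z a => ?_) x (fun p => ?_)
  · obtain ⟨⟨n, t⟩, hnt⟩ := IsLocalizedModule.surj p.1.primeCompl (LocalizedModule.mkLinearMap p.1.primeCompl N) z
    obtain ⟨u, hu⟩ := IsLocalizedModule.map_units (LocalizedModule.mkLinearMap p.1.primeCompl N) t
    have h0 : (u : Module.End A (LocalizedModule p.1.primeCompl N)) ((a : A) • z) = 0 := by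
      rw [hu, Module.algebraMap_end_apply, smul_comm]
      show (a : A) • (t • z) = 0
      rw [hnt, ← map_smul, @htor n a, map_zero]
    exact ((Module.End.isUnit_iff _).1 u.isUnit).1 (by rw [h0, map_zero])
  · obtain ⟨s, hs, hsx⟩ := hx p.1 p.2
    refine smul_injective_lTensor (N := N) (N' := LocalizedModule p.1.primeCompl N) M p.1.primeCompl (LocalizedModule.mkLinearMap p.1.primeCompl N) (s := s) hs _ ?_
    rw [← map_smul, hsx, map_zero]

/-- submodules of free modules killed by a power of `J` -/
theorem sep_of_pow [IsNoetherianRing A] (J : Ideal A) [Module.Flat (A ⧸ J) ((A ⧸ J) ⊗[A] M)]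
    (hM : ∀ p : associatedPrimes A A, haveI : p.1.IsPrime := IsAssociatedPrime.isPrime p.2
      Module.Flat A (LocalizedModule p.1.primeCompl M)) (k : ℕ) {m : ℕ}
    (N : Submodule A (Fin m → A)) (hN : J ^ k • N = ⊥) : Sep (A := A) M ↥N := by
  induction k generalizing m with
  | zero =>
    rw [pow_zero, Ideal.one_eq_top, Submodule.top_smul] at hN
    exact sep_of_smul M J N (by rw [hN, Submodule.smul_bot])
  | succ k ih =>
    intro x hx
    obtain ⟨r, j, hj⟩ := Submodule.fg_iff_exists_fin_generating_family.1 (IsNoetherian.noetherian J)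
    have hjm : ∀ i, j i ∈ J := fun i => hj ▸ Submodule.subset_span ⟨i, rfl⟩
    let Φ : (Fin m → A) →ₗ[A] (Fin (r * m) → A) :=
      LinearMap.pi fun il => j (finProdFinEquiv.symm il).1 • LinearMap.proj (finProdFinEquiv.symm il).2
    let N'' := Submodule.map Φ N
    have hN'' : J ^ k • N'' = ⊥ := by
      rw [← Submodule.map_smul'', eq_bot_iff]
      rintro _ ⟨y, hy, rfl⟩
      refine funext fun il => ?_
      have : j (finProdFinEquiv.symm il).1 • y ∈ J ^ (k + 1) • N := by
        rw [pow_succ', mul_smul]
        exact Submodule.smul_mem_smul (hjm _) hy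
      rw [hN, Submodule.mem_bot] at this
      exact congrFun this _
    let q : N →ₗ[A] N'' := (Φ.comp N.subtype).codRestrict N'' fun y => ⟨y, y.2, rfl⟩
    let K := N ⊓ LinearMap.ker Φ
    have hK : J • K = ⊥ := by
      rw [eq_bot_iff]
      refine Submodule.smul_le.2 fun a ha y hy => funext fun l => ?_
      rw [← hj] at ha
      show a * y l = 0
      induction ha using Submodule.span_induction with
      | mem a ha =>
        obtain ⟨i, rfl⟩ := ha
        have := congrFun (LinearMap.mem_ker.1 hy.2) (finProdFinEquiv (i, l))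
        simpa [Φ, Equiv.symm_apply_apply, -finProdFinEquiv_symm_apply] using this
      | zero => simp
      | add a b _ _ ha hb => rw [add_mul, ha, hb, add_zero]
      | smul c a _ ha => rw [smul_eq_mul, mul_assoc, ha, mul_zero]
    let i : K →ₗ[A] N := Submodule.inclusion inf_le_left
    have hex : Function.Exact i q := fun y => by
      constructor
      · intro h
        exact ⟨⟨y, y.2, LinearMap.mem_ker.2 (congrArg Subtype.val h)⟩, rfl⟩
      · rintro ⟨z, rfl⟩; exact Subtype.ext (LinearMap.mem_ker.1 z.2.2)
    have hq : Function.Surjective q := by rintro ⟨_, y, hy, rfl⟩; exact ⟨⟨y, hy⟩, rfl⟩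
    have hqx : q.lTensor M x = 0 := ih N'' hN'' _ fun p hp => by
      obtain ⟨s, hs, h⟩ := hx p hp
      exact ⟨s, hs, by rw [← map_smul, h, map_zero]⟩
    obtain ⟨y, rfl⟩ := (_root_.lTensor_exact M hex hq x).1 hqx
    suffices y = 0 by rw [this, map_zero]
    refine sep_of_smul M J K hK y fun p hp => ?_
    obtain ⟨s, hs, h⟩ := hx p hp
    haveI : p.IsPrime := IsAssociatedPrime.isPrime hp
    haveI := hM ⟨p, hp⟩
    let g := LocalizedModule.mkLinearMap p.primeCompl M
    have hy0 : g.rTensor K (s • y) = 0 := by
      apply Module.Flat.lTensor_preserves_injective_linearMap (M := LocalizedModule p.primeCompl M) i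
        (Submodule.inclusion_injective _)
      rw [map_zero, ← LinearMap.comp_apply, LinearMap.lTensor_comp_rTensor, ← LinearMap.rTensor_comp_lTensor,
        LinearMap.comp_apply, map_smul, h, map_zero]
    obtain ⟨⟨t, ht⟩, hty⟩ := (IsLocalizedModule.eq_zero_iff p.primeCompl
      (AlgebraTensorModule.rTensor A K g : M ⊗[A] K →ₗ[A] LocalizedModule p.primeCompl M ⊗[A] K)).1
      (show AlgebraTensorModule.rTensor A K g (s • y) = 0 from hy0)
    exact ⟨t * s, fun hc => (Ideal.IsPrime.mem_or_mem inferInstance hc).elim ht hs, by rw [mul_smul]; exact hty⟩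

theorem flat_of_ass [IsNoetherianRing A] (J : Ideal A) (hJ : IsNilpotent J) [Module.Flat (A ⧸ J) ((A ⧸ J) ⊗[A] M)]
    (hM : ∀ p : associatedPrimes A A, haveI : p.1.IsPrime := IsAssociatedPrime.isPrime p.2
      Module.Flat A (LocalizedModule p.1.primeCompl M)) : Module.Flat A M := by
  refine FlatCrit.flat_of_isNilpotent hJ ((injective_iff_map_eq_zero _).2 fun x hx => ?_)
  obtain ⟨n, hn⟩ := hJ
  let e : A →ₗ[A] (Fin 1 → A) := LinearMap.pi fun _ => LinearMap.id
  let N := Submodule.map e J
  have hN : J ^ n • N = ⊥ := by rw [hn]; simp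
  let i : J →ₗ[A] N := (e.comp (Submodule.subtype J)).codRestrict N fun y => ⟨y, y.2, rfl⟩
  let r : N →ₗ[A] J := ((LinearMap.proj 0).comp N.subtype).codRestrict J fun y => by
    obtain ⟨_, a, ha, rfl⟩ := y; exact ha
  have hri : r.comp i = LinearMap.id := LinearMap.ext fun y => Subtype.ext rfl
  suffices i.lTensor M x = 0 by
    rw [← LinearMap.id_apply (R := A) x, ← LinearMap.lTensor_id, ← hri, LinearMap.lTensor_comp_apply, this, map_zero]
  refine sep_of_pow M J hM n N hN _ fun p hp => ?_
  haveI : p.IsPrime := IsAssociatedPrime.isPrime hp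
  haveI := hM ⟨p, hp⟩
  let g := LocalizedModule.mkLinearMap p.primeCompl M
  have h0 : g.rTensor J x = 0 := by
    apply Module.Flat.lTensor_preserves_injective_linearMap (M := LocalizedModule p.primeCompl M)
      (Submodule.subtype J) Subtype.val_injective
    rw [map_zero, ← LinearMap.comp_apply, LinearMap.lTensor_comp_rTensor, ← LinearMap.rTensor_comp_lTensor,
      LinearMap.comp_apply, hx, map_zero]
  obtain ⟨⟨t, ht⟩, htx⟩ := (IsLocalizedModule.eq_zero_iff p.primeCompl
    (AlgebraTensorModule.rTensor A J g : M ⊗[A] J →ₗ[A] LocalizedModule p.primeCompl M ⊗[A] J)).1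
    (show AlgebraTensorModule.rTensor A J g x = 0 from h0)
  exact ⟨t, ht, by rw [← map_smul, show t • x = 0 from htx, map_zero]⟩



/-- Let A be a Noetherian ring, J a nilpotent ideal of A and M an A-module. Then M is flat over A if and
only if (A/J) ⊗_A M is flat over A/J and, for every associated prime p of A, the localization M_p is
flat over A_p. -/
theorem result {A : Type u} [CommRing A] [IsNoetherianRing A]
    (J : Ideal A) (hJ : IsNilpotent J) (M : Type u) [AddCommGroup M] [Module A M] :
    Module.Flat A M ↔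
      Module.Flat (A ⧸ J) ((A ⧸ J) ⊗[A] M) ∧
        ∀ p : associatedPrimes A A,
          haveI : p.1.IsPrime := IsAssociatedPrime.isPrime p.2
          Module.Flat (Localization.AtPrime p.1) (LocalizedModule p.1.primeCompl M) := by
  constructor
  · intro h
    refine ⟨inferInstance, fun p => ?_⟩
    haveI : p.1.IsPrime := IsAssociatedPrime.isPrime p.2
    exact inferInstance
  · rintro ⟨h1, h2⟩
    refine flat_of_ass M J hJ fun p => ?_
    haveI : p.1.IsPrime := IsAssociatedPrime.isPrime p.2
    haveI := h2 p
    exact Module.Flat.trans A (Localization.AtPrime p.1) (LocalizedModule p.1.primeCompl M)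

end Groth.Agent.S2574
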