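import Groth.Statements.S2575
import Groth.Agent.ConstrFib.FlatFibres

set_option autoImplicit false
open CategoryTheory AlgebraicGeometry
universe u
open EGA43

namespace Groth.Agent.S2575

open CategoryTheory.Limits in
/-- Let g : Y ⟶ S and f : X ⟶ Y be such that X and Y are of finite presentation over S (locally of
finite presentation, quasi-compact and quasi-separated). For each point s of S let f_s be the
induced morphism from the fibre of f ≫ g over s to the fibre of g over s. Then the set of s for
which f_s is an isomorphism is locally constructible in S. -/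
theorem result {X Y S : Scheme.{u}} (f : X ⟶ Y) (g : Y ⟶ S)
    [LocallyOfFinitePresentation g] [QuasiCompact g] [QuasiSeparated g]
    [LocallyOfFinitePresentation (f ≫ g)] [QuasiCompact (f ≫ g)] [QuasiSeparated (f ≫ g)] :
    Topology.IsLocallyConstructible {s : S |
      IsIso (pullback.lift (pullback.fst (f ≫ g) (S.fromSpecResidueField s) ≫ f) (pullback.snd (f ≫ g) (S.fromSpecResidueField s))
          ((Category.assoc _ _ _).trans pullback.condition) :
        pullback (f ≫ g) (S.fromSpecResidueField s) ⟶ pullback g (S.fromSpecResidueField s))} := by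

  have : QuasiCompact f := QuasiCompact.of_comp f g
  have : LocallyOfFinitePresentation f := Groth.Agent.AlgSpc.lfp_of_comp f g
  have hrf : Topology.IsLocallyConstructible (Set.range f) := by
    rw [← Set.image_univ]; exact f.isLocallyConstructible_image .univ
  convert! (Groth.Agent.ConstrFib.isLocallyConstructible_setOf_isOpenImmersion f g).inter
    (Groth.Agent.LimSch.isLocallyConstructible_compl
      (g.isLocallyConstructible_image (Groth.Agent.LimSch.isLocallyConstructible_compl hrf))) using 1
  ext s
  rw [Set.mem_inter_iff, Set.mem_compl_iff, Set.mem_ofPred_eq, Set.mem_ofPred_eq]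
  have hr := Groth.Agent.ConstrFib.range_fib_eq f g s
  constructor
  · intro h
    refine ⟨inferInstance, ?_⟩
    rintro ⟨y, hy, rfl⟩
    obtain ⟨z, hz⟩ : y ∈ Set.range (pullback.fst g (S.fromSpecResidueField (g y))) := by
      rw [Scheme.Pullback.range_fst, Scheme.range_fromSpecResidueField]; rfl
    have hzr := (Groth.Agent.ConstrFib.fib f g (g y)).homeomorph.surjective z
    obtain ⟨w, hw⟩ := hzr
    have : z ∈ Set.range (Groth.Agent.ConstrFib.fib f g (g y)) := ⟨w, hw⟩
    rw [hr, Set.mem_preimage, hz] at this
    exact hy this
  · rintro ⟨h, hs⟩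
    have : Surjective (Groth.Agent.ConstrFib.fib f g s) := ⟨fun z => by
      show z ∈ Set.range (Groth.Agent.ConstrFib.fib f g s)
      rw [hr, Set.mem_preimage]
      by_contra hn
      refine hs ⟨_, hn, ?_⟩
      exact (Scheme.range_fromSpecResidueField s).le ((Scheme.Pullback.range_fst (f := g) (g := S.fromSpecResidueField s)).le ⟨z, rfl⟩)⟩
    exact (isIso_iff_isOpenImmersion_and_epi_base _).2 ⟨h, (TopCat.epi_iff_surjective _).2 (Scheme.Hom.surjective _)⟩

end Groth.Agent.S2575
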