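import Groth.Statements.S2586
import Mathlib
import Groth.Agent.FlatInjCoker.Basic
import Groth.Agent.W4c1Basic.Fibres

set_option autoImplicit false
open TensorProduct
universe u
open EGA43

namespace Groth.Agent.S2586

open Groth.Agent
set_option maxHeartbeats 1000000

theorem mem_smul_localized_iff {B M : Type u} [CommRing B] [AddCommGroup M] [Module B M] (S : Submonoid B)
    (J : Ideal B) (x : M) (t : S) :
    LocalizedModule.mk x t ∈ J • (⊤ : Submodule B (LocalizedModule S M)) ↔
      ∃ s ∈ S, s • x ∈ J • (⊤ : Submodule B M) := by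
  constructor
  · intro h
    let K : Submodule B (LocalizedModule S M) :=
      { carrier := {z | ∃ (m : M) (s : S), m ∈ J • (⊤ : Submodule B M) ∧ z = LocalizedModule.mk m s}
        zero_mem' := ⟨0, 1, zero_mem _, (LocalizedModule.zero_mk 1).symm⟩
        add_mem' := by
          rintro _ _ ⟨m, s, hm, rfl⟩ ⟨m', s', hm', rfl⟩
          refine ⟨s' • m + s • m', s * s', add_mem ?_ ?_, LocalizedModule.mk_add_mk⟩
          · exact Submodule.smul_mem _ (s' : B) hm
          · exact Submodule.smul_mem _ (s : B) hm'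
        smul_mem' := by
          rintro b _ ⟨m, s, hm, rfl⟩
          exact ⟨b • m, s, Submodule.smul_mem _ b hm, LocalizedModule.smul'_mk ..⟩ }
    have hle : J • (⊤ : Submodule B (LocalizedModule S M)) ≤ K := by
      refine Submodule.smul_le.2 fun b hb z _ => ?_
      obtain ⟨⟨m, s⟩, rfl⟩ : ∃ p : M × S, LocalizedModule.mk p.1 p.2 = z := by
        induction z using LocalizedModule.induction_on with | h m s => exact ⟨(m, s), rfl⟩
      exact ⟨b • m, s, Submodule.smul_mem_smul hb trivial, LocalizedModule.smul'_mk ..⟩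
    obtain ⟨m, s, hm, he⟩ := hle h
    obtain ⟨u, hu⟩ := LocalizedModule.mk_eq.1 he
    refine ⟨(u : B) * s, S.mul_mem u.2 s.2, ?_⟩
    rw [mul_smul, show (s : B) • x = s • x from rfl, show (u : B) • (s • x) = u • s • x from rfl, hu]
    exact Submodule.smul_mem _ (u : B) (Submodule.smul_mem _ (t : B) hm)
  · rintro ⟨s, hs, hsx⟩
    have h1 : (LocalizedModule.mk (s • x) (⟨s, hs⟩ * t) : LocalizedModule S M) = LocalizedModule.mk x t :=
      LocalizedModule.mk_cancel_common_left ⟨s, hs⟩ t x
    rw [← h1]
    refine Submodule.smul_induction_on hsx (fun b hb m _ => ?_) fun a c ha hc => ?_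
    · rw [← LocalizedModule.smul'_mk]
      exact Submodule.smul_mem_smul hb trivial
    · have : LocalizedModule.mk (a + c) (⟨s, hs⟩ * t) =
          LocalizedModule.mk a (⟨s, hs⟩ * t) + LocalizedModule.mk c (⟨s, hs⟩ * t) := by
        rw [LocalizedModule.mk_add_mk, ← smul_add]
        exact (LocalizedModule.mk_cancel_common_left (⟨s, hs⟩ * t) (⟨s, hs⟩ * t) (a + c)).symm
      rw [this]
      exact add_mem ha hc

variable {A B : Type u} [CommRing A] [CommRing B] [Algebra A B] {M : Type u} [AddCommGroup M] [Module B M]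
  [Module A M] [IsScalarTower A B M] (q : Ideal B) [q.IsPrime]

local notation "𝔭" => Ideal.comap (algebraMap A B) q

theorem exists_smul_mk (z : M ⊗[A] (𝔭).ResidueField) :
    ∃ a ∉ 𝔭, ∃ m : M, algebraMap A B a • z = m ⊗ₜ[A] (1 : (𝔭).ResidueField) := by
  induction z using TensorProduct.induction_on with
  | zero => exact ⟨1, Ideal.one_notMem _, 0, by simp⟩
  | tmul m k =>
    obtain ⟨r, ⟨s, hs⟩, rfl⟩ := IsLocalization.exists_mk'_eq (nonZeroDivisors (A ⧸ 𝔭)) k
    obtain ⟨r, rfl⟩ := Ideal.Quotient.mk_surjective r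
    obtain ⟨s, rfl⟩ := Ideal.Quotient.mk_surjective s
    refine ⟨s, fun hmem => nonZeroDivisors.ne_zero hs (Ideal.Quotient.eq_zero_iff_mem.mpr hmem), r • m, ?_⟩
    rw [TensorProduct.smul_tmul', algebraMap_smul, TensorProduct.smul_tmul, TensorProduct.smul_tmul]
    congr 1
    rw [Algebra.smul_def, Algebra.smul_def, mul_one, IsScalarTower.algebraMap_apply A (A ⧸ 𝔭) (𝔭).ResidueField,
      IsScalarTower.algebraMap_apply A (A ⧸ 𝔭) (𝔭).ResidueField]
    exact IsLocalization.mk'_spec' (𝔭).ResidueField (Ideal.Quotient.mk 𝔭 r) ⟨_, hs⟩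
  | add z w hz hw =>
    obtain ⟨a, ha, m, hm⟩ := hz
    obtain ⟨b, hb, n, hn⟩ := hw
    refine ⟨a * b, fun h => (Ideal.IsPrime.mem_or_mem inferInstance h).elim ha hb, b • m + a • n, ?_⟩
    rw [TensorProduct.add_tmul, smul_add, map_mul, mul_smul, mul_smul, smul_comm _ _ z, hm, hn,
      TensorProduct.smul_tmul', TensorProduct.smul_tmul', algebraMap_smul, algebraMap_smul]

theorem mem_of_tmul_mem (J : Ideal B) (x : M)
    (h : x ⊗ₜ[A] (1 : (𝔭).ResidueField) ∈ J • (⊤ : Submodule B (M ⊗[A] (𝔭).ResidueField))) :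
    ∃ s ∉ q, s • x ∈ (J ⊔ (𝔭).map (algebraMap A B)) • (⊤ : Submodule B M) := by
  let K : Submodule B (M ⊗[A] (𝔭).ResidueField) :=
    { carrier := {z | ∃ a ∉ 𝔭, ∃ m ∈ J • (⊤ : Submodule B M), algebraMap A B a • z = m ⊗ₜ[A] (1 : (𝔭).ResidueField)}
      zero_mem' := ⟨1, Ideal.one_notMem _, 0, zero_mem _, by simp⟩
      add_mem' := by
        rintro z w ⟨a, ha, m, hm', hm⟩ ⟨b, hb, n, hn', hn⟩
        refine ⟨a * b, fun h => (Ideal.IsPrime.mem_or_mem inferInstance h).elim ha hb, algebraMap A B b • m + algebraMap A B a • n,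
          add_mem (Submodule.smul_mem _ _ hm') (Submodule.smul_mem _ _ hn'), ?_⟩
        rw [TensorProduct.add_tmul, smul_add, map_mul, mul_smul, mul_smul, smul_comm _ _ z, hm, hn,
          TensorProduct.smul_tmul', TensorProduct.smul_tmul']
      smul_mem' := by
        rintro b z ⟨a, ha, m, hm', hm⟩
        exact ⟨a, ha, b • m, Submodule.smul_mem _ b hm', by rw [smul_comm, hm, TensorProduct.smul_tmul']⟩ }
  have hle : J • (⊤ : Submodule B (M ⊗[A] (𝔭).ResidueField)) ≤ K := by
    refine Submodule.smul_le.2 fun b hb z _ => ?_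
    obtain ⟨a, ha, m, hm⟩ := exists_smul_mk q z
    exact ⟨a, ha, b • m, Submodule.smul_mem_smul hb trivial, by rw [smul_comm, hm, TensorProduct.smul_tmul']⟩
  obtain ⟨a, ha, m, hm', hm⟩ := hle h
  have hz : (1 : (𝔭).ResidueField) ⊗ₜ[A] (algebraMap A B a • x - m) = 0 := by
    refine (TensorProduct.comm A (𝔭).ResidueField M).injective ?_
    rw [TensorProduct.comm_tmul, TensorProduct.sub_tmul, map_zero, ← TensorProduct.smul_tmul', hm, sub_self]
  obtain ⟨a', ha', hmem⟩ := W4c1Basic.exists_smul_mem_of_tmul_eq_zero (𝔭) _ hz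
  refine ⟨algebraMap A B (a' * a), fun hc => ?_, ?_⟩
  · rcases Ideal.IsPrime.mem_or_mem inferInstance (show a' * a ∈ 𝔭 from hc) with h' | h'
    exacts [ha' h', ha h']
  · rw [← FlatInjCoker.mem_map_smul_iff (R := A) (S := B) (𝔭)] at hmem
    have h1 : algebraMap A B (a' * a) • x = a' • (algebraMap A B a • x - m) + a' • m := by
      rw [smul_sub, sub_add_cancel, map_mul, mul_smul, algebraMap_smul]
    rw [h1, Submodule.sup_smul]
    exact add_mem (Submodule.mem_sup_right hmem) (Submodule.mem_sup_left (Submodule.smul_of_tower_mem _ a' hm'))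

theorem exists_smul_of_mk_tmul_mem (J : Ideal B) (x : M)
    (h : LocalizedModule.mk (S := q.primeCompl) (x ⊗ₜ[A] (1 : (𝔭).ResidueField)) 1 ∈
      J • (⊤ : Submodule B (LocalizedModule q.primeCompl (M ⊗[A] (𝔭).ResidueField)))) :
    ∃ s ∉ q, s • x ∈ (J ⊔ (𝔭).map (algebraMap A B)) • (⊤ : Submodule B M) := by
  obtain ⟨s, hs, hsx⟩ := (mem_smul_localized_iff q.primeCompl J _ 1).1 h
  rw [TensorProduct.smul_tmul'] at hsx
  obtain ⟨s', hs', hmem⟩ := mem_of_tmul_mem q J (s • x) hsx
  exact ⟨s' * s, q.primeCompl.mul_mem hs' hs, by rw [mul_smul]; exact hmem⟩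

theorem mk_tmul_mem {J : Ideal B} {m : M} (h : m ∈ (J ⊔ (𝔭).map (algebraMap A B)) • (⊤ : Submodule B M)) :
    m ⊗ₜ[A] (1 : (𝔭).ResidueField) ∈ J • (⊤ : Submodule B (M ⊗[A] (𝔭).ResidueField)) := by
  let ι : M →ₗ[B] M ⊗[A] (𝔭).ResidueField := (TensorProduct.AlgebraTensorModule.mk A B M (𝔭).ResidueField).flip 1
  have h1 : ((J ⊔ (𝔭).map (algebraMap A B)) • (⊤ : Submodule B M)).map ι ≤ J • ⊤ := by
    rw [Submodule.map_smul'', Submodule.sup_smul, sup_le_iff]
    refine ⟨Submodule.smul_mono le_rfl le_top, Submodule.smul_le.2 fun b hb z hz => ?_⟩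
    obtain ⟨m, -, rfl⟩ := hz
    have hle : (𝔭).map (algebraMap A B) ≤ LinearMap.ker (LinearMap.toSpanSingleton B _ (ι m)) := by
      rw [Ideal.map_le_iff_le_comap]
      intro a ha
      show algebraMap A B a • (m ⊗ₜ[A] (1 : (𝔭).ResidueField)) = 0
      rw [algebraMap_smul, ← TensorProduct.tmul_smul, ← Algebra.algebraMap_eq_smul_one,
        Ideal.algebraMap_residueField_eq_zero.2 ha, TensorProduct.tmul_zero]
    have := hle hb
    simp only [LinearMap.mem_ker, LinearMap.toSpanSingleton_apply] at this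
    rw [this]
    exact zero_mem _
  exact h1 ⟨m, h, rfl⟩

/-- Let A ⟶ B be a ring map with B finitely presented over A, M a finitely presented B-module, q a prime
of B with contraction p, and g₁, …, gₙ elements of q. Suppose the localization M_q is flat over A
and the gᵢ form a regular sequence on the localization at q of the fibre module M ⊗_A κ(p). Then the
gᵢ form a regular sequence on M_q, and for every i the localization at q of M/(g₁, …, gᵢ)M is flat
over A. -/
theorem result {A B : Type u} [CommRing A] [CommRing B] [Algebra A B]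
    [Algebra.FinitePresentation A B] (M : Type u) [AddCommGroup M] [Module B M] [Module A M] [IsScalarTower A B M]
    [Module.FinitePresentation B M] (q : Ideal B) [q.IsPrime] (g : List B) (hg : ∀ b ∈ g, b ∈ q)
    (hflat : Module.Flat A (LocalizedModule q.primeCompl M))
    (hreg : RingTheory.Sequence.IsRegular
      (LocalizedModule q.primeCompl (M ⊗[A] (q.comap (algebraMap A B)).ResidueField)) g) :
    RingTheory.Sequence.IsRegular (LocalizedModule q.primeCompl M) g ∧
      ∀ i ≤ g.length, Module.Flat A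
        (LocalizedModule q.primeCompl (M ⧸ (Ideal.span {b | b ∈ g.take i} • (⊤ : Submodule B M)))) := by
  haveI := hflat
  let I : ℕ → Ideal B := fun i => Ideal.ofList (g.take i)
  let Q := M ⊗[A] (q.comap (algebraMap A B)).ResidueField
  -- each element is regular on the fibre modulo the previous ones
  have hfib : ∀ (i : ℕ) (hi : i < g.length) (x : M),
      g[i] • x ∈ (I i ⊔ (q.comap (algebraMap A B)).map (algebraMap A B)) • (⊤ : Submodule B M) →
      ∃ s ∉ q, s • x ∈ (I i ⊔ (q.comap (algebraMap A B)).map (algebraMap A B)) • (⊤ : Submodule B M) := by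
    intro i hi x hx
    refine exists_smul_of_mk_tmul_mem q (I i) x ?_
    refine (isSMulRegular_quotient_iff_mem_of_smul_mem _ _).1 (hreg.regular_mod_prev i hi) _ ?_
    rw [LocalizedModule.smul'_mk, TensorProduct.smul_tmul']
    exact (mem_smul_localized_iff _ _ _ 1).2 ⟨1, one_mem _, by rw [one_smul]; exact mk_tmul_mem q hx⟩
  -- flatness of the quotients and regularity
  have hstep : ∀ i ≤ g.length, Module.Flat A (LocalizedModule q.primeCompl (M ⧸ (I i • (⊤ : Submodule B M)))) ∧
      ∀ j, j < i → ∀ (hj : j < g.length) (x : M), g[j] • x ∈ I j • (⊤ : Submodule B M) →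
        ∃ s ∉ q, s • x ∈ I j • (⊤ : Submodule B M) := by
    intro i
    induction i with
    | zero =>
      intro _
      refine ⟨?_, fun j hj => absurd hj (Nat.not_lt_zero j)⟩
      exact FlatLocus.flat_localized_congr ((Submodule.quotEquivOfEqBot _ (by simp [I])).symm) q.primeCompl
    | succ i ih =>
      intro hi
      obtain ⟨hflat', hprev⟩ := ih (by omega)
      haveI := hflat'
      let N := M ⧸ (I i • (⊤ : Submodule B M))
      haveI : Module.FinitePresentation B N :=
        Module.finitePresentation_of_surjective (Submodule.mkQ _) (Submodule.mkQ_surjective _) (by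
          rw [Submodule.ker_mkQ]
          exact Submodule.FG.smul (Submodule.fg_span (List.finite_toSet _)) Module.Finite.fg_top)
      let u : N →ₗ[B] N := LinearMap.lsmul B N g[i]
      have hu : FlatInjCoker.FibInj A u q := by
        intro z hz
        obtain ⟨x, rfl⟩ := Submodule.mkQ_surjective _ z
        have hmem : ∀ m : M, Submodule.mkQ (I i • (⊤ : Submodule B M)) m ∈
            ((q.comap (algebraMap A B)).map (algebraMap A B)) • (⊤ : Submodule B N) ↔
            m ∈ (I i ⊔ (q.comap (algebraMap A B)).map (algebraMap A B)) • (⊤ : Submodule B M) := by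
          intro m
          rw [Submodule.sup_smul, ← Submodule.comap_map_mkQ, Submodule.mem_comap, Submodule.map_smul'',
            Submodule.map_top, Submodule.range_mkQ]
        obtain ⟨s, hs, hsx⟩ := hfib i (by omega) x ((hmem _).1 (by rw [map_smul]; exact hz))
        exact ⟨s, hs, by rw [← map_smul]; exact (hmem _).2 hsx⟩
      obtain ⟨hinj, hfl⟩ := FlatInjCoker.injFlat (R := A) u q hu
      refine ⟨?_, fun j hj hjg x hx => ?_⟩
      · haveI := hfl
        refine FlatLocus.flat_localized_congr (M := N ⧸ LinearMap.range u) ?_ q.primeCompl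
        have e1 : LinearMap.range u = ((Ideal.span {g[i]}) • (⊤ : Submodule B M)).map (Submodule.mkQ (I i • (⊤ : Submodule B M))) := by
          rw [Submodule.map_smul'', Submodule.map_top, Submodule.range_mkQ, Submodule.ideal_span_singleton_smul]
          ext z
          simp [u, Submodule.mem_smul_pointwise_iff_exists]
        have e2 : I i • (⊤ : Submodule B M) ⊔ Ideal.span {g[i]} • (⊤ : Submodule B M) = I (i + 1) • (⊤ : Submodule B M) := by
          rw [← Submodule.sup_smul]
          congr 1
          show Ideal.ofList (g.take i) ⊔ _ = Ideal.ofList (g.take (i + 1))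
          rw [List.take_succ_eq_append_getElem (by omega), Ideal.ofList_append, Ideal.ofList_singleton]
        exact (Submodule.quotEquivOfEq _ _ e1) ≪≫ₗ
          ((Submodule.quotientQuotientEquivQuotientSup (I i • (⊤ : Submodule B M)) (Ideal.span {g[i]} • (⊤ : Submodule B M))) ≪≫ₗ
            Submodule.quotEquivOfEq _ _ e2)
      · rcases Nat.lt_or_ge j i with hji | hji
        · exact hprev j hji hjg x hx
        · obtain rfl : j = i := by omega
          obtain ⟨s, hs, hsx⟩ := hinj (Submodule.mkQ (I j • (⊤ : Submodule B M)) x) (by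
            have e : u (Submodule.mkQ (I j • (⊤ : Submodule B M)) x) = Submodule.mkQ (I j • (⊤ : Submodule B M)) (g[j] • x) :=
              (map_smul _ _ _).symm
            exact e.trans ((Submodule.Quotient.mk_eq_zero _).2 hx))
          refine ⟨s, hs, ?_⟩
          rw [← map_smul] at hsx
          exact (Submodule.Quotient.mk_eq_zero _).1 hsx
  refine ⟨⟨⟨fun i hi => ?_⟩, fun htop => ?_⟩, fun i hi => (hstep i hi).1⟩
  · refine (isSMulRegular_quotient_iff_mem_of_smul_mem _ _).2 fun z hz => ?_
    induction z using LocalizedModule.induction_on with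
    | h x t =>
      rw [LocalizedModule.smul'_mk] at hz
      obtain ⟨s, hs, hsx⟩ := (mem_smul_localized_iff _ _ _ t).1 hz
      rw [smul_comm] at hsx
      obtain ⟨s', hs', hmem⟩ := (hstep g.length le_rfl).2 i hi hi (s • x) hsx
      exact (mem_smul_localized_iff _ _ _ t).2 ⟨s' * s, q.primeCompl.mul_mem hs' hs, by rw [mul_smul]; exact hmem⟩
  · refine hreg.top_ne_smul (le_antisymm (fun z _ => ?_) le_top)
    induction z using LocalizedModule.induction_on with
    | h w t =>
      obtain ⟨a, ha, m, hm⟩ := exists_smul_mk q w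
      obtain ⟨s, hs, hsm⟩ := (mem_smul_localized_iff q.primeCompl (Ideal.ofList g) m 1).1 (htop ▸ trivial)
      have h1 := mk_tmul_mem q (A := A) (J := Ideal.ofList g) (m := s • m) (Submodule.smul_mono_left le_sup_left hsm)
      rw [← TensorProduct.smul_tmul', ← hm, ← mul_smul] at h1
      exact (mem_smul_localized_iff _ _ _ t).2 ⟨_, q.primeCompl.mul_mem hs ha, h1⟩

end Groth.Agent.S2586
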