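import Groth.Statements.S2593
import Groth.Agent.Chevalley.Equiv
import Groth.Agent.EquidimChart.Section
import Groth.Agent.AlgSpDesc.LqfFibre
import Mathlib

set_option autoImplicit false
open CategoryTheory AlgebraicGeometry
universe u
open EGA43

set_option backward.isDefEq.respectTransparency.types false
set_option linter.style.haveILetI false
namespace Groth.Agent.S2593

open Groth.Agent Groth.Agent.DimTheory Groth.Agent.EquidimChart


/-- Chevalley's criterion for universal openness: let Y be a locally Noetherian scheme all of whose
local rings are geometrically unibranch and f : X ⟶ Y a morphism locally of finite type which is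
equidimensional at every point of X. Then f is universally open. (The published statement has an
arbitrary base; a locally Noetherian base is assumed here, and without it the statement fails, e.g.
for the inclusion of a non-open closed point of the spectrum of an infinite product of copies of
𝔽₂.) -/
theorem result {X Y : Scheme.{u}} [IsLocallyNoetherian Y]
    (hY : ∀ y : Y, CAlg2.IsGeomUnibranch (Y.presheaf.stalk y)) (f : X ⟶ Y) [LocallyOfFiniteType f]
    (h : ∀ x : X, EGA43.IsEquidimAt f x) : UniversallyOpen f := by
  refine Chevalley.universallyOpen_of_forall f fun x => ?_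
  obtain ⟨e, U, hxU, hcomp, h1, h2⟩ := data_of_isEquidimAt _ (h x)
  have hZ := irreducibleComponent_mem_irreducibleComponents x
  have hξ := mem_component_isMax hZ
  have hξx : hZ.1.genericPoint ⤳ x :=
    specializes_iff_mem_closure.2 ((component_eq_closure hZ).symm ▸ mem_irreducibleComponent)
  obtain ⟨hη, hηx⟩ := hcomp _ (hξx.mem_open U.2 hxU) hξ
  exact Chevalley.isUnivOpenAt_of_generic f x _ hξx hη
    (Chevalley.closure_mem_nhds _ (hY _).1.1 hηx hη) e
    (h1 _ (hξx.mem_open U.2 hxU) fun z hz _ => hξ z hz) (h2 x hxU).le (hY _)

end Groth.Agent.S2593
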