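import Groth.Statements.S2594
import Groth.Agent.EquidimChart.Crit
import Groth.Agent.FlatDim.BaseChange
import Mathlib

set_option autoImplicit false
open CategoryTheory AlgebraicGeometry
universe u
open EGA43

namespace Groth.Agent.S2594

open Groth.Agent.EquidimChart Groth.Agent.DimTheory
set_option backward.isDefEq.respectTransparency.types false
set_option linter.style.haveILetI false


open CategoryTheory.Limits in
/-- Let f : X ⟶ Y be locally of finite type and equidimensional at a point x, and g : Y' ⟶ Y a flat
morphism with Y' locally Noetherian (the source states this for arbitrary Y', but its proof reduces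
to the case where every irreducible component passes through the point, which needs the irreducible
components to be locally finite). Then the base change X ×_Y Y' ⟶ Y' is equidimensional at every
point lying over x. -/
theorem result {X Y Y' : Scheme.{u}} (f : X ⟶ Y) [LocallyOfFiniteType f] (g : Y' ⟶ Y) [Flat g] [IsLocallyNoetherian Y']
    (x : X) (h : EGA43.IsEquidimAt f x) (x' : ↥(pullback f g)) (hx' : (pullback.fst f g).base x' = x) :
    EGA43.IsEquidimAt (pullback.snd f g) x' := by
  haveI : LocallyOfFiniteType (pullback.snd f g) := MorphismProperty.pullback_snd _ _ inferInstance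
  haveI : Flat (pullback.fst f g) := MorphismProperty.pullback_fst _ _ inferInstance
  haveI : IsLocallyNoetherian (pullback f g) := LocallyOfFiniteType.isLocallyNoetherian (pullback.snd f g)
  obtain ⟨e, U, hxU, hcomp, h1, -⟩ := data_of_isEquidimAt f h
  let V : (pullback f g).Opens := pullback.fst f g ⁻¹ᵁ U
  have hx'V : x' ∈ V := by show (pullback.fst f g).base x' ∈ U; rw [hx']; exact hxU
  obtain ⟨U', hx'U', hU'V, hU'max⟩ := exists_nbhd_max_specializes hx'V
  refine isEquidimAt_of_data (pullback.snd f g) x' e U' hx'U' (fun ξ hξU hξ => ?_) (fun y hy hmax => ?_)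
  · refine ⟨?_, (hU'max ξ hξU hξ).map (pullback.snd f g).continuous⟩
    have hm : ∀ z : X, z ⤳ pullback.fst f g ξ → z = pullback.fst f g ξ :=
      Groth.Agent.FlatDim.isMax_image (pullback.fst f g) hξ
    exact isMax_baseChange f (IsPullback.of_hasPullback f g) hξ (hcomp _ (hU'V hξU) hm).1
  · have hc := (isPullback_morphismRestrict (pullback.fst f g) U).paste_vert (IsPullback.of_hasPullback f g)
    let y0 : (V : Scheme.{u}) := ⟨y, hU'V hy⟩
    have hmax0 : Groth.Agent.FlatEquidim.IsFibreMax (V.ι ≫ pullback.snd f g) y0 := (isFibreMax_restrict _ V y0).2 hmax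
    haveI : LocallyOfFiniteType (U.ι ≫ f) := inferInstance
    haveI : LocallyOfFiniteType (V.ι ≫ pullback.snd f g) := inferInstance
    have hn : ∀ z : (U.ι ≫ f).fiber (g ((V.ι ≫ pullback.snd f g) y0)), (∀ w, w ⤳ z → w = z) →
        Order.height z = (e : ℕ∞) := by
      intro z hz
      haveI : LocallyOfFiniteType ((U.ι ≫ f).fiberToSpecResidueField (g ((V.ι ≫ pullback.snd f g) y0))) :=
        MorphismProperty.pullback_snd _ _ inferInstance
      obtain ⟨n, hn, hn'⟩ := exists_height_eq (k := Y.residueField _)
        ((U.ι ≫ f).fiberToSpecResidueField (g ((V.ι ≫ pullback.snd f g) y0))) z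
      rw [Groth.Agent.FlatEquidim.resTrdeg_fiber_eq, mapTrdeg_restrict] at hn
      have := h1 _ ((U.ι ≫ f).fiberι _ z).2 ((isFibreMax_restrict f U _).1 fun w hw hfw =>
        Groth.Agent.FlatDim.eq_fiberι_of_isMax (U.ι ≫ f) hz hw
          (hfw.trans (Groth.Agent.FlatEquidim.fiberι_apply_eq (U.ι ≫ f) _ z)))
      rw [hn', Nat.cast_injective (R := Cardinal.{u}) (this.symm.trans hn)]
    have hh := Groth.Agent.FlatDim.fibre_height_baseChange (U.ι ≫ f) hc _ (e : ℕ∞) hn
      ((V.ι ≫ pullback.snd f g).asFiber y0) ((asFiber_max_iff _ _).2 hmax0)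
    obtain ⟨n, hn1, hn2⟩ := height_asFiber (V.ι ≫ pullback.snd f g) y0
    rw [mapTrdeg_restrict] at hn1
    rw [show n = e from Nat.cast_injective (R := ℕ∞) (hn2.symm.trans hh)] at hn1
    exact hn1

end Groth.Agent.S2594
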