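import Groth.Statements.S2595
import Mathlib
import Groth.Agent.EquidimChart.Crit
import Groth.Agent.RectDepth.UnitMod
import Groth.Agent.RectDepth.GeomRkOpen
import Groth.Agent.LeadFCat.Cpl
import Groth.Agent.Unram.FibreSmooth
import Groth.Agent.InvThLib.DepthInv
import Groth.Agent.FlatLocalDepth.Comp
import Groth.Agent.S0386

set_option autoImplicit false
open CategoryTheory AlgebraicGeometry
universe u
open EGA43

namespace Groth.Agent.S2595

open Groth.Agent Groth.Agent.EquidimChart Groth.Agent.RectDepth Groth.Agent.DimTheory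
set_option backward.isDefEq.respectTransparency.types false

theorem cm_congr {A B : Type u} [CommRing A] [CommRing B] (e : A ≃+* B)
    (h : LocCoh.IsCohenMacaulayLocalRing A) : LocCoh.IsCohenMacaulayLocalRing B :=
  @FlatLocalDepth.isCohenMacaulayLocalRing_of_ringEquiv A B _ _ h e

/-- Let Y be locally Noetherian, f : X ⟶ Y locally of finite type and x a point of X. If O_{Y,f x} ⟶
O_{X,x} is flat and the local ring at x of the fibre through x is Cohen–Macaulay, then f is
equidimensional at x. -/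
theorem result {X Y : Scheme.{u}} [IsLocallyNoetherian Y] (f : X ⟶ Y)
    [LocallyOfFiniteType f] (x : X) (hflat : (f.stalkMap x).hom.Flat)
    (hCM : LocCoh.IsCohenMacaulayLocalRing ((f.fiber (f.base x)).presheaf.stalk (f.asFiber x))) :
    EGA43.IsEquidimAt f x := by
  haveI : LocallyOfFinitePresentation f := inferInstance
  haveI : IsLocallyNoetherian X := LocallyOfFiniteType.isLocallyNoetherian f
  obtain ⟨U0, hx0, hU0⟩ : ∃ U0 : X.Opens, x ∈ U0 ∧ ∀ z ∈ U0, (f.stalkMap z).hom.Flat :=
    ⟨⟨_, S0386.result f⟩, hflat, fun z hz => hz⟩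
  let f' := U0.ι ≫ f
  haveI : Flat f' := (Flat.iff_flat_stalkMap _).2 fun z => by
    show ((U0.ι ≫ f).stalkMap z).hom.Flat
    erw [Scheme.Hom.stalkMap_comp, CommRingCat.hom_comp]
    exact (hU0 _ z.2).comp (RingHom.Flat.of_bijective (ConcreteCategory.bijective_of_isIso (U0.ι.stalkMap z)))
  haveI : LocallyOfFinitePresentation f' := inferInstance
  let x' : (U0 : Scheme.{u}) := ⟨x, hx0⟩
  have hCM' : LocCoh.IsCohenMacaulayLocalRing ((f'.fiber (f' x')).presheaf.stalk (f'.asFiber x')) := by
    let φ : f'.fiber (f x) ⟶ f.fiber (f x) := CohIII.fiberMapOver U0.ι f' f rfl (f x)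
    haveI : IsOpenImmersion φ :=
      MorphismProperty.of_isPullback (Unram.isPullback_fiberMapOver f U0.ι (f x)) inferInstance
    have hφ : φ (f'.asFiber x') = f.asFiber x := (f.fiberι (f x)).isEmbedding.injective <| by
      rw [← Scheme.Hom.comp_apply]
      have : φ ≫ f.fiberι (f x) = f'.fiberι (f x) ≫ U0.ι := Limits.pullback.lift_fst _ _ _
      rw [this, Scheme.Hom.fiberι_asFiber f x, Scheme.Hom.comp_apply]
      exact congrArg U0.ι (Scheme.Hom.fiberι_asFiber f' x')
    exact cm_congr (((f.fiber (f x)).presheaf.stalkCongr (.of_eq hφ.symm)) ≪≫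
      asIso (φ.stalkMap (f'.asFiber x'))).commRingCatIsoToRingEquiv hCM
  haveI : IsLocallyNoetherian (f'.fiber (f' x')) := FlatOverBC.isLocallyNoetherian_fiber f' _
  haveI := hCM'
  obtain ⟨-, r, hr⟩ := (equidim_noEmbedded_iff f' x').1
    ⟨LeadFCat.isEquidim_of_isCohenMacaulay, CAlgSerre.hasSk_one_ring_iff.1
      (haveI := Depth.isCohenMacaulayRing_of_local (R := (f'.fiber (f' x')).presheaf.stalk (f'.asFiber x')); InvThLib.hasSk_of_isCohenMacaulayRing _ 1)⟩
  have hV := isOpen_assDimsIn f' _ (isFP_structureModule _) (isFlatOver_structureModule f') {r}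
  obtain ⟨U, hxU, hUV, hUmax⟩ := exists_nbhd_max_specializes (X := X)
    (U := U0.ι ''ᵁ ⟨_, hV⟩) (x := x) ⟨x', hr, rfl⟩
  refine isEquidimAt_of_data f x r U hxU (fun ξ hξU hξ => ?_) (fun y hy hmax => ?_)
  · refine ⟨fun w hw => ?_, (hUmax ξ hξU hξ).map f.continuous⟩
    obtain ⟨ξ', -, hξ'⟩ := hUV hξU
    obtain ⟨z, hz, hzw⟩ := Flat.generalizingMap f' (a := ξ') (b := w) (show w ⤳ f' ξ' by rw [show f' ξ' = f ξ from congrArg f hξ']; exact hw)
    have := hξ (U0.ι z) (hξ' ▸ hz.map U0.ι.continuous)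
    rw [← hzw, show f' z = f (U0.ι z) from rfl, this]
  · obtain ⟨y', hy', rfl⟩ := hUV hy
    have hmax := (isFibreMax_restrict f U0 y').2 hmax
    obtain ⟨n, hn, hn'⟩ := height_asFiber f' y'
    rw [mapTrdeg_restrict] at hn
    have hd := RectDepth.ringKrullDim_add_height f' hy' (specializes_rfl (x := y')) rfl
    rw [ringKrullDim_stalk_eq_coheight, Order.coheight_eq_zero.2 (fun b hb =>
      le_of_eq ((asFiber_max_iff f' y').2 hmax b hb)), WithBot.coe_zero, zero_add, hn'] at hd
    obtain rfl : n = r := by exact_mod_cast hd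
    exact hn

end Groth.Agent.S2595
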