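import Groth.Statements.S2596
import Groth.Agent.ProperNear.Main
import Mathlib

set_option autoImplicit false
open CategoryTheory AlgebraicGeometry
universe u
open EGA43

namespace Groth.Agent.S2596

open Groth.Agent.ProperNear
set_option backward.isDefEq.respectTransparency.types false


open CategoryTheory.Limits in
/-- Let Y be locally Noetherian, f : X ⟶ Y separated and of finite type, and y a point of Y. Suppose
that for every discrete valuation ring A with fraction field K and every morphism g : Spec A ⟶ Y
sending the closed point to y, every K-point σ of X ×_Y Spec A lying over the generic point Spec K ⟶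
Spec A extends to a section of X ×_Y Spec A ⟶ Spec A. Then f is proper over some open neighbourhood
of y. -/
theorem result {X Y : Scheme.{u}} [IsLocallyNoetherian Y]
    (f : X ⟶ Y) [IsSeparated f] [LocallyOfFiniteType f] [QuasiCompact f] (y : Y)
    (h : ∀ (A : Type u) [CommRing A] [IsDomain A] [IsDiscreteValuationRing A]
      (g : Spec (CommRingCat.of A) ⟶ Y), g.base (IsLocalRing.closedPoint A) = y →
      ∀ σ : Spec (CommRingCat.of (FractionRing A)) ⟶ pullback f g,
        σ ≫ pullback.snd f g = Spec.map (CommRingCat.ofHom (algebraMap A (FractionRing A))) →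
        ∃ s : Spec (CommRingCat.of A) ⟶ pullback f g, s ≫ pullback.snd f g = 𝟙 _ ∧
          Spec.map (CommRingCat.ofHom (algebraMap A (FractionRing A))) ≫ s = σ) :
    ∃ U : Y.Opens, y ∈ U ∧ IsProper (f ∣_ U) := by
  refine exists_isProper_nhd f y ?_
  intro R K _ _ _ _ _ _ g σ hg hσ _
  let e := (FractionRing.algEquiv R K)
  let a : CommRingCat.of K ⟶ CommRingCat.of (FractionRing R) := CommRingCat.ofHom e.symm.toRingHom
  let b : CommRingCat.of (FractionRing R) ⟶ CommRingCat.of K := CommRingCat.ofHom e.toRingHom
  have hab : b ≫ a = 𝟙 _ := CommRingCat.hom_ext (RingHom.ext fun z => e.symm_apply_apply z)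
  have hba : a ≫ b = 𝟙 _ := CommRingCat.hom_ext (RingHom.ext fun z => e.apply_symm_apply z)
  have ha : CommRingCat.ofHom (algebraMap R K) ≫ a = CommRingCat.ofHom (algebraMap R (FractionRing R)) :=
    CommRingCat.hom_ext (RingHom.ext fun r => e.symm.commutes r)
  have hb : CommRingCat.ofHom (algebraMap R (FractionRing R)) ≫ b = CommRingCat.ofHom (algebraMap R K) :=
    CommRingCat.hom_ext (RingHom.ext fun r => e.commutes r)
  obtain ⟨s, hs1, hs2⟩ := h R g hg (pullback.lift (Spec.map a ≫ σ)
    (Spec.map (CommRingCat.ofHom (algebraMap R (FractionRing R)))) (by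
      rw [Category.assoc, hσ, ← Category.assoc, ← Spec.map_comp, ha])) (pullback.lift_snd _ _ _)
  refine ⟨s ≫ pullback.fst f g, by rw [Category.assoc, pullback.condition, reassoc_of% hs1], ?_⟩
  rw [← hb, Spec.map_comp, Category.assoc, reassoc_of% hs2, pullback.lift_fst, ← Category.assoc, ← Spec.map_comp,
    hba, Spec.map_id, Category.id_comp]

end Groth.Agent.S2596
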