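import Groth.Statements.S2906
import Groth.Agent.SchDescent.Effective
import Groth.Agent.FpqcDescent.Basic
import Groth.Agent.S1402

set_option autoImplicit false
open CategoryTheory CategoryTheory.Limits AlgebraicGeometry Opposite
universe u
open SGA1

namespace Groth.Agent.S2906

/-- Let g : S' ⟶ S be flat, surjective and quasi-compact. Then every descent datum relative to g whose
underlying scheme is etale, separated and quasi-compact over S' is isomorphic to the canonical
descent datum of a scheme etale, separated and quasi-compact over S. (Descent data relative to g are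
taken in functor-of-points form.) -/
theorem result {S' S : Scheme.{u}} (g : S' ⟶ S) [Flat g] [Surjective g] [QuasiCompact g]
    (D : Desc.SchDD g) [QuasiCompact D.obj.hom] [IsSeparated D.obj.hom] [Etale D.obj.hom] :
    ∃ U : Over S, QuasiCompact U.hom ∧ IsSeparated U.hom ∧ Etale U.hom ∧ Nonempty ((Desc.toDD g).obj U ≅ D) := by
  haveI : LocallyQuasiFinite D.obj.hom := by
    refine HasRingHomProperty.iff_appLE.2 fun U V h => ?_
    have := HasRingHomProperty.appLE (P := @Etale) D.obj.hom ‹_› U V h
    algebraize [(D.obj.hom.appLE U.1 V.1 h).hom]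
    change Algebra.QuasiFinite _ _
    infer_instance
  obtain ⟨U, ⟨θ⟩⟩ := SchDescent.effective_of_indQuasiAffine (SchDescent.isCover_singleton g) D
    (Groth.Agent.S1402.result D.obj.hom)
  let hh : pullback g U.hom ⟶ D.obj.left := θ.hom.hom.left
  let hi : D.obj.left ⟶ pullback g U.hom := θ.inv.hom.left
  haveI : IsIso hh := ⟨hi, congrArg (fun m => m.hom.left) θ.hom_inv_id, congrArg (fun m => m.hom.left) θ.inv_hom_id⟩
  have hk : hh ≫ D.obj.hom = pullback.fst g U.hom := Over.w θ.hom.hom
  have hQ : (@Surjective ⊓ @Flat ⊓ @QuasiCompact : MorphismProperty Scheme.{u}) g := ⟨⟨‹_›, ‹_›⟩, ‹_›⟩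
  have sq := IsPullback.of_hasPullback g U.hom
  refine ⟨U, ?_, ?_, ?_, ⟨θ⟩⟩
  · exact MorphismProperty.of_isPullback_of_descendsAlong (P := @QuasiCompact)
      (Q := @Surjective ⊓ @Flat ⊓ @QuasiCompact) sq hQ (hk ▸ inferInstance)
  · exact MorphismProperty.of_isPullback_of_descendsAlong (P := @IsSeparated)
      (Q := @Surjective ⊓ @Flat ⊓ @QuasiCompact) sq hQ (hk ▸ inferInstance)
  · exact MorphismProperty.of_isPullback_of_descendsAlong (P := @Etale)
      (Q := @Surjective ⊓ @Flat ⊓ @QuasiCompact) sq hQ (hk ▸ inferInstance)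

end Groth.Agent.S2906
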