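import Groth.Statements.S2909
import Groth.Agent.QuotSch.Affine
import Mathlib.RingTheory.Adjoin.Tower

set_option autoImplicit false
open CategoryTheory CategoryTheory.Limits AlgebraicGeometry
universe u
open SGA1

namespace Groth.Agent.S2909

open AlgebraicGeometry CategoryTheory CategoryTheory.Limits

set_option backward.isDefEq.respectTransparency.types false

theorem aux_sep {X Y Z : Scheme.{u}} {p : X ⟶ Y} (hs : Function.Surjective p.base) [IsIntegralHom p]
    {f : X ⟶ Z} {q : Y ⟶ Z} (hq : p ≫ q = f) [IsSeparated f] : IsSeparated q := by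
  refine ⟨IsClosedImmersion.of_isPreimmersion _ ?_⟩
  let p2 := pullback.map f f q q p p (𝟙 Z) (by simp [hq]) (by simp [hq])
  have hp2 : IsIntegralHom p2 := MorphismProperty.pullbackMap (P := @IsIntegralHom) ‹_› ‹_› hq.symm hq.symm
  have e : pullback.diagonal f ≫ p2 = p ≫ pullback.diagonal q := by
    apply pullback.hom_ext <;>
      simp only [p2, pullback.map, Category.assoc, limit.lift_π, pullback.lift_fst, pullback.lift_snd,
        pullback.diagonal_fst_assoc, pullback.diagonal_snd_assoc, pullback.diagonal_fst, pullback.diagonal_snd] <;>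
      simp
  have h : Set.range (pullback.diagonal q).base = p2.base '' Set.range (pullback.diagonal f).base := by
    rw [← Set.range_comp, ← hs.range_comp (pullback.diagonal q).base]
    exact congrArg Set.range (funext fun x => congr($e.symm x))
  exact h ▸ p2.isClosedMap _ (pullback.diagonal f).isClosedEmbedding.isClosed_range


/-- Let a finite group G act on a scheme X by automorphisms over a scheme Z (structure morphism f), and
let p : X ⟶ Y be a quotient of X by G with Y ⟶ Z the induced morphism q (so p ≫ q = f). Then X is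
affine over Z iff Y is, X is separated over Z iff Y is; if f is locally of finite type then p is
finite; and if moreover Z is locally Noetherian and f quasi-compact then q is of finite type
(locally of finite type and quasi-compact). -/
theorem result {X Y Z : Scheme.{u}} {G : Type u} [Group G] [Finite G] (ρ : G →* Aut X)
    (p : X ⟶ Y) (hp : SGA1.IsQuot ρ p) (f : X ⟶ Z) (q : Y ⟶ Z) (hq : p ≫ q = f) (hρ : ∀ g : G, (ρ g).hom ≫ f = f) :
    (IsAffineHom f ↔ IsAffineHom q) ∧ (IsSeparated f ↔ IsSeparated q) ∧
    (LocallyOfFiniteType f → IsFinite p) ∧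
    (IsLocallyNoetherian Z → LocallyOfFiniteType f → QuasiCompact f → LocallyOfFiniteType q ∧ QuasiCompact q) := by
  have := hp.affine
  have := Groth.Agent.QuotSch.isIntegralHom hp
  have hs := Groth.Agent.QuotSch.surjective hp
  refine ⟨⟨fun hf => ⟨fun W hW => Groth.Agent.QuotSch.isAffineOpen_of_preimage hp _ ?_⟩, fun _ => hq ▸ inferInstance⟩,
    ⟨fun _ => aux_sep hs hq, fun _ => hq ▸ inferInstance⟩, fun hf => ?_, fun hZ hf hqc => ⟨?_, ?_⟩⟩
  · rw [← Scheme.Hom.comp_preimage, hq]
    exact hW.preimage f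
  · have : LocallyOfFiniteType (p ≫ q) := hq.symm ▸ hf
    have := locallyOfFiniteType_of_comp p q
    exact (IsFinite.iff_isIntegralHom_and_locallyOfFiniteType p).mpr ⟨inferInstance, this⟩
  · have : LocallyOfFiniteType (p ≫ q) := hq.symm ▸ hf
    have := locallyOfFiniteType_of_comp p q
    have : IsFinite p := (IsFinite.iff_isIntegralHom_and_locallyOfFiniteType p).mpr ⟨inferInstance, this⟩
    refine ⟨fun {W} hW {V} hV e => ?_⟩
    have e' : p ⁻¹ᵁ V ≤ f ⁻¹ᵁ W := by
      rw [← hq, Scheme.Hom.comp_preimage]; exact Scheme.Hom.preimage_mono _ e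
    have hB : (f.appLE W (p ⁻¹ᵁ V) e').hom.FiniteType := f.finiteType_appLE hW (hV.preimage p) e'
    have hcomp : q.appLE W V e ≫ p.app V = f.appLE W (p ⁻¹ᵁ V) e' := by
      rw [← Scheme.Hom.appLE_eq_app, Scheme.Hom.appLE_comp_appLE]
      exact Groth.Agent.QuotSch.appLE_congr_hom hq _ _ _
    have hfin : (p.app V).hom.Finite := p.finite_app V hV
    algebraize [(q.appLE W V e).hom, (p.app V).hom, (f.appLE W (p ⁻¹ᵁ V) e').hom]
    have : IsScalarTower Γ(Z, W) Γ(Y, V) Γ(X, p ⁻¹ᵁ V) :=
      IsScalarTower.of_algebraMap_eq fun t => congr($(hcomp.symm) t)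
    have : IsNoetherianRing Γ(Z, W) := IsLocallyNoetherian.component_noetherian ⟨W, hW⟩
    exact ⟨fg_of_fg_of_fg Γ(Z, W) Γ(Y, V) Γ(X, p ⁻¹ᵁ V) Algebra.FiniteType.out Module.Finite.fg_top (hp.injective V)⟩
  · refine ⟨fun W hW hWc => ?_⟩
    have h1 : q.base ⁻¹' W = p.base '' (f.base ⁻¹' W) := by
      rw [← hq, Scheme.Hom.comp_base, TopCat.coe_comp, Set.preimage_comp, Set.image_preimage_eq _ hs]
    rw [h1]
    exact (hqc.isCompact_preimage W hW hWc).image p.continuous

end Groth.Agent.S2909
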