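import Groth.Statements.S2910
import Groth.Agent.QuotSch.Free
import Groth.Agent.Unram.Equalizer
import Mathlib.AlgebraicGeometry.Morphisms.Etale

set_option autoImplicit false
open CategoryTheory CategoryTheory.Limits AlgebraicGeometry
universe u
open SGA1

namespace Groth.Agent.S2910

open AlgebraicGeometry CategoryTheory CategoryTheory.Limits

set_option backward.isDefEq.respectTransparency.types false

theorem aux_eq_of_connected {X Y : Scheme.{u}} {p : X ⟶ Y} [Etale p] [IsSeparated p] [ConnectedSpace X]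
    {f g : X ⟶ X} (hf : f ≫ p = p) (hg : g ≫ p = p) {W : Scheme.{u}} [Nonempty W] (a : W ⟶ X)
    (ha : a ≫ f = a ≫ g) : f = g := by
  let i := Unram.agreeι p f g (hg.trans hf.symm)
  have hopen : IsOpenImmersion i := MorphismProperty.pullback_fst (P := @IsOpenImmersion) _ _ inferInstance
  have hclosed : IsClosedImmersion i := MorphismProperty.pullback_fst (P := @IsClosedImmersion) _ _ inferInstance
  have hr : Set.range i = Set.univ := (isClopen_iff.mp ⟨i.isClosedEmbedding.isClosed_range,
    i.isOpenEmbedding.isOpen_range⟩).resolve_left (Set.nonempty_iff_ne_empty.mp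
      ⟨_, Unram.mem_range_agreeι p f g (hg.trans hf.symm) a ha (Classical.arbitrary W)⟩)
  have : Surjective i := ⟨Set.range_eq_univ.mp hr⟩
  have : IsIso i := (isIso_iff_isOpenImmersion_and_epi_base _).mpr
    ⟨hopen, (TopCat.epi_iff_surjective _).mpr i.surjective⟩
  exact (cancel_epi i).mp (Unram.agreeι_comp p f g _)

theorem aux_free {X Y : Scheme.{u}} {G : Type u} [Group G] {ρ : G →* Aut X} {p : X ⟶ Y}
    (hp : SGA1.IsQuot ρ p) [Etale p] [ConnectedSpace X] (hfaith : Function.Injective ρ) :
    QuotSch.FreeGeom ρ := by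
  intro K _ _ ξ g hξ
  have := hp.affine
  have : (ρ g).hom = 𝟙 X := aux_eq_of_connected (hp.inv g) (Category.id_comp p) ξ (by rw [hξ, Category.comp_id])
  exact hfaith (Iso.ext (this.trans (by rw [map_one]; rfl)))

theorem aux_exists {X Y : Scheme.{u}} {G : Type u} [Group G] [Finite G] {ρ : G →* Aut X} {p : X ⟶ Y}
    (hp : SGA1.IsQuot ρ p) [Etale p] [ConnectedSpace X] (hfree : QuotSch.FreeGeom ρ) (u : Aut X)
    (hu : u.hom ≫ p = p) : ∃ g, ρ g = u := by
  have := hp.affine
  have := QuotSch.isIso_graphs hp hfree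
  let d : X ⟶ pullback p p := pullback.lift (𝟙 X) u.hom ((Category.id_comp p).trans hu.symm)
  let m := d ≫ inv (QuotSch.graphs hp)
  obtain ⟨⟨g, x'⟩, hgx⟩ := (sigmaMk (fun _ : G => X)).surjective (m (Classical.arbitrary X))
  rw [sigmaMk_mk] at hgx
  obtain ⟨z, -, -⟩ := Scheme.Pullback.exists_preimage_pullback (f := m) (g := Sigma.ι (fun _ : G => X) g)
    _ x' hgx.symm
  have : Nonempty ↑(pullback m (Sigma.ι (fun _ : G => X) g)) := ⟨z⟩
  have h := congrArg (· ≫ QuotSch.graphs hp) (pullback.condition (f := m) (g := Sigma.ι (fun _ : G => X) g))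
  simp only [m, Category.assoc, IsIso.inv_hom_id, Category.comp_id, QuotSch.graphs, Sigma.ι_desc] at h
  have h1 := congrArg (· ≫ pullback.fst p p) h
  have h2 := congrArg (· ≫ pullback.snd p p) h
  simp only [d, Category.assoc, pullback.lift_fst, Category.comp_id] at h1
  simp only [d, Category.assoc, pullback.lift_snd] at h2
  refine ⟨g, Iso.ext (aux_eq_of_connected (hp.inv g) hu (pullback.snd m (Sigma.ι (fun _ : G => X) g)) ?_)⟩
  exact h2.symm.trans (congrArg (· ≫ u.hom) h1)


/-- Let a finite group G act faithfully on a connected scheme X, let p : X ⟶ Y be a quotient of X by G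
with Y locally Noetherian and p finite, and suppose p is etale. Then G acts freely on the geometric
points of X (all inertia groups are trivial), and every automorphism of X over Y is the action of
exactly one element of G. -/
theorem result {X Y : Scheme.{u}} {G : Type u} [Group G] [Finite G] (ρ : G →* Aut X)
    (p : X ⟶ Y) (hp : SGA1.IsQuot ρ p) [IsLocallyNoetherian Y] [IsFinite p] [ConnectedSpace X]
    (hfaith : Function.Injective ρ) [Etale p] :
    (∀ (K : Type u) [Field K] [IsAlgClosed K] (ξ : Spec (CommRingCat.of K) ⟶ X) (g : G), ξ ≫ (ρ g).hom = ξ → g = 1) ∧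
    ∀ u : Aut X, u.hom ≫ p = p → ∃! g : G, ρ g = u := by
  have hfree := aux_free hp hfaith
  refine ⟨hfree, fun u hu => ?_⟩
  obtain ⟨g, hg⟩ := aux_exists hp hfree u hu
  exact ⟨g, hg, fun g' hg' => hfaith (hg'.trans hg.symm)⟩

end Groth.Agent.S2910
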