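import Groth.Statements.S2911
import Groth.Agent.QuotSch.EtaleQuot
import Groth.Agent.QuotSch.Affine
import Mathlib.AlgebraicGeometry.Morphisms.Finite
import Mathlib.AlgebraicGeometry.Noetherian

set_option autoImplicit false
open CategoryTheory CategoryTheory.Limits AlgebraicGeometry
universe u
open SGA1

namespace Groth.Agent.S2911

/-- With the existence of the quotient taken as a hypothesis: Let Y be locally Noetherian, f : X ⟶ Y
etale, separated and quasi-compact, G a finite group acting on X by Y-automorphisms, p : X ⟶ X' a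
quotient of X by G and q : X' ⟶ Y the induced morphism. Then p and q are etale, and if f is finite
then q is finite. -/
theorem result {X X' Y : Scheme.{u}} {G : Type u} [Group G] [Finite G] (ρ : G →* Aut X)
    [IsLocallyNoetherian Y] (f : X ⟶ Y) [Etale f] [IsSeparated f] [QuasiCompact f] (hρ : ∀ g : G, (ρ g).hom ≫ f = f)
    (p : X ⟶ X') (hp : SGA1.IsQuot ρ p) (q : X' ⟶ Y) (hq : p ≫ q = f) :
    Etale p ∧ Etale q ∧ (IsFinite f → IsFinite q) := by
  have := hp.affine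
  refine ⟨Groth.Agent.QuotSch.etale_quot hp hρ hq, Groth.Agent.QuotSch.etale_base hp hρ hq, fun hfin => ?_⟩
  have hqaff : IsAffineHom q := ⟨fun W hW => Groth.Agent.QuotSch.isAffineOpen_of_preimage hp _ (by
    rw [← Scheme.Hom.comp_preimage, hq]; exact hW.preimage f)⟩
  refine ⟨fun W hW => ?_⟩
  have e' : p ⁻¹ᵁ (q ⁻¹ᵁ W) ≤ f ⁻¹ᵁ W := by rw [← hq, Scheme.Hom.comp_preimage]
  have hcomp : q.app W ≫ p.app (q ⁻¹ᵁ W) = f.appLE W (p ⁻¹ᵁ (q ⁻¹ᵁ W)) e' := by
    rw [← Scheme.Hom.appLE_eq_app, ← Scheme.Hom.appLE_eq_app, Scheme.Hom.appLE_comp_appLE]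
    exact Groth.Agent.QuotSch.appLE_congr_hom hq _ _ _
  have hf : (f.appLE W (p ⁻¹ᵁ (q ⁻¹ᵁ W)) e').hom.Finite := by
    subst hq
    have := (p ≫ q).finite_app W hW
    rwa [← Scheme.Hom.appLE_eq_app] at this
  algebraize [(q.app W).hom, (p.app (q ⁻¹ᵁ W)).hom, (f.appLE W (p ⁻¹ᵁ (q ⁻¹ᵁ W)) e').hom]
  have : IsScalarTower Γ(Y, W) Γ(X', q ⁻¹ᵁ W) Γ(X, p ⁻¹ᵁ (q ⁻¹ᵁ W)) :=
    IsScalarTower.of_algebraMap_eq fun t => congr($(hcomp.symm) t)
  have : IsNoetherianRing Γ(Y, W) := IsLocallyNoetherian.component_noetherian ⟨W, hW⟩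
  exact Module.Finite.of_injective
    (IsScalarTower.toAlgHom Γ(Y, W) Γ(X', q ⁻¹ᵁ W) Γ(X, p ⁻¹ᵁ (q ⁻¹ᵁ W))).toLinearMap (hp.injective (q ⁻¹ᵁ W))

end Groth.Agent.S2911
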