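import Groth.Statements.S2913
-- import your own Groth.Agent.* helpers here

set_option autoImplicit false
open CategoryTheory CategoryTheory.Limits AlgebraicGeometry Opposite
universe u
open SGA1

namespace Groth.Agent.S2913

/-- Let g : S' ⟶ S be a surjective morphism of schemes such that for every open U of S the map O_S(U) →
O_{S'}(g⁻¹U) is injective. Then g is an epimorphism in the category of schemes. -/
theorem result {S' S : Scheme.{u}} (g : S' ⟶ S) [Surjective g]
    (hinj : ∀ U : S.Opens, Function.Injective (g.app U).hom) : Epi g := by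
  refine ⟨fun {Z} a b hab => ?_⟩
  have hbase : a.base = b.base := by
    ext x
    obtain ⟨y, rfl⟩ := g.surjective x
    rw [← Scheme.Hom.comp_apply, ← Scheme.Hom.comp_apply, hab]
  refine Scheme.Hom.ext hbase fun U => CommRingCat.hom_ext (RingHom.ext fun z => hinj (b ⁻¹ᵁ U) ?_)
  have h := congrArg (fun q => q.hom z) (Scheme.Hom.congr_app hab U)
  have nat := congrArg (fun q => q.hom ((a.app U).hom z))
    (g.naturality (eqToHom (congrArg (fun q => (TopologicalSpace.Opens.map q).obj U) hbase.symm)).op)
  refine Eq.trans nat ((congrArg (fun w => (S'.presheaf.map _).hom w) h).trans ?_)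
  refine Eq.trans (b := (S'.presheaf.map (eqToHom _).op ≫ S'.presheaf.map _).hom ((g.app (b ⁻¹ᵁ U)).hom ((b.app U).hom z))) rfl ?_
  rw [← Functor.map_comp, Subsingleton.elim (_ ≫ _) (𝟙 _), S'.presheaf.map_id]
  rfl

end Groth.Agent.S2913
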