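import Groth.Statements.S2916
import Groth.Agent.SubmDesc.Basic
import Groth.Agent.FEtLib.Basic
import Mathlib.RingTheory.Etale.QuasiFinite

set_option autoImplicit false
open CategoryTheory CategoryTheory.Limits AlgebraicGeometry Opposite
universe u
open SGA1

namespace Groth.Agent.S2916

open AlgebraicGeometry CategoryTheory CategoryTheory.Limits

set_option backward.isDefEq.respectTransparency.types false

theorem eq_of_geomPoints {Z Y S : Scheme.{u}} (q : Y ⟶ S) [Etale q] (u v : Z ⟶ Y) (h : u ≫ q = v ≫ q)
    (H : ∀ (K : Type u) [Field K] [IsAlgClosed K] (z : Spec (CommRingCat.of K) ⟶ Z), z ≫ u = z ≫ v) : u = v := by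
  let d := pullback.fst (pullback.lift u v h) (pullback.diagonal q)
  haveI : IsOpenImmersion d := MorphismProperty.of_isPullback (P := @IsOpenImmersion)
    (IsPullback.of_hasPullback _ _).flip (inferInstance : IsOpenImmersion (pullback.diagonal q))
  have hd : d ≫ u = d ≫ v := by
    have hc := pullback.condition (f := pullback.lift u v h) (g := pullback.diagonal q)
    have e₁ := congr($hc ≫ pullback.fst q q)
    have e₂ := congr($hc ≫ pullback.snd q q)
    simp only [Category.assoc, pullback.lift_fst, pullback.lift_snd, pullback.diagonal_fst,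
      pullback.diagonal_snd, Category.comp_id] at e₁ e₂
    exact e₁.trans e₂.symm
  haveI : Surjective d := ⟨fun x => by
    obtain ⟨K, _, _, z, hz⟩ := FEtLib.exists_geomPoint (X := Z) x
    have hw : z ≫ pullback.lift u v h = (z ≫ u) ≫ pullback.diagonal q := by
      apply pullback.hom_ext
      · rw [Category.assoc, pullback.lift_fst, Category.assoc, pullback.diagonal_fst, Category.comp_id]
      · rw [Category.assoc, pullback.lift_snd, Category.assoc, pullback.diagonal_snd, Category.comp_id, H]
    exact ⟨pullback.lift z (z ≫ u) hw (IsLocalRing.closedPoint K), ((Scheme.Hom.comp_apply _ _ _).symm.trans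
      (congrArg (fun m : Spec (CommRingCat.of K) ⟶ Z => m (IsLocalRing.closedPoint K))
        (pullback.lift_fst _ _ hw))).trans hz⟩⟩
  haveI : IsIso d := (isIso_iff_isOpenImmersion_and_surjective d).mpr ⟨inferInstance, inferInstance⟩
  exact (cancel_epi d).mp hd

theorem discreteTopology_of_etale {K : Type u} [Field K] {F : Scheme.{u}}
    (f : F ⟶ Spec (CommRingCat.of K)) [Etale f] : DiscreteTopology F := by
  haveI : LocallyQuasiFinite f := by
    refine HasRingHomProperty.iff_appLE.2 fun U V h => ?_
    have := HasRingHomProperty.appLE (P := @Etale) f ‹_› U V h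
    algebraize [(f.appLE U.1 V.1 h).hom]
    change Algebra.QuasiFinite _ _
    infer_instance
  have : DiscreteTopology ↥(f ⁻¹' {IsLocalRing.closedPoint K}) :=
    (f.isDiscrete_preimage_singleton _).to_subtype
  have huniv : f ⁻¹' {IsLocalRing.closedPoint K} = Set.univ :=
    Set.eq_univ_of_forall fun x => Subsingleton.elim (α := PrimeSpectrum K) _ _
  rw [huniv] at this
  exact (Homeomorph.Set.univ F).discreteTopology

theorem hom_eq_of_pt {K : Type u} [Field K] [IsAlgClosed K] {F : Scheme.{u}}
    (f : F ⟶ Spec (CommRingCat.of K)) [Etale f] (a b : Spec (CommRingCat.of K) ⟶ F)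
    (ha : a ≫ f = 𝟙 _) (hb : b ≫ f = 𝟙 _)
    (h : a (IsLocalRing.closedPoint K) = b (IsLocalRing.closedPoint K)) : a = b :=
  haveI : LocallyOfFiniteType f := inferInstance
  ext_of_apply_closedPoint_eq f ha hb h

theorem geomPoints_eq {S' S X Y : Scheme.{u}} (g : S' ⟶ S) (p : X ⟶ S) (q : Y ⟶ S) [Etale q]
    (hconn : ∀ (K : Type u) [Field K] [IsAlgClosed K] (ξ : Spec (CommRingCat.of K) ⟶ S),
      ConnectedSpace ↑(pullback g ξ))
    (t : pullback p g ⟶ Y) (ht : t ≫ q = pullback.fst p g ≫ p) {K : Type u} [Field K] [IsAlgClosed K]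
    (a b : Spec (CommRingCat.of K) ⟶ pullback p g) (hab : a ≫ pullback.fst p g = b ≫ pullback.fst p g) :
    a ≫ t = b ≫ t := by
  let ξ := a ≫ pullback.fst p g ≫ p
  haveI := hconn K ξ
  let m : pullback g ξ ⟶ pullback p g := pullback.lift (pullback.snd g ξ ≫ a ≫ pullback.fst p g)
    (pullback.fst g ξ) (by rw [pullback.condition]; simp [ξ])
  let F := pullback q ξ
  let t' : pullback g ξ ⟶ F := pullback.lift (m ≫ t) (pullback.snd g ξ)
    (by rw [Category.assoc, ht, pullback.lift_fst_assoc]; simp [ξ])
  haveI : DiscreteTopology F := discreteTopology_of_etale (pullback.snd q ξ)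
  have key : ∀ c : Spec (CommRingCat.of K) ⟶ pullback p g, c ≫ pullback.fst p g = a ≫ pullback.fst p g →
      ∃ s : Spec (CommRingCat.of K) ⟶ pullback g ξ, s ≫ pullback.snd g ξ = 𝟙 _ ∧ s ≫ m = c := by
    intro c hc
    have hw : (c ≫ pullback.snd p g) ≫ g = 𝟙 _ ≫ ξ := by
      rw [Category.assoc, ← pullback.condition, reassoc_of% hc, Category.id_comp]
    refine ⟨pullback.lift _ _ hw, pullback.lift_snd _ _ hw, ?_⟩
    apply pullback.hom_ext
    · rw [Category.assoc, pullback.lift_fst, ← Category.assoc, pullback.lift_snd, Category.id_comp, hc]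
    · rw [Category.assoc, pullback.lift_snd, pullback.lift_fst]
  obtain ⟨sa, hsa, hsam⟩ := key a rfl
  obtain ⟨sb, hsb, hsbm⟩ := key b hab.symm
  have heq : sa ≫ t' = sb ≫ t' := by
    refine hom_eq_of_pt (pullback.snd q ξ) _ _ ?_ ?_ ?_
    · rw [Category.assoc, pullback.lift_snd, hsa]
    · rw [Category.assoc, pullback.lift_snd, hsb]
    · exact (Scheme.Hom.comp_apply _ _ _).trans ((PreconnectedSpace.constant inferInstance
        t'.continuous).trans (Scheme.Hom.comp_apply _ _ _).symm)
  have := congr($heq ≫ pullback.fst q ξ)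
  rwa [Category.assoc, Category.assoc, pullback.lift_fst, reassoc_of% hsam, reassoc_of% hsbm] at this


/-- Let g : S' ⟶ S be universally submersive with geometrically connected fibres (the base change of S'
to any algebraically closed field valued point of S is connected). Then S' is connected whenever S
is, and for schemes X, Y etale over S every S'-morphism between their base changes comes from
exactly one S-morphism X ⟶ Y. -/
theorem result {S' S : Scheme.{u}} (g : S' ⟶ S)
    (hg : SGA1.UnivSubmersive g)
    (hconn : ∀ (K : Type u) [Field K] [IsAlgClosed K] (ξ : Spec (CommRingCat.of K) ⟶ S), ConnectedSpace ↑(pullback g ξ)) :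
    (ConnectedSpace S → ConnectedSpace S') ∧
    ∀ (X Y : Over S) [Etale X.hom] [Etale Y.hom], Function.Bijective ((Over.pullback g).map : (X ⟶ Y) → _) := by
  refine ⟨fun hS => ?_, fun X Y _ _ => ?_⟩
  · have hq : Topology.IsQuotientMap g := MorphismProperty.universally_le _ _ hg
    refine connectedSpace_iff_univ.mpr ?_
    rw [← Set.preimage_univ (f := g)]
    refine hq.isCoinducing.isConnected_preimage_of_isClosed (fun s => ?_) isClosed_univ (connectedSpace_iff_univ.mp hS)
    obtain ⟨K, _, _, ξ, hξ⟩ := FEtLib.exists_geomPoint (X := S) s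
    haveI := hconn K ξ
    have : g ⁻¹' {s} = Set.range (pullback.fst g ξ) := by
      rw [Scheme.Pullback.range_fst]
      congr 1
      rw [← hξ]
      exact (FEtLib.range_eq_singleton_pt ξ).symm
    rw [this]
    exact isConnected_range (pullback.fst g ξ).continuous
  · refine ⟨fun a b hab => ?_, fun f' => ?_⟩
    · have hab' := congrArg (fun m => m.left ≫ pullback.fst Y.hom g) hab
      have ha : ((Over.pullback g).map a).left ≫ pullback.fst Y.hom g = pullback.fst X.hom g ≫ a.left :=
        pullback.lift_fst _ _ _
      have hb : ((Over.pullback g).map b).left ≫ pullback.fst Y.hom g = pullback.fst X.hom g ≫ b.left :=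
        pullback.lift_fst _ _ _
      have h' := ha.symm.trans (hab'.trans hb)
      obtain ⟨u, -, huniq⟩ := SubmDesc.existsUnique_hom hg X.hom Y.hom
        (IsPullback.of_hasPullback X.hom g) (pullback.fst X.hom g ≫ a.left)
        (by rw [Category.assoc, Over.w a]) (fun c d hcd => by rw [reassoc_of% hcd])
      exact Over.OverMorphism.ext ((huniq a.left ⟨Over.w a, rfl⟩).trans (huniq b.left ⟨Over.w b, h'.symm⟩).symm)
    · let t : pullback X.hom g ⟶ Y.left := f'.left ≫ pullback.fst Y.hom g
      have ht : t ≫ Y.hom = pullback.fst X.hom g ≫ X.hom := by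
        rw [Category.assoc, pullback.condition, ← Category.assoc]
        exact (congrArg (· ≫ g) (Over.w f')).trans pullback.condition.symm
      obtain ⟨u, ⟨h₁, h₂⟩, -⟩ := SubmDesc.existsUnique_hom hg X.hom Y.hom
        (IsPullback.of_hasPullback X.hom g) t ht (fun a b hab => by
          refine eq_of_geomPoints Y.hom _ _ ?_ ?_
          · show (a ≫ t) ≫ Y.hom = (b ≫ t) ≫ Y.hom
            refine (Category.assoc _ _ _).trans ((congrArg (a ≫ ·) ht).trans ?_)
            refine Eq.trans ?_ ((congrArg (b ≫ ·) ht).symm.trans (Category.assoc _ _ _).symm)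
            exact (reassoc_of% hab) X.hom
          · intro K _ _ z
            exact (Category.assoc _ _ _).symm.trans
              ((geomPoints_eq g X.hom Y.hom hconn t ht (z ≫ a) (z ≫ b)
                (by rw [Category.assoc, Category.assoc, hab])).trans (Category.assoc _ _ _)))
      refine ⟨Over.homMk u h₁, Over.OverMorphism.ext (pullback.hom_ext ?_ ?_)⟩
      · exact (pullback.lift_fst _ _ _).trans h₂
      · exact (pullback.lift_snd _ _ _).trans (Over.w f').symm

end Groth.Agent.S2916
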