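import Groth.Statements.S2917
import Mathlib

set_option autoImplicit false
open CategoryTheory CategoryTheory.Limits AlgebraicGeometry Opposite
universe u
open SGA1

namespace Groth.Agent.S2917

open AlgebraicGeometry CategoryTheory CategoryTheory.Limits SGA1
set_option backward.isDefEq.respectTransparency.types false
universe v

theorem isClosedMap_desc {A B A' B' : Scheme.{v}} {a : A' ⟶ A} {f' : A' ⟶ B'} {f : A ⟶ B} {b : B' ⟶ B}
    (h : IsPullback a f' f b) (hb : Topology.IsQuotientMap b.base) (hf : IsClosedMap f'.base) :
    IsClosedMap f.base := fun Z hZ => by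
  have : IsClosed (b.base ⁻¹' (f.base '' Z)) := by
    rw [← Scheme.image_preimage_eq_of_isPullback h]
    exact hf _ (hZ.preimage a.continuous)
  rwa [hb.isClosed_preimage] at this

theorem isOpenMap_desc {A B A' B' : Scheme.{v}} {a : A' ⟶ A} {f' : A' ⟶ B'} {f : A ⟶ B} {b : B' ⟶ B}
    (h : IsPullback a f' f b) (hb : Topology.IsQuotientMap b.base) (hf : IsOpenMap f'.base) :
    IsOpenMap f.base := fun Z hZ => by
  have : IsOpen (b.base ⁻¹' (f.base '' Z)) := by
    rw [← Scheme.image_preimage_eq_of_isPullback h]
    exact hf _ (hZ.preimage a.continuous)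
  rwa [hb.isOpen_preimage] at this

theorem univ_stable : SGA1.UnivSubmersive.{v}.IsStableUnderBaseChange := by
  delta SGA1.UnivSubmersive; infer_instance

theorem universallyClosed_desc {A B A' B' : Scheme.{v}} {a : A' ⟶ A} {f' : A' ⟶ B'} {f : A ⟶ B} {b : B' ⟶ B}
    (h : IsPullback a f' f b) (hb : SGA1.UnivSubmersive b) [UniversallyClosed f'] :
    UniversallyClosed f := by
  refine ⟨MorphismProperty.universally_mk' _ _ fun {T} t _ => ?_⟩
  let P := pullback t b
  have sq : IsPullback (pullback.fst (pullback.fst t f) (pullback.fst t b))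
      (pullback.snd (pullback.fst t f) (pullback.fst t b)) (pullback.fst t f) (pullback.fst t b) :=
    .of_hasPullback _ _
  have hq : Topology.IsQuotientMap (pullback.fst t b).base :=
    (univ_stable.of_isPullback (IsPullback.of_hasPullback t b).flip hb :
      SGA1.UnivSubmersive (pullback.fst t b)) |> MorphismProperty.universally_le _ _
  refine isClosedMap_desc sq hq ?_
  have hbig : IsPullback (pullback.fst (pullback.fst t f) (pullback.fst t b) ≫ pullback.snd t f)
      (pullback.snd (pullback.fst t f) (pullback.fst t b)) f (pullback.fst t b ≫ t) :=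
    sq.paste_horiz (IsPullback.of_hasPullback t f).flip
  have hbig' : IsPullback (pullback.fst (pullback.fst t f) (pullback.fst t b) ≫ pullback.snd t f)
      (pullback.snd (pullback.fst t f) (pullback.fst t b)) f (pullback.snd t b ≫ b) := by
    rw [← pullback.condition]; exact hbig
  exact (MorphismProperty.of_isPullback (P := @UniversallyClosed)
    (hbig'.of_right' h) ‹UniversallyClosed f'›) |> fun hc => (@Scheme.Hom.isClosedMap _ _ _ hc)

theorem universallyOpen_desc {A B A' B' : Scheme.{v}} {a : A' ⟶ A} {f' : A' ⟶ B'} {f : A ⟶ B} {b : B' ⟶ B}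
    (h : IsPullback a f' f b) (hb : SGA1.UnivSubmersive b) [UniversallyOpen f'] :
    UniversallyOpen f := by
  refine ⟨MorphismProperty.universally_mk' _ _ fun {T} t _ => ?_⟩
  have sq : IsPullback (pullback.fst (pullback.fst t f) (pullback.fst t b))
      (pullback.snd (pullback.fst t f) (pullback.fst t b)) (pullback.fst t f) (pullback.fst t b) :=
    .of_hasPullback _ _
  have hq : Topology.IsQuotientMap (pullback.fst t b).base :=
    (univ_stable.of_isPullback (IsPullback.of_hasPullback t b).flip hb :
      SGA1.UnivSubmersive (pullback.fst t b)) |> MorphismProperty.universally_le _ _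
  refine isOpenMap_desc sq hq ?_
  have hbig : IsPullback (pullback.fst (pullback.fst t f) (pullback.fst t b) ≫ pullback.snd t f)
      (pullback.snd (pullback.fst t f) (pullback.fst t b)) f (pullback.snd t b ≫ b) := by
    rw [← pullback.condition]; exact sq.paste_horiz (IsPullback.of_hasPullback t f).flip
  exact (MorphismProperty.of_isPullback (P := @UniversallyOpen)
    (hbig.of_right' h) ‹UniversallyOpen f'›) |> fun ho => (@Scheme.Hom.isOpenMap _ _ _ ho)

theorem isSeparated_desc {A B A' B' : Scheme.{v}} {a : A' ⟶ A} {f' : A' ⟶ B'} {f : A ⟶ B} {b : B' ⟶ B}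
    (h : IsPullback a f' f b) (hb : SGA1.UnivSubmersive b) [IsSeparated f'] :
    IsSeparated f := by
  haveI := univ_stable.{v}
  haveI : MorphismProperty.DescendsAlong @UniversallyClosed SGA1.UnivSubmersive.{v} :=
    ⟨fun hh hq hp => @universallyClosed_desc _ _ _ _ _ _ _ _ hh.flip hq hp⟩
  have hd : MorphismProperty.diagonal @UniversallyClosed f :=
    MorphismProperty.of_isPullback_of_descendsAlong (P := MorphismProperty.diagonal @UniversallyClosed)
      (Q := SGA1.UnivSubmersive) h.flip hb (show UniversallyClosed (pullback.diagonal f') from inferInstance)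
  have : UniversallyClosed (pullback.diagonal f) := hd
  exact ⟨.of_isPreimmersion _ (pullback.diagonal f).isClosedMap.isClosed_range⟩

theorem quasiCompact_desc {A B A' B' : Scheme.{v}} {a : A' ⟶ A} {f' : A' ⟶ B'} {f : A ⟶ B} {b : B' ⟶ B}
    (h : IsPullback a f' f b) (hb : SGA1.UnivSubmersive b) [QuasiCompact b] [QuasiCompact f'] :
    QuasiCompact f := by
  refine ⟨fun U hU hc => ?_⟩
  have hs : Function.Surjective a.base :=
    (MorphismProperty.universally_le _ _ (univ_stable.of_isPullback h.flip hb)).surjective
  have h1 : IsCompact ((f' ≫ b) ⁻¹' U) := QuasiCompact.isCompact_preimage U hU hc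
  rw [← h.w] at h1
  have h2 := h1.image a.continuous
  have h3 : (a.base '' ((a ≫ f) ⁻¹' U)) = f.base ⁻¹' U := by
    rw [Scheme.Hom.comp_base, TopCat.coe_comp, Set.preimage_comp]
    exact Set.image_preimage_eq _ hs
  rwa [← h3]


/-- Let g : S' ⟶ S be universally submersive, f : X ⟶ Y a morphism of S-schemes (Y ⟶ S the structure
map) and f' its base change along S' ⟶ S, realised as X ×_S S' ⟶ Y ×_S S'. If f' is open (resp.
closed) then so is f; if f' is universally open (resp. universally closed, resp. separated) then so
is f; and if moreover g is quasi-compact and f locally of finite type, then f is proper as soon as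
f' is. -/
theorem result {S' S X Y : Scheme.{u}} (g : S' ⟶ S) (hg : SGA1.UnivSubmersive g)
    (f : X ⟶ Y) (q : Y ⟶ S) :
    (IsOpenMap (pullback.map (f ≫ q) g q g f (𝟙 S') (𝟙 S) (Category.comp_id _) ((Category.comp_id _).trans (Category.id_comp _).symm)).base → IsOpenMap f.base) ∧
    (IsClosedMap (pullback.map (f ≫ q) g q g f (𝟙 S') (𝟙 S) (Category.comp_id _) ((Category.comp_id _).trans (Category.id_comp _).symm)).base → IsClosedMap f.base) ∧
    (UniversallyOpen (pullback.map (f ≫ q) g q g f (𝟙 S') (𝟙 S) (Category.comp_id _) ((Category.comp_id _).trans (Category.id_comp _).symm)) → UniversallyOpen f) ∧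
    (UniversallyClosed (pullback.map (f ≫ q) g q g f (𝟙 S') (𝟙 S) (Category.comp_id _) ((Category.comp_id _).trans (Category.id_comp _).symm)) → UniversallyClosed f) ∧
    (IsSeparated (pullback.map (f ≫ q) g q g f (𝟙 S') (𝟙 S) (Category.comp_id _) ((Category.comp_id _).trans (Category.id_comp _).symm)) → IsSeparated f) ∧
    (QuasiCompact g → LocallyOfFiniteType f →
      IsProper (pullback.map (f ≫ q) g q g f (𝟙 S') (𝟙 S) (Category.comp_id _) ((Category.comp_id _).trans (Category.id_comp _).symm)) → IsProper f) := by
  set m := pullback.map (f ≫ q) g q g f (𝟙 S') (𝟙 S) (Category.comp_id _) ((Category.comp_id _).trans (Category.id_comp _).symm) with hm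
  have h : IsPullback (pullback.fst (f ≫ q) g) m f (pullback.fst q g) := by
    have hw : m ≫ pullback.snd q g = pullback.snd (f ≫ q) g := (pullback.lift_snd _ _ _).trans (Category.comp_id _)
    refine IsPullback.of_bot ?_ (pullback.lift_fst _ _ _).symm (IsPullback.of_hasPullback q g)
    rw [hw]
    exact IsPullback.of_hasPullback (f ≫ q) g
  have hb : SGA1.UnivSubmersive (pullback.fst q g) := univ_stable.of_isPullback (IsPullback.of_hasPullback q g).flip hg
  have hb' := MorphismProperty.universally_le _ _ hb
  refine ⟨isOpenMap_desc h hb', isClosedMap_desc h hb', fun _ => universallyOpen_desc h hb,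
    fun _ => universallyClosed_desc h hb, fun _ => isSeparated_desc h hb, fun _ _ _ => ?_⟩
  haveI := isSeparated_desc h hb
  haveI := universallyClosed_desc h hb
  haveI := quasiCompact_desc h hb
  exact ⟨⟩

end Groth.Agent.S2917
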