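import Groth.Statements.S2919
import Groth.Agent.QuotSch.Free

set_option autoImplicit false
open CategoryTheory CategoryTheory.Limits AlgebraicGeometry
universe u
open SGA1

namespace Groth.Agent.S2919

open AlgebraicGeometry CategoryTheory CategoryTheory.Limits

set_option backward.isDefEq.respectTransparency.types false

theorem aux_iso {X Y : Scheme.{u}} {G : Type u} [Group G] [Finite G] {ρ : G →* Aut X} {p : X ⟶ Y}
    (hp : SGA1.IsQuot ρ p) (hfree : QuotSch.FreeGeom ρ) (s : Y ⟶ X) (hs : s ≫ p = 𝟙 Y) :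
    IsIso (Sigma.desc (fun g : G => s ≫ (ρ g).hom) : (∐ fun _ : G => Y) ⟶ X) := by
  have := QuotSch.isIso_graphs hp hfree
  let w : X ⟶ pullback p p := pullback.lift (p ≫ s) (𝟙 X) (by rw [Category.assoc, hs, Category.comp_id, Category.id_comp])
  let γ : G → (X ⟶ pullback p p) := fun g =>
    pullback.lift (𝟙 X) (ρ g).hom ((Category.id_comp p).trans (hp.inv g).symm)
  have hγι : ∀ g, Sigma.ι (fun _ : G => X) g ≫ QuotSch.graphs hp = γ g := fun g => Sigma.ι_desc _ _
  have hw1 : w ≫ pullback.fst p p = p ≫ s := pullback.lift_fst _ _ _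
  have hw2 : w ≫ pullback.snd p p = 𝟙 X := pullback.lift_snd _ _ _
  have hγ1 : ∀ g, γ g ≫ pullback.fst p p = 𝟙 X := fun g => pullback.lift_fst _ _ _
  have hγ2 : ∀ g, γ g ≫ pullback.snd p p = (ρ g).hom := fun g => pullback.lift_snd _ _ _
  have : ∀ g, IsOpenImmersion (γ g) := fun g => hγι g ▸ inferInstance
  have hsp : ∀ g, (s ≫ (ρ g).hom) ≫ p = 𝟙 Y := fun g => by rw [Category.assoc, hp.inv g, hs]
  have hpb : ∀ g, IsPullback (s ≫ (ρ g).hom) s w (γ g) := fun g => by
    refine ⟨⟨?_⟩, ⟨PullbackCone.IsLimit.mk _ (fun c => c.fst ≫ p) (fun c => ?_) (fun c => ?_) fun c m hm _ => ?_⟩⟩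
    · refine pullback.hom_ext ?_ ?_
      · rw [Category.assoc, hw1, ← Category.assoc, hsp, Category.id_comp, Category.assoc, hγ1, Category.comp_id]
      · rw [Category.assoc, hw2, Category.comp_id, Category.assoc, hγ2]
    · have h1 := congrArg (· ≫ pullback.fst p p) c.condition
      have h2 := congrArg (· ≫ pullback.snd p p) c.condition
      simp only [Category.assoc, hw1, hw2, hγ1, hγ2, Category.comp_id] at h1 h2
      exact (Category.assoc _ _ _).trans (((reassoc_of% h1) _).trans h2.symm)
    · have h1 := congrArg (· ≫ pullback.fst p p) c.condition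
      simp only [Category.assoc, hw1, hγ1, Category.comp_id] at h1
      rw [Category.assoc, h1]
    · rw [← hm, Category.assoc, hsp, Category.comp_id]
  have : ∀ g, IsOpenImmersion (s ≫ (ρ g).hom) := fun g =>
    MorphismProperty.of_isPullback (P := @IsOpenImmersion) (hpb g).flip inferInstance
  have hinj := (QuotSch.graphs hp).isOpenEmbedding.injective
  have hkey : ∀ g y, QuotSch.graphs hp (Sigma.ι (fun _ : G => X) g (s y)) = w ((s ≫ (ρ g).hom) y) := fun g y =>
    (congr($(hγι g) (s y))).trans congr($((hpb g).w.symm) y)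
  have := isOpenImmersion_sigmaDesc (fun _ : G => Y) (fun g => s ≫ (ρ g).hom) fun g h hgh => by
    simp only [Function.onFun]
    refine Set.disjoint_left.mpr ?_
    rintro _ ⟨y, rfl⟩ ⟨y', hy'⟩
    have := hinj ((hkey g y).trans ((congrArg w hy'.symm).trans (hkey h y').symm))
    rw [sigmaι_eq_iff] at this
    exact hgh (congrArg Sigma.fst this)
  have : Surjective (Sigma.desc (fun g : G => s ≫ (ρ g).hom) : (∐ fun _ : G => Y) ⟶ X) := ⟨fun z => by
    obtain ⟨t, ht⟩ := (QuotSch.graphs hp).surjective (w z)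
    obtain ⟨⟨g, x⟩, rfl⟩ := (sigmaMk (fun _ : G => X)).surjective t
    rw [sigmaMk_mk] at ht
    have h0 : γ g x = w z := (congr($(hγι g) x)).symm.trans ht
    have h1 : x = s (p z) := (congr($(hγ1 g) x)).symm.trans ((congrArg (pullback.fst p p) h0).trans congr($hw1 z))
    have h2 : (ρ g).hom x = z := (congr($(hγ2 g) x)).symm.trans ((congrArg (pullback.snd p p) h0).trans congr($hw2 z))
    exact ⟨Sigma.ι (fun _ : G => Y) g (p z),
      (congr($(Sigma.ι_desc (fun g : G => s ≫ (ρ g).hom) g) (p z))).trans ((congrArg (ρ g).hom h1.symm).trans h2)⟩⟩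
  exact (isIso_iff_isOpenImmersion_and_epi_base _).mpr
    ⟨inferInstance, (TopCat.epi_iff_surjective _).mpr (Scheme.Hom.surjective _)⟩


/-- Let a finite group G act on X, p : X ⟶ Y a quotient with Y locally Noetherian and p finite, G acting
freely on geometric points, and suppose p has a section. Then the morphism from the disjoint union
of copies of Y indexed by G to X which is s followed by the action of g on the g-th copy is an
isomorphism. -/
theorem result {X Y : Scheme.{u}} {G : Type u} [Group G] [Finite G] (ρ : G →* Aut X)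
    (p : X ⟶ Y) (hp : SGA1.IsQuot ρ p) [IsLocallyNoetherian Y] [IsFinite p]
    (hfree : (∀ (K : Type u) [Field K] [IsAlgClosed K] (ξ : Spec (CommRingCat.of K) ⟶ X) (g : G), ξ ≫ (ρ g).hom = ξ → g = 1)) (s : Y ⟶ X) (hs : s ≫ p = 𝟙 Y) :
    IsIso (Sigma.desc (fun g : G => s ≫ (ρ g).hom) : (∐ fun _ : G => Y) ⟶ X) := by
  exact aux_iso hp hfree s hs

end Groth.Agent.S2919
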