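import Groth.Statements.S5172
import Groth.Agent.LocDuality.RelCodim
import Groth.Agent.LocCohBasic.Depth
import Groth.Agent.Depth.CM
-- import your own Groth.Agent.* helpers here

set_option autoImplicit false
universe u
open LocCoh

namespace Groth.Agent.S5172

/-- Let A be a Noetherian ring which is a quotient of a regular ring, I an ideal, M a finite A-module
and n ≥ 0; c(p) = codim(V(p) ∩ V(I), V(p)). Then depth M_p > n − c(p) for all primes p ⊉ I if and
only if depth M_p ≥ n for all primes p ⊉ I with c(p) = 1. -/
theorem result (R : Type u) [CommRing R] [IsRegularRing R] (A : Type u) [CommRing A] [IsNoetherianRing A] (π : R →+* A) (hπ : Function.Surjective π) (I : Ideal A) (M : Type u) [AddCommGroup M] [Module A M] [Module.Finite A M] (n : ℕ) : (∀ p : PrimeSpectrum A, ¬ I ≤ p.asIdeal → (n : ℕ∞) < LocCoh.depth (Localization.AtPrime p.asIdeal) (LocalizedModule p.asIdeal.primeCompl M) + SGA2.relCodim I p) ↔ (∀ p : PrimeSpectrum A, ¬ I ≤ p.asIdeal → SGA2.relCodim I p = 1 → (n : ℕ∞) ≤ LocCoh.depth (Localization.AtPrime p.asIdeal) (LocalizedModule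 p.asIdeal.primeCompl M)) := by
  let : Algebra R A := π.toAlgebra
  constructor
  · intro h p hp hc
    have := h p hp
    rw [hc] at this
    exact Order.le_of_lt_add_one this
  · intro h p hp
    by_contra hcon
    rw [not_lt] at hcon
    set D := LocCoh.depth (Localization.AtPrime p.asIdeal) (LocalizedModule p.asIdeal.primeCompl M) with hD
    obtain ⟨d, hd⟩ := ENat.ne_top_iff_exists.mp
      (ne_top_of_le_ne_top (ENat.natCast_ne_top n) (le_self_add.trans hcon) : D ≠ ⊤)
    obtain ⟨c, hc⟩ := ENat.ne_top_iff_exists.mp
      (ne_top_of_le_ne_top (ENat.natCast_ne_top n) (le_add_self.trans hcon) : SGA2.relCodim I p ≠ ⊤)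
    rw [← hd, ← hc, ← Nat.cast_add, Nat.cast_le] at hcon
    obtain ⟨h1, p', hp', hc', hprop⟩ := Groth.Agent.LocDuality.exists_relCodim_one (R := R) hπ I p hp c hc.symm
    have hlow := Groth.Agent.LocCohBasic.subsingleton_of_lt_idealDepth (IsLocalRing.maximalIdeal (Localization.AtPrime p'.asIdeal))
      (M := ModuleCat.of _ (LocalizedModule p'.asIdeal.primeCompl M)) (i := d + (c - 1))
      (lt_of_lt_of_le (by exact_mod_cast (show d + (c - 1) < n by omega)) (h p' hp' hc'))
    have hs := hprop M d hlow
    have : IsNoetherianRing (Localization.AtPrime p.asIdeal) :=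
      IsLocalization.isNoetherianRing p.asIdeal.primeCompl _ inferInstance
    have hnt := Groth.Agent.LocCohBasic.nontrivial_of_idealDepth_eq (IsLocalRing.maximalIdeal (Localization.AtPrime p.asIdeal))
      (ModuleCat.of _ (LocalizedModule p.asIdeal.primeCompl M)) (n := d) ?_ hd.symm
    · exact not_subsingleton_iff_nontrivial.mpr hnt hs
    · intro htop
      have hbad := Groth.Agent.Depth.idealDepth_eq_top (M := LocalizedModule p.asIdeal.primeCompl M) htop
      exact ENat.natCast_ne_top d (hd.trans hbad)

end Groth.Agent.S5172
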