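import Groth.Statements.S2930
import Groth.Agent.LocDuality.FiniteBelow
import Groth.Agent.S5172
-- import your own Groth.Agent.* helpers here

set_option autoImplicit false
universe u
open LocCoh

namespace Groth.Agent.S2930

/-- (ii)⇔(iii): Let A be a Noetherian ring which is a quotient of a regular ring, I an ideal, M a finite
A-module and n ≥ 0. Then H^i_I(M) is a finite A-module for every i ≤ n if and only if depth M_p ≥ n
for every prime p not containing I for which V(p) ∩ V(I) has codimension 1 in V(p), i.e. for which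
there is a prime q ⊇ I covering p. -/
theorem result (R : Type u) [CommRing R] [IsRegularRing R] (A : Type u) [CommRing A] [IsNoetherianRing A] (π : R →+* A) (hπ : Function.Surjective π) (I : Ideal A) (M : Type u) [AddCommGroup M] [Module A M] [Module.Finite A M] (n : ℕ) : (∀ i : ℕ, i ≤ n → Module.Finite A (LocCoh.H I i M)) ↔ ∀ p q : PrimeSpectrum A, ¬ I ≤ p.asIdeal → I ≤ q.asIdeal → p ⋖ q → (n : ℕ∞) ≤ LocCoh.depth (Localization.AtPrime p.asIdeal) (LocalizedModule p.asIdeal.primeCompl M) := by
  let : Algebra R A := π.toAlgebra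
  rw [Groth.Agent.LocDuality.forall_finite_iff_depth_add_relCodim (R := R) hπ, S5172.result R A π hπ I M n]
  constructor
  · intro h p q hp hq hpq
    refine h p hp (le_antisymm (iInf_le_of_le ⟨q, hpq.le, hq⟩ ?_) (le_iInf fun r => ?_))
    · rw [← Nat.cast_one, Order.height_le_coe_iff]
      intro y hy
      have hyp : y.1 = p := ((eq_or_lt_of_le (y.2 : p ≤ y.1)).resolve_right fun hlt => hpq.2 hlt hy).symm
      have : IsMin y := fun z hz => by
        change y.1 ≤ z.1
        rw [hyp]; exact z.2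
      rw [Order.height_eq_zero.mpr this]
      simp
    · refine Order.one_le_iff_ne_zero.mpr fun h0 => ?_
      have hmin := Order.height_eq_zero.mp h0
      have hrp : r.1 ≤ p := hmin (show (⟨p, le_refl p⟩ : Set.Ici p) ≤ ⟨r.1, r.2.1⟩ from r.2.1)
      exact hp (r.2.2.trans hrp)
  · intro h p hp hc
    have hne : Nonempty {q : PrimeSpectrum A // p ≤ q ∧ I ≤ q.asIdeal} := by
      by_contra he
      rw [not_nonempty_iff] at he
      rw [SGA2.relCodim, iInf_of_empty] at hc
      simp at hc
    obtain ⟨⟨q, hpq, hIq⟩, hq⟩ := ENat.exists_eq_iInf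
      (fun q : {q : PrimeSpectrum A // p ≤ q ∧ I ≤ q.asIdeal} => Order.height (⟨q.1, q.2.1⟩ : Set.Ici p))
    rw [show (⨅ q : {q : PrimeSpectrum A // p ≤ q ∧ I ≤ q.asIdeal}, Order.height (⟨q.1, q.2.1⟩ : Set.Ici p)) = 1 from hc] at hq
    refine h p q hp hIq ⟨lt_of_le_of_ne hpq fun e => hp (e ▸ hIq), fun {r} hpr hrq => ?_⟩
    have hlt : (⟨r, hpr.le⟩ : Set.Ici p) < ⟨q, hpq⟩ := hrq
    have hle : (⟨p, le_refl p⟩ : Set.Ici p) < ⟨r, hpr.le⟩ := hpr
    have h2 := (add_le_add ((le_add_self : (1 : ℕ∞) ≤ _ + 1).trans (Order.height_add_one_le hle)) le_rfl).trans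
      (Order.height_add_one_le hlt)
    rw [hq] at h2
    exact absurd h2 (by decide)

end Groth.Agent.S2930
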