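import Groth.Statements.S2931
import Groth.Agent.LocDuality.SupportMin
import Groth.Agent.Depth.CM
-- import your own Groth.Agent.* helpers here

set_option autoImplicit false
universe u
open LocCoh

namespace Groth.Agent.S2931

/-- Affine form (coherence of R^p i_*(F) for p < n being finiteness of H^i_I for i ≤ n). Let A be a
Noetherian ring which is a quotient of a regular ring, I an ideal and M a finite A-module such that
M_p is zero or Cohen–Macaulay for every prime p not containing I. Then H^i_I(M) is a finite A-module
for every i ≤ n if and only if for every prime p not containing I which is minimal in the support of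
M, the codimension of V(p) ∩ V(I) in V(p) is greater than n. -/
theorem result (R : Type u) [CommRing R] [IsRegularRing R] (A : Type u) [CommRing A] [IsNoetherianRing A] (π : R →+* A) (hπ : Function.Surjective π) (I : Ideal A) (M : Type u) [AddCommGroup M] [Module A M] [Module.Finite A M] (hCM : ∀ p : PrimeSpectrum A, ¬ I ≤ p.asIdeal → Subsingleton (LocalizedModule p.asIdeal.primeCompl M) ∨ LocCoh.IsCohenMacaulayModule (Localization.AtPrime p.asIdeal) (LocalizedModule p.asIdeal.primeCompl M)) (n : ℕ) : (∀ i : ℕ, i ≤ n → Module.Finite A (LocCoh.H I i M)) ↔ ∀ p : PrimeSpectrum A, ¬ I ≤ p.asIdeal → p.asIdeal ∈ (Module.annihilator A M).minimalPrimes → (n : ℕ∞) < SGA2.relCodim I p := by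
  let : Algebra R A := π.toAlgebra
  rw [Groth.Agent.LocDuality.forall_finite_iff_depth_add_relCodim (R := R) hπ]
  constructor
  · intro h p hp hmin
    have hnt : Nontrivial (LocalizedModule p.asIdeal.primeCompl M) :=
      Module.mem_support_iff.mp (Module.mem_support_iff_of_finite.mpr hmin.1.2 : p ∈ _)
    have hcm := (hCM p hp).resolve_left (not_subsingleton_iff_nontrivial.mpr hnt)
    have hdim : Module.supportDim (Localization.AtPrime p.asIdeal) (LocalizedModule p.asIdeal.primeCompl M) ≤ 0 :=
      (Groth.Agent.LocDuality.supportDim_localized_le_zero M p hmin)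
    have hd := hcm
    rw [hd, ← WithBot.coe_zero, WithBot.coe_le_coe] at hdim
    have := h p hp
    rwa [le_zero_iff.mp hdim, zero_add] at this
  · intro h p hp
    by_cases hsub : Subsingleton (LocalizedModule p.asIdeal.primeCompl M)
    · rw [LocCoh.depth, Groth.Agent.Depth.idealDepth_of_subsingleton, top_add]
      exact ENat.natCast_lt_top n
    have hnt : Nontrivial (LocalizedModule p.asIdeal.primeCompl M) := not_subsingleton_iff_nontrivial.mp hsub
    have hcm := (hCM p hp).resolve_left hsub
    obtain ⟨P, hP, hPp⟩ := Ideal.exists_minimalPrimes_le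
      (Module.mem_support_iff_of_finite.mp (Module.mem_support_iff.mpr hnt : p ∈ _))
    let p₀ : PrimeSpectrum A := ⟨P, hP.1.1⟩
    have hp₀ : ¬ I ≤ p₀.asIdeal := fun hI => hp (hI.trans hPp)
    refine (h p₀ hp₀ hP).trans_le ?_
    refine (Groth.Agent.LocDuality.relCodim_le_height_add (R := R) hπ I p₀ p hPp).trans (add_le_add ?_ le_rfl)
    rw [← WithBot.coe_le_coe, ← show _ = _ from hcm]
    exact Groth.Agent.LocDuality.height_le_supportDim_localized M p₀ p hPp hP.1.2

end Groth.Agent.S2931
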