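import Groth.Statements.S2932
import Groth.Agent.ParaFTower.Main

set_option autoImplicit false
universe u
open ParaF

namespace Groth.Agent.S2932

/-- Let A be a Noetherian local ring which is a complete intersection (a quotient of a regular local
ring by a regular sequence) and which is factorial in codimension ≤ 3: for every prime p with dim
A_p ≤ 3 the local ring A_p is a factorial domain. Then A is a factorial domain. -/
theorem result (A : Type u) [CommRing A] [IsLocalRing A] [IsNoetherianRing A] (hA : SGA2.IsAbsCompleteIntersection A) (h : ∀ p : PrimeSpectrum A, ringKrullDim (Localization.AtPrime p.asIdeal) ≤ 3 → IsDomain (Localization.AtPrime p.asIdeal) ∧ UniqueFactorizationMonoid (Localization.AtPrime p.asIdeal)) : IsDomain A ∧ UniqueFactorizationMonoid A := by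
  obtain ⟨B, _, _, rs, hm, hreg, ⟨e⟩⟩ := hA
  let A' := B ⧸ Ideal.ofList rs
  let e' : A ≃+* A' := e
  haveI : IsLocalRing A' := e'.isLocalRing
  have key := Groth.Agent.ParaFTower.ufd_quot_regular B rs hm hreg.toIsWeaklyRegular (fun p hp hh => by
    haveI := hp
    let p' : PrimeSpectrum A := ⟨p.comap e'.toRingHom, Ideal.comap_isPrime _ _⟩
    have hsub : p'.asIdeal.primeCompl.map e'.toRingHom.toMonoidHom = p.primeCompl := by
      ext x
      constructor
      · rintro ⟨y, hy, rfl⟩; exact hy
      · exact fun hx => ⟨e'.symm x, show e' (e'.symm x) ∉ p by rw [e'.apply_symm_apply]; exact hx, e'.apply_symm_apply x⟩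
    let el : Localization.AtPrime p'.asIdeal ≃+* Localization.AtPrime p :=
      IsLocalization.ringEquivOfRingEquiv (Localization.AtPrime p'.asIdeal) (Localization.AtPrime p) e' hsub
    refine Groth.Agent.ParaFTower.domain_ufd_of_ringEquiv el (h p' ?_)
    rw [ringKrullDim_eq_of_ringEquiv el, IsLocalization.AtPrime.ringKrullDim_eq_height p]
    exact WithBot.coe_le_coe.2 hh)
  obtain ⟨d, hd⟩ := Groth.Agent.CAlgReg.exists_dim (R := A')
  have hmax := key d (IsLocalRing.maximalIdeal A') inferInstance (le_of_eq (WithBot.coe_injective (by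
    rw [IsLocalRing.maximalIdeal_height_eq_ringKrullDim, hd]; rfl)))
  haveI : IsLocalization.AtPrime A' (IsLocalRing.maximalIdeal A') := IsLocalization.of_le_isUnit fun y hy => by
    by_contra hyu
    exact hy hyu
  exact Groth.Agent.ParaFTower.domain_ufd_of_ringEquiv
    ((IsLocalization.algEquiv (IsLocalRing.maximalIdeal A').primeCompl
      (Localization.AtPrime (IsLocalRing.maximalIdeal A')) A').toRingEquiv.trans e'.symm) hmax

end Groth.Agent.S2932
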