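import Groth.Statements.S2934
import Groth.Agent.LocDuality.DualH
import Groth.Agent.S0564
-- import your own Groth.Agent.* helpers here

set_option autoImplicit false
universe u
open LocCoh

namespace Groth.Agent.S2934

/-- Let A be a Noetherian local ring which is a quotient of a regular local ring, m its maximal ideal, M
a finite A-module and i ≥ 0. Then H^i_m(M) is an A-module of finite length if and only if for every
prime p ≠ m, writing e = dim A/p, the local cohomology H^{i−e} of M_p with support in the maximal
ideal of A_p vanishes (no condition when e > i). -/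
theorem result (R : Type u) [CommRing R] [IsRegularLocalRing R] (A : Type u) [CommRing A] [IsLocalRing A] [IsNoetherianRing A] (π : R →+* A) (hπ : Function.Surjective π) (M : Type u) [AddCommGroup M] [Module A M] [Module.Finite A M] (i : ℕ) : IsFiniteLength A (LocCoh.H (IsLocalRing.maximalIdeal A) i M) ↔ ∀ p : PrimeSpectrum A, p.asIdeal ≠ IsLocalRing.maximalIdeal A → ∀ (e j : ℕ), ringKrullDim (A ⧸ p.asIdeal) = e → j + e = i → Subsingleton (LocCoh.H (IsLocalRing.maximalIdeal (Localization.AtPrime p.asIdeal)) j (LocalizedModule p.asIdeal.primeCompl M)) := by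
  let : Algebra R A := π.toAlgebra
  have := Groth.Agent.GorenBasic.isGorensteinLocalRing_of_isRegularLocalRing R
  rw [Groth.Agent.LocDuality.isFiniteLength_H_iff (S := R) hπ M i,
    Groth.Agent.LocDuality.le_radical_annihilator_iff (S := R) hπ M]
  constructor
  · intro h p hp e j he hj
    refine h p.asIdeal (fun hle => hp ((IsLocalRing.maximalIdeal.isMaximal A).eq_of_le p.2.ne_top hle).symm) j ?_
    rw [he, ← hj]; exact (Nat.cast_add j e).symm
  · intro h p hp hJ j hj
    have : IsLocalRing (A ⧸ p) := IsLocalRing.of_surjective' (Ideal.Quotient.mk p) Ideal.Quotient.mk_surjective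
    obtain ⟨e, he⟩ := Groth.Agent.Depth.exists_natCast_eq_supportDim (R := A ⧸ p) (M := A ⧸ p)
    rw [Module.supportDim_self_eq_ringKrullDim] at he
    refine h ⟨p, hp⟩ (fun heq => hJ (le_of_eq heq.symm)) e j he ?_
    rw [he] at hj
    exact_mod_cast hj

end Groth.Agent.S2934
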