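import Groth.Statements.S2937
import Groth.Agent.PureDesc.Descent

set_option autoImplicit false
universe u
open CategoryTheory AlgebraicGeometry
open Pi1

namespace Groth.Agent.S2937

open AlgebraicGeometry CategoryTheory CategoryTheory.Limits

set_option backward.isDefEq.respectTransparency.types false

theorem essSurj_of_descent {Y Y₁ W W₁ : Scheme.{u}} (p : Y₁ ⟶ Y) [Flat p] [Surjective p] [QuasiCompact p]
    (j : W ⟶ Y) [IsOpenImmersion j] [QuasiCompact j] (hj : PureDesc.Deep j)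
    (j₁ : W₁ ⟶ Y₁) (p' : W₁ ⟶ W) (sq : IsPullback j₁ p' p j)
    (h : (FEt.restrict j₁).EssSurj) : (FEt.restrict j).EssSurj := by
  refine ⟨fun E => ?_⟩
  let eE : E.left ⟶ W := E.hom
  let Z := (FEt.restrict j₁).objPreimage ((FEt.restrict p').obj E)
  let α : (FEt.restrict j₁).obj Z ≅ (FEt.restrict p').obj E := (FEt.restrict j₁).objObjPreimageIso _
  let k : Z.left ⟶ Y₁ := Z.hom
  haveI : IsFinite k := Z.prop.1
  haveI : Etale k := Z.prop.2
  let a : pullback k j₁ ⟶ pullback eE p' := α.hom.left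
  haveI : IsIso a := ⟨(α.inv.left : pullback eE p' ⟶ pullback k j₁),
    congrArg (fun m => m.left) α.hom_inv_id, congrArg (fun m => m.left) α.inv_hom_id⟩
  have ha : a ≫ pullback.snd eE p' = pullback.snd k j₁ := FEtLib.w α.hom
  let ε := a ≫ pullback.fst eE p'
  let D : PureDesc.Ext1 p j :=
    { Z := Z.left
      ZW := pullback k j₁
      El := E.left
      k := k
      eE := eE
      i := pullback.fst k j₁
      r := pullback.snd k j₁ ≫ p'
      ε := ε
      sqZ := (((IsPullback.of_hasPullback k j₁).flip.paste_horiz sq.flip)).flip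
      sqE := by
        have h1 : IsPullback ε (pullback.snd k j₁) eE p' :=
          IsPullback.of_iso (IsPullback.of_hasPullback eE p') (asIso a).symm (Iso.refl _) (Iso.refl _)
            (Iso.refl _) (by simp [ε]) (by simp [← ha]) (by simp) (by simp)
        rw [pullback.condition]
        exact h1.paste_vert sq.flip
      hε := by
        show (a ≫ pullback.fst eE p') ≫ eE = _
        rw [Category.assoc, pullback.condition, reassoc_of% ha] }
  haveI : IsFinite D.k := ‹IsFinite k›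
  haveI : Etale D.k := ‹Etale k›
  obtain ⟨U, gU, ρ, hfin, het, hρ⟩ := D.descend hj
  exact ⟨FEtLib.mk gU, ⟨MorphismProperty.Over.isoMk ρ hρ⟩⟩


/-- Let X be a locally Noetherian scheme and U an open subscheme such that O_X → i_*O_U is an
isomorphism, equivalently, every local ring of X at a point outside U has depth ≥ 2. Let f : X_1 → X
be faithfully flat and quasi-compact. If the pair (X_1, X_1 − f⁻¹U) is pure (restriction of finite
étale covers from every open V to V ∩ f⁻¹U is an equivalence), then so is (X, X − U). -/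
theorem result (X X₁ : Scheme.{u}) [IsLocallyNoetherian X] (U : X.Opens) (hU : ∀ x : X, x ∉ U → (2 : ℕ∞) ≤ LocCoh.depth (X.presheaf.stalk x) (X.presheaf.stalk x)) (f : X₁ ⟶ X) [Flat f] [Surjective f] [QuasiCompact f] (h : SGA2.IsPurePair X₁ (f ⁻¹ᵁ U)) : SGA2.IsPurePair X U := by
  intro V
  let j := X.homOfLE (inf_le_left : V ⊓ U ≤ V)
  let j₁ := X₁.homOfLE (inf_le_left : (f ⁻¹ᵁ V) ⊓ (f ⁻¹ᵁ U) ≤ f ⁻¹ᵁ V)
  haveI hoi : IsOpenImmersion j := inferInstance
  haveI : IsOpenImmersion V.ι := V.instIsOpenImmersionι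
  haveI : IsLocallyNoetherian (V : Scheme.{u}) := inferInstance
  haveI : QuasiCompact j := inferInstance
  have hr : j.opensRange = V.ι ⁻¹ᵁ U := by
    refine TopologicalSpace.Opens.ext ?_
    have hι : j ≫ V.ι = (V ⊓ U).ι := X.homOfLE_ι _
    ext y
    constructor
    · rintro ⟨z, rfl⟩
      show V.ι (j z) ∈ U
      rw [← Scheme.Hom.comp_apply, hι]
      exact z.2.2
    · intro hy
      obtain ⟨z, hz⟩ : V.ι y ∈ Set.range (V ⊓ U).ι := by
        rw [Scheme.Opens.range_ι]; exact ⟨y.2, hy⟩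
      exact ⟨z, V.ι.isOpenEmbedding.injective (((Scheme.Hom.comp_apply _ _ _).symm.trans (congr($hι z))).trans hz)⟩
  have hj : PureDesc.Deep j := by
    show FEtLib.HasRegSeq2 _ j.opensRange
    rw [hr]
    exact (FEtLib.hasRegSeq2_of_depth hU).preimage_of_flat V.ι
  haveI : Flat (f ∣_ V) := MorphismProperty.of_isPullback (isPullback_morphismRestrict f V).flip ‹Flat f›
  haveI : Surjective (f ∣_ V) := MorphismProperty.of_isPullback (isPullback_morphismRestrict f V).flip ‹Surjective f›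
  haveI : QuasiCompact (f ∣_ V) := MorphismProperty.of_isPullback (isPullback_morphismRestrict f V).flip ‹QuasiCompact f›
  let q : ((f ⁻¹ᵁ V ⊓ f ⁻¹ᵁ U : X₁.Opens) : Scheme.{u}) ⟶ ((V ⊓ U : X.Opens) : Scheme.{u}) := f ∣_ (V ⊓ U)
  have hq : IsPullback q (f ⁻¹ᵁ V ⊓ f ⁻¹ᵁ U).ι (V ⊓ U).ι f := isPullback_morphismRestrict f (V ⊓ U)
  have hj₁ : j₁ ≫ (f ⁻¹ᵁ V).ι = (f ⁻¹ᵁ V ⊓ f ⁻¹ᵁ U).ι := X₁.homOfLE_ι _
  have hjι : j ≫ V.ι = (V ⊓ U).ι := X.homOfLE_ι _
  have hw : q ≫ j = j₁ ≫ f ∣_ V := by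
    rw [← cancel_mono V.ι, Category.assoc, hjι, Category.assoc, morphismRestrict_ι, reassoc_of% hj₁, hq.w]
  have sq : IsPullback j₁ q (f ∣_ V) j := by
    refine IsPullback.flip (IsPullback.of_bot ?_ hw (isPullback_morphismRestrict f V))
    rw [hj₁, hjι]
    exact hq
  haveI := h (f ⁻¹ᵁ V)
  haveI : (FEt.restrict j₁).EssSurj := inferInstance
  haveI := essSurj_of_descent (f ∣_ V) j hj j₁ q sq inferInstance
  haveI := (PureDesc.full_faithful_openImmersion j hj).1
  haveI := (PureDesc.full_faithful_openImmersion j hj).2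
  exact {}

end Groth.Agent.S2937
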