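import Groth.Statements.S2964
import Mathlib
-- import your own Groth.Agent.* helpers here

set_option autoImplicit false
set_option backward.isDefEq.respectTransparency.types false
universe u
open scoped TensorProduct
open SGA3t2b

namespace Groth.Agent.S2964

section
variable {A : Type u} [CommRing A] {L : Type u} [LieRing L] [LieAlgebra A L]

/-- iterated brackets with a finite generating family. -/
noncomputable def Phi {g : ℕ} (x : Fin g → L) (S : Submodule A L) : Submodule A L :=
  ⨆ i, S.map (LieAlgebra.ad A L (x i))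

lemma Phi_mono {g : ℕ} (x : Fin g → L) {S T : Submodule A L} (h : S ≤ T) : Phi x S ≤ Phi x T :=
  iSup_mono fun _ => Submodule.map_mono h

lemma Phi_sup {g : ℕ} (x : Fin g → L) (S T : Submodule A L) :
    Phi x (S ⊔ T) = Phi x S ⊔ Phi x T := by
  simp only [Phi, Submodule.map_sup]
  exact iSup_sup_eq

lemma Phi_smul {g : ℕ} (x : Fin g → L) (I : Ideal A) (S : Submodule A L) :
    Phi x (I • S) = I • Phi x S := by
  simp only [Phi, Submodule.map_smul'', Submodule.smul_iSup]

lemma Phi_iter_mono {g : ℕ} (x : Fin g → L) (n : ℕ) {S T : Submodule A L} (h : S ≤ T) :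
    (Phi x)^[n] S ≤ (Phi x)^[n] T := by
  induction n with
  | zero => exact h
  | succ n ih =>
    rw [Function.iterate_succ_apply', Function.iterate_succ_apply']; exact Phi_mono x ih

lemma Phi_iter_sup {g : ℕ} (x : Fin g → L) (n : ℕ) (S T : Submodule A L) :
    (Phi x)^[n] (S ⊔ T) = (Phi x)^[n] S ⊔ (Phi x)^[n] T := by
  induction n with
  | zero => rfl
  | succ n ih => simp only [Function.iterate_succ_apply', ih, Phi_sup]

lemma Phi_iter_smul {g : ℕ} (x : Fin g → L) (n : ℕ) (I : Ideal A) (S : Submodule A L) :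
    (Phi x)^[n] (I • S) = I • (Phi x)^[n] S := by
  induction n with
  | zero => rfl
  | succ n ih => simp only [Function.iterate_succ_apply', ih, Phi_smul]

lemma Phi_iter_fg {g : ℕ} (x : Fin g → L) (hfin : (⊤ : Submodule A L).FG) (n : ℕ) :
    ((Phi x)^[n] (⊤ : Submodule A L)).FG := by
  induction n with
  | zero => exact hfin
  | succ n ih =>
    rw [Function.iterate_succ_apply']
    exact Submodule.fg_iSup _ fun i => ih.map _

/-- The core: fibrewise vanishing of iterated brackets gives global vanishing. -/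
lemma core {g : ℕ} (x : Fin g → L) (hfin : (⊤ : Submodule A L).FG)
    (hfib : ∀ p : Ideal A, p.IsPrime → ∃ n, ∀ v ∈ (Phi x)^[n] (⊤ : Submodule A L),
      ∃ s, s ∉ p ∧ s • v ∈ p • (⊤ : Submodule A L)) :
    ∃ n, (Phi x)^[n] (⊤ : Submodule A L) = ⊥ := by
  let T : ℕ → Submodule A L := fun n => (Phi x)^[n] ⊤
  by_contra hno
  let bad : Set (Ideal A) := {a | ∀ n, ¬ T n ≤ a • ⊤}
  have h0 : (⊥ : Ideal A) ∈ bad := fun n hn => hno ⟨n, by simpa [Submodule.bot_smul] using hn⟩
  obtain ⟨a, -, ha⟩ := zorn_le_nonempty₀ bad (fun c hc hchain y hy => by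
    refine ⟨sSup c, fun n hn => ?_, fun z hz => le_sSup hz⟩
    have hsup : (sSup c : Ideal A) • (⊤ : Submodule A L) = ⨆ b : c, (b : Ideal A) • (⊤ : Submodule A L) := by
      rw [sSup_eq_iSup', Submodule.iSup_smul]
    have hdir : Directed (· ≤ ·) fun b : c => (b : Ideal A) • (⊤ : Submodule A L) := by
      rintro ⟨b, hb⟩ ⟨b', hb'⟩
      rcases hchain.total hb hb' with h | h
      · exact ⟨⟨b', hb'⟩, Submodule.smul_mono_left h, le_rfl⟩
      · exact ⟨⟨b, hb⟩, le_rfl, Submodule.smul_mono_left h⟩
    haveI : Nonempty c := ⟨⟨y, hy⟩⟩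
    obtain ⟨G, hG⟩ := Phi_iter_fg x hfin n
    have hn' : Submodule.span A (G : Set L) ≤ ⨆ b : c, (b : Ideal A) • (⊤ : Submodule A L) := by
      rw [hG, ← hsup]; exact hn
    have hall : ∀ (G' : Finset L), (G' : Set L) ⊆ (⨆ b : c, (b : Ideal A) • (⊤ : Submodule A L) : Submodule A L) →
        ∃ b : c, (G' : Set L) ⊆ ((b : Ideal A) • (⊤ : Submodule A L) : Submodule A L) := by
      classical
      intro G'
      induction G' using Finset.induction with
      | empty => exact fun _ => ⟨Classical.arbitrary _, by simp⟩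
      | @insert v G' _ ih =>
        intro h
        rw [Finset.coe_insert, Set.insert_subset_iff] at h
        obtain ⟨b, hb⟩ := ih h.2
        obtain ⟨b', hb'⟩ := (Submodule.mem_iSup_of_directed _ hdir).mp h.1
        obtain ⟨b'', h1, h2⟩ := hdir b b'
        refine ⟨b'', ?_⟩
        rw [Finset.coe_insert, Set.insert_subset_iff]
        exact ⟨h2 hb', hb.trans h1⟩
    obtain ⟨b, hb⟩ := hall G (Submodule.span_le.mp hn')
    exact hc b.2 n (by show (Phi x)^[n] ⊤ ≤ _; rw [← hG]; exact Submodule.span_le.mpr hb)) _ h0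
  have hmax : ∀ b : Ideal A, a < b → ∃ n, T n ≤ b • ⊤ := by
    intro b hab
    by_contra hb
    push Not at hb
    exact hab.not_ge (ha.2 (show b ∈ bad from hb) hab.le)
  have hne : a ≠ ⊤ := fun h => ha.1 0 (by rw [h, Submodule.top_smul]; exact le_top)
  have hadd : ∀ m n, T (n + m) = (Phi x)^[n] (T m) := fun m n => Function.iterate_add_apply _ _ _ _
  haveI hp : a.IsPrime := by
    refine ⟨hne, fun {b c} hbc => ?_⟩
    by_contra hcon
    push Not at hcon
    obtain ⟨n1, hn1⟩ := hmax (a ⊔ Ideal.span {b}) (left_lt_sup.mpr fun h => hcon.1 (h (Ideal.mem_span_singleton_self b)))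
    obtain ⟨n2, hn2⟩ := hmax (a ⊔ Ideal.span {c}) (left_lt_sup.mpr fun h => hcon.2 (h (Ideal.mem_span_singleton_self c)))
    refine ha.1 (n2 + n1) ?_
    rw [hadd]
    refine (Phi_iter_mono x n2 hn1).trans ?_
    rw [Phi_iter_smul]
    refine (Submodule.smul_mono le_rfl hn2).trans ?_
    rw [← Submodule.mul_smul]
    refine Submodule.smul_mono_left ?_
    rw [Ideal.sup_mul, Ideal.mul_sup, Ideal.mul_sup, Ideal.span_singleton_mul_span_singleton]
    exact sup_le (sup_le Ideal.mul_le_left Ideal.mul_le_left)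
      (sup_le Ideal.mul_le_right ((Ideal.span_singleton_le_iff_mem _).mpr hbc))
  obtain ⟨n, hn⟩ := hfib a hp
  obtain ⟨G, hG⟩ := Phi_iter_fg x hfin n
  classical
  choose! σ hσ1 hσ2 using hn
  let s : A := ∏ v ∈ G, σ v
  have hGmem : ∀ v ∈ G, v ∈ (Phi x)^[n] (⊤ : Submodule A L) := fun v hv => hG ▸ Submodule.subset_span hv
  have hs : s ∉ a := by
    intro h
    obtain ⟨v, hv, hmem⟩ := hp.prod_mem_iff.mp h
    exact hσ1 v (hGmem v hv) hmem
  have hsT : Ideal.span {s} • T n ≤ a • ⊤ := by
    show Ideal.span {s} • (Phi x)^[n] ⊤ ≤ _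
    rw [← hG, Submodule.span_smul_span, Submodule.span_le]
    rintro z hz
    obtain ⟨_, rfl, v, hv, rfl⟩ := Set.mem_smul.mp hz
    have hv' : v ∈ G := hv
    show s • v ∈ (a • ⊤ : Submodule A L)
    rw [show s = (∏ w ∈ G.erase v, σ w) * σ v from (Finset.prod_erase_mul G σ hv').symm, mul_smul]
    exact Submodule.smul_mem _ _ (hσ2 v (hGmem v hv'))
  obtain ⟨m, hm⟩ := hmax (a ⊔ Ideal.span {s}) (left_lt_sup.mpr fun h => hs (h (Ideal.mem_span_singleton_self s)))
  refine ha.1 (n + m) ?_
  rw [hadd]
  refine (Phi_iter_mono x n hm).trans ?_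
  rw [Phi_iter_smul, Submodule.sup_smul]
  exact sup_le (Submodule.smul_mono le_rfl le_top) hsT

/-- transfer to the fibre. -/
lemma fibre_surj (p : Ideal A) [p.IsPrime] :
    (∀ z : p.ResidueField ⊗[A] L, ∃ (c : p.ResidueField) (x : L), c ≠ 0 ∧ c • z = 1 ⊗ₜ x) ∧
    (∀ v : L, (1 : p.ResidueField) ⊗ₜ[A] v = 0 → ∃ s, s ∉ p ∧ s • v ∈ p • (⊤ : Submodule A L)) := by
  let B := A ⧸ p
  let e := (TensorProduct.AlgebraTensorModule.cancelBaseChange A B p.ResidueField p.ResidueField L).symm
  let f := TensorProduct.mk B p.ResidueField (B ⊗[A] L) 1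
  haveI hf : IsLocalizedModule (nonZeroDivisors B) f := inferInstance
  have hone : ∀ v : B ⊗[A] L, ∃ y : L, (1 : B) ⊗ₜ[A] y = v := fun v => by
    induction v using TensorProduct.induction_on with
    | zero => exact ⟨0, TensorProduct.tmul_zero _ _⟩
    | tmul b y =>
      obtain ⟨a, rfl⟩ := Ideal.Quotient.mk_surjective b
      refine ⟨a • y, ?_⟩
      rw [TensorProduct.tmul_smul, TensorProduct.smul_tmul', ← Ideal.Quotient.algebraMap_eq,
        Algebra.algebraMap_eq_smul_one]
    | add u w hu hw =>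
      obtain ⟨yu, rfl⟩ := hu; obtain ⟨yw, rfl⟩ := hw
      exact ⟨yu + yw, TensorProduct.tmul_add _ _ _⟩
  refine ⟨fun z => ?_, fun v hv => ?_⟩
  · obtain ⟨⟨m, t⟩, ht⟩ := IsLocalizedModule.surj (nonZeroDivisors B) f (e z)
    obtain ⟨y, rfl⟩ := hone m
    refine ⟨algebraMap B p.ResidueField (t : B), y, ?_, ?_⟩
    · exact IsFractionRing.to_map_ne_zero_of_mem_nonZeroDivisors t.2
    · apply e.injective
      rw [map_smul, algebraMap_smul]
      simp only [f, TensorProduct.mk_apply] at ht
      exact ht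
  · have h : f ((1 : B) ⊗ₜ[A] v) = 0 := by
      have := congrArg e hv
      rw [map_zero] at this
      exact this
    obtain ⟨t, ht⟩ := (IsLocalizedModule.eq_zero_iff (nonZeroDivisors B) f).mp h
    obtain ⟨s, hs⟩ := Ideal.Quotient.mk_surjective (t : B)
    refine ⟨s, fun h' => ?_, ?_⟩
    · exact nonZeroDivisors.ne_zero t.2 (hs ▸ Ideal.Quotient.eq_zero_iff_mem.mpr h')
    · have h1 : (1 : B) ⊗ₜ[A] (s • v) = 0 := by
        rw [← ht, TensorProduct.tmul_smul, TensorProduct.smul_tmul', ← Algebra.algebraMap_eq_smul_one,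
          Ideal.Quotient.algebraMap_eq, hs, Submonoid.smul_def, TensorProduct.smul_tmul', smul_eq_mul, mul_one]
      have h2 := congrArg (TensorProduct.quotTensorEquivQuotSMul L p) h1
      rw [map_zero] at h2
      rw [← Submodule.Quotient.mk_eq_zero, ← h2]
      rw [show (1 : B) = Ideal.Quotient.mk p 1 from rfl, TensorProduct.quotTensorEquivQuotSMul_mk_tmul,
        one_smul]

end

/-- (i) ⇒ (iii): let d be a Lie algebra over a commutative ring A which is finitely presented as an
A-module. If for every prime p of A the fibre Lie algebra κ(p) ⊗_A d is nilpotent, then d is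
nilpotent (its lower central series vanishes, i.e. there is N with ad(x_1) ⋯ ad(x_N) = 0 for all
x_i); and the same conclusion holds if ad(x) is nilpotent for every x in d. -/
theorem result {A : Type u} [CommRing A] {L : Type u} [LieRing L] [LieAlgebra A L]
    [Module.FinitePresentation A L] :
    ((∀ p : PrimeSpectrum A, LieRing.IsNilpotent (p.asIdeal.ResidueField ⊗[A] L)) → LieRing.IsNilpotent L) ∧
    ((∀ x : L, IsNilpotent (LieAlgebra.ad A L x)) → LieRing.IsNilpotent L) := by
  have hfin : (⊤ : Submodule A L).FG := Module.Finite.fg_top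
  obtain ⟨g, x, hx⟩ := Submodule.fg_iff_exists_fin_generating_family.mp hfin
  have main : (∀ p : PrimeSpectrum A, LieRing.IsNilpotent (p.asIdeal.ResidueField ⊗[A] L)) →
      LieRing.IsNilpotent L := by
    intro hfib
    obtain ⟨n, hn⟩ := core x hfin (fun p hp => by
      haveI := hp
      obtain ⟨n, hn⟩ := (LieModule.isNilpotent_iff p.ResidueField (p.ResidueField ⊗[A] L)
        (p.ResidueField ⊗[A] L)).mp (hfib ⟨p, hp⟩)
      have key : ∀ k, ∀ v ∈ (Phi x)^[k] (⊤ : Submodule A L), (1 : p.ResidueField) ⊗ₜ[A] v ∈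
          LieModule.lowerCentralSeries p.ResidueField (p.ResidueField ⊗[A] L) (p.ResidueField ⊗[A] L) k := by
        intro k
        induction k with
        | zero => intro v _; simp
        | succ k ih =>
          intro v hv
          rw [Function.iterate_succ_apply'] at hv
          refine Submodule.iSup_induction _ (motive := fun v => (1 : p.ResidueField) ⊗ₜ[A] v ∈ LieModule.lowerCentralSeries p.ResidueField (p.ResidueField ⊗[A] L) (p.ResidueField ⊗[A] L) (k + 1)) hv ?_ ?_ ?_
          · rintro i z ⟨w, hw, rfl⟩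
            have e1 : (1 : p.ResidueField) ⊗ₜ[A] (LieAlgebra.ad A L (x i) w) =
                ⁅(1 : p.ResidueField) ⊗ₜ[A] (x i), (1 : p.ResidueField) ⊗ₜ[A] w⁆ := by simp
            rw [e1, LieModule.lowerCentralSeries_succ]
            exact LieSubmodule.lie_mem_lie (LieSubmodule.mem_top _) (ih w hw)
          · simp
          · intro u w hu hw
            rw [TensorProduct.tmul_add]
            exact add_mem hu hw
      refine ⟨n, fun v hv => (fibre_surj p).2 v ?_⟩
      have := key n v hv
      rwa [hn, LieSubmodule.mem_bot] at this)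
    refine (LieModule.isNilpotent_iff A L L).mpr ⟨n, ?_⟩
    have key : ∀ k, LieSubmodule.toSubmodule (LieModule.lowerCentralSeries A L L k) ≤
        (Phi x)^[k] (⊤ : Submodule A L) := by
      intro k
      induction k with
      | zero => exact le_top
      | succ k ih =>
        rw [Function.iterate_succ_apply', LieModule.lowerCentralSeries_succ,
          LieSubmodule.lieIdeal_oper_eq_linear_span', Submodule.span_le]
        rintro z ⟨y, -, w, hw, rfl⟩
        have hy : y ∈ Submodule.span A (Set.range x) := by rw [hx]; trivial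
        obtain ⟨c, rfl⟩ := (Submodule.mem_span_range_iff_exists_fun A).mp hy
        rw [sum_lie]
        refine Submodule.sum_mem _ fun i _ => ?_
        rw [smul_lie]
        exact Submodule.smul_mem _ _ (Submodule.mem_iSup_of_mem i ⟨w, ih hw, rfl⟩)
    rw [← LieSubmodule.toSubmodule_eq_bot, eq_bot_iff]
    exact (key n).trans hn.le
  refine ⟨main, fun had => main fun p => ?_⟩
  haveI : IsNoetherian p.asIdeal.ResidueField (p.asIdeal.ResidueField ⊗[A] L) := inferInstance
  rw [LieAlgebra.isNilpotent_iff_forall (R := p.asIdeal.ResidueField)]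
  intro z
  obtain ⟨c, y, hc, hz⟩ := (fibre_surj p.asIdeal).1 z
  have e : LieAlgebra.ad p.asIdeal.ResidueField _ ((1 : p.asIdeal.ResidueField) ⊗ₜ[A] y) =
      (LieAlgebra.ad A L y).baseChange p.asIdeal.ResidueField := by
    refine TensorProduct.AlgebraTensorModule.curry_injective ?_
    ext w
    simp
  obtain ⟨k, hk⟩ := had y
  have h1 : IsNilpotent (LieAlgebra.ad p.asIdeal.ResidueField _ ((1 : p.asIdeal.ResidueField) ⊗ₜ[A] y)) := by
    rw [e]
    refine ⟨k, ?_⟩
    rw [← LinearMap.baseChange_pow, hk, LinearMap.baseChange_zero]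
  rw [← hz, map_smul] at h1
  have := h1.smul c⁻¹
  rwa [smul_smul, inv_mul_cancel₀ hc, one_smul] at this

end Groth.Agent.S2964
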