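import Groth.Statements.S2965
-- import your own Groth.Agent.* helpers here

set_option autoImplicit false
universe u
open SGA3t2b

namespace Groth.Agent.S2965

open Polynomial in
/-- Implication (iv) ⇒ (i) (global form, finite free module): let u be an endomorphism of a finite free
module M over a commutative ring A whose characteristic polynomial is X^r · Q with Q(0) invertible.
Then M is the direct sum of two u-stable submodules M', M'' such that u is nilpotent on M' and
bijective on M''. -/
theorem result {A : Type u} [CommRing A] {M : Type u} [AddCommGroup M] [Module A M]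
    [Module.Free A M] [Module.Finite A M] (u : M →ₗ[A] M) (r : ℕ) (Q : A[X]) (hQ : IsUnit (Q.coeff 0))
    (h : u.charpoly = X ^ r * Q) :
    ∃ M' M'' : Submodule A M, IsCompl M' M'' ∧ (∀ x ∈ M', u x ∈ M') ∧ (∀ x ∈ M'', u x ∈ M'') ∧
      (∃ n : ℕ, ∀ x ∈ M', (u ^ n) x = 0) ∧ Set.BijOn u M'' M'' := by
  obtain ⟨q, hq⟩ := hQ
  have hdec : Q = C (q : A) + X * Q.divX := by
    rw [hq, add_comm, mul_comm, ← mul_comm X, Polynomial.X_mul_divX_add]
  have hco : IsCoprime (X ^ r) Q := by
    refine IsCoprime.pow_left ⟨-(C (↑q⁻¹ : A)) * Q.divX, C ↑q⁻¹, ?_⟩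
    have e1 : C (↑q⁻¹ : A) * C (q : A) = 1 := by rw [← C_mul, Units.inv_mul, C_1]
    calc _ = -C (↑q⁻¹ : A) * Q.divX * X + C (↑q⁻¹ : A) * (C (q : A) + X * Q.divX) := by rw [← hdec]
      _ = C (↑q⁻¹ : A) * C (q : A) := by ring
      _ = 1 := e1
  have hsup : LinearMap.ker (aeval u ((X : A[X]) ^ r)) ⊔ LinearMap.ker (aeval u Q) = ⊤ := by
    rw [Polynomial.sup_ker_aeval_eq_ker_aeval_mul_of_coprime u hco, ← h, LinearMap.aeval_self_charpoly,
      LinearMap.ker_zero]
  have hcomm : ∀ (P : A[X]) (x : M), aeval u P (u x) = u (aeval u P x) := by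
    intro P x
    have e : aeval u (P * X) = aeval u (X * P) := by rw [mul_comm]
    simpa [Polynomial.aeval_X] using LinearMap.congr_fun e x
  have hdx : ∀ x, aeval u Q x = (q : A) • x + u (aeval u Q.divX x) := by
    intro x
    conv_lhs => rw [hdec]
    simp [Polynomial.aeval_X, Module.algebraMap_end_apply]
  refine ⟨_, _, ⟨Polynomial.disjoint_ker_aeval_of_isCoprime u hco, codisjoint_iff.2 hsup⟩, ?_, ?_,
    ⟨r, fun x hx => ?_⟩, ?_⟩
  · intro x hx
    rw [LinearMap.mem_ker] at hx ⊢
    rw [hcomm, hx, map_zero]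
  · intro x hx
    rw [LinearMap.mem_ker] at hx ⊢
    rw [hcomm, hx, map_zero]
  · simpa using hx
  · have hinj : ∀ x : M, aeval u Q x = 0 → u x = 0 → x = 0 := by
      intro x hx hux
      have e := hdx x
      rw [hx, ← hcomm, hux, map_zero, add_zero] at e
      exact q.isUnit.smul_eq_zero.1 e.symm
    refine ⟨fun x hx => ?_, fun x hx y hy hxy => ?_, fun x hx => ?_⟩
    · simp only [SetLike.mem_coe, LinearMap.mem_ker] at hx ⊢
      rw [hcomm, hx, map_zero]
    · simp only [SetLike.mem_coe, LinearMap.mem_ker] at hx hy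
      exact sub_eq_zero.1 (hinj (x - y) (by rw [map_sub, hx, hy, sub_zero]) (by rw [map_sub, hxy, sub_self]))
    · simp only [SetLike.mem_coe, LinearMap.mem_ker] at hx
      refine ⟨-((↑q⁻¹ : A) • aeval u Q.divX x), ?_, ?_⟩
      · simp only [SetLike.mem_coe, LinearMap.mem_ker, map_neg, map_smul]
        have e : aeval u Q (aeval u Q.divX x) = aeval u Q.divX (aeval u Q x) := by
          rw [← Module.End.mul_apply, ← map_mul, mul_comm, map_mul, Module.End.mul_apply]
        rw [e, hx, map_zero, smul_zero, neg_zero]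
      · have e := hdx x
        rw [hx] at e
        have e' : u (aeval u Q.divX x) = -((q : A) • x) := eq_neg_of_add_eq_zero_right e.symm
        rw [map_neg, map_smul, e', smul_neg, neg_neg, smul_smul, Units.inv_mul, one_smul]

end Groth.Agent.S2965
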