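import Groth.Statements.S2967
-- import your own Groth.Agent.* helpers here

set_option autoImplicit false
universe u
open SGA3t2b

namespace Groth.Agent.S2967

/-- A commutative p-Lie algebra over a field k of characteristic p is recorded as a k-vector space g
together with its p-th power map φ, which is additive and Frobenius-semilinear. Let g be
finite-dimensional and non-zero, and assume every element of g is killed by some iterate of φ (g is
unipotent). Then the k-subspace of g spanned by the image φ(g) is a proper subspace. -/
theorem result {k : Type u} [Field k] (p : ℕ) [Fact p.Prime] [CharP k p]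
    {V : Type u} [AddCommGroup V] [Module k V] [FiniteDimensional k V] [Nontrivial V]
    (φ : V →ₛₗ[frobenius k p] V) (hφ : ∀ x : V, ∃ n : ℕ, φ^[n] x = 0) :
    Submodule.span k (Set.range φ) ≠ ⊤ := by
  intro htop
  have step : ∀ n : ℕ, Submodule.span k (Set.range (φ^[n])) = ⊤ := by
    intro n
    induction n with
    | zero => simp
    | succ n ih =>
      rw [eq_top_iff, ← htop, Submodule.span_le]
      rintro _ ⟨x, rfl⟩
      have : Submodule.span k (Set.range (φ^[n])) ≤ (Submodule.span k (Set.range (φ^[n + 1]))).comap φ := by
        rw [Submodule.span_le]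
        rintro _ ⟨y, rfl⟩
        exact Submodule.subset_span ⟨y, by rw [Function.iterate_succ_apply']⟩
      exact this (ih ▸ Submodule.mem_top)
  obtain ⟨s, hs⟩ := Module.Finite.fg_top (R := k) (M := V)
  choose N hN using hφ
  have hz : ∀ n m : ℕ, n ≤ m → ∀ x, φ^[n] x = 0 → φ^[m] x = 0 := by
    intro n m h x hx
    obtain ⟨d, rfl⟩ := Nat.exists_eq_add_of_le h
    rw [Nat.add_comm, Function.iterate_add_apply, hx]
    induction d with
    | zero => rfl
    | succ d ih => rw [Function.iterate_succ_apply', ih (Nat.le_add_right n d), map_zero]
  have hb : ∀ x : V, φ^[s.sup N] x = 0 := by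
    intro x
    have hx : x ∈ Submodule.span k (s : Set V) := hs ▸ Submodule.mem_top
    induction hx using Submodule.span_induction with
    | mem y hy => exact hz _ _ (Finset.le_sup (f := N) hy) y (hN y)
    | zero => exact (iterate_map_zero φ _)
    | add y z _ _ hy hz' => rw [iterate_map_add, hy, hz', add_zero]
    | smul c y _ hy =>
      have : ∀ (n : ℕ) (c : k) (y : V), φ^[n] (c • y) = ((frobenius k p)^[n] c) • φ^[n] y := by
        intro n
        induction n with
        | zero => simp
        | succ n ih => intro c y; rw [Function.iterate_succ_apply, φ.map_smulₛₗ, ih]; rfl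
      rw [this, hy, smul_zero]
  have : (⊤ : Submodule k V) = ⊥ := by
    rw [← step (s.sup N), Submodule.span_eq_bot]
    rintro _ ⟨x, rfl⟩
    exact hb x
  exact top_ne_bot this

end Groth.Agent.S2967
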