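import Groth.Statements.S2968
import Mathlib
import Groth.Agent.HopfUnip.Coconn
-- import your own Groth.Agent.* helpers here

set_option autoImplicit false
set_option backward.isDefEq.respectTransparency.types false
universe u
open SGA3t2b

namespace Groth.Agent.S2968

section
open TensorProduct Groth.Agent.Comod Groth.Agent.HopfUnip HopfRep
variable {k : Type u} [Field k] {A : Type u} [CommRing A] [HopfAlgebra k A]

lemma lieHopf_conv_eq (φ ψ : A →ₗ[k] k) (v : A) :
    LieHopf.conv φ ψ v = φ (actL (A := A) (V := A) ψ v) := by
  show LinearMap.mul' k k (TensorProduct.map φ ψ (Coalgebra.comul v)) = φ (slR ψ (Coalgebra.comul v))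
  generalize Coalgebra.comul (R := k) v = z
  induction z with
  | zero => simp
  | tmul p q => simp [mul_comm]
  | add x y hx hy => simp only [map_add, hx, hy]

lemma actL_leibniz (φ : A →ₗ[k] k) (hφ : ∀ a b : A, φ (a * b) =
    Coalgebra.counit (R := k) a * φ b + φ a * Coalgebra.counit (R := k) b) (a b : A) :
    actL (A := A) (V := A) φ (a * b) = a * actL (A := A) (V := A) φ b + actL (A := A) (V := A) φ a * b := by
  have key : ∀ z w : A ⊗[k] A, slR φ (z * w) =
      slR (Coalgebra.counit (R := k)) z * slR φ w + slR φ z * slR (Coalgebra.counit (R := k)) w := by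
    intro z w
    induction z with
    | zero => simp
    | tmul p q =>
      induction w with
      | zero => simp
      | tmul p' q' =>
        simp only [Algebra.TensorProduct.tmul_mul_tmul, slR_tmul, hφ, smul_mul_assoc, mul_smul_comm,
          smul_smul, add_smul]
        ring_nf
      | add x y hx hy => simp only [mul_add, map_add, hx, hy, add_mul]; abel
    | add x y hx hy => simp only [map_add, add_mul, hx, hy]; abel
  have hc : ∀ v : A, slR (Coalgebra.counit (R := k)) (Coalgebra.comul (R := k) v) = v := fun v =>
    actL_counit (k := k) (A := A) (V := A) v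
  show slR φ (Coalgebra.comul (R := k) (a * b)) = _
  rw [Bialgebra.comul_mul, key, hc, hc]
  rfl

end

/-- In characteristic p, in Hopf-algebra form (with unipotent in the representation-theoretic sense
`HopfRep.IsUnipotent`): let k be a field of characteristic p > 0 and A a finite-type commutative
Hopf algebra over k (the coordinate Hopf algebra of an affine algebraic k-group) which is unipotent.
Then the Lie algebra of the group is a unipotent p-Lie algebra: for every ε-derivation D : A -> k
there is n > 0 such that the iterated p-operation of D, computed here as the p^n-fold convolution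
power of D (this is how the p-operation is rendered in this statement; its axioms are not proved
here), vanishes. -/
theorem result {k : Type u} [Field k] (p : ℕ) [Fact p.Prime] [CharP k p] {A : Type u} [CommRing A]
    [HopfAlgebra k A] [Algebra.FiniteType k A] (hU : HopfRep.IsUnipotent k A) (D : LieHopf.Lie k A) :
    ∃ n : ℕ, 0 < n ∧ LieHopf.convPow (D.toLinearMap.restrictScalars k ∘ₗ LinearMap.id) (p ^ n) = 0 := by
  let φ : A →ₗ[k] k := D.toLinearMap.restrictScalars k ∘ₗ LinearMap.id
  let L : Module.End k A := Groth.Agent.Comod.actL (A := A) (V := A) φ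
  have hφmul : ∀ a b : A, φ (a * b) =
      Coalgebra.counit (R := k) a * φ b + φ a * Coalgebra.counit (R := k) b := fun a b => by
    show (D (a * b) : k) = _
    rw [D.leibniz, LieHopf.smul_def, LieHopf.smul_def]
    show Bialgebra.counitAlgHom k A a * φ b + Bialgebra.counitAlgHom k A b * φ a = _
    rw [mul_comm (Bialgebra.counitAlgHom k A b)]
    rfl
  have hL : ∀ a b : A, L (a * b) = a * L b + L a * b := actL_leibniz φ hφmul
  have hpow : ∀ n v, LieHopf.convPow φ n v = Coalgebra.counit (R := k) ((L ^ n) v) := by
    intro n
    induction n with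
    | zero => intro v; rfl
    | succ n ih =>
      intro v
      show LieHopf.conv (LieHopf.convPow φ n) φ v = _
      rw [lieHopf_conv_eq, ih, pow_succ, Module.End.mul_apply]
  have hdrop : ∀ n, ∀ v ∈ Groth.Agent.HopfUnip.fil k A ({1} : Set A) n, (L ^ n) v = 0 := by
    intro n
    induction n with
    | zero => intro v hv; simpa [Groth.Agent.HopfUnip.fil] using hv
    | succ n ih =>
      intro v hv
      rw [pow_succ, Module.End.mul_apply]
      refine ih _ (Groth.Agent.HopfUnip.actL_drop n 1 (fun x hx => ?_) hv)
      rw [Groth.Agent.HopfUnip.fil_one_eq, Submodule.mem_span_singleton] at hx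
      obtain ⟨c, rfl⟩ := hx
      rw [map_smul, show φ 1 = 0 from D.map_one_eq_zero, smul_zero]
  have hw := (Groth.Agent.HopfUnip.isUnipotent_iff_isWeighted (k := k) (A := A)).mp hU
  obtain ⟨s, hs⟩ := Algebra.FiniteType.out (R := k) (A := A)
  obtain ⟨N, hN⟩ := Groth.Agent.HopfUnip.exists_le_fil (k := k) (V := A) (S := ({1} : Set A))
    (U := Submodule.span k (s : Set A)) (Submodule.fg_span s.finite_toSet)
    (le_top.trans (le_of_eq hw.symm))
  haveI : ExpChar k p := ExpChar.prime Fact.out
  obtain ⟨n, hn0, hn⟩ : ∃ n, 0 < n ∧ N ≤ p ^ n :=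
    ⟨N + 1, N.succ_pos, (Nat.le_succ N).trans (Nat.lt_pow_self (Nat.Prime.one_lt Fact.out)).le⟩
  refine ⟨n, hn0, ?_⟩
  -- `L ^ (p ^ n)` is again a derivation
  let E : Module.End k A := L ^ (p ^ n)
  have hEgen : ∀ v ∈ s, E v = 0 := fun v hv => by
    obtain ⟨d, hd⟩ := Nat.exists_eq_add_of_le hn
    show (L ^ (p ^ n)) v = 0
    rw [hd, add_comm, pow_add, Module.End.mul_apply, hdrop N v (hN (Submodule.subset_span hv)), map_zero]
  haveI : Nontrivial (Module.End k A) := by
    haveI : Nontrivial A := ⟨⟨1, 0, fun h => one_ne_zero (α := k) (by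
      simpa using congrArg (Bialgebra.counitAlgHom k A) h)⟩⟩
    infer_instance
  haveI : CharP (Module.End k A) p :=
    charP_of_injective_algebraMap (algebraMap k (Module.End k A)).injective p
  haveI : CharP (Module.End k (Module.End k A)) p :=
    charP_of_injective_algebraMap (algebraMap k (Module.End k (Module.End k A))).injective p
  haveI : ExpChar (Module.End k (Module.End k A)) p := ExpChar.prime Fact.out
  let P : Module.End k (Module.End k A) := LinearMap.mulLeft k L
  let Q : Module.End k (Module.End k A) := LinearMap.mulRight k L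
  have hPQ : Commute P Q := LinearMap.ext fun z => (mul_assoc L z L).symm
  have hμ : ∀ m (a : A), (((P - Q) ^ m) (LinearMap.mulLeft k a)) = LinearMap.mulLeft k ((L ^ m) a) := by
    intro m
    induction m with
    | zero => intro a; rfl
    | succ m ih =>
      intro a
      rw [pow_succ, Module.End.mul_apply, pow_succ, Module.End.mul_apply, ← ih]
      congr 1
      refine LinearMap.ext fun b => ?_
      show L (a * b) - a * L b = L a * b
      rw [hL, add_sub_cancel_left]
  have hE : ∀ a b : A, E (a * b) = a * E b + E a * b := by
    intro a b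
    have h := LinearMap.congr_fun (hμ (p ^ n) a) b
    have hs2 : (P - Q) ^ (p ^ n) = P ^ (p ^ n) - Q ^ (p ^ n) :=
      sub_pow_expChar_pow_of_commute (R := Module.End k (Module.End k A)) p n hPQ
    rw [hs2] at h
    simp only [P, Q, LinearMap.pow_mulLeft, LinearMap.pow_mulRight, LinearMap.sub_apply,
      LinearMap.mulLeft_apply, LinearMap.mulRight_apply, Module.End.mul_apply] at h
    rw [sub_eq_iff_eq_add'] at h
    exact h
  have hE1 : E 1 = 0 := by
    have := hE 1 1
    simpa using this
  have hall : ∀ v : A, E v = 0 := by
    intro v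
    have hv : v ∈ Algebra.adjoin k (s : Set A) := hs ▸ Algebra.mem_top
    induction hv using Algebra.adjoin_induction with
    | mem x hx => exact hEgen x hx
    | algebraMap r => rw [Algebra.algebraMap_eq_smul_one, map_smul, hE1, smul_zero]
    | add x y _ _ hx hy => rw [map_add, hx, hy, add_zero]
    | mul x y _ _ hx hy => rw [hE, hx, hy, mul_zero, zero_mul, add_zero]
  refine LinearMap.ext fun v => ?_
  show LieHopf.convPow φ (p ^ n) v = 0
  rw [hpow]
  show Coalgebra.counit (R := k) (E v) = 0
  rw [hall, map_zero]

end Groth.Agent.S2968
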