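import Groth.Statements.S2969
import Groth.Agent.MultHopf.FieldSep
import Groth.Agent.MultHopf.QuasiIso
-- import your own Groth.Agent.* helpers here

set_option autoImplicit false
universe u
open TensorProduct SGA3b
open SGA3b

namespace Groth.Agent.S2969

/-- Let k be a field and H = Spec A a k-group of multiplicative type and of finite type. Then H is
isotrivial: there is a finite separable extension k' of k over which H becomes diagonalisable (of
finite type). (Affine group schemes over an affine base are taken in Hopf-algebra form; base change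
is the tensor product.) -/
theorem result (k : Type u) [Field k] (A : Type u) [CommRing A] [HopfAlgebra k A]
    (hft : Algebra.FiniteType k A) (h : IsMultType k A) :
    ∃ (k' : Type u) (_ : Field k') (_ : Algebra k k'), Module.Finite k k' ∧ Algebra.IsSeparable k k' ∧ IsDiagFT k' (k' ⊗[k] A) := by
  classical
  obtain ⟨s, hs, hs'⟩ := h
  obtain ⟨c, hc, hc0⟩ : ∃ c ∈ s, c ≠ 0 := by
    by_contra hne
    push Not at hne
    have : Ideal.span s = ⊥ := Ideal.span_eq_bot.2 hne
    exact bot_ne_top (this.symm.trans hs)
  obtain ⟨R', _, _, hff, hD⟩ := hs' c hc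
  let : Algebra k R' := ((algebraMap (Localization.Away c) R').comp (algebraMap k (Localization.Away c))).toAlgebra
  have : IsScalarTower k (Localization.Away c) R' := IsScalarTower.of_algebraMap_eq fun _ => rfl
  have : Nontrivial (Localization.Away c) :=
    (IsLocalization.atUnit k (Localization.Away c) c (isUnit_iff_ne_zero.2 hc0)).symm.toEquiv.nontrivial
  have : Nontrivial R' := by
    have := Module.FaithfullyFlat.lTensor_nontrivial (Localization.Away c) R' (Localization.Away c)
    exact (TensorProduct.rid (Localization.Away c) R').symm.toEquiv.nontrivial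
  obtain ⟨m, hm⟩ := Ideal.exists_maximal R'
  let : Field (R' ⧸ m) := Ideal.Quotient.field m
  obtain ⟨M, _, ⟨e⟩⟩ := hD
  have hDL : SGA3b.IsDiag (R' ⧸ m) ((R' ⧸ m) ⊗[k] A) :=
    MultHopf.isDiag_bc (Ideal.Quotient.mkₐ k m) ⟨M, inferInstance, ⟨(MultHopf.cancelBC k (Localization.Away c) R' A).symm.trans e⟩⟩
  obtain ⟨G, _, ⟨eG⟩⟩ := hDL
  have : Algebra.FiniteType (R' ⧸ m) ((R' ⧸ m) ⊗[k] A) := inferInstance
  have : Algebra.FiniteType (R' ⧸ m) (MonoidAlgebra (R' ⧸ m) G) :=
    Algebra.FiniteType.equiv this eG.toAlgEquiv
  have : Group.FG G := Group.fg_iff_monoid_fg.2 (MonoidAlgebra.fg_of_finiteType (R := R' ⧸ m))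
  obtain ⟨S, _, _, hfin, hsep, hS⟩ := MultHopf.exists_separable_split eG
  exact ⟨S, inferInstance, inferInstance, hfin, hsep, G, inferInstance, this, hS⟩

end Groth.Agent.S2969
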