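import Groth.Statements.S2974
import Groth.Agent.MultHopf.QuasiSplit
import Groth.Agent.MultHopf.IsoBasic
import Groth.Agent.Hensel.FiniteEtaleLocal
import Groth.Agent.Hensel.Local
import Groth.Agent.Hensel.EtaleLift
import Mathlib.RingTheory.Unramified.Field
-- import your own Groth.Agent.* helpers here

set_option autoImplicit false
universe u
open TensorProduct SGA3b
open SGA3b

namespace Groth.Agent.S2974

/-- Let R be a henselian local ring and H = Spec A an R-group of multiplicative type and of finite type.
Then H is isotrivial: split by a finite etale faithfully flat R-algebra. (Affine group schemes over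
an affine base are taken in Hopf-algebra form; base change is the tensor product.) -/
theorem result (R : Type u) [CommRing R] (A : Type u) [CommRing A] [HopfAlgebra R A] [HenselianLocalRing R] (hft : Algebra.FiniteType R A) (h : IsMultType R A) :
    IsIsotrivial R A := by
  classical
  have := hft
  obtain ⟨s, hs, hs'⟩ := MultHopf.isQuasiIsotrivial_of_finiteType h
  obtain ⟨c, hc, hcu⟩ : ∃ c ∈ s, c ∉ IsLocalRing.maximalIdeal R := by
    by_contra hcon
    push Not at hcon
    exact (IsLocalRing.maximalIdeal.isMaximal R).ne_top (top_le_iff.1 (hs ▸ Ideal.span_le.2 hcon))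
  obtain ⟨E, _, _, hE, hff, hD⟩ := hs' c hc
  let L := Localization.Away c
  let k := IsLocalRing.ResidueField R
  let : Algebra R E := ((algebraMap L E).comp (algebraMap R L)).toAlgebra
  have : IsScalarTower R L E := IsScalarTower.of_algebraMap_eq fun _ => rfl
  have : Algebra.Etale L E := hE
  have : Algebra.Etale R L := Algebra.Etale.of_isLocalizationAway c
  have : Algebra.Etale R E := Algebra.Etale.comp R L E
  have hbij : Function.Bijective (algebraMap R L) := by
    have := (IsLocalization.atUnit R L c (not_not.1 hcu)).bijective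
    exact this
  have : Module.FaithfullyFlat R E := by
    have : Module.FaithfullyFlat R L := Module.FaithfullyFlat.of_linearEquiv R R (IsLocalization.atUnit R L c (not_not.1 hcu)).toLinearEquiv.symm
    exact Module.FaithfullyFlat.trans R L E
  let Ek := k ⊗[R] E
  have : Nontrivial Ek := Module.FaithfullyFlat.rTensor_nontrivial R E k
  obtain ⟨P, hP⟩ := Ideal.exists_maximal Ek
  let : Field (Ek ⧸ P) := Ideal.Quotient.field P
  have : Algebra.FormallyUnramified k (Ek ⧸ P) := inferInstance
  have : Algebra.FiniteType k (Ek ⧸ P) := inferInstance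
  have : Module.Finite k (Ek ⧸ P) := Algebra.FormallyUnramified.finite_of_free _ _
  have : Algebra.IsSeparable k (Ek ⧸ P) := Algebra.FormallyUnramified.isSeparable k (Ek ⧸ P)
  obtain ⟨S, _, _, _, _, hSfin, hSet, ⟨ρ⟩⟩ := Hensel.exists_finite_etale_isLocalRing R (Ek ⧸ P)
  have : Algebra.IsIntegral R S := inferInstance
  have : HenselianLocalRing S := Hensel.henselianLocalRing_of_isIntegral (R := R) S
  let σ : E →ₐ[R] IsLocalRing.ResidueField S :=
    ((ρ.symm.toAlgHom.restrictScalars R).comp ((Ideal.Quotient.mkₐ k P).restrictScalars R)).comp Algebra.TensorProduct.includeRight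
  obtain ⟨τ, -, -⟩ := Hensel.existsUnique_algHom_of_residueField E σ
  have : Module.FaithfullyFlat R S := Module.FaithfullyFlat.of_flat_of_isLocalHom
  obtain ⟨M, _, ⟨e⟩⟩ := hD
  exact ⟨S, inferInstance, inferInstance, hSet, hSfin, inferInstance,
    MultHopf.isDiag_bc τ ⟨M, inferInstance, ⟨(MultHopf.cancelBC R L E A).symm.trans e⟩⟩⟩

end Groth.Agent.S2974
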