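import Groth.Statements.S2978
-- import your own Groth.Agent.* helpers here

set_option autoImplicit false
universe u
open SGA3b

namespace Groth.Agent.S2978

/-- Let A be a Noetherian ring, M a set and a : M × M → A a family vanishing off the diagonal which is a
finite sum of decomposable families: a(m, m') = Σ_i b_i(m) c_i(m') for finitely many b_i, c_i : M →
A. Then a has finite support. -/
theorem result (A : Type u) [CommRing A] [IsNoetherianRing A] (M : Type u)
    (a : M × M → A) (hdiag : ∀ m m', m ≠ m' → a (m, m') = 0)
    (ι : Type u) [Fintype ι] (b c : ι → M → A) (hdec : ∀ m m', a (m, m') = ∑ i, b i m * c i m') :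
    Set.Finite {p : M × M | a p ≠ 0} := by
  classical
  let v : M → (ι → A) := fun m i => c i m
  obtain ⟨S, hSr, hS⟩ := (Submodule.fg_span_iff_fg_span_finset_subset _).1
    (IsNoetherian.noetherian (Submodule.span A (Set.range v)))
  have hfin : ∃ F : Finset M, Submodule.span A (Set.range v) ≤ Submodule.span A (v '' (F : Set M)) := by
    obtain ⟨F, -, hF⟩ := Finset.subset_set_image_iff.1 (show (S : Set (ι → A)) ⊆ v '' Set.univ by
      rwa [Set.image_univ])
    exact ⟨F, by rw [hS, ← hF, Finset.coe_image]⟩
  obtain ⟨F, hF⟩ := hfin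
  refine Set.Finite.subset ((F.finite_toSet).image fun m => (m, m)) ?_
  rintro ⟨m, m'⟩ hne
  rcases eq_or_ne m m' with rfl | h
  · refine ⟨m, ?_, rfl⟩
    by_contra hm
    apply hne
    let L : (ι → A) →ₗ[A] A := ∑ i, b i m • LinearMap.proj i
    have hL : ∀ w, L (v w) = a (m, w) := fun w => by simp [L, v, hdec, LinearMap.sum_apply]
    have : Submodule.span A (v '' (F : Set M)) ≤ LinearMap.ker L := by
      rw [Submodule.span_le]
      rintro _ ⟨w, hw, rfl⟩
      show L (v w) = 0
      rw [hL]
      exact hdiag _ _ (fun h => hm (h ▸ hw))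
    exact (hL m).symm.trans (this (hF (Submodule.subset_span (Set.mem_range_self m))))
  · exact absurd (hdiag _ _ h) hne

end Groth.Agent.S2978
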