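import Groth.Statements.S2983
import Groth.Agent.MultHopf.KerType
import Groth.Agent.MultHopf.CentralRigid
-- import your own Groth.Agent.* helpers here

set_option autoImplicit false
universe u
open TensorProduct SGA3b
open SGA3b

namespace Groth.Agent.S2983

open Groth.Agent.MultHopf Coalgebra

variable {R : Type u} [CommRing R] {B : Type u} [CommRing B] [Algebra R B]

theorem exists_smul_eq_zero_of_tmul (L : Type u) [CommRing L] [Algebra R L] [Module.Flat R L]
    (q : Ideal R) (hq : q.map (algebraMap R L) ≠ ⊤) (x : B) (hx : (1 : L) ⊗ₜ[R] x = 0) :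
    ∃ s ∉ q, s • x = 0 := by
  by_contra hcon
  push Not at hcon
  let f : R →ₗ[R] B := LinearMap.toSpanSingleton R B x
  have hle : LinearMap.ker f ≤ q := fun s hs => by
    by_contra h
    exact hcon s h (by simpa [f] using hs)
  have hex : Function.Exact (LinearMap.ker f).subtype f := LinearMap.exact_subtype_ker_map f
  obtain ⟨w, hw⟩ := (Module.Flat.lTensor_exact L hex ((1 : L) ⊗ₜ[R] (1 : R))).1 (by simpa [f] using hx)
  refine hq (top_le_iff.1 ?_)
  rintro l -
  have hmem : ∀ w : L ⊗[R] (LinearMap.ker f), TensorProduct.rid R L ((LinearMap.ker f).subtype.lTensor L w) ∈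
      q.map (algebraMap R L) := fun w => by
    induction w using TensorProduct.induction_on with
    | zero => simp
    | add a b ha hb => simpa only [map_add] using add_mem ha hb
    | tmul l k =>
      simp only [LinearMap.lTensor_tmul, Submodule.subtype_apply, TensorProduct.rid_tmul, Algebra.smul_def]
      exact Ideal.mul_mem_right _ _ (Ideal.mem_map_of_mem _ (hle k.2))
  have h1 := hmem w
  rw [hw, TensorProduct.rid_tmul, one_smul] at h1
  exact (Ideal.eq_top_iff_one _).2 h1 ▸ Submodule.mem_top

/-- Let R be a ring with connected spectrum (no idempotents other than 0 and 1), G = Spec A a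
diagonalisable R-group of finite type, and H = Spec (A/J) a closed subgroup (J a Hopf ideal) which
is of multiplicative type. Then H is diagonalisable. (Affine group schemes over an affine base are
taken in Hopf-algebra form; base change is the tensor product.) -/
theorem result (R : Type u) [CommRing R] (A : Type u) [CommRing A] [HopfAlgebra R A] [Nontrivial R] (hconn : ∀ e : R, IsIdempotentElem e → e = 0 ∨ e = 1)
    (hG : IsDiagFT R A) (J : Ideal A) [J.IsHopfIdeal R] (hH : IsMultType R (A ⧸ J)) : IsDiag R (A ⧸ J) := by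
  classical
  obtain ⟨M, _, hMfg, ⟨eA⟩⟩ := hG
  obtain ⟨sf, hsf, hconst⟩ := hH
  let ψ : MonoidAlgebra R M →ₐc[R] (A ⧸ J) :=
    (Bialgebra.Quotient.mkBialgHom (R := R) J).comp (eA.symm : MonoidAlgebra R M →ₐc[R] A)
  have hψ : Function.Surjective ψ := fun y => by
    obtain ⟨a, rfl⟩ := Ideal.Quotient.mk_surjective y
    exact ⟨eA a, congrArg (Ideal.Quotient.mk J) (eA.symm_apply_apply a)⟩
  let z : M →* A ⧸ J :=
    { toFun := fun m => ψ (MonoidAlgebra.single m 1)
      map_one' := by rw [← MonoidAlgebra.one_def, map_one]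
      map_mul' := fun a b => by rw [← map_mul, MonoidAlgebra.single_mul_single, one_mul] }
  -- the scheme over which the subgroup is split, locally
  have hsplit : ∀ q : PrimeSpectrum R, ∃ f ∉ q.asIdeal,
      ∃ (T : Type u) (_ : CommRing T) (_ : Algebra R T) (_ : Algebra (Localization.Away f) T)
        (_ : IsScalarTower R (Localization.Away f) T) (_ : Module.Flat R T) (P : Type u) (_ : CommGroup P),
        Module.FaithfullyFlat (Localization.Away f) T ∧
        Nonempty (T ⊗[R] (A ⧸ J) ≃ₐc[T] MonoidAlgebra T P) := by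
    intro q
    obtain ⟨f, hf, hfq⟩ : ∃ f ∈ sf, f ∉ q.asIdeal := by
      by_contra h
      push Not at h
      exact q.isPrime.ne_top (top_le_iff.1 (hsf ▸ Ideal.span_le.2 h))
    obtain ⟨T, _, _, hff, P, _, ⟨e₁⟩⟩ := hconst f hf
    let : Algebra R T := ((algebraMap (Localization.Away f) T).comp (algebraMap R _)).toAlgebra
    have : IsScalarTower R (Localization.Away f) T := IsScalarTower.of_algebraMap_eq fun _ => rfl
    have : Module.Flat (Localization.Away f) T := inferInstance
    have : Module.Flat R T := Module.Flat.trans R (Localization.Away f) T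
    exact ⟨f, hfq, T, inferInstance, inferInstance, inferInstance, inferInstance, inferInstance, P, inferInstance,
      hff, ⟨(cancelBC R (Localization.Away f) T (A ⧸ J)).symm.trans e₁⟩⟩
  -- the local picture at a point of the cover
  have hlocal : ∀ (T : Type u) [CommRing T] [Algebra R T] (P : Type u) [CommGroup P]
      (e : T ⊗[R] (A ⧸ J) ≃ₐc[T] MonoidAlgebra T P) (L : Type u) [CommRing L] [IsLocalRing L] [Algebra R L]
      [Algebra T L] [IsScalarTower R T L] (m : M), ∃ p : P,
        (MonoidAlgebra.mapRingHom P (algebraMap T L)) (e ((1 : T) ⊗ₜ[R] z m)) = MonoidAlgebra.single p 1 := by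
    intro T _ _ P _ e L _ _ _ _ _ m
    have hg : IsGroupLikeElem R (z m) := (MonoidAlgebra.isGroupLikeElem_single_one m).map ψ
    have hg' : IsGroupLikeElem L ((1 : L) ⊗ₜ[R] z m) :=
      ⟨by rw [TensorProduct.counit_tmul, hg.counit_eq_one]; simp,
        by rw [TensorProduct.comul_tmul, hg.comul_eq_tmul_self]; simp [TensorProduct.AlgebraTensorModule.tensorTensorTensorComm]⟩
    have hg'' := hg'.map (bcE e L)
    obtain ⟨p, hp⟩ := exists_eq_single _ hg''.counit_eq_one hg''.comul_eq_tmul_self
    refine ⟨p, ?_⟩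
    rw [← hp, ← theta_apply, ← theta_apply, theta_bcE]
    rfl
  let S : M → Set (PrimeSpectrum R) := fun m => {q | ∃ s ∉ q.asIdeal, s • (z m - 1) = 0}
  have hL0 : ∀ (m : M) (q : PrimeSpectrum R) (L : Type u) [CommRing L] [Algebra R L],
      q ∈ S m → (∀ s ∉ q.asIdeal, IsUnit (algebraMap R L s)) → (1 : L) ⊗ₜ[R] z m = 1 := by
    rintro m q L _ _ ⟨s, hs, hs0⟩ hu
    have h0 : (1 : L) ⊗ₜ[R] (z m - 1) = 0 := by
      obtain ⟨v, hv⟩ := (hu s hs).exists_left_inv
      rw [show (1 : L) = v * algebraMap R L s from hv.symm, ← Algebra.commutes, ← Algebra.smul_def,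
        TensorProduct.smul_tmul, hs0, TensorProduct.tmul_zero]
    rwa [TensorProduct.tmul_sub, sub_eq_zero, ← Algebra.TensorProduct.one_def] at h0
  have hlocT : ∀ (T : Type u) [CommRing T] [Algebra R T] (Q : PrimeSpectrum T),
      ∀ s ∉ (PrimeSpectrum.comap (algebraMap R T) Q).asIdeal,
        IsUnit (algebraMap R (Localization.AtPrime Q.asIdeal) s) := by
    intro T _ _ Q s hs
    rw [IsScalarTower.algebraMap_apply R T (Localization.AtPrime Q.asIdeal)]
    exact IsLocalization.map_units (Localization.AtPrime Q.asIdeal) (⟨_, hs⟩ : Q.asIdeal.primeCompl)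
  have hflatT : ∀ (T : Type u) [CommRing T] [Algebra R T] [Module.Flat R T] (Q : PrimeSpectrum T),
      Module.Flat R (Localization.AtPrime Q.asIdeal) ∧
        (PrimeSpectrum.comap (algebraMap R T) Q).asIdeal.map (algebraMap R (Localization.AtPrime Q.asIdeal)) ≠ ⊤ := by
    intro T _ _ _ Q
    have : Module.Flat T (Localization.AtPrime Q.asIdeal) := IsLocalization.flat _ Q.asIdeal.primeCompl
    refine ⟨Module.Flat.trans R T _, fun h => (IsLocalRing.maximalIdeal.isMaximal (Localization.AtPrime Q.asIdeal)).ne_top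
      (top_le_iff.1 (h.symm.le.trans ?_))⟩
    rw [IsScalarTower.algebraMap_eq R T (Localization.AtPrime Q.asIdeal), ← Ideal.map_map,
      ← Localization.AtPrime.map_eq_maximalIdeal]
    exact Ideal.map_mono Ideal.map_comap_le
  have hSopen : ∀ m, IsOpen (S m) := fun m => isOpen_iff_forall_mem_open.2 fun q ⟨s, hs, hs0⟩ =>
    ⟨(PrimeSpectrum.basicOpen s : Set (PrimeSpectrum R)), fun q' hq' => ⟨s, hq', hs0⟩,
      (PrimeSpectrum.basicOpen s).isOpen, hs⟩
  have hSclosed : ∀ m, IsClosed (S m) := fun m => by
    refine ⟨isOpen_iff_forall_mem_open.2 fun q hq => ?_⟩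
    obtain ⟨f, hfq, T, _, _, _, _, _, P, _, hff, ⟨e⟩⟩ := hsplit q
    let π₀ : PrimeSpectrum T → PrimeSpectrum (Localization.Away f) :=
      PrimeSpectrum.comap (algebraMap (Localization.Away f) T)
    let j : PrimeSpectrum (Localization.Away f) → PrimeSpectrum R :=
      PrimeSpectrum.comap (algebraMap R (Localization.Away f))
    have hπ : ∀ Q, PrimeSpectrum.comap (algebraMap R T) Q = j (π₀ Q) := fun Q => by
      show _ = PrimeSpectrum.comap _ (PrimeSpectrum.comap _ Q)
      rw [← PrimeSpectrum.comap_comp_apply, ← IsScalarTower.algebraMap_eq]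
    have hπ₀ : Function.Surjective π₀ := PrimeSpectrum.comap_surjective_of_faithfullyFlat
    have hj : Topology.IsOpenEmbedding j := PrimeSpectrum.localization_away_isOpenEmbedding _ f
    have hquot : Topology.IsQuotientMap π₀ := PrimeSpectrum.isQuotientMap_of_generalizingMap hπ₀
      (RingHom.Flat.generalizingMap_comap (RingHom.flat_algebraMap_iff.2 inferInstance))
    have hopen : IsOpen (π₀ ⁻¹' (j ⁻¹' (S m)ᶜ)) := by
      refine isOpen_iff_forall_mem_open.2 fun Q hQ => ?_
      let L := Localization.AtPrime Q.asIdeal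
      obtain ⟨p, hp⟩ := hlocal T P e L m
      have hQ' : PrimeSpectrum.comap (algebraMap R T) Q ∉ S m := by rw [hπ]; exact hQ
      have hp1 : p ≠ 1 := fun hp1 => by
        obtain ⟨hfl, hne⟩ := hflatT T Q
        refine hQ' (exists_smul_eq_zero_of_tmul L _ hne (z m - 1) ?_)
        rw [TensorProduct.tmul_sub, sub_eq_zero]
        refine (bcE e L).injective ?_
        refine Eq.trans ?_ (map_one (bcE e L)).symm
        show bcE e L ((1 : L) ⊗ₜ[R] z m) = 1
        rw [← theta_apply, theta_bcE]
        show (MonoidAlgebra.mapRingHom P (algebraMap T L)) (e ((1 : T) ⊗ₜ[R] z m)) = 1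
        rw [hp, hp1]
        rfl
      -- spread the equality
      let y := e ((1 : T) ⊗ₜ[R] z m) - MonoidAlgebra.single p 1
      have hy : ∀ k, ∃ t ∉ Q.asIdeal, t * y.coeff k = 0 := fun k => by
        have h0 : (MonoidAlgebra.mapRingHom P (algebraMap T L)) y = 0 := by simp [y, hp]
        have h1 : algebraMap T L (y.coeff k) = 0 := by
          simpa using congrArg (fun w => (MonoidAlgebra.coeff w) k) h0
        obtain ⟨⟨t, ht⟩, ht0⟩ := (IsLocalization.map_eq_zero_iff Q.asIdeal.primeCompl L _).1 h1
        exact ⟨t, ht, ht0⟩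
      choose t ht ht0 using hy
      refine ⟨(PrimeSpectrum.basicOpen (∏ k ∈ y.coeff.support, t k) : Set (PrimeSpectrum T)), fun Q' hQ'' => ?_,
        (PrimeSpectrum.basicOpen _).isOpen, fun h => ?_⟩
      · intro hmem
        let L' := Localization.AtPrime Q'.asIdeal
        have h1 : (1 : L') ⊗ₜ[R] z m = 1 :=
          hL0 m _ L' hmem (by rw [← hπ]; exact hlocT T Q')
        have h2 : (MonoidAlgebra.mapRingHom P (algebraMap T L')) y = 0 := by
          refine MonoidAlgebra.coeff_injective (Finsupp.ext fun k => ?_)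
          simp only [MonoidAlgebra.coeff_zero, Finsupp.zero_apply]
          by_cases hk : k ∈ y.coeff.support
          · have hu : IsUnit (algebraMap T L' (t k)) :=
              IsLocalization.map_units L' (⟨t k, fun h => hQ'' (Ideal.mem_of_dvd _ (Finset.dvd_prod_of_mem t hk) h)⟩ :
                Q'.asIdeal.primeCompl)
            have := congrArg (algebraMap T L') (ht0 k)
            rw [map_mul, map_zero, hu.mul_right_eq_zero] at this
            simpa using this
          · simp [Finsupp.notMem_support_iff.1 hk]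
        have h3 : (MonoidAlgebra.mapRingHom P (algebraMap T L')) (e ((1 : T) ⊗ₜ[R] z m)) = 1 := by
          rw [← theta_apply, ← RingHom.comp_apply, ← theta_bcE, theta_apply, h1, map_one]
        rw [map_sub, h3, sub_eq_zero, MonoidAlgebra.mapRingHom_single, map_one, MonoidAlgebra.one_def] at h2
        exact hp1 (MonoidAlgebra.single_left_injective one_ne_zero h2).symm
      · obtain ⟨k, -, hk⟩ := Q.isPrime.prod_mem_iff.1 h
        exact ht k hk
    have hqj : q ∈ Set.range j := by
      rw [PrimeSpectrum.localization_away_comap_range (Localization.Away f) f]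
      exact hfq
    obtain ⟨q₀, rfl⟩ := hqj
    refine ⟨j '' (j ⁻¹' (S m)ᶜ), Set.image_preimage_subset _ _, hj.isOpenMap _ ?_, ⟨q₀, hq, rfl⟩⟩
    exact hquot.isOpen_preimage.1 hopen
  have hconn' : ∀ m, S m = Set.univ ∨ S m = ∅ := fun m => by
    obtain ⟨c, hc, hc'⟩ := PrimeSpectrum.isClopen_iff.1 ⟨hSclosed m, hSopen m⟩
    rcases hconn c hc with rfl | rfl
    · right; simpa using hc'
    · left; simpa using hc'
  let N : Subgroup M :=
    { carrier := {m | z m = 1}
      one_mem' := map_one z
      mul_mem' := fun {a b} (ha : z a = 1) (hb : z b = 1) => show z (a * b) = 1 by rw [map_mul, ha, hb, one_mul]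
      inv_mem' := fun {a} (ha : z a = 1) => show z a⁻¹ = 1 by
        have h := map_mul z a a⁻¹
        rwa [mul_inv_cancel, map_one, ha, one_mul, eq_comm] at h }
  have hmemN : ∀ m, S m = Set.univ → m ∈ N := fun m hm => by
    have htop : Submodule.colon (⊥ : Submodule R (A ⧸ J)) {z m - 1} = ⊤ := by
      by_contra hne
      obtain ⟨q, hq, hle⟩ := Ideal.exists_le_maximal _ hne
      obtain ⟨s, hs, hs0⟩ : (⟨q, hq.isPrime⟩ : PrimeSpectrum R) ∈ S m := hm ▸ Set.mem_univ _
      exact hs (hle (Submodule.mem_colon_singleton.2 (by simpa using hs0)))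
    have h1 := Submodule.mem_colon_singleton.1 ((Ideal.eq_top_iff_one _).1 htop)
    show z m = 1
    simpa [sub_eq_zero] using h1
  -- the induced map
  let η₀ : MonoidAlgebra R (M ⧸ N) →ₐ[R] (A ⧸ J) :=
    MonoidAlgebra.lift R (A ⧸ J) (M ⧸ N) (QuotientGroup.lift N z (fun m hm => hm))
  have hη : ∀ x, η₀ (qM R N x) = ψ x := fun x => by
    induction x using MonoidAlgebra.induction_linear with
    | zero => simp
    | add a b ha hb => simp only [map_add, ha, hb]
    | single m r =>
      rw [qM_single, MonoidAlgebra.lift_single]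
      show r • ψ (MonoidAlgebra.single m 1) = _
      rw [← map_smul, MonoidAlgebra.smul_single, smul_eq_mul, mul_one]
  let η : MonoidAlgebra R (M ⧸ N) →ₐc[R] (A ⧸ J) := BialgHom.ofAlgHom η₀
    (by
      refine AlgHom.ext fun y => ?_
      obtain ⟨x, rfl⟩ := qM_surjective (R := R) N y
      show counit (R := R) (η₀ (qM R N x)) = counit (R := R) (qM R N x)
      rw [hη, CoalgHomClass.counit_comp_apply, CoalgHomClass.counit_comp_apply])
    (by
      refine AlgHom.ext fun y => ?_
      obtain ⟨x, rfl⟩ := qM_surjective (R := R) N y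
      show Algebra.TensorProduct.map η₀ η₀ (comul (R := R) (qM R N x)) = comul (R := R) (η₀ (qM R N x))
      rw [hη, ← CoalgHomClass.map_comp_comul_apply, ← CoalgHomClass.map_comp_comul_apply]
      induction comul (R := R) x using TensorProduct.induction_on with
      | zero => simp
      | add a b ha hb => simp only [map_add, ha, hb]
      | tmul a b => exact congrArg₂ (fun u v => u ⊗ₜ[R] v) (hη a) (hη b))
  have hsurj : Function.Surjective η := fun y => (hψ y).elim fun x hx => ⟨qM R N x, (hη x).trans hx⟩
  refine ⟨M ⧸ N, inferInstance, ⟨(BialgEquiv.ofBijective η ⟨?_, hsurj⟩).symm⟩⟩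
  rw [injective_iff_map_eq_zero]
  intro y hy
  obtain ⟨x, rfl⟩ := qM_surjective (R := R) N y
  replace hy : ψ x = 0 := (hη x).symm.trans hy
  refine MonoidAlgebra.coeff_injective (Finsupp.ext fun c => ?_)
  simp only [MonoidAlgebra.coeff_zero, Finsupp.zero_apply]
  set r := (qM R N x).coeff c with hr
  by_contra hr0
  obtain ⟨q, hq, hle⟩ := Ideal.exists_le_maximal (Submodule.colon (⊥ : Submodule R R) {r}) (fun h => hr0 (by
    simpa using Submodule.mem_colon_singleton.1 ((Ideal.eq_top_iff_one _).1 h)))
  obtain ⟨f, hfq, T, _, _, _, _, _, P, _, hff, ⟨e⟩⟩ := hsplit ⟨q, hq.isPrime⟩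
  have hqj : (⟨q, hq.isPrime⟩ : PrimeSpectrum R) ∈ Set.range (PrimeSpectrum.comap (algebraMap R (Localization.Away f))) := by
    rw [PrimeSpectrum.localization_away_comap_range (Localization.Away f) f]
    exact hfq
  obtain ⟨q₀, hq₀⟩ := hqj
  obtain ⟨Q, hQ⟩ := PrimeSpectrum.comap_surjective_of_faithfullyFlat (A := Localization.Away f) (B := T) q₀
  have hQq : (PrimeSpectrum.comap (algebraMap R T) Q).asIdeal = q := by
    rw [IsScalarTower.algebraMap_eq R (Localization.Away f) T, PrimeSpectrum.comap_comp_apply, hQ, hq₀]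
  let L := Localization.AtPrime Q.asIdeal
  obtain ⟨hfl, hne⟩ := hflatT T Q
  choose θ₀ hθ₀ using hlocal T P e L
  let Φ : MonoidAlgebra R M →ₐ[R] MonoidAlgebra L P :=
    ((bcE e L : L ⊗[R] (A ⧸ J) →ₐ[L] MonoidAlgebra L P).restrictScalars R).comp
      ((Algebra.TensorProduct.includeRight : (A ⧸ J) →ₐ[R] L ⊗[R] (A ⧸ J)).comp (ψ : MonoidAlgebra R M →ₐ[R] (A ⧸ J)))
  have hΦ : ∀ m, Φ (MonoidAlgebra.single m 1) = MonoidAlgebra.single (θ₀ m) 1 := fun m => by
    rw [← hθ₀ m, ← theta_apply, ← RingHom.comp_apply, ← theta_bcE]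
    rfl
  let θ : M →* P :=
    { toFun := θ₀
      map_one' := MonoidAlgebra.single_left_injective (R := L) one_ne_zero (by
        show MonoidAlgebra.single (θ₀ 1) (1 : L) = MonoidAlgebra.single 1 1
        rw [← hΦ, ← MonoidAlgebra.one_def, map_one, MonoidAlgebra.one_def])
      map_mul' := fun a b => MonoidAlgebra.single_left_injective (R := L) one_ne_zero (by
        show MonoidAlgebra.single (θ₀ (a * b)) (1 : L) = MonoidAlgebra.single (θ₀ a * θ₀ b) 1
        rw [← mul_one (1 : L), ← MonoidAlgebra.single_mul_single, mul_one, ← hΦ, ← hΦ, ← hΦ, ← map_mul,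
          MonoidAlgebra.single_mul_single, mul_one]) }
  have hker : ∀ m, θ m = 1 ↔ m ∈ N := fun m => by
    constructor
    · intro h
      refine hmemN m ((hconn' m).resolve_right fun hemp => ?_)
      have hmem : PrimeSpectrum.comap (algebraMap R T) Q ∈ S m := by
        refine exists_smul_eq_zero_of_tmul L _ hne (z m - 1) ?_
        rw [TensorProduct.tmul_sub, sub_eq_zero]
        refine (bcE e L).injective ?_
        have h' := hΦ m
        rw [show θ₀ m = 1 from h, ← MonoidAlgebra.one_def] at h'
        exact h'.trans (map_one _).symm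
      rw [hemp] at hmem
      exact hmem
    · intro (h : z m = 1)
      refine MonoidAlgebra.single_left_injective (R := L) one_ne_zero ?_
      show MonoidAlgebra.single (θ₀ m) (1 : L) = MonoidAlgebra.single 1 1
      rw [← hΦ, ← MonoidAlgebra.one_def]
      show bcE e L ((1 : L) ⊗ₜ[R] z m) = 1
      rw [h]
      exact map_one _
  let θb : M ⧸ N →* P := QuotientGroup.lift N θ (fun m hm => (hker m).2 hm)
  have hθb : Function.Injective θb := (injective_iff_map_eq_one θb).2 fun w => by
    induction w using QuotientGroup.induction_on with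
    | H m => exact fun h => (QuotientGroup.eq_one_iff m).2 ((hker m).1 h)
  have hfac : ∀ w : MonoidAlgebra R M, Φ w =
      MonoidAlgebra.mapDomain θb (MonoidAlgebra.mapRingHom (M ⧸ N) (algebraMap R L) (qM R N w)) := fun w => by
    induction w using MonoidAlgebra.induction_linear with
    | zero => simp
    | add a b ha hb => simp only [map_add, ha, hb, MonoidAlgebra.mapDomain_add]
    | single m s =>
      rw [show MonoidAlgebra.single m s = s • MonoidAlgebra.single m (1 : R) by simp, map_smul, hΦ]
      simp [qM_single, θb, θ, Algebra.smul_def]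
  have h0 := hfac x
  rw [show Φ x = 0 by show bcE e L ((1 : L) ⊗ₜ[R] ψ x) = 0; rw [hy, TensorProduct.tmul_zero, map_zero]] at h0
  have h1 : MonoidAlgebra.mapRingHom (M ⧸ N) (algebraMap R L) (qM R N x) = 0 :=
    MonoidAlgebra.mapDomain_injective hθb (h0.symm.trans (MonoidAlgebra.mapDomain_zero _).symm)
  have h2 : algebraMap R L r = 0 := by simpa using congrArg (fun w => (MonoidAlgebra.coeff w) c) h1
  obtain ⟨s, hs, hs0⟩ := exists_smul_eq_zero_of_tmul (B := R) L _ hne r ((TensorProduct.rid R L).injective (by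
    simpa [Algebra.smul_def] using h2))
  rw [hQq] at hs
  exact hs (hle (Submodule.mem_colon_singleton.2 (by simpa using hs0)))

end Groth.Agent.S2983
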