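import Groth.Statements.S3006
import Groth.Agent.MultHopf.TransporterRep
-- import your own Groth.Agent.* helpers here

set_option autoImplicit false
universe u
open CategoryTheory MonoidalCategory CartesianMonoidalCategory MonObj GrpObj AlgebraicGeometry
open Red

namespace Groth.Agent.S3006

/-- Let S be a scheme, G an S-group scheme smooth and of finite presentation over S, and q : Q → G a
closed subgroup scheme which is a torus. Then the centralizer and the normalizer of Q in G exist as
closed subgroup schemes of G (characterized on points as in `Red.IsCentralizerOf` /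
`Red.IsNormalizerOf`) and are smooth over S. -/
theorem result (S : Scheme.{u}) (G Q : Over S) [GrpObj G] [GrpObj Q] [Smooth G.hom] [LocallyOfFinitePresentation G.hom] [QuasiCompact G.hom] [QuasiSeparated G.hom] (q : Q ⟶ G) [IsMonHom q] (hq : IsClosedImmersion q.left) (hQ : Red.IsTorus Q) : (∃ (Z : Over S) (_ : GrpObj Z) (z : Z ⟶ G), Red.IsCentralizerOf q z ∧ IsClosedImmersion z.left ∧ Smooth Z.hom) ∧ ∃ (N : Over S) (_ : GrpObj N) (n : N ⟶ G), Red.IsNormalizerOf q n ∧ IsClosedImmersion n.left ∧ Smooth N.hom := by
  have := hq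
  have hH : SGA3x.IsMultTypeFT Q := by
    obtain ⟨S', f, h₁, h₂, h₃, hloc⟩ := hQ
    refine ⟨S', f, h₁, h₂, h₃, fun s => ?_⟩
    obtain ⟨U, hU, r, hr⟩ := hloc s
    exact ⟨U, hU, Fin r → ℤ, inferInstance, inferInstance, hr⟩
  have : IsClosedImmersion η[G].left := by
    have := Groth.Agent.MultHopf.isAffineHom_of_isMultTypeLoc Q (Groth.Agent.MultHopf.isMultTypeLoc_of_ft hH)
    have := Groth.Agent.MultHopf.isClosedImmersion_one (G := Q)
    rw [show η[G] = η[Q] ≫ q from (IsMonHom.one_hom q).symm, Over.comp_left]
    infer_instance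
  exact ⟨Groth.Agent.MultHopf.exists_centralizer (Groth.Agent.MultHopf.isMultTypeLoc_of_ft hH) ‹Smooth G.hom› q,
    Groth.Agent.MultHopf.exists_normalizer hH ‹Smooth G.hom› q⟩

end Groth.Agent.S3006
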