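import Groth.Statements.S3015
import Groth.Agent.GrpSch.DenseMul
import Groth.Agent.GaPts.Basic

set_option autoImplicit false
set_option backward.isDefEq.respectTransparency.types false
universe u
open CategoryTheory MonoidalCategory CartesianMonoidalCategory MonObj GrpObj AlgebraicGeometry TensorProduct
open SGA3

open CategoryTheory CategoryTheory.Limits MonoidalCategory CartesianMonoidalCategory MonObj AlgebraicGeometry
namespace Groth.Agent.S3015

/-- Let A be a local artinian ring, G a group scheme over A, and U, V dense open subsets of G. Then U ·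
V, the image of U ×_A V under the multiplication, is the whole underlying space of G: every point of
G is the product of a point of G ×_A G whose two projections lie in U and V. -/
theorem result (A : Type u) [CommRing A] [IsArtinianRing A] [IsLocalRing A]
    (G : Over (Spec (CommRingCat.of A))) [GrpObj G] (U V : G.left.Opens)
    (hU : Dense (U : Set G.left)) (hV : Dense (V : Set G.left)) (g : G.left) :
    ∃ z : ↥(G ⊗ G).left, (fst G G).left.base z ∈ U ∧ (snd G G).left.base z ∈ V ∧ μ[G].left.base z = g := by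
  let i : Spec (CommRingCat.of (IsLocalRing.ResidueField A)) ⟶ Spec (CommRingCat.of A) :=
    Spec.map (CommRingCat.ofHom (IsLocalRing.residue A))
  haveI : IsClosedImmersion i := IsClosedImmersion.spec_of_surjective _ IsLocalRing.residue_surjective
  haveI : Surjective i :=
    ⟨fun p => ⟨IsLocalRing.closedPoint (IsLocalRing.ResidueField A), Subsingleton.elim (α := PrimeSpectrum A) _ _⟩⟩
  let G₀ := (Over.pullback i).obj G
  let π : G₀.left ⟶ G.left := pullback.fst G.hom i
  have hπ : IsHomeomorph π := by
    have h1 : Topology.IsClosedEmbedding π := π.isClosedEmbedding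
    exact isHomeomorph_iff_isEmbedding_surjective.2 ⟨h1.1, π.surjective⟩
  have hU₀ : Dense (π ⁻¹' (U : Set G.left)) := hU.preimage hπ.isOpenMap
  have hV₀ : Dense (π ⁻¹' (V : Set G.left)) := hV.preimage hπ.isOpenMap
  obtain ⟨g₀, rfl⟩ := π.surjective g
  obtain ⟨w, ⟨hwU, hwV⟩, hw⟩ := (Set.eq_univ_iff_forall.1
    (Groth.Agent.GrpSch.mul_image_dense_eq_univ G₀ (U.2.preimage π.continuous) hU₀ hV₀)) g₀
  let adj := Over.mapPullbackAdj i
  let x := (adj.homEquiv (G₀ ⊗ G₀) G).symm (fst G₀ G₀)
  let y := (adj.homEquiv (G₀ ⊗ G₀) G).symm (snd G₀ G₀)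
  have hleft : ∀ h : G₀ ⊗ G₀ ⟶ G₀, ((adj.homEquiv (G₀ ⊗ G₀) G).symm h).left = h.left ≫ π := by
    intro h
    simp [adj, Adjunction.homEquiv_counit, G₀, π]
  have hmul : (lift x y ≫ μ[G]).left = μ[G₀].left ≫ π := by
    rw [← Hom.mul_def, ← Groth.Agent.GaPts.homEquiv_symm_mul, Hom.mul_def, lift_fst_snd, Category.id_comp, hleft]
  refine ⟨(lift x y).left w, ?_, ?_, ?_⟩
  · rw [← Scheme.Hom.comp_apply, ← Over.comp_left, lift_fst, hleft, Scheme.Hom.comp_apply]
    exact hwU
  · rw [← Scheme.Hom.comp_apply, ← Over.comp_left, lift_snd, hleft, Scheme.Hom.comp_apply]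
    exact hwV
  · rw [← Scheme.Hom.comp_apply, ← Over.comp_left, hmul, Scheme.Hom.comp_apply, hw]

end Groth.Agent.S3015
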