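import Groth.Statements.S3021
import Groth.Agent.Comod.Basic
-- import your own Groth.Agent.* helpers here

set_option autoImplicit false
universe u
open CategoryTheory MonoidalCategory CartesianMonoidalCategory MonObj GrpObj AlgebraicGeometry TensorProduct
open SGA3

namespace Groth.Agent.S3021

/-- Let A be a commutative ring, C an A-coalgebra which is projective as an A-module, V a C-comodule and
M an A-submodule of V. Then there is a smallest subcomodule of V containing M, and it is finitely
generated over A when M is. -/
theorem result (A : Type u) [CommRing A] (C : Type u) [AddCommGroup C] [Module A C]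
    [Coalgebra A C] [Module.Projective A C] (V : Type u) [AddCommGroup V] [Module A V] [HopfRep.Comod A C V]
    (M : Submodule A V) :
    ∃ W : Submodule A V, HopfRep.IsSubcomod (k := A) (A := C) W ∧ M ≤ W ∧
      (∀ W' : Submodule A V, HopfRep.IsSubcomod (k := A) (A := C) W' → M ≤ W' → W ≤ W') ∧
      (M.FG → W.FG) := by
  classical
  obtain ⟨s, hs⟩ := Module.projective_def'.1 ‹Module.Projective A C›
  have hmem : ∀ (N : Submodule A V) (x : TensorProduct A V C), (∀ φ : C →ₗ[A] A, Groth.Agent.Comod.slR φ x ∈ N) →
      x ∈ LinearMap.range (N.subtype.rTensor C) := by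
    intro N x h
    let e := TensorProduct.finsuppScalarRight A A V C
    have hc : ∀ (i : C) (y : TensorProduct A V C),
        e (LinearMap.lTensor V s y) i = Groth.Agent.Comod.slR (Finsupp.lapply i ∘ₗ s) y := by
      intro i y
      induction y using TensorProduct.induction_on with
      | zero => simp
      | tmul v a => simp [e]
      | add y z hy hz => simp only [map_add, Finsupp.add_apply, hy, hz]
    have hx : x = LinearMap.lTensor V (Finsupp.linearCombination A id) (LinearMap.lTensor V s x) := by
      rw [← LinearMap.comp_apply, ← LinearMap.lTensor_comp, hs, LinearMap.lTensor_id]; rfl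
    rw [hx, ← e.symm_apply_apply (LinearMap.lTensor V s x), ← Finsupp.sum_single (e (LinearMap.lTensor V s x)),
      Finsupp.sum, map_sum, map_sum]
    refine Submodule.sum_mem _ fun i _ => ?_
    refine ⟨(⟨e (LinearMap.lTensor V s x) i, by rw [hc]; exact h _⟩ : N) ⊗ₜ i, ?_⟩
    simp [e]
  let W : Submodule A V := ⨆ φ : C →ₗ[A] A, M.map (Groth.Agent.Comod.actL φ)
  have hW : HopfRep.IsSubcomod (k := A) (A := C) W := by
    intro v hv
    refine hmem W _ fun φ => ?_
    show Groth.Agent.Comod.actL φ v ∈ W
    induction hv using Submodule.iSup_induction' with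
    | mem ψ x hx =>
      obtain ⟨m, hm, rfl⟩ := hx
      rw [Groth.Agent.Comod.actL_actL]
      exact Submodule.mem_iSup_of_mem _ ⟨m, hm, rfl⟩
    | zero => simp
    | add x y _ _ hx hy => rw [map_add]; exact add_mem hx hy
  refine ⟨W, hW, fun m hm => Submodule.mem_iSup_of_mem Coalgebra.counit ⟨m, hm, Groth.Agent.Comod.actL_counit m⟩,
    fun W' hW' hMW' => iSup_le fun φ => ?_, fun hfg => ?_⟩
  · rintro _ ⟨m, hm, rfl⟩
    exact Groth.Agent.Comod.IsSubcomod.actL_mem hW' φ (hMW' hm)
  · obtain ⟨t, ht⟩ := hfg
    let q : V → Finset C := fun m =>
      (TensorProduct.finsuppScalarRight A A V C (LinearMap.lTensor V s (HopfRep.Comod.coact (k := A) (A := C) m))).support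
    have key : W = Submodule.span A (↑(t.biUnion fun m => (q m).image fun i => Groth.Agent.Comod.actL (Finsupp.lapply i ∘ₗ s) m) : Set V) := by
      apply le_antisymm
      · refine iSup_le fun φ => ?_
        rw [← ht, Submodule.map_span, Submodule.span_le]
        rintro _ ⟨m, hm, rfl⟩
        have hexp : ∀ y : TensorProduct A V C, Groth.Agent.Comod.slR φ y =
            (TensorProduct.finsuppScalarRight A A V C (LinearMap.lTensor V s y)).sum fun i v => φ i • v := by
          intro y
          induction y using TensorProduct.induction_on with
          | zero => simp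
          | tmul v a =>
            have ha : φ a = φ (Finsupp.linearCombination A id (s a)) := by
              rw [← LinearMap.comp_apply (Finsupp.linearCombination A id) s, hs]; rfl
            rw [Finsupp.linearCombination_apply, map_finsuppSum] at ha
            rw [Groth.Agent.Comod.slR_tmul, ha]
            have hz : TensorProduct.finsuppScalarRight A A V C (LinearMap.lTensor V s (v ⊗ₜ a)) =
                (s a).mapRange (fun r => r • v) (zero_smul A v) := by
              ext i; simp
            rw [hz, Finsupp.sum_mapRange_index (fun i => smul_zero _), Finsupp.sum, Finsupp.sum, Finset.sum_smul]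
            exact Finset.sum_congr rfl fun i _ => by simp [smul_smul, mul_comm]
          | add y z hy hz =>
            simp only [map_add, hy, hz]
            rw [Finsupp.sum_add_index' (fun i => smul_zero _) (fun i a b => smul_add _ _ _)]
        show Groth.Agent.Comod.actL φ m ∈ _
        rw [Groth.Agent.Comod.actL_apply, hexp]
        refine Submodule.sum_mem _ fun i hi => Submodule.smul_mem _ _ (Submodule.subset_span ?_)
        refine Finset.mem_biUnion.2 ⟨m, hm, Finset.mem_image.2 ⟨i, hi, ?_⟩⟩
        rw [Groth.Agent.Comod.actL_apply]
        generalize HopfRep.Comod.coact (k := A) (A := C) m = y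
        induction y using TensorProduct.induction_on with
        | zero => simp
        | tmul v a => simp
        | add y z hy hz => simp only [map_add, Finsupp.add_apply, hy, hz]
      · rw [Submodule.span_le]
        intro v hv
        obtain ⟨m, hm, hv⟩ := Finset.mem_biUnion.1 hv
        obtain ⟨i, -, rfl⟩ := Finset.mem_image.1 hv
        exact Submodule.mem_iSup_of_mem _ ⟨m, ht ▸ Submodule.subset_span hm, rfl⟩
    rw [key]
    exact ⟨_, rfl⟩

end Groth.Agent.S3021
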