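import Groth.Statements.S3032
import Groth.Agent.Comod.Basic
-- import your own Groth.Agent.* helpers here

set_option autoImplicit false
universe u
open CategoryTheory MonoidalCategory CartesianMonoidalCategory MonObj GrpObj AlgebraicGeometry TensorProduct
open SGA3

namespace Groth.Agent.S3032

/-- Let R be a Noetherian commutative ring, C an R-coalgebra which is flat as an R-module, V a
C-comodule and M a finitely generated R-submodule of V. Then M is contained in a subcomodule of V
which is finitely generated over R. -/
theorem result (R : Type u) [CommRing R] [IsNoetherianRing R] (C : Type u) [AddCommGroup C]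
    [Module R C] [Coalgebra R C] [Module.Flat R C] (V : Type u) [AddCommGroup V] [Module R V] [HopfRep.Comod R C V]
    (M : Submodule R V) (hM : M.FG) :
    ∃ W : Submodule R V, HopfRep.IsSubcomod (k := R) (A := C) W ∧ M ≤ W ∧ W.FG := by
  classical
  obtain ⟨t, ht⟩ := hM
  choose N hN hNm using fun m : V => TensorProduct.exists_finite_submodule_left_of_setFinite
    ({HopfRep.Comod.coact (k := R) (A := C) m} : Set (TensorProduct R V C)) (Set.finite_singleton _)
  let N0 : Submodule R V := ⨆ m : t, N m
  have hN0 : Module.Finite R N0 := by
    have : ∀ m : t, Module.Finite R (N m) := fun m => hN m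
    infer_instance
  let ρ := HopfRep.Comod.coact (k := R) (A := C) (V := V)
  let φ : V →ₗ[R] TensorProduct R (V ⧸ N0) C := N0.mkQ.rTensor C ∘ₗ ρ
  let W : Submodule R V := LinearMap.ker φ
  have hWN : W ≤ N0 := by
    intro w hw
    have h1 := congrArg ((TensorProduct.rid R (V ⧸ N0)).toLinearMap ∘ₗ
      LinearMap.lTensor (V ⧸ N0) (Coalgebra.counit (R := R) (A := C))) (show φ w = 0 from hw)
    have h2 : ∀ y : TensorProduct R V C, ((TensorProduct.rid R (V ⧸ N0)).toLinearMap ∘ₗ
        LinearMap.lTensor (V ⧸ N0) (Coalgebra.counit (R := R) (A := C))) (N0.mkQ.rTensor C y) =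
        N0.mkQ (Groth.Agent.Comod.slR Coalgebra.counit y) := by
      intro y
      induction y using TensorProduct.induction_on with
      | zero => simp
      | tmul v c => simp
      | add a b ha hb => simp only [map_add, ha, hb]
    rw [map_zero] at h1
    have h3 := (h2 (ρ w)).symm.trans h1
    rw [← Groth.Agent.Comod.actL_apply, Groth.Agent.Comod.actL_counit] at h3
    exact (Submodule.Quotient.mk_eq_zero _).1 h3
  refine ⟨W, ?_, ?_, ?_⟩
  · intro w hw
    have hcoW : Function.Exact (W.subtype.rTensor C) (φ.rTensor C) :=
      Module.Flat.rTensor_exact C (LinearMap.exact_subtype_ker_map φ)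
    refine (hcoW _).1 ?_
    have h := LinearMap.congr_fun (HopfRep.Comod.coassoc (k := R) (A := C) (V := V)) w
    simp only [LinearMap.comp_apply, LinearEquiv.coe_coe] at h
    apply (TensorProduct.assoc R (V ⧸ N0) C C).injective
    rw [map_zero]
    have e1 : ∀ y : TensorProduct R V C, TensorProduct.assoc R (V ⧸ N0) C C (φ.rTensor C y) =
        N0.mkQ.rTensor _ (TensorProduct.assoc R V C C (ρ.rTensor C y)) := by
      intro y
      induction y using TensorProduct.induction_on with
      | zero => simp
      | tmul v c =>
        simp only [φ, LinearMap.rTensor_tmul, LinearMap.comp_apply]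
        generalize ρ v = z
        induction z using TensorProduct.induction_on with
        | zero => simp
        | tmul a b => simp
        | add a b ha hb => simp only [map_add, TensorProduct.add_tmul, ha, hb]
      | add a b ha hb => simp only [map_add, ha, hb]
    rw [e1, h, ← LinearMap.comp_apply, LinearMap.rTensor_comp_lTensor, ← LinearMap.lTensor_comp_rTensor,
      LinearMap.comp_apply, show N0.mkQ.rTensor C (ρ w) = 0 from hw, map_zero]
  · rw [← ht, Submodule.span_le]
    intro m hm
    show φ m = 0
    obtain ⟨y, hy⟩ := hNm m (Set.mem_singleton _)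
    have hle : N m ≤ N0 := le_iSup (fun m : t => N m) ⟨m, hm⟩
    show N0.mkQ.rTensor C (ρ m) = 0
    rw [← hy, ← LinearMap.rTensor_comp_apply]
    have : N0.mkQ ∘ₗ (N m).subtype = 0 := LinearMap.ext fun x => (Submodule.Quotient.mk_eq_zero _).2 (hle x.2)
    rw [this, LinearMap.rTensor_zero]; rfl
  · have : IsNoetherian R N0 := isNoetherian_of_isNoetherianRing_of_finite R N0
    exact Module.Finite.iff_fg.1 (Module.Finite.of_injective (Submodule.inclusion hWN) (Submodule.inclusion_injective hWN))

end Groth.Agent.S3032
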