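import Groth.Statements.S3045
import Groth.Agent.FinHopf.Power
import Mathlib.Algebra.DualNumber
-- import your own Groth.Agent.* helpers here

set_option autoImplicit false
universe u
open TensorProduct
open SGA3

namespace Groth.Agent.S3045

/-- Let A be a commutative Hopf algebra over a commutative ring k (the coordinate ring of an affine
group G = Spec A) and φ, ψ two k[ε]-valued points of G reducing to the unit point modulo ε (tangent
vectors at the identity). Then for every a ∈ A the ε-component of the product point φ · ψ at a — the
product of points being convolution, formed here as the triple convolution of φ, ψ and the unit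
point — is the sum of the ε-components of φ(a) and ψ(a): on tangent vectors at the identity the
group law of G induces addition. -/
theorem result (k : Type u) [CommRing k] (A : Type u) [CommRing A] [HopfAlgebra k A]
    (φ ψ : LieHopf.LiePts k A) (a : A) :
    TrivSqZeroExt.snd (Dyn.conv3 k A φ.1 ψ.1 ((Algebra.ofId k (DualNumber k)).comp (Bialgebra.counitAlgHom k A)) a) =
      LieHopf.LiePts.tangent k A φ a + LieHopf.LiePts.tangent k A ψ a := by
  obtain ⟨φ, ht1⟩ := φ
  obtain ⟨ψ, ht2⟩ := ψ
  show TrivSqZeroExt.snd (Dyn.conv3 k A φ ψ _ a) = TrivSqZeroExt.snd (φ a) + TrivSqZeroExt.snd (ψ a)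
  have h3 : Dyn.conv3 k A φ ψ ((Algebra.ofId k (DualNumber k)).comp (Bialgebra.counitAlgHom k A)) a =
      (WithConv.toConv φ * WithConv.toConv ψ * 1 : WithConv (A →ₐ[k] DualNumber k)) a := by
    rw [AlgHom.convMul_apply]
    show (Algebra.TensorProduct.lmul' k) (Algebra.TensorProduct.map _ _ (Algebra.TensorProduct.map _ _
      (Coalgebra.comul (R := k) a))) = _
    induction Coalgebra.comul (R := k) a using TensorProduct.induction_on with
    | zero => simp
    | add u w hu hw => simp only [map_add, hu, hw]
    | tmul x y => rfl
  let t1 : A →ₗ[k] k := (TrivSqZeroExt.sndHom k k) ∘ₗ φ.toLinearMap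
  let t2 : A →ₗ[k] k := (TrivSqZeroExt.sndHom k k) ∘ₗ ψ.toLinearMap
  rw [h3, _root_.mul_one (WithConv.toConv φ * WithConv.toConv ψ), AlgHom.convMul_apply]
  have key : ∀ z : TensorProduct k A A,
      TrivSqZeroExt.snd (Algebra.TensorProduct.lift φ ψ (fun _ _ => Commute.all _ _) z) =
        t1 (TensorProduct.rid k A (LinearMap.lTensor A (Coalgebra.counit (R := k)) z)) +
          t2 (TensorProduct.lid k A (LinearMap.rTensor A (Coalgebra.counit (R := k)) z)) := by
    intro z
    induction z using TensorProduct.induction_on with
    | zero => simp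
    | add u w hu hw =>
      simp only [map_add, TrivSqZeroExt.snd_add, hu, hw]
      abel
    | tmul x y =>
      simp [t1, t2, TrivSqZeroExt.snd_mul, ht1, ht2]
      ring
  rw [key, Coalgebra.lTensor_counit_comul, Coalgebra.rTensor_counit_comul]
  simp [t1, t2]

end Groth.Agent.S3045
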