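import Groth.Statements.S3055
import Groth.Agent.EtShSet.SepClosed
import Mathlib.RingTheory.Henselian

set_option autoImplicit false
open CategoryTheory CategoryTheory.Limits AlgebraicGeometry Opposite
universe u
open EtDesc

namespace Groth.Agent.S3055

/-- For a separably closed field k and X = Spec k, the global sections functor from sheaves of sets on
X_et (valued one universe up) to sets is an equivalence of categories. -/
theorem result (k : Type u) [Field k] [IsSepClosed k] :
    ((sheafSections (Spec (CommRingCat.of k)).smallEtaleTopology (Type (u + 1))).obj
      (op (EtCoh.top (Spec (CommRingCat.of k))))).IsEquivalence := by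
  haveI : HenselianLocalRing k := inferInstance
  let e : k ≃+* IsLocalRing.ResidueField k := RingEquiv.ofBijective (IsLocalRing.residue k)
    ⟨(IsLocalRing.residue k).injective, Ideal.Quotient.mk_surjective⟩
  haveI : IsSepClosed (IsLocalRing.ResidueField k) := by
    refine IsSepClosed.of_exists_root _ fun p hm hi hs => ?_
    obtain ⟨x, hx⟩ := IsSepClosed.exists_root (p.map e.symm.toRingHom)
      (by rw [Polynomial.degree_map]; exact hi.degree_pos.ne') (hs.map)
    rw [← e.symm_apply_apply x] at hx
    exact ⟨e x, Polynomial.IsRoot.of_map (f := e.symm.toRingHom) hx e.symm.injective⟩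
  exact EtShSet.sections_isEquivalence k (fun x => Subsingleton.elim _ _)

end Groth.Agent.S3055
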