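import Groth.Statements.S3058
import Groth.Agent.QCTopos.Coprod

set_option autoImplicit false
open CategoryTheory CategoryTheory.Limits Opposite
universe u
open ToposFin

namespace Groth.Agent.S3058

/-- For a topos of sheaves of sets on a small site: the coproduct of a small family of objects is
quasi-compact if and only if every member is quasi-compact and all but finitely many members are
initial (empty) objects. -/
theorem result {C : Type u} [SmallCategory C] {J : GrothendieckTopology C} {ι : Type u}
    (F : ι → ToposFin.Sh J) :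
    ToposFin.IsQC (∐ F) ↔ (∀ i, ToposFin.IsQC (F i)) ∧ {i | IsEmpty (F i ≅ ⊥_ (ToposFin.Sh J))}.Finite := by
  refine ((Groth.Agent.QCTopos.cofan_isQC_iff (c := Cofan.mk (∐ F) (Sigma.ι F)) (coproductIsCoproduct F))).trans ?_
  refine and_congr_right (fun _ => ?_)
  have e : {i | ¬ Nonempty (IsInitial (F i))} = {i | IsEmpty (F i ≅ ⊥_ (ToposFin.Sh J))} := by
    ext i
    show ¬ Nonempty (IsInitial (F i)) ↔ IsEmpty (F i ≅ ⊥_ (ToposFin.Sh J))
    rw [not_nonempty_iff]
    exact ⟨fun h => ⟨fun e => h.false (IsInitial.ofIso initialIsInitial e.symm)⟩,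
      fun h => ⟨fun hi => h.false (hi.uniqueUpToIso initialIsInitial)⟩⟩
  rw [e]

end Groth.Agent.S3058
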