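import Mathlib.CategoryTheory.Sites.LocallyBijective
import Groth.Statements.S3082

set_option autoImplicit false
universe u
open CategoryTheory
open SGA4

namespace Groth.Agent.S3082

/-- Let (C, J) be a small site and G a set of objects of C such that each object of C has a covering
family whose members all lie in G. Then the sheafifications of the presheaves represented by the
members of G form a detecting family in the category Sh(C, J) of set-valued sheaves on (C, J): any
morphism of sheaves that is bijective on sections over each member of G is an isomorphism. -/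
theorem result {C : Type u} [SmallCategory C] (J : GrothendieckTopology C) (G : Set C)
    (hG : ∀ X : C, ∃ (ι : Type u) (Y : ι → C) (f : ∀ i, Y i ⟶ X), Sieve.ofArrows Y f ∈ J X ∧ ∀ i, Y i ∈ G) :
    (ObjectProperty.ofObj fun X : G => (presheafToSheaf J (Type u)).obj (yoneda.obj (X : C))).IsDetecting := by
  intro F F' φ hφ
  have hbij : ∀ X ∈ G, Function.Bijective (φ.hom.app (Opposite.op X)) := by
    intro X hX
    let e := fun (F : Sheaf J (Type u)) => ((sheafificationAdjunction J (Type u)).homEquiv (yoneda.obj X) F).trans yonedaEquiv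
    have he : ∀ a, e F' (a ≫ φ) = φ.hom.app (Opposite.op X) (e F a) := by
      intro a
      simp only [e, Equiv.trans_apply, Adjunction.homEquiv_naturality_right]
      exact yonedaEquiv_comp _ _
    constructor
    · intro a b hab
      obtain ⟨a, rfl⟩ := (e F).surjective a
      obtain ⟨b, rfl⟩ := (e F).surjective b
      obtain ⟨_, -, hu⟩ := hφ _ ⟨⟨X, hX⟩⟩ (a ≫ φ)
      rw [hu a rfl, hu b ((e F').injective (by rw [he, he, hab]))]
    · intro y
      obtain ⟨a, ha, -⟩ := hφ _ ⟨⟨X, hX⟩⟩ ((e F').symm y)
      exact ⟨e F a, by rw [← he, ha, Equiv.apply_symm_apply]⟩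
  have : Sheaf.IsLocallyInjective φ := ⟨fun {X} x y h => by
    obtain ⟨ι, Y, f, hf, hY⟩ := hG X.unop
    refine J.superset_covering ?_ hf
    rintro V g ⟨W, a, b, ⟨i⟩, rfl⟩
    refine (Presheaf.equalizerSieve x y).downward_closed ((hbij _ (hY i)).1 ?_) a
    rw [NatTrans.naturality_apply, NatTrans.naturality_apply, h]⟩
  have : Sheaf.IsLocallySurjective φ := ⟨fun {U} s => by
    obtain ⟨ι, Y, f, hf, hY⟩ := hG U
    refine J.superset_covering ?_ hf
    rintro V g ⟨W, a, b, ⟨i⟩, rfl⟩
    exact (Presheaf.imageSieve φ.hom s).downward_closed ((hbij _ (hY i)).2 _) a⟩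
  exact (Sheaf.isLocallyBijective_iff_isIso φ).mp ⟨‹_›, ‹_›⟩

end Groth.Agent.S3082
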