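import Groth.Statements.S3093
import Groth.Agent.PtTopLib.Shrink

set_option autoImplicit false
universe u
open CohTop

namespace Groth.Agent.S3093

/-- Let X be a topological space and K ⊆ X a compact subset such that any two distinct points of K have
disjoint open neighbourhoods in X. If A and B are subsets of K that are closed in K and W is an open
subset of X containing A ∩ B, then there are open subsets U ⊇ A and V ⊇ B of X with U ∩ V ⊆ W. -/
theorem result {X : Type u} [TopologicalSpace X] {K : Set X} (hK : IsCompact K)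
    (hsep : ∀ x ∈ K, ∀ y ∈ K, x ≠ y → ∃ U V : Set X, IsOpen U ∧ IsOpen V ∧ x ∈ U ∧ y ∈ V ∧ Disjoint U V)
    {A B W : Set X} (hA : A ⊆ K) (hB : B ⊆ K) (hAc : IsClosed (Subtype.val ⁻¹' A : Set K))
    (hBc : IsClosed (Subtype.val ⁻¹' B : Set K)) (hW : IsOpen W) (hABW : A ∩ B ⊆ W) :
    ∃ U V : Set X, IsOpen U ∧ IsOpen V ∧ A ⊆ U ∧ B ⊆ V ∧ U ∩ V ⊆ W := by
  open Set in
  have hc : ∀ C : Set X, C ⊆ K → IsClosed (Subtype.val ⁻¹' C : Set K) → IsCompact C := fun C hC h => by
    have : CompactSpace K := isCompact_iff_compactSpace.1 hK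
    have := h.isCompact.image continuous_subtype_val
    rwa [Subtype.image_preimage_coe, inter_eq_right.2 hC] at this
  obtain ⟨U, V, hU, hV, hAU, hBV, hd⟩ := Groth.Agent.PtTopLib.exists_separated (Z := K) hsep
    ((hc A hA hAc).diff hW) (sdiff_subset.trans hA) ((hc B hB hBc).diff hW) (sdiff_subset.trans hB)
    (disjoint_left.2 fun x hx hx' => hx.2 (hABW ⟨hx.1, hx'.1⟩))
  refine ⟨U ∪ W, V ∪ W, hU.union hW, hV.union hW, fun x hx => ?_, fun x hx => ?_, ?_⟩
  · exact (em (x ∈ W)).elim Or.inr fun h => Or.inl (hAU ⟨hx, h⟩)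
  · exact (em (x ∈ W)).elim Or.inr fun h => Or.inl (hBV ⟨hx, h⟩)
  · rintro z ⟨h1 | h1, h2 | h2⟩
    · exact absurd h2 (disjoint_left.1 hd h1)
    all_goals assumption

end Groth.Agent.S3093
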