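import Groth.Statements.S3114
import Groth.Agent.EtSh.Specialization
import Groth.Agent.EtSh.TrivializesMap
import Groth.Agent.EtSh.Gluing
import Groth.Agent.Spectral.Basic
import Mathlib.AlgebraicGeometry.Noetherian

set_option autoImplicit false
universe u
open CategoryTheory CategoryTheory.Limits AlgebraicGeometry Opposite
open EtPBC

namespace Groth.Agent.S3114

open Groth.Agent.EtSh

set_option backward.isDefEq.respectTransparency.types false

theorem exists_open_common_generization {Y : Scheme.{u}} [IsLocallyNoetherian Y] (u : Y) :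
    ∃ O : Y.Opens, u ∈ O ∧ ∀ w ∈ O, ∃ η : Y, η ⤳ u ∧ η ⤳ w := by
  obtain ⟨W, hW, huW, -⟩ := exists_isAffineOpen_mem_and_subset (x := u) (U := ⊤) trivial
  have : TopologicalSpace.NoetherianSpace W.toScheme :=
    have := IsLocallyNoetherian.component_noetherian (X := Y) ⟨W, hW⟩
    noetherianSpace_of_isAffineOpen W hW
  let u₀ : W.toScheme := ⟨u, huW⟩
  let C : Set W.toScheme := ⋃ Z ∈ {Z | Z ∈ irreducibleComponents W.toScheme ∧ u₀ ∉ Z}, Z
  have hC : IsClosed C :=
    Set.Finite.isClosed_biUnion ((TopologicalSpace.NoetherianSpace.finite_irreducibleComponents).subset fun Z h => h.1)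
      fun Z h => isClosed_of_mem_irreducibleComponents Z h.1
  refine ⟨⟨W.ι '' Cᶜ, W.ι.isOpenEmbedding.isOpenMap _ hC.isOpen_compl⟩, ⟨u₀, ?_, rfl⟩, ?_⟩
  · intro h
    obtain ⟨Z, hZ, hu⟩ := Set.mem_iUnion₂.1 h
    exact hZ.2 hu
  · rintro _ ⟨w, hw, rfl⟩
    have hZ := irreducibleComponent_mem_irreducibleComponents w
    have hu : u₀ ∈ irreducibleComponent w := by
      by_contra h
      exact hw (Set.mem_iUnion₂.2 ⟨_, ⟨hZ, h⟩, mem_irreducibleComponent⟩)
    have hirr : IsIrreducible (irreducibleComponent w) := isIrreducible_irreducibleComponent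
    have hcl : closure (irreducibleComponent w) = irreducibleComponent w :=
      isClosed_irreducibleComponent.closure_eq
    exact ⟨W.ι hirr.genericPoint,
      (show hirr.genericPoint ⤳ u₀ from
        hirr.isGenericPoint_genericPoint_closure.specializes (by rw [hcl]; exact hu)).map W.ι.continuous,
      (show hirr.genericPoint ⤳ w from hirr.isGenericPoint_genericPoint_closure.specializes
        (by rw [hcl]; exact mem_irreducibleComponent)).map W.ι.continuous⟩

theorem main {X : Scheme.{u}} [IsLocallyNoetherian X] (F : EtCoh.Ab X)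
    (hfin : ∀ (Ω : Type u) [Field Ω] [IsSepClosed Ω] (ξ : Spec (CommRingCat.of Ω) ⟶ X),
      Finite ((EtCoh.stalk ξ).obj F)) :
    EtCoh.IsFiniteLocallyConstant F ↔
      ∀ (Ω Ω' : Type u) [Field Ω] [IsSepClosed Ω] [Field Ω'] [IsSepClosed Ω']
        (ξ : Spec (CommRingCat.of Ω) ⟶ X) (ξ' : Spec (CommRingCat.of Ω') ⟶ X)
        (φ : Scheme.pointSmallEtale ξ' ⟶ Scheme.pointSmallEtale ξ),
        IsIso ((GrothendieckTopology.Point.Hom.sheafFiber (A := AddCommGrpCat.{u + 1}) φ).app F) := by
  constructor
  · intro h Ω Ω' _ _ _ _ ξ ξ' φ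
    obtain ⟨W, y, hy, M, _, _, e, he⟩ := (isFLC_iff_trivializes _).1 h (ξ.base default)
    obtain ⟨t, -⟩ := exists_fib (ξ := ξ) y hy
    rw [ConcreteCategory.isIso_iff_bijective]
    refine (Function.Bijective.of_comp_iff _ (he Ω ξ t)).1 ?_
    refine (congrArg Function.Bijective ?_).mpr (he Ω' ξ' (φ.hom.app _ t))
    exact funext fun m => sheafFiber_germ φ F t _
  · intro h
    refine (isFLC_iff_trivializes _).2 fun z => ?_
    obtain ⟨Ω₀, _, _, ξ₀, hξ₀⟩ := exists_geometric_point z
    have hd : ξ₀.base default = z := Set.eq_of_mem_singleton (hξ₀.le ⟨default, rfl⟩)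
    have := hfin Ω₀ ξ₀
    obtain ⟨M, _, _, U, t, e, hb⟩ := exists_hom_sections F ξ₀
    have : Etale U.hom := U.prop
    have : IsLocallyNoetherian ((Functor.fromPUnit X).obj U.right) := ‹IsLocallyNoetherian X›
    have : IsLocallyNoetherian U.left := LocallyOfFiniteType.isLocallyNoetherian U.hom
    obtain ⟨O, htO, hO⟩ := exists_open_common_generization (fpt t)
    refine ⟨pieceObj U O, ⟨fpt t, htO⟩, (hom_fpt t).trans hd, M, inferInstance, inferInstance,
      (F.obj.map (pieceIncl U O).op).hom.comp e, fun Ω _ _ ξ v => ?_⟩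
    show Function.Bijective fun m => germ ξ F v (F.obj.map (pieceIncl U O).op (e m))
    simp only [germ_map]
    let t' : Fib ξ U := (Scheme.pointSmallEtale ξ).fiber.map (pieceIncl U O) v
    have ht' : fpt t' ∈ O := (fpt v).2
    obtain ⟨η, hη, hη'⟩ := hO _ ht'
    obtain ⟨K, _, _, ζ, hζ⟩ := exists_geometric_point η
    let s : Fib (ζ ≫ U.hom) U := Over.homMk ζ rfl
    have hs : fpt s = η := Set.eq_of_mem_singleton (hζ.le ⟨default, rfl⟩)
    obtain ⟨φ, hφ⟩ := exists_specialization t s (hs.symm ▸ hη)
    obtain ⟨φ', hφ'⟩ := exists_specialization t' s (hs.symm ▸ hη')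
    have h1 : (fun m => germ (ζ ≫ U.hom) F s (e m)) = (fun p =>
        (GrothendieckTopology.Point.Hom.sheafFiber (A := AddCommGrpCat.{u + 1}) φ).app F p) ∘
          fun m => germ ξ₀ F t (e m) := funext fun m => by rw [← hφ]; exact (sheafFiber_germ φ F t _).symm
    have h2 : (fun m => germ (ζ ≫ U.hom) F s (e m)) = (fun p =>
        (GrothendieckTopology.Point.Hom.sheafFiber (A := AddCommGrpCat.{u + 1}) φ').app F p) ∘
          fun m => germ ξ F t' (e m) := funext fun m => by rw [← hφ']; exact (sheafFiber_germ φ' F t' _).symm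
    have hb' : Function.Bijective fun m => germ (ζ ≫ U.hom) F s (e m) :=
      (congrArg Function.Bijective h1).mpr (((ConcreteCategory.isIso_iff_bijective _).1 (h _ _ _ _ φ)).comp hb)
    exact (Function.Bijective.of_comp_iff' ((ConcreteCategory.isIso_iff_bijective _).1 (h _ _ _ _ φ')) _).1
      ((congrArg Function.Bijective h2).mp hb')

/-- Abelian case on a locally noetherian scheme (locally noetherian schemes are 'locally arcwise
connected' in the sense of the source): let F be an abelian sheaf on the small etale site of X all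
of whose geometric stalks are finite. Then F is finite locally constant if and only if for every two
geometric points ξ, ξ' of X and every morphism of the corresponding points of the etale site from ξ'
to ξ (a specialization arrow), the induced specialization map on stalks F_ξ -> F_ξ' is an
isomorphism. -/
theorem result (X : Scheme.{u}) [IsLocallyNoetherian X] (F : EtCoh.Ab X)
    (hfin : ∀ (Ω : Type u) [Field Ω] [IsSepClosed Ω] (ξ : Spec (CommRingCat.of Ω) ⟶ X),
      Finite ((EtCoh.stalk ξ).obj F)) :
    EtCoh.IsFiniteLocallyConstant F ↔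
      ∀ (Ω Ω' : Type u) [Field Ω] [IsSepClosed Ω] [Field Ω'] [IsSepClosed Ω']
        (ξ : Spec (CommRingCat.of Ω) ⟶ X) (ξ' : Spec (CommRingCat.of Ω') ⟶ X)
        (φ : Scheme.pointSmallEtale ξ' ⟶ Scheme.pointSmallEtale ξ),
        IsIso ((GrothendieckTopology.Point.Hom.sheafFiber (A := AddCommGrpCat.{u + 1}) φ).app F) := by
  exact main F hfin

end Groth.Agent.S3114
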