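import Groth.Statements.S3115
import Groth.Agent.EtSh.NoethSerre
import Groth.Agent.EtSh.Specialization

set_option autoImplicit false
universe u
open CategoryTheory CategoryTheory.Limits AlgebraicGeometry Opposite
open EtPBC

namespace Groth.Agent.S3115

open Groth.Agent.EtSh

set_option backward.isDefEq.respectTransparency.types false

theorem main {X : Scheme.{u}} [IsLocallyNoetherian X] (F : EtCoh.Ab X)
    (hfin : ∀ (Ω : Type u) [Field Ω] [IsSepClosed Ω] (ξ : Spec (CommRingCat.of Ω) ⟶ X),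
      Finite ((EtCoh.stalk ξ).obj F))
    (hmono : ∀ (Ω Ω' : Type u) [Field Ω] [IsSepClosed Ω] [Field Ω'] [IsSepClosed Ω']
        (ξ : Spec (CommRingCat.of Ω) ⟶ X) (ξ' : Spec (CommRingCat.of Ω') ⟶ X)
        (φ : Scheme.pointSmallEtale ξ' ⟶ Scheme.pointSmallEtale ξ),
        Mono ((GrothendieckTopology.Point.Hom.sheafFiber (A := AddCommGrpCat.{u + 1}) φ).app F)) :
    EtPBC.IsConstructible F := by
  classical
  have key : ∀ x : X, ∃ (V : X.Opens) (c : ℕ), x ∈ V ∧ ∀ (Ω : Type u) [Field Ω] [IsSepClosed Ω]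
      (ξ : Spec (CommRingCat.of Ω) ⟶ X), ξ.base default ∈ V → x ⤳ ξ.base default →
        Nat.card ((EtCoh.stalk ξ).obj F) = c := by
    intro x
    obtain ⟨Ω₀, _, _, ξ₀, hξ₀⟩ := exists_geometric_point x
    have hd : ξ₀.base default = x := Set.eq_of_mem_singleton (hξ₀.le ⟨default, rfl⟩)
    have := hfin Ω₀ ξ₀
    obtain ⟨M, _, _, U, t, e, hb⟩ := exists_hom_sections F ξ₀
    obtain ⟨O, htO, hO⟩ := exists_open_specializes' U (fpt t)
    have : Etale U.hom := U.prop
    refine ⟨⟨U.hom '' (O : Set U.left), U.hom.isOpenMap _ O.2⟩, Nat.card M,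
      ⟨_, htO, (hom_fpt t).trans hd⟩, fun Ω _ _ ξ hV hx => ?_⟩
    obtain ⟨y, hy, hyξ⟩ := hV
    obtain ⟨t', rfl⟩ := exists_fib (ξ := ξ) y hyξ
    obtain ⟨φ, hφ⟩ := exists_specialization t' t (hO _ hy (by rw [hom_fpt, hom_fpt, hd]; exact hx))
    have hinj := (AddCommGrpCat.mono_iff_injective _).1 (hmono _ _ ξ ξ₀ φ)
    have hcomp : ∀ m, (GrothendieckTopology.Point.Hom.sheafFiber (A := AddCommGrpCat.{u + 1}) φ).app F
        (germ ξ F t' (e m)) = germ ξ₀ F t (e m) := fun m => by rw [← hφ]; exact sheafFiber_germ φ F t' _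
    refine (Nat.card_eq_of_bijective (fun m => germ ξ F t' (e m)) ⟨fun a b h => hb.1 ?_, fun p => ?_⟩).symm
    · exact (hcomp a).symm.trans ((congrArg _ h).trans (hcomp b))
    · obtain ⟨m, hm⟩ := hb.2 ((GrothendieckTopology.Point.Hom.sheafFiber (A := AddCommGrpCat.{u + 1}) φ).app F p)
      exact ⟨m, hinj ((hcomp m).trans hm)⟩
  choose V c hV hc using key
  refine (Groth.Agent.S3116.result X F hfin).2 fun n x => ?_
  obtain ⟨U, hU, hxU, -⟩ := exists_isAffineOpen_mem_and_subset (x := x) (U := ⊤) trivial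
  refine ⟨(U : Set X), U.2.mem_nhds hxU, U.2, ?_⟩
  obtain ⟨t, htc, ht⟩ := exists_finite_pieces hU V hV
  let E := fun a : X => (Subtype.val : ↥(U : Set X) → X) ⁻¹' ((V a : Set X) ∩ closure {a})
  have e : (Subtype.val : ↥(U : Set X) → X) ⁻¹' {x : X | ∃ (Ω : Type u) (_ : Field Ω) (_ : IsSepClosed Ω)
      (ξ : Spec (CommRingCat.of Ω) ⟶ X), Set.range ξ = {x} ∧ Nat.card ((EtCoh.stalk ξ).obj F) = n} =
      ⋃ a : {a // a ∈ t.filter (fun a => c a = n)}, E a.1 := by
    ext ⟨y, hy⟩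
    constructor
    · rintro ⟨Ω, _, _, ξ, hξ, hn⟩
      obtain ⟨a, ha, hya⟩ := Set.mem_iUnion₂.1 (ht hy)
      refine Set.mem_iUnion.2 ⟨⟨a, Finset.mem_filter.2 ⟨ha, ?_⟩⟩, hya⟩
      have hξy : ξ.base default = y := Set.eq_of_mem_singleton (hξ.le ⟨default, rfl⟩)
      rw [← hc a Ω ξ (hξy.symm ▸ hya.1) (hξy.symm ▸ specializes_iff_mem_closure.2 hya.2)]
      exact hn
    · intro h
      obtain ⟨⟨a, ha⟩, hya⟩ := Set.mem_iUnion.1 h
      obtain ⟨Ω, _, _, ξ, hξ⟩ := exists_geometric_point y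
      have hξy : ξ.base default = y := Set.eq_of_mem_singleton (hξ.le ⟨default, rfl⟩)
      exact ⟨Ω, inferInstance, inferInstance, ξ, hξ,
        (hc a Ω ξ (hξy.symm ▸ hya.1) (hξy.symm ▸ specializes_iff_mem_closure.2 hya.2)).trans
          (Finset.mem_filter.1 ha).2⟩
  exact e.symm ▸ Topology.IsConstructible.iUnion fun a => htc _ (Finset.mem_filter.1 a.2).1

/-- Let X be locally noetherian and F an abelian sheaf on the small etale site of X with finite
geometric stalks. If for every specialization arrow between geometric points (morphism of the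
corresponding points of the etale site from ξ' to ξ) the specialization map F_ξ -> F_ξ' is
injective, then F is constructible. -/
theorem result (X : Scheme.{u}) [IsLocallyNoetherian X] (F : EtCoh.Ab X)
    (hfin : ∀ (Ω : Type u) [Field Ω] [IsSepClosed Ω] (ξ : Spec (CommRingCat.of Ω) ⟶ X),
      Finite ((EtCoh.stalk ξ).obj F))
    (hmono : ∀ (Ω Ω' : Type u) [Field Ω] [IsSepClosed Ω] [Field Ω'] [IsSepClosed Ω']
        (ξ : Spec (CommRingCat.of Ω) ⟶ X) (ξ' : Spec (CommRingCat.of Ω') ⟶ X)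
        (φ : Scheme.pointSmallEtale ξ' ⟶ Scheme.pointSmallEtale ξ),
        Mono ((GrothendieckTopology.Point.Hom.sheafFiber (A := AddCommGrpCat.{u + 1}) φ).app F)) :
    EtPBC.IsConstructible F := by
  exact main F hfin hmono

end Groth.Agent.S3115
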