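import Groth.Statements.S3120


set_option autoImplicit false
universe u
open CategoryTheory CategoryTheory.Limits AlgebraicGeometry Opposite
open EtDual

namespace Groth.Agent.S3120

/-- Let f : X → Y be a morphism of schemes, j : V → Y an open immersion, and U = X ×_Y V with
projections f' : U → V and j' : U → X (an open immersion). Then for every abelian sheaf G on the
small étale site of V, the sheaves f^*(j_!G) and j'_!(f'^*G) on X are isomorphic. (The published
statement gives a unique isomorphism compatible with the base change map for j_*; only the existence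
of an isomorphism is stated here. The prelude's instances for the inverse image functors along f and
f' are carried as binders.) -/
theorem result {X Y V : Scheme.{u}} (f : X ⟶ Y) (j : V ⟶ Y) [IsOpenImmersion j]
    [EtCoh.BCCont f] [EtCoh.BCCont (pullback.snd f j)] (G : EtCoh.Ab V) :
    Nonempty ((EtCoh.pull f).obj ((EtShriek.extZero j).obj G) ≅
      (EtShriek.extZero (pullback.fst f j)).obj ((EtCoh.pull (pullback.snd f j)).obj G)) := by
  let f' := pullback.snd f j
  let j' := pullback.fst f j
  let e : EtShriek.compEtale j ⋙ EtCoh.bc f ≅ EtCoh.bc f' ⋙ EtShriek.compEtale j' :=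
    let hP := fun W : V.Etale =>
      (IsPullback.of_hasPullback W.hom f').paste_vert (IsPullback.of_hasPullback f j).flip
    NatIso.ofComponents (fun W => MorphismProperty.Over.isoMk (hP W).isoPullback.symm
      ((hP W).isoPullback_inv_snd))
      (fun {A B} g => by
        apply MorphismProperty.Over.Hom.ext
        apply (hP B).hom_ext
        · show (_ ≫ (hP B).isoPullback.inv) ≫ _ = ((hP A).isoPullback.inv ≫ _) ≫ _
          rw [Category.assoc, Category.assoc, (hP B).isoPullback_inv_fst]
          refine (pullback.lift_fst _ _ _).trans ?_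
          refine Eq.trans ?_ (congrArg ((hP A).isoPullback.inv ≫ ·) (pullback.lift_fst _ _ _).symm)
          exact ((congrArg (· ≫ g.left) (hP A).isoPullback_inv_fst).symm.trans (Category.assoc _ _ _))
        · show (_ ≫ (hP B).isoPullback.inv) ≫ _ = ((hP A).isoPullback.inv ≫ _) ≫ _
          rw [Category.assoc, Category.assoc, (hP B).isoPullback_inv_snd]
          refine (pullback.lift_snd _ _ _).trans ?_
          refine Eq.trans ?_ (congrArg ((hP A).isoPullback.inv ≫ ·) (pullback.lift_snd_assoc _ _ _ _).symm)
          exact (hP A).isoPullback_inv_snd.symm)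
  haveI h₁ : (EtShriek.compEtale j ⋙ EtCoh.bc f).IsContinuous V.smallEtaleTopology X.smallEtaleTopology :=
    Functor.isContinuous_comp _ _ _ Y.smallEtaleTopology _
  haveI h₂ : (EtCoh.bc f' ⋙ EtShriek.compEtale j').IsContinuous V.smallEtaleTopology X.smallEtaleTopology :=
    Functor.isContinuous_comp _ _ _ (pullback f j).smallEtaleTopology _
  let eR : EtCoh.push f ⋙ EtShriek.restrAlong j ≅ EtShriek.restrAlong j' ⋙ EtCoh.push f' :=
    Functor.sheafPushforwardContinuousComp (EtShriek.compEtale j) (EtCoh.bc f) AddCommGrpCat.{u + 1} _ _ _ ≪≫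
      Functor.sheafPushforwardContinuousIso e _ _ _ ≪≫
      (Functor.sheafPushforwardContinuousComp (EtCoh.bc f') (EtShriek.compEtale j') AddCommGrpCat.{u + 1} _ _ _).symm
  exact ⟨((((EtShriek.extZeroAdj j).comp (EtCoh.pullPushAdj f)).ofNatIsoRight eR).leftAdjointUniq
    ((EtCoh.pullPushAdj f').comp (EtShriek.extZeroAdj j'))).app G⟩

end Groth.Agent.S3120
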