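import Groth.Statements.S3140

set_option autoImplicit false
universe u
open RingTheory.Sequence
open SGA4h

namespace Groth.Agent.S3140

open Ideal
open scoped Pointwise

variable {A : Type u} [CommRing A]

/-- elementary step -/
def Step (w w' : List A) : Prop := w.Perm w' ∨ (w.length = w'.length ∧ w.dropLast = w'.dropLast)

/-- regular sequences generating `I` -/
def G (I : Ideal A) (w : List A) : Prop := IsWeaklyRegular A w ∧ ofList w = I

def R1 (I : Ideal A) (w w' : List A) : Prop := G I w ∧ G I w' ∧ Step w w'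

abbrev Reach (I : Ideal A) : List A → List A → Prop := Relation.ReflTransGen (R1 I)

theorem R1.symm {I : Ideal A} : ∀ {w w' : List A}, R1 I w w' → R1 I w' w := by
  rintro w w' ⟨h, h', hs | ⟨hl, hd⟩⟩
  · exact ⟨h', h, Or.inl hs.symm⟩
  · exact ⟨h', h, Or.inr ⟨hl.symm, hd.symm⟩⟩

theorem reach_symm {I : Ideal A} {w w' : List A} (h : Reach I w w') : Reach I w' w := by
  induction h with
  | refl => exact .refl
  | tail _ h ih => exact Relation.ReflTransGen.head h.symm ih

theorem ofList_perm {w w' : List A} (h : w.Perm w') : ofList w = ofList w' :=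
  congrArg Ideal.span (Set.ext fun _ => h.mem_iff)

theorem G.perm [IsLocalRing A] [IsNoetherianRing A] {I : Ideal A} (hI : I ≠ ⊤) {w w' : List A}
    (h : G I w) (p : w.Perm w') : G I w' := by
  refine ⟨IsLocalRing.isWeaklyRegular_of_perm_of_subset_maximalIdeal h.1 p (fun r hr => ?_), (ofList_perm p).symm.trans h.2⟩
  exact IsLocalRing.le_maximalIdeal hI (h.2 ▸ Ideal.subset_span hr)

theorem wr_cons (x : A) (l : List A) :
    IsWeaklyRegular A (x :: l) ↔
      IsSMulRegular A x ∧ IsWeaklyRegular (A ⧸ span {x}) (l.map (Ideal.Quotient.mk (span {x}))) := by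
  have h : x • (⊤ : Submodule A A) = (span {x} : Ideal A) := by
    rw [← Submodule.ideal_span_singleton_smul, smul_eq_mul, Ideal.mul_top]
  rw [isWeaklyRegular_cons_iff]
  refine and_congr_right' ?_
  rw [(Submodule.quotEquivOfEq _ _ h).isWeaklyRegular_congr l, ← Ideal.Quotient.algebraMap_eq]
  exact (isWeaklyRegular_map_algebraMap_iff (A ⧸ span {x}) (A ⧸ span {x}) l).symm

theorem G_cons_iff {I : Ideal A} {x : A} (hx : IsSMulRegular A x) (hxI : x ∈ I) (l : List A) :
    G I (x :: l) ↔ G (I.map (Ideal.Quotient.mk (span {x}))) (l.map (Ideal.Quotient.mk (span {x}))) := by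
  unfold G
  rw [wr_cons]
  refine and_congr ⟨And.right, fun h => ⟨hx, h⟩⟩ ?_
  have e1 : ∀ J : Ideal A, (J.map (Ideal.Quotient.mk (span {x}))).comap (Ideal.Quotient.mk (span {x}))
      = span {x} ⊔ J := fun J => by
    rw [Ideal.comap_map_of_surjective _ Ideal.Quotient.mk_surjective, ← RingHom.ker_eq_comap_bot,
      Ideal.mk_ker, sup_comm]
  have e2 : span {x} ⊔ I = I := sup_eq_right.mpr ((Ideal.span_singleton_le_iff_mem I).mpr hxI)
  constructor
  · intro h
    apply Ideal.comap_injective_of_surjective _ (Ideal.Quotient.mk_surjective (I := span {x}))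
    rw [← Ideal.map_ofList, e1, e1, e2, ← h, ofList_cons]
  · intro h
    rw [← Ideal.map_ofList] at h
    have := congrArg (Ideal.comap (Ideal.Quotient.mk (span {x}))) h
    rw [e1, e1, e2] at this
    rw [ofList_cons, this]

theorem exists_perm_lift {B : Type u} {f : A → B} {m m' : List B} (p : m.Perm m') :
    ∀ L : List A, L.map f = m → ∃ L' : List A, L.Perm L' ∧ L'.map f = m' := by
  induction p with
  | nil => intro L hL; exact ⟨L, .refl _, hL⟩
  | cons b _ ih =>
    intro L hL
    obtain ⟨a, L₁, rfl, ha, hL₁⟩ := List.map_eq_cons_iff.mp hL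
    obtain ⟨L', hp, hm⟩ := ih L₁ hL₁
    exact ⟨a :: L', hp.cons a, by simp [ha, hm]⟩
  | swap b c l =>
    intro L hL
    obtain ⟨a, L₁, rfl, ha, hL₁⟩ := List.map_eq_cons_iff.mp hL
    obtain ⟨a', L₂, rfl, ha', hL₂⟩ := List.map_eq_cons_iff.mp hL₁
    exact ⟨a' :: a :: L₂, List.Perm.swap a' a L₂, by simp [ha, ha', hL₂]⟩
  | trans _ _ ih₁ ih₂ =>
    intro L hL
    obtain ⟨L', hp, hm⟩ := ih₁ L hL
    obtain ⟨L'', hp', hm'⟩ := ih₂ L' hm
    exact ⟨L'', hp.trans hp', hm'⟩

theorem change_tail [IsLocalRing A] [IsNoetherianRing A] {I : Ideal A} (hI : I ≠ ⊤) {x : A}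
    (hx : IsSMulRegular A x) (hxI : x ∈ I) :
    ∀ (L L' P : List A), L.map (Ideal.Quotient.mk (span {x})) = L'.map (Ideal.Quotient.mk (span {x})) →
      G I (x :: (P ++ L)) → Reach I (x :: (P ++ L)) (x :: (P ++ L')) := by
  intro L
  induction L with
  | nil =>
    intro L' P h _
    cases L' with
    | nil => exact .refl
    | cons a l => simp at h
  | cons a L ih =>
    intro L' P h hG
    cases L' with
    | nil => simp at h
    | cons a' L' =>
      obtain ⟨ha, hL⟩ := List.cons.inj (by simpa using h :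
        Ideal.Quotient.mk (span {x}) a :: L.map (Ideal.Quotient.mk (span {x})) =
          Ideal.Quotient.mk (span {x}) a' :: L'.map (Ideal.Quotient.mk (span {x})))
      have hG' : G I (x :: (P ++ a' :: L)) := by
        rw [G_cons_iff hx hxI] at hG ⊢
        simpa [ha] using hG
      have p : ∀ b : A, (x :: (P ++ b :: L)).Perm ((x :: (P ++ L)) ++ [b]) := fun b => by
        rw [List.cons_append]
        exact List.Perm.cons x ((List.perm_middle).trans (List.perm_append_singleton b _).symm)
      have h1 : Reach I (x :: (P ++ a :: L)) (x :: (P ++ a' :: L)) := by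
        refine Relation.ReflTransGen.head ⟨hG, hG.perm hI (p a), Or.inl (p a)⟩ ?_
        refine Relation.ReflTransGen.head ⟨hG.perm hI (p a), hG'.perm hI (p a'), Or.inr ⟨by simp, ?_⟩⟩ ?_
        · rw [List.dropLast_concat, List.dropLast_concat]
        · exact .single ⟨hG'.perm hI (p a'), hG', Or.inl (p a').symm⟩
      have h2 := ih L' (P ++ [a']) hL (by simpa using hG')
      simp only [List.append_assoc, List.cons_append, List.nil_append] at h2
      exact h1.trans h2

theorem lift_reach [IsLocalRing A] [IsNoetherianRing A] {I : Ideal A} (hI : I ≠ ⊤) {x : A}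
    (hx : IsSMulRegular A x) (hxI : x ∈ I) {m m' : List (A ⧸ span {x})}
    (h : Reach (I.map (Ideal.Quotient.mk (span {x}))) m m')
    (L : List A) (hL : L.map (Ideal.Quotient.mk (span {x})) = m) (hG : G I (x :: L)) :
    ∃ L', L'.map (Ideal.Quotient.mk (span {x})) = m' ∧ G I (x :: L') ∧ Reach I (x :: L) (x :: L') := by
  induction h with
  | refl => exact ⟨L, hL, hG, .refl⟩
  | @tail m₁ m₂ _ hs ih =>
    obtain ⟨L₁, hL₁, hG₁, hr⟩ := ih
    obtain ⟨-, hG₂', hs⟩ := hs
    suffices ∃ L₂ : List A, L₂.map (Ideal.Quotient.mk (span {x})) = m₂ ∧ Step (x :: L₁) (x :: L₂) by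
      obtain ⟨L₂, hL₂, hst⟩ := this
      have hG₂ : G I (x :: L₂) := (G_cons_iff hx hxI L₂).mpr (hL₂ ▸ hG₂')
      exact ⟨L₂, hL₂, hG₂, hr.tail ⟨hG₁, hG₂, hst⟩⟩
    rcases hs with hp | ⟨hl, hd⟩
    · obtain ⟨L₂, hp', hm⟩ := exists_perm_lift hp L₁ hL₁
      exact ⟨L₂, hm, Or.inl (hp'.cons x)⟩
    · rcases List.eq_nil_or_concat m₂ with rfl | ⟨M, b, rfl⟩
      · have : L₁ = [] := by
          subst hL₁; simpa using hl
        subst this
        exact ⟨[], rfl, Or.inl (.refl _)⟩
      · obtain ⟨b', rfl⟩ := Ideal.Quotient.mk_surjective b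
        subst hL₁
        rw [List.concat_eq_append] at hl hd ⊢
        rw [List.dropLast_concat, ← List.map_dropLast] at hd
        refine ⟨L₁.dropLast ++ [b'], by simp [hd], Or.inr ?_⟩
        have hne : L₁ ≠ [] := by
          intro e; subst e; simp at hl
        have hpos : 0 < L₁.length := List.length_pos_of_ne_nil hne
        refine ⟨by simp; omega, ?_⟩
        rw [List.dropLast_cons_of_ne_nil hne, ← List.cons_append, List.dropLast_concat]

theorem not_mem_of_G [IsLocalRing A] [IsNoetherianRing A] {I : Ideal A} (hI : I ≠ ⊤) {w : List A} {a : A}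
    (h : G I (w ++ [a])) : a ∉ ofList w ⊔ IsLocalRing.maximalIdeal A * I := by
  intro hmem
  have hle : I ≤ ofList w ⊔ IsLocalRing.maximalIdeal A • I := by
    conv_lhs => rw [← h.2]
    rw [ofList_append, ofList_singleton, smul_eq_mul]
    exact sup_le le_sup_left ((Ideal.span_singleton_le_iff_mem _).mpr hmem)
  have hle2 : I ≤ ofList w :=
    Submodule.le_of_le_smul_of_le_jacobson_bot (IsNoetherian.noetherian I)
      (IsLocalRing.maximalIdeal_le_jacobson ⊥) hle
  have haw : a ∈ ofList w := hle2 (h.2 ▸ Ideal.subset_span (by simp))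
  have hreg := ((isWeaklyRegular_append_iff A w [a]).mp h.1).2
  rw [isWeaklyRegular_singleton_iff] at hreg
  have hN : (ofList w • ⊤ : Submodule A A) = ofList w := by simp
  have h0 : a • (Submodule.Quotient.mk (1 : A) : A ⧸ (ofList w • ⊤ : Submodule A A)) = a • 0 := by
    rw [smul_zero, ← Submodule.Quotient.mk_smul, Submodule.Quotient.mk_eq_zero, hN]
    simpa using haw
  have h1 := hreg h0
  rw [Submodule.Quotient.mk_eq_zero, hN] at h1
  refine hI ((Ideal.eq_top_iff_one _).mpr ?_)
  rw [← h.2, ofList_append]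
  exact le_sup_left (a := ofList w) h1

theorem change_last [IsLocalRing A] [IsNoetherianRing A] {I : Ideal A} (hI : I ≠ ⊤) {w : List A} {a x : A}
    (h : G I (w ++ [a])) (hxI : x ∈ I) (hx : x ∉ ofList w ⊔ IsLocalRing.maximalIdeal A * I) :
    G I (x :: w) ∧ Reach I (w ++ [a]) (x :: w) := by
  have h2 : ofList w ⊔ span {a} = I := by rw [← h.2, ofList_append, ofList_singleton]
  obtain ⟨s, hs, t, ht, hst⟩ := Submodule.mem_sup.mp (h2.symm ▸ hxI)
  obtain ⟨c, rfl⟩ := Ideal.mem_span_singleton'.mp ht
  have hc : IsUnit c := by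
    by_contra hc
    apply hx
    rw [← hst]
    refine Submodule.add_mem_sup hs (Ideal.mul_mem_mul ((IsLocalRing.mem_maximalIdeal c).mpr hc) ?_)
    exact h2 ▸ Ideal.mem_sup_right (Ideal.mem_span_singleton_self a)
  have hG : G I (w ++ [x]) := by
    constructor
    · rw [isWeaklyRegular_append_iff, isWeaklyRegular_singleton_iff]
      obtain ⟨hw, hreg⟩ := (isWeaklyRegular_append_iff A w [a]).mp h.1
      rw [isWeaklyRegular_singleton_iff] at hreg
      refine ⟨hw, ?_⟩
      have e : ∀ q : A ⧸ (ofList w • ⊤ : Submodule A A), x • q = c • a • q := by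
        intro q
        induction q using Submodule.Quotient.induction_on with
        | H y =>
          rw [← Submodule.Quotient.mk_smul, ← Submodule.Quotient.mk_smul, ← Submodule.Quotient.mk_smul,
            Submodule.Quotient.eq]
          have : x • y - c • a • y = s * y := by
            simp only [smul_eq_mul, ← hst]; ring
          rw [this]
          simpa using Ideal.mul_mem_right y (ofList w) hs
      intro q q' hq
      simp only [e] at hq
      exact hreg ((hc.smul_left_cancel).mp hq)
    · rw [ofList_append, ofList_singleton]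
      refine le_antisymm (sup_le (h2 ▸ le_sup_left) ((Ideal.span_singleton_le_iff_mem _).mpr hxI)) ?_
      conv_lhs => rw [← h2]
      refine sup_le le_sup_left ((Ideal.span_singleton_le_iff_mem _).mpr ?_)
      obtain ⟨c, rfl⟩ := hc
      have : a = (↑c⁻¹ : A) * x - (↑c⁻¹ : A) * s := by
        rw [← hst, mul_add, ← mul_assoc, c.inv_mul, one_mul, add_sub_cancel_left]
      rw [this]
      exact sub_mem (Ideal.mul_mem_left _ _ (Ideal.mem_sup_right (Ideal.mem_span_singleton_self x)))
        (Ideal.mul_mem_left _ _ (Ideal.mem_sup_left hs))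
  have p : (w ++ [x]).Perm (x :: w) := List.perm_append_singleton x w
  refine ⟨hG.perm hI p, ?_⟩
  exact Relation.ReflTransGen.head ⟨h, hG, Or.inr ⟨by simp, by simp⟩⟩
    (.single ⟨hG, hG.perm hI p, Or.inl p⟩)

theorem main : ∀ (n : ℕ) (A : Type u) [CommRing A] [IsLocalRing A] [IsNoetherianRing A] (I : Ideal A),
    I ≠ ⊤ → ∀ u v : List A, u.length = n → G I u → G I v → Reach I u v := by
  intro n
  induction n with
  | zero =>
    intro A _ _ _ I hI u v hn hu hv
    obtain rfl : u = [] := List.length_eq_zero_iff.mp hn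
    cases v with
    | nil => exact .refl
    | cons b l =>
      exfalso
      have hb : b ∈ I := hv.2 ▸ Ideal.subset_span (by simp)
      rw [← hu.2, ofList_nil, Ideal.mem_bot] at hb
      have := ((isWeaklyRegular_cons_iff A b l).mp hv.1).1
      exact one_ne_zero (this (by simp [hb] : b • (1 : A) = b • 0))
  | succ n ih =>
    intro A _ _ _ I hI u v hn hu hv
    rcases List.eq_nil_or_concat u with rfl | ⟨u', a, rfl⟩
    · simp at hn
    rw [List.concat_eq_append] at hu hn ⊢
    rcases List.eq_nil_or_concat v with rfl | ⟨v', b, rfl⟩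
    · exfalso
      apply not_mem_of_G hI hu
      have ha : a ∈ I := hu.2 ▸ Ideal.subset_span (by simp)
      rw [← hv.2, ofList_nil, Ideal.mem_bot] at ha
      simp [ha]
    rw [List.concat_eq_append] at hv ⊢
    have h1 := not_mem_of_G hI hu
    have h2 := not_mem_of_G hI hv
    have haI : a ∈ I := hu.2 ▸ Ideal.subset_span (by simp)
    have hbI : b ∈ I := hv.2 ▸ Ideal.subset_span (by simp)
    obtain ⟨x, hxI, hx1, hx2⟩ : ∃ x ∈ I, x ∉ ofList u' ⊔ IsLocalRing.maximalIdeal A * I ∧
        x ∉ ofList v' ⊔ IsLocalRing.maximalIdeal A * I := by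
      by_cases h3 : a ∈ ofList v' ⊔ IsLocalRing.maximalIdeal A * I
      · by_cases h4 : b ∈ ofList u' ⊔ IsLocalRing.maximalIdeal A * I
        · exact ⟨a + b, add_mem haI hbI, fun h => h1 ((Submodule.add_mem_iff_left _ h4).mp h),
            fun h => h2 ((Submodule.add_mem_iff_right _ h3).mp h)⟩
        · exact ⟨b, hbI, h4, h2⟩
      · exact ⟨a, haI, h1, h3⟩
    obtain ⟨hGu, hru⟩ := change_last hI hu hxI hx1
    obtain ⟨hGv, hrv⟩ := change_last hI hv hxI hx2
    have hxreg : IsSMulRegular A x := ((wr_cons x u').mp hGu.1).1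
    have hxm : x ∈ IsLocalRing.maximalIdeal A := IsLocalRing.le_maximalIdeal hI hxI
    haveI : Nontrivial (A ⧸ span {x}) := Ideal.Quotient.nontrivial_iff.mpr
      (fun h => hI (top_le_iff.mp (h ▸ (Ideal.span_singleton_le_iff_mem I).mpr hxI)))
    haveI : IsLocalRing (A ⧸ span {x}) :=
      IsLocalRing.of_surjective' (Ideal.Quotient.mk _) Ideal.Quotient.mk_surjective
    haveI : IsNoetherianRing (A ⧸ span {x}) :=
      isNoetherianRing_of_surjective A _ (Ideal.Quotient.mk _) Ideal.Quotient.mk_surjective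
    have hI' : I.map (Ideal.Quotient.mk (span {x})) ≠ ⊤ := by
      refine ne_top_of_le_ne_top (IsLocalRing.maximalIdeal.isMaximal _).ne_top ?_
      rw [Ideal.map_le_iff_le_comap]
      intro y hy
      rw [Ideal.mem_comap, IsLocalRing.mem_maximalIdeal]
      intro hu
      have h1 : (I.map (Ideal.Quotient.mk (span {x}))).comap (Ideal.Quotient.mk (span {x})) = I := by
        rw [Ideal.comap_map_of_surjective _ Ideal.Quotient.mk_surjective, ← RingHom.ker_eq_comap_bot,
          Ideal.mk_ker, sup_eq_left.mpr ((Ideal.span_singleton_le_iff_mem I).mpr hxI)]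
      have h2 : I.map (Ideal.Quotient.mk (span {x})) = ⊤ :=
        Ideal.eq_top_of_isUnit_mem _ (Ideal.mem_map_of_mem _ hy) hu
      rw [h2, Ideal.comap_top] at h1
      exact hI h1.symm
    have hb := ih (A ⧸ span {x}) _ hI' (u'.map (Ideal.Quotient.mk (span {x})))
      (v'.map (Ideal.Quotient.mk (span {x}))) (by simpa using hn)
      ((G_cons_iff hxreg hxI u').mp hGu) ((G_cons_iff hxreg hxI v').mp hGv)
    obtain ⟨L, hL, hGL, hrL⟩ := lift_reach hI hxreg hxI hb u' rfl hGu
    have h5 := change_tail hI hxreg hxI L v' [] hL (by simpa using hGL)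
    exact hru.trans (hrL.trans (h5.trans (reach_symm hrv)))

theorem reach_list {I : Ideal A} {w w' : List A} (h : Reach I w w') (hG : G I w) :
    ∃ ws : List (List A), ws.head? = some w ∧ ws.getLast? = some w' ∧ (∀ z ∈ ws, G I z) ∧
      List.IsChain Step ws := by
  induction h using Relation.ReflTransGen.head_induction_on with
  | refl => exact ⟨[w'], rfl, rfl, by simpa using hG, List.isChain_singleton _⟩
  | @head a c hac _ ih =>
    obtain ⟨ws, h1, h2, h3, h4⟩ := ih hac.2.1
    cases ws with
    | nil => simp at h1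
    | cons c' t =>
      obtain rfl : c' = c := by simpa using h1
      refine ⟨a :: c' :: t, rfl, ?_, ?_, List.IsChain.cons_cons hac.2.2 h4⟩
      · simpa using h2
      · intro z hz
        rcases List.mem_cons.mp hz with rfl | hz
        · exact hG
        · exact h3 z hz

/-- Let A be a Noetherian local ring and u, v two regular sequences of elements of A generating the same
ideal. Then there is a finite chain of regular sequences generating that same ideal, starting at u
and ending at v, in which each sequence is obtained from the previous one either by a permutation or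
by changing only its last element. -/
theorem result (A : Type u) [CommRing A] [IsLocalRing A] [IsNoetherianRing A]
    (u v : List A) (hu : IsRegular A u) (hv : IsRegular A v) (huv : Ideal.span {x | x ∈ u} = Ideal.span {x | x ∈ v}) :
    ∃ ws : List (List A), ws.head? = some u ∧ ws.getLast? = some v ∧
      (∀ w ∈ ws, IsRegular A w ∧ Ideal.span {x | x ∈ w} = Ideal.span {x | x ∈ u}) ∧
      List.IsChain (fun w w' : List A => w.Perm w' ∨ (w.length = w'.length ∧ w.dropLast = w'.dropLast)) ws := by
  have hI : Ideal.ofList u ≠ ⊤ := fun h => hu.top_ne_smul (by rw [h]; simp)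
  have hGu : G (Ideal.ofList u) u := ⟨hu.toIsWeaklyRegular, rfl⟩
  have hGv : G (Ideal.ofList u) v := ⟨hv.toIsWeaklyRegular, huv.symm⟩
  obtain ⟨ws, h1, h2, h3, h4⟩ := reach_list (main _ A _ hI u v rfl hGu hGv) hGu
  refine ⟨ws, h1, h2, fun w hw => ⟨⟨(h3 w hw).1, ?_⟩, (h3 w hw).2⟩, h4⟩
  rw [(h3 w hw).2]
  simpa using (Ne.symm hI)

end Groth.Agent.S3140
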