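import Groth.Statements.S6604
import Groth.Agent.Triang.Quotient
import Mathlib.CategoryTheory.Preadditive.AdditiveFunctor

set_option autoImplicit false
set_option backward.isDefEq.respectTransparency false
set_option backward.defeqAttrib.useBackward true
universe v u v' u'
open CategoryTheory CategoryTheory.Limits
open CohDer

namespace Groth.Agent.S6604

/-- Let D be a triangulated category, B a full triangulated subcategory and Q : D → D/B the quotient
functor. Q sends an object Z of D to zero (Q(Z) = 0, i.e. Z belongs to the kernel of Q) exactly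
when, for a suitable object Z' of D, the direct sum Z ⊞ Z' is isomorphic to some object lying in B;
put differently, the kernel is the smallest saturated, strictly full triangulated subcategory that
contains B. -/
theorem result {D : Type u} [Category.{v} D] [Preadditive D] [HasZeroObject D] [HasShift D ℤ]
    [∀ n : ℤ, (shiftFunctor D n).Additive] [Pretriangulated D] [IsTriangulated D]
    (B : ObjectProperty D) [B.IsTriangulated]
    {E : Type u'} [Category.{v'} E] (Q : D ⥤ E) [Q.IsLocalization B.trW] (Z : D) :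
    IsZero (Q.obj Z) ↔ ∃ (Z' Y : D), B Y ∧ Nonempty (Z ⊞ Z' ≅ Y) := by
  open ZeroObject in
  constructor
  · intro hz
    obtain ⟨Z', hs⟩ := (Triang.isZero_obj_iff_postcomp Q B.trW Z).1 hz
    obtain ⟨W, g, h, hT, hW⟩ := hs
    have hT' := Pretriangulated.rot_of_distTriang _ hT
    obtain ⟨e, -, -⟩ := Pretriangulated.exists_iso_binaryBiproduct_of_distTriang _ hT' (by simp)
    obtain ⟨e₁⟩ : Nonempty ((W⟦(-1 : ℤ)⟧ : D) ≅ Z ⊞ Z'⟦(-1 : ℤ)⟧) := by
      have : PreservesBinaryBiproducts (shiftFunctor D (-1 : ℤ)) := preservesBinaryBiproducts_of_preservesBiproducts _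
      exact ⟨(shiftFunctor D (-1 : ℤ)).mapIso (e ≪≫ biprod.braiding _ _) ≪≫
        (shiftFunctor D (-1 : ℤ)).mapBiprod _ _ ≪≫
        biprod.mapIso ((shiftFunctorCompIsoId D (1 : ℤ) (-1) (by simp)).app Z) (Iso.refl _)⟩
    exact ⟨_, _, B.le_shift (-1 : ℤ) _ hW, ⟨e₁.symm⟩⟩
  · rintro ⟨Z', Y, hY, ⟨e⟩⟩
    have hY' : B.trW (0 : Y ⟶ (0 : D)) := by
      refine ⟨Y⟦(1 : ℤ)⟧, 0, -𝟙 _, ?_, B.le_shift (1 : ℤ) _ hY⟩
      refine Pretriangulated.isomorphic_distinguished _ (Pretriangulated.rot_of_distTriang _ (Pretriangulated.contractible_distinguished Y)) _ ?_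
      exact Pretriangulated.Triangle.isoMk _ _ (Iso.refl _) (Iso.refl _) (Iso.refl _) (by simp) (by simp) (by simp)
    letI := Localization.preadditive Q B.trW
    have := Localization.functor_additive Q B.trW
    have hz : IsZero (Q.obj Y) := (Triang.isZero_obj_iff_postcomp Q B.trW Y).2 ⟨0, hY'⟩
    have : IsSplitMono ((biprod.inl : Z ⟶ Z ⊞ Z') ≫ e.hom) := ⟨⟨⟨e.inv ≫ biprod.fst, by simp⟩⟩⟩
    exact IsZero.of_mono (Q.map ((biprod.inl : Z ⟶ Z ⊞ Z') ≫ e.hom)) hz

end Groth.Agent.S6604
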