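import Groth.Statements.S3206
import Mathlib

set_option autoImplicit false
open SGA7

namespace Groth.Agent.S3206


open Finsupp

variable {k : Type} [Field k] {n : ℕ}

/-- Vanishing below a given degree. -/
private def Low (d : ℕ) (g : MvPowerSeries (Fin n) k) : Prop :=
  ∀ m : Fin n →₀ ℕ, m.degree < d → MvPowerSeries.coeff m g = 0

private theorem Low.mono {d e : ℕ} {g : MvPowerSeries (Fin n) k} (h : Low d g) (he : e ≤ d) : Low e g :=
  fun m hm => h m (by omega)

private theorem Low.add {d : ℕ} {g h : MvPowerSeries (Fin n) k} (hg : Low d g) (hh : Low d h) : Low d (g + h) :=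
  fun m hm => by rw [map_add, hg m hm, hh m hm, add_zero]

private theorem Low.neg {d : ℕ} {g : MvPowerSeries (Fin n) k} (hg : Low d g) : Low d (-g) :=
  fun m hm => by rw [map_neg, hg m hm, neg_zero]

private theorem Low.sub {d : ℕ} {g h : MvPowerSeries (Fin n) k} (hg : Low d g) (hh : Low d h) : Low d (g - h) :=
  fun m hm => by rw [map_sub, hg m hm, hh m hm, sub_zero]

private theorem Low.sum {ι : Type*} {d : ℕ} (s : Finset ι) {g : ι → MvPowerSeries (Fin n) k}
    (hg : ∀ i ∈ s, Low d (g i)) : Low d (∑ i ∈ s, g i) :=
  fun m hm => by rw [map_sum]; exact Finset.sum_eq_zero fun i hi => hg i hi m hm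

private theorem Low.mul {a b : ℕ} {g h : MvPowerSeries (Fin n) k} (hg : Low a g) (hh : Low b h) :
    Low (a + b) (g * h) := by
  classical
  intro m hm
  rw [MvPowerSeries.coeff_mul]
  refine Finset.sum_eq_zero fun p hp => ?_
  rw [Finset.HasAntidiagonal.mem_antidiagonal] at hp
  have : p.1.degree + p.2.degree = m.degree := by rw [← map_add, hp]
  by_cases h1 : p.1.degree < a
  · rw [hg _ h1, zero_mul]
  · rw [hh _ (by omega), mul_zero]

private theorem low_zero (d : ℕ) : Low d (0 : MvPowerSeries (Fin n) k) := fun m _ => map_zero _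

private theorem Low.C_mul {d : ℕ} {g : MvPowerSeries (Fin n) k} (c : k) (hg : Low d g) :
    Low d (MvPowerSeries.C c * g) :=
  fun m hm => by rw [MvPowerSeries.coeff_C_mul, hg m hm, mul_zero]

/-- The part of `g` divisible by `X j` but by no earlier variable, divided by `X j`. -/
private noncomputable def divVar (j : Fin n) (g : MvPowerSeries (Fin n) k) : MvPowerSeries (Fin n) k :=
  fun m => if ∀ l, l < j → m l = 0 then MvPowerSeries.coeff (m + single j 1) g else 0

private theorem coeff_divVar (j : Fin n) (g : MvPowerSeries (Fin n) k) (m : Fin n →₀ ℕ) :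
    MvPowerSeries.coeff m (divVar j g) = if ∀ l, l < j → m l = 0 then MvPowerSeries.coeff (m + single j 1) g else 0 := rfl

private theorem low_divVar (j : Fin n) {d : ℕ} {g : MvPowerSeries (Fin n) k} (hg : Low (d + 1) g) :
    Low d (divVar j g) := fun m hm => by
  rw [coeff_divVar]
  split_ifs
  · exact hg _ (by rw [map_add, degree_single]; omega)
  · rfl

private theorem divVar_sub (j : Fin n) (g h : MvPowerSeries (Fin n) k) : divVar j (g - h) = divVar j g - divVar j h := by
  ext m
  rw [map_sub, coeff_divVar, coeff_divVar, coeff_divVar]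
  split_ifs <;> simp

private theorem sum_X_mul_divVar {g : MvPowerSeries (Fin n) k} (hg : Low 1 g) :
    ∑ j, MvPowerSeries.X j * divVar j g = g := by
  classical
  ext m
  rw [map_sum]
  simp only [MvPowerSeries.X_def, MvPowerSeries.coeff_monomial_mul, one_mul, coeff_divVar]
  by_cases hm : m = 0
  · subst hm
    rw [hg 0 (by simp)]
    refine Finset.sum_eq_zero fun j _ => if_neg fun hle => ?_
    have := hle j
    simp at this
  · have hex : ∃ j, m j ≠ 0 := by
      by_contra hcon
      push Not at hcon
      exact hm (Finsupp.ext hcon)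
    obtain ⟨j₀, hj₀, hmin⟩ : ∃ j₀, m j₀ ≠ 0 ∧ ∀ l, l < j₀ → m l = 0 := by
      obtain ⟨j₀, hj, hmin⟩ := (Finset.univ.filter fun j => m j ≠ 0).exists_min_image id
        (hex.elim fun j hj => ⟨j, by simp [hj]⟩)
      refine ⟨j₀, (Finset.mem_filter.1 hj).2, fun l hl => by_contra fun h0 => ?_⟩
      exact absurd (hmin l (Finset.mem_filter.2 ⟨Finset.mem_univ _, h0⟩)) (not_le.2 hl)
    have hle : single j₀ 1 ≤ m := by
      intro l
      by_cases hl : l = j₀
      · subst hl; rw [single_eq_same]; omega
      · rw [single_eq_of_ne hl]; exact Nat.zero_le _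
    rw [Finset.sum_eq_single j₀]
    · rw [if_pos hle, if_pos, tsub_add_cancel_of_le hle]
      intro l hl
      rw [Finsupp.tsub_apply, hmin l hl]; simp
    · intro j _ hne
      by_cases hj : single j 1 ≤ m
      · rw [if_pos hj, if_neg]
        intro hall
        have h1 : j₀ < j → False := fun hlt => by
          have := hall j₀ hlt
          rw [Finsupp.tsub_apply, single_eq_of_ne (Ne.symm hne), Nat.sub_zero] at this
          exact hj₀ this
        rcases lt_or_gt_of_ne hne with hlt | hlt
        · have := hj j
          rw [single_eq_same, hmin j hlt] at this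
          omega
        · exact h1 hlt
      · rw [if_neg hj]
    · simp

private theorem coeff_single_one_mul (b g : MvPowerSeries (Fin n) k) (hg : MvPowerSeries.constantCoeff g = 0)
    (l : Fin n) : MvPowerSeries.coeff (single l 1) (b * g) =
      MvPowerSeries.constantCoeff b * MvPowerSeries.coeff (single l 1) g := by
  classical
  rw [MvPowerSeries.coeff_mul, Finsupp.antidiagonal_single, Finset.sum_map]
  rw [show (Finset.HasAntidiagonal.antidiagonal 1 : Finset (ℕ × ℕ)) = {(0, 1), (1, 0)} from rfl]
  simp [hg]

private theorem degree_one {m : Fin n →₀ ℕ} (hm : m.degree = 1) : ∃ i, single i 1 = m := by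
  obtain ⟨i, hi⟩ : ∃ i, m i ≠ 0 := by
    by_contra hcon
    push Not at hcon
    rw [show m = 0 from Finsupp.ext hcon, map_zero] at hm
    omega
  have hle : single i 1 ≤ m := by
    intro l
    by_cases hl : l = i
    · subst hl; rw [single_eq_same]; omega
    · rw [single_eq_of_ne hl]; exact Nat.zero_le _
  have h1 : (m - single i 1).degree = 0 := by
    have := congrArg Finsupp.degree (tsub_add_cancel_of_le hle)
    rw [map_add, degree_single] at this
    omega
  refine ⟨i, ?_⟩
  conv_rhs => rw [← tsub_add_cancel_of_le hle, (Finsupp.degree_eq_zero_iff _).1 h1, zero_add]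

private theorem pair_unique {i j i' j' : Fin n} (h : i ≤ j) (h' : i' ≤ j')
    (e : single i 1 + single j 1 = single i' 1 + single j' (1 : ℕ)) : i = i' ∧ j = j' := by
  have key : ∀ x : Fin n, (x = i ∨ x = j) → (x = i' ∨ x = j') := by
    intro x hx
    by_contra hcon
    push Not at hcon
    have := DFunLike.congr_fun e x
    simp only [Finsupp.add_apply, single_eq_of_ne hcon.1, single_eq_of_ne hcon.2] at this
    rcases hx with rfl | rfl <;> simp only [single_eq_same] at this <;> omega
  have key' : ∀ x : Fin n, (x = i' ∨ x = j') → (x = i ∨ x = j) := by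
    intro x hx
    by_contra hcon
    push Not at hcon
    have := DFunLike.congr_fun e x
    simp only [Finsupp.add_apply, single_eq_of_ne hcon.1, single_eq_of_ne hcon.2] at this
    rcases hx with rfl | rfl <;> simp only [single_eq_same] at this <;> omega
  have a := key i (Or.inl rfl)
  have b := key j (Or.inr rfl)
  have c := key' i' (Or.inl rfl)
  have d := key' j' (Or.inr rfl)
  simp only [Fin.ext_iff, Fin.le_iff_val_le_val] at *
  omega

private theorem degree_two {m : Fin n →₀ ℕ} (hm : m.degree = 2) :
    ∃ i j : Fin n, i ≤ j ∧ m = single i 1 + single j 1 := by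
  obtain ⟨i, hi⟩ : ∃ i, m i ≠ 0 := by
    by_contra hcon
    push Not at hcon
    rw [show m = 0 from Finsupp.ext hcon, map_zero] at hm
    omega
  have hle : single i 1 ≤ m := by
    intro l
    by_cases hl : l = i
    · subst hl; rw [single_eq_same]; omega
    · rw [single_eq_of_ne hl]; exact Nat.zero_le _
  have h1 : (m - single i 1).degree = 1 := by
    have := congrArg Finsupp.degree (tsub_add_cancel_of_le hle)
    rw [map_add, degree_single] at this
    omega
  obtain ⟨j, hj⟩ := degree_one h1
  have hmeq : m = single i 1 + single j 1 := by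
    rw [hj, add_comm]; exact (tsub_add_cancel_of_le hle).symm
  rcases le_total i j with h | h
  · exact ⟨i, j, h, hmeq⟩
  · exact ⟨j, i, h, hmeq.trans (add_comm _ _)⟩

/-- Let k be a field and f a formal power series in n variables over k without constant term whose
partial derivatives ∂f/∂x_1, …, ∂f/∂x_n generate the maximal ideal of k[[x_1, …, x_n]]. Then there
are power series ε_1, …, ε_n with no terms of degree < 2 and a quadratic form q such that f = q(x_1
+ ε_1, …, x_n + ε_n). -/
theorem result (k : Type) [Field k] (n : ℕ) (f : MvPowerSeries (Fin n) k)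
    (hf0 : MvPowerSeries.constantCoeff f = 0)
    (hJ : Ideal.span (Set.range fun i : Fin n => MvPowerSeries.pderiv k i f) = IsLocalRing.maximalIdeal (MvPowerSeries (Fin n) k)) :
    ∃ (ε : Fin n → MvPowerSeries (Fin n) k) (_ : ∀ i (m : Fin n →₀ ℕ), m.degree < 2 → MvPowerSeries.coeff m (ε i) = 0)
      (q : MvPolynomial (Fin n) k) (_ : q.IsHomogeneous 2)
      (_ : MvPowerSeries.HasSubst (fun i : Fin n => MvPowerSeries.X i + ε i)),
      f = MvPowerSeries.subst (fun i : Fin n => MvPowerSeries.X i + ε i) (q : MvPowerSeries (Fin n) k) := by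
  classical
  let a : Fin n → Fin n → k := fun i j => if i ≤ j then MvPowerSeries.coeff (single i 1 + single j 1) f else 0
  let q : MvPolynomial (Fin n) k := ∑ i, ∑ j, MvPolynomial.C (a i j) * (MvPolynomial.X i * MvPolynomial.X j)
  have hqh : q.IsHomogeneous 2 :=
    MvPolynomial.IsHomogeneous.sum _ _ _ fun i _ => MvPolynomial.IsHomogeneous.sum _ _ _ fun j _ =>
      MvPolynomial.IsHomogeneous.C_mul ((MvPolynomial.isHomogeneous_X k i).mul (MvPolynomial.isHomogeneous_X k j)) _
  let Q : (Fin n → MvPowerSeries (Fin n) k) → MvPowerSeries (Fin n) k :=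
    fun u => ∑ i, ∑ j, MvPowerSeries.C (a i j) * (u i * u j)
  let L : Fin n → MvPowerSeries (Fin n) k := fun i => ∑ j, MvPowerSeries.C (a i j + a j i) * MvPowerSeries.X j
  have hm : ∀ i, MvPowerSeries.constantCoeff (MvPowerSeries.pderiv k i f) = 0 := by
    intro i
    have h1 : MvPowerSeries.pderiv k i f ∈ IsLocalRing.maximalIdeal (MvPowerSeries (Fin n) k) :=
      hJ ▸ Ideal.subset_span ⟨i, rfl⟩
    by_contra h0
    exact h1 (MvPowerSeries.isUnit_iff_constantCoeff.2 (Ne.isUnit h0))
  have hlin : ∀ i, MvPowerSeries.coeff (single i 1) f = 0 := by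
    intro i
    have := hm i
    rw [← MvPowerSeries.coeff_zero_eq_constantCoeff_apply, MvPowerSeries.coeff_pderiv] at this
    simpa using this
  have hH : ∀ i j, MvPowerSeries.coeff (single j 1) (MvPowerSeries.pderiv k i f) = a i j + a j i := by
    intro i j
    rw [MvPowerSeries.coeff_pderiv]
    rcases lt_trichotomy i j with h | h | h
    · simp [a, h.le, not_le.2 h, h.ne, h.ne', add_comm (single j 1) (single i 1)]
    · subst h
      simp [a, mul_add, mul_one, add_comm]
    · simp [a, h.le, not_le.2 h, h.ne, h.ne', add_comm (single j 1) (single i 1)]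
  -- the inverse of the Hessian
  have hC : ∀ j, ∃ c : Fin n → k, ∀ l, ∑ i, c i * (a i l + a l i) = if l = j then 1 else 0 := by
    intro j
    have hX : (MvPowerSeries.X j : MvPowerSeries (Fin n) k) ∈
        Ideal.span (Set.range fun i : Fin n => MvPowerSeries.pderiv k i f) := by
      rw [hJ, IsLocalRing.mem_maximalIdeal, mem_nonunits_iff, MvPowerSeries.isUnit_iff_constantCoeff,
        MvPowerSeries.constantCoeff_X]
      exact not_isUnit_zero
    obtain ⟨b, hb⟩ := (Submodule.mem_span_range_iff_exists_fun _).1 hX
    refine ⟨fun i => MvPowerSeries.constantCoeff (b i), fun l => ?_⟩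
    have := congrArg (MvPowerSeries.coeff (single l 1)) hb
    rw [MvPowerSeries.coeff_index_single_X, map_sum] at this
    simp only [smul_eq_mul, coeff_single_one_mul _ _ (hm _), hH] at this
    exact this
  choose c hc using hC
  let S : MvPowerSeries (Fin n) k → Fin n → MvPowerSeries (Fin n) k :=
    fun g i => ∑ j, MvPowerSeries.C (c j i) * divVar j g
  have hSL : ∀ g, Low 1 g → ∑ i, S g i * L i = g := by
    intro g hg
    conv_rhs => rw [← sum_X_mul_divVar hg]
    calc ∑ i, S g i * L i
        = ∑ j, divVar j g * ∑ l, MvPowerSeries.C (∑ i, c j i * (a i l + a l i)) * MvPowerSeries.X l := by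
          simp only [S, L, map_sum, map_mul, Finset.sum_mul, Finset.mul_sum]
          refine (Finset.sum_congr rfl fun i _ => Finset.sum_comm).trans ?_
          rw [Finset.sum_comm]
          refine Finset.sum_congr rfl fun j _ => ?_
          rw [Finset.sum_comm]
          exact Finset.sum_congr rfl fun l _ => Finset.sum_congr rfl fun i _ => by ring
      _ = _ := Finset.sum_congr rfl fun j _ => by
          simp [hc, apply_ite (MvPowerSeries.C (σ := Fin n) (R := k)), ite_mul, mul_comm]
  set r := f - Q (fun i => MvPowerSeries.X i) with hr_def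
  have hr : Low 3 r := by
    intro m hm3
    have hQ : MvPowerSeries.coeff m (Q fun i => MvPowerSeries.X i) =
        ∑ i, ∑ j, a i j * (if m = single i 1 + single j 1 then 1 else 0) := by
      simp only [Q, map_sum, MvPowerSeries.coeff_C_mul]
      refine Finset.sum_congr rfl fun i _ => Finset.sum_congr rfl fun j _ => ?_
      rw [MvPowerSeries.X_def, MvPowerSeries.X_def, MvPowerSeries.monomial_mul_monomial, MvPowerSeries.coeff_monomial,
        one_mul]
    rw [hr_def, map_sub, hQ, sub_eq_zero]
    by_cases h2 : m.degree = 2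
    · obtain ⟨i₀, j₀, hle, rfl⟩ := degree_two h2
      have huniq : ∀ i j : Fin n, i ≤ j → single i₀ 1 + single j₀ 1 = single i 1 + single j 1 → i = i₀ ∧ j = j₀ :=
        fun i j hij heq => pair_unique hij hle heq.symm
      rw [Finset.sum_eq_single i₀]
      · rw [Finset.sum_eq_single j₀]
        · simp [a, hle]
        · intro j _ hne
          by_cases hij : i₀ ≤ j
          · rw [if_neg fun he => hne (huniq i₀ j hij he).2, mul_zero]
          · simp [a, hij]
        · simp
      · intro i _ hne
        refine Finset.sum_eq_zero fun j _ => ?_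
        by_cases hij : i ≤ j
        · rw [if_neg fun he => hne (huniq i j hij he).1, mul_zero]
        · simp [a, hij]
      · simp
    · have hrhs : ∑ i, ∑ j, a i j * (if m = single i 1 + single j 1 then 1 else 0) = 0 := by
        refine Finset.sum_eq_zero fun i _ => Finset.sum_eq_zero fun j _ => ?_
        rw [if_neg fun he => h2 (by rw [he, map_add, degree_single, degree_single]), mul_zero]
      rw [hrhs]
      rcases Nat.lt_or_ge m.degree 1 with h0 | h0
      · rw [show m = 0 from (Finsupp.degree_eq_zero_iff _).1 (by omega), MvPowerSeries.coeff_zero_eq_constantCoeff_apply, hf0]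
      · obtain ⟨l, rfl⟩ := degree_one (m := m) (by omega)
        exact hlin l
  let T : (Fin n → MvPowerSeries (Fin n) k) → Fin n → MvPowerSeries (Fin n) k := fun u => S (r - Q u)
  have hQlow : ∀ u : Fin n → MvPowerSeries (Fin n) k, (∀ i, Low 2 (u i)) → Low 3 (Q u) := fun u hu =>
    Low.sum _ fun i _ => Low.sum _ fun j _ => (((hu i).mul (hu j)).mono (by omega)).C_mul _
  have hT2 : ∀ u, (∀ i, Low 2 (u i)) → ∀ i, Low 2 (T u i) := fun u hu i =>
    Low.sum _ fun j _ => (low_divVar j (hr.sub (hQlow u hu))).C_mul _
  have hTc : ∀ u v, (∀ i, Low 2 (u i)) → (∀ i, Low 2 (v i)) → ∀ d, (∀ i, Low d (u i - v i)) →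
      ∀ i, Low (d + 1) (T u i - T v i) := by
    intro u v hu hv d hd i
    have hQ : Low (d + 2) (Q v - Q u) := by
      simp only [Q, ← Finset.sum_sub_distrib]
      refine Low.sum _ fun i _ => Low.sum _ fun j _ => ?_
      rw [← mul_sub, show v i * v j - u i * u j = -((u i - v i) * u j) - v i * (u j - v j) by ring]
      refine Low.C_mul _ (Low.sub (((hd i).mul (hu j)).mono (by omega)).neg (((hv i).mul (hd j)).mono (by omega)))
    simp only [T, S, ← Finset.sum_sub_distrib, ← mul_sub, ← divVar_sub,
      show r - Q u - (r - Q v) = Q v - Q u by ring]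
    exact Low.sum _ fun j _ => (low_divVar j hQ).C_mul _
  let U : ℕ → Fin n → MvPowerSeries (Fin n) k := fun d => T^[d] 0
  have hU2 : ∀ d i, Low 2 (U d i) := by
    intro d
    induction d with
    | zero => exact fun i => low_zero 2
    | succ d ih =>
      intro i
      rw [show U (d + 1) = T (U d) from Function.iterate_succ_apply' T d 0]
      exact hT2 _ ih i
  have hUs : ∀ d i, Low d (U (d + 1) i - U d i) := by
    intro d
    induction d with
    | zero => exact fun i m hm => absurd hm (by omega)
    | succ d ih =>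
      intro i
      have h1 : U (d + 1) = T (U d) := Function.iterate_succ_apply' T d 0
      rw [show U (d + 1 + 1) = T (U (d + 1)) from Function.iterate_succ_apply' T (d + 1) 0]
      nth_rewrite 2 [h1]
      exact hTc _ _ (hU2 (d + 1)) (hU2 d) d ih i
  let ε : Fin n → MvPowerSeries (Fin n) k := fun i m => MvPowerSeries.coeff m (U (m.degree + 1) i)
  have hε : ∀ d i, Low d (ε i - U d i) := by
    intro d i m hmd
    obtain ⟨e, rfl⟩ : ∃ e, d = m.degree + 1 + e := ⟨d - (m.degree + 1), by omega⟩
    clear hmd
    induction e with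
    | zero => rw [map_sub, sub_eq_zero]; rfl
    | succ e ih =>
      have h2 := hUs (m.degree + 1 + e) i m (by omega)
      rw [map_sub, sub_eq_zero] at h2 ih ⊢
      rw [ih, ← h2]
      rfl
  have hε2 : ∀ i, Low 2 (ε i) := fun i => by
    simpa using (hε 2 i).add (hU2 2 i)
  have hfix : ∀ i, ε i = T ε i := by
    intro i
    ext m
    have h1 := hε (m.degree + 1 + 1) i m (by omega)
    have h2 := hTc _ _ hε2 (hU2 (m.degree + 1)) (m.degree + 1) (hε _) i m (by omega)
    rw [map_sub, sub_eq_zero] at h1 h2
    rw [h1, h2, show U (m.degree + 1 + 1) = T (U (m.degree + 1)) from Function.iterate_succ_apply' T _ 0]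
  have hs : MvPowerSeries.HasSubst (fun i : Fin n => MvPowerSeries.X i + ε i) := by
    refine MvPowerSeries.hasSubst_of_constantCoeff_zero fun i => ?_
    rw [map_add, MvPowerSeries.constantCoeff_X, zero_add, ← MvPowerSeries.coeff_zero_eq_constantCoeff_apply]
    exact hε2 i 0 (by simp)
  refine ⟨ε, fun i m hm => hε2 i m hm, q, hqh, hs, ?_⟩
  rw [MvPowerSeries.subst_coe]
  have haev : MvPolynomial.aeval (fun i : Fin n => MvPowerSeries.X i + ε i) q = Q (fun i => MvPowerSeries.X i + ε i) := by
    simp only [q, Q, map_sum, map_mul, MvPolynomial.aeval_C, MvPolynomial.aeval_X]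
    rfl
  have hcross : ∑ i, ε i * L i = r - Q ε := by
    conv_lhs => rw [Finset.sum_congr rfl fun i _ => by rw [hfix i]]
    exact hSL _ ((hr.sub (hQlow ε hε2)).mono (by omega))
  have hexp : Q (fun i => MvPowerSeries.X i + ε i) = Q (fun i => MvPowerSeries.X i) + ∑ i, ε i * L i + Q ε := by
    have h2 : ∑ i, ε i * L i =
        ∑ i, ∑ j, (MvPowerSeries.C (a i j) * (ε i * MvPowerSeries.X j) + MvPowerSeries.C (a i j) * (MvPowerSeries.X i * ε j)) := by
      simp only [Finset.sum_add_distrib, L, Finset.mul_sum, map_add, add_mul, mul_add]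
      rw [Finset.sum_comm (f := fun i j => MvPowerSeries.C (a i j) * (MvPowerSeries.X i * ε j))]
      congr 1 <;> exact Finset.sum_congr rfl fun i _ => Finset.sum_congr rfl fun j _ => by ring
    rw [h2]
    simp only [Q, ← Finset.sum_add_distrib]
    exact Finset.sum_congr rfl fun i _ => Finset.sum_congr rfl fun j _ => by ring
  rw [haev, hexp, hcross, hr_def]
  ring

end Groth.Agent.S3206
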