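import Groth.Statements.S3208
import Mathlib
-- import your own Groth.Agent.* helpers here

set_option autoImplicit false
open SGA7

namespace Groth.Agent.S3208
section
variable {E : Type} [CommRing E] [NoZeroSMulDivisors ℤ E] [Module.Finite ℤ E]

theorem cancel {p : ℕ} (hp : p ≠ 0) {a b : E} (h : (p:E) * a = (p:E) * b) : a = b := by
  have : (p:ℤ) • a = (p:ℤ) • b := by simpa [zsmul_eq_mul] using h
  exact smul_right_injective E (by exact_mod_cast hp) this

theorem exists_factor {p : ℕ} (hp : 2 ≤ p) {y : E} (hy : y ≠ 0) :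
    ∃ (j : ℕ) (z : E), y = (p:E) ^ j * z ∧ ¬ (p:E) ∣ z := by
  classical
  let b := Module.Free.chooseBasis ℤ E
  obtain ⟨i, hi⟩ : ∃ i, b.repr y i ≠ 0 := by
    by_contra h
    push Not at h
    exact hy (b.repr.injective (by ext i; simp [h i]))
  have hb : ∀ k, (p:E) ^ k ∣ y → k ≤ (b.repr y i).natAbs := by
    rintro k ⟨z, rfl⟩
    have : ((p:E) ^ k * z) = ((p ^ k : ℕ) : ℤ) • z := by simp [zsmul_eq_mul]
    rw [this, map_smul, Finsupp.smul_apply, smul_eq_mul, Int.natAbs_mul, Int.natAbs_natCast]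
    rw [this, map_smul, Finsupp.smul_apply, smul_eq_mul] at hi
    have h0 : (b.repr z i).natAbs ≠ 0 := by
      simp only [ne_eq, Int.natAbs_eq_zero]; intro h; simp [h] at hi
    calc k ≤ p ^ k := (Nat.lt_pow_self hp).le
      _ ≤ _ := Nat.le_mul_of_pos_right _ (Nat.pos_of_ne_zero h0)
  obtain ⟨z, hz⟩ := Nat.findGreatest_spec (P := fun k => (p:E) ^ k ∣ y) (Nat.zero_le _) (n := (b.repr y i).natAbs) (by simp)
  refine ⟨_, z, hz, ?_⟩
  rintro ⟨z', rfl⟩
  have h1 : (p:E) ^ (Nat.findGreatest (fun k => (p:E) ^ k ∣ y) (b.repr y i).natAbs + 1) ∣ y := ⟨z', by rw [pow_succ, mul_assoc]; exact hz⟩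
  have := Nat.le_findGreatest (hb _ h1) (P := fun k => (p:E) ^ k ∣ y) h1
  omega

/-- If `w ^ q = 1` for a prime `q` and `w` is congruent to one modulo an odd prime or modulo four, then `w = 1`. -/
theorem key {p d : ℕ} (hp : p.Prime) (hd : p ∣ d) (hd' : p = 2 → 4 ∣ d) {q : ℕ} (hq : q.Prime)
    {w : E} (hwq : w ^ q = 1) (hw : (d:E) ∣ w - 1) : w = 1 := by
  by_contra hne
  obtain ⟨j, z, hz, hnd⟩ := exists_factor hp.two_le (sub_ne_zero.2 hne)
  have hj : 1 ≤ j := by
    by_contra h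
    have h0 : j = 0 := by omega
    subst h0
    rw [pow_zero, one_mul] at hz
    exact hnd (hz ▸ (Nat.cast_dvd_cast hd).trans hw)
  have hj2 : p = 2 → 2 ≤ j := by
    intro h2
    subst h2
    by_contra h
    have h1 : j = 1 := by omega
    subst h1
    obtain ⟨t, ht⟩ := (Nat.cast_dvd_cast (α := E) (hd' rfl)).trans hw
    rw [pow_one, ht] at hz
    apply hnd
    refine ⟨t, cancel two_ne_zero (p := 2) ?_⟩
    rw [← hz]
    push_cast
    ring
  have e : w = (p:E) ^ j * z + 1 := by rw [← hz]; ring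
  have hsum := hwq
  rw [e, add_pow] at hsum
  simp only [one_pow, mul_one] at hsum
  have hq1 := hq.one_lt
  have hr : Finset.range (q+1) = insert 0 (insert 1 (Finset.Ico 2 (q+1))) := by
    ext k; simp; omega
  rw [hr, Finset.sum_insert (by simp), Finset.sum_insert (by simp)] at hsum
  simp only [pow_zero, Nat.choose_zero_right, Nat.cast_one, mul_one, pow_one, Nat.choose_one_right] at hsum
  rw [add_eq_left] at hsum
  by_cases hqp : q = p
  · subst hqp
    -- every higher term is divisible by q ^ (j + 2)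
    have hdiv : (q:E) ^ (j + 2) ∣ ∑ k ∈ Finset.Ico 2 (q+1), ((q:E) ^ j * z) ^ k * (q.choose k : E) := by
      refine Finset.dvd_sum fun k hk => ?_
      rw [Finset.mem_Ico] at hk
      by_cases hkq : k = q
      · subst hkq
        rw [Nat.choose_self, Nat.cast_one, mul_one, mul_pow, ← pow_mul]
        refine Dvd.dvd.mul_right (pow_dvd_pow _ ?_) _
        by_cases h2 : k = 2
        · have := hj2 h2; subst h2; omega
        · have h3 : 3 ≤ k := by omega
          nlinarith
      · obtain ⟨c, hc⟩ := hq.dvd_choose_self (by omega : k ≠ 0) (by omega : k < q)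
        rw [hc, Nat.cast_mul, mul_pow, ← pow_mul]
        have : (q:E) ^ (j * k) * z ^ k * ((q:E) * (c:E)) = (q:E) ^ (j * k + 1) * (z ^ k * c) := by ring
        rw [this]
        refine Dvd.dvd.mul_right (pow_dvd_pow _ ?_) _
        nlinarith [hk.1]
    obtain ⟨t, ht⟩ := hdiv
    rw [ht] at hsum
    apply hnd
    refine ⟨-t, cancel (pow_ne_zero (j+1) hq.ne_zero) ?_⟩
    push_cast
    linear_combination hsum
  · have hdiv : (p:E) ^ (j + 1) ∣ ∑ k ∈ Finset.Ico 2 (q+1), ((p:E) ^ j * z) ^ k * (q.choose k : E) := by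
      refine Finset.dvd_sum fun k hk => ?_
      rw [Finset.mem_Ico] at hk
      rw [mul_pow, ← pow_mul]
      refine Dvd.dvd.mul_right (Dvd.dvd.mul_right (pow_dvd_pow _ ?_) _) _
      nlinarith [hk.1]
    obtain ⟨t, ht⟩ := hdiv
    rw [ht] at hsum
    have h1 : z * (q:E) = (p:E) * (-t) := by
      refine cancel (pow_ne_zero j hp.ne_zero) ?_
      push_cast
      linear_combination hsum
    obtain ⟨a, b, hab⟩ : ∃ a b : ℤ, a * q + b * p = 1 :=
      Int.isCoprime_iff_gcd_eq_one.2 (by simpa using (Nat.coprime_primes hq hp).2 hqp)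
    apply hnd
    refine ⟨-(a:E) * t + (b:E) * z, ?_⟩
    have hab' : (a:E) * q + (b:E) * p = 1 := by exact_mod_cast congrArg (fun x : ℤ => (x:E)) hab
    linear_combination (a:E) * h1 - z * hab'

theorem eq_one {d p : ℕ} (hp : p.Prime) (hd : p ∣ d) (hd' : p = 2 → 4 ∣ d) (u : E) (m : ℕ) (hm : 0 < m)
    (hu : u ^ m = 1) (hw : (d:E) ∣ u - 1) : u = 1 := by
  by_contra hne
  have h1 : orderOf u ≠ 1 := by simpa [orderOf_eq_one_iff] using hne
  obtain ⟨q, hq, c, hc⟩ := Nat.exists_prime_and_dvd h1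
  have hpos : 0 < orderOf u := orderOf_pos_iff.2 (isOfFinOrder_iff_pow_eq_one.2 ⟨m, hm, hu⟩)
  have hcpos : 0 < c := by
    rcases Nat.eq_zero_or_pos c with h | h
    · subst h; rw [mul_zero] at hc; omega
    · exact h
  have h2 : u ^ c = 1 := by
    refine key hp hd hd' hq ?_ (hw.trans ?_)
    · rw [← pow_mul, mul_comm, ← hc, pow_orderOf_eq_one]
    · simpa using sub_dvd_pow_sub_pow u 1 c
  have := Nat.le_of_dvd hcpos (orderOf_dvd_of_pow_eq_one h2)
  rw [hc] at this
  nlinarith [hq.two_le]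

end

/-- Let E be a commutative ring which is finitely generated and torsion-free as an additive group, u an
element of E of finite multiplicative order (u^m = 1 for some m > 0), and n ≥ 2 an integer with u ≡
1 modulo nE (i.e. 1 - u = n·v for some v ∈ E). Then u² = 1, and if n ≥ 3 then u = 1. -/
theorem result (E : Type) [CommRing E] [NoZeroSMulDivisors ℤ E] [Module.Finite ℤ E] (u : E) (m : ℕ) (hm : 0 < m)
    (hu : u ^ m = 1) (n : ℕ) (hn : 2 ≤ n) (hcong : ∃ v : E, 1 - u = (n : E) * v) :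
    u ^ 2 = 1 ∧ (3 ≤ n → u = 1) := by
  obtain ⟨v, hv⟩ := hcong
  have hdiv : (n:E) ∣ u - 1 := ⟨-v, by linear_combination -hv⟩
  have h3 : 3 ≤ n → u = 1 := by
    intro h3
    obtain ⟨p, hp, hpn, hp4⟩ : ∃ p : ℕ, p.Prime ∧ p ∣ n ∧ (p = 2 → 4 ∣ n) := by
      rcases Nat.four_dvd_or_exists_odd_prime_and_dvd_of_two_lt (by omega : 2 < n) with h | ⟨p, hp, hpn, hodd⟩
      · exact ⟨2, Nat.prime_two, (by norm_num : 2 ∣ 4).trans h, fun _ => h⟩
      · exact ⟨p, hp, hpn, fun e => absurd (e ▸ hodd) (by decide)⟩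
    exact eq_one hp hpn hp4 u m hm hu hdiv
  refine ⟨?_, h3⟩
  rcases Nat.lt_or_ge n 3 with h | h
  · obtain rfl : n = 2 := by omega
    refine eq_one (d := 4) Nat.prime_two (by norm_num) (fun _ => dvd_rfl) _ m hm ?_ ?_
    · rw [← pow_mul, mul_comm, pow_mul, hu, one_pow]
    · obtain ⟨t, ht⟩ := hdiv
      exact ⟨t + t ^ 2, by push_cast at ht ⊢; linear_combination (u + 1 + 2 * t) * ht⟩
  · rw [h3 h, one_pow]

end Groth.Agent.S3208
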