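import Groth.Statements.S3209
import Mathlib

set_option autoImplicit false
universe u
open TensorProduct
open SGA7

namespace Groth.Agent.S3209

/-- Let f : B' → B be a surjective map of R-algebras with kernel J, g : C → B a map of R-algebras, P =
B' ×_B C their fibre product (the equalizer of f ∘ pr₁ and g ∘ pr₂ in B' × C) and S an R-algebra
such that S ⊗_R J → S ⊗_R B' is injective (this holds when Tor_1^R(B, S) = 0, the published
hypothesis, and in particular when S is flat). Then the canonical map S ⊗_R P → (S ⊗_R B') ×_{S ⊗_R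
B} (S ⊗_R C) is bijective: it is injective, and every pair with the same image in S ⊗_R B comes from
S ⊗_R P. -/
theorem result (R B' B C S : Type u) [CommRing R] [CommRing B'] [CommRing B] [CommRing C]
    [CommRing S] [Algebra R B'] [Algebra R B] [Algebra R C] [Algebra R S]
    (f : B' →ₐ[R] B) (hf : Function.Surjective f) (g : C →ₐ[R] B)
    (hJ : Function.Injective (LinearMap.lTensor S (LinearMap.ker f.toLinearMap).subtype)) :
    letI P := AlgHom.equalizer (f.comp (AlgHom.fst R B' C)) (g.comp (AlgHom.snd R B' C))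
    letI φ₁ := Algebra.TensorProduct.map (AlgHom.id R S) ((AlgHom.fst R B' C).comp P.val)
    letI φ₂ := Algebra.TensorProduct.map (AlgHom.id R S) ((AlgHom.snd R B' C).comp P.val)
    Function.Injective (fun z : S ⊗[R] ↥P => (φ₁ z, φ₂ z)) ∧
    ∀ (x : S ⊗[R] B') (y : S ⊗[R] C),
      Algebra.TensorProduct.map (AlgHom.id R S) f x = Algebra.TensorProduct.map (AlgHom.id R S) g y →
        ∃ z : S ⊗[R] ↥P, φ₁ z = x ∧ φ₂ z = y := by
  set P := AlgHom.equalizer (f.comp (AlgHom.fst R B' C)) (g.comp (AlgHom.snd R B' C)) with hP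
  set φ₁ := Algebra.TensorProduct.map (AlgHom.id R S) ((AlgHom.fst R B' C).comp P.val)
  set φ₂ := Algebra.TensorProduct.map (AlgHom.id R S) ((AlgHom.snd R B' C).comp P.val)
  let J := LinearMap.ker f.toLinearMap
  let p₁ : P →ₗ[R] B' := ((AlgHom.fst R B' C).comp P.val).toLinearMap
  let p₂ : P →ₗ[R] C := ((AlgHom.snd R B' C).comp P.val).toLinearMap
  have hcond : ∀ q : P, f (p₁ q) = g (p₂ q) := fun q => q.2
  let ι : J →ₗ[R] P :=
    { toFun := fun b => ⟨(b.1, 0), by
        show f b.1 = g 0
        rw [map_zero]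
        exact b.2⟩
      map_add' := fun b b' => by ext <;> simp
      map_smul' := fun c b => by ext <;> simp }
  have hex : Function.Exact ι p₂ := by
    intro q
    refine ⟨fun h => ⟨⟨p₁ q, ?_⟩, Subtype.ext (Prod.ext rfl h.symm)⟩, ?_⟩
    · show f (p₁ q) = 0
      rw [hcond, h, map_zero]
    · rintro ⟨b, rfl⟩
      rfl
  have hp₂ : Function.Surjective p₂ := fun c => by
    obtain ⟨b, hb⟩ := hf (g c)
    exact ⟨⟨(b, c), hb⟩, rfl⟩
  have hexS := lTensor_exact S hex hp₂
  have hfexS := lTensor_exact S (LinearMap.exact_subtype_ker_map f.toLinearMap) hf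
  have h1 : ∀ z, φ₁ z = p₁.lTensor S z := fun z => by
    induction z using TensorProduct.induction_on with
    | zero => simp
    | add a b ha hb => simp only [map_add, ha, hb]
    | tmul a b => rfl
  have h2 : ∀ z, φ₂ z = p₂.lTensor S z := fun z => by
    induction z using TensorProduct.induction_on with
    | zero => simp
    | add a b ha hb => simp only [map_add, ha, hb]
    | tmul a b => rfl
  have hf' : ∀ z, Algebra.TensorProduct.map (AlgHom.id R S) f z = f.toLinearMap.lTensor S z := fun z => by
    induction z using TensorProduct.induction_on with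
    | zero => simp
    | add a b ha hb => simp only [map_add, ha, hb]
    | tmul a b => rfl
  have hg' : ∀ z, Algebra.TensorProduct.map (AlgHom.id R S) g z = g.toLinearMap.lTensor S z := fun z => by
    induction z using TensorProduct.induction_on with
    | zero => simp
    | add a b ha hb => simp only [map_add, ha, hb]
    | tmul a b => rfl
  have hιp : p₁ ∘ₗ ι = J.subtype := rfl
  refine ⟨fun z z' hzz => ?_, fun x y hxy => ?_⟩
  · simp only [Prod.mk.injEq, h1, h2] at hzz
    obtain ⟨w, hw⟩ := (hexS (z - z')).1 (by rw [map_sub, hzz.2, sub_self])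
    have h0 : J.subtype.lTensor S w = 0 := by
      rw [← hιp, LinearMap.lTensor_comp_apply, hw, map_sub, hzz.1, sub_self]
    rw [hJ (h0.trans (map_zero _).symm), map_zero] at hw
    exact sub_eq_zero.1 hw.symm
  · obtain ⟨z₀, hz₀⟩ := LinearMap.lTensor_surjective S hp₂ y
    have hc : f.toLinearMap.lTensor S (p₁.lTensor S z₀) = g.toLinearMap.lTensor S (p₂.lTensor S z₀) := by
      rw [← LinearMap.lTensor_comp_apply, ← LinearMap.lTensor_comp_apply,
        show f.toLinearMap ∘ₗ p₁ = g.toLinearMap ∘ₗ p₂ from LinearMap.ext hcond]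
    obtain ⟨j, hj⟩ := (hfexS (x - p₁.lTensor S z₀)).1 (by
      rw [map_sub, hc, hz₀, ← hg', ← hf', hxy, sub_self])
    refine ⟨z₀ + ι.lTensor S j, ?_, ?_⟩
    · rw [h1, map_add, ← LinearMap.lTensor_comp_apply, hιp, hj, add_sub_cancel]
    · rw [h2, map_add, hexS.apply_apply_eq_zero, hz₀, add_zero]

end Groth.Agent.S3209
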