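import Groth.Statements.S3210
import Groth.Agent.InertiaFix.Basic
-- import your own Groth.Agent.* helpers here

set_option autoImplicit false
universe u
open CategoryTheory CategoryTheory.Limits AlgebraicGeometry MonObj
open SGA7

namespace Groth.Agent.S3210

/-- Direction (i) ⇒ (v bis) of the Néron–Ogg–Chafarévitch criterion (only this direction of the
criterion is stated): let R be a discrete valuation ring with fraction field K and residue
characteristic different from the prime ℓ, Ω a separable closure of K, W a valuation subring of Ω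
lying over R, and A an abelian variety over K (a proper, geometrically integral group scheme). If A
extends to an abelian scheme over R (a proper smooth group scheme over Spec R with connected
geometric fibres whose generic fibre is K-isomorphic to A), then for every ν every element of the
inertia group at W fixes all the ℓ^ν-torsion Ω-points of A. -/
theorem result (R K Ω : Type u) [CommRing R] [IsDomain R] [IsDiscreteValuationRing R] [Field K]
    [Algebra R K] [IsFractionRing R K] [Field Ω] [Algebra K Ω] [IsSepClosure K Ω]
    (W : ValuationSubring Ω) (hW : SGA7.LiesOver K R W) (ℓ : ℕ) (hℓ : ℓ.Prime) (hℓp : (ℓ : IsLocalRing.ResidueField R) ≠ 0)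
    (A : Over (Spec (CommRingCat.of K))) [GrpObj A] [IsProper A.hom] [GeometricallyIntegral A.hom]
    (hgood : (∃ (B : Over (Spec (CommRingCat.of R))) (_ : GrpObj B), IsProper B.hom ∧ Smooth B.hom ∧
        (∀ (k' : Type u) [Field k'] (t : Spec (CommRingCat.of k') ⟶ Spec (CommRingCat.of R)), ConnectedSpace ↑(pullback B.hom t)) ∧
        Nonempty ((Over.pullback (Spec.map (CommRingCat.ofHom (algebraMap R K)))).obj B ≅ A))) :
    ∀ (ν : ℕ) (σ : Ω ≃ₐ[K] Ω), SGA7.IsInertia W σ → ∀ x : SGA7.Pts Ω A, x ^ (ℓ ^ ν) = 1 → SGA7.galAct σ x = x := by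
  obtain ⟨B, hBG, hBp, hBs, hBc, ⟨e⟩⟩ := hgood
  haveI := hBp
  haveI := hBs
  haveI := InertiaFix.geometricallyReduced_of_smooth B.hom
  haveI := InertiaFix.geometricallyConnected_of_forall B.hom hBc
  haveI : IsCommMonObj B := GrpSch.AbRigid.isCommMonObj B
  let sK : Spec (CommRingCat.of K) ⟶ Spec (CommRingCat.of R) := Spec.map (CommRingCat.ofHom (algebraMap R K))
  -- a homomorphism `A ⟶ B_K` which differs from `e.inv` by a translation
  let f : A ⟶ Red.bc sK B := e.inv * (CartesianMonoidalCategory.toUnit A ≫ (η[A] ≫ e.inv)⁻¹)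
  haveI : GeometricallyConnected A.hom := by
    haveI : GeometricallyConnected (pullback.snd B.hom sK) := inferInstance
    have h : e.inv.left ≫ pullback.snd B.hom sK = A.hom := Over.w e.inv
    rw [← h]
    haveI : IsIso e.inv.left := inferInstanceAs (IsIso ((Over.forget _).map e.inv))
    haveI : MorphismProperty.RespectsIso @GeometricallyConnected :=
      MorphismProperty.IsStableUnderBaseChange.respectsIso
    exact (MorphismProperty.cancel_left_of_respectsIso @GeometricallyConnected _ _).mpr inferInstance
  haveI : Flat A.hom := inferInstance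
  haveI : LocallyOfFinitePresentation A.hom := inferInstance
  haveI : IsSeparated (Red.bc sK B).hom := inferInstanceAs (IsSeparated (pullback.snd B.hom sK))
  have hf1 : η[A] ≫ f = η[Red.bc sK B] := by
    rw [MonObj.comp_mul, ← Category.assoc η[A],
      CartesianMonoidalCategory.toUnit_unique (η[A] ≫ CartesianMonoidalCategory.toUnit A) (𝟙 _),
      Category.id_comp, mul_inv_cancel, Hom.one_def,
      CartesianMonoidalCategory.toUnit_unique (CartesianMonoidalCategory.toUnit _) (𝟙 _), Category.id_comp]
  haveI : IsMonHom f := GrpSch.AbRigid.isMonHom_of_one A _ f hf1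
  intro ν σ hσ x hx
  haveI : Etale ((𝟙 B : B ⟶ B) ^ (ℓ ^ ν)).left := by
    refine PowEtale.etale_pow B _ (PowEtale.natCast_residueField_ne_zero _ ?_)
    push_cast
    exact pow_ne_zero _ hℓp
  have hxf : (x ≫ f) ^ (ℓ ^ ν) = 1 := by
    rw [← MonObj.pow_comp, hx, MonObj.one_comp]
  have key : (SGA7.galAct σ x) ≫ f = x ≫ f := by
    rw [SGA7.galAct, Category.assoc]
    exact InertiaFix.galAct_eq W hW B (ℓ ^ ν) σ hσ (x ≫ f) hxf
  simp only [f, MonObj.comp_mul, ← Category.assoc] at key
  rw [CartesianMonoidalCategory.toUnit_unique (SGA7.galAct σ x ≫ CartesianMonoidalCategory.toUnit A)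
    (x ≫ CartesianMonoidalCategory.toUnit A)] at key
  exact (cancel_mono e.inv).mp (mul_right_cancel key)

end Groth.Agent.S3210
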