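import Groth.Statements.S3211
import Groth.Agent.NeronGrp.Basic
import Groth.Agent.DVRProper.Basic
import Groth.Agent.SmoothReduced.Basic
-- import your own Groth.Agent.* helpers here

set_option autoImplicit false
universe u
open CategoryTheory CategoryTheory.Limits AlgebraicGeometry MonObj
open SGA7

set_option backward.isDefEq.respectTransparency false
set_option synthInstance.maxHeartbeats 200000

namespace Groth.Agent.S3211

open DVRProper TensorProduct

/-- A proper smooth scheme over a DVR with geometrically integral generic fibre has geometrically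
connected fibres. -/
theorem geometricallyConnected_of_proper {R : Type u} [CommRing R] [IsDomain R] [IsDiscreteValuationRing R]
    (K : Type u) [Field K] [Algebra R K] [IsFractionRing R K] {X : Scheme.{u}}
    (f : X ⟶ Spec (CommRingCat.of R)) [IsProper f] [Smooth f]
    [GeometricallyIntegral (pullback.snd f (sK R K))] : GeometricallyConnected f := by
  classical
  haveI : Smooth (f ≫ 𝟙 _) := by rw [Category.comp_id]; infer_instance
  haveI := DVRProper.isOpenImmersion_sK (R := R) K
  haveI : IsReduced X := SmoothReduced.isReduced_of_smooth_scheme f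
  haveI : IsIntegral (pullback f (sK R K)) := by
    have h := GeometricallyIntegral.geometrically_isIntegral (f := pullback.snd f (sK R K))
      (Spec.map (CommRingCat.ofHom (algebraMap K K))) (pullback.fst _ _) (pullback.snd _ _)
      (IsPullback.of_hasPullback _ _)
    haveI := h
    have : IsIso (Spec.map (CommRingCat.ofHom (algebraMap K K))) := by
      rw [show CommRingCat.ofHom (algebraMap K K) = 𝟙 _ from rfl, Spec.map_id]; infer_instance
    haveI : Nonempty ↥(pullback f (sK R K)) :=
      ⟨pullback.fst (pullback.snd f (sK R K)) (Spec.map (CommRingCat.ofHom (algebraMap K K))) (Classical.arbitrary _)⟩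
    exact isIntegral_of_isOpenImmersion (inv (pullback.fst (pullback.snd f (sK R K)) (Spec.map (CommRingCat.ofHom (algebraMap K K)))))
  -- `X` is integral
  let j := pullback.fst f (sK R K)
  have hdense : DenseRange j := by
    rw [DenseRange, Scheme.Pullback.range_fst]
    refine Dense.preimage ?_ f.isOpenMap
    refine dense_iff_inter_open.mpr fun U hU ⟨p, hp⟩ => ?_
    have hbot : ((⊥ : PrimeSpectrum R) : ↥(Spec (CommRingCat.of R))) ∈ Set.range (sK R K) := by
      refine ⟨(⊥ : PrimeSpectrum K), PrimeSpectrum.ext ?_⟩
      change Ideal.comap (algebraMap R K) ⊥ = ⊥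
      rw [← RingHom.ker_eq_comap_bot,
        (RingHom.injective_iff_ker_eq_bot (algebraMap R K)).mp (IsFractionRing.injective R K)]
    exact ⟨_, ((PrimeSpectrum.le_iff_specializes (⊥ : PrimeSpectrum R) p).mp bot_le).mem_open hU hp, hbot⟩
  haveI : IrreducibleSpace X := by
    refine { toPreirreducibleSpace := ⟨?_⟩, toNonempty := ⟨j (Classical.arbitrary _)⟩ }
    have h := ((IrreducibleSpace.isIrreducible_univ ↥(pullback f (sK R K))).image _ j.continuous.continuousOn).isPreirreducible.closure
    rwa [Set.image_univ, hdense.closure_range] at h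
  haveI : IsIntegral X := isIntegral_of_irreducibleSpace_of_isReduced _
  have hbij : Function.Bijective f.appTop.hom := by
    obtain ⟨_, ⟨V, hV, rfl⟩, hu₀V, -⟩ := X.isBasis_affineOpens.exists_subset_of_mem_open
      (Set.mem_univ (j (Classical.arbitrary _))) isOpen_univ
    let B := Γ(X, V)
    let e : Spec B ⟶ X := hV.fromSpec
    haveI : IsOpenImmersion e := hV.isOpenImmersion_fromSpec
    letI : Algebra R B := ((Spec.preimage (e ≫ f)).hom).toAlgebra
    have he : e ≫ f = Spec.map (CommRingCat.ofHom (algebraMap R B)) := (Spec.map_preimage _).symm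
    obtain ⟨w, hw⟩ : j (Classical.arbitrary _) ∈ Set.range e := by rw [hV.range_fromSpec]; exact hu₀V
    haveI : Nonempty ↥(Spec B) := ⟨w⟩
    have hinjB : Function.Injective (algebraMap R B) := by
      have h1 : Spec.map (CommRingCat.ofHom (algebraMap R B)) w =
          sK R K (pullback.snd f (sK R K) (Classical.arbitrary _)) := by
        rw [← he, Scheme.Hom.comp_apply]
        refine (congrArg f hw).trans ?_
        change (j ≫ f) _ = (pullback.snd f (sK R K) ≫ sK R K) _
        rw [pullback.condition]
      have h0 : (sK R K (pullback.snd f (sK R K) (Classical.arbitrary _)) : PrimeSpectrum R).asIdeal = ⊥ := by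
        change Ideal.comap (algebraMap R K) _ = ⊥
        rw [(Ideal.eq_bot_or_top _).resolve_right (pullback.snd f (sK R K) (Classical.arbitrary _) : PrimeSpectrum K).2.ne_top,
          ← RingHom.ker_eq_comap_bot,
          (RingHom.injective_iff_ker_eq_bot (algebraMap R K)).mp (IsFractionRing.injective R K)]
      rw [RingHom.injective_iff_ker_eq_bot, eq_bot_iff]
      intro r hr
      rw [← h0, ← h1]
      change algebraMap R B r ∈ (w : PrimeSpectrum B).asIdeal
      rw [RingHom.mem_ker.mp hr]
      exact zero_mem _
    let S := Γ(X, ⊤)
    let c : R →+* S := ((Scheme.ΓSpecIso (CommRingCat.of R)).inv ≫ f.appTop).hom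
    letI : Algebra R S := c.toAlgebra
    haveI : Module.Finite R S := RingHom.finite_algebraMap.mp (SteinLead.finite_appTop_of_isProper f)
    have hc : ∀ r, UnitsProd.ev e (c r) = algebraMap R B r := by
      intro r
      change UnitsProd.ev e (f.appTop ((Scheme.ΓSpecIso (CommRingCat.of R)).inv r)) = _
      rw [← UnitsProd.ev_comp, he]
      change ((Spec.map _).appTop ≫ (Scheme.ΓSpecIso _).hom).hom
        ((Scheme.ΓSpecIso (CommRingCat.of R)).inv r) = _
      rw [Scheme.ΓSpecIso_naturality]
      exact congrArg (algebraMap R B)
        ((Scheme.ΓSpecIso (CommRingCat.of R)).commRingCatIsoToRingEquiv.apply_symm_apply r)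
    let φ : S →ₐ[R] B := { toRingHom := UnitsProd.ev e, commutes' := hc }
    have hcinj : Function.Injective (algebraMap R S) := fun a b h => hinjB (by
      rw [← hc a, ← hc b]; exact congrArg _ h)
    letI : Algebra R (AlgebraicClosure K) := ((algebraMap K _).comp (algebraMap R K)).toAlgebra
    haveI := isDomain_baseChange K f e he hinjB
    have hb := algebraMap_bijective_of_domain (R := R) (AlgebraicClosure K)
      (show Function.Injective ((algebraMap K (AlgebraicClosure K)).comp (algebraMap R K)) from
        (algebraMap K (AlgebraicClosure K)).injective.comp (IsFractionRing.injective R K)) hcinj φ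
      (UnitsProd.ev_injective e)
    have : f.appTop.hom = c.comp (Scheme.ΓSpecIso (CommRingCat.of R)).hom.hom := by
      change _ = ((Scheme.ΓSpecIso (CommRingCat.of R)).hom ≫
        (Scheme.ΓSpecIso (CommRingCat.of R)).inv ≫ f.appTop).hom
      rw [Iso.hom_inv_id_assoc]
    rw [this]
    exact hb.comp (ConcreteCategory.bijective_of_isIso (Scheme.ΓSpecIso (CommRingCat.of R)).hom)
  exact FormalFun.geometricallyConnected_of_isIso_app f
    (FormalFun.isIso_app_of_cover f (fun _ : PUnit.{1} => ⊤) (fun _ => isAffineOpen_top _)
      (fun _ => ⟨⟨⟩, trivial⟩) (fun _ => hbij))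

/-- (i) ⟺ (iv): let R be a discrete valuation ring with fraction field K, A an abelian variety over K (a
proper, geometrically integral group scheme) and N a Néron model of A over Spec R. Then A extends to
an abelian scheme over R (a proper smooth group scheme with connected geometric fibres and generic
fibre K-isomorphic to A) if and only if N is proper over Spec R. -/
theorem result (R : Type u) [CommRing R] [IsDomain R] [IsDiscreteValuationRing R]
    (A : Over (Spec (CommRingCat.of (FractionRing R)))) [GrpObj A] [IsProper A.hom] [GeometricallyIntegral A.hom]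
    (N : Over (Spec (CommRingCat.of R))) (e : (Neron.genericFibre R).obj N ≅ A) (hN : Neron.IsNeronModelOf R N A e) :
    (∃ (B : Over (Spec (CommRingCat.of R))) (_ : GrpObj B), IsProper B.hom ∧ Smooth B.hom ∧
        (∀ (k' : Type u) [Field k'] (t : Spec (CommRingCat.of k') ⟶ Spec (CommRingCat.of R)), ConnectedSpace ↑(pullback B.hom t)) ∧
        Nonempty ((Over.pullback (Spec.map (CommRingCat.ofHom (algebraMap R (FractionRing R))))).obj B ≅ A)) ↔ IsProper N.hom := by
  obtain ⟨hNs, hNsep, hNlft, hNqc, hNmap⟩ := id hN
  haveI := hNs; haveI := hNsep; haveI := hNlft; haveI := hNqc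
  constructor
  · rintro ⟨B, _, hBp, hBs, -, ⟨e'⟩⟩
    haveI := hBp
    obtain ⟨u, hu⟩ := (hNmap B hBs).2 e'.hom
    haveI : IsProper (u.left ≫ N.hom) := by rw [Over.w u]; infer_instance
    haveI : IsProper u.left := IsProper.of_comp u.left N.hom
    haveI : IsIso ((Neron.genericFibre R).map u) := by
      have : (Neron.genericFibre R).map u = e'.hom ≫ e.inv := by
        rw [Iso.eq_comp_inv]; exact hu
      rw [this]; infer_instance
    haveI : Surjective u.left := by
      refine ⟨fun y => ?_⟩
      have hd : Dense (Set.range (pullback.fst N.hom (Neron.genPt R))) := by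
        rw [Scheme.Pullback.range_fst]
        refine Dense.preimage ?_ N.hom.isOpenMap
        refine dense_iff_inter_open.mpr fun U hU ⟨p, hp⟩ => ?_
        have hbot : ((⊥ : PrimeSpectrum R) : ↥(Spec (CommRingCat.of R))) ∈ Set.range (Neron.genPt R) := by
          refine ⟨(⊥ : PrimeSpectrum (FractionRing R)), PrimeSpectrum.ext ?_⟩
          change Ideal.comap (algebraMap R (FractionRing R)) ⊥ = ⊥
          rw [← RingHom.ker_eq_comap_bot,
            (RingHom.injective_iff_ker_eq_bot (algebraMap R (FractionRing R))).mp (IsFractionRing.injective R (FractionRing R))]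
        exact ⟨_, ((PrimeSpectrum.le_iff_specializes (⊥ : PrimeSpectrum R) p).mp bot_le).mem_open hU hp, hbot⟩
      refine (u.left.isClosedMap.isClosed_range.closure_subset_iff.mpr ?_) (hd y)
      rintro _ ⟨w, rfl⟩
      haveI : IsIso ((Neron.genericFibre R).map u).left := inferInstance
      refine ⟨pullback.fst B.hom (Neron.genPt R) (inv ((Neron.genericFibre R).map u).left w), ?_⟩
      have h1 : ((Neron.genericFibre R).map u).left ≫ pullback.fst N.hom (Neron.genPt R) =
          pullback.fst B.hom (Neron.genPt R) ≫ u.left := pullback.lift_fst _ _ _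
      have h2 : inv ((Neron.genericFibre R).map u).left ≫ pullback.fst B.hom (Neron.genPt R) ≫ u.left =
          pullback.fst N.hom (Neron.genPt R) := by
        rw [← h1, IsIso.inv_hom_id_assoc]
      conv_rhs => rw [← h2]
      rfl
    haveI : IsProper (u.left ≫ N.hom) := by rw [Over.w u]; infer_instance
    haveI : UniversallyClosed N.hom := UniversallyClosed.of_comp_surjective u.left N.hom
    exact ⟨⟩
  · intro hp
    obtain ⟨hG⟩ := NeronGrp.exists_grpObj_of_isNeronModelOf N A e hN
    haveI : GeometricallyIntegral (pullback.snd N.hom (DVRProper.sK R (FractionRing R))) := by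
      have h : GeometricallyIntegral (e.hom.left ≫ A.hom) :=
        (MorphismProperty.cancel_left_of_respectsIso @GeometricallyIntegral e.hom.left A.hom).mpr inferInstance
      rw [Over.w e.hom] at h
      exact h
    haveI := geometricallyConnected_of_proper (FractionRing R) N.hom
    exact ⟨N, hG, hp, hNs, fun k' _ t => GeometricallyConnected.geometrically_connectedSpace t
      (pullback.fst _ _) (pullback.snd _ _) (IsPullback.of_hasPullback _ _), ⟨e⟩⟩

end Groth.Agent.S3211
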