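import Groth.Statements.S3214
import Mathlib

set_option autoImplicit false
open Polynomial
universe u
open SGA7II

namespace Groth.Agent.S3214

/-- In the recursive form established in its proof: let A = Z[X_1, ..., X_a] (a >= 1), P = prod_i (T -
X_i) in A[T] and S_i the i-th elementary symmetric function. Writing a_j for the coefficient of
T^{a-1} in the remainder of T^{a-1+j} modulo P, one has a_0 = 1 and sum_{i=0}^{a} (-1)^i S_i a_{j-i}
= 0 for every j > 0 (with a_m = 0 for m < 0); equivalently sum_j (-1)^j a_j is the inverse of sum_i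
S_i. (The source works in formal power series; the identity involves only polynomials.) -/
theorem result (a : ℕ) (ha : 0 < a) :
    let P : (MvPolynomial (Fin a) ℤ)[X] := ∏ i : Fin a, (X - C (MvPolynomial.X i))
    let coef : ℤ → MvPolynomial (Fin a) ℤ := fun j =>
      if j < 0 then 0 else ((X : (MvPolynomial (Fin a) ℤ)[X]) ^ (a - 1 + j.toNat) %ₘ P).coeff (a - 1)
    coef 0 = 1 ∧ ∀ j : ℕ, 0 < j →
      (∑ i ∈ Finset.range (a + 1), (-1 : MvPolynomial (Fin a) ℤ) ^ i * MvPolynomial.esymm (Fin a) ℤ i *
        coef ((j : ℤ) - i)) = 0 := by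
  intro P coef
  have hm : P.Monic := monic_prod_of_monic _ _ fun i _ => monic_X_sub_C _
  have hdeg : P.natDegree = a := by
    rw [natDegree_prod_of_monic _ _ fun i _ => monic_X_sub_C _]
    simp
  have hne : P ≠ 1 := fun h => by rw [h, natDegree_one] at hdeg; omega
  have hlow : ∀ n, n < a → ((X : (MvPolynomial (Fin a) ℤ)[X]) ^ n %ₘ P) = X ^ n := fun n hn =>
    (modByMonic_eq_self_iff hm).mpr (by
      rw [degree_X_pow, degree_eq_natDegree hm.ne_zero, hdeg]
      exact_mod_cast hn)
  refine ⟨?_, fun j hj => ?_⟩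
  · simp only [coef, if_neg (lt_irrefl (0 : ℤ)), Int.toNat_zero, add_zero]
    rw [hlow (a - 1) (by omega), coeff_X_pow_self]
  have hterm : ∀ i ∈ Finset.range (a + 1), coef ((j : ℤ) - i) =
      ((X : (MvPolynomial (Fin a) ℤ)[X]) ^ (a - 1 + j - i) %ₘ P).coeff (a - 1) := by
    intro i hi
    simp only [Finset.mem_range] at hi
    simp only [coef]
    split_ifs with h
    · rw [hlow _ (by omega), coeff_X_pow, if_neg (by omega)]
    · rw [show a - 1 + ((j : ℤ) - i).toNat = a - 1 + j - i by omega]
  have hP : P = ∑ i ∈ Finset.range (a + 1),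
      C ((-1 : MvPolynomial (Fin a) ℤ) ^ i * MvPolynomial.esymm (Fin a) ℤ i) * X ^ (a - i) := by
    have h := Multiset.prod_X_sub_X_eq_sum_esymm ((Finset.univ : Finset (Fin a)).val.map
      (fun i => (MvPolynomial.X i : MvPolynomial (Fin a) ℤ)))
    rw [Multiset.map_map, Multiset.card_map, Finset.card_val, Finset.card_univ, Fintype.card_fin] at h
    refine Eq.trans ?_ (h.trans (Finset.sum_congr rfl fun i _ => ?_))
    · rfl
    · rw [← MvPolynomial.esymm_eq_multiset_esymm, map_mul, map_pow, map_neg, map_one]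
      ring
  have hzero : (∑ i ∈ Finset.range (a + 1), ((-1 : MvPolynomial (Fin a) ℤ) ^ i *
      MvPolynomial.esymm (Fin a) ℤ i) • ((X : (MvPolynomial (Fin a) ℤ)[X]) ^ (a - 1 + j - i) %ₘ P)) = 0 := by
    simp only [← modByMonicHom_apply, ← map_smul, ← map_sum]
    rw [modByMonicHom_apply, modByMonic_eq_zero_iff_dvd hm]
    refine ⟨X ^ (j - 1), ?_⟩
    conv_rhs => rw [hP, Finset.sum_mul]
    refine Finset.sum_congr rfl fun i hi => ?_
    simp only [Finset.mem_range] at hi
    rw [smul_eq_C_mul, mul_assoc, ← pow_add]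
    congr 2
    omega
  have h2 := congrArg (fun p => Polynomial.coeff p (a - 1)) hzero
  simp only [finsetSum_coeff, coeff_smul, coeff_zero, smul_eq_mul] at h2
  exact (Finset.sum_congr rfl fun i hi => by rw [hterm i hi]).trans h2
end Groth.Agent.S3214
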