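import Groth.Statements.S3240
import Groth.Agent.EtSh.FieldTransfer
import Groth.Agent.EtCechLib.PushTorsion
import Groth.Agent.EtSh.Flasque
import Groth.Agent.S0124

set_option autoImplicit false
universe u
open CategoryTheory AlgebraicGeometry
open Dix

namespace Groth.Agent.S3240

set_option backward.isDefEq.respectTransparency.types false

section

open CategoryTheory.Limits CategoryTheory.Abelian Opposite

variable {X S : Scheme.{u}} (f : S ⟶ X) [Subsingleton S] [QuasiCompact f] [QuasiSeparated f]

omit [Subsingleton S] [QuasiSeparated f] in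
theorem compact_bc (V : X.Etale) [CompactSpace V.left] : CompactSpace ((EtCoh.bc f).obj V).left := by
  haveI : QuasiCompact (pullback.fst V.hom f) := MorphismProperty.pullback_fst _ _ ‹QuasiCompact f›
  haveI : CompactSpace ((𝟭 Scheme).obj V.left) := (inferInstance : CompactSpace V.left)
  exact (QuasiCompact.compactSpace_of_compactSpace (pullback.fst V.hom f) : CompactSpace (pullback V.hom f : Scheme.{u}))

omit [QuasiSeparated f] in
theorem exists_lift_mult {I Q : EtCoh.Ab S} (φ : I ⟶ Q) [Epi φ] (V : X.Etale) [CompactSpace V.left]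
    (s : EtCoh.sect ((EtCoh.push f).obj Q) V) :
    ∃ (n : ℕ) (r : EtCoh.sect ((EtCoh.push f).obj I) V), 0 < n ∧ ((EtCoh.push f).map φ).hom.app (op V) r = n • s := by
  haveI := compact_bc f V
  exact EtSh.exists_nsmul_lift φ ((EtCoh.bc f).obj V) s

theorem isTorsion_Rpush : ∀ (q : ℕ) (F : EtCoh.Ab S), EtCoh.IsTorsion ((EtCoh.Rpush f (q + 1)).obj F) := by
  haveI : PreservesLimitsOfSize.{0, 0} (EtCoh.push f) := (EtCoh.pullPushAdj f).rightAdjoint_preservesLimits
  haveI : PreservesFiniteLimits (EtCoh.push f) := PreservesLimitsOfSize.preservesFiniteLimits.{0, 0} _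
  intro q
  induction q with
  | zero =>
    intro F
    let T := ShortComplex.mk (Injective.ι F) (cokernel.π (Injective.ι F)) (cokernel.condition _)
    have hT : T.ShortExact :=
      { exact := T.exact_of_g_is_cokernel (cokernelIsCokernel _)
        mono_f := inferInstanceAs (Mono (Injective.ι F))
        epi_g := inferInstanceAs (Epi (cokernel.π (Injective.ι F))) }
    haveI : Injective T.X₂ := inferInstanceAs (Injective (Injective.under F))
    haveI := hT.epi_g
    obtain ⟨π, w, hπ, -⟩ := CompDerived.exists_cokernel (EtCoh.push f) hT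
      (fun j => (EtCoh.push f).isZero_rightDerived_obj_injective_succ j T.X₂)
    haveI := hπ
    intro U s x
    obtain ⟨W, g, z, r, hz, hr⟩ := EtSh.exists_lift_of_epi π U s x
    obtain ⟨A, e, a, hA, ha⟩ := EtCechLib.exists_affine_over z
    haveI := hA
    obtain ⟨n, r', hn, hr'⟩ := exists_lift_mult f T.g A (((EtCoh.push f).obj T.X₃).obj.map e.op r)
    refine ⟨A, e ≫ g, ⟨a, by rw [← hz, ← ha]; rfl⟩, isOfFinAddOrder_iff_nsmul_eq_zero.2 ⟨n, hn, ?_⟩⟩
    have h0 : π.hom.app (op A) (((EtCoh.push f).map T.g).hom.app (op A) r') = 0 :=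
      ConcreteCategory.congr_hom (congrArg (fun k => k.hom.app (op A)) w) r'
    rw [hr', map_nsmul, NatTrans.naturality_apply π.hom e.op r, hr] at h0
    rw [op_comp, Functor.map_comp, ConcreteCategory.comp_apply]
    exact h0
  | succ q ih =>
    intro F
    let T := ShortComplex.mk (Injective.ι F) (cokernel.π (Injective.ι F)) (cokernel.condition _)
    have hT : T.ShortExact :=
      { exact := T.exact_of_g_is_cokernel (cokernelIsCokernel _)
        mono_f := inferInstanceAs (Mono (Injective.ι F))
        epi_g := inferInstanceAs (Epi (cokernel.π (Injective.ι F))) }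
    haveI : Injective T.X₂ := inferInstanceAs (Injective (Injective.under F))
    exact EtCechLib.isTorsion_of_iso (CompDerived.nonempty_shiftIso (EtCoh.push f) hT
      (fun j => (EtCoh.push f).isZero_rightDerived_obj_injective_succ j T.X₂) q).some (ih T.X₃)

theorem isAddTorsion_H [CompactSpace X] [QuasiSeparatedSpace X] : ∀ (q : ℕ) (F : EtCoh.Ab S),
    IsAddTorsion (EtCoh.H X ((EtCoh.push f).obj F) (q + 1)) := by
  haveI : PreservesLimitsOfSize.{0, 0} (EtCoh.push f) := (EtCoh.pullPushAdj f).rightAdjoint_preservesLimits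
  haveI : PreservesFiniteLimits (EtCoh.push f) := PreservesLimitsOfSize.preservesFiniteLimits.{0, 0} _
  haveI : (EtCoh.pull f).PreservesMonomorphisms := EtSh.pull_preservesMonomorphisms f
  intro q
  induction q using Nat.strong_induction_on with
  | _ q ih =>
    intro F
    let T := ShortComplex.mk (Injective.ι F) (cokernel.π (Injective.ι F)) (cokernel.condition _)
    have hT : T.ShortExact :=
      { exact := T.exact_of_g_is_cokernel (cokernelIsCokernel _)
        mono_f := inferInstanceAs (Mono (Injective.ι F))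
        epi_g := inferInstanceAs (Epi (cokernel.π (Injective.ι F))) }
    haveI : Injective T.X₂ := inferInstanceAs (Injective (Injective.under F))
    haveI : Injective ((EtCoh.push f).obj T.X₂) := Injective.injective_of_adjoint (EtCoh.pullPushAdj f) T.X₂
    haveI := hT.epi_g; haveI := hT.mono_f
    obtain ⟨π, w, hπ, hex⟩ := CompDerived.exists_cokernel (EtCoh.push f) hT
      (fun j => (EtCoh.push f).isZero_rightDerived_obj_injective_succ j T.X₂)
    haveI := hπ
    let j : (EtCoh.push f).obj T.X₂ ⟶ kernel π := kernel.lift π ((EtCoh.push f).map T.g) w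
    haveI : Epi j := hex.epi_kernelLift
    let A := ShortComplex.mk ((EtCoh.push f).map T.f) j (by
      rw [← cancel_mono (kernel.ι π), Category.assoc, kernel.lift_ι, zero_comp, ← Functor.map_comp, T.zero, Functor.map_zero])
    have hA : A.ShortExact :=
      { exact := by
          let φ : A ⟶ T.map (EtCoh.push f) :=
            { τ₁ := 𝟙 _, τ₂ := 𝟙 _, τ₃ := kernel.ι π
              comm₁₂ := (Category.id_comp _).trans (Category.comp_id _).symm
              comm₂₃ := (Category.id_comp _).trans (kernel.lift_ι π _ w).symm }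
          haveI : Epi φ.τ₁ := inferInstanceAs (Epi (𝟙 _))
          haveI : IsIso φ.τ₂ := inferInstanceAs (IsIso (𝟙 _))
          haveI : Mono φ.τ₃ := inferInstanceAs (Mono (kernel.ι π))
          refine (ShortComplex.exact_iff_of_epi_of_isIso_of_mono φ).2 ?_
          exact ShortComplex.exact_of_f_is_kernel _ (KernelFork.mapIsLimit _ hT.fIsKernel (EtCoh.push f))
        mono_f := inferInstanceAs (Mono ((EtCoh.push f).map T.f))
        epi_g := ‹Epi j› }
    intro ξ
    obtain ⟨η, rfl⟩ := Ext.covariant_sequence_exact₁ _ hA ξ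
      (Subsingleton.elim (h := inferInstanceAs (Subsingleton (EtCoh.H X ((EtCoh.push f).obj T.X₂) (q + 1)))) _ _) rfl
    show IsOfFinAddOrder (hA.extClass.postcomp _ rfl η)
    cases q with
    | zero =>
      let hX := EtSh.topTerminal X
      haveI : CompactSpace (EtCoh.top X).left := ‹CompactSpace X›
      let y := (kernel.ι π).hom.app (op (EtCoh.top X)) (Sheaf.H.equiv₀ (kernel π) hX η)
      obtain ⟨n, r, hn, hr⟩ := exists_lift_mult f T.g (EtCoh.top X) y
      have e : (kernel.ι π).hom.app (op (EtCoh.top X)) (j.hom.app (op (EtCoh.top X)) r) =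
          (kernel.ι π).hom.app (op (EtCoh.top X)) (n • Sheaf.H.equiv₀ (kernel π) hX η) := by
        rw [map_nsmul]
        exact (ConcreteCategory.congr_hom (congrArg (fun k => k.hom.app (op (EtCoh.top X))) (kernel.lift_ι π _ w)) r).trans hr
      have e' : n • η = Sheaf.H.map j 0 ((Sheaf.H.equiv₀ ((EtCoh.push f).obj T.X₂) hX).symm r) := by
        apply (Sheaf.H.equiv₀ (kernel π) hX).injective
        rw [map_nsmul, ← Sheaf.H.equiv₀_naturality, AddEquiv.apply_symm_apply]
        exact (S14452.injective_app_of_mono (kernel.ι π) inferInstance _ e).symm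
      refine isOfFinAddOrder_iff_nsmul_eq_zero.2 ⟨n, hn, ?_⟩
      rw [← map_nsmul, e']
      exact (Ext.comp_assoc_of_second_deg_zero _ (Ext.mk₀ j) hA.extClass rfl).trans
        ((congrArg (fun e => Ext.comp _ e rfl) hA.comp_extClass).trans (Ext.comp_zero _ _ _ _ _))
    | succ q =>
      let B := ShortComplex.mk (kernel.ι π) π (kernel.condition π)
      have hB : B.ShortExact :=
        { exact := ShortComplex.exact_of_f_is_kernel _ (kernelIsKernel π)
          mono_f := inferInstanceAs (Mono (kernel.ι π))
          epi_g := ‹Epi π› }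
      obtain ⟨m, hm, hmη⟩ := isOfFinAddOrder_iff_nsmul_eq_zero.1
        (ih q (Nat.lt_succ_self q) T.X₃ ((Ext.mk₀ B.f).postcomp _ (add_zero _) η))
      obtain ⟨θ, hθ⟩ := Ext.covariant_sequence_exact₁ _ hB (m • η) (by
        show (Ext.mk₀ B.f).postcomp _ (add_zero _) (m • η) = 0
        rw [map_nsmul]; exact hmη) rfl
      obtain ⟨k, hk, hkθ⟩ := isOfFinAddOrder_iff_nsmul_eq_zero.1
        (S0124.result X _ (isTorsion_Rpush f 0 F) q θ)
      refine isOfFinAddOrder_iff_nsmul_eq_zero.2 ⟨k * m, Nat.mul_pos hk hm, ?_⟩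
      have hz : (k * m) • η = 0 := by
        rw [← smul_smul, ← hθ]
        show k • hB.extClass.postcomp _ rfl θ = 0
        rw [← map_nsmul, hkθ, map_zero]
      rw [← map_nsmul, hz, map_zero]

end

/-- Let X be quasi-compact and quasi-separated, x a point of X with i_x : Spec κ(x) → X, and F an
abelian étale sheaf on Spec κ(x). Then for every q ≥ 1 the sheaf R^q i_{x*} F is a torsion sheaf on
X_ét and the group H^q(X_ét, i_{x*} F) is a torsion group. -/
theorem result (X : Scheme.{u}) [CompactSpace X] [QuasiSeparatedSpace X] (x : X) (F : EtCoh.Ab (Spec (X.residueField x))) (q : ℕ) (hq : 1 ≤ q) : EtCoh.IsTorsion ((EtCoh.Rpush (X.fromSpecResidueField x) q).obj F) ∧ IsAddTorsion (EtCoh.H X ((Dix.skyPush X x).obj F) q) := by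
  haveI : Subsingleton (Spec (X.residueField x)) := inferInstanceAs (Subsingleton (PrimeSpectrum (X.residueField x)))
  haveI : QuasiCompact (X.fromSpecResidueField x) := quasiCompact_of_compactSpace _
  haveI : QuasiSeparated (X.fromSpecResidueField x) := QuasiSeparated.of_quasiSeparatedSpace _
  obtain ⟨p, rfl⟩ : ∃ p, q = p + 1 := ⟨q - 1, by omega⟩
  exact ⟨isTorsion_Rpush _ p F, isAddTorsion_H _ p F⟩

end Groth.Agent.S3240
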