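import Groth.Statements.S3243
import Groth.Agent.S3240
import Groth.Agent.EtSh.ConstStalk
import Groth.Prelude.Def_EtCore

set_option autoImplicit false
universe u
open CategoryTheory AlgebraicGeometry
open Dix

namespace Groth.Agent.S3243

set_option backward.isDefEq.respectTransparency.types false

section

open CategoryTheory.Limits CategoryTheory.Abelian Opposite

variable {S : Scheme.{u}} [Subsingleton S] (M : Type) [AddCommGroup M] [IsAddTorsionFree M]

omit [IsAddTorsionFree M] in
/-- over a one point base sections of a constant sheaf are constant -/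
theorem surjective_constant_sections [Nonempty S] {A B : AddCommGrpCat.{u + 1}} (p : A ⟶ B) (hp : Function.Surjective p) :
    Function.Surjective (((constantSheaf S.smallEtaleTopology AddCommGrpCat.{u + 1}).map p).hom.app (op (EtCoh.top S))) := by
  intro q
  obtain ⟨Ω, _, _, ξ, -⟩ := EtSh.exists_geometric_point (Classical.arbitrary S)
  obtain ⟨b, hb⟩ := (EtSh.bijective_constGerm ξ B).2 (EtSh.germ ξ _ (EtSh.topLift ξ) q)
  obtain ⟨a, rfl⟩ := hp b
  refine ⟨(EtCore.constAdj S).unit.app A a, ?_⟩
  have h : ((constantSheaf S.smallEtaleTopology AddCommGrpCat.{u + 1}).map p).hom.app (op (EtCoh.top S))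
      ((EtCore.constAdj S).unit.app A a) = (EtCore.constAdj S).unit.app B (p a) :=
    (ConcreteCategory.congr_hom ((EtCore.constAdj S).unit.naturality p) a).symm
  rw [h]
  obtain ⟨c, hc⟩ : ∃ c : EtCoh.sect ((constantSheaf S.smallEtaleTopology AddCommGrpCat.{u + 1}).obj B) (EtCoh.top S),
      c = (EtCore.constAdj S).unit.app B (p a) := ⟨_, rfl⟩
  refine Eq.trans hc.symm (sub_eq_zero.1 (EtSh.sect_ext _ fun x => ?_))
  have h0 : EtSh.germ ξ ((constantSheaf S.smallEtaleTopology AddCommGrpCat.{u + 1}).obj B) (EtSh.topLift ξ)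
      (c - q) = 0 := by
    rw [map_sub, sub_eq_zero, hc]
    exact hb
  obtain ⟨W, g, w, hw, h1⟩ := (EtSh.germ_eq_zero_iff _ _ _).1 h0
  exact ⟨W, g, w, Subsingleton.elim (α := S) _ _, h1.trans (map_zero _).symm⟩

/-- `H¹` of a one point base with torsion free constant coefficients has no torsion -/
theorem eq_zero_of_nsmul [Nonempty S] {n : ℕ} (hn : 0 < n) (ξ : EtCoh.H S (EtCoh.const S M) 1) (hξ : n • ξ = 0) :
    ξ = 0 := by
  let hX := EtSh.topTerminal S
  let C := constantSheaf S.smallEtaleTopology AddCommGrpCat.{u + 1}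
  haveI : PreservesColimitsOfSize.{0, 0} C := (EtCore.constAdj S).leftAdjoint_preservesColimits
  haveI : PreservesFiniteColimits C := PreservesColimitsOfSize.preservesFiniteColimits.{0, 0} _
  haveI : PreservesFiniteLimits C := comp_preservesFiniteLimits _ _
  haveI : C.Additive := by
    haveI := preservesBinaryBiproducts_of_preservesBinaryProducts C
    exact Functor.additive_of_preservesBinaryBiproducts C
  let A := AddCommGrpCat.of (ULift.{u + 1} M)
  let R := ShortComplex.mk (n • 𝟙 A) (cokernel.π (n • 𝟙 A)) (cokernel.condition _)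
  have hR : R.ShortExact :=
    { exact := ShortComplex.exact_cokernel _
      mono_f := (AddCommGrpCat.mono_iff_injective _).2 fun a b hab => by
        change n • a = n • b at hab
        exact ULift.down_injective (nsmul_right_injective hn.ne' (congrArg ULift.down hab))
      epi_g := inferInstanceAs (Epi (cokernel.π (n • 𝟙 A))) }
  have hC := hR.map_of_exact C
  have hk : ∀ k : ℕ, Sheaf.H.map (k • 𝟙 (C.obj A)) 1 ξ = k • ξ := fun k => by
    induction k with
    | zero => rw [zero_nsmul, zero_nsmul]; exact (Sheaf.H.map_apply _ _).trans (by rw [Ext.mk₀_zero, Ext.comp_zero])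
    | succ k ih => rw [succ_nsmul, succ_nsmul, Sheaf.H.map_add_apply, ih, Sheaf.H.map_id_apply]
  have h1 : ξ.comp (Ext.mk₀ (R.map C).f) (add_zero 1) = 0 := by
    show ξ.comp (Ext.mk₀ (C.map (n • 𝟙 A))) (add_zero 1) = 0
    rw [C.map_nsmul, C.map_id]
    exact (Sheaf.H.map_apply _ ξ).symm.trans ((hk n).trans hξ)
  obtain ⟨θ, hθ⟩ := Ext.covariant_sequence_exact₁ _ hC ξ h1 rfl
  have hsur := surjective_constant_sections (S := S) R.g ((AddCommGrpCat.epi_iff_surjective _).1 hR.epi_g)
  obtain ⟨a, ha⟩ := hsur (Sheaf.H.equiv₀ _ hX θ)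
  have e2 : θ = Sheaf.H.map (C.map R.g) 0 ((Sheaf.H.equiv₀ _ hX).symm a) := by
    apply (Sheaf.H.equiv₀ _ hX).injective
    exact ha.symm.trans (((congrArg _ (AddEquiv.apply_symm_apply (Sheaf.H.equiv₀ (C.obj R.X₂) hX) a)).symm.trans
      (Sheaf.H.equiv₀_naturality hX (C.map R.g) _)))
  rw [← hθ, e2]
  exact (Ext.comp_assoc_of_second_deg_zero _ (Ext.mk₀ (R.map C).g) hC.extClass rfl).trans
    ((congrArg (fun e => Ext.comp _ e rfl) hC.comp_extClass).trans (Ext.comp_zero _ _ _ _ _))

/-- over a one point base, sections lift along a quotient by a constant torsion free sheaf -/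
theorem surjective_top [Nonempty S] [CompactSpace S] {T : ShortComplex (EtCoh.Ab S)} (hT : T.ShortExact)
    (e : T.X₁ = EtCoh.const S M) [Injective T.X₂] :
    Function.Surjective (T.g.hom.app (op (EtCoh.top S))) := by
  classical
  intro q
  haveI := hT.epi_g
  haveI : CompactSpace (EtCoh.top S).left := ‹CompactSpace S›
  obtain ⟨n, r, hn, hr⟩ := EtSh.exists_nsmul_lift T.g (EtCoh.top S) q
  let hX := EtSh.topTerminal S
  let η := (Sheaf.H.equiv₀ T.X₃ hX).symm q
  let ξ : EtCoh.H S T.X₁ 1 := η.comp hT.extClass rfl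
  have hξ : n • ξ = 0 := by
    show n • hT.extClass.postcomp _ rfl η = 0
    rw [← map_nsmul]
    have e' : n • η = Sheaf.H.map T.g 0 ((Sheaf.H.equiv₀ T.X₂ hX).symm r) := by
      apply (Sheaf.H.equiv₀ T.X₃ hX).injective
      rw [map_nsmul, ← Sheaf.H.equiv₀_naturality, AddEquiv.apply_symm_apply, AddEquiv.apply_symm_apply, hr]
    rw [e']
    exact (Ext.comp_assoc_of_second_deg_zero _ (Ext.mk₀ T.g) hT.extClass rfl).trans
      ((congrArg (fun e => Ext.comp _ e rfl) hT.comp_extClass).trans (Ext.comp_zero _ _ _ _ _))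
  have key : ∀ (F : EtCoh.Ab S), F = EtCoh.const S M → ∀ z : EtCoh.H S F 1, n • z = 0 → z = 0 := by
    rintro F rfl
    exact eq_zero_of_nsmul M hn
  have hξ0 : ξ = 0 := key T.X₁ e ξ hξ
  obtain ⟨y, hy⟩ := Ext.covariant_sequence_exact₃ _ hT η rfl hξ0
  refine ⟨Sheaf.H.equiv₀ T.X₂ hX y, ?_⟩
  rw [Sheaf.H.equiv₀_naturality]
  exact (congrArg (Sheaf.H.equiv₀ T.X₃ hX) hy).trans (AddEquiv.apply_symm_apply _ _)

theorem main {X : Scheme.{u}} (f : S ⟶ X) [Nonempty S] [CompactSpace S] [QuasiCompact f] [QuasiSeparated f]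
    [CompactSpace X] [QuasiSeparatedSpace X] :
    Subsingleton (EtCoh.H X ((EtCoh.push f).obj (EtCoh.const S M)) 1) := by
  haveI : PreservesLimitsOfSize.{0, 0} (EtCoh.push f) := (EtCoh.pullPushAdj f).rightAdjoint_preservesLimits
  haveI : PreservesFiniteLimits (EtCoh.push f) := PreservesLimitsOfSize.preservesFiniteLimits.{0, 0} _
  haveI : (EtCoh.pull f).PreservesMonomorphisms := EtSh.pull_preservesMonomorphisms f
  let T := ShortComplex.mk (Injective.ι (EtCoh.const S M)) (cokernel.π (Injective.ι (EtCoh.const S M))) (cokernel.condition _)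
  have hT : T.ShortExact :=
    { exact := T.exact_of_g_is_cokernel (cokernelIsCokernel _)
      mono_f := inferInstanceAs (Mono (Injective.ι (EtCoh.const S M)))
      epi_g := inferInstanceAs (Epi (cokernel.π (Injective.ι (EtCoh.const S M)))) }
  haveI : Injective T.X₂ := inferInstanceAs (Injective (Injective.under (EtCoh.const S M)))
  haveI : Injective ((EtCoh.push f).obj T.X₂) := Injective.injective_of_adjoint (EtCoh.pullPushAdj f) T.X₂
  let P := T.map (EtCoh.push f)
  haveI := hT.mono_f
  let k : (EtCoh.push f).obj T.X₁ ⟶ _ := (EtCoh.push f).map T.f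
  let A := ShortComplex.mk k (cokernel.π k) (cokernel.condition k)
  haveI : Mono k := (EtCoh.push f).map_mono T.f
  have hA : A.ShortExact :=
    { exact := ShortComplex.exact_cokernel _
      mono_f := ‹Mono k›
      epi_g := inferInstanceAs (Epi (cokernel.π k)) }
  let j : A.X₃ ⟶ P.X₃ := cokernel.desc k P.g P.zero
  haveI : Mono j := by
    have hP : P.Exact := ShortComplex.exact_of_f_is_kernel _ (KernelFork.mapIsLimit _ hT.fIsKernel (EtCoh.push f))
    exact hP.mono_cokernelDesc
  let hX := EtSh.topTerminal X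
  refine CohAcyc.subsingleton_one_of_lift hA
    (inferInstanceAs (Subsingleton (EtCoh.H X ((EtCoh.push f).obj T.X₂) (0 + 1)))) fun s => ?_
  let e := EtCore.bcTopIso f
  let z := Sheaf.H.equiv₀ A.X₃ hX (Ext.addEquiv₀.symm s)
  obtain ⟨a, ha⟩ := surjective_top M hT rfl (T.X₃.obj.map e.inv.op (j.hom.app (op (EtCoh.top X)) z))
  let a' : A.X₂.obj.obj (op (EtCoh.top X)) := T.X₂.obj.map e.hom.op a
  have ha' : A.g.hom.app (op (EtCoh.top X)) a' = z := by
    refine S14452.injective_app_of_mono j inferInstance _ ?_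
    refine (ConcreteCategory.congr_hom (congrArg (fun k => k.hom.app (op (EtCoh.top X))) (cokernel.π_desc k P.g P.zero)) a').trans ?_
    show T.g.hom.app _ (T.X₂.obj.map e.hom.op a) = _
    rw [NatTrans.naturality_apply T.g.hom e.hom.op a, ha, ← ConcreteCategory.comp_apply, ← T.X₃.obj.map_comp,
      ← op_comp, e.hom_inv_id, op_id, T.X₃.obj.map_id]
    rfl
  refine ⟨Ext.addEquiv₀ ((Sheaf.H.equiv₀ A.X₂ hX).symm a'), ?_⟩
  rw [← Sheaf.H.addEquiv₀_map]
  have := Sheaf.H.equiv₀_naturality hX A.g ((Sheaf.H.equiv₀ A.X₂ hX).symm a')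
  rw [AddEquiv.apply_symm_apply, ha'] at this
  rw [← (Sheaf.H.equiv₀ A.X₃ hX).injective this, AddEquiv.apply_symm_apply]

end

/-- Let X be quasi-compact and quasi-separated, x a point of X and M a torsion-free abelian group, M_x
the constant sheaf on Spec κ(x). Then H¹(X_ét, i_{x*} M_x) = 0. -/
theorem result (X : Scheme.{u}) [CompactSpace X] [QuasiSeparatedSpace X] (x : X) (M : Type) [AddCommGroup M] [IsAddTorsionFree M] : Subsingleton (EtCoh.H X ((Dix.skyPush X x).obj (EtCoh.const (Spec (X.residueField x)) M)) 1) := by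
  haveI : Subsingleton (Spec (X.residueField x)) := inferInstanceAs (Subsingleton (PrimeSpectrum (X.residueField x)))
  haveI : Nonempty (Spec (X.residueField x)) := inferInstanceAs (Nonempty (PrimeSpectrum (X.residueField x)))
  haveI : QuasiCompact (X.fromSpecResidueField x) := quasiCompact_of_compactSpace _
  haveI : QuasiSeparated (X.fromSpecResidueField x) := QuasiSeparated.of_quasiSeparatedSpace _
  exact main M (X.fromSpecResidueField x)

end Groth.Agent.S3243
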