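import Groth.Statements.S3248
import Groth.Agent.CSA.Basic

set_option autoImplicit false
universe u
open TensorProduct
open Dix

namespace Groth.Agent.S3248

/-- Stated for a commutative subalgebra: let A be a central simple algebra of dimension r² over a field
k and L a commutative k-algebra embedded in A by an injective k-algebra homomorphism ι, such that A
is free of rank r for the right L-module structure a · l = a ι(l) (given here as a module structure
together with that compatibility). Then L ⊗_k A is isomorphic as an L-algebra to the matrix algebra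
M_r(L). (Only the existence of an isomorphism is stated; the text names the map a ⊗ l ↦ (y ↦ a y
l).) -/
theorem result (k : Type u) [Field k] (A : Type u) [Ring A] [Algebra k A] [Algebra.IsCentral k A] [IsSimpleRing A] [FiniteDimensional k A] (L : Type u) [CommRing L] [Algebra k L] (ι : L →ₐ[k] A) (hι : Function.Injective ι) [Module L A] (hmod : ∀ (l : L) (a : A), l • a = a * ι l) [Module.Free L A] (r : ℕ) (hr : 0 < r) (hA : Module.finrank k A = r ^ 2) (hrank : Module.finrank L A = r) : Nonempty ((L ⊗[k] A) ≃ₐ[L] Matrix (Fin r) (Fin r) L) := by
  classical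
  have := Groth.Agent.CSA.isAzumaya_of_isCentral (k := k) (A := A)
  have : IsScalarTower k L A := ⟨fun c l a => by
    rw [hmod, hmod, map_smul, mul_smul_comm]⟩
  have : SMulCommClass k L A := ⟨fun c l a => by
    rw [hmod, hmod, smul_mul_assoc]⟩
  have : Module.Finite L A := Module.Finite.of_restrictScalars_finite k L A
  have : FiniteDimensional k L := FiniteDimensional.of_injective ι.toLinearMap hι
  have : Nontrivial L := RingHom.domain_nontrivial ι.toRingHom
  let ρ : A →ₐ[k] Module.End L A :=
    { toFun := fun a =>
        { toFun := fun x => a * x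
          map_add' := mul_add a
          map_smul' := fun l x => by simp only [hmod, RingHom.id_apply, mul_assoc] }
      map_one' := LinearMap.ext one_mul
      map_mul' := fun a b => LinearMap.ext fun x => mul_assoc a b x
      map_zero' := LinearMap.ext fun x => zero_mul x
      map_add' := fun a b => LinearMap.ext fun x => add_mul a b x
      commutes' := fun c => LinearMap.ext fun x => (Algebra.smul_def c x).symm }
  let Φ : L ⊗[k] A →ₐ[L] Module.End L A :=
    Algebra.TensorProduct.lift (Algebra.ofId L (Module.End L A)) ρ fun l a => Algebra.commutes l (ρ a)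
  have hfin : Module.finrank k L = r := by
    have h := Module.finrank_mul_finrank k L A
    rw [hrank, hA, pow_two] at h
    exact Nat.eq_of_mul_eq_mul_right hr h
  let b : Module.Basis (Fin r) L A := Module.finBasisOfFinrankEq L A hrank
  let μ : L →ₗ[k] Aᵐᵒᵖ := (MulOpposite.opLinearEquiv k).toLinearMap ∘ₗ ι.toLinearMap
  have hμ : Function.Injective μ := fun x y h => hι (MulOpposite.op_injective h)
  let T : L ⊗[k] A →ₗ[k] A ⊗[k] Aᵐᵒᵖ :=
    (TensorProduct.comm k Aᵐᵒᵖ A).toLinearMap ∘ₗ μ.rTensor A
  have hT : Function.Injective T :=
    (TensorProduct.comm k Aᵐᵒᵖ A).injective.comp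
      (Module.Flat.rTensor_preserves_injective_linearMap μ hμ)
  have hΦ : ∀ z x, Φ z x = AlgHom.mulLeftRight k A (T z) x := fun z x => by
    induction z using TensorProduct.induction_on with
    | zero => simp
    | tmul l a =>
      simp only [T, μ, LinearMap.comp_apply, LinearEquiv.coe_coe, LinearMap.rTensor_tmul,
        TensorProduct.comm_tmul, AlgHom.mulLeftRight_apply]
      rw [Algebra.TensorProduct.lift_tmul]
      exact hmod l (a * x)
    | add z w hz hw => simp only [map_add, LinearMap.add_apply, hz, hw]
  have hinj : Function.Injective Φ := fun z w h => hT ((IsAzumaya.bij (R := k) (A := A)).1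
    (LinearMap.ext fun x => by rw [← hΦ, ← hΦ, h]))
  let e₂ : Module.End L A ≃ₐ[L] Matrix (Fin r) (Fin r) L := algEquivMatrix b
  have hbij : Function.Bijective (e₂.toAlgHom.comp Φ) := by
    have hi : Function.Injective (e₂.toAlgHom.comp Φ) := e₂.injective.comp hinj
    refine ⟨hi, ?_⟩
    refine (LinearMap.injective_iff_surjective_of_finrank_eq_finrank (K := k)
      (f := ((e₂.toAlgHom.comp Φ).toLinearMap.restrictScalars k)) ?_).mp hi
    rw [Module.finrank_tensorProduct, Module.finrank_matrix, hfin, hA, Fintype.card_fin]
    ring
  exact ⟨AlgEquiv.ofBijective _ hbij⟩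

end Groth.Agent.S3248
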