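import Groth.Statements.S3288
import Groth.Agent.Lam.Pos

set_option autoImplicit false
universe u
open Finset
open LambdaRing

namespace Groth.Agent.S3288

/-- In a λ-ring with positive structure having the splitting property, for a positive element e the
augmentation of λ^i(e) is the binomial coefficient C(ε(e), i). -/
theorem result (K : Type u) [CommRing K] [LambdaRing.LambdaOps K] (P : LambdaRing.PosStructure K) (hK : LambdaRing.HasSplitting K P) (e : K) (he : e ∈ P.pos)
    (i : ℕ) : P.aug (LambdaRing.LambdaOps.lam i e) = ((P.aug e).toNat.choose i : ℤ) := by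
  obtain ⟨L, f, hf, h⟩ := Groth.Agent.Lam.exists_splitting hK [e] (by simpa using he)
  obtain ⟨s, hs, hsum⟩ := h e (by simp)
  rw [← hf.aug_comp, hf.isLambdaHom, ← hsum, Groth.Agent.Lam.lam_lines hs,
    Groth.Agent.Lam.map_esymm']
  have hc : (P.aug e).toNat = Multiset.card s := by
    rw [← hf.aug_comp, ← hsum, Groth.Agent.Lam.aug_sum_lines hs, Int.toNat_natCast]
  have h1 : s.map L.posStr.aug = Multiset.replicate (Multiset.card s) 1 := by
    rw [Multiset.eq_replicate]
    refine ⟨by simp, fun b hb => ?_⟩
    obtain ⟨u, hu, rfl⟩ := Multiset.mem_map.mp hb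
    exact (hs u hu).2
  rw [hc, h1, ← Groth.Agent.Lam.coeff_splitSeries]
  simp only [Groth.Agent.Lam.splitSeries, Multiset.map_replicate, Multiset.prod_replicate, map_one,
    one_mul]
  rw [add_comm, show ((PowerSeries.X : PowerSeries ℤ) + 1) ^ Multiset.card s
      = (((Polynomial.X : Polynomial ℤ) + 1) ^ Multiset.card s : Polynomial ℤ) by simp,
    Polynomial.coeff_coe, Polynomial.coeff_X_add_one_pow]

end Groth.Agent.S3288
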