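import Groth.Statements.S3290
import Groth.Agent.Lam.Pos

set_option autoImplicit false
universe u
open Finset
open LambdaRing

namespace Groth.Agent.S3290

/-- For a positive element e of augmentation m in a λ-ring with positive structure, the polynomials
Σ_{i=0}^{m} γ^i(e − m) t^(m−i) and Σ_{i=0}^{m} λ^i(e) (t − 1)^(m−i) are equal. -/
theorem result (K : Type u) [CommRing K] [LambdaRing.LambdaOps K] (P : LambdaRing.PosStructure K) (e : K) (he : e ∈ P.pos) :
    (∑ i ∈ range ((P.aug e).toNat + 1),
        Polynomial.C (LambdaRing.gamma i (e - ((P.aug e).toNat : K))) * Polynomial.X ^ ((P.aug e).toNat - i)) =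
      ∑ i ∈ range ((P.aug e).toNat + 1),
        Polynomial.C (LambdaRing.LambdaOps.lam i e) * (Polynomial.X - 1) ^ ((P.aug e).toNat - i) := by
  set n := (P.aug e).toNat with hn
  have he' : ∀ i : ℕ, n < i → LambdaRing.LambdaOps.lam i e = 0 := fun i hi =>
    P.lam_eq_zero e he i (by have := P.aug_pos e he; omega)
  have hg := Groth.Agent.Lam.gamSeries_sub_natCast (Groth.Agent.Lam.lam_one_pos P) e n he'
  ext c
  simp only [Polynomial.finsetSum_coeff, Polynomial.coeff_C_mul]
  rcases le_or_gt c n with hc | hc
  · rw [Finset.sum_eq_single (n - c)]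
    · rw [Polynomial.coeff_X_pow, if_pos (by omega), mul_one, ← Groth.Agent.Lam.coeff_gamSeries, hg,
        map_sum]
      refine Finset.sum_congr rfl fun i hi => ?_
      have hi' : i ≤ n := by simpa [Nat.lt_succ_iff] using hi
      rw [mul_assoc, PowerSeries.coeff_C_mul, PowerSeries.coeff_X_pow_mul']
      congr 1
      rw [show ((1 : PowerSeries K) - PowerSeries.X) ^ (n - i)
          = (((((1 : Polynomial K) - Polynomial.X) ^ (n - i)) : Polynomial K) : PowerSeries K) by simp,
        Polynomial.coeff_coe,
        show ((1 : Polynomial K) - Polynomial.X) = Polynomial.C (-1 : K) * (Polynomial.X - 1) by simp,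
        mul_pow, ← Polynomial.C_pow, Polynomial.coeff_C_mul,
        show (Polynomial.X - 1 : Polynomial K) = Polynomial.X + Polynomial.C (-1) by simp [sub_eq_add_neg],
        Polynomial.coeff_X_add_C_pow, Polynomial.coeff_X_add_C_pow]
      split
      · next h =>
        rw [← mul_assoc, ← pow_add, show n - c - i = n - i - c by omega,
          show (n - i).choose (n - i - c) = (n - i).choose c from Nat.choose_symm (by omega)]
        congr 1
        rw [show n - i + (n - i - (n - i - c)) = (n - i - c) + 2 * c by omega, pow_add, pow_mul]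
        simp
      · next h =>
        rw [Nat.choose_eq_zero_of_lt (show n - i < c by omega)]
        simp
    · intro b hb hne
      rw [Polynomial.coeff_X_pow, if_neg (by simp at hb; omega), mul_zero]
    · intro h; exact absurd (by simp) h
  · rw [Finset.sum_eq_zero fun b hb => ?_, Finset.sum_eq_zero fun b hb => ?_]
    · rw [show (Polynomial.X - 1 : Polynomial K) = Polynomial.X + Polynomial.C (-1) by simp [sub_eq_add_neg],
        Polynomial.coeff_X_add_C_pow, Nat.choose_eq_zero_of_lt (show n - b < c by omega)]
      simp
    · rw [Polynomial.coeff_X_pow, if_neg (by omega), mul_zero]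

end Groth.Agent.S3290
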