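import Groth.Statements.S3352
import Mathlib

set_option autoImplicit false
open Models

namespace Groth.Agent.S3352

/-- Let L₀, L₁ be finite free ℤ-modules with positive definite symmetric integral bilinear forms, the
form on L₀ unimodular (x ↦ ⟨x, −⟩ is a bijection L₀ → Hom(L₀, ℤ)), and let d : L₀ → L₁ and d* : L₁ →
L₀ be adjoint. Identify Im(d)^# (the dual lattice of Im(d)) with Hom(Im(d), ℤ) through the form on
L₁. Then there is an isomorphism Φ from the torsion subgroup of Coker(d* d) onto Im(d)^#/Im(d),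
determined by: for x ∈ L₀ whose class is torsion, Φ[x] is the class of the functional d(y') ↦ ⟨x,
y'⟩ (equivalently the class of (1/a)·d(y) when a·x = d* d(y)). -/
theorem result {L₀ L₁ : Type} [AddCommGroup L₀] [AddCommGroup L₁]
    [Module.Finite ℤ L₀] [Module.Free ℤ L₀] [Module.Finite ℤ L₁] [Module.Free ℤ L₁]
    (B₀ : LinearMap.BilinForm ℤ L₀) (B₁ : LinearMap.BilinForm ℤ L₁) (h₀s : B₀.IsSymm) (h₁s : B₁.IsSymm)
    (h₀p : ∀ x, x ≠ 0 → 0 < B₀ x x) (h₁p : ∀ x, x ≠ 0 → 0 < B₁ x x) (huni : Function.Bijective B₀)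
    (d : L₀ →ₗ[ℤ] L₁) (ds : L₁ →ₗ[ℤ] L₀) (hadj : ∀ x y, B₁ (d x) y = B₀ x (ds y)) :
    ∃ Φ : ↥(Submodule.torsion ℤ (L₀ ⧸ LinearMap.range (ds ∘ₗ d))) ≃ₗ[ℤ]
        (Module.Dual ℤ ↥(LinearMap.range d) ⧸
          LinearMap.range ((B₁.compl₂ (LinearMap.range d).subtype) ∘ₗ (LinearMap.range d).subtype)),
      ∀ (x : L₀) (hx : Submodule.Quotient.mk x ∈ Submodule.torsion ℤ (L₀ ⧸ LinearMap.range (ds ∘ₗ d)))
        (ψ : Module.Dual ℤ ↥(LinearMap.range d)),
        (∀ y' : L₀, ψ ⟨d y', LinearMap.mem_range_self d y'⟩ = B₀ x y') →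
          Φ ⟨Submodule.Quotient.mk x, hx⟩ = Submodule.Quotient.mk ψ := by
  classical
  set K := ds ∘ₗ d with hK
  set I := LinearMap.range d with hI
  set f := ((B₁.compl₂ I.subtype) ∘ₗ I.subtype) with hf
  have hkerd : ∀ y, K y = 0 → d y = 0 := fun y hy => by
    by_contra hne
    have h := h₁p (d y) hne
    rw [hadj] at h
    rw [show ds (d y) = 0 from hy, map_zero] at h
    exact lt_irrefl _ h
  have hfinj : Function.Injective f := by
    refine (injective_iff_map_eq_zero f).2 fun z hz => ?_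
    by_contra hne
    have h := h₁p (z : L₁) (fun h => hne (Subtype.ext h))
    have h' : B₁ (z : L₁) (z : L₁) = 0 := LinearMap.congr_fun hz z
    exact lt_irrefl _ (h' ▸ h)
  haveI : Module.Finite ℤ I := Module.Finite.range d
  haveI : Module.Free ℤ I := Module.free_of_finite_type_torsion_free'
  have htors : ∀ ψ : Module.Dual ℤ I, ∃ a : ℤ, a ≠ 0 ∧ a • ψ ∈ LinearMap.range f := by
    intro ψ
    have h1 := Submodule.finrank_quotient_add_finrank (LinearMap.range f)
    have h3 : Module.finrank ℤ (Module.Dual ℤ I) = Module.finrank ℤ I :=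
      (Module.finrank_linearMap ℤ ℤ I ℤ).trans (by rw [Module.finrank_self, mul_one])
    rw [LinearMap.finrank_range_of_inj hfinj, h3] at h1
    have h2 : Module.finrank ℤ (Module.Dual ℤ I ⧸ LinearMap.range f) = 0 := by simpa using h1
    obtain ⟨a, ha, ha'⟩ := Module.finrank_eq_zero_iff.1 h2 (Submodule.Quotient.mk ψ)
    exact ⟨a, ha, by rwa [← Submodule.Quotient.mk_smul, Submodule.Quotient.mk_eq_zero] at ha'⟩
  let T₀ : Submodule ℤ L₀ := (Submodule.torsion ℤ (L₀ ⧸ LinearMap.range K)).comap (LinearMap.range K).mkQ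
  have hT : ∀ x : T₀, ∃ ψ : Module.Dual ℤ I, ∀ y', ψ ⟨d y', LinearMap.mem_range_self d y'⟩ = B₀ x y' := by
    rintro ⟨x, hx⟩
    obtain ⟨⟨a, ha⟩, hax⟩ := (Submodule.mem_torsion_iff _).1 hx
    have hmem : a • x ∈ LinearMap.range K := by
      rw [← Submodule.Quotient.mk_eq_zero, Submodule.Quotient.mk_smul]
      exact hax
    obtain ⟨y, hy⟩ := hmem
    have hker : LinearMap.ker d ≤ LinearMap.ker (B₀ x) := by
      intro y' hy'
      rw [LinearMap.mem_ker] at hy' ⊢
      have h : a * B₀ x y' = 0 := by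
        rw [← smul_eq_mul, ← LinearMap.smul_apply, ← map_smul, ← hy, h₀s.eq]
        show B₀ y' (ds (d y)) = 0
        rw [← hadj, hy', map_zero, LinearMap.zero_apply]
      exact (mul_eq_zero.1 h).resolve_left (nonZeroDivisors.ne_zero ha)
    refine ⟨((LinearMap.ker d).liftQ (B₀ x) hker).comp d.quotKerEquivRange.symm.toLinearMap, fun y' => ?_⟩
    show (LinearMap.ker d).liftQ (B₀ x) hker (d.quotKerEquivRange.symm ⟨d y', _⟩) = _
    rw [LinearMap.quotKerEquivRange_symm_apply_image]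
    rfl
  choose g hg using hT
  have huniq : ∀ (ψ ψ' : Module.Dual ℤ I),
      (∀ y', ψ ⟨d y', LinearMap.mem_range_self d y'⟩ = ψ' ⟨d y', LinearMap.mem_range_self d y'⟩) → ψ = ψ' :=
    fun ψ ψ' h => LinearMap.ext fun ⟨z, hz⟩ => by
      obtain ⟨y', rfl⟩ := hz
      exact h y'
  let G : T₀ →ₗ[ℤ] Module.Dual ℤ I :=
    { toFun := g
      map_add' := fun x x' => huniq _ _ fun y' => by
        simp only [LinearMap.add_apply, hg, Submodule.coe_add, map_add]
      map_smul' := fun c x => huniq _ _ fun y' => by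
        simp only [LinearMap.smul_apply, hg, SetLike.val_smul, map_smul, RingHom.id_apply] }
  let Ψ : T₀ →ₗ[ℤ] Module.Dual ℤ I ⧸ LinearMap.range f := (LinearMap.range f).mkQ.comp G
  have hΨs : Function.Surjective Ψ := by
    intro q
    obtain ⟨ψ, rfl⟩ := Submodule.Quotient.mk_surjective _ q
    obtain ⟨x, hx⟩ := huni.2 (ψ.comp d.rangeRestrict)
    obtain ⟨a, ha, ⟨z, hz⟩⟩ := htors ψ
    obtain ⟨y, hy⟩ := z.2
    have hxK : a • x = K y := huni.1 (LinearMap.ext fun y' => by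
      rw [map_smul, hx, LinearMap.smul_apply]
      have h := LinearMap.congr_fun hz ⟨d y', LinearMap.mem_range_self d y'⟩
      refine Eq.trans ?_ (h₀s.eq y' (K y))
      show a • ψ ⟨d y', _⟩ = B₀ y' (ds (d y))
      rw [← hadj, h₁s.eq, hy]
      exact h.symm)
    have hxT : x ∈ T₀ := (Submodule.mem_torsion_iff _).2
      ⟨⟨a, mem_nonZeroDivisors_of_ne_zero ha⟩, by
        show a • (Submodule.Quotient.mk x : L₀ ⧸ LinearMap.range K) = 0
        rw [← Submodule.Quotient.mk_smul, Submodule.Quotient.mk_eq_zero, hxK]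
        exact LinearMap.mem_range_self _ _⟩
    refine ⟨⟨x, hxT⟩, congrArg Submodule.Quotient.mk (huniq _ _ fun y' => ?_)⟩
    show g ⟨x, hxT⟩ _ = _
    rw [hg]
    exact LinearMap.congr_fun hx y'
  let q : T₀ →ₗ[ℤ] Submodule.torsion ℤ (L₀ ⧸ LinearMap.range K) :=
    ((LinearMap.range K).mkQ.comp T₀.subtype).codRestrict _ fun x => x.2
  have hqs : Function.Surjective q := by
    rintro ⟨z, hz⟩
    obtain ⟨x, rfl⟩ := Submodule.Quotient.mk_surjective _ z
    exact ⟨⟨x, hz⟩, rfl⟩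
  have hker : LinearMap.ker q = LinearMap.ker Ψ := by
    ext x
    have e1 : q x = 0 ↔ (x : L₀) ∈ LinearMap.range K :=
      ⟨fun h => (Submodule.Quotient.mk_eq_zero _).1 (congrArg Subtype.val h),
        fun h => Subtype.ext ((Submodule.Quotient.mk_eq_zero _).2 h)⟩
    have e2 : Ψ x = 0 ↔ g x ∈ LinearMap.range f := Submodule.Quotient.mk_eq_zero _
    rw [LinearMap.mem_ker, LinearMap.mem_ker, e1, e2]
    constructor
    · rintro ⟨y, hy⟩
      refine ⟨⟨d y, LinearMap.mem_range_self d y⟩, huniq _ _ fun y' => ?_⟩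
      rw [hg, ← hy]
      show B₁ (d y) (d y') = B₀ (ds (d y)) y'
      rw [h₀s.eq, ← hadj, h₁s.eq]
    · rintro ⟨⟨_, ⟨y, rfl⟩⟩, hz⟩
      refine ⟨y, huni.1 (LinearMap.ext fun y' => ?_)⟩
      rw [← hg x y', ← hz]
      show B₀ (ds (d y)) y' = B₁ (d y) (d y')
      rw [h₀s.eq, ← hadj, h₁s.eq]
  let Φ := (q.quotKerEquivOfSurjective hqs).symm.trans
    ((Submodule.quotEquivOfEq _ _ hker).trans (Ψ.quotKerEquivOfSurjective hΨs))
  refine ⟨Φ, fun x hx ψ hψ => ?_⟩
  have hp : (q.quotKerEquivOfSurjective hqs).symm ⟨Submodule.Quotient.mk x, hx⟩ =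
      Submodule.Quotient.mk (⟨x, hx⟩ : T₀) := by
    rw [LinearEquiv.symm_apply_eq]
    rfl
  show ((Submodule.quotEquivOfEq _ _ hker).trans (Ψ.quotKerEquivOfSurjective hΨs))
    ((q.quotKerEquivOfSurjective hqs).symm ⟨Submodule.Quotient.mk x, hx⟩) = _
  rw [hp]
  show Submodule.Quotient.mk (g ⟨x, hx⟩) = Submodule.Quotient.mk ψ
  exact congrArg Submodule.Quotient.mk (huniq _ _ fun y' => (hg _ y').trans (hψ y').symm)

end Groth.Agent.S3352
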