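import Groth.Statements.S3390
import Groth.Agent.EquidimChart.Ineq
import Mathlib

set_option autoImplicit false
open CategoryTheory AlgebraicGeometry
universe u
open EGA43

namespace Groth.Agent.S3390

open Groth.Agent.EquidimChart Groth.Agent.DimTheory
set_option backward.isDefEq.respectTransparency.types false


/-- Let Y be an irreducible locally Noetherian scheme with generic point η and X an irreducible scheme,
and let f : X ⟶ Y be dominant and locally of finite type. Take a point x of X and write y = f x.
Suppose dim O_{X,x} = dim O_{Y,y} + dim O_{X_y,x}. Then the local dimension of the fibre X_y at x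
(FlatMor.fibreDimAt f x) equals the dimension of the generic fibre X_η (i.e. f is equidimensional at
x). -/
theorem result {X Y : Scheme.{u}} [IrreducibleSpace X] [IrreducibleSpace Y]
    [IsLocallyNoetherian Y] (f : X ⟶ Y) [LocallyOfFiniteType f] [IsDominant f] (x : X)
    (h : ringKrullDim (X.presheaf.stalk x) =
        ringKrullDim (Y.presheaf.stalk (f.base x)) + ringKrullDim ((f.fiber (f.base x)).presheaf.stalk (f.asFiber x))) :
    FlatMor.fibreDimAt f x = topologicalKrullDim ↥(f.fiber (genericPoint Y)) := by
  have hd := apply_genericPoint_of_dominant f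
  obtain ⟨a, b, t, e, ha, hb, ht, he, hle⟩ := dim_stalk_add_trdeg_le f hd x
  obtain ⟨z, n, hzx, hz, hn, hdn⟩ := exists_fibreMax f x
  rw [dim_fiber_generic f hd he, hdn]
  have h1 : e ≤ n := le_of_specializes f (genericPoint_specializes x)
    (fun w hw _ => Groth.Agent.FlatDim.genericPoint_isMax w hw) he hdn.le
  rw [ha, hb, ringKrullDim_stalk_eq_coheight] at h
  rw [Groth.Agent.AlgSpDesc.fibreDimAt_eq_stalk_add_resTrdeg, show Dual3.resTrdeg f x = mapTrdeg f x from rfl, ht,
    map_natCast, ringKrullDim_stalk_eq_coheight] at hdn
  generalize Order.coheight (f.asFiber x) = c at h hdn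
  obtain ⟨c, rfl⟩ : ∃ c' : ℕ, c = c' := by
    induction c using ENat.recTopCoe with
    | top =>
      rw [← WithBot.coe_add, top_add] at hdn
      exact absurd (WithBot.coe_injective (a₁ := (⊤ : ℕ∞)) (a₂ := (n : ℕ∞)) hdn) (ENat.natCast_ne_top n).symm
    | coe c => exact ⟨c, rfl⟩
  have h2 : a = b + c := by exact_mod_cast h
  have h3 : c + t = n := by exact_mod_cast hdn
  rw [show n = e by omega]

end Groth.Agent.S3390
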