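import Groth.Statements.S3391
import Groth.Agent.EquidimChart.Ineq
import Groth.Agent.EquidimChart.Formula
import Groth.Agent.AlgSpDesc.ResTrdeg


set_option autoImplicit false
open CategoryTheory AlgebraicGeometry
universe u
open EGA43
set_option backward.isDefEq.respectTransparency.types false

namespace Groth.Agent.S3391

open Groth.Agent.EquidimChart Groth.Agent.DimTheory

/-- With X, Y, f, x, y as in the first assertion, suppose O_{Y,y} is universally catenary and the local
dimension at x of the fibre through x equals the dimension of the generic fibre. Then dim O_{X,x} =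
dim O_{Y,y} + dim O_{X_y,x}. -/
theorem result {X Y : Scheme.{u}} [IrreducibleSpace X] [IrreducibleSpace Y]
    [IsLocallyNoetherian Y] (f : X ⟶ Y) [LocallyOfFiniteType f] [IsDominant f] (x : X)
    (hcat : CAlg.IsUniversallyCatenary (Y.presheaf.stalk (f.base x)))
    (h : FlatMor.fibreDimAt f x = topologicalKrullDim ↥(f.fiber (genericPoint Y))) :
    ringKrullDim (X.presheaf.stalk x) =
        ringKrullDim (Y.presheaf.stalk (f.base x)) + ringKrullDim ((f.fiber (f.base x)).presheaf.stalk (f.asFiber x)) := by
  have hd := apply_genericPoint_of_dominant f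
  obtain ⟨a, b, t, e, ha, hb, ht, he, hle⟩ := dim_stalk_add_trdeg_le f hd x
  rw [dim_fiber_generic f hd he] at h
  have hfib := Groth.Agent.AlgSpDesc.fibreDimAt_eq_stalk_add_resTrdeg f x
  rw [h, show Dual3.resTrdeg f x = mapTrdeg f x from rfl, ht, map_natCast, ringKrullDim_stalk_eq_coheight] at hfib
  rw [ha, hb, ringKrullDim_stalk_eq_coheight]
  rw [ringKrullDim_stalk_eq_coheight] at ha hb
  have ha' : Order.coheight x = (a : ℕ∞) := WithBot.coe_injective ha
  have hb' : Order.coheight (f x) = (b : ℕ∞) := WithBot.coe_injective hb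
  obtain ⟨r, hr1, hr2⟩ := Order.exists_series_of_le_coheight (f x) hb'.ge
  have hlow := chain_formula f (genericPoint_specializes x) hcat ht he r hr1 (hd ▸ genericPoint_specializes _)
  rw [hr2, ha'] at hlow
  have h1 : b + e ≤ a + t := by exact_mod_cast hlow
  generalize Order.coheight (f.asFiber x) = c at hfib ⊢
  induction c using ENat.recTopCoe with
  | top =>
    rw [← WithBot.coe_add, top_add] at hfib
    exact absurd (WithBot.coe_injective (a₁ := ((e : ℕ) : ℕ∞)) (a₂ := (⊤ : ℕ∞)) hfib) (ENat.natCast_ne_top e)
  | coe c =>
    have h3 : e = c + t := by exact_mod_cast hfib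
    have h4 : a = b + c := by omega
    exact_mod_cast h4

end Groth.Agent.S3391
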