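import Groth.Statements.S3392
import Groth.Agent.EquidimChart.Ineq
import Groth.Agent.S3447
import Mathlib

set_option autoImplicit false
open CategoryTheory AlgebraicGeometry
universe u
open EGA43

namespace Groth.Agent.S3392

open Groth.Agent.DimTheory
set_option backward.isDefEq.respectTransparency.types false


/-- Let Y be an irreducible locally Noetherian scheme, f : X ⟶ Y a morphism of finite type and y a point
of Y. Condition (a): for every point x of the fibre over y, dim O_{X,x} = dim O_{Y,y} + dim
O_{X_y,x}. Condition (b): for every point z of the fibre over y at which the local ring of the fibre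
has dimension 0 (the generic points of the irreducible components of the fibre), dim O_{X,z} = dim
O_{Y,y}. Then (a) implies (b), and (b) implies (a) if O_{Y,y} is universally catenary. -/
theorem result {X Y : Scheme.{u}} [IrreducibleSpace Y] [IsLocallyNoetherian Y]
    (f : X ⟶ Y) [LocallyOfFiniteType f] [QuasiCompact f] (y : Y) :
    ((∀ x : X, f.base x = y → ringKrullDim (X.presheaf.stalk x) =
        ringKrullDim (Y.presheaf.stalk (f.base x)) + ringKrullDim ((f.fiber (f.base x)).presheaf.stalk (f.asFiber x))) →
      (∀ z : X, f.base z = y → ringKrullDim ((f.fiber (f.base z)).presheaf.stalk (f.asFiber z)) = 0 →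
        ringKrullDim (X.presheaf.stalk z) = ringKrullDim (Y.presheaf.stalk (f.base z)))) ∧
    (CAlg.IsUniversallyCatenary (Y.presheaf.stalk y) →
      (∀ z : X, f.base z = y → ringKrullDim ((f.fiber (f.base z)).presheaf.stalk (f.asFiber z)) = 0 →
        ringKrullDim (X.presheaf.stalk z) = ringKrullDim (Y.presheaf.stalk (f.base z))) →
      (∀ x : X, f.base x = y → ringKrullDim (X.presheaf.stalk x) =
        ringKrullDim (Y.presheaf.stalk (f.base x)) + ringKrullDim ((f.fiber (f.base x)).presheaf.stalk (f.asFiber x)))) := by
  refine ⟨fun h z hz h0 => by rw [h z hz, h0, add_zero], fun _ h x hx => ?_⟩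
  refine le_antisymm (Groth.Agent.S3447.result f x) ?_
  have : LocallyOfFiniteType (f.fiberToSpecResidueField (f x)) := MorphismProperty.pullback_snd _ _ inferInstance
  rw [ringKrullDim_stalk_eq_coheight, ringKrullDim_stalk_eq_coheight, ringKrullDim_stalk_eq_coheight]
  obtain ⟨c, hc⟩ := ENat.ne_top_iff_exists.1 (coheight_lt_top (k := Y.residueField (f x)) (f.fiberToSpecResidueField (f x)) (f.asFiber x)).ne
  obtain ⟨l, hl1, hl2⟩ := Order.exists_series_of_le_coheight (f.asFiber x) hc.le
  have hmono : StrictMono (f.fiberι (f x) : f.fiber (f x) → X) := by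
    intro a b hab
    refine Groth.Agent.FlatDim.lt_of_specializes_of_ne ((show b ⤳ a from hab.le).map (f.fiberι (f x)).continuous) ?_
    exact fun h => hab.ne ((f.fiberι (f x)).isEmbedding.injective h)
  let l1 := l.map _ hmono
  have hlast : f l1.last = y := by
    show f l1.last = y
    rw [LTSeries.last_map]
    exact (Groth.Agent.FlatEquidim.fiberι_apply_eq f _ _).trans hx
  have h0 : ringKrullDim ((f.fiber (f l1.last)).presheaf.stalk (f.asFiber l1.last)) = 0 := by
    rw [ringKrullDim_stalk_eq_coheight, Order.coheight_eq_zero.2 ?_, WithBot.coe_zero]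
    intro b hb
    refine le_of_eq ((Groth.Agent.EquidimChart.asFiber_max_iff f l1.last).2 (fun z hz hfz => ?_) b hb)
    rw [LTSeries.last_map] at hz hfz ⊢
    refine Groth.Agent.FlatDim.eq_fiberι_of_isMax f (fun v hv => ?_) hz (hfz.trans (Groth.Agent.FlatEquidim.fiberι_apply_eq f _ _))
    by_contra hne
    have := Order.length_le_coheight_head (p := l.snoc v (Groth.Agent.FlatDim.lt_of_specializes_of_ne hv (Ne.symm hne)))
    rw [RelSeries.head_snoc, hl1, RelSeries.snoc_length, hl2, ← hc] at this
    norm_cast at this
    omega
  have hz := h l1.last hlast h0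
  rw [ringKrullDim_stalk_eq_coheight, ringKrullDim_stalk_eq_coheight, hlast, ← hx] at hz
  have h2 : Order.coheight (f.base x) + Order.coheight (f.asFiber x) ≤ Order.coheight x := by
    rw [← hc, ← WithBot.coe_injective hz]
    generalize hd : Order.coheight l1.last = d
    induction d using ENat.recTopCoe with
    | top =>
      have hmono' : Order.coheight l1.last ≤ Order.coheight x := Order.coheight_anti (by
        have := l1.head_le_last
        rwa [LTSeries.head_map, hl1, f.fiberι_asFiber] at this)
      rw [hd, top_le_iff] at hmono'
      rw [hmono']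
      exact le_top
    | coe d =>
      obtain ⟨m, hm1, hm2⟩ := Order.exists_series_of_le_coheight l1.last hd.ge
      have := Order.length_le_coheight_head (p := l1.smash m hm1.symm)
      rw [RelSeries.head_smash, RelSeries.smash_length, LTSeries.head_map, hl1, f.fiberι_asFiber, hm2] at this
      refine le_trans (le_of_eq ?_) this
      show (d : ℕ∞) + c = ((l.length + d : ℕ) : ℕ∞)
      rw [hl2, Nat.cast_add, add_comm]
  exact_mod_cast h2

end Groth.Agent.S3392
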