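import Groth.Statements.S3393
import Groth.Agent.EquidimChart.DimOpen
import Groth.Agent.EquidimChart.Ineq
import Groth.Agent.EquidimChart.Formula
import Groth.Agent.EquidimChart.Section
import Groth.Agent.AlgSpDesc.ResTrdeg
import Groth.Agent.S3447


set_option autoImplicit false
open CategoryTheory AlgebraicGeometry
universe u
open EGA43
set_option backward.isDefEq.respectTransparency.types false
set_option linter.style.haveILetI false

namespace Groth.Agent.S3393

open TopologicalSpace Groth.Agent.EquidimChart Groth.Agent.DimTheory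

/-- Let Y be an irreducible locally Noetherian scheme with generic point η, f : X ⟶ Y a morphism of
finite type and y a point of Y. Condition (b): for every point z of the fibre over y at which the
local ring of the fibre has dimension 0, dim O_{X,z} = dim O_{Y,y}. Condition (c): for every such z
there is an irreducible component X' of X containing z such that the dimension of X' ∩ f⁻¹(η)
(topology induced from X) equals the local dimension at z of the fibre over y (the dimension of the
irreducible component of the fibre with generic point z). Then (b) implies (c), and (c) implies (b)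
if O_{Y,y} is universally catenary. -/
theorem result {X Y : Scheme.{u}} [IrreducibleSpace Y] [IsLocallyNoetherian Y]
    (f : X ⟶ Y) [LocallyOfFiniteType f] [QuasiCompact f] (y : Y) :
    ((∀ z : X, f.base z = y → ringKrullDim ((f.fiber (f.base z)).presheaf.stalk (f.asFiber z)) = 0 →
        ringKrullDim (X.presheaf.stalk z) = ringKrullDim (Y.presheaf.stalk (f.base z))) →
      (∀ z : X, f.base z = y → ringKrullDim ((f.fiber (f.base z)).presheaf.stalk (f.asFiber z)) = 0 →
        ∃ X' ∈ irreducibleComponents (X : Type u), z ∈ X' ∧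
          topologicalKrullDim ↥(X' ∩ f.base ⁻¹' {genericPoint Y}) = FlatMor.fibreDimAt f z)) ∧
    (CAlg.IsUniversallyCatenary (Y.presheaf.stalk y) →
      (∀ z : X, f.base z = y → ringKrullDim ((f.fiber (f.base z)).presheaf.stalk (f.asFiber z)) = 0 →
        ∃ X' ∈ irreducibleComponents (X : Type u), z ∈ X' ∧
          topologicalKrullDim ↥(X' ∩ f.base ⁻¹' {genericPoint Y}) = FlatMor.fibreDimAt f z) →
      (∀ z : X, f.base z = y → ringKrullDim ((f.fiber (f.base z)).presheaf.stalk (f.asFiber z)) = 0 →
        ringKrullDim (X.presheaf.stalk z) = ringKrullDim (Y.presheaf.stalk (f.base z)))) := by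
  refine ⟨fun h z hz h0 => ?_, fun hUC h z hz h0 => ?_⟩
  · haveI : IsLocallyNoetherian X := LocallyOfFiniteType.isLocallyNoetherian f
    obtain ⟨t, ht, -⟩ := height_asFiber f z
    have hd : FlatMor.fibreDimAt f z = (t : WithBot ℕ∞) := by
      rw [Groth.Agent.AlgSpDesc.fibreDimAt_eq_stalk_add_resTrdeg, show Dual3.resTrdeg f z = mapTrdeg f z from rfl, ht, map_natCast, h0, zero_add]
      rfl
    obtain ⟨b, hb⟩ := LeadFCat.exists_dim (Y.presheaf.stalk (f z))
    have hD := h z hz h0
    rw [hb, ringKrullDim_stalk_eq_coheight] at hD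
    rw [ringKrullDim_stalk_eq_coheight] at hb
    have hD' : Order.coheight z = (b : ℕ∞) := WithBot.coe_injective hD
    have hdY : Order.coheight (f z) = (b : ℕ∞) := WithBot.coe_injective hb
    obtain ⟨r, hr1, hr2⟩ := Order.exists_series_of_le_coheight z hD'.ge
    have hξ : ∀ v : X, v ⤳ r.last → v = r.last := fun v hv => by
      by_contra hne
      have := Order.length_le_coheight_head (p := r.snoc v (Groth.Agent.FlatDim.lt_of_specializes_of_ne hv (Ne.symm hne)))
      rw [RelSeries.head_snoc, hr1, RelSeries.snoc_length, hr2, hD'] at this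
      norm_cast at this
      omega
    have hξz : r.last ⤳ z := hr1 ▸ (show r.last ⤳ r.head from r.head_le_last)
    let Wc : Closeds X := ⟨closure {r.last}, isClosed_closure⟩
    obtain ⟨hWirr, hWg, hWr⟩ := component_subscheme r.last Wc rfl
    let Yc : Closeds Y := ⟨closure {f r.last}, isClosed_closure⟩
    obtain ⟨hYirr, hYg, hYr⟩ := component_subscheme (f r.last) Yc rfl
    let ιW := (Scheme.IdealSheafData.vanishingIdeal Wc).subschemeι
    let ιY := (Scheme.IdealSheafData.vanishingIdeal Yc).subschemeι
    haveI : IsLocallyNoetherian (Scheme.IdealSheafData.vanishingIdeal Yc).subscheme :=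
      LocallyOfFiniteType.isLocallyNoetherian ιY
    have hrange : ∀ a, (ιW ≫ f) a ∈ Yc := fun a =>
      specializes_iff_mem_closure.1 ((specializes_iff_mem_closure.2 (hWr.le ⟨a, rfl⟩)).map f.continuous)
    let l := IsClosedImmersion.lift ιY (ιW ≫ f) (by
      rw [Scheme.IdealSheafData.ker_subschemeι]; exact vanishingIdeal_le_ker _ _ hrange)
    have hl : l ≫ ιY = ιW ≫ f := IsClosedImmersion.lift_fac _ _ _
    haveI : LocallyOfFiniteType (l ≫ ιY) := by rw [hl]; infer_instance
    haveI : LocallyOfFiniteType l := locallyOfFiniteType_of_comp l ιY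
    have hlg : l (genericPoint _) = genericPoint _ := ιY.isEmbedding.injective (by
      rw [← Scheme.Hom.comp_apply, hl, Scheme.Hom.comp_apply, hWg, hYg])
    obtain ⟨zW, hzW⟩ : z ∈ Set.range ιW := by rw [hWr]; exact specializes_iff_mem_closure.1 hξz
    have hlz : ιY (l zW) = f z := by rw [← Scheme.Hom.comp_apply, hl, Scheme.Hom.comp_apply, hzW]
    obtain ⟨a, a', t', e, ha, ha', ht', he, hsum⟩ := dim_stalk_add_trdeg_le l hlg zW
    have htr : ∀ w, mapTrdeg f (ιW w) = mapTrdeg l w := fun w => by
      have h1 : mapTrdeg (l ≫ ιY) w = mapTrdeg (ιW ≫ f) w := by rw [hl]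
      rw [FlatEquidim.mapTrdeg_comp, FlatEquidim.mapTrdeg_comp, mapTrdeg_eq_zero ιY, mapTrdeg_eq_zero ιW,
        zero_add, add_zero] at h1
      exact h1.symm
    rw [← htr, hzW, ht] at ht'
    rw [← htr, hWg] at he
    obtain rfl : t = t' := Nat.cast_injective (R := Cardinal.{u}) ht'
    rw [ringKrullDim_stalk_eq_coheight] at ha ha'
    have hab : b ≤ a := by
      have hmem : ∀ i, r i ∈ Set.range ιW := fun i => by
        rw [hWr]; exact specializes_iff_mem_closure.1 (show r.last ⤳ r i from r.monotone (Fin.le_last i))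
      choose G hG using hmem
      let r' : LTSeries _ := ⟨r.length, G, fun i => by
        refine Groth.Agent.FlatDim.lt_of_specializes_of_ne (ιW.isEmbedding.isInducing.specializes_iff.1 ?_) fun h => ?_
        · rw [hG, hG]; exact (r.step i).le
        · have h2 := congrArg ιW h
          rw [hG, hG] at h2
          exact (r.step i).ne h2⟩
      have h1 := Order.length_le_coheight (p := r') (x := zW) (show G 0 ⤳ zW from ιW.isEmbedding.isInducing.specializes_iff.1 (by
        rw [hG, hzW]; exact specializes_of_eq hr1))
      rw [show Order.coheight zW = (a : ℕ∞) from WithBot.coe_injective ha, show r'.length = r.length from rfl, hr2] at h1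
      exact_mod_cast h1
    have het : e ≤ t := le_of_specializes f hξz (fun w hw _ => hξ w hw) he hd.le
    have hY' : Order.coheight (l zW) = (a' : ℕ∞) := WithBot.coe_injective ha'
    have ha'b : a' ≤ b := by
      have := coheight_subscheme_le ιY (l zW)
      rw [hlz, hdY, hY'] at this
      exact_mod_cast this
    have hη : f r.last = genericPoint Y := by
      by_contra hne
      obtain ⟨s, hs1, hs2⟩ := Order.exists_series_of_le_coheight (l zW) hY'.ge
      let s0 := s.map _ (strictMono_immersion ιY)
      have hlt : s0.last < genericPoint Y := by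
        have h1 : f r.last ⤳ s0.last := by
          rw [LTSeries.last_map, ← hYg]; exact (genericPoint_specializes s.last).map ιY.continuous
        exact lt_of_le_of_lt (show s0.last ≤ f r.last from h1)
          (Groth.Agent.FlatDim.lt_of_specializes_of_ne (genericPoint_specializes _) hne)
      have h7 := Order.length_le_coheight_head (p := s0.snoc _ hlt)
      rw [RelSeries.head_snoc, RelSeries.snoc_length, LTSeries.head_map, hs1, hlz, hdY] at h7
      change ((s.length + 1 : ℕ) : ℕ∞) ≤ (b : ℕ∞) at h7
      have : s.length + 1 ≤ b := by exact_mod_cast h7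
      omega
    refine ⟨closure {r.last}, Groth.Agent.FlatDim.closure_mem_irreducibleComponents hξ, specializes_iff_mem_closure.1 hξz, ?_⟩
    have hgf : (ιW ≫ f) (genericPoint _) = genericPoint Y := by rw [Scheme.Hom.comp_apply, hWg, hη]
    have he' : mapTrdeg (ιW ≫ f) (genericPoint _) = e := by
      rw [FlatEquidim.mapTrdeg_comp, mapTrdeg_eq_zero ιW, hWg, he, add_zero]
    have hdim := dim_fiber_generic (ιW ≫ f) hgf he'
    rw [hd, show t = e by omega, ← hdim]
    refine (IsHomeomorph.topologicalKrullDim_eq _ ((((ιW ≫ f).fiberHomeo (genericPoint Y)).trans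
      (ιW.isEmbedding.homeomorphImage _)).trans (Homeomorph.setCongr ?_)).isHomeomorph).symm
    rw [show ((ιW ≫ f : _ ⟶ Y) ⁻¹' {genericPoint Y} : Set _) = ιW ⁻¹' (f ⁻¹' {genericPoint Y}) from rfl,
      Set.image_preimage_eq_inter_range, hWr, Set.inter_comm]
  · refine le_antisymm ?_ ?_
    · have := Groth.Agent.S3447.result f z
      rwa [h0, add_zero] at this
    obtain ⟨X', hX', hzX', hdim⟩ := h z hz h0
    have hcl : IsClosed X' := isClosed_of_mem_irreducibleComponents X' hX'
    have hgen := hX'.1.isGenericPoint_genericPoint hcl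
    have hξz : hX'.1.genericPoint ⤳ z := hgen.specializes hzX'
    obtain ⟨t, ht, -⟩ := height_asFiber f z
    rw [Groth.Agent.AlgSpDesc.fibreDimAt_eq_stalk_add_resTrdeg, show Dual3.resTrdeg f z = mapTrdeg f z from rfl, ht, map_natCast, h0, zero_add] at hdim
    have hne : (X' ∩ f.base ⁻¹' {genericPoint Y}).Nonempty := by
      by_contra hne
      haveI : IsEmpty ↥(X' ∩ f.base ⁻¹' {genericPoint Y}) := Set.isEmpty_coe_sort.2 (Set.not_nonempty_iff_eq_empty.1 hne)
      rw [show topologicalKrullDim ↥(X' ∩ f.base ⁻¹' {genericPoint Y}) = ⊥ from Order.krullDim_eq_bot_iff.2 ⟨fun s => IsEmpty.false s.isIrreducible.nonempty.some⟩] at hdim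
      exact absurd hdim.symm (WithBot.coe_ne_bot)
    obtain ⟨a, haX, ha⟩ := hne
    have hη : f hX'.1.genericPoint = genericPoint Y := Groth.Agent.FlatDim.eq_genericPoint fun w hw => by
      have h1 : f hX'.1.genericPoint ⤳ genericPoint Y := ha ▸ (hgen.specializes haX).map f.continuous
      exact (hw.antisymm (h1.trans (genericPoint_specializes w))).eq
    let Wc : Closeds X := ⟨X', hcl⟩
    obtain ⟨hWirr, hWg, hWr⟩ := component_subscheme hX'.1.genericPoint Wc hgen.def.symm
    let ιW := (Scheme.IdealSheafData.vanishingIdeal Wc).subschemeι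
    have hgf : (ιW ≫ f) (genericPoint _) = genericPoint Y := by rw [Scheme.Hom.comp_apply, hWg, hη]
    obtain ⟨e, he, -⟩ := height_asFiber f hX'.1.genericPoint
    have he' : mapTrdeg (ιW ≫ f) (genericPoint _) = e := by
      rw [FlatEquidim.mapTrdeg_comp, mapTrdeg_eq_zero ιW, hWg, he, add_zero]
    have hdim' := dim_fiber_generic (ιW ≫ f) hgf he'
    rw [IsHomeomorph.topologicalKrullDim_eq _ ((((ιW ≫ f).fiberHomeo (genericPoint Y)).trans
      (ιW.isEmbedding.homeomorphImage _)).trans (Homeomorph.setCongr (t := X' ∩ f.base ⁻¹' {genericPoint Y}) (by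
        rw [show ((ιW ≫ f : _ ⟶ Y) ⁻¹' {genericPoint Y} : Set _) = ιW ⁻¹' (f ⁻¹' {genericPoint Y}) from rfl,
          Set.image_preimage_eq_inter_range, hWr, hgen.def, Set.inter_comm]))).isHomeomorph, hdim] at hdim'
    obtain rfl : t = e := Nat.cast_injective (R := WithBot ℕ∞) hdim'
    rw [ringKrullDim_stalk_eq_coheight, ringKrullDim_stalk_eq_coheight]
    refine WithBot.coe_le_coe.2 (ENat.forall_natCast_le_iff_le.1 fun b hb => ?_)
    obtain ⟨r, hr1, hr2⟩ := Order.exists_series_of_le_coheight (f z) hb
    have h1 := chain_formula f hξz (hz ▸ hUC) ht he r hr1 (hη ▸ genericPoint_specializes _)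
    rw [hr2, Nat.cast_add] at h1
    exact WithTop.le_of_add_le_add_right (ENat.natCast_ne_top t) h1

end Groth.Agent.S3393
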