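import Groth.Statements.S3394
import Groth.Agent.DimTheory.Algebra
import Mathlib

set_option autoImplicit false
open CategoryTheory AlgebraicGeometry
universe u
open EGA43

namespace Groth.Agent.S3394


set_option backward.isDefEq.respectTransparency.types false

theorem exists_scaled {A C K B : Type u} [CommRing A] [CommRing C] [Field K] [CommRing B] [Algebra A C] [Algebra A K]
    [Algebra A B] [Algebra C B] [Algebra K B] [IsScalarTower A C B] [IsScalarTower A K B] [Algebra.IsPushout A C K B]
    (hK : (algebraMap A K).SurjectiveOnStalks) (b : B) :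
    ∃ (s : A) (c : C), algebraMap A K s ≠ 0 ∧ algebraMap A B s * b = algebraMap C B c := by
  refine IsBaseChange.inductionOn (Algebra.IsPushout.out (R := A) (S := C) (R' := K) (S' := B)) b
    (fun b => ∃ (s : A) (c : C), algebraMap A K s ≠ 0 ∧ algebraMap A B s * b = algebraMap C B c) ?_ ?_ ?_ ?_
  · exact ⟨1, 0, by simp, by simp⟩
  · intro z
    obtain ⟨x, r, w, hw, hr, e⟩ := RingHom.surjectiveOnStalks_iff_forall_ideal.1 hK ⊥ bot_ne_top z
    rw [Submodule.mem_bot] at hw hr
    refine ⟨r, algebraMap A C x, hr, ?_⟩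
    rw [mul_assoc] at e
    show algebraMap A B r * algebraMap K B z = _
    rw [IsScalarTower.algebraMap_apply A K B, ← map_mul, mul_left_cancel₀ hw e,
      ← IsScalarTower.algebraMap_apply A C B, IsScalarTower.algebraMap_apply A K B]
  · intro c z hz
    obtain ⟨s, c', hs, e⟩ := hz
    exact ⟨s, c * c', hs, by rw [Algebra.smul_def, map_mul, ← e]; ring⟩
  · intro z w hz hw
    obtain ⟨s, c, hs, e⟩ := hz
    obtain ⟨s', c', hs', e'⟩ := hw
    refine ⟨s * s', algebraMap A C s' * c + algebraMap A C s * c', by rw [map_mul]; exact mul_ne_zero hs hs', ?_⟩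
    rw [map_add, map_mul, map_mul, map_mul, ← e, ← e', ← IsScalarTower.algebraMap_apply, ← IsScalarTower.algebraMap_apply]
    ring

theorem exists_finite_eval {A C K B : Type u} [CommRing A] [CommRing C] [Field K] [CommRing B] [Algebra A C] [Algebra A K]
    [Algebra A B] [Algebra C B] [Algebra K B] [IsScalarTower A C B] [IsScalarTower A K B] [Algebra.IsPushout A C K B]
    [Algebra.FiniteType K B] [Nontrivial B]
    (hK : (algebraMap A K).SurjectiveOnStalks) (e : ℕ) (he : ringKrullDim B = e) :
    ∃ c : Fin e → C, (MvPolynomial.eval₂Hom (algebraMap K B) (fun i => algebraMap C B (c i))).Finite := by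
  obtain ⟨n, g, hinj, hfin⟩ := exists_finite_inj_algHom_of_fg K B
  have hn : n = e := by
    algebraize [g.toRingHom]
    have : Module.Finite (MvPolynomial (Fin n) K) B := hfin
    have : FaithfulSMul (MvPolynomial (Fin n) K) B := (faithfulSMul_iff_algebraMap_injective _ _).2 hinj
    rw [Groth.Agent.DimTheory.ringKrullDim_eq_of_integral (MvPolynomial (Fin n) K) B,
      MvPolynomial.ringKrullDim_of_isNoetherianRing, ringKrullDim_eq_zero_of_field, zero_add] at he
    simpa using he
  subst hn
  choose s c hs hc using fun i => exists_scaled (C := C) hK (g (MvPolynomial.X i))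
  refine ⟨c, ?_⟩
  let σ : MvPolynomial (Fin n) K →ₐ[K] MvPolynomial (Fin n) K :=
    MvPolynomial.aeval fun i => MvPolynomial.C (algebraMap A K (s i)) * MvPolynomial.X i
  have hσ : Function.Surjective σ := by
    rw [← AlgHom.range_eq_top, eq_top_iff, ← MvPolynomial.adjoin_range_X, Algebra.adjoin_le_iff]
    rintro _ ⟨i, rfl⟩
    refine ⟨MvPolynomial.C (algebraMap A K (s i))⁻¹ * MvPolynomial.X i, ?_⟩
    show MvPolynomial.aeval _ _ = _
    rw [map_mul, MvPolynomial.aeval_C, MvPolynomial.aeval_X, MvPolynomial.algebraMap_eq, ← mul_assoc, ← map_mul,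
      inv_mul_cancel₀ (hs i), map_one, one_mul]
  have e : MvPolynomial.eval₂Hom (algebraMap K B) (fun i => algebraMap C B (c i)) = g.toRingHom.comp σ.toRingHom := by
    refine MvPolynomial.ringHom_ext (fun r => ?_) (fun i => ?_)
    · simp [σ]
    · simp only [MvPolynomial.eval₂Hom_X', σ, RingHom.comp_apply, AlgHom.toRingHom_eq_coe, RingHom.coe_coe,
        MvPolynomial.aeval_X, map_mul, ← hc]
      rw [← MvPolynomial.algebraMap_eq, g.commutes, ← IsScalarTower.algebraMap_apply]
  rw [e]
  exact RingHom.Finite.comp hfin (RingHom.Finite.of_surjective _ hσ)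


open CategoryTheory.Limits in
/-- Let X and Y be affine schemes, f : X ⟶ Y a morphism of finite type, y a point of f(X) and e the
dimension of the fibre of f over y. Then there is a Y-morphism g from X to the affine space of
dimension e over Y such that the morphism induced by g on the fibres over y is finite (here written
as the base change of g along the inclusion of the fibre of the affine space over y). -/
theorem result {X Y : Scheme.{u}} [IsAffine X] [IsAffine Y] (f : X ⟶ Y)
    [LocallyOfFiniteType f] (y : Y) (hy : y ∈ Set.range f.base) (e : ℕ)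
    (he : topologicalKrullDim ↥(f.fiber y) = e) :
    ∃ g : X ⟶ 𝔸(ULift.{u} (Fin e); Y), g ≫ (𝔸(ULift.{u} (Fin e); Y) ↘ Y) = f ∧
      IsFinite (pullback.snd g ((𝔸(ULift.{u} (Fin e); Y) ↘ Y).fiberι y)) := by
  classical
  let t := Y.fromSpecResidueField y
  have hF : IsAffine (f.fiber y) := inferInstanceAs (IsAffine (pullback f t))
  let K := Γ(Spec (Y.residueField y), ⊤)
  letI : Field K := ((Scheme.ΓSpecIso (Y.residueField y)).commRingCatIsoToRingEquiv.toMulEquiv.isField
    (Field.toIsField _)).toField
  have hp := isPushout_appTop_of_isPullback (IsPullback.of_hasPullback f t)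
  algebraize [f.appTop.hom, t.appTop.hom, (f.fiberι y).appTop.hom, (f.fiberToSpecResidueField y).appTop.hom,
    (f.fiberι y).appTop.hom.comp f.appTop.hom]
  have : IsScalarTower Γ(Y, ⊤) K Γ(f.fiber y, ⊤) := IsScalarTower.of_algebraMap_eq fun a => by
    show (f.fiberι y).appTop (f.appTop a) = (f.fiberToSpecResidueField y).appTop (t.appTop a)
    have := congrArg Scheme.Hom.appTop (f.fiber_fac y)
    rw [Scheme.Hom.comp_appTop, Scheme.Hom.comp_appTop] at this
    exact congr($(this) a)
  have hpush : Algebra.IsPushout Γ(Y, ⊤) Γ(X, ⊤) K Γ(f.fiber y, ⊤) := CommRingCat.isPushout_iff_isPushout.1 hp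
  have : Algebra.FiniteType K Γ(f.fiber y, ⊤) := (HasRingHomProperty.iff_of_isAffine (P := @LocallyOfFiniteType)).1 (MorphismProperty.pullback_snd _ _ inferInstance : LocallyOfFiniteType (f.fiberToSpecResidueField y))
  have hne : Nonempty ↥(f.fiber y) := by
    obtain ⟨x, rfl⟩ := hy
    exact ⟨f.asFiber x⟩
  have : Nonempty ↥(Spec Γ(f.fiber y, ⊤)) := ⟨(f.fiber y).isoSpec.hom hne.some⟩
  have : Nontrivial Γ(f.fiber y, ⊤) :=
    PrimeSpectrum.nonempty_iff_nontrivial.1 (show Nonempty (PrimeSpectrum Γ(f.fiber y, ⊤)) from this)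
  have hK : (algebraMap Γ(Y, ⊤) K).SurjectiveOnStalks :=
    (SurjectiveOnStalks.iff_of_isAffine (f := t)).1 inferInstance
  have hd : ringKrullDim Γ(f.fiber y, ⊤) = e := by
    rw [← PrimeSpectrum.topologicalKrullDim_eq_ringKrullDim, ← he]
    exact (IsHomeomorph.topologicalKrullDim_eq _ (Scheme.homeoOfIso (f.fiber y).isoSpec).isHomeomorph).symm
  obtain ⟨c, hc⟩ := exists_finite_eval (A := Γ(Y, ⊤)) (C := Γ(X, ⊤)) hK e hd
  let g : X ⟶ 𝔸(ULift.{u} (Fin e); Y) := AffineSpace.homOfVector f fun i => c i.down
  refine ⟨g, AffineSpace.homOfVector_over _ _, ?_⟩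
  let q := 𝔸(ULift.{u} (Fin e); Y) ↘ Y
  have hgq : g ≫ q = f := AffineSpace.homOfVector_over _ _
  let u : f.fiber y ⟶ q.fiber y := pullback.lift (f.fiberι y ≫ g) (f.fiberToSpecResidueField y)
    (by rw [Category.assoc, hgq]; exact f.fiber_fac y)
  have hu : IsPullback (f.fiberι y) u g (q.fiberι y) := by
    refine IsPullback.of_bot ?_ (pullback.lift_fst _ _ _).symm (IsPullback.of_hasPullback q t)
    rw [show u ≫ pullback.snd q t = f.fiberToSpecResidueField y from pullback.lift_snd _ _ _, hgq]
    exact IsPullback.of_hasPullback f t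
  rw [← MorphismProperty.cancel_left_of_respectsIso @IsFinite hu.isoPullback.hom, hu.isoPullback_hom_snd]
  have : IsAffine (q.fiber y) := inferInstanceAs (IsAffine (pullback q t))
  rw [HasAffineProperty.iff_of_isAffine (P := @IsFinite)]
  refine ⟨inferInstance, RingHom.Finite.of_comp_finite (f := MvPolynomial.eval₂Hom (q.fiberToSpecResidueField y).appTop.hom
    (fun i => (q.fiberι y).appTop (AffineSpace.coord Y (ULift.up i)))) ?_⟩
  convert hc using 1
  refine MvPolynomial.ringHom_ext (fun r => ?_) (fun i => ?_)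
  · rw [RingHom.comp_apply, MvPolynomial.eval₂Hom_C, MvPolynomial.eval₂Hom_C]
    show ((q.fiberToSpecResidueField y).appTop ≫ u.appTop) r = (f.fiberToSpecResidueField y).appTop r
    rw [← Scheme.Hom.comp_appTop]
    exact congr(($(pullback.lift_snd _ _ _) : f.fiber y ⟶ _).appTop r)
  · rw [RingHom.comp_apply, MvPolynomial.eval₂Hom_X', MvPolynomial.eval₂Hom_X']
    show ((q.fiberι y).appTop ≫ u.appTop) (AffineSpace.coord Y (ULift.up i)) = (f.fiberι y).appTop (c i)
    rw [← Scheme.Hom.comp_appTop, show u ≫ q.fiberι y = f.fiberι y ≫ g from pullback.lift_fst _ _ _,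
      Scheme.Hom.comp_appTop]
    show (f.fiberι y).appTop (g.appTop _) = _
    rw [AffineSpace.homOfVector_appTop_coord]

end Groth.Agent.S3394
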