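import Groth.Statements.S3395
import Mathlib
import Groth.Agent.ConstrFib.Descend
import Groth.Agent.EquidimChart.Basic
import Groth.Agent.FlatDim.Basic

set_option autoImplicit false
open CategoryTheory AlgebraicGeometry
universe u
open EGA43

namespace Groth.Agent.S3395

open Groth.Agent
set_option backward.isDefEq.respectTransparency.types false

theorem strictMono_finite {Z W : Scheme.{u}} (π : Z ⟶ W) [IsFinite π] : StrictMono (fun z : Z => π z) := by
  intro a b h
  have h' : π b ⤳ π a := (show b ⤳ a from h.le).map π.continuous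
  refine lt_of_le_not_ge h' fun he => h.not_ge ?_
  have heq : π b = π a := (h'.antisymm he).eq
  have hd := (π.isDiscrete_preimage_singleton (π a)).to_subtype
  have : (⟨b, heq⟩ : π ⁻¹' {π a}) ⤳ ⟨a, rfl⟩ := (subtype_specializes_iff _ _).2 (show b ⤳ a from h.le)
  exact le_of_eq (congrArg Subtype.val this.eq)

open CategoryTheory.Limits in
/-- Let X and Y be affine schemes, f : X ⟶ Y of finite type, y a point of f(X), e the dimension of the
fibre over y, and g a Y-morphism from X to the affine space of dimension e over Y whose base change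
to the fibre of the affine space over y is finite. Then that base change is surjective, and g is
locally quasi-finite on some open U ⊆ X that contains the fibre f⁻¹(y). -/
theorem result {X Y : Scheme.{u}} [IsAffine X] [IsAffine Y]
    (f : X ⟶ Y) [LocallyOfFiniteType f] (y : Y) (hy : y ∈ Set.range f.base) (e : ℕ)
    (he : topologicalKrullDim ↥(f.fiber y) = e) (g : X ⟶ 𝔸(ULift.{u} (Fin e); Y)) (hg : g ≫ (𝔸(ULift.{u} (Fin e); Y) ↘ Y) = f)
    (hfin : IsFinite (pullback.snd g ((𝔸(ULift.{u} (Fin e); Y) ↘ Y).fiberι y))) :
    Function.Surjective (pullback.snd g ((𝔸(ULift.{u} (Fin e); Y) ↘ Y).fiberι y)).base ∧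
      ∃ U : X.Opens, f.base ⁻¹' {y} ⊆ (U : Set X) ∧ LocallyQuasiFinite (U.ι ≫ g) := by
  let π := 𝔸(ULift.{u} (Fin e); Y) ↘ Y
  haveI : LocallyOfFiniteType (g ≫ π) := by rw [hg]; infer_instance
  haveI : LocallyOfFiniteType g := locallyOfFiniteType_of_comp g π
  let q := Limits.pullback.snd g (π.fiberι y)
  haveI : IsFinite q := hfin
  let i : Limits.pullback g (π.fiberι y) ≅ f.fiber y :=
    Limits.pullbackRightPullbackFstIso π (Y.fromSpecResidueField y) g ≪≫ Limits.pullback.congrHom hg rfl
  constructor
  · -- a closed subset of full dimension of affine space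
    have hdim : topologicalKrullDim ↥(Limits.pullback g (π.fiberι y)) = (e : WithBot ℕ∞) := by
      rw [(Scheme.homeoOfIso i).isHomeomorph.topologicalKrullDim_eq, he]
    rw [← EquidimChart.krullDim_eq] at hdim
    have hA := EquidimChart.dim_fiber_affineSpace Y e y
    rw [← EquidimChart.krullDim_eq] at hA
    haveI := EquidimChart.irreducibleSpace_fiber_affineSpace Y e y
    suffices hη : genericPoint ↥(π.fiber y) ∈ Set.range q by
      intro w
      exact (q.isClosedMap.isClosed_range.closure_subset_iff.2 (Set.singleton_subset_iff.2 hη))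
        (specializes_iff_mem_closure.1 (genericPoint_specializes w))
    by_contra hη
    obtain ⟨r, hr⟩ := (Order.le_krullDim_iff (α := ↥(Limits.pullback g (π.fiberι y))) (n := e)).1 hdim.ge
    let r' := r.map _ (strictMono_finite q)
    have hlt : r'.last < genericPoint ↥(π.fiber y) := by
      rw [LTSeries.last_map]
      exact FlatDim.lt_of_specializes_of_ne (genericPoint_specializes _) fun h => hη (h ▸ ⟨_, rfl⟩)
    have h1 := (Order.LTSeries.length_le_krullDim (r'.snoc _ hlt)).trans_eq hA
    have h2 : ((e + 1 : ℕ) : WithBot ℕ∞) ≤ (e : WithBot ℕ∞) := by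
      have h3 : (r'.snoc _ hlt).length = e + 1 := by simp [r', hr, LTSeries.map]
      rw [h3] at h1
      exact_mod_cast h1
    rw [Nat.cast_le] at h2
    omega
  · refine ⟨g.quasiFiniteLocus, fun x hx => ?_, inferInstance⟩
    obtain ⟨z, hz⟩ : x ∈ Set.range (Limits.pullback.fst g (π.fiberι y)) := by
      rw [Scheme.Pullback.range_fst]
      show g x ∈ Set.range (π.fiberι y)
      rw [Scheme.Hom.range_fiberι]
      show π (g x) = y
      rw [← Scheme.Hom.comp_apply, hg]
      exact hx
    rw [← hz]
    exact ConstrFib.quasiFiniteAt_of_isPullback (IsPullback.of_hasPullback g (π.fiberι y)) z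
      (Scheme.Hom.quasiFiniteAt q z)

end Groth.Agent.S3395
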