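import Groth.Statements.S3397
import Groth.Agent.EquidimChart.DimOpen
import Groth.Agent.AlgSpDesc.ResTrdeg


set_option autoImplicit false
open CategoryTheory AlgebraicGeometry
universe u
open EGA43
set_option backward.isDefEq.respectTransparency.types false
set_option linter.style.haveILetI false

namespace Groth.Agent.S3397

open TopologicalSpace Groth.Agent.EquidimChart Groth.Agent.DimTheory

/-- Let Y be locally Noetherian, f : X ⟶ Y locally of finite type, x a point of X with y = f x, and
suppose O_{Y,y} is equidimensional. If O_{X,x} is equidimensional and dim O_{X,x} = dim O_{Y,y} +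
dim O_{X_y,x}, then f is equidimensional at x. -/
theorem result {X Y : Scheme.{u}} [IsLocallyNoetherian Y] (f : X ⟶ Y)
    [LocallyOfFiniteType f] (x : X) (hY : EGA4.IsEquidim (Y.presheaf.stalk (f.base x)))
    (hX : EGA4.IsEquidim (X.presheaf.stalk x))
    (h : ringKrullDim (X.presheaf.stalk x) =
        ringKrullDim (Y.presheaf.stalk (f.base x)) + ringKrullDim ((f.fiber (f.base x)).presheaf.stalk (f.asFiber x))) :
    EGA43.IsEquidimAt f x := by
  haveI : IsLocallyNoetherian X := LocallyOfFiniteType.isLocallyNoetherian f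
  obtain ⟨w, n, hwx, hwmax, hn, hd⟩ := exists_fibreMax' f x
  obtain ⟨t, ht, -⟩ := height_asFiber f x
  obtain ⟨D, hD⟩ := LeadFCat.exists_dim (X.presheaf.stalk x)
  obtain ⟨d, hd'⟩ := LeadFCat.exists_dim (Y.presheaf.stalk (f x))
  have hfib := Groth.Agent.AlgSpDesc.fibreDimAt_eq_stalk_add_resTrdeg f x
  rw [hd, show Dual3.resTrdeg f x = mapTrdeg f x from rfl, ht, map_natCast, ringKrullDim_stalk_eq_coheight] at hfib
  rw [hD, hd', ringKrullDim_stalk_eq_coheight] at h
  rw [ringKrullDim_stalk_eq_coheight] at hD hd'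
  have hD' : Order.coheight x = (D : ℕ∞) := WithBot.coe_injective hD
  have hdY : Order.coheight (f x) = (d : ℕ∞) := WithBot.coe_injective hd'
  have hlow : d + n ≤ D + t := by
    generalize Order.coheight (f.asFiber x) = c at hfib h
    induction c using ENat.recTopCoe with
    | top =>
      rw [← WithBot.coe_add, top_add] at hfib
      exact absurd (WithBot.coe_injective (a₁ := ((n : ℕ) : ℕ∞)) (a₂ := (⊤ : ℕ∞)) hfib) (ENat.natCast_ne_top n)
    | coe c =>
      have h3 : n = c + t := by exact_mod_cast hfib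
      have h4 : D = d + c := by exact_mod_cast h
      omega
  -- along a component
  have hup : ∀ ξ : X, ξ ⤳ x → (∀ z : X, z ⤳ ξ → z = ξ) →
      (∀ v : Y, v ⤳ f ξ → v = f ξ) ∧ mapTrdeg f ξ = n := by
    intro ξ hξx hξ
    let Wc : Closeds X := ⟨closure {ξ}, isClosed_closure⟩
    obtain ⟨hWirr, hWg, hWr⟩ := component_subscheme ξ Wc rfl
    let Yc : Closeds Y := ⟨closure {f ξ}, isClosed_closure⟩
    obtain ⟨hYirr, hYg, hYr⟩ := component_subscheme (f ξ) Yc rfl
    let ιW := (Scheme.IdealSheafData.vanishingIdeal Wc).subschemeι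
    let ιY := (Scheme.IdealSheafData.vanishingIdeal Yc).subschemeι
    haveI : IsLocallyNoetherian (Scheme.IdealSheafData.vanishingIdeal Yc).subscheme :=
      LocallyOfFiniteType.isLocallyNoetherian ιY
    have hrange : ∀ z, (ιW ≫ f) z ∈ Yc := fun z =>
      specializes_iff_mem_closure.1 ((specializes_iff_mem_closure.2 (hWr.le ⟨z, rfl⟩)).map f.continuous)
    let l := IsClosedImmersion.lift ιY (ιW ≫ f) (by
      rw [Scheme.IdealSheafData.ker_subschemeι]; exact vanishingIdeal_le_ker _ _ hrange)
    have hl : l ≫ ιY = ιW ≫ f := IsClosedImmersion.lift_fac _ _ _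
    haveI : LocallyOfFiniteType (l ≫ ιY) := by rw [hl]; infer_instance
    haveI : LocallyOfFiniteType l := locallyOfFiniteType_of_comp l ιY
    have hlg : l (genericPoint _) = genericPoint _ := ιY.isEmbedding.injective (by
      rw [← Scheme.Hom.comp_apply, hl, Scheme.Hom.comp_apply, hWg, hYg])
    obtain ⟨xW, hxW⟩ : x ∈ Set.range ιW := by rw [hWr]; exact specializes_iff_mem_closure.1 hξx
    have hlx : ιY (l xW) = f x := by rw [← Scheme.Hom.comp_apply, hl, Scheme.Hom.comp_apply, hxW]
    obtain ⟨a, a', t', e, ha, ha', ht', he, hsum⟩ := dim_stalk_add_trdeg_le l hlg xW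
    have htr : ∀ z, mapTrdeg f (ιW z) = mapTrdeg l z := fun z => by
      have h1 : mapTrdeg (l ≫ ιY) z = mapTrdeg (ιW ≫ f) z := by rw [hl]
      rw [FlatEquidim.mapTrdeg_comp, FlatEquidim.mapTrdeg_comp, mapTrdeg_eq_zero ιY, mapTrdeg_eq_zero ιW,
        zero_add, add_zero] at h1
      exact h1.symm
    rw [← htr, hxW, ht] at ht'
    rw [← htr, hWg] at he
    obtain rfl : t = t' := Nat.cast_injective (R := Cardinal.{u}) ht'
    rw [ringKrullDim_stalk_eq_coheight] at ha ha'
    have haD : a = D := by
      have := coheight_of_isEquidim hξx hξ hX ιW hWr hxW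
      rw [hD', show Order.coheight xW = (a : ℕ∞) from WithBot.coe_injective ha] at this
      exact_mod_cast this
    have hen : e ≤ n := le_of_specializes f hξx (fun z hz _ => hξ z hz) he hd.le
    have hY' : Order.coheight (l xW) = (a' : ℕ∞) := WithBot.coe_injective ha'
    have ha'd : a' ≤ d := by
      have := coheight_subscheme_le ιY (l xW)
      rw [hlx, hdY, hY'] at this
      exact_mod_cast this
    refine ⟨fun v hv => ?_, by rw [he, show e = n by omega]⟩
    by_contra hne
    obtain ⟨s, hs1, hs2⟩ := Order.exists_series_of_le_coheight (l xW) hY'.ge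
    let s0 := s.map _ (strictMono_immersion ιY)
    have hlt : s0.last < v := by
      have h1 : f ξ ⤳ s0.last := by
        rw [LTSeries.last_map, ← hYg]; exact (genericPoint_specializes s.last).map ιY.continuous
      exact lt_of_le_of_lt (show s0.last ≤ f ξ from h1) (FlatDim.lt_of_specializes_of_ne hv (Ne.symm hne))
    have h7 := Order.length_le_coheight_head (p := s0.snoc v hlt)
    rw [RelSeries.head_snoc, RelSeries.snoc_length, LTSeries.head_map, hs1, hlx, hdY] at h7
    change ((s.length + 1 : ℕ) : ℕ∞) ≤ (d : ℕ∞) at h7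
    have : s.length + 1 ≤ d := by exact_mod_cast h7
    omega
  -- a neighbourhood
  let U0 : X.Opens := ⟨_, FibreDimChart.isOpen_fibreDimAt_le f n⟩
  obtain ⟨U, hxU, hU0, hUmax⟩ := exists_nbhd_max_specializes (x := x) (U := U0) hd.le
  refine isEquidimAt_of_data f x n U hxU (fun ξ hξU hξ => ⟨(hup ξ (hUmax ξ hξU hξ) hξ).1, (hUmax ξ hξU hξ).map f.continuous⟩)
    fun y hy hmax => ?_
  obtain ⟨m, hm, -⟩ := height_asFiber f y
  obtain ⟨ξ, hξy, hξ⟩ := FlatMorLib.exists_maximal_generization y
  have hξn := (hup ξ (hUmax ξ (hξy.mem_open U.isOpen hy) hξ) hξ).2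
  have h1 : n ≤ m := le_of_specializes f hξy (fun z hz _ => hξ z hz) hξn (fibreDimAt_of_fibreMax f hmax hm).le
  have h2 : m ≤ n := by
    have := (le_fibreDimAt f hm).trans (hU0 hy)
    exact_mod_cast this
  rw [hm, le_antisymm h2 h1]

end Groth.Agent.S3397
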