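import Groth.Statements.S3401
import Groth.Agent.ProConsLib.Realize

set_option autoImplicit false
open CategoryTheory AlgebraicGeometry
universe u
open EGA41

namespace Groth.Agent.S3401

theorem exists_nhds_inter_closure {W : Type*} [TopologicalSpace W] {T : Set W}
    (hT : Topology.IsConstructible T) (x : W) :
    (x ∈ T → ∃ O, IsOpen O ∧ x ∈ O ∧ O ∩ closure {x} ⊆ T) ∧
    (x ∉ T → ∃ O, IsOpen O ∧ x ∈ O ∧ O ∩ closure {x} ⊆ Tᶜ) := by
  induction hT using Topology.IsConstructible.empty_union_induction with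
  | open_retrocompact U hU _ =>
    refine ⟨fun hx => ⟨U, hU, hx, Set.inter_subset_left⟩, fun hx => ⟨Set.univ, isOpen_univ,
      Set.mem_univ x, fun z hz hzU => hx ?_⟩⟩
    exact (specializes_iff_mem_closure.2 hz.2).mem_open hU hzU
  | union s _ t _ ihs iht =>
    refine ⟨?_, fun hx => ?_⟩
    · rintro (hx | hx)
      · obtain ⟨O, h1, h2, h3⟩ := ihs.1 hx; exact ⟨O, h1, h2, h3.trans Set.subset_union_left⟩
      · obtain ⟨O, h1, h2, h3⟩ := iht.1 hx; exact ⟨O, h1, h2, h3.trans Set.subset_union_right⟩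
    · obtain ⟨O, h1, h2, h3⟩ := ihs.2 fun h => hx (Or.inl h)
      obtain ⟨O', h1', h2', h3'⟩ := iht.2 fun h => hx (Or.inr h)
      exact ⟨O ∩ O', h1.inter h1', ⟨h2, h2'⟩, fun z hz hzu => hzu.elim (h3 ⟨hz.1.1, hz.2⟩)
        (h3' ⟨hz.1.2, hz.2⟩)⟩
  | compl s _ ih => exact ⟨ih.2, fun hx => by rw [compl_compl]; exact ih.1 (not_not.1 hx)⟩


/-- Let X be a scheme and E a subset of X. If E is ind-constructible then for every point x of E the set
E ∩ cl{x} is a neighbourhood of x in cl{x}; when X is locally Noetherian the converse holds. (As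
published, the necessity clause quantifies over all points x of X; for x outside E the condition
cannot hold, and the argument uses x ∈ E, so it is stated here for x ∈ E.) Stated as an equivalence
for X locally Noetherian. -/
theorem result (X : Scheme.{u}) [IsLocallyNoetherian X]
    (E : Set X) :
    ProCons.IsIndConstructible E ↔
      ∀ x ∈ E, (Subtype.val ⁻¹' E : Set ↥(closure ({x} : Set X))) ∈ nhds (⟨x, subset_closure rfl⟩ : ↥(closure ({x} : Set X))) := by
  have key : ∀ x, ((Subtype.val ⁻¹' E : Set ↥(closure ({x} : Set X))) ∈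
      nhds (⟨x, subset_closure rfl⟩ : ↥(closure ({x} : Set X)))) ↔
      ∃ O : Set X, IsOpen O ∧ x ∈ O ∧ O ∩ closure {x} ⊆ E := fun x => by
    rw [mem_nhds_subtype]
    constructor
    · rintro ⟨u, hu, hsub⟩
      obtain ⟨O, hOu, hO, hxO⟩ := mem_nhds_iff.1 hu
      exact ⟨O, hO, hxO, fun z hz =>
        hsub (show (⟨z, hz.2⟩ : ↥(closure ({x} : Set X))) ∈ Subtype.val ⁻¹' u from hOu hz.1)⟩
    · rintro ⟨O, hO, hxO, hOE⟩
      exact ⟨O, hO.mem_nhds hxO, fun z hz => hOE ⟨hz, z.2⟩⟩
  refine ⟨fun h x hx => (key x).2 ?_, fun h => Groth.Agent.ProConsLib.isInd_of_affine fun y => ?_⟩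
  · obtain ⟨U, hU, hxU, -⟩ := Groth.Agent.ProConsLib.exists_affine_subset isOpen_univ (Set.mem_univ x)
    haveI := Groth.Agent.ProConsLib.spectralSpace_opens hU
    obtain ⟨T, hT, hxT, hTE⟩ := Groth.Agent.ProConsLib.exists_isConstructible_subset
      (Groth.Agent.ProConsLib.isOpen_con_affine h hU) (show (⟨x, hxU⟩ : U.toScheme) ∈ U.ι ⁻¹' E from hx)
    obtain ⟨O, hO, hxO, hOT⟩ :=
      (exists_nhds_inter_closure hT (⟨x, hxU⟩ : U.toScheme)).1 hxT
    refine ⟨U.ι '' O, U.ι.isOpenEmbedding.isOpenMap O hO, ⟨_, hxO, rfl⟩, ?_⟩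
    rintro _ ⟨⟨z, hz, rfl⟩, hzc⟩
    refine hTE (hOT ⟨hz, ?_⟩)
    rw [← specializes_iff_mem_closure] at hzc ⊢
    exact U.ι.isOpenEmbedding.isInducing.specializes_iff.1 hzc
  · obtain ⟨U, hU, hyU, -⟩ := Groth.Agent.ProConsLib.exists_affine_subset isOpen_univ (Set.mem_univ y)
    haveI := Groth.Agent.ProConsLib.spectralSpace_opens hU
    haveI : IsAffine U.toScheme := hU
    haveI : CompactSpace U.toScheme := inferInstance
    haveI : IsNoetherian U.toScheme := {}
    haveI : TopologicalSpace.NoetherianSpace U.toScheme := inferInstance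
    refine ⟨U, hU, hyU, (@isOpen_iff_forall_mem_open _ (constructibleTopology U.toScheme) _).2
      fun z hz => ?_⟩
    obtain ⟨O, hO, hxO, hOE⟩ := (key _).1 (h _ hz)
    refine ⟨U.ι ⁻¹' O ∩ closure {z}, ?_,
      @IsOpen.inter _ (constructibleTopology U.toScheme) _ _
        (Groth.Agent.Spectral.isOpen_con_of_isOpen (hO.preimage U.ι.continuous)) ?_,
      hxO, subset_closure rfl⟩
    · rintro w ⟨hwO, hwc⟩
      refine hOE ⟨hwO, ?_⟩
      rw [← specializes_iff_mem_closure] at hwc ⊢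
      exact hwc.map U.ι.continuous
    · exact IsCompact.isOpen_constructibleTopology_of_isClosed
        (TopologicalSpace.NoetherianSpace.isCompact _) isClosed_closure

end Groth.Agent.S3401
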