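import Groth.Statements.S3404
import Groth.Agent.ProConsLib.Realize

set_option autoImplicit false
open CategoryTheory AlgebraicGeometry
universe u
open EGA41

namespace Groth.Agent.S3404

/-- Let f : X ⟶ Y be a morphism of schemes, x a point of X and y = f x. If f is open at x then every
generization of y is the image of a generization of x; when f is locally of finite presentation the
converse holds. -/
theorem result {X Y : Scheme.{u}} (f : X ⟶ Y) (x : X) :
    (EGA43.IsOpenAt f.base x → ∀ y' : Y, y' ⤳ f.base x → ∃ x' : X, x' ⤳ x ∧ f.base x' = y') ∧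
    (LocallyOfFinitePresentation f →
      ((EGA43.IsOpenAt f.base x) ↔ ∀ y' : Y, y' ⤳ f.base x → ∃ x' : X, x' ⤳ x ∧ f.base x' = y')) := by
  have hfirst : EGA43.IsOpenAt f.base x → ∀ y' : Y, y' ⤳ f.base x → ∃ x' : X, x' ⤳ x ∧ f.base x' = y' := by
    intro hopen y' hy'
    obtain ⟨V, hV, hxV, -⟩ := Groth.Agent.ProConsLib.exists_affine_subset isOpen_univ (Set.mem_univ (f.base x))
    obtain ⟨U, hU, hxU, hUV⟩ := Groth.Agent.ProConsLib.exists_affine_subset (V.2.preimage f.continuous)
      (show x ∈ f.base ⁻¹' V from hxV)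
    haveI := Groth.Agent.ProConsLib.spectralSpace_opens hU
    haveI := Groth.Agent.ProConsLib.spectralSpace_opens hV
    have hy'V : y' ∈ V := hy'.mem_open V.2 hxV
    have hcl : @IsClosed U.toScheme (constructibleTopology U.toScheme)
        ((f.resLE V U hUV) ⁻¹' {⟨y', hy'V⟩}) :=
      @IsClosed.preimage _ _ (constructibleTopology U.toScheme) (constructibleTopology V.toScheme) _
        (Groth.Agent.Spectral.continuous_con_of_isSpectralMap (Groth.Agent.ProConsLib.isSpectralMap_resLE f hV hU hUV)) _
        (@isClosed_singleton V.toScheme (constructibleTopology V.toScheme)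
          (@T2Space.t1Space _ (constructibleTopology V.toScheme) Groth.Agent.Spectral.t2_con) _)
    by_contra! H
    have hn : (show U.toScheme from ⟨x, hxU⟩) ∉ closure ((f.resLE V U hUV) ⁻¹' ({⟨y', hy'V⟩} : Set V.toScheme)) := by
      intro hm
      obtain ⟨e, he, hs⟩ := Groth.Agent.Spectral.exists_specializes_of_mem_closure hcl hm
      refine H (U.ι e) (hs.map U.ι.continuous) ?_
      rw [← Groth.Agent.ProConsLib.resLE_apply f hUV, Set.mem_singleton_iff.1 he]; rfl
    have hn' := hopen _ ((U.ι.isOpenEmbedding.isOpenMap _ isClosed_closure.isOpen_compl).mem_nhds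
      ⟨_, hn, rfl⟩)
    obtain ⟨_, ⟨z, hz, rfl⟩, hzy⟩ := mem_of_mem_nhds (hy' hn') 
    refine hz (subset_closure (V.ι.isOpenEmbedding.injective ?_))
    rw [Groth.Agent.ProConsLib.resLE_apply]; exact hzy
  refine ⟨hfirst, ?_⟩
  · intro hlfp
    refine ⟨hfirst, fun h O hO => ?_⟩
    · obtain ⟨O', hO'O, hO', hxO'⟩ := mem_nhds_iff.1 hO
      refine Filter.mem_of_superset (mem_interior_iff_mem_nhds.1
        ((Groth.Agent.ProConsLib.mem_interior_iff (Groth.Agent.ProConsLib.isInd_image f (Groth.Agent.ProConsLib.isInd_of_isOpen hO'))).2 fun y' hy' => ?_))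
        (Set.image_mono hO'O)
      obtain ⟨x', hx', rfl⟩ := h y' hy'
      exact ⟨x', hx'.mem_open hO' hxO', rfl⟩

end Groth.Agent.S3404
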