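import Groth.Statements.S3406
import Groth.Agent.HilbSam.Degree

set_option autoImplicit false
universe u
open EGA41

namespace Groth.Agent.S3406

/-- The equality s(M) = dim(M): let A be a Noetherian ring with finitely many maximal ideals, r its
Jacobson radical and M a nonzero finitely generated A-module. Then the dimension of M (the Krull
dimension of its support) is the least n for which there are elements x_1, …, x_n of r such that
M/(x_1 M + ⋯ + x_n M) has finite length. -/
theorem result (A : Type u) [CommRing A] [IsNoetherianRing A]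
    [Finite (MaximalSpectrum A)] (M : Type u) [AddCommGroup M] [Module A M] [Module.Finite A M] [Nontrivial M] :
    Module.supportDim A M =
      sInf {k : WithBot ℕ∞ | ∃ (n : ℕ) (x : Fin n → A), k = n ∧ (∀ i, x i ∈ Ring.jacobson A) ∧
        IsFiniteLength A (M ⧸ (Ideal.span (Set.range x) • (⊤ : Submodule A M)))} := by
  haveI := Groth.Agent.HilbSam.isArtinianRing_quotient_jacobson (A := A)
  have hI : Ring.jacobson A ≤ Ideal.jacobson ⊥ := (Ideal.jacobson_bot (R := A)).ge
  obtain ⟨P, -, hdeg⟩ := Groth.Agent.HilbSam.exists_polynomial_natDegree_eq (M := M) (Ring.jacobson A) hI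
  refine le_antisymm (le_sInf ?_) (sInf_le ?_)
  · rintro _ ⟨n, x, rfl, hx, hfin⟩
    exact Groth.Agent.HilbSam.supportDim_le_of_grow (Ring.jacobson A) hI n M
      (Groth.Agent.HilbSam.grow_of_isFiniteLength (Ring.jacobson A) n M x hx hfin)
  · obtain ⟨x, hx, hfin⟩ := Groth.Agent.HilbSam.exists_parameters (Ring.jacobson A) hI P.natDegree M hdeg.ge
    exact ⟨P.natDegree, x, hdeg.symm, hx, hfin⟩

end Groth.Agent.S3406
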