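import Groth.Statements.S3414
import Groth.Agent.GeomCount.Stein
import Groth.Agent.Chevalley.Equiv
import Groth.Agent.AlgSpDesc.LqfFibre
import Groth.Agent.EquidimChart.Section
import Mathlib

set_option autoImplicit false
open CategoryTheory AlgebraicGeometry
universe u
open EGA43

set_option backward.isDefEq.respectTransparency.types false
set_option linter.style.haveILetI false
namespace Groth.Agent.S3414

open Groth.Agent Groth.Agent.DimTheory Groth.Agent.EquidimChart


/-- Let Y be an irreducible locally Noetherian scheme, f : X ⟶ Y proper, n(y) the geometric number of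
connected components of the fibre over y, and suppose every irreducible component of X dominates Y.
If y₀ is a point of Y whose local ring is geometrically unibranch, then n is lower semicontinuous at
y₀. -/
theorem result {X Y : Scheme.{u}} [IrreducibleSpace Y]
    [IsLocallyNoetherian Y] (f : X ⟶ Y) [IsProper f]
    (hdom : ∀ Z ∈ irreducibleComponents (X : Type u), closure (f.base '' Z) = Set.univ) (y₀ : Y)
    (hy : CAlg2.IsGeomUnibranch (Y.presheaf.stalk y₀)) :
    ∃ V ∈ nhds y₀, ∀ z ∈ V, MoreMor.nGeomConnComp f y₀ ≤ MoreMor.nGeomConnComp f z := by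
  have := SteinLead.isFinite_fromNormalization f
  have := FormalFun.surjective_toNormalization f
  obtain ⟨η, hη⟩ := Chevalley.exists_generic (Y := Y) (Y₀ := Set.univ) (by
    rw [irreducibleComponents_eq_singleton]; rfl)
  have hηy : ∀ y : Y, η ⤳ y := fun y => specializes_iff_mem_closure.2 (hη.symm ▸ Set.mem_univ y)
  have hηmax : ∀ w : Y, w ⤳ η → w = η := fun w hw => (hw.antisymm (hηy w)).eq
  obtain ⟨V, hV, hle⟩ : ∃ V ∈ nhds y₀, ∀ z ∈ V,
      MoreMor.nGeomConnComp f.fromNormalization y₀ ≤ MoreMor.nGeomConnComp f.fromNormalization z := by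
    refine (Filter.eventually_iff_exists_mem.1 (GeomCount.eventually_le f.fromNormalization y₀ fun p hp => ?_))
    obtain ⟨ξ, hξp, hξ⟩ := FlatMorLib.exists_maximal_generization p
    have hξmax : ∀ w, w ⤳ ξ → w = ξ := fun w hw => hξ w hw
    have hgξ : f.fromNormalization ξ = η := by
      obtain ⟨x, rfl⟩ := f.toNormalization.surjective ξ
      have hZ := irreducibleComponent_mem_irreducibleComponents x
      have hζ : hZ.1.genericPoint ⤳ x :=
        specializes_iff_mem_closure.2 ((component_eq_closure hZ).symm ▸ mem_irreducibleComponent)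
      have e1 : f.toNormalization hZ.1.genericPoint = f.toNormalization x :=
        hξmax _ (hζ.map f.toNormalization.continuous)
      rw [← e1, ← Scheme.Hom.comp_apply, f.toNormalization_fromNormalization]
      refine hηmax _ (specializes_iff_mem_closure.2 ?_)
      have h1 := hdom _ hZ
      rw [← component_eq_closure hZ] at h1
      have h2 : closure (f.base '' closure {hZ.1.genericPoint}) ⊆ closure {f hZ.1.genericPoint} := by
        refine closure_minimal ((image_closure_subset_closure_image f.continuous).trans ?_) isClosed_closure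
        rw [Set.image_singleton]
      exact h2 (h1.symm ▸ Set.mem_univ η)
    have hd : ∀ x' : f.normalization, f.fromNormalization x' = f.fromNormalization p → p ⤳ x' → x' = p := by
      intro x' h1 h2
      have hdisc := f.fromNormalization.isDiscrete_preimage_singleton (f.fromNormalization p)
      haveI := hdisc.to_subtype
      exact congrArg Subtype.val (Specializes.eq (x := (⟨p, rfl⟩ : ↥(f.fromNormalization ⁻¹' {f.fromNormalization p})))
        (y := ⟨x', h1⟩) ((subtype_specializes_iff _ _).2 h2)).symm
    refine Chevalley.isUnivOpenAt_of_generic f.fromNormalization p ξ hξp (hgξ ▸ hηmax)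
      (Filter.mem_of_superset Filter.univ_mem (hgξ ▸ hη ▸ subset_rfl)) 0 ?_ ?_ (hp.symm ▸ hy)
    · refine mapTrdeg_eq_zero_of_closed _ fun x' h1 h2 => ?_
      have hdisc := f.fromNormalization.isDiscrete_preimage_singleton (f.fromNormalization ξ)
      haveI := hdisc.to_subtype
      exact congrArg Subtype.val (Specializes.eq (x := (⟨ξ, rfl⟩ : ↥(f.fromNormalization ⁻¹' {f.fromNormalization ξ})))
        (y := ⟨x', h1⟩) ((subtype_specializes_iff _ _).2 h2)).symm
    · rw [(AlgSpDesc.quasiFiniteAt_iff_fibreDimAt _ p).1 (f.fromNormalization.quasiFiniteAt p)]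
      rfl
  exact ⟨V, hV, fun z hz => by
    rw [GeomCount.nGeomConnComp_fromNormalization f, GeomCount.nGeomConnComp_fromNormalization f]
    exact hle z hz⟩

end Groth.Agent.S3414
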