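import Groth.Statements.S3417
import Groth.Agent.Chevalley.SectionStable
import Mathlib

set_option autoImplicit false
open CategoryTheory AlgebraicGeometry
universe u
open EGA43

set_option backward.isDefEq.respectTransparency.types false
namespace Groth.Agent.S3417

open Groth.Agent


/-- Let A be a discrete valuation ring, Y = Spec A with closed point a and generic point b, and f : X ⟶
Y a morphism locally of finite type which is open (as a map of spaces). If X is connected and the
fibre over a is a reduced scheme, then the fibre over b is connected. (Stated with 'preconnected',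
which also covers the empty case; a is the closed point and b the point specialising to every
point.) -/
theorem result (A : Type u) [CommRing A] [IsDomain A]
    [IsDiscreteValuationRing A] {X : Scheme.{u}} (f : X ⟶ Spec (CommRingCat.of A)) [LocallyOfFiniteType f]
    (hopen : IsOpenMap f.base) [PreconnectedSpace X]
    (a b : ↥(Spec (CommRingCat.of A))) (ha : IsClosed ({a} : Set ↥(Spec (CommRingCat.of A))))
    (hb : ∀ z : ↥(Spec (CommRingCat.of A)), b ⤳ z)
    (hred : AlgebraicGeometry.IsReduced (f.fiber a)) :
    PreconnectedSpace ↥(f.fiber b) := by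
  haveI : IsLocallyNoetherian X := LocallyOfFiniteType.isLocallyNoetherian f
  have hac : a = IsLocalRing.closedPoint A := by
    have h1 := (IsLocalRing.specializes_closedPoint (a : PrimeSpectrum A)).mem_closed ha rfl
    exact (Set.mem_singleton_iff.1 h1).symm
  have hba : b ⤳ a := hb a
  have hbne : b ≠ a := fun h => by
    have h2 := (hb (⟨⊥, Ideal.isPrime_bot⟩ : PrimeSpectrum A)).antisymm (Chevalley.bot_specializes (A := A) b)
    exact Chevalley.closedPoint_ne_bot ((hac ▸ h ▸ rfl : IsLocalRing.closedPoint A = b).trans h2.eq)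
  refine ⟨?_⟩
  rw [← (f.fiberι b).isEmbedding.isInducing.isPreconnected_image, Set.image_univ, f.range_fiberι]
  by_contra hnot
  obtain ⟨u, hu, v, hv, huv⟩ : ∃ u, f u = b ∧ ∃ v, f v = b ∧ v ∉ connectedComponentIn (f.base ⁻¹' {b}) u := by
    by_contra hall
    push Not at hall
    rcases Set.eq_empty_or_nonempty (f.base ⁻¹' {b}) with he | ⟨u, hu⟩
    · exact hnot (he ▸ isPreconnected_empty)
    · exact hnot ((Set.Subset.antisymm (connectedComponentIn_subset _ _) (fun v hv => hall u hu v hv)) ▸
        isPreconnected_connectedComponentIn (F := f.base ⁻¹' {b}) (x := u))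
  obtain ⟨hD1, hD2⟩ := Chevalley.isOpen_generic_component f a b hac hbne u hu
  let D := connectedComponentIn (f.base ⁻¹' {b}) u
  let E := (f.base ⁻¹' {a})ᶜ \ D
  have hmax : ∀ ξ, (∀ z, z ⤳ ξ → z = ξ) → f ξ ≠ a := fun ξ hξ hfa => by
    obtain ⟨z, hz, hzne⟩ := Chevalley.exists_ne_closedPoint f ξ (fun N hN => hopen.image_mem_nhds hN) (hfa.trans hac)
    exact hzne (hξ z hz ▸ hfa.trans hac)
  have hcov : (Set.univ : Set X) ⊆ closure D ∪ closure E := fun w _ => by
    obtain ⟨ξ, hξ, hξmax⟩ := FlatMorLib.exists_maximal_generization w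
    by_cases hD : ξ ∈ D
    · exact Or.inl (closure_mono (Set.singleton_subset_iff.2 hD) hξ.mem_closure)
    · exact Or.inr (closure_mono (show ({ξ} : Set X) ⊆ E from
        Set.singleton_subset_iff.2 ⟨hmax ξ hξmax, hD⟩) hξ.mem_closure)
  obtain ⟨w, -, hw1, hw2⟩ := isPreconnected_closed_iff.1 PreconnectedSpace.isPreconnected_univ _ _ isClosed_closure
    isClosed_closure hcov ⟨u, trivial, subset_closure (mem_connectedComponentIn hu)⟩
    ⟨v, trivial, subset_closure (show v ∈ E from ⟨fun h => hbne (hv.symm.trans h), huv⟩)⟩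
  have hwa : f w = a := by
    by_contra hwa
    by_cases hwD : w ∈ D
    · obtain ⟨z, hz, hz'⟩ := mem_closure_iff.1 hw2 D hD1 hwD
      exact hz'.2 hz
    · obtain ⟨z, hz, hz'⟩ := mem_closure_iff.1 hw1 E hD2 ⟨hwa, hwD⟩
      exact hz.2 hz'
  refine Chevalley.false_of_separated f a hac (C := {w}) (Set.singleton_subset_iff.2 hwa) isPreconnected_singleton
    (fun z hz => ?_) (fun z _ ξ _ hξ => hmax ξ hξ) hD1 hD2 Set.disjoint_sdiff_right
    (Set.union_sdiff_cancel fun z hz hza => hbne
      ((connectedComponentIn_subset (f.base ⁻¹' {b}) u hz : f z = b).symm.trans hza))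
    ⟨w, rfl, hw1⟩ ⟨w, rfl, hw2⟩
  obtain rfl := Set.mem_singleton_iff.1 hz
  subst hwa
  haveI := hred
  infer_instance

end Groth.Agent.S3417
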