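import Groth.Statements.S3422
import Mathlib
import Groth.Agent.RectDepth.SkBC
import Groth.Agent.ConstrFib.PointLocus

set_option autoImplicit false
open CategoryTheory AlgebraicGeometry
universe u
open EGA43

namespace Groth.Agent.S3422

/-- Let f : X ⟶ S be locally of finite presentation and k a natural number. The set of points x of X
such that the local ring at x of the fibre of f through x satisfies Serre's condition (S_k) is
locally constructible in X. -/
theorem result {X S : Scheme.{u}} (f : X ⟶ S)
    [LocallyOfFinitePresentation f] (k : ℕ) :
    Topology.IsLocallyConstructible {x : X |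
      LocCoh.HasSk k ((f.fiber (f.base x)).presheaf.stalk (f.asFiber x))
        ((f.fiber (f.base x)).presheaf.stalk (f.asFiber x))} := by
  exact ConstrFib.isLocallyConstructible_pointLocus
    (fun {X S} f x => LocCoh.HasSk k ((f.fiber (f x)).presheaf.stalk (f.asFiber x))
      ((f.fiber (f x)).presheaf.stalk (f.asFiber x)))
    (fun hc x' => RectDepth.hasSk_fibre_baseChange_iff hc x' k)
    (fun j f _ _ v => RectDepth.hasSk_fibre_comp_iff j f v k)
    (fun f _ _ _ _ => ConstrSets.isConstructible_of_isOpen (RectDepth.isOpen_fibre_hasSk f k)) f

end Groth.Agent.S3422
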