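import Groth.Statements.S3429
import Groth.Agent.Chevalley.LiftFP
import Groth.Agent.QuasiFlatLib.Basic
import Groth.Agent.FlatOverBC.Scheme
import Groth.Agent.BCModel.Chart
import Mathlib

set_option autoImplicit false
open CategoryTheory AlgebraicGeometry
universe u
open EGA42

set_option backward.isDefEq.respectTransparency.types false
set_option linter.style.haveILetI false
namespace Groth.Agent.S3429

open Groth.Agent Groth.Agent.DimTheory TensorProduct IsLocalRing

theorem nontrivial_baseChange {O O' M : Type u} [CommRing O] [CommRing O'] [IsLocalRing O] [IsLocalRing O']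
    [Algebra O O'] [IsLocalHom (algebraMap O O')] [AddCommGroup M] [Module O M] [Module.Finite O M]
    [Nontrivial M] : Nontrivial (O' ⊗[O] M) := by
  let k := ResidueField O
  let k' := ResidueField O'
  let ρ : k →+* k' := ResidueField.map (algebraMap O O')
  have hne : Nontrivial (k ⊗[O] M) := by
    by_contra h
    rw [not_nontrivial_iff_subsingleton] at h
    exact not_subsingleton M (IsLocalRing.subsingleton_tensorProduct.1 h)
  obtain ⟨v, hv⟩ := exists_ne (0 : k ⊗[O] M)
  obtain ⟨φ, hφ⟩ : ∃ φ : k ⊗[O] M →ₗ[k] k, φ v ≠ 0 := by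
    by_contra hall
    push Not at hall
    exact hv ((Module.forall_dual_apply_eq_zero_iff k v).1 hall)
  let ψ : M →ₗ[O] k' :=
    { toFun := fun m => ρ (φ (1 ⊗ₜ m))
      map_add' := fun a b => by rw [tmul_add, map_add, map_add]
      map_smul' := fun r m => by
        rw [tmul_smul, LinearMap.map_smul_of_tower, Algebra.smul_def, map_mul, Algebra.smul_def]
        rfl }
  obtain ⟨m, hm⟩ : ∃ m, ψ m ≠ 0 := by
    by_contra hall
    push Not at hall
    apply hφ
    have : φ = 0 := by
      refine LinearMap.ext fun w => ?_
      induction w using TensorProduct.induction_on with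
      | zero => simp
      | tmul a m =>
        rw [show a ⊗ₜ[O] m = a • ((1 : k) ⊗ₜ[O] m) by rw [TensorProduct.smul_tmul', smul_eq_mul, mul_one], map_smul,
          LinearMap.zero_apply, ρ.injective ((hall m).trans (map_zero ρ).symm), smul_zero]
      | add a b ha hb => rw [map_add, ha, hb, LinearMap.zero_apply, LinearMap.zero_apply, LinearMap.zero_apply, add_zero]
    rw [this, LinearMap.zero_apply]
  refine ⟨⟨(1 : O') ⊗ₜ m, 0, fun h => hm ?_⟩⟩
  have h1 := congrArg (ψ.liftBaseChange O') h
  rwa [LinearMap.liftBaseChange_tmul, one_smul, map_zero] at h1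

open CategoryTheory.Limits in
theorem isQuasiFlat_pullback_snd {X Y Y' : Scheme.{u}} (f : X ⟶ Y) (hf : FDesc.IsQuasiFlat f) (g : Y' ⟶ Y) :
    FDesc.IsQuasiFlat (pullback.snd f g) := by
  obtain ⟨M, hM, hflat, hnt⟩ := hf
  refine ⟨(Scheme.Modules.pullback (pullback.fst f g)).obj M, BCModel.isCoh_pullback _ hM,
    fun x' => FlatOverBC.isFlatOverAt_baseChange (IsPullback.of_hasPullback f g) M x' (hflat _), fun x' => ?_⟩
  letI := ((pullback.fst f g).stalkMap x').hom.toAlgebra
  haveI : IsLocalHom (algebraMap (X.presheaf.stalk (pullback.fst f g x')) ((pullback f g).presheaf.stalk x')) :=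
    inferInstanceAs (IsLocalHom ((pullback.fst f g).stalkMap x').hom)
  haveI := QuasiFlatLib.finite_stalk M hM (pullback.fst f g x')
  haveI := hnt (pullback.fst f g x')
  haveI : Nontrivial (((pullback f g).presheaf.stalk x') ⊗[X.presheaf.stalk (pullback.fst f g x')]
      M.presheaf.stalk (pullback.fst f g x')) := nontrivial_baseChange
  exact @Equiv.nontrivial _ _ ((DCohBridge.stalkPullIso (pullback.fst f g) x').app M).toLinearEquiv.toEquiv
    (inferInstanceAs (Nontrivial (((pullback f g).presheaf.stalk x') ⊗[X.presheaf.stalk (pullback.fst f g x')]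
      M.presheaf.stalk (pullback.fst f g x'))))


/-- A morphism of schemes which is quasi-flat (some quasi-coherent module of finite type on the source,
flat over the base, has support the whole source) and locally of finite presentation is universally
open. -/
theorem result {X Y : Scheme.{u}} (f : X ⟶ Y)
    (hf : FDesc.IsQuasiFlat f) [LocallyOfFinitePresentation f] : UniversallyOpen f := by
  refine Chevalley.universallyOpen_of_forall f fun x => Chevalley.isUnivOpenAt_of_ftLift f x ?_
  intro Y₁ g _ _ _ x' _
  obtain ⟨z', hz', hz⟩ := QuasiFlatLib.generalizingMap (isQuasiFlat_pullback_snd f hf g)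
    (genericPoint_specializes (CategoryTheory.Limits.pullback.snd f g x'))
  exact ⟨z', hz', hz⟩

end Groth.Agent.S3429
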