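import Groth.Statements.S3431
import Groth.Agent.NoethPts.Jacobson

set_option autoImplicit false
universe u
open EGA43

namespace Groth.Agent.S3431

/-- Let A be a Noetherian ring. Then A is a Jacobson ring if and only if there is no prime ideal p of A
such that A/p is semi-local (finitely many maximal ideals) of Krull dimension 1. -/
theorem result (A : Type u) [CommRing A] [IsNoetherianRing A] :
    IsJacobsonRing A ↔
      ∀ (p : Ideal A) [p.IsPrime], ¬ (Finite (MaximalSpectrum (A ⧸ p)) ∧ ringKrullDim (A ⧸ p) = 1) := by
  constructor
  · rintro h p hp ⟨hf, hd⟩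
    exact NoethPts.not_semilocal_dim_one hf hd
  · intro h
    by_contra hJ
    obtain ⟨p, g, hm, hg, hiso⟩ := NoethPts.exists_prime_of_not_isJacobsonRing hJ
    exact h p.asIdeal (NoethPts.semilocal_dim_one_of_isolated
      (fun e => hg (Ideal.Quotient.eq_zero_iff_mem.1 e)) (NoethPts.isField_away_quotient hg hiso)
      (fun hF => hm (Ideal.Quotient.maximal_of_isField _ hF)))

end Groth.Agent.S3431
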