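import Groth.Statements.S3433
import Groth.Agent.NoethPts.Jacobson

set_option autoImplicit false
universe u
open EGA43

namespace Groth.Agent.S3433

theorem dim_eq_one_iff {A : Type u} [CommRing A] [IsLocalRing A] (p : PrimeSpectrum A)
    (hp : p ≠ IsLocalRing.closedPoint A) :
    ringKrullDim (A ⧸ p.asIdeal) = 1 ↔ ∀ q : PrimeSpectrum A, p ≤ q → q ≠ IsLocalRing.closedPoint A → q = p := by
  have hF : ¬ IsField (A ⧸ p.asIdeal) := fun h => hp (PrimeSpectrum.ext
    (IsLocalRing.eq_maximalIdeal (Ideal.Quotient.maximal_of_isField _ h)))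
  have h0 : ¬ ringKrullDim (A ⧸ p.asIdeal) ≤ 0 := fun h => by
    haveI : Ring.KrullDimLE 0 (A ⧸ p.asIdeal) := Ring.krullDimLE_iff.mpr h
    exact hF Ring.KrullDimLE.isField_of_isDomain
  constructor
  · intro hd q hpq hqm
    haveI : Ring.KrullDimLE 1 (A ⧸ p.asIdeal) := Ring.krullDimLE_iff.2 hd.le
    by_contra hqp
    have hker : RingHom.ker (Ideal.Quotient.mk p.asIdeal) ≤ q.asIdeal := by rw [Ideal.mk_ker]; exact hpq
    have hP := Ideal.map_isPrime_of_surjective Ideal.Quotient.mk_surjective hker
    have hc : (q.asIdeal.map (Ideal.Quotient.mk p.asIdeal)).comap (Ideal.Quotient.mk p.asIdeal) = q.asIdeal := by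
      rw [Ideal.comap_map_of_surjective _ Ideal.Quotient.mk_surjective]; exact sup_eq_left.2 hker
    have hP0 : q.asIdeal.map (Ideal.Quotient.mk p.asIdeal) ≠ ⊥ := fun h => by
      rw [h, ← RingHom.ker_eq_comap_bot, Ideal.mk_ker] at hc
      exact hqp (PrimeSpectrum.ext hc.symm)
    have := hP.isMaximal_of_ne_bot hP0
    have h2 : q.asIdeal.IsMaximal := hc ▸ Ideal.comap_isMaximal_of_surjective _ Ideal.Quotient.mk_surjective
    exact hqm (PrimeSpectrum.ext (IsLocalRing.eq_maximalIdeal h2))
  · intro h
    refine le_antisymm (NoethPts.ringKrullDim_le_one_of_maximal fun P hP hP0 => ?_) (Order.succ_le_of_lt (lt_of_not_ge h0))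
    have hne : (⟨P.comap (Ideal.Quotient.mk p.asIdeal), hP.comap _⟩ : PrimeSpectrum A) ≠ p := fun e => hP0 (by
      rw [← Ideal.map_comap_of_surjective _ Ideal.Quotient.mk_surjective P,
        show P.comap (Ideal.Quotient.mk p.asIdeal) = p.asIdeal from congrArg PrimeSpectrum.asIdeal e, Ideal.map_quotient_self])
    have e : (⟨P.comap (Ideal.Quotient.mk p.asIdeal), hP.comap _⟩ : PrimeSpectrum A) = IsLocalRing.closedPoint A := by
      by_contra hm
      exact hne (h _ (fun a ha => by
        change Ideal.Quotient.mk _ a ∈ P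
        rw [Ideal.Quotient.eq_zero_iff_mem.2 ha]; exact P.zero_mem) hm)
    have hm : (P.comap (Ideal.Quotient.mk p.asIdeal)).IsMaximal := by
      rw [show P.comap (Ideal.Quotient.mk p.asIdeal) = IsLocalRing.maximalIdeal A from congrArg PrimeSpectrum.asIdeal e]
      infer_instance
    exact (Ideal.map_eq_top_or_isMaximal_of_surjective _ Ideal.Quotient.mk_surjective hm).resolve_left
      (fun h => hP.ne_top (by rwa [Ideal.map_comap_of_surjective _ Ideal.Quotient.mk_surjective] at h)) |>
      fun h => by rwa [Ideal.map_comap_of_surjective _ Ideal.Quotient.mk_surjective] at h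


/-- Let A be a Noetherian local ring with maximal ideal m and let Y be the punctured spectrum Spec A ∖
{m}. Then Y is a Jacobson space, and a point p of Y is closed in Y if and only if dim A/p = 1. -/
theorem result (A : Type u) [CommRing A] [IsNoetherianRing A] [IsLocalRing A] :
    JacobsonSpace ↥({IsLocalRing.closedPoint A}ᶜ : Set (PrimeSpectrum A)) ∧
      ∀ p : ↥({IsLocalRing.closedPoint A}ᶜ : Set (PrimeSpectrum A)),
        IsClosed ({p} : Set ↥({IsLocalRing.closedPoint A}ᶜ : Set (PrimeSpectrum A))) ↔
          ringKrullDim (A ⧸ p.1.asIdeal) = 1 := by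
  have hc : IsClosed ({IsLocalRing.closedPoint A} : Set (PrimeSpectrum A)) := by
    rw [PrimeSpectrum.isClosed_singleton_iff_isMaximal]
    exact inferInstanceAs (IsLocalRing.maximalIdeal A).IsMaximal
  refine ⟨?_, fun p => ?_⟩
  · refine NoethPts.jacobsonSpace_subtype (X := AlgebraicGeometry.Spec (CommRingCat.of A)) hc.isOpen_compl fun x hxY hx z hz => ?_
    by_contra hzx
    have := NoethPts.isClosed_singleton_of_specializes hx (specializes_iff_mem_closure.2 hz.1) hzx
    exact hz.2 (PrimeSpectrum.ext (IsLocalRing.eq_maximalIdeal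
      ((PrimeSpectrum.isClosed_singleton_iff_isMaximal z).1 this)))
  · rw [dim_eq_one_iff p.1 p.2]
    constructor
    · intro h q hpq hq
      have : (⟨q, hq⟩ : ↥({IsLocalRing.closedPoint A}ᶜ : Set (PrimeSpectrum A))) ∈ closure {p} := by
        rw [← specializes_iff_mem_closure, subtype_specializes_iff]
        exact (PrimeSpectrum.le_iff_specializes _ _).1 hpq
      rw [h.closure_eq] at this
      exact congrArg Subtype.val this
    · intro h
      refine closure_eq_iff_isClosed.1 (subset_antisymm (fun z hz => ?_) subset_closure)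
      rw [← specializes_iff_mem_closure, subtype_specializes_iff, ← PrimeSpectrum.le_iff_specializes] at hz
      exact Subtype.ext (h z.1 hz z.2)

end Groth.Agent.S3433
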