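import Groth.Statements.S3434
import Groth.Agent.ProperNear.Main
import Mathlib

set_option autoImplicit false
open CategoryTheory AlgebraicGeometry
universe u
open EGA43

namespace Groth.Agent.S3434

open Groth.Agent.ProperNear IsLocalRing
set_option backward.isDefEq.respectTransparency.types false
set_option linter.style.haveILetI false
set_option maxHeartbeats 1000000

/-- a valuation subring that maps into a discrete valuation ring, cut out by it, is one -/
theorem isDVR_of_map {F R K : Type u} [Field F] [CommRing R] [IsDomain R] [IsDiscreteValuationRing R]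
    [Field K] [Algebra R K] [IsFractionRing R K] (ψ : F →+* K) (V : ValuationSubring F)
    (hV : ∀ a, a ∈ V ↔ ∃ r : R, algebraMap R K r = ψ a) (hne : V ≠ ⊤) : IsDiscreteValuationRing V := by
  classical
  choose ρ hρ using fun z : V => (hV z).1 z.2
  have hinj : Function.Injective (algebraMap R K) := IsFractionRing.injective R K
  have hmul : ∀ a b, ρ (a * b) = ρ a * ρ b := fun a b => hinj (by rw [hρ, map_mul, hρ, hρ]; exact map_mul ψ _ _)
  have h1 : ρ 1 = 1 := hinj (by rw [hρ, map_one]; exact map_one ψ)
  have hz : ∀ z, ρ z = 0 → z = 0 := fun z h => Subtype.ext (ψ.injective (by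
    rw [← hρ, h, map_zero]; exact (map_zero ψ).symm))
  have hdvd : ∀ a b, ρ b ∣ ρ a → b ∣ a := by
    intro a b ⟨r, hr⟩
    by_cases hb : b = 0
    · subst hb
      have h0 : ρ 0 = 0 := hinj (by rw [hρ, map_zero]; exact map_zero ψ)
      rw [h0, zero_mul] at hr
      rw [hz a hr]
    · have hb' : (b : F) ≠ 0 := fun h => hb (Subtype.ext h)
      refine ⟨⟨(a : F) / b, (hV _).2 ⟨r, ?_⟩⟩, Subtype.ext (by
        show (a : F) = b * (a / b)
        field_simp)⟩
      rw [map_div₀, ← hρ, ← hρ, hr, map_mul, mul_div_cancel_left₀]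
      rw [hρ]
      exact (map_ne_zero ψ).2 hb'
  have hunit : ∀ a, IsUnit (ρ a) → IsUnit a := fun a h =>
    isUnit_of_dvd_one (hdvd 1 a (by rw [h1]; exact h.dvd))
  let v : V → ℕ := fun z => (IsDiscreteValuationRing.addVal R (ρ z)).toNat
  have hv : ∀ z : V, z ≠ 0 → IsDiscreteValuationRing.addVal R (ρ z) = (v z : ℕ∞) := fun z h =>
    (ENat.coe_toNat fun ht => h (hz z (IsDiscreteValuationRing.addVal_eq_top_iff.1 ht))).symm
  have hvmul : ∀ a b : V, a ≠ 0 → b ≠ 0 → v (a * b) = v a + v b := fun a b ha hb => by
    have := hv _ (mul_ne_zero ha hb)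
    rw [hmul, IsDiscreteValuationRing.addVal_mul, hv a ha, hv b hb] at this
    exact_mod_cast this.symm
  have hvpos : ∀ z : V, z ≠ 0 → ¬ IsUnit z → 1 ≤ v z := fun z h hu => by
    by_contra hlt
    have := hv z h
    rw [show v z = 0 by omega, Nat.cast_zero, IsDiscreteValuationRing.addVal_eq_zero_iff] at this
    exact hu (hunit z this)
  have hex : ∃ n, ∃ z : V, z ≠ 0 ∧ ¬ IsUnit z ∧ v z = n := by
    obtain ⟨a, ha⟩ : ∃ a, a ∉ V := by
      by_contra hall
      push Not at hall
      exact hne (SetLike.ext fun a => iff_of_true (hall a) trivial)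
    have ha0 : a ≠ 0 := fun h => ha (h ▸ zero_mem V)
    have hai : a⁻¹ ∈ V := (V.mem_or_inv_mem a).resolve_left ha
    refine ⟨_, ⟨a⁻¹, hai⟩, fun h => inv_ne_zero ha0 (congrArg Subtype.val h), fun h => ha ?_, rfl⟩
    obtain ⟨u, hu⟩ := h
    have h2 : (u.inv : F) * a⁻¹ = 1 := by
      have h5 : ((u.inv : V) : F) * ((u : V) : F) = 1 := congrArg Subtype.val u.inv_val
      rw [hu] at h5
      exact h5
    rw [mul_inv_eq_one₀ ha0] at h2
    exact h2 ▸ (u.inv).2
  obtain ⟨π, hπ0, hπu, hπn⟩ := Nat.find_spec hex
  have hmin : ∀ z : V, z ≠ 0 → ¬ IsUnit z → v π ≤ v z := fun z h hu => by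
    rw [hπn]; exact Nat.find_le ⟨z, h, hu, rfl⟩
  refine IsDiscreteValuationRing.ofHasUnitMulPowIrreducibleFactorization ⟨π, ⟨hπu, fun a b hab => ?_⟩, ?_⟩
  · by_contra hh
    rw [not_or] at hh
    have ha : a ≠ 0 := fun h => hπ0 (by rw [hab, h, zero_mul])
    have hb : b ≠ 0 := fun h => hπ0 (by rw [hab, h, mul_zero])
    have h2 := hvmul a b ha hb
    rw [← hab] at h2
    have := hmin a ha hh.1
    have := hvpos b hb hh.2
    omega
  · intro x hx
    induction hk : v x using Nat.strong_induction_on generalizing x with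
    | _ k ih =>
      by_cases hu : IsUnit x
      · exact ⟨0, by rw [pow_zero]; exact (associated_one_iff_isUnit.2 hu).symm⟩
      obtain ⟨y, rfl⟩ : π ∣ x := hdvd x π (IsDiscreteValuationRing.addVal_le_iff_dvd.1 (by
        rw [hv x hx, hv π hπ0]; exact_mod_cast hmin x hx hu))
      have hy : y ≠ 0 := fun h => hx (by rw [h, mul_zero])
      have h2 := hvmul π y hπ0 hy
      have := hvpos π hπ0 hπu
      obtain ⟨n, hn⟩ := ih (v y) (by omega) hy rfl
      exact ⟨n + 1, by rw [pow_succ']; exact hn.mul_left π⟩

theorem ext_of_closedPoint {R K : Type u} [CommRing R] [IsDomain R] [IsLocalRing R] [Field K] [Algebra R K]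
    [IsFractionRing R K] {Y : Scheme.{u}} (α β : Spec (CommRingCat.of R) ⟶ Y)
    (h : α (closedPoint R) = β (closedPoint R))
    (hgen : Spec.map (CommRingCat.ofHom (algebraMap R K)) ≫ α = Spec.map (CommRingCat.ofHom (algebraMap R K)) ≫ β) :
    α = β := by
  obtain ⟨V, hV, hyV, -⟩ := exists_isAffineOpen_mem_and_subset (X := Y) (x := α (closedPoint R)) (U := ⊤) trivial
  have hmem : ∀ (m : Spec (CommRingCat.of R) ⟶ Y), m (closedPoint R) ∈ V → Set.range m ⊆ Set.range hV.fromSpec := by
    rintro m hm _ ⟨p, rfl⟩
    rw [hV.range_fromSpec]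
    exact ((IsLocalRing.specializes_closedPoint p).map m.continuous).mem_open V.isOpen hm
  have h1 := IsOpenImmersion.lift_fac hV.fromSpec α (hmem α hyV)
  have h2 := IsOpenImmersion.lift_fac hV.fromSpec β (hmem β (h ▸ hyV))
  rw [← h1, ← h2]
  congr 1
  rw [← h1, ← h2, ← Category.assoc, ← Category.assoc, cancel_mono] at hgen
  rw [← Spec.map_preimage (IsOpenImmersion.lift hV.fromSpec α (hmem α hyV)),
    ← Spec.map_preimage (IsOpenImmersion.lift hV.fromSpec β (hmem β (h ▸ hyV))), ← Spec.map_comp, ← Spec.map_comp] at hgen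
  rw [← Spec.map_preimage (IsOpenImmersion.lift hV.fromSpec α (hmem α hyV)),
    ← Spec.map_preimage (IsOpenImmersion.lift hV.fromSpec β (hmem β (h ▸ hyV)))]
  exact congrArg Spec.map (CommRingCat.hom_ext (RingHom.ext fun a =>
    IsFractionRing.injective R K congr($(Spec.map_injective hgen).hom a)))

theorem exists_local_map {R : Type u} [CommRing R] [IsLocalRing R] {X : Scheme.{u}}
    (α : Spec (CommRingCat.of R) ⟶ X) {x : X} (h : α (closedPoint R) = x) :
    ∃ c : X.presheaf.stalk x ⟶ CommRingCat.of R, IsLocalHom c.hom ∧ Spec.map c ≫ X.fromSpecStalk x = α := by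
  subst h
  exact ⟨Scheme.stalkClosedPointTo α, inferInstance, Scheme.Spec_stalkClosedPointTo_fromSpecStalk α⟩


/-- Let Y be an integral locally Noetherian scheme, X an integral scheme, f : X ⟶ Y separated, dominant
and of finite type, and y a point of Y; write K for the function field of X (the local ring at its
generic point ξ), into which O_{Y,y} maps through O_{Y,f ξ}. Then f is proper over some open
neighbourhood of y if and only if every discrete valuation ring of K which dominates (the image of)
O_{Y,y} dominates (the image of) O_{X,x} for some point x of X; such an x lies over y. -/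
theorem result {X Y : Scheme.{u}} [IsIntegral X] [IsIntegral Y] [IsLocallyNoetherian Y]
    (f : X ⟶ Y) [IsSeparated f] [IsDominant f] [LocallyOfFiniteType f] [QuasiCompact f] (y : Y)
    (hξ : f.base (genericPoint X) ⤳ y) :
    (∃ U : Y.Opens, y ∈ U ∧ IsProper (f ∣_ U)) ↔
      ∀ A : ValuationSubring X.functionField, IsDiscreteValuationRing A →
        (∀ r : Y.presheaf.stalk y, A.valuation ((Y.presheaf.stalkSpecializes hξ ≫ f.stalkMap (genericPoint X)) r) ≤ 1) →
        (∀ r ∈ IsLocalRing.maximalIdeal (Y.presheaf.stalk y),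
            A.valuation ((Y.presheaf.stalkSpecializes hξ ≫ f.stalkMap (genericPoint X)) r) < 1) →
        ∃ x : X, f.base x = y ∧
          (∀ r : X.presheaf.stalk x, A.valuation (X.presheaf.stalkSpecializes (genericPoint_specializes x) r) ≤ 1) ∧
          (∀ r ∈ IsLocalRing.maximalIdeal (X.presheaf.stalk x),
            A.valuation (X.presheaf.stalkSpecializes (genericPoint_specializes x) r) < 1) := by
  let η := genericPoint X
  have hcomp : Spec.map (Y.presheaf.stalkSpecializes hξ ≫ f.stalkMap η) ≫ Y.fromSpecStalk y = X.fromSpecStalk η ≫ f := by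
    rw [Spec.map_comp, Category.assoc, Scheme.SpecMap_stalkSpecializes_fromSpecStalk,
      Scheme.SpecMap_stalkMap_fromSpecStalk]
  constructor
  · rintro ⟨U, hy, hU⟩ A hA h1 h2
    let c0 : Y.presheaf.stalk y →+* A :=
      ((Y.presheaf.stalkSpecializes hξ ≫ f.stalkMap η).hom).codRestrict A.toSubring fun r =>
        (A.valuation_le_one_iff _).1 (h1 r)
    haveI : IsLocalHom c0 := ⟨fun r hr => by
      by_contra hu
      have h3 := h2 r ((mem_maximalIdeal _).2 hu)
      have h4 := (A.valuation_eq_one_iff (c0 r)).1 hr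
      exact h3.ne h4⟩
    let g : Spec (CommRingCat.of A) ⟶ Y := Spec.map (CommRingCat.ofHom c0) ≫ Y.fromSpecStalk y
    have hg : g (closedPoint A) = y := by
      rw [Scheme.Hom.comp_apply, show Spec.map (CommRingCat.ofHom c0) (closedPoint A) = closedPoint _ from
        IsLocalRing.comap_closedPoint c0, Scheme.fromSpecStalk_closedPoint]
    obtain ⟨s, hs1, hs2⟩ := dvrLiftAt_of_isProper f hy (fun _ => True) A X.functionField g
      (X.fromSpecStalk η) hg (by
        rw [← hcomp]
        show _ = _ ≫ Spec.map (CommRingCat.ofHom c0) ≫ Y.fromSpecStalk y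
        rw [← Spec.map_comp_assoc]
        rfl) trivial
    obtain ⟨c, hc, hcs⟩ := exists_local_map s (x := s (closedPoint A)) rfl
    have key : ∀ r, X.presheaf.stalkSpecializes (genericPoint_specializes (s (closedPoint A))) r = (c r).1 := by
      have h3 : Spec.map (c ≫ CommRingCat.ofHom (algebraMap A X.functionField)) ≫ X.fromSpecStalk _ =
          Spec.map (X.presheaf.stalkSpecializes (genericPoint_specializes (s (closedPoint A)))) ≫ X.fromSpecStalk _ := by
        rw [Spec.map_comp, Category.assoc, hcs, hs2, Scheme.SpecMap_stalkSpecializes_fromSpecStalk]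
      exact fun r => congr($(Spec.map_injective ((cancel_mono _).1 h3)).hom r).symm
    refine ⟨s (closedPoint A), by rw [← Scheme.Hom.comp_apply, hs1, hg], fun r => ?_, fun r hr => ?_⟩
    · rw [key, A.valuation_le_one_iff]
      exact (c r).2
    · rw [key, ← A.valuation_lt_one_iff]
      exact fun hu => (mem_maximalIdeal _).1 hr (hc.map_nonunit r hu)
  · intro H
    refine exists_isProper_nhd f y ?_
    intro R K _ _ _ _ _ _ g σ hg hσ hmax
    have hgenσ : σ (closedPoint K) = η := (hmax η (genericPoint_specializes _)).symm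
    obtain ⟨ψ, -, hψ⟩ := exists_local_map σ hgenσ
    obtain ⟨c, hc, hcg⟩ := exists_local_map g hg
    have key : ∀ r, ψ ((Y.presheaf.stalkSpecializes hξ ≫ f.stalkMap η) r) = algebraMap R K (c r) := by
      have h3 : Spec.map ((Y.presheaf.stalkSpecializes hξ ≫ f.stalkMap η) ≫ ψ) ≫ Y.fromSpecStalk y =
          Spec.map (c ≫ CommRingCat.ofHom (algebraMap R K)) ≫ Y.fromSpecStalk y := by
        rw [Spec.map_comp, Category.assoc, hcomp, reassoc_of% hψ, hσ, Spec.map_comp, Category.assoc, hcg]
      exact fun r => congr($(Spec.map_injective ((cancel_mono _).1 h3)).hom r)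
    let V : ValuationSubring X.functionField := ValuationSubring.ofSubring
      ((algebraMap R K).range.comap ψ.hom) (fun a => by
        rcases ValuationRing.isInteger_or_isInteger R (ψ.hom a) with ⟨r, hr⟩ | ⟨r, hr⟩
        · exact Or.inl ⟨r, hr⟩
        · exact Or.inr ⟨r, by rw [map_inv₀]; exact hr⟩)
    have hV : ∀ a, a ∈ V ↔ ∃ r : R, algebraMap R K r = ψ.hom a := fun a => Iff.rfl
    -- a centre of `V`
    obtain ⟨x, hfx, hx1, hx2⟩ : ∃ x : X, f x = y ∧
        (∀ r, X.presheaf.stalkSpecializes (genericPoint_specializes x) r ∈ V) ∧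
        ∀ r ∈ maximalIdeal (X.presheaf.stalk x), ∀ z : R,
          algebraMap R K z = ψ.hom (X.presheaf.stalkSpecializes (genericPoint_specializes x) r) → ¬ IsUnit z := by
      by_cases hne : V = ⊤
      · have hall : ∀ a, a ∈ V := fun a => hne ▸ trivial
        refine ⟨η, ?_, fun r => hall _, fun r hr z hz hu => ?_⟩
        · -- `f η = y`
          have hz : ∀ r ∈ maximalIdeal (Y.presheaf.stalk y),
              (Y.presheaf.stalkSpecializes hξ ≫ f.stalkMap η) r = 0 := by
            intro r hr
            by_contra hne'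
            obtain ⟨z, hz⟩ := (hV _).1 (hall ((Y.presheaf.stalkSpecializes hξ ≫ f.stalkMap η) r)⁻¹)
            refine (mem_maximalIdeal _).1 hr (hc.map_nonunit r (IsUnit.of_mul_eq_one z (IsFractionRing.injective R K ?_)))
            rw [map_mul, map_one, ← key, hz, map_inv₀]
            exact mul_inv_cancel₀ ((map_ne_zero ψ.hom).2 hne')
          have h3 : Spec.map (Y.presheaf.stalkSpecializes hξ ≫ f.stalkMap η) (closedPoint X.functionField) =
              closedPoint (Y.presheaf.stalk y) := by
            refine PrimeSpectrum.ext (le_antisymm (le_maximalIdeal (Ideal.IsPrime.ne_top inferInstance)) fun r hr => ?_)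
            show (Y.presheaf.stalkSpecializes hξ ≫ f.stalkMap η) r ∈ maximalIdeal X.functionField
            rw [hz r hr]
            exact zero_mem _
          have := congr($hcomp (closedPoint X.functionField))
          rw [Scheme.Hom.comp_apply, Scheme.Hom.comp_apply, h3, Scheme.fromSpecStalk_closedPoint,
            Scheme.fromSpecStalk_closedPoint] at this
          exact this.symm
        · have hr0 : X.presheaf.stalkSpecializes (genericPoint_specializes η) r = 0 := by
            by_contra hne'
            refine (mem_maximalIdeal _).1 hr (isUnit_of_map_unit (X.presheaf.stalkSpecializes (genericPoint_specializes η)).hom r ?_)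
            exact isUnit_iff_ne_zero.2 hne'
          rw [hr0, map_zero, map_eq_zero_iff _ (IsFractionRing.injective R K)] at hz
          exact not_isUnit_zero (hz ▸ hu)
      · haveI := isDVR_of_map ψ.hom V hV hne
        obtain ⟨x, hfx, hx1, hx2⟩ := H V inferInstance
          (fun r => (V.valuation_le_one_iff _).2 ((hV _).2 ⟨c r, (key r).symm⟩))
          (fun r hr => by
            refine (V.valuation_lt_one_iff ⟨_, (hV _).2 ⟨c r, (key r).symm⟩⟩).1 fun hu => ?_
            obtain ⟨u, hu⟩ := hu
            obtain ⟨w, hw⟩ := (hV _).1 u.inv.2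
            refine (mem_maximalIdeal _).1 hr (hc.map_nonunit r (IsUnit.of_mul_eq_one w (IsFractionRing.injective R K ?_)))
            rw [map_mul, map_one, ← key, hw, ← map_mul, ← map_one ψ.hom]
            have h5 : ((u : V) : X.functionField) * ((u.inv : V) : X.functionField) = 1 := congrArg Subtype.val u.val_inv
            rw [hu] at h5
            exact congrArg _ h5)
        refine ⟨x, hfx, fun r => (V.valuation_le_one_iff _).1 (hx1 r), fun r hr z hz hu => ?_⟩
        obtain ⟨w, hw⟩ := hu.exists_right_inv
        have hmem : X.presheaf.stalkSpecializes (genericPoint_specializes x) r ∈ V :=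
          (V.valuation_le_one_iff _).1 (hx1 r)
        have h4 := (V.valuation_lt_one_iff ⟨_, hmem⟩).2 (hx2 r hr)
        refine h4 ?_
        have h0 : X.presheaf.stalkSpecializes (genericPoint_specializes x) r ≠ 0 := fun h => by
          rw [h, map_zero, map_eq_zero_iff _ (IsFractionRing.injective R K)] at hz
          rw [hz, zero_mul] at hw
          exact zero_ne_one hw
        refine IsUnit.of_mul_eq_one ⟨(X.presheaf.stalkSpecializes (genericPoint_specializes x) r)⁻¹, (hV _).2 ⟨w, ?_⟩⟩
          (Subtype.ext (mul_inv_cancel₀ h0))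
        rw [map_inv₀, ← hz, eq_inv_of_mul_eq_one_right (show algebraMap R K z * algebraMap R K w = 1 by
          rw [← map_mul, hw, map_one])]
    choose θ hθ using fun r => (hV _).1 (hx1 r)
    let cx : X.presheaf.stalk x →+* R :=
      { toFun := θ
        map_one' := IsFractionRing.injective R K (by simp [hθ])
        map_mul' := fun a b => IsFractionRing.injective R K (by simp [hθ])
        map_zero' := IsFractionRing.injective R K (by simp [hθ])
        map_add' := fun a b => IsFractionRing.injective R K (by simp [hθ]) }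
    haveI : IsLocalHom cx := ⟨fun r hr => by
      by_contra hu
      exact hx2 r ((mem_maximalIdeal _).2 hu) _ (hθ r) hr⟩
    let s : Spec (CommRingCat.of R) ⟶ X := Spec.map (CommRingCat.ofHom cx) ≫ X.fromSpecStalk x
    have hs : Spec.map (CommRingCat.ofHom (algebraMap R K)) ≫ s = σ := by
      rw [← hψ, ← X.SpecMap_stalkSpecializes_fromSpecStalk (genericPoint_specializes x), ← Spec.map_comp_assoc,
        ← Spec.map_comp_assoc]
      congr 2
      exact CommRingCat.hom_ext (RingHom.ext hθ)
    have hsc : s (closedPoint R) = x := by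
      rw [Scheme.Hom.comp_apply, show Spec.map (CommRingCat.ofHom cx) (closedPoint R) = closedPoint _ from
        IsLocalRing.comap_closedPoint cx, Scheme.fromSpecStalk_closedPoint]
    refine ⟨s, ext_of_closedPoint (K := K) _ _ (by rw [Scheme.Hom.comp_apply, hsc, hfx, hg]) ?_, hs⟩
    rw [reassoc_of% hs, hσ]

end Groth.Agent.S3434
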