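import Groth.Statements.S3437
import Mathlib
import Groth.Agent.ConstrFib.CMSmooth
import Groth.Agent.LimSch.Constructible

set_option autoImplicit false
open CategoryTheory AlgebraicGeometry
universe u
open EGA43

namespace Groth.Agent.S3437

/-- Let f : X ⟶ S be of finite presentation (locally of finite presentation, quasi-compact and
quasi-separated). Then the set of points s of S such that every local ring of the fibre X_s is
Cohen–Macaulay is locally constructible in S. -/
theorem result {X S : Scheme.{u}} (f : X ⟶ S)
    [LocallyOfFinitePresentation f] [QuasiCompact f] [QuasiSeparated f] :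
    Topology.IsLocallyConstructible {s : S |
      ∀ z : ↥(f.fiber s), LocCoh.IsCohenMacaulayLocalRing ((f.fiber s).presheaf.stalk z)} := by
  have hE := Groth.Agent.ConstrFib.isLocallyConstructible_cmPt f
  convert! Groth.Agent.LimSch.isLocallyConstructible_compl
    (f.isLocallyConstructible_image (Groth.Agent.LimSch.isLocallyConstructible_compl hE)) using 1
  ext s
  simp only [Set.mem_ofPred_eq, Set.mem_compl_iff, Set.mem_image, not_exists, not_and]
  constructor
  · intro h x hx hxs
    subst hxs
    exact hx ((Groth.Agent.ConstrFib.cmPt_iff f x).2 (h _))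
  · intro h z
    have key : ∀ (x : X) (y : S) (w : f.fiber y), f.fiberι y w = x → f x = y →
        Groth.Agent.ConstrFib.CMPt f x → LocCoh.IsCohenMacaulayLocalRing ((f.fiber y).presheaf.stalk w) := by
      intro x y w hw hy hcm
      subst hy
      obtain rfl : w = f.asFiber x :=
        (f.fiberι (f x)).isEmbedding.injective (hw.trans (Scheme.Hom.fiberι_asFiber f x).symm)
      exact (Groth.Agent.ConstrFib.cmPt_iff f x).1 hcm
    have hs : f (f.fiberι s z) = s :=
      (Scheme.Hom.range_fiberι f s).le ⟨z, rfl⟩
    exact key _ s z rfl hs (by_contra fun hn => h _ hn hs)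

end Groth.Agent.S3437
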