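import Groth.Statements.S3438
import Groth.Agent.EquidimChart.Crit
import Groth.Agent.EquidimChart.DimEq
-- import your own Groth.Agent.* helpers here

set_option autoImplicit false
open CategoryTheory AlgebraicGeometry
universe u
open EGA43

namespace Groth.Agent.S3438

open Groth.Agent.EquidimChart Groth.Agent.DimTheory
set_option backward.isDefEq.respectTransparency.types false
set_option linter.style.haveILetI false




/-- Let Y be locally Noetherian, f : X ⟶ Y locally of finite type, x a point of X with y = f x, and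
suppose O_{Y,y} is equidimensional and universally catenary. If f is equidimensional at x, then dim
O_{X,x} = dim O_{Y,y} + dim O_{X_y,x}. (That O_{X,x} is then also equidimensional is a separate
result, not asserted here.) -/
theorem result {X Y : Scheme.{u}} [IsLocallyNoetherian Y] (f : X ⟶ Y)
    [LocallyOfFiniteType f] (x : X) (hY : EGA4.IsEquidim (Y.presheaf.stalk (f.base x)))
    (hcat : CAlg.IsUniversallyCatenary (Y.presheaf.stalk (f.base x))) (h : EGA43.IsEquidimAt f x) :
    ringKrullDim (X.presheaf.stalk x) =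
        ringKrullDim (Y.presheaf.stalk (f.base x)) + ringKrullDim ((f.fiber (f.base x)).presheaf.stalk (f.asFiber x)) := by
  obtain ⟨e, U, hxU, hcomp, h1, h2'⟩ := data_of_isEquidimAt f h
  obtain ⟨V, hV, hxV, -⟩ := exists_isAffineOpen_mem_and_subset (X := Y) (x := f x) (U := ⊤) trivial
  obtain ⟨U1, hU1, hxU1, hU1'⟩ := exists_isAffineOpen_mem_and_subset (X := X) (x := x) (U := U ⊓ f ⁻¹ᵁ V) ⟨hxU, hxV⟩
  have hle : U1 ≤ f ⁻¹ᵁ V := fun z hz => (hU1' hz).2
  letI : Algebra Γ(Y, V) Γ(X, U1) := (f.appLE V U1 hle).hom.toAlgebra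
  haveI : Algebra.FiniteType Γ(Y, V) Γ(X, U1) := f.finiteType_appLE hV hU1 hle
  haveI : IsNoetherianRing Γ(Y, V) := IsLocallyNoetherian.component_noetherian ⟨V, hV⟩
  haveI : IsNoetherianRing Γ(X, U1) := Algebra.FiniteType.isNoetherianRing Γ(Y, V) _
  let P := (hU1.primeIdealOf ⟨x, hxU1⟩).asIdeal
  let p := (hV.primeIdealOf ⟨f x, hle hxU1⟩).asIdeal
  haveI : P.LiesOver p := ⟨(congrArg PrimeSpectrum.asIdeal (IsAffineOpen.comap_primeIdealOf_appLE (f := f) V hV U1 hU1 hle hxU1)).symm⟩
  -- transfer the hypotheses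
  letI := TopCat.Presheaf.algebra_section_stalk Y.presheaf (⟨f x, hle hxU1⟩ : V)
  haveI : IsLocalization.AtPrime (Y.presheaf.stalk (f x)) p := hV.isLocalization_stalk ⟨f x, hle hxU1⟩
  let ε := (IsLocalization.algEquiv p.primeCompl (Localization.AtPrime p) (Y.presheaf.stalk (f x))).symm.toRingEquiv
  have hUC : CAlg.IsUniversallyCatenary (Localization.AtPrime p) :=
    Groth.Agent.LeadExc.isUniversallyCatenary_of_surjective ε.toRingHom ε.surjective hcat
  have heq : EGA4.IsEquidim (Localization.AtPrime p) := Groth.Agent.LeadFCat.isEquidim_of_ringEquiv ε hY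
  -- transcendence degrees
  have htr : ∀ (z : X) (hz : z ∈ U1) (q : Ideal Γ(Y, V)) [q.IsPrime] [(hU1.primeIdealOf ⟨z, hz⟩).asIdeal.LiesOver q],
      mapTrdeg f z = Algebra.trdeg (Γ(Y, V) ⧸ q) (Γ(X, U1) ⧸ (hU1.primeIdealOf ⟨z, hz⟩).asIdeal) := by
    intro z hz q _ _
    letI : Algebra Γ(Y, V) (Y.residueField (f z)) := (Y.presheaf.germ V (f z) (hle hz) ≫ Y.residue (f z)).hom.toAlgebra
    letI : Algebra Γ(X, U1) (X.residueField z) := (X.presheaf.germ U1 z hz ≫ X.residue z).hom.toAlgebra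
    letI : Algebra (Y.residueField (f z)) (X.residueField z) := (f.residueFieldMap z).hom.toAlgebra
    exact trdeg_quot (K := Y.residueField (f z)) (L := X.residueField z)
      (Groth.Agent.FlatEquidim.evaluation_comp f hle hz) (Groth.Agent.DimTheory.exists_eq_div hV (hle hz))
      (Groth.Agent.DimTheory.exists_eq_div hU1 hz) q _ (Groth.Agent.DimTheory.ker_evaluation hU1 hz)
  obtain ⟨t, ht, -⟩ := height_asFiber f x
  rw [htr x hxU1 p] at ht
  letI := TopCat.Presheaf.algebra_section_stalk X.presheaf (⟨x, hxU1⟩ : U1)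
  haveI : IsLocalization.AtPrime (X.presheaf.stalk x) P := hU1.isLocalization_stalk ⟨x, hxU1⟩
  have hεx := ringKrullDim_eq_of_ringEquiv (IsLocalization.algEquiv P.primeCompl (Localization.AtPrime P) (X.presheaf.stalk x)).toRingEquiv
  have key : ∀ Q ∈ minimalPrimes (Localization.AtPrime P), ∃ hh d : ℕ,
      ringKrullDim (Localization.AtPrime P ⧸ Q) = (hh : WithBot ℕ∞) ∧
      ringKrullDim (Localization.AtPrime p) = (d : WithBot ℕ∞) ∧ hh + t = d + e := by
    intro Q hQ
    haveI := hQ.1.1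
    let P0 := Q.comap (algebraMap Γ(X, U1) (Localization.AtPrime P))
    have hmap : P0.map (algebraMap Γ(X, U1) (Localization.AtPrime P)) = Q :=
      IsLocalization.map_comap P.primeCompl _ Q
    have hP0P : P0 ≤ P :=
      (Ideal.comap_mono (IsLocalRing.le_maximalIdeal hQ.1.1.ne_top)).trans Localization.AtPrime.under_maximalIdeal.le
    have hP0min : ∀ Q' : Ideal Γ(X, U1), Q'.IsPrime → Q' ≤ P0 → Q' = P0 := by
      intro Q' hQ' hle'
      have hd : Disjoint (P.primeCompl : Set Γ(X, U1)) (Q' : Set Γ(X, U1)) :=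
        Set.disjoint_left.2 fun a ha ha' => ha (hle'.trans hP0P ha')
      have h2 := hQ.2 ⟨IsLocalization.isPrime_of_isPrime_disjoint P.primeCompl _ Q' hQ' hd, bot_le⟩
        ((Ideal.map_mono hle').trans hmap.le)
      refine le_antisymm hle' ?_
      calc P0 ≤ (Q'.map (algebraMap Γ(X, U1) (Localization.AtPrime P))).comap _ := Ideal.comap_mono h2
        _ = Q' := IsLocalization.under_map_of_isPrime_disjoint P.primeCompl _ hQ' hd
    obtain ⟨ξ, hξU, hξP⟩ := Groth.Agent.FlatEquidim.exists_point hU1 ⟨P0, inferInstance⟩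
    have hξP' : (hU1.primeIdealOf ⟨ξ, hξU⟩).asIdeal = P0 := congrArg PrimeSpectrum.asIdeal hξP
    have hξ : ∀ z : X, z ⤳ ξ → z = ξ := by
      intro z hz
      have hzU : z ∈ U1 := hz.mem_open U1.isOpen hξU
      have h2 : (hU1.primeIdealOf ⟨z, hzU⟩).asIdeal = P0 := hP0min _ inferInstance
        (hξP' ▸ (Groth.Agent.FlatEquidim.specializes_iff_le hU1 hξU hzU).1 hz)
      exact (hU1.fromSpec_primeIdealOf ⟨z, hzU⟩).symm.trans ((congrArg hU1.fromSpec
        (PrimeSpectrum.ext (h2.trans hξP'.symm))).trans (hU1.fromSpec_primeIdealOf ⟨ξ, hξU⟩))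
    have hη := (hcomp ξ (hU1' hξU).1 hξ).1
    let p0 := (hV.primeIdealOf ⟨f ξ, hle hξU⟩).asIdeal
    haveI hlo : (hU1.primeIdealOf ⟨ξ, hξU⟩).asIdeal.LiesOver p0 :=
      ⟨(congrArg PrimeSpectrum.asIdeal (IsAffineOpen.comap_primeIdealOf_appLE (f := f) V hV U1 hU1 hle hξU)).symm⟩
    have hp0 : p0 ∈ minimalPrimes Γ(Y, V) := by
      refine ⟨⟨inferInstance, bot_le⟩, fun q hq hle' => ?_⟩
      obtain ⟨w, hwV, hwq⟩ := Groth.Agent.FlatEquidim.exists_point hV ⟨q, hq.1⟩
      have hwq' : (hV.primeIdealOf ⟨w, hwV⟩).asIdeal = q := congrArg PrimeSpectrum.asIdeal hwq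
      have := hη w ((Groth.Agent.FlatEquidim.specializes_iff_le hV (hle hξU) hwV).2 (hwq' ▸ hle'))
      subst this
      exact hwq'.le
    have he := h1 ξ (hU1' hξU).1 fun z hz _ => hξ z hz
    rw [htr ξ hξU p0] at he
    obtain ⟨hh, d, e1, e2, e3⟩ := dim_localization_quotient p P hUC heq _ p0 (hξP'.le.trans hP0P) hp0 e t he ht
    rw [hξP', hmap] at e1
    exact ⟨hh, d, e1, e2, e3⟩
  obtain ⟨Q0, hQ0⟩ : (minimalPrimes (Localization.AtPrime P)).Nonempty := Set.nonempty_coe_sort.1 (Ideal.nonempty_minimalPrimes bot_ne_top)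
  obtain ⟨hh, d, e1, e2, e3⟩ := key Q0 hQ0
  have hdim : ringKrullDim (Localization.AtPrime P) = (hh : WithBot ℕ∞) := by
    refine le_antisymm ?_ (e1 ▸ ringKrullDim_quotient_le Q0)
    rw [ringKrullDim_eq_of_ringEquiv (RingEquiv.quotientBot (Localization.AtPrime P)).symm]
    refine Groth.Agent.LeadFCat.dim_quot_le ⊥ _ fun Q' hQ' => ?_
    obtain ⟨hh', d', e1', e2', e3'⟩ := key Q' hQ'
    rw [e1']
    rw [e2] at e2'
    have : d = d' := Nat.cast_injective (R := WithBot ℕ∞) e2'
    rw [show hh' = hh by omega]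
  have hfib := AlgSpDesc.fibreDimAt_eq_stalk_add_resTrdeg f x
  obtain ⟨t', ht', -⟩ := height_asFiber f x
  rw [h2' x hxU, show Dual3.resTrdeg f x = mapTrdeg f x from rfl, ht', map_natCast] at hfib
  obtain rfl : t' = t := by
    rw [htr x hxU1 p, ht] at ht'
    exact Nat.cast_injective (R := Cardinal.{u}) ht'.symm
  rw [← hεx, hdim, ← ringKrullDim_eq_of_ringEquiv ε.symm, e2]
  generalize ringKrullDim ((f.fiber (f x)).presheaf.stalk (f.asFiber x)) = c at hfib ⊢
  induction c using WithBot.recBotCoe with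
  | bot => exact absurd hfib (by simp)
  | coe c =>
    induction c using ENat.recTopCoe with
    | top => exact absurd hfib fun hh2 => ENat.coe_ne_top e (WithBot.coe_injective (hh2.trans (by rw [← WithBot.coe_add, top_add])))
    | coe c =>
      have : e = c + t' := by exact_mod_cast hfib
      have : hh = d + c := by omega
      exact_mod_cast this

end Groth.Agent.S3438
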