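import Groth.Statements.S3439
import Groth.Agent.ProConsLib.Realize

set_option autoImplicit false
open CategoryTheory AlgebraicGeometry
universe u
open EGA41

namespace Groth.Agent.S3439

/-- Let X be a quasi-compact scheme, E an ind-constructible subset of X and (F_i) a family of
pro-constructible subsets of X whose intersection is contained in E. Then there is a finite set J of
indices such that the intersection of the F_i for i in J is already contained in E. (Taking E = ∅: a
family of pro-constructible subsets with empty intersection has a finite subfamily with empty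
intersection.) -/
theorem result (X : Scheme.{u}) [CompactSpace X] (E : Set X)
    (hE : ProCons.IsIndConstructible E) {ι : Type u} (F : ι → Set X) (hF : ∀ i, ProCons.IsProConstructible (F i))
    (h : ⋂ i, F i ⊆ E) :
    ∃ J : Finset ι, ⋂ i ∈ J, F i ⊆ E := by
  classical
  obtain ⟨J, hJ⟩ := Groth.Agent.ProConsLib.exists_finset_cover
    (Groth.Agent.ProConsLib.isPro_of_isLocallyConstructible Topology.IsLocallyConstructible.univ)
    (E := fun o : Option ι => o.elim E fun i => (F i)ᶜ)
    (fun o => by cases o with
      | none => exact hE
      | some i => exact Groth.Agent.ProConsLib.isPro_iff_compl.1 (hF i))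
    (fun x _ => by
      by_cases hx : x ∈ ⋂ i, F i
      · exact Set.mem_iUnion.2 ⟨none, h hx⟩
      · obtain ⟨i, hi⟩ := not_forall.1 (mt Set.mem_iInter.2 hx)
        exact Set.mem_iUnion.2 ⟨some i, hi⟩)
  refine ⟨Finset.eraseNone J, fun x hx => ?_⟩
  obtain ⟨o, ho, hxo⟩ := Set.mem_iUnion₂.1 (hJ (Set.mem_univ x))
  cases o with
  | none => exact hxo
  | some i => exact absurd (Set.mem_iInter₂.1 hx i (Finset.mem_eraseNone.2 ho)) hxo

end Groth.Agent.S3439
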