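import Groth.Statements.S3440
import Groth.Agent.S2559
import Groth.Agent.S0386
import Groth.Agent.EtLocalLib.StalkCrit
import Groth.Agent.FlatLocalDepth.Comp
import Groth.Agent.FlatLocalDepth.Miracle

set_option autoImplicit false
open CategoryTheory AlgebraicGeometry
universe u
open EGA43

set_option backward.isDefEq.respectTransparency.types false
namespace Groth.Agent.S3440

/-- Let Y be locally Noetherian, f : X ⟶ Y locally of finite type, x a point of X and y = f x; suppose
O_{Y,y} is regular and O_{X,x} is Cohen–Macaulay. The following are equivalent: a) O_{Y,y} ⟶ O_{X,x}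
is flat and the local ring of X_y at x is Cohen–Macaulay; b) O_{Y,y} ⟶ O_{X,x} is flat; c) the
restriction of f to some open neighbourhood of x is universally open; d) f is open at the generic
point of every irreducible component of X_y through x; e') dim O_{X,x} = dim O_{Y,y} + dim
O_{X_y,x}. -/
theorem result {X Y : Scheme.{u}} [IsLocallyNoetherian Y] (f : X ⟶ Y)
    [LocallyOfFiniteType f] (x : X) (hreg : IsRegularLocalRing (Y.presheaf.stalk (f.base x)))
    (hCM : LocCoh.IsCohenMacaulayLocalRing (X.presheaf.stalk x)) :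
    List.TFAE [
      (f.stalkMap x).hom.Flat ∧ LocCoh.IsCohenMacaulayLocalRing ((f.fiber (f.base x)).presheaf.stalk (f.asFiber x)),
      (f.stalkMap x).hom.Flat,
      ∃ U : X.Opens, x ∈ U ∧ UniversallyOpen (U.ι ≫ f),
      (∀ z : ↥(f.fiber (f.base x)), f.asFiber x ∈ closure {z} →
          (∀ z' : ↥(f.fiber (f.base x)), z ∈ closure {z'} → z' = z) →
          EGA43.IsOpenAt f.base ((f.fiberι (f.base x)).base z)),
      ringKrullDim (X.presheaf.stalk x) =
        ringKrullDim (Y.presheaf.stalk (f.base x)) + ringKrullDim ((f.fiber (f.base x)).presheaf.stalk (f.asFiber x)) ] := by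
  haveI := hreg
  haveI := hCM
  haveI : IsLocallyNoetherian X := LocallyOfFiniteType.isLocallyNoetherian f
  haveI : LocallyOfFinitePresentation f := Groth.Agent.EtLocalLib.locallyOfFinitePresentation_of_noetherian f
  obtain ⟨e⟩ := Groth.Agent.FlatLocalDepth.nonempty_fibre_stalk_equiv f (f x) (f.asFiber x) x (f.fiberι_asFiber x)
  letI : Algebra (Y.presheaf.stalk (f x)) (X.presheaf.stalk x) := (f.stalkMap x).hom.toAlgebra
  haveI : IsLocalHom (algebraMap (Y.presheaf.stalk (f x)) (X.presheaf.stalk x)) :=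
    inferInstanceAs (IsLocalHom (f.stalkMap x).hom)
  tfae_have 1 → 2 := fun h => h.1
  tfae_have 2 → 1 := fun h => by
    refine ⟨h, ?_⟩
    haveI : Module.Flat (Y.presheaf.stalk (f x)) (X.presheaf.stalk x) := h
    exact @Groth.Agent.FlatLocalDepth.isCohenMacaulayLocalRing_of_ringEquiv _ _ _ _
      ((Groth.Agent.FlatLocalDepth.isCohenMacaulayLocalRing_iff (Y.presheaf.stalk (f x)) (X.presheaf.stalk x)).1 hCM).2 e
  tfae_have 2 → 3 := fun h => by
    let U : X.Opens := ⟨{z | (f.stalkMap z).hom.Flat}, Groth.Agent.S0386.result f⟩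
    haveI : Flat (U.ι ≫ f) := by
      rw [Flat.iff_flat_stalkMap]
      intro z
      rw [Scheme.Hom.stalkMap_comp]
      exact RingHom.Flat.comp (show (f.stalkMap (U.ι z)).hom.Flat from z.2)
        (RingHom.Flat.of_bijective (ConcreteCategory.bijective_of_isIso (U.ι.stalkMap z)))
    exact ⟨U, h, inferInstance⟩
  tfae_have 3 → 4 := fun ⟨U, hxU, hU⟩ z hz _ W hW => by
    haveI := hU
    have hzU : f.fiberι (f x) z ∈ U := by
      have h2 := (specializes_iff_mem_closure.2 hz).map (f.fiberι (f x)).continuous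
      rw [f.fiberι_asFiber x] at h2
      exact h2.mem_open U.2 hxU
    obtain ⟨O, hOW, hO, hzO⟩ := mem_nhds_iff.1 hW
    refine Filter.mem_of_superset (((U.ι ≫ f).isOpenMap _ (hO.preimage U.ι.continuous)).mem_nhds
      ⟨⟨_, hzU⟩, hzO, rfl⟩) ?_
    rintro _ ⟨w, hw, rfl⟩
    exact ⟨U.ι w, hOW hw, rfl⟩
  tfae_have 4 → 5 := fun h => Groth.Agent.S2559.result f x h
  tfae_have 5 → 2 := fun h => by
    change Module.Flat (Y.presheaf.stalk (f x)) (X.presheaf.stalk x)
    refine Groth.Agent.FlatLocalDepth.miracle_flatness ?_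
    rw [h]
    exact congrArg _ (ringKrullDim_eq_of_ringEquiv e).symm
  tfae_finish

end Groth.Agent.S3440
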