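import Groth.Statements.S3441
import Mathlib

set_option autoImplicit false
universe u
open EGA41

namespace Groth.Agent.S3441

open scoped TensorProduct

open TensorProduct in
/-- Let A → B → C be ring homomorphisms. The canonical C-linear map Ω_{B/A} ⊗_B C → Ω_{C/A} is left
invertible (has a C-linear left inverse) if and only if C is a formally smooth B-algebra relative to
A for the discrete topologies: every B-algebra homomorphism from C to a quotient C'/J of a B-algebra
C' by an ideal J of square zero that lifts to C' as an A-algebra homomorphism also lifts to C' as a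
B-algebra homomorphism. (The published definition of relative formal smoothness tests every
nilpotent ideal J; its reduction to ideals of square zero does not carry over to the relative
setting, and the square-zero form, which is what the published proof of this statement uses, is the
one taken here.) -/
theorem result (A B C : Type u) [CommRing A] [CommRing B]
    [CommRing C] [Algebra A B] [Algebra B C] [Algebra A C] [IsScalarTower A B C] :
    (∃ l : Ω[C⁄A] →ₗ[C] C ⊗[B] Ω[B⁄A], l ∘ₗ KaehlerDifferential.mapBaseChange A B C = LinearMap.id) ↔
      EGA41.IsFormallySmoothRel A B C := by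
  constructor
  · rintro ⟨l, hl⟩ T _ _ _ _ J hJ u₀ ⟨u, hu⟩
    have hJ2 : ∀ {x y : T}, x ∈ J → y ∈ J → x * y = 0 := fun {x y} hx hy => by
      have := Ideal.mul_mem_mul hx hy
      rwa [← pow_two, hJ, Ideal.mem_bot] at this
    have hδ : ∀ b : B, u (algebraMap B C b) - algebraMap B T b ∈ J := fun b => by
      rw [← Ideal.Quotient.eq]
      have := congr($hu (algebraMap B C b))
      simp only [AlgHom.comp_apply, Ideal.Quotient.mkₐ_eq_mk] at this
      exact this.trans (u₀.commutes b)
    letI : Module C J := Module.compHom J u.toRingHom
    have hsm : ∀ (c : C) (j : J), ((c • j : J) : T) = u c * j := fun c j => rfl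
    haveI : IsScalarTower B C J := IsScalarTower.of_algebraMap_smul fun b j => Subtype.ext <| by
      rw [hsm]
      show _ = b • (j : T)
      rw [Algebra.smul_def, ← sub_eq_zero, ← sub_mul]
      exact hJ2 (hδ b) j.2
    haveI : IsScalarTower A C J := IsScalarTower.of_algebraMap_smul fun a j => Subtype.ext <| by
      rw [hsm, AlgHom.commutes]
      exact (Algebra.smul_def a (j : T)).symm
    haveI : IsScalarTower A B J := IsScalarTower.of_algebraMap_smul fun a j => Subtype.ext <| by
      show algebraMap A B a • (j : T) = a • (j : T)
      rw [algebraMap_smul]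
    let δ : Derivation A B J := Derivation.mk'
      { toFun := fun b => ⟨u (algebraMap B C b) - algebraMap B T b, hδ b⟩
        map_add' := fun x y => Subtype.ext (by simp; abel)
        map_smul' := fun a x => Subtype.ext (by
          simp [Algebra.smul_def, mul_sub, ← IsScalarTower.algebraMap_apply]) }
      (fun x y => Subtype.ext (by
        show u (algebraMap B C (x * y)) - algebraMap B T (x * y) =
          x • (u (algebraMap B C y) - algebraMap B T y) + y • (u (algebraMap B C x) - algebraMap B T x)
        have := hJ2 (hδ x) (hδ y)
        rw [Algebra.smul_def, Algebra.smul_def, map_mul, map_mul, map_mul]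
        linear_combination this))
    let E : Derivation A C J :=
      (δ.liftKaehlerDifferential.liftBaseChange C ∘ₗ l).compDer (KaehlerDifferential.D A C)
    let v : C →+* T :=
      { toFun := fun c => u c - E c
        map_one' := by simp
        map_zero' := by simp
        map_add' := fun x y => by simp; abel
        map_mul' := fun x y => by
          rw [map_mul, Derivation.leibniz, Submodule.coe_add, hsm, hsm]
          have := hJ2 (E x).2 (E y).2
          linear_combination -this }
    refine ⟨{ toRingHom := v, commutes' := fun b => ?_ }, AlgHom.ext fun c => ?_⟩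
    · show u (algebraMap B C b) - E (algebraMap B C b) = algebraMap B T b
      have : E (algebraMap B C b) = δ b := by
        show δ.liftKaehlerDifferential.liftBaseChange C (l (KaehlerDifferential.D A C (algebraMap B C b))) = δ b
        have h1 : KaehlerDifferential.D A C (algebraMap B C b) =
            KaehlerDifferential.mapBaseChange A B C (1 ⊗ₜ KaehlerDifferential.D A B b) := by
          rw [KaehlerDifferential.mapBaseChange_tmul, one_smul, KaehlerDifferential.map_D]
        rw [h1, ← LinearMap.comp_apply l, hl, LinearMap.id_apply, LinearMap.liftBaseChange_tmul,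
          one_smul, Derivation.liftKaehlerDifferential_comp_D]
      rw [this]
      show u (algebraMap B C b) - (u (algebraMap B C b) - algebraMap B T b) = _
      ring
    · show Ideal.Quotient.mk J (u c - E c) = u₀ c
      rw [map_sub, Ideal.Quotient.eq_zero_iff_mem.2 (E c).2, sub_zero]
      exact congr($hu c)
  · intro H
    let d : B → (C ⊗[B] Ω[B⁄A]) := fun b => (1 : C) ⊗ₜ KaehlerDifferential.D A B b
    let φ : B →+* TrivSqZeroExt C (C ⊗[B] Ω[B⁄A]) :=
      { toFun := fun b => TrivSqZeroExt.inl (algebraMap B C b) + TrivSqZeroExt.inr (d b)
        map_one' := TrivSqZeroExt.ext (by simp) (by simp [d])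
        map_zero' := TrivSqZeroExt.ext (by simp) (by simp [d])
        map_add' := fun x y => TrivSqZeroExt.ext (by simp) (by simp [d, TensorProduct.tmul_add])
        map_mul' := fun x y => TrivSqZeroExt.ext (by simp) (by
          rw [TrivSqZeroExt.snd_mul]
          simp only [TrivSqZeroExt.snd_add, TrivSqZeroExt.fst_add, TrivSqZeroExt.fst_inl,
            TrivSqZeroExt.snd_inl, TrivSqZeroExt.fst_inr, TrivSqZeroExt.snd_inr, add_zero, zero_add,
            op_smul_eq_smul, algebraMap_smul, d, Derivation.leibniz, TensorProduct.tmul_add,
            TensorProduct.tmul_smul]) }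
    letI : Algebra B (TrivSqZeroExt C (C ⊗[B] Ω[B⁄A])) := φ.toAlgebra
    letI : Algebra A (TrivSqZeroExt C (C ⊗[B] Ω[B⁄A])) := (φ.comp (algebraMap A B)).toAlgebra
    letI : SMul B (TrivSqZeroExt C (C ⊗[B] Ω[B⁄A])) := Algebra.toSMul
    letI : SMul A (TrivSqZeroExt C (C ⊗[B] Ω[B⁄A])) := Algebra.toSMul
    haveI : IsScalarTower A B (TrivSqZeroExt C (C ⊗[B] Ω[B⁄A])) := IsScalarTower.of_algebraMap_eq' rfl
    let π : TrivSqZeroExt C (C ⊗[B] Ω[B⁄A]) →ₐ[B] C :=
      { toRingHom := (TrivSqZeroExt.fstHom ℕ C (C ⊗[B] Ω[B⁄A])).toRingHom
        commutes' := fun b => by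
          show TrivSqZeroExt.fst (φ b) = _
          simp [φ] }
    have hπ : Function.Surjective π := fun c => ⟨TrivSqZeroExt.inl c, by simp [π]⟩
    have hsq : RingHom.ker π ^ 2 = ⊥ := by
      rw [pow_two, eq_bot_iff, Ideal.mul_le]
      intro a ha b hb
      have ha' : TrivSqZeroExt.fst a = 0 := ha
      have hb' : TrivSqZeroExt.fst b = 0 := hb
      exact TrivSqZeroExt.ext (by simp [ha', hb']) (by simp [ha', hb'])
    let e := Ideal.quotientKerAlgEquivOfSurjective hπ
    have hA : ∀ a, φ (algebraMap A B a) = TrivSqZeroExt.inl (algebraMap A C a) := fun a =>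
      TrivSqZeroExt.ext (by simp [φ, ← IsScalarTower.algebraMap_apply]) (by simp [φ, d])
    let u : C →ₐ[A] TrivSqZeroExt C (C ⊗[B] Ω[B⁄A]) :=
      { toRingHom := TrivSqZeroExt.inlHom C (C ⊗[B] Ω[B⁄A])
        commutes' := fun a => (hA a).symm }
    obtain ⟨v, hv⟩ := H _ (RingHom.ker π) hsq e.symm.toAlgHom ⟨u, AlgHom.ext fun c => by
      show Ideal.Quotient.mk _ (TrivSqZeroExt.inl c) = e.symm c
      rw [eq_comm, AlgEquiv.symm_apply_eq]
      show c = π (TrivSqZeroExt.inl c)
      simp [π]⟩
    have hfst : ∀ c, TrivSqZeroExt.fst (v c) = c := fun c => by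
      have h' := congrArg e congr($hv c)
      simp only [AlgHom.comp_apply, Ideal.Quotient.mkₐ_eq_mk] at h'
      rw [show e (e.symm.toAlgHom c) = c from e.apply_symm_apply c] at h'
      exact h'
    let E : Derivation A C (C ⊗[B] Ω[B⁄A]) := Derivation.mk'
      { toFun := fun c => TrivSqZeroExt.snd (v c)
        map_add' := fun x y => by simp
        map_smul' := fun a x => by
          have : v (a • x) = TrivSqZeroExt.inl (algebraMap A C a) * v x := by
            rw [Algebra.smul_def, map_mul, IsScalarTower.algebraMap_apply A B C, AlgHom.commutes]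
            show φ (algebraMap A B a) * _ = _
            rw [hA, ← IsScalarTower.algebraMap_apply]
          simp [this, hfst, algebraMap_smul] }
      (fun x y => by simp [hfst, op_smul_eq_smul, add_comm])
    refine ⟨E.liftKaehlerDifferential, LinearMap.ext fun z => ?_⟩
    induction z using TensorProduct.induction_on with
    | zero => simp
    | add x y hx hy => simp only [map_add, hx, hy]
    | tmul c ω =>
      rw [LinearMap.comp_apply, LinearMap.id_apply, KaehlerDifferential.mapBaseChange_tmul, map_smul]
      have hω : ω ∈ Submodule.span B (Set.range (KaehlerDifferential.D A B)) := by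
        rw [KaehlerDifferential.span_range_derivation]; trivial
      have : E.liftKaehlerDifferential (KaehlerDifferential.map A A B C ω) = (1 : C) ⊗ₜ[B] ω := by
        induction hω using Submodule.span_induction with
        | mem _ h =>
          obtain ⟨b, rfl⟩ := h
          rw [KaehlerDifferential.map_D, Derivation.liftKaehlerDifferential_comp_D]
          show TrivSqZeroExt.snd (v (algebraMap B C b)) = _
          rw [AlgHom.commutes]
          show TrivSqZeroExt.snd (φ b) = _
          simp [φ, d]
        | zero => simp
        | add _ _ _ _ h1 h2 => simp [h1, h2, TensorProduct.tmul_add]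
        | smul b η _ h =>
          simp only [map_smul, LinearMap.map_smul_of_tower, h, TensorProduct.tmul_smul]
      rw [this, TensorProduct.smul_tmul', smul_eq_mul, mul_one]

end Groth.Agent.S3441
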