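import Groth.Statements.S3443
import Mathlib.AlgebraicGeometry.PullbackCarrier
import Mathlib.AlgebraicGeometry.Morphisms.QuasiSeparated
import Mathlib.AlgebraicGeometry.Morphisms.FinitePresentation
import Groth.Agent.AlgSpc.LfpCancel
import Groth.Agent.LimSch.Constructible

set_option autoImplicit false
open CategoryTheory AlgebraicGeometry
universe u
open EGA43

namespace Groth.Agent.S3443

open CategoryTheory.Limits in
/-- Let g : Y ⟶ S and f : X ⟶ Y be such that X and Y are of finite presentation over S (locally of
finite presentation, quasi-compact and quasi-separated). For each point s of S let f_s be the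
induced morphism from the fibre of f ≫ g over s to the fibre of g over s. Then the set of s for
which f_s is surjective is locally constructible in S. -/
theorem result {X Y S : Scheme.{u}} (f : X ⟶ Y) (g : Y ⟶ S)
    [LocallyOfFinitePresentation g] [QuasiCompact g] [QuasiSeparated g]
    [LocallyOfFinitePresentation (f ≫ g)] [QuasiCompact (f ≫ g)] [QuasiSeparated (f ≫ g)] :
    Topology.IsLocallyConstructible {s : S |
      Function.Surjective (pullback.lift (pullback.fst (f ≫ g) (S.fromSpecResidueField s) ≫ f) (pullback.snd (f ≫ g) (S.fromSpecResidueField s))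
          ((Category.assoc _ _ _).trans pullback.condition) :
        pullback (f ≫ g) (S.fromSpecResidueField s) ⟶ pullback g (S.fromSpecResidueField s)).base} := by
  have : QuasiCompact f := QuasiCompact.of_comp f g
  have : LocallyOfFinitePresentation f := Groth.Agent.AlgSpc.lfp_of_comp f g
  have hrange : Topology.IsLocallyConstructible (Set.range f) := by
    rw [← Set.image_univ]
    exact f.isLocallyConstructible_image Topology.IsConstructible.univ.isLocallyConstructible
  have hc : Topology.IsLocallyConstructible ((g '' (Set.range f)ᶜ)ᶜ) :=
    Groth.Agent.LimSch.isLocallyConstructible_compl (g.isLocallyConstructible_image (Groth.Agent.LimSch.isLocallyConstructible_compl hrange))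
  convert hc using 1
  ext s
  simp only [Set.mem_compl_iff, Set.mem_image, not_exists, not_and]
  set φ : pullback (f ≫ g) (S.fromSpecResidueField s) ⟶ pullback g (S.fromSpecResidueField s) :=
    pullback.lift (pullback.fst (f ≫ g) (S.fromSpecResidueField s) ≫ f) (pullback.snd (f ≫ g) (S.fromSpecResidueField s))
      ((Category.assoc _ _ _).trans pullback.condition)
  have hφ : φ ≫ pullback.fst g (S.fromSpecResidueField s) = pullback.fst (f ≫ g) (S.fromSpecResidueField s) ≫ f :=
    pullback.lift_fst _ _ _
  have hinj : Function.Injective (pullback.fst g (S.fromSpecResidueField s)) :=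
    (IsPreimmersion.isEmbedding (f := pullback.fst g (S.fromSpecResidueField s))).injective
  have hfst : Set.range (pullback.fst g (S.fromSpecResidueField s)) = g ⁻¹' {s} := by
    rw [Scheme.Pullback.range_fst, Scheme.range_fromSpecResidueField]
  have hfst' : Set.range (pullback.fst (f ≫ g) (S.fromSpecResidueField s)) = (f ≫ g) ⁻¹' {s} := by
    rw [Scheme.Pullback.range_fst, Scheme.range_fromSpecResidueField]
  constructor
  · intro hs y hy hys
    obtain ⟨z, rfl⟩ : y ∈ Set.range (pullback.fst g (S.fromSpecResidueField s)) := by rw [hfst]; exact hys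
    obtain ⟨w, rfl⟩ := hs z
    exact hy ⟨pullback.fst (f ≫ g) (S.fromSpecResidueField s) w, by
      have := congr($hφ w); simp only [Scheme.Hom.comp_apply] at this; exact this.symm⟩
  · intro h z
    have hzs : g (pullback.fst g (S.fromSpecResidueField s) z) = s := by
      have : pullback.fst g (S.fromSpecResidueField s) z ∈ g ⁻¹' {s} := hfst ▸ ⟨z, rfl⟩
      exact this
    by_contra hz
    refine h _ (fun ⟨x, hx⟩ => hz ?_) hzs
    obtain ⟨w, rfl⟩ : x ∈ Set.range (pullback.fst (f ≫ g) (S.fromSpecResidueField s)) := by
      rw [hfst']; change g (f x) = s; rw [hx, hzs]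
    exact ⟨w, hinj (by rw [← Scheme.Hom.comp_apply, hφ, Scheme.Hom.comp_apply, hx])⟩

end Groth.Agent.S3443
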