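import Groth.Statements.S3448
import Groth.Agent.EquidimChart.Formula
import Groth.Agent.EquidimChart.Comp
import Mathlib

set_option autoImplicit false
open CategoryTheory AlgebraicGeometry
universe u
open EGA43

namespace Groth.Agent.S3448

open Groth.Agent.EquidimChart Groth.Agent.DimTheory
set_option backward.isDefEq.respectTransparency.types false


/-- Let Y be locally Noetherian, f : X ⟶ Y of finite type, x a point of X with y = f x, and suppose
O_{Y,y} is universally catenary. Then dim O_{X,x} = dim O_{Y,y} + dim O_{X_y,x} if and only if there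
is a point z of the fibre over y which is a generization of x, is maximal in the fibre (the generic
point of an irreducible component Z of X_y containing x), has local fibre dimension at z equal to
that at x (dim Z = dim_x X_y), and satisfies dim O_{X,z} = dim O_{Y,y}. -/
theorem result {X Y : Scheme.{u}} [IsLocallyNoetherian Y]
    (f : X ⟶ Y) [LocallyOfFiniteType f] [QuasiCompact f] (x : X)
    (hcat : CAlg.IsUniversallyCatenary (Y.presheaf.stalk (f.base x))) :
    ringKrullDim (X.presheaf.stalk x) =
        ringKrullDim (Y.presheaf.stalk (f.base x)) + ringKrullDim ((f.fiber (f.base x)).presheaf.stalk (f.asFiber x)) ↔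
      ∃ z : X, f.base z = f.base x ∧ z ⤳ x ∧ (∀ z' : X, f.base z' = f.base x → z' ⤳ z → z' = z) ∧
        FlatMor.fibreDimAt f z = FlatMor.fibreDimAt f x ∧
        ringKrullDim (X.presheaf.stalk z) = ringKrullDim (Y.presheaf.stalk (f.base z)) := by
  haveI : IsLocallyNoetherian X := LocallyOfFiniteType.isLocallyNoetherian f
  haveI : LocallyOfFiniteType (f.fiberToSpecResidueField (f x)) := MorphismProperty.pullback_snd _ _ ‹_›
  obtain ⟨D, hD⟩ := Groth.Agent.LeadFCat.exists_dim (X.presheaf.stalk x)
  obtain ⟨d, hd⟩ := Groth.Agent.LeadFCat.exists_dim (Y.presheaf.stalk (f x))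
  obtain ⟨t, ht, -⟩ := height_asFiber f x
  obtain ⟨_, N, -, -, -, hdim⟩ := exists_fibreMax f x
  have hfib := Groth.Agent.AlgSpDesc.fibreDimAt_eq_stalk_add_resTrdeg f x
  rw [hdim, show Dual3.resTrdeg f x = mapTrdeg f x from rfl, ht, map_natCast, ringKrullDim_stalk_eq_coheight] at hfib
  obtain ⟨c0, hc0⟩ := ENat.ne_top_iff_exists.1
    (coheight_lt_top (k := Y.residueField (f x)) (f.fiberToSpecResidueField (f x)) (f.asFiber x)).ne
  rw [← hc0] at hfib
  have hN : N = c0 + t := by exact_mod_cast hfib
  rw [ringKrullDim_stalk_eq_coheight] at hD hd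
  have hDx : Order.coheight x = (D : ℕ∞) := WithBot.coe_injective hD
  have hdy : Order.coheight (f x) = (d : ℕ∞) := WithBot.coe_injective hd
  -- a maximal chain at `x`
  obtain ⟨s, hs1, hs2⟩ := Order.exists_series_of_le_coheight x hDx.ge
  have hξ : ∀ w, w ⤳ s.last → w = s.last := by
    intro w hw
    by_contra hne
    have h7 := Order.length_le_coheight_head (p := s.snoc w (Groth.Agent.FlatDim.lt_of_specializes_of_ne hw (Ne.symm hne)))
    rw [RelSeries.head_snoc, RelSeries.snoc_length, hs1, hDx] at h7
    change ((s.length + 1 : ℕ) : ℕ∞) ≤ (D : ℕ∞) at h7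
    have : s.length + 1 ≤ D := by exact_mod_cast h7
    omega
  have hξx : s.last ⤳ x := hs1 ▸ (show s.last ⤳ s.head from s.head_le_last)
  obtain ⟨e, he, -⟩ := height_asFiber f s.last
  obtain ⟨r, hr1, hr2, hr3⟩ := chain_ineq f ht he s hs1 specializes_rfl
  have heN : e ≤ N := le_of_specializes f hξx (fun w hw _ => hξ w hw) he hdim.le
  have hrd : r.length ≤ d := by
    have h7 := Order.length_le_coheight_head (p := r)
    rw [hr1, hdy] at h7
    exact_mod_cast h7
  -- the statement in natural numbers
  have hiff : (ringKrullDim (X.presheaf.stalk x) = ringKrullDim (Y.presheaf.stalk (f x)) +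
      ringKrullDim ((f.fiber (f x)).presheaf.stalk (f.asFiber x))) ↔ D = d + c0 := by
    rw [ringKrullDim_stalk_eq_coheight, ringKrullDim_stalk_eq_coheight, ringKrullDim_stalk_eq_coheight, hDx, hdy, ← hc0]
    exact_mod_cast Iff.rfl
  rw [hiff]
  constructor
  · intro hsum
    have hrl : r.length = d := by omega
    have hee : e = N := by omega
    let W : TopologicalSpace.Closeds X := ⟨closure {s.last}, isClosed_closure⟩
    obtain ⟨_, hgen⟩ := genericPoint_component W rfl
    let I := Scheme.IdealSheafData.vanishingIdeal W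
    obtain ⟨w, hw⟩ : x ∈ Set.range I.subschemeι := by
      rw [range_subschemeι_vanishingIdeal]; exact specializes_iff_mem_closure.1 hξx
    obtain ⟨v, n, hv, hvmax, hn, hdn⟩ := exists_fibreMax' (I.subschemeι ≫ f) w
    let z0 := (I.subschemeι ≫ f).fiberι ((I.subschemeι ≫ f) w) v
    have hz0 : f (I.subschemeι z0) = f x := by
      rw [← hw]
      exact Groth.Agent.FlatEquidim.fiberι_apply_eq (I.subschemeι ≫ f) _ v
    have hz0x : I.subschemeι z0 ⤳ x := by
      have := (hv.map ((I.subschemeι ≫ f).fiberι _).continuous).map I.subschemeι.continuous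
      rwa [Scheme.Hom.fiberι_asFiber, hw] at this
    have hne : e ≤ n := le_of_specializes (I.subschemeι ≫ f) (genericPoint_specializes w)
      (fun a ha _ => Groth.Agent.FlatDim.genericPoint_isMax a ha) (by rw [mapTrdeg_component, hgen, he]) hdn.le
    rw [mapTrdeg_component] at hn
    have hbound : ∀ (a : X), a ⤳ x → ∀ m : ℕ, mapTrdeg f a = m → m ≤ N := fun a ha m hm => by
      have := (le_fibreDimAt f hm).trans (ha.mem_open (Groth.Agent.FibreDimChart.isOpen_fibreDimAt_le f N) hdim.le)
      exact_mod_cast this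
    have hnN : n = N := le_antisymm (hbound _ hz0x n hn) (hee ▸ hne)
    subst hnN
    obtain ⟨m, hm⟩ : I.subschemeι z0 ∈ Set.range (f.fiberι (f x)) := by rw [f.range_fiberι]; exact hz0
    obtain ⟨k, hk, hk'⟩ := exists_height_eq (k := Y.residueField (f x)) (f.fiberToSpecResidueField (f x)) m
    rw [Groth.Agent.FlatEquidim.resTrdeg_fiber_eq, hm, hn] at hk
    obtain rfl : n = k := Nat.cast_injective (R := Cardinal.{u}) hk
    have hmax : ∀ z' : X, f z' = f x → z' ⤳ I.subschemeι z0 → z' = I.subschemeι z0 := by
      intro a ha hz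
      by_contra hne'
      obtain ⟨m', hm'⟩ : a ∈ Set.range (f.fiberι (f x)) := by rw [f.range_fiberι]; exact ha
      have hlt : m < m' := Groth.Agent.FlatDim.lt_of_specializes_of_ne
        ((f.fiberι (f x)).isEmbedding.isInducing.specializes_iff.1 (by rw [hm, hm']; exact hz))
        fun h => hne' (by rw [← hm', ← h, hm])
      obtain ⟨k', hk1, hk2⟩ := exists_height_eq (k := Y.residueField (f x)) (f.fiberToSpecResidueField (f x)) m'
      rw [Groth.Agent.FlatEquidim.resTrdeg_fiber_eq, hm'] at hk1
      have h1 := Order.height_add_one_le hlt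
      rw [hk', hk2] at h1
      have h2 : n + 1 ≤ k' := by exact_mod_cast h1
      have h3 := hbound a (hz.trans hz0x) k' hk1
      omega
    have hfmax : Groth.Agent.FlatEquidim.IsFibreMax f (I.subschemeι z0) := fun a ha hfa =>
      hmax a (hfa.trans hz0) ha
    refine ⟨I.subschemeι z0, hz0, hz0x, hmax, (fibreDimAt_of_fibreMax f hfmax hn).trans hdim.symm, ?_⟩
    rw [ringKrullDim_stalk_eq_coheight, ringKrullDim_stalk_eq_coheight, hz0, hdy]
    congr 1
    have hup := chain_formula f (z := I.subschemeι z0) (ξ := s.last)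
      (specializes_iff_mem_closure.2 (mem_of_subschemeι W z0)) (by rw [hz0]; exact hcat) hn he r (hr1.trans hz0.symm) hr2
    obtain ⟨c, hc, hle⟩ := coheight_add_trdeg f (x := x) (w := m)
      ((f.fiberι (f x)).isEmbedding.isInducing.specializes_iff.1 (by rw [hm, f.fiberι_asFiber]; exact hz0x)) ht
      (by rw [hm, hn])
    rw [hm, hDx] at hle
    obtain ⟨a, ha⟩ := Groth.Agent.LeadFCat.exists_dim (X.presheaf.stalk (I.subschemeι z0))
    rw [ringKrullDim_stalk_eq_coheight] at ha
    rw [show Order.coheight (I.subschemeι z0) = (a : ℕ∞) from WithBot.coe_injective ha] at hle hup ⊢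
    have h1 : c + a ≤ D := by exact_mod_cast hle
    have h2 : r.length + e ≤ a + n := by exact_mod_cast hup
    exact_mod_cast (show a = d by omega)
  · rintro ⟨z, hfz, hzx, hzmax, hzd, hzdim⟩
    have hfmax : Groth.Agent.FlatEquidim.IsFibreMax f z := fun a ha hfa => hzmax a (hfa.trans hfz) ha
    obtain ⟨n, hn, -⟩ := height_asFiber f z
    rw [fibreDimAt_of_fibreMax f hfmax hn, hdim] at hzd
    obtain rfl : n = N := by exact_mod_cast hzd
    obtain ⟨m, hm⟩ : z ∈ Set.range (f.fiberι (f x)) := by rw [f.range_fiberι]; exact hfz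
    obtain ⟨c, hc, hle⟩ := coheight_add_trdeg f (x := x) (w := m)
      ((f.fiberι (f x)).isEmbedding.isInducing.specializes_iff.1 (by rw [hm, f.fiberι_asFiber]; exact hzx)) ht
      (by rw [hm, hn])
    rw [ringKrullDim_stalk_eq_coheight, ringKrullDim_stalk_eq_coheight, hfz, hdy] at hzdim
    rw [hm, hDx, WithBot.coe_injective hzdim] at hle
    have h1 : c + d ≤ D := by exact_mod_cast hle
    omega

end Groth.Agent.S3448
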