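import Groth.Statements.S3449
import Mathlib
import Groth.Agent.RectDepth.DimLftUC

set_option autoImplicit false
open CategoryTheory AlgebraicGeometry
universe u
open EGA43

namespace Groth.Agent.S3449

/-- Let S be a locally Noetherian scheme which is Jacobson, whose local rings are universally catenary,
and whose irreducible components S' are equidimensional in the sense that for every closed point s
of S' the dimension of S' equals the dimension of S' at s (the Krull dimension of the set of
generizations of s inside S'). Let X and Y be S-schemes, each locally of finite type over the base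
S, and let f : X ⟶ Y be a morphism over S, with X irreducible and f dominant; let η be the generic
point of Y and e the dimension of the fibre over η. Then dim X = dim Y + e. -/
theorem result {X Y S : Scheme.{u}} [IsLocallyNoetherian S]
    [JacobsonSpace S] (h2 : ∀ s : S, CAlg.IsUniversallyCatenary (S.presheaf.stalk s))
    (h3 : ∀ S' ∈ irreducibleComponents (S : Type u), ∀ s ∈ S', IsClosed ({s} : Set S) →
      topologicalKrullDim (↥S' : Type u) = topologicalKrullDim ↥{t : S | t ∈ S' ∧ t ⤳ s})
    (p : X ⟶ S) (q : Y ⟶ S) [LocallyOfFiniteType p] [LocallyOfFiniteType q] (f : X ⟶ Y) (hf : f ≫ q = p)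
    [IrreducibleSpace X] [IrreducibleSpace Y] [IsDominant f] :
    topologicalKrullDim (X : Type u) =
      topologicalKrullDim (Y : Type u) + topologicalKrullDim ↥(f.fiber (genericPoint Y)) := by
  haveI : IsLocallyNoetherian Y := LocallyOfFiniteType.isLocallyNoetherian q
  subst hf
  haveI : LocallyOfFiniteType f := locallyOfFiniteType_of_comp f q
  have hfg := Groth.Agent.EquidimChart.apply_genericPoint_of_dominant f
  obtain ⟨K, hK⟩ := Groth.Agent.RectDepth.exists_const_chainLen h2 h3 (q (genericPoint Y))
  obtain ⟨a, ha, -⟩ := Groth.Agent.EquidimChart.height_asFiber (f ≫ q) (genericPoint X)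
  obtain ⟨b, hb, -⟩ := Groth.Agent.EquidimChart.height_asFiber q (genericPoint Y)
  obtain ⟨c, hc, -⟩ := Groth.Agent.EquidimChart.height_asFiber f (genericPoint X)
  have habc : a = b + c := by
    have h := Groth.Agent.FlatEquidim.mapTrdeg_comp f q (genericPoint X)
    rw [ha, hfg, hb, hc] at h
    exact_mod_cast h
  have hg : (f ≫ q) (genericPoint X) = q (genericPoint Y) := by rw [Scheme.Hom.comp_apply, hfg]
  rw [Groth.Agent.RectDepth.dim_eq_of_const h2 (f ≫ q) (K := K) (e := a) (by rw [hg]; exact hK) ha,
    Groth.Agent.RectDepth.dim_eq_of_const h2 q (K := K) (e := b) hK hb,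
    Groth.Agent.EquidimChart.dim_fiber_generic f hfg hc, habc]
  push_cast
  rw [add_assoc]

end Groth.Agent.S3449
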