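import Groth.Statements.S3450
import Groth.Agent.DVRBranches.Basic
import Mathlib

set_option autoImplicit false
universe u
open EGA43

namespace Groth.Agent.S3450

open IsLocalRing


/-- Let A be a Noetherian local ring which is reduced, complete (for the topology defined by its maximal
ideal m) and not a field. Then for every n there are finitely many local homomorphisms φ_i : A → V_i
into discrete valuation rings, each making V_i a finite A-algebra, such that the intersection of
their kernels is contained in mⁿ. (Equivalently: such finite intersections form a base of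
neighbourhoods of 0 for the m-adic topology.) -/
theorem result (A : Type u) [CommRing A] [IsNoetherianRing A]
    [IsLocalRing A] [IsReduced A] [IsAdicComplete (IsLocalRing.maximalIdeal A) A] (hA : ¬ IsField A) (n : ℕ) :
    ∃ (k : ℕ) (V : Fin k → Type u) (_ : ∀ i, CommRing (V i)) (_ : ∀ i, IsDomain (V i))
      (_ : ∀ i, IsDiscreteValuationRing (V i)) (φ : ∀ i, A →+* V i),
      (∀ i, IsLocalHom (φ i) ∧ (φ i).Finite) ∧
        ⨅ i, RingHom.ker (φ i) ≤ IsLocalRing.maximalIdeal A ^ n := by
  classical
  obtain ⟨T, hT, hTn⟩ := Groth.Agent.DVRBranches.exists_finset_inf_le hA n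
  have hd : ∀ i : Fin T.card, ∃ (V : Type u) (_ : CommRing V) (_ : IsDomain V) (_ : IsDiscreteValuationRing V)
      (φ : A →+* V), IsLocalHom φ ∧ φ.Finite ∧ RingHom.ker φ = (T.equivFin.symm i).1 := fun i => by
    obtain ⟨h1, h2, h3⟩ := hT _ (T.equivFin.symm i).2
    haveI := h1
    haveI := h3
    exact Groth.Agent.DVRBranches.exists_dvr _ h2
  choose V i1 i2 i3 φ h1 h2 h3 using hd
  refine ⟨T.card, V, i1, i2, i3, φ, fun i => ⟨h1 i, h2 i⟩, le_trans ?_ hTn⟩
  refine Finset.le_inf fun q hq => ?_
  refine le_trans (iInf_le _ (T.equivFin ⟨q, hq⟩)) ?_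
  rw [h3, Equiv.symm_apply_apply]
  rfl

end Groth.Agent.S3450
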