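import Groth.Statements.S3453
import Mathlib
import Groth.Agent.RectDepth.CodepthBC
import Groth.Agent.ConstrFib.PointLocus

set_option autoImplicit false
open CategoryTheory AlgebraicGeometry
universe u
open EGA43

namespace Groth.Agent.S3453

/-- Let f : X ⟶ S be locally of finite presentation and n a natural number. The set of points x of X
such that the local ring of the fibre of f through x at x has codepth n (its Krull dimension equals
its depth plus n) is locally constructible in X. -/
theorem result {X S : Scheme.{u}} (f : X ⟶ S)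
    [LocallyOfFinitePresentation f] (n : ℕ) :
    Topology.IsLocallyConstructible {x : X |
      ringKrullDim ((f.fiber (f.base x)).presheaf.stalk (f.asFiber x)) =
        ((LocCoh.depth ((f.fiber (f.base x)).presheaf.stalk (f.asFiber x)) ((f.fiber (f.base x)).presheaf.stalk (f.asFiber x)) : ℕ∞) : WithBot ℕ∞) + n} := by
  have hiff : ∀ {X S : Scheme.{u}} (f : X ⟶ S) [LocallyOfFiniteType f] (x : X),
      RectDepth.RCodepthEQ f n x ↔ RectDepth.RCodepthLE f n x ∧ ∀ m < n, ¬ RectDepth.RCodepthLE f m x := by
    intro X S f _ x
    have hN := FlatLocalDepth.isNoetherianRing_fibre_quotient f x (FlatOverBC.isLocallyNoetherian_fiber f _)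
    haveI : IsNoetherianRing (X.presheaf.stalk x ⧸ RectDepth.baseIdeal f x) := hN
    have hd := Depth.depth_le_ringKrullDim (R := X.presheaf.stalk x ⧸ RectDepth.baseIdeal f x)
      (M := X.presheaf.stalk x ⧸ RectDepth.baseIdeal f x)
    obtain ⟨a, ha⟩ := CAlgReg.exists_dim (R := X.presheaf.stalk x ⧸ RectDepth.baseIdeal f x)
    simp only [RectDepth.RCodepthEQ, RectDepth.RCodepthLE, ha] at hd ⊢
    generalize LocCoh.depth (X.presheaf.stalk x ⧸ RectDepth.baseIdeal f x)
      (X.presheaf.stalk x ⧸ RectDepth.baseIdeal f x) = t at hd ⊢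
    induction t using ENat.recTopCoe with
    | top => exact absurd (WithBot.coe_le_coe.1 hd) (by simp)
    | coe p =>
      have hp : p ≤ a := by exact_mod_cast hd
      have e1 : ∀ m : ℕ, ((p : ℕ∞) : WithBot ℕ∞) + (m : WithBot ℕ∞) = ((p + m : ℕ) : WithBot ℕ∞) := fun m => by
        push_cast; rfl
      simp only [e1, Nat.cast_inj, Nat.cast_le]
      refine ⟨fun h => ⟨h.le, fun m hm => by omega⟩, fun h => ?_⟩
      rcases Nat.lt_or_ge a (p + n) with hlt | hge
      · exact absurd (show a ≤ p + (a - p) by omega) (h.2 (a - p) (by omega))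
      · exact le_antisymm h.1 hge
  have h := ConstrFib.isLocallyConstructible_pointLocus (fun {X S} f x => RectDepth.RCodepthEQ f n x)
    (fun {X S X' S' f f' g' g} _ hc x' => by
      haveI : LocallyOfFiniteType f' := MorphismProperty.of_isPullback hc inferInstance
      exact RectDepth.rCodepthEQ_baseChange_iff hc x' n)
    (fun j f _ _ v => RectDepth.rCodepthEQ_comp_iff j f v n)
    (fun {X S} f _ _ _ _ => by
      have heq : {x : X | RectDepth.RCodepthEQ f n x} =
          {x | RectDepth.RCodepthLE f n x} \ ⋃ m ∈ Finset.range n, {x | RectDepth.RCodepthLE f m x} := by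
        ext x
        simp [hiff f x]
      rw [heq]
      exact (ConstrSets.isConstructible_of_isOpen (RectDepth.isOpen_rCodepthLE f n)).sdiff
        (ConstrSets.isConstructible_of_isOpen (isOpen_biUnion fun m _ => RectDepth.isOpen_rCodepthLE f m))) f
  simpa only [← RectDepth.rCodepthEQ_iff f n] using h

end Groth.Agent.S3453
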