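import Groth.Statements.S3456
import Groth.Agent.EquidimChart.Comp
-- import your own Groth.Agent.* helpers here

set_option autoImplicit false
open CategoryTheory AlgebraicGeometry
universe u
open EGA43

namespace Groth.Agent.S3456

open Groth.Agent.EquidimChart Groth.Agent.DimTheory
set_option backward.isDefEq.respectTransparency.types false


/-- Let Y be locally Noetherian, f : X ⟶ Y locally of finite type and x a point of X; let X_j run over
the (finitely many) irreducible components of X containing x. Then f is equidimensional at x if and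
only if there is a natural number e such that for every X_j: the closure Y_j of f(X_j) is an
irreducible component of Y; for every point η of Y whose closure equals Y_j (i.e. the generic point
of Y_j), the fibre X_j ∩ f⁻¹(η) has topological Krull dimension e; and the local dimension at x of
X_j ∩ f⁻¹(f x) is e. All subsets of X carry the induced topology. -/
theorem result {X Y : Scheme.{u}} [IsLocallyNoetherian Y] (f : X ⟶ Y)
    [LocallyOfFiniteType f] (x : X) :
    EGA43.IsEquidimAt f x ↔
      ∃ e : ℕ, ∀ Xj ∈ irreducibleComponents (X : Type u), ∀ hx : x ∈ Xj,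
        closure (f.base '' Xj) ∈ irreducibleComponents (Y : Type u) ∧
        (∀ η : Y, closure ({η} : Set Y) = closure (f.base '' Xj) →
          topologicalKrullDim ↥(Xj ∩ f.base ⁻¹' {η}) = e) ∧
        FlatMor.localDim ↥(Xj ∩ f.base ⁻¹' {f.base x}) ⟨x, ⟨hx, Set.mem_singleton (f.base x)⟩⟩ = e := by
  haveI : IsLocallyNoetherian X := LocallyOfFiniteType.isLocallyNoetherian f
  have comp : ∀ Xj ∈ irreducibleComponents (X : Type u), ∀ hx : x ∈ Xj,
      ∃ (ξ : X) (W : TopologicalSpace.Closeds X), (W : Set X) = Xj ∧ Xj = closure {ξ} ∧ ξ ⤳ x ∧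
        (∀ z : X, z ⤳ ξ → z = ξ) ∧ closure (f.base '' Xj) = closure {f ξ} := by
    intro Xj hXj hx
    have hWc : Xj = closure {hXj.1.genericPoint} := (component_eq_closure hXj).symm
    refine ⟨hXj.1.genericPoint, ⟨Xj, isClosed_of_mem_irreducibleComponents Xj hXj⟩, rfl, hWc,
      specializes_iff_mem_closure.2 (hWc ▸ hx), mem_component_isMax hXj, ?_⟩
    conv_lhs => rw [hWc]
    rw [closure_image_closure f.continuous, Set.image_singleton]
  constructor
  · intro h
    obtain ⟨e, U, hxU, hcomp, h1, h2⟩ := data_of_isEquidimAt f h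
    refine ⟨e, fun Xj hXj hx => ?_⟩
    obtain ⟨ξ, W, hW, hWξ, hξx, hξ, himg⟩ := comp Xj hXj hx
    subst hW
    have hξU : ξ ∈ U := hξx.mem_open U.isOpen hxU
    have hη := (hcomp ξ hξU hξ).1
    have he := h1 ξ hξU fun z hz _ => hξ z hz
    obtain ⟨_, hgen⟩ := genericPoint_component W hWξ
    let I := Scheme.IdealSheafData.vanishingIdeal W
    have hgf : (I.subschemeι ≫ f) (genericPoint I.subscheme) = f ξ := congrArg f hgen
    have hge : mapTrdeg (I.subschemeι ≫ f) (genericPoint I.subscheme) = e := by
      rw [mapTrdeg_component, hgen, he]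
    refine ⟨himg ▸ Groth.Agent.FlatDim.closure_mem_irreducibleComponents hη, fun η' hη' => ?_, ?_⟩
    · obtain rfl : η' = f ξ := ((inseparable_iff_closure_eq).2 (hη'.trans himg)).eq
      exact (dim_inter f W (f ξ)).trans (dim_fiber_generic (I.subschemeι ≫ f) hgf hge)
    · obtain ⟨w, hw⟩ : x ∈ Set.range I.subschemeι := by rw [range_subschemeι_vanishingIdeal]; exact hx
      rw [localDim_inter f W w hw rfl ⟨hx, rfl⟩]
      obtain ⟨z, n, hzw, hz, hn, hd⟩ := exists_fibreMax (I.subschemeι ≫ f) w
      have h3 : e ≤ n := le_of_specializes (I.subschemeι ≫ f) (genericPoint_specializes w)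
        (fun a ha _ => Groth.Agent.FlatDim.genericPoint_isMax a ha) hge hd.le
      have hzU : I.subschemeι z ∈ U :=
        (hzw.map I.subschemeι.continuous).mem_open U.isOpen (show I.subschemeι w ∈ U by rw [hw]; exact hxU)
      have h4 : n ≤ e := by
        rw [mapTrdeg_component] at hn
        have := le_fibreDimAt f hn
        rw [h2 _ hzU] at this
        exact_mod_cast this
      rw [hd, le_antisymm h4 h3]
  · rintro ⟨e, he⟩
    have hd : ∀ ξ : X, (∀ z : X, z ⤳ ξ → z = ξ) → ξ ⤳ x →
        (∀ w : Y, w ⤳ f ξ → w = f ξ) ∧ mapTrdeg f ξ = e ∧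
        ∀ z : X, ξ ⤳ z → z ⤳ x → ∀ n : ℕ, mapTrdeg f z = n → n ≤ e := by
      intro ξ hξ hξx
      obtain ⟨h1, h2, h3⟩ := he _ (Groth.Agent.FlatDim.closure_mem_irreducibleComponents hξ)
        (specializes_iff_mem_closure.1 hξx)
      have himg : closure (f.base '' closure {ξ}) = closure {f ξ} := by
        rw [closure_image_closure f.continuous, Set.image_singleton]
      rw [himg] at h1
      let W : TopologicalSpace.Closeds X := ⟨closure {ξ}, isClosed_closure⟩
      obtain ⟨_, hgen⟩ := genericPoint_component W rfl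
      let I := Scheme.IdealSheafData.vanishingIdeal W
      have hgf : (I.subschemeι ≫ f) (genericPoint I.subscheme) = f ξ := congrArg f hgen
      have h2' : topologicalKrullDim ↥((I.subschemeι ≫ f).fiber (f ξ)) = (e : WithBot ℕ∞) :=
        (dim_inter f W (f ξ)).symm.trans (h2 (f ξ) himg.symm)
      obtain ⟨m, hm, -⟩ := height_asFiber f ξ
      have hme : m = e := by
        rw [dim_fiber_generic (I.subschemeι ≫ f) hgf (e := m) (by rw [mapTrdeg_component, hgen, hm])] at h2'
        exact_mod_cast h2'
      refine ⟨fun w hw => isMax_of_closure_mem_components h1 hw, hme ▸ hm, fun z hξz hzx n hn => ?_⟩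
      obtain ⟨w, hw⟩ : x ∈ Set.range I.subschemeι := by
        rw [range_subschemeι_vanishingIdeal]; exact specializes_iff_mem_closure.1 hξx
      obtain ⟨z', hz'⟩ : z ∈ Set.range I.subschemeι := by
        rw [range_subschemeι_vanishingIdeal]; exact specializes_iff_mem_closure.1 hξz
      have hzw : z' ⤳ w := I.subschemeι.isEmbedding.isInducing.specializes_iff.1 (by rw [hz', hw]; exact hzx)
      have hb : FlatMor.fibreDimAt (I.subschemeι ≫ f) w ≤ (e : WithBot ℕ∞) :=
        ((localDim_inter f W w hw rfl ⟨specializes_iff_mem_closure.1 hξx, rfl⟩).symm.trans h3).le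
      have h5 := (le_fibreDimAt (I.subschemeι ≫ f) (m := n) (by rw [mapTrdeg_component, hz', hn])).trans
        (hzw.mem_open (Groth.Agent.FibreDimChart.isOpen_fibreDimAt_le (I.subschemeι ≫ f) e) hb)
      exact_mod_cast h5
    have hb : FlatMor.fibreDimAt f x ≤ (e : WithBot ℕ∞) := by
      obtain ⟨z, n, hzx, hz, hn, hdn⟩ := exists_fibreMax f x
      obtain ⟨ξ, hξz, hξ⟩ := Groth.Agent.FlatMorLib.exists_maximal_generization z
      rw [hdn]
      exact_mod_cast (hd ξ (fun a ha => hξ a ha) (hξz.trans hzx)).2.2 z hξz hzx n hn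
    obtain ⟨U, hxU, hU, hUmax⟩ := exists_nbhd_max_specializes (X := X) (x := x)
      (U := ⟨_, Groth.Agent.FibreDimChart.isOpen_fibreDimAt_le f e⟩) hb
    refine isEquidimAt_of_data f x e U hxU (fun ξ hξU hξ => ?_) fun y hyU hy => ?_
    · exact ⟨(hd ξ hξ (hUmax ξ hξU hξ)).1, (hUmax ξ hξU hξ).map f.continuous⟩
    · obtain ⟨n, hn, -⟩ := height_asFiber f y
      obtain ⟨ξ, hξy, hξ⟩ := Groth.Agent.FlatMorLib.exists_maximal_generization y
      have hξ' : ∀ a, a ⤳ ξ → a = ξ := fun a ha => hξ a ha
      have hξU : ξ ∈ U := hξy.mem_open U.isOpen hyU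
      have h3 : e ≤ n := le_of_specializes f hξy (fun a ha _ => hξ' a ha) (hd ξ hξ' (hUmax ξ hξU hξ')).2.1
        (fibreDimAt_of_fibreMax f hy hn).le
      have h4 : n ≤ e := by exact_mod_cast (le_fibreDimAt f hn).trans (hU hyU)
      rw [hn, le_antisymm h4 h3]

end Groth.Agent.S3456
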