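import Groth.Statements.S3457
import Mathlib
import Groth.Agent.RectDepth.QuotChain
import Groth.Agent.EquidimChart.Formula
import Groth.Agent.EquidimChart.Crit
import Groth.Agent.EquidimChart.Comp
import Groth.Agent.EquidimChart.ChainIneq

set_option autoImplicit false
open CategoryTheory AlgebraicGeometry
universe u
open EGA43

namespace Groth.Agent.S3457

/-- Let Y be locally Noetherian, f : X ⟶ Y locally of finite type, x a point of X with y = f x, and
suppose f is equidimensional at x and O_{Y,y} is universally catenary. Let e be the local dimension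
at x of the fibre X_y. Then for every minimal prime 𝔭 of O_{X,x} (that is, for every irreducible
component X_j of X through x, with O_{X_j,x} = O_{X,x}/𝔭 and O_{Y_j,y} = O_{Y,y}/(𝔭 ∩ O_{Y,y})) one
has dim(O_{X,x}/𝔭) + trdeg_{κ(y)} κ(x) = dim(O_{Y,y}/(𝔭 ∩ O_{Y,y})) + e. -/
theorem result {X Y : Scheme.{u}} [IsLocallyNoetherian Y] (f : X ⟶ Y)
    [LocallyOfFiniteType f] (x : X) (h : EGA43.IsEquidimAt f x)
    (hcat : CAlg.IsUniversallyCatenary (Y.presheaf.stalk (f.base x))) :
    letI : Algebra (Y.residueField (f.base x)) (X.residueField x) := (f.residueFieldMap x).hom.toAlgebra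
    ∀ 𝔭 ∈ minimalPrimes (X.presheaf.stalk x),
      ringKrullDim (X.presheaf.stalk x ⧸ 𝔭) +
          (Cardinal.toNat (Algebra.trdeg (Y.residueField (f.base x)) (X.residueField x)) : WithBot ℕ∞) =
        ringKrullDim (Y.presheaf.stalk (f.base x) ⧸ 𝔭.comap (f.stalkMap x).hom) + FlatMor.fibreDimAt f x := by
  intro 𝔭 h𝔭
  haveI : IsLocallyNoetherian X := LocallyOfFiniteType.isLocallyNoetherian f
  let p : PrimeSpectrum (X.presheaf.stalk x) := ⟨𝔭, h𝔭.1.1⟩
  let ξ := Groth.Agent.RectDepth.specStalkEmb x p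
  have hξx : ξ ⤳ x := Groth.Agent.RectDepth.specStalkEmb_le x p
  have hξmax : ∀ z : X, z ⤳ ξ → z = ξ := by
    intro z hz
    obtain ⟨q, hq⟩ := Groth.Agent.RectDepth.exists_specStalkEmb x z (hz.trans hξx)
    rw [← hq]
    congr 1
    refine PrimeSpectrum.ext (le_antisymm ?_ (h𝔭.2 ⟨q.2, bot_le⟩ ?_))
    · exact (Groth.Agent.RectDepth.specStalkEmb_le_iff x q p).1 (hq.symm ▸ hz)
    · exact (Groth.Agent.RectDepth.specStalkEmb_le_iff x q p).1 (hq.symm ▸ hz)
  let p0 : PrimeSpectrum (Y.presheaf.stalk (f x)) := PrimeSpectrum.comap (f.stalkMap x).hom p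
  have hη : Groth.Agent.RectDepth.specStalkEmb (f x) p0 = f ξ := by
    show _ = f (X.fromSpecStalk x p)
    rw [← Scheme.Hom.comp_apply, ← Scheme.SpecMap_stalkMap_fromSpecStalk, Scheme.Hom.comp_apply]
    rfl
  obtain ⟨e, U, hxU, hcomp, hfm, hF⟩ := Groth.Agent.EquidimChart.data_of_isEquidimAt f h
  have he : Groth.Agent.DimTheory.mapTrdeg f ξ = e :=
    hfm ξ (hξx.mem_open U.2 hxU) fun z hz _ => hξmax z hz
  obtain ⟨t, ht, -⟩ := Groth.Agent.EquidimChart.height_asFiber f x
  obtain ⟨d, hd⟩ : ∃ d : ℕ, Order.coheight p0 = (d : ℕ∞) := by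
    obtain ⟨d, hd⟩ := Groth.Agent.LeadFCat.exists_dim (Y.presheaf.stalk (f x))
    cases hh : Order.coheight p0 with
    | top =>
      have h1 := Order.coheight_le_krullDim p0
      rw [hh, show Order.krullDim (PrimeSpectrum (Y.presheaf.stalk (f x))) = ringKrullDim (Y.presheaf.stalk (f x)) from rfl, hd,
        ← WithBot.coe_natCast, WithBot.coe_le_coe] at h1
      exact absurd h1 (by simp)
    | coe d => exact ⟨d, rfl⟩
  obtain ⟨c, hc1, hc2, hc3⟩ := Groth.Agent.RectDepth.exists_series_of_le_coheight_prime p0 d hd.ge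
  rw [hη] at hc2
  have hub : ∀ r : LTSeries X, r.head = x → ξ ⤳ r.last → r.length + t ≤ d + e := by
    intro r hr1 hr2
    obtain ⟨s, hs1, hs2, hle⟩ := Groth.Agent.EquidimChart.chain_ineq f ht he r hr1 hr2
    have h1 := Groth.Agent.RectDepth.length_le_coheight_prime p0 s hs1 (by rw [hη]; exact hs2)
    rw [hd, Nat.cast_le] at h1
    omega
  obtain ⟨w₀, hw₀⟩ : ∃ n : ℕ, Order.coheight p = (n : ℕ∞) := by
    cases hh : Order.coheight p with
    | top =>
      obtain ⟨r, r1, r2, r3⟩ := Groth.Agent.RectDepth.exists_series_of_le_coheight_prime p (d + e + 1) (by rw [hh]; exact le_top)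
      have := hub r r1 r2
      omega
    | coe n => exact ⟨n, rfl⟩
  have hwle : w₀ + t ≤ d + e := by
    obtain ⟨r, r1, r2, r3⟩ := Groth.Agent.RectDepth.exists_series_of_le_coheight_prime p w₀ hw₀.ge
    have := hub r r1 r2
    omega
  have hwge : d + e ≤ w₀ + t := by
    let W : TopologicalSpace.Closeds X := ⟨closure {ξ}, isClosed_closure⟩
    obtain ⟨hirr, hgen, hr⟩ := Groth.Agent.EquidimChart.component_subscheme ξ W rfl
    let ι := (Scheme.IdealSheafData.vanishingIdeal W).subschemeι
    obtain ⟨w, hw⟩ : x ∈ Set.range ι := hr.symm ▸ specializes_iff_mem_closure.1 hξx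
    have hcf := Groth.Agent.EquidimChart.chain_formula (ι ≫ f) (genericPoint_specializes w)
      (by rw [Scheme.Hom.comp_apply, hw]; exact hcat) (n := t) (e := e)
      (by rw [Groth.Agent.EquidimChart.mapTrdeg_component, hw, ht])
      (by rw [Groth.Agent.EquidimChart.mapTrdeg_component, hgen, he]) c
      (by rw [hc1, Scheme.Hom.comp_apply, hw]) (by rw [Scheme.Hom.comp_apply, hgen]; exact hc2)
    by_contra hlt
    have hco : ((w₀ + 1 : ℕ) : ℕ∞) ≤ Order.coheight w := by
      cases hh : Order.coheight w with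
      | top => exact le_top
      | coe a =>
        rw [hh] at hcf
        have : c.length + e ≤ a + t := by exact_mod_cast hcf
        exact Nat.cast_le.2 (by omega)
    obtain ⟨l, hl1, hl2⟩ := Order.exists_series_of_le_coheight w hco
    have h1 := Groth.Agent.RectDepth.length_le_coheight_prime p (l.map _ (Groth.Agent.EquidimChart.strictMono_immersion ι))
      (by rw [LTSeries.head_map, hl1, hw]) (by
        rw [LTSeries.last_map]
        exact specializes_iff_mem_closure.2 (hr.le ⟨_, rfl⟩))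
    rw [hw₀, show (l.map _ (Groth.Agent.EquidimChart.strictMono_immersion ι)).length = l.length from rfl, hl2, Nat.cast_le] at h1
    omega
  have ht' : @Algebra.trdeg (Y.residueField (f x)) (X.residueField x) _ _ (f.residueFieldMap x).hom.toAlgebra = (t : Cardinal.{u}) := ht
  rw [ht', Cardinal.toNat_natCast, hF x hxU,
    Groth.Agent.RectDepth.ringKrullDim_quotient_eq_coheight p,
    show ringKrullDim (Y.presheaf.stalk (f x) ⧸ 𝔭.comap (f.stalkMap x).hom) = (Order.coheight p0 : WithBot ℕ∞) from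
      Groth.Agent.RectDepth.ringKrullDim_quotient_eq_coheight p0, hw₀, hd]
  exact_mod_cast (show w₀ + t = d + e by omega)

end Groth.Agent.S3457
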