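import Groth.Statements.S3460
import Mathlib

set_option autoImplicit false
open CategoryTheory AlgebraicGeometry
universe u
open EGA43

namespace Groth.Agent.S3460

set_option backward.isDefEq.respectTransparency.types false
set_option linter.style.haveILetI false


/-- Let Y be locally Noetherian and f : X ⟶ Y of finite type. Then there exist a scheme Z, a proper
morphism g : X ⟶ Z and an immersion h : Z ⟶ Y with f = g ≫ h if and only if f is proper at every
point of f(X), i.e. every point of f(X) has an open neighbourhood U in Y over which the restriction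
of f is proper. -/
theorem result {X Y : Scheme.{u}} [IsLocallyNoetherian Y]
    (f : X ⟶ Y) [LocallyOfFiniteType f] [QuasiCompact f] :
    (∃ (Z : Scheme.{u}) (g : X ⟶ Z) (h : Z ⟶ Y), IsProper g ∧ IsImmersion h ∧ g ≫ h = f) ↔
      ∀ x : X, ∃ U : Y.Opens, f.base x ∈ U ∧ IsProper (f ∣_ U) := by
  have key : ∀ (U : Y.Opens) (g : X ⟶ (U : Scheme.{u})), g ≫ U.ι = f → (IsProper (f ∣_ U) ↔ IsProper g) := by
    intro U g hg
    have htop : f ⁻¹ᵁ U = ⊤ := by
      ext x
      exact ⟨fun _ => trivial, fun _ => show f x ∈ U by rw [← hg]; exact (g x).2⟩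
    haveI : IsIso (f ⁻¹ᵁ U).ι := by
      haveI : Surjective (f ⁻¹ᵁ U).ι := ⟨fun x => ⟨⟨x, htop.symm ▸ trivial⟩, rfl⟩⟩
      exact (AlgebraicGeometry.isIso_iff_isOpenImmersion_and_surjective _).2 ⟨inferInstance, inferInstance⟩
    have h : (f ⁻¹ᵁ U).ι ≫ g = f ∣_ U := by
      rw [← cancel_mono U.ι, Category.assoc, hg, morphismRestrict_ι]
    rw [← h, MorphismProperty.cancel_left_of_respectsIso @IsProper]
  constructor
  · rintro ⟨Z, g, h, hg, hh, rfl⟩ x
    haveI := hh
    refine ⟨h.coborderRange, ?_, (key _ (g ≫ h.liftCoborder) (by rw [Category.assoc, h.liftCoborder_ι])).2 inferInstance⟩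
    exact subset_coborder ⟨g x, rfl⟩
  · intro H
    choose V hxV hV using H
    let U : Y.Opens := ⨆ x, V x
    have hr : Set.range f ⊆ Set.range U.ι := by
      rintro _ ⟨x, rfl⟩
      rw [Scheme.Opens.range_ι]
      exact TopologicalSpace.Opens.mem_iSup.2 ⟨x, hxV x⟩
    refine ⟨_, IsOpenImmersion.lift U.ι f hr, U.ι, (key U _ (IsOpenImmersion.lift_fac _ _ _)).1 ?_, inferInstance,
      IsOpenImmersion.lift_fac _ _ _⟩
    refine IsZariskiLocalAtTarget.of_iSup_eq_top (P := @IsProper) (fun x => U.ι ⁻¹ᵁ V x) ?_ fun x => ?_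
    · refine eq_top_iff.2 fun p _ => ?_
      obtain ⟨x, hx⟩ := TopologicalSpace.Opens.mem_iSup.1 p.2
      exact TopologicalSpace.Opens.mem_iSup.2 ⟨x, hx⟩
    · rw [MorphismProperty.arrow_mk_iso_iff @IsProper (morphismRestrictRestrict _ _ _),
        Scheme.Hom.image_preimage_eq_opensRange_inf, Scheme.Opens.opensRange_ι, inf_eq_right.2 (le_iSup V x)]
      exact hV x

end Groth.Agent.S3460
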