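import Groth.Statements.S3527
import Groth.Agent.HTorRingLib.Balance
import Groth.Agent.CAlgFlatTor.Basic

set_option autoImplicit false
universe u
open HTor

namespace Groth.Agent.S3527

/-- If A is a commutative ring and M is a flat A-module, then Tor_p^A(M, N) = 0 and Tor_p^A(N, M) = 0
for every A-module N and every p ≥ 1. (The published statement is about local hypertor sheaves over
general S, X, Y; in the affine case these are the sheaves attached to Tor_n^A, and only the
resulting statement about A-modules is given here. Tor is Mathlib's, left derived in the second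
variable; vanishing is stated as Subsingleton, and both orders are stated.) -/
theorem result (A : Type u) [CommRing A] (M N : Type u) [AddCommGroup M] [Module A M]
    [AddCommGroup N] [Module A N] [Module.Flat A M] (p : ℕ) (hp : 0 < p) :
    Subsingleton (DRing.Tor A p M N) ∧ Subsingleton (DRing.Tor A p N M) := by
  refine ⟨ModuleCat.subsingleton_of_isZero (Groth.Agent.CAlgFlatTor.isZero_tor_of_flat M (ModuleCat.of A N) p hp), ?_⟩
  let P := CategoryTheory.projectiveResolution (ModuleCat.of A N)
  obtain ⟨e⟩ := Groth.Agent.HTorRingLib.nonempty_tor_iso (ModuleCat.of A N) (ModuleCat.of A M) P p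
  refine @Equiv.subsingleton _ _ e.toLinearEquiv.toEquiv ?_
  obtain ⟨q, rfl⟩ : ∃ q, p = q + 1 := ⟨p - 1, by omega⟩
  apply ModuleCat.subsingleton_of_isZero
  rw [← HomologicalComplex.exactAt_iff_isZero_homology,
    HomologicalComplex.exactAt_iff' _ (q + 2) (q + 1) q (by simp) (by simp),
    CategoryTheory.ShortComplex.ShortExact.moduleCat_exact_iff_function_exact]
  exact Module.Flat.rTensor_exact M ((CategoryTheory.ShortComplex.ShortExact.moduleCat_exact_iff_function_exact _).1
    ((HomologicalComplex.exactAt_iff' _ (q + 2) (q + 1) q (by simp) (by simp)).1 (P.complex_exactAt_succ q)))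

end Groth.Agent.S3527
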