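import Groth.Statements.S3532
import Groth.Agent.TowerLib.Basic
-- import your own Groth.Agent.* helpers here

set_option autoImplicit false
universe u
open HomAlg3

namespace Groth.Agent.S3532

open CategoryTheory in
/-- Category of abelian groups, system indexed by the natural numbers: Let (A_k)_{k ≥ 0} be an inverse
system of abelian groups. For p ≤ k write Im_k(A_p) for the image of A_k → A_p, and K_p for the
kernel of A_p → A_{p-1} (K_0 = A_0). Then (A_k) satisfies the Mittag-Leffler condition (for each p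
the subgroups Im_k(A_p) are eventually constant in k) if and only if for each p the subgroups
Im_k(A_p) ∩ K_p are eventually constant in k. -/
theorem result (F : ℕᵒᵖ ⥤ AddCommGrpCat.{u}) :
    (F ⋙ forget AddCommGrpCat).IsMittagLeffler ↔
      ((∃ k₀ : ℕ, ∀ (k : ℕ) (hk : k₀ ≤ k),
          (F.map (homOfLE (Nat.zero_le k)).op).hom.range = (F.map (homOfLE (Nat.zero_le k₀)).op).hom.range) ∧
        ∀ p : ℕ, ∃ k₀ : ℕ, ∃ h₀ : p + 1 ≤ k₀, ∀ (k : ℕ) (hk : k₀ ≤ k),
          (F.map (homOfLE (h₀.trans hk)).op).hom.range ⊓ (F.map (homOfLE (Nat.le_succ p)).op).hom.ker =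
            (F.map (homOfLE h₀).op).hom.range ⊓ (F.map (homOfLE (Nat.le_succ p)).op).hom.ker) := by
  have htr : ∀ {i j : ℕ} (h : i ≤ j), (F.map (homOfLE h).op).hom = TowerLib.tr F h := fun h => rfl
  simp only [htr]
  have anti : ∀ {i a b : ℕ} (ha : i ≤ a) (hab : a ≤ b), (TowerLib.tr F (ha.trans hab)).range ≤ (TowerLib.tr F ha).range :=
    fun ha hab => by rintro _ ⟨z, rfl⟩; exact ⟨TowerLib.tr F hab z, TowerLib.tr_tr F _ _ z⟩
  rw [TowerLib.isMittagLeffler_iff]
  constructor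
  · intro h
    have h' : ∀ i, ∃ (j : ℕ) (hij : i ≤ j), ∀ k (hjk : j ≤ k), (TowerLib.tr F (hij.trans hjk)).range = (TowerLib.tr F hij).range :=
      fun i => by
        obtain ⟨j, hij, hj⟩ := h i
        exact ⟨j, hij, fun k hjk => le_antisymm (anti hij hjk) (by rintro _ ⟨z, rfl⟩; exact hj k hjk z)⟩
    obtain ⟨j, hj0, hj⟩ := h' 0
    refine ⟨⟨j, fun k hk => hj k hk⟩, fun p => ?_⟩
    obtain ⟨j, hpj, hj⟩ := h' (p + 1)
    exact ⟨j, hpj, fun k hk => by rw [hj k hk]⟩
  · rintro ⟨⟨j0, hj0⟩, hp⟩ i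
    induction i with
    | zero => exact ⟨j0, Nat.zero_le _, fun k hk z => (hj0 k hk).ge ⟨z, rfl⟩⟩
    | succ p ih =>
      obtain ⟨j1, hpj1, hj1⟩ := ih
      obtain ⟨j2, hpj2, hj2⟩ := hp p
      refine ⟨max j1 j2, hpj2.trans (le_max_right _ _), fun k hk z => ?_⟩
      obtain ⟨w, hw⟩ := hj1 k ((le_max_left j1 j2).trans hk) (TowerLib.tr F (le_max_left j1 j2) z)
      have hK : p + 1 ≤ k := (hpj2.trans (le_max_right j1 j2)).trans hk
      let d := TowerLib.tr F (hpj2.trans (le_max_right j1 j2)) z - TowerLib.tr F hK w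
      have hd1 : d ∈ (TowerLib.tr F hpj2).range := sub_mem (anti hpj2 (le_max_right _ _) ⟨z, rfl⟩)
        (anti hpj2 ((le_max_right j1 j2).trans hk) ⟨w, rfl⟩)
      have hd2 : d ∈ (TowerLib.tr F (Nat.le_succ p)).ker := by
        rw [AddMonoidHom.mem_ker, map_sub, TowerLib.tr_tr, TowerLib.tr_tr, sub_eq_zero]
        exact (TowerLib.tr_tr F hpj1 (le_max_left j1 j2) z).symm.trans hw.symm
      obtain ⟨⟨w', hw'⟩, -⟩ := (hj2 k ((le_max_right j1 j2).trans hk)).ge ⟨hd1, hd2⟩
      exact ⟨w + w', by rw [map_add, hw', add_sub_cancel]⟩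

end Groth.Agent.S3532
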