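import Groth.Statements.S3544
import Groth.Agent.SSEuler.Basic
-- import your own Groth.Agent.* helpers here

set_option autoImplicit false
universe u
open HomAlg3

namespace Groth.Agent.S3544

open CategoryTheory CategoryTheory.Limits in
/-- Let E be a cohomological spectral sequence of modules over a ring A, starting at page 2, such that
the E₂ terms have finite length and only finitely many of them (all inside the finite set s of
bidegrees) are nonzero. Then for every r ≥ 2 the Euler–Poincaré characteristic of page r, the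
alternating sum over s of (-1)^{p+q} times the length of E_r^{pq}, equals that of page 2. -/
theorem result {A : Type u} [Ring A]
    (E : E₂CohomologicalSpectralSequence (ModuleCat.{u} A)) (s : Finset (ℤ × ℤ))
    (hs : ∀ pq : ℤ × ℤ, pq ∉ s → IsZero ((E.page 2).X pq))
    (hfl : ∀ pq : ℤ × ℤ, IsFiniteLength A ((E.page 2).X pq)) (r : ℤ) (hr : 2 ≤ r) :
    (s.sum fun pq => (((pq.1 + pq.2).negOnePow : ℤˣ) : ℤ) * ((Module.length A ((E.page r hr).X pq)).toNat : ℤ)) =
      s.sum fun pq => (((pq.1 + pq.2).negOnePow : ℤˣ) : ℤ) * ((Module.length A ((E.page 2).X pq)).toNat : ℤ) := by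
  have step : ∀ (n : ℕ) (hn : 2 ≤ (2 : ℤ) + n),
      Groth.Agent.SSEuler.chi s (E.page (2 + n) hn).X = Groth.Agent.SSEuler.chi s (E.page 2).X ∧
      (∀ i, Module.length A ((E.page (2 + n) hn).X i) ≠ ⊤) ∧
      (∀ i, i ∉ s → Module.length A ((E.page (2 + n) hn).X i) = 0) := by
    intro n
    induction n with
    | zero =>
      intro hn
      refine ⟨rfl, fun i => Module.length_ne_top_iff.2 (hfl i), fun i hi => ?_⟩
      have : Subsingleton ((E.page (2 + ((0 : ℕ) : ℤ)) hn).X i) := ModuleCat.subsingleton_of_isZero (hs i hi)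
      exact Module.length_eq_zero
    | succ n ih =>
      intro hn
      obtain ⟨h1, h2, h3⟩ := ih (by omega)
      obtain ⟨g1, g2, g3⟩ := Groth.Agent.SSEuler.chi_homology _ (E.page (2 + n) (by omega)) (by simp) s h2 h3
      have hl : ∀ i, Module.length A ((E.page (2 + ((n + 1 : ℕ) : ℤ)) hn).X i) =
          Module.length A ((E.page (2 + n) (by omega)).homology i) := fun i =>
        (E.iso (2 + n) (2 + ((n + 1 : ℕ) : ℤ)) i (by push_cast; ring) (by omega)).toLinearEquiv.length_eq.symm
      refine ⟨?_, fun i => hl i ▸ g2 i, fun i hi => hl i ▸ g3 i hi⟩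
      rw [← h1, ← g1]
      simp only [Groth.Agent.SSEuler.chi, hl]
  obtain ⟨n, rfl⟩ : ∃ n : ℕ, r = 2 + n := ⟨(r - 2).toNat, by omega⟩
  exact (step n hr).1

end Groth.Agent.S3544
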