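import Groth.Statements.S3555
import Groth.Agent.ProjUPLib.AmpleO1
-- import your own Groth.Agent.* helpers here

set_option autoImplicit false
universe u
open CategoryTheory CategoryTheory.Limits AlgebraicGeometry
open EGA2

namespace Groth.Agent.S3555

open Groth.Agent.ProjUPLib

/-- Let S be a graded ring whose irrelevant ideal S_+ is generated by the degree-one elements, X = Proj
S, and f homogeneous of degree d > 0. Then D_+(f) is the set of points p of X at which the global
section f/1 of O_X(d) does not vanish, i.e. at which its value generates the module of degree-d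
fractions at p. -/
theorem result {R A : Type u} [CommRing R] [CommRing A] [Algebra R A] (𝒜 : ℕ → Submodule R A) [GradedAlgebra 𝒜]
    (hgen : (HomogeneousIdeal.irrelevant 𝒜).toIdeal = Ideal.span (𝒜 1 : Set A))
    {d : ℕ} (hd : 0 < d) (f : 𝒜 d) (p : ProjectiveSpectrum 𝒜) :
    p ∈ ProjectiveSpectrum.basicOpen 𝒜 (f : A) ↔
      Submodule.span (Twist.A0 𝒜 p) {(Twist.globalOf 𝒜 f).1 ⟨p, trivial⟩} = ⊤ := by
  constructor
  · intro hp
    rw [eq_top_iff]
    intro q _
    suffices h : ∀ z ∈ Twist.twistAt 𝒜 (d : ℤ) p, ∃ c : Twist.A0 𝒜 p,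
        z = c.val * ((Twist.globalOf 𝒜 f).1 ⟨p, trivial⟩).1 by
      obtain ⟨c, hc⟩ := h q.1 q.2
      exact Submodule.mem_span_singleton.mpr ⟨c, Subtype.ext ((Twist.coe_smul_val _ _ _ _).trans hc.symm)⟩
    intro z hz
    induction hz using Submodule.span_induction with
    | mem z hz =>
      obtain ⟨i, j, a, s, hs, hij, rfl⟩ := hz
      refine ⟨HomogeneousLocalization.mk
        { deg := j + d, num := ⟨a.1, (show i = j + d by omega) ▸ a.2⟩,
          den := ⟨s.1 * f.1, SetLike.mul_mem_graded s.2 f.2⟩,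
          den_mem := fun h ↦ (p.isPrime.mem_or_mem h).elim hs hp }, ?_⟩
      change _ = _ * Localization.mk f.1 _
      rw [HomogeneousLocalization.val_mk, Localization.mk_mul, Localization.mk_eq_mk_iff, Localization.r_iff_exists]
      exact ⟨1, by simp; ring⟩
    | zero => exact ⟨0, by simp⟩
    | add x y _ _ hx hy =>
      obtain ⟨c, rfl⟩ := hx
      obtain ⟨c', rfl⟩ := hy
      exact ⟨c + c', by rw [HomogeneousLocalization.val_add, add_mul]⟩
    | smul r x _ hx =>
      obtain ⟨c, rfl⟩ := hx
      exact ⟨r * c, by rw [Algebra.smul_def, HomogeneousLocalization.algebraMap_apply, HomogeneousLocalization.val_mul, mul_assoc]⟩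
  · intro h hfp
    obtain ⟨g, hg, hgp⟩ : ∃ g ∈ 𝒜 1, g ∉ p.asHomogeneousIdeal := by
      by_contra! hall
      exact p.not_irrelevant_le (by
        intro z hz
        have : (HomogeneousIdeal.irrelevant 𝒜).toIdeal ≤ p.asHomogeneousIdeal.toIdeal :=
          hgen.le.trans (Ideal.span_le.mpr hall)
        exact this hz)
    have hgd : g ^ d ∈ 𝒜 d := by simpa using SetLike.pow_mem_graded d hg
    have hmem : (Twist.globalOf 𝒜 (⟨g ^ d, hgd⟩ : 𝒜 d)).1 ⟨p, trivial⟩ ∈
        Submodule.span (Twist.A0 𝒜 p) {(Twist.globalOf 𝒜 f).1 ⟨p, trivial⟩} := h ▸ Submodule.mem_top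
    obtain ⟨c, hc⟩ := Submodule.mem_span_singleton.mp hmem
    have h2 := (Twist.coe_smul_val _ _ _ _).symm.trans (congrArg Subtype.val hc)
    change c.val * Localization.mk f.1 _ = Localization.mk (g ^ d) _ at h2
    have hu : IsUnit (algebraMap A (Twist.Loc 𝒜 p) f.1) := by
      refine isUnit_of_mul_isUnit_right (x := c.val) ?_
      rw [← Localization.mk_one_eq_algebraMap]
      erw [h2, Localization.mk_one_eq_algebraMap]
      exact isUnit_algebraMap_loc 𝒜 fun h ↦ hgp (p.isPrime.mem_of_pow_mem d h)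
    exact (IsLocalization.AtPrime.isUnit_to_map_iff _ p.asHomogeneousIdeal.toIdeal f.1).mp hu hfp

end Groth.Agent.S3555
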