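import Groth.Statements.S3560
import Groth.Agent.EGA2G.Graded
-- import your own Groth.Agent.* helpers here

set_option autoImplicit false
universe u
open CategoryTheory CategoryTheory.Limits AlgebraicGeometry
open EGA2

namespace Groth.Agent.S3560

/-- Let S be a graded ring whose irrelevant ideal S_+ is finitely generated. Then Proj S is empty if and
only if there is n such that S_k = 0 for all k ≥ n. -/
theorem result {R A : Type u} [CommRing R] [CommRing A] [Algebra R A] (𝒜 : ℕ → Submodule R A) [GradedAlgebra 𝒜]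
    (hfg : (HomogeneousIdeal.irrelevant 𝒜).toIdeal.FG) :
    IsEmpty (Proj 𝒜) ↔ ∃ n : ℕ, ∀ k : ℕ, n ≤ k → 𝒜 k = ⊥ := by
  refine (Groth.Agent.EGA2G.isEmpty_iff 𝒜).trans ⟨fun h => ?_, fun ⟨n, hn⟩ => ?_⟩
  · have := (Groth.Agent.EGA2G.irrelevant_fg_iff 𝒜).mp hfg
    obtain ⟨k, hk⟩ := Ideal.exists_pow_le_of_le_radical_of_fg (I := (HomogeneousIdeal.irrelevant 𝒜).toIdeal) (J := ⊥) (fun f hf => mem_nilradical.mpr (h f hf)) hfg
    obtain ⟨m₀, hm₀⟩ := Groth.Agent.EGA2G.exists_le_irrelevant_pow 𝒜 k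
    exact ⟨m₀, fun j hj => (Submodule.eq_bot_iff _).mpr fun x hx => Submodule.mem_bot A |>.mp (hk (hm₀ j hj hx))⟩
  · intro f hf
    rw [← mem_nilradical]
    revert f
    rw [← SetLike.le_def, HomogeneousIdeal.toIdeal_irrelevant_le]
    intro i hi x hx
    refine mem_nilradical.mpr ⟨n, ?_⟩
    have hxn : x ^ n ∈ 𝒜 (n • i) := SetLike.pow_mem_graded n hx
    rw [hn (n • i) (by simpa using Nat.le_mul_of_pos_right n hi)] at hxn
    simpa using hxn

end Groth.Agent.S3560
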