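import Groth.Statements.S3572
import Groth.Agent.ProjUPLib.ToProj
import Groth.Agent.GenLocus.PullFrame
-- import your own Groth.Agent.* helpers here

set_option autoImplicit false
universe u
open CategoryTheory CategoryTheory.Limits AlgebraicGeometry
open EGA2

namespace Groth.Agent.S3572

open Groth.Agent.QCohBase Groth.Agent.GenLocus Groth.Agent.ProjUPLib
set_option backward.isDefEq.respectTransparency false
set_option backward.isDefEq.respectTransparency.types false

/-- Existence part of the universal property of projective n-space over an affine base Spec R (the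
published statement is for P(E) with E an arbitrary quasi-coherent module; here E is the free module
of rank n+1, so that P(E) is projective n-space over R): let X be a scheme over R, L an invertible
O_X-module and s_0, …, s_n global sections of L generating L. Then there is an R-morphism r from X
to projective n-space over R and an isomorphism r^*O(1) ≅ L carrying the inverse image of the
coordinate T_i to s_i for every i. -/
theorem result {R : Type u} [CommRing R] (n : ℕ) {X : Scheme.{u}}
    (q : X ⟶ Spec (CommRingCat.of R)) (L : X.Modules) (hL : PicF.IsInvertible L)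
    (s : Fin (n + 1) → ProjUP.Γm L) (hs : ProjUP.GeneratedBy L s) :
    ∃ (r : X ⟶ CohB1.ProjSpace n R) (_ : r ≫ CohB1.ProjSpace.toSpec n R = q)
      (τ : (Scheme.Modules.pullback r).obj (Twist.twistProjSpace n R 1) ≅ L),
      ∀ i, τ.hom.app ⊤ (ProjUP.pullSec r (Twist.twistProjSpace n R 1) (ProjUP.coord n R i)) = s i := by
  obtain ⟨U, hcov, v, hfr, hv, r, hr, hle, hcoef⟩ := exists_toProj q L hL s hs
  refine ⟨r, hr, ?_⟩
  let 𝒜 := CohB1.polyGrading n R
  let M := Twist.twist 𝒜 1
  let a : ULift.{u} (Fin (n + 1)) → ProjUP.Γm ((Scheme.Modules.pullback r).obj M) :=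
    fun i ↦ ProjUP.pullSec r M (ProjUP.coord n R i.down)
  have hres : ∀ i j, QCohBase.mres ((Scheme.Modules.pullback r).obj M) (le_top : U i ≤ ⊤) (a j) =
      QCohBase.mres _ (hle i) (GenLocus.pullSec r M (Proj.basicOpen 𝒜 (MvPolynomial.X i.down))
        (QCohBase.mres M le_top (oneSec 𝒜 (ProjCoord.X_mem j.down)))) := fun i j ↦ by
    rw [← pullSec_mres r M (le_top : Proj.basicOpen 𝒜 (MvPolynomial.X i.down) ≤ ⊤), mres_mres]
    rfl
  obtain ⟨τ, hτ⟩ := exists_iso_of_same_rel U hcov a (fun i ↦ s i.down) (fun i ↦ by
      rw [hres i i]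
      exact (IsFrame.pullSec r (isFrame_oneSec 𝒜 (ProjCoord.X_mem i.down))).res (hle i))
    hfr v (fun i j ↦ by
      rw [hres i i, hres i j, ← hcoef i j]
      have e := congrArg (fun m ↦ QCohBase.mres _ (hle i) (GenLocus.pullSec r M _ m))
        (oneSec_rel 𝒜 (ProjCoord.X_mem i.down) (ProjCoord.X_mem j.down) (ProjCoord.X_mem j.down))
      simp only [pullSec_smul, mres_smul] at e
      exact e) hv
  exact ⟨τ, fun i ↦ hτ ⟨i⟩⟩

end Groth.Agent.S3572
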