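import Groth.Statements.S3582
import Groth.Agent.ProjCoord.Basic
-- import your own Groth.Agent.* helpers here

set_option autoImplicit false
universe u
open CategoryTheory CategoryTheory.Limits AlgebraicGeometry
open EGA2

namespace Groth.Agent.S3582

/-- For every scheme Y and every r ≥ 0 the structure morphism from projective r-space over Y to Y is
surjective. -/
theorem result (r : ℕ) (Y : Scheme.{u}) :
    Surjective (CohB1.ProjSpaceOver.toBase r Y) := by
  let ρ : ULift.{u} ℤ →+* Γ(Y, ⊤) := (Int.castRingHom _).comp ULift.ringEquiv.toRingHom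
  let σ : Y ⟶ CohB1.ProjSpace r (ULift.{u} ℤ) :=
    Groth.Agent.ProjCoord.pt (n := r) ρ (fun _ => 1) 0 isUnit_one
  let s : Y ⟶ CohB1.ProjSpaceOver r Y :=
    pullback.lift σ (𝟙 Y) (specULiftZIsTerminal.hom_ext _ _)
  have hs : s ≫ CohB1.ProjSpaceOver.toBase r Y = 𝟙 Y := pullback.lift_snd _ _ _
  exact ⟨fun y => ⟨s.base y, by
    rw [← Scheme.Hom.comp_apply, hs]
    rfl⟩⟩

end Groth.Agent.S3582
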