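import Groth.Statements.S3583


set_option autoImplicit false
universe u
open CategoryTheory AlgebraicGeometry Opposite
open EGA2

namespace Groth.Agent.S3583

/-- In the form stated after its proof: let f : X → S and f' : X' → S be affine morphisms and h : X' → X
an S-morphism such that the O_S-algebra homomorphism A(h) : f_*O_X → f'_*O_{X'} is surjective (as a
map of quasi-coherent O_S-modules, i.e. on sections over every affine open of S). Then h is a closed
immersion. -/
theorem result {X X' S : Scheme.{u}} (f : X ⟶ S) [IsAffineHom f]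
    (f' : X' ⟶ S) [IsAffineHom f'] (h : X' ⟶ X) (w : h ≫ f = f')
    (hsurj : ∀ U : S.affineOpens, Function.Surjective ((AffAlg.algHom f f' h w).app (op U.1)).hom) :
    IsClosedImmersion h := by
  subst w
  refine (IsZariskiLocalAtTarget.iff_of_iSup_eq_top (P := @IsClosedImmersion)
    (fun U : S.affineOpens => f ⁻¹ᵁ U.1) ?_).2 fun U => ?_
  · rw [eq_top_iff]
    intro x _
    obtain ⟨U, hU, hxU⟩ : ∃ U : S.Opens, IsAffineOpen U ∧ f.base x ∈ U := by
      obtain ⟨_, ⟨U, hU, rfl⟩, hxU, -⟩ :=
        S.isBasis_affineOpens.exists_subset_of_mem_open (Set.mem_univ (f.base x)) isOpen_univ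
      exact ⟨U, hU, hxU⟩
    exact TopologicalSpace.Opens.mem_iSup.2 ⟨⟨U, hU⟩, hxU⟩
  · haveI : IsAffine (f ⁻¹ᵁ U.1).toScheme := U.2.preimage f
    haveI : IsAffine (h ⁻¹ᵁ f ⁻¹ᵁ U.1).toScheme := U.2.preimage (h ≫ f)
    refine IsClosedImmersion.of_surjective_of_isAffine _ ?_
    have key : ∀ W : X.Opens, f ⁻¹ᵁ U.1 = W → Function.Surjective (h.app W) := by
      rintro W rfl
      have h1 := hsurj U
      rw [AffAlg.algHom, NatTrans.comp_app, CommRingCat.hom_comp, RingHom.coe_comp] at h1
      exact Function.Surjective.of_comp_left h1 (ConcreteCategory.bijective_of_isIso _).1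
    rw [morphismRestrict_appTop]
    intro z
    obtain ⟨w, hw⟩ := (ConcreteCategory.bijective_of_isIso (X'.presheaf.map (eqToHom _).op)).2 z
    obtain ⟨y, rfl⟩ := key _ (Scheme.Opens.ι_image_top _).symm w
    exact ⟨y, hw⟩

end Groth.Agent.S3583
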