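import Groth.Statements.S3584
import Groth.Agent.ProjUPLib.AmpleO1
-- import your own Groth.Agent.* helpers here

set_option autoImplicit false
universe u
open CategoryTheory CategoryTheory.Limits AlgebraicGeometry
open EGA2

namespace Groth.Agent.S3584

open Groth.Agent.ProjUPLib

/-- Let S be a graded ring whose irrelevant ideal S_+ is generated by finitely many elements of degree
one. Then the twisting sheaf O_X(1) on X = Proj S is ample (X is quasi-compact and covered by the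
affine non-vanishing loci of sections of the positive powers of O_X(1)). -/
theorem result {R A : Type u} [CommRing R] [CommRing A] [Algebra R A] (𝒜 : ℕ → Submodule R A) [GradedAlgebra 𝒜]
    (s : Finset A) (hs1 : ∀ f ∈ s, f ∈ 𝒜 1)
    (hs : (HomogeneousIdeal.irrelevant 𝒜).toIdeal = Ideal.span (s : Set A)) :
    CohB1.IsAmple (Twist.twist 𝒜 1) := by
  have hle : (HomogeneousIdeal.irrelevant 𝒜).toIdeal ≤ Ideal.span (Set.range fun f : s ↦ (f : A)) :=
    hs.le.trans (Ideal.span_mono fun f hf ↦ ⟨⟨f, hf⟩, rfl⟩)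
  have hcs := Proj.iSup_basicOpen_eq_top 𝒜 (fun f : s ↦ (f : A)) hle
  have hcov : (⨆ f : 𝒜 1, Proj.basicOpen 𝒜 (f : A)) = ⊤ := top_le_iff.mp <| hcs.ge.trans <|
    iSup_le fun f ↦ le_iSup (fun g : 𝒜 1 ↦ Proj.basicOpen 𝒜 (g : A)) ⟨f.1, hs1 f.1 f.2⟩
  obtain ⟨e⟩ := nonempty_tensorPow_iso 𝒜 hcov 1
  refine ⟨isInvertible_twist 𝒜 1 hcov, ?_, fun x ↦ ?_⟩
  · refine ⟨?_⟩
    have hun : (Set.univ : Set (Proj 𝒜)) = ⋃ f : s, (Proj.basicOpen 𝒜 (f : A) : Set (Proj 𝒜)) := by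
      rw [← TopologicalSpace.Opens.coe_iSup, hcs]
      rfl
    rw [hun]
    exact isCompact_iUnion fun f ↦ (Proj.isAffineOpen_basicOpen 𝒜 f.1 (hs1 f.1 f.2) one_pos).isCompact
  · obtain ⟨f, hf⟩ := TopologicalSpace.Opens.mem_iSup.mp (hcs.ge (Set.mem_univ x))
    refine ⟨0, Groth.Agent.GenLocus.homOfSection _ (oneSec 𝒜 (hs1 f.1 f.2)) ≫ e.hom, ?_⟩
    rw [genLocus_comp_iso, genLocus_oneSec 𝒜 hcov]
    exact ⟨hf, Proj.isAffineOpen_basicOpen 𝒜 f.1 (hs1 f.1 f.2) one_pos⟩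

end Groth.Agent.S3584
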