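import Groth.Statements.S3585
import Groth.Agent.S12478
import Groth.Agent.SymAlgRel.ProjAffine

set_option autoImplicit false
universe u
open CategoryTheory CategoryTheory.Limits AlgebraicGeometry
open EGA2

namespace Groth.Agent.S3585

/-- Let A be a ring and f : X → Spec A a proper morphism, and suppose X carries an invertible O_X-module
which is ample relative to f (so f is quasi-projective). Then f is projective: X is isomorphic over
Spec A to Proj S for some graded A-algebra S whose degree-zero part is the image of A and whose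
irrelevant ideal is generated by finitely many elements of degree one. -/
theorem result {A : Type u} [CommRing A] {X : Scheme.{u}}
    (f : X ⟶ Spec (CommRingCat.of A)) [IsProper f]
    (L : X.Modules) (hL : PicF.IsInvertible L) (hamp : RelAmple.IsRelAmple f L) :
    ∃ (S : Type u) (_ : CommRing S) (_ : Algebra A S) (𝒮 : ℕ → Submodule A S) (_ : GradedAlgebra 𝒮) (s : Finset S),
      Function.Surjective (algebraMap A (𝒮 0)) ∧ (∀ g ∈ s, g ∈ 𝒮 1) ∧
      (HomogeneousIdeal.irrelevant 𝒮).toIdeal = Ideal.span (s : Set S) ∧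
      ∃ e : X ≅ Proj 𝒮, e.hom ≫ Proj.toSpecZero 𝒮 ≫ Spec.map (CommRingCat.ofHom (algebraMap A (𝒮 0))) = f := by
  obtain ⟨n, -, hn⟩ := S12478.result f L hL hamp
  have hLn := TensorMod.isInvertible_tensorPow hL n
  have hva := hn n le_rfl
  obtain ⟨𝒮L, jL, hjL⟩ := SymAlgRel.exists_isGrSymAlg _ (TensorMod.isQCoh_of_isInvertible hLn)
  obtain ⟨PL, pL, chartL, hPL⟩ := SymAlgRel.exists_isRelProj 𝒮L
  obtain ⟨E, hE, hft, ι, -, 𝒯, jE, hj, u, -, -, hgood⟩ :=
    SymAlgRel.exists_ft_sub_of_isRelVeryAmple hLn hjL hPL hva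
  obtain ⟨𝒮, P, p, chart, i, h1, h2, hP, ho, hd, hc, -, hz⟩ :=
    SymAlgRel.exists_image_model hLn hjL hPL hE hft hj u hgood
  haveI : IsSeparated p := EGA2Misc.isSeparated_of_isRelProj hP
  haveI : UniversallyClosed (i ≫ p) := by rw [hc]; infer_instance
  haveI : UniversallyClosed i := UniversallyClosed.of_comp_of_isSeparated i p
  haveI : IsIso i := (isIso_iff_isOpenImmersion_and_surjective i).2 ⟨ho, ⟨fun z =>
    Set.mem_range.1 ((i.isClosedMap.isClosed_range.closure_eq.symm.trans hd.closure_eq).ge (Set.mem_univ z))⟩⟩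
  exact SymAlgRel.exists_proj_over_affine f 𝒮 hP h1 h2 hz (asIso i) hc

end Groth.Agent.S3585
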