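import Groth.Statements.S3589
import Groth.Agent.ProjUPLib.Gen
import Groth.Agent.QCohBase.Localization
-- import your own Groth.Agent.* helpers here

set_option autoImplicit false
universe u
open CategoryTheory CategoryTheory.Limits AlgebraicGeometry
open EGA2

namespace Groth.Agent.S3589

open Groth.Agent.QCohBase Groth.Agent.GenLocus Groth.Agent.ProjUPLib TopologicalSpace
set_option backward.isDefEq.respectTransparency false
set_option backward.isDefEq.respectTransparency.types false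

/-- For E = O_Y^{n+1} over an affine base Y = Spec R (injectivity of the correspondence): a section s of
projective n-space over R is determined by the submodule F(s) of R^{n+1} formed by the R-linear
relations among the pulled-back coordinates s^*T_0, …, s^*T_n in the global sections of s^*O(1). -/
theorem result {R : Type u} [CommRing R] (n : ℕ)
    (s₁ s₂ : Spec (CommRingCat.of R) ⟶ CohB1.ProjSpace n R)
    (h₁ : s₁ ≫ CohB1.ProjSpace.toSpec n R = 𝟙 _) (h₂ : s₂ ≫ CohB1.ProjSpace.toSpec n R = 𝟙 _)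
    (h : ProjUP.secKernel n R s₁ = ProjUP.secKernel n R s₂) :
    s₁ = s₂ := by
  classical
  let 𝒜 := CohB1.polyGrading n R
  let e : ULift.{u} (Fin (n + 1)) → MvPolynomial (Fin (n + 1)) R := fun i ↦ MvPolynomial.X i.down
  have he : ∀ i, e i ∈ 𝒜 1 := fun i ↦ ProjCoord.X_mem i.down
  have hgen : Algebra.adjoin R (Set.range e) = ⊤ := adjoin_range_X n R
  refine ext_of_coeff 𝒜 e he hgen s₁ s₂ (h₁.trans h₂.symm) fun x ↦ ?_
  obtain ⟨k, hk⟩ := Opens.mem_iSup.mp (le_iSup_basicOpen 𝒜 e he hgen (trivial : s₁ x ∈ (⊤ : (Proj 𝒜).Opens)))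
  let X' := Spec (CommRingCat.of R)
  obtain ⟨_, ⟨g, rfl⟩, hxg, hgV⟩ := PrimeSpectrum.isTopologicalBasis_basic_opens.exists_subset_of_mem_open
    hk (s₁ ⁻¹ᵁ Proj.basicOpen 𝒜 (e k)).isOpen
  let G : Γ(X', ⊤) := (Scheme.ΓSpecIso _).inv.hom g
  have hG : X'.basicOpen G = PrimeSpectrum.basicOpen g := basicOpen_eq_of_affine g
  have hV : X'.basicOpen G ≤ s₁ ⁻¹ᵁ Proj.basicOpen 𝒜 (e k) := hG.trans_le hgV
  refine ⟨X'.basicOpen G, hG.ge hxg, k, hV, fun j ↦ ?_⟩
  let a := (s₁.appLE _ _ hV).hom (secRatio 𝒜 (he k) (e j))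
  have htop : IsAffineOpen (⊤ : X'.Opens) := isAffineOpen_top _
  have hu : IsUnit (ores (X'.basicOpen_le G) G) := RingedSpace.isUnit_res_basicOpen _ G
  obtain ⟨N, c, hc⟩ : ∃ (N : ℕ) (c : Γ(X', ⊤)),
      ores (X'.basicOpen_le G) c = a * ores (X'.basicOpen_le G) G ^ N := by
    have := htop.isLocalization_basicOpen G
    obtain ⟨⟨c, ⟨_, N, rfl⟩⟩, hc⟩ := IsLocalization.surj (Submonoid.powers G) a
    exact ⟨N, c, by rw [← map_pow]; exact hc.symm⟩
  have hq : (((Scheme.Modules.pullback s₁).obj (Twist.twist 𝒜 1))).IsQuasicoherent :=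
    isQCoh_pullback_twist 𝒜 e he hgen s₁
  obtain ⟨m, hm⟩ := exists_pow_smul_eq_zero _ htop G rfl (X'.basicOpen_le G)
    (G ^ N • secPull 𝒜 s₁ (he j) - c • secPull 𝒜 s₁ (he k)) (by
      rw [map_sub, mres_smul, mres_smul, map_pow, hc, mul_comm, mul_smul,
        ← secPull_rel 𝒜 s₁ (he k) (he j) hV]
      exact sub_self _)
  have hsc : ∀ b : Γ(X', ⊤), (Scheme.ΓSpecIso _).inv.hom ((Scheme.ΓSpecIso (CommRingCat.of R)).hom.hom b) = b :=
    fun b ↦ congr(($((Scheme.ΓSpecIso (CommRingCat.of R)).hom_inv_id)).hom b)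
  let vec : Fin (n + 1) → R := Pi.single j.down (g ^ (m + N)) -
    Pi.single k.down (g ^ m * (Scheme.ΓSpecIso (CommRingCat.of R)).hom.hom c)
  have hval : ∀ s : X' ⟶ CohB1.ProjSpace n R, vec ∈ ProjUP.secKernel n R s ↔
      G ^ m • (G ^ N • secPull 𝒜 s (he j) - c • secPull 𝒜 s (he k)) = 0 := by
    intro s
    letI : Module R (ProjUP.Γm ((Scheme.Modules.pullback s).obj (Twist.twistProjSpace n R 1))) :=
      Module.compHom _ (Scheme.ΓSpecIso (CommRingCat.of R)).inv.hom
    refine LinearMap.mem_ker.trans ?_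
    rw [map_sub, Fintype.linearCombination_apply_single, Fintype.linearCombination_apply_single]
    refine Eq.congr_left ?_
    change (Scheme.ΓSpecIso (CommRingCat.of R)).inv.hom _ • secPull 𝒜 s (he j) -
      (Scheme.ΓSpecIso (CommRingCat.of R)).inv.hom _ • secPull 𝒜 s (he k) = _
    rw [smul_sub, smul_smul, smul_smul, map_pow, map_mul, map_pow, hsc, ← pow_add]
  refine ⟨a, secPull_rel 𝒜 s₁ (he k) (he j) hV, ?_⟩
  have h0 := (hval s₂).mp (h ▸ (hval s₁).mpr hm)
  have h3 := congrArg (QCohBase.mres _ (X'.basicOpen_le G)) h0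
  rw [map_zero, mres_smul, map_sub, mres_smul, mres_smul, map_pow, map_pow, hc,
    (hu.pow m).smul_eq_zero, mul_comm, mul_smul, ← smul_sub, (hu.pow N).smul_eq_zero, sub_eq_zero] at h3
  exact h3.symm

end Groth.Agent.S3589
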