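import Groth.Statements.S3591
import Groth.Agent.ProjUPLib.Gen
-- import your own Groth.Agent.* helpers here

set_option autoImplicit false
universe u
open CategoryTheory CategoryTheory.Limits AlgebraicGeometry
open EGA2

namespace Groth.Agent.S3591

open Groth.Agent.QCohBase Groth.Agent.GenLocus Groth.Agent.ProjUPLib
set_option backward.isDefEq.respectTransparency false
set_option backward.isDefEq.respectTransparency.types false

/-- Universal property of the projective bundle of a quasi-coherent module over an affine base,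
existence part. Let A be a ring, M an A-module and S a graded A-algebra with an A-linear map ι : M →
S_1 making S a symmetric algebra of M (so Proj S = P(M~)). Let q : X → Spec A be a scheme over A, L
an invertible O_X-module and v : M → Γ(X, L) an A-linear map whose image generates L (these
correspond to the surjections q^*(M~) → L). Then there are an A-morphism r : X → Proj S and an
isomorphism r^*O(1) ≅ L carrying, for every m ∈ M, the pullback of the global section ι(m) of O(1)
to v(m). -/
theorem result {A : Type u} [CommRing A] {S : Type u} [CommRing S] [Algebra A S] (𝒮 : ℕ → Submodule A S) [GradedAlgebra 𝒮]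
    {M : Type u} [AddCommGroup M] [Module A M] (ι : M →ₗ[A] S) (hι : ∀ m : M, ι m ∈ 𝒮 1)
    (hsym : IsSymmetricAlgebra ι)
    {X : Scheme.{u}} (q : X ⟶ Spec (CommRingCat.of A)) (L : X.Modules) (hL : PicF.IsInvertible L)
    (v : M →+ ProjUP.Γm L) (hv : ∀ (a : A) (m : M), v (a • m) = ProjUP.toGlobal q a • v m)
    (hgen : ProjUP.GeneratedBy L v) :
    ∃ (r : X ⟶ Proj 𝒮) (_ : r ≫ Proj.toSpecZero 𝒮 ≫ Spec.map (CommRingCat.ofHom (algebraMap A (𝒮 0))) = q)
      (τ : (Scheme.Modules.pullback r).obj (Twist.twist 𝒮 1) ≅ L),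
      ∀ m : M, τ.hom.app ⊤ (ProjUP.pullSec r (Twist.twist 𝒮 1) (Twist.globalOf 𝒮 ⟨ι m, hι m⟩)) = v m := by
  let U : M → X.Opens := fun k ↦ CohB1.genLocus L (homOfSection L (v k))
  have hcov : (⊤ : X.Opens) ≤ iSup U := le_iSup_genLocus_of_generatedBy hL v hgen
  have hfr : ∀ k, IsFrame L (QCohBase.mres L (le_top : U k ≤ ⊤) (v k)) := fun k ↦ by
    have := isFrame_sect_genLocus (homOfSection L (v k))
    rwa [sect_homOfSection] at this
  choose c hc using fun k m ↦ (hfr k).bijective.2 (QCohBase.mres L le_top (v m))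
  let ρ : ∀ k, A →+* Γ(X, U k) := fun k ↦ (ores (le_top : U k ≤ ⊤)).comp (ProjUP.toGlobal q)
  have hadd : ∀ k m m', c k (m + m') = c k m + c k m' := fun k m m' ↦ (hfr k).bijective.1 (by
    simp only [add_smul, hc, map_add])
  have hsmul : ∀ k a m, c k (a • m) = ρ k a * c k m := fun k a m ↦ (hfr k).bijective.1 (by
    simp only [mul_smul, hc, hv, mres_smul, ρ, RingHom.comp_apply])
  have hθ : ∀ k, ∃ θ : S →+* Γ(X, U k),
      (∀ a, θ (algebraMap A S a) = ρ k a) ∧ ∀ m, θ (ι m) = c k m := by
    intro k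
    let alg : Algebra A Γ(X, U k) := (ρ k).toAlgebra
    let l : M →ₗ[A] Γ(X, U k) :=
      { toFun := c k
        map_add' := hadd k
        map_smul' := fun a m ↦ hsmul k a m }
    exact ⟨(hsym.lift l).toRingHom, fun a ↦ (hsym.lift l).commutes a, fun m ↦ hsym.lift_eq l m⟩
  choose θ hθc hθι using hθ
  have hone : ∀ k, θ k (ι k) = 1 := fun k ↦ (hθι k k).trans ((hfr k).bijective.1 ((hc k k).trans (one_smul _ _).symm))
  obtain ⟨r, hr, hle, hcoef⟩ := exists_toProjGen 𝒮 ι hι (adjoin_range_eq_top_of_isSymmetricAlgebra hsym) q U hcov θ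
    hθc hone (fun k l j ↦ by
      simp only [hθι]
      refine ((hfr l).res (inf_le_right : U k ⊓ U l ≤ U l)).bijective.1 ?_
      have e1 := congrArg (QCohBase.mres L (inf_le_right : U k ⊓ U l ≤ U l)) (hc l k)
      have e2 := congrArg (QCohBase.mres L (inf_le_left : U k ⊓ U l ≤ U k)) (hc k j)
      have e3 := congrArg (QCohBase.mres L (inf_le_right : U k ⊓ U l ≤ U l)) (hc l j)
      simp only [mres_smul, mres_mres] at e1 e2 e3 ⊢
      rw [mul_smul, e1, e2]
      exact e3.symm)
  refine ⟨r, hr, ?_⟩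
  obtain ⟨τ, hτ⟩ := exists_iso_of_same_rel U hcov (fun k ↦ secPull 𝒮 r (hι k)) (fun k ↦ v k)
    (fun k ↦ isFrame_secPull 𝒮 r (hι k) (hle k)) hfr c
    (fun k m ↦ by rw [← hθι k m, ← hcoef k m]; exact secPull_rel 𝒮 r (hι k) (hι m) (hle k))
    hc
  exact ⟨τ, hτ⟩

end Groth.Agent.S3591
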