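import Groth.Statements.S3593
import Groth.Agent.EGA2G.Cone
-- import your own Groth.Agent.* helpers here

set_option autoImplicit false
universe u
open CategoryTheory CategoryTheory.Limits AlgebraicGeometry
open EGA2

namespace Groth.Agent.S3593

/-- Let S be a graded R-algebra, Ŝ a graded R-algebra with a graded homomorphism φ : S → Ŝ making Ŝ an
S-algebra, and z an element of Ŝ of degree one such that the S-algebra map S[X] → Ŝ, X ↦ z, is
bijective (so Ŝ = S[z] with z in degree one, the graded ring of the projective cone of S). Then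
there is a ring isomorphism S ≅ Ŝ_(z) onto the degree-zero localization at z, sending a homogeneous
a of degree n to φ(a)/z^n. (This is the isomorphism that identifies the affine cone Spec S with the
open D_+(z) of the projective cone Proj Ŝ; that identification itself is not asserted here.) -/
theorem result {R A : Type u} [CommRing R] [CommRing A] [Algebra R A] (𝒜 : ℕ → Submodule R A) [GradedAlgebra 𝒜]
    {B : Type u} [CommRing B] [Algebra R B] (ℬ : ℕ → Submodule R B) [GradedAlgebra ℬ]
    [Algebra A B] [IsScalarTower R A B] (φ : 𝒜 →+*ᵍ ℬ) (hφ : ∀ a : A, φ a = algebraMap A B a)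
    (z : B) (hz : z ∈ ℬ 1) (hhat : Function.Bijective (Polynomial.aeval (R := A) z)) :
    ∃ θ : A ≃+* HomogeneousLocalization.Away ℬ z,
      ∀ (n : ℕ) (a : A), a ∈ 𝒜 n → (θ a).val = Localization.mk (φ a) ⟨z ^ n, pow_mem (Submonoid.mem_powers z) n⟩ := by
  let e : Polynomial A ≃+* B := RingEquiv.ofBijective (Polynomial.aeval (R := A) z).toRingHom hhat
  let g : B →+* A := (Polynomial.evalRingHom 1).comp e.symm.toRingHom
  have hez : e.symm z = Polynomial.X := e.symm_apply_eq.mpr (by simp [e])
  have hea : ∀ a, e.symm (φ a) = Polynomial.C a := fun a => e.symm_apply_eq.mpr (by simp [e, hφ])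
  have hgz : g z = 1 := by simp [g, hez]
  let L : Localization.Away z →+* A := IsLocalization.Away.lift z (g := g) (by rw [hgz]; exact isUnit_one)
  let ψ : HomogeneousLocalization.Away ℬ z →+* A :=
    L.comp (algebraMap (HomogeneousLocalization.Away ℬ z) (Localization.Away z))
  have hψ : ∀ (n : ℕ) (b : B) (hb : b ∈ ℬ (n • 1)),
      ψ (HomogeneousLocalization.Away.mk ℬ hz n b hb) = g b := by
    intro n b hb
    have h1 : L (algebraMap B _ b) = g b := IsLocalization.Away.lift_eq _ _ _
    have h2 : L (algebraMap B _ (z ^ n)) = 1 := by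
      rw [IsLocalization.Away.lift_eq, map_pow, hgz, one_pow]
    show L (HomogeneousLocalization.val (HomogeneousLocalization.Away.mk ℬ hz n b hb)) = g b
    rw [HomogeneousLocalization.Away.val_mk, ← h1, Localization.mk_eq_mk']
    conv_lhs => rw [← mul_one (L _), ← h2, ← map_mul]
    exact congrArg L (IsLocalization.mk'_spec _ _ _)
  have hinj : Function.Injective ψ := by
    rw [injective_iff_map_eq_zero]
    intro x hx
    obtain ⟨n, b, hb, rfl⟩ := HomogeneousLocalization.Away.mk_surjective ℬ hz x
    rw [hψ] at hx
    have : e.symm b = 0 := Groth.Agent.EGA2G.cone_eq_zero φ hφ hz hhat (n := n • 1)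
      (by rw [show Polynomial.aeval z (e.symm b) = b from e.apply_symm_apply b]; exact hb) hx
    have hb0 : b = 0 := by rw [← e.apply_symm_apply b, this, map_zero]
    apply HomogeneousLocalization.val_injective
    simp [HomogeneousLocalization.Away.val_mk, hb0, Localization.mk_zero]
  have hsurj : Function.Surjective ψ := by
    intro a
    induction a using DirectSum.Decomposition.inductionOn 𝒜 with
    | zero => exact ⟨0, map_zero ψ⟩
    | @homogeneous i m =>
      refine ⟨HomogeneousLocalization.Away.mk ℬ hz i (φ m) (by rw [smul_eq_mul, mul_one]; exact φ.2 m.2), ?_⟩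
      rw [hψ]
      simp [g, hea]
    | add a b ha hb =>
      obtain ⟨x, rfl⟩ := ha
      obtain ⟨y, rfl⟩ := hb
      exact ⟨x + y, map_add ψ x y⟩
  refine ⟨(RingEquiv.ofBijective ψ ⟨hinj, hsurj⟩).symm, fun n a ha => ?_⟩
  have hmem : φ a ∈ ℬ (n • 1) := by rw [smul_eq_mul, mul_one]; exact φ.2 ha
  have : (RingEquiv.ofBijective ψ ⟨hinj, hsurj⟩).symm a = HomogeneousLocalization.Away.mk ℬ hz n (φ a) hmem := by
    rw [RingEquiv.symm_apply_eq]
    show a = ψ _
    rw [hψ]
    simp [g, hea]
  rw [this, HomogeneousLocalization.Away.val_mk]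

end Groth.Agent.S3593
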