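import Groth.Statements.S3594
import Groth.Agent.EGA2G.Cone
-- import your own Groth.Agent.* helpers here

set_option autoImplicit false
universe u
open CategoryTheory CategoryTheory.Limits AlgebraicGeometry
open EGA2

namespace Groth.Agent.S3594

/-- The closed immersion at infinity of a projective cone: let S be a graded R-algebra and Ŝ a graded
R-algebra over S such that the structure map φ : S → Ŝ is a graded homomorphism and Ŝ = S[z] is the
polynomial algebra on an element z of degree one (evaluation at z is a bijection S[T] → Ŝ); let ψ :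
Ŝ → S be a graded homomorphism retracting φ and killing z, with S₊ contained in the ideal generated
by ψ(Ŝ₊) so that j = Proj(ψ) : X = Proj S → Ĉ = Proj Ŝ is defined (it is the canonical closed
immersion). Then the image of j is exactly the complement of the open subset D₊(z) of Proj Ŝ (which
is the affine cone C = Spec S). -/
theorem result {R A : Type u} [CommRing R] [CommRing A] [Algebra R A] (𝒜 : ℕ → Submodule R A) [GradedAlgebra 𝒜]
    {B : Type u} [CommRing B] [Algebra R B] (ℬ : ℕ → Submodule R B) [GradedAlgebra ℬ]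
    [Algebra A B] [IsScalarTower R A B] (φ : 𝒜 →+*ᵍ ℬ) (hφ : ∀ a : A, φ a = algebraMap A B a)
    (z : B) (hz : z ∈ ℬ 1) (hhat : Function.Bijective (Polynomial.aeval (R := A) z))
    (ψ : ℬ →+*ᵍ 𝒜) (hψφ : ∀ a : A, ψ (φ a) = a) (hψz : ψ z = 0)
    (hψ : HomogeneousIdeal.irrelevant 𝒜 ≤ (HomogeneousIdeal.irrelevant ℬ).map ψ) :
    Set.range (Proj.map ψ hψ).base = ((Proj.basicOpen ℬ z : Set (Proj ℬ)))ᶜ := by
  ext x
  constructor
  · rintro ⟨y, rfl⟩ hy
    exact hy (show ψ z ∈ y.asHomogeneousIdeal by rw [hψz]; exact zero_mem _)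
  · intro hx
    have hzx : z ∈ x.asHomogeneousIdeal := not_not.mp hx
    have hmem : ∀ b, φ (ψ b) ∈ x.asHomogeneousIdeal ↔ b ∈ x.asHomogeneousIdeal := fun b => by
      have hd : b - φ (ψ b) ∈ x.asHomogeneousIdeal.toIdeal := Ideal.span_le.mpr
        (Set.singleton_subset_iff.mpr hzx) (Groth.Agent.EGA2G.cone_sub_mem_span φ hφ ψ hψφ hψz hhat b)
      exact ⟨fun h => by simpa using x.asHomogeneousIdeal.toIdeal.add_mem hd h,
        fun h => by simpa using x.asHomogeneousIdeal.toIdeal.sub_mem h hd⟩
    let P : Ideal A := x.asHomogeneousIdeal.toIdeal.comap (φ : A →+* B)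
    have hP : P.IsHomogeneous 𝒜 := fun i a ha => by
      have h := x.asHomogeneousIdeal.isHomogeneous i (show φ a ∈ x.asHomogeneousIdeal.toIdeal from ha)
      rw [← GradedRingHom.map_directSumDecompose] at h
      exact h
    have hrel : ¬ HomogeneousIdeal.irrelevant 𝒜 ≤ ⟨P, hP⟩ := fun h => x.not_irrelevant_le fun b hb => by
      refine (hmem b).mp (h (?_ : ψ b ∈ HomogeneousIdeal.irrelevant 𝒜))
      rw [HomogeneousIdeal.mem_irrelevant_iff, GradedRing.proj_apply] at hb ⊢
      rw [← GradedRingHom.map_directSumDecompose, hb, map_zero]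
    let y : ProjectiveSpectrum 𝒜 := ⟨⟨P, hP⟩, Ideal.IsPrime.comap _, hrel⟩
    refine ⟨y, ?_⟩
    apply ProjectiveSpectrum.ext
    apply HomogeneousIdeal.ext
    ext b
    exact hmem b

end Groth.Agent.S3594
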