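import Groth.Statements.S3621
import Groth.Agent.DualCx.Gorenstein
import Groth.Agent.DualCx.CMLocusSch

set_option autoImplicit false
set_option linter.style.haveILetI false
universe u
open CategoryTheory CategoryTheory.Limits AlgebraicGeometry
attribute [local instance] HasDerivedCategory.standard
open Dual3

namespace Groth.Agent.S3621

/-- Let X be a locally Noetherian scheme which has a dualizing complex (exactness instances as in the
definition of dualizing complexes on schemes). Then the set of points x of X whose local ring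
O_{X,x} is Gorenstein is open. -/
theorem result (X : Scheme.{u}) [IsLocallyNoetherian X] [∀ (U V : Scheme.{u}) (j : U ⟶ V) [IsOpenImmersion j], PreservesFiniteLimits (Scheme.Modules.restrictFunctor j)] [∀ (R : CommRingCat.{u}), PreservesFiniteLimits (tilde.functor R)] (K : DCoh.D X) (hK : Dual2.IsDualizingSch X K) : IsOpen {x : X | LocCoh.IsGorensteinLocalRing (X.presheaf.stalk x)} := by
  rw [isOpen_iff_forall_mem_open]
  intro x hx
  obtain ⟨R, j, hj, p, rfl, -⟩ := Groth.Agent.DCohBridge.exists_affine_chart (⊤ : X.Opens) x trivial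
  obtain ⟨ω', hω', -⟩ := hK R j
  haveI := hω'.isNoetherianRing
  have key : ∀ q : Spec R, LocCoh.IsGorensteinLocalRing (X.presheaf.stalk (j.base q)) ↔
      LocCoh.IsGorensteinLocalRing (Localization.AtPrime q.asIdeal) := fun q => by
    let : Algebra R ((Spec R).presheaf.stalk q) := StructureSheaf.stalkAlgebra (↑R) q
    haveI : IsLocalization.AtPrime ((Spec R).presheaf.stalk q) q.asIdeal :=
      StructureSheaf.IsLocalization.to_stalk R q
    let e₁ : X.presheaf.stalk (j.base q) ≃+* (Spec R).presheaf.stalk q :=
      (asIso (j.stalkMap q)).commRingCatIsoToRingEquiv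
    let e₂ : (Spec R).presheaf.stalk q ≃+* Localization.AtPrime q.asIdeal :=
      (IsLocalization.algEquiv q.asIdeal.primeCompl _ _).toRingEquiv
    haveI : IsNoetherianRing (Localization.AtPrime q.asIdeal) :=
      IsLocalization.isNoetherianRing q.asIdeal.primeCompl _ inferInstance
    haveI : IsNoetherianRing (X.presheaf.stalk (j.base q)) := isNoetherianRing_of_ringEquiv _ (e₁.trans e₂).symm
    exact ⟨fun h => Groth.Agent.GorenSG.gorenstein_of_ringEquiv (e₁.trans e₂).symm h,
      fun h => Groth.Agent.GorenSG.gorenstein_of_ringEquiv (e₁.trans e₂) h⟩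
  refine ⟨j.base '' {q : Spec R | LocCoh.IsGorensteinLocalRing (Localization.AtPrime q.asIdeal)}, ?_,
    j.isOpenEmbedding.isOpenMap _ (Groth.Agent.DualCx.isOpen_gorenstein hω'), p, (key p).mp hx, rfl⟩
  rintro _ ⟨q, hq, rfl⟩
  exact (key q).mpr hq

end Groth.Agent.S3621
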