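import Groth.Statements.S3623
import Groth.Agent.CIPres.Gorenstein


set_option autoImplicit false
universe u
open CategoryTheory CategoryTheory.Limits AlgebraicGeometry
attribute [local instance] HasDerivedCategory.standard
open Dual3

namespace Groth.Agent.S3623

/-- Let f : Y → X be a local complete intersection morphism (affine-locally given by local complete
intersection ring maps) with X a Gorenstein scheme. Then Y is a Gorenstein scheme. -/
theorem result (Y X : Scheme.{u}) (f : Y ⟶ X) (hf : Dual3.IsLCIMor f) (hX : Dual3.IsGorenstein X) : Dual3.IsGorenstein Y := by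
  haveI := hX.1
  have key : ∀ (Z : Scheme.{u}) (W : Z.Opens) (hW : IsAffineOpen W) (z : Z) (hz : z ∈ W),
      Nonempty (Localization.AtPrime (hW.primeIdealOf ⟨z, hz⟩).asIdeal ≃+* Z.presheaf.stalk z) := by
    intro Z W hW z hz
    letI : Algebra Γ(Z, W) (Z.presheaf.stalk z) := (Z.presheaf.germ W z hz).hom.toAlgebra
    haveI : IsLocalization.AtPrime (Z.presheaf.stalk z) (hW.primeIdealOf ⟨z, hz⟩).asIdeal :=
      hW.isLocalization_stalk ⟨z, hz⟩
    exact ⟨(IsLocalization.algEquiv (hW.primeIdealOf ⟨z, hz⟩).asIdeal.primeCompl _ (Z.presheaf.stalk z)).toRingEquiv⟩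
  haveI : LocallyOfFiniteType f := by
    refine (HasRingHomProperty.iff_exists_appLE (P := @LocallyOfFiniteType)
      (RingHom.finiteType_stableUnderComposition.stableUnderCompositionWithLocalizationAway RingHom.finiteType_holdsForLocalizationAway).1).2 ?_
    intro x
    obtain ⟨U, V, e, hx, h⟩ := hf x
    exact ⟨V, U, hx, e, h.1⟩
  haveI : IsLocallyNoetherian Y := LocallyOfFiniteType.isLocallyNoetherian f
  refine ⟨inferInstance, fun x => ?_⟩
  obtain ⟨⟨U, hU⟩, ⟨V, hV⟩, e, hx, h⟩ := hf x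
  haveI : IsNoetherianRing Γ(X, V) := IsLocallyNoetherian.component_noetherian ⟨V, hV⟩
  haveI : LocCoh.IsGorensteinRing Γ(X, V) := ⟨fun p _ => by
    have hz : hV.fromSpec ⟨p, ‹_›⟩ ∈ V := hV.range_fromSpec.le ⟨_, rfl⟩
    have hq : hV.primeIdealOf ⟨_, hz⟩ = ⟨p, ‹_›⟩ :=
      hV.fromSpec.isOpenEmbedding.injective (IsAffineOpen.fromSpec_primeIdealOf hV ⟨_, hz⟩)
    have aux : ∀ q : PrimeSpectrum Γ(X, V), hV.primeIdealOf ⟨_, hz⟩ = q →
        LocCoh.IsGorensteinLocalRing (Localization.AtPrime q.asIdeal) := by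
      rintro q rfl
      obtain ⟨u⟩ := key X V hV _ hz
      exact Groth.Agent.GorenSG.gorenstein_of_ringEquiv u (hX.2 _)
    exact aux ⟨p, ‹_›⟩ hq⟩
  letI := (f.appLE V U e).hom.toAlgebra
  haveI := Groth.Agent.CIPres.isGorensteinRing_of_isLCI Γ(X, V) Γ(Y, U) h
  obtain ⟨u⟩ := key Y U hU x hx
  exact Groth.Agent.GorenSG.gorenstein_of_ringEquiv u.symm (LocCoh.IsGorensteinRing.isGorensteinLocalRing_localization _)

end Groth.Agent.S3623
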