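import Groth.Statements.S3624
import Groth.Agent.GorenBasic.FlatLocal
import Groth.Agent.GorenBasic.Basic
import Groth.Agent.GorenBasic.TrivialFibre
import Groth.Agent.FlatLocalDepth.FibreStalk
-- import your own Groth.Agent.* helpers here

set_option autoImplicit false
universe u
open CategoryTheory CategoryTheory.Limits AlgebraicGeometry
attribute [local instance] HasDerivedCategory.standard
open Dual3

namespace Groth.Agent.S3624

/-- Let f : X → Y be a flat morphism of locally Noetherian schemes with X Gorenstein. Then f is a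
Gorenstein morphism (flat with Gorenstein local rings of fibres at every point) and the local ring
O_{Y, f(x)} is Gorenstein for every point x of X. -/
theorem result (X Y : Scheme.{u}) [IsLocallyNoetherian Y] (f : X ⟶ Y) [Flat f] (hX : Dual3.IsGorenstein X) : Dual3.IsGorensteinMor f ∧ ∀ x : X, LocCoh.IsGorensteinLocalRing (Y.presheaf.stalk (f x)) := by
  obtain ⟨hX1, hX2⟩ := hX
  have key : ∀ x : X, LocCoh.IsGorensteinLocalRing (Y.presheaf.stalk (f x)) ∧
      LocCoh.IsGorensteinLocalRing ((f.fiber (f x)).presheaf.stalk (f.asFiber x)) := fun x => by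
    letI := (f.stalkMap x).hom.toAlgebra
    haveI : Module.Flat (Y.presheaf.stalk (f x)) (X.presheaf.stalk x) := Flat.stalkMap f x
    haveI : IsLocalHom (algebraMap (Y.presheaf.stalk (f x)) (X.presheaf.stalk x)) :=
      inferInstanceAs (IsLocalHom (f.stalkMap x).hom)
    obtain ⟨hA, hF⟩ := (GorenBasic.isGorensteinLocalRing_iff_flat (A := Y.presheaf.stalk (f x))
      (B := X.presheaf.stalk x)).1 (hX2 x)
    obtain ⟨e⟩ := FlatLocalDepth.nonempty_asFiber_stalk_equiv f x
    exact ⟨hA, GorenSG.gorenstein_of_ringEquiv e.symm hF⟩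
  exact ⟨fun x => ⟨Flat.stalkMap f x, (key x).2⟩, fun x => (key x).1⟩
end Groth.Agent.S3624
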