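import Groth.Statements.S3630
import Groth.Agent.DCohBridge.PushProj
import Groth.Agent.DCohBridge.PushDerived
import Mathlib.CategoryTheory.Adjunction.AdjointFunctorTheorems
import Mathlib.CategoryTheory.Abelian.Subobject
-- import your own Groth.Agent.* helpers here

set_option autoImplicit false
universe u
open CategoryTheory CategoryTheory.Limits AlgebraicGeometry
attribute [local instance] HasDerivedCategory.standard
open Dual3

namespace Groth.Agent.S3630

open CategoryTheory CategoryTheory.Limits AlgebraicGeometry

/-- For a closed immersion of schemes i : Z → X. The direct image functor i_* from O_Z-modules to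
O_X-modules is a left adjoint: it has a right adjoint, the functor sending F to the O_Z-module of
sections of F annihilated by the ideal of Z. -/
theorem result (Z X : Scheme.{u}) (i : Z ⟶ X) [IsClosedImmersion i] : Dual3.HasHomO i := by
  haveI : PreservesColimitsOfSize.{u, u} (Scheme.Modules.pushforward i) := by
    constructor
    intro J _
    constructor
    intro D
    haveI : ∀ y : X, PreservesColimitsOfSize.{u, u} (DerSch.stalkFunctor X y) := fun y => inferInstance
    haveI : ∀ y : X, PreservesColimit D (Scheme.Modules.pushforward i ⋙ DerSch.stalkFunctor X y) := fun y => by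
      by_cases hy : y ∈ Set.range i.base
      · obtain ⟨x, rfl⟩ := hy
        exact preservesColimit_of_natIso D (DCohBridge.pushStalkIso i x).symm
      · exact ⟨fun {c} hc => ⟨{
          desc := fun s => 0
          fac := fun s j => (DCohBridge.isZero_stalk_push_of_notMem i hy _).eq_of_src _ _
          uniq := fun s m _ => (DCohBridge.isZero_stalk_push_of_notMem i hy _).eq_of_src _ _ }⟩⟩
    exact DCohBridge.preservesColimit_of_stalk D (Scheme.Modules.pushforward i)
  haveI : IsGrothendieckAbelian.{u} Z.Modules := inferInstance
  haveI : HasColimitsOfSize.{u, u} Z.Modules := inferInstance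
  haveI : WellPowered.{u} (Z.Modules)ᵒᵖ := inferInstance
  exact isLeftAdjoint_of_preservesColimits_of_isSeparating (isSeparator_separator Z.Modules) _


end Groth.Agent.S3630
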