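import Groth.Statements.S3653
import Mathlib

set_option autoImplicit false
universe u
open CategoryTheory CategoryTheory.Limits AlgebraicGeometry
attribute [local instance] HasDerivedCategory.standard
open Dual3


namespace Groth.Agent.S3653

set_option backward.isDefEq.respectTransparency false
set_option backward.defeqAttrib.useBackward true

section Abstract

universe v₁ v₂ v₃ v₄ u₁ u₂ u₃ u₄

variable {A : Type u₁} [Category.{v₁} A] {B : Type u₂} [Category.{v₂} B]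
  {A' : Type u₃} [Category.{v₃} A'] {B' : Type u₄} [Category.{v₄} B']
  {Rf : A ⥤ B} {Rf' : A' ⥤ B'} {Rg : B' ⥤ B} {Rg' : A' ⥤ A} {a : B ⥤ A} {a' : B' ⥤ A'}
  {Lg : B ⥤ B'} {Lg' : A ⥤ A'}
  (adj : Rf ⊣ a) (adj' : Rf' ⊣ a') (adjg : Lg ⊣ Rg) (adjg' : Lg' ⊣ Rg')
  (e : Rg' ⋙ Rf ≅ Rf' ⋙ Rg)

lemma trace_compat (K : B) (ξ : Rg'.obj (a'.obj (Lg.obj K)) ⟶ a.obj (Rg.obj (Lg.obj K))) [IsIso ξ]
    (hξ : ξ = adj.homEquiv _ _ (e.hom.app (a'.obj (Lg.obj K)) ≫ Rg.map (adj'.counit.app (Lg.obj K)))) :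
    (adjg.homEquiv _ _).symm (Rf.map (adjg'.unit.app (a.obj K)) ≫ e.hom.app (Lg'.obj (a.obj K))) ≫
      Rf'.map (Lg'.map (a.map (adjg.unit.app K)) ≫ Lg'.map (inv ξ) ≫ adjg'.counit.app (a'.obj (Lg.obj K))) ≫
        adj'.counit.app (Lg.obj K) = Lg.map (adj.counit.app K) := by
  apply (adjg.homEquiv _ _).injective
  rw [Adjunction.homEquiv_naturality_right, Equiv.apply_symm_apply]
  set α := Lg'.map (a.map (adjg.unit.app K)) ≫ Lg'.map (inv ξ) ≫ adjg'.counit.app (a'.obj (Lg.obj K))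
  have hα : adjg'.unit.app (a.obj K) ≫ Rg'.map α = a.map (adjg.unit.app K) ≫ inv ξ := by
    have : α = (adjg'.homEquiv _ _).symm (a.map (adjg.unit.app K) ≫ inv ξ) := by
      simp [α, Adjunction.homEquiv_counit]
    rw [this]; exact (adjg'.homEquiv_unit _ _ _).symm.trans (Equiv.apply_symm_apply _ _)
  have hn : Rf.map (Rg'.map α) ≫ e.hom.app (a'.obj (Lg.obj K)) = e.hom.app _ ≫ Rg.map (Rf'.map α) :=
    e.hom.naturality α
  have hξ' : Rf.map ξ ≫ adj.counit.app _ = e.hom.app _ ≫ Rg.map (adj'.counit.app (Lg.obj K)) := by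
    rw [hξ]; exact (adj.homEquiv_counit _ _ _).symm.trans (Equiv.symm_apply_apply _ _)
  rw [Category.assoc, Functor.map_comp, ← reassoc_of% hn, ← hξ', ← Rf.map_comp_assoc, ← Rf.map_comp_assoc, hα,
    Category.assoc, IsIso.inv_hom_id, Category.comp_id]
  exact (adj.counit.naturality (adjg.unit.app K)).trans
    ((adjg.unit.naturality (adj.counit.app K)).trans (adjg.homEquiv_unit _ _ _).symm)

end Abstract

/-- Consider a cartesian square X' = Y' ×_Y X of quasi-compact quasi-separated schemes with f or g flat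
(a Tor independent square), derived direct images and derived pullbacks on D_QCoh with adjunctions
Lg^* ⊣ Rg_*, Lg'^* ⊣ Rg'_*, right adjoints a of Rf_* and a' of Rf'_*, and an identification e : Rf_*
∘ Rg'_* ≅ Rg_* ∘ Rf'_* for which ξ : Rg'_* a' → a Rg_* is an isomorphism. Let β : Lg^* Rf_* → Rf'_*
Lg'^* and α : Lg'^* a → a' Lg^* be the base change maps built from these data and Tr_f : Rf_* a →
id, Tr_{f'} : Rf'_* a' → id the counits. Then for every K in D_QCoh(O_Y): β_{a(K)} followed by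
Rf'_*(α_K) followed by Tr_{f'} at Lg^*K equals Lg^*(Tr_{f,K}). -/
theorem result (X Y X' Y' : Scheme.{u}) [CompactSpace X] [QuasiSeparatedSpace X] [CompactSpace Y] [QuasiSeparatedSpace Y] [CompactSpace X'] [QuasiSeparatedSpace X'] [CompactSpace Y'] [QuasiSeparatedSpace Y'] (f : X ⟶ Y) (g : Y' ⟶ Y) (f' : X' ⟶ Y') (g' : X' ⟶ X) (hsq : IsPullback g' f' f g) (hflat : Flat f ∨ Flat g) [DCoh.HasRpush f] [DCoh.HasRpush f'] [DCoh.HasRpush g] [DCoh.HasRpush g'] (hf : DCoh.RpushPreservesQCoh f) (hf' : DCoh.RpushPreservesQCoh f') (hg : DCoh.RpushPreservesQCoh g) (hg' : DCoh.RpushPreservesQCoh g') (a : DCoh.DQCoh Y ⥤ DCoh.DQCoh X) (a' : DCoh.DQCoh Y' ⥤ DCoh.DQCoh X') (adj : DCoh.RpushQ f hf ⊣ a) (adj' : DCoh.RpushQ f' hf' ⊣ a') [DCoh.HasLpull g] [DCoh.HasLpull g'] (hLg : Dual3.LpullPreservesQCoh g) (hLg' : Dual3.LpullPreservesQCoh g') (adjg : Dual3.LpullQ g hLg ⊣ DCoh.RpushQ g hg) (adjg' : Dual3.LpullQ g' hLg'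 ⊣ DCoh.RpushQ g' hg') (e : (DCoh.RpushQ g' hg' ⋙ DCoh.RpushQ f hf ≅ DCoh.RpushQ f' hf' ⋙ DCoh.RpushQ g hg)) (hξ : ∀ M : DCoh.DQCoh Y', IsIso (Dual3.xi adj adj' e M)) (K : DCoh.DQCoh Y) : Dual3.bcPush e adjg adjg' (a.obj K) ≫ (DCoh.RpushQ f' hf').map (Dual3.bcMap adj adj' e adjg adjg' K (hξ _)) ≫ adj'.counit.app ((Dual3.LpullQ g hLg).obj K) = (Dual3.LpullQ g hLg).map (adj.counit.app K) := by
  exact @trace_compat _ _ _ _ _ _ _ _ _ _ _ _ _ _ _ _ adj adj' adjg adjg' e K _ (hξ _) rfl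

end Groth.Agent.S3653
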