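import Groth.Statements.S3654
import Mathlib

set_option autoImplicit false
universe u
open CategoryTheory CategoryTheory.Limits AlgebraicGeometry
attribute [local instance] HasDerivedCategory.standard
open Dual3


namespace Groth.Agent.S3654

set_option backward.isDefEq.respectTransparency false
set_option backward.defeqAttrib.useBackward true

section Abstract

universe v₁ v₂ v₃ v₄ u₁ u₂ u₃ u₄

variable {A : Type u₁} [Category.{v₁} A] {B : Type u₂} [Category.{v₂} B]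
  {A' : Type u₃} [Category.{v₃} A'] {B' : Type u₄} [Category.{v₄} B']
  {Rf : A ⥤ B} {Rf' : A' ⥤ B'} {Rg : B' ⥤ B} {Rg' : A' ⥤ A} {a : B ⥤ A} {a' : B' ⥤ A'}
  {Lg : B ⥤ B'} {Lg' : A ⥤ A'}
  (adj : Rf ⊣ a) (adj' : Rf' ⊣ a') (adjg : Lg ⊣ Rg) (adjg' : Lg' ⊣ Rg')
  (e : Rg' ⋙ Rf ≅ Rf' ⋙ Rg)

lemma unit_compat (ξ : ∀ M : B', Rg'.obj (a'.obj M) ⟶ a.obj (Rg.obj M))
    (hξ : ∀ M, ξ M = adj.homEquiv _ _ (e.hom.app (a'.obj M) ≫ Rg.map (adj'.counit.app M))) (hi : ∀ M, IsIso (ξ M)) (M : A) :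
    adj'.unit.app (Lg'.obj M) = Lg'.map (adj.unit.app M) ≫
      (Lg'.map (a.map (adjg.unit.app (Rf.obj M))) ≫ Lg'.map (inv (ξ (Lg.obj (Rf.obj M)))) ≫
        adjg'.counit.app (a'.obj (Lg.obj (Rf.obj M)))) ≫
      a'.map ((adjg.homEquiv _ _).symm (Rf.map (adjg'.unit.app M) ≫ e.hom.app (Lg'.obj M))) := by
  haveI := hi
  set β := (adjg.homEquiv _ _).symm (Rf.map (adjg'.unit.app M) ≫ e.hom.app (Lg'.obj M))
  have hβ : adjg.unit.app (Rf.obj M) ≫ Rg.map β = Rf.map (adjg'.unit.app M) ≫ e.hom.app (Lg'.obj M) := by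
    simp [β, ← Adjunction.homEquiv_unit]
  have hnat : ∀ {M₁ M₂ : B'} (h : M₁ ⟶ M₂), Rg'.map (a'.map h) ≫ ξ M₂ = ξ M₁ ≫ a.map (Rg.map h) := fun {M₁ M₂} h => by
    rw [hξ, hξ, ← Adjunction.homEquiv_naturality_left, ← Adjunction.homEquiv_naturality_right]
    refine congrArg _ ?_
    rw [Category.assoc, ← Rg.map_comp]
    erw [← adj'.counit_naturality h]
    rw [Rg.map_comp]
    exact (Category.assoc _ _ _).symm.trans ((congrArg (· ≫ _) (e.hom.naturality (a'.map h))).trans (Category.assoc _ _ _))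
  apply (adjg'.homEquiv _ _).injective
  have hR : Lg'.map (adj.unit.app M) ≫
      (Lg'.map (a.map (adjg.unit.app (Rf.obj M))) ≫ Lg'.map (inv (ξ (Lg.obj (Rf.obj M)))) ≫
        adjg'.counit.app (a'.obj (Lg.obj (Rf.obj M)))) ≫ a'.map β =
      (adjg'.homEquiv _ _).symm (adj.unit.app M ≫ a.map (adjg.unit.app (Rf.obj M)) ≫
        inv (ξ (Lg.obj (Rf.obj M))) ≫ Rg'.map (a'.map β)) := by
    simp [Adjunction.homEquiv_counit, Category.assoc]
  refine Eq.trans ?_ (congrArg _ hR.symm)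
  refine ((adjg'.homEquiv_unit _ _ _).trans ?_).trans (Equiv.apply_symm_apply _ _).symm
  change adjg'.unit.app M ≫ Rg'.map (adj'.unit.app (Lg'.obj M)) = _
  rw [← cancel_mono (ξ (Rf'.obj (Lg'.obj M)))]
  simp only [Category.assoc, hnat, IsIso.inv_hom_id_assoc]
  rw [← a.map_comp, hβ, hξ, ← Adjunction.homEquiv_naturality_left, ← Adjunction.homEquiv_naturality_left,
    Adjunction.homEquiv_unit]
  refine congrArg (fun q => adj.unit.app M ≫ a.map q) ?_
  refine congrArg (Rf.map (adjg'.unit.app M) ≫ ·) ?_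
  refine (Category.assoc _ _ _).symm.trans ((congrArg (· ≫ _) (e.hom.naturality (adj'.unit.app (Lg'.obj M)))).trans ?_)
  refine (Category.assoc _ _ _).trans ?_
  change e.hom.app _ ≫ Rg.map (Rf'.map (adj'.unit.app _)) ≫ Rg.map (adj'.counit.app _) = _
  rw [← Rg.map_comp]
  refine (congrArg (fun q => e.hom.app _ ≫ Rg.map q) (adj'.left_triangle_components (Lg'.obj M))).trans ?_
  exact (congrArg (e.hom.app _ ≫ ·) (Rg.map_id _)).trans (Category.comp_id _)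

end Abstract

/-- Let X, Y, X', Y' be quasi-compact quasi-separated schemes and f : X → Y, g : Y' → Y, f' : X' → Y',
g' : X' → X morphisms forming a cartesian square (X' = Y' ×_Y X), with f flat or g flat. Assume the
derived pushforwards Rf_*, Rf'_*, Rg_*, Rg'_* exist and preserve D_QCoh, that Lg^* and Lg'^*
preserve D_QCoh and are left adjoint to Rg_* and Rg'_* on D_QCoh, let a : D_QCoh(O_Y) → D_QCoh(O_X)
and a' : D_QCoh(O_{Y'}) → D_QCoh(O_{X'}) be right adjoints of Rf_* and Rf'_*, fix an isomorphism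
Rf_* ∘ Rg'_* ≅ Rg_* ∘ Rf'_*, and assume the comparison maps ξ_N built from these data are
isomorphisms for all N in D_QCoh(O_{Y'}), so that the base change map α : Lg'^* ∘ a → a' ∘ Lg^* is
defined; let β_M : Lg^* Rf_* M → Rf'_* Lg'^* M denote the base change map for pushforward. Let η_f :
id → a Rf_* and η_{f'} : id → a' Rf'_* be the units. Then for every M in D_QCoh(O_X): η_{f'} at
Lg'^*M equals Lg'^*(η_{f,M}) followed by the base change map α at Rf_*M followed by a'(β_M). -/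
theorem result (X Y X' Y' : Scheme.{u}) [CompactSpace X] [QuasiSeparatedSpace X] [CompactSpace Y] [QuasiSeparatedSpace Y] [CompactSpace X'] [QuasiSeparatedSpace X'] [CompactSpace Y'] [QuasiSeparatedSpace Y'] (f : X ⟶ Y) (g : Y' ⟶ Y) (f' : X' ⟶ Y') (g' : X' ⟶ X) (hsq : IsPullback g' f' f g) (hflat : Flat f ∨ Flat g) [DCoh.HasRpush f] [DCoh.HasRpush f'] [DCoh.HasRpush g] [DCoh.HasRpush g'] (hf : DCoh.RpushPreservesQCoh f) (hf' : DCoh.RpushPreservesQCoh f') (hg : DCoh.RpushPreservesQCoh g) (hg' : DCoh.RpushPreservesQCoh g') (a : DCoh.DQCoh Y ⥤ DCoh.DQCoh X) (a' : DCoh.DQCoh Y' ⥤ DCoh.DQCoh X') (adj : DCoh.RpushQ f hf ⊣ a) (adj' : DCoh.RpushQ f' hf' ⊣ a') [DCoh.HasLpull g] [DCoh.HasLpull g'] (hLg : Dual3.LpullPreservesQCoh g) (hLg' : Dual3.LpullPreservesQCoh g') (adjg : Dual3.LpullQ g hLg ⊣ DCoh.RpushQ g hg) (adjg' : Dual3.LpullQ g' hLg' ⊣ DCoh.RpushQ g' hg') (e : (DCoh.RpushQ g' hg' ⋙ DCoh.RpushQ f hf ≅ DCoh.RpushQ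 f' hf' ⋙ DCoh.RpushQ g hg)) (hξ : ∀ M : DCoh.DQCoh Y', IsIso (Dual3.xi adj adj' e M)) (M : DCoh.DQCoh X) : adj'.unit.app ((Dual3.LpullQ g' hLg').obj M) = (Dual3.LpullQ g' hLg').map (adj.unit.app M) ≫ Dual3.bcMap adj adj' e adjg adjg' ((DCoh.RpushQ f hf).obj M) (hξ _) ≫ a'.map (Dual3.bcPush e adjg adjg' M) := by
  exact @unit_compat _ _ _ _ _ _ _ _ _ _ _ _ _ _ _ _ adj adj' adjg adjg' e _ (fun _ => rfl) hξ M

end Groth.Agent.S3654
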