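import Groth.Statements.S3675
import Groth.Agent.S1809
import Groth.Agent.QCohBase.Support

set_option autoImplicit false
set_option linter.style.haveILetI false
universe u
open CategoryTheory CategoryTheory.Limits AlgebraicGeometry
attribute [local instance] HasDerivedCategory.standard
open Dual3

namespace Groth.Agent.S3675

/-- Let X be a locally Noetherian scheme (exactness instances as in the definition of dualizing
complexes) and ω a coherent O_X-module such that ω[0] is a dualizing complex on X. Then X is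
Cohen–Macaulay: every local ring O_{X,x} is a Cohen–Macaulay local ring. -/
theorem result (X : Scheme.{u}) [IsLocallyNoetherian X] [∀ (U V : Scheme.{u}) (j : U ⟶ V) [IsOpenImmersion j], PreservesFiniteLimits (Scheme.Modules.restrictFunctor j)] [∀ (R : CommRingCat.{u}), PreservesFiniteLimits (tilde.functor R)] (ω : X.Modules) (hω : Coh.IsCoh ω) (hD : Dual2.IsDualizingSch X (DCoh.inD X ω)) (x : X) : LocCoh.IsCohenMacaulayLocalRing (X.presheaf.stalk x) := by
  refine ((Groth.Agent.S1809.result X (DCoh.inD X ω) hD).1 x).mpr ?_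
  have hzero : ∀ i : ℤ, i ≠ 0 → IsZero (DCoh.HD (DCoh.inD X ω) i) := fun i hi => by
    rcases lt_or_gt_of_ne hi with h | h
    · exact DerivedCategory.isZero_of_isGE _ 0 i h
    · exact DerivedCategory.isZero_of_isLE _ 0 i h
  have hne : ∃ i : ℤ, Nontrivial ((DCoh.HD (DCoh.inD X ω) i).presheaf.stalk x) := by
    obtain ⟨R, j, hj, p, rfl, -⟩ := DCohBridge.exists_affine_chart (⊤ : X.Opens) x trivial
    obtain ⟨ω', hω', ⟨e⟩⟩ := hD R j
    haveI := hω'.isNoetherianRing
    obtain ⟨q, hq, hqr⟩ := Ideal.exists_minimalPrimes_le (bot_le : (⊥ : Ideal R) ≤ p.asIdeal)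
    let Q : PrimeSpectrum R := ⟨q, hq.1.1⟩
    have hQA : Q ∈ Module.support R R := by
      rw [Module.mem_support_iff_of_finite, Module.annihilator_eq_bot.mpr inferInstance]; exact bot_le
    have h1 := DualCx.mem_support_T_tdeg hω' Q R
      (fun r' _ hle => PrimeSpectrum.ext (le_antisymm hle (hq.2 ⟨r'.isPrime, bot_le⟩ hle))) hQA
    rw [(DualCx.evSelf (ω := ω') _).support_eq] at h1
    exact ⟨_, ((DualCx.chart_iff (DCoh.inD X ω) j ω' hω' e p).1 _).mpr
      (Module.mem_support_mono (show Q ≤ p from hqr) h1)⟩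
  obtain ⟨i, hi⟩ := hne
  have h0 : ∀ i : ℤ, Nontrivial ((DCoh.HD (DCoh.inD X ω) i).presheaf.stalk x) → i = 0 := fun i hi => by
    by_contra hne
    exact not_subsingleton_iff_nontrivial.mpr hi (QCohBase.subsingleton_stalk_of_isZero (hzero i hne) x)
  exact ⟨0, h0 i hi ▸ hi, h0⟩

end Groth.Agent.S3675
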