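import Groth.Statements.S3707
-- import your own Groth.Agent.* helpers here

set_option autoImplicit false
universe u
open SGA1

namespace Groth.Agent.S3707

open AlgebraicGeometry CategoryTheory CategoryTheory.Limits in
/-- Let g : S' -> S be a surjective morphism of schemes, X and Y schemes over S with Y unramified over S
(formally unramified and locally of finite type), and X', Y' their base changes to S'. Then the map
sending an S-morphism X -> Y to the induced S'-morphism X' -> Y' is injective. -/
theorem result {S S' X Y : Scheme.{u}} (g : S' ⟶ S) [Surjective g]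
    (p : X ⟶ S) (q : Y ⟶ S) [FormallyUnramified q] [LocallyOfFiniteType q]
    (u v : X ⟶ Y) (hu : p ≫ 𝟙 S = u ≫ q) (hv : p ≫ 𝟙 S = v ≫ q)
    (h : pullback.map p g q g u (𝟙 S') (𝟙 S) hu ((Category.comp_id _).trans (Category.id_comp _).symm) =
      pullback.map p g q g v (𝟙 S') (𝟙 S) hv ((Category.comp_id _).trans (Category.id_comp _).symm)) :
    u = v := by
  haveI : IsOpenImmersion (pullback.diagonal q) := inferInstance
  have huv : u ≫ q = v ≫ q := hu.symm.trans hv
  let d := pullback.lift u v huv
  let j := pullback.snd (pullback.diagonal q) d
  haveI : IsOpenImmersion j := MorphismProperty.pullback_snd _ _ inferInstance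
  have hfst : pullback.fst p g ≫ u = pullback.fst p g ≫ v := by
    have := congrArg (· ≫ pullback.fst q g) h
    exact (pullback.lift_fst _ _ _).symm.trans (this.trans (pullback.lift_fst _ _ _))
  let l : pullback p g ⟶ pullback (pullback.diagonal q) d := pullback.lift (pullback.fst p g ≫ u) (pullback.fst p g) (by
    refine pullback.hom_ext ?_ ?_ <;> simp [d, pullback.lift_fst, pullback.lift_snd, hfst])
  haveI : Surjective j := ⟨fun x => by
    obtain ⟨x', rfl⟩ := (pullback.fst p g).surjective x
    exact ⟨l x', by rw [← Scheme.Hom.comp_apply, pullback.lift_snd]⟩⟩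
  haveI : IsIso j := (isIso_iff_isOpenImmersion_and_epi_base j).mpr ⟨inferInstance, (TopCat.epi_iff_surjective _).mpr j.surjective⟩
  have hc := pullback.condition (f := pullback.diagonal q) (g := d)
  have h1 : pullback.fst (pullback.diagonal q) d = j ≫ u := by
    have := congrArg (· ≫ pullback.fst q q) hc
    simpa [d, j, Category.assoc, pullback.lift_fst] using this.trans ((Category.assoc _ _ _).trans (congrArg (j ≫ ·) (pullback.lift_fst u v huv)))
  have h2 : pullback.fst (pullback.diagonal q) d = j ≫ v := by
    have := congrArg (· ≫ pullback.snd q q) hc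
    simpa [d, j, Category.assoc, pullback.lift_snd] using this.trans ((Category.assoc _ _ _).trans (congrArg (j ≫ ·) (pullback.lift_snd u v huv)))
  exact (cancel_epi j).mp (h1.symm.trans h2)

end Groth.Agent.S3707
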