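import Groth.Statements.S3709
import Groth.Agent.SubmDesc.Basic

set_option autoImplicit false
universe u
open SGA1

namespace Groth.Agent.S3709

open AlgebraicGeometry CategoryTheory CategoryTheory.Limits

set_option backward.isDefEq.respectTransparency.types false in
theorem cocycle {S S' X Y : Scheme.{u}} (g : S' ⟶ S) (p : X ⟶ S) (t : pullback p g ⟶ Y)
    (h : pullback.map p (pullback.fst g g ≫ g) p g (𝟙 X) (pullback.fst g g) (𝟙 S)
        ((Category.comp_id _).trans (Category.id_comp _).symm) (Category.comp_id _) ≫ t =
      pullback.map p (pullback.fst g g ≫ g) p g (𝟙 X) (pullback.snd g g) (𝟙 S)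
        ((Category.comp_id _).trans (Category.id_comp _).symm) ((Category.comp_id _).trans pullback.condition) ≫ t)
    {T : Scheme.{u}} (a b : T ⟶ pullback p g) (hab : a ≫ pullback.fst p g = b ≫ pullback.fst p g) :
    a ≫ t = b ≫ t := by
  have h₁ : (a ≫ pullback.snd p g) ≫ g = (b ≫ pullback.snd p g) ≫ g := by
    rw [Category.assoc, Category.assoc, ← pullback.condition, reassoc_of% hab]
  let c₂ : T ⟶ pullback g g := pullback.lift _ _ h₁
  have h₂ : (a ≫ pullback.fst p g) ≫ p = c₂ ≫ pullback.fst g g ≫ g := by
    rw [pullback.lift_fst_assoc, Category.assoc, Category.assoc, pullback.condition]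
  let c : T ⟶ pullback p (pullback.fst g g ≫ g) := pullback.lift _ c₂ h₂
  have := congr(c ≫ $h)
  simp only [← Category.assoc] at this
  convert this using 2
  · apply pullback.hom_ext
    · rw [Category.assoc, pullback.map, pullback.lift_fst, Category.comp_id, pullback.lift_fst]
    · rw [Category.assoc, pullback.map, pullback.lift_snd, ← Category.assoc, pullback.lift_snd, pullback.lift_fst]
  · apply pullback.hom_ext
    · rw [Category.assoc, pullback.map, pullback.lift_fst, Category.comp_id, pullback.lift_fst]; exact hab.symm
    · rw [Category.assoc, pullback.map, pullback.lift_snd, ← Category.assoc, pullback.lift_snd, pullback.lift_snd]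


open AlgebraicGeometry CategoryTheory CategoryTheory.Limits in
/-- A universally submersive morphism is a descent morphism for etale schemes (exactness of Hom_S(X, Y)
-> Hom_S'(X', Y') => Hom_S''(X'', Y'')): let g : S' -> S be universally submersive, X and Y schemes
over S with Y etale over S, X' and Y' their base changes along g, and f' : X' -> Y' an S'-morphism
whose two pullbacks to S'' = S' x_S S' coincide (equivalently: the two composites X'' -> X' -> Y' ->
Y along the two projections agree). Then there is exactly one S-morphism u : X -> Y whose base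
change is f'. -/
theorem result {S S' X Y : Scheme.{u}} (g : S' ⟶ S) (hg : SGA1.UnivSubmersive g)
    (p : X ⟶ S) (q : Y ⟶ S) [Etale q]
    (f' : pullback p g ⟶ pullback q g) (hf' : f' ≫ pullback.snd q g = pullback.snd p g)
    (hcoc : pullback.map p (pullback.fst g g ≫ g) p g (𝟙 X) (pullback.fst g g) (𝟙 S)
        ((Category.comp_id _).trans (Category.id_comp _).symm) (Category.comp_id _) ≫ f' ≫ pullback.fst q g =
      pullback.map p (pullback.fst g g ≫ g) p g (𝟙 X) (pullback.snd g g) (𝟙 S)
        ((Category.comp_id _).trans (Category.id_comp _).symm) ((Category.comp_id _).trans pullback.condition) ≫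
        f' ≫ pullback.fst q g) :
    ∃! u : X ⟶ Y, u ≫ q = p ∧ f' ≫ pullback.fst q g = pullback.fst p g ≫ u := by
  have ht : (f' ≫ pullback.fst q g) ≫ q = pullback.fst p g ≫ p := by
    rw [Category.assoc, pullback.condition, reassoc_of% hf', pullback.condition]
  obtain ⟨u, ⟨h₁, h₂⟩, huniq⟩ := SubmDesc.existsUnique_hom hg p q (IsPullback.of_hasPullback p g)
    (f' ≫ pullback.fst q g) ht (fun a b hab => cocycle g p _ hcoc a b hab)
  exact ⟨u, ⟨h₁, h₂.symm⟩, fun v hv => huniq v ⟨hv.1, hv.2.symm⟩⟩

end Groth.Agent.S3709
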