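import Groth.Statements.S5002
import Mathlib.RingTheory.Finiteness.Basic
import Mathlib.RingTheory.TensorProduct.Finite
import Mathlib.RingTheory.FiniteStability
import Mathlib.RingTheory.IntegralClosure.IsIntegralClosure.Basic

set_option autoImplicit false
universe u
open PP16

namespace Groth.Agent.S5002


open scoped TensorProduct in
theorem isIntegral_mk (n : ℕ) (A B : Type u) [CommRing A] [CommRing B] [Algebra A B] :
    Algebra.IsIntegral B (PP16.P n A B) := by
  refine ⟨fun x => ?_⟩
  obtain ⟨x, rfl⟩ := Ideal.Quotient.mk_surjective x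
  induction x using TensorProduct.induction_on with
  | zero => rw [map_zero]; exact isIntegral_zero
  | tmul b c =>
    have h1 : IsIntegral B (PP16.dn n A B c) := by
      refine ⟨(Polynomial.X - Polynomial.C c) ^ (n + 1), (Polynomial.monic_X_sub_C c).pow _, ?_⟩
      rw [← Polynomial.aeval_def, map_pow, map_sub, Polynomial.aeval_X, Polynomial.aeval_C]
      change (Ideal.Quotient.mk _ ((1 : B) ⊗ₜ[A] c) - Ideal.Quotient.mk _ (c ⊗ₜ[A] (1 : B))) ^ (n + 1) = 0
      rw [← map_sub, ← map_pow, Ideal.Quotient.eq_zero_iff_mem]
      exact Ideal.pow_mem_pow (KaehlerDifferential.one_smul_sub_smul_one_mem_ideal A c) _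
    have : Ideal.Quotient.mk _ (b ⊗ₜ[A] c) = b • PP16.dn n A B c := by
      rw [Algebra.smul_def]
      change _ = Ideal.Quotient.mk _ (b ⊗ₜ[A] (1 : B)) * Ideal.Quotient.mk _ ((1 : B) ⊗ₜ[A] c)
      rw [← map_mul, Algebra.TensorProduct.tmul_mul_tmul, mul_one, one_mul]
    rw [this]; exact h1.smul b
  | add x y hx hy => rw [map_add]; exact hx.add hy


/-- Suppose A is a commutative ring and B is a finite-type A-algebra. For each n, the ring of principal
parts of order n of B over A is then finitely generated as a B-module, where B acts via the first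
factor. -/
theorem result (n : ℕ) (A B : Type u) [CommRing A] [CommRing B] [Algebra A B]
    [Algebra.FiniteType A B] : Module.Finite B (PP16.P n A B) := by
  haveI := isIntegral_mk n A B
  haveI : Algebra.FiniteType B (PP16.P n A B) :=
    Algebra.FiniteType.of_surjective (Ideal.Quotient.mkₐ B _) Ideal.Quotient.mk_surjective
  exact Algebra.IsIntegral.finite

end Groth.Agent.S5002
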