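import Groth.Statements.S3815
import Groth.Agent.DiffOp.Basic

set_option autoImplicit false
universe u
open scoped TensorProduct
open scoped BigOperators
open PP16

namespace Groth.Agent.S3815


namespace Aux
open scoped TensorProduct
open Groth.Agent

variable {n : ℕ} {A B : Type u} [CommRing A] [CommRing B] [Algebra A B]

/-- The quotient map to `Pr`. -/
noncomputable def toPr (n : ℕ) (A B : Type u) [CommRing A] [CommRing B] [Algebra A B] : B ⊗[A] B →+* PP16.Pr n A B :=
  (Ideal.Quotient.mk (KaehlerDifferential.ideal A B ^ (n + 1)) : B ⊗[A] B →+* PP16.P n A B)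

theorem toPr_surjective : Function.Surjective (toPr n A B) := Ideal.Quotient.mk_surjective

theorem smul_toPr (b : B) (x : B ⊗[A] B) : b • toPr n A B x = toPr n A B (((1 : B) ⊗ₜ[A] b) * x) :=
  (Algebra.smul_def b (toPr n A B x)).trans (map_mul (toPr n A B) ((1 : B) ⊗ₜ[A] b) x).symm

theorem algebraMap_smul_toPr (b : B) (x : B ⊗[A] B) :
    algebraMap B (PP16.P n A B) b • toPr n A B x = toPr n A B ((b ⊗ₜ[A] (1 : B)) * x) :=
  (map_mul (toPr n A B) (b ⊗ₜ[A] (1 : B)) x).symm

variable {M N : Type u} [AddCommGroup M] [Module A M] [Module B M] [IsScalarTower A B M]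
  [AddCommGroup N] [Module A N] [Module B N] [IsScalarTower A B N] (D : M →ₗ[A] N)

theorem phi_right (b : B) (x : B ⊗[A] B) (m : M) :
    DiffOp.phi D (((1 : B) ⊗ₜ[A] b) * x) m = DiffOp.phi D x (b • m) := by
  rw [← DiffOp.phi_phi, DiffOp.phi_tmul, one_smul]

theorem phi_left (b : B) (x : B ⊗[A] B) (m : M) :
    DiffOp.phi D ((b ⊗ₜ[A] (1 : B)) * x) m = b • DiffOp.phi D x m := by
  rw [← DiffOp.phi_phi, DiffOp.phi_tmul, one_smul]

theorem apply_toPr_tmul (u : PP16.PM n A B M →+ N)
    (hu : ∀ (b : B) (t : PP16.PM n A B M), u (algebraMap B (PP16.P n A B) b • t) = b • u t)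
    (hD : ∀ m : M, u (PP16.dM n A B M m) = D m) (x : B ⊗[A] B) (m : M) :
    u (toPr n A B x ⊗ₜ[B] m) = DiffOp.phi D x m := by
  induction x using TensorProduct.induction_on with
  | zero => simp
  | add x y hx hy => rw [map_add, TensorProduct.add_tmul, map_add, hx, hy, map_add, LinearMap.add_apply]
  | tmul b c =>
    have h1 : toPr n A B ((1 : B) ⊗ₜ[A] c) ⊗ₜ[B] m = PP16.dM n A B M (c • m) := by
      have h := smul_toPr (n := n) (A := A) c (1 : B ⊗[A] B)
      rw [mul_one, map_one] at h
      rw [← h, TensorProduct.smul_tmul]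
      rfl
    have h2 : toPr n A B (b ⊗ₜ[A] c) ⊗ₜ[B] m =
        algebraMap B (PP16.P n A B) b • (toPr n A B ((1 : B) ⊗ₜ[A] c) ⊗ₜ[B] m) := by
      rw [TensorProduct.smul_tmul', algebraMap_smul_toPr, Algebra.TensorProduct.tmul_mul_tmul, mul_one, one_mul]
    rw [h2, hu, h1, hD, DiffOp.phi_tmul]

theorem existsUnique_lift (h : Diff16.IsDiffOpLE A B M N n D) :
    ∃! u : PP16.PM n A B M →+ N,
      (∀ (b : B) (t : PP16.PM n A B M), u (algebraMap B (PP16.P n A B) b • t) = b • u t) ∧
        ∀ m : M, u (PP16.dM n A B M m) = D m := by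
  let ψ : PP16.Pr n A B →+ (M →ₗ[A] N) :=
    QuotientAddGroup.lift _ (DiffOp.phi D).toAddMonoidHom (fun x hx => DiffOp.ord_iff_le_ann.1 h hx)
  have hψ : ∀ x, ψ (toPr n A B x) = DiffOp.phi D x := fun x => rfl
  let u : PP16.PM n A B M →+ N := TensorProduct.liftAddHom
    { toFun := fun p => (ψ p).toAddMonoidHom
      map_zero' := by ext; simp
      map_add' := fun p q => by ext; simp }
    (fun b p m => by
      obtain ⟨x, rfl⟩ := toPr_surjective p
      change ψ (b • toPr n A B x) m = ψ (toPr n A B x) (b • m)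
      rw [smul_toPr, hψ, hψ, phi_right])
  have hu : ∀ x m, u (toPr n A B x ⊗ₜ[B] m) = DiffOp.phi D x m := fun x m => rfl
  refine ⟨u, ⟨fun b t => ?_, fun m => ?_⟩, fun v hv => ?_⟩
  · induction t using TensorProduct.induction_on with
    | zero => simp
    | add s t hs ht => rw [smul_add, map_add, hs, ht, map_add, smul_add]
    | tmul p m =>
      obtain ⟨x, rfl⟩ := toPr_surjective p
      rw [TensorProduct.smul_tmul', algebraMap_smul_toPr, hu, hu, phi_left]
  · change u (toPr n A B 1 ⊗ₜ[B] m) = D m
    rw [hu, Algebra.TensorProduct.one_def, DiffOp.phi_tmul, one_smul, one_smul]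
  · ext t
    induction t using TensorProduct.induction_on with
    | zero => simp
    | add s t hs ht => rw [map_add, map_add, hs, ht]
    | tmul p m =>
      obtain ⟨x, rfl⟩ := toPr_surjective p
      rw [hu, apply_toPr_tmul D v hv.1 hv.2]

theorem isDiffOp_of_exists {u : PP16.PM n A B M →+ N}
    (hu : ∀ (b : B) (t : PP16.PM n A B M), u (algebraMap B (PP16.P n A B) b • t) = b • u t)
    (hD : ∀ m : M, u (PP16.dM n A B M m) = D m) : Diff16.IsDiffOpLE A B M N n D := by
  refine DiffOp.ord_iff_le_ann.2 fun x hx => DiffOp.mem_ann.2 (LinearMap.ext fun m => ?_)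
  rw [← apply_toPr_tmul D u hu hD, show toPr n A B x = 0 from Ideal.Quotient.eq_zero_iff_mem.2 hx,
    TensorProduct.zero_tmul, map_zero, LinearMap.zero_apply]

end Aux


/-- Let B be an A-algebra, M and N two B-modules and D : M → N an A-linear map. Let P^n(M) = P^n_{B/A}
⊗_B M, the tensor product formed with the B-module structure of P^n_{B/A} through d^n, regarded as a
B-module through the first factor of P^n_{B/A}, with d^n_M : M → P^n(M), m ↦ 1 ⊗ m. Then D is a
differential operator of order at most n relative to A (order defined through iterated commutators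
with multiplication by elements of B) if and only if there is exactly one additive map u : P^n(M) →
N which is B-linear for the first-factor structure and satisfies u(1 ⊗ m) = D(m) for all m ∈ M. -/
theorem result (n : ℕ) (A B : Type u) [CommRing A] [CommRing B] [Algebra A B]
    (M N : Type u) [AddCommGroup M] [Module A M] [Module B M] [IsScalarTower A B M]
    [AddCommGroup N] [Module A N] [Module B N] [IsScalarTower A B N] (D : M →ₗ[A] N) :
    Diff16.IsDiffOpLE A B M N n D ↔
      ∃! u : PP16.PM n A B M →+ N,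
        (∀ (b : B) (t : PP16.PM n A B M), u (algebraMap B (PP16.P n A B) b • t) = b • u t) ∧
          ∀ m : M, u (PP16.dM n A B M m) = D m := by
  exact ⟨Aux.existsUnique_lift D, fun ⟨u, ⟨hu, hD⟩, _⟩ => Aux.isDiffOp_of_exists D hu hD⟩

end Groth.Agent.S3815
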