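import Groth.Statements.S3818
import Groth.Agent.DiffOp.Basic

set_option autoImplicit false
universe u
open scoped TensorProduct
open scoped BigOperators
open PP16

namespace Groth.Agent.S3818


open Finset in
theorem commutator_Dp (A B : Type u) [CommRing A] [CommRing B] [Algebra A B]
    (ι : Type) [Fintype ι] [DecidableEq ι] (z : ι → B)
    (hz : Submodule.span B (Set.range fun i => KaehlerDifferential.D A B (z i)) = ⊤)
    (Dp : (ι → ℕ) → (B →ₗ[A] B)) (hD : ∀ p, ∃ k : ℕ, Diff16.IsDiffOpLE A B B B k (Dp p))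
    (hDz : ∀ p q : ι → ℕ, Dp p (∏ i, z i ^ q i) =
      ((∏ i, Nat.choose (q i) (p i) : ℕ) : B) * ∏ i, z i ^ (q i - p i)) (p : ι → ℕ) (i : ι) :
    Diff16.commutator A B B B (Dp p) (z i) = if p i = 0 then 0 else Dp (p - Pi.single i 1) := by
  obtain ⟨k, hk⟩ := hD p
  obtain ⟨k', hk'⟩ := hD (p - Pi.single i 1)
  refine DiffOp.eq_of_monomials hz (m := max k k') ?_ ?_ fun q _ => ?_
  · exact DiffOp.ord_mono (le_max_left _ _) (DiffOp.ord_step hk (z i))
  · split
    · exact DiffOp.ord_zero _
    · exact DiffOp.ord_mono (le_max_right _ _) hk'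
  have hmul : ∀ f : ι → ℕ, z i * ∏ j, z j ^ f j = ∏ j, z j ^ Function.update f i (f i + 1) j := by
    intro f
    rw [Fintype.prod_eq_mul_prod_compl i, Fintype.prod_eq_mul_prod_compl i, Function.update_self, pow_succ,
      ← mul_assoc, mul_comm (z i)]
    exact congrArg _ (prod_congr rfl fun j hj => by rw [Function.update_of_ne (by simpa using hj)])
  have hC : ∀ f : ι → ℕ, ((∏ j, Nat.choose (f j) (p j) : ℕ) : B) =
      (Nat.choose (f i) (p i) : B) * ((∏ j ∈ ({i}ᶜ : Finset ι), Nat.choose (f j) (p j) : ℕ) : B) := fun f => by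
    rw [Fintype.prod_eq_mul_prod_compl i, Nat.cast_mul]
  have hE : ∀ f : ι → ℕ, (∏ j, z j ^ f j) = z i ^ f i * ∏ j ∈ ({i}ᶜ : Finset ι), z j ^ f j := fun f =>
    Fintype.prod_eq_mul_prod_compl i _
  set K : B := ((∏ j ∈ ({i}ᶜ : Finset ι), Nat.choose (q j) (p j) : ℕ) : B) with hK
  set R : B := ∏ j ∈ ({i}ᶜ : Finset ι), z j ^ (q j - p j) with hR
  have hup : ∀ j ∈ ({i}ᶜ : Finset ι), Function.update q i (q i + 1) j = q j := fun j hj =>
    Function.update_of_ne (by simpa using hj) _ _
  have hps : ∀ j ∈ ({i}ᶜ : Finset ι), (p - Pi.single i 1 : ι → ℕ) j = p j := fun j hj => by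
    simp [Pi.single_eq_of_ne (show j ≠ i by simpa using hj)]
  have h1 : Dp p (z i • ∏ j, z j ^ q j) = (Nat.choose (q i + 1) (p i) : B) * K * (z i ^ (q i + 1 - p i) * R) := by
    rw [smul_eq_mul, hmul, hDz, hC, hE, Function.update_self, hK, hR,
      prod_congr rfl (fun j hj => by rw [hup j hj]),
      prod_congr rfl (fun j hj => show z j ^ (Function.update q i (q i + 1) j - p j) = _ by rw [hup j hj])]
  have h2 : Dp p (∏ j, z j ^ q j) = (Nat.choose (q i) (p i) : B) * K * (z i ^ (q i - p i) * R) := by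
    rw [hDz, hC, hE, hK, hR]
  rw [DiffOp.commutator_apply, h1, h2, smul_eq_mul]
  split
  · next h0 =>
    rw [h0, Nat.choose_zero_right, Nat.choose_zero_right, LinearMap.zero_apply, Nat.sub_zero, Nat.sub_zero, pow_succ]
    ring
  · next h0 =>
    have h3 : Dp (p - Pi.single i 1) (∏ j, z j ^ q j) =
        (Nat.choose (q i) (p i - 1) : B) * K * (z i ^ (q i - (p i - 1)) * R) := by
      rw [hDz, Fintype.prod_eq_mul_prod_compl i, hE, Nat.cast_mul, hK, hR,
        prod_congr rfl (fun j hj => by rw [hps j hj]),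
        prod_congr rfl (fun j hj => show z j ^ (q j - (p - Pi.single i 1 : ι → ℕ) j) = _ by rw [hps j hj])]
      simp
    rw [h3]
    obtain ⟨c, hc⟩ : ∃ c, p i = c + 1 := ⟨p i - 1, by omega⟩
    rw [hc, Nat.choose_succ_succ, Nat.cast_add, Nat.add_sub_cancel, Nat.add_sub_add_right]
    rcases le_or_gt (c + 1) (q i) with h | h
    · rw [show q i - c = q i - (c + 1) + 1 by omega, pow_succ]
      ring
    · rw [Nat.choose_eq_zero_of_lt h]
      ring

open Finset in
theorem ord_Dp (A B : Type u) [CommRing A] [CommRing B] [Algebra A B]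
    (ι : Type) [Fintype ι] [DecidableEq ι] (z : ι → B)
    (hz : Submodule.span B (Set.range fun i => KaehlerDifferential.D A B (z i)) = ⊤)
    (Dp : (ι → ℕ) → (B →ₗ[A] B)) (hD : ∀ p, ∃ k : ℕ, Diff16.IsDiffOpLE A B B B k (Dp p))
    (hDz : ∀ p q : ι → ℕ, Dp p (∏ i, z i ^ q i) =
      ((∏ i, Nat.choose (q i) (p i) : ℕ) : B) * ∏ i, z i ^ (q i - p i)) :
    ∀ (d : ℕ) (p : ι → ℕ), ∑ i, p i = d → Diff16.IsDiffOpLE A B B B d (Dp p) := by
  intro d
  induction d with
  | zero =>
    intro p hp
    obtain ⟨k, hk⟩ := hD p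
    refine DiffOp.ord_zero_of_gen hz hk fun i => ?_
    rw [commutator_Dp A B ι z hz Dp hD hDz, if_pos]
    have := Finset.single_le_sum (fun j _ => Nat.zero_le (p j)) (Finset.mem_univ i)
    omega
  | succ d ih =>
    intro p hp
    obtain ⟨k, hk⟩ := hD p
    refine DiffOp.ord_succ_of_gen hz hk fun i => ?_
    rw [commutator_Dp A B ι z hz Dp hD hDz]
    split
    · exact DiffOp.ord_zero _
    · refine ih _ ?_
      have h1 : ∑ j, p j = ∑ j, (p - Pi.single i 1 : ι → ℕ) j + ∑ j, (Pi.single i 1 : ι → ℕ) j := by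
        rw [← Finset.sum_add_distrib]
        refine Finset.sum_congr rfl fun j _ => ?_
        rcases eq_or_ne j i with rfl | hj
        · simp; omega
        · simp [hj]
      rw [Finset.sum_pi_single' i (1 : ℕ), if_pos (Finset.mem_univ i)] at h1
      omega

theorem Dp_apply_of_le {B : Type u} [CommRing B] (ι : Type) [Fintype ι] [DecidableEq ι] (z : ι → B)
    (p q : ι → ℕ) (h : ∑ i, q i ≤ ∑ i, p i) :
    ((∏ i, Nat.choose (q i) (p i) : ℕ) : B) * ∏ i, z i ^ (q i - p i) = if p = q then 1 else 0 := by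
  split
  · next e => subst e; simp
  · next e =>
    obtain ⟨i, hi⟩ : ∃ i, q i < p i := by
      by_contra hc
      push Not at hc
      exact e (funext fun i => (Finset.sum_eq_sum_iff_of_le fun j _ => hc j).1
        (le_antisymm (Finset.sum_le_sum fun j _ => hc j) h) i (Finset.mem_univ i))
    rw [Finset.prod_eq_zero (Finset.mem_univ i) (Nat.choose_eq_zero_of_lt hi), Nat.cast_zero, zero_mul]


/-- Last assertion (affine form, finite family): let B be an A-algebra, z_1, …, z_r elements of B whose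
differentials generate the module of differentials, and (D_p) a family of differential operators B →
B (each of some finite order) with D_p(z^q) = (∏ binom(q_i, p_i)) z^(q-p). Then D_p has order at
most |p|, and every differential operator B → B of order at most m relative to A can be written in
exactly one way as a B-linear combination ∑_{|p| ≤ m} a_p D_p. -/
theorem result (A B : Type u) [CommRing A] [CommRing B] [Algebra A B]
    (ι : Type) [Fintype ι] [DecidableEq ι] (z : ι → B)
    (hz : Submodule.span B (Set.range fun i => KaehlerDifferential.D A B (z i)) = ⊤)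
    (Dp : (ι → ℕ) → (B →ₗ[A] B)) (hD : ∀ p, ∃ k : ℕ, Diff16.IsDiffOpLE A B B B k (Dp p))
    (hDz : ∀ p q : ι → ℕ, Dp p (∏ i, z i ^ q i) =
        ((∏ i, Nat.choose (q i) (p i) : ℕ) : B) * ∏ i, z i ^ (q i - p i)) :
    (∀ p, Diff16.IsDiffOpLE A B B B (∑ i, p i) (Dp p)) ∧
      ∀ (m : ℕ) (D : B →ₗ[A] B), Diff16.IsDiffOpLE A B B B m D →
        ∃! a : {p : ι → ℕ // ∑ i, p i ≤ m} →₀ B, D = a.sum fun p c => c • Dp p.1 := by
  have hord : ∀ p, Diff16.IsDiffOpLE A B B B (∑ i, p i) (Dp p) := fun p => ord_Dp A B ι z hz Dp hD hDz _ p rfl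
  refine ⟨hord, fun m D hDm => ?_⟩
  haveI : Fintype {p : ι → ℕ // ∑ i, p i ≤ m} := Fintype.ofInjective
    (fun p => fun i : ι => (⟨min (p.1 i) m, by omega⟩ : Fin (m + 1)))
    (fun p p' e => Subtype.ext (funext fun i => by
      have h1 := congrArg Fin.val (congrFun e i)
      have := Finset.single_le_sum (fun j _ => Nat.zero_le (p.1 j)) (Finset.mem_univ i)
      have := Finset.single_le_sum (fun j _ => Nat.zero_le (p'.1 j)) (Finset.mem_univ i)
      have := p.2; have := p'.2
      simp only at h1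
      omega))
  have key : ∀ k, k ≤ m + 1 → ∃ a : {p : ι → ℕ // ∑ i, p i ≤ m} → B, (∀ p, k ≤ ∑ i, p.1 i → a p = 0) ∧
      ∀ q : ι → ℕ, ∑ i, q i < k → D (∏ i, z i ^ q i) = ∑ p, a p • Dp p.1 (∏ i, z i ^ q i) := by
    intro k
    induction k with
    | zero => exact fun _ => ⟨0, fun p _ => rfl, fun q hq => by omega⟩
    | succ k ih =>
      intro hk
      obtain ⟨a, ha, ha'⟩ := ih (by omega)
      refine ⟨fun p => if ∑ i, p.1 i = k then D (∏ i, z i ^ p.1 i) - ∑ p', a p' • Dp p'.1 (∏ i, z i ^ p.1 i) else a p,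
        fun p hp => ?_, fun q hq => ?_⟩
      · simp only [if_neg (show ¬ ∑ i, p.1 i = k by omega)]; exact ha p (by omega)
      · have hsplit : ∀ (p : {p : ι → ℕ // ∑ i, p i ≤ m}) (c : B),
            (if ∑ i, p.1 i = k then c else a p) • Dp p.1 (∏ i, z i ^ q i) =
              a p • Dp p.1 (∏ i, z i ^ q i) + if p.1 = q ∧ ∑ i, q i = k then c else 0 := by
          intro p c
          by_cases hp : ∑ i, p.1 i = k
          · rw [if_pos hp, ha p hp.ge, zero_smul, zero_add, hDz, Dp_apply_of_le ι z p.1 q (by omega), smul_eq_mul]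
            by_cases e : p.1 = q
            · rw [if_pos e, if_pos ⟨e, e ▸ hp⟩, mul_one]
            · rw [if_neg e, if_neg (fun h => e h.1), mul_zero]
          · rw [if_neg hp, if_neg (fun (h : p.1 = q ∧ ∑ i, q i = k) => hp (by rw [h.1]; exact h.2)), add_zero]
        simp only [hsplit, Finset.sum_add_distrib]
        rcases lt_or_eq_of_le (Nat.lt_succ_iff.1 hq) with hq' | hq'
        · rw [← ha' q hq', Finset.sum_eq_zero (fun p _ => if_neg fun h => hq'.ne h.2), add_zero]
        · rw [Finset.sum_eq_single (⟨q, by omega⟩ : {p : ι → ℕ // ∑ i, p i ≤ m})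
            (fun p _ hp => if_neg fun h => hp (Subtype.ext h.1)) (fun h => absurd (Finset.mem_univ _) h),
            if_pos ⟨rfl, hq'⟩]
          simp
  obtain ⟨a, -, ha⟩ := key (m + 1) le_rfl
  have hsum : ∀ c : {p : ι → ℕ // ∑ i, p i ≤ m} →₀ B, (c.sum fun p x => x • Dp p.1) = ∑ p, c p • Dp p.1 :=
    fun c => Finsupp.sum_fintype _ _ (fun p => zero_smul _ _)
  refine ⟨Finsupp.equivFunOnFinite.symm a, ?_, fun c hc => ?_⟩
  · simp only [hsum]
    refine DiffOp.eq_of_monomials hz hDm (DiffOp.ord_sum _ fun p _ =>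
      DiffOp.ord_smul _ (DiffOp.ord_mono p.2 (hord p.1))) fun q hq => ?_
    rw [ha q (by omega), LinearMap.sum_apply]
    simp [Finsupp.equivFunOnFinite]
  · simp only [hsum] at hc
    have key2 : ∀ k (p : {p : ι → ℕ // ∑ i, p i ≤ m}), ∑ i, p.1 i = k → c p = a p := by
      intro k
      induction k using Nat.strong_induction_on with
      | _ k ih =>
        intro p hp
        have h1 := ha p.1 (by have := p.2; omega)
        rw [hc, LinearMap.sum_apply] at h1
        simp only [LinearMap.smul_apply] at h1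
        have h2 : ∀ p', p' ≠ p → c p' • Dp p'.1 (∏ i, z i ^ p.1 i) = a p' • Dp p'.1 (∏ i, z i ^ p.1 i) := by
          intro p' hne
          rcases lt_or_ge (∑ i, p'.1 i) k with h | h
          · rw [ih _ h p' rfl]
          · rw [hDz, Dp_apply_of_le ι z p'.1 p.1 (by omega), if_neg (fun e => hne (Subtype.ext e)), smul_zero, smul_zero]
        rw [Fintype.sum_eq_add_sum_compl p, Fintype.sum_eq_add_sum_compl p,
          Finset.sum_congr rfl (fun p' hp' => h2 p' (by simpa using hp'))] at h1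
        have h3 := add_right_cancel h1
        simpa [hDz, Dp_apply_of_le ι z p.1 p.1 le_rfl] using h3
    exact Finsupp.ext fun p => by rw [key2 _ p rfl]; simp [Finsupp.equivFunOnFinite]

end Groth.Agent.S3818
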