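import Groth.Statements.S3824
import Groth.Prelude.Def_CAlgX
import Mathlib.LinearAlgebra.Matrix.ToLinearEquiv
import Mathlib.RingTheory.MvPolynomial.Homogeneous

set_option autoImplicit false
universe u
open QReg16

namespace Groth.Agent.S3824

/-- Let f_1, …, f_n be a quasi-regular sequence in a ring A and f'_1, …, f'_n another sequence of the
same length generating the same ideal. Then (f'_i) is quasi-regular. -/
theorem result {A : Type u} [CommRing A] {n : ℕ} (f f' : Fin n → A)
    (hf : CAlgX.IsQuasiRegular f) (h : Ideal.span (Set.range f') = Ideal.span (Set.range f)) :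
    CAlgX.IsQuasiRegular f' := by
  classical
  let J := Ideal.span (Set.range f)
  have hmem : ∀ i, ∃ c : Fin n → A, ∑ j, c j * f j = f' i := fun i =>
    Ideal.mem_span_range_iff_exists_fun.mp (h ▸ Ideal.subset_span ⟨i, rfl⟩)
  have hmem' : ∀ i, ∃ c : Fin n → A, ∑ j, c j * f' j = f i := fun i =>
    Ideal.mem_span_range_iff_exists_fun.mp (h.symm ▸ Ideal.subset_span ⟨i, rfl⟩)
  choose a ha using hmem
  choose b hb using hmem'
  -- lin a is the linear substitution given by a
  let lin : Matrix (Fin n) (Fin n) A → Fin n → MvPolynomial (Fin n) A := fun c i =>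
    ∑ j, MvPolynomial.C (c i j) * MvPolynomial.X j
  have hlin : ∀ c i, (lin c i).IsHomogeneous 1 := fun c i =>
    MvPolynomial.IsHomogeneous.sum _ _ _ fun j _ => MvPolynomial.isHomogeneous_C_mul_X _ _
  let π := Ideal.Quotient.mk J
  let A' : Matrix (Fin n) (Fin n) A := Matrix.of a
  let B' : Matrix (Fin n) (Fin n) A := Matrix.of b
  -- b a is the identity modulo J
  have hba : (B'.map π) * (A'.map π) = 1 := by
    ext i k
    let P : MvPolynomial (Fin n) A := ∑ l, MvPolynomial.C ((B' * A' - 1) i l) * MvPolynomial.X l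
    have hP : MvPolynomial.eval f P = 0 := by
      simp only [P, map_sum, map_mul, MvPolynomial.eval_C, MvPolynomial.eval_X, Matrix.sub_apply, sub_mul,
        Finset.sum_sub_distrib, Matrix.one_apply, ite_mul, one_mul, zero_mul, Finset.sum_ite_eq,
        Finset.mem_univ, if_true, Matrix.mul_apply, Finset.sum_mul]
      rw [Finset.sum_comm, sub_eq_zero]
      conv_rhs => rw [← hb i]
      simp only [← ha, Finset.mul_sum, A', B', Matrix.of_apply, mul_assoc]
    have := hf 1 P (hlin _ i) (by rw [hP]; exact zero_mem _) (Finsupp.single k 1)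
    simp only [P, MvPolynomial.coeff_sum, MvPolynomial.coeff_C_mul, MvPolynomial.coeff_X, mul_ite,
      mul_one, mul_zero, Finset.sum_ite_eq', Finset.mem_univ, if_true,
      Finsupp.single_eq_single_iff] at this
    rw [← Matrix.map_mul]
    have h2 : (B' * A' - 1) i k ∈ J := by
      convert this using 1
      simp
    rw [Matrix.map_apply, ← Matrix.map_one π (map_zero π) (map_one π), Matrix.map_apply]
    exact (Ideal.Quotient.mk_eq_mk_iff_sub_mem _ _).mpr h2
  have hab := mul_eq_one_comm.mp hba
  intro d P hP hev m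
  rw [h] at hev ⊢
  let Q : MvPolynomial (Fin n) A := MvPolynomial.aeval (lin A') P
  have hQ : ∀ m, Q.coeff m ∈ J := by
    refine hf d Q (one_mul d ▸ hP.aeval (lin A') (hlin A')) ?_
    have : MvPolynomial.eval f Q = MvPolynomial.eval f' P := by
      change ((MvPolynomial.aeval f).comp (MvPolynomial.aeval (lin A'))) P = MvPolynomial.aeval f' P
      rw [MvPolynomial.comp_aeval]
      refine congrArg (fun g => MvPolynomial.aeval g P) (funext fun i => ?_)
      simpa [lin, A'] using ha i
    rw [this]; exact hev
  have hQ0 : MvPolynomial.map π Q = 0 := by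
    ext e
    simpa [MvPolynomial.coeff_map] using Ideal.Quotient.eq_zero_iff_mem.mpr (hQ e)
  let Q' := MvPolynomial.aeval (lin B') Q
  have hQ' : MvPolynomial.map π Q' = MvPolynomial.map π P := by
    change (MvPolynomial.map π).comp ((MvPolynomial.aeval (lin B')).comp (MvPolynomial.aeval (lin A'))).toRingHom P = _
    congr 1
    refine MvPolynomial.ringHom_ext (fun r => by simp) (fun i => ?_)
    simp only [RingHom.coe_comp, Function.comp_apply, AlgHom.toRingHom_eq_coe, RingHom.coe_coe, AlgHom.coe_comp,
      MvPolynomial.aeval_X, MvPolynomial.map_X, lin, map_sum, map_mul, MvPolynomial.algHom_C, MvPolynomial.algebraMap_eq,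
      MvPolynomial.map_C, Finset.mul_sum, ← mul_assoc]
    rw [Finset.sum_comm]
    simp only [← Finset.sum_mul, ← map_mul, ← map_sum]
    have hk : ∀ k, ∑ j, π (A' i j) * π (B' j k) = (1 : Matrix (Fin n) (Fin n) (A ⧸ J)) i k := fun k => by
      rw [← hab, Matrix.mul_apply]; rfl
    simp only [map_sum, map_mul] at hk ⊢
    simp only [← map_mul, ← map_sum] at hk ⊢
    simp [hk, Matrix.one_apply, apply_ite MvPolynomial.C]
  have : MvPolynomial.map π P = 0 := by
    rw [← hQ', show Q' = MvPolynomial.eval₂ MvPolynomial.C (lin B') Q from rfl,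
      ← MvPolynomial.coe_eval₂Hom, MvPolynomial.map_eval₂Hom MvPolynomial.C (lin B') (MvPolynomial.map π) Q]
    rw [show (MvPolynomial.map π).comp (MvPolynomial.C (σ := Fin n)) = (MvPolynomial.C).comp π from
      RingHom.ext fun r => MvPolynomial.map_C π r]
    rw [MvPolynomial.coe_eval₂Hom, ← MvPolynomial.eval₂_map, hQ0, MvPolynomial.eval₂_zero]
  have := congrArg (MvPolynomial.coeff m) this
  rw [MvPolynomial.coeff_map, MvPolynomial.coeff_zero] at this
  exact Ideal.Quotient.eq_zero_iff_mem.mp this

end Groth.Agent.S3824
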