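import Groth.Statements.S3825
import Groth.Agent.S3824

set_option autoImplicit false
universe u
open QReg16

namespace Groth.Agent.S3825

theorem basis_of_qr {A : Type u} [CommRing A] {I : Ideal A} {m : ℕ} (f : Fin m → I)
    (hq : CAlgX.IsQuasiRegular (fun i => (f i : A))) (hs : Ideal.span (Set.range fun i => (f i : A)) = I) :
    LinearIndependent (A ⧸ I) (fun i => I.toCotangent (f i)) ∧
      Submodule.span (A ⧸ I) (Set.range fun i => I.toCotangent (f i)) = ⊤ := by
  constructor
  · rw [Fintype.linearIndependent_iff]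
    intro c hc i
    choose a ha using fun j => Ideal.Quotient.mk_surjective (c j)
    have h0 : I.toCotangent (∑ j, a j • f j) = 0 := by
      rw [map_sum, ← hc]
      refine Finset.sum_congr rfl fun j _ => ?_
      rw [map_smul, ← ha j]; rfl
    rw [Ideal.toCotangent_eq_zero] at h0
    have hP : (∑ j, MvPolynomial.C (a j) * MvPolynomial.X j : MvPolynomial (Fin m) A).IsHomogeneous 1 :=
      MvPolynomial.IsHomogeneous.sum _ _ _ fun j _ => MvPolynomial.isHomogeneous_C_mul_X _ _
    have := hq 1 _ hP (by
      simp only [map_sum, map_mul, MvPolynomial.eval_C, MvPolynomial.eval_X, hs]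
      simpa using h0) (Finsupp.single i 1)
    rw [hs] at this
    simp only [MvPolynomial.coeff_sum, MvPolynomial.coeff_C_mul, MvPolynomial.coeff_X, mul_ite, mul_one,
      mul_zero, Finsupp.single_eq_single_iff] at this
    rw [← ha i]
    refine Ideal.Quotient.eq_zero_iff_mem.mpr ?_
    simpa using this
  · rw [eq_top_iff]
    intro x _
    obtain ⟨⟨y, hy⟩, rfl⟩ := Ideal.toCotangent_surjective I x
    obtain ⟨c, hc⟩ := (Ideal.mem_span_range_iff_exists_fun (R := A)).mp (hs.ge hy)
    have : (⟨y, hy⟩ : I) = ∑ j, c j • f j := Subtype.ext (by simp [← hc])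
    rw [this, map_sum]
    refine Submodule.sum_mem _ fun j _ => ?_
    rw [map_smul]
    exact Submodule.smul_mem _ (Ideal.Quotient.mk I (c j)) (Submodule.subset_span (Set.mem_range_self (f := fun i => I.toCotangent (f i)) j))

/-- a) iff c) (affine local form): let A be a local ring and I a proper ideal generated by some
quasi-regular sequence. For a finite family (f_i) of elements of I, the following are equivalent:
(a) (f_i) is a quasi-regular sequence generating I; (c) the classes of the f_i form a basis of the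
A/I-module I/I² (equivalently, b): (f_i) is a minimal system of generators of I). -/
theorem result {A : Type u} [CommRing A] [IsLocalRing A]
    (I : Ideal A) (hI : I ≤ IsLocalRing.maximalIdeal A)
    (hq : ∃ (r : ℕ) (g : Fin r → A), CAlgX.IsQuasiRegular g ∧ Ideal.span (Set.range g) = I)
    {m : ℕ} (f : Fin m → I) :
    (CAlgX.IsQuasiRegular (fun i => (f i : A)) ∧ Ideal.span (Set.range fun i => (f i : A)) = I) ↔
      (LinearIndependent (A ⧸ I) (fun i => I.toCotangent (f i)) ∧
        Submodule.span (A ⧸ I) (Set.range fun i => I.toCotangent (f i)) = ⊤) := by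
  refine ⟨fun h => basis_of_qr f h.1 h.2, fun ⟨hli, hsp⟩ => ?_⟩
  obtain ⟨r, g, hg, hgI⟩ := hq
  haveI : Nontrivial (A ⧸ I) :=
    Ideal.Quotient.nontrivial_iff.mpr (ne_top_of_le_ne_top (IsLocalRing.maximalIdeal.isMaximal A).ne_top hI)
  let g' : Fin r → I := fun i => ⟨g i, hgI ▸ Ideal.subset_span ⟨i, rfl⟩⟩
  obtain ⟨gli, gsp⟩ := basis_of_qr g' hg hgI
  have hmr : m = r := by
    have e1 := Module.finrank_eq_card_basis (Module.Basis.mk hli hsp.ge)
    have e2 := Module.finrank_eq_card_basis (Module.Basis.mk gli gsp.ge)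
    simpa using e1.symm.trans e2
  have hs : Ideal.span (Set.range fun i => (f i : A)) = I := by
    refine le_antisymm (Ideal.span_le.mpr (by rintro _ ⟨i, rfl⟩; exact (f i).2)) ?_
    refine Submodule.le_of_le_smul_of_le_jacobson_bot (hgI ▸ Submodule.fg_span (Set.finite_range g))
      (hI.trans (IsLocalRing.maximalIdeal_le_jacobson ⊥)) ?_
    intro y hy
    have hmem := hsp.ge (Submodule.mem_top : I.toCotangent ⟨y, hy⟩ ∈ ⊤)
    rw [Submodule.mem_span_range_iff_exists_fun] at hmem
    obtain ⟨c, hc⟩ := hmem
    choose a ha using fun j => Ideal.Quotient.mk_surjective (c j)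
    have h0 : I.toCotangent (⟨y, hy⟩ - ∑ j, a j • f j) = 0 := by
      rw [map_sub, map_sum, sub_eq_zero, ← hc]
      refine Finset.sum_congr rfl fun j _ => ?_
      rw [map_smul, ← ha j]; rfl
    rw [Ideal.toCotangent_eq_zero] at h0
    refine Submodule.mem_sup.mpr ⟨∑ j, a j * (f j : A), Submodule.sum_mem _ fun j _ =>
      Ideal.mul_mem_left _ _ (Ideal.subset_span ⟨j, rfl⟩), y - ∑ j, a j * (f j : A), ?_, by ring⟩
    rw [smul_eq_mul, ← pow_two]
    simpa using h0
  subst hmr
  exact ⟨Groth.Agent.S3824.result g _ hg (hs.trans hgI.symm), hs⟩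

end Groth.Agent.S3825
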