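import Groth.Statements.S3828
import Groth.Agent.QRegLib.Inf

set_option autoImplicit false
universe u
open QReg16

namespace Groth.Agent.S3828

/-- Let A be a Noetherian ring, J an ideal of A, and f_1, …, f_r elements of A forming a weakly regular
sequence on A/J (each f_i a nonzerodivisor on A/(J + (f_1, …, f_{i−1}))) and generating an ideal R
contained in the Jacobson radical of A; put Q = J + R. Then J ∩ Rⁿ = J·Rⁿ for every n > 0, and J ∩
Q² = J·Q (equivalently, the canonical map J/JQ → Q/Q² is injective). -/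
theorem result {A : Type u} [CommRing A] [IsNoetherianRing A] (J : Ideal A)
    {r : ℕ} (f : Fin r → A) (hf : RingTheory.Sequence.IsWeaklyRegular (A ⧸ J) (List.ofFn f))
    (hrad : Ideal.span (Set.range f) ≤ (⊥ : Ideal A).jacobson) :
    (∀ n : ℕ, 0 < n → J ⊓ Ideal.span (Set.range f) ^ n = J * Ideal.span (Set.range f) ^ n) ∧
      J ⊓ (J ⊔ Ideal.span (Set.range f)) ^ 2 = J * (J ⊔ Ideal.span (Set.range f)) := by
  have h := Groth.Agent.QRegLib.inf_pow_eq_mul_pow J f hf hrad
  refine ⟨fun n _ => h n, ?_⟩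
  set R := Ideal.span (Set.range f) with hR
  refine le_antisymm ?_ (le_inf Ideal.mul_le_left ?_)
  · intro x hx
    obtain ⟨hxJ, hx2⟩ := hx
    have h2 : (J ⊔ R) ^ 2 ≤ J * (J ⊔ R) ⊔ R ^ 2 := by
      rw [pow_two, pow_two, Ideal.sup_mul, Ideal.mul_sup, Ideal.mul_sup, Ideal.mul_comm R J]
      exact sup_le le_sup_left (sup_le (le_sup_of_le_left le_sup_right) le_sup_right)
    obtain ⟨a, ha, b, hb, rfl⟩ := Submodule.mem_sup.mp (h2 hx2)
    have hbJ : b ∈ J := by simpa using sub_mem hxJ (Ideal.mul_le_left ha)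
    refine add_mem ha (Ideal.mul_mono_right le_sup_right ?_)
    have hb2 : b ∈ J * R ^ 2 := (h 2) ▸ (show b ∈ J ⊓ R ^ 2 from ⟨hbJ, hb⟩)
    exact Ideal.mul_mono_right (Ideal.pow_le_self (two_ne_zero)) hb2
  · rw [pow_two]
    exact Ideal.mul_mono_left le_sup_left

end Groth.Agent.S3828
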