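import Groth.Statements.S3830
import Mathlib.RingTheory.Unramified.LocalStructure
import Mathlib.RingTheory.QuasiFinite.Polynomial
import Mathlib.RingTheory.Polynomial.Quotient
import Mathlib.RingTheory.Ideal.GoingDown
import Mathlib.RingTheory.Smooth.Flat


set_option autoImplicit false
universe u
open Unram17

namespace Groth.Agent.S3830

/-- b) implies a) (affine pointwise form): let B be an A-algebra of finite presentation and q a prime of
B. If B is smooth over A at q and quasi-finite over A at q, then B is étale over A at q. -/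
theorem result (A B : Type u) [CommRing A] [CommRing B] [Algebra A B]
    [Algebra.FinitePresentation A B] (q : Ideal B) [q.IsPrime] [Algebra.QuasiFiniteAt A q]
    (h : Algebra.IsSmoothAt A q) : Algebra.IsEtaleAt A q := by
  obtain ⟨f, hf, n, alg, tow, hstd⟩ := h.exists_isStandardEtale_mvPolynomial
  have hQ : (q.map (algebraMap B (Localization.Away f))).IsPrime :=
    IsLocalization.isPrime_of_isPrime_disjoint (.powers f) _ _ ‹_›
      ((Ideal.disjoint_powers_iff_notMem_of_isPrime _).mpr hf)
  let Q := q.map (algebraMap B (Localization.Away f))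
  have : Q.LiesOver q := ⟨(IsLocalization.under_map_of_isPrime_disjoint (.powers f) _ ‹_›
    ((Ideal.disjoint_powers_iff_notMem_of_isPrime _).mpr hf)).symm⟩
  have : Algebra.QuasiFiniteAt A Q :=
    .of_surjectiveOnStalks_of_liesOver q
      (RingHom.surjectiveOnStalks_of_isLocalization (Submonoid.powers f) _) Q
  suffices hn : n = 0 by
    subst hn
    have : Algebra.Etale A (MvPolynomial (Fin 0) A) :=
      .of_equiv (MvPolynomial.isEmptyAlgEquiv A (Fin 0)).symm
    have : Algebra.Etale A (Localization.Away f) :=
      Algebra.Etale.comp A (MvPolynomial (Fin 0) A) (Localization.Away f)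
    exact Algebra.basicOpen_subset_etaleLocus_iff_etale.mpr this (show (⟨q, ‹_›⟩ : PrimeSpectrum B) ∈ PrimeSpectrum.basicOpen f from hf)
  by_contra hn
  let P := MvPolynomial (Fin n) A
  let p := Q.under A
  let pP : Ideal P := p.map (algebraMap A P)
  have : pP.IsPrime := by
    rw [← Ideal.Quotient.isDomain_iff_prime]
    exact (MvPolynomial.quotientEquivQuotientMvPolynomial p).symm.toMulEquiv.isDomain _
  have hle : pP ≤ Q.under P := Ideal.map_le_iff_le_comap.mpr (by
    rw [Ideal.comap_comap, ← IsScalarTower.algebraMap_eq])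
  obtain ⟨Q', hle', hQ', hQ'p⟩ := Ideal.exists_ideal_le_liesOver_of_le Q hle
  have hunder : Q'.under A = Q.under A := le_antisymm (Ideal.comap_mono hle') (by
    rw [← Ideal.under_under (B := P) Q', ← hQ'p.over]
    exact Ideal.le_comap_map)
  have : Q' = Q := Algebra.QuasiFiniteAt.eq_of_le_of_under_eq hle' hunder
  subst this
  let x : P := MvPolynomial.X ⟨0, Nat.pos_of_ne_zero hn⟩
  obtain ⟨g, hgQ, hgp⟩ := SetLike.exists_of_lt (Polynomial.map_under_lt_comap_of_quasiFiniteAt
    (Polynomial.aeval (algebraMap P (Localization.Away f) x) :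
      Polynomial A →ₐ[A] Localization.Away f) Q)
  apply hgp
  have hmem : Polynomial.aeval x g ∈ pP := by
    rw [hQ'p.over, Ideal.mem_comap, ← Polynomial.aeval_algebraMap_apply]
    exact hgQ
  change _ ∈ Ideal.map MvPolynomial.C p at hmem
  rw [MvPolynomial.mem_map_C_iff] at hmem
  rw [Ideal.mem_map_C_iff]
  intro i
  convert hmem (Finsupp.single ⟨0, Nat.pos_of_ne_zero hn⟩ i) using 1
  clear hgQ hgp hmem
  induction g using Polynomial.induction_on' with
  | add a b ha hb => simp only [map_add, Polynomial.coeff_add, ha, hb]; exact (MvPolynomial.coeff_add _ _ _).symm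
  | monomial k a =>
    rw [Polynomial.aeval_monomial, MvPolynomial.algebraMap_eq, MvPolynomial.C_mul_X_pow_eq_monomial,
      MvPolynomial.coeff_monomial, Polynomial.coeff_monomial]
    simp [Finsupp.single_left_inj, Finsupp.single_eq_single_iff]
    aesop

end Groth.Agent.S3830
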