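import Groth.Statements.S3833
import Mathlib

set_option autoImplicit false
universe u
open CategoryTheory CategoryTheory.Limits AlgebraicGeometry TopologicalSpace
open Rat20

namespace Groth.Agent.S3833

open AlgebraicGeometry CategoryTheory TopologicalSpace


/-- Stated for a global section, the case of a section over an open subset U being the same statement
for the open subscheme U: let X be a scheme and s a global section of O_X which is regular in the
sense that its germ at every point x is a non-zero-divisor of the local ring O_{X,x} (on an affine
scheme this is the same as being a non-zero-divisor of Γ(X, O_X), but not in general). Then the open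
subset X_s where s is invertible is schematically dense in X. -/
theorem result (X : Scheme.{u}) (s : Γ(X, ⊤))
    (hs : ∀ x : ↥X, (X.presheaf.germ ⊤ x trivial s) ∈ nonZeroDivisors ↑(X.presheaf.stalk x)) :
    CInt.IsSchematicallyDense (X.basicOpen s) := by
  intro V
  rw [injective_iff_map_eq_zero]
  intro t ht
  refine TopCat.Presheaf.section_ext X.sheaf V t 0 fun x hx => ?_
  obtain ⟨W, hW, hxW, hWV⟩ := Opens.isBasis_iff_nbhd.1 X.isBasis_affineOpens hx
  have hWV' : W ≤ V := hWV
  let sW : Γ(X, W) := X.presheaf.map (homOfLE le_top).op s
  let tW : Γ(X, W) := X.presheaf.map (homOfLE hWV').op t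
  have hle : X.basicOpen sW ≤ V ⊓ X.basicOpen s := by
    simp only [sW, Scheme.basicOpen_res]
    exact le_inf (inf_le_left.trans hWV') inf_le_right
  have h0 : tW |_ (X.basicOpen sW) = 0 := by
    have e : tW |_ (X.basicOpen sW) = X.presheaf.map (homOfLE hle).op (X.presheaf.map (homOfLE (inf_le_left : V ⊓ X.basicOpen s ≤ V)).op t) := by
      simp only [tW, TopCat.Presheaf.restrictOpen, TopCat.Presheaf.restrict, ← ConcreteCategory.comp_apply, ← Functor.map_comp]
      rfl
    rw [e, ht, map_zero]
  obtain ⟨n, hn⟩ := exists_pow_mul_eq_zero_of_res_basicOpen_eq_zero_of_isAffineOpen X hW tW sW h0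
  have := congrArg (X.presheaf.germ W x hxW) hn
  simp only [map_mul, map_pow, map_zero, sW, tW, TopCat.Presheaf.germ_res_apply] at this
  have hgoal : X.presheaf.germ V x hx t = 0 := (mul_left_mem_nonZeroDivisors_eq_zero_iff (pow_mem (hs x) n)).1 this
  exact hgoal.trans (map_zero (X.presheaf.germ V x hx).hom).symm

end Groth.Agent.S3833
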