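import Groth.Statements.S3834
import Groth.Agent.MeroDivLead.Extend
import Groth.Agent.MeroDivLead.Easy
import Groth.Agent.S8869
-- import your own Groth.Agent.* helpers here

set_option autoImplicit false
universe u
open CategoryTheory CategoryTheory.Limits AlgebraicGeometry TopologicalSpace
open Rat20

namespace Groth.Agent.S3834

/-- Let X = Spec A be an affine scheme, with A Noetherian, or A reduced with finitely many minimal
primes. Then an open subset U of X is schematically dense if and only if it contains an open subset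
of the form X_t with t a regular element of A = Γ(X, O_X). -/
theorem result (X : Scheme.{u}) [IsAffine X]
    (hX : IsNoetherian X ∨ (IsReduced X ∧ (irreducibleComponents ↥X).Finite)) (U : X.Opens) :
    CInt.IsSchematicallyDense U ↔ ∃ t : Γ(X, ⊤), t ∈ nonZeroDivisors Γ(X, ⊤) ∧ X.basicOpen t ≤ U := by
  classical
  have hT : IsAffineOpen (⊤ : X.Opens) := isAffineOpen_top X
  have hinj : CInt.IsSchematicallyDense U → ∀ W : X.Opens, W ≤ ⊤ →
      Function.Injective ⇑(X.presheaf.map (homOfLE (inf_le_left : W ⊓ U ≤ W)).op) := fun h W _ => h W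
  obtain ⟨hfin, hmem⟩ : (Groth.Agent.MeroFrac.wass (⊤ : X.Opens)).Finite ∧
      (CInt.IsSchematicallyDense U → ∀ z ∈ Groth.Agent.MeroFrac.wass (⊤ : X.Opens), z ∈ U) := by
    rcases hX with hN | ⟨hR, hf⟩
    · haveI := hN
      exact ⟨Groth.Agent.MeroFrac.finite_wass hT,
        fun h z hz => Groth.Agent.MeroDivLead.wass_mem_of_dense_noetherian (hinj h) hT le_rfl hz⟩
    · haveI := hR
      have ha : ∀ x : ↥X, Curv2.IsWeakAssPoint (Coh.structureModule X) x → ∀ y : ↥X, y ⤳ x → y = x :=
        fun x hx => (Groth.Agent.S8869.result X x).1 hx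
      have hfin : (Groth.Agent.MeroFrac.wass (⊤ : X.Opens)).Finite := by
        refine Set.Finite.of_finite_image (f := fun z : ↥X => closure ({z} : Set ↥X)) (hf.subset ?_) ?_
        · rintro _ ⟨z, hz, rfl⟩
          refine ⟨isIrreducible_singleton.closure, fun S hS hle => ?_⟩
          have hg := hS.isGenericPoint_genericPoint_closure
          have hw : hS.genericPoint ⤳ z := hg.specializes (subset_closure (hle (subset_closure rfl)))
          dsimp only at hle ⊢
          rw [← ha z hz.2 _ hw, show closure ({hS.genericPoint} : Set ↥X) = closure S from hg]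
          exact subset_closure
        · intro z _ w _ h
          exact (inseparable_iff_closure_eq.2 h).eq
      exact ⟨hfin, fun h z hz => Groth.Agent.MeroDivLead.wass_mem_of_dense_maximal (hinj h) ha hfin le_rfl hz⟩
  constructor
  · intro h
    haveI := hfin.fintype
    obtain ⟨J, hJ⟩ : ∃ J : Ideal Γ(X, ⊤), ∀ r : Γ(X, ⊤), r ∈ J ↔
        ∀ y : ↥X, y ∉ U → r ∈ (hT.primeIdealOf ⟨y, trivial⟩).asIdeal :=
      ⟨⨅ (y : ↥X) (_ : y ∉ U), (hT.primeIdealOf ⟨y, trivial⟩).asIdeal, fun r => by simp only [Submodule.mem_iInf]⟩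
    have hsub : ¬ (J : Set Γ(X, ⊤)) ⊆
        ⋃ z ∈ ((Finset.univ : Finset (Groth.Agent.MeroFrac.wass (⊤ : X.Opens))) : Set (Groth.Agent.MeroFrac.wass (⊤ : X.Opens))),
          ((hT.primeIdealOf ⟨z.1, z.2.1⟩).asIdeal : Set Γ(X, ⊤)) := by
      rcases isEmpty_or_nonempty (Groth.Agent.MeroFrac.wass (⊤ : X.Opens)) with he | ⟨⟨z₀⟩⟩
      · intro h0
        obtain ⟨z, -⟩ := Set.mem_iUnion₂.1 (h0 J.zero_mem)
        exact he.false z
      rw [Ideal.subset_union_prime z₀ z₀ fun z _ _ _ => (hT.primeIdealOf ⟨z.1, z.2.1⟩).isPrime]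
      rintro ⟨z, -, hle⟩
      obtain ⟨g, hgU, hzg⟩ := hT.exists_basicOpen_le (V := U) ⟨z.1, hmem h z.1 z.2⟩ trivial
      refine (Groth.Agent.AssPts.notMem_prime_iff hT z.1 trivial g).2 ((X.mem_basicOpen g z.1 trivial).1 hzg) (hle ((hJ g).2 ?_))
      intro y hyU
      by_contra hh
      exact hyU (hgU ((X.mem_basicOpen g y trivial).2 ((Groth.Agent.AssPts.notMem_prime_iff hT y trivial g).1 hh)))
    obtain ⟨b, hbJ, hb⟩ := Set.not_subset.1 hsub
    refine ⟨b, Groth.Agent.MeroFrac.nzd_of_regSub (Groth.Agent.MeroFrac.mem_regSub_of_units hT fun z hz =>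
      (Groth.Agent.AssPts.notMem_prime_iff hT z trivial b).1 fun h0 => hb (Set.mem_iUnion₂.2 ⟨⟨z, hz⟩, Finset.mem_univ _, h0⟩)),
      fun y hy => ?_⟩
    by_contra hyU
    exact (Groth.Agent.AssPts.notMem_prime_iff hT y trivial b).2 ((X.mem_basicOpen b y trivial).1 hy) ((hJ b).1 hbJ y hyU)
  · rintro ⟨t, ht, hle⟩ V
    rw [injective_iff_map_eq_zero]
    intro r hr
    refine TopCat.Presheaf.section_ext X.sheaf _ _ _ fun x hx => ?_
    refine Eq.trans ?_ (map_zero _).symm
    obtain ⟨_, ⟨A, hA, rfl⟩, hxA, hAV⟩ := X.isBasis_affineOpens.exists_subset_of_mem_open hx V.2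
    have h0 : X.presheaf.map (homOfLE (SetLike.coe_subset_coe.mp hAV : A ≤ V)).op r = 0 := Groth.Agent.MeroFrac.ring_eq_zero hA _ fun z hz => by
      have hzU : z ∈ U := hle ((X.mem_basicOpen t z trivial).2 (Groth.Agent.MeroFrac.unit_of_nzd hz.2
        (Groth.Agent.MeroFrac.mem_regSub_of_nzd hT ht ⟨z, trivial⟩)))
      have := congrArg (X.presheaf.germ (V ⊓ U) z ⟨hAV hz.1, hzU⟩) hr
      erw [TopCat.Presheaf.germ_res_apply, map_zero] at this
      erw [TopCat.Presheaf.germ_res_apply]
      exact this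
    have := congrArg (X.presheaf.germ A x hxA) h0
    erw [TopCat.Presheaf.germ_res_apply, map_zero] at this
    exact this
end Groth.Agent.S3834
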