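import Groth.Statements.S3837
import Groth.Agent.NormalExt.Basic
import Groth.Agent.GrpSch.Homogeneous
import Mathlib

set_option autoImplicit false
universe u
open CategoryTheory CategoryTheory.Limits AlgebraicGeometry TopologicalSpace
open Rat20

namespace Groth.Agent.S3837

open Groth.Agent.NormalExt IsLocalRing CategoryTheory.Limits
set_option backward.isDefEq.respectTransparency.types false
set_option linter.style.haveILetI false
set_option maxHeartbeats 800000


/-- Let X be a normal S-scheme (locally integral with integrally closed local rings), Y an S-scheme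
locally of finite type and separated over S, h : U → Y an S-morphism on a dense open subset (a
rational S-map ω), and f : X' → X a morphism locally of finite type and universally open with X'
reduced, so that f⁻¹(U) is dense and ω ∘ f is defined. Then for x' in X' with image x, ω is defined
at x if and only if ω ∘ f is defined at x': some S-morphism on an open neighbourhood of x agrees
with h on U if and only if some S-morphism on an open neighbourhood of x' agrees with h ∘ f on the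
preimage of U. -/
theorem result {X X' Y S : Scheme.{u}} (pX : X ⟶ S) (pY : Y ⟶ S)
    [LocallyOfFiniteType pY] [IsSeparated pY] (hX : ∀ y : ↥X, ∃ W : X.Opens, y ∈ W ∧ IsIntegral (W : Scheme.{u}))
    (hXn : ∀ y : ↥X, IsIntegrallyClosed (X.presheaf.stalk y))
    (U : X.Opens) (hU : Dense (U : Set ↥X)) (h : (U : Scheme.{u}) ⟶ Y) (hh : h ≫ pY = U.ι ≫ pX)
    (f : X' ⟶ X) [LocallyOfFiniteType f] [UniversallyOpen f] [IsReduced X'] (x' : ↥X') :
    (∃ (V : X.Opens) (v : (V : Scheme.{u}) ⟶ Y), f x' ∈ V ∧ v ≫ pY = V.ι ≫ pX ∧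
        X.homOfLE (inf_le_right : U ⊓ V ≤ V) ≫ v = X.homOfLE (inf_le_left : U ⊓ V ≤ U) ≫ h) ↔
      ∃ (V' : X'.Opens) (v' : (V' : Scheme.{u}) ⟶ Y), x' ∈ V' ∧ v' ≫ pY = V'.ι ≫ f ≫ pX ∧
        X'.homOfLE (inf_le_right : f ⁻¹ᵁ U ⊓ V' ≤ V') ≫ v' =
          X'.homOfLE (inf_le_left : f ⁻¹ᵁ U ⊓ V' ≤ f ⁻¹ᵁ U) ≫ (f ∣_ U) ≫ h := by
  constructor
  · rintro ⟨V, v, hxV, hv, hagree⟩
    refine ⟨f ⁻¹ᵁ V, (f ∣_ V) ≫ v, hxV, by rw [Category.assoc, hv, ← Category.assoc, morphismRestrict_ι, Category.assoc], ?_⟩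
    let m : ((f ⁻¹ᵁ U ⊓ f ⁻¹ᵁ V : X'.Opens) : Scheme.{u}) ⟶ ((U ⊓ V : X.Opens) : Scheme.{u}) := f ∣_ (U ⊓ V)
    have h1 : X'.homOfLE (inf_le_right : f ⁻¹ᵁ U ⊓ f ⁻¹ᵁ V ≤ f ⁻¹ᵁ V) ≫ (f ∣_ V) =
        m ≫ X.homOfLE (inf_le_right : U ⊓ V ≤ V) := by
      rw [← cancel_mono V.ι, Category.assoc, Category.assoc, morphismRestrict_ι, Scheme.homOfLE_ι,
        ← Category.assoc, Scheme.homOfLE_ι]
      exact (morphismRestrict_ι f (U ⊓ V)).symm
    have h2 : X'.homOfLE (inf_le_left : f ⁻¹ᵁ U ⊓ f ⁻¹ᵁ V ≤ f ⁻¹ᵁ U) ≫ (f ∣_ U) =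
        m ≫ X.homOfLE (inf_le_left : U ⊓ V ≤ U) := by
      rw [← cancel_mono U.ι, Category.assoc, Category.assoc, morphismRestrict_ι, Scheme.homOfLE_ι,
        ← Category.assoc, Scheme.homOfLE_ι]
      exact (morphismRestrict_ι f (U ⊓ V)).symm
    rw [reassoc_of% h1, reassoc_of% h2, hagree]
  · rintro ⟨V', v', hxV', hv', hagree⟩
    obtain ⟨W0, hxW0, hW0⟩ := hX (f x')
    let p1 := pullback.fst f (pullback.fst pX pY)
    let p2 := pullback.snd f (pullback.fst pX pY)
    let hg := pullback.lift U.ι h hh.symm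
    haveI : IsImmersion (hg ≫ pullback.fst pX pY) := by rw [pullback.lift_fst]; infer_instance
    haveI : IsImmersion hg := IsImmersion.of_comp hg (pullback.fst pX pY)
    let s : (V' : Scheme.{u}) ⟶ pullback pX pY := pullback.lift (V'.ι ≫ f) v' (by rw [Category.assoc, hv'])
    let s' : (V' : Scheme.{u}) ⟶ pullback f (pullback.fst pX pY) := pullback.lift V'.ι s (by rw [pullback.lift_fst])
    have hs'1 : s' ≫ p1 = V'.ι := pullback.lift_fst _ _ _
    have hs'2 : s' ≫ p2 = s := pullback.lift_snd _ _ _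
    let s'' : (V' : Scheme.{u}) ⟶ (p1 ⁻¹ᵁ V' : Scheme.{u}) := IsOpenImmersion.lift (p1 ⁻¹ᵁ V').ι s' (by
      rintro _ ⟨w, rfl⟩
      rw [Scheme.Opens.range_ι]
      show p1 (s' w) ∈ V'
      rw [← Scheme.Hom.comp_apply, hs'1]
      exact w.2)
    have hs'' : s'' ≫ (p1 ⁻¹ᵁ V').ι = s' := IsOpenImmersion.lift_fac _ _ _
    have hsec : s'' ≫ (p1 ∣_ V') = 𝟙 _ := by
      rw [← cancel_mono V'.ι, Category.assoc, morphismRestrict_ι, reassoc_of% hs'', hs'1, Category.id_comp]
    haveI : IsSeparated p1 := inferInstance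
    haveI : IsSeparated (p1 ∣_ V') := IsZariskiLocalAtTarget.restrict ‹IsSeparated p1› V'
    haveI : IsClosedImmersion (s'' ≫ (p1 ∣_ V')) := by rw [hsec]; infer_instance
    haveI : IsClosedImmersion s'' := IsClosedImmersion.of_comp s'' (p1 ∣_ V')
    have key : ∀ (w : ↥(pullback f (pullback.fst pX pY))) (hw : w ∈ p1 ⁻¹ᵁ V'), p2 w ∈ closure (Set.range hg) →
        ∃ v₀ : (V' : Scheme.{u}), s' v₀ = w := by
      intro w hw hcl
      have hmem : (⟨w, hw⟩ : (p1 ⁻¹ᵁ V' : Scheme.{u})) ∈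
          closure ((p1 ⁻¹ᵁ V').ι ⁻¹' (p2 ⁻¹' Set.range hg)) := by
        rw [← (p1 ⁻¹ᵁ V').ι.isOpenEmbedding.isOpenMap.preimage_closure_eq_closure_preimage (p1 ⁻¹ᵁ V').ι.continuous]
        exact p2.isOpenMap.preimage_closure_subset_closure_preimage hcl
      have hsub : (p1 ⁻¹ᵁ V').ι ⁻¹' (p2 ⁻¹' Set.range hg) ⊆ Set.range s'' := by
        intro a ha
        let k := (p1 ⁻¹ᵁ V' : Scheme.{u}).fromSpecResidueField a ≫ (p1 ⁻¹ᵁ V').ι
        have hka : ∀ pt, k pt = (p1 ⁻¹ᵁ V').ι a := fun pt => by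
          rw [Scheme.Hom.comp_apply, Scheme.fromSpecResidueField_apply]
        obtain ⟨m, hm⟩ := Groth.Agent.GrpSch.exists_lift_of_isImmersion hg (k ≫ p2) (by
          rintro _ ⟨pt, rfl⟩
          rw [Scheme.Hom.comp_apply, hka]
          exact ha)
        let k1 := IsOpenImmersion.lift (f ⁻¹ᵁ U ⊓ V').ι (k ≫ p1) (by
          rintro _ ⟨pt, rfl⟩
          rw [Scheme.Opens.range_ι]
          refine ⟨?_, by rw [Scheme.Hom.comp_apply, hka]; exact a.2⟩
          show f ((k ≫ p1) pt) ∈ U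
          rw [← Scheme.Hom.comp_apply, Category.assoc, pullback.condition, reassoc_of% hm.symm, pullback.lift_fst,
            Scheme.Hom.comp_apply]
          exact (m pt).2)
        have hk1 : k1 ≫ (f ⁻¹ᵁ U ⊓ V').ι = k ≫ p1 := IsOpenImmersion.lift_fac _ _ _
        have hmU : m ≫ U.ι = k ≫ p1 ≫ f := by
          have := congrArg (· ≫ pullback.fst pX pY) hm
          simp only [Category.assoc, pullback.lift_fst, hg] at this
          rw [this, pullback.condition]
        have hkU : k1 ≫ X'.homOfLE (inf_le_left : f ⁻¹ᵁ U ⊓ V' ≤ f ⁻¹ᵁ U) ≫ (f ∣_ U) = m := by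
          rw [← cancel_mono U.ι, Category.assoc, Category.assoc, morphismRestrict_ι, ← Category.assoc (X'.homOfLE _),
            Scheme.homOfLE_ι, reassoc_of% hk1, hmU]
        have hkv : k = k1 ≫ X'.homOfLE (inf_le_right : f ⁻¹ᵁ U ⊓ V' ≤ V') ≫ s' := by
          apply pullback.hom_ext
          · show k ≫ p1 = (k1 ≫ X'.homOfLE _ ≫ s') ≫ p1
            rw [Category.assoc k1, Category.assoc (X'.homOfLE _), hs'1, Scheme.homOfLE_ι, hk1]
          · show k ≫ p2 = (k1 ≫ X'.homOfLE _ ≫ s') ≫ p2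
            rw [Category.assoc k1, Category.assoc (X'.homOfLE _), hs'2]
            apply pullback.hom_ext
            · rw [Category.assoc k, Category.assoc k1, Category.assoc (X'.homOfLE _), pullback.lift_fst,
                ← Category.assoc (X'.homOfLE _), Scheme.homOfLE_ι, ← pullback.condition, reassoc_of% hk1]
            · rw [Category.assoc k, Category.assoc k1, Category.assoc (X'.homOfLE _), pullback.lift_snd, hagree,
                reassoc_of% hkU]
              have := congrArg (· ≫ pullback.snd pX pY) hm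
              simp only [Category.assoc, pullback.lift_snd, hg] at this
              exact this.symm
        refine ⟨X'.homOfLE (inf_le_right : f ⁻¹ᵁ U ⊓ V' ≤ V') (k1 (closedPoint _)),
          (p1 ⁻¹ᵁ V').ι.isEmbedding.injective ?_⟩
        rw [← Scheme.Hom.comp_apply s'', hs'', ← Scheme.Hom.comp_apply, ← Scheme.Hom.comp_apply, ← hkv, hka]
      obtain ⟨v₀, hv₀⟩ := closure_minimal hsub s''.isClosedEmbedding.isClosed_range hmem
      exact ⟨v₀, by rw [← hs'', Scheme.Hom.comp_apply, hv₀]; rfl⟩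
    let x₀ : (V' : Scheme.{u}) := ⟨x', hxV'⟩
    have hz : pullback.fst pX pY (s x₀) = f x' := by
      rw [← Scheme.Hom.comp_apply, pullback.lift_fst]; rfl
    -- the graph point is in the closure
    have hcl : s x₀ ∈ closure (Set.range hg) := by
      have hd : x₀ ∈ closure ((V'.ι ≫ f) ⁻¹' (U : Set X)) := by
        have : IsOpenMap (V'.ι ≫ f) := f.isOpenMap.comp V'.ι.isOpenEmbedding.isOpenMap
        exact this.preimage_closure_subset_closure_preimage (show (V'.ι ≫ f) x₀ ∈ closure (U : Set X) from hU _)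
      refine closure_mono ?_ (image_closure_subset_closure_image s.continuous ⟨x₀, hd, rfl⟩)
      rintro _ ⟨a, ha, rfl⟩
      let a' : ((f ⁻¹ᵁ U ⊓ V' : X'.Opens) : Scheme.{u}) := ⟨V'.ι a, ha, a.2⟩
      refine ⟨(f ∣_ U) (X'.homOfLE (inf_le_left : f ⁻¹ᵁ U ⊓ V' ≤ f ⁻¹ᵁ U) a'), ?_⟩
      have haa : X'.homOfLE (inf_le_right : f ⁻¹ᵁ U ⊓ V' ≤ V') a' = a :=
        V'.ι.isEmbedding.injective (by rw [← Scheme.Hom.comp_apply, Scheme.homOfLE_ι]; rfl)
      rw [← haa, ← Scheme.Hom.comp_apply, ← Scheme.Hom.comp_apply, ← Scheme.Hom.comp_apply]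
      refine congrArg (fun m : ((f ⁻¹ᵁ U ⊓ V' : X'.Opens) : Scheme.{u}) ⟶ pullback pX pY => m a') ?_
      apply pullback.hom_ext
      · rw [Category.assoc, Category.assoc, Category.assoc, pullback.lift_fst, pullback.lift_fst,
          morphismRestrict_ι, ← Category.assoc, ← Category.assoc, Scheme.homOfLE_ι, Scheme.homOfLE_ι]
      · rw [Category.assoc, Category.assoc, Category.assoc, pullback.lift_snd, pullback.lift_snd, hagree]
    obtain ⟨V, v, h1, h2, h3, -⟩ := exists_extension pX pY W0 U h hh.symm (s x₀) (hz.symm ▸ hxW0)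
      (hXn _) hcl ⟨⊤, trivial, fun w _ hwcl hwf => by
        obtain ⟨w', hw1, hw2⟩ := Scheme.Pullback.exists_preimage_pullback (f := f) (g := pullback.fst pX pY) x' w
          ((hwf.trans hz).symm)
        obtain ⟨v₀, hv₀⟩ := key w' (show p1 w' ∈ V' by rw [hw1]; exact hxV') (hw2.symm ▸ hwcl)
        have : v₀ = x₀ := V'.ι.isEmbedding.injective (by
          rw [show V'.ι v₀ = p1 (s' v₀) by rw [← Scheme.Hom.comp_apply, hs'1], hv₀, hw1]; rfl)
        rw [← hw2, ← hv₀, this, ← Scheme.Hom.comp_apply, hs'2]⟩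
    exact ⟨V, v, hz ▸ h1, h2, h3⟩

end Groth.Agent.S3837
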