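import Groth.Statements.S3842
import Groth.Agent.MeroDivLead.Extend
import Groth.Agent.S8869
-- import your own Groth.Agent.* helpers here

set_option autoImplicit false
universe u
open CategoryTheory CategoryTheory.Limits AlgebraicGeometry TopologicalSpace
open Rat20

namespace Groth.Agent.S3842

/-- For the open subset U = X; the general case is the same statement over the open subscheme U: let f :
X' → X be a morphism of schemes with X' reduced, suppose the irreducible components of X form a
locally finite family and that every irreducible component of X' dominates an irreducible component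
of X (the closure of its image is an irreducible component of X). Then for every schematically dense
open subset V of X, the preimage f⁻¹(V) is schematically dense in X'. -/
theorem result {X X' : Scheme.{u}} (f : X' ⟶ X) [IsReduced X']
    (hfin : ∀ x : ↥X, ∃ W : X.Opens, x ∈ W ∧ {Z ∈ irreducibleComponents ↥X | (Z ∩ (W : Set ↥X)).Nonempty}.Finite)
    (hdom : ∀ Z' ∈ irreducibleComponents ↥X', closure (f '' Z') ∈ irreducibleComponents ↥X)
    (V : X.Opens) (hV : CInt.IsSchematicallyDense V) : CInt.IsSchematicallyDense (f ⁻¹ᵁ V) := by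
  have comp_of_max : ∀ {Y : Scheme.{u}} (g : ↥Y), (∀ w, w ⤳ g → w = g) → closure ({g} : Set ↥Y) ∈ irreducibleComponents ↥Y := by
    intro Y g hgmax
    refine ⟨isIrreducible_singleton.closure, fun S hS hle => ?_⟩
    have hg := hS.isGenericPoint_genericPoint_closure
    have hw : hS.genericPoint ⤳ g := hg.specializes (subset_closure (hle (subset_closure rfl)))
    rw [← hgmax _ hw, show closure ({hS.genericPoint} : Set ↥Y) = closure S from hg]
    exact subset_closure
  have max_of_comp : ∀ g : ↥X, closure ({g} : Set ↥X) ∈ irreducibleComponents ↥X → ∀ w, w ⤳ g → w = g := by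
    intro g hg w hw
    have h2 : g ⤳ w := specializes_iff_mem_closure.2
      (hg.2 isIrreducible_singleton.closure (specializes_iff_closure_subset.1 hw) (subset_closure rfl))
    exact (hw.antisymm h2).eq
  have key : ∀ x : ↥X, (∀ w, w ⤳ x → w = x) → x ∈ V := by
    intro x hx
    by_contra hxV
    obtain ⟨W, hxW, hW⟩ := hfin x
    let B : Set ↥X := ⋃ Z ∈ {Z ∈ irreducibleComponents ↥X | (Z ∩ (W : Set ↥X)).Nonempty} \ {closure {x}}, Z
    have hB : IsClosed B := (hW.subset Set.sdiff_subset).isClosed_biUnion fun Z hZ => isClosed_of_mem_irreducibleComponents Z hZ.1.1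
    let W' : X.Opens := W ⊓ ⟨_, hB.isOpen_compl⟩
    have hxW' : x ∈ W' := by
      refine ⟨hxW, fun h => ?_⟩
      obtain ⟨Z, ⟨⟨hZ, -⟩, hne⟩, hxZ⟩ := Set.mem_iUnion₂.1 h
      have hg := hZ.1.isGenericPoint_genericPoint_closure
      have hgx := hx _ (hg.specializes (subset_closure hxZ))
      apply hne
      rw [Set.mem_singleton_iff, ← hgx, show closure ({hZ.1.genericPoint} : Set ↥X) = closure Z from hg,
        (isClosed_of_mem_irreducibleComponents Z hZ).closure_eq]
    have h1 : (1 : Γ(X, W')) = 0 := hV W' (by
      refine TopCat.Presheaf.section_ext X.sheaf _ _ _ fun y hy => ?_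
      exfalso
      obtain ⟨g, hg, hgmax⟩ := Groth.Agent.MeroFrac.exists_maximal_generization y
      by_cases hgx : g = x
      · subst hgx
        exact hxV (hg.mem_open V.2 hy.2)
      · refine hy.1.2 (Set.mem_iUnion₂.2 ⟨closure {g}, ⟨⟨comp_of_max g hgmax, y, specializes_iff_mem_closure.1 hg, hy.1.1⟩,
          fun e => hgx ?_⟩, specializes_iff_mem_closure.1 hg⟩)
        exact (inseparable_iff_closure_eq.2 (Set.mem_singleton_iff.1 e)).eq)
    have h2 := congrArg (X.presheaf.germ W' x hxW') h1
    rw [map_one, map_zero] at h2
    exact one_ne_zero h2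
  intro W
  rw [injective_iff_map_eq_zero]
  intro r hr
  refine TopCat.Presheaf.section_ext X'.sheaf _ _ _ fun x hx => ?_
  refine Eq.trans ?_ (map_zero _).symm
  obtain ⟨_, ⟨A, hA, rfl⟩, hxA, hAW⟩ := X'.isBasis_affineOpens.exists_subset_of_mem_open hx W.2
  have h0 : X'.presheaf.map (homOfLE (SetLike.coe_subset_coe.mp hAW : A ≤ W)).op r = 0 :=
    Groth.Agent.MeroFrac.ring_eq_zero hA _ fun z hz => by
      have hzmax := (Groth.Agent.S8869.result X' z).1 hz.2
      have h2 := hdom _ (comp_of_max z hzmax)
      have e : closure (f '' closure ({z} : Set ↥X')) = closure ({f z} : Set ↥X) := by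
        rw [closure_image_closure f.continuous, Set.image_singleton]
      rw [e] at h2
      have hzV : f z ∈ V := key _ (max_of_comp _ h2)
      have := congrArg (X'.presheaf.germ (W ⊓ f ⁻¹ᵁ V) z ⟨hAW hz.1, hzV⟩) hr
      erw [TopCat.Presheaf.germ_res_apply, map_zero] at this
      erw [TopCat.Presheaf.germ_res_apply]
      exact this
  have := congrArg (X'.presheaf.germ A x hxA) h0
  erw [TopCat.Presheaf.germ_res_apply, map_zero] at this
  exact this
end Groth.Agent.S3842
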