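import Groth.Statements.S3844
import Groth.Agent.SchDomLib.Basic

set_option autoImplicit false
universe u
open CategoryTheory CategoryTheory.Limits AlgebraicGeometry TopologicalSpace
open Rat20

namespace Groth.Agent.S3844

/-- For the open subset U = X: let f : X' → X be flat with X locally Noetherian. Then for every
schematically dense open subset V of X, the preimage f⁻¹(V) is schematically dense in X'. -/
theorem result {X X' : Scheme.{u}} (f : X' ⟶ X) [Flat f]
    [IsLocallyNoetherian X] (V : X.Opens) (hV : CInt.IsSchematicallyDense V) :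
    CInt.IsSchematicallyDense (f ⁻¹ᵁ V) := by
  have := Groth.Agent.SchDomLib.isSchemeTheoreticallyDominant_opens_ι hV
  have hp : IsPullback (f ∣_ V) (f ⁻¹ᵁ V).ι V.ι f := (isPullback_morphismRestrict f V).flip.flip
  have hdom : IsSchemeTheoreticallyDominant (f ⁻¹ᵁ V).ι := .of_isPullback hp
  have hqc : QuasiCompact (f ⁻¹ᵁ V).ι := MorphismProperty.of_isPullback hp inferInstance
  exact Groth.Agent.SchDomLib.isSchematicallyDense_of_injective (fun W => (f ⁻¹ᵁ V).ι.app_injective W)

end Groth.Agent.S3844
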