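import Groth.Statements.S9701
import Groth.Agent.Birat.Generic
import Mathlib.AlgebraicGeometry.ValuativeCriterion
import Mathlib.AlgebraicGeometry.SpreadingOut


set_option autoImplicit false
universe u
open CategoryTheory CategoryTheory.Limits AlgebraicGeometry
open Mor

namespace Groth.Agent.S9701

open AlgebraicGeometry CategoryTheory CategoryTheory.Limits TopologicalSpace IsLocalRing
open scoped AlgebraicGeometry

set_option backward.isDefEq.respectTransparency.types false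

theorem glue_two {X Y : Scheme.{u}} (U N : X.Opens) (f : (U : Scheme.{u}) ⟶ Y) (g : (N : Scheme.{u}) ⟶ Y)
    (h : X.homOfLE (inf_le_left : U ⊓ N ≤ U) ≫ f = X.homOfLE (inf_le_right : U ⊓ N ≤ N) ≫ g) :
    ∃ k : ((U ⊔ N : X.Opens) : Scheme.{u}) ⟶ Y, X.homOfLE le_sup_left ≫ k = f ∧ X.homOfLE le_sup_right ≫ k = g := by
  let W : ULift.{u} Bool → X.Opens := fun b => cond b.down U N
  have hW : (⨆ b, W b) = U ⊔ N := by
    refine le_antisymm (iSup_le fun b => ?_) (sup_le (le_iSup W ⟨true⟩) (le_iSup W ⟨false⟩))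
    rcases b with ⟨_ | _⟩
    · exact le_sup_right
    · exact le_sup_left
  let h' : ∀ b, (W b : Scheme.{u}) ⟶ Y := fun b => match b with
    | ⟨true⟩ => f
    | ⟨false⟩ => g
  let 𝒰 := Scheme.Opens.iSupOpenCover W
  have hpair : ∀ b c, X.homOfLE (inf_le_left : W b ⊓ W c ≤ W b) ≫ h' b =
      X.homOfLE (inf_le_right : W b ⊓ W c ≤ W c) ≫ h' c := by
    rintro ⟨_ | _⟩ ⟨_ | _⟩
    · rfl
    · have h1 := congrArg (X.homOfLE (le_of_eq (inf_comm N U)) ≫ ·) h
      simp only [Scheme.homOfLE_homOfLE_assoc] at h1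
      exact h1.symm
    · exact h
    · rfl
  have hcompat : ∀ b c, pullback.fst (𝒰.f b) (𝒰.f c) ≫ h' b = pullback.snd (𝒰.f b) (𝒰.f c) ≫ h' c := by
    intro o o'
    let F := pullback.fst (𝒰.f o) (𝒰.f o') ≫ (W o).ι
    let G := IsOpenImmersion.lift (W o ⊓ W o').ι F (by
      rintro _ ⟨z, rfl⟩
      rw [Scheme.Opens.range_ι]
      refine ⟨(pullback.fst (𝒰.f o) (𝒰.f o') z).2, ?_⟩
      have h1 := congrArg (fun q => (q ≫ (⨆ p, W p).ι) z) (pullback.condition (f := 𝒰.f o) (g := 𝒰.f o'))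
      simp only [𝒰, Scheme.Opens.iSupOpenCover, Category.assoc, Scheme.homOfLE_ι] at h1
      change F z ∈ W o'
      rw [show F z = _ from h1]
      exact (pullback.snd (𝒰.f o) (𝒰.f o') z).2)
    have hG1 : G ≫ X.homOfLE inf_le_left = pullback.fst (𝒰.f o) (𝒰.f o') := by
      rw [← cancel_mono (W o).ι, Category.assoc, Scheme.homOfLE_ι, IsOpenImmersion.lift_fac]
      rfl
    have hG2 : G ≫ X.homOfLE inf_le_right = pullback.snd (𝒰.f o) (𝒰.f o') := by
      rw [← cancel_mono (W o').ι, Category.assoc, Scheme.homOfLE_ι, IsOpenImmersion.lift_fac]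
      have h1 := congrArg (· ≫ (⨆ p, W p).ι) (pullback.condition (f := 𝒰.f o) (g := 𝒰.f o'))
      simp only [𝒰, Scheme.Opens.iSupOpenCover, Category.assoc, Scheme.homOfLE_ι] at h1
      exact h1
    rw [← hG1, ← hG2]
    exact (Category.assoc _ _ _).trans ((congrArg (G ≫ ·) (hpair o o')).trans (Category.assoc _ _ _).symm)
  refine ⟨X.homOfLE hW.ge ≫ 𝒰.glueMorphisms h' hcompat, ?_, ?_⟩
  · rw [Scheme.homOfLE_homOfLE_assoc]
    exact 𝒰.ι_glueMorphisms h' hcompat ⟨true⟩
  · rw [Scheme.homOfLE_homOfLE_assoc]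
    exact 𝒰.ι_glueMorphisms h' hcompat ⟨false⟩

theorem isIntegral_affine {X : Scheme.{u}} {W : X.Opens} (hW : IsAffineOpen W) {x : X} (hx : x ∈ W)
    [IsDomain (X.presheaf.stalk x)] (hinj : Function.Injective (X.presheaf.germ W x hx)) :
    IsIntegral (W : Scheme.{u}) := by
  have : IsAffine (W : Scheme.{u}) := hW
  have : IsDomain Γ(X, W) := hinj.isDomain (X.presheaf.germ W x hx).hom
  have : Nonempty (W : Scheme.{u}) := ⟨⟨x, hx⟩⟩
  have : IsDomain Γ((W : Scheme.{u}), ⊤) := W.topIso.commRingCatIsoToRingEquiv.toMulEquiv.isDomain _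
  exact isIntegral_of_isAffine_of_isDomain (W : Scheme.{u})

theorem exists_gen {X : Scheme.{u}} (x : X) [IsDomain (X.presheaf.stalk x)] :
    let K := FractionRing (X.presheaf.stalk x)
    let g₀ : Spec (CommRingCat.of K) ⟶ X :=
      Spec.map (CommRingCat.ofHom (algebraMap (X.presheaf.stalk x) K)) ≫ X.fromSpecStalk x
    g₀ (closedPoint K) ⤳ x ∧ ∀ z : X, z ⤳ x → g₀ (closedPoint K) ⤳ z := by
  intro K g₀
  let iK : Spec (CommRingCat.of K) ⟶ Spec (X.presheaf.stalk x) :=
    Spec.map (CommRingCat.ofHom (algebraMap (X.presheaf.stalk x) K))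
  have hbot : (iK (closedPoint K)).asIdeal = ⊥ := by
    change Ideal.comap (algebraMap (X.presheaf.stalk x) K) (maximalIdeal K) = ⊥
    rw [maximalIdeal_eq_bot, ← RingHom.ker_eq_comap_bot, ← RingHom.injective_iff_ker_eq_bot]
    exact IsFractionRing.injective _ K
  have hg₀ : g₀ (closedPoint K) = X.fromSpecStalk x (iK (closedPoint K)) :=
    Scheme.Hom.comp_apply iK (X.fromSpecStalk x) _
  have key : ∀ z, g₀ (closedPoint K) ⤳ X.fromSpecStalk x z := fun z => by
    rw [hg₀]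
    refine Specializes.map ?_ (X.fromSpecStalk x).continuous
    exact (PrimeSpectrum.le_iff_specializes (iK (closedPoint K)) z).mp
      (show (iK (closedPoint K)).asIdeal ≤ z.asIdeal by rw [hbot]; exact bot_le)
  refine ⟨?_, fun z hz => ?_⟩
  · have := key (closedPoint (X.presheaf.stalk x))
    rwa [Scheme.fromSpecStalk_closedPoint] at this
  · obtain ⟨P, rfl⟩ : z ∈ Set.range (X.fromSpecStalk x) := by
      rw [Scheme.range_fromSpecStalk]; exact hz
    exact key P

/-- Let p : X ⟶ S and q : Y ⟶ S with q proper, let x be a point of X whose local ring is a valuation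
ring, U ⊆ X an open with x in the closure of U, and f : U ⟶ Y a morphism over S. Assume that X is
Noetherian, or else that X is reduced and has only finitely many irreducible components. Then there
are an open U' of X containing U and x and a morphism f' : U' ⟶ Y over S extending f. -/
theorem result {X Y S : Scheme.{u}} (p : X ⟶ S) (q : Y ⟶ S)
    [IsProper q] (x : X) (U : X.Opens) (f : (U : Scheme.{u}) ⟶ Y) (hf : f ≫ q = U.ι ≫ p)
    (hx : x ∈ closure (U : Set ↥X))
    (hX : (IsReduced X ∧ (irreducibleComponents ↥X).Finite) ∨ IsNoetherian X)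
    (hdom : IsDomain (X.presheaf.stalk x)) (hval : @ValuationRing (X.presheaf.stalk x) _ hdom) :
    ∃ (U' : X.Opens) (hUU' : U ≤ U'), x ∈ U' ∧
      ∃ f' : (U' : Scheme.{u}) ⟶ Y, f' ≫ q = U'.ι ≫ p ∧ X.homOfLE hUU' ≫ f' = f := by
  haveI := hdom
  haveI : ValuationRing (X.presheaf.stalk x) := hval
  let K := FractionRing (X.presheaf.stalk x)
  let g₀ : Spec (CommRingCat.of K) ⟶ X :=
    Spec.map (CommRingCat.ofHom (algebraMap (X.presheaf.stalk x) K)) ≫ X.fromSpecStalk x
  obtain ⟨hηx, hgen⟩ := exists_gen x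
  change g₀ (closedPoint K) ⤳ x at hηx
  change ∀ z : X, z ⤳ x → g₀ (closedPoint K) ⤳ z at hgen
  set η := g₀ (closedPoint K) with hη
  -- an integral affine neighbourhood
  obtain ⟨W, hW, hxW, hinj⟩ : ∃ W : X.Opens, IsAffineOpen W ∧ ∃ hxW : x ∈ W,
      Function.Injective (X.presheaf.germ W x hxW) := by
    rcases hX with ⟨hred, hfin⟩ | hN
    · haveI := hred
      have hηmax : η ∈ Groth.Agent.Birat.Max X := by
        obtain ⟨m, hm, hmη⟩ := Groth.Agent.Birat.exists_max_specializes η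
        exact ((hgen m (hmη.trans hηx)).antisymm hmη).eq ▸ hm
      have hxexcl : x ∈ Groth.Agent.Birat.excl X η := by
        intro hx'
        obtain ⟨m, hm, hmx⟩ := Set.mem_iUnion₂.mp hx'
        exact hm.2 (Groth.Agent.Birat.eq_of_specializes_max hm.1
          (hgen m (specializes_iff_mem_closure.mpr hmx))).symm
      obtain ⟨W, hW, hxW, hWsub⟩ := exists_isAffineOpen_mem_and_subset
        (U := ⟨_, Groth.Agent.Birat.isOpen_excl hfin η⟩) hxexcl
      haveI : Nonempty (W : Scheme.{u}) := ⟨⟨x, hxW⟩⟩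
      haveI : IrreducibleSpace (W : Scheme.{u}) := by
        let η' : (W : Scheme.{u}) := ⟨η, hηx.mem_open W.2 hxW⟩
        have h1 : closure ({η'} : Set (W : Scheme.{u})) = Set.univ := by
          refine Set.eq_univ_of_forall fun z => specializes_iff_mem_closure.mp ?_
          refine W.ι.isOpenEmbedding.isInducing.specializes_iff.mp ?_
          obtain ⟨m, hm, hmz⟩ := Groth.Agent.Birat.exists_max_specializes z.1
          have hmW : m ∈ W := hmz.mem_open W.2 z.2
          have e := Groth.Agent.Birat.disjoint_excl hm hηmax (Groth.Agent.Birat.mem_excl hm) (hWsub hmW)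
          rw [e] at hmz
          exact hmz
        have h2 : IsIrreducible (Set.univ : Set (W : Scheme.{u})) := h1 ▸ isIrreducible_singleton.closure
        exact { toPreirreducibleSpace := ⟨h2.2⟩, toNonempty := inferInstance }
      haveI : IsIntegral (W : Scheme.{u}) := isIntegral_of_irreducibleSpace_of_isReduced _
      haveI : IsAffine (W : Scheme.{u}) := hW
      refine ⟨W, hW, hxW, ?_⟩
      rw [injective_iff_map_eq_zero]
      intro a ha
      obtain ⟨V, hxV, hVle, iV', hV⟩ := X.presheaf.germ_eq x hxW hxW a 0 (by rw [map_zero]; exact ha)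
      rw [map_zero] at hV
      have h3 : X.basicOpen a ⊓ V = ⊥ := by
        rw [inf_comm, ← X.basicOpen_res a hVle.op, hV, X.basicOpen_zero]
      by_contra hne
      have h4 : X.basicOpen a ≠ ⊥ := fun e => hne ((basicOpen_eq_bot_iff a).mp e)
      obtain ⟨z, hz⟩ : ∃ z, z ∈ X.basicOpen a := by
        by_contra! hcon
        exact h4 (TopologicalSpace.Opens.ext (Set.eq_empty_iff_forall_notMem.mpr hcon))
      have hηV : η ∈ V := hηx.mem_open V.2 hxV
      have hzW : z ∈ W := X.basicOpen_le a hz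
      have hηa : η ∈ X.basicOpen a := by
        obtain ⟨m, hm, hmz⟩ := Groth.Agent.Birat.exists_max_specializes z
        have hmW : m ∈ W := hmz.mem_open W.2 hzW
        rw [← Groth.Agent.Birat.disjoint_excl hm hηmax (Groth.Agent.Birat.mem_excl hm) (hWsub hmW)]
        exact hmz.mem_open (X.basicOpen a).2 hz
      exact (h3.le ⟨hηa, hηV⟩).elim
    · haveI := hN
      obtain ⟨W, hxW, hW, -, hinj⟩ := X.exists_le_and_germ_injective x ⊤ trivial
      exact ⟨W, hW, hxW, hinj⟩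
  haveI : IsIntegral (W : Scheme.{u}) := isIntegral_affine hW hxW hinj
  haveI : X.IsGermInjectiveAt x := ⟨⟨W, hxW, hW, hinj⟩⟩
  have hηW : η ∈ W := hηx.mem_open W.2 hxW
  have hgenW : ∀ z ∈ W, η ⤳ z := by
    intro z hz
    let γ := W.ι (genericPoint (W : Scheme.{u}))
    have h1 : ∀ w : (W : Scheme.{u}), γ ⤳ W.ι w := fun w => (genericPoint_specializes w).map W.ι.continuous
    have h2 : η = γ := ((hgen γ (h1 ⟨x, hxW⟩)).antisymm (h1 ⟨η, hηW⟩)).eq
    exact h2 ▸ h1 ⟨z, hz⟩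
  have hηU : η ∈ U := by
    obtain ⟨z, hzW, hzU⟩ := mem_closure_iff.mp hx W W.2 hxW
    exact (hgenW z hzW).mem_open U.2 hzU
  have hsub : Subsingleton (Spec (CommRingCat.of K)) := inferInstanceAs (Subsingleton (PrimeSpectrum K))
  let g₁ : Spec (CommRingCat.of K) ⟶ (U : Scheme.{u}) := IsOpenImmersion.lift U.ι g₀ (by
    rintro _ ⟨pp, rfl⟩
    rw [Scheme.Opens.range_ι, Subsingleton.elim pp (closedPoint K)]
    exact hηU)
  have hg₁ : g₁ ≫ U.ι = g₀ := IsOpenImmersion.lift_fac _ _ _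
  -- the lift over the valuation ring
  let sq : ValuativeCommSq q :=
    { R := X.presheaf.stalk x
      commRing := inferInstance
      domain := hdom
      valuationRing := hval
      K := K
      i₁ := g₁ ≫ f
      i₂ := X.fromSpecStalk x ≫ p
      commSq := ⟨by rw [Category.assoc, hf, reassoc_of% hg₁, Category.assoc]⟩ }
  have hVC : ValuativeCriterion q := by
    have h : IsProper q := inferInstance
    rw [IsProper.eq_valuativeCriterion] at h
    exact h.1.1.1
  obtain ⟨⟨⟨l, hl₁, hl₂⟩⟩, -⟩ := hVC sq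
  obtain ⟨N₀, hxN₀, f₀, hl, hf₀⟩ := spread_out_of_isGermInjective' (x := x) p q (show Spec (X.presheaf.stalk x) ⟶ Y from l) hl₂
  let N := N₀ ⊓ W
  let f₁ : (N : Scheme.{u}) ⟶ Y := X.homOfLE (inf_le_left : N ≤ N₀) ≫ f₀
  have hf₁ : f₁ ≫ q = N.ι ≫ p := by
    rw [Category.assoc, hf₀, ← Category.assoc, Scheme.homOfLE_ι]
  have hηN : η ∈ N := hηx.mem_open N.2 ⟨hxN₀, hxW⟩
  -- agreement
  have hagree : X.homOfLE (inf_le_left : U ⊓ N ≤ U) ≫ f = X.homOfLE (inf_le_right : U ⊓ N ≤ N) ≫ f₁ := by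
    let T : X.Opens := U ⊓ N
    let g₂ : Spec (CommRingCat.of K) ⟶ (T : Scheme.{u}) := IsOpenImmersion.lift T.ι g₀ (by
      rintro _ ⟨pp, rfl⟩
      rw [Scheme.Opens.range_ι, Subsingleton.elim pp (closedPoint K)]
      exact ⟨hηU, hηN⟩)
    have hg₂ : g₂ ≫ T.ι = g₀ := IsOpenImmersion.lift_fac _ _ _
    have hTW : T ≤ W := inf_le_right.trans inf_le_right
    haveI : Nonempty (T : Scheme.{u}) := ⟨⟨η, hηU, hηN⟩⟩
    haveI : IsIntegral (T : Scheme.{u}) := isIntegral_of_isOpenImmersion (X.homOfLE hTW)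
    haveI : IsDominant g₂ := by
      refine ⟨fun z => ?_⟩
      have h3 : T.ι (g₂ (closedPoint K)) = η := by rw [← Scheme.Hom.comp_apply, hg₂]
      have h4 : g₂ (closedPoint K) ⤳ z := by
        refine T.ι.isOpenEmbedding.isInducing.specializes_iff.mp ?_
        rw [h3]; exact hgenW _ (hTW z.2)
      exact closure_mono (Set.singleton_subset_iff.mpr (Set.mem_range_self _)) h4.mem_closure
    refine ext_of_isDominant_of_isSeparated q ?_ g₂ ?_
    · rw [Category.assoc, Category.assoc, hf, hf₁, Scheme.homOfLE_ι_assoc, Scheme.homOfLE_ι_assoc]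
    · have e1 : g₂ ≫ X.homOfLE (inf_le_left : T ≤ U) = g₁ := by
        rw [← cancel_mono U.ι, Category.assoc, Scheme.homOfLE_ι, hg₁, hg₂]
      have e2 : g₂ ≫ X.homOfLE ((inf_le_right : T ≤ N).trans (inf_le_left : N ≤ N₀)) =
          Spec.map (CommRingCat.ofHom (algebraMap (X.presheaf.stalk x) K)) ≫ N₀.fromSpecStalkOfMem x hxN₀ := by
        rw [← cancel_mono N₀.ι, Category.assoc, Scheme.homOfLE_ι, hg₂, Category.assoc,
          Scheme.Opens.fromSpecStalkOfMem_ι]
      rw [reassoc_of% e1]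
      show g₁ ≫ f = g₂ ≫ X.homOfLE _ ≫ X.homOfLE _ ≫ f₀
      rw [Scheme.homOfLE_homOfLE_assoc, reassoc_of% e2, ← hl]
      exact hl₁.symm
  obtain ⟨k, hk₁, hk₂⟩ := glue_two U N f f₁ hagree
  refine ⟨U ⊔ N, le_sup_left, Or.inr ⟨hxN₀, hxW⟩, k, ?_, hk₁⟩
  let 𝒱 : ULift.{u} Bool → ((U ⊔ N : X.Opens) : Scheme.{u}).Opens :=
    fun b => (U ⊔ N).ι ⁻¹ᵁ cond b.down U N
  refine Scheme.Cover.hom_ext (((U ⊔ N : X.Opens) : Scheme.{u}).openCoverOfIsOpenCover 𝒱 ?_) _ _ ?_
  · refine TopologicalSpace.IsOpenCover.mk (eq_top_iff.mpr fun z _ => ?_)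
    rcases z.2 with hz | hz
    · exact TopologicalSpace.Opens.mem_iSup.mpr ⟨⟨true⟩, hz⟩
    · exact TopologicalSpace.Opens.mem_iSup.mpr ⟨⟨false⟩, hz⟩
  · intro b
    have key : ∀ (M : X.Opens) (hM : M ≤ U ⊔ N), (X.homOfLE hM ≫ k) ≫ q = M.ι ≫ p →
        ((U ⊔ N).ι ⁻¹ᵁ M).ι ≫ k ≫ q = ((U ⊔ N).ι ⁻¹ᵁ M).ι ≫ (U ⊔ N).ι ≫ p := by
      intro M hM h
      let j := IsOpenImmersion.lift M.ι (((U ⊔ N).ι ⁻¹ᵁ M).ι ≫ (U ⊔ N).ι) (by
        rintro _ ⟨z, rfl⟩
        rw [Scheme.Opens.range_ι]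
        exact z.2)
      have hj : j ≫ X.homOfLE hM = ((U ⊔ N).ι ⁻¹ᵁ M).ι := by
        rw [← cancel_mono (U ⊔ N).ι, Category.assoc, Scheme.homOfLE_ι, IsOpenImmersion.lift_fac]
      have h1 := congrArg (j ≫ ·) h
      simp only [Category.assoc, reassoc_of% hj] at h1
      rw [h1]
      exact IsOpenImmersion.lift_fac_assoc M.ι _ _ p
    rcases b with ⟨_ | _⟩
    · exact key N le_sup_right (by rw [hk₂, hf₁])
    · exact key U le_sup_left (by rw [hk₁, hf])

end Groth.Agent.S9701
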