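import Groth.Statements.S3848
import Groth.Agent.NormalExt.Section
import Groth.Agent.DVRDom.Scheme
import Groth.Agent.LimSch.ClosureRange
import Groth.Agent.S9701
import Mathlib

set_option autoImplicit false
universe u
open CategoryTheory CategoryTheory.Limits AlgebraicGeometry TopologicalSpace
open Rat20

namespace Groth.Agent.S3848

open Groth.Agent.NormalExt IsLocalRing
set_option backward.isDefEq.respectTransparency.types false
set_option linter.style.haveILetI false
set_option maxHeartbeats 800000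

theorem specializes_gen {R K : Type u} [CommRing R] [IsDomain R] [Field K] [Algebra R K] [IsFractionRing R K]
    (p : ↥(Spec (CommRingCat.of R))) : Spec.map (CommRingCat.ofHom (algebraMap R K)) (closedPoint K) ⤳ p := by
  refine (PrimeSpectrum.le_iff_specializes _ _).1 ?_
  show Ideal.comap (algebraMap R K) (maximalIdeal K) ≤ _
  rw [IsLocalRing.maximalIdeal_eq_bot, ← RingHom.ker_eq_comap_bot,
    (RingHom.injective_iff_ker_eq_bot _).1 (IsFractionRing.injective R K)]
  exact bot_le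

theorem sup_hom_ext {X Y : Scheme.{u}} (U V : X.Opens) (f g : ((U ⊔ V : X.Opens) : Scheme.{u}) ⟶ Y)
    (h1 : X.homOfLE (le_sup_left : U ≤ U ⊔ V) ≫ f = X.homOfLE (le_sup_left : U ≤ U ⊔ V) ≫ g)
    (h2 : X.homOfLE (le_sup_right : V ≤ U ⊔ V) ≫ f = X.homOfLE (le_sup_right : V ≤ U ⊔ V) ≫ g) : f = g := by
  refine Scheme.hom_ext_of_forall _ _ fun w => ?_
  have key : ∀ (W : X.Opens) (hW : W ≤ U ⊔ V), w.1 ∈ W → X.homOfLE hW ≫ f = X.homOfLE hW ≫ g →
      ∃ O : ((U ⊔ V : X.Opens) : Scheme.{u}).Opens, w ∈ O ∧ O.ι ≫ f = O.ι ≫ g := by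
    intro W hW hw h
    refine ⟨(U ⊔ V).ι ⁻¹ᵁ W, hw, ?_⟩
    have e : ((U ⊔ V).ι ⁻¹ᵁ W).ι = ((U ⊔ V).ι ∣_ W) ≫ X.homOfLE hW := by
      rw [← cancel_mono (U ⊔ V).ι, Category.assoc, Scheme.homOfLE_ι, morphismRestrict_ι]
    rw [e, Category.assoc, Category.assoc, h]
  rcases TopologicalSpace.Opens.mem_sup.1 w.2 with hw | hw
  · exact key U _ hw h1
  · exact key V _ hw h2

/-- the hypothesis, at a point of `U` -/
theorem lift_spec {X Y : Scheme.{u}} [IsLocallyNoetherian X] (q : Y ⟶ X) (U : X.Opens) (h : (U : Scheme.{u}) ⟶ Y)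
    (x : X) (y₀ : Y) (hxU : x ∉ U)
    (H : ∀ (R : Type u) [CommRing R] [IsDomain R] [IsDiscreteValuationRing R]
      (u : Spec (CommRingCat.of R) ⟶ X), u (IsLocalRing.closedPoint R) = x →
      ∀ ub : Spec (CommRingCat.of (FractionRing R)) ⟶ (U : Scheme.{u}),
      ub ≫ U.ι = Spec.map (CommRingCat.ofHom (algebraMap R (FractionRing R))) ≫ u →
      ∃ h₁ : Spec (CommRingCat.of R) ⟶ Y, h₁ ≫ q = u ∧ h₁ (IsLocalRing.closedPoint R) = y₀ ∧
      Spec.map (CommRingCat.ofHom (algebraMap R (FractionRing R))) ≫ h₁ = ub ≫ h)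
    (g : (U : Scheme.{u})) (hg : U.ι g ⤳ x) : h g ⤳ y₀ := by
  obtain ⟨A, u, hA, hu1, hu2⟩ := Groth.Agent.DVRDom.exists_dvr_through_specialization U.ι g x hg
    (fun h0 => hxU (h0.symm ▸ g.2))
  let e := FractionRing.algEquiv A ((U : Scheme.{u}).residueField g)
  let b : CommRingCat.of ((U : Scheme.{u}).residueField g) ⟶ CommRingCat.of (FractionRing A) :=
    CommRingCat.ofHom e.symm.toRingHom
  have hb : CommRingCat.ofHom A.subtype ≫ b = CommRingCat.ofHom (algebraMap A (FractionRing A)) :=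
    CommRingCat.hom_ext (RingHom.ext fun r => e.symm.commutes r)
  obtain ⟨h₁, -, h₁c, h₁g⟩ := H A u hu1 (Spec.map b ≫ (U : Scheme.{u}).fromSpecResidueField g) (by
    rw [Category.assoc, ← hb, Spec.map_comp, Category.assoc, hu2])
  have := (specializes_gen (K := FractionRing A) (closedPoint A)).map h₁.continuous
  rw [← Scheme.Hom.comp_apply, h₁g, h₁c, Scheme.Hom.comp_apply, Scheme.Hom.comp_apply,
    Scheme.fromSpecResidueField_apply] at this
  exact this


/-- In the case S = X (valuative criterion for a rational map to be defined at a point): let X be a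
locally Noetherian scheme, q : Y → X a morphism locally of finite type, U a dense open subset of X,
h : U → Y a section of q over U, x a point of X outside U whose local ring is an integrally closed
domain, and y₀ a point of Y over x with trivial residue field extension (an X-morphism Spec k(x) →
Y). Then h extends to a section h' of q over an open subset U' containing U and x with h'(x) = y₀ if
and only if: for every discrete valuation ring R and every morphism u : Spec R → X sending the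
closed point to x and the generic point into U, there is a morphism h₁ : Spec R → Y over X sending
the closed point to y₀ and agreeing with h at the generic point. -/
theorem result {X Y : Scheme.{u}} [IsLocallyNoetherian X] (q : Y ⟶ X)
    [LocallyOfFiniteType q] (U : X.Opens) (hU : Dense (U : Set ↥X)) (h : (U : Scheme.{u}) ⟶ Y)
    (hh : h ≫ q = U.ι) (x : ↥X) (hxU : x ∉ U) [IsDomain ↑(X.presheaf.stalk x)]
    (hx : IsIntegrallyClosed ↑(X.presheaf.stalk x)) (y₀ : ↥Y) (hy₀ : q y₀ = x)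
    (hk : Function.Bijective (q.residueFieldMap y₀)) :
    (∃ (U' : X.Opens) (hUU' : U ≤ U') (hxU' : x ∈ U') (h' : (U' : Scheme.{u}) ⟶ Y),
        h' ≫ q = U'.ι ∧ X.homOfLE hUU' ≫ h' = h ∧ h' ⟨x, hxU'⟩ = y₀) ↔
      ∀ (R : Type u) [CommRing R] [IsDomain R] [IsDiscreteValuationRing R]
        (u : Spec (CommRingCat.of R) ⟶ X), u (IsLocalRing.closedPoint R) = x →
        ∀ ub : Spec (CommRingCat.of (FractionRing R)) ⟶ (U : Scheme.{u}),
          ub ≫ U.ι = Spec.map (CommRingCat.ofHom (algebraMap R (FractionRing R))) ≫ u →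
          ∃ h₁ : Spec (CommRingCat.of R) ⟶ Y, h₁ ≫ q = u ∧ h₁ (IsLocalRing.closedPoint R) = y₀ ∧
            Spec.map (CommRingCat.ofHom (algebraMap R (FractionRing R))) ≫ h₁ = ub ≫ h := by
  constructor
  · rintro ⟨U', hUU', hxU', h', hq', hcompat, hval⟩ R _ _ _ u hu ub hub
    let u' := IsOpenImmersion.lift U'.ι u (by
      rintro _ ⟨w, rfl⟩
      rw [Scheme.Opens.range_ι]
      exact ((IsLocalRing.specializes_closedPoint w).map u.continuous).mem_open U'.isOpen (hu.symm ▸ hxU'))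
    have hu' : u' ≫ U'.ι = u := IsOpenImmersion.lift_fac _ _ _
    have hu'x : u' (closedPoint R) = ⟨x, hxU'⟩ := U'.ι.isEmbedding.injective (by
      rw [← Scheme.Hom.comp_apply, hu', hu]; rfl)
    refine ⟨u' ≫ h', by rw [Category.assoc, hq', hu'], by rw [Scheme.Hom.comp_apply, hu'x, hval], ?_⟩
    rw [← hcompat, ← Category.assoc, ← Category.assoc]
    congr 1
    rw [← cancel_mono U'.ι, Category.assoc, Category.assoc, hu', Scheme.homOfLE_ι, hub]
  · intro H
    subst hy₀
    have hspec := lift_spec q U h (q y₀) y₀ hxU H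
    obtain ⟨W0, hxW0, hW0⟩ := exists_integral_nhd (q y₀)
    obtain ⟨u0, hu0W, hu0U⟩ := hU.inter_open_nonempty (W0 : Set X) W0.isOpen ⟨q y₀, hxW0⟩
    let η := W0.ι (genericPoint ↥W0.toScheme)
    have hηu : ∀ w ∈ W0, η ⤳ w := fun w hw => by
      let w' : ↥W0.toScheme := ⟨w, hw⟩
      exact (genericPoint_specializes w').map W0.ι.continuous
    have hηU : η ∈ U := (hηu u0 hu0W).mem_open U.isOpen hu0U
    obtain ⟨Y0, hY0, hyY0, -⟩ := exists_isAffineOpen_mem_and_subset (X := Y) (x := y₀) (U := ⊤) trivial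
    haveI : IsAffine (Y0 : Scheme.{u}) := hY0
    let q0 := Y0.ι ≫ q
    haveI : IsSeparated (q0 ≫ Limits.terminal.from X) := by
      rw [Limits.terminal.comp_from]; infer_instance
    haveI : IsSeparated q0 := IsSeparated.of_comp q0 (Limits.terminal.from X)
    haveI : IsLocallyNoetherian (Y0 : Scheme.{u}) := LocallyOfFiniteType.isLocallyNoetherian q0
    -- the part of `U` mapping into `Y0`
    let U1 := U.ι ''ᵁ (h ⁻¹ᵁ Y0)
    have hU1 : U1 ≤ U := U.ι_image_le _
    let h0 : (U1 : Scheme.{u}) ⟶ (Y0 : Scheme.{u}) := IsOpenImmersion.lift Y0.ι (X.homOfLE hU1 ≫ h) (by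
      rintro _ ⟨w, rfl⟩
      rw [Scheme.Opens.range_ι]
      obtain ⟨w', hw', hww'⟩ := w.2
      rw [Scheme.Hom.comp_apply, show X.homOfLE hU1 w = w' from U.ι.isEmbedding.injective (by
        rw [← Scheme.Hom.comp_apply, Scheme.homOfLE_ι]; exact hww'.symm)]
      exact hw')
    have hh0 : h0 ≫ Y0.ι = X.homOfLE hU1 ≫ h := IsOpenImmersion.lift_fac _ _ _
    have hh0q : h0 ≫ q0 = U1.ι := by
      rw [reassoc_of% hh0, hh, Scheme.homOfLE_ι]
    haveI : LocallyOfFiniteType (h0 ≫ q0) := by rw [hh0q]; infer_instance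
    haveI : LocallyOfFiniteType h0 := locallyOfFiniteType_of_comp h0 q0
    have hhη : h ⟨η, hηU⟩ ⤳ y₀ := hspec ⟨η, hηU⟩ (hηu _ hxW0)
    have hηU1 : η ∈ U1 := ⟨⟨η, hηU⟩, hhη.mem_open Y0.isOpen hyY0, rfl⟩
    let η1 : (U1 : Scheme.{u}) := ⟨η, hηU1⟩
    have hh0η : Y0.ι (h0 η1) = h ⟨η, hηU⟩ := by
      rw [← Scheme.Hom.comp_apply, hh0, Scheme.Hom.comp_apply]
      congr 1
      exact U.ι.isEmbedding.injective (by rw [← Scheme.Hom.comp_apply, Scheme.homOfLE_ι]; rfl)
    let y : (Y0 : Scheme.{u}) := ⟨y₀, hyY0⟩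
    have hηy : h0 η1 ⤳ y := Y0.ι.isEmbedding.isInducing.specializes_iff.1 (by rw [hh0η]; exact hhη)
    have hyq : q0 y = q y₀ := by rw [Scheme.Hom.comp_apply]; rfl
    -- `y` is alone in its fibre of the closure
    have huniq : ∀ w : (Y0 : Scheme.{u}), w ∈ closure (Set.range h0) → q0 w = q0 y → w = y := by
      intro w hw hqw
      have hηw : h0 η1 ⤳ w := by
        refine specializes_iff_forall_open.2 fun N hN hwN => ?_
        obtain ⟨_, ⟨hvN, hvW⟩, ⟨v, rfl⟩⟩ := mem_closure_iff.1 hw _ (hN.inter (W0.isOpen.preimage q0.continuous))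
          ⟨hwN, show q0 w ∈ W0 by rw [hqw, hyq]; exact hxW0⟩
        have hv : U1.ι v ∈ W0 := by
          have := hvW
          rwa [Set.mem_preimage, SetLike.mem_coe, ← Scheme.Hom.comp_apply, hh0q] at this
        have hsp : η1 ⤳ v := U1.ι.isEmbedding.isInducing.specializes_iff.1 (hηu _ hv)
        exact (hsp.map h0.continuous).mem_open hN hvN
      obtain ⟨A, u1, hA, hu11, hu12⟩ := Groth.Agent.DVRDom.exists_dvr_through_specialization h0 η1 w hηw (by
        intro h0'
        apply hxU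
        have : q0 (h0 η1) = q y₀ := by rw [← h0', hqw, hyq]
        rw [← this, ← Scheme.Hom.comp_apply, hh0q]
        exact hηU)
      let e := FractionRing.algEquiv A ((U1 : Scheme.{u}).residueField η1)
      let b : CommRingCat.of ((U1 : Scheme.{u}).residueField η1) ⟶ CommRingCat.of (FractionRing A) :=
        CommRingCat.ofHom e.symm.toRingHom
      have hb : CommRingCat.ofHom A.subtype ≫ b = CommRingCat.ofHom (algebraMap A (FractionRing A)) :=
        CommRingCat.hom_ext (RingHom.ext fun r => e.symm.commutes r)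
      obtain ⟨h₁, h₁q, h₁c, h₁g⟩ := H A (u1 ≫ q0) (by rw [Scheme.Hom.comp_apply, hu11, hqw, hyq])
        (Spec.map b ≫ (U1 : Scheme.{u}).fromSpecResidueField η1 ≫ X.homOfLE hU1) (by
          rw [Category.assoc, Category.assoc, Scheme.homOfLE_ι, ← hb, Spec.map_comp, Category.assoc,
            reassoc_of% hu12, hh0q])
      let h₁' := IsOpenImmersion.lift Y0.ι h₁ (by
        rintro _ ⟨p, rfl⟩
        rw [Scheme.Opens.range_ι]
        exact ((IsLocalRing.specializes_closedPoint p).map h₁.continuous).mem_open Y0.isOpen (h₁c.symm ▸ hyY0))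
      have hh₁' : h₁' ≫ Y0.ι = h₁ := IsOpenImmersion.lift_fac _ _ _
      haveI : IsDominant (Spec.map (CommRingCat.ofHom (algebraMap A (FractionRing A)))) :=
        ⟨dense_iff_closure_eq.2 (Set.eq_univ_of_forall fun p =>
          closure_mono (Set.singleton_subset_iff.2 (Set.mem_range_self (f := (Spec.map (CommRingCat.ofHom (algebraMap A (FractionRing A))) : _ → _)) (closedPoint (FractionRing A)))) (specializes_gen p).mem_closure)⟩
      have heq : h₁' = u1 := ext_of_isDominant_of_isSeparated q0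
        (by rw [reassoc_of% hh₁', h₁q]) (Spec.map (CommRingCat.ofHom (algebraMap A (FractionRing A)))) (by
          rw [← cancel_mono Y0.ι, Category.assoc, hh₁', h₁g, ← hb, Spec.map_comp, Category.assoc, Category.assoc,
            Category.assoc, Category.assoc, reassoc_of% hu12, hh0])
      rw [← hu11, ← heq]
      exact Y0.ι.isEmbedding.injective (by rw [← Scheme.Hom.comp_apply, hh₁', h₁c]; rfl)
    obtain ⟨V, v, hxV, hv, hagree, hval⟩ := exists_section_extension q0 W0 U1 h0 hh0q y (hyq ▸ hxW0) (hyq ▸ hx)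
      (closure_mono (Set.singleton_subset_iff.2 (Set.mem_range_self (f := (h0 : _ → _)) η1)) hηy.mem_closure) ⟨⊤, trivial, fun w _ => huniq w⟩
    rw [hyq] at hxV hval
    -- discard the points of `U` leaving `Y0`
    let C : TopologicalSpace.Closeds ↥(U : Scheme.{u}) := ⟨((h ⁻¹ᵁ Y0 : (U : Scheme.{u}).Opens) : Set (U : Scheme.{u}))ᶜ,
      (h ⁻¹ᵁ Y0).isOpen.isClosed_compl⟩
    let I := Scheme.IdealSheafData.vanishingIdeal C
    have hrI : Set.range I.subschemeι = (C : Set ↥(U : Scheme.{u})) := by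
      rw [Scheme.IdealSheafData.range_subschemeι, Scheme.IdealSheafData.coe_support_vanishingIdeal]
    have hxC : q y₀ ∉ closure (Set.range (I.subschemeι ≫ U.ι)) := by
      intro hmem
      obtain ⟨c, hc⟩ := Groth.Agent.LimSch.exists_specializes_of_mem_closure_range (I.subschemeι ≫ U.ι) hmem
      exact (hrI.le ⟨c, rfl⟩) ((hspec (I.subschemeι c) hc).mem_open Y0.isOpen hyY0)
    let O : X.Opens := ⟨(closure (Set.range (I.subschemeι ≫ U.ι)))ᶜ, isClosed_closure.isOpen_compl⟩
    have hle : U ⊓ (V ⊓ O) ≤ U1 := by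
      rintro w ⟨hwU, -, hwO⟩
      refine ⟨⟨w, hwU⟩, ?_, rfl⟩
      by_contra hc
      obtain ⟨c, hc'⟩ := hrI.ge (show (⟨w, hwU⟩ : (U : Scheme.{u})) ∈ (C : Set ↥(U : Scheme.{u})) from hc)
      exact hwO (subset_closure ⟨c, by rw [Scheme.Hom.comp_apply, hc']; rfl⟩)
    let v' : ((V ⊓ O : X.Opens) : Scheme.{u}) ⟶ Y := X.homOfLE (inf_le_left : V ⊓ O ≤ V) ≫ v ≫ Y0.ι
    have hagree' : X.homOfLE (inf_le_left : U ⊓ (V ⊓ O) ≤ U) ≫ h =
        X.homOfLE (inf_le_right : U ⊓ (V ⊓ O) ≤ V ⊓ O) ≫ v' := by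
      have hle2 : U ⊓ (V ⊓ O) ≤ U1 ⊓ V := le_inf hle (inf_le_right.trans inf_le_left)
      have := congrArg (fun m => X.homOfLE hle2 ≫ m ≫ Y0.ι) hagree
      simp only [Category.assoc, hh0] at this
      simp only [Scheme.homOfLE_homOfLE_assoc] at this
      simp only [v', Scheme.homOfLE_homOfLE_assoc]
      exact this.symm
    obtain ⟨k, hk1, hk2⟩ := Groth.Agent.S9701.glue_two U (V ⊓ O) h v' hagree'
    refine ⟨U ⊔ (V ⊓ O), le_sup_left, TopologicalSpace.Opens.mem_sup.2 (Or.inr ⟨hxV, hxC⟩), k, ?_, hk1, ?_⟩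
    · refine sup_hom_ext U (V ⊓ O) _ _ (by rw [reassoc_of% hk1, hh, Scheme.homOfLE_ι]) ?_
      rw [reassoc_of% hk2, Scheme.homOfLE_ι]
      show X.homOfLE _ ≫ (v ≫ Y0.ι) ≫ q = _
      rw [Category.assoc, hv, Scheme.homOfLE_ι]
    · have hwx : (⟨q y₀, TopologicalSpace.Opens.mem_sup.2 (Or.inr ⟨hxV, hxC⟩)⟩ : ((U ⊔ (V ⊓ O) : X.Opens) : Scheme.{u})) =
          X.homOfLE (le_sup_right : V ⊓ O ≤ U ⊔ (V ⊓ O)) ⟨q y₀, hxV, hxC⟩ :=
        (U ⊔ (V ⊓ O)).ι.isEmbedding.injective (by rw [← Scheme.Hom.comp_apply, Scheme.homOfLE_ι]; rfl)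
      rw [hwx, ← Scheme.Hom.comp_apply, hk2, Scheme.Hom.comp_apply, Scheme.Hom.comp_apply,
        hval _ (by rw [← Scheme.Hom.comp_apply, Scheme.homOfLE_ι]; rfl)]
      rfl

end Groth.Agent.S3848
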