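import Groth.Statements.S3849
import Groth.Agent.NormalExt.Section
import Groth.Agent.DVRDom.Scheme
import Groth.Agent.S9701
import Mathlib

set_option autoImplicit false
universe u
open CategoryTheory CategoryTheory.Limits AlgebraicGeometry TopologicalSpace
open Rat20

namespace Groth.Agent.S3849

open Groth.Agent.NormalExt IsLocalRing
set_option backward.isDefEq.respectTransparency.types false
set_option linter.style.haveILetI false

theorem specializes_gen {R K : Type u} [CommRing R] [IsDomain R] [Field K] [Algebra R K] [IsFractionRing R K]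
    (p : ↥(Spec (CommRingCat.of R))) : Spec.map (CommRingCat.ofHom (algebraMap R K)) (closedPoint K) ⤳ p := by
  refine (PrimeSpectrum.le_iff_specializes _ _).1 ?_
  show Ideal.comap (algebraMap R K) (maximalIdeal K) ≤ _
  rw [IsLocalRing.maximalIdeal_eq_bot, ← RingHom.ker_eq_comap_bot,
    (RingHom.injective_iff_ker_eq_bot _).1 (IsFractionRing.injective R K)]
  exact bot_le

theorem sup_hom_ext {X Y : Scheme.{u}} (U V : X.Opens) (f g : ((U ⊔ V : X.Opens) : Scheme.{u}) ⟶ Y)
    (h1 : X.homOfLE (le_sup_left : U ≤ U ⊔ V) ≫ f = X.homOfLE (le_sup_left : U ≤ U ⊔ V) ≫ g)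
    (h2 : X.homOfLE (le_sup_right : V ≤ U ⊔ V) ≫ f = X.homOfLE (le_sup_right : V ≤ U ⊔ V) ≫ g) : f = g := by
  refine Scheme.hom_ext_of_forall _ _ fun w => ?_
  have key : ∀ (W : X.Opens) (hW : W ≤ U ⊔ V), w.1 ∈ W → X.homOfLE hW ≫ f = X.homOfLE hW ≫ g →
      ∃ O : ((U ⊔ V : X.Opens) : Scheme.{u}).Opens, w ∈ O ∧ O.ι ≫ f = O.ι ≫ g := by
    intro W hW hw h
    refine ⟨(U ⊔ V).ι ⁻¹ᵁ W, hw, ?_⟩
    have e : ((U ⊔ V).ι ⁻¹ᵁ W).ι = ((U ⊔ V).ι ∣_ W) ≫ X.homOfLE hW := by
      rw [← cancel_mono (U ⊔ V).ι, Category.assoc, Scheme.homOfLE_ι, morphismRestrict_ι]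
    rw [e, Category.assoc, Category.assoc, h]
  rcases TopologicalSpace.Opens.mem_sup.1 w.2 with hw | hw
  · exact key U _ hw h1
  · exact key V _ hw h2


/-- In the case S = X (sections of q : Y → X): let X be a locally Noetherian scheme, q : Y → X
separated, locally of finite type and locally quasi-finite, U a dense open subset of X, h : U → Y a
section of q over U, and x a point of X outside U whose local ring is an integrally closed domain.
Then h extends to a section of q over an open subset containing U and x if and only if there exist a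
discrete valuation ring R, a morphism u : Spec R → X sending the closed point to x and the generic
point into U, and a morphism Spec R → Y over X agreeing with h at the generic point. -/
theorem result {X Y : Scheme.{u}} [IsLocallyNoetherian X] (q : Y ⟶ X)
    [LocallyOfFiniteType q] [IsSeparated q] [LocallyQuasiFinite q] (U : X.Opens) (hU : Dense (U : Set ↥X))
    (h : (U : Scheme.{u}) ⟶ Y) (hh : h ≫ q = U.ι) (x : ↥X) (hxU : x ∉ U) [IsDomain ↑(X.presheaf.stalk x)]
    (hx : IsIntegrallyClosed ↑(X.presheaf.stalk x)) :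
    (∃ (U' : X.Opens) (hUU' : U ≤ U') (h' : (U' : Scheme.{u}) ⟶ Y),
        x ∈ U' ∧ h' ≫ q = U'.ι ∧ X.homOfLE hUU' ≫ h' = h) ↔
      ∃ (R : Type u) (_ : CommRing R) (_ : IsDomain R) (_ : IsDiscreteValuationRing R)
        (u : Spec (CommRingCat.of R) ⟶ X) (ub : Spec (CommRingCat.of (FractionRing R)) ⟶ (U : Scheme.{u}))
        (h₁ : Spec (CommRingCat.of R) ⟶ Y),
        u (IsLocalRing.closedPoint R) = x ∧
          ub ≫ U.ι = Spec.map (CommRingCat.ofHom (algebraMap R (FractionRing R))) ≫ u ∧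
          h₁ ≫ q = u ∧ Spec.map (CommRingCat.ofHom (algebraMap R (FractionRing R))) ≫ h₁ = ub ≫ h := by
  constructor
  · rintro ⟨U', hUU', h', hxU', hq', hcompat⟩
    obtain ⟨W0, hxW0, hW0⟩ := exists_integral_nhd x
    haveI : Nonempty (W0 : Scheme.{u}) := ⟨⟨x, hxW0⟩⟩
    obtain ⟨u0, hu0W, hu0U⟩ := hU.inter_open_nonempty (W0 : Set X) W0.isOpen ⟨x, hxW0⟩
    let η := W0.ι (genericPoint ↥W0.toScheme)
    have hηu : ∀ w ∈ W0, η ⤳ w := fun w hw => by
      let w' : ↥W0.toScheme := ⟨w, hw⟩
      exact (genericPoint_specializes w').map W0.ι.continuous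
    have hηU : η ∈ U := (hηu u0 hu0W).mem_open U.isOpen hu0U
    obtain ⟨A, u, hA, hu1, hu2⟩ := Groth.Agent.DVRDom.exists_dvr_through_specialization (𝟙 X) η x
      (show η ⤳ x from hηu x hxW0) (fun h0 => hxU (h0.symm ▸ hηU : x ∈ U))
    rw [Category.comp_id] at hu2
    let e := FractionRing.algEquiv A (X.residueField η)
    let b : CommRingCat.of (X.residueField η) ⟶ CommRingCat.of (FractionRing A) := CommRingCat.ofHom e.symm.toRingHom
    have hb : CommRingCat.ofHom A.subtype ≫ b = CommRingCat.ofHom (algebraMap A (FractionRing A)) :=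
      CommRingCat.hom_ext (RingHom.ext fun r => e.symm.commutes r)
    have hrange : Set.range (Spec.map b ≫ X.fromSpecResidueField η) ⊆ Set.range U.ι := by
      rintro _ ⟨w, rfl⟩
      rw [Scheme.Opens.range_ι, Scheme.Hom.comp_apply, Scheme.fromSpecResidueField_apply]
      exact hηU
    let u' := IsOpenImmersion.lift U'.ι u (by
      rintro _ ⟨w, rfl⟩
      rw [Scheme.Opens.range_ι]
      exact ((IsLocalRing.specializes_closedPoint w).map u.continuous).mem_open U'.isOpen (hu1.symm ▸ hxU'))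
    have hu' : u' ≫ U'.ι = u := IsOpenImmersion.lift_fac _ _ _
    refine ⟨A, inferInstance, inferInstance, hA, u, IsOpenImmersion.lift U.ι _ hrange, u' ≫ h', hu1, ?_, ?_, ?_⟩
    · rw [IsOpenImmersion.lift_fac, ← hb, Spec.map_comp, Category.assoc, hu2]
    · rw [Category.assoc, hq', hu']
    · rw [← hcompat, ← Category.assoc, ← Category.assoc]
      congr 1
      rw [← cancel_mono U'.ι, Category.assoc, Category.assoc, hu', Scheme.homOfLE_ι, IsOpenImmersion.lift_fac,
        ← hb, Spec.map_comp, Category.assoc, hu2]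
  · rintro ⟨R, _, _, _, u, ub, h₁, hu, hub, hq₁, hh₁⟩
    have hqy : q (h₁ (closedPoint R)) = x := by rw [← Scheme.Hom.comp_apply, hq₁, hu]
    subst hqy
    obtain ⟨W0, hxW0, hW0⟩ := exists_integral_nhd (q (h₁ (closedPoint R)))
    have hycl : h₁ (closedPoint R) ∈ closure (Set.range h) := by
      refine closure_mono (Set.singleton_subset_iff.2 ?_)
        ((specializes_gen (K := FractionRing R) (closedPoint R)).map h₁.continuous).mem_closure
      rw [← Scheme.Hom.comp_apply, hh₁]
      exact ⟨_, rfl⟩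
    obtain ⟨O, hO, hOy⟩ := isDiscrete_iff_forall_mem_exists_isOpen.1 (q.isDiscrete_preimage_singleton _)
      (h₁ (closedPoint R)) (show h₁ (closedPoint R) ∈ q ⁻¹' {q (h₁ (closedPoint R))} from rfl)
    obtain ⟨V, v, hxV, hv, hagree, -⟩ := exists_section_extension q W0 U h hh (h₁ (closedPoint R)) hxW0 hx hycl
      ⟨⟨O, hO⟩, (hOy.ge rfl).1, fun w hw _ hqw => hOy.le ⟨hw, hqw⟩⟩
    obtain ⟨k, hk1, hk2⟩ := Groth.Agent.S9701.glue_two U V h v hagree.symm
    refine ⟨U ⊔ V, le_sup_left, k, TopologicalSpace.Opens.mem_sup.2 (Or.inr hxV), ?_, hk1⟩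
    exact sup_hom_ext U V _ _ (by rw [reassoc_of% hk1, hh, Scheme.homOfLE_ι]) (by rw [reassoc_of% hk2, hv, Scheme.homOfLE_ι])

end Groth.Agent.S3849
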