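import Groth.Statements.S3852


set_option autoImplicit false
universe u
open FCompl

namespace Groth.Agent.S3852

open AlgebraicGeometry in
/-- Second assertion; stated for quasi-coherent ideal sheaves, with the condition on supports as an
inclusion, which is what the proof uses: Let X be a Noetherian scheme and I, J ideal sheaves such
that the zero locus of J is contained in the zero locus of I. Then I^n ≤ J for some n ≥ 1. -/
theorem result
    (X : Scheme.{u}) [IsNoetherian X] (I J : X.IdealSheafData)
    (h : (J.support : Set X) ⊆ I.support) :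
    ∃ n : ℕ, I ^ (n + 1) ≤ J := by
  classical
  have hle : I ≤ J.radical := by
    rw [← Scheme.IdealSheafData.vanishingIdeal_support, ← Scheme.IdealSheafData.le_support_iff_le_vanishingIdeal]
    exact h
  choose U hU hxU using fun x : X => X.isBasis_affineOpens.exists_subset_of_mem_open (Set.mem_univ x) isOpen_univ
  choose V hV using fun x : X => hU x
  obtain ⟨t, ht⟩ := CompactSpace.elim_nhds_subcover U (fun x => by
    rw [← (hV x).2]; exact (V x).2.mem_nhds ((hV x).2.ge (hxU x).1))
  have hfg : ∀ x : X, ∃ n : ℕ, (I.ideal ⟨V x, (hV x).1⟩) ^ n ≤ J.ideal ⟨V x, (hV x).1⟩ := fun x => by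
    haveI := IsLocallyNoetherian.component_noetherian (X := X) ⟨V x, (hV x).1⟩
    exact Ideal.exists_pow_le_of_le_radical_of_fg (hle _) (IsNoetherian.noetherian _)
  choose n hn using hfg
  refine ⟨t.sup n, Scheme.IdealSheafData.le_of_iSup_eq_top (fun x : t => ⟨V x.1, (hV x.1).1⟩) ?_ fun x => ?_⟩
  · refine top_le_iff.1 fun y _ => ?_
    obtain ⟨x, hx, hy⟩ := Set.mem_iUnion₂.1 (ht.ge (Set.mem_univ y))
    exact TopologicalSpace.Opens.mem_iSup.2 ⟨⟨x, hx⟩, by rw [← SetLike.mem_coe, (hV x).2]; exact hy⟩
  · rw [Scheme.IdealSheafData.ideal_pow, Pi.pow_apply]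
    exact (Ideal.pow_le_pow_right ((Finset.le_sup x.2).trans (Nat.le_succ _))).trans (hn x.1)

end Groth.Agent.S3852
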