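import Groth.Statements.S3856
import Groth.Agent.CAlgCompl.Basic

set_option autoImplicit false
universe u
open AdicRing

namespace Groth.Agent.S3856

/-- Let A be a ring that is complete and separated for the J-adic topology of an ideal J. If A/J² is
Noetherian (equivalently, A/J is Noetherian and J/J² is a finitely generated A/J-module), then A is
Noetherian. The published statement is phrased for a formal spectrum Spf(A) all of whose levels
Spec(A/J^(n+1)) are Noetherian; it is stated here with the weaker hypothesis that A/J² is
Noetherian. -/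
theorem result (A : Type u) [CommRing A]
    (J : Ideal A) [IsAdicComplete J A] [IsNoetherianRing (A ⧸ J ^ 2)] : IsNoetherianRing A := by
  haveI : IsNoetherianRing (A ⧸ J) :=
    isNoetherianRing_of_surjective (A ⧸ J ^ 2) _ (Ideal.Quotient.factor (Ideal.pow_le_self two_ne_zero))
      (Ideal.Quotient.factor_surjective _)
  haveI : IsHausdorff J J := ⟨fun x hx => Subtype.ext <|
    Groth.Agent.CAlgCompl.eq_zero_of_forall_mem (I := J) fun n => by
      have h : (x : A) ∈ ((J ^ n • ⊤ : Submodule A J)).map J.subtype := ⟨x, SModEq.zero.1 (hx n), rfl⟩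
      rw [Submodule.map_smul''] at h
      exact Submodule.smul_mono le_rfl le_top h⟩
  have hJ : Module.Finite A J := by
    refine Groth.Agent.CAlgCompl.finite_of_finite_quotient (R := A) J J (h := ?_)
    let g : J →ₗ[A] A ⧸ J ^ 2 := (Submodule.mkQ (J ^ 2)) ∘ₗ J.subtype
    have hg : LinearMap.ker g ≤ (J • ⊤ : Submodule A J) := fun x hx => by
      rw [Submodule.mem_smul_top_iff, smul_eq_mul, ← pow_two]
      exact (Submodule.Quotient.mk_eq_zero _).1 hx
    have hfg : (LinearMap.range g).FG := by
      have hr : LinearMap.range g = (J.map (Ideal.Quotient.mk (J ^ 2))).restrictScalars A := by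
        ext y
        rw [Submodule.restrictScalars_mem, Ideal.mem_map_iff_of_surjective _ Ideal.Quotient.mk_surjective]
        exact ⟨fun ⟨x, hx⟩ => ⟨x.1, x.2, hx⟩, fun ⟨x, hx, hxy⟩ => ⟨⟨x, hx⟩, hxy⟩⟩
      rw [hr]
      exact Submodule.FG.restrictScalars (IsNoetherian.noetherian _)
    haveI : Module.Finite A (LinearMap.range g) := Module.Finite.iff_fg.2 hfg
    haveI : Module.Finite A (J ⧸ LinearMap.ker g) := Module.Finite.equiv g.quotKerEquivRange.symm
    exact Module.Finite.of_surjective (Submodule.factor hg) (Submodule.factor_surjective hg)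
  exact Groth.Agent.CAlgCompl.isNoetherianRing_of_isAdicComplete J (Module.Finite.iff_fg.1 hJ)

end Groth.Agent.S3856
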