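import Groth.Statements.S3858
import Groth.Agent.ClPush.FormalSys

set_option autoImplicit false
universe u
open FCompl

namespace Groth.Agent.S3858

open AlgebraicGeometry in
/-- Formal schemes are presented as systems of thickenings (X_n)_n and fibre products of systems are
taken levelwise. Let X → S be an adic morphism of systems (every square X_n → X_(n+1), S_n → S_(n+1)
is cartesian) whose level-0 morphism X_0 → S_0 is locally of finite type, and S' → S a morphism from
a locally Noetherian adic formal system S'. Then the levelwise fibre product (X_n ×_(S_n) S'_n)_n is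
a locally Noetherian adic formal system, its projection to S' is adic, and the level-0 projection
X_0 ×_(S_0) S'_0 → S'_0 is locally of finite type. The published statement concerns the fibre
product of formal schemes, which the levelwise fibre product presents because X is adic over S, and
also assumes X and S locally Noetherian, which is not assumed here. -/
theorem result {𝔛 𝔖 𝔖' : FSch.Sys.{u}} (f : 𝔛 ⟶ 𝔖) (g : 𝔖' ⟶ 𝔖)
    (h𝔖' : 𝔖'.IsLocNoethFormal) (hf : FSch.IsAdicHom f) [LocallyOfFiniteType ((f : FSch.Hom 𝔛 𝔖).app 0)] :
    (FSch.pullbackSys f g).IsLocNoethFormal ∧ FSch.IsAdicHom (FSch.pullbackSnd f g) ∧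
      LocallyOfFiniteType ((FSch.pullbackSnd f g : FSch.Hom _ _).app 0) := by
  have hsq : _root_.FSch.IsAdicHom (_root_.FSch.pullbackSnd f g) := fun n => by
    let q := CategoryTheory.IsPullback.of_hasPullback (_root_.FSch.Hom.app f n) (_root_.FSch.Hom.app g n)
    have h1 := q.flip.paste_vert (hf n).flip
    have e : CategoryTheory.CategoryStruct.comp (CategoryTheory.Limits.pullback.fst (_root_.FSch.Hom.app f n) (_root_.FSch.Hom.app g n)) (𝔛.ι n) =
        CategoryTheory.CategoryStruct.comp ((_root_.FSch.pullbackSys f g).ι n)
          (CategoryTheory.Limits.pullback.fst (_root_.FSch.Hom.app f (n + 1)) (_root_.FSch.Hom.app g (n + 1))) :=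
      (CategoryTheory.Limits.pullback.lift_fst _ _ _).symm
    rw [e, _root_.FSch.Hom.comm g n] at h1
    refine (CategoryTheory.IsPullback.of_bot h1 ?_ (CategoryTheory.IsPullback.of_hasPullback _ _).flip).flip
    exact (CategoryTheory.Limits.pullback.lift_snd _ _ _).symm
  have hlft : LocallyOfFiniteType ((_root_.FSch.pullbackSnd f g : _root_.FSch.Hom _ _).app 0) :=
    CategoryTheory.MorphismProperty.pullback_snd (P := @LocallyOfFiniteType) _ _ inferInstance
  haveI := h𝔖'.2.2 0
  haveI : IsLocallyNoetherian ((_root_.FSch.pullbackSys f g).X 0) :=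
    LocallyOfFiniteType.isLocallyNoetherian ((_root_.FSch.pullbackSnd f g : _root_.FSch.Hom _ _).app 0)
  exact ⟨Groth.Agent.ClPush.isLocNoethFormal_of_isAdicHom _ h𝔖' hsq, hsq, hlft⟩

end Groth.Agent.S3858
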