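import Groth.Statements.S3859


set_option autoImplicit false
universe u
open FCompl

namespace Groth.Agent.S3859

open AlgebraicGeometry in
open CategoryTheory in
/-- In the presentation by systems of thickenings: For morphisms of systems X -> S and Y -> S, the
levelwise fibre product with its two projections is a fibre product in the category of systems; it
presents the fibre product of formal schemes when one factor is adic over the base, and otherwise
only up to cofinality of the levels. -/
theorem result {𝔛 𝔜 𝔖 : FSch.Sys.{u}} (f : 𝔛 ⟶ 𝔖) (g : 𝔜 ⟶ 𝔖) :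
    IsPullback (FSch.pullbackFst f g) (FSch.pullbackSnd f g) f g := by
  have comm : _root_.FSch.pullbackFst f g ≫ f = _root_.FSch.pullbackSnd f g ≫ g :=
    _root_.FSch.Hom.ext (funext fun n => Limits.pullback.condition)
  refine IsPullback.of_isLimit (c := Limits.PullbackCone.mk _ _ comm)
    (Limits.PullbackCone.IsLimit.mk comm
      (fun s => (⟨fun n => Limits.pullback.lift ((s.fst : _root_.FSch.Hom _ _).app n) ((s.snd : _root_.FSch.Hom _ _).app n)
        (congrArg (fun φ : _root_.FSch.Hom _ _ => φ.app n) s.condition), fun n => ?_⟩ : _root_.FSch.Hom s.pt _))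
      (fun s => ?_) (fun s => ?_) (fun s m h1 h2 => ?_))
  · refine Limits.pullback.hom_ext ?_ ?_
    · show (Limits.pullback.lift _ _ _ ≫ Limits.pullback.map _ _ _ _ (𝔛.ι n) (𝔜.ι n) (𝔖.ι n) ((f : _root_.FSch.Hom 𝔛 𝔖).comm n) ((g : _root_.FSch.Hom 𝔜 𝔖).comm n)) ≫ _ = _
      simp only [Category.assoc, Limits.pullback.map, Limits.pullback.lift_fst]
      rw [Limits.pullback.lift_fst_assoc, (s.fst : _root_.FSch.Hom _ _).comm n]
      exact (congrArg (s.pt.ι n ≫ ·) (Limits.pullback.lift_fst _ _ _).symm).trans (Category.assoc _ _ _).symm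
    · show (Limits.pullback.lift _ _ _ ≫ Limits.pullback.map _ _ _ _ (𝔛.ι n) (𝔜.ι n) (𝔖.ι n) ((f : _root_.FSch.Hom 𝔛 𝔖).comm n) ((g : _root_.FSch.Hom 𝔜 𝔖).comm n)) ≫ _ = _
      simp only [Category.assoc, Limits.pullback.map, Limits.pullback.lift_snd]
      rw [Limits.pullback.lift_snd_assoc, (s.snd : _root_.FSch.Hom _ _).comm n]
      exact (congrArg (s.pt.ι n ≫ ·) (Limits.pullback.lift_snd _ _ _).symm).trans (Category.assoc _ _ _).symm
  · exact _root_.FSch.Hom.ext (funext fun n => Limits.pullback.lift_fst _ _ _)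
  · exact _root_.FSch.Hom.ext (funext fun n => Limits.pullback.lift_snd _ _ _)
  · refine _root_.FSch.Hom.ext (funext fun n => Limits.pullback.hom_ext ?_ ?_)
    · exact (congrArg (fun φ : _root_.FSch.Hom _ _ => φ.app n) h1).trans (Limits.pullback.lift_fst _ _ _).symm
    · exact (congrArg (fun φ : _root_.FSch.Hom _ _ => φ.app n) h2).trans (Limits.pullback.lift_snd _ _ _).symm

end Groth.Agent.S3859
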