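import Groth.Statements.S3860
import Mathlib

set_option autoImplicit false
universe u
open FCompl

namespace Groth.Agent.S3860

open AlgebraicGeometry in
/-- (Affine adic case; the formal spectra presented as the systems Spec(A/I^(n+1)) and Spec(B/K^(n+1)).)
Let I be an ideal of a ring A which is complete and separated for the I-adic topology, and K an
ideal of a ring B. Then φ ↦ (Spec of the induced maps B/K^(n+1) -> A/I^(n+1)) is a bijection from
the ring homomorphisms φ : B -> A with φ(K) ⊆ I onto the morphisms of systems from Spf(A) to Spf(B),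
i.e. the compatible families of morphisms Spec(A/I^(n+1)) -> Spec(B/K^(n+1)). -/
theorem result (A B : Type u) [CommRing A] [CommRing B] (I : Ideal A) (K : Ideal B)
    [IsAdicComplete I A] :
    Function.Bijective (fun φ : {φ : B →+* A // K ≤ I.comap φ} ↦ FSch.spfMap I K φ.1 φ.2) := by
  refine ⟨fun φ φ' h => Subtype.ext (RingHom.ext fun b => ?_), fun F => ?_⟩
  · refine (IsHausdorff.eq_iff_smodEq (I := I)).2 fun n => ?_
    have h1 := congrArg (fun G : _root_.FSch.Hom (_root_.FSch.spf A I) (_root_.FSch.spf B K) => G.app n) h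
    have h2 := congrArg CommRingCat.Hom.hom (Spec.map_injective h1)
    have h3 : Ideal.Quotient.mk (I ^ (n + 1)) (φ.1 b) = Ideal.Quotient.mk (I ^ (n + 1)) (φ'.1 b) :=
      congrArg (fun ψ => ψ (Ideal.Quotient.mk (K ^ (n + 1)) b)) h2
    rw [smul_eq_mul, Ideal.mul_top, SModEq.sub_mem]
    exact Ideal.pow_le_pow_right (Nat.le_succ n) (Ideal.Quotient.eq.1 h3)
  · let ψ : ∀ n, B ⧸ K ^ (n + 1) →+* A ⧸ I ^ (n + 1) := fun n => (Spec.preimage ((F : _root_.FSch.Hom _ _).app n)).hom
    have hψ : ∀ n, Spec.map (CommRingCat.ofHom (ψ n)) = (F : _root_.FSch.Hom _ _).app n := fun n =>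
      (congrArg Spec.map (CommRingCat.ofHom_hom _)).trans (Spec.map_preimage _)
    let Φ : ∀ n, B →+* A ⧸ I ^ (n + 1) := fun n => (ψ n).comp (Ideal.Quotient.mk _)
    have hΦ : ∀ n, (Ideal.Quotient.factorPow I (Nat.le_succ (n + 1))).comp (Φ (n + 1)) = Φ n := by
      intro n
      have c : CategoryTheory.CategoryStruct.comp (Spec.map (CommRingCat.ofHom (ψ n))) (CohB1.specQuotTrans K n) =
          CategoryTheory.CategoryStruct.comp (CohB1.specQuotTrans I n) (Spec.map (CommRingCat.ofHom (ψ (n + 1)))) := by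
        rw [hψ, hψ]; exact (F : _root_.FSch.Hom _ _).comm n
      rw [CohB1.specQuotTrans, CohB1.specQuotTrans, ← Spec.map_comp, ← Spec.map_comp] at c
      have c2 := congrArg CommRingCat.Hom.hom (Spec.map_injective c)
      refine RingHom.ext fun b => ?_
      exact (congrArg (fun χ => χ (Ideal.Quotient.mk (K ^ (n + 1 + 1)) b)) c2).symm
    have hΦ' : ∀ {m n : ℕ} (hle : m ≤ n), (Ideal.Quotient.factorPow I (Nat.succ_le_succ hle)).comp (Φ n) = Φ m := by
      intro m n hle
      induction n, hle using Nat.le_induction with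
      | base =>
        refine RingHom.ext fun b => ?_
        obtain ⟨a, ha⟩ := Ideal.Quotient.mk_surjective (Φ m b)
        rw [RingHom.comp_apply, ← ha]
        rfl
      | succ n hmn ih =>
        rw [← ih, ← hΦ n]
        refine RingHom.ext fun b => ?_
        obtain ⟨a, ha⟩ := Ideal.Quotient.mk_surjective (Φ (n + 1) b)
        simp only [RingHom.comp_apply, ← ha]
        rfl
    let f : ∀ n, B →+* A ⧸ I ^ n := fun n => (Ideal.Quotient.factorPow I (Nat.le_succ n)).comp (Φ n)
    have hf : ∀ {m n : ℕ} (hle : m ≤ n), (Ideal.Quotient.factorPow I hle).comp (f n) = f m := by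
      intro m n hle
      simp only [f]
      rw [← hΦ' hle]
      refine RingHom.ext fun b => ?_
      obtain ⟨a, ha⟩ := Ideal.Quotient.mk_surjective (Φ n b)
      simp only [RingHom.comp_apply, ← ha]
      rfl
    let φ := IsAdicComplete.liftRingHom I f hf
    have hmk : ∀ n b, Ideal.Quotient.mk (I ^ (n + 1)) (φ b) = Φ n b := fun n b => by
      rw [IsAdicComplete.mk_liftRingHom, ← hΦ n]
    have hK : K ≤ I.comap φ := fun k hk => by
      have h0 := hmk 0 k
      have hk' : k ∈ K ^ (0 + 1) := by simpa using hk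
      rw [show Φ 0 k = ψ 0 (Ideal.Quotient.mk _ k) from rfl, Ideal.Quotient.eq_zero_iff_mem.2 hk', map_zero,
        Ideal.Quotient.eq_zero_iff_mem, zero_add, pow_one] at h0
      exact h0
    refine ⟨⟨φ, hK⟩, _root_.FSch.Hom.ext (funext fun n => ?_)⟩
    refine Eq.trans ?_ (hψ n)
    show Spec.map _ = Spec.map _
    congr 2
    exact Ideal.Quotient.ringHom_ext (RingHom.ext fun b => hmk n b)

end Groth.Agent.S3860
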