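import Groth.Statements.S3873
import Groth.Agent.BlowExist.Affine

set_option autoImplicit false
universe u
open FCompl

namespace Groth.Agent.S3873

open AlgebraicGeometry in
/-- Its content on the affine schemes underlying the formal spectra: the inverse image ideal of b^Δ is
(bA)^Δ, read on Spec: For a ring homomorphism φ : B -> A and an ideal b of B, the inverse image
along Spec(φ) of the ideal sheaf of b on Spec B is the ideal sheaf on Spec A of the ideal generated
by φ(b). -/
theorem result (A B : Type u) [CommRing A] [CommRing B] (φ : B →+* A) (𝔟 : Ideal B) :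
    (FSch.idealSpec B 𝔟).comap (Spec.map (CommRingCat.ofHom φ)) = FSch.idealSpec A (𝔟.map φ) := by
  have key : ∀ (R : Type u) [CommRing R] (J : Ideal R), FSch.idealSpec R J = Groth.Agent.BlowExist.topId J := by
    intro R _ J
    rw [FSch.idealSpec, Scheme.ker_of_isAffine, Groth.Agent.BlowExist.topId]
    congr 1
    have hn := Scheme.ΓSpecIso_inv_naturality (CommRingCat.ofHom (Ideal.Quotient.mk J))
    ext z
    obtain ⟨r, rfl⟩ := (CategoryTheory.ConcreteCategory.bijective_of_isIso (Scheme.ΓSpecIso (CommRingCat.of R)).inv).2 z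
    have h := CategoryTheory.ConcreteCategory.congr_hom hn r
    have hb := CategoryTheory.ConcreteCategory.bijective_of_isIso (Scheme.ΓSpecIso (CommRingCat.of R)).inv
    refine Iff.trans ?_ (⟨fun hm => Ideal.mem_map_of_mem _ hm, fun hm => ?_⟩ : r ∈ J ↔ _)
    swap
    · obtain ⟨x, hx, hxr⟩ := (Ideal.mem_map_iff_of_surjective _ hb.2).1 hm
      exact hb.1 hxr ▸ hx
    rw [RingHom.mem_ker, ← Ideal.Quotient.eq_zero_iff_mem]
    constructor
    · intro hr
      exact (CategoryTheory.ConcreteCategory.bijective_of_isIso (Scheme.ΓSpecIso (CommRingCat.of (R ⧸ J))).inv).1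
        ((h.trans hr).trans (map_zero _).symm)
    · intro hr
      refine h.symm.trans ?_
      show (Scheme.ΓSpecIso (CommRingCat.of (R ⧸ J))).inv (Ideal.Quotient.mk J r) = 0
      rw [hr, map_zero]
  rw [key, key, Groth.Agent.BlowExist.comap_topId]

end Groth.Agent.S3873
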