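import Groth.Statements.S3867
import Groth.Agent.ClPush.FormalMor
import Groth.Agent.S3873

set_option autoImplicit false
universe u
open FCompl

namespace Groth.Agent.S3867

open AlgebraicGeometry in
/-- Formal spectra are presented as the systems Spec(A/I^(n+1)) and Spec(B/K^(n+1)), a morphism of
systems being adic when all its squares are cartesian. Let A be a Noetherian ring, complete and
separated for the I-adic topology of an ideal I, K an ideal of a ring B and φ : B → A a ring
homomorphism with φ(K) ⊆ I. Then the induced morphism Spf(A) → Spf(B) is adic if and only if the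
ideal of A generated by φ(K) is I. -/
theorem result (A B : Type u) [CommRing A] [CommRing B] [IsNoetherianRing A]
    (I : Ideal A) (K : Ideal B) [IsAdicComplete I A] (φ : B →+* A) (h : K ≤ I.comap φ) :
    FSch.IsAdicHom (FSch.spfMap I K φ h) ↔ K.map φ = I := by
  have hker : ∀ {R R' : Type u} [CommRing R] [CommRing R'] (π : R →+* R'),
      (Spec.map (CommRingCat.ofHom π)).ker = _root_.FSch.idealSpec R (RingHom.ker π) := by
    intro R R' _ _ π
    refine Scheme.IdealSheafData.ext_of_isAffine ?_
    rw [_root_.FSch.idealSpec, Groth.Agent.ClPush.ker_specMap_ideal_top, Groth.Agent.ClPush.ker_specMap_ideal_top]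
    congr 1
    simp [Ideal.mk_ker]
  have hinj : ∀ {R : Type u} [CommRing R] (J J' : Ideal R),
      _root_.FSch.idealSpec R J = _root_.FSch.idealSpec R J' → J = J' := by
    intro R _ J J' e
    have e' := congrArg (fun S : (Spec (CommRingCat.of R)).IdealSheafData => S.ideal ⟨⊤, isAffineOpen_top _⟩) e
    simp only [_root_.FSch.idealSpec, Groth.Agent.ClPush.ker_specMap_ideal_top] at e'
    have hb := CategoryTheory.ConcreteCategory.bijective_of_isIso (Scheme.ΓSpecIso (CommRingCat.of R)).inv
    have e'' := congrArg (Ideal.comap (Scheme.ΓSpecIso (CommRingCat.of R)).inv.hom) e'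
    rw [Ideal.comap_map_of_bijective _ hb, Ideal.comap_map_of_bijective _ hb] at e''
    simpa [Ideal.mk_ker] using e''
  have hkey : ∀ n, RingHom.ker (Ideal.Quotient.factor (Ideal.pow_le_pow_right (I := I) (Nat.le_succ (n + 1)))) =
      (I ^ (n + 1)).map (Ideal.Quotient.mk (I ^ (n + 2))) := fun n => Ideal.Quotient.factor_ker _
  have hkeyK : ∀ n, (RingHom.ker (Ideal.Quotient.factor (Ideal.pow_le_pow_right (I := K) (Nat.le_succ (n + 1))))).map
      (_root_.FSch.quotPowMap I K φ h (n + 1)) = ((K.map φ) ^ (n + 1)).map (Ideal.Quotient.mk (I ^ (n + 2))) := by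
    intro n
    rw [Ideal.Quotient.factor_ker, Ideal.map_map, ← Ideal.map_pow, Ideal.map_map]
    rfl
  constructor
  · intro hA
    haveI : IsClosedImmersion ((_root_.FSch.spf B K).ι 0) := IsClosedImmersion.spec_of_surjective _
      (Ideal.Quotient.factor_surjective (Ideal.pow_le_pow_right (I := K) (Nat.le_succ (0 + 1))))
    have e := Groth.Agent.ClPush.ker_of_isPullback (hA 0)
    change (Spec.map (CommRingCat.ofHom _)).ker = (Spec.map (CommRingCat.ofHom _)).ker.comap (Spec.map (CommRingCat.ofHom _)) at e
    rw [hker, hker, Groth.Agent.S3873.result] at e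
    have e2 := hinj _ _ e
    rw [hkey, hkeyK, zero_add, pow_one, pow_one] at e2
    have e3 := congrArg (Ideal.comap (Ideal.Quotient.mk (I ^ 2))) e2
    rw [Ideal.comap_map_of_surjective _ Ideal.Quotient.mk_surjective, Ideal.comap_map_of_surjective _ Ideal.Quotient.mk_surjective,
      ← RingHom.ker_eq_comap_bot, Ideal.mk_ker] at e3
    have hle : K.map φ ≤ I := Ideal.map_le_iff_le_comap.2 h
    refine le_antisymm hle (Submodule.le_of_le_smul_of_le_jacobson_bot (IsNoetherian.noetherian I)
      (IsAdicComplete.le_jacobson_bot I) ?_)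
    refine (le_sup_left.trans e3.le).trans (sup_le_sup_left ?_ _)
    rw [pow_two]; rfl
  · intro hKI n
    haveI : IsClosedImmersion ((_root_.FSch.spf A I).ι n) := IsClosedImmersion.spec_of_surjective _
      (Ideal.Quotient.factor_surjective (Ideal.pow_le_pow_right (I := I) (Nat.le_succ (n + 1))))
    haveI : IsClosedImmersion ((_root_.FSch.spf B K).ι n) := IsClosedImmersion.spec_of_surjective _
      (Ideal.Quotient.factor_surjective (Ideal.pow_le_pow_right (I := K) (Nat.le_succ (n + 1))))
    refine isPullback_of_isClosedImmersion _ _ _ _ ((_root_.FSch.spfMap I K φ h : _root_.FSch.Hom _ _).comm n).symm ?_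
    show (Spec.map (CommRingCat.ofHom _)).ker.comap (Spec.map (CommRingCat.ofHom _)) = (Spec.map (CommRingCat.ofHom _)).ker
    rw [hker, hker, Groth.Agent.S3873.result]
    congr 1
    rw [hkeyK, hkey, hKI]

end Groth.Agent.S3867
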