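import Groth.Statements.S3870
import Groth.Agent.ClPush.CompFlat
import Groth.Agent.FlatLocalDepth.Comp

set_option autoImplicit false
universe u
open FCompl

namespace Groth.Agent.S3870

/-- For a ring A, an ideal J and a prime ideal 𝔭, let A{S⁻¹}, S = A ∖ 𝔭, be the completion of A_𝔭 for
the topology defined by the extension of J, and A_{S} the subring of A{S⁻¹} generated by the images
of the completed localizations A_{f}, f ∉ 𝔭 (the stalk at 𝔭 of the structure sheaf of Spf(A), as a
plain ring, when A is adic Noetherian and 𝔭 is open). If A is Noetherian and J ⊆ 𝔭, then A_{S} is a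
Noetherian ring. -/
theorem result (A : Type u) [CommRing A] [IsNoetherianRing A] (J : Ideal A)
    (𝔭 : Ideal A) [𝔭.IsPrime] (hJ : J ≤ 𝔭) : IsNoetherianRing (FSch.stalkSubring A J 𝔭) := by
  haveI := Groth.Agent.ClPush.flat_stalk_cAtPrime A J 𝔭
  haveI := Groth.Agent.ClPush.isLocalRing_cAtPrime A J 𝔭 hJ
  haveI := Groth.Agent.ClPush.isLocalHom_subtype A J 𝔭 hJ
  haveI := RingHom.domain_isLocalRing (_root_.FSch.stalkSubring A J 𝔭).subtype
  haveI : IsLocalHom (algebraMap (_root_.FSch.stalkSubring A J 𝔭) (_root_.FSch.cAtPrime A J 𝔭)) :=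
    Groth.Agent.ClPush.isLocalHom_subtype A J 𝔭 hJ
  haveI : Module.FaithfullyFlat (_root_.FSch.stalkSubring A J 𝔭) (_root_.FSch.cAtPrime A J 𝔭) :=
    Module.FaithfullyFlat.of_flat_of_isLocalHom
  haveI : IsNoetherianRing (_root_.FSch.cAtPrime A J 𝔭) := Groth.Agent.AdicNoeth.isNoetherianRing_adicCompletion _
  exact Groth.Agent.FlatLocalDepth.isNoetherianRing_of_faithfullyFlat (_root_.FSch.stalkSubring A J 𝔭) (_root_.FSch.cAtPrime A J 𝔭)

end Groth.Agent.S3870
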