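import Groth.Statements.S3872
import Groth.Agent.ClPush.StalkRing

set_option autoImplicit false
universe u
open FCompl

namespace Groth.Agent.S3872

/-- For a ring A, an ideal J and a prime ideal 𝔭 with J ⊆ 𝔭, let A{S⁻¹}, S = A ∖ 𝔭, be the completion of
A_𝔭 for the topology defined by the extension of J, and A_{S} the subring of A{S⁻¹} generated by the
images of the completed localizations A_{f}, f ∉ 𝔭 (the stalk ring of Spf(A) at 𝔭). Given that A_{S}
and A{S⁻¹} are local rings and that the inclusion A_{S} → A{S⁻¹} and the canonical map A_𝔭 → A{S⁻¹}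
are local homomorphisms (all four are carried here as instance hypotheses; the two about A_{S} are
stated separately), both maps induce bijections on residue fields; so the residue field of A_{S} is
the residue field κ(𝔭) of A_𝔭. -/
theorem result (A : Type u) [CommRing A] (J : Ideal A) (𝔭 : Ideal A)
    [𝔭.IsPrime] (hJ : J ≤ 𝔭) [IsLocalRing (FSch.stalkSubring A J 𝔭)] [IsLocalRing (FSch.cAtPrime A J 𝔭)]
    [IsLocalHom (FSch.stalkSubring A J 𝔭).subtype]
    [IsLocalHom (algebraMap (Localization.AtPrime 𝔭) (FSch.cAtPrime A J 𝔭))] :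
    Function.Bijective (IsLocalRing.ResidueField.map (FSch.stalkSubring A J 𝔭).subtype) ∧
      Function.Bijective
        (IsLocalRing.ResidueField.map (algebraMap (Localization.AtPrime 𝔭) (FSch.cAtPrime A J 𝔭))) := by
  let ψ := algebraMap (Localization.AtPrime 𝔭) (_root_.FSch.cAtPrime A J 𝔭)
  let I := J.map (algebraMap A (Localization.AtPrime 𝔭))
  have hcong : ∀ x : _root_.FSch.cAtPrime A J 𝔭, ∃ w : Localization.AtPrime 𝔭,
      IsLocalRing.residue _ (ψ w) = IsLocalRing.residue _ x := by
    intro x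
    obtain ⟨w, hw⟩ := Ideal.Quotient.mk_surjective (AdicCompletion.evalOneₐ I x)
    refine ⟨w, (Ideal.Quotient.eq).2 fun hu => ?_⟩
    haveI : Nontrivial (Localization.AtPrime 𝔭 ⧸ I) :=
      Ideal.Quotient.nontrivial_iff.2 (Groth.Agent.ClPush.map_ne_top A J 𝔭 hJ)
    refine not_isUnit_zero (M₀ := Localization.AtPrime 𝔭 ⧸ I) ?_
    have h0 : AdicCompletion.evalOneₐ I (ψ w - x) = 0 := by
      rw [map_sub, ← hw, sub_eq_zero]
      exact (AdicCompletion.evalOneₐ I).commutes w
    exact h0 ▸ hu.map (AdicCompletion.evalOneₐ I)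
  refine ⟨⟨RingHom.injective _, fun r => ?_⟩, ⟨RingHom.injective _, fun r => ?_⟩⟩
  · obtain ⟨x, rfl⟩ := IsLocalRing.residue_surjective r
    obtain ⟨w, hw⟩ := hcong x
    obtain ⟨⟨a, s⟩, has⟩ := IsLocalization.surj 𝔭.primeCompl w
    have hmem : ψ w ∈ _root_.FSch.stalkSubring A J 𝔭 := by
      refine (Groth.Agent.ClPush.mem_stalkSubring A J 𝔭 _).2 ⟨s.1, s.2,
        algebraMap (Localization.Away s.1) (_root_.FSch.cAway A J s.1)
          (IsLocalization.mk' _ a (⟨s.1, Submonoid.mem_powers _⟩ : Submonoid.powers s.1)), ?_⟩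
      refine AdicCompletion.ext_evalₐ fun n => ?_
      rw [_root_.FSch.cAwayToAtPrime, Groth.Agent.ClPush.evalₐ_complMap, AlgHom.commutes, AlgHom.commutes]
      refine congrArg (Ideal.Quotient.mk _) ?_
      refine (IsLocalization.map_units (Localization.AtPrime 𝔭) s).mul_right_cancel ?_
      rw [has]
      have hm := congrArg (_root_.FSch.awayToAtPrime A 𝔭 s.1 s.2)
        (IsLocalization.mk'_spec (Localization.Away s.1) a (⟨s.1, Submonoid.mem_powers _⟩ : Submonoid.powers s.1))
      rw [map_mul, _root_.FSch.awayToAtPrime, IsLocalization.Away.lift_eq, IsLocalization.Away.lift_eq] at hm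
      exact hm
    exact ⟨IsLocalRing.residue _ ⟨ψ w, hmem⟩, hw⟩
  · obtain ⟨x, rfl⟩ := IsLocalRing.residue_surjective r
    obtain ⟨w, hw⟩ := hcong x
    exact ⟨IsLocalRing.residue _ w, hw⟩

end Groth.Agent.S3872
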