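import Groth.Statements.S3874
import Groth.Agent.ClPush.StalkRing
import Groth.Agent.FSAdic.Transfer

set_option autoImplicit false
universe u
open FCompl

namespace Groth.Agent.S3874

/-- Let A be a Noetherian ring, J an ideal, f ∈ A and n ≥ 0, and let A_{f} be the completion of the
localization A_f for the topology defined by the extension of J. There is a ring isomorphism from
the localization of A/J^(n+1) away from the class of f onto A_{f} modulo the (n+1)-st power of the
extension of J to A_{f}, compatible with the canonical maps from A (and hence unique). In terms of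
formal spectra: the open D(f) of Spf(A) is Spf(A_{f}), and at level n its ring is the ring
(A/J^(n+1))_f of the open D(f) of Spec(A/J^(n+1)). -/
theorem result (A : Type u) [CommRing A] [IsNoetherianRing A] (J : Ideal A)
    (f : A) (n : ℕ) :
    ∃ e : Localization.Away (Ideal.Quotient.mk (J ^ (n + 1)) f) ≃+*
        FSch.cAway A J f ⧸ (J.map (algebraMap A (FSch.cAway A J f))) ^ (n + 1),
      ∀ a : A, e (algebraMap (A ⧸ J ^ (n + 1)) _ (Ideal.Quotient.mk (J ^ (n + 1)) a)) =
        Ideal.Quotient.mk _ (algebraMap A (FSch.cAway A J f) a) := by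
  let S := Localization.Away f
  let I := J.map (algebraMap A S)
  let C := _root_.FSch.cAway A J f
  let Q := S ⧸ (J ^ (n + 1)).map (algebraMap A S)
  haveI : IsLocalization (Algebra.algebraMapSubmonoid (A ⧸ J ^ (n + 1)) (Submonoid.powers f)) Q := inferInstance
  have hM : Algebra.algebraMapSubmonoid (A ⧸ J ^ (n + 1)) (Submonoid.powers f) =
      Submonoid.powers (Ideal.Quotient.mk (J ^ (n + 1)) f) := Submonoid.map_powers _ _
  haveI : IsLocalization (Submonoid.powers (Ideal.Quotient.mk (J ^ (n + 1)) f)) Q := hM ▸ ‹_›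
  let e1 : Localization.Away (Ideal.Quotient.mk (J ^ (n + 1)) f) ≃ₐ[A ⧸ J ^ (n + 1)] Q :=
    IsLocalization.algEquiv (Submonoid.powers (Ideal.Quotient.mk (J ^ (n + 1)) f)) _ _
  let e2 : Q ≃+* S ⧸ I ^ (n + 1) := Ideal.quotEquivOfEq (Ideal.map_pow _ _ _)
  have hker := Groth.Agent.FSAdic.ker_evalₐ I (IsNoetherian.noetherian _) (n + 1)
  have hJC : (J.map (algebraMap A C)) ^ (n + 1) = RingHom.ker (AdicCompletion.evalₐ I (n + 1)).toRingHom := by
    rw [hker]
    congr 1
    show J.map (algebraMap A C) = (J.map (algebraMap A S)).map (algebraMap S C)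
    rw [Ideal.map_map]
    rfl
  let e3 : C ⧸ (J.map (algebraMap A C)) ^ (n + 1) ≃+* S ⧸ I ^ (n + 1) :=
    (Ideal.quotEquivOfEq hJC).trans
      (RingHom.quotientKerEquivOfSurjective (f := (AdicCompletion.evalₐ I (n + 1)).toRingHom) (AdicCompletion.surjective_evalₐ I (n + 1)))
  refine ⟨(e1.toRingEquiv.trans e2).trans e3.symm, fun a => ?_⟩
  show e3.symm (e2 (e1 _)) = _
  rw [e1.commutes, RingEquiv.symm_apply_eq]
  show Ideal.Quotient.mk (I ^ (n + 1)) (algebraMap A S a) = (AdicCompletion.evalₐ I (n + 1)) (algebraMap A C a)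
  exact ((AdicCompletion.evalₐ I (n + 1)).commutes (algebraMap A S a)).symm

end Groth.Agent.S3874
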