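import Groth.Statements.S3875
import Groth.Agent.ClPush.FormalMor

set_option autoImplicit false
universe u
open FCompl

namespace Groth.Agent.S3875

open AlgebraicGeometry in
open CategoryTheory in
open CategoryTheory.Limits in
/-- Let g : X → S and h : Y → S be morphisms of schemes, R an ideal sheaf on X and J an ideal sheaf on
S, and consider the completions of S along J, of X along R, of Y along the inverse image of J under
h, and of X x_S Y along the inverse image of R under the first projection (completions presented by
the subschemes of the powers of these ideal sheaves); this is the case where the closed subset of Y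
is the full preimage of that of S. The four compatibility hypotheses between the powers of the ideal
sheaves (for g, for h, and for the two projections of X x_S Y): for each n, the inverse image of the
(n+1)-st power of the target ideal sheaf is contained in the (n+1)-st power of the source ideal
sheaf. These are hypotheses, carried as data for the completed morphisms; the published statement
assumes the schemes locally Noetherian, which this identity does not need. Then the square of
completed morphisms from the completion of X x_S Y along the preimage of the closed subset of X, to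
the completions of X and of Y, over the completion of S, is cartesian in the category of systems. -/
theorem result {X Y S : Scheme.{u}} (g : X ⟶ S) (h : Y ⟶ S)
    (𝓡 : X.IdealSheafData) (𝓙 : S.IdealSheafData)
    (hg : FSch.PowCompat g 𝓡 𝓙) (hh : FSch.PowCompat h (𝓙.comap h) 𝓙)
    (hp : FSch.PowCompat (pullback.fst g h) (𝓡.comap (pullback.fst g h)) 𝓡)
    (hq : FSch.PowCompat (pullback.snd g h) (𝓡.comap (pullback.fst g h)) (𝓙.comap h)) :
    IsPullback (FSch.completionMap (pullback.fst g h) (𝓡.comap (pullback.fst g h)) 𝓡 hp)
      (FSch.completionMap (pullback.snd g h) (𝓡.comap (pullback.fst g h)) (𝓙.comap h) hq)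
      (FSch.completionMap g 𝓡 𝓙 hg) (FSch.completionMap h (𝓙.comap h) 𝓙 hh) := by
  have hs : ∀ {A B : Scheme.{u}} (p : A ⟶ B) (P : A.IdealSheafData) (K : B.IdealSheafData) (hP : _root_.FSch.PowCompat p P K) (n : ℕ),
      Scheme.IdealSheafData.subschemeMap (P ^ (n + 1)) (K ^ (n + 1)) p (Scheme.IdealSheafData.le_map_iff_comap_le.mpr (hP n)) ≫
        (K ^ (n + 1)).subschemeι = (P ^ (n + 1)).subschemeι ≫ p := fun p P K hP n =>
    Scheme.IdealSheafData.subschemeMap_subschemeι _ _ _ _
  have hl : ∀ n, IsPullback
      (Scheme.IdealSheafData.subschemeMap (𝓡.comap (pullback.fst g h) ^ (n + 1)) (𝓡 ^ (n + 1)) (pullback.fst g h)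
        (Scheme.IdealSheafData.le_map_iff_comap_le.mpr (hp n)))
      (Scheme.IdealSheafData.subschemeMap (𝓡.comap (pullback.fst g h) ^ (n + 1)) ((𝓙.comap h) ^ (n + 1)) (pullback.snd g h)
        (Scheme.IdealSheafData.le_map_iff_comap_le.mpr (hq n)))
      (Scheme.IdealSheafData.subschemeMap (𝓡 ^ (n + 1)) (𝓙 ^ (n + 1)) g (Scheme.IdealSheafData.le_map_iff_comap_le.mpr (hg n)))
      (Scheme.IdealSheafData.subschemeMap ((𝓙.comap h) ^ (n + 1)) (𝓙 ^ (n + 1)) h (Scheme.IdealSheafData.le_map_iff_comap_le.mpr (hh n))) := by
    intro n
    have b1 := (Groth.Agent.ClPush.isPullback_completion (pullback.fst g h) 𝓡 hp n).flip.paste_vert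
      (IsPullback.of_hasPullback g h)
    have b2 := (Groth.Agent.ClPush.isPullback_completion h 𝓙 hh n).flip
    replace b1 : IsPullback
        (Scheme.IdealSheafData.subschemeMap (𝓡.comap (pullback.fst g h) ^ (n + 1)) (𝓡 ^ (n + 1)) (pullback.fst g h)
          (Scheme.IdealSheafData.le_map_iff_comap_le.mpr (hp n)))
        ((𝓡.comap (pullback.fst g h) ^ (n + 1)).subschemeι ≫ pullback.snd g h)
        ((𝓡 ^ (n + 1)).subschemeι ≫ g) h := b1
    replace b2 : IsPullback
        (Scheme.IdealSheafData.subschemeMap ((𝓙.comap h) ^ (n + 1)) (𝓙 ^ (n + 1)) h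
          (Scheme.IdealSheafData.le_map_iff_comap_le.mpr (hh n)))
        ((𝓙.comap h) ^ (n + 1)).subschemeι (𝓙 ^ (n + 1)).subschemeι h := b2
    rw [← hs _ _ _ hq n, ← hs _ _ _ hg n] at b1
    refine IsPullback.of_bot b1 ?_ b2
    haveI : IsClosedImmersion (𝓙 ^ (n + 1)).subschemeι := inferInstance
    rw [← cancel_mono (𝓙 ^ (n + 1)).subschemeι, Category.assoc, Category.assoc, hs _ _ _ hg, hs _ _ _ hh,
      ← Category.assoc, ← Category.assoc, hs _ _ _ hp, hs _ _ _ hq, Category.assoc, Category.assoc,
      pullback.condition]
  refine Groth.Agent.ClPush.isPullback_of_levels _ _ _ _ (_root_.FSch.Hom.ext (funext fun n => ?_)) hl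
  exact (hl n).w

end Groth.Agent.S3875
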