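import Groth.Statements.S3879
import Groth.Agent.QCTopos.CohColimApps

set_option autoImplicit false
open CategoryTheory CategoryTheory.Limits Opposite
universe u
open ToposFin

namespace Groth.Agent.S3879

/-- In the topos of sheaves on a small site, let S be a generating set of quasi-compact objects, stable
under fibre products (so the topos is locally coherent). Let (F_i) be a diagram of abelian sheaves
indexed by a small filtered category such that H^q(K, F_i) = 0 for every K in S, every i and every q
> 0 (the F_i are S-acyclic). Then H^q(K, colim F_i) = 0 for every K in S and every q > 0. -/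
theorem result {C : Type u} [SmallCategory C]
    {J : GrothendieckTopology C} (S : Set (ToposFin.Sh J)) (hqc : ∀ K ∈ S, ToposFin.IsQC K)
    (hgen : ToposFin.IsGenerating S) (hpb : ToposFin.ClosedUnderPullbacks S)
    {Λ : Type u} [SmallCategory Λ] [IsFiltered Λ] (D : Λ ⥤ Sheaf J AddCommGrpCat.{u})
    (hD : ∀ (i : Λ) (K : ToposFin.Sh J), K ∈ S → ∀ q : ℕ, Subsingleton (CohCx.HK K (D.obj i) (q + 1)))
    (K : ToposFin.Sh J) (hK : K ∈ S) (q : ℕ) :
    Subsingleton (CohCx.HK K (colimit D) (q + 1)) := by
  refine subsingleton_of_forall_eq 0 (fun x => ?_)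
  obtain ⟨i, y, rfl⟩ := (Groth.Agent.QCTopos.commutes_member hqc hgen hpb hK (q + 1) D).1 x
  haveI : Subsingleton (Abelian.Ext ((Groth.Agent.CohAcyc.zF J).obj K) (D.obj i) (q + 1)) := hD i K hK q
  rw [Subsingleton.elim y 0]
  exact Abelian.Ext.zero_comp _ _ _ _ (add_zero _)

end Groth.Agent.S3879
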