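import Groth.Statements.S3888
import Groth.Agent.EtShSet.OpenPush
import Mathlib.AlgebraicGeometry.Morphisms.Immersion

set_option autoImplicit false
open CategoryTheory CategoryTheory.Limits AlgebraicGeometry Opposite
universe u
open EtDesc

namespace Groth.Agent.S3888

/-- Let f : X -> Y be an immersion of schemes. Then for every sheaf of sets F on the small etale site of
X the counit f^* f_* F -> F of the adjunction between inverse and direct image is an isomorphism. -/
theorem result {X Y : Scheme.{u}} (f : X ⟶ Y) [IsImmersion f] (F : EtDesc.Sh X) :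
    IsIso ((EtDesc.adjSh f).counit.app F) := by
  let a := f.liftCoborder
  let b := f.coborderRange.ι
  have h : a ≫ b = f := f.liftCoborder_ι
  have h1 : ∀ {A B : Scheme.{u}} (g : A ⟶ B), (∀ G, IsIso ((EtDesc.adjSh g).counit.app G)) →
      (EtDesc.pushSh g).Full ∧ (EtDesc.pushSh g).Faithful := fun g hg => by
    have := hg
    have : IsIso (EtDesc.adjSh g).counit := NatIso.isIso_of_isIso_app _
    exact ⟨(EtDesc.adjSh g).fullyFaithfulROfIsIsoCounit.full, (EtDesc.adjSh g).fullyFaithfulROfIsIsoCounit.faithful⟩
  obtain ⟨_, _⟩ := h1 a (Groth.Agent.EtShSet.isIso_counit a)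
  obtain ⟨_, _⟩ := h1 b (Groth.Agent.EtShSet.isIso_counit_of_open b)
  let e := EtDesc.pushCompSh b a
  have : (EtDesc.pushSh (a ≫ b)).Full := Functor.Full.of_iso e
  have : (EtDesc.pushSh (a ≫ b)).Faithful := Functor.Faithful.of_iso e
  have : ∀ G, IsIso ((EtDesc.adjSh (a ≫ b)).counit.app G) := fun G => inferInstance
  rw [h] at this
  exact this F

end Groth.Agent.S3888
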