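import Groth.Statements.S3894
import Mathlib

set_option autoImplicit false
universe u
open CategoryTheory CategoryTheory.Limits Opposite
open Tors

namespace Groth.Agent.S3894

/-- A torsor P under an abelian sheaf G is trivial, i.e. equivariantly isomorphic to G acting on itself
by translations, if and only if P has a global section (a morphism from the final sheaf of sets). -/
theorem result {C : Type u} [SmallCategory C] {J : GrothendieckTopology C}
    {G : Sheaf J AddCommGrpCat.{u}} (T : Tors.Torsor G) : T.IsTrivial ↔ T.HasSection := by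
  constructor
  · rintro ⟨e, -⟩
    refine ⟨{ hom := { app := fun U => TypeCat.ofHom fun _ => e.hom.hom.app U (0 : G.obj.obj U), naturality := ?_ } }⟩
    intro U V f
    ext x
    exact ((congrArg (e.hom.hom.app V) (map_zero (G.obj.map f).hom)).symm.trans
      (NatTrans.naturality_apply e.hom.hom f (0 : G.obj.obj U)))
  · rintro ⟨σ⟩
    haveI : ∀ U : Cᵒᵖ, Nonempty ((⊤_ (Sheaf J (Type u))).obj.obj U) := fun U =>
      ((Types.isTerminalEquivUnique _) (IsTerminal.isTerminalObj ((sheafToPresheaf J (Type u)) ⋙ (evaluation Cᵒᵖ (Type u)).obj U) _ terminalIsTerminal)).default |> fun x => ⟨x⟩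
    let p : ∀ U : Cᵒᵖ, T.P.obj.obj U := fun U => σ.hom.app U (Classical.arbitrary _)
    have hp : ∀ {U V : Cᵒᵖ} (f : U ⟶ V), T.P.obj.map f (p U) = p V := fun {U V} f => by
      haveI : Subsingleton ((⊤_ (Sheaf J (Type u))).obj.obj V) :=
        @Unique.instSubsingleton _ ((Types.isTerminalEquivUnique _) (IsTerminal.isTerminalObj ((sheafToPresheaf J (Type u)) ⋙ (evaluation Cᵒᵖ (Type u)).obj V) _ terminalIsTerminal))
      exact (NatTrans.naturality_apply σ.hom f _).symm.trans (congrArg (σ.hom.app V) (Subsingleton.elim _ _))
    let η : ((sheafCompose J (forget AddCommGrpCat.{u})).obj G).obj ⟶ T.P.obj :=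
      { app := fun U => TypeCat.ofHom fun g => T.vadd g (p U)
        naturality := fun U V f => by
          ext g
          exact (congrArg (T.vadd (G.obj.map f g)) (hp f).symm).trans (T.map_vadd f g (p U)).symm }
    haveI : ∀ U, IsIso (η.app U) := fun U => (isIso_iff_bijective _).2
      ⟨fun a b h => (T.free_transitive (p U) _).unique rfl h.symm, fun q => (T.free_transitive (p U) q).exists⟩
    haveI : IsIso η := NatIso.isIso_of_isIso_app η
    haveI : IsIso ({ hom := η } : (sheafCompose J (forget AddCommGrpCat.{u})).obj G ⟶ T.P) :=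
      haveI : IsIso ((sheafToPresheaf J (Type u)).map ({ hom := η } : (sheafCompose J (forget AddCommGrpCat.{u})).obj G ⟶ T.P)) := ‹IsIso η›
      isIso_of_reflects_iso _ (sheafToPresheaf J (Type u))
    exact ⟨asIso { hom := η }, fun U g h => T.add_vadd g h (p U)⟩

end Groth.Agent.S3894
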