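import Groth.Statements.S4027
import Mathlib

set_option autoImplicit false
universe u
open LefPen

namespace Groth.Agent.S4027

theorem exists_monomial {A : Type u} [CommRing A] [IsDomain A] (x y : LaurentPolynomial A) (c : A) (hc : c ≠ 0)
    (h : x * y = LaurentPolynomial.C c) :
    ∃ (a b : A) (w : ℤ), x = LaurentPolynomial.C a * LaurentPolynomial.T w ∧
      y = LaurentPolynomial.C b * LaurentPolynomial.T (-w) ∧ a * b = c := by
  obtain ⟨m, p, hp⟩ := LaurentPolynomial.exists_T_pow x
  obtain ⟨n, q, hq⟩ := LaurentPolynomial.exists_T_pow y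
  have hpq : p * q = Polynomial.C c * Polynomial.X ^ (m + n) := by
    apply Polynomial.toLaurent_injective
    rw [map_mul, map_mul, hp, hq, Polynomial.toLaurent_C, Polynomial.toLaurent_X_pow, Nat.cast_add,
      LaurentPolynomial.T_add, ← h]
    ring
  have hne : Polynomial.C c * Polynomial.X ^ (m + n) ≠ 0 := mul_ne_zero (Polynomial.C_ne_zero.2 hc) (pow_ne_zero _ Polynomial.X_ne_zero)
  have hp0 : p ≠ 0 := fun h0 => hne (by rw [← hpq, h0, zero_mul])
  have hq0 : q ≠ 0 := fun h0 => hne (by rw [← hpq, h0, mul_zero])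
  have h1 := Polynomial.natDegree_mul hp0 hq0
  have h2 := Polynomial.natTrailingDegree_mul hp0 hq0
  rw [hpq, Polynomial.natDegree_C_mul_X_pow _ _ hc] at h1
  rw [hpq, Polynomial.C_mul_X_pow_eq_monomial, Polynomial.natTrailingDegree_monomial hc] at h2
  have h3 := Polynomial.natTrailingDegree_le_natDegree p
  have h4 := Polynomial.natTrailingDegree_le_natDegree q
  have hmono : ∀ r : Polynomial A, r.natTrailingDegree = r.natDegree → r = Polynomial.C r.leadingCoeff * Polynomial.X ^ r.natDegree := by
    intro r hr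
    ext i
    rw [Polynomial.coeff_C_mul_X_pow]
    rcases lt_trichotomy i r.natDegree with hi | hi | hi
    · rw [if_neg hi.ne, Polynomial.coeff_eq_zero_of_lt_natTrailingDegree (hr ▸ hi)]
    · subst hi; rw [if_pos rfl]; rfl
    · rw [if_neg hi.ne', Polynomial.coeff_eq_zero_of_natDegree_lt hi]
  have hp' := hmono p (by omega)
  have hq' := hmono q (by omega)
  refine ⟨p.leadingCoeff, q.leadingCoeff, (p.natDegree : ℤ) - m, ?_, ?_, ?_⟩
  · rw [← (LaurentPolynomial.isUnit_T (R := A) (m : ℤ)).mul_left_inj, ← hp, mul_assoc, ← LaurentPolynomial.T_add, sub_add_cancel]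
    conv_lhs => rw [hp', map_mul, Polynomial.toLaurent_C, Polynomial.toLaurent_X_pow]
  · rw [← (LaurentPolynomial.isUnit_T (R := A) (n : ℤ)).mul_left_inj, ← hq, mul_assoc, ← LaurentPolynomial.T_add,
      show -((p.natDegree : ℤ) - m) + n = (q.natDegree : ℤ) by omega]
    conv_lhs => rw [hq', map_mul, Polynomial.toLaurent_C, Polynomial.toLaurent_X_pow]
  · rw [← Polynomial.leadingCoeff_mul, hpq, Polynomial.leadingCoeff_C_mul_X_pow]

theorem subst_irreducible {k : Type u} [Field k] {r : ℕ} (F : MvPolynomial (Fin r) k) (hF : Irreducible F)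
    (hF0 : MvPolynomial.eval (fun _ => (0 : k)) F ≠ 0) :
    Irreducible (MvPolynomial.eval₂ (Polynomial.C.comp MvPolynomial.C)
        (fun j => Polynomial.C (MvPolynomial.X j) * Polynomial.X) F) ∧
      (MvPolynomial.eval₂ (Polynomial.C.comp MvPolynomial.C)
        (fun j => Polynomial.C (MvPolynomial.X j) * Polynomial.X) F).IsPrimitive := by
  set G := MvPolynomial.eval₂ (Polynomial.C.comp MvPolynomial.C)
        (fun j => Polynomial.C (MvPolynomial.X j) * Polynomial.X) F with hG
  have hG0 : G.eval 0 = MvPolynomial.C (MvPolynomial.eval (fun _ => (0 : k)) F) := by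
    have hh : (Polynomial.evalRingHom (0 : MvPolynomial (Fin r) k)).comp (MvPolynomial.eval₂Hom (Polynomial.C.comp MvPolynomial.C)
        (fun j => Polynomial.C (MvPolynomial.X j) * Polynomial.X)) = MvPolynomial.C.comp (MvPolynomial.eval (fun _ : Fin r => (0 : k))) := by
      apply MvPolynomial.ringHom_ext <;> intro i <;> simp
    exact RingHom.congr_fun hh F
  have hc0 : IsUnit (G.coeff 0) := by
    rw [Polynomial.coeff_zero_eq_eval_zero, hG0]
    exact (IsUnit.mk0 _ hF0).map MvPolynomial.C
  let σ : MvPolynomial (Fin r) k →+* LaurentPolynomial (MvPolynomial (Fin r) k) :=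
    MvPolynomial.eval₂Hom (LaurentPolynomial.C.comp MvPolynomial.C) (fun j => LaurentPolynomial.C (MvPolynomial.X j) * LaurentPolynomial.T (-1))
  let θ : Polynomial (MvPolynomial (Fin r) k) →+* LaurentPolynomial (MvPolynomial (Fin r) k) :=
    Polynomial.eval₂RingHom σ (LaurentPolynomial.T 1)
  let τ : MvPolynomial (Fin r) k →+* LaurentPolynomial (MvPolynomial (Fin r) k) :=
    MvPolynomial.eval₂Hom (LaurentPolynomial.C.comp MvPolynomial.C) (fun j => LaurentPolynomial.C (MvPolynomial.X j) * LaurentPolynomial.T 1)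
  let u : (LaurentPolynomial (MvPolynomial (Fin r) k))ˣ := (LaurentPolynomial.isUnit_T 1).unit
  let Λ : LaurentPolynomial (MvPolynomial (Fin r) k) →+* LaurentPolynomial (MvPolynomial (Fin r) k) :=
    LaurentPolynomial.eval₂ τ u
  have hΛT : Λ (LaurentPolynomial.T 1) = LaurentPolynomial.T 1 := by
    have := LaurentPolynomial.eval₂_T_n (f := τ) (x := u) 1
    rw [pow_one] at this
    exact this
  have hΛC : ∀ a, Λ (LaurentPolynomial.C a) = τ a := by
    intro a
    rw [← Polynomial.toLaurent_C]
    exact (LaurentPolynomial.eval₂_toLaurent (f := τ) (x := u) _).trans (Polynomial.eval₂_C _ _)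
  have hback : Λ.comp θ = Polynomial.toLaurent := by
    apply Polynomial.ringHom_ext
    · intro a
      have hh : (Λ.comp θ).comp Polynomial.C = (Polynomial.toLaurent (R := MvPolynomial (Fin r) k)).comp Polynomial.C := by
        apply MvPolynomial.ringHom_ext
        · intro c
          simp [θ, σ, hΛC, τ]
        · intro j
          have h9 : Λ (LaurentPolynomial.T (-1)) = LaurentPolynomial.T (-1) := by
            have h8 : Λ (LaurentPolynomial.T (-1)) * LaurentPolynomial.T 1 = 1 := by
              rw [← hΛT, ← map_mul, ← LaurentPolynomial.T_add, neg_add_cancel, LaurentPolynomial.T_zero, map_one]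
            rw [← (LaurentPolynomial.isUnit_T (R := MvPolynomial (Fin r) k) 1).mul_left_inj, h8, ← LaurentPolynomial.T_add, neg_add_cancel, LaurentPolynomial.T_zero]
          simp only [RingHom.comp_apply, θ, Polynomial.coe_eval₂RingHom, Polynomial.eval₂_C, σ, MvPolynomial.eval₂Hom_X', map_mul, hΛC, h9, Polynomial.toLaurent_C, τ, mul_assoc]
          rw [← LaurentPolynomial.T_add, show (1 : ℤ) + -1 = 0 from rfl, LaurentPolynomial.T_zero, mul_one]
      exact RingHom.congr_fun hh a
    · simp only [RingHom.comp_apply, θ, Polynomial.coe_eval₂RingHom, Polynomial.eval₂_X, hΛT, Polynomial.toLaurent_X]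
  have hθG : θ G = LaurentPolynomial.C F := by
    have hh : θ.comp (MvPolynomial.eval₂Hom (Polynomial.C.comp MvPolynomial.C)
        (fun j => Polynomial.C (MvPolynomial.X j) * Polynomial.X)) = LaurentPolynomial.C := by
      apply MvPolynomial.ringHom_ext
      · intro c; simp [θ, σ]
      · intro j
        simp only [RingHom.comp_apply, MvPolynomial.eval₂Hom_X', map_mul, θ, Polynomial.coe_eval₂RingHom, Polynomial.eval₂_C, Polynomial.eval₂_X, σ, mul_assoc]
        rw [← LaurentPolynomial.T_add, neg_add_cancel, LaurentPolynomial.T_zero, mul_one]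
    exact RingHom.congr_fun hh F
  have hGu : ¬ IsUnit G := by
    intro h
    have h1 := h.map θ
    rw [hθG] at h1
    obtain ⟨y, hy⟩ := h1.exists_right_inv
    obtain ⟨a, b, w, ha, -, hab⟩ := exists_monomial (LaurentPolynomial.C F) y 1 one_ne_zero (by rw [hy, map_one])
    have haF : a = F := by

      have h6 : (LaurentPolynomial.C F) = LaurentPolynomial.C a * LaurentPolynomial.T w := ha
      rw [← LaurentPolynomial.single_eq_C_mul_T, show LaurentPolynomial.C F = AddMonoidAlgebra.single (0 : ℤ) F from rfl] at h6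
      rcases (Finsupp.single_eq_single_iff _ _ _ _).1 (congrArg AddMonoidAlgebra.coeff h6) with ⟨-, h7⟩ | ⟨h7, -⟩
      · exact h7.symm
      · exact absurd h7 hF.ne_zero
    exact hF.not_isUnit (IsUnit.of_mul_eq_one b (haF ▸ hab))
  have key : ∀ A B : Polynomial (MvPolynomial (Fin r) k), G = A * B → ∀ (a : MvPolynomial (Fin r) k) (w : ℤ),
      θ A = LaurentPolynomial.C a * LaurentPolynomial.T w → IsUnit a → IsUnit A := by
    intro A B hAB a w hA ha
    obtain ⟨c, hc, rfl⟩ : ∃ c : k, c ≠ 0 ∧ MvPolynomial.C c = a := by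
      obtain ⟨c, hc, hc'⟩ := MvPolynomial.isUnit_iff_eq_C_of_isReduced.1 ha
      exact ⟨c, hc.ne_zero, hc'.symm⟩
    have hA0 : IsUnit (A.coeff 0) := by
      rw [hAB, Polynomial.mul_coeff_zero] at hc0
      exact isUnit_of_mul_isUnit_left hc0
    have h1 : Polynomial.toLaurent A = LaurentPolynomial.C (MvPolynomial.C c) * Λ (LaurentPolynomial.T w) := by
      rw [← hback, RingHom.comp_apply, hA, map_mul, hΛC]
      congr 1
      simp [τ]
    obtain ⟨N, hN | hN⟩ : ∃ N : ℕ, w = N ∨ w = -N := ⟨w.natAbs, Int.natAbs_eq w⟩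
    · subst hN
      have h2 : A = Polynomial.C (MvPolynomial.C c) * Polynomial.X ^ N := by
        apply Polynomial.toLaurent_injective
        rw [h1, map_mul, Polynomial.toLaurent_C, Polynomial.toLaurent_X_pow]
        congr 1
        have h3 := LaurentPolynomial.eval₂_T_n (f := τ) (x := u) N
        refine h3.trans ?_
        rw [show (u : LaurentPolynomial (MvPolynomial (Fin r) k)) = LaurentPolynomial.T 1 from rfl, LaurentPolynomial.T_pow, mul_one]
      rcases Nat.eq_zero_or_pos N with h0 | h0
      · rw [h2, h0, pow_zero, mul_one]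
        exact Polynomial.isUnit_C.2 ha
      · rw [h2, Polynomial.coeff_C_mul_X_pow, if_neg h0.ne] at hA0
        exact absurd hA0 not_isUnit_zero
    · subst hN
      have h4 : Λ (LaurentPolynomial.T (-(N : ℤ))) * LaurentPolynomial.T (N : ℤ) = 1 := by
        have h3 : Λ (LaurentPolynomial.T (N : ℤ)) = LaurentPolynomial.T (N : ℤ) := by
          refine (LaurentPolynomial.eval₂_T_n (f := τ) (x := u) N).trans ?_
          rw [show (u : LaurentPolynomial (MvPolynomial (Fin r) k)) = LaurentPolynomial.T 1 from rfl, LaurentPolynomial.T_pow, mul_one]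
        rw [← h3, ← map_mul, ← LaurentPolynomial.T_add, neg_add_cancel, LaurentPolynomial.T_zero, map_one]
      have h2 : A * Polynomial.X ^ N = Polynomial.C (MvPolynomial.C c) := by
        apply Polynomial.toLaurent_injective
        rw [map_mul, h1, Polynomial.toLaurent_C, Polynomial.toLaurent_X_pow, mul_assoc, h4, mul_one]
      rcases Nat.eq_zero_or_pos N with h0 | h0
      · rw [h0, pow_zero, mul_one] at h2
        rw [h2]
        exact Polynomial.isUnit_C.2 ha
      · have h5 := congrArg (fun P => Polynomial.coeff P 0) h2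
        simp only [Polynomial.coeff_mul_X_pow', if_neg (Nat.not_le.2 h0), Polynomial.coeff_C_zero] at h5
        exact absurd (MvPolynomial.C_eq_zero.1 h5.symm) hc
  refine ⟨⟨hGu, fun A B hAB => ?_⟩, fun a ha => ?_⟩
  · have hh := congrArg θ hAB
    rw [hθG, map_mul] at hh
    obtain ⟨a, b, w, ha, hb, hab⟩ := exists_monomial _ _ F hF.ne_zero hh.symm
    rcases hF.isUnit_or_isUnit hab.symm with h | h
    · exact Or.inl (key A B hAB a w ha h)
    · exact Or.inr (key B A (hAB.trans (mul_comm A B)) b (-w) hb h)
  · obtain ⟨Q, hQ⟩ := ha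
    rw [hQ, Polynomial.coeff_C_mul] at hc0
    exact isUnit_of_mul_isUnit_left hc0

/-- Let k be an algebraically closed field, r ≥ 2, and F ∈ k[X_1, …, X_r] an irreducible polynomial with
F(0) ≠ 0 (in the source the origin is the base point of the lines considered and lies off the
hypersurface F = 0; without this the claim fails, e.g. for X_1 - X_2^2). Then the polynomial G(T) =
F(X_1 T, …, X_r T), with coefficients in the field of rational functions k(X_1, …, X_r), is
irreducible. -/
theorem result (k : Type u) [Field k] [IsAlgClosed k] (r : ℕ) (hr : 2 ≤ r)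
    (F : MvPolynomial (Fin r) k) (hF : Irreducible F) (hF0 : MvPolynomial.eval (fun _ => (0 : k)) F ≠ 0) :
    Irreducible ((MvPolynomial.eval₂ (Polynomial.C.comp MvPolynomial.C)
        (fun j => Polynomial.C (MvPolynomial.X j) * Polynomial.X) F).map
      (algebraMap (MvPolynomial (Fin r) k) (FractionRing (MvPolynomial (Fin r) k)))) := by
  obtain ⟨h1, h2⟩ := subst_irreducible F hF hF0
  exact (h2.irreducible_iff_irreducible_map_fraction_map (K := FractionRing (MvPolynomial (Fin r) k))).1 h1

end Groth.Agent.S4027
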