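import Groth.Statements.S4058
import Groth.Agent.DVRProper.Basic
import Groth.Agent.SmoothReduced.Basic
import Mathlib
-- import your own Groth.Agent.* helpers here

set_option autoImplicit false
universe u
open CategoryTheory CategoryTheory.Limits AlgebraicGeometry MonObj
open SGA7

namespace Groth.Agent.S4058

/-- (iii) ⇒ (iv): let R be a discrete valuation ring with fraction field K and residue field k, and N a
group scheme over Spec R which is a Néron model of its generic fibre, an abelian variety over K. If
the special fibre N ×_R k is proper over k, then N is proper over Spec R. (In (iii) as published the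
special fibre is an abelian variety; connectedness of the special fibre is not assumed here.) -/
theorem result (R K : Type u) [CommRing R] [IsDomain R] [IsDiscreteValuationRing R] [Field K]
    [Algebra R K] [IsFractionRing R K]
    (N : Over (Spec (CommRingCat.of R))) [GrpObj N] (hN : SGA7.IsNeron R K N)
    [IsProper ((SGA7.genFib R K).obj N).hom] [GeometricallyIntegral ((SGA7.genFib R K).obj N).hom]
    [IsProper (Red.bc (Spec.map (CommRingCat.ofHom (IsLocalRing.residue R))) N).hom] :
    IsProper N.hom := by
  obtain ⟨hsm, hsep, hqc, -⟩ := hN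
  haveI := hsm
  haveI := hsep
  haveI := hqc
  let s : Spec (CommRingCat.of K) ⟶ Spec (CommRingCat.of R) := DVRProper.sK R K
  haveI : GeometricallyIntegral (pullback.snd N.hom s) :=
    ‹GeometricallyIntegral ((SGA7.genFib R K).obj N).hom›
  haveI : IsProper (pullback.snd N.hom s) := ‹IsProper ((SGA7.genFib R K).obj N).hom›
  haveI : IsProper (pullback.snd N.hom (DVRProper.sk R)) :=
    ‹IsProper (Red.bc (Spec.map (CommRingCat.ofHom (IsLocalRing.residue R))) N).hom›
  haveI : IsReduced N.left := SmoothReduced.isReduced_of_smooth_scheme N.hom
  haveI : IsIntegral (pullback N.hom s) := by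
    have h := GeometricallyIntegral.geometrically_isIntegral (f := pullback.snd N.hom s)
      (Spec.map (CommRingCat.ofHom (algebraMap K K))) (pullback.fst _ _) (pullback.snd _ _)
      (IsPullback.of_hasPullback _ _)
    haveI := h
    haveI : IsIso (Spec.map (CommRingCat.ofHom (algebraMap K K))) :=
      inferInstanceAs (IsIso (Spec.map (𝟙 (CommRingCat.of K))))
    let i := pullback.fst (pullback.snd N.hom s) (Spec.map (CommRingCat.ofHom (algebraMap K K)))
    haveI : Nonempty ↥(pullback N.hom s) := ⟨i (Classical.arbitrary _)⟩
    exact isIntegral_of_isOpenImmersion (inv i)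
  let ξ : N.left := pullback.fst N.hom s (genericPoint (pullback N.hom s : Scheme.{u}))
  haveI : IrreducibleSpace N.left := by
    have hall : closure ({ξ} : Set N.left) = Set.univ := by
      refine Set.eq_univ_of_forall fun z => ?_
      rw [← specializes_iff_mem_closure]
      let b : ↥(Spec (CommRingCat.of R)) := (⊥ : PrimeSpectrum R)
      have hb : b ⤳ N.hom z := (PrimeSpectrum.le_iff_specializes b _).mp bot_le
      obtain ⟨z', hz', hfz'⟩ := Flat.generalizingMap N.hom hb
      obtain ⟨w, rfl⟩ : z' ∈ Set.range (pullback.fst N.hom s) := by
        refine DVRProper.mem_range_fst N.hom s ?_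
        rw [hfz']
        refine ⟨(⊥ : PrimeSpectrum K), PrimeSpectrum.ext ?_⟩
        change Ideal.comap (algebraMap R K) ⊥ = ⊥
        rw [← RingHom.ker_eq_comap_bot,
          (RingHom.injective_iff_ker_eq_bot _).mp (IsFractionRing.injective R K)]
      exact ((genericPoint_specializes w).map (pullback.fst N.hom s).continuous).trans hz'
    exact { toPreirreducibleSpace := ⟨hall ▸ isIrreducible_singleton.closure.isPreirreducible⟩,
            toNonempty := ⟨ξ⟩ }
  haveI : IsIntegral N.left := isIntegral_of_irreducibleSpace_of_isReduced _
  haveI : Nonempty ↥(pullback N.hom (DVRProper.sk R)) := by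
    let x : PrimeSpectrum (IsLocalRing.ResidueField R) := ⊥
    have hη : η[N].left ≫ N.hom = 𝟙 _ := Over.w η[N]
    obtain ⟨w, -⟩ := DVRProper.mem_range_fst N.hom (DVRProper.sk R)
      (x := η[N].left (DVRProper.sk R x)) (by
        rw [← Scheme.Hom.comp_apply, hη]
        exact ⟨x, rfl⟩)
    exact ⟨w⟩
  exact DVRProper.isProper_of_fibres K N.hom

end Groth.Agent.S4058
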