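import Groth.Statements.S4064
import Mathlib.Algebra.Homology.DerivedCategory.Ext.ExactSequences
import Mathlib.Algebra.Homology.DerivedCategory.TStructure
import Mathlib.Algebra.Homology.ShortComplex.ExactFunctor
import Mathlib.CategoryTheory.Triangulated.TStructure.TruncLTGE

set_option autoImplicit false
universe w v v'
open CategoryTheory CategoryTheory.Abelian
open SGA7

namespace Groth.Agent.S4064


open Limits Pretriangulated DerivedCategory

variable {C : Type w} [Category.{v} C] [Abelian C] [HasExt.{v'} C]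

/-- Every class in `Ext¹` comes from a short exact sequence, up to the connecting morphism of the triangle. -/
private theorem exists_realization [HasDerivedCategory.{max w v} C] {Q F : C}
    (δ : (singleFunctor C 0).obj Q ⟶ ((singleFunctor C 0).obj F)⟦(1 : ℤ)⟧) :
    ∃ (X : C) (i : F ⟶ X) (π : X ⟶ Q) (w : i ≫ π = 0), (ShortComplex.mk i π w).ShortExact ∧
      Triangle.mk ((singleFunctor C 0).map i) ((singleFunctor C 0).map π) δ ∈ distTriang (DerivedCategory C) := by
  let S := singleFunctor C 0
  obtain ⟨M, f, g, hM⟩ := distinguished_cocone_triangle₂ δ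
  haveI hLE : M.IsLE 0 := TStructure.t.isLE₂ _ hM 0
    (inferInstanceAs (((singleFunctor C 0).obj F).IsLE 0)) (inferInstanceAs (((singleFunctor C 0).obj Q).IsLE 0))
  haveI hGE : M.IsGE 0 := TStructure.t.isGE₂ _ hM 0
    (inferInstanceAs (((singleFunctor C 0).obj F).IsGE 0)) (inferInstanceAs (((singleFunctor C 0).obj Q).IsGE 0))
  obtain ⟨X, ⟨e⟩⟩ := exists_iso_singleFunctor_obj_of_isGE_of_isLE M 0
  obtain ⟨i, hi⟩ := (singleFunctor C 0).map_surjective (f ≫ e.hom)
  obtain ⟨π, hπ⟩ := (singleFunctor C 0).map_surjective (e.inv ≫ g)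
  have hT : Triangle.mk (S.map i) (S.map π) δ ∈ distTriang (DerivedCategory C) := by
    refine isomorphic_distinguished _ hM _ (Triangle.isoMk _ _ (Iso.refl _) e.symm (Iso.refl _) ?_ ?_ ?_)
    · change (singleFunctor C 0).map i ≫ e.inv = 𝟙 _ ≫ f
      rw [hi, Category.assoc, e.hom_inv_id, Category.comp_id, Category.id_comp]
    · change (singleFunctor C 0).map π ≫ 𝟙 _ = e.inv ≫ g
      rw [hπ, Category.comp_id]
    · change δ ≫ (𝟙 ((singleFunctor C 0).obj F))⟦(1 : ℤ)⟧' = 𝟙 _ ≫ δ
      rw [CategoryTheory.Functor.map_id, Category.comp_id, Category.id_comp]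
  have w : i ≫ π = 0 := S.map_injective (by
    rw [S.map_comp, S.map_zero]; exact comp_distTriang_mor_zero₁₂ _ hT)
  haveI : Mono i := Preadditive.mono_of_cancel_zero _ fun {Z} a ha => S.map_injective (by
    rw [S.map_zero]
    obtain ⟨y, hy⟩ := Triangle.coyoneda_exact₂ _ (inv_rot_of_distTriang _ hT) (S.map a)
      (show S.map a ≫ S.map i = 0 by rw [← S.map_comp, ha, S.map_zero])
    rw [hy]
    haveI : TStructure.t.IsGE (Triangle.mk (S.map i) (S.map π) δ).invRotate.obj₁ 1 :=
      TStructure.t.isGE_shift (S.obj Q) 0 (-1) 1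
    have : y = 0 := TStructure.t.zero y 0 1
    rw [this]
    exact Limits.zero_comp)
  haveI : Epi π := Preadditive.epi_of_cancel_zero _ fun {Z} a ha => S.map_injective (by
    rw [S.map_zero]
    obtain ⟨y, hy⟩ := Triangle.yoneda_exact₃ _ hT (S.map a)
      (show S.map π ≫ S.map a = 0 by rw [← S.map_comp, ha, S.map_zero])
    rw [hy]
    haveI : TStructure.t.IsLE ((Triangle.mk (S.map i) (S.map π) δ).obj₁⟦(1 : ℤ)⟧) (-1) :=
      TStructure.t.isLE_shift (S.obj F) 0 1 (-1)
    have : y = 0 := TStructure.t.zero y (-1) 0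
    rw [this]
    exact Limits.comp_zero)
  refine ⟨X, i, π, w, { exact := ?_, mono_f := ‹_›, epi_g := ‹_› }, hT⟩
  refine ShortComplex.exact_of_f_is_kernel _ (KernelFork.IsLimit.ofι' i w fun {Z} a ha => ?_)
  have hex := Triangle.coyoneda_exact₂ _ hT (S.map a)
    (show S.map a ≫ S.map π = 0 by rw [← S.map_comp, ha, S.map_zero])
  refine ⟨(S.map_surjective hex.choose).choose, S.map_injective ?_⟩
  rw [S.map_comp, (S.map_surjective hex.choose).choose_spec]
  exact hex.choose_spec.symm

/-- Let P -> F -> R and R -> E -> Q be short exact sequences in an abelian category (F an extension of R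
by P, E an extension of Q by R). A blended extension of E by F is an object X with a monomorphism i
: F -> X and an epimorphism p : X -> E such that P -> X -> E (via i) and F -> X -> Q (via p) are
short exact and F -> X -> E is the composite F -> R -> E. Such an X exists if and only if the
composite of the two extension classes, an element of Ext^2(Q, P), is zero. -/
theorem result {C : Type w} [Category.{v} C] [Abelian C]
    [HasExt.{v'} C] {P F R E Q : C} (a : P ⟶ F) (b : F ⟶ R) (wF : a ≫ b = 0)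
    (hF : (ShortComplex.mk a b wF).ShortExact) (c : R ⟶ E) (d : E ⟶ Q) (wE : c ≫ d = 0)
    (hE : (ShortComplex.mk c d wE).ShortExact) :
    (∃ (X : C) (i : F ⟶ X) (p : X ⟶ E), i ≫ p = b ≫ c ∧
        (∃ w : (a ≫ i) ≫ p = 0, (ShortComplex.mk (a ≫ i) p w).ShortExact) ∧
        (∃ w : i ≫ (p ≫ d) = 0, (ShortComplex.mk i (p ≫ d) w).ShortExact)) ↔
      hE.extClass.comp hF.extClass (rfl : 1 + 1 = 2) = 0 := by
  constructor
  · rintro ⟨X, i, p, hip, ⟨w1, h1⟩, ⟨w2, h2⟩⟩
    let φ : ShortComplex.mk i (p ≫ d) w2 ⟶ ShortComplex.mk c d wE :=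
      { τ₁ := b, τ₂ := p, τ₃ := 𝟙 Q, comm₁₂ := hip.symm, comm₂₃ := by simp }
    have hnat := ShortComplex.ShortExact.extClass_naturality h2 hE φ
    have hE' : h2.extClass.comp (Ext.mk₀ b) (add_zero 1) = hE.extClass := by
      simpa [φ] using hnat
    rw [← hE', Ext.comp_assoc_of_second_deg_zero]
    have h0 : (Ext.mk₀ b).comp hF.extClass (zero_add 1) = 0 := hF.comp_extClass
    rw [h0, Ext.comp_zero]
  · intro h
    obtain ⟨ξ, hξ⟩ : ∃ ξ : Ext Q F 1, ξ.comp (Ext.mk₀ b) (add_zero 1) = hE.extClass :=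
      Ext.covariant_sequence_exact₃ Q hF hE.extClass rfl h
    letI := HasDerivedCategory.standard C
    obtain ⟨X, i, π, w, hX, hT⟩ := exists_realization ξ.hom
    have hcomm : ξ.hom ≫ ((singleFunctor C 0).map b)⟦(1 : ℤ)⟧' = hE.singleδ := by
      rw [← hE.extClass_hom, ← hξ]
      simp [Ext.comp_hom, Ext.mk₀_hom, ShiftedHom.comp_mk₀]
    obtain ⟨β, hβ1, hβ2⟩ := complete_distinguished_triangle_morphism₂ _ _ hT hE.singleTriangle_distinguished
      ((singleFunctor C 0).map b) (𝟙 _) (by
        simp only [Triangle.mk_mor₃]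
        exact hcomm.trans (Category.id_comp _).symm)
    obtain ⟨p, rfl⟩ := (singleFunctor C 0).map_surjective β
    have hip : i ≫ p = b ≫ c := (singleFunctor C 0).map_injective (by
      rw [Functor.map_comp, Functor.map_comp]; exact hβ1)
    have hpd : p ≫ d = π := (singleFunctor C 0).map_injective (by
      rw [Functor.map_comp]
      exact hβ2.symm.trans (Category.comp_id _))
    haveI := hX.mono_f
    haveI := hX.epi_g
    haveI := hF.mono_f
    haveI := hF.epi_g
    haveI := hE.mono_f
    haveI := hE.epi_g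
    refine ⟨X, i, p, hip, ?_, ⟨by rw [hpd]; exact w, ?_⟩⟩
    · have w1 : (a ≫ i) ≫ p = 0 := by rw [Category.assoc, hip, reassoc_of% wF, Limits.zero_comp]
      refine ⟨w1, ?_⟩
      haveI : Mono a := hF.mono_f
      haveI : Mono i := hX.mono_f
      haveI : Epi p := by
        let φ : ShortComplex.mk i π w ⟶ ShortComplex.mk c d wE :=
          { τ₁ := b, τ₂ := p, τ₃ := 𝟙 Q, comm₁₂ := hip.symm, comm₂₃ := by simp [hpd] }
        haveI : Epi φ.τ₁ := hF.epi_g
        haveI : Epi φ.τ₃ := (inferInstance : Epi (𝟙 Q))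
        haveI : Epi (ShortComplex.mk i π w).g := hX.epi_g
        exact ShortComplex.epi_τ₂_of_exact_of_epi φ hE.exact
      refine { exact := ?_, mono_f := mono_comp a i, epi_g := inferInstance }
      refine ShortComplex.exact_of_f_is_kernel _ (Limits.KernelFork.IsLimit.ofι' (a ≫ i) w1 fun {Z} x hx => ?_)
      have h1 : x ≫ π = 0 := by rw [← hpd, reassoc_of% hx, Limits.zero_comp]
      let y := hX.exact.lift x h1
      have hy : y ≫ i = x := hX.exact.lift_f x h1
      have h2 : y ≫ b = 0 := by
        haveI : Mono c := hE.mono_f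
        rw [← cancel_mono c, Category.assoc, ← hip, reassoc_of% hy, hx, Limits.zero_comp]
      refine ⟨hF.exact.lift y h2, ?_⟩
      show hF.exact.lift y h2 ≫ a ≫ i = x
      rw [reassoc_of% (hF.exact.lift_f y h2 : hF.exact.lift y h2 ≫ a = y), hy]
    · subst hpd
      exact hX

end Groth.Agent.S4064
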