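import Groth.Statements.S4065
import Mathlib
-- import your own Groth.Agent.* helpers here

set_option autoImplicit false
universe w v
open CategoryTheory
open SGA7

namespace Groth.Agent.S4065

/-- Let P -> F -> R and R -> E -> Q be short exact sequences in an abelian category and X a blended
extension of E by F: i : F -> X and p : X -> E with i, p composing to F -> R -> E and with P -> X ->
E and F -> X -> Q short exact. Then u ↦ 1_X + (X -> E -> Q -> P -> F -> X) is a bijection from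
Hom(Q, P) onto the set of endomorphisms φ of X with i φ = i and φ p = p (the automorphisms of the
blended extension; every such φ is invertible), and it turns addition into composition (a group
isomorphism Hom(Q, P) ≅ Aut(X)). -/
theorem result {C : Type w} [Category.{v} C] [Abelian C]
    {P F R E Q X : C} (a : P ⟶ F) (b : F ⟶ R) (wF : a ≫ b = 0)
    (hF : (ShortComplex.mk a b wF).ShortExact) (c : R ⟶ E) (d : E ⟶ Q) (wE : c ≫ d = 0)
    (hE : (ShortComplex.mk c d wE).ShortExact) (i : F ⟶ X) (p : X ⟶ E) (hip : i ≫ p = b ≫ c)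
    (w₁ : (a ≫ i) ≫ p = 0) (h₁ : (ShortComplex.mk (a ≫ i) p w₁).ShortExact)
    (w₂ : i ≫ (p ≫ d) = 0) (h₂ : (ShortComplex.mk i (p ≫ d) w₂).ShortExact) :
    Set.BijOn (fun v : Q ⟶ P => 𝟙 X + p ≫ d ≫ v ≫ a ≫ i) Set.univ
      {φ : X ⟶ X | i ≫ φ = i ∧ φ ≫ p = p} ∧
      ∀ v v' : Q ⟶ P, 𝟙 X + p ≫ d ≫ (v + v') ≫ a ≫ i =
        (𝟙 X + p ≫ d ≫ v ≫ a ≫ i) ≫ (𝟙 X + p ≫ d ≫ v' ≫ a ≫ i) := by
  have hxy : (a ≫ i) ≫ p = 0 := w₁
  have key : ∀ v v' : Q ⟶ P, (p ≫ d ≫ v ≫ a ≫ i) ≫ (p ≫ d ≫ v' ≫ a ≫ i) = 0 := fun v v' => by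
    have h' : a ≫ i ≫ p = 0 := by rw [← Category.assoc]; exact w₁
    simp only [Category.assoc, reassoc_of% h', Limits.zero_comp, Limits.comp_zero]
  refine ⟨⟨?_, ?_, ?_⟩, fun v v' => ?_⟩
  · intro v _
    refine ⟨?_, ?_⟩
    · rw [Preadditive.comp_add, Category.comp_id, ← Category.assoc i p, ← Category.assoc (i ≫ p) d]
      have : (i ≫ p) ≫ d = 0 := by rw [hip, Category.assoc, wE, Limits.comp_zero]
      rw [this, Limits.zero_comp, add_zero]
    · have h' : a ≫ i ≫ p = 0 := by rw [← Category.assoc]; exact w₁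
      simp [h']
  · intro v _ v' _ h
    have := h₁.epi_g
    have := h₁.mono_f
    have := hE.epi_g
    have e : p ≫ d ≫ v ≫ a ≫ i = p ≫ d ≫ v' ≫ a ≫ i := add_left_cancel h
    rw [cancel_epi p, cancel_epi d, cancel_mono (a ≫ i)] at e
    exact e
  · rintro φ ⟨h1, h2⟩
    have hz : i ≫ (φ - 𝟙 X) = 0 := by rw [Preadditive.comp_sub, h1, Category.comp_id, sub_self]
    have := h₂.epi_g
    have hfac := h₂.gIsCokernel
    obtain ⟨u, hu⟩ := Limits.CokernelCofork.IsColimit.desc' hfac (φ - 𝟙 X) hz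
    have hu' : (p ≫ d) ≫ u = φ - 𝟙 X := hu
    have hup : u ≫ p = 0 := by
      rw [← cancel_epi (p ≫ d), ← Category.assoc, hu', Preadditive.sub_comp, h2, Category.id_comp, sub_self, Limits.comp_zero]
    have := h₁.mono_f
    obtain ⟨v, hv⟩ := Limits.KernelFork.IsLimit.lift' h₁.fIsKernel u hup
    have hv' : v ≫ a ≫ i = u := hv
    refine ⟨v, trivial, ?_⟩
    show 𝟙 X + p ≫ d ≫ v ≫ a ≫ i = φ
    rw [hv', ← Category.assoc, hu', add_sub_cancel]
  · simp only [Preadditive.comp_add, Preadditive.add_comp, Category.comp_id, Category.id_comp, key, add_zero]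
    abel

end Groth.Agent.S4065
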