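import Groth.Statements.S4070
import Groth.Agent.NeronComp.Basic
import Mathlib
-- import your own Groth.Agent.* helpers here

set_option autoImplicit false
universe u
open CategoryTheory CategoryTheory.Limits AlgebraicGeometry MonObj
open MonoidalCategory
open SGA7

namespace Groth.Agent.S4070

/-- Let R be a strictly henselian discrete valuation ring (henselian, separably closed residue field)
with fraction field K and N a group scheme over Spec R which is a Néron model of its generic fibre,
an abelian variety A over K, so that sections of N over Spec R are the K-points of A. Then the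
special fibre of N has finitely many connected components, every one of them is met by a section,
and two sections x, y meet the same connected component if and only if x · y⁻¹ meets the connected
component of the unit section: the component group of the special fibre is A(K) modulo the subgroup
of points reducing into the identity component. -/
theorem result (R K : Type u) [CommRing R] [IsDomain R] [IsDiscreteValuationRing R] [HenselianLocalRing R]
    [IsSepClosed (IsLocalRing.ResidueField R)] [Field K] [Algebra R K] [IsFractionRing R K]
    (N : Over (Spec (CommRingCat.of R))) [GrpObj N] (hN : SGA7.IsNeron R K N)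
    [IsProper ((SGA7.genFib R K).obj N).hom] [GeometricallyIntegral ((SGA7.genFib R K).obj N).hom] :
    (Set.range (SGA7.secComp R N)).Finite ∧
    (∀ z ∈ SGA7.specialFibreSet R N, ∃ x : 𝟙_ (Over (Spec (CommRingCat.of R))) ⟶ N, z ∈ SGA7.secComp R N x) ∧
      ∀ x y : 𝟙_ (Over (Spec (CommRingCat.of R))) ⟶ N,
        SGA7.secComp R N x = SGA7.secComp R N y ↔ x * y⁻¹ ∈ SGA7.secUnitComp R N := by
  haveI := hN.1
  haveI := hN.2.2.1
  haveI : IsLocallyNoetherian N.left := LocallyOfFiniteType.isLocallyNoetherian N.hom
  haveI : CompactSpace N.left := QuasiCompact.compactSpace_of_compactSpace N.hom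
  haveI : IsNoetherian N.left := ⟨⟩
  refine ⟨NeronComp.finite_range_connectedComponentIn _ _ NeronComp.mem_specialFibreSet,
    fun z hz => ?_, fun x y => NeronComp.secComp_eq_iff N x y⟩
  obtain ⟨O, hO, hzO, hsub⟩ := NeronComp.exists_open_connectedComponentIn
    ((IsLocalRing.isClosed_singleton_closedPoint R).preimage N.hom.continuous) hz
  obtain ⟨x, hx⟩ := NeronComp.exists_section_mem_open N hO hzO hz
  refine ⟨x, ?_⟩
  have h1 := connectedComponentIn_eq (hsub ⟨hx, NeronComp.mem_specialFibreSet x⟩)
  change z ∈ connectedComponentIn (N.hom ⁻¹' {IsLocalRing.closedPoint R}) (x.left (IsLocalRing.closedPoint R))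
  exact h1 ▸ mem_connectedComponentIn hz

end Groth.Agent.S4070
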