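import Groth.Statements.S4071
import Groth.Agent.NeronComp.Basic
import Groth.Agent.InertiaFix.Basic
import Groth.Agent.GrpSch.Saturation
import Mathlib
-- import your own Groth.Agent.* helpers here

set_option autoImplicit false
set_option backward.isDefEq.respectTransparency false
set_option synthInstance.maxHeartbeats 200000
universe u
open CategoryTheory CategoryTheory.Limits AlgebraicGeometry MonObj
open MonoidalCategory
open SGA7

namespace Groth.Agent.S4071

open CartesianMonoidalCategory MonoidalCategory in
/-- A Néron model of an abelian variety is commutative. -/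
theorem isCommMonObj_neron {R K : Type u} [CommRing R] [Field K] [Algebra R K]
    (N : Over (Spec (CommRingCat.of R))) [GrpObj N] (hN : SGA7.IsNeron R K N)
    [IsProper ((SGA7.genFib R K).obj N).hom] [GeometricallyIntegral ((SGA7.genFib R K).obj N).hom]
    [GeometricallyConnected ((SGA7.genFib R K).obj N).hom] : IsCommMonObj N := by
  haveI := hN.1
  haveI : Smooth (N ⊗ N).hom := inferInstanceAs (Smooth (pullback.fst N.hom N.hom ≫ N.hom))
  let NK := (SGA7.genFib R K).obj N
  haveI : IsCommMonObj NK := GrpSch.AbRigid.isCommMonObj NK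
  have key : (fst N N * snd N N) = (snd N N * fst N N : N ⊗ N ⟶ N) := by
    apply (hN.2.2.2 (N ⊗ N) inferInstance).1
    change (SGA7.genFib R K).map _ = (SGA7.genFib R K).map _
    rw [Functor.map_mul, Functor.map_mul]
    exact _root_.mul_comm _ _
  refine ⟨?_⟩
  have e1 : (fst N N * snd N N : N ⊗ N ⟶ N) = μ[N] := by rw [Hom.mul_def, lift_fst_snd, Category.id_comp]
  have e2 : (snd N N * fst N N : N ⊗ N ⟶ N) = (β_ N N).hom ≫ μ[N] := by
    rw [Hom.mul_def]
    congr 1
  rw [← e2, ← key, e1]

/-- Let R be a strictly henselian discrete valuation ring with fraction field K, N a group scheme over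
Spec R which is a Néron model of its generic fibre, an abelian variety A over K, and n an integer
invertible in the residue field of R. If x is a section of N (a K-point of A) whose n-th power meets
the connected component of the unit section in the special fibre, then there is a section y with y^n
= 1 such that x · y⁻¹ meets the connected component of the unit section: the n-torsion of the
component group is the image of the n-torsion of A(K). -/
theorem result (R K : Type u) [CommRing R] [IsDomain R] [IsDiscreteValuationRing R] [HenselianLocalRing R]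
    [IsSepClosed (IsLocalRing.ResidueField R)] [Field K] [Algebra R K] [IsFractionRing R K]
    (N : Over (Spec (CommRingCat.of R))) [GrpObj N] (hN : SGA7.IsNeron R K N)
    [IsProper ((SGA7.genFib R K).obj N).hom] [GeometricallyIntegral ((SGA7.genFib R K).obj N).hom]
    (n : ℕ) (hn : (n : IsLocalRing.ResidueField R) ≠ 0)
    (x : 𝟙_ (Over (Spec (CommRingCat.of R))) ⟶ N) (hx : x ^ n ∈ SGA7.secUnitComp R N) :
    ∃ y : 𝟙_ (Over (Spec (CommRingCat.of R))) ⟶ N, y ^ n = 1 ∧ x * y⁻¹ ∈ SGA7.secUnitComp R N := by
  haveI := hN.1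
  haveI := hN.2.1
  haveI := hN.2.2.1
  haveI : GeometricallyConnected ((SGA7.genFib R K).obj N).hom :=
    InertiaFix.geometricallyConnected_of_forall _ fun k' _ t => inferInstance
  haveI : IsCommMonObj N := isCommMonObj_neron N hN
  haveI : IsLocallyNoetherian N.left := LocallyOfFiniteType.isLocallyNoetherian N.hom
  haveI : CompactSpace N.left := QuasiCompact.compactSpace_of_compactSpace N.hom
  haveI : IsNoetherian N.left := ⟨⟩
  let u := (𝟙 N : N ⟶ N) ^ n
  haveI : Etale u.left := PowEtale.etale_pow N n (PowEtale.natCast_residueField_ne_zero n hn)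
  have huo : IsOpenMap u.left := u.left.isOpenMap
  let F := SGA7.specialFibreSet R N
  let pt := IsLocalRing.closedPoint R
  have hFc : IsClosed F := (IsLocalRing.isClosed_singleton_closedPoint R).preimage N.hom.continuous
  let C := SGA7.secComp R N 1
  have hC1 : C = connectedComponentIn F (η[N].left pt) := by
    change connectedComponentIn F ((1 : 𝟙_ (Over (Spec (CommRingCat.of R))) ⟶ N).left pt) = _
    rw [NeronComp.one_apply]
  have memC : ∀ a, a ∈ SGA7.secUnitComp R N ↔ SGA7.secComp R N a = C := by
    intro a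
    have h := NeronComp.secComp_eq_iff N a 1
    rw [inv_one, _root_.mul_one] at h
    exact h.symm
  obtain ⟨O, hO, heO, hOsub⟩ := NeronComp.exists_open_connectedComponentIn hFc
    (NeronComp.mem_specialFibreSet (1 : 𝟙_ (Over (Spec (CommRingCat.of R))) ⟶ N))
  -- any open neighbourhood of the component may replace `O`
  let O' : Set N.left := O ∪ (Fᶜ)
  obtain ⟨O₂, hO₂, hCO₂, hO₂sub⟩ : ∃ O₂ : Set N.left, IsOpen O₂ ∧ C ⊆ O₂ ∧ O₂ ∩ F ⊆ C := by
    have hz : ∀ z : C, ∃ O : Set N.left, IsOpen O ∧ z.1 ∈ O ∧ O ∩ F ⊆ C := fun z => by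
      obtain ⟨O, h1, h2, h3⟩ := NeronComp.exists_open_connectedComponentIn hFc
        (connectedComponentIn_subset _ _ z.2)
      exact ⟨O, h1, h2, h3.trans (connectedComponentIn_eq z.2).ge⟩
    choose Oz h1 h2 h3 using hz
    refine ⟨⋃ z, Oz z, isOpen_iUnion h1, fun z hz => Set.mem_iUnion.mpr ⟨⟨z, hz⟩, h2 _⟩, ?_⟩
    rintro w ⟨hw, hwF⟩
    obtain ⟨z, hz⟩ := Set.mem_iUnion.mp hw
    exact h3 z ⟨hz, hwF⟩
  have heC : (1 : 𝟙_ (Over (Spec (CommRingCat.of R))) ⟶ N).left pt ∈ C :=
    mem_connectedComponentIn (NeronComp.mem_specialFibreSet _)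
  -- irreducibility of the identity component
  have hirr : IsIrreducible C := by
    let sk : Spec (CommRingCat.of (IsLocalRing.ResidueField R)) ⟶ Spec (CommRingCat.of R) :=
      Spec.map (CommRingCat.ofHom (IsLocalRing.residue R))
    let G₀ := Red.bc sk N
    haveI : LocallyOfFiniteType G₀.hom := inferInstanceAs (LocallyOfFiniteType (pullback.snd N.hom sk))
    haveI : IsClosedImmersion sk := IsClosedImmersion.spec_of_surjective _ IsLocalRing.residue_surjective
    let j : G₀.left ⟶ N.left := pullback.fst N.hom sk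
    have hrange : Set.range j = F := by
      change Set.range (pullback.fst N.hom sk) = F
      rw [Scheme.Pullback.range_fst]
      ext z
      constructor
      · rintro ⟨w, hw⟩
        change N.hom z = pt
        rw [← hw]
        refine PrimeSpectrum.ext ?_
        have : (w : PrimeSpectrum (IsLocalRing.ResidueField R)).asIdeal = ⊥ :=
          (Ideal.eq_bot_or_top _).resolve_right (w : PrimeSpectrum (IsLocalRing.ResidueField R)).2.ne_top
        change Ideal.comap (IsLocalRing.residue R) _ = IsLocalRing.maximalIdeal R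
        rw [this, ← RingHom.ker_eq_comap_bot, IsLocalRing.ker_residue]
      · intro hz
        refine ⟨IsLocalRing.closedPoint _, ?_⟩
        rw [show N.hom z = pt from hz]
        refine PrimeSpectrum.ext ?_
        change Ideal.comap (IsLocalRing.residue R) (IsLocalRing.maximalIdeal _) = IsLocalRing.maximalIdeal R
        rw [IsLocalRing.maximalIdeal_eq_bot, ← RingHom.ker_eq_comap_bot, IsLocalRing.ker_residue]
    have he : j (η[G₀].left (IsLocalRing.closedPoint _)) = η[N].left pt := by
      have h1 : (1 : 𝟙_ (Over (Spec (CommRingCat.of (IsLocalRing.ResidueField R)))) ⟶ G₀).left ≫ j =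
          sk ≫ η[N].left := by
        have e : (1 : G₀ ⟶ G₀) = (Over.pullback sk).map (1 : N ⟶ N) := (Functor.map_one _).symm
        have e' : (1 : 𝟙_ (Over (Spec (CommRingCat.of (IsLocalRing.ResidueField R)))) ⟶ G₀) =
            η[G₀] ≫ (1 : G₀ ⟶ G₀) := by rw [MonObj.comp_one]
        rw [e', e, Over.comp_left, Category.assoc,
          show ((Over.pullback sk).map (1 : N ⟶ N)).left ≫ j = j ≫ (1 : N ⟶ N).left from pullback.lift_fst _ _ _,
          Hom.one_def, Over.comp_left, Over.toUnit_left, ← Category.assoc,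
          ← Category.assoc, Category.assoc _ j, show j ≫ N.hom = G₀.hom ≫ sk from pullback.condition,
          ← Category.assoc, Over.w η[G₀]]
        exact congrArg (· ≫ _) (Category.id_comp sk)
      rw [NeronComp.one_apply] at h1
      have h2 := congrArg (fun g => g (IsLocalRing.closedPoint _)) h1
      refine h2.trans ?_
      change η[N].left (sk (IsLocalRing.closedPoint _)) = _
      congr 1
      refine PrimeSpectrum.ext ?_
      change Ideal.comap (IsLocalRing.residue R) (IsLocalRing.maximalIdeal _) = IsLocalRing.maximalIdeal R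
      rw [IsLocalRing.maximalIdeal_eq_bot, ← RingHom.ker_eq_comap_bot, IsLocalRing.ker_residue]
    let e₀ := GrpSch.Saturation.e₀ G₀
    have he0 : j e₀ = η[N].left pt := he
    have hCimg : C = j '' connectedComponent e₀ := by
      rw [hC1]
      refine Set.Subset.antisymm ?_ ?_
      · intro z hz
        obtain ⟨w, rfl⟩ : z ∈ Set.range j := hrange ▸ connectedComponentIn_subset _ _ hz
        refine ⟨w, ?_, rfl⟩
        have hpre : _root_.IsPreconnected (j ⁻¹' connectedComponentIn F (η[N].left pt)) := by
          rw [← j.isEmbedding.isInducing.isPreconnected_image, Set.image_preimage_eq_of_subset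
            (hrange ▸ connectedComponentIn_subset _ _)]
          exact isPreconnected_connectedComponentIn
        refine hpre.subset_connectedComponent ?_ hz
        change j e₀ ∈ connectedComponentIn F (η[N].left pt)
        rw [he0, ← hC1, ← NeronComp.one_apply]
        exact heC
      · refine _root_.IsPreconnected.subset_connectedComponentIn
          (isPreconnected_connectedComponent.image _ j.continuous.continuousOn)
          ⟨e₀, mem_connectedComponent, he0⟩ ?_
        exact (Set.image_subset_range _ _).trans hrange.le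
    rw [hCimg, GrpSch.Saturation.connectedComponent_eq]
    exact isIrreducible_irreducibleComponent.image _ j.continuous.continuousOn
  -- the two translates
  set c := x ^ n with hc
  let ψ : N ⟶ N := (CartesianMonoidalCategory.toUnit N ≫ c) * (𝟙 N)⁻¹
  have hψ : ∀ p : 𝟙_ (Over (Spec (CommRingCat.of R))) ⟶ N, p ≫ ψ = c * p⁻¹ := fun p => by
    rw [MonObj.comp_mul, GrpObj.comp_inv, Category.comp_id, ← Category.assoc,
      CartesianMonoidalCategory.toUnit_unique (p ≫ CartesianMonoidalCategory.toUnit N) (𝟙 _), Category.id_comp]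
  let W₁ : Set N.left := u.left '' O₂
  let W₂ : Set N.left := ψ.left ⁻¹' W₁
  have hW₁ : IsOpen W₁ := huo _ hO₂
  have hW₂ : IsOpen W₂ := hW₁.preimage ψ.left.continuous
  have hpow : ∀ p : 𝟙_ (Over (Spec (CommRingCat.of R))) ⟶ N, (p ^ n).left pt = u.left (p.left pt) := fun p => by
    rw [← PowEtale.comp_pow_id N p n]; rfl
  have heW : (1 : 𝟙_ (Over (Spec (CommRingCat.of R))) ⟶ N).left pt ∈ W₁ := by
    refine ⟨_, hCO₂ heC, ?_⟩
    rw [← hpow, one_pow]
  have hcC : c.left pt ∈ C := by rw [hC1]; exact hx
  have hcW : c.left pt ∈ W₂ := by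
    change (c ≫ ψ).left pt ∈ W₁
    rw [hψ, _root_.mul_inv_cancel]
    exact heW
  obtain ⟨z, hzC, hz⟩ := hirr.2 (W₁ ∩ O₂) (W₂ ∩ O₂) (hW₁.inter hO₂) (hW₂.inter hO₂)
    ⟨_, heC, heW, hCO₂ heC⟩ ⟨_, hcC, hcW, hCO₂ hcC⟩
  obtain ⟨p, hpO⟩ := NeronComp.exists_section_mem_open N ((hW₁.inter hO₂).inter (hW₂.inter hO₂))
    (z := z) hz (connectedComponentIn_subset _ _ hzC)
  obtain ⟨⟨hp₁, -⟩, hp₂, -⟩ := hpO
  have hp₂' : (c * p⁻¹).left pt ∈ W₁ := by rw [← hψ]; exact hp₂
  -- lifting
  have lift : ∀ q : 𝟙_ (Over (Spec (CommRingCat.of R))) ⟶ N, q.left pt ∈ W₁ →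
      ∃ w, w ^ n = q ∧ SGA7.secComp R N w = C := by
    rintro q ⟨z', hz'O, hz'⟩
    let E : Over (Spec (CommRingCat.of R)) := Over.mk (pullback.snd u.left q.left)
    haveI : Smooth E.hom := inferInstanceAs (Smooth (pullback.snd u.left q.left))
    obtain ⟨e, he1, he2⟩ := Scheme.Pullback.exists_preimage_pullback (f := u.left) (g := q.left) z' pt hz'
    obtain ⟨r, hr⟩ := NeronComp.exists_section_mem_open E
      (hO₂.preimage (pullback.fst u.left q.left).continuous) (z := e)
      (show pullback.fst u.left q.left e ∈ O₂ by rw [he1]; exact hz'O) he2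
    have hrE : r.left ≫ pullback.snd u.left q.left = 𝟙 _ := Over.w r
    let w : 𝟙_ (Over (Spec (CommRingCat.of R))) ⟶ N := Over.homMk (r.left ≫ pullback.fst u.left q.left) (by
      rw [Category.assoc, ← Over.w u, ← Category.assoc (pullback.fst u.left q.left), pullback.condition,
        Category.assoc, Over.w q, ← Category.assoc, hrE, Category.id_comp])
    refine ⟨w, ?_, ?_⟩
    · rw [← PowEtale.comp_pow_id N w n]
      apply Over.OverMorphism.ext
      change (r.left ≫ pullback.fst u.left q.left) ≫ u.left = q.left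
      rw [Category.assoc, pullback.condition, ← Category.assoc, hrE, Category.id_comp]
    · exact (connectedComponentIn_eq (hO₂sub ⟨hr, NeronComp.mem_specialFibreSet w⟩)).symm
  obtain ⟨w₁, hw₁, hw₁C⟩ := lift p hp₁
  obtain ⟨w₂, hw₂, hw₂C⟩ := lift _ hp₂'
  refine ⟨x * (w₁ * w₂)⁻¹, ?_, ?_⟩
  · rw [_root_.mul_pow, inv_pow, _root_.mul_pow, hw₁, hw₂, ← hc, mul_inv_cancel_comm_assoc,
      _root_.mul_inv_cancel]
  · rw [mul_inv_rev, inv_inv, mul_inv_cancel_comm_assoc, memC, ← NeronComp.image_secComp, hw₁C,
      NeronComp.image_secComp, _root_.one_mul, hw₂C]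

end Groth.Agent.S4071
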