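import Groth.Statements.S4075
import Groth.Agent.InertiaFix.Basic
import Groth.Agent.HenselVal.Inertia
import Groth.Agent.S4071
import Mathlib
-- import your own Groth.Agent.* helpers here

set_option autoImplicit false
set_option backward.isDefEq.respectTransparency false
set_option synthInstance.maxHeartbeats 200000
set_option maxHeartbeats 1000000
universe u
open CategoryTheory CategoryTheory.Limits AlgebraicGeometry MonObj
open SGA7

namespace Groth.Agent.S4075

/-- A ring map from a local ring to a field is dominated by a valuation subring. -/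
theorem exists_dominating {A Ω : Type u} [CommRing A] [IsLocalRing A] [Field Ω] (ψ : A →+* Ω) :
    ∃ V : ValuationSubring Ω, (∀ a, ψ a ∈ V) ∧
      ∀ a ∈ IsLocalRing.maximalIdeal A, V.valuation (ψ a) < 1 := by
  obtain ⟨V, hV⟩ := (LocalSubring.range ψ).exists_le_valuationSubring
  obtain ⟨hsub, hloc⟩ := LocalSubring.le_def.mp hV
  have hmem : ∀ a, ψ a ∈ V := fun a => hsub ⟨a, rfl⟩
  refine ⟨V, hmem, fun a ha => (ValuationSubring.valuation_lt_one_iff V ⟨_, hmem a⟩).mp fun hu => ha ?_⟩
  haveI : IsLocalHom ψ.rangeRestrict := IsLocalHom.of_surjective _ ψ.rangeRestrict_surjective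
  exact IsLocalHom.map_nonunit (f := ψ.rangeRestrict) a (hloc.map_nonunit (ψ.rangeRestrict a) hu)

/-- A specialisation inside the special fibre gives an extension to a `W`-point. -/
theorem exists_lift {R K Ω : Type u} [CommRing R] [IsDomain R] [IsDiscreteValuationRing R]
    [HenselianLocalRing R] [Field K] [Algebra R K] [IsFractionRing R K] [Field Ω] [Algebra K Ω]
    [IsSepClosure K Ω] (W : ValuationSubring Ω) (hW : SGA7.LiesOver K R W)
    (N : Over (Spec (CommRingCat.of R))) (x₀ : Spec (CommRingCat.of Ω) ⟶ N.left)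
    (hx₀ : x₀ ≫ N.hom = Spec.map (CommRingCat.ofHom ((algebraMap K Ω).comp (algebraMap R K))))
    {z : N.left} (hz : z ∈ SGA7.specialFibreSet R N) (hsp : x₀ (IsLocalRing.closedPoint Ω) ⤳ z) :
    ∃ g : Spec (CommRingCat.of W) ⟶ N.left,
      Spec.map (CommRingCat.ofHom (algebraMap W Ω)) ≫ g = x₀ ∧
      g ≫ N.hom = Spec.map (CommRingCat.ofHom
        (((algebraMap K Ω).comp (algebraMap R K)).codRestrict W.toSubring hW.1)) := by
  letI : Algebra R Ω := ((algebraMap K Ω).comp (algebraMap R K)).toAlgebra
  haveI : IsScalarTower R K Ω := IsScalarTower.of_algebraMap_eq' rfl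
  obtain ⟨ψ, hψ⟩ : ∃ ψ : N.left.presheaf.stalk z ⟶ CommRingCat.of Ω, Spec.map ψ ≫ N.left.fromSpecStalk z = x₀ :=
    ⟨N.left.presheaf.stalkSpecializes hsp ≫ Scheme.stalkClosedPointTo x₀, by
      rw [Spec.map_comp, Category.assoc, Scheme.SpecMap_stalkSpecializes_fromSpecStalk,
        Scheme.Spec_stalkClosedPointTo_fromSpecStalk]⟩
  obtain ⟨c, hc⟩ : ∃ c : CommRingCat.of R ⟶ N.left.presheaf.stalk z, Spec.map c = N.left.fromSpecStalk z ≫ N.hom :=
    ⟨_, Spec.map_preimage _⟩
  have hcψ : c ≫ ψ = CommRingCat.ofHom ((algebraMap K Ω).comp (algebraMap R K)) := by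
    apply Spec.map_injective
    rw [Spec.map_comp, hc, ← Category.assoc, hψ, hx₀]
  have hψc : ∀ r, ψ.hom (c.hom r) = algebraMap K Ω (algebraMap R K r) :=
    fun r => ConcreteCategory.congr_hom hcψ r
  have hcloc : ∀ r ∈ IsLocalRing.maximalIdeal R, c.hom r ∈ IsLocalRing.maximalIdeal (N.left.presheaf.stalk z) := by
    have h1 : Spec.map c (IsLocalRing.closedPoint (N.left.presheaf.stalk z)) = IsLocalRing.closedPoint R := by
      rw [hc, Scheme.Hom.comp_apply, Scheme.fromSpecStalk_closedPoint]
      exact hz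
    intro r hr
    have h2 : r ∈ (Spec.map c (IsLocalRing.closedPoint (N.left.presheaf.stalk z)) : PrimeSpectrum R).asIdeal := by
      rw [h1]; exact hr
    exact h2
  obtain ⟨V, hsub, hloc⟩ := exists_dominating ψ.hom
  have hVW : V = W := by
    refine HenselVal.eq_of_liesOver W hW V ⟨fun r => ?_, fun r hr => ?_⟩
    · have h := hsub (c.hom r)
      rwa [hψc r] at h
    · have h := hloc (c.hom r) (hcloc r hr)
      rwa [hψc r] at h
  subst hVW
  let ψW : N.left.presheaf.stalk z →+* V := ψ.hom.codRestrict V.toSubring hsub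
  refine ⟨Spec.map (CommRingCat.ofHom ψW) ≫ N.left.fromSpecStalk z, ?_, ?_⟩
  · rw [← Category.assoc, ← Spec.map_comp]
    exact hψ
  · rw [Category.assoc, ← hc, ← Spec.map_comp]
    congr 1
    ext r
    exact ConcreteCategory.congr_hom hcψ r

/-- A point fixed by inertia extends to a `W`-point. -/
theorem exists_lift_of_fixed {R K Ω : Type u} [CommRing R] [IsDomain R] [IsDiscreteValuationRing R]
    [HenselianLocalRing R] [Field K] [Algebra R K] [IsFractionRing R K] [Field Ω] [Algebra K Ω]
    [IsSepClosure K Ω] (W : ValuationSubring Ω) (hW : SGA7.LiesOver K R W)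
    (N : Over (Spec (CommRingCat.of R))) [LocallyOfFiniteType N.hom]
    (hN : SGA7.IsNeron R K N) (x : SGA7.Pts Ω ((SGA7.genFib R K).obj N))
    (hx : ∀ σ : Ω ≃ₐ[K] Ω, SGA7.IsInertia W σ → SGA7.galAct σ x = x) :
    ∃ g : Spec (CommRingCat.of W) ⟶ N.left,
      Spec.map (CommRingCat.ofHom (algebraMap W Ω)) ≫ g =
        x.left ≫ pullback.fst N.hom (Spec.map (CommRingCat.ofHom (algebraMap R K))) ∧
      g ≫ N.hom = Spec.map (CommRingCat.ofHom
        (((algebraMap K Ω).comp (algebraMap R K)).codRestrict W.toSubring hW.1)) := by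
  classical
  letI : Algebra R Ω := ((algebraMap K Ω).comp (algebraMap R K)).toAlgebra
  haveI : IsScalarTower R K Ω := IsScalarTower.of_algebraMap_eq' rfl
  haveI := IsSepClosure.separable (k := K) (K := Ω)
  haveI : IsGalois K Ω := IsSepClosure.isGalois ..
  let sK : Spec (CommRingCat.of K) ⟶ Spec (CommRingCat.of R) := Spec.map (CommRingCat.ofHom (algebraMap R K))
  let x₀ : Spec (CommRingCat.of Ω) ⟶ N.left := x.left ≫ pullback.fst N.hom sK
  have hx₀ : x₀ ≫ N.hom = Spec.map (CommRingCat.ofHom (algebraMap R Ω)) := by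
    change (x.left ≫ pullback.fst N.hom sK) ≫ N.hom = _
    have hw : x.left ≫ pullback.snd N.hom sK = Spec.map (CommRingCat.ofHom (algebraMap K Ω)) := Over.w x
    rw [Category.assoc, pullback.condition, ← Category.assoc, hw, ← Spec.map_comp]
    rfl
  obtain ⟨_, ⟨U, hU, rfl⟩, hxU, -⟩ := N.left.isBasis_affineOpens.exists_subset_of_mem_open
    (Set.mem_univ (x₀ (IsLocalRing.closedPoint Ω))) isOpen_univ
  replace hU : IsAffineOpen U := hU
  haveI := hU.isOpenImmersion_fromSpec
  obtain ⟨φ, hφ⟩ : ∃ φ, Spec.map φ = hU.fromSpec ≫ N.hom := ⟨_, Spec.map_preimage _⟩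
  letI := φ.hom.toAlgebra
  haveI : Algebra.FiniteType R Γ(N.left, U) := by
    have h : LocallyOfFiniteType (Spec.map φ) := by rw [hφ]; infer_instance
    rw [HasRingHomProperty.Spec_iff (P := @LocallyOfFiniteType)] at h
    exact RingHom.finiteType_algebraMap.mp h
  have hrange : Set.range x₀ ⊆ Set.range hU.fromSpec := by
    rw [hU.range_fromSpec]
    rintro _ ⟨w, rfl⟩
    rw [show w = IsLocalRing.closedPoint Ω from @Subsingleton.elim (PrimeSpectrum Ω) _ _ _]
    exact hxU
  let l : Spec (CommRingCat.of Ω) ⟶ Spec Γ(N.left, U) := IsOpenImmersion.lift hU.fromSpec x₀ hrange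
  have hl : l ≫ hU.fromSpec = x₀ := IsOpenImmersion.lift_fac _ _ _
  have hφl : φ ≫ Spec.preimage l = CommRingCat.ofHom (algebraMap R Ω) := by
    apply Spec.map_injective
    rw [Spec.map_comp, Spec.map_preimage, hφ, ← Category.assoc, hl, hx₀]
  let χ : Γ(N.left, U) →ₐ[R] Ω :=
    { toRingHom := (Spec.preimage l).hom, commutes' := fun r => ConcreteCategory.congr_hom hφl r }
  -- inertia fixes the coordinates
  have hfixχ : ∀ σ : Ω ≃ₐ[K] Ω, SGA7.IsInertia W σ → ∀ s, σ (χ s) = χ s := by
    intro σ hσ s
    have h1 : Spec.map (CommRingCat.ofHom (σ : Ω →+* Ω)) ≫ x₀ = x₀ := by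
      have h0 := congrArg (fun y : SGA7.Pts Ω ((SGA7.genFib R K).obj N) => y.left ≫ pullback.fst N.hom sK)
        (hx σ hσ)
      exact (Category.assoc _ _ _).symm.trans h0
    rw [← hl, ← Category.assoc, cancel_mono] at h1
    have h2 : Spec.preimage l ≫ CommRingCat.ofHom (σ : Ω →+* Ω) = Spec.preimage l := by
      apply Spec.map_injective
      rw [Spec.map_comp, Spec.map_preimage, h1]
    exact ConcreteCategory.congr_hom h2 s
  -- a finite Galois extension containing them
  obtain ⟨T, hT⟩ := (Algebra.FiniteType.out : (⊤ : Subalgebra R Γ(N.left, U)).FG)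
  let L : IntermediateField K Ω := IntermediateField.adjoin K (χ '' (T : Set Γ(N.left, U)))
  haveI : FiniteDimensional K L := IntermediateField.finiteDimensional_adjoin
    (fun y _ => Algebra.IsSeparable.isIntegral K y)
  let M := IntermediateField.normalClosure K L Ω
  haveI : IsGalois K M := ⟨⟩
  have hfixM : ∀ σ : Ω ≃ₐ[K] Ω, SGA7.IsInertia W σ → ∀ y ∈ M, σ y = y := by
    intro σ hσ
    have hL : ∀ f : Ω ≃ₐ[K] Ω, L.map (f : Ω →ₐ[K] Ω) ≤ IntermediateField.fixedField (Subgroup.zpowers σ) := by
      intro f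
      rw [IntermediateField.adjoin_map, IntermediateField.adjoin_le_iff]
      rintro _ ⟨_, ⟨s, -, rfl⟩, rfl⟩
      have hconj : SGA7.IsInertia W (f.symm * σ * f) := by
        intro w hw
        have hfw : f w ∈ W := (HenselVal.apply_mem_iff W hW f).mpr hw
        obtain ⟨h1, h2⟩ := hσ (f w) hfw
        refine ⟨(HenselVal.apply_mem_iff W hW f.symm).mpr h1, ?_⟩
        have h3 : (⟨σ (f w), h1⟩ - ⟨f w, hfw⟩ : W) ∈ IsLocalRing.maximalIdeal W :=
          (ValuationSubring.valuation_lt_one_iff W _).mpr h2
        have h4 := (ValuationSubring.valuation_lt_one_iff W _).mp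
          (HenselVal.resW_mem_maximalIdeal W hW f.symm h3)
        rw [HenselVal.coe_resW] at h4
        simpa [map_sub] using h4
      have := congrArg f (hfixχ _ hconj s)
      simp only [AlgEquiv.mul_apply, AlgEquiv.apply_symm_apply] at this
      intro g
      exact (Subgroup.zpowers_le (H := MulAction.stabilizer (Ω ≃ₐ[K] Ω) (f (χ s)))).mpr this g.2
    have hle : M ≤ IntermediateField.fixedField (Subgroup.zpowers σ) := by
      change IntermediateField.normalClosure K L Ω ≤ _
      rw [IntermediateField.normalClosure_def'']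
      exact iSup_le hL
    intro y hy
    exact hle hy ⟨σ, Subgroup.mem_zpowers σ⟩
  let S := integralClosure R M
  haveI : Algebra.Etale R S := HenselVal.etale_integralClosure W hW M hfixM
  -- the smooth scheme `Spec S`
  let sS : Spec (CommRingCat.of S) ⟶ Spec (CommRingCat.of R) := Spec.map (CommRingCat.ofHom (algebraMap R S))
  let Y : Over (Spec (CommRingCat.of R)) := Over.mk sS
  haveI : Smooth Y.hom := by
    change Smooth sS
    rw [HasRingHomProperty.Spec_iff (P := @Smooth)]
    exact RingHom.smooth_algebraMap.mpr inferInstance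
  haveI : Module.IsTorsionFree R M := Module.isTorsionFree_iff_algebraMap_injective.mpr (by
    rw [IsScalarTower.algebraMap_eq R K M]
    exact (algebraMap K M).injective.comp (IsFractionRing.injective R K))
  haveI hloc : IsLocalization (Algebra.algebraMapSubmonoid S (nonZeroDivisors R)) M :=
    IsIntegralClosure.isLocalization R K M S
  haveI : IsLocalization ((nonZeroDivisors R).map (algebraMap R S)) M := hloc
  have hpush := CommRingCat.isPushout_of_isLocalization (Rₘ := K) (Sₘ := M) (algebraMap R S) (algebraMap K M)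
    (by rw [← IsScalarTower.algebraMap_eq R S M, ← IsScalarTower.algebraMap_eq R K M]) (nonZeroDivisors R)
  have hpb := isPullback_SpecMap_of_isPushout _ _ _ _ hpush
  let e : pullback sS sK ≅ Spec (CommRingCat.of M) := hpb.isoPullback.symm
  have hχM : ∀ s, χ s ∈ M := by
    intro s
    have hs : s ∈ Algebra.adjoin R (T : Set Γ(N.left, U)) := hT ▸ trivial
    have : χ s ∈ Algebra.adjoin R (χ '' (T : Set Γ(N.left, U))) := by
      rw [← AlgHom.map_adjoin]
      exact ⟨s, hs, rfl⟩
    have hLM : L ≤ M := IntermediateField.le_normalClosure L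
    refine hLM ((Algebra.adjoin_le (S := L.toSubalgebra.restrictScalars R) fun y hy => ?_) this)
    exact IntermediateField.subset_adjoin K _ hy
  let χM : Γ(N.left, U) →+* M := χ.toRingHom.codRestrict M.toSubalgebra.toSubring hχM
  let g₀ : Spec (CommRingCat.of M) ⟶ N.left := Spec.map (CommRingCat.ofHom χM) ≫ hU.fromSpec
  have hg₀ : g₀ ≫ N.hom = Spec.map (CommRingCat.ofHom (algebraMap K M)) ≫ sK := by
    rw [Category.assoc, ← hφ, ← Spec.map_comp, ← Spec.map_comp]
    congr 1
    ext r
    exact χ.commutes r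
  let a : (SGA7.genFib R K).obj Y ⟶ (SGA7.genFib R K).obj N :=
    Over.homMk (pullback.lift (e.hom ≫ g₀) (pullback.snd sS sK) (by
      rw [Category.assoc, hg₀, ← Category.assoc]
      congr 1
      exact hpb.isoPullback_inv_snd)) (pullback.lift_snd _ _ _)
  obtain ⟨g, hg⟩ := (hN.2.2.2 Y inferInstance).2 a
  have hg' : pullback.fst sS sK ≫ g.left = e.hom ≫ g₀ := by
    have h1 := congrArg (fun m => m.left ≫ pullback.fst N.hom sK) hg
    refine (pullback.lift_fst _ _ _).symm.trans (h1.trans (pullback.lift_fst _ _ _))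
  have hSW : ∀ s : S, ((s : M) : Ω) ∈ W := fun s =>
    HenselVal.mem_of_isIntegral W hW (s.2.map (M.val.restrictScalars R))
  let cS : S →+* W := ((algebraMap M Ω).comp S.val.toRingHom).codRestrict W.toSubring hSW
  refine ⟨Spec.map (CommRingCat.ofHom cS) ≫ g.left, ?_, ?_⟩
  · have h2 : Spec.map (CommRingCat.ofHom (algebraMap S M)) ≫ g.left = g₀ := by
      rw [← hpb.isoPullback_hom_fst, Category.assoc, hg']
      exact e.inv_hom_id_assoc g₀
    rw [← Category.assoc, ← Spec.map_comp, show CommRingCat.ofHom cS ≫ CommRingCat.ofHom (algebraMap W Ω) =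
      CommRingCat.ofHom (algebraMap S M) ≫ CommRingCat.ofHom (algebraMap M Ω) from rfl, Spec.map_comp,
      Category.assoc, h2]
    change Spec.map _ ≫ Spec.map _ ≫ hU.fromSpec = x₀
    rw [← Category.assoc, ← Spec.map_comp, show CommRingCat.ofHom χM ≫ CommRingCat.ofHom (algebraMap M Ω) =
      Spec.preimage l from rfl, Spec.map_preimage, hl]
  · rw [Category.assoc, Over.w g]
    change Spec.map _ ≫ sS = _
    rw [← Spec.map_comp]
    congr 1

/-- Let R be a henselian discrete valuation ring with fraction field K, Ω a separable closure of K, W a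
valuation subring of Ω lying over R, N a group scheme over Spec R which is a Néron model of its
generic fibre A = N_K, an abelian variety, and m an integer invertible in the residue field. For an
m-torsion Ω-point x of A, the inertia group at W fixes x if and only if the point of N underlying x
specialises to a point of the special fibre of N (x factors through the finite part of the m-torsion
of N): the fixed part of the m-torsion is the inertia invariants. -/
theorem result (R K Ω : Type u) [CommRing R] [IsDomain R]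
    [IsDiscreteValuationRing R] [HenselianLocalRing R] [Field K] [Algebra R K] [IsFractionRing R K]
    [Field Ω] [Algebra K Ω] [IsSepClosure K Ω] (W : ValuationSubring Ω) (hW : SGA7.LiesOver K R W)
    (N : Over (Spec (CommRingCat.of R))) [GrpObj N] (hN : SGA7.IsNeron R K N)
    [IsProper ((SGA7.genFib R K).obj N).hom] [GeometricallyIntegral ((SGA7.genFib R K).obj N).hom]
    (m : ℕ) (hm : (m : IsLocalRing.ResidueField R) ≠ 0)
    (x : SGA7.Pts Ω ((SGA7.genFib R K).obj N)) (hx : x ^ m = 1) :
    (∀ σ : Ω ≃ₐ[K] Ω, SGA7.IsInertia W σ → SGA7.galAct σ x = x) ↔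
      ∃ z ∈ SGA7.specialFibreSet R N,
        (x.left ≫ pullback.fst N.hom (Spec.map (CommRingCat.ofHom (algebraMap R K)))).base
          (IsLocalRing.closedPoint Ω) ⤳ z := by
  haveI := hN.1
  haveI := hN.2.1
  haveI : GeometricallyConnected ((SGA7.genFib R K).obj N).hom :=
    InertiaFix.geometricallyConnected_of_forall _ fun k' _ t => inferInstance
  haveI : IsCommMonObj N := S4071.isCommMonObj_neron N hN
  constructor
  · intro hfix
    obtain ⟨g, hg₁, hg₂⟩ := exists_lift_of_fixed W hW N hN x hfix
    refine ⟨g (IsLocalRing.closedPoint W), ?_, ?_⟩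
    · change (g ≫ N.hom) (IsLocalRing.closedPoint W) = IsLocalRing.closedPoint R
      rw [hg₂]
      refine PrimeSpectrum.ext (((IsLocalRing.maximalIdeal.isMaximal R).eq_of_le ?_ fun r hr => ?_).symm)
      · exact Ideal.IsPrime.ne_top'
      · exact (ValuationSubring.valuation_lt_one_iff W _).mpr (hW.2 r hr)
    · rw [← hg₁]
      exact (IsLocalRing.specializes_closedPoint _).map g.continuous
  · rintro ⟨z, hz, hsp⟩ σ hσ
    haveI : Etale ((𝟙 N : N ⟶ N) ^ m).left :=
      PowEtale.etale_pow N m (PowEtale.natCast_residueField_ne_zero m hm)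
    have hx₀ : (x.left ≫ pullback.fst N.hom (Spec.map (CommRingCat.ofHom (algebraMap R K)))) ≫ N.hom =
        Spec.map (CommRingCat.ofHom ((algebraMap K Ω).comp (algebraMap R K))) := by
      have hw : x.left ≫ pullback.snd N.hom (Spec.map (CommRingCat.ofHom (algebraMap R K))) =
          Spec.map (CommRingCat.ofHom (algebraMap K Ω)) := Over.w x
      rw [Category.assoc, pullback.condition, ← Category.assoc, hw, ← Spec.map_comp]
      rfl
    obtain ⟨g, hg₁, hg₂⟩ := exists_lift W hW N _ hx₀ hz hsp
    exact InertiaFix.galAct_eq_of_lift W hW N m σ hσ x hx g hg₁ hg₂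

end Groth.Agent.S4075
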