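import Groth.Statements.S4104
import Groth.Agent.HopfFF.Union
import Groth.Agent.HopfFF.Kernel

set_option autoImplicit false
universe u
open CategoryTheory MonoidalCategory CartesianMonoidalCategory MonObj GrpObj AlgebraicGeometry CategoryTheory.Limits
open SGA3

namespace Groth.Agent.S4104

open scoped TensorProduct
open Groth.Agent.HopfFF in
theorem surj_of_ff {B A : Type u} [CommRing B] [CommRing A] [Algebra B A] [Module.FaithfullyFlat B A]
    (h : ∀ x : A, (x ⊗ₜ[B] (1 : A)) = (1 : A) ⊗ₜ[B] x) : Function.Surjective (algebraMap B A) := by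
  have hs : Function.Surjective ((Algebra.linearMap B A).lTensor A) := by
    intro z
    induction z with
    | zero => exact ⟨0, map_zero _⟩
    | tmul p q =>
      refine ⟨(p * q) ⊗ₜ[B] 1, ?_⟩
      rw [LinearMap.lTensor_tmul, Algebra.linearMap_apply, map_one]
      have := congrArg ((p ⊗ₜ[B] (1 : A)) * ·) (h q)
      simpa using this
    | add y z hy hz =>
      obtain ⟨a, ha⟩ := hy
      obtain ⟨b, hb⟩ := hz
      exact ⟨a + b, by rw [map_add, ha, hb]⟩
  exact (Module.FaithfullyFlat.lTensor_surjective_iff_surjective B A (Algebra.linearMap B A)).1 hs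


/-- Let φ : A' → A be a bialgebra map between commutative Hopf algebras over a field k (a homomorphism
of affine k-groups Spec A → Spec A', not necessarily of finite type). If the corresponding morphism
of schemes is a monomorphism, i.e. φ is an epimorphism in the category of commutative rings, then φ
is surjective (the homomorphism is a closed immersion). -/
theorem result (k : Type u) [Field k] (A' A : Type u) [CommRing A'] [HopfAlgebra k A']
    [CommRing A] [HopfAlgebra k A] (φ : A' →ₐc[k] A)
    (hepi : ∀ (R : Type u) [CommRing R] (f g : A →+* R), f.comp (φ : A' →+* A) = g.comp (φ : A' →+* A) → f = g) :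
    Function.Surjective φ := by
  haveI := Groth.Agent.HopfFF.isHopfIdeal_ker φ
  let ψ := Groth.Agent.HopfFF.kerLift φ
  have hff := Groth.Agent.HopfFF.faithfullyFlat_of_injective' ψ (Groth.Agent.HopfFF.kerLift_injective φ)
  letI : Algebra (A' ⧸ RingHom.ker (φ : A' →ₐ[k] A)) A :=
    ((ψ : (A' ⧸ RingHom.ker (φ : A' →ₐ[k] A)) →ₐ[k] A) : (A' ⧸ RingHom.ker (φ : A' →ₐ[k] A)) →+* A).toAlgebra
  haveI : Module.FaithfullyFlat (A' ⧸ RingHom.ker (φ : A' →ₐ[k] A)) A := hff
  intro a
  have h := hepi (A ⊗[A' ⧸ RingHom.ker (φ : A' →ₐ[k] A)] A) Algebra.TensorProduct.includeLeftRingHom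
    (Algebra.TensorProduct.includeRight : A →ₐ[A' ⧸ RingHom.ker (φ : A' →ₐ[k] A)] _).toRingHom ?_
  · obtain ⟨q, hq⟩ := surj_of_ff (B := A' ⧸ RingHom.ker (φ : A' →ₐ[k] A)) (fun x => DFunLike.congr_fun h x) a
    obtain ⟨x, rfl⟩ := Ideal.Quotient.mk_surjective q
    exact ⟨x, hq⟩
  · ext x
    exact Algebra.TensorProduct.tmul_one_eq_one_tmul (A := A) (B := A) (Ideal.Quotient.mk (RingHom.ker (φ : A' →ₐ[k] A)) x)

end Groth.Agent.S4104
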