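import Groth.Statements.S4113
import Groth.Agent.FinHopf.Power
import Mathlib.RingTheory.Etale.Descent
import Mathlib.RingTheory.Etale.Field
import Mathlib.FieldTheory.IsAlgClosed.AlgebraicClosure
import Mathlib.LinearAlgebra.Dimension.Constructions
-- import your own Groth.Agent.* helpers here

set_option autoImplicit false
universe u
open CategoryTheory MonoidalCategory CartesianMonoidalCategory MonObj GrpObj AlgebraicGeometry CategoryTheory.Limits
open SGA3

namespace Groth.Agent.S4113

/-- Let A be a finite-dimensional commutative Hopf algebra over a field k (a finite algebraic k-group of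
rank dim A). If the rank is invertible in k then A is an etale k-algebra. -/
theorem result (k : Type u) [Field k] (A : Type u) [CommRing A] [HopfAlgebra k A]
    [Module.Finite k A] (h : (Module.finrank k A : k) ≠ 0) : Algebra.Etale k A := by
  let K := AlgebraicClosure k
  have hr : IsReduced (TensorProduct k K A) := Groth.Agent.FinHopf.isReduced_of_finrank_ne_zero (k := K) (by
    rw [Module.finrank_baseChange, ← map_natCast (algebraMap k K)]
    exact (map_ne_zero _).2 h)
  have : IsArtinianRing (TensorProduct k K A) := IsArtinianRing.of_finite K _
  have hI : ∀ I : MaximalSpectrum (TensorProduct k K A),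
      Algebra.FormallyEtale K (TensorProduct k K A ⧸ I.asIdeal) := fun I => by
    letI := Ideal.Quotient.field I.asIdeal
    exact Algebra.FormallyEtale.of_isSeparable K _
  have : Algebra.FormallyEtale K (TensorProduct k K A) :=
    .of_equiv ((IsArtinianRing.equivPi _).restrictScalars K).symm
  have : Algebra.Etale K (TensorProduct k K A) :=
    ⟨inferInstance, Algebra.FinitePresentation.of_finiteType.mp inferInstance⟩
  exact Algebra.Etale.of_etale_tensorProduct_of_faithfullyFlat (T := K)

end Groth.Agent.S4113
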