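import Groth.Statements.S6628
import Groth.Agent.EtSh.Point

set_option autoImplicit false
open CategoryTheory CategoryTheory.Limits AlgebraicGeometry Opposite
universe u
open EtCore

namespace Groth.Agent.S6628

/-- An integral morphism of schemes satisfies condition (A): for every etale U ⟶ X and every point u of
U there are an etale V ⟶ Y, an open and closed subscheme W of X ×_Y V and an X-morphism W ⟶ U whose
image contains u. -/
theorem result {X Y : Scheme.{u}} (f : X ⟶ Y) [IsIntegralHom f] : BigSite.PropA f := by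
  intro U g _ u
  obtain ⟨V, O, hO, k, z, hz⟩ :=
    EtSh.exists_piece_through f (MorphismProperty.Over.mk ⊤ g inferInstance : X.Etale) u
  let e := pullbackSymmetry f V.hom
  refine ⟨V.left, V.hom, V.prop, e.hom ⁻¹ᵁ O, hO.preimage e.hom.continuous,
    (e.hom ∣_ O) ≫ k.left, ?_, ?_⟩
  · let O' : (pullback V.hom f).Opens := O
    let k' : (O' : Scheme.{u}) ⟶ U := k.left
    have hk : k' ≫ g = O'.ι ≫ pullback.snd V.hom f := MorphismProperty.Over.w k
    show ((e.hom ∣_ O') ≫ k') ≫ g = (e.hom ⁻¹ᵁ O').ι ≫ pullback.fst f V.hom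
    rw [Category.assoc, hk, morphismRestrict_ι_assoc, pullbackSymmetry_hom_comp_snd]
  · obtain ⟨w, hw⟩ := (inferInstance : Surjective (e.hom ∣_ O)).1 z
    exact ⟨w, (congrArg k.left.base hw).trans hz⟩

end Groth.Agent.S6628
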