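import Groth.Statements.S4183
import Groth.Agent.AnPts.Separated

set_option autoImplicit false
open CategoryTheory AlgebraicGeometry Topology TopologicalSpace
open An

namespace Groth.Agent.S4183

/-- For affine n-space over ℂ, the map sending a ℂ-point to the values of the n coordinate functions is
a homeomorphism from its space of ℂ-points, with the complex topology of this problem, onto ℂ^n with
its usual topology. -/
theorem result (n : ℕ) :
    IsHomeomorph (fun (x : An.Pts (𝔸(Fin n; An.SC))) (i : Fin n) => x.evTop (AffineSpace.coord An.SC i)) := by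
  let A := 𝔸(Fin n; An.SC)
  let q : MvPolynomial (Fin n) ℂ →ₐ[ℂ] Γ(A, ⊤) := MvPolynomial.aeval (AffineSpace.coord An.SC)
  have hq : Function.Surjective q := by
    let φ := CommRingCat.ofHom (MvPolynomial.eval₂Hom ((A ↘ An.SC).appTop).hom (AffineSpace.coord An.SC))
    haveI : CategoryTheory.IsIso (Spec.map φ) := by
      have : CategoryTheory.IsIso (A.toSpecΓ ≫ Spec.map φ) :=
        inferInstanceAs (CategoryTheory.IsIso (AffineSpace.isoOfIsAffine (Fin n) An.SC).hom)
      exact CategoryTheory.IsIso.of_isIso_comp_left A.toSpecΓ (Spec.map φ)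
    haveI : CategoryTheory.IsIso (Scheme.Spec.map φ.op) := inferInstanceAs (CategoryTheory.IsIso (Spec.map φ))
    haveI : CategoryTheory.IsIso φ := (CategoryTheory.isIso_op_iff φ).mp
      (CategoryTheory.isIso_of_fully_faithful (Scheme.Spec) φ.op)
    intro c
    obtain ⟨P, hP⟩ := (CategoryTheory.ConcreteCategory.bijective_of_isIso φ).2 c
    let e := (Scheme.ΓSpecIso (CommRingCat.of ℂ)).commRingCatIsoToRingEquiv
    refine ⟨MvPolynomial.map e.toRingHom P, ?_⟩
    rw [← hP]
    show MvPolynomial.eval₂Hom (algebraMap ℂ Γ(A, ⊤)) _ (MvPolynomial.map e.toRingHom P) = MvPolynomial.eval₂Hom _ _ P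
    rw [MvPolynomial.eval₂Hom_map_hom]
    congr 2
    ext t
    show (A ↘ An.SC).appTop (e.symm (e t)) = _
    rw [RingEquiv.symm_apply_apply]
  have he := Groth.Agent.AnPts.isClosedEmbedding_coords q hq
  have hfun : Groth.Agent.AnPts.coords q = fun (x : An.Pts A) (i : Fin n) => x.evTop (AffineSpace.coord An.SC i) :=
    funext fun x => funext fun i => congrArg x.evTop (MvPolynomial.aeval_X _ i)
  rw [hfun] at he
  refine isHomeomorph_iff_isEmbedding_surjective.mpr ⟨he.isEmbedding, fun v => ?_⟩
  letI : An.SC.Over An.SC := ⟨CategoryTheory.CategoryStruct.id _⟩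
  obtain ⟨⟨p, hp⟩, hpv⟩ := (AffineSpace.homOverEquiv (n := Fin n) (S := An.SC) (X := An.SC)).surjective
    fun i => (Scheme.ΓSpecIso (CommRingCat.of ℂ)).inv (v i)
  refine ⟨⟨p, hp.1⟩, funext fun i => ?_⟩
  show An.Pts.evTop _ _ = v i
  rw [Groth.Agent.AnPts.evTop_eq, show p.appTop (AffineSpace.coord An.SC i) = _ from congrFun hpv i]
  exact congrArg (fun m => m.hom (v i)) (Scheme.ΓSpecIso (CommRingCat.of ℂ)).inv_hom_id

end Groth.Agent.S4183
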