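import Groth.Statements.S4184
import Groth.Agent.AnPts.Pullback

set_option autoImplicit false
open CategoryTheory AlgebraicGeometry Topology TopologicalSpace
open An

namespace Groth.Agent.S4184

/-- Let X be affine of finite type over ℂ and s_1, …, s_n global sections generating Γ(X, O_X) as a
ℂ-algebra, i.e. the evaluation map from polynomials in n variables over ℂ (through the structure
homomorphism ℂ → Γ(X, O_X)) is surjective. Then x ↦ (s_1(x), …, s_n(x)) is a closed embedding of the
space of ℂ-points of X (complex topology) into ℂ^n. In particular the complex topology is the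
subspace topology for any such presentation. -/
theorem result (X : Scheme.{0}) [X.Over An.SC] [IsAffine X]
    [LocallyOfFiniteType (X ↘ An.SC)] (n : ℕ) (s : Fin n → Γ(X, ⊤))
    (hs : Function.Surjective (MvPolynomial.eval₂Hom (An.strHom X) s)) :
    Topology.IsClosedEmbedding (fun (x : An.Pts X) (i : Fin n) => x.evTop (s i)) := by
  let q : MvPolynomial (Fin n) ℂ →ₐ[ℂ] Γ(X, ⊤) := MvPolynomial.aeval s
  have hq : ∀ P, q P = MvPolynomial.eval₂Hom (An.strHom X) s P := fun P => rfl
  have h := Groth.Agent.AnPts.isClosedEmbedding_coords q (fun c => (hs c).imp fun P hP => (hq P).trans hP)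
  convert h using 1
  funext x i
  show x.evTop (s i) = x.evTop (q (MvPolynomial.X i))
  rw [show q (MvPolynomial.X i) = s i from MvPolynomial.aeval_X s i]

end Groth.Agent.S4184
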