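import Groth.Statements.S4199
import Groth.Agent.AnPts.Pullback

set_option autoImplicit false
open CategoryTheory AlgebraicGeometry Topology TopologicalSpace
open An

namespace Groth.Agent.S4199

/-- Let f : X → Y be quasi-compact, with X and Y locally of finite type over ℂ. Then f is dominant if
and only if the image of X(ℂ) → Y(ℂ) is dense. -/
theorem result (X Y : Scheme.{0}) [X.Over An.SC] [LocallyOfFiniteType (X ↘ An.SC)]
    [Y.Over An.SC] [LocallyOfFiniteType (Y ↘ An.SC)] (f : X ⟶ Y) [f.IsOver An.SC] [QuasiCompact f] :
    DenseRange f.base ↔ DenseRange (An.Pts.map f) := by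
  haveI : LocallyOfFiniteType f := Groth.Agent.AnPts.locallyOfFiniteType_of_isOver f
  haveI : IsLocallyNoetherian Y := LocallyOfFiniteType.isLocallyNoetherian (Y ↘ An.SC)
  have hT : Topology.IsLocallyConstructible (Set.range f) := Set.image_univ ▸ f.isLocallyConstructible_image .univ
  show Dense (Set.range f) ↔ Dense (Set.range (An.Pts.map f))
  rw [Groth.Agent.AnPts.range_map]
  exact Groth.Agent.AnPts.dense_iff hT

end Groth.Agent.S4199
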