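import Groth.Statements.S4206
import Groth.Agent.AnPts.ProperIff
import Mathlib.Topology.Covering.Basic

set_option autoImplicit false
open CategoryTheory AlgebraicGeometry Topology TopologicalSpace
open An

namespace Groth.Agent.S4206

/-- A finite etale morphism f : X → Y of schemes locally of finite type over ℂ (f a ℂ-morphism) induces
a covering map X(ℂ) → Y(ℂ) with finite fibres for the complex topologies. -/
theorem result (X Y : Scheme.{0}) [X.Over An.SC] [LocallyOfFiniteType (X ↘ An.SC)]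
    [Y.Over An.SC] [LocallyOfFiniteType (Y ↘ An.SC)] (f : X ⟶ Y) [f.IsOver An.SC] [IsFinite f] [Etale f] :
    IsCoveringMap (An.Pts.map f) ∧ ∀ y : An.Pts Y, (An.Pts.map f ⁻¹' {y}).Finite := by
  obtain ⟨hp, hs, hfin⟩ := (Groth.Agent.AnPts.isFinite_iff f).mp ‹IsFinite f›
  refine ⟨?_, hfin⟩
  have hlh : IsLocalHomeomorph (An.Pts.map f) := Groth.Agent.AnPts.etaleLH X Y f
  rw [isCoveringMap_iff_isCoveringMapOn_univ]
  intro y _
  obtain ⟨_, ⟨V, hV, rfl⟩, hyV, -⟩ :=
    Y.isBasis_affineOpens.exists_subset_of_mem_open (Set.mem_univ y.pt) isOpen_univ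
  letI : (V : Scheme).Over An.SC := ⟨(Scheme.Opens.ι V) ≫ Y ↘ An.SC⟩
  haveI : (Scheme.Opens.ι V).IsOver An.SC := ⟨rfl⟩
  haveI : IsAffine (V : Scheme) := hV
  haveI : LocallyOfFiniteType ((V : Scheme) ↘ An.SC) :=
    inferInstanceAs (LocallyOfFiniteType ((Scheme.Opens.ι V) ≫ Y ↘ An.SC))
  let W : Set (An.Pts Y) := An.Pts.pt ⁻¹' (V : Set Y)
  haveI : T2Space W := by
    have he := Groth.Agent.AnPts.isEmbedding_map_of_isOpenImmersion (Scheme.Opens.ι V)
    have hr : Set.range (An.Pts.map (Scheme.Opens.ι V)) = W := by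
      rw [Groth.Agent.AnPts.range_map, Scheme.Opens.range_ι]
    haveI : T2Space (An.Pts (V : Scheme)) := by
      obtain ⟨m, q, hq⟩ := Algebra.FiniteType.iff_quotient_mvPolynomial''.mp
        (Groth.Agent.AnPts.finiteType_top (X := (V : Scheme)))
      exact (Groth.Agent.AnPts.isClosedEmbedding_coords q hq).isEmbedding.t2Space
    exact hr ▸ he.toHomeomorph.t2Space
  haveI : T2Space (An.Pts.map f ⁻¹' W : Set (An.Pts X)) := by
    refine ⟨fun a b hab => ?_⟩
    by_cases he : An.Pts.map f a.1 = An.Pts.map f b.1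
    · obtain ⟨u, v, hu, hv, hau, hbv, huv⟩ := hs a.1 b.1 he (fun h => hab (Subtype.ext h))
      exact ⟨_, _, hu.preimage continuous_subtype_val, hv.preimage continuous_subtype_val, hau, hbv, huv.preimage _⟩
    · exact separated_by_continuous (f := fun z : (An.Pts.map f ⁻¹' W : Set (An.Pts X)) => (⟨An.Pts.map f z.1, z.2⟩ : W))
        (((An.Pts.continuous_map f).comp continuous_subtype_val).subtype_mk _) (fun h => he (congrArg Subtype.val h))
  have hW : IsOpen W := An.Pts.isOpen_preimage_pt V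
  refine (IsCoveringMapOn.of_isCoveringMap_restrictPreimage W hW (hW.preimage (An.Pts.continuous_map f)) ?_) y hyV
  rw [isCoveringMap_iff_isCoveringMapOn_univ]
  refine IsClosedMap.isCoveringMapOn_of_isLocalHomeomorphOn (hp.isClosedMap.restrictPreimage W) (fun w _ => ?_) ?_
  · refine Set.Finite.of_finite_image ((hfin w.1).subset ?_) Subtype.val_injective.injOn
    rintro _ ⟨z, hz, rfl⟩
    exact congrArg Subtype.val hz
  · rw [Set.preimage_univ, ← isLocalHomeomorph_iff_isLocalHomeomorphOn_univ]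
    refine isLocalHomeomorph_iff_isOpenEmbedding_restrict.mpr fun z => ?_
    obtain ⟨N, hN, hNe⟩ := isLocalHomeomorph_iff_isOpenEmbedding_restrict.mp hlh z.1
    refine ⟨Subtype.val ⁻¹' N, continuous_subtype_val.continuousAt hN, ?_⟩
    refine IsOpenEmbedding.of_comp _ hW.isOpenEmbedding_subtypeVal ?_
    exact hNe.comp ((((hW.preimage (An.Pts.continuous_map f)).isOpenEmbedding_subtypeVal).restrictPreimage N))

end Groth.Agent.S4206
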