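import Groth.Statements.S4243
import Mathlib.FieldTheory.Finite.Polynomial
import Mathlib.RingTheory.MvPolynomial.Homogeneous

set_option autoImplicit false
open SGA4h

namespace Groth.Agent.S4243

/-- Let k be a finite field with q elements and P a nonzero homogeneous polynomial of degree d in r+1
variables over k. If P vanishes at every point of k^{r+1} (that is, the hypersurface P = 0 in
projective r-space passes through every rational point), then d ≥ q + 1. -/
theorem result (k : Type) [Field k] [Fintype k] (r d : ℕ)
    (P : MvPolynomial (Fin (r + 1)) k) (hP : P.IsHomogeneous d) (hP0 : P ≠ 0)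
    (hvan : ∀ x : Fin (r + 1) → k, MvPolynomial.eval x P = 0) :
    Fintype.card k + 1 ≤ d := by
  classical
  by_contra hd
  apply hP0
  have hcard : 1 < Fintype.card k := Fintype.one_lt_card
  have hsum : ∀ e ∈ P.support, ∑ i, e i = d := fun e he => by
    have := hP (MvPolynomial.mem_support_iff.mp he)
    simpa [Finsupp.weight_apply, Finsupp.sum_fintype] using this
  refine MvPolynomial.eq_zero_of_eval_eq_zero (Fin (r + 1)) k P hvan ?_
  rw [MvPolynomial.mem_restrictDegree]
  intro e he i
  have hle : e i ≤ ∑ j, e j := Finset.single_le_sum (fun j _ => Nat.zero_le (e j)) (Finset.mem_univ i)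
  rw [hsum e he] at hle
  by_contra hlt
  have hei : e i = d := by omega
  have hd0 : d ≠ 0 := by omega
  have hother : ∀ j, j ≠ i → e j = 0 := fun j hj => by
    have := hsum e he
    rw [← Finset.add_sum_erase _ _ (Finset.mem_univ i), hei] at this
    have h0 : ∑ x ∈ Finset.univ.erase i, e x = 0 := by omega
    exact Finset.sum_eq_zero_iff.mp h0 j (by simp [hj])
  have h := hvan (Pi.single i 1)
  rw [MvPolynomial.eval_eq, Finset.sum_eq_single e] at h
  · rw [Finset.prod_eq_one, mul_one] at h
    · exact MvPolynomial.mem_support_iff.mp he h
    · intro j hj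
      rcases eq_or_ne j i with rfl | hji
      · simp
      · exact absurd (hother j hji) (Finsupp.mem_support_iff.mp hj)
  · intro e' he' hne
    obtain ⟨j, hji, hj⟩ : ∃ j, j ≠ i ∧ e' j ≠ 0 := by
      by_contra hall
      push Not at hall
      apply hne
      ext j
      rcases eq_or_ne j i with rfl | hji
      · have := hsum e' he'
        rw [Finset.sum_eq_single j (fun b _ hb => hall b hb) (by simp)] at this
        omega
      · rw [hall j hji, hother j hji]
    rw [Finset.prod_eq_zero (i := j) (Finsupp.mem_support_iff.mpr hj) (by simp [hji, hj]), mul_zero]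
  · exact fun h => absurd he h

end Groth.Agent.S4243
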