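import Groth.Statements.S4256
import Mathlib.NumberTheory.LegendreSymbol.AddCharacter

set_option autoImplicit false
open scoped BigOperators
open SGA4h

namespace Groth.Agent.S4256

/-- Let k be a finite field, ψ a nontrivial additive character of k with values in a domain R, and n ≥
1. Then the generalised Kloosterman sum with parameter 0, Σ ψ(x_1 + ⋯ + x_n) over all (x_1, …, x_n)
∈ k^n with x_1 ⋯ x_n = 0, equals (-1)^{n-1}. -/
theorem result (k : Type) [Field k] [Fintype k] [DecidableEq k] (R : Type) [CommRing R] [IsDomain R]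
    (ψ : AddChar k R) (hψ : ψ ≠ 1) (n : ℕ) (hn : 1 ≤ n) :
    ∑ x ∈ (Finset.univ : Finset (Fin n → k)).filter (fun x => ∏ i, x i = 0), ψ (∑ i, x i) = (-1) ^ (n - 1) := by
  classical
  have hp : ∀ x : Fin n → k, ψ (∑ i, x i) = ∏ i, ψ (x i) := fun x => map_prod ψ.toMonoidHom (fun i => Multiplicative.ofAdd (x i)) Finset.univ
  have hall : ∑ x : Fin n → k, ψ (∑ i, x i) = 0 := by
    simp only [hp]
    rw [← Fintype.piFinset_univ, ← Finset.prod_univ_sum]
    simp only [AddChar.sum_eq_zero_of_ne_one hψ, Finset.prod_const, Finset.card_univ, Fintype.card_fin]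
    exact zero_pow (by omega)
  have hne : ∑ x ∈ (Finset.univ : Finset (Fin n → k)).filter (fun x => ¬ ∏ i, x i = 0), ψ (∑ i, x i) = (-1) ^ n := by
    have : (Finset.univ : Finset (Fin n → k)).filter (fun x => ¬ ∏ i, x i = 0) =
        Fintype.piFinset fun _ => Finset.univ.erase (0 : k) := by
      ext x; simp [Finset.prod_eq_zero_iff]
    rw [this]
    simp only [hp]
    rw [← Finset.prod_univ_sum]
    have h1 : ∑ a ∈ Finset.univ.erase (0 : k), ψ a = -1 := by
      have := AddChar.sum_eq_zero_of_ne_one hψ
      rw [← Finset.add_sum_erase _ _ (Finset.mem_univ (0 : k)), AddChar.map_zero_eq_one] at this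
      linear_combination this
    simp [h1]
  have := Finset.sum_filter_add_sum_filter_not Finset.univ (fun x : Fin n → k => ∏ i, x i = 0) (fun x => ψ (∑ i, x i))
  rw [hall, hne] at this
  obtain ⟨m, rfl⟩ := Nat.exists_eq_add_of_le hn
  rw [Nat.add_sub_cancel_left]
  rw [pow_add, pow_one] at this
  linear_combination this

end Groth.Agent.S4256
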