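import Groth.Statements.S4275
import Groth.Agent.DCohBridge.PerfectQCoh
import Groth.Agent.DCohBridge.PullTensorMod
import Groth.Agent.DCohBridge.Perfect
import Groth.Agent.DCohBridge.StalkExact
import Groth.Agent.S5611

set_option autoImplicit false
set_option backward.isDefEq.respectTransparency false
universe u
open CategoryTheory CategoryTheory.Limits AlgebraicGeometry
attribute [local instance] HasDerivedCategory.standard
open KSix

namespace Groth.Agent.S4275

/-- For the ringed space underlying a scheme: let E ∈ D(O_X) and m ≤ n. Then E has perfect amplitude in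
[m, n] (locally isomorphic to a complex of finite locally free modules placed in degrees [m, n]) if
and only if E is (m-1)-pseudo-coherent and has tor amplitude in [m, n] (is isomorphic to a complex
of flat modules placed in degrees [m, n]). (The source states this on an arbitrary ringed topos,
with tor amplitude defined through Tor sheaves.) -/
theorem result (X : Scheme.{u}) (E : DCoh.D X) (m n : ℤ) (hmn : m ≤ n) :
    KSix.HasPerfectAmplitudeIn m n E ↔ DCoh.IsPseudoCoherentD (m - 1) E ∧ DCoh.HasFlatAmplitudeIn m n E := by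
  constructor
  · intro h
    obtain ⟨G, ⟨eG⟩⟩ : ∃ G, Nonempty (DCoh.toD X G ≅ E) := ⟨_, ⟨DerivedCategory.Q.objObjPreimageIso E⟩⟩
    have hloc : ∀ x : X, ∃ (V : X.Opens) (C : CochainComplex (V : Scheme.{u}).Modules ℤ), x ∈ V ∧
        DCoh.VanishesOutside C m n ∧ (∀ i, FlatMod.IsFinLocFree (C.X i)) ∧
        Nonempty ((DCoh.restrictD V.ι).obj E ≅ DCoh.toD _ C) := fun x => by
      obtain ⟨V, hx, hV⟩ := h x
      obtain ⟨C, hv, hC, ⟨e⟩⟩ := hV G ⟨eG⟩
      exact ⟨V, C, hx, hv, hC,
        ⟨(DCoh.restrictD V.ι).mapIso eG.symm ≪≫ Groth.Agent.DCohBridge.restrictObjIso V.ι G ≪≫ e⟩⟩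
    refine ⟨(Groth.Agent.DCohBridge.isPseudoCoherentD_iff _ E).2 fun x => ?_,
      Groth.Agent.DCohBridge.hasFlatAmplitudeIn_of_tor hmn ?_⟩
    · obtain ⟨V, C, hx, hv, hC, ⟨e⟩⟩ := hloc x
      exact ⟨_, V.ι, inferInstance, ⟨x, hx⟩, C, e.inv, rfl, ⟨⟨m, n, hv⟩, hC⟩,
        Groth.Agent.DCohBridge.cond_isIso _ e.inv⟩
    intro F _ i hi
    obtain ⟨N, q, hN, -, hq, -⟩ := SiteBase.KFlat.exists_resolution (O := X.sheaf) G
    let eN : DCoh.toD X N ≅ E := @asIso _ _ _ _ (DerivedCategory.Q.map q) inferInstance ≪≫ eG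
    let T := (Groth.Agent.DCohBridge.tensModCx F).obj N
    suffices hT : T.ExactAt i from ((Groth.Agent.DCohBridge.isZero_HD_iff T i).2 hT).of_iso
      (Groth.Agent.DCohBridge.HDTensorIso F hN eN i)
    rw [HomologicalComplex.exactAt_iff_isZero_homology]
    refine Groth.Agent.DCohBridge.isZero_of_stalk fun x => ?_
    obtain ⟨V, C, hx, hv, hC, ⟨e⟩⟩ := hloc x
    let j := V.ι
    let P := (Groth.Agent.DCohBridge.pullCx j).obj N
    let rN : (Groth.Agent.DCohBridge.resCx j).obj N ≅ P :=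
      (NatIso.mapHomologicalComplex (Scheme.Modules.restrictFunctorIsoPullback j) (ComplexShape.up ℤ)).app N
    let eP : DCoh.toD _ C ≅ DCoh.toD _ P := e.symm ≪≫ (DCoh.restrictD j).mapIso eN.symm ≪≫
      Groth.Agent.DCohBridge.restrictObjIso j N ≪≫ DerivedCategory.Q.mapIso rN
    have hP : DCoh.HasFlatAmplitudeIn m n (DCoh.toD _ P) :=
      ⟨C, hv, fun k => Groth.Agent.DCohBridge.isFlat_of_finLocFree (hC k), ⟨eP⟩⟩
    let F' := (Scheme.Modules.pullback j).obj F
    have hex : ((Groth.Agent.DCohBridge.tensModCx F').obj P).ExactAt i :=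
      Groth.Agent.DCohBridge.exactAt_tensor_of_tor (Groth.Agent.DCohBridge.isKFlat_pull j hN)
        (Groth.Agent.DCohBridge.hasTorAmplitudeIn_of_flat hP) i hi F'
    let ι : (Groth.Agent.DCohBridge.resCx j).obj T ≅ (Groth.Agent.DCohBridge.tensModCx F').obj P :=
      (NatIso.mapHomologicalComplex (Scheme.Modules.restrictFunctorIsoPullback j) (ComplexShape.up ℤ)).app T ≪≫
      HomologicalComplex.Hom.isoOfComponents (fun k => Groth.Agent.DCohBridge.pullTensorModIso j (N.X k) F)
        (fun k l _ => (Groth.Agent.DCohBridge.pullTensorModIso_left j (N.d k l) F).symm)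
    haveI : (Scheme.Modules.restrictFunctor j).PreservesHomology := inferInstance
    have hres : IsZero ((Scheme.Modules.restrictFunctor j).obj (T.homology i)) :=
      ((hex.isZero_homology).of_iso ((HomologicalComplex.homologyFunctor _ _ i).mapIso ι)).of_iso
        ((T.sc i).mapHomologyIso (Scheme.Modules.restrictFunctor j)).symm
    suffices hs : Subsingleton ((DerSch.stalkFunctor X x).obj (T.homology i)) from
      @ModuleCat.isZero_of_subsingleton _ _ _ hs
    refine subsingleton_of_forall_eq 0 fun z => ?_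
    obtain ⟨O, hxO, s, rfl⟩ := TopCat.Presheaf.exists_germ_eq (C := AddCommGrpCat.{u}) (T.homology i).presheaf (x := x) z
    let W := j ''ᵁ (j ⁻¹ᵁ O)
    have hxW : x ∈ W := ⟨⟨x, hx⟩, hxO, rfl⟩
    have hWO : W ≤ O := by rintro _ ⟨w, hw, rfl⟩; exact hw
    haveI : Subsingleton Γ(T.homology i, W) := by
      refine ⟨fun a b => ?_⟩
      have h := congrArg (fun φ : (Scheme.Modules.restrictFunctor j).obj (T.homology i) ⟶ (Scheme.Modules.restrictFunctor j).obj (T.homology i) => Scheme.Modules.Hom.app φ (j ⁻¹ᵁ O)) ((IsZero.iff_id_eq_zero _).1 hres)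
      simp only [Scheme.Modules.Hom.id_app, Scheme.Modules.Hom.zero_app] at h
      exact (ConcreteCategory.congr_hom h a).trans (ConcreteCategory.congr_hom h b).symm
    rw [← TopCat.Presheaf.germ_res_apply (C := AddCommGrpCat.{u}) (T.homology i).presheaf (homOfLE hWO) _ hxW s,
      Subsingleton.elim ((T.homology i).presheaf.map (homOfLE hWO).op s) 0]
    exact map_zero _
  · rintro ⟨h2, h1⟩ x
    have hq : DCoh.IsQCohD E :=
      Groth.Agent.DCohBridge.isQCohD_of_perfect (Groth.Agent.DCohBridge.isPerfect_of_flatAmplitude hmn h1 h2)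
    obtain ⟨R, j, _, p, hp, -⟩ := Groth.Agent.DCohBridge.exists_affine_chart ⊤ x trivial
    obtain ⟨M, ⟨e⟩⟩ := (Groth.Agent.DCohBridge.Affine.isQCohD_iff R _).1 (Groth.Agent.DCohBridge.isQCohD_restrictD j hq)
    have hT : DRing.HasTorAmplitudeIn R m n M := (Groth.Agent.DCohBridge.hasFlatAmplitudeIn_tildeD_iff M m n).1 (by
      obtain ⟨G, hv, hfl, ⟨eG⟩⟩ := Groth.Agent.DCohBridge.hasFlatAmplitudeIn_restrictD j h1
      exact ⟨G, hv, hfl, ⟨eG ≪≫ e.symm⟩⟩)
    have hP : DRing.IsPseudoCoherent R (m - 1) M := (Groth.Agent.DCohBridge.isPseudoCoherentD_tildeD_iff M (m - 1)).1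
      ((Groth.Agent.DCohBridge.isPseudoCoherentD_iff _ _).2 fun v => Groth.Agent.DCohBridge.PCAt.of_iso e.symm
        (Groth.Agent.DCohBridge.PCAt.res j rfl ((Groth.Agent.DCohBridge.isPseudoCoherentD_iff _ _).1 h2 _)))
    obtain ⟨P, hPv, hPf, ⟨eP⟩⟩ := (Groth.Agent.S5611.result M m n hmn).1 ⟨hP, hT⟩
    let C := (Groth.Agent.DCohBridge.Affine.TC R).obj P
    let k := j.isoOpensRange.inv
    let C' := (Groth.Agent.DCohBridge.resCx k).obj C
    have hCf : ∀ i, FlatMod.IsFinLocFree (C.X i) := fun i => by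
      haveI := (hPf i).1
      haveI := (hPf i).2
      exact Groth.Agent.DCohBridge.isFinLocFree_tilde (R := R) (P.X i)
    have hC' : DCoh.IsStrictlyPerfect C' := Groth.Agent.DCohBridge.isStrictlyPerfect_res k
      ⟨⟨m, n, fun i hi => (tilde.functor R).map_isZero (hPv i hi)⟩, hCf⟩
    refine ⟨j.opensRange, ⟨p, hp⟩, fun F ⟨eF⟩ => ⟨C', fun i hi =>
      (Scheme.Modules.restrictFunctor k).map_isZero ((tilde.functor R).map_isZero (hPv i hi)), hC'.2, ?_⟩⟩
    exact ⟨(Groth.Agent.DCohBridge.restrictObjIso j.opensRange.ι F).symm ≪≫ (DCoh.restrictD j.opensRange.ι).mapIso eF ≪≫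
      Groth.Agent.DCohBridge.compObjIso' k j _ (by rw [Iso.inv_comp_eq, Scheme.Hom.isoOpensRange_hom_ι]) E ≪≫
      (DCoh.restrictD k).mapIso (e.symm ≪≫ (DCoh.tildeD R).mapIso eP.symm ≪≫
        Groth.Agent.DCohBridge.Affine.factor (R := R) P) ≪≫ Groth.Agent.DCohBridge.restrictObjIso k C⟩

end Groth.Agent.S4275
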