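import Groth.Statements.S4307
import Groth.Agent.AnPts.Holo
import Groth.Agent.S4183

set_option autoImplicit false
open CategoryTheory AlgebraicGeometry Topology TopologicalSpace
open An

namespace Groth.Agent.S4307

/-- A sanity check of the definition of holomorphic functions: for an open set U of complex points of
affine n-space over ℂ and g : U → ℂ, g is holomorphic (satisfies the local predicate An.holPred of
the prelude) if and only if g = G ∘ (coordinates) for some G : ℂ^n → ℂ complex-differentiable on the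
image of U in ℂ^n. -/
theorem result (n : ℕ) (U : TopologicalSpace.Opens (An.Pts (𝔸(Fin n; An.SC))))
    (g : U → ℂ) :
    (An.holPred (𝔸(Fin n; An.SC))).pred g ↔
      ∃ G : (Fin n → ℂ) → ℂ,
        DifferentiableOn ℂ G ((fun (x : An.Pts (𝔸(Fin n; An.SC))) (i : Fin n) =>
          x.evTop (AffineSpace.coord An.SC i)) '' (U : Set (An.Pts (𝔸(Fin n; An.SC))))) ∧
        ∀ x : U, g x = G (fun i => (x : An.Pts (𝔸(Fin n; An.SC))).evTop (AffineSpace.coord An.SC i)) := by
  let A := 𝔸(Fin n; An.SC)
  let q : MvPolynomial (Fin n) ℂ →ₐ[ℂ] Γ(A, ⊤) := MvPolynomial.aeval (AffineSpace.coord An.SC)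
  have hq : Function.Surjective q := Groth.Agent.AnPts.surjective_aeval_coord n
  let c : An.Pts A → Fin n → ℂ := fun x i => x.evTop (AffineSpace.coord An.SC i)
  have hc : IsHomeomorph c := Groth.Agent.S4183.result n
  have hcq : ∀ y, Groth.Agent.AnPts.coords q y = c y := fun y =>
    funext fun i => congrArg y.evTop (MvPolynomial.aeval_X _ i)
  constructor
  · intro hg
    have hext : ∀ x : U, g x = Function.extend (fun x : U => c x.1) g 0 (c x.1) := fun x =>
      (Function.Injective.extend_apply (fun a b h => Subtype.ext (hc.injective h)) g 0 x).symm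
    refine ⟨Function.extend (fun x : U => c x.1) g 0, ?_, hext⟩
    rintro _ ⟨x, hx, rfl⟩
    obtain ⟨V, hxV, i, hV⟩ := hg ⟨x, hx⟩
    suffices ∀ f : (↑V → ℂ), f ∈ An.chartAlg (X := A) V →
        ∃ G : (Fin n → ℂ) → ℂ, DifferentiableAt ℂ G (c x) ∧ ∀ᶠ z in nhds (c x), ∀ y : V, c y.1 = z → f y = G z by
      obtain ⟨G, hG, hGeq⟩ := this _ hV
      refine (hG.congr_of_eventuallyEq ?_).differentiableWithinAt
      filter_upwards [hGeq, (hc.isOpenMap _ V.2).mem_nhds ⟨x, hxV, rfl⟩] with z hz hzV
      obtain ⟨y, hy, rfl⟩ := hzV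
      rw [← hz ⟨y, hy⟩ rfl]
      exact (hext (i ⟨y, hy⟩)).symm
    intro f hf
    refine Algebra.adjoin_induction ?_ (fun r => ⟨fun _ => r, differentiableAt_const r,
      Filter.Eventually.of_forall fun z y _ => rfl⟩) ?_ ?_ hf
    · rintro φ ⟨W, hW, k, s, V', G, hV', hG, h⟩
      have hfrac : ∀ j, ∃ S : (Fin n → ℂ) → ℂ, DifferentiableAt ℂ S (c x) ∧
          ∀ᶠ z in nhds (c x), ∀ y : V, c y.1 = z → y.1.ev W (hW y) (s j) = S z := by
        intro j
        obtain ⟨P, Q, e, hQ, hPQ⟩ := Groth.Agent.AnPts.exists_ev_eq_div q hq (s j) x (hW ⟨x, hxV⟩)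
        rw [hcq] at hQ
        refine ⟨fun z => MvPolynomial.eval z P / MvPolynomial.eval z Q ^ e,
          ((Groth.Agent.AnPts.differentiable_eval P).differentiableAt.fun_mul
            ((((Groth.Agent.AnPts.differentiable_eval Q).differentiableAt).pow e).inv (pow_ne_zero e hQ))).congr_of_eventuallyEq
            (Filter.Eventually.of_forall fun z => div_eq_mul_inv _ _), ?_⟩
        filter_upwards [(isOpen_ne_fun Q.continuous_eval continuous_const).mem_nhds hQ] with z hz y hy
        obtain ⟨hU', he⟩ := hPQ y.1 (by rw [hcq, hy]; exact hz)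
        rw [hcq, hy] at he
        exact he
      choose S hS hSeq using hfrac
      have hxval : (fun j => S j (c x)) ∈ V' := by
        have := (h ⟨x, hxV⟩).1
        simp only [fun j => (hSeq j).self_of_nhds ⟨x, hxV⟩ rfl] at this
        exact this
      refine ⟨fun z => G (fun j => S j z),
        (hG.differentiableAt (hV'.mem_nhds hxval)).comp (c x) (differentiableAt_pi.mpr hS), ?_⟩
      filter_upwards [Filter.eventually_all.mpr hSeq] with z hz y hy
      rw [(h y).2]
      congr 1
      exact funext fun j => hz j y hy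
    · rintro a b _ _ ⟨Ga, ha, ha'⟩ ⟨Gb, hb, hb'⟩
      refine ⟨Ga + Gb, ha.add hb, ?_⟩
      filter_upwards [ha', hb'] with z hza hzb y hy
      simp [hza y hy, hzb y hy]
    · rintro a b _ _ ⟨Ga, ha, ha'⟩ ⟨Gb, hb, hb'⟩
      refine ⟨Ga * Gb, ha.mul hb, ?_⟩
      filter_upwards [ha', hb'] with z hza hzb y hy
      simp [hza y hy, hzb y hy]
  · rintro ⟨G, hG, hgG⟩
    exact An.holPred_of_chartAlg (Algebra.subset_adjoin ⟨⊤, fun _ => trivial, n,
      fun j => AffineSpace.coord An.SC j, c '' (U : Set (An.Pts A)), G, hc.isOpenMap _ U.2, hG,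
      fun x => ⟨⟨x.1, x.2, rfl⟩, hgG x⟩⟩)

end Groth.Agent.S4307
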