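import Groth.Statements.S4329
import Groth.Agent.SiteDer.Adj
import Groth.Agent.EtSh.Pull
import Groth.Agent.DerCat.KInjLib

set_option autoImplicit false
universe u
open CategoryTheory CategoryTheory.Limits AlgebraicGeometry Opposite
attribute [local instance] HasDerivedCategory.standard
open EtSix

namespace Groth.Agent.S4329

/-- Composition of derived direct images: for the small etale sites of schemes and abelian sheaves: let
f : X -> Y and g : Y -> Z be morphisms of schemes and assume the unbounded derived direct images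
Rf_*, Rg_* and R(g ∘ f)_* exist (they do; the existence is recorded as instance hypotheses). Then
the canonical morphism R(g ∘ f)_* -> Rg_* ∘ Rf_* of functors D(X_et) -> D(Z_et), induced by (g ∘
f)_* ≅ g_* ∘ f_* through the universal property of R(g ∘ f)_* as a right derived functor, is an
isomorphism. -/
theorem result {X Y Z : Scheme.{u}} (f : X ⟶ Y) (g : Y ⟶ Z)
    [DCoh.HasRpushEt X f] [DCoh.HasRpushEt Y g] [DCoh.HasRpushEt X (f ≫ g)] :
    IsIso (EtSix.compMap f g) := by
  have hK : ∀ {S : Scheme.{u}} (K : CochainComplex (EtCoh.Ab S) ℤ),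
      ∃ (I : CochainComplex (EtCoh.Ab S) ℤ) (a : K ⟶ I), I.IsKInjective ∧ QuasiIso a := fun {S} K => by
    obtain ⟨I, a, h1, h2, -, -⟩ := Groth.Agent.S0476.result K
    exact ⟨I, a, h1, h2⟩
  have := Groth.Agent.EtSh.pull_preservesFiniteLimits f
  have : (EtCoh.pull f).Additive := (EtCoh.pullPushAdj f).left_adjoint_additive
  have : PreservesColimitsOfSize.{0, 0} (EtCoh.pull f) := (EtCoh.pullPushAdj f).leftAdjoint_preservesColimits
  have : PreservesFiniteColimits (EtCoh.pull f) :=
    PreservesColimitsOfSize.preservesFiniteColimits _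
  let L := DerivedCategory.Qh (C := EtCoh.Ab X)
  let W := HomotopyCategory.quasiIso (EtCoh.Ab X) (ComplexShape.up ℤ)
  let P : ObjectProperty (HomotopyCategory (EtCoh.Ab X) (ComplexShape.up ℤ)) :=
    fun Z => ∃ I : CochainComplex (EtCoh.Ab X) ℤ, I.IsKInjective ∧ (HomotopyCategory.quotient _ _).obj I = Z
  have hres : ∀ Z, ∃ (V : _) (s : Z ⟶ V), P V ∧ W s := fun Z => by
    obtain ⟨K, rfl⟩ := HomotopyCategory.quotient_obj_surjective Z
    obtain ⟨I, a, hI, ha⟩ := hK K
    exact ⟨_, (HomotopyCategory.quotient _ _).map a, ⟨I, hI, rfl⟩,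
      (HomotopyCategory.quotient_map_mem_quasiIso_iff a).2 ha⟩
  have hθ : IsIso (NatTrans.mapHomotopyCategory (EtCoh.pushComp g f).inv (ComplexShape.up ℤ)) := by
    have : ∀ K, IsIso ((NatTrans.mapHomotopyCategory (EtCoh.pushComp g f).inv (ComplexShape.up ℤ)).app K) := fun K => by
      have : IsIso ((NatTrans.mapHomologicalComplex (EtCoh.pushComp g f).inv (ComplexShape.up ℤ)).app K.as) := by
        have : ∀ n, IsIso (((NatTrans.mapHomologicalComplex (EtCoh.pushComp g f).inv (ComplexShape.up ℤ)).app K.as).f n) :=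
          fun n => inferInstanceAs (IsIso ((EtCoh.pushComp g f).inv.app (K.as.X n)))
        exact HomologicalComplex.Hom.isIso_of_components _
      exact inferInstanceAs (IsIso ((HomotopyCategory.quotient _ _).map
        ((NatTrans.mapHomologicalComplex (EtCoh.pushComp g f).inv (ComplexShape.up ℤ)).app K.as)))
    exact NatIso.isIso_of_isIso_app _
  have h : (DCoh.RpushEt X f ⋙ DCoh.RpushEt Y g).IsRightDerivedFunctor (EtSix.compUnit f g) W := by
    refine Groth.Agent.SiteDer.isRightDerived_of_iso_on L W (DCoh.pushEtKh X (f ≫ g)) P hres ?_ _ _ ?_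
    · rintro _ ⟨I, hI, rfl⟩
      exact (Groth.Agent.S1032.result hK (DCoh.pushEtKh X (f ≫ g))).2 I hI
    · rintro _ ⟨I, hI, rfl⟩
      have h1 := (Groth.Agent.S1032.result hK (DCoh.pushEtKh X f)).2 I hI
      have hI' : CochainComplex.IsKInjective (((EtCoh.push f).mapHomologicalComplex (ComplexShape.up ℤ)).obj I) :=
        Groth.Agent.DerCat.isKInjective_map_rightAdjoint (EtCoh.pullPushAdj f) I
      have h2 := (Groth.Agent.S1032.result hK (DCoh.pushEtKh Y g)).2 _ hI'
      have h3 : IsIso (((DCoh.pushEtKh Y g).totalRightDerivedUnit DerivedCategory.Qh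
          (HomotopyCategory.quasiIso (EtCoh.Ab Y) (ComplexShape.up ℤ))).app
          (((EtCoh.push f).mapHomotopyCategory (ComplexShape.up ℤ)).obj ((HomotopyCategory.quotient _ _).obj I))) := h2
      dsimp [EtSix.compUnit]
      infer_instance
  exact ((DCoh.RpushEt X (f ≫ g)).isRightDerivedFunctor_iff_isIso_rightDerivedDesc
    ((DCoh.pushEtKh X (f ≫ g)).totalRightDerivedUnit L W) W _ _).1 h

end Groth.Agent.S4329
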