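import Groth.Statements.S4332
import Groth.Agent.EtModAbCmp.Acyclic

set_option autoImplicit false
universe u
open CategoryTheory CategoryTheory.Limits AlgebraicGeometry Opposite
attribute [local instance] HasDerivedCategory.standard
open EtSix

namespace Groth.Agent.S4332

open CategoryTheory.Abelian

set_option backward.isDefEq.respectTransparency.types false

theorem bijective_zero (Λ : Type (u + 1)) [CommRing Λ] {X : Scheme.{u}}
    [PreservesFiniteLimits (EtModD.forgetToAb Λ X)] [PreservesFiniteColimits (EtModD.forgetToAb Λ X)]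
    [(EtModD.forgetToAb Λ X).Additive] (F : EtModW.Mod Λ X) :
    Function.Bijective (EtSix.HModToH Λ F 0) := by
  let U := EtModD.forgetToAb Λ X
  have key : ∀ φ : EtSix.constΛ Λ X ⟶ F, EtSix.HModToH Λ F 0 (Ext.mk₀ φ) =
      Ext.mk₀ (EtSix.intToConstΛ Λ X ≫ U.map φ) := fun φ => by
    show (Ext.mk₀ (EtSix.intToConstΛ Λ X)).comp ((Ext.mk₀ φ).mapExactFunctor U) (zero_add 0) = _
    rw [Ext.mapExactFunctor_mk₀, Ext.mk₀_comp_mk₀]
  have ev : Function.Bijective (fun χ : AddCommGrpCat.of (ULift.{u + 1} ℤ) ⟶ (EtCore.gsec X).obj (U.obj F) =>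
      χ.hom (ULift.up 1)) := by
    refine ⟨fun χ χ' h => AddCommGrpCat.hom_ext ?_, fun s => ⟨AddCommGrpCat.ofHom
      ((zmultiplesHom _ s).comp (AddEquiv.ulift (α := ℤ)).toAddMonoidHom), one_zsmul s⟩⟩
    have : χ.hom.comp (AddEquiv.ulift (α := ℤ)).symm.toAddMonoidHom =
        χ'.hom.comp (AddEquiv.ulift (α := ℤ)).symm.toAddMonoidHom := AddMonoidHom.ext_int h
    exact AddMonoidHom.ext fun a => DFunLike.congr_fun this a.down
  have evM : Function.Bijective (fun χ : ModuleCat.of Λ Λ ⟶ (EtSix.gsecMod Λ X).obj F => χ.hom (1 : Λ)) := by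
    exact ⟨fun χ χ' h => ModuleCat.hom_ext (LinearMap.ext_ring h),
      fun s => ⟨ModuleCat.ofHom (LinearMap.toSpanSingleton Λ _ s), one_smul Λ s⟩⟩
  have main : ∀ φ : EtSix.constΛ Λ X ⟶ F,
      ((EtCore.constAdj X).homEquiv _ _ (EtSix.intToConstΛ Λ X ≫ U.map φ)).hom (ULift.up 1) =
        ((EtSix.constModAdj Λ X).homEquiv _ _ φ).hom (1 : Λ) := fun φ => by
    rw [Adjunction.homEquiv_naturality_right, EtSix.intToConstΛ, Equiv.apply_symm_apply, Adjunction.homEquiv_unit]
    show (φ.hom.app (op (EtCoh.top X))).hom ((1 : ℤ) • ((EtSix.constModAdj Λ X).unit.app (ModuleCat.of Λ Λ)).hom (1 : Λ)) = _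
    rw [one_zsmul]
    rfl
  have hcomp : Function.Bijective (fun φ : EtSix.constΛ Λ X ⟶ F => EtSix.intToConstΛ Λ X ≫ U.map φ) := by
    have h1 : Function.Bijective (fun φ : EtSix.constΛ Λ X ⟶ F =>
        ((EtSix.constModAdj Λ X).homEquiv _ _ φ).hom (1 : Λ)) :=
      evM.comp ((EtSix.constModAdj Λ X).homEquiv _ _).bijective
    have h2 := ev.comp ((EtCore.constAdj X).homEquiv _ (U.obj F)).bijective
    refine ⟨fun φ φ' h => h1.1 ?_, fun θ => ?_⟩
    · show ((EtSix.constModAdj Λ X).homEquiv _ _ φ).hom (1 : Λ) = ((EtSix.constModAdj Λ X).homEquiv _ _ φ').hom (1 : Λ)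
      rw [← main, ← main]
      exact congrArg (fun t => ((EtCore.constAdj X).homEquiv _ _ t).hom (ULift.up 1)) h
    · obtain ⟨φ, hφ⟩ := h1.2 (((EtCore.constAdj X).homEquiv _ _ θ).hom (ULift.up 1))
      exact ⟨φ, h2.1 ((main φ).trans hφ)⟩
  refine ⟨fun a b h => ?_, fun y => ?_⟩
  · obtain ⟨φ, rfl⟩ := (Ext.mk₀_bijective _ _).2 a
    obtain ⟨φ', rfl⟩ := (Ext.mk₀_bijective _ _).2 b
    rw [key, key] at h
    rw [hcomp.1 ((Ext.mk₀_bijective _ _).1 h)]
  · obtain ⟨θ, rfl⟩ := (Ext.mk₀_bijective _ _).2 y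
    obtain ⟨φ, hφ⟩ := hcomp.2 θ
    exact ⟨Ext.mk₀ φ, (key φ).trans (congrArg Ext.mk₀ hφ)⟩

theorem main (Λ : Type (u + 1)) [CommRing Λ] {X : Scheme.{u}}
    [PreservesFiniteLimits (EtModD.forgetToAb Λ X)] [PreservesFiniteColimits (EtModD.forgetToAb Λ X)]
    [(EtModD.forgetToAb Λ X).Additive] : ∀ (n : ℕ) (F : EtModW.Mod Λ X),
    Function.Bijective (EtSix.HModToH Λ F n) := by
  intro n
  induction n with
  | zero => exact fun F => bijective_zero Λ F
  | succ n ih =>
    intro F
    let U := EtModD.forgetToAb Λ X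
    let S := ShortComplex.mk (Injective.ι F) (cokernel.π (Injective.ι F)) (cokernel.condition _)
    have hS : S.ShortExact :=
      { exact := S.exact_of_g_is_cokernel (cokernelIsCokernel _)
        mono_f := inferInstanceAs (Mono (Injective.ι F))
        epi_g := inferInstanceAs (Epi (cokernel.π (Injective.ι F))) }
    have : Injective S.X₂ := inferInstanceAs (Injective (Injective.under F))
    have hT := hS.map_of_exact U
    have hδ : ∀ z : EtSix.HMod Λ X S.X₃ n, EtSix.HModToH Λ F (n + 1) (z.comp hS.extClass rfl) =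
        (EtSix.HModToH Λ S.X₃ n z).comp hT.extClass rfl := fun z => by
      show (Ext.mk₀ (EtSix.intToConstΛ Λ X)).comp ((z.comp hS.extClass rfl).mapExactFunctor U) (zero_add _) =
        ((Ext.mk₀ (EtSix.intToConstΛ Λ X)).comp (z.mapExactFunctor U) (zero_add n)).comp hT.extClass rfl
      rw [Ext.mapExactFunctor_comp, Ext.mapExactFunctor_extClass, Ext.comp_assoc _ _ _ (zero_add n) rfl (by omega)]
      rfl
    have hg : ∀ w : EtSix.HMod Λ X S.X₂ n, EtSix.HModToH Λ S.X₃ n (w.comp (Ext.mk₀ S.g) (add_zero n)) =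
        (EtSix.HModToH Λ S.X₂ n w).comp (Ext.mk₀ (U.map S.g)) (add_zero n) := fun w => by
      show (Ext.mk₀ (EtSix.intToConstΛ Λ X)).comp ((w.comp (Ext.mk₀ S.g) (add_zero n)).mapExactFunctor U) (zero_add _) =
        ((Ext.mk₀ (EtSix.intToConstΛ Λ X)).comp (w.mapExactFunctor U) (zero_add n)).comp (Ext.mk₀ (U.map S.g)) (add_zero n)
      rw [Ext.mapExactFunctor_comp, Ext.mapExactFunctor_mk₀, Ext.comp_assoc_of_third_deg_zero]
    refine ⟨(injective_iff_map_eq_zero _).2 fun x hx => ?_, fun y => ?_⟩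
    · obtain ⟨z, rfl⟩ := Ext.covariant_sequence_exact₁ _ hS x (Ext.eq_zero_of_injective _) rfl
      rw [hδ] at hx
      obtain ⟨w, hw⟩ := Ext.covariant_sequence_exact₃ _ hT _ rfl hx
      obtain ⟨w', rfl⟩ := (ih S.X₂).2 w
      rw [show z = w'.comp (Ext.mk₀ S.g) (add_zero n) from (ih S.X₃).1 (hw.symm.trans (hg w').symm)]
      exact (Ext.comp_assoc_of_second_deg_zero _ (Ext.mk₀ S.g) hS.extClass rfl).trans
        ((congrArg (fun e => Ext.comp _ e rfl) hS.comp_extClass).trans (Ext.comp_zero _ _ _ _ _))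
    · obtain ⟨t, ht⟩ := Ext.covariant_sequence_exact₁ _ hT y
        (Subsingleton.elim (h := Groth.Agent.EtModAbCmp.subsingleton_H Λ S.X₂ n) _ _) rfl
      obtain ⟨z, rfl⟩ := (ih S.X₃).2 t
      exact ⟨z.comp hS.extClass rfl, (hδ z).trans ht⟩

/-- Cohomology of a sheaf of modules agrees with that of its underlying abelian sheaf: for the constant
sheaf of rings Λ on the small etale site of a scheme X, through the canonical map: for every sheaf F
of Λ-modules and every n, the map Ext^n(Λ_X, F) -> Ext^n(Z_X, F_ab) = H^n(X, F_ab) obtained by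
applying the forgetful functor to an Ext class (computed in sheaves of Λ-modules) and precomposing
with Z_X -> Λ_X, 1 ↦ 1, is bijective. The exactness and additivity of the forgetful functor, which
hold, are recorded as instance hypotheses. -/
theorem result (Λ : Type (u + 1)) [CommRing Λ] {X : Scheme.{u}}
    [PreservesFiniteLimits (EtModD.forgetToAb Λ X)] [PreservesFiniteColimits (EtModD.forgetToAb Λ X)]
    [(EtModD.forgetToAb Λ X).Additive] (F : EtModW.Mod Λ X) (n : ℕ) :
    Function.Bijective (EtSix.HModToH Λ F n) := by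
  exact main Λ n F

end Groth.Agent.S4332
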