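import Groth.Statements.S4337
import Groth.Agent.S2276
import Mathlib.RingTheory.Nakayama
import Mathlib.LinearAlgebra.TensorProduct.Quotient
import Mathlib.LinearAlgebra.TensorProduct.RightExactness

set_option autoImplicit false
universe u
open LinTop

namespace Groth.Agent.S4337

/-- Let A be an admissible ring, J an ideal of definition, and u : M -> N a homomorphism of A-modules
with N of finite type. Then u is surjective if and only if u tensored with A/J is surjective. -/
theorem result
    (A : Type u) [CommRing A] [UniformSpace A] [IsUniformAddGroup A] [IsTopologicalRing A]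
    (hA : LinTop.IsAdmissible A) (J : Ideal A) (hJ : LinTop.IsIdealOfDefinition A J)
    (M N : Type u) [AddCommGroup M] [Module A M] [AddCommGroup N] [Module A N] [Module.Finite A N]
    (u : M →ₗ[A] N) :
    Function.Surjective u ↔ Function.Surjective (u.rTensor (A ⧸ J)) := by
  refine ⟨fun h => LinearMap.rTensor_surjective _ h, fun h => ?_⟩
  rw [← LinearMap.range_eq_top]
  refine top_unique (Submodule.le_of_le_smul_of_le_jacobson_bot (I := J) Module.Finite.fg_top
    (Groth.Agent.S2276.result A hA J hJ).2 ?_)
  intro y _
  obtain ⟨z, hz⟩ := h (y ⊗ₜ[A] Ideal.Quotient.mk J 1)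
  let e := TensorProduct.tensorQuotEquivQuotSMul N J
  have hmem : ∀ w, e (u.rTensor (A ⧸ J) w) ∈
      Submodule.map (J • ⊤ : Submodule A N).mkQ (LinearMap.range u) := fun w => by
    induction w using TensorProduct.induction_on with
    | zero => simp
    | add a b ha hb => simpa only [map_add] using add_mem ha hb
    | tmul m q =>
      obtain ⟨a, rfl⟩ := Ideal.Quotient.mk_surjective q
      refine ⟨u (a • m), ⟨a • m, rfl⟩, ?_⟩
      rw [LinearMap.rTensor_tmul, TensorProduct.tensorQuotEquivQuotSMul_tmul_mk, map_smul]
      rfl
  have h2 := hmem z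
  rw [hz, TensorProduct.tensorQuotEquivQuotSMul_tmul_mk] at h2
  obtain ⟨v, hv, hvy⟩ := h2
  simp only [one_smul, Submodule.mkQ_apply, Submodule.Quotient.eq] at hvy
  exact Submodule.mem_sup.mpr ⟨v, hv, y - v, by simpa using neg_mem hvy, add_sub_cancel v y⟩

end Groth.Agent.S4337
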