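import Groth.Statements.S4343
import Mathlib.AlgebraicGeometry.Birational.RationalMap
import Groth.Agent.RatMapLib.Unique

set_option autoImplicit false
universe u
open RatMapD

namespace Groth.Agent.S4343

open AlgebraicGeometry in
open CategoryTheory in
/-- Let X, Y be S-schemes with X irreducible and Y locally of finite type over S. Two S-rational maps
from X to Y to which corresponds the same morphism Spec(O_x) -> Y, x the generic point of X, are
equal. (The published statement has Y of finite type over S; only local finite type is used. X is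
not assumed reduced.) -/
theorem result
    (S X Y : Scheme.{u}) [X.Over S] [Y.Over S] [IrreducibleSpace X]
    [LocallyOfFiniteType (Y ↘ S)] (f g : X ⤏ Y) [f.IsOver S] [g.IsOver S]
    (h : f.fromFunctionField = g.fromFunctionField) : f = g := by
  obtain ⟨f, hf, rfl⟩ := f.exists_partialMap_over S
  obtain ⟨g, hg, rfl⟩ := g.exists_partialMap_over S
  have hd : Dense ((f.domain ⊓ g.domain : X.Opens) : Set X) :=
    f.dense_domain.inter_of_isOpen_left g.dense_domain f.domain.2
  have hη : genericPoint X ∈ f.domain ⊓ g.domain :=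
    (genericPoint_specializes _).mem_open (f.domain ⊓ g.domain).2 hd.nonempty.choose_spec
  rw [Scheme.RationalMap.fromFunctionField_toRationalMap, Scheme.RationalMap.fromFunctionField_toRationalMap,
    ← f.fromFunctionField_restrict hd inf_le_left, ← g.fromFunctionField_restrict hd inf_le_right] at h
  set a := (f.restrict _ hd inf_le_left).hom with ha
  set b := (g.restrict _ hd inf_le_right).hom with hb
  have hab : a ≫ (Y ↘ S) = b ≫ (Y ↘ S) := by
    have e1 := Scheme.PartialMap.isOver_iff.1 (inferInstance : (f.restrict _ hd inf_le_left).IsOver S)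
    have e2 := Scheme.PartialMap.isOver_iff.1 (inferInstance : (g.restrict _ hd inf_le_right).IsOver S)
    exact e1.trans e2.symm
  have hst : (f.domain ⊓ g.domain).toScheme.fromSpecStalk ⟨genericPoint X, hη⟩ ≫ a =
      (f.domain ⊓ g.domain).toScheme.fromSpecStalk ⟨genericPoint X, hη⟩ ≫ b := by
    change (f.domain ⊓ g.domain).fromSpecStalkOfMem (genericPoint X) hη ≫ a =
      (f.domain ⊓ g.domain).fromSpecStalkOfMem (genericPoint X) hη ≫ b at h
    simpa only [Scheme.Opens.fromSpecStalkOfMem, Spec.map_inv, Category.assoc, IsIso.eq_inv_comp,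
      IsIso.hom_inv_id_assoc] using h
  obtain ⟨(U : (f.domain ⊓ g.domain).toScheme.Opens), hxU, e⟩ := Groth.Agent.RatMapLib.exists_eq_of_fromSpecStalk_comp_eq (Y ↘ S) a b hab hst
  refine Scheme.PartialMap.toRationalMap_eq_iff.2 ⟨(f.domain ⊓ g.domain).ι ''ᵁ U,
    ((f.domain ⊓ g.domain).ι ''ᵁ U).2.dense ⟨_, ⟨_, hxU, rfl⟩⟩,
    ((Set.image_subset_range _ _).trans_eq (Subtype.range_val)).trans inf_le_left,
    ((Set.image_subset_range _ _).trans_eq (Subtype.range_val)).trans inf_le_right, ?_⟩
  simp only [Scheme.PartialMap.restrict_hom]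
  change (X.homOfLE _ : (((f.domain ⊓ g.domain).ι ''ᵁ U : X.Opens) : Scheme) ⟶ f.domain) ≫ f.hom = (X.homOfLE _) ≫ g.hom
  rw [← cancel_epi ((f.domain ⊓ g.domain).ι.isoImage U).hom, ← Category.assoc, ← Category.assoc]
  have hι : ∀ (V : X.Opens) (hV : (f.domain ⊓ g.domain).ι ''ᵁ U ≤ V) (hV' : f.domain ⊓ g.domain ≤ V),
      ((f.domain ⊓ g.domain).ι.isoImage U).hom ≫ X.homOfLE hV = U.ι ≫ X.homOfLE hV' := by
    intro V hV hV'
    rw [← cancel_mono V.ι, Category.assoc, Category.assoc, Scheme.homOfLE_ι, Scheme.homOfLE_ι,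
      Scheme.Hom.isoImage_hom_ι]
  rw [hι f.domain _ inf_le_left, hι g.domain _ inf_le_right, Category.assoc, Category.assoc]
  simp only [ha, hb, Scheme.PartialMap.restrict_hom] at e
  exact e

end Groth.Agent.S4343
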