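import Groth.Statements.S4344
import Mathlib.AlgebraicGeometry.Gluing

set_option autoImplicit false
universe u
open RatMapD

namespace Groth.Agent.S4344

open AlgebraicGeometry in
open CategoryTheory in
/-- Let X be a reduced S-scheme, Y an S-scheme separated over S and f an S-rational map from X to Y.
There is a representative g of f which is an S-morphism and of which every S-morphism representing f
is a restriction; in particular g is the unique S-morphism of the class of f defined on the largest
open where some S-representative is defined. (The published statement speaks of the domain of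
definition among all representatives; over a base that is not separated that domain can be larger
than the one on which an S-representative exists, and this row takes the latter.) -/
theorem result
    (S X Y : Scheme.{u}) [X.Over S] [Y.Over S] [IsReduced X] [IsSeparated (Y ↘ S)]
    (f : X ⤏ Y) [f.IsOver S] :
    ∃ g : X.PartialMap Y, g.IsOver S ∧ g.toRationalMap = f ∧
      ∀ h : X.PartialMap Y, h.IsOver S → h.toRationalMap = f →
        ∃ hle : h.domain ≤ g.domain, h = g.restrict h.domain h.dense_domain hle := by
  let I := {h : X.PartialMap Y // h.IsOver S ∧ h.toRationalMap = f}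
  obtain ⟨g₀, hg₀, hg₀f⟩ := f.exists_partialMap_over S
  let i₀ : I := ⟨g₀, hg₀, hg₀f⟩
  let W : X.Opens := ⨆ i : I, i.1.domain
  let 𝒰 := Scheme.Opens.iSupOpenCover fun i : I => i.1.domain
  let hom : (W : Scheme) ⟶ Y := 𝒰.glueMorphisms (fun i => i.1.hom) (fun i j => by
    have hi := i.2.1
    have hj := j.2.1
    refine (cancel_epi (isPullback_opens_inf_le (le_iSup (fun i : I => i.1.domain) i) (le_iSup (fun i : I => i.1.domain) j)).isoPullback.hom).mp ?_
    simp only [𝒰, Scheme.Opens.iSupOpenCover, IsPullback.isoPullback_hom_fst_assoc,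
      IsPullback.isoPullback_hom_snd_assoc]
    exact (Scheme.PartialMap.equiv_iff_of_isSeparated (S := S)).mp
      (Scheme.PartialMap.toRationalMap_eq_iff.1 (i.2.2.trans j.2.2.symm)))
  let g : X.PartialMap Y := ⟨W, g₀.dense_domain.mono (le_iSup (fun i : I => i.1.domain) i₀), hom⟩
  have hres : ∀ i : I, X.homOfLE (le_iSup (fun i : I => i.1.domain) i) ≫ hom = i.1.hom := fun i =>
    𝒰.ι_glueMorphisms _ _ i
  have hrestr : ∀ i : I, i.1 = g.restrict i.1.domain i.1.dense_domain (le_iSup (fun i : I => i.1.domain) i) := fun i =>
    Scheme.PartialMap.ext _ _ rfl (by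
      have e : ∀ (U : X.Opens) (h : U = U), (X.isoOfEq h).hom = 𝟙 _ := fun U h => by
        rw [← cancel_mono U.ι]; simp
      refine (hres i).symm.trans ?_
      exact ((congrArg (· ≫ _) (e i.1.domain rfl)).trans (Category.id_comp _)).symm)
  refine ⟨g, Scheme.PartialMap.isOver_iff.2 (𝒰.hom_ext _ _ fun i => ?_), ?_, fun h hh hhf => ⟨_, hrestr ⟨h, hh, hhf⟩⟩⟩
  · have e := Scheme.PartialMap.isOver_iff.1 i.2.1
    change X.homOfLE (le_iSup (fun i : I => i.1.domain) i) ≫ hom ≫ (Y ↘ S) =
      X.homOfLE (le_iSup (fun i : I => i.1.domain) i) ≫ W.ι ≫ (X ↘ S)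
    rw [← Category.assoc, hres i, ← Category.assoc, Scheme.homOfLE_ι]
    exact e
  · refine Eq.trans ?_ hg₀f
    refine Eq.trans ?_ (congrArg Scheme.PartialMap.toRationalMap (hrestr i₀)).symm
    exact (g.restrict_toRationalMap _ _ _).symm

end Groth.Agent.S4344
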