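import Groth.Statements.S4345


set_option autoImplicit false
universe u
open SchLoc

namespace Groth.Agent.S4345

theorem tr_mono {R : Type u} [Field R] {A : Subring R} {Q' Q : LocalSubring R}
    (h : Q' ≤ Q) (hA' : A ≤ Q'.toSubring) (hA : A ≤ Q.toSubring) :
    (IsLocalRing.maximalIdeal Q.toSubring).comap (Subring.inclusion hA) =
      (IsLocalRing.maximalIdeal Q'.toSubring).comap (Subring.inclusion hA') := by
  obtain ⟨hle, hloc⟩ := h
  have h2 := ((IsLocalRing.local_hom_TFAE (Subring.inclusion hle)).out 0 4).mp hloc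
  rw [← h2]; rfl

theorem tr_self {R : Type u} [Field R] (A : Subring R) (P : Ideal A) [P.IsPrime] :
    (IsLocalRing.maximalIdeal (LocalSubring.ofPrime A P).toSubring).comap
      (Subring.inclusion (LocalSubring.le_ofPrime A P)) = P :=
  IsLocalization.AtPrime.comap_maximalIdeal (LocalSubring.ofPrime A P).toSubring P

theorem mem_ofPrime {R : Type u} [Field R] (A : Subring R) (P : Ideal A) [P.IsPrime] (x : R)
    (hx : x ∈ (LocalSubring.ofPrime A P).toSubring) : ∃ a s : A, s ∉ P ∧ x = a.1 / s.1 := by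
  obtain ⟨⟨a, s⟩, h⟩ := IsLocalization.surj P.primeCompl (⟨x, hx⟩ : (LocalSubring.ofPrime A P).toSubring)
  refine ⟨a, s.1, s.2, ?_⟩
  have h' : x * s.1.1 = a.1 := congrArg Subtype.val h
  have hs : (s.1.1 : R) ≠ 0 := fun e => s.2 (by rw [show s.1 = 0 from Subtype.ext e]; exact P.zero_mem)
  rw [eq_div_iff hs]; exact h'

theorem ofPrime_le' {R : Type u} [Field R] {A : Subring R} (P : Ideal A) [P.IsPrime]
    {Q : LocalSubring R} (hA : A ≤ Q.toSubring)
    (hP : (IsLocalRing.maximalIdeal Q.toSubring).comap (Subring.inclusion hA) = P) :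
    LocalSubring.ofPrime A P ≤ Q := by
  have hu : ∀ s : A, s ∉ P → IsUnit (Subring.inclusion hA s) := fun s hs => by
    by_contra h
    exact hs (hP ▸ (Ideal.mem_comap.mpr ((IsLocalRing.mem_maximalIdeal _).mpr h)))
  have hle : (LocalSubring.ofPrime A P).toSubring ≤ Q.toSubring := by
    intro x hx
    obtain ⟨a, s, hs, rfl⟩ := mem_ofPrime A P x hx
    obtain ⟨u, hu⟩ := hu s hs
    have h1 : u⁻¹.1.1 = (s.1 : R)⁻¹ := by
      refine eq_inv_of_mul_eq_one_left ?_
      have := congrArg Subtype.val u.inv_mul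
      rw [hu] at this; exact this
    rw [div_eq_mul_inv, ← h1]
    exact Q.toSubring.mul_mem (hA a.2) u⁻¹.1.2
  refine ⟨hle, ⟨fun x hx => ?_⟩⟩
  obtain ⟨⟨a, s⟩, h⟩ := IsLocalization.surj P.primeCompl x
  by_contra hn
  have ha : a ∈ P := by
    by_contra ha
    have h1 : IsUnit (x * algebraMap A _ s.1) := h ▸ IsLocalization.map_units _ (⟨a, ha⟩ : P.primeCompl)
    exact hn (IsUnit.mul_iff.mp h1).1
  have h2 : Subring.inclusion hle x * Subring.inclusion hA s.1 = Subring.inclusion hA a :=
    by
    have h0 := congrArg Subtype.val h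
    exact Subtype.ext h0
  have h3 : IsUnit (Subring.inclusion hA a) := h2 ▸ hx.mul (hu s.1 s.2)
  rw [← hP] at ha
  exact (IsLocalRing.mem_maximalIdeal _).mp ha h3

theorem ofPrime_congr {R : Type u} [Field R] {A : Subring R} {P Q : Ideal A} [hP : P.IsPrime]
    [hQ : Q.IsPrime] (h : P = Q) : LocalSubring.ofPrime A P = LocalSubring.ofPrime A Q := by
  subst h; rfl

/-- Let A and B be subrings of a field R, C the subring generated by A and B, and for a subring E let
L(E) be the set of local subrings E_p of R, p a prime ideal of E. The following are equivalent: (i)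
for every local subring Q of R containing A and B, the localizations of A and of B at the traces of
the maximal ideal of Q coincide; (ii) for every prime ideal r of C the localizations of A and B at
the traces of r coincide; (iii) two members of L(A) and L(B) dominated by a common local subring of
R are equal; (iv) the intersection of L(A) and L(B) is L(C). -/
theorem result
    (R : Type u) [Field R] (A B : Subring R) :
    [ ∀ (Q : LocalSubring R) (hA : A ≤ Q.toSubring) (hB : B ≤ Q.toSubring),
        LocalSubring.ofPrime A ((IsLocalRing.maximalIdeal Q.toSubring).comap (Subring.inclusion hA)) =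
          LocalSubring.ofPrime B ((IsLocalRing.maximalIdeal Q.toSubring).comap (Subring.inclusion hB)),
      ∀ r : PrimeSpectrum ↥(A ⊔ B),
        LocalSubring.ofPrime A (r.asIdeal.comap (Subring.inclusion (le_sup_left : A ≤ A ⊔ B))) =
          LocalSubring.ofPrime B (r.asIdeal.comap (Subring.inclusion (le_sup_right : B ≤ A ⊔ B))),
      ∀ (p : PrimeSpectrum A) (q : PrimeSpectrum B),
        (∃ Q : LocalSubring R, LocalSubring.ofPrime A p.asIdeal ≤ Q ∧ LocalSubring.ofPrime B q.asIdeal ≤ Q) →
          LocalSubring.ofPrime A p.asIdeal = LocalSubring.ofPrime B q.asIdeal,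
      Set.range (fun p : PrimeSpectrum A ↦ LocalSubring.ofPrime A p.asIdeal) ∩
          Set.range (fun q : PrimeSpectrum B ↦ LocalSubring.ofPrime B q.asIdeal) =
        Set.range (fun r : PrimeSpectrum ↥(A ⊔ B) ↦ LocalSubring.ofPrime (A ⊔ B) r.asIdeal) ].TFAE := by
  have hAC : A ≤ A ⊔ B := le_sup_left
  have hBC : B ≤ A ⊔ B := le_sup_right
  tfae_have 1 → 2 := by
    intro h r
    have hA := hAC.trans (LocalSubring.le_ofPrime (A ⊔ B) r.asIdeal)
    have hB := hBC.trans (LocalSubring.le_ofPrime (A ⊔ B) r.asIdeal)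
    have := h _ hA hB
    convert this using 1
    · refine ofPrime_congr ?_
      conv_lhs => rw [← tr_self (A ⊔ B) r.asIdeal]
      rfl
    · refine ofPrime_congr ?_
      conv_lhs => rw [← tr_self (A ⊔ B) r.asIdeal]
      rfl
  tfae_have 2 → 3 := by
    rintro h p q ⟨Q, h1, h2⟩
    have hA : A ≤ Q.toSubring := (LocalSubring.le_ofPrime A p.asIdeal).trans h1.1
    have hB : B ≤ Q.toSubring := (LocalSubring.le_ofPrime B q.asIdeal).trans h2.1
    have hC : A ⊔ B ≤ Q.toSubring := sup_le hA hB
    have := h ⟨(IsLocalRing.maximalIdeal Q.toSubring).comap (Subring.inclusion hC), inferInstance⟩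
    convert this using 1
    · exact ofPrime_congr (by rw [← tr_self A p.asIdeal, ← tr_mono h1 _ hA]; rfl)
    · exact ofPrime_congr (by rw [← tr_self B q.asIdeal, ← tr_mono h2 _ hB]; rfl)
  tfae_have 3 → 4 := by
    intro h
    apply Set.Subset.antisymm
    · rintro E ⟨⟨p, hp⟩, ⟨q, hq⟩⟩
      have hA : A ≤ E.toSubring := hp ▸ LocalSubring.le_ofPrime A p.asIdeal
      have hB : B ≤ E.toSubring := hq ▸ LocalSubring.le_ofPrime B q.asIdeal
      have hC : A ⊔ B ≤ E.toSubring := sup_le hA hB
      refine ⟨⟨(IsLocalRing.maximalIdeal E.toSubring).comap (Subring.inclusion hC), inferInstance⟩, ?_⟩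
      refine le_antisymm (ofPrime_le' _ hC rfl) ?_
      have hE : p.asIdeal = (IsLocalRing.maximalIdeal E.toSubring).comap (Subring.inclusion hA) := by
        rw [tr_mono (le_of_eq hp) (LocalSubring.le_ofPrime A p.asIdeal) hA, tr_self]
      conv_lhs => rw [← hp]
      refine ofPrime_le' p.asIdeal (hAC.trans (LocalSubring.le_ofPrime (A ⊔ B) _)) ?_
      rw [hE, show Subring.inclusion hA = (Subring.inclusion hC).comp (Subring.inclusion hAC) from rfl,
        ← Ideal.comap_comap]
      conv_rhs => rw [← tr_self (A ⊔ B) ((IsLocalRing.maximalIdeal E.toSubring).comap (Subring.inclusion hC))]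
      rfl
    · rintro _ ⟨r, rfl⟩
      set Q := LocalSubring.ofPrime (A ⊔ B) r.asIdeal with hQ
      have hA : A ≤ Q.toSubring := hAC.trans (LocalSubring.le_ofPrime _ _)
      have hB : B ≤ Q.toSubring := hBC.trans (LocalSubring.le_ofPrime _ _)
      let p : PrimeSpectrum A := ⟨(IsLocalRing.maximalIdeal Q.toSubring).comap (Subring.inclusion hA), inferInstance⟩
      let q : PrimeSpectrum B := ⟨(IsLocalRing.maximalIdeal Q.toSubring).comap (Subring.inclusion hB), inferInstance⟩
      have h1 := ofPrime_le' p.asIdeal hA rfl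
      have h2 := ofPrime_le' q.asIdeal hB rfl
      have he := h p q ⟨Q, h1, h2⟩
      have hC : A ⊔ B ≤ (LocalSubring.ofPrime A p.asIdeal).toSubring :=
        sup_le (LocalSubring.le_ofPrime _ _) (he ▸ LocalSubring.le_ofPrime _ _)
      have h3 : Q ≤ LocalSubring.ofPrime A p.asIdeal := by
        refine ofPrime_le' r.asIdeal hC ?_
        rw [← tr_mono h1 hC (LocalSubring.le_ofPrime _ _), tr_self]
      exact ⟨⟨p, le_antisymm h1 h3⟩, ⟨q, he.symm.trans (le_antisymm h1 h3)⟩⟩
  tfae_have 4 → 1 := by
    intro h Q hA hB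
    have hC : A ⊔ B ≤ Q.toSubring := sup_le hA hB
    set r := (IsLocalRing.maximalIdeal Q.toSubring).comap (Subring.inclusion hC) with hr
    have hm : LocalSubring.ofPrime (A ⊔ B) r ∈ Set.range (fun r : PrimeSpectrum ↥(A ⊔ B) ↦
        LocalSubring.ofPrime (A ⊔ B) r.asIdeal) := ⟨⟨r, inferInstance⟩, rfl⟩
    rw [← h] at hm
    obtain ⟨⟨p, hp⟩, ⟨q, hq⟩⟩ := hm
    have hle : LocalSubring.ofPrime (A ⊔ B) r ≤ Q := ofPrime_le' r hC rfl
    have h1 : LocalSubring.ofPrime A p.asIdeal ≤ Q := hp.le.trans hle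
    have h2 : LocalSubring.ofPrime B q.asIdeal ≤ Q := hq.le.trans hle
    rw [ofPrime_congr (by rw [tr_mono h1 (LocalSubring.le_ofPrime _ _) hA, tr_self] :
        (IsLocalRing.maximalIdeal Q.toSubring).comap (Subring.inclusion hA) = p.asIdeal),
      ofPrime_congr (by rw [tr_mono h2 (LocalSubring.le_ofPrime _ _) hB, tr_self] :
        (IsLocalRing.maximalIdeal Q.toSubring).comap (Subring.inclusion hB) = q.asIdeal)]
    exact hp.trans hq.symm
  tfae_finish

end Groth.Agent.S4345
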