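import Groth.Statements.S4348
import Groth.Agent.QCohBase.Qcqs
import Groth.Agent.DCohBridge.AffPush
import Groth.Agent.QCohPull.Affine

set_option backward.isDefEq.respectTransparency.types false
-- import your own Groth.Agent.* helpers here

set_option autoImplicit false
universe u
open QCohSup

namespace Groth.Agent.S4348

open AlgebraicGeometry CategoryTheory CategoryTheory.Limits in
lemma isQCoh_biprod {X : Scheme.{u}} {A B : X.Modules} (hA : Coh.IsQCoh A) (hB : Coh.IsQCoh B) :
    Coh.IsQCoh (A ⊞ B) := by
  have hc : Coh.IsQCoh (colimit (Discrete.functor fun b : ULift.{u} Bool => if b.down then A else B)) :=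
    Groth.Agent.QCohBase.isQuasicoherent_colimit _ fun j => by
      rcases j with ⟨⟨_ | _⟩⟩
      exacts [hB, hA]
  let Fn : ULift.{u} Bool → X.Modules := fun b => if b.down then A else B
  have hbic : IsColimit (Cofan.mk (A ⊞ B) (fun b : ULift.{u} Bool =>
      match b with
      | ⟨true⟩ => (biprod.inl : A ⟶ A ⊞ B)
      | ⟨false⟩ => (biprod.inr : B ⟶ A ⊞ B)) : Cofan Fn) :=
    mkCofanColimit _ (fun c => biprod.desc (c.inj ⟨true⟩) (c.inj ⟨false⟩))
      (fun c b => by rcases b with ⟨_ | _⟩ <;> simp [Cofan.inj])
      (fun c m hm => by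
        apply biprod.hom_ext'
        · exact (hm ⟨true⟩).trans (biprod.inl_desc _ _).symm
        · exact (hm ⟨false⟩).trans (biprod.inr_desc _ _).symm)
  exact Groth.Agent.TensorMod.isQCoh_of_iso ((colimit.isColimit _).coconePointUniqueUpToIso hbic) hc

open AlgebraicGeometry CategoryTheory CategoryTheory.Limits in
lemma isQCoh_pullback {X : Scheme.{u}} {A B C : X.Modules} (a : A ⟶ C) (b : B ⟶ C) (hA : Coh.IsQCoh A)
    (hB : Coh.IsQCoh B) (hC : Coh.IsQCoh C) (hAB : Coh.IsQCoh (A ⊞ B)) : Coh.IsQCoh (pullback a b) := by
  let d : A ⊞ B ⟶ C := biprod.desc a (-b)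
  let e : pullback a b ≅ kernel d :=
    { hom := kernel.lift d (biprod.lift (pullback.fst a b) (pullback.snd a b)) (by
        simp [d, biprod.lift_desc, pullback.condition])
      inv := pullback.lift (kernel.ι d ≫ biprod.fst) (kernel.ι d ≫ biprod.snd) (by
        have h : kernel.ι d ≫ (biprod.fst ≫ a - biprod.snd ≫ b) = 0 := by
          rw [show biprod.fst ≫ a - biprod.snd ≫ b = d by apply biprod.hom_ext' <;> simp [d]]
          exact kernel.condition d
        rw [Preadditive.comp_sub, sub_eq_zero] at h
        simpa only [Category.assoc] using h)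
      hom_inv_id := by
        apply pullback.hom_ext
        · erw [Category.assoc, pullback.lift_fst, kernel.lift_ι_assoc, biprod.lift_fst, Category.id_comp]
        · erw [Category.assoc, pullback.lift_snd, kernel.lift_ι_assoc, biprod.lift_snd, Category.id_comp]
      inv_hom_id := by
        rw [← cancel_mono (kernel.ι d)]
        apply biprod.hom_ext
        · erw [Category.assoc, Category.assoc, kernel.lift_ι_assoc, biprod.lift_fst, pullback.lift_fst, Category.id_comp]
        · erw [Category.assoc, Category.assoc, kernel.lift_ι_assoc, biprod.lift_snd, pullback.lift_snd, Category.id_comp] }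
  exact Groth.Agent.TensorMod.isQCoh_of_iso e.symm (Groth.Agent.DCohBridge.isQCoh_kernel d hAB hC)

open AlgebraicGeometry in
open CategoryTheory in
open CategoryTheory.Limits in
/-- Let X be a scheme and U an open subscheme such that the inclusion j : U -> X is quasi-compact. For a
quasi-coherent O_X-module F and a quasi-coherent submodule G of F|U, the canonical extension of G to
X (the preimage of j_*(G) under F -> j_*(F|U), here the fibre product in the category of
O_X-modules) is quasi-coherent. -/
theorem result
    {X : Scheme.{u}} (U : X.Opens) [QuasiCompact U.ι] (F : X.Modules) [Coh.IsQCoh F]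
    (G : (U : Scheme.{u}).Modules) [Coh.IsQCoh G]
    (i : G ⟶ (Scheme.Modules.pullback U.ι).obj F) [Mono i] :
    Coh.IsQCoh (pullback ((Scheme.Modules.pushforward U.ι).map i)
      ((Scheme.Modules.pullbackPushforwardAdjunction U.ι).unit.app F)) := by
  haveI : Coh.IsQCoh ((Scheme.Modules.pullback U.ι).obj F) :=
    Groth.Agent.QCohPull.isQuasicoherent_pullback U.ι F
  have hA : Coh.IsQCoh ((Scheme.Modules.pushforward U.ι).obj G) :=
    Groth.Agent.QCohBase.isQuasicoherent_pushforward G U.ι
  have hC : Coh.IsQCoh ((Scheme.Modules.pushforward U.ι).obj ((Scheme.Modules.pullback U.ι).obj F)) :=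
    Groth.Agent.QCohBase.isQuasicoherent_pushforward _ U.ι
  have hB : Coh.IsQCoh F := inferInstance
  refine isQCoh_pullback _ _ hA hB hC ?_
  set A := (Scheme.Modules.pushforward U.ι).obj G
  exact isQCoh_biprod hA hB

end Groth.Agent.S4348
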