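-- statement TorSh.GrothFrozen.S4350 (Groth/Statements/S4350.lean; the theorem TorSh.exists_mono_into_rationalFunctions_of_rank_one);
import Groth.Statements.S4350
import Groth.Agent.QCohBase.Support
import Groth.Agent.AssPts.Basic
import Groth.Agent.GenLocus.PullFrame
import Mathlib.AlgebraicGeometry.FunctionField

set_option autoImplicit false
universe u
open TorSh

namespace Groth.Agent.S4350

open AlgebraicGeometry in
open CategoryTheory in
/-- Direct assertion (the sheaf of rational functions of the integral scheme X being the direct image of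
the structure sheaf of Spec of the function field under its canonical morphism to X). On an integral
scheme, a quasi-coherent torsion-free O_X-module of rank 1, i.e. whose stalk at the generic point is
one-dimensional over the function field (for instance an invertible module), is isomorphic to a
sub-O_X-module of the sheaf of rational functions. (The published statement adds a converse, which
for the zero submodule does not hold as stated; it is not included here.) -/
theorem result
    (X : Scheme.{u}) [IsIntegral X] (F : X.Modules) [Coh.IsQCoh F] (hF : TorSh.IsTorsionFree F)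
    (h1 : Module.finrank (X.presheaf.stalk (genericPoint X)) (F.presheaf.stalk (genericPoint X)) = 1) :
    ∃ i : F ⟶ (Scheme.Modules.pushforward (X.fromSpecStalk (genericPoint X))).obj
        (Coh.structureModule (Spec (X.presheaf.stalk (genericPoint X)))), Mono i := by
  classical
  haveI : F.IsQuasicoherent := ‹Coh.IsQCoh F›
  letI : Field (X.presheaf.stalk (genericPoint X)) := (inferInstance : Field X.functionField)
  haveI : Module.Finite (X.presheaf.stalk (genericPoint X)) (F.presheaf.stalk (genericPoint X)) :=
    Module.finite_of_finrank_eq_succ h1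
  let e : F.presheaf.stalk (genericPoint X) ≃ₗ[X.presheaf.stalk (genericPoint X)] X.presheaf.stalk (genericPoint X) :=
    LinearEquiv.ofFinrankEq _ _ (h1.trans (Module.finrank_self _).symm)
  let K := X.presheaf.stalk (genericPoint X)
  let j := X.fromSpecStalk (genericPoint X)
  let ι : ∀ U : X.Opens, K ⟶ Γ(Spec K, j ⁻¹ᵁ U) := fun U =>
    (Scheme.ΓSpecIso K).inv ≫ (Spec K).presheaf.map (homOfLE le_top).op
  let φ : ∀ U : X.Opens, Γ(F, U) →+ Γ((Scheme.Modules.pushforward j).obj (Coh.structureModule (Spec K)), U) := fun U =>
    if h : genericPoint X ∈ U then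
      AddMonoidHom.mk' (fun s => (ι U) (e (F.presheaf.germ U (genericPoint X) h s))) (fun a b => by
        rw [map_add, map_add, map_add]; rfl)
    else 0
  have hφ : ∀ (U : X.Opens) (h : genericPoint X ∈ U) (s : Γ(F, U)), φ U s = (ι U) (e (F.presheaf.germ U (genericPoint X) h s)) := by
    intro U h s; simp only [φ, dif_pos h]; rfl
  have hz : ∀ (U : X.Opens), genericPoint X ∉ U → ∀ a b : Γ((Scheme.Modules.pushforward j).obj (Coh.structureModule (Spec K)), U), a = b := by
    intro U h a b
    refine TopCat.Presheaf.section_ext ⟨(Coh.structureModule (Spec K)).presheaf, (Coh.structureModule (Spec K)).isSheaf⟩ (j ⁻¹ᵁ U) a b fun p hp => ?_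
    exact absurd ((genericPoint_spec X).mem_open_set_iff U.isOpen |>.2 ⟨_, trivial, hp⟩) h
  let i : F ⟶ (Scheme.Modules.pushforward j).obj (Coh.structureModule (Spec K)) :=
    Groth.Agent.GenLocus.modHomMk φ
      (fun V W hWV m => by
        by_cases hW : genericPoint X ∈ W
        · rw [hφ V (hWV hW), hφ W hW, Groth.Agent.AssPts.germ_mres]
          change (Spec K).presheaf.map (homOfLE _).op ((Spec K).presheaf.map (homOfLE _).op _) = (Spec K).presheaf.map (homOfLE _).op _
          rw [← CommRingCat.comp_apply, ← Functor.map_comp]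
          rfl
        · exact hz W hW _ _)
      (fun V r m => by
        by_cases hV : genericPoint X ∈ V
        · rw [hφ V hV, hφ V hV, Groth.Agent.AssPts.germ_smul', map_smul, smul_eq_mul, map_mul]
          change _ = (X.fromSpecStalk (genericPoint X)).app V r * _
          rw [Scheme.fromSpecStalk_app hV]
          rfl
        · exact hz V hV _ _)
  refine ⟨i, ?_⟩
  haveI : Mono ((Scheme.Modules.toPresheaf X).map i) := by
    refine @NatTrans.mono_of_mono_app _ _ _ _ _ _ _ fun U => ?_
    refine ConcreteCategory.mono_of_injective _ ((injective_iff_map_eq_zero _).2 fun s hs => ?_)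
    change Γ(F, U.unop) at s
    refine TopCat.Presheaf.section_ext ⟨F.presheaf, F.isSheaf⟩ U.unop s 0 fun x hx => ?_
    rw [map_zero]
    have hη : genericPoint X ∈ U.unop := (genericPoint_spec X).mem_open_set_iff U.unop.isOpen |>.2 ⟨x, trivial, hx⟩
    have hs' : (ι U.unop) (e (F.presheaf.germ U.unop (genericPoint X) hη s)) = 0 := (hφ U.unop hη s).symm.trans hs
    haveI : Nontrivial Γ(Spec K, j ⁻¹ᵁ U.unop) := by
      haveI : Nonempty (j ⁻¹ᵁ U.unop) := ⟨⟨IsLocalRing.closedPoint K, by
        show j.base (IsLocalRing.closedPoint K) ∈ U.unop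
        rw [Scheme.fromSpecStalk_closedPoint]; exact hη⟩⟩
      infer_instance
    have hιinj : Function.Injective (ι U.unop) := (ι U.unop).hom.injective
    have h0 : F.presheaf.germ U.unop (genericPoint X) hη s = 0 :=
      e.injective ((hιinj (hs'.trans (map_zero _).symm)).trans (map_zero e).symm)
    obtain ⟨W, hW, k₁, k₂, hWe⟩ := TopCat.Presheaf.germ_eq F.presheaf (genericPoint X) hη hη s 0 (h0.trans (map_zero _).symm)
    obtain ⟨V, hV, hxV, hVU⟩ := TopologicalSpace.Opens.isBasis_iff_nbhd.1 X.isBasis_affineOpens hx
    obtain ⟨g, hgW, hgη⟩ := hV.exists_basicOpen_le (V := W) ⟨genericPoint X, hW⟩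
      ((genericPoint_spec X).mem_open_set_iff V.isOpen |>.2 ⟨x, trivial, hxV⟩)
    have hW0 : Groth.Agent.QCohBase.mres F k₁.le s = 0 := hWe.trans (map_zero _)
    obtain ⟨n, hn⟩ := Groth.Agent.QCohBase.exists_pow_smul_eq_zero F hV g rfl (X.basicOpen_le g)
      (Groth.Agent.QCohBase.mres F hVU s) (by
        rw [Groth.Agent.QCohBase.mres_mres, ← Groth.Agent.QCohBase.mres_mres F k₁.le hgW s, hW0, map_zero])
    have hgerm := congrArg (F.presheaf.germ V x hxV) hn
    rw [Groth.Agent.AssPts.germ_smul', Groth.Agent.AssPts.germ_mres, map_zero, map_pow] at hgerm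
    haveI := hF x
    refine (smul_eq_zero.1 hgerm).resolve_left (pow_ne_zero _ fun h => ?_)
    have hg0 : g = 0 := germ_injective_of_isIntegral X x hxV (h.trans (map_zero _).symm)
    rw [hg0] at hgη
    simp at hgη
  exact (Scheme.Modules.toPresheaf X).mono_of_mono_map this

end Groth.Agent.S4350
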