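import Groth.Statements.S4359
import Groth.Agent.NoethTop.Basic
import Mathlib.AlgebraicGeometry.Noetherian


set_option autoImplicit false
universe u
open FinCond

namespace Groth.Agent.S4359

open AlgebraicGeometry in
open CategoryTheory in
/-- Let S be a locally Noetherian scheme, p : X -> S a morphism of finite type (locally of finite type
and quasi-compact) and q : Y -> S any morphism. Then every morphism f : X -> Y with f followed by q
equal to p is of finite type, that is, locally of finite type and quasi-compact. -/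
theorem result
    {X Y S : Scheme.{u}} [IsLocallyNoetherian S] (p : X ⟶ S) (q : Y ⟶ S)
    [LocallyOfFiniteType p] [QuasiCompact p] (f : X ⟶ Y) (hf : f ≫ q = p) :
    LocallyOfFiniteType f ∧ QuasiCompact f := by
  subst hf
  have : LocallyOfFiniteType f := locallyOfFiniteType_of_comp f q
  refine ⟨this, ?_⟩
  have : IsLocallyNoetherian X := LocallyOfFiniteType.isLocallyNoetherian (f ≫ q)
  refine (quasiCompact_iff _).mpr fun U hU hU' ↦ ?_
  obtain ⟨Ws, hWs⟩ : ∃ W : S.Opens, IsCompact (W : Set S) ∧ q.base '' U ⊆ W := by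
    have hc : IsCompact (q.base '' U) := hU'.image q.continuous
    obtain ⟨t, ht⟩ := hc.elim_finite_subcover (fun V : S.affineOpens ↦ (V.1 : Set S))
      (fun V ↦ V.1.isOpen) (fun z _ ↦ by
        obtain ⟨_, ⟨V, hV, rfl⟩, hzV, -⟩ :=
          S.isBasis_affineOpens.exists_subset_of_mem_open (Set.mem_univ z) isOpen_univ
        exact Set.mem_iUnion.mpr ⟨⟨V, hV⟩, hzV⟩)
    refine ⟨⟨⋃ i ∈ t, (i.1 : Set S), isOpen_biUnion fun i _ ↦ i.1.isOpen⟩, ?_, ht⟩
    exact t.finite_toSet.isCompact_biUnion fun i _ ↦ i.2.isCompact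
  refine Groth.Agent.NoethTop.isCompact_subset (fun x ↦ ?_)
    ((f ≫ q).isCompact_preimage hWs.1) fun x hx ↦ hWs.2 ⟨f.base x, hx, rfl⟩
  obtain ⟨_, ⟨V, hV, rfl⟩, hxV, -⟩ :=
    X.isBasis_affineOpens.exists_subset_of_mem_open (Set.mem_univ x) isOpen_univ
  have : IsNoetherianRing Γ(X, V) := IsLocallyNoetherian.component_noetherian ⟨V, hV⟩
  exact ⟨V, V.isOpen, hxV, noetherianSpace_of_isAffineOpen V hV⟩

end Groth.Agent.S4359
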