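import Groth.Statements.S4360
import Groth.Agent.NoethTop.Basic


set_option autoImplicit false
universe u
open FinCond

namespace Groth.Agent.S4360

open AlgebraicGeometry in
open CategoryTheory in
/-- Let f : X -> Y be an immersion and suppose that the underlying space of Y is locally Noetherian,
i.e. every point of Y has an open neighbourhood which is a Noetherian topological space. Then f is
quasi-compact (and hence of finite type, an immersion being locally of finite type). -/
theorem result
    {X Y : Scheme.{u}} (f : X ⟶ Y) [IsImmersion f]
    (hY : ∀ y : Y, ∃ U : Y.Opens, y ∈ U ∧ TopologicalSpace.NoetherianSpace U) :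
    QuasiCompact f := by
  refine (quasiCompact_iff _).mpr fun U hU hU' ↦ ?_
  have := Groth.Agent.NoethTop.noetherianSpace_of_isCompact (fun y ↦ by
    obtain ⟨V, h1, h2⟩ := hY y
    exact ⟨V, V.isOpen, h1, h2⟩) hU'
  let r : ↥(f.base ⁻¹' U) → U := fun x ↦ ⟨f.base x.1, x.2⟩
  have hr : Topology.IsInducing r := by
    refine Topology.IsInducing.of_comp (Y := U) (Z := Y) (f := r) (g := Subtype.val) ?_ continuous_subtype_val ?_
    · exact (f.continuous.comp continuous_subtype_val).subtype_mk _
    · exact f.isEmbedding.isInducing.comp Topology.IsInducing.subtypeVal
  have := hr.noetherianSpace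
  exact isCompact_iff_compactSpace.mpr inferInstance

end Groth.Agent.S4360
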