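import Groth.Statements.S4361
import Groth.Agent.NoethTop.Basic


set_option autoImplicit false
universe u
open FinCond

namespace Groth.Agent.S4361

open AlgebraicGeometry in
open CategoryTheory in
/-- Let f : X -> Y and g : Y -> Z be morphisms whose composite is quasi-compact, and suppose the
underlying space of X is locally Noetherian (every point has an open neighbourhood which is a
Noetherian topological space). Then f is quasi-compact. (The published statement also covers the
case g separated, which is the standard cancellation property; this row states only the case of a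
locally Noetherian source.) -/
theorem result
    {X Y Z : Scheme.{u}} (f : X ⟶ Y) (g : Y ⟶ Z) [QuasiCompact (f ≫ g)]
    (hX : ∀ x : X, ∃ U : X.Opens, x ∈ U ∧ TopologicalSpace.NoetherianSpace U) :
    QuasiCompact f := by
  refine (quasiCompact_iff _).mpr fun U hU hU' ↦ ?_
  obtain ⟨Ws, hWs⟩ : ∃ W : Z.Opens, IsCompact (W : Set Z) ∧ g.base '' U ⊆ W := by
    have hc : IsCompact (g.base '' U) := hU'.image g.continuous
    obtain ⟨t, ht⟩ := hc.elim_finite_subcover (fun V : Z.affineOpens ↦ (V.1 : Set Z))
      (fun V ↦ V.1.isOpen) (fun z _ ↦ by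
        obtain ⟨_, ⟨V, hV, rfl⟩, hzV, -⟩ :=
          Z.isBasis_affineOpens.exists_subset_of_mem_open (Set.mem_univ z) isOpen_univ
        exact Set.mem_iUnion.mpr ⟨⟨V, hV⟩, hzV⟩)
    refine ⟨⟨⋃ i ∈ t, (i.1 : Set Z), isOpen_biUnion fun i _ ↦ i.1.isOpen⟩, ?_, ht⟩
    exact t.finite_toSet.isCompact_biUnion fun i _ ↦ i.2.isCompact
  refine Groth.Agent.NoethTop.isCompact_subset (fun x ↦ ?_)
    ((f ≫ g).isCompact_preimage hWs.1) fun x hx ↦ hWs.2 ⟨f.base x, hx, rfl⟩
  obtain ⟨V, h1, h2⟩ := hX x
  exact ⟨V, V.isOpen, h1, h2⟩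

end Groth.Agent.S4361
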