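import Groth.Agent.FieldPts.Basic
import Groth.Statements.S4365
-- import your own Groth.Agent.* helpers here

set_option autoImplicit false
set_option backward.isDefEq.respectTransparency false
set_option backward.isDefEq.respectTransparency.types false
universe u
open FinCond

namespace Groth.Agent.S4365

open AlgebraicGeometry in
open CategoryTheory in
/-- Let K be a field, X and Y schemes locally of finite type over K, f : X -> Y a K-morphism and Ω an
algebraically closed extension field of K of infinite transcendence degree over K (there is an
algebraically independent sequence in Ω). Then f is surjective if and only if the map it induces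
from the K-points of X with values in Ω to those of Y is surjective, i.e. every K-morphism Spec Ω ->
Y factors through f. (The published proposition assumes X and Y of finite type over K, and a later
remark of the same text extends it to X and Y locally of finite type over K, the form stated here.) -/
theorem result
    (K Ω : Type u) [Field K] [Field Ω] [IsAlgClosed Ω] [Algebra K Ω]
    (t : ℕ → Ω) (ht : AlgebraicIndependent K t)
    {X Y : Scheme.{u}} (pX : X ⟶ Spec (CommRingCat.of K)) (pY : Y ⟶ Spec (CommRingCat.of K))
    [LocallyOfFiniteType pX] [LocallyOfFiniteType pY] (f : X ⟶ Y) (hf : f ≫ pY = pX) :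
    Surjective f ↔ ∀ y : Spec (CommRingCat.of Ω) ⟶ Y,
      y ≫ pY = Spec.map (CommRingCat.ofHom (algebraMap K Ω)) →
        ∃ x : Spec (CommRingCat.of Ω) ⟶ X, x ≫ f = y := by
  constructor
  · intro hs y _
    haveI : LocallyOfFiniteType f := by
      haveI : LocallyOfFiniteType (f ≫ pY) := by rw [hf]; infer_instance
      exact locallyOfFiniteType_of_comp f pY
    haveI : Surjective f := hs
    haveI : Nonempty ↥(Limits.pullback f y) := by
      haveI : Surjective (Limits.pullback.snd f y) := inferInstance
      obtain ⟨z, -⟩ := (Limits.pullback.snd f y).surjective (IsLocalRing.closedPoint Ω)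
      exact ⟨z⟩
    haveI : JacobsonSpace ↥(Limits.pullback f y) := LocallyOfFiniteType.jacobsonSpace (Limits.pullback.snd f y)
    obtain ⟨z, -, hz⟩ := nonempty_inter_closedPoints
      (Z := (Set.univ : Set ↥(Limits.pullback f y))) Set.univ_nonempty isOpen_univ.isLocallyClosed
    refine ⟨pointOfClosedPoint (Limits.pullback.snd f y) z hz ≫ Limits.pullback.fst f y, ?_⟩
    rw [Category.assoc, Limits.pullback.condition, pointOfClosedPoint_comp_assoc]
  · intro h
    refine ⟨fun y => ?_⟩
    obtain ⟨a, ha, hay⟩ := Groth.Agent.FieldPts.exists_point t ht pY y
    obtain ⟨x, hx⟩ := h a ha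
    refine ⟨x (IsLocalRing.closedPoint Ω), ?_⟩
    rw [← Scheme.Hom.comp_apply, hx, hay]

end Groth.Agent.S4365
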