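import Groth.Statements.S4378
-- import your own Groth.Agent.* helpers here

set_option autoImplicit false
universe u
open CategoryTheory CategoryTheory.Limits AlgebraicGeometry
open EGA2

namespace Groth.Agent.S4378

/-- Let q : Y → S be separated and of finite type, and f : X → Y a morphism such that X is also
separated and of finite type over S through f ≫ q. Then f is proper if and only if for every scheme
S' over S the morphism X ×_S S' → Y ×_S S' induced by f is closed (as a map of topological spaces). -/
theorem result {X Y S : Scheme.{u}} (q : Y ⟶ S) (f : X ⟶ Y)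
    [IsSeparated q] [LocallyOfFiniteType q] [QuasiCompact q]
    [IsSeparated (f ≫ q)] [LocallyOfFiniteType (f ≫ q)] [QuasiCompact (f ≫ q)] :
    IsProper f ↔ ∀ (S' : Scheme.{u}) (g : S' ⟶ S),
      IsClosedMap (pullback.map (f ≫ q) g q g f (𝟙 S') (𝟙 S) (Category.comp_id (f ≫ q))
        ((Category.comp_id g).trans (Category.id_comp g).symm)).base := by
  have : IsSeparated f := IsSeparated.of_comp f q
  have : LocallyOfFiniteType f := locallyOfFiniteType_of_comp f q
  have : QuasiCompact f := QuasiCompact.of_comp f q
  constructor
  · intro h S' g
    have : UniversallyClosed (pullback.map (f ≫ q) g q g f (𝟙 S') (𝟙 S) (Category.comp_id (f ≫ q))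
        ((Category.comp_id g).trans (Category.id_comp g).symm)) :=
      MorphismProperty.pullbackMap (P := @UniversallyClosed) (i₁ := f) (i₂ := 𝟙 S') inferInstance inferInstance rfl (Category.id_comp g).symm
    exact Scheme.Hom.isClosedMap _
  · intro H
    have : UniversallyClosed f := by
      constructor
      intro X' Y' i₁ y f' hsq
      intro Z hZ
      let m := pullback.map (f ≫ q) (y ≫ q) q (y ≫ q) f (𝟙 Y') (𝟙 S) (Category.comp_id (f ≫ q))
        ((Category.comp_id (y ≫ q)).trans (Category.id_comp (y ≫ q)).symm)
      let ι : X' ⟶ pullback (f ≫ q) (y ≫ q) := hsq.flip.isoPullback.hom ≫ pullback.mapDesc f y q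
      have : IsClosedImmersion ι := inferInstance
      let Γ : Y' ⟶ pullback q (y ≫ q) := pullback.lift y (𝟙 Y') (by simp)
      have hsnd : Γ ≫ pullback.snd _ _ = 𝟙 Y' := pullback.lift_snd _ _ _
      have hΓ : Function.Injective Γ := by
        intro a b hab
        simpa [← Scheme.Hom.comp_apply, hsnd] using
          congrArg (pullback.snd q (y ≫ q)) hab
      have hcomm : f' ≫ Γ = ι ≫ m := by
        apply pullback.hom_ext
        · simp only [ι, m, Γ, pullback.mapDesc, pullback.map, Category.assoc, pullback.lift_fst, pullback.lift_fst_assoc, pullback.lift_snd, Category.comp_id]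
          simp [hsq.w]
        · simp only [ι, m, Γ, pullback.mapDesc, pullback.map, Category.assoc, pullback.lift_fst, pullback.lift_fst_assoc, pullback.lift_snd, Category.comp_id]
          simp
      have hc : IsClosed (m.base '' (ι.base '' Z)) :=
        H Y' (y ≫ q) _ (ι.isClosedEmbedding.isClosedMap _ hZ)
      have : f'.base '' Z = Γ.base ⁻¹' (m.base '' (ι.base '' Z)) := by
        have e : m.base '' (ι.base '' Z) = Γ.base '' (f'.base '' Z) := by
          simp only [Set.image_image]
          exact Set.image_congr fun x _ => by
            rw [← Scheme.Hom.comp_apply, ← Scheme.Hom.comp_apply, hcomm]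
        rw [e, Set.preimage_image_eq _ hΓ]
      show IsClosed (f'.base '' Z)
      rw [this]
      exact hc.preimage Γ.continuous
    exact ⟨⟩

end Groth.Agent.S4378
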