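import Groth.Statements.S4381
import Groth.Agent.ProjUPLib.RelAmpleBC
-- import your own Groth.Agent.* helpers here

set_option autoImplicit false
universe u
open CategoryTheory CategoryTheory.Limits AlgebraicGeometry
open EGA2

namespace Groth.Agent.S4381

/-- Let Y be an affine scheme, f : X → Y a quasi-compact morphism and L an O_X-module. Then L is ample
relative to f if and only if L is an ample O_X-module. -/
theorem result {X Y : Scheme.{u}} [IsAffine Y] (f : X ⟶ Y) [QuasiCompact f] (L : X.Modules) :
    RelAmple.IsRelAmple f L ↔ CohB1.IsAmple L := by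
  refine ⟨fun h ↦ ?_, fun h ↦ Groth.Agent.GenLocus.isRelAmple_of_isAmple f h⟩
  exact Groth.Agent.GenLocus.isAmple_of_iso
    ((Scheme.Modules.pullback _).mapIso ((Scheme.Modules.restrictFunctorIsoPullback _).app L) ≪≫
      (Scheme.Modules.pullbackComp _ _).app L ≪≫
      (Scheme.Modules.pullbackCongr (show (Scheme.topIso X).inv ≫ (⊤ : X.Opens).ι = 𝟙 X by simp [← Scheme.topIso_hom])).app L ≪≫
      (Scheme.Modules.pullbackId X).app L)
    (Groth.Agent.GenLocus.isAmple_pullback_of_isAffineHom (Scheme.topIso X).inv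
      (h.2 ⟨⊤, isAffineOpen_top Y⟩ : CohB1.IsAmple (L.restrict (⊤ : X.Opens).ι)))

end Groth.Agent.S4381
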