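import Groth.Statements.S4407
import Groth.Agent.ProjUPLib.GlobGen
import Groth.Agent.AssPts.Basic
-- import your own Groth.Agent.* helpers here

set_option autoImplicit false
universe u
open CategoryTheory CategoryTheory.Limits AlgebraicGeometry
open EGA2

namespace Groth.Agent.S4407

/-- (a) ⇒ (e): let X be a quasi-affine scheme. Then every quasi-coherent O_X-module is generated by its
global sections (it is a quotient of a free O_X-module on some index set). -/
theorem result (X : Scheme.{u}) [X.IsQuasiAffine] (F : X.Modules)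
    (hF : Coh.IsQCoh F) : Curv2.IsGloballyGenerated F := by
  haveI : F.IsQuasicoherent := hF
  refine Groth.Agent.ProjUPLib.isGloballyGenerated_of_generatedBy (ι := Γ(F, (⊤ : X.Opens))) id fun x ↦ ?_
  obtain ⟨_, ⟨r, hr, rfl⟩, hxr, -⟩ := TopologicalSpace.Opens.isBasis_iff_nbhd.1
    (Scheme.IsQuasiAffine.isBasis_basicOpen X) (show x ∈ (⊤ : X.Opens) from trivial)
  refine eq_top_iff.mpr fun z _ ↦ ?_
  obtain ⟨g, s, hg, hs⟩ := Groth.Agent.AssPts.exists_germ_smul_eq F hr x hxr z
  obtain ⟨n, y, hy⟩ := Groth.Agent.QCohBase.exists_pow_smul_eq_mres_of_qcqs F (V := ⊤) isCompact_univ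
    isQuasiSeparated_univ r rfl (X.basicOpen_le r) s
  have hu : IsUnit (X.presheaf.germ _ x hxr (Groth.Agent.QCohBase.ores (X.basicOpen_le r) r) ^ n *
      X.presheaf.germ _ x hxr g) :=
    ((((RingedSpace.isUnit_res_basicOpen X.toRingedSpace r).map
      (X.presheaf.germ _ x hxr).hom)).pow n).mul ((Groth.Agent.AssPts.notMem_prime_iff hr x hxr g).mp hg)
  refine (Submodule.smul_mem_iff_of_isUnit _ hu).mp ?_
  rw [mul_smul, hs, ← map_pow, ← Groth.Agent.AssPts.germ_smul', ← hy, Groth.Agent.AssPts.germ_mres]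
  exact Submodule.subset_span ⟨y, rfl⟩

end Groth.Agent.S4407
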