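import Groth.Statements.S4384
import Groth.Agent.ProjUPLib.RelAmpleBC
import Groth.Agent.GenLocus.UnivClosed
-- import your own Groth.Agent.* helpers here

set_option autoImplicit false
universe u
open CategoryTheory CategoryTheory.Limits AlgebraicGeometry
open EGA2

namespace Groth.Agent.S4384

/-- Let f : X → Y be a quasi-compact morphism and L, L' two O_X-modules ample relative to f. Then L ⊗ L'
is ample relative to f. -/
theorem result {X Y : Scheme.{u}} (f : X ⟶ Y) [QuasiCompact f] (L L' : X.Modules)
    (hL : RelAmple.IsRelAmple f L) (hL' : RelAmple.IsRelAmple f L') :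
    RelAmple.IsRelAmple f (CohB1.tensorMod L L') := by
  refine ⟨hL.1, fun V ↦ ?_⟩
  have h1 := hL.2 V
  have h2 := hL'.2 V
  refine Groth.Agent.GenLocus.isAmple_of_iso ?_ (Groth.Agent.GenLocus.isAmple_tensorMod h1 h2.1 fun x ↦
    let ⟨n, s, hs, _⟩ := h2.2.2 x; ⟨n, s, hs⟩)
  exact Groth.Agent.TensorMod.tensorIso ((Scheme.Modules.restrictFunctorIsoPullback _).app L)
      ((Scheme.Modules.restrictFunctorIsoPullback _).app L') ≪≫
    (Groth.Agent.GenLocus.pullTensorIso _ (Groth.Agent.GenLocus.isInvertible_of_isRelAmple f hL)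
      (Groth.Agent.GenLocus.isInvertible_of_isRelAmple f hL')).symm ≪≫
    ((Scheme.Modules.restrictFunctorIsoPullback _).app _).symm

end Groth.Agent.S4384
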