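import Groth.Statements.S4398
import Groth.Agent.EGA2G.ProjMap
-- import your own Groth.Agent.* helpers here

set_option autoImplicit false
universe u
open AlgebraicGeometry
open EGA2

namespace Groth.Agent.S4398

/-- Let φ : S' → S be a homomorphism of rings graded in nonnegative degrees which maps S'_n bijectively
onto S_n for every n > 0, so that S_+ lies in the ideal generated by φ(S'_+) (stated as a hypothesis
because the induced morphism is built from it). Then the induced morphism Proj S → Proj S' is an
isomorphism of schemes. (The published statement treats the cases S'_0 = ℤ and S'_0 = A with S'_n =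
S_n for n > 0; this row allows any graded φ that is bijective in positive degrees.) -/
theorem result {R A : Type u} [CommRing R] [CommRing A] [Algebra R A] (𝒜 : ℕ → Submodule R A) [GradedAlgebra 𝒜]
    {B : Type u} [CommRing B] [Algebra R B] (ℬ : ℕ → Submodule R B) [GradedAlgebra ℬ]
    (φ : ℬ →+*ᵍ 𝒜) (hbij : ∀ n : ℕ, 0 < n → Set.BijOn φ (ℬ n) (𝒜 n))
    (hφ : HomogeneousIdeal.irrelevant 𝒜 ≤ (HomogeneousIdeal.irrelevant ℬ).map φ) :
    CategoryTheory.IsIso (Proj.map φ hφ) := by
  refine Groth.Agent.EGA2G.proj_map_of_forall ℬ 𝒜 φ hφ (CategoryTheory.MorphismProperty.isomorphisms Scheme) fun d hd s hs => ?_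
  have hb : Function.Bijective (HomogeneousLocalization.Away.map φ s) := by
    constructor
    · rw [injective_iff_map_eq_zero]
      intro x hx
      obtain ⟨n, b, hb, rfl⟩ := HomogeneousLocalization.Away.mk_surjective ℬ hs x
      apply HomogeneousLocalization.val_injective
      replace hx := congrArg HomogeneousLocalization.val hx
      rw [HomogeneousLocalization.Away.map_mk, HomogeneousLocalization.Away.val_mk,
        HomogeneousLocalization.val_zero, Localization.mk_eq_mk',
        IsLocalization.mk'_eq_zero_iff] at hx
      rw [HomogeneousLocalization.val_zero, HomogeneousLocalization.Away.val_mk,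
        Localization.mk_eq_mk', IsLocalization.mk'_eq_zero_iff]
      obtain ⟨⟨_, k, rfl⟩, hk⟩ := hx
      refine ⟨⟨_, k + 1, rfl⟩, ?_⟩
      have hmem := SetLike.mul_mem_graded (SetLike.pow_mem_graded (k + 1) hs) hb
      refine (hbij _ ?_).injOn hmem (zero_mem _) ?_
      · simp only [smul_eq_mul, Nat.succ_mul]
        omega
      · simp only [map_zero] at hk ⊢
        rw [map_mul, map_pow, pow_succ', mul_assoc, hk, mul_zero]
    · intro x
      obtain ⟨n, a, ha, rfl⟩ := HomogeneousLocalization.Away.mk_surjective 𝒜 (φ.2 hs : φ s ∈ 𝒜 d) x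
      have hmem : a * φ s ∈ 𝒜 ((n + 1) • d) := by
        rw [add_smul, one_smul]; exact SetLike.mul_mem_graded ha (φ.2 hs)
      obtain ⟨b, hb, hbe⟩ := (hbij _ (Nat.mul_pos n.succ_pos hd)).surjOn hmem
      refine ⟨HomogeneousLocalization.Away.mk ℬ hs (n + 1) b hb, ?_⟩
      apply HomogeneousLocalization.val_injective
      rw [HomogeneousLocalization.Away.map_mk, HomogeneousLocalization.Away.val_mk,
        HomogeneousLocalization.Away.val_mk, Localization.mk_eq_mk_iff, Localization.r_iff_exists]
      refine ⟨1, ?_⟩
      simp only [hbe, OneMemClass.coe_one, one_mul, pow_succ]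
      change φ s ^ n * (a * φ s) = φ s ^ n * φ s * a
      ring
  let e := RingEquiv.ofBijective _ hb
  exact (inferInstance : CategoryTheory.IsIso (Spec.map e.toCommRingCatIso.hom))

end Groth.Agent.S4398
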