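import Groth.Statements.S4399
import Groth.Agent.ProjUPLib.AmpleO1
-- import your own Groth.Agent.* helpers here

set_option autoImplicit false
universe u
open CategoryTheory CategoryTheory.Limits AlgebraicGeometry
open EGA2

namespace Groth.Agent.S4399

open Groth.Agent.ProjUPLib

/-- Let S be a ring graded in nonnegative degrees, X = Proj S, d > 0, and U the union of the opens
D_+(f) for f running through S_d. Then for every integer n the restriction of the twisting sheaf
O_X(nd) to U is an invertible O_U-module. -/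
theorem result {R A : Type u} [CommRing R] [CommRing A] [Algebra R A] (𝒜 : ℕ → Submodule R A) [GradedAlgebra 𝒜]
    (d : ℕ) (hd : 0 < d) (n : ℤ) :
    PicF.IsInvertible ((Twist.twist 𝒜 (n * d)).restrict (⨆ f : 𝒜 d, Proj.basicOpen 𝒜 (f : A)).ι) := by
  refine isInvertible_of_local_frames fun x ↦ ?_
  obtain ⟨f, hf⟩ := TopologicalSpace.Opens.mem_iSup.mp x.2
  obtain ⟨e, he⟩ := exists_isFrame_twist 𝒜 (n * d) f n rfl
  obtain ⟨b, hb⟩ := exists_isFrame_restrict (⨆ f : 𝒜 d, Proj.basicOpen 𝒜 (f : A)).ι he
  exact ⟨_, hf, b, hb⟩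

end Groth.Agent.S4399
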