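import Groth.Statements.S4405
import Groth.Agent.EGA2G.Graded
-- import your own Groth.Agent.* helpers here

set_option autoImplicit false
universe u
open EGA2

namespace Groth.Agent.S4405

/-- Let S be a ring graded in nonnegative degrees and E any subset of the irrelevant ideal S_+. Then the
intersection of S_+ with the vanishing ideal of the closed subset V_+(E) of Proj S equals the
intersection of S_+ with the radical of the graded ideal generated by E (the smallest homogeneous
ideal containing E). -/
theorem result {R A : Type u} [CommRing R] [CommRing A] [Algebra R A] (𝒜 : ℕ → Submodule R A) [GradedAlgebra 𝒜]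
    (E : Set A) (hE : E ⊆ (HomogeneousIdeal.irrelevant 𝒜).toIdeal) :
    (HomogeneousIdeal.irrelevant 𝒜).toIdeal ⊓
        (ProjectiveSpectrum.vanishingIdeal (ProjectiveSpectrum.zeroLocus 𝒜 E)).toIdeal =
      (HomogeneousIdeal.irrelevant 𝒜).toIdeal ⊓ (Ideal.homogeneousHull 𝒜 (Ideal.span E)).toIdeal.radical := by
  set I := Ideal.homogeneousHull 𝒜 (Ideal.span E) with hI
  have hz : ProjectiveSpectrum.zeroLocus 𝒜 E = ProjectiveSpectrum.zeroLocus 𝒜 (I.toIdeal : Set A) := by
    refine le_antisymm (fun x hx => ?_) (ProjectiveSpectrum.zeroLocus_anti_mono 𝒜 fun e he => Ideal.le_toIdeal_homogeneousHull 𝒜 _ (Ideal.subset_span he))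
    exact (Ideal.homogeneousHull.gc 𝒜 _ _).mpr (Ideal.span_le.mpr hx)
  apply le_antisymm
  · intro e he
    refine ⟨he.1, Groth.Agent.EGA2G.mem_radical_of_forall_point 𝒜 _ I.isHomogeneous he.1 fun x hx => ?_⟩
    exact (ProjectiveSpectrum.mem_vanishingIdeal _ _).mp he.2 x (hz ▸ hx)
  · intro e he
    refine ⟨he.1, (ProjectiveSpectrum.mem_vanishingIdeal _ _).mpr fun x hx => ?_⟩
    have hle : I.toIdeal ≤ x.asHomogeneousIdeal.toIdeal := fun a ha => (hz ▸ hx : x ∈ ProjectiveSpectrum.zeroLocus 𝒜 (I.toIdeal : Set A)) ha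
    exact (x.isPrime.radical_le_iff.mpr hle) he.2

end Groth.Agent.S4405
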