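import Groth.Statements.S4409
import Groth.Agent.SymAlgRel.CounitAmple

set_option autoImplicit false
universe u
open CategoryTheory CategoryTheory.Limits AlgebraicGeometry
open EGA2

namespace Groth.Agent.S4409

/-- (a) ⇔ (d): let f : X → Y be a quasi-compact morphism. Then f is quasi-affine (the preimage of every
affine open of Y is a quasi-affine scheme) if and only if f is separated and, for every
quasi-coherent O_X-module F, the canonical morphism f^*(f_*(F)) → F (counit of the adjunction
between f^* and f_*) is an epimorphism. -/
theorem result {X Y : Scheme.{u}} (f : X ⟶ Y) [QuasiCompact f] :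
    Mor2.IsQuasiAffine f ↔ (IsSeparated f ∧ ∀ F : X.Modules, Coh.IsQCoh F →
      Epi ((Scheme.Modules.pullbackPushforwardAdjunction f).counit.app F)) := by
  constructor
  · intro hf
    refine ⟨?_, fun F hF => Groth.Agent.SymAlgRel.epi_counit_of_isQuasiAffine f hf F hF⟩
    refine IsZariskiLocalAtTarget.of_iSup_eq_top (P := @IsSeparated)
      (fun V : Y.affineOpens => V.1) (iSup_affineOpens_eq_top Y) fun V => ?_
    haveI := hf.2 V.1 V.2
    infer_instance
  · rintro ⟨hs, h⟩
    haveI := hs
    exact (Groth.Agent.GenLocus.isQuasiAffine_iff_isRelAmple f).2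
      (Groth.Agent.SymAlgRel.isQuasiAffine_of_counit_epi f h)

end Groth.Agent.S4409
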