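import Groth.Statements.S4425
import Groth.Agent.S5721
import Groth.Agent.S5726
import Groth.Agent.S12478
import Groth.Agent.SymAlgRel.ToBundle
import Groth.Agent.GenLocus.UnivClosed

set_option autoImplicit false
universe u
open CategoryTheory CategoryTheory.Limits AlgebraicGeometry
open EGA2

namespace Groth.Agent.S4425

/-- (a) ⇔ (c): let Y be a quasi-compact separated scheme and f : X → Y a morphism. Then f is
quasi-projective if and only if f is of finite type and there are a quasi-coherent graded
O_Y-algebra 𝒮, generated by its degree-one part with that part of finite type, a relative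
homogeneous spectrum p : P → Y of 𝒮 (given with its charts over affine opens), and an open immersion
j : X → P with dense image such that j ≫ p = f. (The published statement also allows Y whose
underlying space is Noetherian, and adds a third equivalent condition, an immersion into some P(E);
this row assumes Y quasi-compact and separated and states only the equivalence of the other two.) -/
theorem result {X Y : Scheme.{u}} [CompactSpace Y] [Y.IsSeparated] (f : X ⟶ Y) :
    RelProj.IsQuasiProjective f ↔
      (LocallyOfFiniteType f ∧ QuasiCompact f ∧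
        ∃ (𝒮 : RelProj.QCGrAlg Y) (P : Scheme.{u}) (p : P ⟶ Y)
          (chart : ∀ (U : Y.Opens) (hU : IsAffineOpen U), ((p ⁻¹ᵁ U : P.Opens) : Scheme.{u}) ≅ Proj (𝒮.deg U hU))
          (j : X ⟶ P), 𝒮.IsGenDegOne ∧ 𝒮.IsFTDeg 1 ∧ RelProj.IsRelProj 𝒮 p chart ∧
            IsOpenImmersion j ∧ Dense (Set.range j.base) ∧ j ≫ p = f) := by
  constructor
  · intro hf
    obtain ⟨hlft, hqc, L, hamp⟩ := hf
    have hL := GenLocus.isInvertible_of_isRelAmple f hamp
    obtain ⟨n, -, hn⟩ := S12478.result f L hL hamp
    obtain ⟨𝒮, P, p, chart, O1, lam, i, h1, h2, hP, -, hi, hd, hc, -⟩ :=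
      S5726.result (Or.inl ⟨inferInstance, inferInstance⟩) f _ (TensorMod.isInvertible_tensorPow hL n) (hn n le_rfl)
    exact ⟨hlft, hqc, 𝒮, P, p, chart, i, h1, h2, hP, hi, hd, hc⟩
  · rintro ⟨hlft, hqc, 𝒮, P, p, chart, i, h1, h2, hP, hi, hd, rfl⟩
    obtain ⟨O1, lam, hO1⟩ := SymAlgRel.exists_isRelTwist hP 1
    obtain ⟨𝒯, j, hj, Q, q, chartQ, hQ, k, hk, hkc, htw⟩ := SymAlgRel.exists_toBundle h1 hP
    obtain ⟨O1', lam', hO1'⟩ := SymAlgRel.exists_isRelTwist hQ 1
    obtain ⟨θ⟩ := htw 1 O1' lam' O1 lam hO1' hO1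
    haveI := hi
    haveI := hk
    have hL : PicF.IsInvertible ((Scheme.Modules.pullback i).obj O1) :=
      GenLocus.isInvertible_pullback i (SymAlgRel.isInvertible_relTwist h1 hO1)
    refine ⟨hlft, hqc, _, S5721.result (i ≫ p) _ hL ?_⟩
    exact ⟨_, SymAlgRel.isQCoh_degPiece 𝒮 1, 𝒯, j, hj, Q, q, chartQ, hQ, O1', lam', hO1', i ≫ k, inferInstance,
      by rw [Category.assoc, hkc], ⟨(Scheme.Modules.pullback i).mapIso θ.symm ≪≫
        (Scheme.Modules.pullbackComp i k).app O1'⟩⟩

end Groth.Agent.S4425
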