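import Groth.Statements.S4434
import Groth.Agent.DVRDom.Scheme
-- import your own Groth.Agent.* helpers here

set_option autoImplicit false
universe u
open EGA2

namespace Groth.Agent.S4434

/-- Let A be a Noetherian domain with field of fractions K and L a finitely generated field extension of
K. The integral closure of A in L is the intersection of the discrete valuation subrings of L (with
fraction field L) containing the image of A: an element of L is integral over A exactly when it
belongs to all of them. -/
theorem result (A : Type u) [CommRing A] [IsDomain A] [IsNoetherianRing A]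
    (K : Type u) [Field K] [Algebra A K] [IsFractionRing A K]
    (L : Type u) [Field L] [Algebra K L] [Algebra A L] [IsScalarTower A K L] (hfg : (⊤ : IntermediateField K L).FG) (x : L) :
    IsIntegral A x ↔ ∀ R : ValuationSubring L, IsDiscreteValuationRing R → (∀ a : A, algebraMap A L a ∈ R) → x ∈ R := by
  classical
  refine ⟨fun hx R _ hR => ?_, fun h => ?_⟩
  · let φ : A →+* R := (algebraMap A L).codRestrict R.toSubring hR
    obtain ⟨p, hp, hpx⟩ := hx
    have : IsIntegral R x := ⟨p.map φ, hp.map φ, by rw [Polynomial.eval₂_map]; exact hpx⟩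
    obtain ⟨r, hr⟩ := IsIntegrallyClosed.isIntegral_iff.mp this
    exact hr ▸ r.2
  · by_contra hx
    obtain ⟨s, hs⟩ := hfg
    have hclos : Subfield.closure (Set.range (algebraMap A L) ∪ s) = ⊤ := by
      refine top_le_iff.mp fun z _ => ?_
      have hz : z ∈ (IntermediateField.adjoin K (s : Set L)).toSubfield := by rw [hs]; trivial
      rw [IntermediateField.adjoin_toSubfield] at hz
      refine (Subfield.closure_le.mpr ?_) hz
      rintro w (⟨k, rfl⟩ | hw)
      · obtain ⟨a, b, -, rfl⟩ := IsFractionRing.div_surjective A k
        rw [map_div₀, ← IsScalarTower.algebraMap_apply, ← IsScalarTower.algebraMap_apply]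
        exact div_mem (Subfield.subset_closure (Or.inl ⟨a, rfl⟩)) (Subfield.subset_closure (Or.inl ⟨b, rfl⟩))
      · exact Subfield.subset_closure (Or.inr hw)
    let T := integralClosure A L
    have hxT : x ∉ T.toSubring := hx
    haveI : IsIntegrallyClosedIn T.toSubring L := inferInstanceAs (IsIntegrallyClosedIn (integralClosure A L).toSubring L)
    obtain ⟨W, hTW, hxW⟩ := Subring.exists_le_valuationSubring_of_isIntegrallyClosedIn hxT
    have hinv : x⁻¹ ∈ W.nonunits := W.inv_mem_nonunits_iff.mpr (Or.inr hxW)
    have hx0 : x⁻¹ ≠ 0 := inv_ne_zero fun h0 => hxW (h0 ▸ W.zero_mem)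
    obtain ⟨R, hR, hAR, hJ⟩ := Groth.Agent.DVRDom.exists_dvr_of_valuationSubring s hclos W
      (fun a => hTW (T.algebraMap_mem a)) {x⁻¹} (by simpa using hinv) ⟨_, Finset.mem_singleton_self _, hx0⟩
    rcases R.inv_mem_nonunits_iff.mp (hJ _ (Finset.mem_singleton_self _)) with h0 | h0
    · exact hxW (h0 ▸ W.zero_mem)
    · exact h0 (h R hR hAR)

end Groth.Agent.S4434
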