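import Groth.Statements.S4436
import Groth.Agent.FreeNearFinite.Basic
import Mathlib.AlgebraicGeometry.Morphisms.Finite
-- import your own Groth.Agent.* helpers here

set_option autoImplicit false
universe u
open CategoryTheory CategoryTheory.Limits AlgebraicGeometry
open EGA2

namespace Groth.Agent.S4436

/-- Let f : X' ⟶ X be a finite morphism and F' a locally free O_{X'}-module of rank r. Then every point
of X has an open neighbourhood U over whose inverse image F' is free of rank r; this is the content
of the statement that the direct image of F' is a locally free module of rank r over the direct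
image of O_{X'} (the converse implication being immediate). -/
theorem result {X' X : Scheme.{u}} (f : X' ⟶ X) [IsFinite f] (r : ℕ)
    (F : X'.Modules) (hF : FlatMod.IsFinLocFreeOfRank r F) (x : X) :
    ∃ U : X.Opens, x ∈ U ∧ Nonempty (F.restrict (f ⁻¹ᵁ U).ι ≅ FlatMod.freeMod (↑(f ⁻¹ᵁ U)) r) := by
  obtain ⟨_, ⟨W, hW, rfl⟩, hxW, -⟩ :=
    X.isBasis_affineOpens.exists_subset_of_mem_open (Set.mem_univ x) isOpen_univ
  have hfib : (f.base ⁻¹' {x}).Finite := f.finite_preimage_singleton x
  obtain ⟨V, hZV, hVW, ⟨t⟩⟩ := Groth.Agent.FreeNearFinite.exists_free_near F hF hfib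
    (IsAffineOpen.preimage hW f) (fun z hz => show f z ∈ W from (show f z = x from hz) ▸ hxW)
  let U : X.Opens := W ⊓ ⟨(f.base '' (V : Set X')ᶜ)ᶜ, (f.isClosedMap _ V.isOpen.isClosed_compl).isOpen_compl⟩
  refine ⟨U, ⟨hxW, fun ⟨z, hz, hzx⟩ => hz (hZV hzx)⟩, ?_⟩
  have hle : f ⁻¹ᵁ U ≤ V := fun z hz => by
    by_contra h
    exact hz.2 ⟨z, h, rfl⟩
  exact ⟨Groth.Agent.TensorMod.freeRestrict hle t⟩

end Groth.Agent.S4436
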