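import Groth.Statements.S4441
import Groth.Agent.DVRDom.Birational
-- import your own Groth.Agent.* helpers here

set_option autoImplicit false
universe u
open CategoryTheory CategoryTheory.Limits AlgebraicGeometry
open EGA2

namespace Groth.Agent.S4441

/-- Let X and Y be integral separated schemes and f : X ⟶ Y a dominant, quasi-compact, universally
closed morphism, ξ the generic point of X. Every valuation subring R of the function field K(X) of X
which dominates the local ring of Y at a point y (via O_{Y,y} → O_{Y,f(ξ)} → K(X): image inside R,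
maximal ideal into the maximal ideal of R) also dominates the local ring of X at some point x (via
O_{X,x} → K(X)). -/
theorem result {X Y : Scheme.{u}} [IsIntegral X] [IsIntegral Y]
    [X.IsSeparated] [Y.IsSeparated] (f : X ⟶ Y) [IsDominant f] [QuasiCompact f] [UniversallyClosed f]
    (R : ValuationSubring X.functionField) (y : Y) (hy : f.base (genericPoint X) ⤳ y)
    (hdom : (∀ a : Y.presheaf.stalk y, (Y.presheaf.stalkSpecializes hy ≫ f.stalkMap (genericPoint X)).hom a ∈ R) ∧
      ∀ a ∈ IsLocalRing.maximalIdeal (Y.presheaf.stalk y),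
        R.valuation ((Y.presheaf.stalkSpecializes hy ≫ f.stalkMap (genericPoint X)).hom a) < 1) :
    ∃ x : X, (∀ a : X.presheaf.stalk x, algebraMap (X.presheaf.stalk x) X.functionField a ∈ R) ∧
      ∀ a ∈ IsLocalRing.maximalIdeal (X.presheaf.stalk x), R.valuation (algebraMap (X.presheaf.stalk x) X.functionField a) < 1 := by
  have hu : UniversallyClosed f := inferInstance
  rw [UniversallyClosed.eq_valuativeCriterion] at hu
  let m : Spec (CommRingCat.of R) ⟶ Y :=
    Spec.map (CommRingCat.ofHom ((Y.presheaf.stalkSpecializes hy ≫ f.stalkMap (genericPoint X)).hom.codRestrict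
      R.toSubring hdom.1)) ≫ Y.fromSpecStalk y
  have w : X.fromSpecStalk (genericPoint X) ≫ f =
      Spec.map (CommRingCat.ofHom (algebraMap R X.functionField)) ≫ m := by
    rw [← Spec.map_comp_assoc]
    change _ = Spec.map (Y.presheaf.stalkSpecializes hy ≫ f.stalkMap (genericPoint X)) ≫ _
    simp only [Spec.map_comp, Category.assoc, Scheme.SpecMap_stalkSpecializes_fromSpecStalk,
      Scheme.SpecMap_stalkMap_fromSpecStalk]
  obtain ⟨l, hl, -⟩ := (hu.1 ⟨R, X.functionField, X.fromSpecStalk (genericPoint X), m, ⟨w⟩⟩).exists_lift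
  obtain ⟨x, hx, h1, h2⟩ := Groth.Agent.DVRDom.exists_dominated_of_liesOver (𝟙 X) R
    ⟨l, by rw [Category.comp_id]; exact hl⟩
  simp only [Scheme.Hom.stalkMap_id] at h1 h2
  exact ⟨x, h1, h2⟩

end Groth.Agent.S4441
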