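import Groth.Statements.S4442
import Groth.Agent.CurveDim.Basic
-- import your own Groth.Agent.* helpers here

set_option autoImplicit false
universe u
open CategoryTheory CategoryTheory.Limits AlgebraicGeometry
attribute [local instance] Curv2.resAlgebra
open EGA2
open Groth.Agent

namespace Groth.Agent.S4442

/-- (a) ⇔ (b): let X be a scheme of finite type over a field k. The residue fields of the generic points
of the irreducible components of X all have transcendence degree one over k if and only if the local
ring of X at every closed point has dimension one. (The published statement has a third equivalent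
condition: the irreducible closed subsets of X other than the irreducible components are exactly the
closed points of X. This row states only the equivalence of the first two.) -/
theorem result (k : Type u) [Field k] (X : Scheme.{u})
    [X.Over (Spec (CommRingCat.of k))] [LocallyOfFiniteType (X ↘ (Spec (CommRingCat.of k)))]
    [QuasiCompact (X ↘ (Spec (CommRingCat.of k)))] :
    (∀ x : X, closure ({x} : Set X) ∈ irreducibleComponents (X : Type u) → Algebra.trdeg k (X.residueField x) = 1) ↔
      ∀ x : X, IsClosed ({x} : Set X) → ringKrullDim (X.presheaf.stalk x) = 1 := by
  let q := X ↘ Spec (CommRingCat.of k)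
  have key : ∀ x : X, Algebra.trdeg k (X.residueField x) = 1 ↔ Order.height x = 1 := by
    intro x
    obtain ⟨n, hn, hn'⟩ := DimTheory.exists_height_eq q x
    have he : Algebra.trdeg k (X.residueField x) = n := hn
    rw [he, hn', Nat.cast_eq_one, Nat.cast_eq_one]
  constructor
  · intro h x hx
    obtain ⟨y, -, hy, he⟩ := Groth.Agent.CurveDim.exists_max_of_closed q hx
    rw [ringKrullDim_stalk_eq_coheight, ← he, (key y).1 (h y (Groth.Agent.CurveDim.closure_mem_components hy))]
    rfl
  · intro h ξ hξ
    refine (key ξ).2 ?_
    have : IsLocallyNoetherian X := LocallyOfFiniteType.isLocallyNoetherian q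
    have : CompactSpace X := QuasiCompact.compactSpace_of_compactSpace q
    have : IsNoetherian X := {}
    obtain ⟨U, hU, hm⟩ := DimTheory.exists_opens_unique_max (X := X)
      (fun z hz => Groth.Agent.CurveDim.eq_of_closure_mem_components hξ hz)
    obtain ⟨x, hxU, hx⟩ := DimTheory.exists_closedPoint_mem q U.isOpen ⟨ξ, hU⟩
    obtain ⟨y, hyx, hy, he⟩ := Groth.Agent.CurveDim.exists_max_of_closed q hx
    have h1 := h x hx
    rw [ringKrullDim_stalk_eq_coheight] at h1
    rw [← hm x hxU y hy hyx, he]
    exact WithBot.coe_inj.1 h1

end Groth.Agent.S4442
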