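import Groth.Statements.S4447


set_option autoImplicit false
universe u
open CategoryTheory CategoryTheory.Limits AlgebraicGeometry
open EGA2

namespace Groth.Agent.S4447

/-- Let p : X ⟶ Y be a morphism, x a point of X, y = p(x) and y' a specialization of y distinct from y.
Then there are a valuation ring A which is not a field, with field of fractions the residue field
k(x), and a morphism Spec A ⟶ Y mapping the closed point to y' and restricting on Spec k(x) to the
canonical morphism Spec k(x) ⟶ X ⟶ Y (in particular the generic point of Spec A goes to y). -/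
theorem result {X Y : Scheme.{u}} (p : X ⟶ Y) (x : X) (y' : Y)
    (hsp : p.base x ⤳ y') (hne : y' ≠ p.base x) :
    ∃ (A : ValuationSubring (X.residueField x)) (h : Spec (CommRingCat.of A) ⟶ Y), A ≠ ⊤ ∧
      h.base (IsLocalRing.closedPoint A) = y' ∧
      Spec.map (CommRingCat.ofHom A.subtype) ≫ h = X.fromSpecResidueField x ≫ p := by
  let β : Y.presheaf.stalk y' ⟶ X.residueField x :=
    Y.presheaf.stalkSpecializes hsp ≫ Y.residue (p.base x) ≫ p.residueFieldMap x
  obtain ⟨A, hA, hloc⟩ := IsLocalRing.exists_factor_valuationRing β.hom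
  let α : Y.presheaf.stalk y' ⟶ CommRingCat.of A := CommRingCat.ofHom (β.hom.codRestrict _ hA)
  haveI : IsLocalHom α.hom := hloc
  have hcl : (Spec.map α ≫ Y.fromSpecStalk y').base (IsLocalRing.closedPoint A) = y' := by
    show (Spec.map α ≫ Y.fromSpecStalk y') (IsLocalRing.closedPoint A) = y'
    refine (Scheme.Hom.comp_apply _ _ _).trans ?_
    have : Spec.map α (IsLocalRing.closedPoint A) = IsLocalRing.closedPoint (Y.presheaf.stalk y') :=
      IsLocalRing.comap_closedPoint α.hom
    exact (congrArg (Y.fromSpecStalk y') this).trans (Scheme.fromSpecStalk_closedPoint ..)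
  have hK : Spec.map (CommRingCat.ofHom A.subtype) ≫ Spec.map α ≫ Y.fromSpecStalk y' =
      X.fromSpecResidueField x ≫ p := by
    rw [← Spec.map_comp_assoc, show α ≫ CommRingCat.ofHom A.subtype = β from rfl, Spec.map_comp_assoc,
      Spec.map_comp_assoc, Scheme.SpecMap_stalkSpecializes_fromSpecStalk,
      ← Scheme.fromSpecResidueField.eq_def, Scheme.Hom.SpecMap_residueFieldMap_fromSpecResidueField]
  refine ⟨A, Spec.map α ≫ Y.fromSpecStalk y', ?_, hcl, hK⟩
  rintro hA'
  apply hne
  have h1 : Spec.map (CommRingCat.ofHom A.subtype) (IsLocalRing.closedPoint (X.residueField x)) =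
      IsLocalRing.closedPoint A := by
    haveI : IsLocalHom A.subtype := ⟨fun a ha => by
      obtain ⟨b, hb⟩ := ha.exists_right_inv
      refine isUnit_iff_exists_inv.2 ⟨⟨b, hA' ▸ ValuationSubring.mem_top b⟩, Subtype.ext hb⟩⟩
    exact IsLocalRing.comap_closedPoint A.subtype
  rw [← hcl, ← h1]
  show (Spec.map α ≫ Y.fromSpecStalk y') (Spec.map (CommRingCat.ofHom A.subtype) _) = _
  refine (Scheme.Hom.comp_apply _ _ _).symm.trans ?_
  rw [hK]
  refine (Scheme.Hom.comp_apply _ _ _).trans ?_
  exact congrArg p.base (Scheme.fromSpecResidueField_apply ..)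

end Groth.Agent.S4447
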