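import Groth.Statements.S4459


set_option autoImplicit false
universe u
open Coherent

namespace Groth.Agent.S4459

open AlgebraicGeometry CategoryTheory in
/-- Let A be a Noetherian ring which is separated and complete for the J-adic topology, and let f : X →
Spec A be a morphism of schemes which is a closed map on underlying spaces. Then every open subset
of X containing the inverse image of V(J) is all of X. (The published statement also assumes X of
finite type over A; that hypothesis is not used.) -/
theorem result (A : Type u) [CommRing A] [IsNoetherianRing A]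
    (J : Ideal A) [IsAdicComplete J A] {X : Scheme.{u}} (f : X ⟶ Spec (CommRingCat.of A))
    (hf : IsClosedMap f.base) (U : X.Opens)
    (hU : f.base ⁻¹' (PrimeSpectrum.zeroLocus (J : Set A)) ⊆ (U : Set X)) : U = ⊤ := by
  refine TopologicalSpace.Opens.ext (Set.eq_univ_iff_forall.2 fun x => by_contra fun hx => ?_)
  have hc : IsClosed (f.base '' (U : Set X)ᶜ) := hf _ U.2.isClosed_compl
  obtain ⟨I, hI⟩ := (PrimeSpectrum.isClosed_iff_zeroLocus_ideal _).1 hc
  have hne : I ≠ ⊤ := fun h => by
    have : f.base x ∈ PrimeSpectrum.zeroLocus (I : Set A) := hI ▸ ⟨x, hx, rfl⟩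
    rw [h] at this
    exact (f.base x).isPrime.ne_top (top_le_iff.1 this)
  obtain ⟨m, hm, hIm⟩ := Ideal.exists_le_maximal I hne
  have hmem : (⟨m, hm.isPrime⟩ : PrimeSpectrum A) ∈ f.base '' (U : Set X)ᶜ := hI.symm ▸ hIm
  obtain ⟨y, hy, hy'⟩ := hmem
  refine hy (hU ?_)
  show f.base y ∈ PrimeSpectrum.zeroLocus (J : Set A)
  rw [hy']
  exact (IsAdicComplete.le_jacobson_bot J).trans (sInf_le ⟨bot_le, hm⟩)

end Groth.Agent.S4459
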