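import Groth.Statements.S4461
import Groth.Agent.FormalFun.Graded
import Groth.Agent.FormalFun.Main

set_option autoImplicit false
universe u
open Coherent

namespace Groth.Agent.S4461

open AlgebraicGeometry CategoryTheory in
/-- Let A be a Noetherian ring, I an ideal of A, X a scheme proper over Spec A, M a coherent O_X-module
and p ≥ 0. Write R_k for the kernel of H^p(X, M) → H^p(X, M/I^(k+1)M). Then there is k₀ such that
R_(k+1) = I · R_k for all k ≥ k₀; together with the obvious inclusions I · R_k ⊆ R_(k+1) this says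
that (R_k) is an I-good filtration of H^p(X, M). -/
theorem result (A : Type u) [CommRing A] [IsNoetherianRing A]
    (I : Ideal A) (X : Scheme.{u}) [X.Over (Spec (CommRingCat.of A))]
    [IsProper (X ↘ Spec (CommRingCat.of A))] (M : X.Modules) (hM : Coh.IsCoh M) (p : ℕ) :
    ∃ k₀ : ℕ, ∀ k : ℕ, k₀ ≤ k →
      ((Formal.toHHmodPow I M p (k + 1)).ker : Set (Coh.HH X M p)) =
        ((I • Submodule.span A ((Formal.toHHmodPow I M p k).ker : Set (Coh.HH X M p)) :
          Submodule A (Coh.HH X M p)) : Set (Coh.HH X M p)) := by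
  haveI := LocallyOfFiniteType.isLocallyNoetherian (X ↘ Spec (CommRingCat.of A))
  haveI : CompactSpace X := QuasiCompact.compactSpace_of_compactSpace (X ↘ Spec (CommRingCat.of A))
  obtain ⟨c, hc⟩ := Groth.Agent.FormalFun.exists_range_succ (I := I) hM
    (Groth.Agent.FormalFun.finiteOn_of_isProper _) p
  refine ⟨c, fun k hk => ?_⟩
  have e : ∀ l, ((Formal.toHHmodPow I M p l).ker : Set (Coh.HH X M p)) =
      ((LinearMap.range (Groth.Agent.CohFinite.hhMap A (Groth.Agent.FormalFun.kι M (I ^ (l + 1))) p) :
        Submodule A (Coh.HH X M p)) : Set (Coh.HH X M p)) := fun l => by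
    have hS : (ShortComplex.mk (Groth.Agent.FormalFun.kι M (I ^ (l + 1)))
        (Groth.Agent.FormalFun.qπ M (I ^ (l + 1))) (Limits.kernel.condition _)).ShortExact :=
      { exact := ShortComplex.exact_of_f_is_kernel _ (Limits.kernelIsKernel _)
        mono_f := inferInstanceAs (Mono (Groth.Agent.FormalFun.kι M (I ^ (l + 1))))
        epi_g := inferInstanceAs (Epi (Groth.Agent.FormalFun.qπ M (I ^ (l + 1)))) }
    rw [Groth.Agent.CohFinite.hhMap_range_eq_ker (A := A) hS p]
    rfl
  rw [e, e, Submodule.span_eq, hc (k + 1) (by omega)]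

end Groth.Agent.S4461
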