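import Groth.Statements.S4464
import Groth.Agent.FormalFun.SteinUnibranch

set_option autoImplicit false
universe u
open Coherent

namespace Groth.Agent.S4464

open AlgebraicGeometry CategoryTheory in
/-- Let X and Y be locally Noetherian integral schemes, f : X → Y a proper dominant morphism, and
suppose that the algebraic closure of the function field R(Y) in R(X) is purely inseparable over
R(Y): every element of R(X) satisfying a nonzero polynomial over R(Y) has a p^e-th power coming from
R(Y), p being the characteristic exponent. Then for every point y of Y whose local ring is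
unibranch, the fibre X_y is connected and nonempty. -/
theorem result {X Y : Scheme.{u}} [IsIntegral X]
    [IsIntegral Y] [IsLocallyNoetherian X] [IsLocallyNoetherian Y] (f : X ⟶ Y) [IsProper f]
    (hdom : f.base (genericPoint X) ⤳ genericPoint Y)
    (hrad : ∀ x : X.functionField,
      (∃ q : Polynomial Y.functionField, q ≠ 0 ∧
        Polynomial.eval₂ (CohIII.stalkToFunctionField f (genericPoint Y) hdom) x q = 0) →
      ∃ e : ℕ, x ^ (ringExpChar X.functionField ^ e) ∈
        Set.range (CohIII.stalkToFunctionField f (genericPoint Y) hdom))
    (y : Y) (hy : CAlg2.IsUnibranch (Y.presheaf.stalk y)) :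
    ConnectedSpace ↥(f.fiber y) := by
  have hη : f.base (genericPoint X) = genericPoint Y := (hdom.antisymm (genericPoint_specializes _)).eq
  haveI : Nonempty (f.fiber y) := by
    have hmem : y ∈ Set.range f := by
      have hc := f.isClosedMap.isClosed_range
      exact (genericPoint_specializes y).mem_closed hc ⟨genericPoint X, hη⟩
    obtain ⟨x, hx⟩ := hmem
    exact ⟨(f.fiberHomeo y).symm ⟨x, hx⟩⟩
  letI := (CohIII.stalkToFunctionField f (genericPoint Y) hdom).toAlgebra
  have hbot : separableClosure Y.functionField X.functionField = ⊥ := by
    refine le_bot_iff.1 fun x hx => ?_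
    have hs : IsSeparable Y.functionField x := mem_separableClosure_iff.1 hx
    have hi := hs.isIntegral
    obtain ⟨e, he⟩ := hrad x ⟨minpoly _ x, minpoly.ne_zero hi, minpoly.aeval _ x⟩
    haveI : ExpChar Y.functionField (ringExpChar X.functionField) := by
      haveI := expChar_of_injective_ringHom (algebraMap Y.functionField X.functionField).injective
        (ringExpChar Y.functionField)
      rw [ringExpChar.eq X.functionField (ringExpChar Y.functionField)]
      exact ringExpChar.expChar _
    have h1 := IntermediateField.adjoin_simple_eq_adjoin_pow_expChar_pow_of_isSeparable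
      Y.functionField X.functionField hs (ringExpChar X.functionField) e
    have h2 : IntermediateField.adjoin Y.functionField {x ^ ringExpChar X.functionField ^ e} = ⊥ :=
      IntermediateField.adjoin_simple_eq_bot_iff.2 (IntermediateField.mem_bot.2 he)
    exact IntermediateField.adjoin_simple_eq_bot_iff.1 (h1.trans h2)
  haveI : FiniteDimensional Y.functionField (separableClosure Y.functionField X.functionField) := by
    rw [hbot]; infer_instance
  have h := Groth.Agent.FormalFun.mk_connectedComponents_le_of_isUnibranch f hdom y hy rfl
  rw [hbot, IntermediateField.finrank_bot, Nat.cast_one] at h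
  haveI : Subsingleton (_root_.ConnectedComponents (f.fiber y)) := Cardinal.le_one_iff_subsingleton.1 h
  haveI : PreconnectedSpace (f.fiber y) := preconnectedSpace_iff_connectedComponent.2 fun a =>
    Set.eq_univ_iff_forall.2 fun b => by
      rw [← ConnectedComponents.coe_eq_coe.1 (Subsingleton.elim (ConnectedComponents.mk b) (ConnectedComponents.mk a))]
      exact mem_connectedComponent
  exact ⟨inferInstance⟩

end Groth.Agent.S4464
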