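import Groth.Statements.S4474
import Groth.Agent.ProjUPLib.SpanGerms
import Groth.Agent.TensorMod.Restrict
import Groth.Agent.QCohBase.CohRestrict

set_option autoImplicit false
universe u
open Coherent

namespace Groth.Agent.S4474

open CategoryTheory CategoryTheory.Limits AlgebraicGeometry Opposite TopologicalSpace
open Groth.Agent Groth.Agent.QCohBase Groth.Agent.GenLocus

theorem eq_zero_of_gg {W : Scheme.{u}} {M P : W.Modules} (hM : Curv2.IsGloballyGenerated M) (g : M ⟶ P)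
    (h0 : ∀ t : Γ(M, ⊤), g.app ⊤ t = 0) : g = 0 := by
  obtain ⟨ι, p, hp⟩ := hM
  refine (cancel_epi p).1 (Eq.trans ?_ comp_zero.symm)
  refine Sigma.hom_ext (f := fun _ : ι => Coh.structureModule W) _ _ fun i => ?_
  let a : Coh.structureModule W ⟶ M := Sigma.ι (fun _ : ι => Coh.structureModule W) i ≫ p
  refine (Category.assoc _ _ _).symm.trans (Eq.trans ?_ comp_zero.symm)
  refine P.unitHomEquiv.injective (Subtype.ext (funext fun V => ?_))
  show sect (a ≫ g) V.unop = sect (0 : Coh.structureModule W ⟶ P) V.unop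
  rw [← mres_sect (a ≫ g) (le_top : V.unop ≤ ⊤), show sect (a ≫ g) ⊤ = g.app ⊤ (sect a ⊤) from rfl, h0,
    map_zero]
  rfl

theorem app_eq_zero_of_counit_comp {X Y : Scheme.{u}} (f : X ⟶ Y) {M P : X.Modules} (g : M ⟶ P)
    (h : (Scheme.Modules.pullbackPushforwardAdjunction f).counit.app M ≫ g = 0) (V : Y.Opens)
    (t : Γ(M, f ⁻¹ᵁ V)) : g.app (f ⁻¹ᵁ V) t = 0 := by
  let adj := Scheme.Modules.pullbackPushforwardAdjunction f
  have h1 : (Scheme.Modules.pushforward f).map g = 0 := by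
    rw [← Category.id_comp ((Scheme.Modules.pushforward f).map g), ← adj.right_triangle_components M,
      Category.assoc, ← Functor.map_comp, h, Functor.map_zero, comp_zero]
  exact congrArg (fun φ : (Scheme.Modules.pushforward f).obj M ⟶ (Scheme.Modules.pushforward f).obj P => φ.app V t) h1

theorem eq_zero_of_cover {X Y : Scheme.{u}} (f : X ⟶ Y) {ι : Type u} (V : ι → Y.Opens)
    (hcov : ∀ y, ∃ i, y ∈ V i) {M P : X.Modules} (g : M ⟶ P)
    (hgg : ∀ i, Curv2.IsGloballyGenerated (M.restrict (f ⁻¹ᵁ V i).ι))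
    (h0 : ∀ i (t : Γ(M, f ⁻¹ᵁ V i)), g.app (f ⁻¹ᵁ V i) t = 0) : g = 0 := by
  have hW : ∀ i, (Scheme.Modules.restrictFunctor (f ⁻¹ᵁ V i).ι).map g = 0 := fun i => by
    refine eq_zero_of_gg (hgg i) _ fun t => ?_
    have key : ∀ O : X.Opens, O = f ⁻¹ᵁ V i → ∀ t : Γ(M, O), g.app O t = 0 := by
      rintro _ rfl t
      exact h0 i t
    exact key _ (Scheme.Opens.ι_image_top _) t
  refine Scheme.Modules.hom_ext _ _ fun U => ?_
  ext t
  refine (eq_of_iSup_le P (fun i => U ⊓ f ⁻¹ᵁ V i) (fun i => inf_le_left) ?_ (g.app U t) 0 fun i => ?_)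
  · intro x hx
    obtain ⟨i, hi⟩ := hcov (f x)
    exact Opens.mem_iSup.2 ⟨i, hx, hi⟩
  · rw [map_zero, app_mres g (inf_le_left : U ⊓ f ⁻¹ᵁ V i ≤ U) t]
    generalize QCohBase.mres M (inf_le_left : U ⊓ f ⁻¹ᵁ V i ≤ U) t = w
    revert w
    rw [show U ⊓ f ⁻¹ᵁ V i = (f ⁻¹ᵁ V i).ι ''ᵁ ((f ⁻¹ᵁ V i).ι ⁻¹ᵁ U) by
      rw [Scheme.Hom.image_preimage_eq_opensRange_inf, Scheme.Opens.opensRange_ι, inf_comm]]
    intro w
    exact congrArg (fun φ : M.restrict (f ⁻¹ᵁ V i).ι ⟶ P.restrict (f ⁻¹ᵁ V i).ι => φ.app _ w) (hW i)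

theorem main {X Y : Scheme.{u}} (f : X ⟶ Y) [IsNoetherian Y] (L : X.Modules)
    (hamp : RelAmple.IsRelAmple f L) (F : X.Modules) (hF : Coh.IsCoh F) :
    ∃ N : ℕ, ∀ n : ℕ, N ≤ n →
      Epi ((Scheme.Modules.pullbackPushforwardAdjunction f).counit.app
        (CohB1.tensorMod F (CohB1.tensorPow L n))) := by
  classical
  obtain ⟨ι, hι, V, hV, hcov⟩ := exists_finite_affine_cover' Y
  haveI := hι
  have hev := Filter.eventually_all.2 fun i : ι => ProjUPLib.eventually_isGloballyGenerated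
    (hamp.2 ⟨V i, hV i⟩) (isCoh_restrict (f ⁻¹ᵁ V i).ι hF)
  obtain ⟨N, hN⟩ := Filter.eventually_atTop.1 hev
  refine ⟨N, fun n hn => Preadditive.epi_of_cancel_zero _ fun {P} g hg => ?_⟩
  refine eq_zero_of_cover (M := CohB1.tensorMod F (CohB1.tensorPow L n)) f V hcov g (fun i => ?_)
    fun i t => app_eq_zero_of_counit_comp f g hg (V i) t
  exact ProjUPLib.isGloballyGenerated_of_iso
    (TensorMod.tensorIso (Iso.refl _) (TensorMod.restrictPowIso _ L n).symm ≪≫
      (TensorMod.restrictTensorIso _ _ _).symm) (hN n hn i)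

open AlgebraicGeometry CategoryTheory in
/-- Let Y be a Noetherian scheme, f : X → Y a proper morphism, L an invertible O_X-module which is ample
relative to f, and F a coherent O_X-module. Then there is an integer N such that for every n ≥ N the
canonical morphism f^* f_* (F(n)) → F(n), the counit of the adjunction between f^* and f_*, is an
epimorphism, where F(n) = F ⊗ L^{⊗ n}. -/
theorem result {X Y : Scheme.{u}} (f : X ⟶ Y) [IsNoetherian Y] [IsProper f]
    (L : X.Modules) (hL : PicF.IsInvertible L) (hamp : RelAmple.IsRelAmple f L) (F : X.Modules)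
    (hF : Coh.IsCoh F) :
    ∃ N : ℕ, ∀ n : ℕ, N ≤ n →
      Epi ((Scheme.Modules.pullbackPushforwardAdjunction f).counit.app
        (CohB1.tensorMod F (CohB1.tensorPow L n))) := by
  exact Groth.Agent.S4474.main f L hamp F hF

end Groth.Agent.S4474
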