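import Groth.Statements.S4480
import Groth.Agent.FormalFun.Stein
import Groth.Agent.FormalFun.Fibration

set_option autoImplicit false
universe u
open Coherent

namespace Groth.Agent.S4480

open AlgebraicGeometry CategoryTheory in
/-- Let X and Y be locally Noetherian integral schemes and f : X → Y a proper dominant morphism such
that the function field R(Y) is algebraically closed in R(X) (every element of R(X) satisfying a
nonzero polynomial over R(Y) comes from R(Y)). Let y be a point of Y whose local ring is integrally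
closed (a normal point). Then the fibre X_y is geometrically connected over the residue field of y
(its base change to every field extension of that residue field is connected and nonempty; in
particular X_y is connected and nonempty), and there is an open neighbourhood U of y such that
O_Y(V) → O_X(f⁻¹V) is an isomorphism for every open V ⊆ U. -/
theorem result {X Y : Scheme.{u}}
    [IsIntegral X] [IsIntegral Y] [IsLocallyNoetherian X] [IsLocallyNoetherian Y] (f : X ⟶ Y) [IsProper f]
    (hdom : f.base (genericPoint X) ⤳ genericPoint Y)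
    (halg : ∀ x : X.functionField,
      (∃ q : Polynomial Y.functionField, q ≠ 0 ∧
        Polynomial.eval₂ (CohIII.stalkToFunctionField f (genericPoint Y) hdom) x q = 0) →
      x ∈ Set.range (CohIII.stalkToFunctionField f (genericPoint Y) hdom))
    (y : Y) (hy : IsIntegrallyClosed (Y.presheaf.stalk y)) :
    GeometricallyConnected (f.fiberToSpecResidueField y) ∧
      ∃ U : Y.Opens, y ∈ U ∧ ∀ V : Y.Opens, V ≤ U → IsIso (f.app V) := by
  classical
  have hη : f.base (genericPoint X) = genericPoint Y := (hdom.antisymm (genericPoint_specializes _)).eq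
  obtain ⟨_, ⟨U, hU, rfl⟩, hyU, -⟩ := Y.isBasis_affineOpens.exists_subset_of_mem_open (Set.mem_univ y) isOpen_univ
  change y ∈ U at hyU
  have hgY : genericPoint Y ∈ U := (genericPoint_specializes y).mem_open U.2 hyU
  have hgX : genericPoint X ∈ f ⁻¹ᵁ U := by
    show f.base (genericPoint X) ∈ U
    rw [hη]; exact hgY
  let ι := CohIII.stalkToFunctionField f (genericPoint Y) hdom
  let gX := X.presheaf.germ (f ⁻¹ᵁ U) (genericPoint X) hgX
  let gy := Y.presheaf.germ U y hyU
  have hgXinj : Function.Injective gX.hom := germ_injective_of_isIntegral (X := X) (genericPoint X) hgX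
  have hcomp : ∀ a, gX.hom (f.app U a) = ι (algebraMap (Y.presheaf.stalk y) Y.functionField (gy.hom a)) := fun a => by
    refine (FormalFun.germ_stalkToFunctionField f hdom U hgY hgX a).trans (congrArg ι ?_)
    show _ = (Y.presheaf.stalkSpecializes (genericPoint_specializes y)).hom (gy.hom a)
    rw [← CategoryTheory.ConcreteCategory.comp_apply gy, TopCat.Presheaf.germ_stalkSpecializes]
  letI : Algebra Γ(Y, U) Γ(X, f ⁻¹ᵁ U) := (f.app U).hom.toAlgebra
  haveI : Module.Finite Γ(Y, U) Γ(X, f ⁻¹ᵁ U) := RingHom.finite_algebraMap.1 (FormalFun.finite_app f hU)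
  letI : Algebra Γ(Y, U) (Y.presheaf.stalk y) := gy.hom.toAlgebra
  haveI : IsLocalization.AtPrime (Y.presheaf.stalk y) (hU.primeIdealOf ⟨y, hyU⟩).asIdeal :=
    hU.isLocalization_stalk ⟨y, hyU⟩
  let p := (hU.primeIdealOf ⟨y, hyU⟩).asIdeal
  -- every section upstairs has a multiple from downstairs
  have hone : ∀ c : Γ(X, f ⁻¹ᵁ U), ∃ s, s ∉ p ∧ ∃ a, f.app U s * c = f.app U a := by
    intro c
    obtain ⟨P, hP, hPc⟩ := IsIntegral.of_finite Γ(Y, U) c
    have h0 : Polynomial.eval₂ (ι.comp (algebraMap (Y.presheaf.stalk y) Y.functionField)) (gX.hom c) (P.map gy.hom) = 0 := by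
      rw [Polynomial.eval₂_map, show (ι.comp (algebraMap (Y.presheaf.stalk y) Y.functionField)).comp gy.hom
        = gX.hom.comp (f.app U).hom from RingHom.ext fun a => (hcomp a).symm, ← Polynomial.hom_eval₂]
      exact (congrArg gX.hom hPc).trans (map_zero _)
    obtain ⟨t, ht⟩ := halg (gX.hom c)
      ⟨(P.map gy.hom).map (algebraMap (Y.presheaf.stalk y) Y.functionField), ((hP.map _).map _).ne_zero,
        by rw [Polynomial.eval₂_map]; exact h0⟩
    have hint : IsIntegral (Y.presheaf.stalk y) t := by
      refine ⟨P.map gy.hom, hP.map _, RingHom.injective ι ?_⟩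
      rw [Polynomial.hom_eval₂, ht, map_zero]
      exact h0
    obtain ⟨b, hb⟩ := IsIntegrallyClosed.algebraMap_eq_of_integral hint
    obtain ⟨⟨a, s⟩, has⟩ := IsLocalization.surj p.primeCompl b
    refine ⟨s, s.2, a, hgXinj ?_⟩
    rw [map_mul, hcomp, hcomp, ← ht, ← hb, ← map_mul, ← map_mul, mul_comm, show gy.hom a = b * gy.hom (s : Γ(Y, U)) from has.symm]
  obtain ⟨G, hG⟩ := (Module.Finite.fg_top : (⊤ : Submodule Γ(Y, U) Γ(X, f ⁻¹ᵁ U)).FG)
  choose S hS A hA using hone
  let s := ∏ c ∈ G, S c
  have hs : s ∉ p := Submonoid.prod_mem p.primeCompl fun c _ => hS c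
  have hall : ∀ c, ∃ a, f.app U s * c = f.app U a := fun c => by
    have hc : c ∈ Submodule.span Γ(Y, U) (G : Set Γ(X, f ⁻¹ᵁ U)) := hG ▸ Submodule.mem_top
    induction hc using Submodule.span_induction with
    | mem c hc =>
      refine ⟨(∏ d ∈ G.erase c, S d) * A c, ?_⟩
      rw [show s = (∏ d ∈ G.erase c, S d) * S c from (Finset.prod_erase_mul _ _ hc).symm, map_mul, map_mul,
        mul_assoc, hA]
    | zero => exact ⟨0, by rw [mul_zero, map_zero]⟩
    | add x z _ _ hx hz =>
      obtain ⟨a, ha⟩ := hx; obtain ⟨b, hb⟩ := hz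
      exact ⟨a + b, by rw [mul_add, ha, hb, map_add]⟩
    | smul r x _ hx =>
      obtain ⟨a, ha⟩ := hx
      refine ⟨r * a, ?_⟩
      rw [Algebra.smul_def, mul_left_comm, ha, map_mul]; rfl
  let D := Y.basicOpen s
  have hyD : y ∈ D := by
    refine (Scheme.mem_basicOpen Y s y hyU).2 ?_
    exact IsLocalization.map_units (Y.presheaf.stalk y) (⟨s, hs⟩ : p.primeCompl)
  have hDU : D ≤ U := Y.basicOpen_le s
  have hgD : genericPoint Y ∈ D := (genericPoint_specializes y).mem_open D.2 hyD
  have hgXD : genericPoint X ∈ f ⁻¹ᵁ D := by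
    show f.base (genericPoint X) ∈ D
    rw [hη]; exact hgD
  have key : Function.Bijective (f.app D) := by
    refine ⟨fun a b hab => germ_injective_of_isIntegral (X := Y) (genericPoint Y) hgD (RingHom.injective ι ?_),
      fun z => ?_⟩
    · exact (FormalFun.germ_stalkToFunctionField f hdom D hgD hgXD a).symm.trans
        ((congrArg (X.presheaf.germ (f ⁻¹ᵁ D) (genericPoint X) hgXD).hom hab).trans
          (FormalFun.germ_stalkToFunctionField f hdom D hgD hgXD b))
    · haveI hOq := TensorMod.isQCoh_structureModule X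
      obtain ⟨n, c, hc⟩ := QCohBase.exists_pow_smul_eq_mres_of_qcqs (Coh.structureModule X) (V := f ⁻¹ᵁ U)
        (f.isCompact_preimage hU.isCompact) (f.isQuasiSeparated_preimage hU.isQuasiSeparated)
        (f.app U s) (Scheme.preimage_basicOpen f s) (f.preimage_mono hDU) z
      obtain ⟨a, ha⟩ := hall c
      have hu : IsUnit (QCohBase.ores hDU s) := RingedSpace.isUnit_res_basicOpen Y.toRingedSpace s
      obtain ⟨w, hw⟩ := (hu.pow (n + 1)).exists_right_inv
      have hres : ∀ t, QCohBase.ores (f.preimage_mono hDU) (f.app U t) = f.app D (QCohBase.ores hDU t) := fun t =>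
        (ConcreteCategory.congr_hom (f.naturality (homOfLE hDU).op) t).symm
      refine ⟨QCohBase.ores hDU a * w, ?_⟩
      have hc' : QCohBase.ores (f.preimage_mono hDU) (c : Γ(X, f ⁻¹ᵁ U)) =
          QCohBase.ores (f.preimage_mono hDU) (f.app U s) ^ n * z := hc
      have e : f.app D (QCohBase.ores hDU a) = f.app D (QCohBase.ores hDU s ^ (n + 1)) * z := by
        rw [← hres, ← ha, map_mul, hc', hres, map_pow, pow_succ']
        exact (mul_assoc _ _ _).symm
      rw [map_mul, e, mul_right_comm, ← map_mul, hw, map_one, one_mul]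
  haveI : IsLocallyNoetherian (D : Scheme.{u}) := inferInstance
  have hDaff : IsAffineOpen D := hU.basicOpen s
  haveI : IsAffine (D : Scheme.{u}) := hDaff
  have hiso := FormalFun.isIso_app_of_cover (f ∣_ D) (fun _ : Unit => (⊤ : (D : Scheme.{u}).Opens))
    (fun _ => isAffineOpen_top _) (fun _ => ⟨(), trivial⟩) (fun _ => by
      rw [morphismRestrict_app]
      have e : D.ι ''ᵁ ⊤ = D := by simp
      have : Function.Bijective (f.app (D.ι ''ᵁ ⊤)) := by rw [e]; exact key
      exact (ConcreteCategory.bijective_of_isIso (X.presheaf.map _)).comp this)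
  refine ⟨?_, D, hyD, fun V hV => ?_⟩
  · haveI := FormalFun.geometricallyConnected_of_isIso_app (f ∣_ D) hiso
    obtain ⟨t, ht⟩ : ∃ t : Spec (Y.residueField y) ⟶ D, t ≫ D.ι = Y.fromSpecResidueField y :=
      ⟨IsOpenImmersion.lift D.ι (Y.fromSpecResidueField y) (by
        rw [Scheme.range_fromSpecResidueField, Scheme.Opens.range_ι]
        exact Set.singleton_subset_iff.2 hyD), IsOpenImmersion.lift_fac _ _ _⟩
    have hP := isPullback_morphismRestrict f D
    let k : f.fiber y ⟶ f ⁻¹ᵁ D := hP.lift (f.fiberToSpecResidueField y ≫ t) (f.fiberι y) (by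
      rw [Category.assoc, ht]; exact Limits.pullback.condition.symm)
    have hsq : IsPullback k (f.fiberToSpecResidueField y) (f ∣_ D) t := by
      refine IsPullback.of_right (h₁₂ := (f ⁻¹ᵁ D).ι) (v₁₃ := f) (h₂₂ := D.ι) ?_ (hP.lift_fst _ _ _) hP.flip
      rw [hP.lift_snd, ht]
      exact IsPullback.of_hasPullback f (Y.fromSpecResidueField y)
    exact MorphismProperty.of_isPullback (P := @GeometricallyConnected) hsq inferInstance
  · have h : Function.Bijective ((f ∣_ D).app (D.ι ⁻¹ᵁ V)) := by
      haveI := hiso (D.ι ⁻¹ᵁ V); exact ConcreteCategory.bijective_of_isIso _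
    rw [morphismRestrict_app] at h
    have h2 : Function.Bijective (f.app (D.ι ''ᵁ D.ι ⁻¹ᵁ V)) :=
      (Function.Bijective.of_comp_iff' (ConcreteCategory.bijective_of_isIso (X.presheaf.map (eqToHom (image_morphismRestrict_preimage f D (D.ι ⁻¹ᵁ V))).op)) _).1 h
    rw [Scheme.Hom.image_preimage_eq_opensRange_inf, Scheme.Opens.opensRange_ι, inf_eq_right.2 hV] at h2
    exact (ConcreteCategory.isIso_iff_bijective _).2 h2

end Groth.Agent.S4480
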