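import Groth.Statements.S4484
import Groth.Agent.FormalFun.SteinUnibranch

set_option autoImplicit false
universe u
open Coherent

namespace Groth.Agent.S4484

open AlgebraicGeometry CategoryTheory in
/-- Let X and Y be locally Noetherian integral schemes and f : X → Y a proper dominant morphism; regard
the function field R(X) as an extension of R(Y) through f. Suppose that the algebraic closure of
R(Y) in R(X) has finite separable degree n over R(Y). Then for every point y of Y whose local ring
is unibranch, the fibre X_y has finitely many, and at most n, connected components. -/
theorem result {X Y : Scheme.{u}} [IsIntegral X]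
    [IsIntegral Y] [IsLocallyNoetherian X] [IsLocallyNoetherian Y] (f : X ⟶ Y) [IsProper f]
    (hdom : f.base (genericPoint X) ⤳ genericPoint Y) [Algebra Y.functionField X.functionField]
    (halg : algebraMap Y.functionField X.functionField = CohIII.stalkToFunctionField f (genericPoint Y) hdom)
    (n : ℕ) (hn0 : 0 < n)
    (hn : Field.finSepDegree Y.functionField ↥(algebraicClosure Y.functionField X.functionField) = n)
    (y : Y) (hy : CAlg2.IsUnibranch (Y.presheaf.stalk y)) :
    Finite (_root_.ConnectedComponents ↥(f.fiber y)) ∧
      Nat.card (_root_.ConnectedComponents ↥(f.fiber y)) ≤ n := by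
  have hla : ∀ x : separableClosure Y.functionField X.functionField,
      (x : X.functionField) ∈ algebraicClosure Y.functionField X.functionField := fun x =>
    mem_algebraicClosure_iff'.2 (mem_separableClosure_iff.1 x.2).isIntegral
  let La := algebraicClosure Y.functionField X.functionField
  let Sa := separableClosure Y.functionField La
  let i₀ : separableClosure Y.functionField X.functionField →ₐ[Y.functionField] La :=
    AlgHom.codRestrict (separableClosure Y.functionField X.functionField).val La.toSubalgebra hla
  let i : separableClosure Y.functionField X.functionField →ₐ[Y.functionField] Sa :=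
    AlgHom.codRestrict i₀ Sa.toSubalgebra fun x => mem_separableClosure_iff.2
        (IsSeparable.of_algHom La.val (mem_separableClosure_iff.1 x.2))
  have hrank : Module.finrank Y.functionField Sa = n := by
    rw [← hn, Field.finSepDegree_eq]; rfl
  haveI : FiniteDimensional Y.functionField Sa := Module.finite_of_finrank_pos (by omega)
  have hi : Function.Injective i := fun a b h => Subtype.ext (congrArg (fun z : Sa => ((z : La) : X.functionField)) h)
  haveI : FiniteDimensional Y.functionField (separableClosure Y.functionField X.functionField) :=
    FiniteDimensional.of_injective i.toLinearMap hi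
  have hle : Module.finrank Y.functionField (separableClosure Y.functionField X.functionField) ≤ n :=
    hrank ▸ LinearMap.finrank_le_finrank_of_injective (f := i.toLinearMap) hi
  have h := (Groth.Agent.FormalFun.mk_connectedComponents_le_of_isUnibranch f hdom y hy halg).trans
    (Nat.cast_le.2 hle)
  haveI : Finite (_root_.ConnectedComponents (f.fiber y)) :=
    Cardinal.lt_aleph0_iff_finite.1 (h.trans_lt Cardinal.natCast_lt_aleph0)
  refine ⟨inferInstance, ?_⟩
  have h' : (Nat.card (_root_.ConnectedComponents (f.fiber y)) : Cardinal) ≤ n := by
    rw [Nat.cast_card]; exact h
  exact_mod_cast h'

end Groth.Agent.S4484
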