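import Groth.Statements.S4485
import Groth.Agent.FlatComplex.Unit
-- import your own Groth.Agent.* helpers here

set_option autoImplicit false
universe u
open FlatCx

namespace Groth.Agent.S4485

open CategoryTheory CategoryTheory.Limits in
/-- For the homological functor T_p(M) = H_p(P ⊗_A M) of a chain complex P of flat modules over a
commutative ring A. If T_p takes injections to injections and surjections to surjections and T_p(A)
is a finitely presented A-module, then the function x ↦ dim_{k(x)} H_p(P ⊗_A k(x)) is locally
constant on Spec A (hence constant when Spec A is connected). No Noetherian hypothesis on A. -/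
theorem result {A : Type u} [CommRing A]
    (P : ChainComplex (ModuleCat.{u} A) ℤ) (hP : ∀ i, Module.Flat A (P.X i)) (p : ℤ)
    (hex : (CohIII.TFun P p).PreservesMonomorphisms ∧ (CohIII.TFun P p).PreservesEpimorphisms)
    (hfp : Module.FinitePresentation A (CohIII.T P p (ModuleCat.of A A))) :
    IsLocallyConstant (CohIII.dRank P p) := by
  open TensorProduct in
  obtain ⟨iso⟩ := FlatComplex.exists_iso_tensorLeft P hP hex.2
  let H := LinearMap.ker (FlatComplex.dbar P (p + 1) p (p - 1))
  obtain ⟨eH⟩ := FlatComplex.nonempty_T_self_equiv P (rfl : p + 1 = p + 1) (sub_add_cancel p 1)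
  haveI : Module.FinitePresentation A ((CohIII.TFun P p).obj (ModuleCat.of A A)) := hfp
  have : Module.FinitePresentation A H := Module.FinitePresentation.of_equiv eH
  have : Module.Flat A H := by
    have := (FlatComplex.preservesMono_iff_flat_self P hP hex.2).mp hex.1
    exact Module.Flat.of_linearEquiv eH.symm
  rw [show CohIII.dRank P p = fun x => Module.rankAtStalk (R := A) H x from ?_]
  · exact Module.isLocallyConstant_rankAtStalk
  funext x
  rw [← FlatComplex.fiberDim_eq_rankAtStalk]
  obtain ⟨b⟩ := FlatComplex.nonempty_bc_homology_iso P x.asIdeal.ResidueField p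
  let f : ((CohIII.bcCx (algebraMap A x.asIdeal.ResidueField) P).homology p) ≃+ (TensorProduct A x.asIdeal.ResidueField H) :=
    ((b ≪≫ iso.app (ModuleCat.of A x.asIdeal.ResidueField)).toLinearEquiv.toAddEquiv).trans
      (TensorProduct.comm A H x.asIdeal.ResidueField).toAddEquiv
  have hf : ∀ (a : A) v, f (algebraMap A x.asIdeal.ResidueField a • v) = algebraMap A x.asIdeal.ResidueField a • f v := by
    intro a v
    have h1 := ((b ≪≫ iso.app (ModuleCat.of A x.asIdeal.ResidueField)).toLinearEquiv.trans
      (TensorProduct.comm A H x.asIdeal.ResidueField)).map_smul a v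
    exact h1.trans (algebraMap_smul _ a _).symm
  let g : ((CohIII.bcCx (algebraMap A x.asIdeal.ResidueField) P).homology p) ≃ₗ[x.asIdeal.ResidueField]
      (TensorProduct A x.asIdeal.ResidueField H) :=
    { f with map_smul' := fun k v => FlatComplex.residueField_linear x f.toAddMonoidHom hf k v }
  exact g.finrank_eq

end Groth.Agent.S4485
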