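import Groth.Statements.S4487
import Groth.Agent.FlatComplex.Generic
import Mathlib.RingTheory.Spectrum.Prime.Noetherian
-- import your own Groth.Agent.* helpers here

set_option autoImplicit false
universe u
open FlatCx

namespace Groth.Agent.S4487

open CategoryTheory CategoryTheory.Limits in
/-- The case of the homological functor T_p(M) = H_p(P ⊗_A M) of a chain complex P of flat modules over
a commutative ring A. Let A be Noetherian and suppose P_i = 0 for i < i₀ and that every T_n(A) is a
finitely generated A-module. Then for every integer N there is a dense open subset U of Spec A such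
that, for every p ≤ N, the function x ↦ dim_{k(x)} H_p(P ⊗_A k(x)) is locally constant on U. (The
published statement says constant on U; over the product of two fields, with P the projective module
supported on one factor placed in degree 0, the only dense open set is the whole two-point spectrum
and the ranks there are 1 and 0, so locally constant on U is what holds; the argument produces U as
a disjoint union of opens, one dense in each irreducible component, on each of which the functions
are constant.) -/
theorem result {A : Type u} [CommRing A] [IsNoetherianRing A]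
    (P : ChainComplex (ModuleCat.{u} A) ℤ) (hP : ∀ i, Module.Flat A (P.X i)) (i₀ : ℤ)
    (hb : ∀ i < i₀, IsZero (P.X i))
    (hfg : ∀ n : ℤ, Module.Finite A (CohIII.T P n (ModuleCat.of A A))) (N : ℤ) :
    ∃ U : Set (PrimeSpectrum A), IsOpen U ∧ Dense U ∧
      ∀ p ≤ N, IsLocallyConstant (fun x : U => CohIII.dRank P p x) := by
  classical
  open TensorProduct in
  let s := (minimalPrimes.finite_of_isNoetherianRing A).toFinset
  have hP' : ∀ (B : Type u) [CommRing B] [Algebra A B] (i : ℤ), Module.Flat B ((CohIII.bcCx (algebraMap A B) P).X i) :=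
    fun B _ _ i => FlatComplex.flat_bcCx_X P hP B (algebraMap A B) rfl i
  have key : ∀ x : PrimeSpectrum A, x.asIdeal ∈ minimalPrimes A →
      ∃ U : Set (PrimeSpectrum A), IsOpen U ∧ x ∈ U ∧ ∀ y ∈ U, ∀ p ≤ N, CohIII.dRank P p y = CohIII.dRank P p x := by
    intro x hx
    let B := A ⧸ x.asIdeal
    let Q := CohIII.bcCx (algebraMap A B) P
    have hQb : ∀ i < i₀, IsZero (Q.X i) := fun i hi =>
      (ModuleCat.extendScalars (algebraMap A B)).map_isZero (hb i hi)
    have hQfp : ∀ n : ℤ, Module.FinitePresentation B (Q.homology n) := by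
      intro n
      obtain ⟨b⟩ := FlatComplex.nonempty_bc_homology_iso P B n
      haveI := FlatComplex.finite_T P hP i₀ hb hfg (n - i₀ + 1).toNat n (by omega) (ModuleCat.of A B)
      have hfinA : Module.Finite A ((ModuleCat.restrictScalars (algebraMap A B)).obj (Q.homology n)) :=
        Module.Finite.equiv b.toLinearEquiv.symm
      letI : Module A (Q.homology n) := Module.compHom _ (algebraMap A B)
      haveI : IsScalarTower A B (Q.homology n) := IsScalarTower.of_algebraMap_smul fun _ _ => rfl
      haveI : Module.Finite A (Q.homology n) := hfinA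
      haveI : Module.Finite B (Q.homology n) := Module.Finite.of_restrictScalars_finite A B _
      exact Module.finitePresentation_of_finite _ _
    obtain ⟨g, hg, hex⟩ := FlatComplex.exists_away_exact Q (hP' B) i₀ hQb hQfp N
    obtain ⟨f, rfl⟩ := Ideal.Quotient.mk_surjective g
    have hfx : f ∉ x.asIdeal := fun hf => hg (Ideal.Quotient.eq_zero_iff_mem.mpr hf)
    let U : Set (PrimeSpectrum A) := (PrimeSpectrum.basicOpen f : Set (PrimeSpectrum A)) ∩
      (⋃ y ∈ {y : PrimeSpectrum A | y.asIdeal ∈ minimalPrimes A ∧ y ≠ x}, PrimeSpectrum.zeroLocus (y.asIdeal : Set A))ᶜ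
    have hfin : {y : PrimeSpectrum A | y.asIdeal ∈ minimalPrimes A ∧ y ≠ x}.Finite :=
      ((minimalPrimes.finite_of_isNoetherianRing A).preimage (fun a _ b _ h => PrimeSpectrum.ext h)).subset fun y hy => hy.1
    refine ⟨U, (PrimeSpectrum.basicOpen f).isOpen.inter (hfin.isClosed_biUnion fun y _ => PrimeSpectrum.isClosed_zeroLocus _).isOpen_compl,
      ⟨hfx, fun hc => ?_⟩, fun y ⟨hyf, hy⟩ p hp => ?_⟩
    · obtain ⟨z, hz, hzx⟩ := Set.mem_iUnion₂.mp hc
      exact hz.2 (PrimeSpectrum.ext (le_antisymm hzx (hx.2 ⟨z.2, bot_le⟩ hzx)))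
    have hxy : x.asIdeal ≤ y.asIdeal := by
      obtain ⟨P', hP'', hle⟩ := Ideal.exists_minimalPrimes_le (bot_le : (⊥ : Ideal A) ≤ y.asIdeal)
      by_cases he : (⟨P', hP''.1.1⟩ : PrimeSpectrum A) = x
      · rw [← he]; exact hle
      · exact absurd (Set.mem_iUnion₂.mpr ⟨⟨P', hP''.1.1⟩, ⟨hP'', he⟩, hle⟩) hy
    let C := Localization.Away (Ideal.Quotient.mk x.asIdeal f)
    let R := CohIII.bcCx (algebraMap B C) Q
    have hpt : ∀ z : PrimeSpectrum A, x.asIdeal ≤ z.asIdeal → f ∉ z.asIdeal → ∃ w : PrimeSpectrum C,
        PrimeSpectrum.comap (algebraMap A B) (PrimeSpectrum.comap (algebraMap B C) w) = z := by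
      intro z hz hfz
      obtain ⟨v, hv⟩ : z ∈ Set.range (PrimeSpectrum.comap (Ideal.Quotient.mk x.asIdeal)) := by
        rw [range_comap_of_surjective _ _ Ideal.Quotient.mk_surjective, Ideal.mk_ker]
        exact hz
      obtain ⟨w, hw⟩ : v ∈ Set.range (PrimeSpectrum.comap (algebraMap B C)) := by
        rw [PrimeSpectrum.localization_away_comap_range C (Ideal.Quotient.mk x.asIdeal f)]
        intro hmem
        exact hfz (hv ▸ hmem)
      exact ⟨w, by rw [hw]; exact hv⟩
    obtain ⟨w, hw⟩ := hpt y hxy hyf
    obtain ⟨w', hw'⟩ := hpt x le_rfl hfx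
    refine ((congrArg (CohIII.dRank P p) hw).symm.trans ?_).trans (congrArg (CohIII.dRank P p) hw')
    rw [← FlatComplex.dRank_bcCx P, ← FlatComplex.dRank_bcCx P, ← FlatComplex.dRank_bcCx Q, ← FlatComplex.dRank_bcCx Q]
    obtain ⟨hm, he⟩ := hex p hp
    have hRfl : ∀ i, Module.Flat C (R.X i) := fun i => FlatComplex.flat_bcCx_X Q (hP' B) C (algebraMap B C) rfl i
    rw [FlatComplex.dRank_eq_fiberDim_of_epi R hRfl he, FlatComplex.dRank_eq_fiberDim_of_epi R hRfl he]
    let H := LinearMap.ker (FlatComplex.dbar R (p + 1) p (p - 1))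
    obtain ⟨eH⟩ := FlatComplex.nonempty_T_self_equiv R (rfl : p + 1 = p + 1) (sub_add_cancel p 1)
    haveI : Module.Flat C H := by
      have := (FlatComplex.preservesMono_iff_flat_self R hRfl he).mp hm
      exact Module.Flat.of_linearEquiv eH.symm
    haveI : Module.Finite C H := by
      haveI := hQfp p
      let F := ModuleCat.extendScalars.{u, u, u} (algebraMap B C)
      have hflC : (algebraMap B C).Flat := by
        rw [RingHom.flat_algebraMap_iff]; exact IsLocalization.flat C (Submonoid.powers (Ideal.Quotient.mk x.asIdeal f))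
      have := ModuleCat.preservesFiniteLimits_extendScalars_of_flat hflC
      have : PreservesFiniteColimits F :=
        have := (ModuleCat.extendRestrictScalarsAdj (algebraMap B C)).leftAdjoint_preservesColimits
        inferInstance
      have : F.PreservesHomology := inferInstance
      obtain ⟨e⟩ := FlatComplex.exists_extendScalarsEquiv (algebraMap B C) (Q.homology p)
      obtain ⟨u⟩ := FlatComplex.nonempty_T_unit_iso R p
      rw [show (algebraMap B C).toAlgebra = (inferInstance : Algebra B C) from Algebra.algebra_ext _ _ fun _ => rfl] at e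
      exact Module.Finite.equiv (e.trans ((u ≪≫ (Q.sc p).mapHomologyIso F).toLinearEquiv.symm.trans eH))
    have hconst : IsLocallyConstant (fun z : PrimeSpectrum C => FlatComplex.fiberDim H z) := by
      haveI : Module.FinitePresentation C H := Module.finitePresentation_of_finite _ _
      rw [show (fun z : PrimeSpectrum C => FlatComplex.fiberDim H z) = fun z => Module.rankAtStalk (R := C) H z from
        funext (FlatComplex.fiberDim_eq_rankAtStalk H)]
      exact Module.isLocallyConstant_rankAtStalk
    haveI : x.asIdeal.IsPrime := x.2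
    haveI : IsDomain C := IsLocalization.isDomain_of_le_nonZeroDivisors C (powers_le_nonZeroDivisors_of_noZeroDivisors hg)
    exact hconst.apply_eq_of_preconnectedSpace w w'
  choose U hU hxU hUeq using key
  refine ⟨⋃ (x : PrimeSpectrum A) (hx : x.asIdeal ∈ minimalPrimes A), U x hx, isOpen_iUnion fun x => isOpen_iUnion fun hx => hU x hx, ?_, ?_⟩
  · intro y
    obtain ⟨P', hP'', hle⟩ := Ideal.exists_minimalPrimes_le (bot_le : (⊥ : Ideal A) ≤ y.asIdeal)
    let x : PrimeSpectrum A := ⟨P', hP''.1.1⟩
    exact ((PrimeSpectrum.le_iff_specializes x y).mp hle).mem_closed isClosed_closure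
      (subset_closure (Set.mem_iUnion₂.mpr ⟨x, hP'', hxU x hP''⟩))
  intro p hp
  refine (IsLocallyConstant.iff_eventually_eq _).mpr fun y => ?_
  obtain ⟨x, hx, hy⟩ := Set.mem_iUnion₂.mp y.2
  filter_upwards [continuous_subtype_val.continuousAt.preimage_mem_nhds ((hU x hx).mem_nhds hy)] with z hz
  rw [hUeq x hx z.1 hz p hp, hUeq x hx y.1 hy p hp]

end Groth.Agent.S4487
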