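import Groth.Statements.S4488
import Groth.Agent.FlatComplex.Generic
-- import your own Groth.Agent.* helpers here

set_option autoImplicit false
universe u
open FlatCx

namespace Groth.Agent.S4488

open CategoryTheory CategoryTheory.Limits in
/-- For the homological functor T_q(M) = H_q(P ⊗_A M) of a chain complex P of flat modules over a
commutative local ring A with residue field k. Suppose P_i = 0 for i < i₀ and that every T_n(A) is a
finitely presented A-module, and let p be an integer. If T_q takes injections to injections and
surjections to surjections for every q ≤ p, then dim_{k(x)} T_q(k(x)) = dim_k T_q(k) for every point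
x of Spec A and every q ≤ p. Conversely, if A is reduced and this equality holds at the generic
point of every irreducible component of Spec A (every minimal prime) for every q ≤ p, then T_q takes
injections to injections and surjections to surjections for every q ≤ p. No Noetherian hypothesis on
A. -/
theorem result {A : Type u} [CommRing A] [IsLocalRing A]
    (P : ChainComplex (ModuleCat.{u} A) ℤ) (hP : ∀ i, Module.Flat A (P.X i)) (i₀ : ℤ)
    (hb : ∀ i < i₀, IsZero (P.X i))
    (hfp : ∀ n : ℤ, Module.FinitePresentation A (CohIII.T P n (ModuleCat.of A A))) (p : ℤ) :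
    ((∀ q ≤ p, (CohIII.TFun P q).PreservesMonomorphisms ∧ (CohIII.TFun P q).PreservesEpimorphisms) →
        ∀ (x : PrimeSpectrum A), ∀ q ≤ p, CohIII.dRank P q x = CohIII.dRank P q (IsLocalRing.closedPoint A)) ∧
      (IsReduced A →
        (∀ x : PrimeSpectrum A, x.asIdeal ∈ minimalPrimes A →
          ∀ q ≤ p, CohIII.dRank P q x = CohIII.dRank P q (IsLocalRing.closedPoint A)) →
        ∀ q ≤ p, (CohIII.TFun P q).PreservesMonomorphisms ∧ (CohIII.TFun P q).PreservesEpimorphisms) := by
  have hH : ∀ q, Module.FinitePresentation A (LinearMap.ker (FlatComplex.dbar P (q + 1) q (q - 1))) := fun q => by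
    obtain ⟨e⟩ := FlatComplex.nonempty_T_self_equiv P (rfl : q + 1 = q + 1) (sub_add_cancel q 1)
    haveI : Module.FinitePresentation A ((CohIII.TFun P q).obj (ModuleCat.of A A)) := hfp q
    exact Module.FinitePresentation.of_equiv e
  have hflat : ∀ q, (CohIII.TFun P q).PreservesEpimorphisms → ((CohIII.TFun P q).PreservesMonomorphisms ↔
      Module.Flat A (LinearMap.ker (FlatComplex.dbar P (q + 1) q (q - 1)))) := fun q he => by
    obtain ⟨e⟩ := FlatComplex.nonempty_T_self_equiv P (rfl : q + 1 = q + 1) (sub_add_cancel q 1)
    rw [FlatComplex.preservesMono_iff_flat_self P hP he, Module.Flat.equiv_iff e]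
  refine ⟨fun h x q hq => ?_, fun hred h => ?_⟩
  · have := hH q
    have := (hflat q (h q hq).2).mp (h q hq).1
    have : Module.Free A (LinearMap.ker (FlatComplex.dbar P (q + 1) q (q - 1))) := Module.free_of_flat_of_isLocalRing
    rw [FlatComplex.dRank_eq_fiberDim_of_epi P hP (h q hq).2, FlatComplex.dRank_eq_fiberDim_of_epi P hP (h q hq).2,
      FlatComplex.fiberDim_eq_of_free, FlatComplex.fiberDim_eq_of_free]
  have hmono : ∀ q ≤ p, (CohIII.TFun P q).PreservesEpimorphisms → (CohIII.TFun P q).PreservesMonomorphisms := by
    intro q hq he
    have := hH q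
    have : Module.Free A (LinearMap.ker (FlatComplex.dbar P (q + 1) q (q - 1))) :=
      FlatComplex.free_of_fiberDim_eq _ fun x hx => by
        rw [← FlatComplex.dRank_eq_fiberDim_of_epi P hP he, ← FlatComplex.dRank_eq_fiberDim_of_epi P hP he]
        exact h x hx q hq
    exact (hflat q he).mpr inferInstance
  have hepi : ∀ (n : ℕ) (q : ℤ), q ≤ p → q ≤ i₀ + n → (CohIII.TFun P q).PreservesEpimorphisms := by
    intro n
    induction n with
    | zero =>
      intro q _ hq
      rw [FlatComplex.preservesEpi_iff_flat P (sub_add_cancel q 1) (hP _) (hP _)]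
      have := ModuleCat.subsingleton_of_isZero (hb (q - 1) (by omega))
      infer_instance
    | succ n ih =>
      intro q hq hqn
      have hm := hmono (q - 1) (by omega) (ih (q - 1) (by omega) (by omega))
      rw [FlatComplex.preservesMono_iff_flat P (sub_add_cancel q 1) (hP _)] at hm
      exact (FlatComplex.preservesEpi_iff_flat P (sub_add_cancel q 1) (hP _) (hP _)).mpr hm
  intro q hq
  have he := hepi (q - i₀).toNat q hq (by omega)
  exact ⟨hmono q hq he, he⟩

end Groth.Agent.S4488
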