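import Groth.Statements.S4489
import Mathlib.RingTheory.Flat.TorsionFree
import Groth.Agent.FlatComplex.Unit
-- import your own Groth.Agent.* helpers here

set_option autoImplicit false
universe u
open FlatCx

namespace Groth.Agent.S4489

open CategoryTheory CategoryTheory.Limits in
/-- For the homological functor T_p(M) = H_p(P ⊗_A M) of a chain complex P of flat modules, stated over
a Dedekind domain A. (The published statement allows A to be a finite product of Dedekind domains,
that is, a Noetherian regular ring of dimension at most 1; this row takes A a Dedekind domain.) Then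
T_p takes injections to injections if and only if H_p(P) is a flat A-module; and, with q + 1 = p,
T_p takes injections to injections and surjections to surjections if and only if H_p(P) and H_q(P)
are both flat. -/
theorem result {A : Type u} [CommRing A] [IsDedekindDomain A]
    (P : ChainComplex (ModuleCat.{u} A) ℤ) (hP : ∀ i, Module.Flat A (P.X i)) (p q : ℤ) (hpq : q + 1 = p) :
    ((CohIII.TFun P p).PreservesMonomorphisms ↔ Module.Flat A (P.homology p)) ∧
      (((CohIII.TFun P p).PreservesMonomorphisms ∧ (CohIII.TFun P p).PreservesEpimorphisms) ↔
        (Module.Flat A (P.homology p) ∧ Module.Flat A (P.homology q))) := by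
  have hflatsub : ∀ {M : Type u} [AddCommGroup M] [Module A M] [Module.Flat A M] (N : Submodule A M), Module.Flat A N :=
    fun {M} _ _ _ N => inferInstance
  have hmono : ∀ r : ℤ, (CohIII.TFun P r).PreservesMonomorphisms ↔ Module.Flat A (P.homology r) := fun r => by
    obtain ⟨e⟩ := FlatComplex.nonempty_T_self_equiv P (rfl : r + 1 = r + 1) (sub_add_cancel r 1)
    obtain ⟨u⟩ := FlatComplex.nonempty_T_unit_iso P r
    rw [Module.Flat.equiv_iff (u.symm.toLinearEquiv.trans e), FlatComplex.preservesMono_iff_flat P (rfl : r + 1 = r + 1) (hP _)]
    have hI : Module.Flat A (LinearMap.range (FlatComplex.dbar P (r + 1) r (r - 1))) := by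
      have := hP (r - 1)
      exact hflatsub _
    rw [← FlatComplex.flat_ker_iff _ (FlatComplex.dbar P (r + 1) r (r - 1)).surjective_rangeRestrict,
      LinearMap.ker_rangeRestrict]
  refine ⟨hmono p, ?_⟩
  rw [FlatComplex.preservesEpi_iff_preservesMono P hP hpq, hmono, hmono]

end Groth.Agent.S4489
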