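import Groth.Statements.S4492
import Mathlib.RingTheory.Length
import Mathlib.Algebra.Category.ModuleCat.Simple
import Mathlib.Algebra.Homology.ShortComplex.ModuleCat

set_option autoImplicit false
universe u
open FlatCx

namespace Groth.Agent.S4492

theorem len_ker_range {B M N : Type u} [Ring B] [AddCommGroup M] [Module B M] [AddCommGroup N] [Module B N]
    (f : M →ₗ[B] N) :
    Module.length B M = Module.length B (LinearMap.ker f) + Module.length B (LinearMap.range f) :=
  Module.length_eq_add_of_exact (LinearMap.ker f).subtype f.rangeRestrict Subtype.val_injective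
    f.surjective_rangeRestrict
    (LinearMap.exact_iff.2 (by rw [LinearMap.ker_rangeRestrict, Submodule.range_subtype]))

theorem len_exact {B M N P : Type u} [Ring B] [AddCommGroup M] [Module B M] [AddCommGroup N] [Module B N]
    [AddCommGroup P] [Module B P] (f : M →ₗ[B] N) (g : N →ₗ[B] P) (h : Function.Exact f g) :
    Module.length B N = Module.length B (LinearMap.range f) + Module.length B (LinearMap.range g) := by
  rw [len_ker_range g, h.linearMap_ker_eq]

theorem len_exact_le {B M N P : Type u} [Ring B] [AddCommGroup M] [Module B M] [AddCommGroup N] [Module B N]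
    [AddCommGroup P] [Module B P] (f : M →ₗ[B] N) (g : N →ₗ[B] P) (h : Function.Exact f g) :
    Module.length B N ≤ Module.length B M + Module.length B P := by
  rw [len_exact f g h]
  exact add_le_add (Module.length_le_of_surjective _ f.surjective_rangeRestrict)
    (Module.length_le_of_injective (LinearMap.range g).subtype Subtype.val_injective)

theorem len_exact_eq {B M N P : Type u} [Ring B] [AddCommGroup M] [Module B M] [AddCommGroup N] [Module B N]
    [AddCommGroup P] [Module B P] (f : M →ₗ[B] N) (g : N →ₗ[B] P) (h : Function.Exact f g)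
    (hM : Module.length B M ≠ ⊤) (hP : Module.length B P ≠ ⊤)
    (he : Module.length B N = Module.length B M + Module.length B P) :
    Function.Injective f ∧ Function.Surjective g := by
  have hc : Module.length B P =
      Module.length B (LinearMap.range g) + Module.length B (P ⧸ LinearMap.range g) :=
    Module.length_eq_add_of_exact (LinearMap.range g).subtype (LinearMap.range g).mkQ Subtype.val_injective
      (Submodule.mkQ_surjective _) (LinearMap.exact_subtype_mkQ _)
  have e := (len_exact f g h).symm.trans he
  have hsum : Module.length B (LinearMap.ker f) + Module.length B (P ⧸ LinearMap.range g) = 0 := by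
    rw [len_ker_range f] at hM
    rw [hc] at hP
    rw [len_ker_range f, hc] at e
    revert hM hP e
    generalize Module.length B (LinearMap.ker f) = a
    generalize Module.length B (LinearMap.range f) = b
    generalize Module.length B (LinearMap.range g) = c
    generalize Module.length B (P ⧸ LinearMap.range g) = d
    intro hM hP e
    obtain ⟨a, rfl⟩ := ENat.ne_top_iff_exists.1 (WithTop.add_ne_top.1 hM).1
    obtain ⟨b, rfl⟩ := ENat.ne_top_iff_exists.1 (WithTop.add_ne_top.1 hM).2
    obtain ⟨c, rfl⟩ := ENat.ne_top_iff_exists.1 (WithTop.add_ne_top.1 hP).1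
    obtain ⟨d, rfl⟩ := ENat.ne_top_iff_exists.1 (WithTop.add_ne_top.1 hP).2
    norm_cast at e ⊢
    omega
  rw [add_eq_zero, Module.length_eq_zero_iff, Module.length_eq_zero_iff] at hsum
  exact ⟨LinearMap.ker_eq_bot.1 (Submodule.subsingleton_iff_eq_bot.1 hsum.1),
    LinearMap.range_eq_top.1 (Submodule.Quotient.subsingleton_iff.1 hsum.2)⟩

open CategoryTheory CategoryTheory.Limits in
/-- (The published statement is for arbitrary abelian categories; this row is for functors between
module categories.) Let F be an additive functor from A-modules to B-modules which is half exact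
(every short exact sequence 0 → E' → E → E'' → 0 goes to a sequence F(E') → F(E) → F(E'') exact at
the middle) and such that F(S) has finite length for every simple A-module S. Then F(E) has finite
length for every A-module E of finite length; and for every short exact sequence 0 → E' → E → E'' →
0 of A-modules with E of finite length one has length F(E) ≤ length F(E') + length F(E''), with
equality if and only if 0 → F(E') → F(E) → F(E'') → 0 is (short) exact. Lengths are Mathlib's,
valued in ℕ∞. -/
theorem result {A B : Type u} [Ring A] [Ring B]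
    (F : ModuleCat.{u} A ⥤ ModuleCat.{u} B) [F.Additive]
    (hF : ∀ S : ShortComplex (ModuleCat.{u} A), S.ShortExact → (S.map F).Exact)
    (hS : ∀ M : ModuleCat.{u} A, IsSimpleModule A M → Module.length B (F.obj M) ≠ ⊤) :
    (∀ E : ModuleCat.{u} A, Module.length A E ≠ ⊤ → Module.length B (F.obj E) ≠ ⊤) ∧
      ∀ S : ShortComplex (ModuleCat.{u} A), S.ShortExact → Module.length A S.X₂ ≠ ⊤ →
        Module.length B (F.obj S.X₂) ≤ Module.length B (F.obj S.X₁) + Module.length B (F.obj S.X₃) ∧
          (Module.length B (F.obj S.X₂) = Module.length B (F.obj S.X₁) + Module.length B (F.obj S.X₃) ↔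
            (S.map F).ShortExact) := by
  classical
  have hex : ∀ (S : ShortComplex (ModuleCat.{u} B)), S.Exact → Function.Exact S.f.hom S.g.hom :=
    fun S hS => LinearMap.exact_iff.2 hS.moduleCat_range_eq_ker.symm
  have hle : ∀ (S : ShortComplex (ModuleCat.{u} A)), S.ShortExact →
      Module.length B (F.obj S.X₂) ≤ Module.length B (F.obj S.X₁) + Module.length B (F.obj S.X₃) :=
    fun S hS => len_exact_le (S.map F).f.hom (S.map F).g.hom (hex (S.map F) (hF S hS))
  have hmk : ∀ (M : ModuleCat.{u} A) (N : Submodule A M),
      ∃ S : ShortComplex (ModuleCat.{u} A), S.ShortExact ∧ S.X₁ = ModuleCat.of A N ∧ S.X₂ = M ∧ S.X₃ = ModuleCat.of A (M ⧸ N) := by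
    intro M N
    refine ⟨ShortComplex.mk (ModuleCat.ofHom N.subtype) (ModuleCat.ofHom N.mkQ)
      (by ext x; exact (Submodule.Quotient.mk_eq_zero _).2 x.2), ?_, rfl, rfl, rfl⟩
    exact { exact := (ShortComplex.moduleCat_exact_iff _).2 fun x hx =>
              ⟨⟨x, (Submodule.Quotient.mk_eq_zero _).1 hx⟩, rfl⟩
            mono_f := (ModuleCat.mono_iff_injective _).2 Subtype.val_injective
            epi_g := (ModuleCat.epi_iff_surjective _).2 N.mkQ_surjective }
  have hfin : ∀ (E : Type u) [AddCommGroup E] [Module A E], IsFiniteLength A E →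
      Module.length B (F.obj (ModuleCat.of A E)) ≠ ⊤ := by
    intro E _ _ hE
    induction hE with
    | @of_subsingleton M _ _ _ =>
      have hz := F.map_isZero (ModuleCat.isZero_of_subsingleton (ModuleCat.of A M))
      have := ModuleCat.subsingleton_of_isZero hz
      rw [Module.length_eq_zero]
      exact ENat.zero_ne_top
    | @of_simple_quotient M _ _ N hsimp _ ih =>
      obtain ⟨S, hSE, e1, e2, e3⟩ := hmk (ModuleCat.of A M) N
      have h := hle S hSE
      rw [e1, e2, e3] at h
      exact ne_top_of_le_ne_top (WithTop.add_ne_top.2 ⟨ih, hS (ModuleCat.of A (M ⧸ N)) hsimp⟩) h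
  have hfin' : ∀ E : ModuleCat.{u} A, Module.length A E ≠ ⊤ → Module.length B (F.obj E) ≠ ⊤ := fun E hE =>
    hfin E (Module.length_ne_top_iff.1 hE)
  refine ⟨hfin', fun S hS h2 => ⟨hle S hS, ⟨fun heq => ?_, fun hse => ?_⟩⟩⟩
  · obtain ⟨hi, hs⟩ := len_exact_eq (S.map F).f.hom (S.map F).g.hom (hex (S.map F) (hF S hS))
      (hfin' S.X₁ (ne_top_of_le_ne_top h2 (Module.length_le_of_injective S.f.hom hS.moduleCat_injective_f)))
      (hfin' S.X₃ (ne_top_of_le_ne_top h2 (Module.length_le_of_surjective S.g.hom hS.moduleCat_surjective_g)))
      heq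
    exact { exact := hF S hS
            mono_f := (ModuleCat.mono_iff_injective _).2 hi
            epi_g := (ModuleCat.epi_iff_surjective _).2 hs }
  · exact Module.length_eq_add_of_exact (S.map F).f.hom (S.map F).g.hom hse.moduleCat_injective_f
      hse.moduleCat_surjective_g (hex _ hse.exact)

end Groth.Agent.S4492
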