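import Groth.Statements.S4496
import Groth.Agent.FlatComplex.Tensor
-- import your own Groth.Agent.* helpers here

set_option autoImplicit false
universe u
open FlatCx

namespace Groth.Agent.S4496

open CategoryTheory CategoryTheory.Limits MonoidalCategory in
/-- For the homological functor T_p(M) = H_p(P ⊗_A M) of a chain complex P of flat modules over a
commutative ring A: T_p takes injections to injections and surjections to surjections if and only if
T_p is isomorphic to the functor M ↦ N ⊗_A M for some flat A-module N (which is then isomorphic to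
T_p(A)). -/
theorem result {A : Type u} [CommRing A]
    (P : ChainComplex (ModuleCat.{u} A) ℤ) (hP : ∀ i, Module.Flat A (P.X i)) (p : ℤ) :
    ((CohIII.TFun P p).PreservesMonomorphisms ∧ (CohIII.TFun P p).PreservesEpimorphisms) ↔
      ∃ N : ModuleCat.{u} A, Module.Flat A N ∧ Nonempty (CohIII.TFun P p ≅ tensorLeft N) := by
  constructor
  · rintro ⟨hm, he⟩
    obtain ⟨e⟩ := FlatComplex.exists_iso_tensorLeft P hP he
    obtain ⟨e'⟩ := FlatComplex.nonempty_T_self_equiv P (rfl : p + 1 = p + 1) (sub_add_cancel p 1)
    have := (FlatComplex.preservesMono_iff_flat_self P hP he).mp hm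
    exact ⟨_, Module.Flat.of_linearEquiv e'.symm, ⟨e⟩⟩
  · rintro ⟨N, hN, ⟨e⟩⟩
    have he := (FlatComplex.preservesEpi_iff_iso_tensorLeft P hP p).mpr ⟨N, ⟨e⟩⟩
    refine ⟨(FlatComplex.preservesMono_iff_flat_self P hP he).mpr ?_, he⟩
    exact Module.Flat.of_linearEquiv
      ((e.app (ModuleCat.of A A)).toLinearEquiv.trans (TensorProduct.rid A N))

end Groth.Agent.S4496
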