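import Groth.Statements.S4501
import Groth.Agent.FlatComplex.BaseChange
-- import your own Groth.Agent.* helpers here

set_option autoImplicit false
universe u
open FlatCx

namespace Groth.Agent.S4501

open CategoryTheory CategoryTheory.Limits in
/-- The case of finitely generated flat terms. Let A be a Noetherian domain, P a chain complex of
finitely generated flat A-modules, and for a prime y of A let P_y be the base change of P to the
local ring A_y. Then the set U of points y of Spec A such that the functor N ↦ H_p(P_y ⊗_{A_y} N) on
A_y-modules takes injections to injections and surjections to surjections is open and nonempty (it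
contains the generic point). -/
theorem result {A : Type u} [CommRing A] [IsNoetherianRing A] [IsDomain A]
    (P : ChainComplex (ModuleCat.{u} A) ℤ) (hP : ∀ i, Module.Finite A (P.X i) ∧ Module.Flat A (P.X i))
    (p : ℤ) :
    IsOpen {y : PrimeSpectrum A |
        (CohIII.TFun (CohIII.bcCx (algebraMap A (Localization.AtPrime y.asIdeal)) P) p).PreservesMonomorphisms ∧
          (CohIII.TFun (CohIII.bcCx (algebraMap A (Localization.AtPrime y.asIdeal)) P) p).PreservesEpimorphisms} ∧
      {y : PrimeSpectrum A |
        (CohIII.TFun (CohIII.bcCx (algebraMap A (Localization.AtPrime y.asIdeal)) P) p).PreservesMonomorphisms ∧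
          (CohIII.TFun (CohIII.bcCx (algebraMap A (Localization.AtPrime y.asIdeal)) P) p).PreservesEpimorphisms}.Nonempty := by
  rw [Set.ofPred_and, FlatComplex.setOf_preservesEpi_localization_eq P p hP,
    FlatComplex.setOf_preservesMono_localization_eq P p hP]
  have := (hP p).1
  have := (hP (p - 1)).1
  have : Module.FinitePresentation A (FlatComplex.Cok P (p + 1) p) := Module.finitePresentation_of_finite _ _
  have : Module.FinitePresentation A (FlatComplex.Cok P p (p - 1)) := Module.finitePresentation_of_finite _ _
  refine ⟨Module.isOpen_freeLocus.inter Module.isOpen_freeLocus, ⟨⊥, Ideal.bot_prime⟩, ?_⟩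
  have hm : IsLocalRing.maximalIdeal (Localization.AtPrime (⊥ : Ideal A)) = ⊥ := by
    rw [← Localization.AtPrime.map_eq_maximalIdeal, Ideal.map_bot]
  let _ := (IsLocalRing.isField_iff_maximalIdeal_eq.mpr hm).toField
  constructor <;>
  · rw [Module.mem_freeLocus]
    exact Module.Free.of_divisionRing _ _

end Groth.Agent.S4501
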