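import Groth.Statements.S4512
import Groth.Agent.SymGr.GeomReg
import Groth.Agent.CAlgCohen.Structure

set_option autoImplicit false
universe u
open EGA41

namespace Groth.Agent.S4512

open IsLocalRing

open IsLocalRing in
/-- Let k be a field and A a Noetherian local k-algebra with residue field K, and suppose A is formally
smooth over k for the adic topology of its maximal ideal (k discrete). Then A is geometrically
regular over k, i.e. A ⊗_k k' is a regular ring for every finite extension k' of k; and the adic
completion of A is isomorphic, as a ring, to a power series ring K[[T_1, …, T_n]] (existence of a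
ring isomorphism; no compatibility with k is asserted, and none holds in general when K is
inseparable over k). -/
theorem result {k A : Type u} [Field k] [CommRing A]
    [IsLocalRing A] [IsNoetherianRing A] [Algebra k A] (h : CAlgX.IsAdicFormallySmooth k A (maximalIdeal A)) :
    CAlg.IsGeometricallyRegular k A ∧
      ∃ n : ℕ, Nonempty (AdicCompletion (maximalIdeal A) A ≃+* MvPowerSeries (Fin n) (ResidueField A)) := by
  refine ⟨fun k' _ _ _ => Groth.Agent.SymGr.isRegularRing_baseChange h, ?_⟩
  haveI := (Groth.Agent.SymGr.isAdicFormallySmooth_field_iff_regular.1 h).1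
  let B := AdicCompletion (maximalIdeal A) A
  haveI : IsNoetherianRing B := Groth.Agent.AdicNoeth.isNoetherianRing_adicCompletion _
  haveI : IsRegularLocalRing B := (Groth.Agent.CAlgCompl.isRegularLocalRing_adicCompletion_iff A).1 inferInstance
  obtain ⟨s, hs⟩ := Groth.Agent.CAlgCohen.exists_coefficientField B fun q _ hq => by
    let ι : k →+* B := (algebraMap A B).comp (algebraMap k A)
    have h1 : (residue B).comp ι (q : k) = 0 := by rw [map_natCast]; exact hq
    have h2 : (q : k) = 0 := ((residue B).comp ι).injective (by rw [h1, map_zero])
    rw [← map_natCast ι, h2, map_zero]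
  let e : ResidueField A ≃+* ResidueField B :=
    RingEquiv.ofBijective (ResidueField.map (algebraMap A B)) (AdicCompletion.residueField_map_bijective A)
  letI : Algebra (ResidueField A) B := (s.comp e.toRingHom).toAlgebra
  obtain ⟨d, ⟨ψ⟩⟩ := Groth.Agent.MvPSLib.exists_algEquiv (k := ResidueField A) (R := B) fun y =>
    ⟨e.symm y, by
      show residue B (s (e (e.symm y))) = y
      rw [e.apply_symm_apply]
      exact RingHom.congr_fun hs y⟩
  exact ⟨d, ⟨ψ.toRingEquiv⟩⟩

end Groth.Agent.S4512
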