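import Groth.Statements.S4513
import Groth.Agent.PBasis.Derivations

set_option autoImplicit false
universe u
open EGA41

namespace Groth.Agent.S4513

open IsLocalRing in
/-- Let A be a Noetherian local ring and k a field mapping to A such that A is formally smooth over k
for the adic topology of its maximal ideal (k discrete). Then every field K with k → K → A
(compatible ring maps) is a separable extension of k, i.e. K is geometrically reduced over k. -/
theorem result {k A K : Type u} [Field k] [CommRing A]
    [IsLocalRing A] [IsNoetherianRing A] [Algebra k A] (h : CAlgX.IsAdicFormallySmooth k A (maximalIdeal A))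
    [Field K] [Algebra k K] [Algebra K A] [IsScalarTower k K A] :
    Algebra.IsGeometricallyReduced k K := by
  open IsLocalRing in
  refine @Groth.Agent.PBasis.isGeometricallyReduced_of_derivations k K _ _ _ (ResidueField A) _ _ _ _
    fun D => ?_
  let φ : k →+* TrivSqZeroExt (ResidueField A) (ResidueField A) :=
    { toFun := fun a => TrivSqZeroExt.inl (algebraMap k (ResidueField A) a) + TrivSqZeroExt.inr (D a)
      map_one' := by ext <;> simp
      map_zero' := by ext <;> simp
      map_add' := fun a b => by ext <;> simp
      map_mul' := fun a b => by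
        refine TrivSqZeroExt.ext (by simp) ?_
        rw [TrivSqZeroExt.snd_mul]
        simp only [TrivSqZeroExt.snd_add, TrivSqZeroExt.fst_add, TrivSqZeroExt.fst_inl,
          TrivSqZeroExt.snd_inl, TrivSqZeroExt.fst_inr, TrivSqZeroExt.snd_inr, add_zero, zero_add,
          Derivation.leibniz, smul_eq_mul, op_smul_eq_mul]
        rw [Algebra.smul_def, Algebra.smul_def]
        ring }
  letI : Algebra k (TrivSqZeroExt (ResidueField A) (ResidueField A)) := φ.toAlgebra
  let π : TrivSqZeroExt (ResidueField A) (ResidueField A) →ₐ[k] ResidueField A :=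
    { toRingHom := (TrivSqZeroExt.fstHom ℕ (ResidueField A) (ResidueField A)).toRingHom
      commutes' := fun a => by
        show TrivSqZeroExt.fst (φ a) = _
        simp [φ] }
  have hπ : Function.Surjective π := fun l => ⟨TrivSqZeroExt.inl l, by simp [π]⟩
  have hsq : RingHom.ker π ^ 2 = ⊥ := by
    rw [pow_two, eq_bot_iff, Ideal.mul_le]
    intro a ha b hb
    have ha' : TrivSqZeroExt.fst a = 0 := ha
    have hb' : TrivSqZeroExt.fst b = 0 := hb
    exact TrivSqZeroExt.ext (by simp [ha', hb']) (by simp [ha', hb'])
  let e : (TrivSqZeroExt (ResidueField A) (ResidueField A) ⧸ RingHom.ker π) ≃ₐ[k] ResidueField A :=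
    Ideal.quotientKerAlgEquivOfSurjective hπ
  obtain ⟨v, hv⟩ := h _ (RingHom.ker π) hsq (e.symm.toAlgHom.comp (IsScalarTower.toAlgHom k A (ResidueField A)))
    ⟨1, fun x hx => by
      rw [pow_one] at hx
      show e.symm (algebraMap A (ResidueField A) x) = 0
      rw [ResidueField.algebraMap_eq, (residue_eq_zero_iff x).2 hx, map_zero]⟩
  have hfst : ∀ a, TrivSqZeroExt.fst (v a) = algebraMap A (ResidueField A) a := fun a => by
    have h' := congr($hv a)
    simp only [AlgHom.comp_apply, Ideal.Quotient.mkₐ_eq_mk] at h'
    have h'' := congrArg e h'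
    rw [show e (e.symm.toAlgHom (IsScalarTower.toAlgHom k A (ResidueField A) a)) =
      algebraMap A (ResidueField A) a from e.apply_symm_apply _] at h''
    exact h''
  refine ⟨Derivation.mk' (AddMonoidHom.toIntLinearMap
    { toFun := fun x => TrivSqZeroExt.snd (v (algebraMap K A x))
      map_zero' := by simp
      map_add' := fun a b => by simp }) (fun a b => by
        simp [hfst, Algebra.smul_def, IsScalarTower.algebraMap_apply K A (ResidueField A), mul_comm]), fun a => ?_⟩
  show TrivSqZeroExt.snd (v (algebraMap K A (algebraMap k K a))) = D a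
  rw [← IsScalarTower.algebraMap_apply, AlgHom.commutes]
  show TrivSqZeroExt.snd (φ a) = D a
  simp [φ]

end Groth.Agent.S4513
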