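import Groth.Statements.S4515
import Mathlib

set_option autoImplicit false
universe u
open EGA41

namespace Groth.Agent.S4515

open TensorProduct

variable {A : Type u} [CommRing A] {M N : Type u} [AddCommGroup M] [Module A M]
  [AddCommGroup N] [Module A N]

/-- multiplication `K ⊗ P → P` -/
noncomputable def mulMap (K : Ideal A) (P : Type u) [AddCommGroup P] [Module A P] :
    (K ⊗[A] P) →ₗ[A] P :=
  (TensorProduct.lid A P).toLinearMap ∘ₗ LinearMap.rTensor P K.subtype

theorem mulMap_tmul (K : Ideal A) (P : Type u) [AddCommGroup P] [Module A P] (a : K) (x : P) :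
    mulMap K P (a ⊗ₜ x) = (a : A) • x := by simp [mulMap]

theorem mem_range_mulMap (K : Ideal A) (P : Type u) [AddCommGroup P] [Module A P] :
    LinearMap.range (mulMap K P) = K • ⊤ := by
  apply le_antisymm
  · rintro _ ⟨t, rfl⟩
    induction t using TensorProduct.induction_on with
    | zero => simp
    | tmul a x => rw [mulMap_tmul]; exact Submodule.smul_mem_smul a.2 trivial
    | add s t hs ht => rw [map_add]; exact add_mem hs ht
  · rw [Submodule.smul_le]
    intro a ha x _
    exact ⟨⟨a, ha⟩ ⊗ₜ x, mulMap_tmul K P _ _⟩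

theorem step_aux (J : Ideal A) [Module.Flat A M] (u : N →ₗ[A] M)
    (hsurj : ∀ m : M, ∃ n : N, m - u n ∈ (J • ⊤ : Submodule A M))
    (hinj : ∀ n : N, u n ∈ (J • ⊤ : Submodule A M) → n ∈ (J • ⊤ : Submodule A N))
    (k : ℕ) (n : N) (hn : n ∈ (J ^ k • ⊤ : Submodule A N))
    (hun : u n ∈ (J ^ (k + 1) • ⊤ : Submodule A M)) : n ∈ (J ^ (k + 1) • ⊤ : Submodule A N) := by
  obtain ⟨t, rfl⟩ : n ∈ LinearMap.range (mulMap (J ^ k) N) := by rwa [mem_range_mulMap]
  have hcomm : mulMap (J ^ k) M ∘ₗ LinearMap.lTensor (J ^ k : Ideal A) u =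
      u ∘ₗ mulMap (J ^ k) N :=
    TensorProduct.ext' fun a x => by simp [mulMap_tmul]
  have hinjM : Function.Injective (mulMap (J ^ k) M) := by
    intro x y hxy
    apply Module.Flat.rTensor_preserves_injective_linearMap (J ^ k : Ideal A).subtype
      (Submodule.subtype_injective _)
    exact (TensorProduct.lid A M).injective hxy
  -- the image in `J^k ⊗ M` lies in `J • ⊤`
  have h1 : LinearMap.lTensor (J ^ k : Ideal A) u t ∈
      (J • ⊤ : Submodule A ((J ^ k : Ideal A) ⊗[A] M)) := by
    have h := hun
    rw [pow_succ', ← smul_eq_mul, Submodule.smul_assoc, ← mem_range_mulMap (J ^ k) M,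
      LinearMap.range_eq_map, ← Submodule.map_smul''] at h
    obtain ⟨s, hs, hse⟩ := h
    have : s = LinearMap.lTensor (J ^ k : Ideal A) u t := hinjM (by
      rw [hse]; exact (LinearMap.congr_fun hcomm t).symm)
    rwa [← this]
  -- hence it vanishes in `J^k ⊗ M/JM`
  have h2 : LinearMap.lTensor (J ^ k : Ideal A) (J • ⊤ : Submodule A M).mkQ
      (LinearMap.lTensor (J ^ k : Ideal A) u t) = 0 := by
    refine Submodule.smul_induction_on h1 ?_ ?_
    · intro j hj x _
      rw [map_smul]
      generalize LinearMap.lTensor (J ^ k : Ideal A) (J • ⊤ : Submodule A M).mkQ x = y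
      induction y using TensorProduct.induction_on with
      | zero => simp
      | tmul a q =>
        obtain ⟨m, rfl⟩ := Submodule.Quotient.mk_surjective _ q
        rw [← TensorProduct.tmul_smul, ← Submodule.Quotient.mk_smul,
          (Submodule.Quotient.mk_eq_zero _).2 (Submodule.smul_mem_smul hj (Submodule.mem_top (x := m))),
          TensorProduct.tmul_zero]
      | add s t hs ht => rw [smul_add, hs, ht, add_zero]
    · intro x y hx hy
      rw [map_add, hx, hy, add_zero]
  -- `N/JN → M/JM` is bijective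
  let e : (N ⧸ (J • ⊤ : Submodule A N)) →ₗ[A] (M ⧸ (J • ⊤ : Submodule A M)) :=
    Submodule.mapQ _ _ u (Submodule.smul_top_le_comap_smul_top J u)
  have he : Function.Bijective e := by
    refine ⟨?_, ?_⟩
    · rw [← LinearMap.ker_eq_bot, Submodule.eq_bot_iff]
      intro q hq
      obtain ⟨x, rfl⟩ := Submodule.Quotient.mk_surjective _ q
      rw [LinearMap.mem_ker] at hq
      exact (Submodule.Quotient.mk_eq_zero _).2 (hinj x ((Submodule.Quotient.mk_eq_zero _).1 hq))
    · intro q
      obtain ⟨m, rfl⟩ := Submodule.Quotient.mk_surjective _ q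
      obtain ⟨x, hx⟩ := hsurj m
      exact ⟨Submodule.Quotient.mk x, ((Submodule.Quotient.eq _).2 hx).symm⟩
  have h3 : LinearMap.lTensor (J ^ k : Ideal A) (J • ⊤ : Submodule A N).mkQ t = 0 := by
    have hc : LinearMap.lTensor (J ^ k : Ideal A) e
        (LinearMap.lTensor (J ^ k : Ideal A) (J • ⊤ : Submodule A N).mkQ t) = 0 := by
      rw [← LinearMap.comp_apply, ← LinearMap.lTensor_comp]
      rw [← LinearMap.comp_apply, ← LinearMap.lTensor_comp] at h2
      exact h2
    have hi : Function.Injective (LinearMap.lTensor (J ^ k : Ideal A) e) :=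
      ((LinearEquiv.ofBijective e he).lTensor _).injective
    exact hi (by rw [hc, map_zero])
  obtain ⟨s, rfl⟩ : t ∈ LinearMap.range (LinearMap.lTensor (J ^ k : Ideal A)
      (J • ⊤ : Submodule A N).subtype) := by
    rw [← LinearMap.exact_iff.1 (lTensor_exact (J ^ k : Ideal A)
      (LinearMap.exact_subtype_mkQ (J • ⊤ : Submodule A N)) (Submodule.mkQ_surjective _))]
    exact h3
  clear h1 h2 h3 hun hn
  induction s using TensorProduct.induction_on with
  | zero => simp
  | tmul a x =>
    rw [LinearMap.lTensor_tmul, mulMap_tmul, pow_succ, ← smul_eq_mul, Submodule.smul_assoc]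
    exact Submodule.smul_mem_smul a.2 x.2
  | add s t hs ht => rw [map_add, map_add]; exact add_mem hs ht

/-- Let A be a ring, J an ideal of A, and M, N two A-modules which are Hausdorff for the J-adic
topology; suppose moreover that N is J-adically complete and M is flat. Let u : N → M be A-linear.
If the induced map N/JN → M/JM is bijective (surjectivity and injectivity written out below), then u
is bijective. -/
theorem result {A : Type u} [CommRing A] (J : Ideal A)
    {M N : Type u} [AddCommGroup M] [Module A M] [AddCommGroup N] [Module A N]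
    [IsHausdorff J M] [IsAdicComplete J N] [Module.Flat A M] (u : N →ₗ[A] M)
    (hsurj : ∀ m : M, ∃ n : N, m - u n ∈ (J • ⊤ : Submodule A M))
    (hinj : ∀ n : N, u n ∈ (J • ⊤ : Submodule A M) → n ∈ (J • ⊤ : Submodule A N)) :
    Function.Bijective u := by
  refine ⟨?_, surjective_of_mkQ_comp_surjective (I := J) ?_⟩
  · have step : ∀ (k : ℕ) (n : N), n ∈ (J ^ k • ⊤ : Submodule A N) →
        u n ∈ (J ^ (k + 1) • ⊤ : Submodule A M) → n ∈ (J ^ (k + 1) • ⊤ : Submodule A N) :=
      fun k n hn hun => step_aux J u hsurj hinj k n hn hun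
    rw [← LinearMap.ker_eq_bot, Submodule.eq_bot_iff]
    intro n hn
    rw [LinearMap.mem_ker] at hn
    refine IsHausdorff.haus' (I := J) n fun k => ?_
    rw [SModEq.zero]
    induction k with
    | zero => simp
    | succ k ih => exact step k n ih (by rw [hn]; exact zero_mem _)
  · intro q
    obtain ⟨m, rfl⟩ := Submodule.Quotient.mk_surjective _ q
    obtain ⟨n, hn⟩ := hsurj m
    exact ⟨n, ((Submodule.Quotient.eq _).2 hn).symm⟩

end Groth.Agent.S4515
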