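import Groth.Statements.S4516
import Groth.Agent.PBasis.Field

set_option autoImplicit false
universe u
open EGA41

namespace Groth.Agent.S4516

/-- Let p be a prime, B an A-algebra of characteristic p and A' an A-subalgebra of B contained in
A[B^p]. Then the canonical map between Ω_{B/A} and Ω_{B/A'} is bijective (every A-derivation of B
vanishes on A[B^p]). -/
theorem result (p : ℕ) [Fact p.Prime] {A B : Type u}
    [CommRing A] [CommRing B] [Algebra A B] [CharP B p] (A' : Subalgebra A B)
    (hA' : A' ≤ EGA41.pPowerSubalgebra p A B) :
    Function.Bijective (KaehlerDifferential.map A A' B B) := by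
  have h0 : ∀ b : B, b ∈ EGA41.pPowerSubalgebra p A B → KaehlerDifferential.D A B b = 0 :=
    fun b hb => by
      induction hb using Algebra.adjoin_induction with
      | mem _ hb =>
        obtain ⟨c, rfl⟩ := hb
        rw [Derivation.leibniz_pow, ← Nat.cast_smul_eq_nsmul B, CharP.cast_eq_zero, zero_smul]
      | algebraMap a => simp
      | add _ _ _ _ h1 h2 => simp [h1, h2]
      | mul _ _ _ _ h1 h2 => simp [h1, h2]
  let d : Derivation A' B (Ω[B⁄A]) := Derivation.mk'
    { toFun := fun b => KaehlerDifferential.D A B b
      map_add' := fun a b => by simp
      map_smul' := fun a b => by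
        show KaehlerDifferential.D A B ((a : B) * b) = a • KaehlerDifferential.D A B b
        rw [Derivation.leibniz, h0 _ (hA' a.2), smul_zero, add_zero]
        rfl }
    (fun a b => by simp)
  have h1 : ∀ z, d.liftKaehlerDifferential (KaehlerDifferential.map A A' B B z) = z := fun z => by
    have hz : z ∈ Submodule.span B (Set.range (KaehlerDifferential.D A B)) := by
      rw [KaehlerDifferential.span_range_derivation]; trivial
    induction hz using Submodule.span_induction with
    | mem _ h =>
      obtain ⟨b, rfl⟩ := h
      rw [KaehlerDifferential.map_D, Algebra.algebraMap_self, RingHom.id_apply,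
        Derivation.liftKaehlerDifferential_comp_D]
      rfl
    | zero => simp
    | add _ _ _ _ h1 h2 => simp [h1, h2]
    | smul b _ _ h => rw [map_smul, map_smul, h]
  exact ⟨Function.LeftInverse.injective h1, KaehlerDifferential.map_surjective_of_surjective A A' B B
    Function.surjective_id⟩

end Groth.Agent.S4516
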