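import Groth.Statements.S4518
import Groth.Agent.PBasis.Field

set_option autoImplicit false
universe u
open EGA41

namespace Groth.Agent.S4518

/-- Reduced exponent vectors. -/
abbrev Red (p : ℕ) (ι : Type u) : Type u := {e : ι →₀ ℕ // ∀ i, e i < p}

/-- Splitting a reduced exponent vector. -/
noncomputable def pairEquiv (p : ℕ) (ι κ : Type u) : Red p (ι ⊕ κ) ≃ Red p ι × Red p κ where
  toFun e := (⟨(Finsupp.sumFinsuppEquivProdFinsupp e.1).1, fun i => e.2 (Sum.inl i)⟩,
    ⟨(Finsupp.sumFinsuppEquivProdFinsupp e.1).2, fun i => e.2 (Sum.inr i)⟩)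
  invFun q := ⟨Finsupp.sumFinsuppEquivProdFinsupp.symm (q.1.1, q.2.1), fun i => by
    cases i with
    | inl i => exact q.1.2 i
    | inr i => exact q.2.2 i⟩
  left_inv e := Subtype.ext (Finsupp.sumFinsuppEquivProdFinsupp.symm_apply_apply e.1)
  right_inv q := Prod.ext (Subtype.ext (congrArg Prod.fst
      (Finsupp.sumFinsuppEquivProdFinsupp.apply_symm_apply (q.1.1, q.2.1))))
    (Subtype.ext (congrArg Prod.snd
      (Finsupp.sumFinsuppEquivProdFinsupp.apply_symm_apply (q.1.1, q.2.1))))

theorem pMonomial_pair {p : ℕ} {C B : Type u} [CommRing C] [CommRing B] [Algebra C B] {ι κ : Type u}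
    (x : ι → C) (y : κ → B) (e₁ : Red p ι) (e₂ : Red p κ) :
    EGA41.pMonomial (Sum.elim (fun i => algebraMap C B (x i)) y) ((pairEquiv p ι κ).symm (e₁, e₂)).1 =
      algebraMap C B (EGA41.pMonomial x e₁.1) * EGA41.pMonomial y e₂.1 := by
  classical
  show EGA41.pMonomial _ (Finsupp.sumElim e₁.1 e₂.1) = _
  simp only [EGA41.pMonomial, Finsupp.prod_sumElim, map_finsuppProd, map_pow]
  rfl

theorem gen_iff {p : ℕ} {A B : Type u} [CommRing A] [CommRing B] [Algebra A B] (hp : p ≠ 0)
    (hpow : ∀ b : B, b ^ p ∈ Set.range (algebraMap A B)) {ι : Type u} {x : ι → B} :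
    EGA41.IsPGenerating p A x ↔ Algebra.adjoin A (Set.range x) = ⊤ := by
  rw [Groth.Agent.PBasis.isPGenerating_iff hp x]
  constructor
  · intro h
    refine top_unique fun b hb0 => ?_
    clear hb0
    have hb : b ∈ Algebra.adjoin (EGA41.pPowerSubalgebra p A B) (Set.range x) := by rw [h]; trivial
    induction hb using Algebra.adjoin_induction with
    | mem _ h => exact Algebra.subset_adjoin h
    | algebraMap a =>
      obtain ⟨a', ha'⟩ := Groth.Agent.PBasis.mem_range_of_mem hpow a.2
      show (a : B) ∈ _
      rw [← ha']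
      exact Subalgebra.algebraMap_mem _ a'
    | add _ _ _ _ h1 h2 => exact Subalgebra.add_mem _ h1 h2
    | mul _ _ _ _ h1 h2 => exact Subalgebra.mul_mem _ h1 h2
  · intro h
    refine top_unique fun b hb0 => ?_
    clear hb0
    have hb : b ∈ Algebra.adjoin A (Set.range x) := by rw [h]; trivial
    induction hb using Algebra.adjoin_induction with
    | mem _ h => exact Algebra.subset_adjoin h
    | algebraMap a =>
      exact (Algebra.adjoin (EGA41.pPowerSubalgebra p A B) (Set.range x)).algebraMap_mem
        ⟨algebraMap A B a, Subalgebra.algebraMap_mem _ a⟩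
    | add _ _ _ _ h1 h2 => exact Subalgebra.add_mem _ h1 h2
    | mul _ _ _ _ h1 h2 => exact Subalgebra.mul_mem _ h1 h2

theorem indep_iff {p : ℕ} {A B : Type u} [CommRing A] [CommRing B] [Algebra A B]
    (hpow : ∀ b : B, b ^ p ∈ Set.range (algebraMap A B)) {ι : Type u} {x : ι → B} :
    EGA41.IsPIndependent p A x ↔ ∀ (s : Finset (Red p ι)) (c : Red p ι → A),
      ∑ e ∈ s, algebraMap A B (c e) * EGA41.pMonomial x e.1 = 0 →
        ∀ e ∈ s, algebraMap A B (c e) = 0 := by
  refine Iff.trans linearIndependent_iff' ⟨fun h s c hc e he => ?_, fun h s c hc e he => ?_⟩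
  · have := h s (fun e => algebraMap A (EGA41.pPowerSubalgebra p A B) (c e))
      (by rw [← hc]; exact Finset.sum_congr rfl fun e _ => Algebra.smul_def _ _) e he
    exact congrArg Subtype.val this
  · choose a ha using fun r : EGA41.pPowerSubalgebra p A B =>
      Groth.Agent.PBasis.mem_range_of_mem hpow r.2
    have := h s (fun e => a (c e)) (by
      rw [← hc]
      exact Finset.sum_congr rfl fun e _ => by rw [ha, Algebra.smul_def]; rfl) e he
    exact Subtype.ext (by rw [← ha]; exact this)


/-- Let p be a prime and A → C → B rings of characteristic p with C → B injective and every p-th power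
of B in the image of A (so, identifying, B^p ⊆ A ⊆ C ⊆ B up to replacing A by its image); let x be a
family of elements of C and y a family of elements of B. (i) If x is a system of p-generators of C
over A and y one of B over C, then the family obtained by putting x (viewed in B) and y together is
a system of p-generators of B over A. (ii) If x is a p-basis of C over A, then y is p-independent
over C if and only if the combined family is p-independent over A. (The published statement only
asks B^p ⊆ C and reduces to B^p ⊆ A by enlarging A to A[B^p]; but p-independence of x in C over A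
refers to A[C^p], which can be smaller than A[B^p] — for A = 𝔽_p, C = 𝔽_p(t^p) ⊂ B = 𝔽_p(t), x =
(t^p), y = (t), x is a p-basis of C over A and y is p-independent over C while (t^p, t) is not
p-independent over A — so this row assumes B^p ⊆ A, the case the published proof treats.) -/
theorem result (p : ℕ) [Fact p.Prime] {A C B : Type u} [CommRing A] [CommRing C]
    [CommRing B] [Algebra A C] [Algebra C B] [Algebra A B] [IsScalarTower A C B] [CharP B p]
    (hinj : Function.Injective (algebraMap C B)) (hpow : ∀ b : B, b ^ p ∈ Set.range (algebraMap A B))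
    {ι κ : Type u} (x : ι → C) (y : κ → B) :
    (EGA41.IsPGenerating p A x → EGA41.IsPGenerating p C y →
      EGA41.IsPGenerating p A (Sum.elim (fun i => algebraMap C B (x i)) y)) ∧
    (EGA41.IsPBasis p A x →
      (EGA41.IsPIndependent p C y ↔ EGA41.IsPIndependent p A (Sum.elim (fun i => algebraMap C B (x i)) y))) := by
  classical
  have hp : p ≠ 0 := (Fact.out : p.Prime).ne_zero
  have hpC : ∀ b : B, b ^ p ∈ Set.range (algebraMap C B) := fun b => by
    obtain ⟨a, ha⟩ := hpow b
    exact ⟨algebraMap A C a, by rw [← IsScalarTower.algebraMap_apply, ha]⟩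
  have hpAC : ∀ c : C, c ^ p ∈ Set.range (algebraMap A C) := fun c => by
    obtain ⟨a, ha⟩ := hpow (algebraMap C B c)
    exact ⟨a, hinj (by rw [← IsScalarTower.algebraMap_apply, ha, map_pow])⟩
  constructor
  · intro hx hy
    rw [gen_iff hp hpAC] at hx
    rw [gen_iff hp hpC] at hy
    rw [gen_iff hp hpow]
    refine top_unique fun b hb0 => ?_
    clear hb0
    set T := Algebra.adjoin A (Set.range (Sum.elim (fun i => algebraMap C B (x i)) y))
    have hC : ∀ c : C, algebraMap C B c ∈ T := fun c => by
      have hc : c ∈ Algebra.adjoin A (Set.range x) := by rw [hx]; trivial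
      induction hc using Algebra.adjoin_induction with
      | mem _ h => obtain ⟨i, rfl⟩ := h; exact Algebra.subset_adjoin ⟨Sum.inl i, rfl⟩
      | algebraMap a => rw [← IsScalarTower.algebraMap_apply]; exact T.algebraMap_mem a
      | add _ _ _ _ h1 h2 => rw [map_add]; exact T.add_mem h1 h2
      | mul _ _ _ _ h1 h2 => rw [map_mul]; exact T.mul_mem h1 h2
    have hb : b ∈ Algebra.adjoin C (Set.range y) := by rw [hy]; trivial
    induction hb using Algebra.adjoin_induction with
    | mem _ h => obtain ⟨i, rfl⟩ := h; exact Algebra.subset_adjoin ⟨Sum.inr i, rfl⟩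
    | algebraMap c => exact hC c
    | add _ _ _ _ h1 h2 => exact T.add_mem h1 h2
    | mul _ _ _ _ h1 h2 => exact T.mul_mem h1 h2
  intro hx
  rw [indep_iff hpC, indep_iff hpow]
  have hsplit : ∀ (s : Finset (Red p ι)) (t : Finset (Red p κ)) (a : Red p ι → Red p κ → A),
      ∑ e ∈ (s ×ˢ t).image (pairEquiv p ι κ).symm,
          algebraMap A B (a (pairEquiv p ι κ e).1 (pairEquiv p ι κ e).2) *
            EGA41.pMonomial (Sum.elim (fun i => algebraMap C B (x i)) y) e.1 =
        ∑ e₂ ∈ t, algebraMap C B (∑ e₁ ∈ s, algebraMap A C (a e₁ e₂) * EGA41.pMonomial x e₁.1) *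
          EGA41.pMonomial y e₂.1 := by
    intro s t a
    rw [Finset.sum_image (fun _ _ _ _ h => (pairEquiv p ι κ).symm.injective h),
      Finset.sum_product_right]
    refine Finset.sum_congr rfl fun e₂ _ => ?_
    rw [map_sum, Finset.sum_mul]
    refine Finset.sum_congr rfl fun e₁ _ => ?_
    rw [Equiv.apply_symm_apply, map_mul, ← IsScalarTower.algebraMap_apply, mul_assoc,
      pMonomial_pair]
  constructor
  · intro hy S c hc
    let s := (S.image fun e => (pairEquiv p ι κ e).1)
    let t := (S.image fun e => (pairEquiv p ι κ e).2)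
    let a : Red p ι → Red p κ → A := fun e₁ e₂ =>
      if (pairEquiv p ι κ).symm (e₁, e₂) ∈ S then c ((pairEquiv p ι κ).symm (e₁, e₂)) else 0
    have hsum := hsplit s t a
    have hS : S ⊆ (s ×ˢ t).image (pairEquiv p ι κ).symm := fun e he =>
      Finset.mem_image.2 ⟨pairEquiv p ι κ e, Finset.mem_product.2
        ⟨Finset.mem_image_of_mem _ he, Finset.mem_image_of_mem _ he⟩, Equiv.symm_apply_apply _ e⟩
    rw [← Finset.sum_subset hS (fun e _ he => by simp [a, he])] at hsum
    rw [Finset.sum_congr rfl (fun e he => by simp [a, he])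
      (g := fun e => algebraMap A B (c e) *
        EGA41.pMonomial (Sum.elim (fun i => algebraMap C B (x i)) y) e.1), hc] at hsum
    have h2 := hy t _ hsum.symm
    intro e he
    have h3 := h2 _ (Finset.mem_image_of_mem (fun e => (pairEquiv p ι κ e).2) he)
    rw [map_eq_zero_iff _ hinj] at h3
    have h4 := (indep_iff hpAC (x := x)).1 hx.1 s (fun e₁ => a e₁ (pairEquiv p ι κ e).2) h3
      _ (Finset.mem_image_of_mem (fun e => (pairEquiv p ι κ e).1) he)
    simp only [a, Prod.mk.eta, Equiv.symm_apply_apply, he, if_true] at h4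
    rw [IsScalarTower.algebraMap_apply A C B, h4, map_zero]
  · intro hxy t c hc
    have hgen : ∀ d : C, ∃ (s : Finset (Red p ι)) (a : Red p ι → A),
        d = ∑ e ∈ s, algebraMap A C (a e) * EGA41.pMonomial x e.1 := by
      intro d
      have hd : d ∈ Submodule.span (EGA41.pPowerSubalgebra p A C)
          (Set.range fun e : Red p ι => EGA41.pMonomial x e.1) := by
        rw [hx.2]; trivial
      obtain ⟨l, rfl⟩ := Finsupp.mem_span_range_iff_exists_finsupp.1 hd
      choose a ha using fun r : EGA41.pPowerSubalgebra p A C =>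
        Groth.Agent.PBasis.mem_range_of_mem hpAC r.2
      refine ⟨l.support, fun e => a (l e), Finset.sum_congr rfl fun e _ => ?_⟩
      show l e • EGA41.pMonomial x e.1 = _
      rw [Algebra.smul_def, ha]
      rfl
    choose s a ha using hgen
    let U := t.biUnion fun e₂ => s (c e₂)
    let a' : Red p ι → Red p κ → A := fun e₁ e₂ => if e₁ ∈ s (c e₂) then a (c e₂) e₁ else 0
    have hinner : ∀ e₂ ∈ t, ∑ e₁ ∈ U, algebraMap A C (a' e₁ e₂) * EGA41.pMonomial x e₁.1 = c e₂ := by
      intro e₂ he₂
      rw [← Finset.sum_subset (Finset.subset_biUnion_of_mem (fun e => s (c e)) he₂)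
        (fun e _ he => by simp [a', he])]
      conv_rhs => rw [ha (c e₂)]
      exact Finset.sum_congr rfl fun e he => by simp [a', he]
    have hsum := hsplit U t a'
    rw [Finset.sum_congr rfl (fun e₂ he₂ => by rw [hinner e₂ he₂])
      (g := fun e₂ => algebraMap C B (c e₂) * EGA41.pMonomial y e₂.1) (s₂ := t), hc] at hsum
    have h2 := hxy _ _ hsum
    intro e₂ he₂
    rw [← hinner e₂ he₂, map_sum]
    refine Finset.sum_eq_zero fun e₁ he₁ => ?_
    have h3 := h2 ((pairEquiv p ι κ).symm (e₁, e₂))
      (Finset.mem_image_of_mem _ (Finset.mem_product.2 ⟨he₁, he₂⟩))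
    rw [Equiv.apply_symm_apply] at h3
    rw [map_mul, ← IsScalarTower.algebraMap_apply, h3, zero_mul]

end Groth.Agent.S4518
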