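import Groth.Statements.S4519
import Groth.Agent.PBasis.Field

set_option autoImplicit false
universe u
open EGA41

namespace Groth.Agent.S4519

/-- Let p be a prime, B a ring of characteristic p and A a subring of B with B^p ⊆ A (here: A → B
injective with every p-th power in its image; R → A → B with the image of R in B equal to the set of
p-th powers, so that R stands for B^p). If B admits a p-basis over A, then B is a formally smooth
A-algebra relative to R for the discrete topologies (square-zero liftings, as in the prelude's
relative notion). -/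
theorem result (p : ℕ) [Fact p.Prime] {R A B : Type u} [CommRing R] [CommRing A]
    [CommRing B] [Algebra R A] [Algebra A B] [Algebra R B] [IsScalarTower R A B] [CharP B p]
    (hinj : Function.Injective (algebraMap A B)) (hpow : ∀ b : B, b ^ p ∈ Set.range (algebraMap A B))
    (hR : Set.range (algebraMap R B) = Set.range fun b : B => b ^ p)
    {ι : Type u} (x : ι → B) (hx : EGA41.IsPBasis p A x) :
    EGA41.IsFormallySmoothRel R A B := by
  classical
  have hp : p ≠ 0 := (Fact.out : p.Prime).ne_zero
  intro C _ _ _ _ J _ u₀ hu
  obtain ⟨u, hu⟩ := hu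
  obtain ⟨w, hw₀, hw⟩ := Groth.Agent.PBasis.exists_lift' hp hinj hpow hx (algebraMap A C)
    (fun i => u (x i)) (fun i a ha => by
      obtain ⟨r, hr⟩ : x i ^ p ∈ Set.range (algebraMap R B) := hR ▸ ⟨x i, rfl⟩
      have har : a = algebraMap R A r := hinj (by rw [ha, ← IsScalarTower.algebraMap_apply R A B, hr])
      rw [har, ← IsScalarTower.algebraMap_apply R A C, ← map_pow, ← hr, AlgHom.commutes])
  refine ⟨{ toRingHom := w, commutes' := hw₀ }, AlgHom.coe_ringHom_injective ?_⟩
  refine Groth.Agent.PBasis.hom_ext' hp hpow hx.2 (fun a => ?_) (fun i => ?_)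
  · simp [hw₀]
  · have := congr($hu (x i))
    simp only [AlgHom.comp_apply, Ideal.Quotient.mkₐ_eq_mk, AlgHom.coe_restrictScalars] at this
    simp [hw i]
    exact this

end Groth.Agent.S4519
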