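import Groth.Statements.S4520
import Groth.Agent.PBasis.Field

set_option autoImplicit false
universe u
open EGA41

namespace Groth.Agent.S4520

open scoped TensorProduct

open TensorProduct in
/-- Let p be a prime, B a reduced ring of characteristic p, A a subring with B^p ⊆ A ⊆ B (here A → B
injective with all p-th powers in its image, and R → A → B with image in B the set of p-th powers, R
standing for B^p). Suppose B has a p-basis (x_λ) over A and A has a p-basis over R, and let x'_λ ∈ A
map to x_λ^p. Then the elements 1 ⊗ d_{A/ℤ}(x'_λ) form a basis of the B-module Υ_{B/A}, the kernel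
of B ⊗_A Ω_{A/ℤ} → Ω_{B/ℤ}. (The published statement also identifies Υ_{B/A} with the Frobenius
twist of Ω_{B/A}; this row states only the basis.) -/
theorem result (p : ℕ) [Fact p.Prime] {R A B : Type u} [CommRing R] [CommRing A]
    [CommRing B] [IsReduced B] [Algebra R A] [Algebra A B] [Algebra R B] [IsScalarTower R A B] [CharP B p]
    (hinj : Function.Injective (algebraMap A B)) (hpow : ∀ b : B, b ^ p ∈ Set.range (algebraMap A B))
    (hR : Set.range (algebraMap R B) = Set.range fun b : B => b ^ p)
    {Λ M : Type u} (x : Λ → B) (hx : EGA41.IsPBasis p A x) (x' : Λ → A) (hx' : ∀ i, algebraMap A B (x' i) = x i ^ p)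
    (y : M → A) (hy : EGA41.IsPBasis p R y) :
    ∃ b : Module.Basis Λ B (EGA41.imperfection ℤ A B),
      ∀ i, (b i : B ⊗[A] Ω[A⁄ℤ]) = (1 : B) ⊗ₜ[A] KaehlerDifferential.D ℤ A (x' i) := by
  classical
  have hp : p ≠ 0 := (Fact.out : p.Prime).ne_zero
  have hpA : ∀ a : A, a ^ p ∈ Set.range (algebraMap R A) := fun a => by
    obtain ⟨r, hr⟩ : algebraMap A B a ^ p ∈ Set.range (algebraMap R B) := hR ▸ ⟨_, rfl⟩
    exact ⟨r, hinj (by rw [← IsScalarTower.algebraMap_apply, hr, map_pow])⟩
  haveI hchA : CharP A p := RingHom.charP (algebraMap A B) hinj p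
  have hpu : ∀ u v : B, (u + v) ^ p = u ^ p + v ^ p :=
    fun u v => Groth.Agent.PBasis.add_pow_of_cast_eq_zero (CharP.cast_eq_zero B p) u v
  have hfr : Function.Injective fun b : B => b ^ p := frobenius_inj B p
  -- the derivations
  have hδ : ∀ i, ∃ δ : Derivation ℤ A B, ∀ j, δ (x' j) = if j = i then 1 else 0 := by
    intro i
    obtain ⟨E, hE0, hE⟩ := Groth.Agent.PBasis.exists_derivation' hp hinj hpow hx (0 : A →+ B)
      (by simp) (by simp) (fun j => if j = i then 1 else 0)
    have hroot : ∀ r : EGA41.pPowerSubalgebra p R A, ∃ b : B, algebraMap A B r = b ^ p := fun r => by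
      obtain ⟨r', hr'⟩ := Groth.Agent.PBasis.mem_range_of_mem hpA r.2
      obtain ⟨b, hb⟩ : algebraMap R B r' ∈ Set.range fun b : B => b ^ p := hR ▸ ⟨r', rfl⟩
      exact ⟨b, by rw [← hr', ← IsScalarTower.algebraMap_apply]; exact hb.symm⟩
    choose β hβ using hroot
    have huniq : ∀ r b, algebraMap A B (r : EGA41.pPowerSubalgebra p R A) = b ^ p → E (β r) ^ p = E b ^ p :=
      fun r b h => by rw [hfr ((hβ r).symm.trans h)]
    letI : Module A B := Algebra.toModule
    let D₀ : EGA41.pPowerSubalgebra p R A →+ B :=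
      { toFun := fun r => E (β r) ^ p
        map_zero' := by rw [huniq 0 0 (by simp [hp])]; simp [hp]
        map_add' := fun r s => by
          rw [huniq (r + s) (β r + β s) (by rw [hpu, ← hβ, ← hβ]; simp), map_add, hpu] }
    obtain ⟨δ, hδ₀, -⟩ := Groth.Agent.PBasis.exists_derivation (A := R) hp hy D₀
      (fun r s => by
        show E (β (r * s)) ^ p = (r : A) • E (β s) ^ p + (s : A) • E (β r) ^ p
        rw [huniq (r * s) (β r * β s) (by rw [mul_pow, ← hβ, ← hβ]; simp), Derivation.leibniz, hpu,
          smul_eq_mul, smul_eq_mul, mul_pow, mul_pow, Algebra.smul_def, Algebra.smul_def, hβ, hβ])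
      (fun m => by
        show E (β _) ^ p = 0
        rw [huniq _ (algebraMap A B (y m)) (map_pow _ _ _), hE0]
        simp [hp])
      0
    refine ⟨δ, fun j => ?_⟩
    have hmem : x' j ∈ EGA41.pPowerSubalgebra p R A := by
      obtain ⟨r, hr⟩ : x j ^ p ∈ Set.range (algebraMap R B) := hR ▸ ⟨_, rfl⟩
      rw [show x' j = algebraMap R A r from
        hinj (by rw [hx', ← IsScalarTower.algebraMap_apply, hr])]
      exact Subalgebra.algebraMap_mem _ r
    rw [show x' j = ((⟨x' j, hmem⟩ : EGA41.pPowerSubalgebra p R A) : A) from rfl, hδ₀]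
    show E (β _) ^ p = _
    rw [huniq _ (x j) (hx' j), hE]
    split_ifs <;> simp [hp]
  choose δ hδ using hδ
  -- spanning
  let S := Submodule.span B (Set.range fun i => (1 : B) ⊗ₜ[A] KaehlerDifferential.D ℤ A (x' i))
  have hSR : ∀ a : A, algebraMap A B a ∈ Set.range (fun b : B => b ^ p) →
      (1 : B) ⊗ₜ[A] KaehlerDifferential.D ℤ A a ∈ S := by
    rintro a ⟨b, hb⟩
    have hb' : b ∈ Algebra.adjoin (EGA41.pPowerSubalgebra p A B) (Set.range x) := by
      rw [(Groth.Agent.PBasis.isPGenerating_iff hp x).1 hx.2]; trivial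
    induction hb' using Algebra.adjoin_induction generalizing a with
    | mem _ h =>
      obtain ⟨i, rfl⟩ := h
      rw [show a = x' i from hinj (hb.symm.trans (hx' i).symm)]
      exact Submodule.subset_span ⟨i, rfl⟩
    | algebraMap c =>
      obtain ⟨c', hc'⟩ := Groth.Agent.PBasis.mem_range_of_mem hpow c.2
      rw [show a = c' ^ p from hinj (by rw [map_pow, hc']; exact hb.symm),
        Derivation.leibniz_pow, ← Nat.cast_smul_eq_nsmul A, CharP.cast_eq_zero, zero_smul,
        TensorProduct.tmul_zero]
      exact Submodule.zero_mem _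
    | add u v _ _ h1 h2 =>
      obtain ⟨a1, ha1⟩ := hpow u
      obtain ⟨a2, ha2⟩ := hpow v
      rw [show a = a1 + a2 from hinj (by rw [map_add, ha1, ha2, ← hpu]; exact hb.symm), map_add,
        TensorProduct.tmul_add]
      exact Submodule.add_mem _ (h1 a1 ha1.symm) (h2 a2 ha2.symm)
    | mul u v _ _ h1 h2 =>
      obtain ⟨a1, ha1⟩ := hpow u
      obtain ⟨a2, ha2⟩ := hpow v
      rw [show a = a1 * a2 from hinj (by rw [map_mul, ha1, ha2, ← mul_pow]; exact hb.symm),
        Derivation.leibniz, TensorProduct.tmul_add, TensorProduct.tmul_smul, TensorProduct.tmul_smul,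
        ← algebraMap_smul B a1, ← algebraMap_smul B a2]
      exact Submodule.add_mem _ (Submodule.smul_mem _ _ (h2 a2 ha2.symm))
        (Submodule.smul_mem _ _ (h1 a1 ha1.symm))
  obtain ⟨D', hD', -⟩ := Groth.Agent.PBasis.exists_derivation' hp hinj hpow hx
    (L := (B ⊗[A] Ω[A⁄ℤ]) ⧸ S)
    { toFun := fun a => S.mkQ ((1 : B) ⊗ₜ[A] KaehlerDifferential.D ℤ A a)
      map_zero' := by simp
      map_add' := fun a b => by simp [TensorProduct.tmul_add] }
    (fun a b => by
      show S.mkQ _ = algebraMap A B a • S.mkQ _ + algebraMap A B b • S.mkQ _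
      rw [Derivation.leibniz, TensorProduct.tmul_add, TensorProduct.tmul_smul, TensorProduct.tmul_smul,
        ← algebraMap_smul B a, ← algebraMap_smul B b, map_add, map_smul, map_smul])
    (fun i a ha => (Submodule.Quotient.mk_eq_zero S).2 (hSR a ⟨x i, ha.symm⟩)) 0
  have hψ : ∀ w : B ⊗[A] Ω[A⁄ℤ],
      D'.liftKaehlerDifferential (KaehlerDifferential.mapBaseChange ℤ A B w) = S.mkQ w := by
    intro w
    induction w using TensorProduct.induction_on with
    | zero => simp
    | add u v hu hv => simp [hu, hv]
    | tmul l ω =>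
      have hω : ω ∈ Submodule.span A (Set.range (KaehlerDifferential.D ℤ A)) := by
        rw [KaehlerDifferential.span_range_derivation]; trivial
      rw [KaehlerDifferential.mapBaseChange_tmul, map_smul]
      have : D'.liftKaehlerDifferential (KaehlerDifferential.map ℤ ℤ A B ω) =
          S.mkQ ((1 : B) ⊗ₜ[A] ω) := by
        induction hω using Submodule.span_induction with
        | mem _ h =>
          obtain ⟨a, rfl⟩ := h
          rw [KaehlerDifferential.map_D, Derivation.liftKaehlerDifferential_comp_D]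
          exact hD' a
        | zero => simp
        | add _ _ _ _ h1 h2 => simp [h1, h2, TensorProduct.tmul_add]
        | smul a η _ h =>
          rw [map_smul, ← algebraMap_smul B a (KaehlerDifferential.map ℤ ℤ A B η), map_smul, h,
            TensorProduct.tmul_smul, ← algebraMap_smul B a ((1 : B) ⊗ₜ[A] η), map_smul]
      rw [this, ← map_smul, TensorProduct.smul_tmul', smul_eq_mul, mul_one]
  -- the kernel
  have hker : EGA41.imperfection ℤ A B = S := by
    refine le_antisymm (fun w hw => ?_) (Submodule.span_le.2 ?_)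
    · refine (Submodule.Quotient.mk_eq_zero S).1 ?_
      rw [← Submodule.mkQ_apply, ← hψ, show KaehlerDifferential.mapBaseChange ℤ A B w = 0 from hw,
        map_zero]
    · rintro _ ⟨i, rfl⟩
      show KaehlerDifferential.mapBaseChange ℤ A B ((1 : B) ⊗ₜ[A] KaehlerDifferential.D ℤ A (x' i)) = 0
      rw [KaehlerDifferential.mapBaseChange_tmul, one_smul, KaehlerDifferential.map_D, hx',
        Derivation.leibniz_pow, ← Nat.cast_smul_eq_nsmul B, CharP.cast_eq_zero, zero_smul]
  -- independence
  have hli : LinearIndependent B fun i => (1 : B) ⊗ₜ[A] KaehlerDifferential.D ℤ A (x' i) := by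
    rw [linearIndependent_iff']
    intro s c hc i hi
    have := congrArg ((δ i).liftKaehlerDifferential.liftBaseChange B) hc
    simp only [map_sum, map_smul, LinearMap.liftBaseChange_tmul, one_smul,
      Derivation.liftKaehlerDifferential_comp_D, map_zero, hδ, smul_eq_mul, mul_ite, mul_one,
      mul_zero, Finset.sum_ite_eq', hi, if_true] at this
    exact this
  refine ⟨(Module.Basis.span hli).map (LinearEquiv.ofEq _ _ hker.symm), fun i => ?_⟩
  rw [Module.Basis.map_apply, LinearEquiv.coe_ofEq_apply]
  exact congrArg Subtype.val (Module.Basis.span_apply hli i)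

end Groth.Agent.S4520
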