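import Groth.Statements.S4522
import Groth.Agent.PBasis.Field
import Groth.Agent.S2467

set_option autoImplicit false
universe u
open EGA41

namespace Groth.Agent.S4522

open scoped TensorProduct

/-- Let L be a field of characteristic p > 0 and K a subfield with L^p ⊆ K ⊆ L (here R → K → L with the
image of R in L the set of p-th powers and every p-th power of L in the image of K). Then the
canonical L-linear map L ⊗_K Ω_{K/L^p} → Ω_{L/L^p} is injective, so that 0 → Ω_{K/L^p} ⊗_K L →
Ω_{L/L^p} → Ω_{L/K} → 0 is exact: the imperfection module of L over K relative to L^p vanishes. -/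
theorem result (p : ℕ) [Fact p.Prime] {R K L : Type u} [Field R] [Field K] [Field L]
    [Algebra R K] [Algebra K L] [Algebra R L] [IsScalarTower R K L] [CharP L p]
    (hR : Set.range (algebraMap R L) = Set.range fun y : L => y ^ p)
    (hK : ∀ y : L, y ^ p ∈ Set.range (algebraMap K L)) :
    Function.Injective (KaehlerDifferential.mapBaseChange R K L) := by
  classical
  have hp : p ≠ 0 := (Fact.out : p.Prime).ne_zero
  have huniv : EGA41.IsPGenerating p K (Subtype.val : ↥(Set.univ : Set L) → L) := by
    rw [Groth.Agent.PBasis.isPGenerating_iff hp, Subtype.range_coe]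
    exact Algebra.adjoin_univ _ _
  have hempty : EGA41.IsPIndependent p K (Subtype.val : ↥(∅ : Set L) → L) :=
    (Groth.Agent.PBasis.isPIndependent_iff_linearIndependent _).2 linearIndependent_empty_type
  obtain ⟨S, -, -, hS⟩ := Groth.Agent.S2467.result p (k := K) Set.univ ∅ (Set.empty_subset _) huniv hempty
  have hinj := (algebraMap K L).injective
  let D₀ : K →+ TensorProduct K L (Ω[K⁄R]) :=
    { toFun := fun a => (1 : L) ⊗ₜ KaehlerDifferential.D R K a
      map_zero' := by simp
      map_add' := fun a b => by simp [TensorProduct.tmul_add] }
  obtain ⟨D', hD', -⟩ := Groth.Agent.PBasis.exists_derivation' hp hinj hK hS D₀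
    (fun a b => by
      show (1 : L) ⊗ₜ[K] KaehlerDifferential.D R K (a * b) =
        algebraMap K L a • ((1 : L) ⊗ₜ[K] KaehlerDifferential.D R K b) +
          algebraMap K L b • ((1 : L) ⊗ₜ[K] KaehlerDifferential.D R K a)
      rw [Derivation.leibniz, TensorProduct.tmul_add, TensorProduct.tmul_smul, TensorProduct.tmul_smul,
        algebraMap_smul, algebraMap_smul])
    (fun i a ha => by
      obtain ⟨r, hr⟩ : (i : L) ^ p ∈ Set.range (algebraMap R L) := hR ▸ ⟨i, rfl⟩
      rw [IsScalarTower.algebraMap_apply R K L, ← ha] at hr
      simp [D₀, ← hinj hr]) 0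
  have hDR : ∀ r : R, D' (algebraMap R L r) = 0 := fun r => by
    rw [IsScalarTower.algebraMap_apply R K L, hD']
    simp [D₀]
  let E : Derivation R L (TensorProduct K L (Ω[K⁄R])) := Derivation.mk'
    { toFun := fun b => D' b
      map_add' := fun a b => by simp
      map_smul' := fun r b => by
        show D' (r • b) = r • D' b
        rw [Algebra.smul_def, Derivation.leibniz, hDR, smul_zero, add_zero, algebraMap_smul] }
    (fun a b => by simp)
  refine Function.LeftInverse.injective (g := E.liftKaehlerDifferential) fun w => ?_
  induction w using TensorProduct.induction_on with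
  | zero => simp
  | add u v hu hv => simp [hu, hv]
  | tmul l ω =>
    have hω : ω ∈ Submodule.span K (Set.range (KaehlerDifferential.D R K)) := by
      rw [KaehlerDifferential.span_range_derivation]; trivial
    rw [KaehlerDifferential.mapBaseChange_tmul, map_smul]
    have : E.liftKaehlerDifferential (KaehlerDifferential.map R R K L ω) = (1 : L) ⊗ₜ[K] ω := by
      induction hω using Submodule.span_induction with
      | mem _ h =>
        obtain ⟨a, rfl⟩ := h
        rw [KaehlerDifferential.map_D, Derivation.liftKaehlerDifferential_comp_D]
        exact hD' a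
      | zero => simp
      | add _ _ _ _ h1 h2 => simp [h1, h2, TensorProduct.tmul_add]
      | smul a η _ h =>
        rw [map_smul, ← algebraMap_smul L a (KaehlerDifferential.map R R K L η), map_smul, h,
          algebraMap_smul, TensorProduct.tmul_smul]
    rw [this, TensorProduct.smul_tmul', smul_eq_mul, mul_one]

end Groth.Agent.S4522
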