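import Groth.Statements.S4524
import Groth.Agent.PBasis.Derivations

set_option autoImplicit false
universe u
open EGA41

namespace Groth.Agent.S4524

open scoped TensorProduct

/-- Let k be a field of characteristic 0 and K an extension of k. Then Ω_{K/k} = 0 if and only if K is
an algebraic extension of k. -/
theorem result {k K : Type u} [Field k] [CharZero k] [Field K] [Algebra k K] :
    Subsingleton (Ω[K⁄k]) ↔ Algebra.IsAlgebraic k K := by
  constructor
  · intro hsub
    refine ⟨fun t => by_contra fun ht => ?_⟩
    let ψ : Polynomial k →+* K := (Polynomial.aeval t : Polynomial k →ₐ[k] K).toRingHom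
    have hψ : Function.Injective ψ := transcendental_iff_injective.1 ht
    letI : Algebra (Polynomial k) K := ψ.toAlgebra
    haveI : IsScalarTower k (Polynomial k) K :=
      IsScalarTower.of_algebraMap_eq fun a => ((Polynomial.aeval t).commutes a).symm
    haveI : FaithfulSMul (Polynomial k) K := (faithfulSMul_iff_algebraMap_injective _ _).2 hψ
    letI := FractionRing.liftAlgebra (Polynomial k) K
    haveI : CharZero (Polynomial k) := charZero_of_injective_algebraMap (algebraMap k (Polynomial k)).injective
    haveI : CharZero (FractionRing (Polynomial k)) :=
      charZero_of_injective_algebraMap (IsFractionRing.injective (Polynomial k) _)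
    haveI : Algebra.FormallySmooth (FractionRing (Polynomial k)) K := by
      obtain ⟨ι, x, hx⟩ := exists_isTranscendenceBasis' (FractionRing (Polynomial k)) K
      haveI := hx.isAlgebraic_field
      exact Algebra.FormallySmooth.of_algebraicIndependent_of_isSeparable hx.1
    haveI : Algebra.FormallySmooth (Polynomial k) (FractionRing (Polynomial k)) :=
      Algebra.FormallySmooth.of_isLocalization (nonZeroDivisors (Polynomial k))
    haveI : Algebra.FormallySmooth (Polynomial k) K :=
      Algebra.FormallySmooth.comp _ (FractionRing (Polynomial k)) _
    have hinj := Groth.Agent.PBasis.injective_mapBaseChange_of_formallySmooth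
      (R := k) (S := Polynomial k) (T := K)
    have h0 : (1 : K) ⊗ₜ[Polynomial k] KaehlerDifferential.D k (Polynomial k) Polynomial.X = 0 :=
      hinj (Subsingleton.elim _ _)
    have := congrArg ((Polynomial.derivative'.liftKaehlerDifferential).baseChange K) h0
    simp at this
    simpa using congrArg (TensorProduct.rid (Polynomial k) K) this
  · intro halg
    haveI : Algebra.IsSeparable k K := Algebra.IsAlgebraic.isSeparable_of_perfectField
    haveI : Algebra.FormallyUnramified k K := Algebra.FormallyUnramified.of_isSeparable k K
    infer_instance

end Groth.Agent.S4524
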