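import Groth.Statements.S4525
import Groth.Agent.FieldIndex.General
import Groth.Agent.FieldIndex.Surj

set_option autoImplicit false
universe u
open EGA41

namespace Groth.Agent.S4525

open scoped TensorProduct

/-- Let K be a field, L an extension of finite type of K and k a subfield of K. Then Ω_{L/K} and the
imperfection module Υ_{L/K/k} are finite-dimensional L-vector spaces and rank Ω_{L/K} − rank
Υ_{L/K/k} ≥ trdeg_K L. (The published statement also gives the equality rank Ω_{L/K} − rank
Υ_{L/K/k} = trdeg_K L + d(L/K, k) and an equality criterion; this row states only finiteness and the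
inequality.) -/
theorem result {k K L : Type u} [Field k] [Field K] [Field L]
    [Algebra k K] [Algebra K L] [Algebra k L] [IsScalarTower k K L] [Algebra.EssFiniteType K L] :
    Module.Finite L (Ω[L⁄K]) ∧ Module.Finite L (EGA41.imperfection k K L) ∧
      (Cardinal.toNat (Algebra.trdeg K L) : ℤ) ≤
        (Module.finrank L (Ω[L⁄K]) : ℤ) - Module.finrank L (EGA41.imperfection k K L) := by
  obtain ⟨hf, n, hn, hi⟩ := Groth.Agent.FieldIndex.good_of_essFiniteType (K := K) (L := L)
  obtain ⟨h1, h2⟩ := (Groth.Agent.FieldIndex.isFred_fmap_iff K L).1 hf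
  haveI : Module.Finite L (EGA41.imperfection ℤ K L) := h1
  haveI := h2
  let φ : EGA41.imperfection ℤ K L →ₗ[L] L ⊗[K] Ω[K⁄k] :=
    (KaehlerDifferential.map ℤ k K K).baseChange L ∘ₗ (EGA41.imperfection ℤ K L).subtype
  have hle : EGA41.imperfection k K L ≤ LinearMap.range φ := fun w hw => by
    obtain ⟨η, hη, rfl⟩ := Groth.Agent.FieldIndex.imperfection_surj ℤ k K L w hw
    exact ⟨⟨η, hη⟩, rfl⟩
  haveI : Module.Finite L (LinearMap.range φ) := Module.Finite.range φ
  haveI : Module.Finite L (EGA41.imperfection k K L) :=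
    Submodule.finiteDimensional_of_le hle
  refine ⟨h2, this, ?_⟩
  have hk : Module.finrank L (EGA41.imperfection k K L) ≤ Module.finrank L (EGA41.imperfection ℤ K L) :=
    (Submodule.finrank_mono hle).trans (LinearMap.finrank_range_le φ)
  rw [Groth.Agent.FieldIndex.idx_fmap] at hi
  have hi' : (Module.finrank L (Ω[L⁄K]) : ℤ) - Module.finrank L (EGA41.imperfection ℤ K L) = n := hi
  rw [hn, Cardinal.toNat_natCast]
  omega

end Groth.Agent.S4525
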