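import Groth.Statements.S4526
import Groth.Agent.S4525

set_option autoImplicit false
universe u
open EGA41

namespace Groth.Agent.S4526

open scoped TensorProduct

/-- Let k ⊆ K ⊆ L be three fields with L an extension of finite type of k. Then Ω_{L/k} and Ω_{K/k} are
finite-dimensional and rank_L Ω_{L/k} − rank_K Ω_{K/k} ≥ trdeg_K L. (The published statement also
gives the exact value trdeg_K L + d(L/K, k) and an equality criterion; this row states only the
inequality.) -/
theorem result {k K L : Type u} [Field k] [Field K] [Field L]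
    [Algebra k K] [Algebra K L] [Algebra k L] [IsScalarTower k K L] [Algebra.EssFiniteType k L] :
    Module.Finite L (Ω[L⁄k]) ∧ Module.Finite K (Ω[K⁄k]) ∧
      (Cardinal.toNat (Algebra.trdeg K L) : ℤ) ≤ (Module.finrank L (Ω[L⁄k]) : ℤ) - Module.finrank K (Ω[K⁄k]) := by
  haveI : Algebra.EssFiniteType K L := Algebra.EssFiniteType.of_comp k K L
  obtain ⟨h1, h2, h3⟩ := Groth.Agent.S4525.result (k := k) (K := K) (L := L)
  haveI := h1; haveI := h2
  let f : L ⊗[K] Ω[K⁄k] →ₗ[L] Ω[L⁄k] := KaehlerDifferential.mapBaseChange k K L
  haveI hLk : Module.Finite L (Ω[L⁄k]) := inferInstance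
  haveI : Module.Finite L (LinearMap.range f) := inferInstance
  haveI hT : Module.Finite L (L ⊗[K] Ω[K⁄k]) :=
    haveI : Module.Finite L ((L ⊗[K] Ω[K⁄k]) ⧸ LinearMap.ker f) :=
      Module.Finite.equiv f.quotKerEquivRange.symm
    haveI : Module.Finite L (LinearMap.ker f) := h2
    Module.Finite.of_submodule_quotient (LinearMap.ker f)
  have hK : Module.Finite K (Ω[K⁄k]) := by
    let b := Module.Free.chooseBasis K (Ω[K⁄k])
    haveI := Module.Finite.finite_basis (Algebra.TensorProduct.basis L b)
    exact Module.Finite.of_basis b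
  refine ⟨hLk, hK, ?_⟩
  have e1 := LinearMap.finrank_range_add_finrank_ker f
  rw [Module.finrank_baseChange] at e1
  have e2 := Submodule.finrank_quotient_add_finrank (LinearMap.range f)
  rw [LinearEquiv.finrank_eq ((Submodule.quotEquivOfEq _ _
      (LinearMap.exact_iff.1 (KaehlerDifferential.exact_mapBaseChange_map k K L)).symm).trans
    ((KaehlerDifferential.map k K L L).quotKerEquivOfSurjective
      (KaehlerDifferential.map_surjective_of_surjective k K L L Function.surjective_id)))] at e2
  have e3 : Module.finrank L (LinearMap.ker f) = Module.finrank L (EGA41.imperfection k K L) := rfl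
  omega

end Groth.Agent.S4526
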