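import Groth.Statements.S4558
import Mathlib

set_option autoImplicit false
universe u
open EGA41

namespace Groth.Agent.S4558

open scoped TensorProduct

/-- Let A be a discrete ring, B an adic topological A-algebra with ideal of definition 𝔫 (B separated
and complete for the 𝔫-adic topology) and B₀ = B/𝔫. If Ω_{B₀/A} and 𝔫/𝔫² are B₀-modules of finite
type, then Ω̂_{B/A}, the 𝔫-adic completion of Ω_{B/A}, is a B-module of finite type. -/
theorem result {A B : Type u} [CommRing A] [CommRing B] [Algebra A B] (𝔫 : Ideal B)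
    [IsAdicComplete 𝔫 B] [Module.Finite (B ⧸ 𝔫) (Ω[B ⧸ 𝔫⁄A])] [Module.Finite (B ⧸ 𝔫) 𝔫.Cotangent] :
    Module.Finite B (AdicCompletion 𝔫 (Ω[B⁄A])) := by
  set M := Ω[B⁄A]
  have hfin : Module.Finite (B ⧸ 𝔫) (M ⧸ (𝔫 • ⊤ : Submodule B M)) := by
    have hs : Function.Surjective (algebraMap B (B ⧸ 𝔫)) := Ideal.Quotient.mk_surjective
    have hker : RingHom.ker (algebraMap B (B ⧸ 𝔫)) = 𝔫 := Ideal.mk_ker
    have hsurjB : Module.Finite B (RingHom.ker (algebraMap B (B ⧸ 𝔫))).Cotangent := by
      rw [hker]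
      exact Module.Finite.trans (B ⧸ 𝔫) _
    have hΩ : Module.Finite B (Ω[B ⧸ 𝔫⁄A]) := Module.Finite.trans (B ⧸ 𝔫) _
    have hT : Module.Finite B ((B ⧸ 𝔫) ⊗[B] M) := by
      constructor
      refine Submodule.fg_of_fg_map_of_fg_inf_ker
        ((KaehlerDifferential.mapBaseChange A B (B ⧸ 𝔫)).restrictScalars B) ?_ ?_
      · rw [Submodule.map_top, LinearMap.range_eq_top.mpr (show Function.Surjective ((KaehlerDifferential.mapBaseChange A B (B ⧸ 𝔫)).restrictScalars B) from KaehlerDifferential.mapBaseChange_surjective A B _ hs)]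
        exact hΩ.fg_top
      · rw [top_inf_eq, LinearMap.ker_restrictScalars, ← KaehlerDifferential.range_kerCotangentToTensor A B _ hs,
          LinearMap.range_eq_map]
        exact hsurjB.fg_top.map _
    have := Module.Finite.equiv (TensorProduct.quotTensorEquivQuotSMul M 𝔫)
    exact Module.Finite.of_restrictScalars_finite B _ _
  obtain ⟨s, x, hx⟩ := Module.Finite.exists_fin (R := B ⧸ 𝔫) (M := M ⧸ (𝔫 • ⊤ : Submodule B M))
  choose y hy using fun i => Submodule.Quotient.mk_surjective _ (x i)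
  let f : (Fin s → B) →ₗ[B] M := Fintype.linearCombination B y
  have hf : Function.Surjective (Submodule.mkQ (𝔫 • ⊤) ∘ₗ f) := by
    rw [← LinearMap.range_eq_top, LinearMap.range_comp, Fintype.range_linearCombination,
      Submodule.map_span, ← Set.range_comp, show Submodule.mkQ (𝔫 • ⊤ : Submodule B M) ∘ y = x from funext hy]
    rw [← Submodule.restrictScalars_span B (B ⧸ 𝔫) Ideal.Quotient.mk_surjective, hx,
      Submodule.restrictScalars_top]
  have h1 : Function.Surjective (AdicCompletion.map 𝔫 f) :=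
    AdicCompletion.map_surjective_of_mkQ_comp_surjective hf
  let e : (Fin s → B) ≃ₗ[B] AdicCompletion 𝔫 (Fin s → B) :=
    (LinearEquiv.piCongrRight fun _ => AdicCompletion.ofLinearEquiv 𝔫 B).trans
      ((AdicCompletion.piEquivFin 𝔫 s).restrictScalars B).symm
  exact Module.Finite.of_surjective (((AdicCompletion.map 𝔫 f).restrictScalars B) ∘ₗ e.toLinearMap)
    (h1.comp e.surjective)

end Groth.Agent.S4558
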