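import Groth.Statements.S4530
import Mathlib
import Groth.Agent.Jacobian.LeftInverse

set_option autoImplicit false
universe u
open EGA41

namespace Groth.Agent.S4530

open TensorProduct in
/-- Let A be a ring, M an A-module of finite type, N a projective A-module, u : M → N a homomorphism.
For a prime ideal 𝔭 the following are equivalent: (a) u_𝔭 : M_𝔭 → N_𝔭 is left invertible; (b) u ⊗ 1
: M ⊗ k(𝔭) → N ⊗ k(𝔭) is injective; (d) there is f ∉ 𝔭 with u_f : M_f → N_f left invertible.
Moreover the set of such 𝔭 is open in Spec A. (The published statement also has a determinant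
criterion (c); this row omits it.) -/
theorem result {A : Type u} [CommRing A] {M N : Type u} [AddCommGroup M] [Module A M]
    [Module.Finite A M] [AddCommGroup N] [Module A N] [Module.Projective A N] (u : M →ₗ[A] N) :
    (∀ p : PrimeSpectrum A,
      [∃ w : LocalizedModule p.asIdeal.primeCompl N →ₗ[A] LocalizedModule p.asIdeal.primeCompl M,
          w ∘ₗ LocalizedModule.map p.asIdeal.primeCompl u = LinearMap.id,
       Function.Injective (u.lTensor p.asIdeal.ResidueField),
       ∃ f : A, f ∉ p.asIdeal ∧
          ∃ w : LocalizedModule (Submonoid.powers f) N →ₗ[A] LocalizedModule (Submonoid.powers f) M,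
            w ∘ₗ LocalizedModule.map (Submonoid.powers f) u = LinearMap.id].TFAE) ∧
    IsOpen {p : PrimeSpectrum A |
      ∃ w : LocalizedModule p.asIdeal.primeCompl N →ₗ[A] LocalizedModule p.asIdeal.primeCompl M,
        w ∘ₗ LocalizedModule.map p.asIdeal.primeCompl u = LinearMap.id} := by
  have hab : ∀ (p : PrimeSpectrum A) (S : Submonoid A), (∀ s : S, (s : A) ∉ p.asIdeal) →
      (∃ w : LocalizedModule S N →ₗ[A] LocalizedModule S M, w ∘ₗ LocalizedModule.map S u = LinearMap.id) →
      Function.Injective (u.lTensor p.asIdeal.ResidueField) := fun p S hS ⟨w, hw⟩ =>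
    Groth.Agent.Jacobian.lTensor_injective_of_localized_retraction u S w (LinearMap.congr_fun hw) _
      fun s => Groth.Agent.Jacobian.isUnit_algebraMap_residueField (hS s)
  have hpow : ∀ (p : PrimeSpectrum A) (f : A), f ∉ p.asIdeal → ∀ s : Submonoid.powers f, (s : A) ∉ p.asIdeal := by
    rintro p f hf ⟨_, n, rfl⟩ h
    exact hf (p.2.mem_of_pow_mem n h)
  have hba : ∀ p : PrimeSpectrum A, Function.Injective (u.lTensor p.asIdeal.ResidueField) →
      ∃ w : LocalizedModule p.asIdeal.primeCompl N →ₗ[A] LocalizedModule p.asIdeal.primeCompl M,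
        w ∘ₗ LocalizedModule.map p.asIdeal.primeCompl u = LinearMap.id := fun p h => by
    obtain ⟨f, hf, l, hl⟩ := Groth.Agent.Jacobian.exists_comp_eq_smul_id_of_injective u p.asIdeal h
    exact Groth.Agent.Jacobian.exists_localized_retraction u _ l hf hl
  refine ⟨fun p => ?_, ?_⟩
  · tfae_have 1 → 2 := hab p _ fun s => s.2
    tfae_have 2 → 3 := fun h => by
      obtain ⟨f, hf, l, hl⟩ := Groth.Agent.Jacobian.exists_comp_eq_smul_id_of_injective u p.asIdeal h
      exact ⟨f, hf, Groth.Agent.Jacobian.exists_localized_retraction u _ l (Submonoid.mem_powers f) hl⟩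
    tfae_have 3 → 1 := fun ⟨f, hf, h⟩ => hba p (hab p _ (hpow p f hf) h)
    tfae_finish
  · rw [isOpen_iff_forall_mem_open]
    intro p hp
    obtain ⟨f, hf, l, hl⟩ := Groth.Agent.Jacobian.exists_comp_eq_smul_id_of_injective u p.asIdeal
      (hab p _ (fun s => s.2) hp)
    exact ⟨PrimeSpectrum.basicOpen f,
      fun q hq => Groth.Agent.Jacobian.exists_localized_retraction u _ l hq hl,
      (PrimeSpectrum.basicOpen f).isOpen, hf⟩

end Groth.Agent.S4530
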