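import Groth.Statements.S4533
import Groth.Agent.FSAdic.PowerSeries
import Mathlib.RingTheory.Noetherian.Nilpotent

set_option autoImplicit false
universe u
open EGA41

namespace Groth.Agent.S4533

/-- Let A carry the 𝔞-adic topology and let B = A[[T_1, …, T_n]] carry the product topology, i.e. the
adic topology of the ideal 𝔞B + (T_1, …, T_n) (the kernel of the constant-coefficient map added to
the extension of 𝔞). Then B is a formally smooth A-algebra for these topologies. (The published
statement allows any linearly topologized base ring and any set of indeterminates with the product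
topology; this row takes an adic base and finitely many indeterminates, where the product topology
is adic.) -/
theorem result (A : Type u) [CommRing A] (𝔞 : Ideal A) (n : ℕ) :
    EGA41.IsFormallySmoothAdic A 𝔞 (MvPowerSeries (Fin n) A)
      (𝔞.map (MvPowerSeries.C : A →+* MvPowerSeries (Fin n) A) ⊔
        RingHom.ker (MvPowerSeries.constantCoeff : MvPowerSeries (Fin n) A →+* A)) := by
  set K := 𝔞.map (MvPowerSeries.C : A →+* MvPowerSeries (Fin n) A) ⊔
    RingHom.ker (MvPowerSeries.constantCoeff : MvPowerSeries (Fin n) A →+* A) with hK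
  rintro T _ _ J ⟨r, hr⟩ ⟨k, hk⟩ u ⟨l, hl⟩
  choose z hz using fun i => Ideal.Quotient.mk_surjective (u (MvPowerSeries.X i))
  have hzn : ∀ i, IsNilpotent (z i) := fun i => by
    refine ⟨l * r, ?_⟩
    have h1 : z i ^ l ∈ J := by
      rw [← Ideal.Quotient.eq_zero_iff_mem, map_pow, hz, ← map_pow]
      exact hl _ (Ideal.pow_mem_pow (Ideal.mem_sup_right (MvPowerSeries.constantCoeff_X i)) l)
    have h2 := Ideal.pow_mem_pow h1 r
    rw [hr, ← pow_mul] at h2
    exact h2
  obtain ⟨N, hN⟩ : ∃ N, Ideal.span (Set.range z) ^ N = ⊥ := by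
    have : IsNilpotent (Ideal.span (Set.range z)) :=
      (Ideal.FG.isNilpotent_iff_le_nilradical (Submodule.fg_span (Set.finite_range z))).mpr
        (Ideal.span_le.mpr (by rintro _ ⟨i, rfl⟩; exact mem_nilradical.mpr (hzn i)))
    exact this
  let g := Groth.Agent.FSAdic.evalNilp (A := A) z N hN
  refine ⟨g, Groth.Agent.FSAdic.algHom_ext_of_vanish (max l N) (fun x hx => ?_) (fun x hx => ?_)
    fun i => ?_⟩
  · have h2 := Ideal.mem_map_of_mem g.toRingHom ((Ideal.pow_le_pow_right (le_max_right l N)) hx)
    rw [Ideal.map_pow] at h2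
    have := Ideal.pow_right_mono (Ideal.map_le_iff_le_comap.mpr fun y hy =>
      Groth.Agent.FSAdic.evalNilp_mem z N hN hy : (Groth.Agent.FSAdic.augIdeal A n).map g.toRingHom ≤ Ideal.span (Set.range z)) N h2
    rw [hN, Ideal.mem_bot] at this
    rw [AlgHom.comp_apply, show g x = 0 from this, map_zero]
  · exact hl x ((Ideal.pow_le_pow_right (le_max_left _ _)) (Ideal.pow_right_mono le_sup_right _ hx))
  · rw [AlgHom.comp_apply, Groth.Agent.FSAdic.evalNilp_X, Ideal.Quotient.mkₐ_eq_mk, hz]

end Groth.Agent.S4533
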