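import Groth.Statements.S4539
import Groth.Agent.CohenLift.Iso
import Groth.Agent.CAlgCohen.Lift
import Groth.Agent.CAlgCohen.Existence
import Groth.Agent.GeomRed.Alg

set_option autoImplicit false
universe u
open EGA41

namespace Groth.Agent.S4539

open IsLocalRing

open IsLocalRing in
/-- Let A be a local ring with residue characteristic p (p = 0 or a prime), P the prime local ring ℤ_(p)
(ℚ if p = 0) and P → A its unique local homomorphism. Then A is a Cohen ring, i.e. a Cohen P-algebra
— Noetherian and complete, flat over P, with pA its maximal ideal (and residue field separable over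
the prime field) — if and only if A is a field of characteristic 0 or a complete discrete valuation
ring of residue characteristic > 0 whose maximal ideal is generated by p·1. -/
theorem result (p : ℕ) [hp : (Ideal.span {(p : ℤ)}).IsPrime]
    {A : Type} [CommRing A] [IsLocalRing A] [CharP (ResidueField A) p]
    [Algebra (Localization.AtPrime (Ideal.span {(p : ℤ)})) A]
    [IsLocalHom (algebraMap (Localization.AtPrime (Ideal.span {(p : ℤ)})) A)] :
    EGA41.IsCohenAlgebra (Localization.AtPrime (Ideal.span {(p : ℤ)})) A ↔ EGA41.IsCohenRingEGA A := by
  haveI := hp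
  constructor
  · rintro ⟨-, hA, hc, hflat, hm, -⟩
    haveI := hA
    haveI := hflat
    haveI := IsScalarTower.of_algebraMap_eq' (R := ℤ) (S := Localization.AtPrime (Ideal.span {(p : ℤ)})) (A := A) (Subsingleton.elim _ _)
    haveI : Module.Flat ℤ A := Module.Flat.trans ℤ (Localization.AtPrime (Ideal.span {(p : ℤ)})) A
    haveI : Module.IsTorsionFree ℤ A := Module.Flat.isTorsionFree
    haveI : CharZero A := charZero_of_inj_zero fun n hn => by
      by_contra h0
      have := smul_right_injective A (Int.natCast_ne_zero.2 h0) (a₁ := (1 : A)) (a₂ := 0)
        (by simp [hn])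
      exact one_ne_zero this
    have hmA : maximalIdeal A = Ideal.span {(p : A)} := by
      rw [← hm, ← IsLocalization.AtPrime.map_eq_maximalIdeal (Ideal.span {(p : ℤ)}), Ideal.map_map,
        Ideal.map_span, Set.image_singleton, map_natCast]
    rcases eq_or_ne p 0 with rfl | hp0
    · refine Or.inl ⟨?_, inferInstance⟩
      rw [Nat.cast_zero, Ideal.span_singleton_zero] at hmA
      exact isField_iff_maximalIdeal_eq.2 hmA
    · have hpp : p.Prime := (CharP.char_is_prime_or_zero (ResidueField A) p).resolve_right hp0
      have hnz : (p : A) ∈ nonZeroDivisors A := mem_nonZeroDivisors_iff_right.2 fun a ha => by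
        refine smul_right_injective A (Int.natCast_ne_zero.2 hp0) (a₁ := a) (a₂ := 0) ?_
        simp only [zsmul_eq_mul, Int.cast_natCast, mul_zero]
        rwa [mul_comm]
      obtain ⟨h1, h2⟩ := Groth.Agent.CAlgCohen.isDVR_of_regular_generator (p : A) hmA
        (fun a ha => (mem_nonZeroDivisors_iff_right.1 hnz) a (by rw [mul_comm]; exact ha))
      exact Or.inr ⟨h1, h2, hc, p, hpp, hmA⟩
  · intro hA
    haveI : CharZero A := by
      rcases hA with ⟨_, h⟩ | ⟨_, _, -, q, hq, hm⟩
      · exact h
      · exact Groth.Agent.CAlgCohen.charZero hq hm
    have hmA : maximalIdeal A = Ideal.span {(p : A)} := by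
      rcases hA with ⟨hF, _⟩ | ⟨_, _, -, q, hq, hm⟩
      · have hb := isField_iff_maximalIdeal_eq.1 hF
        have hp0 : p = 0 := by
          letI := hF.toField
          haveI : CharZero (ResidueField A) := charZero_of_injective_ringHom (residue A).injective
          exact CharP.eq (ResidueField A) inferInstance (CharP.ofCharZero _)
        rw [hb, hp0, Nat.cast_zero, Ideal.span_singleton_zero]
      · have := Groth.Agent.CAlgCohen.charP_residueField hq hm
        rwa [CharP.eq (ResidueField A) ‹CharP (ResidueField A) p› this]
    haveI := Groth.Agent.CohenLift.isNoetherianRing hA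
    haveI : IsDomain A := by
      rcases hA with ⟨hF, _⟩ | ⟨h, _⟩
      · letI := hF.toField; infer_instance
      · exact h
    have hmap : (maximalIdeal (Localization.AtPrime (Ideal.span {(p : ℤ)}))).map
        (algebraMap (Localization.AtPrime (Ideal.span {(p : ℤ)})) A) = maximalIdeal A := by
      rw [← IsLocalization.AtPrime.map_eq_maximalIdeal (Ideal.span {(p : ℤ)}), Ideal.map_map,
        Ideal.map_span, Set.image_singleton, map_natCast, hmA]
    refine ⟨IsLocalization.isNoetherianRing (Ideal.span {(p : ℤ)}).primeCompl _ inferInstance,
      inferInstance, Groth.Agent.CohenLift.isAdicComplete hA, ?_, hmap, ?_⟩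
    · haveI := IsScalarTower.of_algebraMap_eq' (R := ℤ) (S := Localization.AtPrime (Ideal.span {(p : ℤ)})) (A := A) (Subsingleton.elim _ _)
      haveI : Module.IsTorsionFree ℤ A := inferInstance
      exact (Module.flat_iff_of_isLocalization (Localization.AtPrime (Ideal.span {(p : ℤ)}))
        (Ideal.span {(p : ℤ)}).primeCompl A).2 inferInstance
    · let k := ResidueField (Localization.AtPrime (Ideal.span {(p : ℤ)}))
      haveI : CharP k p := (algebraMap k (ResidueField A)).charP
        (algebraMap k (ResidueField A)).injective p
      haveI : PerfectField k := by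
        rcases CharP.char_is_prime_or_zero k p with hp' | hp'
        · haveI := Fact.mk hp'
          haveI : ExpChar k p := ExpChar.prime hp'
          haveI : PerfectRing k p := by
            refine PerfectRing.ofSurjective k p fun x => ⟨x, ?_⟩
            obtain ⟨y, rfl⟩ := residue_surjective x
            obtain ⟨⟨a, b⟩, hab⟩ := IsLocalization.surj (Ideal.span {(p : ℤ)}).primeCompl y
            have hint : ∀ n : ℤ, ((n : k)) ^ p = n := fun n => by
              rw [← map_intCast (ZMod.castHom (dvd_refl p) k), ← map_pow, ZMod.pow_card]
            have h1 : residue _ y * ((b : ℤ) : k) = ((a : ℤ) : k) := by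
              have := congrArg (residue (Localization.AtPrime (Ideal.span {(p : ℤ)}))) hab
              rwa [map_mul, eq_intCast, eq_intCast, map_intCast, map_intCast] at this
            have hb : ((b : ℤ) : k) ≠ 0 := by
              have h2 := (IsLocalization.map_units (Localization.AtPrime (Ideal.span {(p : ℤ)})) b).map
                (residue (Localization.AtPrime (Ideal.span {(p : ℤ)})))
              rw [eq_intCast, map_intCast] at h2
              exact h2.ne_zero
            refine mul_right_cancel₀ hb ?_
            rw [h1, frobenius_def]
            calc (residue _ y) ^ p * ((b : ℤ) : k)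
                = (residue _ y) ^ p * ((b : ℤ) : k) ^ p := by rw [hint]
              _ = _ := by rw [← mul_pow, h1, hint]
          exact PerfectRing.toPerfectField k p
        · subst hp'
          haveI : CharZero k := CharP.charP_to_charZero k
          infer_instance
      rw [Algebra.isGeometricallyReduced_field_iff]
      exact Groth.Agent.GeomRed.isReduced_baseChange_algebraic _ (AlgebraicClosure k)

end Groth.Agent.S4539
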