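import Groth.Statements.S4540
import Groth.Agent.FSAdic.Kaehler

set_option autoImplicit false
universe u
open EGA41

namespace Groth.Agent.S4540

open IsLocalRing TensorProduct in
/-- Let A, B be Noetherian local rings and A → B a local homomorphism making B a formally smooth
A-algebra for the adic topologies of the maximal ideals. Then for every ideal of definition 𝔟 of B,
the (B/𝔟)-module Ω_{B/A} ⊗_B (B/𝔟) is free. -/
theorem result {A B : Type u} [CommRing A] [IsLocalRing A]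
    [IsNoetherianRing A] [CommRing B] [IsLocalRing B] [IsNoetherianRing B] [Algebra A B] [IsLocalHom (algebraMap A B)]
    (h : EGA41.IsFormallySmoothAdic A (maximalIdeal A) B (maximalIdeal B))
    (𝔟 : Ideal B) (hle : 𝔟 ≤ maximalIdeal B) (hpow : ∃ k : ℕ, maximalIdeal B ^ k ≤ 𝔟) :
    Module.Free (B ⧸ 𝔟) ((B ⧸ 𝔟) ⊗[B] Ω[B⁄A]) := by
  have hAB : ∃ k : ℕ, ((maximalIdeal A) ^ k).map (algebraMap A B) ≤ maximalIdeal B :=
    ⟨1, by rw [pow_one]; exact IsLocalRing.map_maximalIdeal_le _⟩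
  have := Groth.Agent.FSAdic.projective_kaehler_quotient _ _ hAB h 𝔟 hpow
  have : Nontrivial (B ⧸ 𝔟) := Ideal.Quotient.nontrivial_iff.mpr fun h =>
    (maximalIdeal.isMaximal B).ne_top (top_le_iff.mp (h ▸ hle))
  have : IsLocalRing (B ⧸ 𝔟) :=
    IsLocalRing.of_surjective' (Ideal.Quotient.mk 𝔟) Ideal.Quotient.mk_surjective
  refine Groth.Agent.FSAdic.free_of_projective_of_isNilpotent ?_
  obtain ⟨k, hk⟩ := hpow
  refine ⟨k, ?_⟩
  have hle' : maximalIdeal (B ⧸ 𝔟) ≤ (maximalIdeal B).map (Ideal.Quotient.mk 𝔟) := by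
    intro y hy
    obtain ⟨x, rfl⟩ := Ideal.Quotient.mk_surjective y
    exact Ideal.mem_map_of_mem _ ((IsLocalRing.mem_maximalIdeal _).mpr fun hx =>
      (IsLocalRing.mem_maximalIdeal _).mp hy (hx.map _))
  refine le_bot_iff.mp ((Ideal.pow_right_mono hle' k).trans ?_)
  rw [← Ideal.map_pow]
  exact (Ideal.map_mono hk).trans (Ideal.map_quotient_self 𝔟).le

end Groth.Agent.S4540
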