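import Groth.Statements.S4543
import Groth.Agent.FSAdic.Basic
import Groth.Agent.CAlgFS.FlatFibre

set_option autoImplicit false
universe u
open EGA41

namespace Groth.Agent.S4543

open IsLocalRing in
/-- Let A be a Noetherian ring, J an ideal of A, B and B' two A-algebras which are Noetherian local
rings, the structure maps being continuous for the J-adic topology on A (JB and JB' lie in the
maximal ideals); suppose B and B' are complete for the J-adic topologies, B is a formally smooth
A-algebra for the J-adic topology on A and the JB-adic topology on B (nilpotent test ideals, test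
algebras killed by a power of J, test maps killing a power of JB), and B' is a flat A-module. Then
every (A/J)-algebra isomorphism u₀ : B/JB ≅ B'/JB' comes from an A-algebra isomorphism u : B ≅ B' by
passing to quotients. (B is taken formally smooth for the JB-adic topology, the topology along which
the argument lifts B → B'/JB' to B'; read with the convention that a local ring carries the adic
topology of its maximal ideal, the published hypothesis would be formal smoothness for the
maximal-ideal topology on B, a weaker condition when JB is strictly smaller than the maximal ideal,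
and that reading is not what the argument establishes.) -/
theorem result {A B B' : Type u} [CommRing A] [IsNoetherianRing A] (J : Ideal A)
    [CommRing B] [IsLocalRing B] [IsNoetherianRing B] [Algebra A B]
    [CommRing B'] [IsLocalRing B'] [IsNoetherianRing B'] [Algebra A B']
    (hB : J.map (algebraMap A B) ≤ maximalIdeal B) (hB' : J.map (algebraMap A B') ≤ maximalIdeal B')
    [IsAdicComplete (J.map (algebraMap A B)) B] [IsAdicComplete (J.map (algebraMap A B')) B']
    (hfs : EGA41.IsFormallySmoothAdic A J B (J.map (algebraMap A B))) [Module.Flat A B']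
    (u₀ : (B ⧸ J.map (algebraMap A B)) ≃ₐ[A ⧸ J] (B' ⧸ J.map (algebraMap A B'))) :
    ∃ u : B ≃ₐ[A] B', ∀ b : B,
      Ideal.Quotient.mk (J.map (algebraMap A B')) (u b) = u₀ (Ideal.Quotient.mk (J.map (algebraMap A B)) b) := by
  let JB := J.map (algebraMap A B)
  let JB' := J.map (algebraMap A B')
  let u : B →ₐ[A] B' ⧸ JB' := ((u₀ : (B ⧸ JB) →ₐ[A ⧸ J] (B' ⧸ JB')).restrictScalars A).comp (Ideal.Quotient.mkₐ A JB)
  haveI : IsHausdorff (JB'.map (Ideal.Quotient.mk JB')) (B' ⧸ JB') := by
    rw [Ideal.map_quotient_self]; infer_instance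
  obtain ⟨v, -, hv⟩ := Groth.Agent.FSAdic.lift_adicComplete J JB JB' hfs ⟨1, by rw [pow_one]⟩ JB'
    ⟨1, by rw [pow_one]⟩ u ⟨1, by
      rw [pow_one, Ideal.map_quotient_self, le_bot_iff, Ideal.map_eq_bot_iff_le_ker]
      intro x hx
      show u₀ (Ideal.Quotient.mk JB x) = 0
      rw [Ideal.Quotient.eq_zero_iff_mem.2 hx, map_zero]⟩
  have hv' : ∀ b, Ideal.Quotient.mk JB' (v b) = u₀ (Ideal.Quotient.mk JB b) := fun b => AlgHom.congr_fun hv b
  have hmap : JB.map v.toRingHom = JB' := by
    rw [Ideal.map_map]; exact congrArg (fun f => J.map f) v.comp_algebraMap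
  haveI : IsHausdorff (JB.map v.toRingHom) B' := by rw [hmap]; exact IsAdicComplete.toIsHausdorff
  have hsurj : Function.Surjective v.toRingHom := surjective_of_mk_map_comp_surjective (I := JB) v.toRingHom (fun y => by
    obtain ⟨y, rfl⟩ := Ideal.Quotient.mk_surjective y
    obtain ⟨x, hx⟩ := u₀.surjective (Ideal.Quotient.mk JB' y)
    obtain ⟨x, rfl⟩ := Ideal.Quotient.mk_surjective x
    refine ⟨x, Ideal.Quotient.eq.2 ?_⟩
    rw [hmap]
    exact Ideal.Quotient.eq.1 ((hv' x).trans hx))
  have hker : RingHom.ker v ≤ JB := fun x hx => by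
    rw [← Ideal.Quotient.eq_zero_iff_mem]
    refine u₀.injective ?_
    rw [← hv', show v x = 0 from hx, map_zero, map_zero]
  have h0 : RingHom.ker v = ⊥ := Submodule.eq_bot_of_le_smul_of_le_jacobson_bot JB (RingHom.ker v)
    (IsNoetherian.noetherian _) (fun x hx =>
      Groth.Agent.CAlgFS.ker_inf_map_le v hsurj J ⟨hx, hker hx⟩)
    (hB.trans (maximalIdeal_le_jacobson _))
  exact ⟨AlgEquiv.ofBijective v ⟨(RingHom.injective_iff_ker_eq_bot (v : B →+* B')).2 h0, hsurj⟩, hv'⟩

end Groth.Agent.S4543
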