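import Groth.Statements.S4545
import Groth.Agent.SymGr.SubfieldFamily

set_option autoImplicit false
universe u
open EGA41

namespace Groth.Agent.S4545

open TensorProduct in
/-- Let K be a field of characteristic p > 0, k₀ a subfield and (k_α) a decreasing filtered family of
subfields of K containing k₀. Then ⋂_α k_α(K^p) = k₀(K^p) if and only if for every extension L of K
such that Υ_{L/K/k₀} has finite rank over L there is an α with k_α admissible for L over K relative
to k₀, i.e. with Υ_{L/K/k₀} → Υ_{L/K/k_α} injective. (The published statement has two further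
equivalent conditions; this row states (a) ⇔ (b).) -/
theorem result (p : ℕ) [Fact p.Prime] {k₀ K : Type u}
    [Field k₀] [Field K] [Algebra k₀ K] [CharP K p]
    {ι : Type u} [Preorder ι] [IsDirected ι (· ≤ ·)] [Nonempty ι] (k : ι → IntermediateField k₀ K) (hk : Antitone k) :
    (⨅ i, k i ⊔ IntermediateField.adjoin k₀ (Set.range fun y : K => y ^ p)) =
        IntermediateField.adjoin k₀ (Set.range fun y : K => y ^ p) ↔
      ∀ (L : Type u) [Field L] [Algebra K L] [Algebra k₀ L] [IsScalarTower k₀ K L],
        Module.Finite L (EGA41.imperfection k₀ K L) →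
          ∃ i, ∀ ω ∈ EGA41.imperfection k₀ K L,
            ((KaehlerDifferential.map k₀ (k i) K K).restrictScalars K).baseChange L ω = 0 → ω = 0 := by
  classical
  constructor
  · intro h L _ _ _ _ hfin
    obtain ⟨i, hi⟩ := Groth.Agent.SymGr.exists_injOn hk h L (EGA41.imperfection k₀ K L)
    exact ⟨i, hi i le_rfl⟩
  · intro h
    refine le_antisymm (fun x hx => ?_) (le_iInf fun i => le_sup_right)
    by_contra hx'
    have hnp : ∀ b : K, b ^ p ≠ x := fun b hb => hx' (hb ▸ IntermediateField.subset_adjoin k₀ _ ⟨b, rfl⟩)
    haveI : Fact (Irreducible (Polynomial.X ^ p - Polynomial.C x)) :=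
      ⟨X_pow_sub_C_irreducible_of_prime Fact.out hnp⟩
    let L := AdjoinRoot (Polynomial.X ^ p - Polynomial.C x)
    haveI : Module.Finite K L :=
      (AdjoinRoot.powerBasis (Polynomial.monic_X_pow_sub_C x (Fact.out : p.Prime).ne_zero).ne_zero).finite
    haveI : Algebra.FinitePresentation K L := Algebra.FinitePresentation.of_finiteType.1 inferInstance
    haveI : Module.Finite L (EGA41.imperfection k₀ K L) := by
      have h1 : EGA41.imperfection k₀ K L = LinearMap.range (Algebra.H1Cotangent.δ k₀ K L) :=
        (Algebra.H1Cotangent.exact_δ_mapBaseChange k₀ K L).linearMap_ker_eq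
      rw [h1]
      infer_instance
    obtain ⟨i, hi⟩ := h L inferInstance
    haveI : CharP L p := charP_of_injective_algebraMap (algebraMap K L).injective p
    have hmem : (1 : L) ⊗ₜ[K] KaehlerDifferential.D k₀ K x ∈ EGA41.imperfection k₀ K L := by
      rw [EGA41.imperfection, LinearMap.mem_ker, KaehlerDifferential.mapBaseChange_tmul, one_smul,
        KaehlerDifferential.map_D]
      have hr : algebraMap K L x = AdjoinRoot.root (Polynomial.X ^ p - Polynomial.C x) ^ p := by
        have h2 := AdjoinRoot.eval₂_root (Polynomial.X ^ p - Polynomial.C x)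
        rw [Polynomial.eval₂_sub, Polynomial.eval₂_X_pow, Polynomial.eval₂_C, sub_eq_zero] at h2
        exact h2.symm
      rw [hr, Derivation.leibniz_pow, ← Nat.cast_smul_eq_nsmul L, CharP.cast_eq_zero, zero_smul]
    have h0 := hi _ hmem (by
      rw [LinearMap.baseChange_tmul, LinearMap.restrictScalars_apply, KaehlerDifferential.map_D, Algebra.algebraMap_self,
        RingHom.id_apply, Groth.Agent.SymGr.D_eq_zero_of_mem (p := p) (F := k i) (by
          rw [← SetLike.mem_coe, IntermediateField.coe_iInf, Set.mem_iInter] at hx
          exact hx i), TensorProduct.tmul_zero])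
    have hd := Groth.Agent.SymGr.D_ne_zero_of_notMem hx'
    have hli : LinearIndependent K fun _ : Unit => KaehlerDifferential.D k₀ K x :=
      linearIndependent_unique_iff.2 hd
    exact (Module.Flat.linearIndependent_one_tmul (S := L) hli).ne_zero () h0

end Groth.Agent.S4545
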