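import Groth.Statements.S4546
import Groth.Agent.SymGr.SubfieldFamily

set_option autoImplicit false
universe u
open EGA41

namespace Groth.Agent.S4546

/-- Let K be a field of characteristic p > 0, k₀ a subfield, (k_α) a decreasing filtered family of
subfields of K containing k₀ with ⋂_α k_α(K^p) = k₀(K^p). Then for every extension L of K such that
Υ_{L/K/k₀} has finite rank over L, one has ⋂_α k_α(L^p) = k₀(L^p) (the k_α being viewed inside L). -/
theorem result (p : ℕ) [Fact p.Prime] {k₀ K L : Type u}
    [Field k₀] [Field K] [Field L] [Algebra k₀ K] [Algebra K L] [Algebra k₀ L] [IsScalarTower k₀ K L] [CharP K p] [CharP L p]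
    {ι : Type u} [Preorder ι] [IsDirected ι (· ≤ ·)] [Nonempty ι] (k : ι → IntermediateField k₀ K) (hk : Antitone k)
    (h : (⨅ i, k i ⊔ IntermediateField.adjoin k₀ (Set.range fun y : K => y ^ p)) =
      IntermediateField.adjoin k₀ (Set.range fun y : K => y ^ p))
    [Module.Finite L (EGA41.imperfection k₀ K L)] :
    (⨅ i, (k i).map (IsScalarTower.toAlgHom k₀ K L) ⊔ IntermediateField.adjoin k₀ (Set.range fun y : L => y ^ p)) =
      IntermediateField.adjoin k₀ (Set.range fun y : L => y ^ p) := by
  classical
  let φ := KaehlerDifferential.mapBaseChange k₀ K L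
  refine le_antisymm (fun z hz => ?_) (le_iInf fun i => le_sup_right)
  by_contra hz'
  refine Groth.Agent.SymGr.D_ne_zero_of_notMem hz' ?_
  let μ := fun i => ((KaehlerDifferential.map k₀ (k i) K K).restrictScalars K).baseChange L
  have hker : ∀ i, ∃ v, μ i v = 0 ∧ φ v = KaehlerDifferential.D k₀ L z := by
    intro i
    let F := (k i).map (IsScalarTower.toAlgHom k₀ K L)
    have hz0 : KaehlerDifferential.map k₀ F L L (KaehlerDifferential.D k₀ L z) = 0 := by
      rw [KaehlerDifferential.map_D, Algebra.algebraMap_self, RingHom.id_apply]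
      refine Groth.Agent.SymGr.D_eq_zero_of_mem (p := p) ?_
      rw [← SetLike.mem_coe, IntermediateField.coe_iInf, Set.mem_iInter] at hz
      exact hz i
    rw [← LinearMap.mem_ker, ← KaehlerDifferential.range_mapBaseChange] at hz0
    obtain ⟨u, hu⟩ := hz0
    suffices h2 : ∀ u, ∃ v, μ i v = 0 ∧ φ v = KaehlerDifferential.mapBaseChange k₀ F L u by
      obtain ⟨v, hv, hv'⟩ := h2 u
      exact ⟨v, hv, hv'.trans hu⟩
    intro u
    induction u using TensorProduct.induction_on with
    | zero => exact ⟨0, map_zero _, by rw [map_zero, map_zero]⟩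
    | add a b ha hb =>
      obtain ⟨va, ha, ha'⟩ := ha
      obtain ⟨vb, hb, hb'⟩ := hb
      exact ⟨va + vb, by rw [map_add, ha, hb, add_zero], by rw [map_add, map_add, ha', hb']⟩
    | tmul l w =>
      have hw : w ∈ Submodule.span F (Set.range (KaehlerDifferential.D k₀ F)) := by
        rw [KaehlerDifferential.span_range_derivation]; trivial
      induction hw using Submodule.span_induction generalizing l with
      | mem y hy =>
        obtain ⟨⟨_, c, hc, rfl⟩, rfl⟩ := hy
        refine ⟨l ⊗ₜ[K] KaehlerDifferential.D k₀ K c, ?_, ?_⟩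
        · show ((KaehlerDifferential.map k₀ (k i) K K).restrictScalars K).baseChange L _ = 0
          rw [LinearMap.baseChange_tmul, LinearMap.restrictScalars_apply, KaehlerDifferential.map_D,
            Algebra.algebraMap_self, RingHom.id_apply,
            Groth.Agent.SymGr.D_eq_zero_of_mem (p := p) ((le_sup_left : k i ≤ _) hc), TensorProduct.tmul_zero]
        · show KaehlerDifferential.mapBaseChange k₀ K L _ = _
          rw [KaehlerDifferential.mapBaseChange_tmul, KaehlerDifferential.map_D,
            KaehlerDifferential.mapBaseChange_tmul, KaehlerDifferential.map_D]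
          rfl
      | zero => exact ⟨0, map_zero _, by rw [TensorProduct.tmul_zero, map_zero, map_zero]⟩
      | add a b _ _ ha hb =>
        obtain ⟨va, ha, ha'⟩ := ha l
        obtain ⟨vb, hb, hb'⟩ := hb l
        exact ⟨va + vb, by rw [map_add, ha, hb, add_zero], by
          rw [map_add, ha', hb', TensorProduct.tmul_add, map_add]⟩
      | smul c w _ hw =>
        rw [← TensorProduct.smul_tmul]
        exact hw (c • l)
  obtain ⟨i₁⟩ := ‹Nonempty ι›
  obtain ⟨v₀, -, hv₀⟩ := hker i₁
  obtain ⟨i, hi⟩ := Groth.Agent.SymGr.exists_injOn hk h L (EGA41.imperfection k₀ K L ⊔ Submodule.span L {v₀})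
  obtain ⟨v, hv, hv'⟩ := hker i
  have hmem : v ∈ EGA41.imperfection k₀ K L ⊔ Submodule.span L {v₀} := by
    rw [← sub_add_cancel v v₀]
    refine Submodule.add_mem_sup ?_ (Submodule.mem_span_singleton_self v₀)
    rw [EGA41.imperfection, LinearMap.mem_ker, map_sub]
    exact sub_eq_zero.2 (hv'.trans hv₀.symm)
  rw [← hv', hi i le_rfl v hmem hv, map_zero]

end Groth.Agent.S4546
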