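import Groth.Statements.S4547
import Mathlib
import Groth.Agent.Jacobian.LeftInverse

set_option autoImplicit false
universe u
open EGA41

namespace Groth.Agent.S4547

open IsLocalRing
open scoped TensorProduct

open IsLocalRing TensorProduct in
/-- Let A be a local ring with residue field k, M an A-module of finite type, N a projective A-module
and u : M → N a homomorphism. Then u is left invertible if and only if there is a finite system of
generators (x_i) of M such that the elements 1 ⊗ u(x_i) of k ⊗_A N are linearly independent over k;
and such a system (x_i) is then a basis of M. -/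
theorem result {A : Type u} [CommRing A] [IsLocalRing A] {M N : Type u}
    [AddCommGroup M] [Module A M] [Module.Finite A M] [AddCommGroup N] [Module A N] [Module.Projective A N]
    (u : M →ₗ[A] N) :
    ((∃ w : N →ₗ[A] M, w ∘ₗ u = LinearMap.id) ↔
      ∃ (m : ℕ) (x : Fin m → M), Submodule.span A (Set.range x) = ⊤ ∧
        LinearIndependent (ResidueField A) (fun i => (1 : ResidueField A) ⊗ₜ[A] u (x i))) ∧
    ∀ (m : ℕ) (x : Fin m → M), Submodule.span A (Set.range x) = ⊤ →
      LinearIndependent (ResidueField A) (fun i => (1 : ResidueField A) ⊗ₜ[A] u (x i)) →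
        ∃ b : Module.Basis (Fin m) A M, ∀ i, b i = x i := by
  have key : ∀ (m : ℕ) (x : Fin m → M), Submodule.span A (Set.range x) = ⊤ →
      LinearIndependent (ResidueField A) (fun i => (1 : ResidueField A) ⊗ₜ[A] u (x i)) →
      ∃ (b : Module.Basis (Fin m) A M) (w : N →ₗ[A] M), (∀ i, b i = x i) ∧ w ∘ₗ u = LinearMap.id := by
    intro m x hx hli
    obtain ⟨w, hw⟩ := Groth.Agent.Jacobian.exists_retraction_of_linearIndependent (fun i => u (x i)) hli
    have hcomp : u ∘ₗ Fintype.linearCombination A x = Fintype.linearCombination A (fun i => u (x i)) :=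
      LinearMap.ext fun c => by simp [Fintype.linearCombination_apply]
    have hli' : LinearIndependent A x := by
      refine Fintype.linearIndependent_iff.mpr fun c hc => congr_fun ?_
      have := LinearMap.congr_fun hw c
      rw [← hcomp, LinearMap.comp_apply, LinearMap.comp_apply, Fintype.linearCombination_apply, hc,
        map_zero, map_zero, LinearMap.id_apply] at this
      exact this.symm
    refine ⟨Module.Basis.mk hli' hx.ge, Fintype.linearCombination A x ∘ₗ w,
      fun i => Module.Basis.mk_apply _ _ i, LinearMap.ext_on_range hx fun i => ?_⟩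
    have := LinearMap.congr_fun hw (Pi.single i 1)
    rw [← hcomp] at this
    simp only [LinearMap.comp_apply, Fintype.linearCombination_apply_single, one_smul,
      LinearMap.id_apply] at this ⊢
    rw [this, Fintype.linearCombination_apply_single, one_smul]
  refine ⟨⟨fun ⟨w, hw⟩ => ?_, fun ⟨m, x, hx, hli⟩ => ?_⟩, fun m x hx hli => ?_⟩
  · haveI : Module.Projective A M := Module.Projective.of_split u w hw
    haveI : Module.Free A M := Module.free_of_flat_of_isLocalRing
    let b := Module.finBasis A M
    refine ⟨_, b, b.span_eq, ?_⟩
    have hinj : Function.Injective (u.baseChange (ResidueField A)) :=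
      Function.LeftInverse.injective (g := w.baseChange (ResidueField A)) fun z => by
        rw [← LinearMap.comp_apply, ← LinearMap.baseChange_comp, hw, LinearMap.baseChange_id,
          LinearMap.id_apply]
    have h := (b.baseChange (ResidueField A)).linearIndependent.map' _ (LinearMap.ker_eq_bot.mpr hinj)
    have hf : ⇑(u.baseChange (ResidueField A)) ∘ ⇑(b.baseChange (ResidueField A)) =
        fun i => (1 : ResidueField A) ⊗ₜ[A] u (b i) := funext fun i => by simp
    rw [hf] at h
    exact h
  · obtain ⟨_, w, -, hw⟩ := key m x hx hli
    exact ⟨w, hw⟩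
  · obtain ⟨b, _, hb, -⟩ := key m x hx hli
    exact ⟨b, hb⟩

end Groth.Agent.S4547
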