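import Groth.Statements.S4549
import Groth.Agent.SymGr.SubfieldFamily

set_option autoImplicit false
universe u
open EGA41

namespace Groth.Agent.S4549

open TensorProduct in
/-- Let K be a field of characteristic p, k₀ a subfield and L an extension of K such that Υ_{L/K/k₀} has
finite rank over L. Then there is a subfield k of K containing k₀(K^p), with [K : k] finite, which
is k₀-admissible for the extension L of K, i.e. such that Υ_{L/K/k₀} → Υ_{L/K/k} is injective. (The
published statement uses the characteristic exponent and so also covers characteristic 0, where k =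
K works; this row treats characteristic p > 0.) -/
theorem result (p : ℕ) [Fact p.Prime] {k₀ K L : Type u} [Field k₀] [Field K] [Field L]
    [Algebra k₀ K] [Algebra K L] [Algebra k₀ L] [IsScalarTower k₀ K L] [CharP K p]
    [Module.Finite L (EGA41.imperfection k₀ K L)] :
    ∃ k : IntermediateField k₀ K, (∀ y : K, y ^ p ∈ k) ∧ Module.Finite k K ∧
      ∀ ω ∈ EGA41.imperfection k₀ K L,
        ((KaehlerDifferential.map k₀ k K K).restrictScalars K).baseChange L ω = 0 → ω = 0 := by
  classical
  obtain ⟨S, hS⟩ := Groth.Agent.PBasis.exists_pBasis p k₀ K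
  let b : Module.Basis S K (Ω[K⁄k₀]) :=
    Module.Basis.mk ((Groth.Agent.PBasis.isPIndependent_iff_linearIndependent _).1 hS.1)
      ((Groth.Agent.PBasis.isPGenerating_iff_span _).1 hS.2).ge
  let B : Module.Basis S L (L ⊗[K] Ω[K⁄k₀]) := Algebra.TensorProduct.basis L b
  obtain ⟨U, hU⟩ := (Module.Finite.iff_fg (N := EGA41.imperfection k₀ K L)).1 inferInstance
  let T : Finset S := U.biUnion fun w => (B.repr w).support
  let F : IntermediateField k₀ K :=
    IntermediateField.adjoin k₀ (Set.range (fun y : K => y ^ p) ∪ ((Subtype.val : S → K) '' (↑T)ᶜ))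
  have hFp : ∀ y : K, y ^ p ∈ F := fun y => IntermediateField.subset_adjoin _ _ (Or.inl ⟨y, rfl⟩)
  refine ⟨F, hFp, ?_, fun ω hω h0 => ?_⟩
  · haveI : Algebra.IsIntegral F K := ⟨fun y => IsIntegral.of_pow (Fact.out : p.Prime).pos
      (show IsIntegral F (algebraMap F K ⟨y ^ p, hFp y⟩) from isIntegral_algebraMap)⟩
    let E := IntermediateField.adjoin F (((Subtype.val : S → K) '' ↑T))
    haveI : Finite ↥((Subtype.val : S → K) '' ↑T) := (T.finite_toSet.image _).to_subtype
    haveI : Module.Finite F E :=
      IntermediateField.finiteDimensional_adjoin fun y _ => Algebra.IsIntegral.isIntegral y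
    have hE : E = ⊤ := by
      refine eq_top_iff.2 fun y _ => ?_
      have hgen : y ∈ Algebra.adjoin (EGA41.pPowerSubalgebra p k₀ K) (Set.range (Subtype.val : S → K)) := by
        rw [(Groth.Agent.PBasis.isPGenerating_iff (Fact.out : p.Prime).ne_zero _).1 hS.2]; trivial
      rw [← SetLike.mem_coe, ← Groth.Agent.PBasis.intermediateField_adjoin_eq] at hgen
      refine (IntermediateField.adjoin_le_iff (T := E.restrictScalars k₀)).2 ?_ hgen
      rintro z (hz | ⟨⟨s, hs⟩, rfl⟩)
      · obtain ⟨w, rfl⟩ := hz
        show algebraMap F K ⟨w ^ p, hFp w⟩ ∈ E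
        exact E.algebraMap_mem ⟨w ^ p, hFp w⟩
      · by_cases hsT : (⟨s, hs⟩ : S) ∈ T
        · show s ∈ E
          have hmem : s ∈ (Subtype.val : S → K) '' ↑T := ⟨⟨s, hs⟩, hsT, rfl⟩
          exact IntermediateField.subset_adjoin F _ hmem
        · have hsF : s ∈ F :=
            IntermediateField.subset_adjoin k₀ _ (Or.inr ⟨⟨s, hs⟩, hsT, rfl⟩)
          show algebraMap F K ⟨s, hsF⟩ ∈ E
          exact E.algebraMap_mem ⟨s, hsF⟩
    exact Module.Finite.equiv ((IntermediateField.equivOfEq hE).trans IntermediateField.topEquiv).toLinearEquiv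
  · refine Groth.Agent.SymGr.eq_zero_of_mem_span (σ := ↥T) L (fun j => ((j : S) : K)) F ?_ ?_ h0
    · refine (Groth.Agent.PBasis.isPIndependent_iff_linearIndependent (p := p) _).1
        ((Groth.Agent.PBasis.isPIndependent_iff_notMem _).2 fun a ha => ?_)
      refine Groth.Agent.PBasis.notMem_adjoin_of_isPIndependent hS.1 (a : S) ?_
      rw [← SetLike.mem_coe, ← Groth.Agent.PBasis.intermediateField_adjoin_eq] at ha ⊢
      let M : IntermediateField k₀ K :=
        IntermediateField.adjoin k₀ (Set.range (fun y : K => y ^ p) ∪ ((Subtype.val : S → K) '' {b | b ≠ (a : S)}))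
      have hFM : F ≤ M := IntermediateField.adjoin.mono _ _ _ (Set.union_subset_union_right _
        (Set.image_mono fun s hs hsa => hs (hsa ▸ a.2)))
      have h1 : IntermediateField.adjoin F (Set.range (fun y : K => y ^ p) ∪ ((fun j : ↥T => ((j : S) : K)) '' {b | b ≠ a})) ≤
          IntermediateField.extendScalars hFM := by
        refine IntermediateField.adjoin_le_iff.2 ?_
        rintro z (hz | ⟨j, hj, rfl⟩)
        · exact IntermediateField.subset_adjoin k₀ _ (Or.inl hz)
        · exact IntermediateField.subset_adjoin k₀ _ (Or.inr ⟨j.1, fun hja => hj (Subtype.ext hja), rfl⟩)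
      exact h1 ha
    · have hle : EGA41.imperfection k₀ K L ≤
          Submodule.span L (Set.range fun j : ↥T => (1 : L) ⊗ₜ[K] KaehlerDifferential.D k₀ K ((j : S) : K)) := by
        rw [← hU, Submodule.span_le]
        intro w hw
        rw [SetLike.mem_coe, ← B.linearCombination_repr w, Finsupp.linearCombination_apply, Finsupp.sum]
        refine Submodule.sum_mem _ fun s hs => Submodule.smul_mem _ _ (Submodule.subset_span ?_)
        exact ⟨⟨s, Finset.mem_biUnion.2 ⟨w, hw, hs⟩⟩, by simp [B, b]⟩
      exact hle hω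

end Groth.Agent.S4549
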