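import Groth.Statements.S4550
import Groth.Agent.SymGr.SeriesSubfields

set_option autoImplicit false
universe u
open EGA41

namespace Groth.Agent.S4550

/-- Let k be a field, (k_α) a decreasing filtered family of subfields of k with intersection k₀, and
suppose there is a power q of the characteristic exponent of k with k^q ⊆ k₀. Then, inside k((T_1,
…, T_r)), one has ⋂_α k_α((T_1, …, T_r)) = k₀((T_1, …, T_r)); here F((T)) is the subfield of the
fraction field of k[[T]] generated by the power series with all coefficients in F. -/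
theorem result {k : Type u} [Field k] {ι : Type u} [Nonempty ι] (F : ι → Subfield k)
    (hdir : ∀ a b : ι, ∃ c, F c ≤ F a ⊓ F b) (e : ℕ) (hq : ∀ x : k, x ^ ringExpChar k ^ e ∈ ⨅ i, F i) (r : ℕ) :
    (⨅ i, Subfield.closure (algebraMap (MvPowerSeries (Fin r) k) (FractionRing (MvPowerSeries (Fin r) k)) ''
        {f | ∀ n, MvPowerSeries.coeff n f ∈ F i})) =
      Subfield.closure (algebraMap (MvPowerSeries (Fin r) k) (FractionRing (MvPowerSeries (Fin r) k)) ''
        {f | ∀ n, MvPowerSeries.coeff n f ∈ ⨅ i, F i}) := by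
  classical
  refine le_antisymm (fun x hx => ?_) (le_iInf fun i => Subfield.closure_mono (Set.image_mono fun f hf n =>
    (iInf_le F i) (hf n)))
  have hx' : ∀ i, x ∈ Subfield.closure (algebraMap (MvPowerSeries (Fin r) k) (FractionRing (MvPowerSeries (Fin r) k)) ''
      {f | ∀ n, MvPowerSeries.coeff n f ∈ F i}) := fun i => by
    rw [← SetLike.mem_coe, Subfield.coe_iInf, Set.mem_iInter] at hx; exact hx i
  haveI : IsDomain (MvPowerSeries (Fin r) k) := Groth.Agent.CAlgReg.isDomain (R := MvPowerSeries (Fin r) k)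
  let q := ringExpChar k ^ e
  haveI : ExpChar k (ringExpChar k) := inferInstance
  have hq0 : 0 < q := pow_pos (expChar_pos k (ringExpChar k)) e
  obtain ⟨a, b, hb, rfl⟩ := IsFractionRing.div_surjective (MvPowerSeries (Fin r) k) x
  have hb0 : algebraMap (MvPowerSeries (Fin r) k) (FractionRing (MvPowerSeries (Fin r) k)) b ≠ 0 :=
    (map_ne_zero_iff _ (IsFractionRing.injective _ _)).2 (nonZeroDivisors.ne_zero hb)
  have hg : ∀ n, MvPowerSeries.coeff n (b ^ q) ∈ ⨅ i, F i := fun n => by
    obtain ⟨⟨c, hc⟩, -⟩ := Groth.Agent.SymGr.coeff_pow_expChar_pow (ringExpChar k) e b n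
    rw [hc]; exact hq c
  let h := a * b ^ (q - 1)
  have hxg : algebraMap (MvPowerSeries (Fin r) k) (FractionRing (MvPowerSeries (Fin r) k)) a /
      algebraMap _ _ b * algebraMap _ _ (b ^ q) = algebraMap _ _ h := by
    rw [div_mul_eq_mul_div, div_eq_iff hb0, ← map_mul, ← map_mul, mul_assoc, ← pow_succ,
      Nat.sub_add_cancel hq0]
  have hh : ∀ n, MvPowerSeries.coeff n h ∈ ⨅ i, F i := by
    intro n
    rw [← SetLike.mem_coe, Subfield.coe_iInf, Set.mem_iInter]
    intro i
    let ψ := Groth.Agent.SymGr.subSeries (σ := Fin r) (F i) 1 one_ne_zero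
    have hiff : ∀ f : MvPowerSeries (Fin r) k, f ∈ ψ.range ↔ ∀ n, MvPowerSeries.coeff n f ∈ F i := fun f =>
      (Groth.Agent.SymGr.mem_range_subSeries_iff (F i) 1 one_ne_zero).trans
        ⟨fun h n => (h n).1, fun h n => ⟨h n, fun _ j => one_dvd _⟩⟩
    have hset : {f : MvPowerSeries (Fin r) k | ∀ n, MvPowerSeries.coeff n f ∈ F i} = (ψ.range : Set _) :=
      Set.ext fun f => (hiff f).symm
    have h0 := hx' i
    rw [hset] at h0
    obtain ⟨c, hc, d, hd, hd0, hcd⟩ := Groth.Agent.SymGr.exists_of_mem_closure ψ.range h0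
    have hgR : b ^ q ∈ ψ.range := (hiff _).2 fun n => (iInf_le F i) (hg n)
    have he : h * d = c * b ^ q := IsFractionRing.injective (MvPowerSeries (Fin r) k)
      (FractionRing (MvPowerSeries (Fin r) k)) (by
        rw [map_mul _ h d, map_mul _ c, ← hxg, ← hcd]; ring)
    haveI : IsDomain (MvPowerSeries (Fin r) (F i)) := Groth.Agent.CAlgReg.isDomain (R := MvPowerSeries (Fin r) (F i))
    haveI : IsIntegrallyClosed (MvPowerSeries (Fin r) (F i)) := Groth.Agent.RegNormal.isIntegrallyClosed _
    exact (hiff h).1 (Groth.Agent.SymGr.mem_range_of_pow_mem ψ (Groth.Agent.SymGr.subSeries_injective _ _ _) hq0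
      (mul_mem hc hgR) hd hd0 he ((hiff _).2 fun n => by
        obtain ⟨⟨c, hc⟩, -⟩ := Groth.Agent.SymGr.coeff_pow_expChar_pow (ringExpChar k) e h n
        rw [hc]; exact (iInf_le F i) (hq c))) n
  have hfin : algebraMap (MvPowerSeries (Fin r) k) (FractionRing (MvPowerSeries (Fin r) k)) a / algebraMap _ _ b =
      algebraMap _ _ h / algebraMap (MvPowerSeries (Fin r) k) (FractionRing (MvPowerSeries (Fin r) k)) (b ^ q) :=
    (eq_div_iff (by rw [map_pow]; exact pow_ne_zero q hb0)).2 hxg
  rw [hfin]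
  exact div_mem (Subfield.subset_closure ⟨h, hh, rfl⟩) (Subfield.subset_closure ⟨b ^ q, hg, rfl⟩)

end Groth.Agent.S4550
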