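import Groth.Statements.S4552

set_option autoImplicit false
universe u
open EGA41

namespace Groth.Agent.S4552

/-- For the 𝔞-adic topology on A and the deduced topology on M: the topological A-module M is formally
projective (for every open ideal 𝔞ⁿ, every pair of (A/𝔞ⁿ)-modules P, Q, every surjection P → Q and
every continuous A-linear map M → Q — here automatically continuous — there is a continuous A-linear
lift M → P) if and only if it is strictly formally projective, i.e. M/𝔞ⁿM is a projective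
(A/𝔞ⁿ)-module for every n. -/
theorem result {A : Type u} [CommRing A] (𝔞 : Ideal A) (M : Type u)
    [AddCommGroup M] [Module A M] :
    (∀ (n : ℕ) (P Q : Type u) [AddCommGroup P] [Module A P] [AddCommGroup Q] [Module A Q],
      (∀ a ∈ 𝔞 ^ n, ∀ y : P, a • y = 0) → (∀ a ∈ 𝔞 ^ n, ∀ y : Q, a • y = 0) →
      ∀ f : P →ₗ[A] Q, Function.Surjective f → ∀ v : M →ₗ[A] Q, ∃ w : M →ₗ[A] P, f ∘ₗ w = v) ↔
    ∀ n : ℕ, Module.Projective (A ⧸ 𝔞 ^ n) (M ⧸ (𝔞 ^ n • ⊤ : Submodule A M)) := by
  constructor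
  · intro h n
    refine Module.Projective.of_lifting_property fun {P} {Q} _ _ _ _ f g hf => ?_
    letI : Module A P := Module.compHom P (Ideal.Quotient.mk (𝔞 ^ n))
    letI : Module A Q := Module.compHom Q (Ideal.Quotient.mk (𝔞 ^ n))
    haveI : IsScalarTower A (A ⧸ 𝔞 ^ n) P := .of_algebraMap_smul fun _ _ => rfl
    haveI : IsScalarTower A (A ⧸ 𝔞 ^ n) Q := .of_algebraMap_smul fun _ _ => rfl
    have hP : ∀ a ∈ 𝔞 ^ n, ∀ y : P, a • y = 0 := fun a ha y => by
      change Ideal.Quotient.mk (𝔞 ^ n) a • y = 0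
      rw [Ideal.Quotient.eq_zero_iff_mem.mpr ha, zero_smul]
    have hQ : ∀ a ∈ 𝔞 ^ n, ∀ y : Q, a • y = 0 := fun a ha y => by
      change Ideal.Quotient.mk (𝔞 ^ n) a • y = 0
      rw [Ideal.Quotient.eq_zero_iff_mem.mpr ha, zero_smul]
    obtain ⟨w, hw⟩ := h n P Q hP hQ (f.restrictScalars A) hf
      ((g.restrictScalars A).comp (Submodule.mkQ (𝔞 ^ n • ⊤ : Submodule A M)))
    have hle : (𝔞 ^ n • ⊤ : Submodule A M) ≤ LinearMap.ker w :=
      Submodule.smul_le.mpr fun a ha m _ => by rw [LinearMap.mem_ker, map_smul, hP a ha]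
    refine ⟨LinearMap.extendScalarsOfSurjective Ideal.Quotient.mk_surjective
      ((𝔞 ^ n • ⊤ : Submodule A M).liftQ w hle), LinearMap.ext fun z => ?_⟩
    obtain ⟨m, rfl⟩ := Submodule.Quotient.mk_surjective _ z
    exact LinearMap.congr_fun hw m
  · intro h n P Q _ _ _ _ hP hQ f hf v
    have hP' : Module.IsTorsionBySet A P (𝔞 ^ n : Ideal A) := fun y a => hP a.1 a.2 y
    have hQ' : Module.IsTorsionBySet A Q (𝔞 ^ n : Ideal A) := fun y a => hQ a.1 a.2 y
    letI := hP'.module
    letI := hQ'.module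
    haveI : IsScalarTower A (A ⧸ 𝔞 ^ n) P := hP'.isScalarTower
    haveI : IsScalarTower A (A ⧸ 𝔞 ^ n) Q := hQ'.isScalarTower
    have := h n
    have hle : (𝔞 ^ n • ⊤ : Submodule A M) ≤ LinearMap.ker v :=
      Submodule.smul_le.mpr fun a ha m _ => by rw [LinearMap.mem_ker, map_smul, hQ a ha]
    obtain ⟨w, hw⟩ := Module.projective_lifting_property
      (LinearMap.extendScalarsOfSurjective (S := A ⧸ 𝔞 ^ n) Ideal.Quotient.mk_surjective f)
      (LinearMap.extendScalarsOfSurjective Ideal.Quotient.mk_surjective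
        ((𝔞 ^ n • ⊤ : Submodule A M).liftQ v hle)) hf
    exact ⟨(w.restrictScalars A).comp (Submodule.mkQ _),
      LinearMap.ext fun m => LinearMap.congr_fun hw (Submodule.Quotient.mk m)⟩

end Groth.Agent.S4552
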