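import Groth.Statements.S4555
import Groth.Agent.FSAdic.PowerSeries
import Mathlib.RingTheory.Noetherian.Nilpotent

set_option autoImplicit false
universe u
open EGA41

namespace Groth.Agent.S4555

/-- Let A carry the 𝔞-adic topology, B = A[[T_1, …, T_n]] the product topology (the adic topology of 𝔞B
+ (T_1, …, T_n)), and let E be a discrete topological A-algebra (a power of 𝔞 kills E). (i) If f : B
→ E is a continuous A-algebra homomorphism then each f(T_i) is nilpotent. (ii) Conversely, for every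
family (z_i) of nilpotent elements of E there is one and only one continuous A-algebra homomorphism
g : B → E with g(T_i) = z_i for all i. -/
theorem result (A : Type u) [CommRing A] (𝔞 : Ideal A) (n : ℕ) (E : Type u) [CommRing E]
    [Algebra A E] (hE : ∃ k : ℕ, (𝔞 ^ k).map (algebraMap A E) = ⊥) :
    (∀ f : MvPowerSeries (Fin n) A →ₐ[A] E,
      (∃ m : ℕ, ∀ x ∈ (𝔞.map (MvPowerSeries.C : A →+* MvPowerSeries (Fin n) A) ⊔
        RingHom.ker (MvPowerSeries.constantCoeff : MvPowerSeries (Fin n) A →+* A)) ^ m, f x = 0) →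
      ∀ i, IsNilpotent (f (MvPowerSeries.X i))) ∧
    ∀ z : Fin n → E, (∀ i, IsNilpotent (z i)) →
      ∃! g : MvPowerSeries (Fin n) A →ₐ[A] E,
        (∃ m : ℕ, ∀ x ∈ (𝔞.map (MvPowerSeries.C : A →+* MvPowerSeries (Fin n) A) ⊔
          RingHom.ker (MvPowerSeries.constantCoeff : MvPowerSeries (Fin n) A →+* A)) ^ m, g x = 0) ∧
        ∀ i, g (MvPowerSeries.X i) = z i := by
  obtain ⟨k, hk⟩ := hE
  set K := 𝔞.map (MvPowerSeries.C : A →+* MvPowerSeries (Fin n) A) ⊔
    RingHom.ker (MvPowerSeries.constantCoeff : MvPowerSeries (Fin n) A →+* A) with hK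
  constructor
  · intro f ⟨m, hm⟩ i
    refine ⟨m, ?_⟩
    rw [← map_pow]
    exact hm _ (Ideal.pow_mem_pow (Ideal.mem_sup_right (MvPowerSeries.constantCoeff_X i)) m)
  · intro z hz
    obtain ⟨N, hN⟩ : ∃ N, Ideal.span (Set.range z) ^ N = ⊥ := by
      have : IsNilpotent (Ideal.span (Set.range z)) :=
        (Ideal.FG.isNilpotent_iff_le_nilradical (Submodule.fg_span (Set.finite_range z))).mpr
          (Ideal.span_le.mpr (by rintro _ ⟨i, rfl⟩; exact mem_nilradical.mpr (hz i)))
      exact this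
    let g := Groth.Agent.FSAdic.evalNilp (A := A) z N hN
    have hg : ∀ x ∈ K ^ (k + N), g x = 0 := by
      intro x hx
      have h1 := (Ideal.sup_pow_add_le_pow_sup_pow (I := 𝔞.map (MvPowerSeries.C : A →+* MvPowerSeries (Fin n) A))
        (J := Groth.Agent.FSAdic.augIdeal A n) (n := k) (m := N)) hx
      have h2 := Ideal.mem_map_of_mem g.toRingHom h1
      rw [Ideal.map_sup, Ideal.map_pow, Ideal.map_pow, Ideal.map_map] at h2
      have e1 : g.toRingHom.comp MvPowerSeries.C = algebraMap A E :=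
        RingHom.ext fun a => g.commutes a
      have e2 : (Groth.Agent.FSAdic.augIdeal A n).map g.toRingHom ≤ Ideal.span (Set.range z) :=
        Ideal.map_le_iff_le_comap.mpr fun y hy => Groth.Agent.FSAdic.evalNilp_mem z N hN hy
      rw [e1, ← Ideal.map_pow, hk, bot_sup_eq] at h2
      have := Ideal.pow_right_mono e2 N h2
      rwa [hN, Ideal.mem_bot] at this
    refine ⟨g, ⟨⟨k + N, hg⟩, Groth.Agent.FSAdic.evalNilp_X z N hN⟩, ?_⟩
    rintro f ⟨⟨m, hm⟩, hfX⟩
    refine Groth.Agent.FSAdic.algHom_ext_of_vanish (max m (k + N))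
      (fun x hx => hm x ((Ideal.pow_le_pow_right (le_max_left _ _)) (Ideal.pow_right_mono le_sup_right _ hx)))
      (fun x hx => hg x ((Ideal.pow_le_pow_right (le_max_right _ _)) (Ideal.pow_right_mono le_sup_right _ hx)))
      fun i => ?_
    rw [hfX, Groth.Agent.FSAdic.evalNilp_X]

end Groth.Agent.S4555
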