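import Groth.Statements.S4556
import Mathlib.RingTheory.Smooth.Basic

set_option autoImplicit false
universe u
open EGA41

namespace Groth.Agent.S4556

/-- Let B be a formally smooth A-algebra, E and E' two A-algebras, R (resp. R') a nilpotent ideal of E
(resp. E'), f : E → E' a surjective A-algebra homomorphism with f(R) = R', and f' : E/R → E'/R' the
induced homomorphism. Let u : B → E/R be an A-algebra homomorphism and v' : B → E' an A-algebra
homomorphism through which f' ∘ u factors (v' followed by E' → E'/R' equals f' ∘ u). Then there is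
an A-algebra homomorphism v : B → E with f ∘ v = v'. (The published statement assumes only f(R) ⊆
R'; in that form it fails for B = ℚ[x, x⁻¹], E = ℚ[t], E' = ℚ[t]/(t²), R = 0, R' = (t), u : x ↦ 1
and v' : x ↦ 1 + t, since any v sends x to a unit of ℚ[t], a constant; the argument identifies R'
with the image of R, and that equality is assumed here.) -/
theorem result {A B E E' : Type u} [CommRing A] [CommRing B] [Algebra A B]
    [Algebra.FormallySmooth A B] [CommRing E] [CommRing E'] [Algebra A E] [Algebra A E']
    (R : Ideal E) (R' : Ideal E') (hR : IsNilpotent R) (hR' : IsNilpotent R')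
    (f : E →ₐ[A] E') (hf : Function.Surjective f) (hfR : R.map f.toRingHom = R')
    (u : B →ₐ[A] E ⧸ R) (v' : B →ₐ[A] E')
    (huv : (Ideal.Quotient.mkₐ A R').comp v' =
      (Ideal.quotientMapₐ R' f (fun x hx => hfR.le (Ideal.mem_map_of_mem f.toRingHom hx))).comp u) :
    ∃ v : B →ₐ[A] E, f.comp v = v' := by
  obtain ⟨n, hn⟩ := hR
  -- the fibre product `E ⧸ (R ⊓ ker f)` of `E ⧸ R` and `E'`
  let φ : E →ₐ[A] (E ⧸ R) × E' := (Ideal.Quotient.mkₐ A R).prod f
  have hker : IsNilpotent (RingHom.ker φ.rangeRestrict) := by
    refine ⟨n, le_bot_iff.mp ((Ideal.pow_right_mono ?_ n).trans hn.le)⟩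
    intro x hx
    have : φ x = 0 := congrArg Subtype.val (hx : φ.rangeRestrict x = 0)
    exact Ideal.Quotient.eq_zero_iff_mem.mp (congrArg Prod.fst this)
  have hr : ∀ b, (u.prod v') b ∈ φ.range := by
    intro b
    obtain ⟨x, hx⟩ := Ideal.Quotient.mk_surjective (u b)
    have h := congrArg (fun g => g b) huv
    simp only [AlgHom.comp_apply, ← hx] at h
    change Ideal.Quotient.mk R' (v' b) = Ideal.Quotient.mk R' (f x) at h
    rw [Ideal.Quotient.eq, ← hfR] at h
    obtain ⟨r, hr, hrx⟩ := (Ideal.mem_map_iff_of_surjective f.toRingHom hf).mp h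
    refine ⟨x + r, Prod.ext ?_ ?_⟩
    · change Ideal.Quotient.mk R (x + r) = u b
      rw [map_add, Ideal.Quotient.eq_zero_iff_mem.mpr hr, add_zero, hx]
    · change f (x + r) = v' b
      rw [map_add, show f r = v' b - f x from hrx, add_sub_cancel]
  refine ⟨Algebra.FormallySmooth.liftOfSurjective ((u.prod v').codRestrict φ.range hr)
    φ.rangeRestrict φ.rangeRestrict_surjective hker, AlgHom.ext fun b => ?_⟩
  have := congrArg (fun g => (g b : φ.range).1.2) (Algebra.FormallySmooth.comp_liftOfSurjective
    ((u.prod v').codRestrict φ.range hr) φ.rangeRestrict φ.rangeRestrict_surjective hker)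
  exact this

end Groth.Agent.S4556
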