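import Groth.Statements.S4561
import Mathlib

set_option autoImplicit false
universe u
open EGA41

namespace Groth.Agent.S4561

/-- Let k₀ be a field of characteristic p > 0 with [k₀ : k₀^p] < ∞ and K₀ an extension of k₀. Inside
K₀((T_1, …, T_r)) one has (k₀(K₀^p))((T_1, …, T_r)) = k₀(K₀^p((T_1, …, T_r))); here, for a subfield
F of K₀, F((T)) denotes the subfield of the fraction field of K₀[[T]] generated by the power series
with all coefficients in F. -/
theorem result (p : ℕ) [Fact p.Prime] {k₀ K₀ : Type u} [Field k₀] [Field K₀] [Algebra k₀ K₀] [CharP k₀ p]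
    (hfin : Module.Finite (Subfield.closure (Set.range fun x : k₀ => x ^ p)) k₀) (r : ℕ) :
    Subfield.closure (algebraMap (MvPowerSeries (Fin r) K₀) (FractionRing (MvPowerSeries (Fin r) K₀)) ''
        {f | ∀ n, MvPowerSeries.coeff n f ∈
          Subfield.closure (Set.range (algebraMap k₀ K₀) ∪ Set.range fun y : K₀ => y ^ p)}) =
      Subfield.closure
        (Set.range (algebraMap k₀ (FractionRing (MvPowerSeries (Fin r) K₀))) ∪
          (Subfield.closure (algebraMap (MvPowerSeries (Fin r) K₀) (FractionRing (MvPowerSeries (Fin r) K₀)) ''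
            {f | ∀ n, MvPowerSeries.coeff n f ∈ Subfield.closure (Set.range fun y : K₀ => y ^ p)}) :
            Set (FractionRing (MvPowerSeries (Fin r) K₀)))) := by
  classical
  haveI : CharP K₀ p := charP_of_injective_algebraMap (algebraMap k₀ K₀).injective p
  set P : Subfield K₀ := Subfield.closure (Set.range fun y : K₀ => y ^ p) with hP
  set Q : Subfield k₀ := Subfield.closure (Set.range fun x : k₀ => x ^ p) with hQ
  have hQP : ∀ q ∈ Q, algebraMap k₀ K₀ q ∈ P := by
    have : Q ≤ P.comap (algebraMap k₀ K₀) := Subfield.closure_le.mpr (by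
      rintro _ ⟨x, rfl⟩; exact Subfield.subset_closure ⟨algebraMap k₀ K₀ x, (map_pow _ x p).symm⟩)
    exact fun q hq => this hq
  obtain ⟨t, ht⟩ := Module.Finite.fg_top (R := Q) (M := k₀)
  let N : Submodule P K₀ := Submodule.span P (Set.range fun b : t => algebraMap k₀ K₀ (b : k₀))
  have hk : ∀ z : k₀, algebraMap k₀ K₀ z ∈ N := by
    intro z
    have hz : z ∈ Submodule.span Q (t : Set k₀) := ht ▸ Submodule.mem_top
    induction hz using Submodule.span_induction with
    | mem x hx => exact Submodule.subset_span ⟨⟨x, hx⟩, rfl⟩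
    | zero => rw [map_zero]; exact zero_mem N
    | add x y _ _ hx hy => rw [map_add]; exact add_mem hx hy
    | smul q x _ hx =>
      rw [show q • x = (q : k₀) * x from rfl, map_mul]
      exact N.smul_mem (⟨_, hQP q q.2⟩ : P) hx
  have hmul : ∀ x y, x ∈ N → y ∈ N → x * y ∈ N := by
    intro x y hx hy
    have h := Submodule.mul_mem_mul hx hy
    rw [Submodule.span_mul_span] at h
    refine Submodule.span_le.mpr ?_ h
    rintro _ ⟨_, ⟨b, rfl⟩, _, ⟨c, rfl⟩, rfl⟩
    show algebraMap k₀ K₀ b * algebraMap k₀ K₀ c ∈ N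
    rw [← map_mul]; exact hk _
  have h1 : (1 : K₀) ∈ N := map_one (algebraMap k₀ K₀) ▸ hk 1
  let S : Subalgebra P K₀ := N.toSubalgebra h1 hmul
  have hinv : ∀ x ∈ S, x⁻¹ ∈ S := by
    intro x hx
    rcases eq_or_ne x 0 with rfl | h0
    · rw [inv_zero]; exact zero_mem S
    have hp0 : 0 < p := (Fact.out : p.Prime).pos
    have e : x⁻¹ = ((x ^ p)⁻¹ : K₀) * x ^ (p - 1) := by
      obtain ⟨q, rfl⟩ : ∃ q, p = q + 1 := ⟨p - 1, by omega⟩
      rw [Nat.add_sub_cancel, pow_succ]
      field_simp
    rw [e]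
    exact S.mul_mem (S.algebraMap_mem (⟨_, inv_mem (Subfield.subset_closure ⟨x, rfl⟩)⟩ : P)) (pow_mem hx _)
  have hF : ∀ x ∈ Subfield.closure (Set.range (algebraMap k₀ K₀) ∪ Set.range fun y : K₀ => y ^ p), x ∈ N := by
    intro x hx
    refine (Subfield.closure_le (t := { S.toSubring with inv_mem' := hinv }) |>.mpr ?_) hx
    rintro _ (⟨z, rfl⟩ | ⟨y, rfl⟩)
    · exact hk z
    · exact S.algebraMap_mem (⟨_, Subfield.subset_closure ⟨y, rfl⟩⟩ : P)
  set ι := algebraMap (MvPowerSeries (Fin r) K₀) (FractionRing (MvPowerSeries (Fin r) K₀))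
  have halg : ∀ z : k₀, algebraMap k₀ (FractionRing (MvPowerSeries (Fin r) K₀)) z = ι (MvPowerSeries.C (algebraMap k₀ K₀ z)) := fun z => by
    rw [IsScalarTower.algebraMap_apply k₀ (MvPowerSeries (Fin r) K₀), MvPowerSeries.algebraMap_apply]
  refine le_antisymm (Subfield.closure_le.mpr ?_) (Subfield.closure_le.mpr (Set.union_subset ?_ ?_))
  · rintro _ ⟨f, hf, rfl⟩
    choose c hc using fun n => (Submodule.mem_span_range_iff_exists_fun P).mp (hF _ (hf n))
    let g : t → MvPowerSeries (Fin r) K₀ := fun b n => ((c n b : P) : K₀)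
    have e : f = ∑ b : t, MvPowerSeries.C (algebraMap k₀ K₀ (b : k₀)) * g b := by
      ext n
      rw [map_sum, ← hc n]
      refine Finset.sum_congr rfl fun b _ => ?_
      rw [MvPowerSeries.coeff_C_mul, mul_comm]
      rfl
    rw [e, map_sum]
    refine sum_mem fun b _ => ?_
    rw [map_mul, ← halg]
    exact mul_mem (Subfield.subset_closure (Or.inl ⟨_, rfl⟩))
      (Subfield.subset_closure (Or.inr (Subfield.subset_closure ⟨g b, fun n => (c n b).2, rfl⟩)))
  · rintro _ ⟨z, rfl⟩
    rw [halg]
    refine Subfield.subset_closure ⟨_, fun n => ?_, rfl⟩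
    rw [MvPowerSeries.coeff_C]
    split_ifs
    · exact Subfield.subset_closure (Or.inl ⟨z, rfl⟩)
    · exact zero_mem _
  · exact Subfield.closure_mono (Set.image_mono fun f hf n => Subfield.closure_mono Set.subset_union_right (hf n))

end Groth.Agent.S4561
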