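import Groth.Statements.S4567
import Mathlib
import Groth.Agent.UnibranchLib.NormFibre
import Groth.Agent.CAlgRedStab.Main


set_option autoImplicit false
universe u
open AlgebraicGeometry
open CAlg2
open CategoryTheory

namespace Groth.Agent.S4567

/-- Let A be a domain with integral closure A' (in its fraction field) and f : Spec A' → Spec A the
canonical morphism. Then f is radicial (universally injective) if and only if every local ring A_p
is geometrically unibranch; when this holds f is a homeomorphism. -/
theorem result {A : Type u} [CommRing A] [IsDomain A] :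
    (UniversallyInjective (Spec.map (CommRingCat.ofHom (algebraMap A (integralClosure A (FractionRing A))))) ↔
      ∀ (p : Ideal A) [p.IsPrime], CAlg2.IsGeomUnibranch (Localization.AtPrime p)) ∧
    ((∀ (p : Ideal A) [p.IsPrime], CAlg2.IsGeomUnibranch (Localization.AtPrime p)) →
      IsHomeomorph (PrimeSpectrum.comap (algebraMap A (integralClosure A (FractionRing A))))) := by
  let B := integralClosure A (FractionRing A)
  have hUI : ∀ φ : A →+* B, UniversallyInjective (Spec.map (CommRingCat.ofHom φ)) ↔
      UnibranchLib.RadField φ := by
    intro φ
    constructor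
    · intro h K _ g g' hgg
      have h2 : ∀ (K : Type u) [Field K],
          Function.Injective (fun q : Spec (CommRingCat.of K) ⟶ _ => q ≫ Spec.map (CommRingCat.ofHom φ)) :=
        ((tfae_universallyInjective (Spec.map (CommRingCat.ofHom φ))).out 0 1).mp h
      have := h2 K
        (show (fun q : Spec (CommRingCat.of K) ⟶ _ => q ≫ Spec.map (CommRingCat.ofHom φ))
            (Spec.map (CommRingCat.ofHom g)) = (fun q : Spec (CommRingCat.of K) ⟶ _ => q ≫ Spec.map (CommRingCat.ofHom φ))
            (Spec.map (CommRingCat.ofHom g')) by
          simp only [← Spec.map_comp, ← CommRingCat.ofHom_comp, hgg])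
      exact congrArg CommRingCat.Hom.hom (Spec.map_injective this)
    · exact CAlgRedStab.universallyInjective_Spec_of φ
  have h1 := (hUI (algebraMap A B)).trans (UnibranchLib.radField_integralClosure_iff (FractionRing A))
  refine ⟨h1, fun h => ?_⟩
  haveI := h1.2 h
  have hint : (algebraMap A B).IsIntegral := algebraMap_isIntegral_iff.2 inferInstance
  have hinj : Function.Injective (algebraMap A B) := fun x y hxy =>
    IsFractionRing.injective A (FractionRing A) (congrArg Subtype.val hxy)
  have hi : Function.Injective (PrimeSpectrum.comap (algebraMap A B)) := fun P Q hPQ => by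
    exact (Spec.map (CommRingCat.ofHom (algebraMap A B))).injective hPQ
  have hs : Function.Surjective (PrimeSpectrum.comap (algebraMap A B)) := by
    intro P
    obtain ⟨Q, -, hQp, hQ⟩ := Ideal.exists_ideal_over_prime_of_isIntegral (S := B) P.asIdeal ⊥
      (by rw [Ideal.comap_bot_of_injective _ hinj]; exact bot_le)
    exact ⟨⟨Q, hQp⟩, PrimeSpectrum.ext hQ⟩
  exact isHomeomorph_iff_continuous_isClosedMap_bijective.2
    ⟨PrimeSpectrum.continuous_comap _, PrimeSpectrum.isClosedMap_comap_of_isIntegral _ hint, hi, hs⟩

end Groth.Agent.S4567
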