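import Groth.Statements.S4569
import Groth.Agent.CAlgMisc.SmallA

set_option autoImplicit false
universe u
open CAlg

namespace Groth.Agent.S4569

/-- Let A be a ring, x a non-zero-divisor of A with p = xA prime. For every n > 0 the inverse image in A
of x^n A_p is x^n A. -/
theorem result {A : Type u} [CommRing A] (x : A)
    (hx : x ∈ nonZeroDivisors A) [(Ideal.span ({x} : Set A)).IsPrime] (n : ℕ) (hn : 0 < n) :
    Ideal.comap (algebraMap A (Localization.AtPrime (Ideal.span ({x} : Set A))))
      (Ideal.map (algebraMap A (Localization.AtPrime (Ideal.span ({x} : Set A)))) (Ideal.span ({x ^ n} : Set A))) =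
      Ideal.span ({x ^ n} : Set A) := by
  refine le_antisymm (fun a ha => ?_) Ideal.le_comap_map
  rw [Ideal.mem_comap, IsLocalization.mem_map_algebraMap_iff (Ideal.span ({x} : Set A)).primeCompl] at ha
  obtain ⟨⟨⟨c, hc⟩, s⟩, hcs⟩ := ha
  rw [← map_mul, IsLocalization.eq_iff_exists (Ideal.span ({x} : Set A)).primeCompl] at hcs
  obtain ⟨u, hu⟩ := hcs
  obtain ⟨b, rfl⟩ := Ideal.mem_span_singleton.1 hc
  refine CAlgMisc.mem_of_mul_eq_pow x hx inferInstance (s := (u : A) * s) (fun h => ?_) n a ((u : A) * b) ?_
  · exact ((Ideal.IsPrime.mem_or_mem inferInstance h).elim u.2 s.2)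
  · simp only at hu
    linear_combination hu

end Groth.Agent.S4569
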