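import Groth.Statements.S4575
import Mathlib
import Groth.Agent.CAlgJac.Basic

set_option autoImplicit false
universe u
open IsLocalRing
open EGA41

namespace Groth.Agent.S4575

/-- Let R be a regular local ring with maximal ideal m and n a proper ideal with R/n regular. Then
(n/n²) ⊗_R K → (m/m²) ⊗_R K is injective, K the residue field; stated in the equivalent form n ∩ m²
= m·n (the kernel of n/mn → m/m² is (n ∩ m²)/mn). -/
theorem result {R : Type u} [CommRing R] [IsRegularLocalRing R]
    (n : Ideal R) (hn : n ≠ ⊤) (hreg : IsRegularRing (R ⧸ n)) :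
    n ⊓ maximalIdeal R ^ 2 = maximalIdeal R * n := by
  have hle : n ≤ maximalIdeal R := IsLocalRing.le_maximalIdeal hn
  have : Nontrivial (R ⧸ n) := Ideal.Quotient.nontrivial_iff.mpr hn
  have : IsLocalRing (R ⧸ n) := IsLocalRing.of_surjective' (Ideal.Quotient.mk n) Ideal.Quotient.mk_surjective
  have hreg' : IsRegularLocalRing (R ⧸ n) := by
    haveI := hreg.isRegularLocalRing_localization (maximalIdeal (R ⧸ n))
    exact IsRegularLocalRing.of_ringEquiv (IsLocalization.atUnits (R ⧸ n) (maximalIdeal (R ⧸ n)).primeCompl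
      (S := Localization.AtPrime (maximalIdeal (R ⧸ n)))
      (fun x hx => not_not.mp fun hx' => hx ((IsLocalRing.mem_maximalIdeal x).mpr hx'))).symm.toRingEquiv
  refine le_antisymm ((Groth.Agent.CAlgJac.isRegularLocalRing_quotient_iff n hle).mp hreg') ?_
  exact le_inf Ideal.mul_le_right (by rw [sq]; exact Ideal.mul_mono le_rfl hle)

end Groth.Agent.S4575
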