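import Groth.Statements.S4579
import Groth.Agent.SymGr.FTCriteria

set_option autoImplicit false
universe u
open EGA41

namespace Groth.Agent.S4579

open TensorProduct in
theorem isGeometricallyRegular_of_forall {k₀ C : Type u} [Field k₀] [CommRing C] [Algebra k₀ C]
    [IsNoetherianRing C]
    (h : ∀ (p : Ideal C) [p.IsPrime], CAlg.IsGeometricallyRegular k₀ (Localization.AtPrime p)) :
    CAlg.IsGeometricallyRegular k₀ C := by
  intro k' _ _ hf
  letI : Algebra C (k' ⊗[k₀] C) := Algebra.TensorProduct.rightAlgebra
  haveI : IsNoetherianRing (k' ⊗[k₀] C) := by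
    haveI : Module.Finite C (C ⊗[k₀] k') := Module.Finite.base_change k₀ C k'
    haveI : IsNoetherianRing (C ⊗[k₀] k') := Algebra.FiniteType.isNoetherianRing C _
    exact isNoetherianRing_of_ringEquiv (C ⊗[k₀] k') (Algebra.TensorProduct.comm k₀ C k').toRingEquiv
  refine isRegularRing_iff.2 fun P hP => ?_
  let p : Ideal C := P.comap (Algebra.TensorProduct.includeRight : C →ₐ[k₀] k' ⊗[k₀] C)
  haveI : p.IsPrime := Ideal.IsPrime.comap _
  haveI := h p k' hf
  let L := Localization.AtPrime p
  letI : Algebra (k' ⊗[k₀] C) (k' ⊗[k₀] L) :=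
    (Algebra.TensorProduct.map (AlgHom.id k₀ k') (IsScalarTower.toAlgHom k₀ C L)).toRingHom.toAlgebra
  haveI : IsScalarTower k' (k' ⊗[k₀] C) (k' ⊗[k₀] L) := IsScalarTower.of_algebraMap_eq fun c => by
    show c ⊗ₜ[k₀] (1 : L) = c ⊗ₜ[k₀] (algebraMap C L 1)
    rw [map_one]
  let M : Submonoid (k' ⊗[k₀] C) :=
    p.primeCompl.map (Algebra.TensorProduct.includeRight (R := k₀) (A := k') (B := C))
  haveI : IsLocalization M (k' ⊗[k₀] L) :=
    IsLocalization.tensorProduct_tensorProduct_right (R := k₀) (S := k') p.primeCompl L
      (RingHom.ext fun a => rfl)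
  have hd : Disjoint (M : Set (k' ⊗[k₀] C)) P := Set.disjoint_left.2 fun x hx hxP => by
    obtain ⟨y, hy, rfl⟩ := hx
    exact hy hxP
  haveI := IsLocalization.isPrime_of_isPrime_disjoint M (k' ⊗[k₀] L) P hP hd
  let P' := P.map (algebraMap (k' ⊗[k₀] C) (k' ⊗[k₀] L))
  have hc : P'.comap (algebraMap (k' ⊗[k₀] C) (k' ⊗[k₀] L)) = P :=
    IsLocalization.under_map_of_isPrime_disjoint M (k' ⊗[k₀] L) hP hd
  haveI : IsLocalization.AtPrime (Localization.AtPrime P') P := by
    have h1 := IsLocalization.isLocalization_isLocalization_atPrime_isLocalization M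
      (T := Localization.AtPrime P') P'
    simpa only [hc] using h1
  exact IsRegularLocalRing.of_ringEquiv (R := Localization.AtPrime P')
    (IsLocalization.algEquiv P.primeCompl (Localization.AtPrime P') (Localization.AtPrime P)).toRingEquiv


/-- Let k₀ be a field, k a separable (formally smooth) extension field of k₀ and C a k-algebra of finite
type. The following are equivalent: C is formally smooth over k₀ (discrete topologies); every C_p, p
prime, is formally smooth over k₀; every C_m, m maximal, is; C is geometrically regular over k₀.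
(Geometric regularity is tested on finite extensions of k₀. The published statement quantifies the
last condition over all extensions k' of k₀; for infinite ones the base change need not be
Noetherian, so it need not be regular in the Noetherian sense, and the printed proof passes through
the local rings as here.) -/
theorem result {k₀ k C : Type u} [Field k₀] [Field k] [Algebra k₀ k]
    [Algebra.FormallySmooth k₀ k] [CommRing C] [Algebra k C] [Algebra k₀ C] [IsScalarTower k₀ k C]
    [Algebra.FiniteType k C] :
    [Algebra.FormallySmooth k₀ C,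
     ∀ (p : Ideal C) [p.IsPrime], Algebra.FormallySmooth k₀ (Localization.AtPrime p),
     ∀ (m : Ideal C) [m.IsMaximal], Algebra.FormallySmooth k₀ (Localization.AtPrime m),
     CAlg.IsGeometricallyRegular k₀ C].TFAE := by
  haveI : IsNoetherianRing C := Algebra.FiniteType.isNoetherianRing k C
  have hF : ∀ (p : Ideal C) [p.IsPrime], Algebra.FormallySmooth k₀ (Localization.AtPrime p) ↔
      CAlg.IsGeometricallyRegular k₀ (Localization.AtPrime p) := fun p _ => by
    haveI : IsNoetherianRing (Localization.AtPrime p) :=
      IsLocalization.isNoetherianRing p.primeCompl _ inferInstance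
    haveI : Algebra.EssFiniteType C (Localization.AtPrime p) :=
      Algebra.EssFiniteType.of_isLocalization _ p.primeCompl
    haveI : Algebra.EssFiniteType k (Localization.AtPrime p) := Algebra.EssFiniteType.comp k C _
    exact ⟨fun h => haveI := h; Groth.Agent.SymGr.isGeometricallyRegular_of_isAdicFormallySmooth
        (Groth.Agent.SymGr.isAdicFormallySmooth_of_formallySmooth _),
      fun h => Groth.Agent.SymGr.formallySmooth_of_adic_essFiniteType k₀ (k := k)
        (Groth.Agent.SymGr.isAdicFormallySmooth_of_isGeometricallyRegular h)⟩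
  tfae_have 1 → 2 := fun h p hp => by
    haveI := h
    haveI : Algebra.FormallySmooth C (Localization.AtPrime p) :=
      Algebra.FormallySmooth.of_isLocalization p.primeCompl
    exact Algebra.FormallySmooth.comp k₀ C _
  tfae_have 2 → 3 := fun h m _ => h m
  tfae_have 3 → 1 := fun h => Groth.Agent.SymGr.formallySmooth_of_forall k₀ k h
  tfae_have 4 → 3 := fun h m _ =>
    (hF m).2 (Groth.Agent.SymGr.isGeometricallyRegular_of_isLocalization m.primeCompl h)
  tfae_have 2 → 4 := fun h => isGeometricallyRegular_of_forall fun p _ => (hF p).1 (h p)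
  tfae_finish

end Groth.Agent.S4579
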