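import Groth.Statements.S4581
import Mathlib


set_option autoImplicit false
set_option backward.isDefEq.respectTransparency false
set_option maxHeartbeats 800000
set_option synthInstance.maxHeartbeats 200000
universe u
open EGA41
open scoped TensorProduct

namespace Groth.Agent.S4581

section Pre

open TensorProduct

variable {R A : Type u} [CommRing R] [IsNoetherianRing R] [Finite (MaximalSpectrum R)] [CommRing A]
  [Algebra R A] [Module.Finite R A]

variable (R A) in
private lemma jac_facts : Ideal.map (algebraMap R A) (Ideal.jacobson (⊥ : Ideal R)) ≤ Ideal.jacobson (⊥ : Ideal A) ∧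
    ∃ c, 1 ≤ c ∧ Ideal.jacobson (⊥ : Ideal A) ^ c ≤ Ideal.map (algebraMap R A) (Ideal.jacobson (⊥ : Ideal R)) := by
  haveI : IsNoetherianRing A := IsNoetherianRing.of_finite R A
  refine ⟨Ideal.map_le_iff_le_comap.2 fun a ha => ?_, ?_⟩
  · show algebraMap R A a ∈ sInf {P : Ideal A | ⊥ ≤ P ∧ P.IsMaximal}
    refine Submodule.mem_sInf.2 fun (P : Ideal A) hP => ?_
    haveI := hP.2
    haveI : (P.comap (algebraMap R A)).IsMaximal := Ideal.isMaximal_comap_of_isIntegral_of_isMaximal P
    exact Submodule.mem_sInf.1 ha (P.comap (algebraMap R A)) ⟨bot_le, inferInstance⟩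
  · have hrad : Ideal.jacobson (⊥ : Ideal A) ≤
        (Ideal.map (algebraMap R A) (Ideal.jacobson (⊥ : Ideal R))).radical := by
      rw [Ideal.radical_eq_sInf]
      refine le_sInf fun P ⟨hP, hPp⟩ => ?_
      haveI := hPp
      have hR : Ideal.jacobson (⊥ : Ideal R) ≤ P.comap (algebraMap R A) := Ideal.map_le_iff_le_comap.1 hP
      haveI : Fintype (MaximalSpectrum R) := Fintype.ofFinite _
      obtain ⟨m, -, hm⟩ := ((inferInstance : (P.comap (algebraMap R A)).IsPrime).inf_le'
        (s := (Finset.univ : Finset (MaximalSpectrum R))) (f := fun m => m.asIdeal)).1 (le_trans (by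
          refine le_sInf fun Q hQ => ?_
          exact Finset.inf_le (Finset.mem_univ (⟨Q, hQ.2⟩ : MaximalSpectrum R))) hR)
      have h1 : P.comap (algebraMap R A) = m.asIdeal :=
        (m.isMaximal.eq_of_le (Ideal.comap_ne_top _ hPp.ne_top) hm).symm
      haveI : (P.comap (algebraMap R A)).IsMaximal := h1 ▸ m.isMaximal
      haveI : P.IsMaximal := Ideal.isMaximal_of_isIntegral_of_isMaximal_comap (R := R) P ‹_›
      exact sInf_le ⟨bot_le, ‹P.IsMaximal›⟩
    obtain ⟨k, hk⟩ := Ideal.exists_pow_le_of_le_radical_of_fg hrad (IsNoetherian.noetherian _)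
    exact ⟨k + 1, by omega, (Ideal.pow_le_pow_right (Nat.le_succ k)).trans hk⟩

private lemma exists_equiv (I : Ideal R) (J : Ideal A) (hIJ : I.map (algebraMap R A) ≤ J) (c : ℕ) (hc : 1 ≤ c)
    (hJI : J ^ c ≤ I.map (algebraMap R A)) :
    ∃ (ι : AdicCompletion I R →ₐ[R] AdicCompletion J A)
      (e : A ⊗[R] AdicCompletion I R ≃ₐ[A] AdicCompletion J A),
      ∀ a x, e (a ⊗ₜ x) = algebraMap A (AdicCompletion J A) a * ι x := by
  classical
  have hpow : ∀ n, (I ^ n).map (algebraMap R A) ≤ J ^ n := fun n => by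
    rw [Ideal.map_pow]; exact Ideal.pow_right_mono hIJ n
  have hsm : ∀ (n : ℕ) (a : A), a ∈ (I ^ n • ⊤ : Submodule R A) ↔ a ∈ (I ^ n).map (algebraMap R A) := fun n a => by
    rw [Ideal.smul_top_eq_map, Submodule.restrictScalars_mem]
  let q : ∀ n, R ⧸ I ^ n →ₐ[R] A ⧸ J ^ n := fun n =>
    Ideal.Quotient.liftₐ (I ^ n) ((Ideal.Quotient.mkₐ R (J ^ n)).comp (Algebra.ofId R A)) fun r hr =>
      Ideal.Quotient.eq_zero_iff_mem.2 (hpow n (Ideal.mem_map_of_mem _ hr))
  have hcq : ∀ {m n : ℕ} (hle : m ≤ n),
      (Ideal.Quotient.factorₐ R (Ideal.pow_le_pow_right hle)).comp ((q n).comp (AdicCompletion.evalₐ I n)) =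
        (q m).comp (AdicCompletion.evalₐ I m) := by
    intro m n hle
    refine AlgHom.ext fun x => ?_
    induction x using AdicCompletion.induction_on with
    | _ y =>
      simp only [AlgHom.comp_apply, AdicCompletion.evalₐ_mk]
      show Ideal.Quotient.mk (J ^ m) (algebraMap R A (y.1 n)) = Ideal.Quotient.mk (J ^ m) (algebraMap R A (y.1 m))
      rw [Ideal.Quotient.eq, ← map_sub]
      refine hpow m (Ideal.mem_map_of_mem _ ?_)
      have h := y.2 hle
      rw [SModEq.sub_mem, smul_eq_mul, Ideal.mul_top] at h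
      rw [← neg_sub]
      exact neg_mem h
  let ι : AdicCompletion I R →ₐ[R] AdicCompletion J A :=
    AdicCompletion.liftAlgHom J (fun n => (q n).comp (AdicCompletion.evalₐ I n)) (fun {m n} hle => hcq hle)
  have hι : ∀ n x, AdicCompletion.evalₐ J n (ι x) = q n (AdicCompletion.evalₐ I n x) := fun n x =>
    AdicCompletion.evalₐ_liftAlgHom _ _ _ n x
  let θ : A ⊗[R] AdicCompletion I R →ₐ[A] AdicCompletion J A :=
    Algebra.TensorProduct.lift (Algebra.ofId A _) ι (fun _ _ => Commute.all _ _)
  let G : A ⊗[R] AdicCompletion I R ≃ₗ[R] AdicCompletion I A :=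
    (TensorProduct.comm R A (AdicCompletion I R)) ≪≫ₗ
      (AdicCompletion.ofTensorProductEquivOfFiniteNoetherian I A).restrictScalars R
  have hP : ∀ (z : A ⊗[R] AdicCompletion I R) (m : ℕ), ∃ a : A,
      (G z).val m = Submodule.Quotient.mk a ∧ AdicCompletion.evalₐ J m (θ z) = Ideal.Quotient.mk _ a := by
    intro z m
    induction z using TensorProduct.induction_on with
    | zero => exact ⟨0, by rw [map_zero]; rfl, by rw [map_zero, map_zero, map_zero]⟩
    | add x y hx hy =>
      obtain ⟨a, ha, ha'⟩ := hx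
      obtain ⟨b, hb, hb'⟩ := hy
      refine ⟨a + b, ?_, by rw [map_add, map_add, ha', hb', map_add]⟩
      rw [map_add, AdicCompletion.val_add_apply, ha, hb]
      rfl
    | tmul a x =>
      obtain ⟨r, hr⟩ := Ideal.Quotient.mk_surjective (AdicCompletion.evalₐ I m x)
      refine ⟨r • a, ?_, ?_⟩
      · have hr' : x.val m = Submodule.Quotient.mk r := by
          induction x using AdicCompletion.induction_on with
          | _ y =>
            rw [AdicCompletion.evalₐ_mk, eq_comm, Ideal.Quotient.eq] at hr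
            show Submodule.Quotient.mk (y.1 m) = _
            rw [Submodule.Quotient.eq, smul_eq_mul, Ideal.mul_top]
            exact hr
        show ((AdicCompletion.ofTensorProduct I A) (x ⊗ₜ a)).val m = _
        rw [AdicCompletion.ofTensorProduct_tmul, AdicCompletion.smul_eval, hr']
        rfl
      · show AdicCompletion.evalₐ J m (algebraMap A (AdicCompletion J A) a * ι x) = _
        rw [map_mul, hι, AlgHom.commutes, ← hr, Algebra.smul_def, mul_comm, map_mul]
        rfl
  have hinj : Function.Injective θ := by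
    rw [injective_iff_map_eq_zero]
    intro z hz
    refine G.injective ?_
    rw [map_zero]
    refine AdicCompletion.ext fun n => ?_
    obtain ⟨a, ha, ha'⟩ := hP z (c * n)
    rw [hz, map_zero, eq_comm, Ideal.Quotient.eq_zero_iff_mem] at ha'
    have hn : n ≤ c * n := Nat.le_mul_of_pos_left n (by omega)
    have hcomp := (G z).property hn
    rw [ha] at hcomp
    rw [← hcomp, AdicCompletion.val_zero_apply]
    show Submodule.Quotient.mk a = 0
    rw [Submodule.Quotient.mk_eq_zero, hsm, Ideal.map_pow]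
    exact Ideal.pow_right_mono hJI n (by rwa [← pow_mul])
  have hsurj : Function.Surjective θ := by
    intro y
    choose b hb using fun n => Ideal.Quotient.mk_surjective (AdicCompletion.evalₐ J n y)
    have hbc : ∀ {m n : ℕ}, m ≤ n → b n - b m ∈ J ^ m := by
      intro m n hle
      rw [← Ideal.Quotient.eq, hb]
      obtain ⟨s, rfl⟩ := AdicCompletion.mk_surjective J A y
      rw [AdicCompletion.evalₐ_mk, ← Ideal.Quotient.factor_mk (Ideal.pow_le_pow_right (I := J) hle) (b n),
        hb, AdicCompletion.evalₐ_mk, Ideal.Quotient.factor_mk, Ideal.Quotient.eq]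
      have h := s.2 hle
      rw [SModEq.sub_mem, smul_eq_mul, Ideal.mul_top] at h
      rw [← neg_sub]
      exact neg_mem h
    have hcau : AdicCompletion.IsAdicCauchy I A (fun n => b (c * n)) := by
      intro m n hle
      rw [SModEq.sub_mem, ← neg_sub]
      refine neg_mem ?_
      rw [hsm, Ideal.map_pow]
      exact Ideal.pow_right_mono hJI m (by rw [← pow_mul]; exact hbc (Nat.mul_le_mul_left c hle))
    obtain ⟨z, hz⟩ := G.surjective (AdicCompletion.mk I A ⟨_, hcau⟩)
    refine ⟨z, AdicCompletion.ext_evalₐ fun m => ?_⟩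
    obtain ⟨a, ha, ha'⟩ := hP z m
    rw [hz] at ha
    have ha2 : b (c * m) - a ∈ (I ^ m).map (algebraMap R A) := by
      rw [← hsm]; exact (Submodule.Quotient.eq _).1 ha
    rw [ha', ← hb m, eq_comm, Ideal.Quotient.eq]
    have := (J ^ m).add_mem (neg_mem (hbc (Nat.le_mul_of_pos_left m (show 0 < c by omega)))) (hpow m ha2)
    convert this using 1
    ring
  exact ⟨ι, AlgEquiv.ofBijective θ ⟨hinj, hsurj⟩, fun a x => rfl⟩

end Pre

/-- Let A₀ be a semi-local Noetherian ring, A a module-finite A₀-algebra and Â the completion of A for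
the adic topology of its Jacobson radical. For the discrete topologies, Â is a formally smooth
A-algebra relative to A₀. -/
theorem result {A₀ A : Type u} [CommRing A₀]
    [IsNoetherianRing A₀] [Finite (MaximalSpectrum A₀)] [CommRing A] [Algebra A₀ A] [Module.Finite A₀ A] :
    EGA41.IsFormallySmoothRel A₀ A (AdicCompletion (Ideal.jacobson (⊥ : Ideal A)) A) := by
  intro C _ _ _ _ J hJ u₀ ⟨u, hu⟩
  obtain ⟨hIJ, c, hc, hJI⟩ := jac_facts A₀ A
  obtain ⟨ι, e, he⟩ := exists_equiv (R := A₀) (A := A) _ _ hIJ c hc hJI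
  let w : A ⊗[A₀] AdicCompletion (Ideal.jacobson (⊥ : Ideal A₀)) A₀ →ₐ[A] C :=
    Algebra.TensorProduct.lift (Algebra.ofId A C) (u.comp ι) (fun _ _ => Commute.all _ _)
  refine ⟨w.comp e.symm.toAlgHom, AlgHom.ext fun y => ?_⟩
  obtain ⟨z, rfl⟩ := e.surjective y
  show Ideal.Quotient.mk J (w (e.symm (e z))) = u₀ (e z)
  rw [e.symm_apply_apply]
  induction z using TensorProduct.induction_on with
  | zero => simp
  | add p q hp hq => simp only [map_add, hp, hq]
  | tmul a x =>
    rw [he, map_mul u₀, AlgHom.commutes]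
    show Ideal.Quotient.mk J (algebraMap A C a * u (ι x)) = _
    rw [map_mul]
    refine congrArg₂ (· * ·) rfl ?_
    exact DFunLike.congr_fun hu (ι x)

end Groth.Agent.S4581
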