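import Groth.Statements.S4582
import Groth.Agent.SymGr.LocalFormalFibre

set_option autoImplicit false
universe u
open IsLocalRing
open EGA41

namespace Groth.Agent.S4582

/-- Let A be a complete Noetherian local ring, p a prime of A, B = A_p, B̂ the completion of B, q a
prime of B̂ and r its contraction to B. Then B̂_q is formally smooth over B_r for the adic
topologies of the maximal ideals. -/
theorem result {A : Type u} [CommRing A]
    [IsLocalRing A] [IsNoetherianRing A] [IsAdicComplete (maximalIdeal A) A] (p : Ideal A) [p.IsPrime]
    (q : Ideal (AdicCompletion (maximalIdeal (Localization.AtPrime p)) (Localization.AtPrime p))) [q.IsPrime]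
    [Algebra (Localization.AtPrime (q.comap (algebraMap (Localization.AtPrime p)
        (AdicCompletion (maximalIdeal (Localization.AtPrime p)) (Localization.AtPrime p)))))
      (Localization.AtPrime q)]
    [IsScalarTower (Localization.AtPrime p)
      (Localization.AtPrime (q.comap (algebraMap (Localization.AtPrime p)
        (AdicCompletion (maximalIdeal (Localization.AtPrime p)) (Localization.AtPrime p)))))
      (Localization.AtPrime q)] :
    EGA41.IsFormallySmoothAdic
      (Localization.AtPrime (q.comap (algebraMap (Localization.AtPrime p)
        (AdicCompletion (maximalIdeal (Localization.AtPrime p)) (Localization.AtPrime p)))))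
      (maximalIdeal _) (Localization.AtPrime q) (maximalIdeal _) := by
  let B := Localization.AtPrime p
  let D := AdicCompletion (maximalIdeal (Localization.AtPrime p)) (Localization.AtPrime p)
  haveI : IsNoetherianRing B := IsLocalization.isNoetherianRing p.primeCompl _ inferInstance
  haveI : IsNoetherianRing D := Groth.Agent.AdicNoeth.isNoetherianRing_adicCompletion _
  haveI : IsAdicComplete (maximalIdeal D) D := inferInstanceAs (IsAdicComplete (maximalIdeal
    (AdicCompletion (maximalIdeal (Localization.AtPrime p)) (Localization.AtPrime p))) _)
  have hm := Groth.Agent.FSAdic.ker_evalₐ (maximalIdeal (Localization.AtPrime p)) (IsNoetherian.noetherian _)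
  letI algq : Algebra (Localization.AtPrime p) (Localization.AtPrime q) := OreLocalization.instAlgebra
  haveI : IsScalarTower (Localization.AtPrime p)
      (AdicCompletion (maximalIdeal (Localization.AtPrime p)) (Localization.AtPrime p)) (Localization.AtPrime q) :=
    IsScalarTower.of_algebraMap_eq' rfl
  refine Groth.Agent.SymGr.isFormallySmoothAdic_completion_complete (A := A) (B := Localization.AtPrime p)
    (D := AdicCompletion (maximalIdeal (Localization.AtPrime p)) (Localization.AtPrime p)) p
    AdicCompletion.maximalIdeal_eq_map (fun k d => ?_) (fun k c hc => ?_) q _ _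
  · obtain ⟨c, hc⟩ := Ideal.Quotient.mk_surjective (AdicCompletion.evalₐ _ k d)
    refine ⟨c, ?_⟩
    rw [AdicCompletion.maximalIdeal_eq_map, ← hm, RingHom.mem_ker, map_sub, sub_eq_zero]
    exact hc.symm.trans (AlgHom.commutes _ c).symm
  · rw [AdicCompletion.maximalIdeal_eq_map, ← hm, RingHom.mem_ker] at hc
    exact Ideal.Quotient.eq_zero_iff_mem.1 ((AlgHom.commutes _ c).symm.trans hc)

end Groth.Agent.S4582
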