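import Groth.Statements.S4583
import Groth.Agent.SymGr.CompleteFibre

set_option autoImplicit false
universe u
open IsLocalRing
open EGA41

namespace Groth.Agent.S4583

/-- Let A be a complete Noetherian local domain with fraction field K, p a prime of A, B = A_p, q a
prime of the completion B̂ of B with q ∩ B = 0. Then B̂_q is a K-algebra formally smooth over K for
the adic topology of its maximal ideal (the published statement adds that it is then geometrically
regular over K; that consequence is not stated). -/
theorem result {A : Type u} [CommRing A]
    [IsDomain A] [IsLocalRing A] [IsNoetherianRing A] [IsAdicComplete (maximalIdeal A) A] (p : Ideal A) [p.IsPrime]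
    (q : Ideal (AdicCompletion (maximalIdeal (Localization.AtPrime p)) (Localization.AtPrime p))) [q.IsPrime]
    (hq : q.comap (algebraMap (Localization.AtPrime p)
      (AdicCompletion (maximalIdeal (Localization.AtPrime p)) (Localization.AtPrime p))) = ⊥)
    [Algebra A (Localization.AtPrime q)]
    [IsScalarTower A (AdicCompletion (maximalIdeal (Localization.AtPrime p)) (Localization.AtPrime p))
      (Localization.AtPrime q)]
    [Algebra (FractionRing A) (Localization.AtPrime q)] [IsScalarTower A (FractionRing A) (Localization.AtPrime q)] :
    CAlgX.IsAdicFormallySmooth (FractionRing A) (Localization.AtPrime q) (maximalIdeal (Localization.AtPrime q)) := by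
  let C := Localization.AtPrime p
  haveI : IsNoetherianRing C := IsLocalization.isNoetherianRing p.primeCompl _ inferInstance
  haveI : IsNoetherianRing (AdicCompletion (maximalIdeal (Localization.AtPrime p)) (Localization.AtPrime p)) :=
    Groth.Agent.AdicNoeth.isNoetherianRing_adicCompletion _
  haveI : IsNoetherianRing (Localization.AtPrime q) := IsLocalization.isNoetherianRing q.primeCompl _ inferInstance
  have hm := Groth.Agent.FSAdic.ker_evalₐ (maximalIdeal (Localization.AtPrime p)) (IsNoetherian.noetherian _)
  haveI : IsAdicComplete (maximalIdeal (AdicCompletion (maximalIdeal (Localization.AtPrime p))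
      (Localization.AtPrime p))) (AdicCompletion (maximalIdeal (Localization.AtPrime p)) (Localization.AtPrime p)) :=
    inferInstance
  letI alg : Algebra A (Localization.AtPrime q) := OreLocalization.instAlgebra
  haveI : @IsScalarTower A (AdicCompletion (maximalIdeal (Localization.AtPrime p)) (Localization.AtPrime p))
      (Localization.AtPrime q) Algebra.toSMul Algebra.toSMul alg.toSMul := IsScalarTower.of_algebraMap_eq' rfl
  haveI : @IsScalarTower A (FractionRing A) (Localization.AtPrime q) Algebra.toSMul Algebra.toSMul alg.toSMul :=
    (inferInstance : IsScalarTower A (FractionRing A) (Localization.AtPrime q))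
  refine Groth.Agent.SymGr.isAdicFormallySmooth_of_isGeometricallyRegular
    (Groth.Agent.SymGr.isGeometricallyRegular_completion_completeDomain p
      (C := Localization.AtPrime p) (D := AdicCompletion (maximalIdeal (Localization.AtPrime p)) (Localization.AtPrime p))
      AdicCompletion.maximalIdeal_eq_map (fun k d => ?_) (fun k c hc => ?_) q hq
      (Localization.AtPrime q))
  · obtain ⟨c, hc⟩ := Ideal.Quotient.mk_surjective (AdicCompletion.evalₐ _ k d)
    refine ⟨c, ?_⟩
    rw [AdicCompletion.maximalIdeal_eq_map, ← hm, RingHom.mem_ker, map_sub, sub_eq_zero]
    exact hc.symm.trans (AlgHom.commutes _ c).symm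
  · rw [AdicCompletion.maximalIdeal_eq_map, ← hm, RingHom.mem_ker] at hc
    exact Ideal.Quotient.eq_zero_iff_mem.1 ((AlgHom.commutes _ c).symm.trans hc)

end Groth.Agent.S4583
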