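import Groth.Statements.S4584
import Groth.Agent.ProConsLib.Realize

set_option autoImplicit false
universe u
open AlgebraicGeometry CategoryTheory Topology
open EGA41

namespace Groth.Agent.S4584

open PrimeSpectrum in
/-- The ring of a basic constructible set. -/
abbrev Piece {A : Type u} [CommRing A] (C : BasicConstructibleSetData A) : Type u :=
  Localization.Away (Ideal.Quotient.mk (Ideal.span (Set.range C.g)) C.f)

open PrimeSpectrum in
/-- The map to the ring of a basic constructible set. -/
abbrev piece {A : Type u} [CommRing A] (C : BasicConstructibleSetData A) : A →+* Piece C :=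
  (algebraMap _ _).comp (Ideal.Quotient.mk (Ideal.span (Set.range C.g)))

open PrimeSpectrum in
theorem piece_fp {A : Type u} [CommRing A] (C : BasicConstructibleSetData A) :
    (piece C).FinitePresentation := by
  refine RingHom.FinitePresentation.comp ?_ (RingHom.FinitePresentation.of_surjective _
    Ideal.Quotient.mk_surjective ?_)
  · exact RingHom.finitePresentation_algebraMap.2
      (IsLocalization.Away.finitePresentation (Ideal.Quotient.mk (Ideal.span (Set.range C.g)) C.f))
  · rw [Ideal.mk_ker]
    exact Submodule.fg_span (Set.finite_range _)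

open PrimeSpectrum in
theorem range_piece {A : Type u} [CommRing A] (C : BasicConstructibleSetData A) :
    Set.range (PrimeSpectrum.comap (piece C)) = C.toSet := by
  let I := Ideal.span (Set.range C.g)
  let f := Ideal.Quotient.mk I C.f
  trans comap (Ideal.Quotient.mk I) '' (Set.range (comap (algebraMap _ (Localization.Away f))))
  · rw [← Set.range_comp]; rfl
  · rw [localization_away_comap_range _ f, ← comap_basicOpen, TopologicalSpace.Opens.coe_comap,
      ContinuousMap.coe_mk, Set.image_preimage_eq_inter_range,
      range_comap_of_surjective _ _ Ideal.Quotient.mk_surjective, BasicConstructibleSetData.toSet,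
      Set.sdiff_eq_compl_inter, basicOpen_eq_zeroLocus_compl, Ideal.mk_ker, zeroLocus_span]

theorem isConstructible_preimage_fromSpec {X : Scheme.{u}} {U : X.Opens} (hU : IsAffineOpen U)
    {Z : Set X} (hZ : Topology.IsConstructible Z) :
    Topology.IsConstructible (hU.fromSpec ⁻¹' Z : Set (PrimeSpectrum Γ(X, U))) :=
  hU.fromSpec.isConstructible_preimage hZ


/-- Given a scheme X that is quasi-compact and quasi-separated, together with a constructible subset Z
of X, one can find an affine scheme X' with a morphism X' → X of finite presentation whose image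
equals Z. -/
theorem result (X : Scheme.{u}) [CompactSpace X]
    [QuasiSeparatedSpace X] (Z : Set X) (hZ : IsConstructible Z) :
    ∃ (X' : Scheme.{u}) (f : X' ⟶ X), IsAffine X' ∧ LocallyOfFinitePresentation f ∧ QuasiCompact f ∧
      QuasiSeparated f ∧ Set.range f.base = Z := by
  classical
  obtain ⟨S, hSf, hS⟩ := (isCompact_and_isOpen_iff_finite_and_eq_biUnion_affineOpens.1
    ⟨isCompact_univ, (isOpen_univ : IsOpen (Set.univ : Set X))⟩)
  have : Finite S := hSf
  choose D hD using fun W : S => PrimeSpectrum.exists_constructibleSetData_iff.2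
    (isConstructible_preimage_fromSpec W.1.2 hZ)
  haveI : ∀ i : (Σ W : S, ↥(D W)), LocallyOfFinitePresentation (Spec.map (CommRingCat.ofHom (piece i.2.1)) ≫ i.1.1.2.fromSpec) :=
    fun i => by
      haveI : LocallyOfFinitePresentation (Spec.map (CommRingCat.ofHom (piece i.2.1))) :=
        (HasRingHomProperty.Spec_iff (P := @LocallyOfFinitePresentation)).2 (piece_fp i.2.1)
      infer_instance
  refine ⟨∐ fun i : (Σ W : S, ↥(D W)) => Spec (CommRingCat.of (Piece i.2.1)),
    Limits.Sigma.desc fun i => Spec.map (CommRingCat.ofHom (piece i.2.1)) ≫ i.1.1.2.fromSpec,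
    inferInstance, IsZariskiLocalAtSource.sigmaDesc this, ?_, ?_, ?_⟩
  · infer_instance
  · infer_instance
  rw [Groth.Agent.ProConsLib.range_sigmaDesc]
  have key : ∀ (W : S) (C : PrimeSpectrum.BasicConstructibleSetData Γ(X, W.1.1)),
      Set.range (Spec.map (CommRingCat.ofHom (piece C)) ≫ W.1.2.fromSpec) = W.1.2.fromSpec '' C.toSet :=
    fun W C => by
      rw [← range_piece C]
      erw [← Set.range_comp]
      rfl
  simp_rw [key, Set.iUnion_sigma]
  refine Set.ext fun x => ?_
  simp only [Set.mem_iUnion]
  constructor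
  · rintro ⟨W, C, z, hz, rfl⟩
    have : z ∈ (D W).toSet := Set.mem_iUnion₂.2 ⟨C.1, C.2, hz⟩
    rw [hD W] at this
    exact this
  · intro hx
    obtain ⟨W, hW, hxW⟩ := Set.mem_iUnion₂.1
      (hS ▸ Set.mem_univ x : x ∈ ⋃ i ∈ S, ((i : X.Opens) : Set X))
    obtain ⟨z, rfl⟩ : x ∈ Set.range W.2.fromSpec := by rw [W.2.range_fromSpec]; exact hxW
    have : z ∈ (D ⟨W, hW⟩).toSet := by rw [hD ⟨W, hW⟩]; exact hx
    obtain ⟨C, hC, hzC⟩ := Set.mem_iUnion₂.1 this
    exact ⟨⟨W, hW⟩, ⟨C, hC⟩, z, hzC, rfl⟩

end Groth.Agent.S4584
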