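import Groth.Statements.S4585
import Mathlib
import Groth.Agent.GenFree.Algebra

set_option autoImplicit false
universe u
open AlgebraicGeometry CategoryTheory
open EGA41

namespace Groth.Agent.S4585

open TensorProduct in
theorem exists_cover {A B : Type u} [CommRing A] [CommRing B] (φ : A →+* B) (hφ : φ.FiniteType)
    (x : PrimeSpectrum B) (q₀ : PrimeSpectrum A) (hq : PrimeSpectrum.comap φ x = q₀)
    (hmin : ∀ p : PrimeSpectrum A, q₀.asIdeal ≤ p.asIdeal) :
    ∃ a : A, a ∉ q₀.asIdeal ∧ ∀ p : PrimeSpectrum A, a ∉ p.asIdeal → ∃ y, PrimeSpectrum.comap φ y = p := by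
  let A' := A ⧸ q₀.asIdeal
  let J := q₀.asIdeal.map φ
  let φ' : A' →+* B ⧸ J := Ideal.quotientMap J φ Ideal.le_comap_map
  letI : Algebra A' (B ⧸ J) := φ'.toAlgebra
  haveI : Algebra.FiniteType A' (B ⧸ J) := by
    have h1 : ((Ideal.Quotient.mk J).comp φ).FiniteType :=
      (RingHom.FiniteType.of_surjective _ Ideal.Quotient.mk_surjective).comp hφ
    have h2 : φ'.comp (Ideal.Quotient.mk q₀.asIdeal) = (Ideal.Quotient.mk J).comp φ := Ideal.quotientMap_comp_mk _
    rw [← h2] at h1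
    exact RingHom.FiniteType.of_comp_finiteType h1
  obtain ⟨f, -, hf, -, hfree, -, -⟩ :=
    Groth.Agent.GenFree.exists_generic_freeness (R := A') (B ⧸ J) (B ⧸ J) (one_ne_zero)
  haveI := hfree
  haveI : Module.Free (Localization.Away f) (Localization.Away f ⊗[A'] (B ⧸ J)) :=
    Module.Free.of_equiv (LocalizedModule.equivTensorProduct (Submonoid.powers f) (B ⧸ J))
  have hJ : J ≤ x.asIdeal := by
    rw [Ideal.map_le_iff_le_comap, ← hq]; exact le_rfl
  have hx' : (x.asIdeal.map (Ideal.Quotient.mk J)).IsPrime :=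
    Ideal.map_isPrime_of_surjective Ideal.Quotient.mk_surjective (by rwa [Ideal.mk_ker])
  have hfx : algebraMap A' (B ⧸ J) f ∉ x.asIdeal.map (Ideal.Quotient.mk J) := by
    obtain ⟨a, rfl⟩ := Ideal.Quotient.mk_surjective f
    intro h
    show False
    rw [show algebraMap A' (B ⧸ J) (Ideal.Quotient.mk _ a) = Ideal.Quotient.mk J (φ a) from rfl,
      ← Ideal.mem_comap, Ideal.comap_map_of_surjective _ Ideal.Quotient.mk_surjective, ← RingHom.ker_eq_comap_bot,
      Ideal.mk_ker, sup_eq_left.2 hJ, ← Ideal.mem_comap] at h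
    exact hf (Ideal.Quotient.eq_zero_iff_mem.2 (by rw [← hq]; exact h))
  letI : Algebra (B ⧸ J) (Localization.Away f ⊗[A'] (B ⧸ J)) := Algebra.TensorProduct.rightAlgebra
  haveI : Nontrivial (Localization.Away f ⊗[A'] (B ⧸ J)) := by
    haveI : IsLocalization (Algebra.algebraMapSubmonoid (B ⧸ J) (Submonoid.powers f))
        (Localization.Away f ⊗[A'] (B ⧸ J)) := IsLocalization.tensorRight (A := Localization.Away f) (S := B ⧸ J) _
    refine not_subsingleton_iff_nontrivial.1 fun hs => ?_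
    obtain ⟨_, ⟨k, rfl⟩, h⟩ := (IsLocalization.subsingleton_iff (M := Algebra.algebraMapSubmonoid (B ⧸ J) (Submonoid.powers f))
      (S := Localization.Away f ⊗[A'] (B ⧸ J))).1 hs
    exact hfx (hx'.mem_of_pow_mem k (by rw [← map_pow, h]; exact zero_mem _))
  haveI : Module.FaithfullyFlat (Localization.Away f) (Localization.Away f ⊗[A'] (B ⧸ J)) := inferInstance
  obtain ⟨a, rfl⟩ := Ideal.Quotient.mk_surjective f
  refine ⟨a, fun h => hf (Ideal.Quotient.eq_zero_iff_mem.2 h), fun p hp => ?_⟩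
  have hq₀p : q₀.asIdeal ≤ p.asIdeal := hmin p
  haveI : (p.asIdeal.map (Ideal.Quotient.mk q₀.asIdeal)).IsPrime :=
    Ideal.map_isPrime_of_surjective Ideal.Quotient.mk_surjective (by rwa [Ideal.mk_ker])
  let p' : PrimeSpectrum A' := ⟨_, ‹(p.asIdeal.map (Ideal.Quotient.mk q₀.asIdeal)).IsPrime›⟩
  have hp' : p'.asIdeal.comap (Ideal.Quotient.mk _) = p.asIdeal := by
    rw [Ideal.comap_map_of_surjective _ Ideal.Quotient.mk_surjective, ← RingHom.ker_eq_comap_bot, Ideal.mk_ker,
      sup_eq_left.2 hq₀p]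
  obtain ⟨P, hP⟩ : p' ∈ Set.range (PrimeSpectrum.comap (algebraMap A' (Localization.Away (Ideal.Quotient.mk q₀.asIdeal a)))) := by
    rw [PrimeSpectrum.localization_away_comap_range _ (Ideal.Quotient.mk q₀.asIdeal a)]
    show _ ∉ p'.asIdeal
    rw [← Ideal.mem_comap, hp']
    exact hp
  obtain ⟨Q, hQ⟩ := PrimeSpectrum.comap_surjective_of_faithfullyFlat
    (B := Localization.Away (Ideal.Quotient.mk q₀.asIdeal a) ⊗[A'] (B ⧸ J)) P
  refine ⟨PrimeSpectrum.comap ((algebraMap (B ⧸ J) _).comp (Ideal.Quotient.mk J)) Q, ?_⟩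
  rw [← PrimeSpectrum.comap_comp_apply, PrimeSpectrum.ext_iff, ← hp', ← hP, ← hQ]
  show Q.asIdeal.comap _ = ((Q.asIdeal.comap _).comap _).comap _
  rw [Ideal.comap_comap, Ideal.comap_comap]
  congr 1
  ext b
  show (1 : Localization.Away (Ideal.Quotient.mk q₀.asIdeal a)) ⊗ₜ[A'] algebraMap A' (B ⧸ J) (Ideal.Quotient.mk _ b) =
    algebraMap A' (Localization.Away (Ideal.Quotient.mk q₀.asIdeal a)) (Ideal.Quotient.mk _ b) ⊗ₜ[A'] (1 : B ⧸ J)
  exact (Algebra.TensorProduct.tmul_one_eq_one_tmul _).symm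


/-- Let Y be an irreducible scheme with generic point η and f : X → Y locally of finite type with
nonempty fibre over η. Then some open neighbourhood of η is contained in f(X). (The second
assertion, on fibres of a quasi-coherent module of finite type, is not stated.) -/
theorem result {X Y : Scheme.{u}} (f : X ⟶ Y)
    [LocallyOfFiniteType f] [IrreducibleSpace Y] (h : genericPoint Y ∈ Set.range f.base) :
    genericPoint Y ∈ interior (Set.range f.base) := by
  obtain ⟨x, hx⟩ := h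
  obtain ⟨_, ⟨V, hV, rfl⟩, hηV, -⟩ :=
    Y.isBasis_affineOpens.exists_subset_of_mem_open (Set.mem_univ (genericPoint Y)) isOpen_univ
  obtain ⟨_, ⟨U, hU, rfl⟩, hxU, hUV⟩ := X.isBasis_affineOpens.exists_subset_of_mem_open
    (show x ∈ f.base ⁻¹' V by rw [Set.mem_preimage, hx]; exact hηV) (V.isOpen.preimage f.continuous)
  let φ := f.appLE V U hUV
  have hφ : φ.hom.FiniteType := LocallyOfFiniteType.finiteType_appLE f hV hU hUV
  have hcomm := hV.SpecMap_appLE_fromSpec f hU hUV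
  obtain ⟨x', hx'⟩ : x ∈ Set.range hU.fromSpec.base := by rw [hU.range_fromSpec]; exact hxU
  let q₀ := (Spec.map φ).base x'
  have hq₀ : hV.fromSpec.base q₀ = genericPoint Y := by
    show (Spec.map φ ≫ hV.fromSpec).base x' = _
    rw [hcomm]
    show f.base (hU.fromSpec.base x') = _
    rw [hx', hx]
  have hmin : ∀ p : PrimeSpectrum Γ(Y, V), q₀.asIdeal ≤ p.asIdeal := fun p => by
    rw [PrimeSpectrum.asIdeal_le_asIdeal, PrimeSpectrum.le_iff_specializes]
    refine hV.fromSpec.isOpenEmbedding.isInducing.specializes_iff.1 ?_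
    rw [hq₀]
    exact genericPoint_specializes _
  obtain ⟨a, ha, hcov⟩ := exists_cover φ.hom hφ x' q₀ rfl hmin
  refine mem_interior.2 ⟨hV.fromSpec.base '' {p : PrimeSpectrum Γ(Y, V) | a ∉ p.asIdeal}, ?_,
    hV.fromSpec.isOpenEmbedding.isOpenMap _ (PrimeSpectrum.basicOpen a).isOpen, q₀, ha, hq₀⟩
  rintro _ ⟨p, hp, rfl⟩
  obtain ⟨y, hy⟩ := hcov p hp
  refine ⟨hU.fromSpec.base y, ?_⟩
  show (hU.fromSpec ≫ f).base y = _
  rw [← hcomm, ← hy]
  rfl

end Groth.Agent.S4585
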