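import Groth.Statements.S4586
import Groth.Agent.ProConsLib.Realize

set_option autoImplicit false
universe u
open AlgebraicGeometry CategoryTheory Topology
open EGA41

namespace Groth.Agent.S4586

/-- Let f : X → Y be surjective and either quasi-compact or locally of finite presentation, E ⊆ Y. Then
E is locally constructible (resp. pro-constructible, resp. ind-constructible) if and only if f⁻¹(E)
is. -/
theorem result {X Y : Scheme.{u}} (f : X ⟶ Y) [Surjective f]
    (hf : QuasiCompact f ∨ LocallyOfFinitePresentation f) (E : Set Y) :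
    (IsLocallyConstructible E ↔ IsLocallyConstructible (f.base ⁻¹' E)) ∧
    (ProCons.IsProConstructible E ↔ ProCons.IsProConstructible (f.base ⁻¹' E)) ∧
    (ProCons.IsIndConstructible E ↔ ProCons.IsIndConstructible (f.base ⁻¹' E)) := by
  have hs : f.base '' (f.base ⁻¹' E) = E := Set.image_preimage_eq E f.surjective
  have hs' : f.base '' (f.base ⁻¹' Eᶜ) = Eᶜ := Set.image_preimage_eq _ f.surjective
  have hp : ProCons.IsProConstructible E ↔ ProCons.IsProConstructible (f.base ⁻¹' E) := by
    refine ⟨Groth.Agent.ProConsLib.isPro_preimage f, fun h => ?_⟩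
    rcases hf with hf | hf
    · exact hs ▸ Groth.Agent.ProConsLib.isPro_image f h
    · rw [Groth.Agent.ProConsLib.isPro_iff_compl, ← hs']
      exact Groth.Agent.ProConsLib.isInd_image f (Groth.Agent.ProConsLib.isPro_iff_compl.1 h)
  have hi : ProCons.IsIndConstructible E ↔ ProCons.IsIndConstructible (f.base ⁻¹' E) := by
    refine ⟨Groth.Agent.ProConsLib.isInd_preimage f, fun h => ?_⟩
    rcases hf with hf | hf
    · rw [Groth.Agent.ProConsLib.isInd_iff_compl, ← hs']
      exact Groth.Agent.ProConsLib.isPro_image f (Groth.Agent.ProConsLib.isInd_iff_compl.1 h)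
    · exact hs ▸ Groth.Agent.ProConsLib.isInd_image f h
  exact ⟨by rw [Groth.Agent.ProConsLib.isLocallyConstructible_iff, Groth.Agent.ProConsLib.isLocallyConstructible_iff, hp, hi], hp, hi⟩

end Groth.Agent.S4586
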