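import Groth.Statements.S4587
import Mathlib

set_option autoImplicit false
universe u
open AlgebraicGeometry CategoryTheory
open EGA41

namespace Groth.Agent.S4587

/-- A morphism of schemes f : X → Y is generizing if and only if, for every irreducible closed subset Y'
of Y, each irreducible component of f⁻¹(Y') has dense image in Y'. -/
theorem result {X Y : Scheme.{u}} (f : X ⟶ Y) :
    GeneralizingMap f.base ↔
      ∀ Y' : Set Y, IsClosed Y' → IsIrreducible Y' →
        ∀ Z ∈ irreducibleComponents ↥(f.base ⁻¹' Y'), closure (f.base '' (Subtype.val '' Z)) = Y' := by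
  constructor
  · intro hf Y' hc hi Z hZ
    have hcl : IsClosed (f.base ⁻¹' Y') := hc.preimage f.continuous
    refine Set.Subset.antisymm (closure_minimal ?_ hc) ?_
    · rintro _ ⟨_, ⟨z, -, rfl⟩, rfl⟩
      exact z.2
    obtain ⟨η, hη⟩ := QuasiSober.sober (α := Y) hi hc
    obtain ⟨ζ, hζ⟩ := QuasiSober.sober (α := X) (hZ.1.image _ continuous_subtype_val.continuousOn)
      (hcl.isClosedEmbedding_subtypeVal.isClosedMap _ (isClosed_of_mem_irreducibleComponents Z hZ))
    obtain ⟨⟨z, hz⟩, hzZ, hzζ⟩ := hζ.mem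
    obtain ⟨x', hx', hfx'⟩ := hf (hη.specializes (show f.base ζ ∈ Y' by subst hzζ; exact hz))
    have hxY : x' ∈ f.base ⁻¹' Y' := show f.base x' ∈ Y' from hfx' ▸ hη.mem
    have hle : Z ⊆ closure {(⟨x', hxY⟩ : ↥(f.base ⁻¹' Y'))} := by
      intro w hw
      rw [Topology.IsInducing.subtypeVal.closure_eq_preimage_closure_image, Set.image_singleton]
      exact specializes_iff_mem_closure.mp (hx'.trans (hζ.specializes ⟨w, hw, rfl⟩))
    have hxZ : (⟨x', hxY⟩ : ↥(f.base ⁻¹' Y')) ∈ Z :=
      hZ.2 isIrreducible_singleton.closure hle (subset_closure rfl)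
    refine hη.def.ge.trans ?_
    exact closure_mono (Set.singleton_subset_iff.mpr ⟨x', ⟨_, hxZ, rfl⟩, hfx'⟩)
  · intro h x y' hy
    let Y' : Set Y := closure {y'}
    have hcl : IsClosed (f.base ⁻¹' Y') := isClosed_closure.preimage f.continuous
    let a : ↥(f.base ⁻¹' Y') := ⟨x, specializes_iff_mem_closure.mp hy⟩
    have hZ := irreducibleComponent_mem_irreducibleComponents a
    obtain ⟨ζ, hζ⟩ := QuasiSober.sober (α := X) (hZ.1.image _ continuous_subtype_val.continuousOn)
      (hcl.isClosedEmbedding_subtypeVal.isClosedMap _ isClosed_irreducibleComponent)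
    have h1 := h Y' isClosed_closure isIrreducible_singleton.closure _ hZ
    refine ⟨ζ, hζ.specializes ⟨a, mem_irreducibleComponent, rfl⟩, ?_⟩
    refine IsGenericPoint.eq (S := Y') ?_ (isGenericPoint_def.mpr rfl)
    rw [isGenericPoint_def]
    refine Set.Subset.antisymm ?_ ?_
    · refine closure_minimal (Set.singleton_subset_iff.mpr ?_) isClosed_closure
      obtain ⟨w, -, hw⟩ := hζ.mem
      exact hw ▸ w.2
    · rw [← h1]
      refine closure_minimal ?_ isClosed_closure
      rintro _ ⟨w, hw, rfl⟩
      exact specializes_iff_mem_closure.mp ((hζ.specializes hw).map f.continuous)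

end Groth.Agent.S4587
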