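import Groth.Statements.S4589
import Groth.Agent.SymGr.JacCriterion
import Mathlib

set_option autoImplicit false
universe u
open IsLocalRing
open EGA41

namespace Groth.Agent.S4589

theorem iff_of_eq {k B : Type u} [Field k] [CommRing B] [Algebra k B] {I J : Ideal B} [I.IsPrime] [J.IsPrime] (h : I = J) :
    CAlgX.IsAdicFormallySmooth k (Localization.AtPrime I) (IsLocalRing.maximalIdeal (Localization.AtPrime I)) ↔
      CAlgX.IsAdicFormallySmooth k (Localization.AtPrime J) (IsLocalRing.maximalIdeal (Localization.AtPrime J)) := by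
  subst h; rfl

/-- Under the hypotheses of Nagata's Jacobian criterion — k a field of characteristic exponent p with k
finite over k^p, A a complete Noetherian local ring with residue field finite over a separable
extension K₀ of k, A a K₀-algebra formally smooth for its adic topology, q an ideal of A and B = A/q
— the set of primes n of B with B_n formally smooth over k for the adic topology of its maximal
ideal is open in Spec B. -/
theorem result (p : ℕ) {k K₀ A : Type u} [Field k] [ExpChar k p]
    (hk : p = 1 ∨ Module.Finite (frobenius k p).fieldRange k)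
    [Field K₀] [Algebra k K₀] [Algebra.IsGeometricallyReduced k K₀]
    [CommRing A] [IsLocalRing A] [IsNoetherianRing A] [IsAdicComplete (maximalIdeal A) A]
    [Algebra k A] [Algebra K₀ A] [IsScalarTower k K₀ A] [Module.Finite K₀ (ResidueField A)]
    (hA : CAlgX.IsAdicFormallySmooth K₀ A (maximalIdeal A))
    (q : Ideal A) :
    IsOpen {n : PrimeSpectrum (A ⧸ q) |
      CAlgX.IsAdicFormallySmooth k (Localization.AtPrime n.asIdeal) (maximalIdeal (Localization.AtPrime n.asIdeal))} := by
  classical
  rw [isOpen_iff_mem_nhds]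
  intro n hn
  let P := n.asIdeal.comap (Ideal.Quotient.mk q)
  have hmap : ∀ I : Ideal (A ⧸ q), (I.comap (Ideal.Quotient.mk q)).map (Ideal.Quotient.mk q) = I := fun I =>
    Ideal.map_comap_of_surjective _ Ideal.Quotient.mk_surjective I
  have hle : ∀ I : Ideal (A ⧸ q), q ≤ I.comap (Ideal.Quotient.mk q) := fun I x hx => by
    rw [Ideal.mem_comap, Ideal.Quotient.eq_zero_iff_mem.2 hx]; exact zero_mem _
  haveI : P.IsPrime := Ideal.IsPrime.comap _
  haveI : (P.map (Ideal.Quotient.mk q)).IsPrime := (hmap n.asIdeal).symm ▸ n.isPrime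
  obtain ⟨m, D, f, hf, hgen, hdet⟩ := Groth.Agent.SymGr.exists_det_of_formallySmooth p hk hA q P (hle _)
    ((iff_of_eq (hmap n.asIdeal)).2 hn)
  let J := Ideal.span (Set.range f)
  obtain ⟨G, hG⟩ := IsNoetherian.noetherian q
  have hden : ∀ x ∈ q, ∃ a ∉ P, a * x ∈ J := fun x hx => by
    have h1 : algebraMap A (Localization.AtPrime P) x ∈ J.map (algebraMap A (Localization.AtPrime P)) := by
      rw [Ideal.map_span, ← Set.range_comp]
      exact hgen ▸ Ideal.mem_map_of_mem _ hx
    obtain ⟨a, ha, hax⟩ := (IsLocalization.algebraMap_mem_map_algebraMap_iff P.primeCompl _ _ _).1 h1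
    exact ⟨a, ha, hax⟩
  choose a ha hax using fun x : G => hden x (hG ▸ Submodule.subset_span x.2)
  let g := (∏ x : G, a x) * Matrix.det (Matrix.of fun i j => D i (f j))
  have hg : g ∉ P := fun h => (Ideal.IsPrime.mem_or_mem inferInstance h).elim (fun h => by
    obtain ⟨x, -, hx⟩ := Ideal.IsPrime.prod_mem_iff.1 h
    exact ha x hx) hdet
  refine Filter.mem_of_superset ((PrimeSpectrum.basicOpen (Ideal.Quotient.mk q g)).isOpen.mem_nhds ?_) fun n' hn' => ?_
  · exact hg
  · let P' := n'.asIdeal.comap (Ideal.Quotient.mk q)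
    haveI : P'.IsPrime := Ideal.IsPrime.comap _
    haveI : (P'.map (Ideal.Quotient.mk q)).IsPrime := (hmap n'.asIdeal).symm ▸ n'.isPrime
    have hg' : g ∉ P' := hn'
    refine (iff_of_eq (hmap n'.asIdeal)).1 (Groth.Agent.SymGr.isAdicFormallySmooth_quotient_of_det P' q (hle _)
      (Groth.Agent.SymGr.isAdicFormallySmooth_atPrime_base hA P') D f hf ?_ fun h => hg' (Ideal.mul_mem_left _ _ h))
    refine le_antisymm ?_ (Ideal.span_le.2 (by rintro _ ⟨i, rfl⟩; exact Ideal.mem_map_of_mem _ (hf i)))
    rw [Ideal.map_le_iff_le_comap, ← hG, Submodule.span_le]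
    intro x hx
    have hu : IsUnit (algebraMap A (Localization.AtPrime P') (a ⟨x, hx⟩)) :=
      IsLocalization.map_units _ (⟨a ⟨x, hx⟩, fun h => hg' (Ideal.mul_mem_right _ _
        (Ideal.IsPrime.prod_mem_iff.2 ⟨⟨x, hx⟩, Finset.mem_univ _, h⟩))⟩ : P'.primeCompl)
    rw [SetLike.mem_coe, Ideal.mem_comap, ← Ideal.unit_mul_mem_iff_mem _ hu, ← map_mul]
    have h2 := Ideal.mem_map_of_mem (algebraMap A (Localization.AtPrime P')) (hax ⟨x, hx⟩)
    rwa [Ideal.map_span, ← Set.range_comp] at h2

end Groth.Agent.S4589
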