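import Groth.Statements.S4592
import Mathlib.CategoryTheory.Limits.ConcreteCategory.Basic

set_option autoImplicit false
universe u
open CategoryTheory CategoryTheory.Limits
open EGA41

namespace Groth.Agent.S4592

/-- A filtered colimit of commutative rings is the zero ring if and only if some ring of the system is
zero (the clause that all later rings of the system are then zero is not restated). -/
theorem result {I : Type u} [SmallCategory I] [IsFiltered I]
    (D : I ⥤ CommRingCat.{u}) (c : Cocone D) (hc : IsColimit c) :
    Subsingleton c.pt ↔ ∃ i : I, Subsingleton (D.obj i) := by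
  constructor
  · intro h
    obtain ⟨i, x, hx⟩ := Concrete.isColimit_exists_rep D hc (1 : c.pt)
    have h10 : c.ι.app i (1 : D.obj i) = c.ι.app i (0 : D.obj i) := @Subsingleton.elim _ h _ _
    obtain ⟨j, a, b, hab⟩ := (Concrete.isColimit_rep_eq_iff_exists D hc (1 : D.obj i) (0 : D.obj i)).mp h10
    refine ⟨j, subsingleton_of_zero_eq_one ?_⟩
    simpa using hab.symm
  · rintro ⟨i, h⟩
    refine subsingleton_of_zero_eq_one ?_
    simpa using congrArg (fun x : D.obj i => (c.ι.app i).hom x) (Subsingleton.elim (0 : D.obj i) 1)

end Groth.Agent.S4592
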