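import Groth.Statements.S4593
import Mathlib

set_option autoImplicit false
universe u
open CategoryTheory CategoryTheory.Limits AlgebraicGeometry
open EGA41

namespace Groth.Agent.S4593

theorem map_app {I : Type u} [SmallCategory I] (B : CommRingCat.{u}) (D : I ⥤ CommRingCat.{u})
    (s : (Functor.const I).obj B ⟶ D) {i j : I} (f : i ⟶ j) (b : B) :
    (D.map f).hom ((s.app i).hom b) = (s.app j).hom b := by
  have h := congrArg (fun φ => (CommRingCat.Hom.hom φ) b) (s.naturality f)
  simpa using h.symm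

theorem app_eq {I : Type u} [SmallCategory I] [IsFiltered I] (B : CommRingCat.{u}) (D : I ⥤ CommRingCat.{u})
    (s : (Functor.const I).obj B ⟶ D) (c : Cocone D) (i j : I) (b : B) :
    (s.app i ≫ c.ι.app i).hom b = (c.ι.app j).hom ((s.app j).hom b) := by
  show (c.ι.app i).hom ((s.app i).hom b) = _
  rw [← c.w (IsFiltered.leftToMax i j), ← c.w (IsFiltered.rightToMax i j)]
  show (c.ι.app _).hom ((D.map _).hom _) = (c.ι.app _).hom ((D.map _).hom _)
  rw [map_app, map_app]

theorem exists_stage {I : Type u} [SmallCategory I] [IsFiltered I] (B : CommRingCat.{u}) (D : I ⥤ CommRingCat.{u})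
    (s : (Functor.const I).obj B ⟶ D) (c : Cocone D) (hc : IsColimit c) (i₀ : I) (p : Ideal B) (y : c.pt)
    (hy : y ∈ p.map (s.app i₀ ≫ c.ι.app i₀).hom) :
    ∃ (j : I) (x : D.obj j), x ∈ p.map (s.app j).hom ∧ (c.ι.app j).hom x = y := by
  induction hy using Submodule.span_induction with
  | mem y hy =>
    obtain ⟨b, hb, rfl⟩ := hy
    exact ⟨i₀, (s.app i₀).hom b, Ideal.mem_map_of_mem _ hb, rfl⟩
  | zero => exact ⟨i₀, 0, zero_mem _, map_zero _⟩
  | add a a' _ _ ha ha' =>
    obtain ⟨j, x, hx, hxa⟩ := ha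
    obtain ⟨j', x', hx', hxa'⟩ := ha'
    have hmap : ∀ {i k : I} (f : i ⟶ k) (z : D.obj i), z ∈ p.map (s.app i).hom →
        (D.map f).hom z ∈ p.map (s.app k).hom := fun {i k} f z hz => by
      have h1 := Ideal.mem_map_of_mem (D.map f).hom hz
      rwa [Ideal.map_map, show (D.map f).hom.comp (s.app i).hom = (s.app k).hom from
        RingHom.ext fun y => (map_app B D s f y)] at h1
    refine ⟨IsFiltered.max j j', (D.map (IsFiltered.leftToMax j j')).hom x +
      (D.map (IsFiltered.rightToMax j j')).hom x', add_mem (hmap _ _ hx) (hmap _ _ hx'), ?_⟩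
    have w1 := congrArg (fun φ => (CommRingCat.Hom.hom φ) x) (c.w (IsFiltered.leftToMax j j'))
    have w2 := congrArg (fun φ => (CommRingCat.Hom.hom φ) x') (c.w (IsFiltered.rightToMax j j'))
    rw [map_add, ← hxa, ← hxa', ← w1, ← w2]
    rfl
  | smul r a _ ha =>
    obtain ⟨j, x, hx, hxa⟩ := ha
    obtain ⟨j', r', hr⟩ := CategoryTheory.Limits.Concrete.isColimit_exists_rep D hc r
    have h1 := Ideal.mem_map_of_mem (D.map (IsFiltered.leftToMax j j')).hom hx
    rw [Ideal.map_map, show (D.map (IsFiltered.leftToMax j j')).hom.comp (s.app j).hom =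
      (s.app (IsFiltered.max j j')).hom from RingHom.ext fun y => (map_app B D s _ y)] at h1
    refine ⟨IsFiltered.max j j', (D.map (IsFiltered.rightToMax j j')).hom r' *
      (D.map (IsFiltered.leftToMax j j')).hom x, Ideal.mul_mem_left _ _ h1, ?_⟩
    have w1 := congrArg (fun φ => (CommRingCat.Hom.hom φ) x) (c.w (IsFiltered.leftToMax j j'))
    have w2 := congrArg (fun φ => (CommRingCat.Hom.hom φ) r') (c.w (IsFiltered.rightToMax j j'))
    rw [map_mul, smul_eq_mul, ← hxa, ← hr, ← w1, ← w2]
    rfl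


/-- Let B be a ring, (A_i) a filtered system of B-algebras with colimit A. The image of Spec A in Spec B
is the intersection of the images of the Spec A_i. -/
theorem result {I : Type u} [SmallCategory I] [IsFiltered I]
    (B : CommRingCat.{u}) (D : I ⥤ CommRingCat.{u}) (s : (Functor.const I).obj B ⟶ D) (c : Cocone D)
    (hc : IsColimit c) (i₀ : I) :
    Set.range (Spec.map (s.app i₀ ≫ c.ι.app i₀)).base = ⋂ i : I, Set.range (Spec.map (s.app i)).base := by
  refine Set.Subset.antisymm (Set.subset_iInter fun i => ?_) fun p hp => ?_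
  · rintro _ ⟨q, rfl⟩
    refine ⟨(Spec.map (c.ι.app i)).base q, ?_⟩
    have h : s.app i₀ ≫ c.ι.app i₀ = s.app i ≫ c.ι.app i := by
      let k := IsFiltered.max i₀ i
      rw [← c.w (IsFiltered.leftToMax i₀ i), ← c.w (IsFiltered.rightToMax i₀ i)]
      have h1 := s.naturality (IsFiltered.leftToMax i₀ i)
      have h2 := s.naturality (IsFiltered.rightToMax i₀ i)
      simp only [Functor.const_obj_obj, Functor.const_obj_map, Category.id_comp] at h1 h2
      rw [← Category.assoc, ← Category.assoc, ← h1, ← h2]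
    rw [h, Spec.map_comp]
    rfl
  · rw [Set.mem_iInter] at hp
    refine (PrimeSpectrum.mem_range_comap_iff (f := (s.app i₀ ≫ c.ι.app i₀).hom) (p := p)).2 ?_
    refine le_antisymm (fun b hb => ?_) Ideal.le_comap_map
    rw [Ideal.mem_comap] at hb
    obtain ⟨j, x, hx, hxb⟩ := exists_stage B D s c hc i₀ p.asIdeal _ hb
    have hb' : (c.ι.app j).hom x = (c.ι.app j).hom ((s.app j).hom b) := hxb.trans (app_eq B D s c i₀ j b)
    obtain ⟨k, f, g, hfg⟩ := CategoryTheory.Limits.Concrete.isColimit_exists_of_rep_eq D hc x ((s.app j).hom b) hb'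
    have hmem : (s.app k).hom b ∈ p.asIdeal.map (s.app k).hom := by
      have h1 := Ideal.mem_map_of_mem (D.map f).hom hx
      rw [Ideal.map_map, show (D.map f).hom.comp (s.app j).hom = (s.app k).hom from
        RingHom.ext fun y => (map_app B D s f y)] at h1
      rw [← map_app B D s g b]
      exact hfg ▸ h1
    have hk := (PrimeSpectrum.mem_range_comap_iff (f := (s.app k).hom) (p := p)).1 (hp k)
    rw [← hk]
    exact hmem

end Groth.Agent.S4593
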