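import Groth.Statements.S4594
import Mathlib

set_option autoImplicit false
universe u
open TensorProduct KaehlerDifferential
open EGA41

namespace Groth.Agent.S4594

/-- Let Λ be a ring, A → C a surjection of Λ-algebras with kernel J, C of characteristic p > 0, and π
the class of p·1 in J/J². If C is formally smooth over Λ/pΛ for the discrete topologies, then 0 →
(J/J²)/Cπ → Ω_{A/Λ} ⊗_A C → Ω_{C/Λ} → 0 is exact: the kernel of the conormal map J/J² → Ω_{A/Λ} ⊗_A
C is the span of π, and the base-change map to Ω_{C/Λ} is surjective with kernel the image of J/J². -/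
theorem result {Λ A C : Type u} [CommRing Λ] [CommRing A]
    [CommRing C] [Algebra Λ A] [Algebra A C] [Algebra Λ C] [IsScalarTower Λ A C]
    (hsurj : Function.Surjective (algebraMap A C)) (p : ℕ) [Fact p.Prime] [CharP C p]
    [Algebra (Λ ⧸ Ideal.span {(p : Λ)}) C] [IsScalarTower Λ (Λ ⧸ Ideal.span {(p : Λ)}) C]
    [Algebra.FormallySmooth (Λ ⧸ Ideal.span {(p : Λ)}) C]
    (hp : (p : A) ∈ RingHom.ker (algebraMap A C)) :
    LinearMap.ker (kerCotangentToTensor Λ A C) =
        Submodule.span A {(RingHom.ker (algebraMap A C)).toCotangent ⟨(p : A), hp⟩} ∧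
      LinearMap.range (kerCotangentToTensor Λ A C) = (LinearMap.ker (mapBaseChange Λ A C)).restrictScalars A ∧
      Function.Surjective (mapBaseChange Λ A C) := by
  refine ⟨le_antisymm ?_ ?_, ?_, mapBaseChange_surjective Λ A C hsurj⟩
  · intro y hy
    obtain ⟨⟨x, hx⟩, rfl⟩ := Ideal.toCotangent_surjective _ y
    rw [LinearMap.mem_ker, kerCotangentToTensor_toCotangent] at hy
    set J := RingHom.ker (algebraMap A C) with hJ
    let K : Ideal A := Ideal.span {(p : A)} ⊔ J ^ 2
    have hKJ : K ≤ J := sup_le (Ideal.span_le.mpr (by simpa using hp)) (Ideal.pow_le_self two_ne_zero)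
    let q : (A ⧸ K) →ₐ[Λ] C := Ideal.Quotient.liftₐ K (IsScalarTower.toAlgHom Λ A C) fun a ha => hKJ ha
    have hq : Function.Surjective q := fun c => by
      obtain ⟨a, rfl⟩ := hsurj c
      exact ⟨Ideal.Quotient.mk K a, rfl⟩
    have hp0 : ∀ l ∈ Ideal.span {(p : Λ)}, algebraMap Λ (A ⧸ K) l = 0 := by
      intro l hl
      obtain ⟨r, rfl⟩ := Ideal.mem_span_singleton'.mp hl
      rw [map_mul, map_natCast]
      have : ((p : ℕ) : A ⧸ K) = 0 := by
        rw [← map_natCast (Ideal.Quotient.mk K), Ideal.Quotient.eq_zero_iff_mem]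
        exact Ideal.mem_sup_left (Ideal.mem_span_singleton_self _)
      rw [this, mul_zero]
    letI : Algebra (Λ ⧸ Ideal.span {(p : Λ)}) (A ⧸ K) :=
      RingHom.toAlgebra (Ideal.Quotient.lift _ (algebraMap Λ (A ⧸ K)) hp0)
    haveI : IsScalarTower Λ (Λ ⧸ Ideal.span {(p : Λ)}) (A ⧸ K) :=
      IsScalarTower.of_algebraMap_eq fun l => rfl
    let q' : (A ⧸ K) →ₐ[Λ ⧸ Ideal.span {(p : Λ)}] C :=
      AlgHom.extendScalarsOfSurjective Ideal.Quotient.mk_surjective q
    have hker : RingHom.ker q.toRingHom = J.map (Ideal.Quotient.mk K) := by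
      ext z
      obtain ⟨z, rfl⟩ := Ideal.Quotient.mk_surjective z
      rw [RingHom.mem_ker]
      constructor
      · exact fun h => Ideal.mem_map_of_mem _ h
      · intro h
        obtain ⟨w, hw, hwz⟩ := (Ideal.mem_map_iff_of_surjective _ Ideal.Quotient.mk_surjective).mp h
        rw [← hwz]
        exact hw
    let L : Ideal (A ⧸ K) := RingHom.ker q'.toRingHom
    have hL : L ^ 2 = ⊥ := by
      change (RingHom.ker q.toRingHom) ^ 2 = ⊥
      rw [hker, ← Ideal.map_pow, Ideal.map_eq_bot_iff_le_ker, Ideal.mk_ker]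
      exact le_sup_right
    obtain ⟨g, hg⟩ := Algebra.FormallySmooth.comp_surjective (Λ ⧸ Ideal.span {(p : Λ)}) C L hL
      (Ideal.quotientKerAlgEquivOfSurjective (f := q') hq).symm.toAlgHom
    have hsec : ∀ c, q (g c) = c := fun c => by
      have h1 := congrArg (Ideal.quotientKerAlgEquivOfSurjective (f := q') hq)
        (congrArg (fun f => f c) hg)
      exact h1.trans (AlgEquiv.apply_symm_apply _ c)
    let g' : C →ₐ[Λ] A ⧸ K := g.restrictScalars Λ
    have hLL : ∀ a ∈ L, ∀ b ∈ L, a * b = 0 := fun a ha b hb => by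
      rw [← Ideal.mem_bot, ← hL, sq]; exact Ideal.mul_mem_mul ha hb
    letI : Algebra C (A ⧸ K) := g'.toRingHom.toAlgebra
    letI : Module C L := Module.compHom L g'.toRingHom
    have hmem : ∀ a, Ideal.Quotient.mk K a - g' (algebraMap A C a) ∈ L := fun a => by
      change q (_ - _) = 0
      rw [map_sub]
      exact sub_eq_zero.mpr (hsec _).symm
    have hkey : ∀ (a : A) (z : L), ((algebraMap A C a • z : L) : A ⧸ K) = Ideal.Quotient.mk K a * z :=
      fun a z => by
        have := hLL _ (hmem a) _ z.2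
        change g' (algebraMap A C a) * (z : A ⧸ K) = _
        linear_combination -this
    haveI : IsScalarTower A C L := .of_algebraMap_smul fun a z =>
      Subtype.ext ((hkey a z).trans rfl)
    haveI : IsScalarTower Λ A L := .of_algebraMap_smul fun l z => Subtype.ext (by
      change Ideal.Quotient.mk K (algebraMap Λ A l) * (z : A ⧸ K) = l • (z : A ⧸ K)
      rw [Algebra.smul_def, IsScalarTower.algebraMap_apply Λ A (A ⧸ K)]
      rfl)
    let D₀ : A →ₗ[Λ] L :=
      ((Ideal.Quotient.mkₐ Λ K).toLinearMap -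
        g'.toLinearMap ∘ₗ (IsScalarTower.toAlgHom Λ A C).toLinearMap).codRestrict
        (L.restrictScalars Λ) hmem
    let D : Derivation Λ A L := Derivation.mk' D₀ fun a b => Subtype.ext (by
      change Ideal.Quotient.mk K (a * b) - g' (algebraMap A C (a * b)) =
        Ideal.Quotient.mk K a * (Ideal.Quotient.mk K b - g' (algebraMap A C b)) +
          Ideal.Quotient.mk K b * (Ideal.Quotient.mk K a - g' (algebraMap A C a))
      have := hLL _ (hmem a) _ (hmem b)
      rw [map_mul, map_mul, map_mul]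
      linear_combination -this)
    have h1 := congrArg (D.liftKaehlerDifferential.liftBaseChange C) hy
    rw [map_zero, LinearMap.liftBaseChange_tmul, one_smul, Derivation.liftKaehlerDifferential_comp_D] at h1
    have h2 : Ideal.Quotient.mk K x = 0 := by
      have h3 : Ideal.Quotient.mk K x - g' (algebraMap A C x) = 0 := congrArg Subtype.val h1
      rwa [RingHom.mem_ker.mp hx, map_zero, sub_zero] at h3
    rw [Ideal.Quotient.eq_zero_iff_mem, Submodule.mem_sup] at h2
    obtain ⟨u, hu, w, hw, huw⟩ := h2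
    obtain ⟨r, rfl⟩ := Ideal.mem_span_singleton'.mp hu
    have hwJ : w ∈ J := Ideal.pow_le_self two_ne_zero hw
    have : (⟨x, hx⟩ : J) = r • (⟨(p : A), hp⟩ : J) + ⟨w, hwJ⟩ := Subtype.ext huw.symm
    rw [this, map_add, map_smul, (Ideal.toCotangent_eq_zero J ⟨w, hwJ⟩).mpr hw, add_zero]
    exact Submodule.smul_mem _ _ (Submodule.mem_span_singleton_self _)
  · rw [Submodule.span_le, Set.singleton_subset_iff, SetLike.mem_coe, LinearMap.mem_ker,
      kerCotangentToTensor_toCotangent, Derivation.map_natCast, TensorProduct.tmul_zero]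
  · exact range_kerCotangentToTensor Λ A C hsurj

end Groth.Agent.S4594
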