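import Groth.Statements.S4596

set_option autoImplicit false
universe u
open AlgebraicGeometry CategoryTheory
open EGA41

namespace Groth.Agent.S4596

/-- If g ∘ f is quasi-compact and f is surjective then g is quasi-compact. -/
theorem result {X Y Z : Scheme.{u}} (f : X ⟶ Y) (g : Y ⟶ Z)
    [QuasiCompact (f ≫ g)] [Surjective f] : QuasiCompact g := by
  constructor
  intro U hU hc
  have h1 : IsCompact ((f ≫ g) ⁻¹' U) := QuasiCompact.isCompact_preimage _ hU hc
  have h2 := h1.image f.continuous
  convert h2 using 1
  ext y
  constructor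
  · intro hy
    obtain ⟨x, rfl⟩ := f.surjective y
    exact ⟨x, by simpa using hy, rfl⟩
  · rintro ⟨x, hx, rfl⟩
    simpa using hx

end Groth.Agent.S4596
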