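import Groth.Statements.S4597
import Mathlib

set_option autoImplicit false
universe u
open AlgebraicGeometry CategoryTheory CategoryTheory.Limits
open EGA41

namespace Groth.Agent.S4597

/-- Let f : X → Y, g : Y' → Y and f' : X ×_Y Y' → Y' the base change. If g is quasi-compact surjective
and f' quasi-compact, f is quasi-compact; if g is surjective and f' dominant, f is dominant. -/
theorem result {X Y Y' : Scheme.{u}} (f : X ⟶ Y)
    (g : Y' ⟶ Y) [Surjective g] :
    (QuasiCompact g → QuasiCompact (pullback.snd f g) → QuasiCompact f) ∧
    (IsDominant (pullback.snd f g) → IsDominant f) := by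
  refine ⟨fun hg hs => ⟨fun U hU hU' => ?_⟩, fun hd => ⟨?_⟩⟩
  · have h1 := hs.isCompact_preimage _ (hU.preimage g.continuous) (hg.isCompact_preimage U hU hU')
    · have h2 : (pullback.snd f g).base ⁻¹' (g.base ⁻¹' U) =
          (pullback.fst f g).base ⁻¹' (f.base ⁻¹' U) := by
        ext x
        simp only [Set.mem_preimage, ← Scheme.Hom.comp_apply, pullback.condition]
      rw [h2] at h1
      simpa [Set.image_preimage_eq _ (pullback.fst f g).surjective] using
        h1.image (pullback.fst f g).continuous
  · intro y
    obtain ⟨y', rfl⟩ := g.surjective y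
    have h1 : y' ∈ closure (Set.range (pullback.snd f g).base) := hd.denseRange y'
    refine closure_mono ?_ (image_closure_subset_closure_image g.continuous ⟨y', h1, rfl⟩)
    rintro _ ⟨_, ⟨x, rfl⟩, rfl⟩
    exact ⟨(pullback.fst f g) x, by
      simp only [← Scheme.Hom.comp_apply, pullback.condition]⟩

end Groth.Agent.S4597
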