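import Groth.Statements.S4600
import Mathlib

set_option autoImplicit false
universe u
open CategoryTheory CategoryTheory.Limits TensorProduct
open EGA41

namespace Groth.Agent.S4600

/-- Let (A_i) be a filtered system of rings with colimit A and B a finitely presented A-algebra. Then
some stage A_i carries a finitely presented algebra B_i with B isomorphic to A ⊗_{A_i} B_i as
A-algebras (existence of an isomorphism; the base change is along the colimit map A_i → A). -/
theorem result {I : Type u} [SmallCategory I] [IsFiltered I]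
    (D : I ⥤ CommRingCat.{u}) (c : Cocone D) (hc : IsColimit c) (B : Type u) [CommRing B] [Algebra c.pt B]
    [Algebra.FinitePresentation c.pt B] :
    ∃ (i : I) (Bi : Type u) (_ : CommRing Bi) (_ : Algebra (D.obj i) Bi),
      Algebra.FinitePresentation (D.obj i) Bi ∧
      (letI : Algebra (D.obj i) c.pt := (c.ι.app i).hom.toAlgebra
       Nonempty (B ≃ₐ[c.pt] (c.pt ⊗[D.obj i] Bi))) := by
  let P := Algebra.Presentation.ofFinitePresentation c.pt B
  let A₀ := P.core
  haveI : P.HasCoeffs A₀ := ⟨fun x hx => ⟨⟨x, P.coeffs_subset_core hx⟩, rfl⟩⟩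
  let B₀ := P.ModelOfHasCoeffs A₀
  have hA₀ : Algebra.FiniteType ℤ A₀ := (Algebra.FiniteType.adjoin_of_finite P.finite_coeffs)
  let e : B ≃ₐ[c.pt] c.pt ⊗[A₀] B₀ := (P.tensorModelOfHasCoeffsEquiv A₀).symm
  haveI := hA₀
  haveI : Algebra.FinitePresentation ℤ A₀ := Algebra.FinitePresentation.of_finiteType.1 hA₀
  let Z : CommRingCat.{u} := CommRingCat.of (ULift.{u} ℤ)
  let f : Z ⟶ CommRingCat.of A₀ := CommRingCat.ofHom ((Int.castRingHom A₀).comp ULift.ringEquiv.toRingHom)
  have hf : f.hom.FinitePresentation := by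
    refine RingHom.FinitePresentation.comp ?_ ?_
    · rw [show (Int.castRingHom A₀) = algebraMap ℤ A₀ from Subsingleton.elim _ _]
      exact RingHom.finitePresentation_algebraMap.2 ‹_›
    · exact RingHom.FinitePresentation.of_bijective ULift.ringEquiv.bijective
  let α : (Functor.const _).obj Z ⟶ D :=
    { app := fun j => CommRingCat.ofHom ((Int.castRingHom (D.obj j)).comp ULift.ringEquiv.toRingHom)
      naturality := fun j k φ => by ext n; simp }
  let gA : CommRingCat.of A₀ ⟶ c.pt := CommRingCat.ofHom A₀.val.toRingHom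
  obtain ⟨i, g', -, hg'⟩ := RingHom.EssFiniteType.exists_eq_comp_ι_app_of_isColimit Z D α f c hc hf gA
    (fun j => by ext n; simp [f, α, gA])
  letI : Algebra A₀ (D.obj i) := g'.hom.toAlgebra
  letI : Algebra (D.obj i) c.pt := (c.ι.app i).hom.toAlgebra
  haveI : IsScalarTower A₀ (D.obj i) c.pt := IsScalarTower.of_algebraMap_eq fun x =>
    congrArg (fun φ => φ.hom x) hg'
  refine ⟨i, TensorProduct A₀ (D.obj i) B₀, inferInstance, inferInstance, inferInstance, ⟨?_⟩⟩
  exact e.trans (Algebra.TensorProduct.cancelBaseChange A₀ (D.obj i) c.pt c.pt B₀).symm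

end Groth.Agent.S4600
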