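import Groth.Statements.S4601
import Mathlib


set_option autoImplicit false
universe u
open TensorProduct
open CAlg

namespace Groth.Agent.S4601

/-- Let A be a domain with fraction field K, B a Noetherian A-algebra which is flat over A, K' an
extension field of K, B₁ = B_red and R its total ring of fractions. For every sub-A-algebra A' of
K', the map (A' ⊗_A B)_red → (K' ⊗_A R)_red is injective, i.e. an element of A' ⊗_A B with nilpotent
image in K' ⊗_A R is nilpotent. -/
theorem result {A B K' R : Type u} [CommRing A]
    [IsDomain A] [CommRing B] [Algebra A B] [IsNoetherianRing B] [Module.Flat A B]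
    [Field K'] [Algebra A K'] [Algebra (FractionRing A) K'] [IsScalarTower A (FractionRing A) K']
    [CommRing R] [Algebra (B ⧸ nilradical B) R] [IsFractionRing (B ⧸ nilradical B) R]
    [Algebra B R] [IsScalarTower B (B ⧸ nilradical B) R] [Algebra A R] [IsScalarTower A B R]
    (A' : Subalgebra A K') (x : ↥A' ⊗[A] B)
    (hx : IsNilpotent (Algebra.TensorProduct.map A'.val (IsScalarTower.toAlgHom A B R) x)) :
    IsNilpotent x := by
  haveI : Module.Flat A K' := Module.Flat.trans A (FractionRing A) K'
  let q : B →ₐ[A] B ⧸ nilradical B := Ideal.Quotient.mkₐ A (nilradical B)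
  haveI : IsScalarTower A (B ⧸ nilradical B) R := IsScalarTower.of_algebraMap_eq fun a => by
    rw [IsScalarTower.algebraMap_apply A B R, IsScalarTower.algebraMap_apply B (B ⧸ nilradical B) R]
    rfl
  let j : B ⧸ nilradical B →ₐ[A] R := IsScalarTower.toAlgHom A (B ⧸ nilradical B) R
  let y : K' ⊗[A] B := Algebra.TensorProduct.map A'.val (AlgHom.id A B) x
  suffices hy : IsNilpotent y by
    have hinj : Function.Injective (Algebra.TensorProduct.map A'.val (AlgHom.id A B)) :=
      Module.Flat.rTensor_preserves_injective_linearMap (M := B) A'.val.toLinearMap Subtype.val_injective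
    exact (IsNilpotent.map_iff hinj).1 hy
  have hcomp : Algebra.TensorProduct.map A'.val (IsScalarTower.toAlgHom A B R) x =
      Algebra.TensorProduct.map (AlgHom.id A K') j (Algebra.TensorProduct.map (AlgHom.id A K') q y) := by
    show _ = ((Algebra.TensorProduct.map (AlgHom.id A K') j).comp
      ((Algebra.TensorProduct.map (AlgHom.id A K') q).comp
        (Algebra.TensorProduct.map A'.val (AlgHom.id A B)))) x
    congr 1
    refine Algebra.TensorProduct.ext' fun a b => ?_
    simp [j, q, IsScalarTower.algebraMap_apply B (B ⧸ nilradical B) R]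
  have hj : Function.Injective (Algebra.TensorProduct.map (AlgHom.id A K') j) :=
    Module.Flat.lTensor_preserves_injective_linearMap (M := K') j.toLinearMap
      (IsFractionRing.injective (B ⧸ nilradical B) R)
  rw [hcomp, IsNilpotent.map_iff hj] at hx
  obtain ⟨n, hn⟩ := hx
  rw [← map_pow] at hn
  have hex := lTensor_exact K' (f := ((nilradical B).restrictScalars A).subtype) (g := q.toLinearMap)
    (by
      rw [LinearMap.exact_iff, Submodule.range_subtype]
      ext b
      exact Ideal.Quotient.eq_zero_iff_mem)
    Ideal.Quotient.mk_surjective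
  obtain ⟨w, hw⟩ := (hex (y ^ n)).1 hn
  have hyn : IsNilpotent (y ^ n) := by
    rw [← hw, ← mem_nilradical]
    clear hw
    induction w using TensorProduct.induction_on with
    | zero => simp
    | tmul a b =>
      rw [LinearMap.lTensor_tmul]
      show a ⊗ₜ[A] ((b : B)) ∈ _
      rw [show a ⊗ₜ[A] ((b : B)) = (a ⊗ₜ[A] (1 : B)) * ((1 : K') ⊗ₜ[A] (b : B)) by simp]
      exact Ideal.mul_mem_left _ _ (mem_nilradical.2 ((mem_nilradical.1 b.2).map
        (Algebra.TensorProduct.includeRight : B →ₐ[A] K' ⊗[A] B)))
    | add a b ha hb => rw [map_add]; exact add_mem ha hb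
  obtain ⟨k, hk⟩ := hyn
  exact ⟨n * k, by rw [pow_mul, hk]⟩

end Groth.Agent.S4601
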