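import Groth.Statements.S4602
import Groth.Agent.SymGr.CharZeroFibre

set_option autoImplicit false
universe u
open IsLocalRing
open EGA41

namespace Groth.Agent.S4602

/-- Let A be a regular local ring with fraction field of characteristic zero, B a domain containing A
and module-finite over it, with fraction field L, n a prime of B, C = B_n, q a prime of the
completion Ĉ with q ∩ C = 0. Then Ĉ_q is formally smooth over L for the adic topology of its maximal
ideal. (Case (ii) of the published statement, in characteristic p with a suitable filtered family of
subrings, is not stated.) -/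
theorem result
    {A B : Type u} [CommRing A] [IsRegularLocalRing A] [CharZero A] [CommRing B] [IsDomain B] [Algebra A B]
    [Module.Finite A B] (hinj : Function.Injective (algebraMap A B)) (n : Ideal B) [n.IsPrime]
    (q : Ideal (AdicCompletion (maximalIdeal (Localization.AtPrime n)) (Localization.AtPrime n))) [q.IsPrime]
    (hq : q.comap (algebraMap (Localization.AtPrime n)
      (AdicCompletion (maximalIdeal (Localization.AtPrime n)) (Localization.AtPrime n))) = ⊥)
    [Algebra B (Localization.AtPrime q)]
    [IsScalarTower B (AdicCompletion (maximalIdeal (Localization.AtPrime n)) (Localization.AtPrime n))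
      (Localization.AtPrime q)]
    [Algebra (FractionRing B) (Localization.AtPrime q)] [IsScalarTower B (FractionRing B) (Localization.AtPrime q)] :
    CAlgX.IsAdicFormallySmooth (FractionRing B) (Localization.AtPrime q) (maximalIdeal (Localization.AtPrime q)) := by
  let C := Localization.AtPrime n
  haveI : IsNoetherianRing B := IsNoetherianRing.of_finite A B
  haveI : IsNoetherianRing C := IsLocalization.isNoetherianRing n.primeCompl _ inferInstance
  haveI : IsNoetherianRing (AdicCompletion (maximalIdeal (Localization.AtPrime n)) (Localization.AtPrime n)) :=
    Groth.Agent.AdicNoeth.isNoetherianRing_adicCompletion _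
  have hm := Groth.Agent.FSAdic.ker_evalₐ (maximalIdeal (Localization.AtPrime n)) (IsNoetherian.noetherian _)
  haveI : IsRegularLocalRing (Localization.AtPrime q) := by
    refine Groth.Agent.SymGr.isRegularLocalRing_completion_generic hinj n
      (C := Localization.AtPrime n) AdicCompletion.maximalIdeal_eq_map (fun k d => ?_) (fun k c hc => ?_) q hq
    · obtain ⟨c, hc⟩ := Ideal.Quotient.mk_surjective (AdicCompletion.evalₐ _ k d)
      refine ⟨c, ?_⟩
      rw [AdicCompletion.maximalIdeal_eq_map, ← hm, RingHom.mem_ker, map_sub, sub_eq_zero]
      exact hc.symm.trans (AlgHom.commutes _ c).symm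
    · rw [AdicCompletion.maximalIdeal_eq_map, ← hm, RingHom.mem_ker] at hc
      exact Ideal.Quotient.eq_zero_iff_mem.1 ((AlgHom.commutes _ c).symm.trans hc)
  haveI : CharZero B := charZero_of_injective_ringHom hinj
  haveI : CharZero (FractionRing B) :=
    charZero_of_injective_algebraMap (IsFractionRing.injective B (FractionRing B))
  exact Groth.Agent.SymGr.isAdicFormallySmooth_of_regular_perfect

end Groth.Agent.S4602
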