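import Groth.Statements.S4603
import Mathlib
import Groth.Agent.DomLib.Maximal

set_option autoImplicit false
universe u
open AlgebraicGeometry CategoryTheory
open EGA41

namespace Groth.Agent.S4603

/-- Let f : X → Y be quasi-compact. The following are equivalent: f is dominant; the fibre of f over
every maximal point of Y (a point with no proper generization, i.e. the generic point of an
irreducible component) is nonempty; every maximal point of Y is the image of a maximal point of X. -/
theorem result {X Y : Scheme.{u}} (f : X ⟶ Y) [QuasiCompact f] :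
    [IsDominant f,
     ∀ y : Y, (∀ y' : Y, y' ⤳ y → y' = y) → y ∈ Set.range f.base,
     ∀ y : Y, (∀ y' : Y, y' ⤳ y → y' = y) → ∃ x : X, (∀ x' : X, x' ⤳ x → x' = x) ∧ f.base x = y].TFAE := by
  have hmax : ∀ {S : Scheme.{u}} (y : S), (∀ y' : S, y' ⤳ y → y' = y) →
      closure {y} ∈ irreducibleComponents (↑S : Type u) := fun y hy => by
    obtain ⟨η, hη, h⟩ := Groth.Agent.DomLib.exists_maximal_specializes y
    rwa [hy η h] at hη
  tfae_have 1 → 3 := fun hd y hy => by
    obtain ⟨x, rfl⟩ := Groth.Agent.DomLib.mem_range_of_mem_closure f y (hmax y hy) (hd.denseRange y)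
    obtain ⟨x', hx', h⟩ := Groth.Agent.DomLib.exists_maximal_specializes x
    exact ⟨x', fun x'' h'' => Groth.Agent.DomLib.eq_of_specializes_maximal hx' h'',
      hy _ (h.map f.continuous)⟩
  tfae_have 3 → 2 := fun h y hy => by
    obtain ⟨x, -, rfl⟩ := h y hy
    exact ⟨x, rfl⟩
  tfae_have 2 → 1 := fun h => ⟨fun y => by
    obtain ⟨η, hη, hs⟩ := Groth.Agent.DomLib.exists_maximal_specializes y
    exact hs.mem_closed isClosed_closure (subset_closure (h η fun y' hy' =>
      Groth.Agent.DomLib.eq_of_specializes_maximal hη hy'))⟩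
  tfae_finish

end Groth.Agent.S4603
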