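import Groth.Statements.S4605
import Groth.Agent.SymGr.RootExt

set_option autoImplicit false
universe u
open IsLocalRing
open EGA41

namespace Groth.Agent.S4605

/-- Let A be a local ring with maximal ideal m of square zero and residue field K of characteristic p >
0, F_i(T_i) = T_i^p + p Σ_{k=1}^{p-1} c_{ik} T_i^{p-k} − f_i (i in a finite index set) with c_{ik},
f_i ∈ A, and suppose the residues of the f_i in K are p-independent over K^p. Then A' = A[T_i]/(F_i)
is local with maximal ideal m A'. (The identification of the residue field with K(a_i^{1/p}) is not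
restated.) -/
theorem result {A : Type u} [CommRing A]
    [IsLocalRing A] (hm : maximalIdeal A ^ 2 = ⊥) (p : ℕ) [Fact p.Prime] [CharP (ResidueField A) p]
    {ι : Type u} [Finite ι] (c : ι → Fin p → A) (f : ι → A)
    (hind : LinearIndependent (↥(frobenius (ResidueField A) p).fieldRange)
      (fun e : {e : ι →₀ ℕ // ∀ i, e i < p} => EGA41.pMonomial (fun i => residue A (f i)) e.1)) :
    let F : ι → MvPolynomial ι A := fun i =>
      MvPolynomial.X i ^ p + (p : MvPolynomial ι A) * (Finset.univ.sum fun j : Fin p =>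
        if (j : ℕ) = 0 then 0 else MvPolynomial.C (c i j) * MvPolynomial.X i ^ (p - (j : ℕ))) - MvPolynomial.C (f i)
    ∃ _ : IsLocalRing (MvPolynomial ι A ⧸ Ideal.span (Set.range F)),
      maximalIdeal (MvPolynomial ι A ⧸ Ideal.span (Set.range F)) =
        (maximalIdeal A).map (algebraMap A (MvPolynomial ι A ⧸ Ideal.span (Set.range F))) := by
  intro F
  classical
  have hp : p.Prime := Fact.out
  let K := ResidueField A
  let Λ := ULift.{u} (ZMod p)
  letI : Field Λ := inferInstanceAs (Field (ULift.{u} (ZMod p)))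
  haveI : Finite Λ := inferInstanceAs (Finite (ULift.{u} (ZMod p)))
  haveI : CharP Λ p := (CharP.charP_iff_prime_eq_zero hp).2 (ULift.ext _ _ (by simp))
  haveI : ExpChar Λ p := ExpChar.prime hp
  haveI : PerfectField Λ := PerfectField.ofFinite
  haveI : PerfectRing Λ p := PerfectField.toPerfectRing p
  letI : Algebra Λ K :=
    ((ZMod.castHom dvd_rfl K).comp (ULift.ringEquiv : Λ ≃+* ZMod p).toRingHom).toAlgebra
  let x : ι → K := fun i => residue A (f i)
  have hx : EGA41.IsPIndependent p Λ x := by
    have hmem : ∀ c : EGA41.pPowerSubalgebra p Λ K, (c : K) ∈ (frobenius K p).fieldRange := fun c => by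
      obtain ⟨b, hb⟩ := Groth.Agent.PBasis.exists_pow_eq' p (P := Λ) c.2
      exact ⟨b, hb⟩
    refine linearIndependent_iff'.2 fun s g hg j hj => ?_
    have h1 := linearIndependent_iff'.1 hind s (fun e => ⟨(g e : K), hmem (g e)⟩) hg j hj
    exact Subtype.ext (congrArg Subtype.val h1 :)
  obtain ⟨hfield, -, -⟩ := Groth.Agent.SymGr.exists_root_field (p := p) Λ x hx
  let I : Ideal (MvPolynomial ι K) := Ideal.span (Set.range fun i => MvPolynomial.X i ^ p - MvPolynomial.C (x i))
  let π : MvPolynomial ι A →+* MvPolynomial ι K := MvPolynomial.map (residue A)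
  have hπ : Function.Surjective π := MvPolynomial.map_surjective _ residue_surjective
  have hpK : (p : MvPolynomial ι K) = 0 := by
    rw [← map_natCast (MvPolynomial.C : K →+* MvPolynomial ι K), CharP.cast_eq_zero, map_zero]
  have hF : ∀ i, π (F i) = MvPolynomial.X i ^ p - MvPolynomial.C (x i) := fun i => by
    simp only [F, π, map_sub, map_add, map_mul, map_pow, map_natCast, MvPolynomial.map_X, MvPolynomial.map_C]
    rw [hpK, zero_mul, add_zero]
  have hmap : (Ideal.span (Set.range F)).map π = I := by
    rw [Ideal.map_span, ← Set.range_comp]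
    exact congrArg Ideal.span (congrArg Set.range (funext hF))
  haveI hI : I.IsMaximal := Ideal.Quotient.maximal_of_isField I hfield
  let θ : (MvPolynomial ι A ⧸ Ideal.span (Set.range F)) →+* MvPolynomial ι K ⧸ I :=
    Ideal.Quotient.lift _ ((Ideal.Quotient.mk I).comp π) fun y hy => by
      rw [RingHom.comp_apply, Ideal.Quotient.eq_zero_iff_mem, ← hmap]
      exact Ideal.mem_map_of_mem π hy
  have hθ : Function.Surjective θ := fun z => by
    obtain ⟨w, rfl⟩ := Ideal.Quotient.mk_surjective z
    obtain ⟨y, rfl⟩ := hπ w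
    exact ⟨Ideal.Quotient.mk _ y, rfl⟩
  have hker : RingHom.ker θ =
      (maximalIdeal A).map (algebraMap A (MvPolynomial ι A ⧸ Ideal.span (Set.range F))) := by
    refine le_antisymm (fun z hz => ?_) (Ideal.map_le_iff_le_comap.2 fun a ha => ?_)
    · obtain ⟨y, rfl⟩ := Ideal.Quotient.mk_surjective z
      have h1 : y ∈ ((Ideal.span (Set.range F)).map π).comap π := by
        rw [hmap, Ideal.mem_comap]; exact Ideal.Quotient.eq_zero_iff_mem.1 (show Ideal.Quotient.mk I (π y) = 0 from hz)
      rw [Ideal.comap_map_of_surjective π hπ, ← RingHom.ker_eq_comap_bot] at h1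
      simp only [π, MvPolynomial.ker_map] at h1
      rw [ker_residue] at h1
      have h2 := Ideal.mem_map_of_mem (Ideal.Quotient.mk (Ideal.span (Set.range F))) h1
      rw [Ideal.map_sup, Ideal.map_quotient_self, bot_sup_eq, Ideal.map_map] at h2
      exact h2
    · show Ideal.Quotient.mk I (π (MvPolynomial.C a)) = 0
      simp [π, (residue_eq_zero_iff a).2 ha]
  let q : ι → Polynomial A := fun i => Polynomial.X ^ p + ((p : Polynomial A) * (Finset.univ.sum fun j : Fin p =>
    if (j : ℕ) = 0 then 0 else Polynomial.C (c i j) * Polynomial.X ^ (p - (j : ℕ))) - Polynomial.C (f i))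
  have hq : ∀ i, (q i).Monic := fun i => by
    refine Polynomial.monic_X_pow_add ?_
    refine lt_of_le_of_lt (Polynomial.degree_sub_le _ _) (max_lt ?_ (Polynomial.degree_C_le.trans_lt
      (WithBot.coe_lt_coe.2 hp.pos)))
    rw [← Polynomial.C_eq_natCast, Finset.mul_sum]
    refine lt_of_le_of_lt (Polynomial.degree_sum_le _ _)
      ((Finset.sup_lt_iff (WithBot.bot_lt_coe _)).2 fun j _ => ?_)
    split_ifs with hj
    · rw [mul_zero, Polynomial.degree_zero]; exact WithBot.bot_lt_coe _
    · rw [← mul_assoc, ← map_mul]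
      exact (Polynomial.degree_C_mul_X_pow_le _ _).trans_lt (WithBot.coe_lt_coe.2
        (Nat.sub_lt hp.pos (Nat.pos_of_ne_zero hj)))
  haveI : Algebra.IsIntegral A (MvPolynomial ι A ⧸ Ideal.span (Set.range F)) := ⟨fun b => by
    obtain ⟨y, rfl⟩ := Ideal.Quotient.mk_surjective b
    induction y using MvPolynomial.induction_on with
    | C a => exact isIntegral_algebraMap
    | add u v hu hv => rw [map_add]; exact hu.add hv
    | mul_X u i hu =>
      rw [map_mul]
      refine hu.mul ⟨q i, hq i, ?_⟩
      have h0 : Ideal.Quotient.mk (Ideal.span (Set.range F)) (F i) = 0 :=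
        Ideal.Quotient.eq_zero_iff_mem.2 (Ideal.subset_span (Set.mem_range_self i))
      rw [← h0]
      simp [q, F, Polynomial.eval₂_finset_sum, apply_ite, add_sub_assoc]
      rfl⟩
  haveI hmax : (RingHom.ker θ).IsMaximal := by
    letI := Ideal.Quotient.field I
    exact RingHom.ker_isMaximal_of_surjective θ hθ
  haveI : IsLocalRing (MvPolynomial ι A ⧸ Ideal.span (Set.range F)) := IsLocalRing.of_unique_max_ideal
    ⟨_, hmax, fun n hn => (hmax.eq_of_le hn.ne_top (by
      haveI := hn
      rw [hker]
      exact Ideal.map_le_iff_le_comap.2 (IsLocalRing.eq_maximalIdeal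
        (Ideal.isMaximal_comap_of_isIntegral_of_isMaximal (R := A) n)).ge)).symm⟩
  exact ⟨inferInstance, by rw [← IsLocalRing.eq_maximalIdeal hmax, hker]⟩

end Groth.Agent.S4605
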