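import Groth.Statements.S4606
import Groth.Agent.FSAdic.Quotient
import Groth.Agent.Jacobian.Criterion

set_option autoImplicit false
universe u
open TensorProduct KaehlerDifferential IsLocalRing
open EGA41

namespace Groth.Agent.S4606

open IsLocalRing KaehlerDifferential
open scoped TensorProduct

/-- Let B be a Noetherian A-algebra formally smooth for the discrete topologies, B → C a surjection with
kernel J, p a prime of C and q its contraction to A. Then C_p is formally smooth over A_q (A_q
discrete, C_p with the adic topology of its maximal ideal) if and only if κ(p) ⊗ J/J² → κ(p) ⊗ (C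
⊗_B Ω_{B/A}) is injective. (The equivalent variant with the q-adic topology on A_q is not stated.) -/
theorem result {A B C : Type u} [CommRing A]
    [CommRing B] [CommRing C] [Algebra A B] [Algebra B C] [Algebra A C] [IsScalarTower A B C] [IsNoetherianRing B]
    [Algebra.FormallySmooth A B] (hsurj : Function.Surjective (algebraMap B C)) (p : Ideal C) [p.IsPrime]
    [Algebra (Localization.AtPrime (p.comap (algebraMap A C))) (Localization.AtPrime p)]
    [IsScalarTower A (Localization.AtPrime (p.comap (algebraMap A C))) (Localization.AtPrime p)] :
    CAlgX.IsAdicFormallySmooth (Localization.AtPrime (p.comap (algebraMap A C))) (Localization.AtPrime p)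
        (maximalIdeal (Localization.AtPrime p)) ↔
      Function.Injective ((kerCotangentToTensor A B C).lTensor p.ResidueField) := by
  classical
  set q := p.comap (algebraMap A C) with hq
  let Cp := Localization.AtPrime p
  -- the base may be replaced by `A`
  have hbase : CAlgX.IsAdicFormallySmooth (Localization.AtPrime q) Cp (maximalIdeal Cp) ↔
      CAlgX.IsAdicFormallySmooth A Cp (maximalIdeal Cp) := by
    have hext : ∀ {T : Type u} [CommRing T] (f g : Localization.AtPrime q →+* T),
        f.comp (algebraMap A _) = g.comp (algebraMap A _) → f = g :=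
      fun f g h => IsLocalization.ringHom_ext q.primeCompl h
    constructor
    · intro h T _ _ L hL ψ hψ
      have hu : ∀ s : q.primeCompl, IsUnit (algebraMap A T s) := fun s => by
        have h1 : IsUnit (algebraMap A (T ⧸ L) s) := by
          rw [← ψ.commutes]
          refine IsUnit.map ψ ?_
          rw [IsScalarTower.algebraMap_apply A C Cp]
          exact IsLocalization.map_units Cp (⟨algebraMap A C s, s.2⟩ : p.primeCompl)
        obtain ⟨b, hb⟩ := h1.exists_right_inv
        obtain ⟨b, rfl⟩ := Ideal.Quotient.mk_surjective b
        rw [IsScalarTower.algebraMap_apply A T (T ⧸ L), Ideal.Quotient.algebraMap_eq, ← map_mul,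
          ← map_one (Ideal.Quotient.mk L), Ideal.Quotient.eq] at hb
        refine isUnit_of_mul_isUnit_left (y := b) ?_
        have hn : IsNilpotent (algebraMap A T s * b - 1) := ⟨2, by
          rw [← Ideal.mem_bot, ← hL]; exact Ideal.pow_mem_pow hb 2⟩
        have := hn.isUnit_add_one
        rwa [sub_add_cancel] at this
      let _ : Algebra (Localization.AtPrime q) T := (IsLocalization.lift hu).toAlgebra
      have : IsScalarTower A (Localization.AtPrime q) T :=
        IsScalarTower.of_algebraMap_eq' (IsLocalization.lift_comp hu).symm
      obtain ⟨χ, hχ⟩ := h T L hL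
        { ψ.toRingHom with
          commutes' := fun a => by
            refine RingHom.congr_fun (hext (ψ.toRingHom.comp (algebraMap (Localization.AtPrime q) Cp))
              (algebraMap (Localization.AtPrime q) (T ⧸ L)) ?_) a
            rw [RingHom.comp_assoc, ← IsScalarTower.algebraMap_eq, ← IsScalarTower.algebraMap_eq]
            exact ψ.comp_algebraMap } hψ
      exact ⟨χ.restrictScalars A, AlgHom.ext fun x => congrArg (fun f => f x) hχ⟩
    · intro h T _ _ L hL ψ hψ
      let _ : Algebra A T := ((algebraMap (Localization.AtPrime q) T).comp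
        (algebraMap A (Localization.AtPrime q))).toAlgebra
      have : IsScalarTower A (Localization.AtPrime q) T := IsScalarTower.of_algebraMap_eq' rfl
      obtain ⟨χ, hχ⟩ := h T L hL (ψ.restrictScalars A) hψ
      refine ⟨{ χ.toRingHom with
        commutes' := fun a => by
          refine RingHom.congr_fun (hext (χ.toRingHom.comp (algebraMap (Localization.AtPrime q) Cp))
            (algebraMap (Localization.AtPrime q) T) ?_) a
          rw [RingHom.comp_assoc, ← IsScalarTower.algebraMap_eq]
          exact χ.comp_algebraMap }, AlgHom.ext fun x => congrArg (fun f => f x) hχ⟩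
  refine hbase.trans ⟨fun h => ?_, fun hinj => ?_⟩
  · set q' := p.comap (algebraMap B C) with hq'
    let B' := Localization.AtPrime q'
    let _ : Algebra B' Cp := (Localization.localRingHom q' p (algebraMap B C) hq').toAlgebra
    have hBB' : ∀ b : B, algebraMap B' Cp (algebraMap B B' b) = algebraMap C Cp (algebraMap B C b) :=
      fun b => Localization.localRingHom_to_map _ _ _ hq' b
    have : IsScalarTower A B' Cp := IsScalarTower.of_algebraMap_eq fun a => by
      rw [IsScalarTower.algebraMap_apply A B B', hBB', ← IsScalarTower.algebraMap_apply A B C,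
        ← IsScalarTower.algebraMap_apply A C Cp]
    have : IsNoetherianRing B' := IsLocalization.isNoetherianRing q'.primeCompl B' inferInstance
    have : Algebra.FormallySmooth B B' := Algebra.FormallySmooth.of_isLocalization q'.primeCompl
    have : Algebra.FormallySmooth A B' := Algebra.FormallySmooth.comp A B B'
    have hs' : Function.Surjective (algebraMap B' Cp) := by
      intro z
      obtain ⟨c, s, rfl⟩ := IsLocalization.exists_mk'_eq p.primeCompl z
      obtain ⟨b, hb⟩ := hsurj c
      obtain ⟨t, ht⟩ := hsurj s
      have htq : t ∈ q'.primeCompl := fun htq => s.2 (ht ▸ htq)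
      refine ⟨IsLocalization.mk' B' b ⟨t, htq⟩, ?_⟩
      rw [IsLocalization.eq_mk'_iff_mul_eq, ← hb, ← ht, ← hBB', ← hBB', ← map_mul,
        IsLocalization.mk'_spec]
    have hm : (maximalIdeal B').map (algebraMap B' Cp) = maximalIdeal Cp := by
      have hloc : IsLocalHom (algebraMap B' Cp) := Function.Surjective.isLocalHom _ hs'
      refine le_antisymm (IsLocalRing.map_maximalIdeal_le _) fun y hy => ?_
      obtain ⟨x, rfl⟩ := hs' y
      exact Ideal.mem_map_of_mem _ ((IsLocalRing.mem_maximalIdeal _).mpr fun hx =>
        (IsLocalRing.mem_maximalIdeal _).mp hy (hx.map _))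
    rw [← hm] at h
    obtain ⟨g, hg⟩ := Groth.Agent.FSAdic.exists_retraction_of_isAdicFormallySmooth hs' (maximalIdeal B') h
      (maximalIdeal Cp) ⟨1, by rw [pow_one, hm]⟩
    set φ := kerCotangentToTensor A B' Cp with hφdef
    have h1 : Function.Injective (φ.lTensor (Cp ⧸ maximalIdeal Cp)) :=
      Function.LeftInverse.injective (g := g) fun x => LinearMap.congr_fun hg x
    have : Module.Finite B' (RingHom.ker (algebraMap B' Cp)).Cotangent :=
      Module.Finite.of_surjective _ (Ideal.toCotangent_surjective _)
    let e : (Cp ⧸ maximalIdeal Cp) ≃ₐ[B'] (maximalIdeal Cp).ResidueField :=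
      AlgEquiv.ofBijective (IsScalarTower.toAlgHom B' (Cp ⧸ maximalIdeal Cp) _)
        (Ideal.bijective_algebraMap_quotient_residueField _)
    have h2 : Function.Injective (φ.lTensor (maximalIdeal Cp).ResidueField) := by
      have hcomm : ⇑(φ.lTensor (maximalIdeal Cp).ResidueField) ∘ ⇑(e.toLinearEquiv.rTensor _) =
          ⇑(e.toLinearEquiv.rTensor _) ∘ ⇑(φ.lTensor (Cp ⧸ maximalIdeal Cp)) := by
        funext z
        induction z using TensorProduct.induction_on with
        | zero => simp
        | tmul a y => rfl
        | add a b ha hb =>
          simp only [Function.comp_apply] at ha hb ⊢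
          simp only [map_add, ha, hb]
      rw [← Function.Injective.of_comp_iff' _ (e.toLinearEquiv.rTensor _).bijective, hcomm]
      exact (e.toLinearEquiv.rTensor _).injective.comp h1
    obtain ⟨f, hf, hfs⟩ := ((Groth.Agent.Jacobian.tfae (A := A) hs' (maximalIdeal Cp)).out 1 2).mp h2
    have hfu : IsUnit f := by
      by_contra hfu
      exact hf ((IsLocalRing.mem_maximalIdeal f).mpr hfu)
    let e' := IsLocalization.atUnits Cp (Submonoid.powers f) (S := Localization.Away f)
      (Submonoid.powers_le.mpr hfu)
    have hFS : Algebra.FormallySmooth A Cp := (Algebra.FormallySmooth.iff_of_equiv (e'.restrictScalars A)).mpr hfs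
    have : Module.Finite B (RingHom.ker (algebraMap B C)).Cotangent :=
      Module.Finite.of_surjective _ (Ideal.toCotangent_surjective _)
    exact ((Groth.Agent.Jacobian.tfae (A := A) hsurj p).out 0 1).mp hFS
  · have : Module.Finite B (RingHom.ker (algebraMap B C)).Cotangent :=
      Module.Finite.of_surjective _ (Ideal.toCotangent_surjective _)
    have : Algebra.FormallySmooth A Cp := ((Groth.Agent.Jacobian.tfae (A := A) hsurj p).out 1 0).mp hinj
    intro T _ _ L hL ψ _
    exact Algebra.FormallySmooth.exists_lift L ⟨2, hL⟩ ψ

end Groth.Agent.S4606
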