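import Groth.Statements.S4607
import Mathlib.RingTheory.Spectrum.Prime.RingHom
import Mathlib.RingTheory.Flat.FaithfullyFlat.Basic

set_option autoImplicit false
universe u
open TensorProduct
open EGA41

namespace Groth.Agent.S4607

/-- First assertion, case of two factors: for A-algebras A' and A'' the image of Spec(A' ⊗_A A'') in
Spec A is the intersection of the images of Spec A' and Spec A''. -/
theorem result {A A' A'' : Type u} [CommRing A] [CommRing A'] [CommRing A'']
    [Algebra A A'] [Algebra A A''] :
    Set.range (PrimeSpectrum.comap (algebraMap A (A' ⊗[A] A''))) =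
      Set.range (PrimeSpectrum.comap (algebraMap A A')) ∩ Set.range (PrimeSpectrum.comap (algebraMap A A'')) := by
  refine le_antisymm ?_ ?_
  · rintro _ ⟨P, rfl⟩
    constructor
    · refine ⟨PrimeSpectrum.comap (Algebra.TensorProduct.includeLeftRingHom) P, ?_⟩
      rw [← PrimeSpectrum.comap_comp_apply]; rfl
    · refine ⟨PrimeSpectrum.comap (Algebra.TensorProduct.includeRight (R := A) (A := A') (B := A'')).toRingHom P, ?_⟩
      rw [← PrimeSpectrum.comap_comp_apply, ]
      exact congrArg (fun f => PrimeSpectrum.comap f P) (Algebra.TensorProduct.includeRight (R := A) (A := A') (B := A'')).comp_algebraMap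
  · rintro p ⟨h1, h2⟩
    rw [← p.nontrivial_iff_mem_rangeComap] at h1 h2 ⊢
    let K := p.asIdeal.ResidueField
    let e : (K ⊗[A] A') ⊗[K] (K ⊗[A] A'') ≃ₗ[K] K ⊗[A] (A' ⊗[A] A'') :=
      (TensorProduct.AlgebraTensorModule.cancelBaseChange A K K (K ⊗[A] A') A'') ≪≫ₗ
        TensorProduct.AlgebraTensorModule.assoc A A K K A' A''
    haveI := Module.Free.of_divisionRing K (K ⊗[A] A'')
    have : Nontrivial ((K ⊗[A] A') ⊗[K] (K ⊗[A] A'')) :=
      (Module.FaithfullyFlat.nontrivial_tensorProduct_iff_left (R := K) (M := K ⊗[A] A') (N := K ⊗[A] A'')).mpr h1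
    exact e.symm.toEquiv.nontrivial

end Groth.Agent.S4607
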