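import Groth.Statements.S4608
import Mathlib.AlgebraicGeometry.Morphisms.ClosedImmersion

set_option autoImplicit false
universe u
open AlgebraicGeometry CategoryTheory CategoryTheory.Limits
open EGA41

namespace Groth.Agent.S4608

lemma isClosedImmersion_inl (X Y : Scheme.{u}) : IsClosedImmersion (coprod.inl : X ⟶ X ⨿ Y) := by
  refine IsClosedImmersion.of_isPreimmersion _ ?_
  rw [← (isCompl_range_inl_inr X Y).symm.compl_eq]
  exact (coprod.inr : Y ⟶ X ⨿ Y).isOpenEmbedding.isOpen_range.isClosed_compl

lemma isClosedImmersion_inr (X Y : Scheme.{u}) : IsClosedImmersion (coprod.inr : Y ⟶ X ⨿ Y) := by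
  refine IsClosedImmersion.of_isPreimmersion _ ?_
  rw [← (isCompl_range_inl_inr X Y).compl_eq]
  exact (coprod.inl : X ⟶ X ⨿ Y).isOpenEmbedding.isOpen_range.isClosed_compl

attribute [local instance] isClosedImmersion_inl isClosedImmersion_inr

/-- A morphism from a disjoint union X' ⨿ X'' → Y is quasi-compact if and only if its two components
are. -/
theorem result {X' X'' Y : Scheme.{u}} (f' : X' ⟶ Y) (f'' : X'' ⟶ Y) :
    QuasiCompact (coprod.desc f' f'') ↔ QuasiCompact f' ∧ QuasiCompact f'' := by
  constructor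
  · intro h
    constructor
    · rw [← coprod.inl_desc (f := f') (g := f'')]; infer_instance
    · rw [← coprod.inr_desc (f := f') (g := f'')]; infer_instance
  · rintro ⟨h', h''⟩
    constructor
    intro U hU hc
    have e : (coprod.desc f' f'') ⁻¹' U = (coprod.inl : X' ⟶ X' ⨿ X'') '' (f' ⁻¹' U) ∪ (coprod.inr : X'' ⟶ X' ⨿ X'') '' (f'' ⁻¹' U) := by
      ext x
      obtain ⟨z, rfl⟩ := (coprodMk X' X'').surjective x
      have hl : ∀ a, coprod.desc f' f'' ((coprod.inl : X' ⟶ X' ⨿ X'') a) = f' a := by
        intro a; rw [← Scheme.Hom.comp_apply, coprod.inl_desc]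
      have hr : ∀ a, coprod.desc f' f'' ((coprod.inr : X'' ⟶ X' ⨿ X'') a) = f'' a := by
        intro a; rw [← Scheme.Hom.comp_apply, coprod.inr_desc]
      have hil : Function.Injective (coprod.inl : X' ⟶ X' ⨿ X'') := (coprod.inl : X' ⟶ X' ⨿ X'').isOpenEmbedding.injective
      have hir : Function.Injective (coprod.inr : X'' ⟶ X' ⨿ X'') := (coprod.inr : X'' ⟶ X' ⨿ X'').isOpenEmbedding.injective
      cases z with
      | inl a =>
        rw [coprodMk_inl]
        constructor
        · intro h; left; exact ⟨a, by simpa [hl] using h, rfl⟩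
        · rintro (⟨b, hb, hb'⟩ | ⟨b, hb, hb'⟩)
          · obtain rfl := hil hb'; simpa [hl] using hb
          · exact absurd hb' (inr_ne_inl _ _ _ _)
      | inr a =>
        rw [coprodMk_inr]
        constructor
        · intro h; right; exact ⟨a, by simpa [hr] using h, rfl⟩
        · rintro (⟨b, hb, hb'⟩ | ⟨b, hb, hb'⟩)
          · exact absurd hb' (inl_ne_inr _ _ _ _)
          · obtain rfl := hir hb'; simpa [hr] using hb
    rw [e]
    exact ((QuasiCompact.isCompact_preimage _ hU hc).image (Scheme.Hom.continuous _)).union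
      ((QuasiCompact.isCompact_preimage _ hU hc).image (Scheme.Hom.continuous _))

end Groth.Agent.S4608
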