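import Groth.Statements.S4609
import Mathlib.AlgebraicGeometry.Morphisms.ClosedImmersion

set_option autoImplicit false
universe u
open AlgebraicGeometry CategoryTheory CategoryTheory.Limits
open EGA41

namespace Groth.Agent.S4609

lemma isClosedImmersion_inl (X Y : Scheme.{u}) : IsClosedImmersion (coprod.inl : X ⟶ X ⨿ Y) := by
  refine IsClosedImmersion.of_isPreimmersion _ ?_
  rw [← (isCompl_range_inl_inr X Y).symm.compl_eq]
  exact (coprod.inr : Y ⟶ X ⨿ Y).isOpenEmbedding.isOpen_range.isClosed_compl

lemma isClosedImmersion_inr (X Y : Scheme.{u}) : IsClosedImmersion (coprod.inr : Y ⟶ X ⨿ Y) := by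
  refine IsClosedImmersion.of_isPreimmersion _ ?_
  rw [← (isCompl_range_inl_inr X Y).compl_eq]
  exact (coprod.inl : X ⟶ X ⨿ Y).isOpenEmbedding.isOpen_range.isClosed_compl

attribute [local instance] isClosedImmersion_inl isClosedImmersion_inr

/-- A morphism from a disjoint union X' ⨿ X'' → Y is quasi-separated if and only if its two components
are. -/
theorem result {X' X'' Y : Scheme.{u}} (f' : X' ⟶ Y) (f'' : X'' ⟶ Y) :
    QuasiSeparated (coprod.desc f' f'') ↔ QuasiSeparated f' ∧ QuasiSeparated f'' := by
  constructor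
  · intro h
    constructor
    · rw [← coprod.inl_desc (f := f') (g := f'')]; infer_instance
    · rw [← coprod.inr_desc (f := f') (g := f'')]; infer_instance
  · rintro ⟨h', h''⟩
    rw [HasAffineProperty.iff_of_iSup_eq_top (P := @QuasiSeparated) _ (iSup_affineOpens_eq_top Y)]
    intro W
    change QuasiSeparatedSpace ↥(coprod.desc f' f'' ⁻¹ᵁ W.1)
    refine (isQuasiSeparated_iff_quasiSeparatedSpace _ (coprod.desc f' f'' ⁻¹ᵁ W.1).isOpen).mp ?_
    intro U V hU hUo hUc hV hVo hVc
    let il : X' ⟶ X' ⨿ X'' := coprod.inl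
    let ir : X'' ⟶ X' ⨿ X'' := coprod.inr
    have e : U ∩ V = il '' (il ⁻¹' U ∩ il ⁻¹' V) ∪ ir '' (ir ⁻¹' U ∩ ir ⁻¹' V) := by
      rw [← Set.preimage_inter, ← Set.preimage_inter, Set.image_preimage_eq_inter_range,
        Set.image_preimage_eq_inter_range, ← Set.inter_union_distrib_left]
      have := (isCompl_range_inl_inr X' X'').sup_eq_top
      rw [show Set.range il ∪ Set.range ir = Set.univ from this, Set.inter_univ]
    rw [e]
    have hW := W.2.isQuasiSeparated
    refine IsCompact.union (IsCompact.image ?_ il.continuous) (IsCompact.image ?_ ir.continuous)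
    · have key : ∀ a, a ∈ il ⁻¹' ↑(coprod.desc f' f'' ⁻¹ᵁ W.1) → f' a ∈ W.1 := by
        intro a ha
        rw [← coprod.inl_desc (f := f') (g := f''), Scheme.Hom.comp_apply]
        exact ha
      exact (Scheme.Hom.isQuasiSeparated_preimage f' hW) _ _
        (fun a ha => key a (hU ha)) (hUo.preimage il.continuous)
        (il.isClosedEmbedding.isCompact_preimage hUc)
        (fun a ha => key a (hV ha)) (hVo.preimage il.continuous)
        (il.isClosedEmbedding.isCompact_preimage hVc)
    · have key : ∀ a, a ∈ ir ⁻¹' ↑(coprod.desc f' f'' ⁻¹ᵁ W.1) → f'' a ∈ W.1 := by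
        intro a ha
        rw [← coprod.inr_desc (f := f') (g := f''), Scheme.Hom.comp_apply]
        exact ha
      exact (Scheme.Hom.isQuasiSeparated_preimage f'' hW) _ _
        (fun a ha => key a (hU ha)) (hUo.preimage ir.continuous)
        (ir.isClosedEmbedding.isCompact_preimage hUc)
        (fun a ha => key a (hV ha)) (hVo.preimage ir.continuous)
        (ir.isClosedEmbedding.isCompact_preimage hVc)

end Groth.Agent.S4609
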