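import Groth.Statements.S4611
import Mathlib

set_option autoImplicit false
universe u
open EGA41

namespace Groth.Agent.S4611

/-- A local algebra essentially of finite type over a ring A is A-isomorphic to a quotient of a
localization A[T_1, …, T_n]_q of a polynomial algebra at a prime ideal q; stated as the existence of
a surjective A-algebra map from such a localization. -/
theorem result {A B : Type u} [CommRing A]
    [CommRing B] [IsLocalRing B] [Algebra A B] [Algebra.EssFiniteType A B] :
    ∃ (n : ℕ) (q : Ideal (MvPolynomial (Fin n) A)) (_ : q.IsPrime)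
      (φ : Localization.AtPrime q →ₐ[A] B), Function.Surjective φ := by
  obtain ⟨n, π, hπ⟩ := Algebra.FiniteType.iff_quotient_mvPolynomial''.1
    (inferInstance : Algebra.FiniteType A (Algebra.EssFiniteType.subalgebra A B))
  let g : MvPolynomial (Fin n) A →ₐ[A] B := (Algebra.EssFiniteType.subalgebra A B).val.comp π
  let q : Ideal (MvPolynomial (Fin n) A) := (IsLocalRing.maximalIdeal B).comap g.toRingHom
  haveI : q.IsPrime := Ideal.IsPrime.comap _
  have hu : ∀ y : q.primeCompl, IsUnit (g y) := fun y => not_not.1 (fun h => y.2 h)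
  refine ⟨n, q, inferInstance, IsLocalization.liftAlgHom (f := g) hu, fun b => ?_⟩
  obtain ⟨⟨x, t⟩, h⟩ := IsLocalization.surj (Algebra.EssFiniteType.submonoid A B) b
  obtain ⟨x', rfl⟩ := hπ x
  obtain ⟨t', ht'⟩ := hπ t
  have htu : IsUnit (g t') := by
    show IsUnit ((π t' : Algebra.EssFiniteType.subalgebra A B) : B)
    rw [ht']
    exact t.2
  have htq : t' ∈ q.primeCompl := fun hq => (IsLocalRing.mem_maximalIdeal _).1 hq htu
  refine ⟨IsLocalization.mk' _ x' (⟨t', htq⟩ : q.primeCompl), ?_⟩
  rw [IsLocalization.liftAlgHom_apply, IsLocalization.lift_mk'_spec]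
  show ((π x' : Algebra.EssFiniteType.subalgebra A B) : B) = ((π t' : Algebra.EssFiniteType.subalgebra A B) : B) * b
  rw [ht', mul_comm]
  exact h.symm

end Groth.Agent.S4611
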