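import Groth.Statements.S4612
import Groth.Agent.SymGr.NagataJac

set_option autoImplicit false
universe u
open IsLocalRing
open EGA41

namespace Groth.Agent.S4612

/-- Nagata's Jacobian criterion for quotients of power series rings: let k be a field, A = k[[T_1, …,
T_r]], q ⊆ p ideals of A with p prime, B = A/q. Suppose A/p contains a sub-k-algebra isomorphic to a
power series algebra k[[X_1, …, X_s]] over which A/p is finite and such that the fraction field L of
A/p is a separable extension of the fraction field L' of k[[X_1, …, X_s]]; here this is given as an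
injective k-algebra map k[[X_1, …, X_s]] → A/p making A/p a finite module, with fraction fields L',
L and a compatible L'-algebra structure on L. Then the following are equivalent: B_p is formally
smooth over k for the adic topology of its maximal ideal; there are k-derivations D_1, …, D_m of A
into itself and f_1, …, f_m ∈ q generating qA_p with det(D_i f_j) ∉ p; B_p is a regular local ring.
(The published statement remarks that the hypothesis on A/p always holds when k has characteristic
zero.) -/
theorem result {k : Type u} [Field k] (r : ℕ)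
    (q p : Ideal (MvPowerSeries (Fin r) k)) [p.IsPrime] (hqp : q ≤ p) [(p.map (Ideal.Quotient.mk q)).IsPrime]
    (s : ℕ) [Algebra (MvPowerSeries (Fin s) k) (MvPowerSeries (Fin r) k ⧸ p)]
    [IsScalarTower k (MvPowerSeries (Fin s) k) (MvPowerSeries (Fin r) k ⧸ p)]
    [Module.Finite (MvPowerSeries (Fin s) k) (MvPowerSeries (Fin r) k ⧸ p)]
    (hinj : Function.Injective (algebraMap (MvPowerSeries (Fin s) k) (MvPowerSeries (Fin r) k ⧸ p)))
    {L' L : Type u} [Field L'] [Field L]
    [Algebra (MvPowerSeries (Fin s) k) L'] [IsFractionRing (MvPowerSeries (Fin s) k) L']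
    [Algebra (MvPowerSeries (Fin r) k ⧸ p) L] [IsFractionRing (MvPowerSeries (Fin r) k ⧸ p) L]
    [Algebra L' L] [Algebra (MvPowerSeries (Fin s) k) L]
    [IsScalarTower (MvPowerSeries (Fin s) k) (MvPowerSeries (Fin r) k ⧸ p) L]
    [IsScalarTower (MvPowerSeries (Fin s) k) L' L] [Algebra.IsSeparable L' L] :
    [CAlgX.IsAdicFormallySmooth k (Localization.AtPrime (p.map (Ideal.Quotient.mk q)))
        (maximalIdeal (Localization.AtPrime (p.map (Ideal.Quotient.mk q)))),
     ∃ (m : ℕ) (D : Fin m → Derivation k (MvPowerSeries (Fin r) k) (MvPowerSeries (Fin r) k))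
        (f : Fin m → MvPowerSeries (Fin r) k), (∀ i, f i ∈ q) ∧
        q.map (algebraMap (MvPowerSeries (Fin r) k) (Localization.AtPrime p)) =
          Ideal.span (Set.range fun i => algebraMap (MvPowerSeries (Fin r) k) (Localization.AtPrime p) (f i)) ∧
        Matrix.det (Matrix.of fun i j => D i (f j)) ∉ p,
     IsRegularLocalRing (Localization.AtPrime (p.map (Ideal.Quotient.mk q)))].TFAE := by
  classical
  let A := MvPowerSeries (Fin r) k
  haveI : IsRegularRing (MvPowerSeries (Fin r) k) := Groth.Agent.RegLocus.isRegularRing_of_regular_local _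
  haveI : IsRegularLocalRing (Localization.AtPrime p) := (isRegularRing_iff.1 ‹IsRegularRing (MvPowerSeries (Fin r) k)›) p
  obtain ⟨e⟩ := Groth.Agent.SymGr.nonempty_localization_quotient_equiv q p hqp
  have hle : q.map (algebraMap (MvPowerSeries (Fin r) k) (Localization.AtPrime p)) ≤ maximalIdeal (Localization.AtPrime p) := by
    rw [← IsLocalization.AtPrime.map_eq_maximalIdeal p (Localization.AtPrime p)]
    exact Ideal.map_mono hqp
  haveI : FaithfulSMul (MvPowerSeries (Fin s) k) (MvPowerSeries (Fin r) k ⧸ p) :=
    (faithfulSMul_iff_algebraMap_injective _ _).2 hinj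
  have hs : ringKrullDim (MvPowerSeries (Fin r) k ⧸ p) = s := by
    rw [Groth.Agent.DimTheory.ringKrullDim_eq_of_integral (MvPowerSeries (Fin s) k) (MvPowerSeries (Fin r) k ⧸ p),
      Groth.Agent.MvPSLib.ringKrullDim_eq]
  have hr := Groth.Agent.SymGr.le_finrank_span_grad (L' := L') (L := L) (s := s) p
  letI : Algebra k L' := ((algebraMap (MvPowerSeries (Fin s) k) L').comp (algebraMap k (MvPowerSeries (Fin s) k))).toAlgebra
  haveI : IsScalarTower k (MvPowerSeries (Fin s) k) L' := IsScalarTower.of_algebraMap_eq' rfl
  letI : Algebra k L := ((algebraMap (MvPowerSeries (Fin r) k ⧸ p) L).comp (algebraMap k (MvPowerSeries (Fin r) k ⧸ p))).toAlgebra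
  haveI : IsScalarTower k (MvPowerSeries (Fin r) k ⧸ p) L := by
    refine ⟨fun c x y => ?_⟩
    obtain ⟨a, rfl⟩ := Ideal.Quotient.mk_surjective x
    rw [show c • Ideal.Quotient.mk p a = Ideal.Quotient.mk p (c • a) from rfl, Algebra.smul_def c a]
    simp only [Algebra.smul_def, map_mul, mul_assoc]
    rfl
  haveI : IsScalarTower k L' L := IsScalarTower.of_algebraMap_eq fun c => by
    show algebraMap (MvPowerSeries (Fin r) k ⧸ p) L (algebraMap k (MvPowerSeries (Fin r) k ⧸ p) c) =
      algebraMap L' L (algebraMap (MvPowerSeries (Fin s) k) L' (algebraMap k (MvPowerSeries (Fin s) k) c))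
    rw [← IsScalarTower.algebraMap_apply (MvPowerSeries (Fin s) k) L' L,
      IsScalarTower.algebraMap_apply k (MvPowerSeries (Fin s) k) (MvPowerSeries (Fin r) k ⧸ p),
      ← IsScalarTower.algebraMap_apply (MvPowerSeries (Fin s) k) (MvPowerSeries (Fin r) k ⧸ p) L]
  haveI : Algebra.FormallySmooth k L' := Groth.Agent.SymGr.formallySmooth_fractionRing_mvPowerSeries k s L'
  haveI : Algebra.FormallyEtale L' L := Algebra.FormallyEtale.of_isSeparable L' L
  haveI : Algebra.FormallySmooth k L := Algebra.FormallySmooth.comp k L' L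
  obtain ⟨ε⟩ := Groth.Agent.SymGr.nonempty_residueField_algEquiv (L := L) p q hqp
  haveI : Algebra.FormallySmooth k (ResidueField (Localization.AtPrime (p.map (Ideal.Quotient.mk q)))) :=
    Algebra.FormallySmooth.of_equiv ε
  tfae_have 1 → 3 := fun h => (Groth.Agent.SymGr.isAdicFormallySmooth_field_iff_regular.1 h).1
  tfae_have 3 → 1 := fun h => by
    haveI := h
    exact Groth.Agent.SymGr.isAdicFormallySmooth_of_regular_residue
  tfae_have 2 → 3 := fun ⟨m, D, f, hf, hq, hdet⟩ => by
    haveI h := Groth.Agent.SymGr.isRegularLocalRing_quotient_of_det p D f (fun i => hqp (hf i)) hdet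
    exact IsRegularLocalRing.of_ringEquiv (R := Localization.AtPrime p ⧸
      Ideal.span (Set.range fun i => algebraMap (MvPowerSeries (Fin r) k) (Localization.AtPrime p) (f i)))
      ((Ideal.quotEquivOfEq hq.symm).trans e)
  tfae_have 3 → 2 := fun h => by
    haveI := h
    obtain ⟨m, f, hf, hgen, hind⟩ := Groth.Agent.SymGr.exists_generators_of_regular_quotient q hle
      (IsRegularLocalRing.of_ringEquiv (R := Localization.AtPrime (p.map (Ideal.Quotient.mk q))) e.symm)
    have hli := Groth.Agent.SymGr.linearIndependent_grad (L := L) p hs hr f (fun i => hqp (hf i)) fun a ha i => by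
      rw [← IsLocalization.AtPrime.to_map_mem_maximal_iff (Localization.AtPrime p) p]
      exact hind (fun i => algebraMap _ _ (a i)) (by simpa [map_sum] using ha) i
    obtain ⟨D, hD⟩ := Groth.Agent.SymGr.exists_det_notMem_of_linearIndependent p f hli
    exact ⟨m, D, f, hf, hgen, hD⟩
  tfae_finish

end Groth.Agent.S4612
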