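import Groth.Statements.S4613
import Mathlib

set_option autoImplicit false
universe u
open AlgebraicGeometry CategoryTheory
open EGA41

namespace Groth.Agent.S4613

/-- For a closed immersion j : X → Y: j is locally of finite presentation if and only if its ideal sheaf
is of finite type, i.e. for every affine open U of Y the kernel of Γ(U, O_Y) → Γ(j⁻¹U, O_X) is
finitely generated. (An immersion with image closed in an open U reduces to this case.) -/
theorem result {X Y : Scheme.{u}} (j : X ⟶ Y)
    [IsClosedImmersion j] :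
    LocallyOfFinitePresentation j ↔ ∀ U : Y.affineOpens, (RingHom.ker (j.app U).hom).FG := by
  refine ⟨fun h U => ?_, fun h => ?_⟩
  · have hp := HasRingHomProperty.appLE @LocallyOfFinitePresentation j h U ⟨_, U.2.preimage j⟩ le_rfl
    rw [← Scheme.Hom.app_eq_appLE] at hp
    letI := (j.app U.1).hom.toAlgebra
    haveI : Algebra.FinitePresentation Γ(Y, U.1) Γ(X, j ⁻¹ᵁ U.1) := hp
    exact Algebra.FinitePresentation.ker_fG_of_surjective (Algebra.ofId Γ(Y, U.1) Γ(X, j ⁻¹ᵁ U.1)) (j.app_surjective U.1 U.2)
  · rw [IsZariskiLocalAtTarget.iff_of_iSup_eq_top (P := @LocallyOfFinitePresentation)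
      (fun U : Y.affineOpens => U.1) (iSup_affineOpens_eq_top Y)]
    intro U
    haveI : IsAffine (U.1 : Scheme) := U.2
    haveI : IsAffine (↑(j ⁻¹ᵁ U.1) : Scheme) := U.2.preimage j
    rw [HasRingHomProperty.iff_of_isAffine (P := @LocallyOfFinitePresentation), morphismRestrict_appTop]
    refine (RingHom.finitePresentation_respectsIso.cancel_right_isIso _ _).mpr ?_
    have hU : IsAffineOpen (U.1.ι ''ᵁ ⊤) := by rw [Scheme.Opens.ι_image_top]; exact U.2
    exact RingHom.FinitePresentation.of_surjective _ (j.app_surjective _ hU) (h ⟨_, hU⟩)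

end Groth.Agent.S4613
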