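import Groth.Statements.S4617
import Groth.Agent.GeomConnExt.Components


set_option autoImplicit false
set_option backward.isDefEq.respectTransparency false
set_option backward.isDefEq.respectTransparency.types false
open CategoryTheory AlgebraicGeometry
universe u
open FBase

namespace Groth.Agent.S4617

/-- Let X be a scheme over a field k, K any extension field of k and Ω an algebraically closed extension
field of k. Then the set of irreducible components of X ⊗_k K has cardinality at most that of the
set of irreducible components of X ⊗_k Ω. In particular the cardinality of the set of irreducible
components of X ⊗_k Ω does not depend on the algebraically closed extension Ω. -/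
theorem result {k K Ω : Type u} [Field k] [Field K] [Algebra k K]
    [Field Ω] [Algebra k Ω] [IsAlgClosed Ω] {X : Scheme.{u}} (f : X ⟶ Spec (CommRingCat.of k)) :
    Cardinal.mk ↥(irreducibleComponents ↥(FBase.bc f K)) ≤ Cardinal.mk ↥(irreducibleComponents ↥(FBase.bc f Ω)) := by
  obtain ⟨L, _, _, i, j, _⟩ := GeomConnExt.exists_common_extension (k := k) K Ω
  calc Cardinal.mk (irreducibleComponents ↥(FBase.bc f K))
      ≤ Cardinal.mk (irreducibleComponents ↥(FBase.bc f L)) := by
        letI := i.toRingHom.toAlgebra
        haveI : IsScalarTower k K L := .of_algebraMap_eq fun c => (i.commutes c).symm
        exact GeomConnExt.mk_irreducibleComponents_le (GeomConnExt.towerMap K L f).continuous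
          (GeomConnExt.surjective_towerMap K L f)
    _ = _ := by
        letI := j.toRingHom.toAlgebra
        haveI : IsScalarTower k Ω L := .of_algebraMap_eq fun c => (j.commutes c).symm
        exact Cardinal.mk_congr (GeomConnExt.nonempty_equiv_irreducibleComponents Ω L f).some

end Groth.Agent.S4617
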