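import Groth.Statements.S4621
import Groth.Agent.GeomConnExt.Scheme


set_option autoImplicit false
set_option backward.isDefEq.respectTransparency false
set_option backward.isDefEq.respectTransparency.types false
open CategoryTheory AlgebraicGeometry
universe u
open FBase

namespace Groth.Agent.S4621

/-- Let h : Y → X be a morphism of schemes over a field k, with Y nonempty and geometrically connected
over k. Then the connected component of X containing the (connected) image h(Y) is geometrically
connected: for every extension field K of k, the inverse image in X ⊗_k K of the connected component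
of h(y), for a point y of Y, is connected. -/
theorem result {k K : Type u} [Field k] [Field K] [Algebra k K]
    {X Y : Scheme.{u}} (f : X ⟶ Spec (CommRingCat.of k)) (g : Y ⟶ Spec (CommRingCat.of k)) (h : Y ⟶ X) (w : h ≫ f = g)
    [GeometricallyConnected g] (y : Y) :
    _root_.IsConnected (⇑(FBase.bcπ f K) ⁻¹' connectedComponent (h y)) := by
  subst w
  let a := Spec.map (CommRingCat.ofHom (algebraMap k K))
  haveI : ConnectedSpace Y := GeometricallyConnected.connectedSpace_of_subsingleton (f := h ≫ f)
  have hYC : Set.range h ⊆ connectedComponent (h y) :=
    (_root_.isPreconnected_range h.continuous).subset_connectedComponent ⟨y, rfl⟩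
  let I := Scheme.IdealSheafData.vanishingIdeal (⟨connectedComponent (h y), isClosed_connectedComponent⟩ : TopologicalSpace.Closeds X)
  let Z := I.subscheme
  let ι : Z ⟶ X := I.subschemeι
  have hι : Set.range ι = connectedComponent (h y) := by
    rw [Scheme.IdealSheafData.range_subschemeι, Scheme.IdealSheafData.coe_support_vanishingIdeal]
    rfl
  haveI : ConnectedSpace Z := by
    refine connectedSpace_iff_univ.2 ⟨⟨(hι.ge mem_connectedComponent).choose, trivial⟩, ?_⟩
    refine ι.isClosedEmbedding.isInducing.isPreconnected_image.1 ?_
    rw [Set.image_univ, hι]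
    exact isPreconnected_connectedComponent
  let j := Limits.pullback.fst h ι
  haveI : Surjective j := ⟨fun z => by
    have : z ∈ Set.range j := by
      rw [Scheme.Pullback.range_fst, hι]
      exact hYC ⟨z, rfl⟩
    exact this⟩
  haveI : Nonempty ↥(Limits.pullback h ι) := (j.surjective y).nonempty
  haveI : GeometricallyConnected (Limits.pullback.snd h ι ≫ ι ≫ f) := by
    rw [← Limits.pullback.condition_assoc]
    refine GeomConnExt.geometricallyConnected_of _ fun L _ _ => ?_
    let b := Spec.map (CommRingCat.ofHom (algebraMap k L))
    haveI : ConnectedSpace ↥(Limits.pullback (h ≫ f) b) :=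
      GeometricallyConnected.geometrically_connectedSpace (f := h ≫ f) _ _ _ (IsPullback.of_hasPullback _ b)
    let m := Limits.pullback.snd j (Limits.pullback.fst (h ≫ f) b)
    haveI : ConnectedSpace ↥(Limits.pullback j (Limits.pullback.fst (h ≫ f) b)) := by
      refine connectedSpace_iff_univ.2 ⟨⟨(m.surjective (Classical.arbitrary _)).choose, trivial⟩, ?_⟩
      refine m.isClosedEmbedding.isInducing.isPreconnected_image.1 ?_
      rw [Set.image_univ, m.surjective.range_eq]
      exact isPreconnected_univ
    let e := Limits.pullbackRightPullbackFstIso (h ≫ f) b j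
    exact e.hom.surjective.connectedSpace e.hom.continuous
  haveI : GeometricallyConnected (ι ≫ f) :=
    GeomConnExt.geometricallyConnected_of_source (Limits.pullback.snd h ι) (ι ≫ f)
  haveI : ConnectedSpace ↥(Limits.pullback (ι ≫ f) a) :=
    GeometricallyConnected.geometrically_connectedSpace (f := ι ≫ f) _ _ _ (IsPullback.of_hasPullback _ a)
  let q : Limits.pullback (ι ≫ f) a ⟶ Limits.pullback f a :=
    Limits.pullback.map _ _ _ _ ι (𝟙 _) (𝟙 _) (by simp) (by simp)
  have hr : Set.range q = Limits.pullback.fst f a ⁻¹' connectedComponent (h y) := by
    rw [Scheme.Pullback.range_map, hι]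
    simp
  have := _root_.isConnected_range q.continuous
  rw [hr] at this
  exact this

end Groth.Agent.S4621
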