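import Groth.Agent.ConnCompExt.Galois
import Groth.Agent.ConnCompExt.Curv
import Groth.Agent.FlatBasics.UnivHomeo
import Groth.Statements.S4622
-- import your own Groth.Agent.* helpers here

set_option autoImplicit false
set_option backward.isDefEq.respectTransparency false
set_option backward.isDefEq.respectTransparency.types false
open CategoryTheory AlgebraicGeometry
universe u
open FBase

namespace Groth.Agent.S4622

/-- Let k be a separably closed field, k' an algebraic closure of k and X a scheme over k. Then the
projection X ⊗_k k' → X is a universal homeomorphism. -/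
theorem result {k k' : Type u} [Field k] [IsSepClosed k] [Field k'] [Algebra k k']
    [IsAlgClosure k k'] {X : Scheme.{u}} (f : X ⟶ Spec (CommRingCat.of k)) :
    FlatMor.IsUnivHomeo (FBase.bcπ f k') := by
  haveI : IsAlgClosure k k' := inferInstance
  haveI : Algebra.IsAlgebraic k k' := IsAlgClosure.isAlgebraic
  let g := Spec.map (CommRingCat.ofHom (algebraMap k k'))
  haveI : IsIntegralHom g := by
    rw [IsIntegralHom.SpecMap_iff]
    exact fun x => Algebra.IsIntegral.isIntegral x
  haveI : UniversallyInjective g := by
    refine ((tfae_universallyInjective g).out 0 1).2 ?_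
    intro K instK g₁ g₂ hg
    obtain ⟨ψ₁, rfl⟩ := Spec.map_surjective g₁
    obtain ⟨ψ₂, rfl⟩ := Spec.map_surjective g₂
    simp only [g, ← Spec.map_comp] at hg
    exact congrArg Spec.map (CommRingCat.hom_ext (IsPurelyInseparable.injective_comp_algebraMap k k' K
      (congrArg CommRingCat.Hom.hom (Spec.map_injective hg))))
  haveI : UniversallyInjective (FBase.bcπ f k') := MorphismProperty.pullback_fst f g inferInstance
  haveI : IsIntegralHom (FBase.bcπ f k') := MorphismProperty.pullback_fst f g inferInstance
  haveI : Surjective (FBase.bcπ f k') := ⟨ConnCompExt.surjective_fst f k'⟩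
  exact FlatBasics.isUnivHomeo_of

end Groth.Agent.S4622
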