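import Groth.Statements.S4624
import Groth.Agent.FpqcDescent.Basic
import Mathlib.AlgebraicGeometry.Morphisms.FlatDescent


set_option autoImplicit false
open CategoryTheory AlgebraicGeometry
universe u
open FBase

namespace Groth.Agent.S4624

/-- Let h : X → Y be a surjective morphism of schemes over a field k. If X is geometrically connected
over k, then Y is geometrically connected over k. -/
theorem result {k : Type u} [Field k] {X Y : Scheme.{u}}
    (f : X ⟶ Spec (CommRingCat.of k)) (g : Y ⟶ Spec (CommRingCat.of k)) (h : X ⟶ Y) (w : h ≫ g = f)
    [Surjective h] [GeometricallyConnected f] : GeometricallyConnected g := by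
  refine ⟨geometrically_iff_of_isClosedUnderIsomorphisms.mpr fun K _ y ↦ ?_⟩
  have hX : ConnectedSpace ↥(Limits.pullback f y) :=
    (geometrically_iff_of_isClosedUnderIsomorphisms.mp
      ‹GeometricallyConnected f›.geometrically_connectedSpace) K y
  let m := Limits.pullback.map f y g y h (𝟙 _) (𝟙 _) (by simp [w]) (by simp)
  have : Surjective m := MorphismProperty.pullbackMap (P := @Surjective) ‹_›
    (inferInstanceAs (Surjective (𝟙 _))) w.symm (by simp)
  exact m.surjective.connectedSpace m.continuous

end Groth.Agent.S4624
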