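import Groth.Statements.S4625
import Groth.Agent.FlatMorLib.GeomDescent


set_option autoImplicit false
set_option backward.isDefEq.respectTransparency false
set_option backward.isDefEq.respectTransparency.types false
open CategoryTheory AlgebraicGeometry
universe u
open FBase

namespace Groth.Agent.S4625

/-- Let X be a scheme over a field k and K an extension field of k. Then X is geometrically connected
over k if and only if X ⊗_k K, with its structure of K-scheme, is geometrically connected over K. -/
theorem result {k K : Type u} [Field k] [Field K] [Algebra k K]
    {X : Scheme.{u}} (f : X ⟶ Spec (CommRingCat.of k)) :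
    GeometricallyConnected f ↔ GeometricallyConnected (FBase.bcStr f K) := by
  have hc : IsPullback (FBase.bcπ f K) (FBase.bcStr f K) f (Spec.map (CommRingCat.ofHom (algebraMap k K))) :=
    IsPullback.of_hasPullback _ _
  haveI : Surjective (Spec.map (CommRingCat.ofHom (algebraMap k K))) :=
    ⟨fun _ => ⟨IsLocalRing.closedPoint _, Subsingleton.elim (α := PrimeSpectrum _) _ _⟩⟩
  refine ⟨fun h => MorphismProperty.of_isPullback hc h, fun h => ?_⟩
  rw [GeometricallyConnected.eq_geometrically] at h ⊢
  refine Groth.Agent.FlatMorLib.geometrically_of_isPullback_of_surjective (fun p _ _ h => ?_) hc h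
  have : ConnectedSpace _ := h
  exact p.surjective.connectedSpace p.continuous

end Groth.Agent.S4625
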