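import Groth.Agent.S4628
import Groth.Statements.S4629
-- import your own Groth.Agent.* helpers here

set_option autoImplicit false
set_option backward.isDefEq.respectTransparency false
set_option backward.isDefEq.respectTransparency.types false
open CategoryTheory AlgebraicGeometry
universe u
open FBase

namespace Groth.Agent.S4629

open CategoryTheory.Limits in
/-- If X and Y are schemes over a field k which are both geometrically reduced over k, then X ×_k Y is
geometrically reduced over k. -/
theorem result {k : Type u} [Field k] {X Y : Scheme.{u}}
    (f : X ⟶ Spec (CommRingCat.of k)) (g : Y ⟶ Spec (CommRingCat.of k)) [GeometricallyReduced f]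
    [GeometricallyReduced g] : GeometricallyReduced (pullback.fst f g ≫ f) := by
  refine ⟨geometrically_iff_of_isClosedUnderIsomorphisms.mpr fun K _ y => ?_⟩
  haveI : AlgebraicGeometry.IsReduced (pullback g y) :=
    GeometricallyReduced.geometrically_isReduced (f := g) y _ _ (.of_hasPullback _ _)
  haveI := S4628.result (pullback.snd f y) (pullback.snd g y)
  let e : pullback (pullback.fst f g ≫ f) y ≅ pullback (pullback.snd f y) (pullback.snd g y) :=
    { hom := pullback.lift
        (pullback.lift (pullback.fst _ _ ≫ pullback.fst f g) (pullback.snd _ _)
          (by rw [Category.assoc]; exact pullback.condition))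
        (pullback.lift (pullback.fst _ _ ≫ pullback.snd f g) (pullback.snd _ _)
          (by rw [Category.assoc]
              exact (congrArg (pullback.fst _ _ ≫ ·) pullback.condition.symm).trans pullback.condition))
        (by simp)
      inv := pullback.lift
        (pullback.lift (pullback.fst _ _ ≫ pullback.fst f y) (pullback.snd _ _ ≫ pullback.fst g y)
          (by simp [pullback.condition, pullback.condition_assoc]))
        (pullback.fst _ _ ≫ pullback.snd f y)
        (by simp [pullback.condition, pullback.condition_assoc])
      hom_inv_id := by ext <;> simp
      inv_hom_id := by ext <;> simp [pullback.condition, pullback.condition_assoc] }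
  haveI : IsOpenImmersion e.hom := @IsOpenImmersion.of_isIso _ _ e.hom e.isIso_hom
  exact isReduced_of_isOpenImmersion e.hom

end Groth.Agent.S4629
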