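import Mathlib.AlgebraicGeometry.Morphisms.Flat
import Mathlib.AlgebraicGeometry.ResidueField
import Groth.Statements.S4630
-- import your own Groth.Agent.* helpers here

set_option autoImplicit false
set_option backward.isDefEq.respectTransparency false
set_option backward.isDefEq.respectTransparency.types false
open CategoryTheory CategoryTheory.Limits AlgebraicGeometry
universe u
open FBase

namespace Groth.Agent.S4630

/-- Let X be a scheme over a field k, k' an extension field of k, and x' a point of X' = X ⊗_k k' lying
over the point x of X. Then X is geometrically pointwise integral at x over k if and only if X' is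
geometrically pointwise integral at x' over k'. -/
theorem result {k K : Type u} [Field k] [Field K] [Algebra k K]
    {X : Scheme.{u}} (f : X ⟶ Spec (CommRingCat.of k)) (x' : ↥(FBase.bc f K)) :
    FBase.IsGeomPtIntegralAt f ((FBase.bcπ f K) x') ↔ FBase.IsGeomPtIntegralAt (FBase.bcStr f K) x' := by
  constructor
  · intro h L _ _ y hy
    letI : Algebra k L := ((algebraMap K L).comp (algebraMap k K)).toAlgebra
    let I : FBase.bc (FBase.bcStr f K) L ≅ FBase.bc f L :=
      pullbackLeftPullbackSndIso f (Spec.map (CommRingCat.ofHom (algebraMap k K))) (Spec.map (CommRingCat.ofHom (algebraMap K L))) ≪≫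
        pullback.congrHom rfl (by rw [← Spec.map_comp]; rfl)
    have hI : I.hom ≫ FBase.bcπ f L = FBase.bcπ (FBase.bcStr f K) L ≫ FBase.bcπ f K := by
      simp [I, FBase.bcπ, FBase.bcStr]
    have hd := h L (I.hom y) (by rw [← Scheme.Hom.comp_apply, hI, Scheme.Hom.comp_apply, hy])
    exact (asIso (I.hom.stalkMap y)).commRingCatIsoToRingEquiv.symm.toMulEquiv.isDomain
  · intro h L _ _ y hy
    obtain ⟨z, hz1, hz2⟩ := Scheme.Pullback.exists_preimage_pullback (f := FBase.bcπ f K) (g := FBase.bcπ f L) x' y hy.symm
    let F : Type u := (pullback (FBase.bcπ f K) (FBase.bcπ f L)).residueField z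
    let a : Spec (CommRingCat.of F) ⟶ FBase.bc f K := Scheme.fromSpecResidueField _ z ≫ pullback.fst _ _
    let b : Spec (CommRingCat.of F) ⟶ FBase.bc f L := Scheme.fromSpecResidueField _ z ≫ pullback.snd _ _
    obtain ⟨φ, hφ⟩ := Spec.map_surjective (a ≫ FBase.bcStr f K)
    obtain ⟨ψ, hψ⟩ := Spec.map_surjective (b ≫ FBase.bcStr f L)
    have hab : a ≫ FBase.bcπ f K = b ≫ FBase.bcπ f L := by simp [a, b, pullback.condition]
    have hc : CommRingCat.ofHom (algebraMap k K) ≫ φ = CommRingCat.ofHom (algebraMap k L) ≫ ψ := by
      apply Spec.map_injective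
      rw [Spec.map_comp, Spec.map_comp, hφ, hψ]
      have wK : FBase.bcStr f K ≫ Spec.map (CommRingCat.ofHom (algebraMap k K)) = FBase.bcπ f K ≫ f := pullback.condition.symm
      have wL : FBase.bcStr f L ≫ Spec.map (CommRingCat.ofHom (algebraMap k L)) = FBase.bcπ f L ≫ f := pullback.condition.symm
      rw [Category.assoc a, wK, Category.assoc b, wL, ← Category.assoc, hab, Category.assoc]
    letI : Algebra K F := φ.hom.toAlgebra
    letI : Algebra k F := (φ.hom.comp (algebraMap k K)).toAlgebra
    let I : FBase.bc (FBase.bcStr f K) F ≅ FBase.bc f F :=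
      pullbackLeftPullbackSndIso f (Spec.map (CommRingCat.ofHom (algebraMap k K))) (Spec.map (CommRingCat.ofHom (algebraMap K F))) ≪≫
        pullback.congrHom rfl (by rw [← Spec.map_comp]; rfl)
    let c : Spec (CommRingCat.of F) ⟶ FBase.bc (FBase.bcStr f K) F :=
      pullback.lift a (𝟙 _) (by rw [Category.id_comp]; exact hφ.symm)
    let o : Spec (CommRingCat.of F) := IsLocalRing.closedPoint F
    have hd : IsDomain ((FBase.bc (FBase.bcStr f K) F).presheaf.stalk (c o)) := h F (c o) (by
      rw [← Scheme.Hom.comp_apply, show c ≫ FBase.bcπ (FBase.bcStr f K) F = a from pullback.lift_fst _ _ _]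
      show (pullback.fst (FBase.bcπ f K) (FBase.bcπ f L)) (Scheme.fromSpecResidueField _ z o) = x'
      rw [Scheme.fromSpecResidueField_apply]
      exact hz1)
    let q : FBase.bc f F ⟶ FBase.bc f L := pullback.map f (Spec.map (CommRingCat.ofHom (algebraMap k F))) f
      (Spec.map (CommRingCat.ofHom (algebraMap k L))) (𝟙 _) (Spec.map ψ) (𝟙 _) (by simp) (by
        rw [Category.comp_id, ← Spec.map_comp, ← hc]; rfl)
    haveI : Flat (Spec.map ψ) := (HasRingHomProperty.Spec_iff (P := @Flat)).2 (letI := ψ.hom.toAlgebra; RingHom.flat_algebraMap_iff.2 (inferInstanceAs (Module.Flat L F)))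
    haveI : Flat q := by
      have hsq : IsPullback q (pullback.snd f (Spec.map (CommRingCat.ofHom (algebraMap k F))))
          (pullback.snd f (Spec.map (CommRingCat.ofHom (algebraMap k L)))) (Spec.map ψ) := by
        refine IsPullback.of_right ?_ (pullback.lift_snd _ _ _) (IsPullback.of_hasPullback f (Spec.map (CommRingCat.ofHom (algebraMap k L))))
        have h1 : q ≫ pullback.fst f (Spec.map (CommRingCat.ofHom (algebraMap k L))) = pullback.fst f (Spec.map (CommRingCat.ofHom (algebraMap k F))) :=
          (pullback.lift_fst _ _ _).trans (Category.comp_id _)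
        rw [h1, ← Spec.map_comp, ← hc]
        exact IsPullback.of_hasPullback f _
      exact MorphismProperty.of_isPullback hsq.flip inferInstance
    have hq : c ≫ I.hom ≫ q = b := by
      refine pullback.hom_ext ?_ ?_
      · simp only [I, q, c, FBase.bcπ, pullback.map, Category.assoc] at *
        simp [FBase.bcStr, pullback.congrHom, pullback.map, hab, FBase.bcπ]
      · simp only [I, q, c, pullback.map, Category.assoc]
        simp [pullback.congrHom, pullback.map, FBase.bcStr, hψ]
        exact Category.id_comp _
    have hy' : (I.hom ≫ q) (c o) = y := by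
      rw [← Scheme.Hom.comp_apply, hq]
      show (pullback.snd (FBase.bcπ f K) (FBase.bcπ f L)) (Scheme.fromSpecResidueField _ z o) = y
      rw [Scheme.fromSpecResidueField_apply]
      exact hz2
    subst hy'
    haveI : Flat (I.hom ≫ q) := inferInstance
    let m := ((I.hom ≫ q).stalkMap (c o)).hom
    letI := m.toAlgebra
    haveI : Module.Flat _ _ := Flat.stalkMap (I.hom ≫ q) (c o)
    haveI : IsLocalHom (algebraMap ((FBase.bc f L).presheaf.stalk ((I.hom ≫ q) (c o))) ((FBase.bc (FBase.bcStr f K) F).presheaf.stalk (c o))) :=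
      inferInstanceAs (IsLocalHom m)
    haveI : Module.FaithfullyFlat ((FBase.bc f L).presheaf.stalk ((I.hom ≫ q) (c o))) ((FBase.bc (FBase.bcStr f K) F).presheaf.stalk (c o)) :=
      Module.FaithfullyFlat.of_flat_of_isLocalHom
    exact (FaithfulSMul.algebraMap_injective ((FBase.bc f L).presheaf.stalk ((I.hom ≫ q) (c o))) ((FBase.bc (FBase.bcStr f K) F).presheaf.stalk (c o))).isDomain _

end Groth.Agent.S4630
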