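import Groth.Statements.S4631
import Groth.Agent.GeomRedAt.PtIntegral


set_option autoImplicit false
set_option backward.isDefEq.respectTransparency false
set_option backward.isDefEq.respectTransparency.types false
open CategoryTheory AlgebraicGeometry
universe u
open FBase
open TensorProduct

namespace Groth.Agent.S4631

/-- Let X be a scheme over an algebraically closed field k and x a point of X. Then X is geometrically
pointwise integral at x over k if and only if the local ring of X at x is a domain. -/
theorem result {k : Type u} [Field k] [IsAlgClosed k] {X : Scheme.{u}}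
    (f : X ⟶ Spec (CommRingCat.of k)) (x : X) :
    FBase.IsGeomPtIntegralAt f x ↔ IsDomain ↑(X.presheaf.stalk x) := by
  obtain ⟨A, _, j, _, hj, p, rfl⟩ := Groth.Agent.GeomRedAt.exists_chart f x
  obtain ⟨e⟩ := Groth.Agent.GeomRedAt.exists_stalkEquiv j p
  rw [Groth.Agent.GeomRedAt.isGeomPtIntegralAt_iff f j hj p]
  constructor
  · intro h
    let i : A →ₐ[k] AlgebraicClosure k ⊗[k] A := Algebra.TensorProduct.includeRight
    have hbij : Function.Bijective (algebraMap k (AlgebraicClosure k)) :=
      IsAlgClosed.algebraMap_bijective_of_isIntegral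
    let θ : k ≃ₐ[k] AlgebraicClosure k := AlgEquiv.ofBijective (Algebra.ofId k _) hbij
    let η : AlgebraicClosure k ⊗[k] A ≃ₐ[k] A :=
      (Algebra.TensorProduct.congr θ.symm AlgEquiv.refl).trans (Algebra.TensorProduct.lid k A)
    let Q : PrimeSpectrum (AlgebraicClosure k ⊗[k] A) := PrimeSpectrum.comap η.toRingEquiv.toRingHom p
    have hQ := h Q (PrimeSpectrum.ext (Ideal.ext fun a => by
      show η ((1 : AlgebraicClosure k) ⊗ₜ a) ∈ p.asIdeal ↔ a ∈ p.asIdeal
      simp [η]))
    exact e.toMulEquiv.isDomain_iff.2 (Groth.Agent.GeomRedAt.isDomain_of_equiv (R := Localization.AtPrime Q.asIdeal)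
      (S := Localization.AtPrime p.asIdeal) (Localization.localRingEquiv Q.asIdeal p.asIdeal η.toRingEquiv rfl) hQ)
  · intro h
    haveI : IsDomain (Localization.AtPrime p.asIdeal) := Groth.Agent.GeomRedAt.isDomain_of_equiv e h
    exact Groth.Agent.GeomRedAt.holdsOver_domain_of_algClosed A p _

end Groth.Agent.S4631
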