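import Groth.Agent.QuasiFlatLib.Basic
import Groth.Agent.FpqcDescent.Specialization
import Groth.Statements.S4634
-- import your own Groth.Agent.* helpers here

set_option autoImplicit false
set_option backward.isDefEq.respectTransparency false
set_option backward.isDefEq.respectTransparency.types false
open CategoryTheory AlgebraicGeometry
universe u
open FDesc

namespace Groth.Agent.S4634

/-- Let f : X → Y be a quasi-flat quasi-compact morphism and F a closed subset of X which is saturated
for f, i.e. F = f⁻¹(f(F)). Then F is the inverse image of the closure of f(F). -/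
theorem result {X Y : Scheme.{u}} (f : X ⟶ Y) (hf : FDesc.IsQuasiFlat f)
    [QuasiCompact f] (F : Set ↥X) (hF : IsClosed F) (hsat : ⇑f ⁻¹' (⇑f '' F) = F) :
    ⇑f ⁻¹' closure (⇑f '' F) = F := by
  refine Set.Subset.antisymm (fun x hx => ?_) (fun x hx => subset_closure ⟨x, hx, rfl⟩)
  let I := Scheme.IdealSheafData.vanishingIdeal (⟨F, hF⟩ : TopologicalSpace.Closeds X)
  have hr : Set.range (I.subschemeι ≫ f) = f '' F := by
    rw [Scheme.Hom.comp_base, TopCat.coe_comp, Set.range_comp, Scheme.IdealSheafData.range_subschemeι]
    simp [I]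
  rw [Set.mem_preimage, ← hr] at hx
  obtain ⟨w, hw⟩ := FpqcDescent.exists_specializes_of_mem_closure_range (I.subschemeι ≫ f) hx
  obtain ⟨x', hx', hfx⟩ := QuasiFlatLib.generalizingMap hf hw
  have hmem : x' ∈ F := by
    rw [← hsat, Set.mem_preimage, ← hr]
    exact ⟨w, hfx.symm⟩
  exact (hx' : x' ⤳ x).mem_closed hF hmem

end Groth.Agent.S4634
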