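import Groth.Statements.S4636
import Groth.Agent.AssPts.Scheme

set_option autoImplicit false
open CategoryTheory AlgebraicGeometry
universe u
open AssSch

namespace Groth.Agent.S4636

/-- Let X be a locally Noetherian scheme, F a coherent O_X-module and x a point of X. Then x is a
maximal associated point of F (an associated point such that every associated point specialising to
x equals x) if and only if x is the generic point of an irreducible component of Supp F, i.e. F_x ≠
0 and every point y with F_y ≠ 0 that specialises to x equals x. -/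
theorem result {X : Scheme.{u}} [IsLocallyNoetherian X] (F : X.Modules)
    (hF : Coh.IsCoh F) (x : X) :
    (x ∈ AssSch.Ass F ∧ ∀ y ∈ AssSch.Ass F, y ⤳ x → y = x) ↔
      (Nontrivial ↑(F.presheaf.stalk x) ∧ ∀ y : X, Nontrivial ↑(F.presheaf.stalk y) → y ⤳ x → y = x) := by
  haveI : F.IsQuasicoherent := hF.1
  have hsupp : ∀ y ∈ AssSch.Ass F, Nontrivial ↑(F.presheaf.stalk y) := by
    intro y hy
    obtain ⟨z, hz, -⟩ := (Groth.Agent.AssPts.isWeakAssPoint_iff' F y).1
      ((Groth.Agent.AssPts.isAssPoint_iff_isWeakAssPoint F y).1 hy)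
    exact nontrivial_of_ne z 0 hz
  have hgen : ∀ y : X, Nontrivial ↑(F.presheaf.stalk y) → ∃ z ∈ AssSch.Ass F, z ⤳ y := by
    intro y hy
    obtain ⟨V, hV, hyV, -⟩ :=
      TopologicalSpace.Opens.isBasis_iff_nbhd.1 X.isBasis_affineOpens (U := ⊤) (show y ∈ _ from trivial)
    obtain ⟨a, ha⟩ := exists_ne (0 : ↑(F.presheaf.stalk y))
    obtain ⟨g, s, hg, hs⟩ := Groth.Agent.AssPts.exists_germ_smul_eq F hV y hyV a
    have hle : (Submodule.span Γ(X, V) {s}).annihilator ≤ (hV.primeIdealOf ⟨y, hyV⟩).asIdeal := by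
      intro t ht
      by_contra htp
      have := (Groth.Agent.AssPts.germ_eq_zero_iff F hV y hyV s).2
        ⟨t, htp, (Submodule.mem_annihilator_span_singleton s t).1 ht⟩
      rw [← hs] at this
      exact ha (((Groth.Agent.AssPts.notMem_prime_iff hV y hyV g).1 hg).smul_eq_zero.1 this)
    obtain ⟨q, hq, hqle⟩ := Ideal.exists_minimalPrimes_le hle
    haveI := hq.1.1
    obtain ⟨z, hzV, rfl⟩ := Groth.Agent.AssPts.exists_point hV q
    exact ⟨z, (Groth.Agent.AssPts.mem_ass_iff_weakAss F hV z hzV).2 ⟨s, hq⟩,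
      (Groth.Agent.AssPts.specializes_iff hV y hyV hzV).2 hqle⟩
  constructor
  · rintro ⟨hx, hmax⟩
    refine ⟨hsupp x hx, fun y hy hyx => ?_⟩
    obtain ⟨z, hz, hzy⟩ := hgen y hy
    have := hmax z hz (hzy.trans hyx)
    subst this
    exact (hyx.antisymm hzy).eq
  · rintro ⟨hx, hmax⟩
    refine ⟨?_, fun y hy => hmax y (hsupp y hy)⟩
    obtain ⟨z, hz, hzx⟩ := hgen x hx
    exact hmax z (hsupp z hz) hzx ▸ hz

end Groth.Agent.S4636
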