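import Groth.Statements.S4638
import Groth.Agent.AssPts.Scheme

set_option autoImplicit false
open CategoryTheory AlgebraicGeometry
universe u
open AssSch

namespace Groth.Agent.S4638

/-- Let X be a locally Noetherian scheme, F a quasi-coherent O_X-module and f a global section of O_X.
Then f is F-regular, i.e. multiplication by the germ of f is injective on every stalk of F, if and
only if every associated point of F lies in the open subset X_f where f does not vanish. -/
theorem result {X : Scheme.{u}} [IsLocallyNoetherian X] (F : X.Modules)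
    (hF : Coh.IsQCoh F) (f : Γ(X, ⊤)) :
    (∀ x : X, IsSMulRegular ↑(F.presheaf.stalk x) (X.presheaf.germ ⊤ x trivial f)) ↔
      AssSch.Ass F ⊆ (X.basicOpen f : Set ↥X) := by
  haveI : F.IsQuasicoherent := hF
  constructor
  · intro h x hx
    obtain ⟨z, hz, hpow⟩ := (Groth.Agent.AssPts.isWeakAssPoint_iff' F x).1
      ((Groth.Agent.AssPts.isAssPoint_iff_isWeakAssPoint F x).1 hx)
    by_contra hxf
    have hm : X.presheaf.germ ⊤ x trivial f ∈ IsLocalRing.maximalIdeal (X.presheaf.stalk x) := by
      rw [IsLocalRing.mem_maximalIdeal, mem_nonunits_iff]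
      exact fun hu => hxf ((X.mem_basicOpen f x trivial).2 hu)
    obtain ⟨n, hn⟩ := hpow _ hm
    exact hz ((h x).pow n (hn.trans (smul_zero _).symm))
  · intro h x
    rw [isSMulRegular_iff_right_eq_zero_of_smul]
    intro z hz
    obtain ⟨V, hV, hxV, -⟩ :=
      TopologicalSpace.Opens.isBasis_iff_nbhd.1 X.isBasis_affineOpens (U := ⊤) (show x ∈ _ from trivial)
    obtain ⟨g, s, hg, hs⟩ := Groth.Agent.AssPts.exists_germ_smul_eq F hV x hxV z
    let f' : Γ(X, V) := X.presheaf.map (homOfLE le_top).op f
    have hf' : ∀ y (hy : y ∈ V), X.presheaf.germ V y hy f' = X.presheaf.germ ⊤ y trivial f :=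
      fun y hy => TopCat.Presheaf.germ_res_apply X.presheaf (homOfLE le_top) y hy f
    have h0 : F.presheaf.germ V x hxV (f' • s) = 0 := by
      rw [Groth.Agent.AssPts.germ_smul', hf', ← hs, smul_comm, hz, smul_zero]
    obtain ⟨g', hg', hg's⟩ := (Groth.Agent.AssPts.germ_eq_zero_iff F hV x hxV _).1 h0
    have ht : g' • s = 0 := by
      refine Groth.Agent.AssPts.eq_zero_of_forall_germ F hV _ fun y hy hyA => ?_
      have h1 : F.presheaf.germ V y hy (f' • (g' • s)) = 0 := by
        rw [smul_comm, hg's, map_zero]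
      rw [Groth.Agent.AssPts.germ_smul', hf'] at h1
      exact ((X.mem_basicOpen f y trivial).1 (h hyA)).smul_eq_zero.1 h1
    have hs0 : F.presheaf.germ V x hxV s = 0 :=
      (Groth.Agent.AssPts.germ_eq_zero_iff F hV x hxV s).2 ⟨g', hg', ht⟩
    exact ((Groth.Agent.AssPts.notMem_prime_iff hV x hxV g).1 hg).smul_eq_zero.1 (hs.trans hs0)

end Groth.Agent.S4638
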