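import Groth.Statements.S4639
import Groth.Agent.FpqcDescent.Embedding


set_option autoImplicit false
open CategoryTheory AlgebraicGeometry
universe u
open FDesc

namespace Groth.Agent.S4639

/-- The property of being quasi-compact and universally bicontinuous (every base change is a
homeomorphism onto its image) descends along a surjective, flat and quasi-compact base change. -/
theorem result :
    MorphismProperty.DescendsAlong
      (MorphismProperty.universally (topologically (fun f => Topology.IsEmbedding f)) ⊓ @QuasiCompact : MorphismProperty Scheme.{u})
      (@Surjective ⊓ @Flat ⊓ @QuasiCompact : MorphismProperty Scheme.{u}) := by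
  have : (MorphismProperty.universally (topologically (fun f => Topology.IsEmbedding f)) ⊓ @QuasiCompact :
      MorphismProperty Scheme.{u}) = MorphismProperty.universally
        (topologically (fun f => Topology.IsEmbedding f) ⊓ @QuasiCompact) := by
    rw [MorphismProperty.universally_inf, MorphismProperty.IsStableUnderBaseChange.universally_eq (P := @QuasiCompact)]
  rw [this]
  exact Groth.Agent.FpqcDescent.descendsAlong_universally _ _

end Groth.Agent.S4639
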