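import Groth.Statements.S4640
import Mathlib

set_option autoImplicit false
universe u
open FDesc

namespace Groth.Agent.S4640

open scoped TensorProduct

open TensorProduct in
/-- Let A be a Dedekind domain with fraction field K, M an A-module and P' a K-submodule of K ⊗_A M. Let
φ : M → (K ⊗_A M)/P' be m ↦ class of 1 ⊗ m. Then a submodule Q of M equals ker φ if and only if M/Q
is a flat A-module and the kernel of the induced surjection K ⊗_A M → K ⊗_A (M/Q) is P'. Thus M/ker
φ is the unique flat quotient of M with generic fibre (K ⊗_A M)/P'. (The published statement takes A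
Noetherian, regular and of dimension 1; a field is allowed here, where the statement is immediate.) -/
theorem result {A K : Type u} [CommRing A] [IsDedekindDomain A] [Field K]
    [Algebra A K] [IsFractionRing A K] {M : Type u} [AddCommGroup M] [Module A M]
    (P' : Submodule K (K ⊗[A] M)) (Q : Submodule A M) :
    Q = LinearMap.ker ((P'.restrictScalars A).mkQ ∘ₗ TensorProduct.mk A K M 1) ↔
      (Module.Flat A (M ⧸ Q) ∧ LinearMap.ker (Q.mkQ.baseChange K) = P') := by
  haveI : IsLocalizedModule (nonZeroDivisors A) (TensorProduct.mk A K M 1) := inferInstance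
  haveI hQloc : IsLocalizedModule (nonZeroDivisors A) (TensorProduct.mk A K (M ⧸ Q) 1) := inferInstance
  have hbc : ∀ m : M, (Q.mkQ.baseChange K) ((1 : K) ⊗ₜ[A] m) = (1 : K) ⊗ₜ[A] (Q.mkQ m) := fun m => rfl
  have hmem : ∀ m : M, m ∈ LinearMap.ker ((P'.restrictScalars A).mkQ ∘ₗ TensorProduct.mk A K M 1) ↔ (1 : K) ⊗ₜ[A] m ∈ P' := by
    intro m
    simp
  constructor
  · intro hQ
    have htf : Submodule.torsion A (M ⧸ Q) = ⊥ := by
      rw [eq_bot_iff]
      intro x hx
      obtain ⟨m, rfl⟩ := Submodule.Quotient.mk_surjective _ x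
      obtain ⟨⟨a, ha⟩, h⟩ := (Submodule.mem_torsion_iff _).1 hx
      rw [Submonoid.smul_def, ← Submodule.Quotient.mk_smul, Submodule.Quotient.mk_eq_zero, hQ, hmem, TensorProduct.tmul_smul, ← algebraMap_smul K a ((1 : K) ⊗ₜ[A] m)] at h
      have ha0 : algebraMap A K a ≠ 0 := (IsLocalization.map_units K (⟨a, ha⟩ : nonZeroDivisors A)).ne_zero
      rw [Submodule.smul_mem_iff _ ha0, ← hmem, ← hQ] at h
      exact (Submodule.mem_bot A).2 ((Submodule.Quotient.mk_eq_zero Q).2 h)
    refine ⟨IsDedekindDomain.flat_iff_torsion_eq_bot.2 htf, ?_⟩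
    ext x
    obtain ⟨⟨m, s⟩, hs⟩ := IsLocalizedModule.surj (nonZeroDivisors A) (TensorProduct.mk A K M 1) x
    have hs0 : algebraMap A K (s : A) ≠ 0 := (IsLocalization.map_units K s).ne_zero
    have hs' : algebraMap A K (s : A) • x = (1 : K) ⊗ₜ[A] m := by
      rw [algebraMap_smul]; exact hs
    rw [← Submodule.smul_mem_iff (LinearMap.ker (Q.mkQ.baseChange K)) hs0, ← Submodule.smul_mem_iff P' hs0, hs', LinearMap.mem_ker, hbc, ← hmem, ← hQ]
    constructor
    · intro h
      have h' : TensorProduct.mk A K (M ⧸ Q) 1 (Q.mkQ m) = TensorProduct.mk A K (M ⧸ Q) 1 0 := by simpa using h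
      obtain ⟨c, hc⟩ := (IsLocalizedModule.eq_iff_exists (nonZeroDivisors A) (TensorProduct.mk A K (M ⧸ Q) 1)).1 h'
      rw [smul_zero] at hc
      have : Q.mkQ m ∈ Submodule.torsion A (M ⧸ Q) := (Submodule.mem_torsion_iff _).2 ⟨c, hc⟩
      rw [htf, Submodule.mem_bot] at this
      exact (Submodule.Quotient.mk_eq_zero Q).1 this
    · intro h
      rw [Submodule.mkQ_apply, (Submodule.Quotient.mk_eq_zero Q).2 h, TensorProduct.tmul_zero]
  · rintro ⟨hfl, hP⟩
    have htf := IsDedekindDomain.flat_iff_torsion_eq_bot.1 hfl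
    ext m
    rw [hmem, ← hP, LinearMap.mem_ker, hbc]
    constructor
    · intro h
      rw [Submodule.mkQ_apply, (Submodule.Quotient.mk_eq_zero Q).2 h, TensorProduct.tmul_zero]
    · intro h
      have h' : TensorProduct.mk A K (M ⧸ Q) 1 (Q.mkQ m) = TensorProduct.mk A K (M ⧸ Q) 1 0 := by simpa using h
      obtain ⟨c, hc⟩ := (IsLocalizedModule.eq_iff_exists (nonZeroDivisors A) (TensorProduct.mk A K (M ⧸ Q) 1)).1 h'
      rw [smul_zero] at hc
      have : Q.mkQ m ∈ Submodule.torsion A (M ⧸ Q) := (Submodule.mem_torsion_iff _).2 ⟨c, hc⟩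
      rw [htf, Submodule.mem_bot] at this
      exact (Submodule.Quotient.mk_eq_zero Q).1 this

end Groth.Agent.S4640
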