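import Groth.Statements.S4641
import Groth.Agent.AssPts.Structure
import Groth.Agent.FlatMorLib.MaxPoints
import Mathlib.RingTheory.Flat.TorsionFree
import Mathlib.RingTheory.Ideal.AssociatedPrime.Finiteness

set_option autoImplicit false
set_option linter.style.haveILetI false
open CategoryTheory AlgebraicGeometry
universe u
open AssSch

namespace Groth.Agent.S4641

/-- Let f : X → Y be a morphism of locally Noetherian schemes such that Y has no embedded associated
points, and let F be a quasi-coherent O_X-module which is flat over Y. Then for every associated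
point x of F, f(x) is a maximal point of Y (every point of Y specialising to f(x) equals f(x)). (The
published statement assumes only Y locally Noetherian; X is taken locally Noetherian here so that
associated points are those whose maximal ideal is an annihilator.) -/
theorem result {X Y : Scheme.{u}} (f : X ⟶ Y) [IsLocallyNoetherian X]
    [IsLocallyNoetherian Y] (hY : AssSch.NoEmbedded (Coh.structureModule Y)) (F : X.Modules) (hF : Coh.IsQCoh F)
    (hfl : FlatMod.IsFlatOver f F) (x : X) (hx : x ∈ AssSch.Ass F) (y : Y) (hy : y ⤳ f x) : y = f x := by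
  haveI : F.IsQuasicoherent := hF
  haveI := Groth.Agent.AssPts.isQuasicoherent_structureModule Y
  obtain ⟨_, ⟨(V : Y.Opens), hV, rfl⟩, hxV, -⟩ :=
    Y.isBasis_affineOpens.exists_subset_of_mem_open (Set.mem_univ (f x)) isOpen_univ
  obtain ⟨η, hη, hmax⟩ := Groth.Agent.FlatMorLib.exists_maximal_generization (f x)
  have hηV : η ∈ V := hη.mem_open V.isOpen hxV
  -- maximal points are associated
  have hηAss : η ∈ AssSch.Ass (Coh.structureModule Y) := by
    rw [Groth.Agent.AssPts.mem_ass_iff_weakAss _ hV η hηV, Groth.Agent.WeakAss.mem_weakAss_iff]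
    set p := (hV.primeIdealOf ⟨η, hηV⟩).asIdeal with hp
    have hmin : p ∈ (⊥ : Ideal Γ(Y, V)).minimalPrimes := by
      refine ⟨⟨inferInstance, bot_le⟩, fun q hq hqp => ?_⟩
      haveI := hq.1
      obtain ⟨z, hzV, rfl⟩ := Groth.Agent.AssPts.exists_point hV q
      obtain rfl := hmax z ((Groth.Agent.AssPts.specializes_iff hV η hηV hzV).2 hqp)
      exact le_rfl
    refine ⟨inferInstance, (1 : Γ(Y, V)), fun r hr => ?_, fun a ha => ?_⟩
    · have : r = 0 := (mul_one r).symm.trans (show r * (1 : Γ(Y, V)) = 0 from hr)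
      rw [this]; exact p.zero_mem
    · obtain ⟨t, ht, n, hn⟩ :=
        (Groth.Agent.WeakAss.mem_minimalPrimes_iff_exists_mul_pow_mem.1 hmin).2 a ha
      exact ⟨t, ht, n, show (t * a ^ n) * (1 : Γ(Y, V)) = 0 from (mul_one _).trans (Ideal.mem_bot.1 hn)⟩
  -- `f x` is associated
  have hfxAss : f x ∈ AssSch.Ass (Coh.structureModule Y) := by
    rw [Groth.Agent.AssPts.mem_ass_iff_weakAss _ hV (f x) hxV, Groth.Agent.WeakAss.mem_weakAss_iff]
    set p := (hV.primeIdealOf ⟨f x, hxV⟩).asIdeal with hp
    obtain ⟨z, hz, hpow⟩ := (Groth.Agent.AssPts.isWeakAssPoint_iff' F x).1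
      ((Groth.Agent.AssPts.isAssPoint_iff_isWeakAssPoint F x).1 hx)
    letI := FlatMod.moduleStalkOver f F x
    haveI : Module.Flat (Y.presheaf.stalk (f x)) (F.presheaf.stalk x) := hfl x
    have hzd : ∀ a ∈ IsLocalRing.maximalIdeal (Y.presheaf.stalk (f x)),
        a ∉ nonZeroDivisors (Y.presheaf.stalk (f x)) := by
      intro a ha hreg
      obtain ⟨n, hn⟩ := hpow ((f.stalkMap x).hom a) (by
        rwa [IsLocalRing.mem_maximalIdeal, mem_nonunits_iff, isUnit_map_iff])
      rw [← map_pow] at hn
      refine hz (Module.Flat.isSMulRegular_of_nonZeroDivisors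
        (M := F.presheaf.stalk x) (pow_mem hreg n) (show a ^ n • z = a ^ n • 0 from ?_))
      rw [smul_zero]; exact hn
    have hsub : (IsLocalRing.maximalIdeal (Y.presheaf.stalk (f x)) : Set (Y.presheaf.stalk (f x))) ⊆
        ⋃ P ∈ associatedPrimes (Y.presheaf.stalk (f x)) (Y.presheaf.stalk (f x)),
          (P : Set (Y.presheaf.stalk (f x))) := by
      rw [biUnion_associatedPrimes_eq_compl_nonZeroDivisors]
      exact fun a ha => hzd a ha
    obtain ⟨P, hP, hle⟩ := (Ideal.subset_union_prime_finite
      (associatedPrimes.finite _ _) (f := id) (IsLocalRing.maximalIdeal _) (IsLocalRing.maximalIdeal _)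
      (fun P hP _ _ => IsAssociatedPrime.isPrime hP)).1 hsub
    obtain ⟨hPp, w, hw⟩ := hP
    letI := (Y.presheaf.germ V (f x) hxV).hom.toAlgebra
    haveI : IsLocalization.AtPrime (Y.presheaf.stalk (f x)) p := hV.isLocalization_stalk ⟨f x, hxV⟩
    have hw0 : w ≠ 0 := by
      rintro rfl
      exact hPp.ne_top (by rw [hw]; simp)
    obtain ⟨r, t, rfl⟩ := IsLocalization.exists_mk'_eq p.primeCompl w
    refine ⟨inferInstance, r, fun s hs => ?_, fun a ha => ?_⟩
    · by_contra hsp
      exact hw0 ((IsLocalization.mk'_eq_zero_iff r t).2 ⟨⟨s, hsp⟩, hs⟩)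
    · have haP : algebraMap Γ(Y, V) (Y.presheaf.stalk (f x)) a ∈ P :=
        hle ((Groth.Agent.AssPts.mem_prime_iff hV (f x) hxV a).1 ha)
      rw [hw] at haP
      obtain ⟨n, hn⟩ := haP
      rw [Submodule.mem_colon_singleton, Submodule.mem_bot, smul_eq_mul, ← map_pow,
        IsLocalization.mul_mk'_eq_mk'_of_mul, IsLocalization.mk'_eq_zero_iff] at hn
      obtain ⟨⟨u, hu⟩, hun⟩ := hn
      exact ⟨u, hu, n, show (u * a ^ n) * r = 0 from (mul_assoc _ _ _).trans hun⟩
  have h1 : f x = η := hY (f x) hfxAss η hηAss hη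
  rw [h1] at hy ⊢
  exact hmax y hy

end Groth.Agent.S4641
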