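import Groth.Statements.S4643
import Groth.Agent.BCDim.Basic


set_option autoImplicit false
set_option backward.isDefEq.respectTransparency false
set_option backward.isDefEq.respectTransparency.types false
open CategoryTheory AlgebraicGeometry
universe u
open FBase

namespace Groth.Agent.S4643

section
open CategoryTheory CategoryTheory.Limits AlgebraicGeometry Groth.Agent

lemma iSup_coe {X : Scheme.{u}} [Nonempty X] :
    topologicalKrullDim X = ((⨆ x : X, Order.height x : ℕ∞) : WithBot ℕ∞) := by
  rw [DimTheory.topologicalKrullDim_eq_iSup_height, WithBot.coe_iSup (OrderTop.bddAbove _)]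

end

open CategoryTheory.Limits in
/-- Let X and Y be schemes locally of finite type over a field k. Then the dimension of X ×_k Y is the
sum of the dimensions of X and Y (Krull dimensions of the underlying spaces, valued in WithBot ℕ∞,
the empty scheme having dimension ⊥). -/
theorem result {k : Type u} [Field k] {X Y : Scheme.{u}}
    (f : X ⟶ Spec (CommRingCat.of k)) (g : Y ⟶ Spec (CommRingCat.of k)) [LocallyOfFiniteType f] [LocallyOfFiniteType g] :
    topologicalKrullDim ↥(pullback f g) = topologicalKrullDim ↥X + topologicalKrullDim ↥Y := by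
  haveI : Subsingleton ↥(Spec (CommRingCat.of k)) := inferInstanceAs (Subsingleton (PrimeSpectrum k))
  rcases isEmpty_or_nonempty X with hX | hX
  · haveI : IsEmpty ↥(pullback f g) := Function.isEmpty (pullback.fst f g)
    rw [DimTheory.topologicalKrullDim_eq_iSup_height (pullback f g), DimTheory.topologicalKrullDim_eq_iSup_height X, iSup_of_empty, iSup_of_empty, WithBot.bot_add]
  rcases isEmpty_or_nonempty Y with hY | hY
  · haveI : IsEmpty ↥(pullback f g) := Function.isEmpty (pullback.snd f g)
    rw [DimTheory.topologicalKrullDim_eq_iSup_height (pullback f g), DimTheory.topologicalKrullDim_eq_iSup_height Y, iSup_of_empty, iSup_of_empty, WithBot.add_bot]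
  have hfib : ∀ x : X, ∃ (e : ↥((pullback.fst f g).fiber x) → ↥(g.fiber (f x))),
      topologicalKrullDim ↥((pullback.fst f g).fiber x) = topologicalKrullDim ↥Y ∧
      ∀ y : Y, ∃ z : (pullback.fst f g).fiber x, Order.height y ≤ Order.height z := by
    intro x
    letI : Algebra ((Spec (CommRingCat.of k)).residueField (f x)) (X.residueField x) :=
      (f.residueFieldMap x).hom.toAlgebra
    let q := g.fiberToSpecResidueField (f x)
    haveI : LocallyOfFiniteType q := MorphismProperty.pullback_snd _ _ inferInstance
    have h := isPullback_fiberToSpecResidueField_of_isPullback (IsPullback.of_hasPullback f g).flip x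
    let e := h.isoPullback
    haveI : LocallyOfFiniteType (pullback.snd q (Spec.map (CommRingCat.ofHom (algebraMap ((Spec (CommRingCat.of k)).residueField (f x)) (X.residueField x))))) :=
      MorphismProperty.pullback_snd _ _ inferInstance
    have hi : Set.range (g.fiberι (f x)) = Set.univ := by
      rw [Scheme.Hom.range_fiberι]
      exact Set.eq_univ_of_forall fun y => Subsingleton.elim _ _
    have hY' : topologicalKrullDim ↥(g.fiber (f x)) = topologicalKrullDim ↥Y :=
      ((g.fiberι (f x)).isEmbedding.toHomeomorph.trans ((Homeomorph.setCongr hi).trans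
        (Homeomorph.Set.univ ↥Y))).isHomeomorph.topologicalKrullDim_eq _
    haveI : LocallyOfFiniteType ((pullback.fst f g).fiberToSpecResidueField x) :=
      MorphismProperty.pullback_snd _ _ inferInstance
    refine ⟨fun z => pullback.fst q _ (e.hom z), ?_, fun y => ?_⟩
    · rw [← hY', ← FieldExtDim.dim_pullback_field (k := (Spec (CommRingCat.of k)).residueField (f x)) (K := X.residueField x) q]
      exact e.hom.homeomorph.isHomeomorph.topologicalKrullDim_eq _
    · obtain ⟨m, hmy, hm⟩ := FlatMorLib.exists_maximal_generization y
      obtain ⟨v, hv⟩ : m ∈ Set.range (g.fiberι (f x)) := hi ▸ Set.mem_univ _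
      have hvmax : ∀ w, w ⤳ v → w = v := fun w hw => (g.fiberι (f x)).isEmbedding.injective
        ((hm _ (hv ▸ hw.map (g.fiberι (f x)).continuous)).trans hv.symm)
      obtain ⟨W, hW, hd⟩ := BCDim.exists_component_over (k := (Spec (CommRingCat.of k)).residueField (f x)) q (K := X.residueField x) hvmax
      rw [← DimTheory.component_eq_closure hW, DimTheory.topologicalKrullDim_closure,
        DimTheory.topologicalKrullDim_closure] at hd
      refine ⟨e.inv hW.1.genericPoint, ?_⟩
      have hv' : Order.height v = Order.height (g.fiberι (f x) v) :=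
        ((DimTheory.height_fiberι g (𝟙 _) (f x) v).trans (by
          rw [Order.height_eq_zero.2 fun b _ => (Subsingleton.elim b (f x)).ge, zero_add])).symm
      calc Order.height y ≤ Order.height (g.fiberι (f x) v) := hv.symm ▸ Order.height_mono (show y ≤ m from hmy)
        _ = Order.height hW.1.genericPoint := hv'.symm.trans (WithBot.coe_injective hd).symm
        _ = _ := (FieldExtDim.height_openImmersion
          ((pullback.fst f g).fiberToSpecResidueField x) e.inv _).symm
  rw [iSup_coe (X := X), iSup_coe (X := Y), ← WithBot.coe_add]
  haveI : Nonempty ↥(pullback f g) := by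
    obtain ⟨x⟩ := hX; obtain ⟨y⟩ := hY
    obtain ⟨z, -⟩ := Scheme.Pullback.exists_preimage_pullback (f := f) (g := g) x y (Subsingleton.elim _ _)
    exact ⟨z⟩
  rw [iSup_coe (X := pullback f g), WithBot.coe_inj]
  refine le_antisymm (iSup_le fun p => ?_) (ENat.iSup_add_iSup_le fun x y => ?_)
  · have h := DimTheory.height_fiberι (pullback.fst f g) f _ ((pullback.fst f g).asFiber p)
    rw [Scheme.Hom.fiberι_asFiber] at h
    rw [h]
    refine add_le_add (le_iSup (fun x : X => Order.height x) _) ?_
    obtain ⟨-, hd, -⟩ := hfib (pullback.fst f g p)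
    have : (Order.height ((pullback.fst f g).asFiber p) : WithBot ℕ∞) ≤ topologicalKrullDim ↥Y := by
      rw [← hd, DimTheory.topologicalKrullDim_eq_iSup_height]
      exact le_iSup (fun z => (Order.height z : WithBot ℕ∞)) _
    rw [iSup_coe] at this
    exact WithBot.coe_le_coe.1 this
  · obtain ⟨-, -, hz⟩ := hfib x
    obtain ⟨z, hz⟩ := hz y
    refine le_trans ?_ (le_iSup (fun p : ↥(pullback f g) => Order.height p) ((pullback.fst f g).fiberι x z))
    rw [DimTheory.height_fiberι (pullback.fst f g) f]
    exact add_le_add le_rfl hz

end Groth.Agent.S4643
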