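import Groth.Statements.S4645
import Groth.Agent.GeomConnExt.SplitField


set_option autoImplicit false
set_option backward.isDefEq.respectTransparency false
set_option backward.isDefEq.respectTransparency.types false
open CategoryTheory AlgebraicGeometry
universe u
open FBase

namespace Groth.Agent.S4645

section Pre
open AlgebraicGeometry CategoryTheory

lemma finiteDimensional_of_prop {k : Type u} [Field k] {X : Scheme.{u}} {f : X ⟶ Spec (CommRingCat.of k)} {x : X}
    (h : FBase.ResidueFieldProp f x (fun K _ _ => FiniteDimensional k (separableClosure k K)))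
    (φ : CommRingCat.of k ⟶ X.residueField x) (hφ : Spec.map φ = X.fromSpecResidueField x ≫ f) :
    letI := φ.hom.toAlgebra
    FiniteDimensional k (separableClosure k (X.residueField x)) := by
  obtain ⟨ψ, hψ, hP⟩ := h
  obtain rfl : ψ = φ.hom := congrArg CommRingCat.Hom.hom (Spec.map_injective (hψ.trans hφ.symm))
  exact hP

end Pre

/-- Let X be a scheme over a field k with finitely many connected components, each of which contains a
point x such that the separable algebraic closure of k in κ(x) has finite degree over k. Then there
is a finite separable extension k'' of k such that all connected components of X ⊗_k k'' are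
geometrically connected over k'': for every extension field K of k'' and every point x' of X ⊗_k
k'', the inverse image in (X ⊗_k k'') ⊗_{k''} K of the connected component of x' is connected. -/
theorem result {k : Type u} [Field k] {X : Scheme.{u}}
    (f : X ⟶ Spec (CommRingCat.of k)) [Finite (_root_.ConnectedComponents ↥X)]
    (hx : ∀ c : _root_.ConnectedComponents ↥X, ∃ x : X, _root_.ConnectedComponents.mk x = c ∧
      FBase.ResidueFieldProp f x (fun K _ _ => FiniteDimensional k (separableClosure k K))) :
    ∃ (k'' : Type u) (_ : Field k'') (_ : Algebra k k''), FiniteDimensional k k'' ∧ Algebra.IsSeparable k k'' ∧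
      ∀ (K : Type u) [Field K] [Algebra k'' K] (x' : ↥(FBase.bc f k'')),
        _root_.IsConnected (⇑(FBase.bcπ (FBase.bcStr f k'') K) ⁻¹' connectedComponent x') := by
  choose x hxc hxp using hx
  choose φ hφ using fun y : X => Spec.map_surjective (X.fromSpecResidueField y ≫ f)
  letI : ∀ y : X, Algebra k (X.residueField y) := fun y => (φ y).hom.toAlgebra
  haveI : ∀ c, FiniteDimensional k (separableClosure k (X.residueField (x c))) := fun c =>
    finiteDimensional_of_prop (hxp c) (φ _) (hφ _)
  obtain ⟨E, hE1, hE2, hsplit⟩ := GeomConnExt.exists_splitting_field (k := k) _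
    (fun c => separableClosure k (X.residueField (x c)))
  refine ⟨E, inferInstance, inferInstance, hE1, hE2, fun K _ _ x' => ?_⟩
  haveI : Algebra.IsAlgebraic k E := inferInstance
  let g := FBase.bcStr f E
  have hT : (FBase.bcπ f E ⁻¹' Set.range x).Finite := by
    rw [← Set.iUnion_singleton_eq_range, Set.preimage_iUnion]
    exact Set.finite_iUnion fun c => (GeomConnExt.natCard_fibre f (x c) (hφ _) E (hsplit c)).1
  obtain ⟨hclo, t, ⟨c, hc⟩, htx⟩ := GeomConnExt.exists_mem_connectedComponent _ hT (fun A hA hne =>
    GeomConnExt.clopen_meets_preimage (GeomConn.isOpenMap_fst f) (GeomConnExt.isClosedMap_bcπ f E) (Set.range x)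
      (fun b => ⟨_, ⟨_root_.ConnectedComponents.mk b, rfl⟩, _root_.ConnectedComponents.coe_eq_coe'.1 (hxc _)⟩) A hA hne) x'
  refine GeomConnExt.isConnected_preimage_of_algClosed g (AlgebraicClosure k) ?_ K
  exact GeomConnExt.isConnected_preimage_of_fibre (GeomConn.isOpenMap_fst g)
    (GeomConnExt.isClosedMap_bcπ g (AlgebraicClosure k)) (GeomConnExt.surjective_bcπ g _)
    isConnected_connectedComponent htx
    (GeomConnExt.geometric_fibre_subsingleton f (x c) (hφ _) E (hsplit c) t hc.symm)

end Groth.Agent.S4645
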