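import Groth.Statements.S4646
import Groth.Agent.GeomConnExt.SplitField
import Mathlib.AlgebraicGeometry.Morphisms.UniversallyOpen


set_option autoImplicit false
set_option backward.isDefEq.respectTransparency false
set_option backward.isDefEq.respectTransparency.types false
open CategoryTheory AlgebraicGeometry
universe u
open FBase

namespace Groth.Agent.S4646

section Pre
open AlgebraicGeometry CategoryTheory

lemma finiteDimensional_of_prop {k : Type u} [Field k] {X : Scheme.{u}} {f : X ⟶ Spec (CommRingCat.of k)} {x : X}
    (h : FBase.ResidueFieldProp f x (fun K _ _ => FiniteDimensional k (separableClosure k K)))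
    (φ : CommRingCat.of k ⟶ X.residueField x) (hφ : Spec.map φ = X.fromSpecResidueField x ≫ f) :
    letI := φ.hom.toAlgebra
    FiniteDimensional k (separableClosure k (X.residueField x)) := by
  obtain ⟨ψ, hψ, hP⟩ := h
  obtain rfl : ψ = φ.hom := congrArg CommRingCat.Hom.hom (Spec.map_injective (hψ.trans hφ.symm))
  exact hP

lemma eq_of_spec_max {X : Scheme.{u}} {x z : X} (hx : x ∈ genericPoints X) (h : z ⤳ x) : z = x := by
  have h2 : closure ({z} : Set X) ⊆ closure {x} := hx.2 isIrreducible_singleton.closure
    (closure_minimal (Set.singleton_subset_iff.2 h.mem_closure) isClosed_closure)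
  exact (h.antisymm (specializes_iff_mem_closure.2 (h2 (subset_closure rfl)))).eq

lemma mem_genericPoints_of_max {X : Scheme.{u}} {x : X} (h : ∀ z, z ⤳ x → z = x) :
    x ∈ genericPoints X := by
  obtain ⟨z, hz⟩ := QuasiSober.sober (isIrreducible_irreducibleComponent (x := x))
    isClosed_irreducibleComponent
  have := h z (hz.specializes mem_irreducibleComponent)
  subst this
  show closure {z} ∈ irreducibleComponents ↥X
  rw [hz.def]
  exact irreducibleComponent_mem_irreducibleComponents z

lemma mapsTo_of_flat {X Y : Scheme.{u}} (g : X ⟶ Y) [Flat g] {x : X} (hx : x ∈ genericPoints X) :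
    g x ∈ genericPoints Y :=
  mem_genericPoints_of_max fun z hz => by
    obtain ⟨w, hw, rfl⟩ := Flat.generalizingMap g hz
    rw [eq_of_spec_max hx hw]

end Pre

/-- Let X be a scheme over a field k having finitely many irreducible components, such that for the
generic point x of each irreducible component the separable algebraic closure of k in κ(x) has
finite degree over k. Then there is a finite separable extension L of k such that all irreducible
components of X ⊗_k L are geometrically irreducible over L: for every extension field K of L and
every irreducible component Z' of X ⊗_k L, the inverse image of Z' in (X ⊗_k L) ⊗_L K is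
irreducible. (No finite-type hypothesis on X.) -/
theorem result {k : Type u} [Field k] {X : Scheme.{u}}
    (f : X ⟶ Spec (CommRingCat.of k)) [Finite ↥(irreducibleComponents ↥X)]
    (hx : ∀ (Z : Set ↥X) (hZ : Z ∈ irreducibleComponents ↥X),
      FBase.ResidueFieldProp f hZ.1.genericPoint (fun K _ _ => FiniteDimensional k (separableClosure k K))) :
    ∃ (L : Type u) (_ : Field L) (_ : Algebra k L), FiniteDimensional k L ∧ Algebra.IsSeparable k L ∧
      ∀ (K : Type u) [Field K] [Algebra L K] (Z' : Set ↥(FBase.bc f L)), Z' ∈ irreducibleComponents ↥(FBase.bc f L) →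
        IsIrreducible (⇑(FBase.bcπ (FBase.bcStr f L) K) ⁻¹' Z') := by
  haveI : Finite ↥(genericPoints ↥X) :=
    Finite.of_injective _ (genericPoints.component_injective (α := ↥X))
  choose φ hφ using fun y : X => Spec.map_surjective (X.fromSpecResidueField y ≫ f)
  letI : ∀ y : X, Algebra k (X.residueField y) := fun y => (φ y).hom.toAlgebra
  haveI : ∀ q : ↥(genericPoints ↥X), FiniteDimensional k (separableClosure k (X.residueField q.1)) := fun q => by
    refine finiteDimensional_of_prop ?_ (φ _) (hφ _)
    have h := hx _ (genericPoints.component q).2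
    have e : ((genericPoints.component q).2.1).genericPoint = q.1 :=
      ((genericPoints.component q).2.1.isGenericPoint_genericPoint
        (isClosed_of_mem_irreducibleComponents _ (genericPoints.component q).2)).eq (genericPoints.isGenericPoint q)
    rwa [e] at h
  obtain ⟨E, hE1, hE2, hsplit⟩ := GeomConnExt.exists_splitting_field (k := k) _
    (fun q : ↥(genericPoints ↥X) => separableClosure k (X.residueField q.1))
  refine ⟨E, inferInstance, inferInstance, hE1, hE2, fun K _ _ Z' hZ' => ?_⟩
  let g := FBase.bcStr f E
  let p := (genericPoints.ofComponent ⟨Z', hZ'⟩).1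
  have hp : closure {p} = Z' := congrArg Subtype.val (genericPoints.component_ofComponent (⟨Z', hZ'⟩ : irreducibleComponents _))
  haveI : Flat (FBase.bcπ f E) := by unfold FBase.bcπ; infer_instance
  have hq : FBase.bcπ f E p ∈ genericPoints ↥X :=
    mapsTo_of_flat (FBase.bcπ f E) (genericPoints.ofComponent ⟨Z', hZ'⟩).2
  refine GeomConnExt.isIrreducible_preimage_of_algClosed g (AlgebraicClosure k) ?_ K
  have ho : IsOpenMap (FBase.bcπ g (AlgebraicClosure k)) := GeomConn.isOpenMap_fst g
  rw [← hp, ho.preimage_closure_eq_closure_preimage (FBase.bcπ g (AlgebraicClosure k)).continuous]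
  obtain ⟨z, hz⟩ := GeomConnExt.surjective_bcπ g (AlgebraicClosure k) p
  have hs := GeomConnExt.geometric_fibre_subsingleton f _ (hφ _) E (hsplit ⟨_, hq⟩) p rfl
  rw [hs.eq_singleton_of_mem (show z ∈ _ from hz)]
  exact isIrreducible_singleton.closure

end Groth.Agent.S4646
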