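import Groth.Statements.S4647
import Groth.Agent.Birat.Generic
import Mathlib.AlgebraicGeometry.Morphisms.Flat
import Mathlib.AlgebraicGeometry.Stalk
import Mathlib.RingTheory.Flat.FaithfullyFlat.Algebra

set_option autoImplicit false
open CategoryTheory AlgebraicGeometry
universe u
open FDesc

namespace Groth.Agent.S4647

/-- Let f : X → Y be a faithfully flat (flat and surjective) morphism. If all local rings of X are
domains (in particular if X is locally integral) and the underlying space of Y is locally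
Noetherian, then Y is locally integral: every point of Y has an open neighbourhood which is an
integral scheme. -/
theorem result {X Y : Scheme.{u}} (f : X ⟶ Y) [Flat f] [Surjective f]
    (hX : ∀ x : X, IsDomain ↑(X.presheaf.stalk x))
    (hY : ∀ y : Y, ∃ U : Y.Opens, y ∈ U ∧ TopologicalSpace.NoetherianSpace ↥U) (y : Y) :
    ∃ U : Y.Opens, y ∈ U ∧ IsIntegral (U : Scheme.{u}) := by
  classical
  haveI hYdom : ∀ z : Y, IsDomain (Y.presheaf.stalk z) := fun z => by
    obtain ⟨x, rfl⟩ := f.surjective z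
    haveI := hX x
    letI := (f.stalkMap x).hom.toAlgebra
    haveI : Module.Flat (Y.presheaf.stalk (f x)) (X.presheaf.stalk x) := Flat.stalkMap f x
    haveI : IsLocalHom (algebraMap (Y.presheaf.stalk (f x)) (X.presheaf.stalk x)) :=
      inferInstanceAs (IsLocalHom (f.stalkMap x).hom)
    haveI : Module.FaithfullyFlat (Y.presheaf.stalk (f x)) (X.presheaf.stalk x) :=
      Module.FaithfullyFlat.of_flat_of_isLocalHom
    exact Function.Injective.isDomain (f.stalkMap x).hom (FaithfulSMul.algebraMap_injective (Y.presheaf.stalk (f x)) (X.presheaf.stalk x))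
  haveI : IsReduced Y := isReduced_of_isReduced_stalk Y
  obtain ⟨W, hyW, hWn⟩ := hY y
  haveI : TopologicalSpace.NoetherianSpace W.toScheme := hWn
  have hfin : (irreducibleComponents (W.toScheme : Type u)).Finite :=
    TopologicalSpace.NoetherianSpace.finite_irreducibleComponents
  let y' : W.toScheme := ⟨y, hyW⟩
  haveI : IsDomain (W.toScheme.presheaf.stalk y') :=
    Function.Injective.isDomain (W.stalkIso y').hom.hom
      ((ConcreteCategory.isIso_iff_bijective (W.stalkIso y').hom).mp inferInstance).1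
  obtain ⟨m, hm, hmy⟩ := Groth.Agent.Birat.exists_max_specializes y'
  have huniq : ∀ m' ∈ Groth.Agent.Birat.Max W.toScheme, m' ⤳ y' → m' = m := by
    intro m' hm' hm'y
    obtain ⟨p, hp⟩ : m ∈ Set.range (W.toScheme.fromSpecStalk y') := by
      rw [Scheme.range_fromSpecStalk]; exact hmy
    obtain ⟨p', hp'⟩ : m' ∈ Set.range (W.toScheme.fromSpecStalk y') := by
      rw [Scheme.range_fromSpecStalk]; exact hm'y
    have h0 := ((genericPoint_specializes p).map (W.toScheme.fromSpecStalk y').continuous)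
    have h0' := ((genericPoint_specializes p').map (W.toScheme.fromSpecStalk y').continuous)
    rw [hp] at h0
    rw [hp'] at h0'
    exact (Groth.Agent.Birat.eq_of_specializes_max hm' h0').symm.trans
      (Groth.Agent.Birat.eq_of_specializes_max hm h0)
  have hyex : y' ∈ Groth.Agent.Birat.excl W.toScheme m := fun h => by
    obtain ⟨m', hm', hmem⟩ := Set.mem_iUnion₂.mp h
    exact hm'.2 (huniq m' hm'.1 (specializes_iff_mem_closure.mpr hmem))
  let U₀ : W.toScheme.Opens := ⟨_, Groth.Agent.Birat.isOpen_excl hfin m⟩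
  refine ⟨W.ι ''ᵁ U₀, ⟨y', hyex, rfl⟩, ?_⟩
  haveI : IsReduced U₀.toScheme := isReduced_of_isOpenImmersion U₀.ι
  have hclo : ∀ z ∈ U₀, m ⤳ z := by
    intro z hz
    obtain ⟨n, hn, hnz⟩ := Groth.Agent.Birat.exists_max_specializes z
    have : n = m := by
      by_contra hne
      exact hz (Set.mem_iUnion₂.mpr ⟨n, ⟨hn, hne⟩, hnz.mem_closure⟩)
    exact this ▸ hnz
  haveI : Nonempty U₀.toScheme := ⟨⟨y', hyex⟩⟩
  haveI : PreirreducibleSpace U₀.toScheme := by
    refine ⟨fun u v hu hv ⟨a, _, ha⟩ ⟨b, _, hb⟩ => ⟨⟨m, Groth.Agent.Birat.mem_excl hm⟩, trivial, ?_, ?_⟩⟩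
    · exact ((U₀.ι.isOpenEmbedding.isInducing.specializes_iff (x := (⟨m, Groth.Agent.Birat.mem_excl hm⟩ : U₀)) (y := a)).mp
        (hclo a.1 a.2)).mem_open hu ha
    · exact ((U₀.ι.isOpenEmbedding.isInducing.specializes_iff (x := (⟨m, Groth.Agent.Birat.mem_excl hm⟩ : U₀)) (y := b)).mp
        (hclo b.1 b.2)).mem_open hv hb
  haveI : IrreducibleSpace U₀.toScheme := ⟨inferInstance⟩
  haveI : IsIntegral U₀.toScheme := isIntegral_of_irreducibleSpace_of_isReduced _
  haveI : Nonempty (W.ι ''ᵁ U₀ : Y.Opens).toScheme := ⟨⟨y, ⟨y', hyex, rfl⟩⟩⟩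
  exact isIntegral_of_isOpenImmersion (W.ι.isoImage U₀).inv


end Groth.Agent.S4647
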