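import Mathlib
import Groth.Agent.S15542
import Groth.Agent.S3398
import Groth.Agent.S3400
import Groth.Agent.S2495
import Groth.Agent.QuasiFlatLib.Basic
import Groth.Agent.FpqcDescent.Specialization
import Groth.Statements.S4648
-- import your own Groth.Agent.* helpers here

set_option autoImplicit false
set_option backward.isDefEq.respectTransparency false
set_option backward.isDefEq.respectTransparency.types false
open CategoryTheory AlgebraicGeometry
universe u
open FDesc

namespace Groth.Agent.S4648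

/-- Let f : X → Y be a quasi-flat, surjective and quasi-compact morphism and Z a subset of Y. Then Z is
a locally closed pro-constructible subset of Y if and only if f⁻¹(Z) is a locally closed
pro-constructible subset of X. -/
theorem result {X Y : Scheme.{u}} (f : X ⟶ Y)
    (hf : FDesc.IsQuasiFlat f) [Surjective f] [QuasiCompact f] (Z : Set ↥Y) :
    (IsLocallyClosed Z ∧ ProCons.IsProConstructible Z) ↔
      (IsLocallyClosed (⇑f ⁻¹' Z) ∧ ProCons.IsProConstructible (⇑f ⁻¹' Z)) := by
  refine ⟨fun ⟨h1, h2⟩ => ⟨h1.preimage f.continuous, Groth.Agent.S15542.result f Z h2⟩, fun ⟨h1, h2⟩ => ?_⟩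
  have hsurj : Function.Surjective f := f.surjective
  have hZ : ProCons.IsProConstructible Z := by
    have := Groth.Agent.S3398.result f _ h2
    rwa [show f.base '' (⇑f ⁻¹' Z) = Z from Set.image_preimage_eq Z hsurj] at this
  have hcl : ⇑f ⁻¹' closure Z = closure (⇑f ⁻¹' Z) := by
    refine Set.Subset.antisymm (fun x hx => ?_) (f.continuous.closure_preimage_subset Z)
    obtain ⟨_, ⟨V, hV, rfl⟩, hxV, -⟩ : ∃ W ∈ (fun V : Y.Opens => (V : Set Y)) '' {V : Y.Opens | IsAffineOpen V}, f x ∈ W ∧ W ⊆ Set.univ :=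
      (Scheme.isBasis_affineOpens Y).exists_subset_of_mem_open (Set.mem_univ (f x)) isOpen_univ
    haveI : IsAffine (V : Y.Opens).toScheme := hV
    obtain ⟨X', g, _, hg⟩ := (Groth.Agent.S3400.result (V : Y.Opens).toScheme _).1 (Groth.Agent.S15542.result (V : Y.Opens).ι Z hZ)
    have hmem : (⟨f x, hxV⟩ : (V : Y.Opens).toScheme) ∈ closure (Set.range g) := by
      rw [show Set.range g = (V : Y.Opens).ι.base ⁻¹' Z from hg, ← (V : Y.Opens).ι.isOpenEmbedding.isOpenMap.preimage_closure_eq_closure_preimage (V : Y.Opens).ι.continuous]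
      exact hx
    obtain ⟨w, hw⟩ := Groth.Agent.FpqcDescent.exists_specializes_of_mem_closure_range g hmem
    have hwZ : (V : Y.Opens).ι (g w) ∈ Z := by
      show g w ∈ (V : Y.Opens).ι.base ⁻¹' Z
      rw [← hg]; exact ⟨w, rfl⟩
    have hs : (V : Y.Opens).ι (g w) ⤳ f x := hw.map (V : Y.Opens).ι.continuous
    obtain ⟨x', hx', hfx⟩ := Groth.Agent.QuasiFlatLib.generalizingMap hf hs
    exact closure_mono (Set.singleton_subset_iff.2 (show x' ∈ ⇑f ⁻¹' Z by rw [Set.mem_preimage, hfx]; exact hwZ)) (specializes_iff_mem_closure.1 hx')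
  refine ⟨?_, hZ⟩
  rw [isLocallyClosed_iff_isOpen_coborder] at h1 ⊢
  have hq := Groth.Agent.S2495.result f hf
  rw [← hq.isOpen_preimage]
  rwa [show f.base ⁻¹' coborder Z = coborder (⇑f ⁻¹' Z) by
    simp only [coborder, Set.preimage_compl, Set.preimage_sdiff]
    rw [show f.base ⁻¹' closure Z = closure (⇑f ⁻¹' Z) from hcl]]

end Groth.Agent.S4648
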