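import Groth.Statements.S4650
import Groth.Agent.FpqcDescent.Basic
import Mathlib.AlgebraicGeometry.Morphisms.FlatDescent


set_option autoImplicit false
open CategoryTheory AlgebraicGeometry
universe u
open FDesc

namespace Groth.Agent.S4650

/-- Let f : X → Y be a morphism of schemes along which generizations lift (this holds for flat,
quasi-flat or open morphisms). Then every irreducible component of X dominates an irreducible
component of Y: the closure of its image is an irreducible component of Y. -/
theorem result {X Y : Scheme.{u}} (f : X ⟶ Y)
    (hf : GeneralizingMap ⇑f) (T : Set ↥X) (hT : T ∈ irreducibleComponents ↥X) :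
    closure (⇑f '' T) ∈ irreducibleComponents ↥Y := by
  obtain ⟨η, hη⟩ := QuasiSober.sober hT.1 (isClosed_of_mem_irreducibleComponents T hT)
  refine ⟨(hT.1.image _ f.continuous.continuousOn).closure, fun C hC hle ↦ ?_⟩
  obtain ⟨c, hc⟩ := QuasiSober.sober hC.closure isClosed_closure
  have hfη : c ⤳ f η := hc.specializes (subset_closure ((hle (show f η ∈ closure (f '' T) from subset_closure (Set.mem_image_of_mem _ hη.mem)))))
  obtain ⟨η', hη', rfl⟩ := hf hfη
  have : η' ∈ T := by
    refine hT.2 (isIrreducible_singleton.closure) ?_ (subset_closure rfl)
    rw [← hη.def]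
    exact closure_minimal (Set.singleton_subset_iff.mpr (specializes_iff_mem_closure.mp hη'))
      isClosed_closure
  intro y hy
  exact closure_mono (Set.singleton_subset_iff.mpr (show f η' ∈ f '' T from ⟨η', this, rfl⟩)) (hc.def.ge (subset_closure hy))

end Groth.Agent.S4650
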