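import Mathlib
import Groth.Statements.S4651
-- import your own Groth.Agent.* helpers here

set_option autoImplicit false
set_option backward.isDefEq.respectTransparency false
set_option backward.isDefEq.respectTransparency.types false
open CategoryTheory AlgebraicGeometry
universe u
open FDesc

namespace Groth.Agent.S4651

/-- Let Y be a scheme whose family of irreducible components is locally finite (every point has an open
neighbourhood meeting only finitely many irreducible components), and let f : X → Y be a morphism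
along which generizations lift (e.g. flat, quasi-flat or open) such that every fibre f⁻¹(y) is a
finite set (e.g. f quasi-finite or radicial). Then the family of irreducible components of X is
locally finite. -/
theorem result {X Y : Scheme.{u}} (f : X ⟶ Y)
    (hY : ∀ y : Y, ∃ U : Set ↥Y, IsOpen U ∧ y ∈ U ∧ {Z ∈ irreducibleComponents ↥Y | (Z ∩ U).Nonempty}.Finite)
    (hf : GeneralizingMap ⇑f) (hfin : ∀ y : Y, (⇑f ⁻¹' {y}).Finite) (x : X) :
    ∃ U : Set ↥X, IsOpen U ∧ x ∈ U ∧ {T ∈ irreducibleComponents ↥X | (T ∩ U).Nonempty}.Finite := by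
  obtain ⟨U, hU, hxU, hUfin⟩ := hY (f x)
  refine ⟨f ⁻¹' U, hU.preimage f.continuous, hxU, ?_⟩
  have hgen : {t : X | f t ∈ ⋃ Z ∈ {Z ∈ irreducibleComponents ↥Y | (Z ∩ U).Nonempty}, {η | closure {η} = Z}}.Finite := by
    have h1 : (⋃ Z ∈ {Z ∈ irreducibleComponents ↥Y | (Z ∩ U).Nonempty}, {η : Y | closure {η} = Z}).Finite :=
      hUfin.biUnion fun Z _ => Set.Subsingleton.finite fun a ha b hb =>
        IsGenericPoint.eq (S := Z) ha hb
    exact h1.preimage' fun y _ => hfin y
  refine (hgen.image fun t => closure {t}).subset ?_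
  rintro T ⟨hT, z, hzT, hzU⟩
  obtain ⟨t, ht⟩ := QuasiSober.sober hT.1 (isClosed_of_mem_irreducibleComponents T hT)
  have htU : t ∈ f ⁻¹' U := (ht.specializes hzT).mem_open (hU.preimage f.continuous) hzU
  refine ⟨t, Set.mem_iUnion₂.2 ⟨closure {f t}, ⟨⟨isIrreducible_singleton.closure, fun S hS hle => ?_⟩,
    f t, subset_closure rfl, htU⟩, rfl⟩, ht⟩
  obtain ⟨η, hη⟩ := QuasiSober.sober hS.closure isClosed_closure
  have h2 : η ⤳ f t := hη.specializes (subset_closure (hle (subset_closure rfl)))
  obtain ⟨t', ht', hft'⟩ := hf h2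
  have h3 : closure {t'} ≤ T := hT.2 isIrreducible_singleton.closure (ht ▸ closure_minimal
    (Set.singleton_subset_iff.2 ((ht' : t' ⤳ t).mem_closure)) isClosed_closure)
  have h4 : t ⤳ t' := ht.specializes (h3 (subset_closure rfl))
  rw [((ht' : t' ⤳ t).antisymm h4).eq] at hft'
  intro a ha
  rw [hft', hη]
  exact subset_closure ha

end Groth.Agent.S4651
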