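import Groth.Statements.S4652
import Groth.Agent.FinLocFreeSections.Basic


set_option autoImplicit false
open CategoryTheory AlgebraicGeometry
universe u
open FDesc

namespace Groth.Agent.S4652

/-- Let X be a scheme, F a finitely presented O_X-module and x a point of X. Then F_x is a flat module
over the local ring O_{X,x} if and only if x has an open neighbourhood U such that the restriction
of F to U is finite locally free. -/
theorem result {X : Scheme.{u}} (F : X.Modules) (hF : CohB1.IsFP F) (x : X) :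
    FlatMod.IsFlatAt F x ↔ ∃ U : X.Opens, x ∈ U ∧ FlatMod.IsFinLocFree ((Scheme.Modules.pullback U.ι).obj F) := by
  haveI hq : F.IsQuasicoherent := @SheafOfModules.IsQuasicoherent.mk _ _ _ _ _ _ F
    ⟨(@SheafOfModules.IsFinitePresentation.exists_quasicoherentData _ _ _ _ _ _ F hF).choose⟩
  constructor
  · intro h
    obtain ⟨U, n, hx, ⟨t⟩⟩ := Groth.Agent.FlatOverBC.exists_iso_freeMod F hF x h
    exact ⟨U, hx, Groth.Agent.TensorMod.isFinLocFree_of_iso
      (((Scheme.Modules.restrictFunctorIsoPullback U.ι).app F).symm ≪≫ t).symm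
      (Groth.Agent.TensorMod.isFinLocFree_freeMod _ n)⟩
  · rintro ⟨U, hx, h⟩
    have h' := Groth.Agent.TensorMod.isFinLocFree_of_iso
      ((Scheme.Modules.restrictFunctorIsoPullback U.ι).app F).symm h
    obtain ⟨W, n, hxW, ⟨t⟩⟩ := h' ⟨x, hx⟩
    obtain ⟨_, ⟨V₀, hV, rfl⟩, hxV, hVle⟩ := (U : Scheme.{u}).isBasis_affineOpens.exists_subset_of_mem_open hxW W.isOpen
    let V : (U : Scheme.{u}).Opens := V₀
    let j := V.ι ≫ U.ι
    let O := U.ι ''ᵁ V
    have hrange : Set.range O.ι = Set.range j := by
      simp [j, O, Set.range_comp]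
    let e := IsOpenImmersion.isoOfRangeEq O.ι j hrange
    let t' : F.restrict O.ι ≅ FlatMod.freeMod (O : Scheme.{u}) n :=
      ((Scheme.Modules.restrictFunctorCongr (IsOpenImmersion.isoOfRangeEq_hom_fac O.ι j hrange).symm ≪≫
        Scheme.Modules.restrictFunctorComp e.hom j).app F) ≪≫
      (Scheme.Modules.restrictFunctor e.hom).mapIso
        ((Scheme.Modules.restrictFunctorComp V.ι U.ι).app F ≪≫
          Groth.Agent.TensorMod.freeRestrict hVle t) ≪≫
      Groth.Agent.TensorMod.restrictFreeModIso e.hom n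
    have hO : IsAffineOpen O := hV.image_of_isOpenImmersion U.ι
    haveI := Groth.Agent.FinLocFreeSections.free_sections F hO t'
    exact Groth.Agent.FinLocFreeSections.flat_stalk_of_flat_sections F hO (⟨⟨x, hx⟩, hxV, rfl⟩ : x ∈ O)

end Groth.Agent.S4652
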