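import Groth.Statements.S6304
import Mathlib

set_option autoImplicit false
universe u
open CAlg

namespace Groth.Agent.S6304
open TensorProduct

/-- In a short exact sequence 0 → M' → M → M'' → 0 of R-modules whose right-hand term M'' is flat, the
middle term M is flat when M' is, and M' is flat when M is. -/
theorem result {R : Type u} [CommRing R] {M' M M'' : Type u} [AddCommGroup M'] [Module R M'] [AddCommGroup M] [Module R M] [AddCommGroup M''] [Module R M''] (f : M' →ₗ[R] M) (g : M →ₗ[R] M'') (hf : Function.Injective f) (hexact : Function.Exact f g) (hg : Function.Surjective g) [Module.Flat R M''] : (Module.Flat R M' → Module.Flat R M) ∧ (Module.Flat R M → Module.Flat R M') := by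
  constructor <;> intro h
  · rw [Module.Flat.iff_rTensor_preserves_injective_linearMap]
    intro N N' _ _ _ _ φ hφ
    rw [injective_iff_map_eq_zero]
    intro x hx
    have h1 : φ.rTensor M'' (g.lTensor N x) = 0 := by
      rw [← LinearMap.comp_apply, LinearMap.rTensor_comp_lTensor, ← LinearMap.lTensor_comp_rTensor, LinearMap.comp_apply, hx, map_zero]
    have h2 : g.lTensor N x = 0 :=
      (Module.Flat.rTensor_preserves_injective_linearMap φ hφ) (by rw [h1, map_zero])
    obtain ⟨y, rfl⟩ := (lTensor_exact N hexact hg _).1 h2
    have h3 : f.lTensor N' (φ.rTensor M' y) = 0 := by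
      rw [← LinearMap.comp_apply, LinearMap.lTensor_comp_rTensor, ← LinearMap.rTensor_comp_lTensor, LinearMap.comp_apply, hx]
    have h4 : Function.Injective (f.lTensor N') :=
      LinearMap.lTensor_injective_of_exact_of_flat g hg f hf hexact N'
    have h5 : y = 0 := (Module.Flat.rTensor_preserves_injective_linearMap φ hφ) (h4 (by rw [h3, map_zero, map_zero]))
    simp [h5]
  · rw [Module.Flat.iff_rTensor_preserves_injective_linearMap]
    intro N N' _ _ _ _ φ hφ
    have h4 : Function.Injective (f.lTensor N) :=
      LinearMap.lTensor_injective_of_exact_of_flat g hg f hf hexact N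
    have h5 : Function.Injective ((φ.rTensor M).comp (f.lTensor N)) :=
      (Module.Flat.rTensor_preserves_injective_linearMap φ hφ).comp h4
    replace h5 : Function.Injective ((φ.rTensor M).comp (f.lTensor N)) := h5
    rw [LinearMap.rTensor_comp_lTensor, ← LinearMap.lTensor_comp_rTensor, LinearMap.coe_comp] at h5
    exact Function.Injective.of_comp (f := f.lTensor N') h5

end Groth.Agent.S6304
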