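import Groth.Statements.S4654
import Groth.Agent.FlatOver.Basic
import Groth.Agent.S6304
import Groth.Agent.QCohBase.Exact


set_option autoImplicit false
set_option backward.isDefEq.respectTransparency.types false
open CategoryTheory AlgebraicGeometry
universe u
open FDesc

namespace Groth.Agent.S4654

open Groth.Agent.FlatOver

/-- Let f : X → Y be a morphism of schemes and 0 → F' → F → F'' → 0 a short exact sequence of
quasi-coherent O_X-modules such that F'' is flat over Y. Then F is flat over Y if and only if F' is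
flat over Y. -/
theorem result {X Y : Scheme.{u}} (f : X ⟶ Y) (S : ShortComplex X.Modules)
    (hS : S.ShortExact) (h₁ : Coh.IsQCoh S.X₁) (h₂ : Coh.IsQCoh S.X₂) (h₃ : Coh.IsQCoh S.X₃)
    (hflat : FlatMod.IsFlatOver f S.X₃) :
    FlatMod.IsFlatOver f S.X₂ ↔ FlatMod.IsFlatOver f S.X₁ := by
  haveI : S.X₁.IsQuasicoherent := h₁
  haveI : S.X₂.IsQuasicoherent := h₂
  haveI : S.X₃.IsQuasicoherent := h₃
  haveI := hS.mono_f
  have key : ∀ x : X, ∃ (U : X.Opens) (V : Y.Opens) (e : U ≤ f ⁻¹ᵁ V), IsAffineOpen U ∧ IsAffineOpen V ∧ x ∈ U := by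
    intro x
    obtain ⟨V, hV, hxV, -⟩ := exists_isAffineOpen_mem_and_subset (x := f x) (U := ⊤) trivial
    obtain ⟨U, hU, hxU, hUV⟩ := exists_isAffineOpen_mem_and_subset (x := x) (U := f ⁻¹ᵁ V) hxV
    exact ⟨U, V, hUV, hU, hV, hxU⟩
  have main : ∀ (U : X.Opens) (V : Y.Opens) (e : U ≤ f ⁻¹ᵁ V), IsAffineOpen U → IsAffineOpen V →
      ((letI := baseModule f S.X₁ e; Module.Flat Γ(Y, V) Γ(S.X₁, U)) ↔
      (letI := baseModule f S.X₂ e; Module.Flat Γ(Y, V) Γ(S.X₂, U))) := by
    intro U V e hU hV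
    letI := baseModule f S.X₁ e
    letI := baseModule f S.X₂ e
    letI := baseModule f S.X₃ e
    haveI : Module.Flat Γ(Y, V) Γ(S.X₃, U) :=
      flat_of_isFlatOverAt f S.X₃ e hU hV fun x _ => hflat x
    let a : Γ(S.X₁, U) →ₗ[Γ(Y, V)] Γ(S.X₂, U) :=
      { toFun := S.f.app U, map_add' := map_add _, map_smul' := fun r s => Scheme.Modules.Hom.app_smul S.f (f.appLE V U e r) s }
    let b : Γ(S.X₂, U) →ₗ[Γ(Y, V)] Γ(S.X₃, U) :=
      { toFun := S.g.app U, map_add' := map_add _, map_smul' := fun r s => Scheme.Modules.Hom.app_smul S.g (f.appLE V U e r) s }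
    have hexact : Function.Exact a b := by
      intro s
      refine ⟨Groth.Agent.QCohBase.sections_exact_left hS.exact s, ?_⟩
      rintro ⟨t, rfl⟩
      change S.g.app U (S.f.app U t) = 0
      rw [← ConcreteCategory.comp_apply, ← Scheme.Modules.Hom.comp_app, S.zero]
      rfl
    have := Groth.Agent.S6304.result a b (Groth.Agent.QCohBase.app_injective_of_mono S.f U) hexact
      (Groth.Agent.QCohBase.sections_surjective_affine hS h₁ hU)
    exact ⟨this.1, this.2⟩
  constructor
  · intro h x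
    obtain ⟨U, V, e, hU, hV, hxU⟩ := key x
    exact isFlatOverAt_of_flat f S.X₁ e hU hV x hxU
      ((main U V e hU hV).2 (flat_of_isFlatOverAt f S.X₂ e hU hV fun y _ => h y))
  · intro h x
    obtain ⟨U, V, e, hU, hV, hxU⟩ := key x
    exact isFlatOverAt_of_flat f S.X₂ e hU hV x hxU
      ((main U V e hU hV).1 (flat_of_isFlatOverAt f S.X₁ e hU hV fun y _ => h y))

end Groth.Agent.S4654
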