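import Groth.Agent.FlatOverBC.Scheme
import Groth.Agent.FpqcDescent.Flat
import Groth.Statements.S4655
-- import your own Groth.Agent.* helpers here

set_option autoImplicit false
set_option backward.isDefEq.respectTransparency false
set_option backward.isDefEq.respectTransparency.types false
open CategoryTheory AlgebraicGeometry
universe u
open FDesc
open TensorProduct

namespace Groth.Agent.S4655

/-- Let f : X → Y be a faithfully flat morphism (flat and surjective), g : Y → Z a morphism and G a
quasi-coherent O_Y-module. Then G is flat over Z if and only if the inverse image f^*G is flat over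
Z with respect to the composite morphism X → Z. -/
theorem result {X Y Z : Scheme.{u}} (f : X ⟶ Y) (g : Y ⟶ Z) [Flat f] [Surjective f]
    (G : Y.Modules) (hG : Coh.IsQCoh G) :
    FlatMod.IsFlatOver g G ↔ FlatMod.IsFlatOver (f ≫ g) ((Scheme.Modules.pullback f).obj G) := by
  have key : ∀ x : X, FlatMod.IsFlatOverAt g G (f x) ↔ FlatMod.IsFlatOverAt (f ≫ g) ((Scheme.Modules.pullback f).obj G) x := by
    intro x
    let A := Z.presheaf.stalk (g (f x))
    let B := Y.presheaf.stalk (f x)
    let C := X.presheaf.stalk x
    let M := G.presheaf.stalk (f x)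
    letI : Algebra A B := (g.stalkMap (f x)).hom.toAlgebra
    letI : Algebra B C := (f.stalkMap x).hom.toAlgebra
    letI : Algebra A C := ((f ≫ g).stalkMap x).hom.toAlgebra
    haveI : IsScalarTower A B C := IsScalarTower.of_algebraMap_eq fun r => by
      show ((f ≫ g).stalkMap x).hom r = (f.stalkMap x).hom ((g.stalkMap (f x)).hom r)
      rw [Scheme.Hom.stalkMap_comp]; rfl
    haveI : Module.FaithfullyFlat B C :=
      Groth.Agent.FpqcDescent.faithfullyFlat_stalkMap f x (Flat.stalkMap f x)
    letI mM : Module A M := FlatMod.moduleStalkOver g G (f x)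
    haveI : IsScalarTower A B M := .of_algebraMap_smul fun r m => rfl
    let e : ((Scheme.Modules.pullback f).obj G).presheaf.stalk x ≃ₗ[C] C ⊗[B] M :=
      ((Groth.Agent.DCohBridge.stalkPullIso f x).app G).toLinearEquiv
    letI mA : Module A (((Scheme.Modules.pullback f).obj G).presheaf.stalk x) := FlatMod.moduleStalkOver (f ≫ g) ((Scheme.Modules.pullback f).obj G) x
    have hsm : ∀ (r : A) (m : ((Scheme.Modules.pullback f).obj G).presheaf.stalk x), e (r • m) = r • e m :=
      fun r m => (e.map_smul (((f ≫ g).stalkMap x).hom r) m).trans (algebraMap_smul C r (e m))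
    let eA : ((Scheme.Modules.pullback f).obj G).presheaf.stalk x ≃ₗ[A] C ⊗[B] M :=
      { e.toAddEquiv with map_smul' := hsm }
    constructor
    · intro h
      haveI : Module.Flat A M := h
      haveI := Groth.Agent.FlatOverBC.flat_tensor_of_flat A B C M
      have hh : Module.Flat A (((Scheme.Modules.pullback f).obj G).presheaf.stalk x) := Module.Flat.of_linearEquiv eA
      exact hh
    · intro h
      haveI : Module.Flat A (((Scheme.Modules.pullback f).obj G).presheaf.stalk x) := h
      haveI : Module.Flat A (C ⊗[B] M) := Module.Flat.of_linearEquiv eA.symm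
      exact Groth.Agent.FlatOverBC.flat_of_flat_baseChange A B C M
  refine ⟨fun h x => (key x).1 (h (f x)), fun h y => ?_⟩
  obtain ⟨x, rfl⟩ := f.surjective y
  exact (key x).2 (h x)

end Groth.Agent.S4655
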