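import Groth.Statements.S4672
import Mathlib.AlgebraicGeometry.Morphisms.UniversallyOpen
import Mathlib.AlgebraicGeometry.IdealSheaf.Subscheme
import Mathlib.AlgebraicGeometry.PullbackCarrier


set_option autoImplicit false
set_option backward.isDefEq.respectTransparency false
set_option backward.isDefEq.respectTransparency.types false
open CategoryTheory AlgebraicGeometry
universe u
open FBase

namespace Groth.Agent.S4672

section
open CategoryTheory CategoryTheory.Limits AlgebraicGeometry Topology

lemma eq_of_spec_max {X : Scheme.{u}} {C : Set X} (hC : C ∈ irreducibleComponents ↥X) {x z : X}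
    (hx : IsGenericPoint x C) (h : z ⤳ x) : z = x := by
  have h2 : closure ({z} : Set X) ⊆ C := hC.2 isIrreducible_singleton.closure
    (by rw [← hx.def]; exact closure_minimal (Set.singleton_subset_iff.2 h.mem_closure) isClosed_closure)
  exact (h.antisymm (hx.specializes (h2 (subset_closure rfl)))).eq

lemma flat_toField {k : Type u} [Field k] {X : Scheme.{u}} (f : X ⟶ Spec (CommRingCat.of k)) : Flat f := by
  haveI : Subsingleton ↥(Spec (CommRingCat.of k)) := inferInstanceAs (Subsingleton (PrimeSpectrum k))
  infer_instance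

lemma component_of_flat {X Z : Scheme.{u}} (p : Z ⟶ X) [Flat p] {W : Set Z}
    (hW : W ∈ irreducibleComponents ↥Z) :
    ∃ X' ∈ irreducibleComponents ↥X, W ⊆ ⇑p ⁻¹' X' := by
  obtain ⟨w, hw⟩ := QuasiSober.sober hW.1 (isClosed_of_mem_irreducibleComponents _ hW)
  refine ⟨_, irreducibleComponent_mem_irreducibleComponents (p w), fun z hz => ?_⟩
  exact ((hw.specializes hz).map p.continuous).mem_closed isClosed_irreducibleComponent
    mem_irreducibleComponent

/-- Going down along the projection, inside the preimage of a closed subset of the other factor. -/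
lemma exists_lift {k : Type u} [Field k] {X Y : Scheme.{u}} (f : X ⟶ Spec (CommRingCat.of k))
    (g : Y ⟶ Spec (CommRingCat.of k)) {C : Set Y} (hC : IsClosed C) {w : ↥(pullback f g)}
    (hw : pullback.snd f g w ∈ C) {ξ : X} (hξ : ξ ⤳ pullback.fst f g w) :
    ∃ z, z ⤳ w ∧ pullback.fst f g z = ξ ∧ pullback.snd f g z ∈ C := by
  let I := Scheme.IdealSheafData.vanishingIdeal ⟨C, hC⟩
  let i := I.subschemeι
  have hi : Set.range i = C := by
    rw [Scheme.IdealSheafData.range_subschemeι, Scheme.IdealSheafData.coe_support_vanishingIdeal]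
    rfl
  haveI : Flat (i ≫ g) := flat_toField _
  have sq : IsPullback (pullback.fst (pullback.snd f g) i ≫ pullback.fst f g)
      (pullback.snd (pullback.snd f g) i) f (i ≫ g) :=
    (IsPullback.of_hasPullback (pullback.snd f g) i).paste_horiz (IsPullback.of_hasPullback f g)
  haveI : Flat (pullback.fst (pullback.snd f g) i ≫ pullback.fst f g) :=
    MorphismProperty.of_isPullback sq.flip inferInstance
  obtain ⟨a, ha⟩ : w ∈ Set.range (pullback.fst (pullback.snd f g) i) := by
    rw [Scheme.Pullback.range_fst, hi]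
    exact hw
  obtain ⟨b, hb, hb'⟩ := Flat.generalizingMap (pullback.fst (pullback.snd f g) i ≫ pullback.fst f g)
    (show ξ ⤳ (pullback.fst (pullback.snd f g) i ≫ pullback.fst f g) a by
      rw [Scheme.Hom.comp_apply, ha]; exact hξ)
  refine ⟨pullback.fst (pullback.snd f g) i b, ha ▸ hb.map (pullback.fst _ i).continuous,
    (Scheme.Hom.comp_apply _ _ _).symm.trans hb', ?_⟩
  rw [← hi]
  exact ⟨pullback.snd (pullback.snd f g) i b, by
    rw [← Scheme.Hom.comp_apply, ← pullback.condition, Scheme.Hom.comp_apply]⟩

end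

open CategoryTheory.Limits in
/-- Let X and Y be locally Noetherian schemes over a field k such that X ×_k Y is locally Noetherian,
with projections p and q. Then a subset W of X ×_k Y is an irreducible component of X ×_k Y if and
only if there exist an irreducible component X' of X and an irreducible component Y' of Y such that
W is a maximal irreducible subset of p⁻¹(X') ∩ q⁻¹(Y') (that is, an irreducible component of the
space underlying X' ×_k Y' for the reduced structures on X' and Y'). -/
theorem result {k : Type u} [Field k] {X Y : Scheme.{u}}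
    (f : X ⟶ Spec (CommRingCat.of k)) (g : Y ⟶ Spec (CommRingCat.of k)) [IsLocallyNoetherian X]
    [IsLocallyNoetherian Y] [IsLocallyNoetherian (pullback f g)] (W : Set ↥(pullback f g)) :
    W ∈ irreducibleComponents ↥(pullback f g) ↔
      ∃ X' ∈ irreducibleComponents ↥X, ∃ Y' ∈ irreducibleComponents ↥Y,
        Maximal (fun V : Set ↥(pullback f g) => IsIrreducible V ∧ V ⊆ ⇑(pullback.fst f g) ⁻¹' X' ∩ ⇑(pullback.snd f g) ⁻¹' Y') W := by
  haveI := flat_toField f
  haveI := flat_toField g
  constructor
  · intro hW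
    obtain ⟨X', hX', h1⟩ := component_of_flat (pullback.fst f g) hW
    obtain ⟨Y', hY', h2⟩ := component_of_flat (pullback.snd f g) hW
    exact ⟨X', hX', Y', hY', ⟨hW.1, fun z hz => ⟨h1 hz, h2 hz⟩⟩, fun V hV hWV => hW.2 hV.1 hWV⟩
  · rintro ⟨X', hX', Y', hY', ⟨hWi, hWsub⟩, hmax⟩
    have hX'c := isClosed_of_mem_irreducibleComponents _ hX'
    have hY'c := isClosed_of_mem_irreducibleComponents _ hY'
    have hSc : IsClosed (⇑(pullback.fst f g) ⁻¹' X' ∩ ⇑(pullback.snd f g) ⁻¹' Y') :=
      (hX'c.preimage (pullback.fst f g).continuous).inter (hY'c.preimage (pullback.snd f g).continuous)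
    have hWc : IsClosed W := isClosed_of_closure_subset
      (hmax ⟨hWi.closure, closure_minimal hWsub hSc⟩ subset_closure)
    obtain ⟨w, hw⟩ := QuasiSober.sober hWi hWc
    have hwmax : ∀ z, z ⤳ w → z ∈ ⇑(pullback.fst f g) ⁻¹' X' ∩ ⇑(pullback.snd f g) ⁻¹' Y' → z = w := by
      intro z hz hzS
      have hzW : closure {z} ⊆ W := hmax ⟨isIrreducible_singleton.closure,
          closure_minimal (Set.singleton_subset_iff.2 hzS) hSc⟩ (by
        rw [← hw.def]; exact closure_minimal (Set.singleton_subset_iff.2 hz.mem_closure) isClosed_closure)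
      exact (hz.antisymm (hw.specializes (hzW (subset_closure rfl)))).eq
    obtain ⟨ξ, hξ⟩ := QuasiSober.sober hX'.1 hX'c
    obtain ⟨η, hη⟩ := QuasiSober.sober hY'.1 hY'c
    have hp : pullback.fst f g w = ξ := by
      obtain ⟨z, hzw, hz1, hz2⟩ := exists_lift f g hY'c (hWsub hw.mem).2 (hξ.specializes (hWsub hw.mem).1)
      rw [← hwmax z hzw ⟨by rw [Set.mem_preimage, hz1]; exact hξ.mem, hz2⟩, hz1]
    have hq : pullback.snd f g w = η := by
      obtain ⟨z, hzw, hz1, hz2⟩ := exists_lift g f hX'c
        (w := (pullbackSymmetry f g).hom w) (by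
          rw [← Scheme.Hom.comp_apply, pullbackSymmetry_hom_comp_snd]; exact (hWsub hw.mem).1)
        (ξ := η) (by rw [← Scheme.Hom.comp_apply, pullbackSymmetry_hom_comp_fst]; exact hη.specializes (hWsub hw.mem).2)
      have hz' : (pullbackSymmetry f g).inv z ⤳ w := by
        have := hzw.map (pullbackSymmetry f g).inv.continuous
        rwa [← Scheme.Hom.comp_apply, Iso.hom_inv_id] at this
      have hz1' : pullback.snd f g ((pullbackSymmetry f g).inv z) = η := by
        rw [← Scheme.Hom.comp_apply, pullbackSymmetry_inv_comp_snd]; exact hz1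
      have hz2' : pullback.fst f g ((pullbackSymmetry f g).inv z) ∈ X' := by
        rw [← Scheme.Hom.comp_apply, pullbackSymmetry_inv_comp_fst]; exact hz2
      rw [← hwmax _ hz' ⟨hz2', by rw [Set.mem_preimage, hz1']; exact hη.mem⟩, hz1']
    refine ⟨hWi, fun V hV hWV => hmax ⟨hV, fun z hz => ?_⟩ hWV⟩
    obtain ⟨v, hv⟩ := QuasiSober.sober hV.closure isClosed_closure
    have hvw : v ⤳ w := hv.specializes (subset_closure (hWV hw.mem))
    have hvz : v ⤳ z := hv.specializes (subset_closure hz)
    have h1 : pullback.fst f g v = ξ := eq_of_spec_max hX' hξ (hp ▸ hvw.map (pullback.fst f g).continuous)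
    have h2 : pullback.snd f g v = η := eq_of_spec_max hY' hη (hq ▸ hvw.map (pullback.snd f g).continuous)
    exact ⟨(h1 ▸ hvz.map (pullback.fst f g).continuous).mem_closed hX'c hξ.mem,
      (h2 ▸ hvz.map (pullback.snd f g).continuous).mem_closed hY'c hη.mem⟩

end Groth.Agent.S4672
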