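import Groth.Statements.S4674
import Mathlib


set_option autoImplicit false
open scoped TensorProduct
universe u v w
open FDesc

namespace Groth.Agent.S4674

/-- Let B be a flat A-algebra and M a finitely presented A-module. Then the annihilator of the B-module
B ⊗_A M is the ideal of B generated by the image of the annihilator of M. -/
theorem result {A : Type u} {B : Type v} [CommRing A] [CommRing B] [Algebra A B]
    [Module.Flat A B] (M : Type w) [AddCommGroup M] [Module A M] [Module.FinitePresentation A M] :
    Module.annihilator B (B ⊗[A] M) = (Module.annihilator A M).map (algebraMap A B) := by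
  obtain ⟨n, s, hs⟩ := Module.Finite.exists_fin (R := A) (M := M)
  let φ : A →ₗ[A] (Fin n → M) := LinearMap.pi fun i => LinearMap.toSpanSingleton A M (s i)
  have hker : Module.annihilator A M = LinearMap.ker φ := by
    ext a
    rw [Module.mem_annihilator, LinearMap.mem_ker]
    constructor
    · intro h; funext i; simpa [φ] using h (s i)
    · intro h m
      have hm : m ∈ Submodule.span A (Set.range s) := by rw [hs]; trivial
      induction hm using Submodule.span_induction with
      | mem x hx => obtain ⟨i, rfl⟩ := hx; simpa [φ] using congrFun h i
      | zero => simp
      | add x y _ _ hx hy => simp [hx, hy]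
      | smul c x _ hx => rw [smul_comm, hx, smul_zero]
  have hexact : Function.Exact ((Module.annihilator A M).subtype.lTensor B) (φ.lTensor B) := by
    apply Module.Flat.lTensor_exact
    rw [hker]
    exact LinearMap.exact_subtype_ker_map φ
  apply le_antisymm
  · intro b hb
    rw [Module.mem_annihilator] at hb
    have h0 : φ.lTensor B (b ⊗ₜ[A] (1 : A)) = 0 := by
      apply (TensorProduct.piRight A A B (fun _ : Fin n => M)).injective
      funext i
      simpa [φ, TensorProduct.smul_tmul'] using hb (1 ⊗ₜ[A] s i)
    obtain ⟨z, hz⟩ := (hexact _).mp h0
    have key : ∀ z : B ⊗[A] (Module.annihilator A M), TensorProduct.rid A B ((Module.annihilator A M).subtype.lTensor B z) ∈ (Module.annihilator A M).map (algebraMap A B) := by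
      intro z
      induction z using TensorProduct.induction_on with
      | zero => simp
      | tmul b a =>
        simp only [LinearMap.lTensor_tmul, Submodule.subtype_apply, TensorProduct.rid_tmul]
        rw [Algebra.smul_def]
        exact Ideal.mul_mem_right _ _ (Ideal.mem_map_of_mem _ a.2)
      | add x y hx hy => simp only [map_add]; exact add_mem hx hy
    have := key z
    rw [hz] at this
    simpa using this
  · rw [Ideal.map_le_iff_le_comap]
    intro a ha
    rw [Ideal.mem_comap, Module.mem_annihilator]
    intro x
    induction x using TensorProduct.induction_on with
    | zero => simp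
    | tmul b m =>
      rw [algebraMap_smul, ← TensorProduct.tmul_smul, Module.mem_annihilator.mp ha, TensorProduct.tmul_zero]
    | add x y hx hy => simp [hx, hy]

end Groth.Agent.S4674
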