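import Groth.Statements.S4675
import Mathlib.LinearAlgebra.Span.Basic
import Mathlib.Algebra.Module.Submodule.Range
import Mathlib.LinearAlgebra.Isomorphisms


set_option autoImplicit false
universe u v
open FDesc

namespace Groth.Agent.S4675

/-- Let B be a ring, not necessarily commutative, and V, W two left B-modules which are isomorphic. For
a B-linear map u : V → W the following are equivalent: every B-linear map V → W can be written
uniquely as u ∘ c with c a B-linear endomorphism of V (that is, u is a basis of Hom_B(V, W) for its
right module structure over End_B(V)); u is bijective. -/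
theorem result {B : Type u} [Ring B] {V W : Type v} [AddCommGroup V] [AddCommGroup W]
    [Module B V] [Module B W] (e : V ≃ₗ[B] W) (u : V →ₗ[B] W) :
    (∀ v : V →ₗ[B] W, ∃! c : V →ₗ[B] V, v = u ∘ₗ c) ↔ Function.Bijective u := by
  constructor
  · intro h
    obtain ⟨c, hc, huniq⟩ := h e.toLinearMap
    obtain ⟨c0, hc0, huniq0⟩ := h u
    have hsurj : Function.Surjective u := fun w ↦ ⟨c (e.symm w), by
      have := LinearMap.congr_fun hc (e.symm w)
      simpa using this.symm⟩
    refine ⟨?_, hsurj⟩
    have h1 : c.comp (e.symm.toLinearMap ∘ₗ u) = LinearMap.id := by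
      obtain ⟨c1, -, hu1⟩ := h u
      rw [hu1 (c.comp (e.symm.toLinearMap ∘ₗ u)) ?_, hu1 LinearMap.id (by simp)]
      ext v
      have := LinearMap.congr_fun hc (e.symm (u v))
      simpa using this
    intro a b hab
    have ha := LinearMap.congr_fun h1 a
    have hb := LinearMap.congr_fun h1 b
    simp only [LinearMap.coe_comp, Function.comp_apply, LinearEquiv.coe_coe, LinearMap.id_coe, id_eq] at ha hb
    rw [← ha, ← hb, hab]
  · intro h v
    refine ⟨(LinearEquiv.ofBijective u h).symm.toLinearMap ∘ₗ v, ?_, fun c hc ↦ ?_⟩
    · ext x; exact ((LinearEquiv.ofBijective u h).apply_symm_apply (v x)).symm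
    · subst hc; ext x; exact ((LinearEquiv.ofBijective u h).symm_apply_apply (c x)).symm

end Groth.Agent.S4675
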