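import Groth.Statements.S4677
import Groth.Agent.RegLocus.FieldExt


set_option autoImplicit false
open scoped TensorProduct
universe u
open FBase

namespace Groth.Agent.S4677
section Pre
open TensorProduct

theorem geomReduced_quotient (k K k1 kp : Type u) [Field k] [Field K] [Field k1] [Field kp] [PerfectField kp]
    [Algebra k K] [Algebra k k1] [Algebra k kp] [Algebra k1 kp] [IsScalarTower k k1 kp]
    [Algebra.IsAlgebraic k1 kp]
    (hgen : nilradical (kp ⊗[k] K) ≤ Ideal.span
      (Algebra.TensorProduct.map (IsScalarTower.toAlgHom k k1 kp) (AlgHom.id k K) ''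
        {r : k1 ⊗[k] K | IsNilpotent r})) :
    Algebra.IsGeometricallyReduced k1 ((k1 ⊗[k] K) ⧸ nilradical (k1 ⊗[k] K)) := by
  let K1 := (k1 ⊗[k] K) ⧸ nilradical (k1 ⊗[k] K)
  let φ0 := Algebra.TensorProduct.map (IsScalarTower.toAlgHom k k1 kp) (AlgHom.id k K)
  let q1 : k1 ⊗[k] K →ₐ[k1] K1 := Ideal.Quotient.mkₐ k1 _
  let e := Algebra.TensorProduct.cancelBaseChange k k1 k1 kp K
  let π : kp ⊗[k1] (k1 ⊗[k] K) →ₐ[kp] kp ⊗[k1] K1 := Algebra.TensorProduct.map (AlgHom.id kp kp) q1
  have hπ : Function.Surjective π :=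
    TensorProduct.map_surjective (g := LinearMap.id) (g' := q1.toLinearMap) Function.surjective_id
      Ideal.Quotient.mk_surjective
  have hsymm : ∀ (a : k1) (c : kp) (b : K), e.symm ((a • c) ⊗ₜ[k] b) = c ⊗ₜ[k1] (a ⊗ₜ[k] b) := fun a c b => by
    apply e.injective
    rw [AlgEquiv.apply_symm_apply]
    simp [e, Algebra.smul_def, mul_comm]
  have hcomp : ∀ w : k1 ⊗[k] K, π (e.symm (φ0 w)) = 1 ⊗ₜ q1 w := fun w => by
    induction w using TensorProduct.induction_on with
    | zero => simp
    | tmul a b =>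
      have : φ0 (a ⊗ₜ[k] b) = (a • (1 : kp)) ⊗ₜ[k] b := by simp [φ0, Algebra.smul_def]
      rw [this, hsymm]
      simp [π]
    | add y z hy hz => rw [map_add, map_add, map_add, hy, hz, map_add, TensorProduct.tmul_add]
  have hq1 : ∀ r : k1 ⊗[k] K, IsNilpotent r → q1 r = 0 := fun r hr =>
    Ideal.Quotient.eq_zero_iff_mem.2 (mem_nilradical.2 hr)
  have hnil : ∀ y : kp ⊗[k] K, y ∈ nilradical (kp ⊗[k] K) → π (e.symm y) = 0 := by
    suffices nilradical (kp ⊗[k] K) ≤ RingHom.ker (π.toRingHom.comp e.symm.toRingEquiv.toRingHom) from fun y hy => this hy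
    refine hgen.trans (Ideal.span_le.2 ?_)
    rintro _ ⟨r, hr, rfl⟩
    show π (e.symm (φ0 r)) = 0
    rw [hcomp, hq1 r hr, TensorProduct.tmul_zero]
  have hker : ∀ w : kp ⊗[k] K, π (e.symm w) = 0 → IsNilpotent w := fun w hw => by
    refine nilpotent_iff_mem_prime.2 fun P hP => ?_
    let φ : kp ⊗[k] K →+* ((kp ⊗[k] K) ⧸ P) := Ideal.Quotient.mk P
    let g : k1 ⊗[k] K →+* (kp ⊗[k] K) ⧸ P := φ.comp φ0.toRingHom
    let ψ : K1 →+* (kp ⊗[k] K) ⧸ P := Ideal.Quotient.lift _ g fun z hz => ((mem_nilradical.1 hz).map g).eq_zero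
    have hψ : ∀ z, ψ (Ideal.Quotient.mk _ z) = φ (φ0 z) := fun z => rfl
    let ψ1 : K1 →ₐ[k1] (kp ⊗[k] K) ⧸ P :=
      { ψ with
        commutes' := fun x => by
          change ψ (Ideal.Quotient.mk _ (x ⊗ₜ[k] (1 : K))) = _
          rw [hψ]
          simp [φ0, φ]
          rfl }
    let Ψ : kp ⊗[k1] K1 →ₐ[kp] (kp ⊗[k] K) ⧸ P :=
      Algebra.TensorProduct.lift (Algebra.ofId kp _) ψ1 fun _ _ => Commute.all _ _
    have hΨ : ∀ v : kp ⊗[k] K, Ψ (π (e.symm v)) = φ v := fun v => by
      induction v using TensorProduct.induction_on with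
      | zero => simp
      | tmul a b =>
        have := hsymm 1 a b
        rw [one_smul] at this
        rw [this]
        show algebraMap kp ((kp ⊗[k] K) ⧸ P) a * ψ (Ideal.Quotient.mk _ ((1 : k1) ⊗ₜ[k] b)) = _
        rw [hψ, show algebraMap kp ((kp ⊗[k] K) ⧸ P) a = φ (a ⊗ₜ 1) from rfl, ← map_mul]
        simp [φ0]
      | add y z hy hz => rw [map_add, map_add, map_add, hy, hz, map_add]
    exact Ideal.Quotient.eq_zero_iff_mem.1 (show φ w = 0 by rw [← hΨ, hw, map_zero])
  have : IsReduced (kp ⊗[k1] K1) := ⟨fun x ⟨n, hn⟩ => by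
    obtain ⟨y, rfl⟩ := hπ x
    obtain ⟨y, rfl⟩ := e.symm.surjective y
    obtain ⟨m, hm⟩ := hker (y ^ n) (by rw [map_pow, map_pow, hn])
    exact hnil y (mem_nilradical.2 ⟨n * m, by rw [pow_mul, hm]⟩)⟩
  exact Groth.Agent.RegLocus.geomReduced_of_perfect k1 kp K1

end Pre

/-- Let K be a finitely generated extension field of a field k. Then there exists a finite purely
inseparable extension k' of k such that, for every maximal ideal m of the ring k' ⊗_k K, the residue
field (k' ⊗_k K)/m is geometrically reduced over k' (a separable, not necessarily algebraic,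
extension of k'). -/
theorem result {k K : Type u} [Field k] [Field K] [Algebra k K]
    [Algebra.EssFiniteType k K] :
    ∃ (k' : Type u) (_ : Field k') (_ : Algebra k k'), FiniteDimensional k k' ∧ IsPurelyInseparable k k' ∧
      ∀ (m : Ideal (k' ⊗[k] K)), m.IsMaximal → Algebra.IsGeometricallyReduced k' ((k' ⊗[k] K) ⧸ m) := by
  let kp := perfectClosure k (AlgebraicClosure k)
  have : IsNoetherianRing (kp ⊗[k] K) := Algebra.EssFiniteType.isNoetherianRing kp (kp ⊗[k] K)
  obtain ⟨G, hG⟩ := (IsNoetherian.noetherian (nilradical (kp ⊗[k] K)) : (nilradical (kp ⊗[k] K)).FG)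
  classical
  have hfin : ∀ x : kp ⊗[k] K, ∃ F : Finset kp, ∀ E : IntermediateField k kp, ↑F ⊆ (E : Set kp) →
      x ∈ (Algebra.TensorProduct.map E.val (AlgHom.id k K)).range := fun x => by
    induction x using TensorProduct.induction_on with
    | zero => exact ⟨∅, fun E _ => zero_mem _⟩
    | tmul a b => exact ⟨{a}, fun E hE => ⟨⟨a, hE (by simp)⟩ ⊗ₜ b, by simp⟩⟩
    | add y z hy hz =>
      obtain ⟨F, hF⟩ := hy
      obtain ⟨F', hF'⟩ := hz
      refine ⟨F ∪ F', fun E hE => ?_⟩
      rw [Finset.coe_union, Set.union_subset_iff] at hE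
      exact add_mem (hF E hE.1) (hF' E hE.2)
  choose F hF using hfin
  let k1 := IntermediateField.adjoin k (G.biUnion F : Set kp)
  have : Module.Finite k k1 := IntermediateField.finiteDimensional_adjoin fun x _ => Algebra.IsIntegral.isIntegral x
  have : IsPurelyInseparable k k1 := IsPurelyInseparable.tower_bot k k1 kp
  refine ⟨k1, inferInstance, inferInstance, inferInstance, inferInstance, fun m hm => ?_⟩
  have hinj : Function.Injective (Algebra.TensorProduct.map k1.val (AlgHom.id k K)) :=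
    Module.Flat.rTensor_preserves_injective_linearMap (R := k) (M := K) k1.val.toLinearMap k1.val.injective
  have hmn : nilradical (↥k1 ⊗[k] K) = m := by
    have hmax : (nilradical (↥k1 ⊗[k] K)).IsMaximal := by
      have h := Groth.Agent.RegLocus.isMaximal_nilradical_tensor k K k1
      let e := (Algebra.TensorProduct.comm k k1 K).toRingEquiv
      have h' : (nilradical (↥k1 ⊗[k] K)) = (nilradical (K ⊗[k] ↥k1)).comap e.toRingHom := by
        ext x
        simp only [Ideal.mem_comap, mem_nilradical]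
        exact ⟨fun hx => hx.map e.toRingHom, fun hx => (IsNilpotent.map_iff (f := e.toRingHom) e.injective).1 hx⟩
      rw [h']
      exact Ideal.comap_isMaximal_of_surjective _ e.surjective
    exact hmax.eq_of_le hm.ne_top (nilradical_le_prime m)
  subst hmn
  refine geomReduced_quotient k K k1 kp ?_
  conv_lhs => rw [← hG]
  refine Ideal.span_le.2 fun g hg => Ideal.subset_span ?_
  obtain ⟨r, hr⟩ := hF g k1 (fun a ha => IntermediateField.subset_adjoin k _
    (Finset.mem_coe.2 (Finset.mem_biUnion.2 ⟨g, hg, ha⟩)))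
  refine ⟨r, ?_, hr⟩
  have : IsNilpotent g := mem_nilradical.1 (hG.le (Submodule.subset_span hg))
  rw [← hr] at this
  exact (IsNilpotent.map_iff (f := Algebra.TensorProduct.map k1.val (AlgHom.id k K)) hinj).1 this

end Groth.Agent.S4677
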