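import Groth.Agent.FFMod.Basic
import Mathlib.AlgebraicGeometry.Morphisms.Flat
import Groth.Statements.S4681
-- import your own Groth.Agent.* helpers here

set_option autoImplicit false
set_option backward.isDefEq.respectTransparency false
set_option backward.isDefEq.respectTransparency.types false
open CategoryTheory AlgebraicGeometry
universe u
open FDesc

namespace Groth.Agent.S4681

/-- Let f : X → Y and g : Y → Z be morphisms of schemes and F a quasi-coherent O_X-module which is
faithfully flat relative to Y: flat over Y, and for every point y of Y there is a point x over y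
with F_x ⊗ κ(y) ≠ 0. Then g is flat and surjective (faithfully flat) if and only if F is faithfully
flat relative to Z for the morphism f followed by g: flat over Z, and for every point z of Z there
is a point x of X over z with F_x ⊗ κ(z) ≠ 0. -/
theorem result {X Y Z : Scheme.{u}} (f : X ⟶ Y) (g : Y ⟶ Z)
    (F : X.Modules) (hF : Coh.IsQCoh F) (hFfl : FlatMod.IsFlatOver f F)
    (hFff : (∀ y : ↥Y, ∃ x : ↥X, f x = y ∧
      letI := FlatMod.moduleStalkOver f F x
      IsLocalRing.maximalIdeal (Y.presheaf.stalk (f x)) • (⊤ : Submodule (Y.presheaf.stalk (f x)) (F.presheaf.stalk x)) ≠ ⊤)) :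
    (Flat g ∧ Surjective g) ↔
      (FlatMod.IsFlatOver (f ≫ g) F ∧
        (∀ z : ↥Z, ∃ x : ↥X, (f ≫ g) x = z ∧
      letI := FlatMod.moduleStalkOver (f ≫ g) F x
      IsLocalRing.maximalIdeal (Z.presheaf.stalk ((f ≫ g) x)) • (⊤ : Submodule (Z.presheaf.stalk ((f ≫ g) x)) (F.presheaf.stalk x)) ≠ ⊤)) := by
  have key : ∀ x : X,
      letI := FlatMod.moduleStalkOver f F x
      IsLocalRing.maximalIdeal (Y.presheaf.stalk (f x)) • (⊤ : Submodule (Y.presheaf.stalk (f x)) (F.presheaf.stalk x)) ≠ ⊤ →
      ((g.stalkMap (f x)).hom.Flat ↔ FlatMod.IsFlatOverAt (f ≫ g) F x) ∧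
      (letI := FlatMod.moduleStalkOver (f ≫ g) F x
       IsLocalRing.maximalIdeal (Z.presheaf.stalk ((f ≫ g) x)) • (⊤ : Submodule (Z.presheaf.stalk ((f ≫ g) x)) (F.presheaf.stalk x)) ≠ ⊤) := by
    intro x hne
    let A := Z.presheaf.stalk (g (f x))
    let B := Y.presheaf.stalk (f x)
    let M := F.presheaf.stalk x
    letI : Algebra A B := (g.stalkMap (f x)).hom.toAlgebra
    haveI : IsLocalHom (algebraMap A B) := inferInstanceAs (IsLocalHom (g.stalkMap (f x)).hom)
    letI mB : Module B M := FlatMod.moduleStalkOver f F x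
    letI mA : Module A M := FlatMod.moduleStalkOver (f ≫ g) F x
    haveI : IsScalarTower A B M := .of_algebraMap_smul fun r m => by
      show (f.stalkMap x).hom ((g.stalkMap (f x)).hom r) • m = ((f ≫ g).stalkMap x).hom r • m
      rw [Scheme.Hom.stalkMap_comp]; rfl
    haveI : Module.Flat B M := hFfl x
    haveI := Groth.Agent.FFMod.faithfullyFlat_of_local (B := B) (M := M) hne
    refine ⟨⟨fun h => ?_, fun h => ?_⟩, Groth.Agent.FFMod.smul_top_ne_top (A := A) (B := B) (M := M) hne⟩
    · haveI : Module.Flat A B := h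
      have hh : Module.Flat A M := Module.Flat.trans A B M
      exact hh
    · haveI : Module.Flat A M := h
      exact Groth.Agent.FFMod.flat_of_faithfullyFlat_module A B M
  constructor
  · rintro ⟨hg, hgs⟩
    have hs : ∀ z : Z, ∃ y : Y, g y = z := fun z => g.surjective z
    refine ⟨fun x => ?_, fun z => ?_⟩
    · let A := Z.presheaf.stalk (g (f x))
      let B := Y.presheaf.stalk (f x)
      let M := F.presheaf.stalk x
      letI : Algebra A B := (g.stalkMap (f x)).hom.toAlgebra
      letI mB : Module B M := FlatMod.moduleStalkOver f F x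
      letI mA : Module A M := FlatMod.moduleStalkOver (f ≫ g) F x
      haveI : IsScalarTower A B M := .of_algebraMap_smul fun r m => by
        show (f.stalkMap x).hom ((g.stalkMap (f x)).hom r) • m = ((f ≫ g).stalkMap x).hom r • m
        rw [Scheme.Hom.stalkMap_comp]; rfl
      haveI : Module.Flat B M := hFfl x
      haveI : Module.Flat A B := Flat.stalkMap g (f x)
      have hh : Module.Flat A M := Module.Flat.trans A B M
      exact hh
    · obtain ⟨y, rfl⟩ := hs z
      obtain ⟨x, rfl, hx⟩ := hFff y
      exact ⟨x, rfl, (key x hx).2⟩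
  · rintro ⟨hfl, hff⟩
    refine ⟨?_, ⟨fun z => ?_⟩⟩
    · rw [Flat.iff_flat_stalkMap]
      intro y
      obtain ⟨x, rfl, hx⟩ := hFff y
      exact ((key x hx).1).2 (hfl x)
    · obtain ⟨x, hx, -⟩ := hff z
      exact ⟨f x, by rw [← hx]; rfl⟩

end Groth.Agent.S4681
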