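import Groth.Agent.S4628
import Groth.Agent.SchImageLib.Reduced
import Groth.Agent.FpqcDescent.ReducedSub
import Groth.Statements.S4682
-- import your own Groth.Agent.* helpers here

set_option autoImplicit false
set_option backward.isDefEq.respectTransparency false
set_option backward.isDefEq.respectTransparency.types false
open CategoryTheory AlgebraicGeometry
universe u
open FBase

namespace Groth.Agent.S4682

/-- Let Y be a scheme over a field K', let K be an extension field of K' which is separable over K'
(Spec K → Spec K' is geometrically reduced), let g : Y ⊗_{K'} K → Y be the projection and T a closed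
subset of Y ⊗_{K'} K. Then T is defined over K' as a closed subset, that is T = g⁻¹(T') for some
closed subset T' of Y, if and only if the reduced closed subscheme of Y ⊗_{K'} K with support T is
defined over K', that is, there is a quasi-coherent ideal sheaf of O_Y whose inverse image in Y
⊗_{K'} K is the vanishing ideal sheaf of T. -/
theorem result {K' K : Type u} [Field K'] [Field K] [Algebra K' K]
    {Y : Scheme.{u}} (fY : Y ⟶ Spec (CommRingCat.of K'))
    [GeometricallyReduced (Spec.map (CommRingCat.ofHom (algebraMap K' K)))]
    (T : TopologicalSpace.Closeds ↥(FBase.bc fY K)) :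
    (∃ T' : TopologicalSpace.Closeds ↥Y, (T : Set ↥(FBase.bc fY K)) = ⇑(FBase.bcπ fY K) ⁻¹' (T' : Set ↥Y)) ↔
      ∃ J : Y.IdealSheafData, J.comap (FBase.bcπ fY K) = Scheme.IdealSheafData.vanishingIdeal T := by
  constructor
  · rintro ⟨T', hT⟩
    let J := Scheme.IdealSheafData.vanishingIdeal T'
    refine ⟨J, ?_⟩
    let g := FBase.bcπ fY K
    haveI := Groth.Agent.FpqcDescent.isReduced_subscheme_vanishingIdeal T'
    haveI : AlgebraicGeometry.IsReduced (CategoryTheory.Limits.pullback (Spec.map (CommRingCat.ofHom (algebraMap K' K))) (J.subschemeι ≫ fY)) :=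
      Groth.Agent.S4628.result _ _
    let e : CategoryTheory.Limits.pullback g J.subschemeι ≅
        CategoryTheory.Limits.pullback (Spec.map (CommRingCat.ofHom (algebraMap K' K))) (J.subschemeι ≫ fY) :=
      CategoryTheory.Limits.pullbackSymmetry _ _ ≪≫
        CategoryTheory.Limits.pullbackRightPullbackFstIso fY (Spec.map (CommRingCat.ofHom (algebraMap K' K))) J.subschemeι ≪≫
        CategoryTheory.Limits.pullbackSymmetry _ _
    haveI : AlgebraicGeometry.IsReduced (CategoryTheory.Limits.pullback g J.subschemeι) := isReduced_of_isOpenImmersion e.hom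
    show (CategoryTheory.Limits.pullback.fst g J.subschemeι).ker = _
    rw [Groth.Agent.SchImageLib.ker_eq_vanishingIdeal (CategoryTheory.Limits.pullback.fst g J.subschemeι)]
    congr 1
    apply TopologicalSpace.Closeds.ext
    show closure (Set.range (CategoryTheory.Limits.pullback.fst g J.subschemeι)) = _
    rw [Scheme.Pullback.range_fst, Scheme.IdealSheafData.range_subschemeι,
      show (J.support : Set Y) = T' from congrArg SetLike.coe (Scheme.IdealSheafData.coe_support_vanishingIdeal T' |> TopologicalSpace.Closeds.ext), hT]
    exact (T'.isClosed.preimage g.continuous).closure_eq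
  · rintro ⟨J, hJ⟩
    refine ⟨J.support, ?_⟩
    have h := congrArg (fun I : Scheme.IdealSheafData (FBase.bc fY K) => (I.support : Set ↥(FBase.bc fY K))) hJ
    rw [Scheme.IdealSheafData.support_comap] at h
    exact ((Scheme.IdealSheafData.coe_support_vanishingIdeal T).symm.trans h.symm)

end Groth.Agent.S4682
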