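import Mathlib.RingTheory.KrullDimension.Field
import Groth.Statements.S4688

set_option autoImplicit false
universe u
open EGA4

namespace Groth.Agent.S4688

open Ideal Polynomial

theorem height_over_bot {D : Type u} [CommRing D] [IsDomain D] [IsNoetherianRing D] (q : Ideal D[X]) [q.IsPrime]
    (hq : q.comap (C : D →+* D[X]) = ⊥) (hne : q ≠ ⊥) : q.height = 1 := by
  refine le_antisymm ?_ (Order.one_le_iff_pos.2 (pos_iff_ne_zero.2 fun h0 => hne ?_))
  · let K := FractionRing D
    letI := Polynomial.algebra D K
    have := Polynomial.isLocalization (nonZeroDivisors D) K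
    have disj : Disjoint ((nonZeroDivisors D).map (C : D →+* D[X]) : Set D[X]) q :=
      Set.disjoint_left.mpr fun a ⟨b, hb, hba⟩ ha => by
        have : b ∈ q.comap (C : D →+* D[X]) := by rw [Ideal.mem_comap, hba]; exact ha
        rw [hq, Submodule.mem_bot] at this
        exact nonZeroDivisors.ne_zero hb this
    rw [← IsLocalization.height_map_of_disjoint (R := D[X]) (S := K[X]) ((nonZeroDivisors D).map (C : D →+* D[X])) q disj]
    have := IsLocalization.isPrime_of_isPrime_disjoint ((nonZeroDivisors D).map (C : D →+* D[X])) K[X] q ‹_› disj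
    have h1 := Ideal.height_le_ringKrullDim_of_ne_top (I := q.map (algebraMap D[X] K[X])) this.ne_top
    rw [Polynomial.ringKrullDim_of_isNoetherianRing, ringKrullDim_eq_zero_of_isField (Field.toIsField _), zero_add] at h1
    exact WithBot.coe_le_coe.1 h1
  · have hmin : q ∈ minimalPrimes D[X] := Ideal.height_eq_zero_iff.1 h0
    rw [IsDomain.minimalPrimes_eq_singleton_bot] at hmin
    exact hmin


open Polynomial in
/-- Let A be a Noetherian ring, p a prime ideal of A and q a prime ideal of the polynomial ring A[T]
lying over p. Then the extended ideal p A[T] has the same height as p, and if q is different from p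
A[T] one has ht(q) = ht(p) + 1. (The remaining assertions of the published item, that p A[T] is
prime over p and that there are infinitely many pairwise incomparable such q, are not restated.) -/
theorem result (A : Type u) [CommRing A] [IsNoetherianRing A]
    (p : Ideal A) [p.IsPrime] (q : Ideal A[X]) [q.IsPrime] [q.LiesOver p] :
    (p.map (Polynomial.C : A →+* A[X])).height = p.height ∧
      (q ≠ p.map (Polynomial.C : A →+* A[X]) → q.height = p.height + 1) := by
  have hlo : (p.map (C : A →+* A[X])).comap (C : A →+* A[X]) = p := by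
    ext x
    rw [Ideal.mem_comap, Ideal.mem_map_C_iff]
    exact ⟨fun h => by simpa using h 0, fun h n => by rw [coeff_C]; split <;> simp [h]⟩
  have hP : (p.map (C : A →+* A[X])).IsPrime := Ideal.isPrime_map_C_of_isPrime
  have : (p.map (C : A →+* A[X])).LiesOver p := ⟨hlo.symm⟩
  let e : A[X] ⧸ p.map (algebraMap A A[X]) ≃+* (A ⧸ p)[X] := (polynomialQuotientEquivQuotientPolynomial p).symm
  have key : ∀ (Q : Ideal A[X]) [Q.IsPrime] [Q.LiesOver p], Q.height = p.height +
      ((Q.map (Ideal.Quotient.mk (p.map (algebraMap A A[X])))).map e).height := fun Q _ _ => by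
    rw [e.height_map, ← Ideal.height_eq_height_add_of_liesOver_of_hasGoingDown p Q]
  constructor
  · rw [key (p.map (C : A →+* A[X]))]
    have : ((p.map (C : A →+* A[X])).map (Ideal.Quotient.mk (p.map (algebraMap A A[X])))) = ⊥ := by
      rw [← Polynomial.algebraMap_eq, Ideal.map_quotient_self]
    rw [this, Ideal.map_bot, Ideal.height_bot, add_zero]
  · intro hne
    rw [key q]
    have hle : p.map (algebraMap A A[X]) ≤ q := Ideal.map_le_iff_le_comap.2 (Ideal.LiesOver.over (p := p) (P := q)).le
    have hpr : (q.map (Ideal.Quotient.mk (p.map (algebraMap A A[X])))).IsPrime :=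
      Ideal.map_isPrime_of_surjective Ideal.Quotient.mk_surjective (by rwa [Ideal.mk_ker])
    have hpr' : ((q.map (Ideal.Quotient.mk (p.map (algebraMap A A[X])))).map e).IsPrime :=
      Ideal.map_isPrime_of_equiv e
    have hback : (q.map (Ideal.Quotient.mk (p.map (algebraMap A A[X])))).comap (Ideal.Quotient.mk (p.map (algebraMap A A[X]))) = q := by
      rw [Ideal.comap_map_of_surjective _ Ideal.Quotient.mk_surjective, ← RingHom.ker_eq_comap_bot, Ideal.mk_ker, sup_eq_left.2 hle]
    rw [height_over_bot ((q.map (Ideal.Quotient.mk (p.map (algebraMap A A[X])))).map e) ?_ ?_]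
    · rw [eq_bot_iff]
      intro a ha
      obtain ⟨a, rfl⟩ := Ideal.Quotient.mk_surjective a
      rw [Submodule.mem_bot, Ideal.Quotient.eq_zero_iff_mem, Ideal.LiesOver.over (p := p) (P := q)]
      rw [Ideal.mem_comap] at ha
      have he : e (Ideal.Quotient.mk _ (C a)) = C (Ideal.Quotient.mk p a) := by
        simp [e]
      rw [← he, Ideal.apply_mem_of_equiv_iff, ← Ideal.mem_comap, hback] at ha
      exact ha
    · intro h0
      refine hne (le_antisymm (fun x hx => ?_) hle)
      have : e (Ideal.Quotient.mk _ x) ∈ (q.map (Ideal.Quotient.mk (p.map (algebraMap A A[X])))).map e :=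
        Ideal.mem_map_of_mem _ (Ideal.mem_map_of_mem _ hx)
      rw [h0, Submodule.mem_bot, map_eq_zero_iff _ e.injective, Ideal.Quotient.eq_zero_iff_mem] at this
      exact this

end Groth.Agent.S4688
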