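import Groth.Statements.S4693
import Groth.Agent.S2559
import Mathlib

set_option autoImplicit false
universe u
open EGA4

namespace Groth.Agent.S4693

open IsLocalRing TensorProduct


/-- Let A → B be a local homomorphism of Noetherian local rings such that the closed fibre ring B/m_A B
has Krull dimension 0 (that is, m_A B is an ideal of definition of B). Then dim B ≤ dim A. If
moreover some finite B-module which is flat over A has support equal to all of Spec B (for instance
if B is flat over A), then dim B = dim A. -/
theorem result (A B : Type u) [CommRing A] [CommRing B] [IsNoetherianRing A]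
    [IsNoetherianRing B] [IsLocalRing A] [IsLocalRing B] [Algebra A B] [IsLocalHom (algebraMap A B)]
    (h0 : ringKrullDim (EGA4.FibRing A B) = 0) :
    ringKrullDim B ≤ ringKrullDim A ∧
      (∀ (N : Type u) [AddCommGroup N] [Module B N] [Module A N] [IsScalarTower A B N] [Module.Finite B N]
          [Module.Flat A N], Module.support B N = Set.univ → ringKrullDim B = ringKrullDim A) := by
  have hle : ringKrullDim B ≤ ringKrullDim A := by
    refine (Groth.Agent.CMAux.ringKrullDim_le_add_fibre A B).trans ?_
    rw [show ringKrullDim (B ⧸ (maximalIdeal A).map (algebraMap A B)) = 0 from h0, add_zero]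
  refine ⟨hle, fun N _ _ _ _ _ _ hsupp => le_antisymm hle ?_⟩
  haveI : Nontrivial N := by
    rw [← not_subsingleton_iff_nontrivial, ← Module.support_eq_empty_iff (R := B)]
    rw [hsupp]
    exact Set.univ_nonempty.ne_empty
  haveI : Module.FaithfullyFlat A N := by
    refine ⟨fun {m} hm => ?_⟩
    rw [IsLocalRing.eq_maximalIdeal hm]
    intro htop
    refine Submodule.top_ne_ideal_smul_of_le_jacobson_annihilator (M := N)
      (I := (maximalIdeal A).map (algebraMap A B)) ?_ ?_
    · exact (((local_hom_TFAE (algebraMap A B)).out 0 2 rfl rfl).1 inferInstance).trans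
        (maximalIdeal_le_jacobson _)
    · refine (eq_top_iff.2 fun x _ => ?_).symm
      have hx : x ∈ (maximalIdeal A • ⊤ : Submodule A N) := htop.ge Submodule.mem_top
      refine Submodule.smul_induction_on hx (fun a ha n _ => ?_) (fun a b ha hb => add_mem ha hb)
      rw [← algebraMap_smul B a n]
      exact Submodule.smul_mem_smul (Ideal.mem_map_of_mem _ ha) Submodule.mem_top
  have hadd := Groth.Agent.S2559.dim_add_le (A := A) (B := B) fun Q hQ q hq => by
    have hQm : maximalIdeal B ≤ Q := by
      haveI := hQ.1.1
      haveI : Ring.KrullDimLE 0 (B ⧸ (maximalIdeal A).map (algebraMap A B)) := Ring.krullDimLE_iff.2 h0.le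
      let π := Ideal.Quotient.mk ((maximalIdeal A).map (algebraMap A B))
      haveI : (Q.map π).IsPrime :=
        Ideal.map_isPrime_of_surjective Ideal.Quotient.mk_surjective (by rw [Ideal.mk_ker]; exact hQ.1.2)
      haveI := Ideal.comap_isMaximal_of_surjective π Ideal.Quotient.mk_surjective (K := Q.map π)
      have e : (Q.map π).comap π = Q := by
        rw [Ideal.comap_map_of_surjective _ Ideal.Quotient.mk_surjective, ← RingHom.ker_eq_comap_bot, Ideal.mk_ker,
          sup_eq_left]
        exact hQ.1.2
      exact (IsLocalRing.eq_maximalIdeal (e ▸ ‹((Q.map π).comap π).IsMaximal›)).ge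
    haveI := hq
    haveI hnt : Nontrivial (N ⊗[A] q.ResidueField) := inferInstance
    obtain ⟨P, hP⟩ : ∃ P : PrimeSpectrum B, P.asIdeal.comap (algebraMap A B) = q := by
      by_contra hc
      haveI : IsEmpty (PrimeSpectrum (q.Fiber B)) := by
        refine ⟨fun z => ?_⟩
        obtain ⟨P', hP'⟩ := (PrimeSpectrum.preimageHomeomorphFiber A B ⟨q, hq⟩).symm z
        exact hc ⟨P', congrArg PrimeSpectrum.asIdeal hP'⟩
      haveI : Subsingleton (q.Fiber B) := PrimeSpectrum.isEmpty_iff_subsingleton.1 ‹_›
      haveI : Subsingleton (N ⊗[B] (B ⊗[A] q.ResidueField)) := by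
        haveI : Subsingleton (B ⊗[A] q.ResidueField) := (TensorProduct.comm A B q.ResidueField).toEquiv.subsingleton
        infer_instance
      exact not_subsingleton (N ⊗[A] q.ResidueField)
        (TensorProduct.AlgebraTensorModule.cancelBaseChange A B B N q.ResidueField).symm.toEquiv.subsingleton
    exact ⟨P.asIdeal, P.2, (IsLocalRing.le_maximalIdeal P.2.ne_top).trans hQm, hP⟩
  rw [show ringKrullDim (B ⧸ (maximalIdeal A).map (algebraMap A B)) = 0 from h0, add_zero] at hadd
  exact hadd

end Groth.Agent.S4693
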