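import Groth.Statements.S4694
import Groth.Agent.CAlgT1.DepthTensor
import Mathlib

set_option autoImplicit false
universe u
open EGA4

namespace Groth.Agent.S4694

open IsLocalRing


open TensorProduct in
/-- Let A → B be a local homomorphism of Noetherian local rings, M a finite A-module and N a nonzero
finite B-module, flat over A, whose closed-fibre module N/m_A N has finite length. Then the depth of
the B-module N ⊗_A M equals the depth of the A-module M. (The companion equality of codepths in the
published item is not restated.) -/
theorem result {A B M N : Type u} [CommRing A] [CommRing B]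
    [IsNoetherianRing A] [IsNoetherianRing B] [IsLocalRing A] [IsLocalRing B] [Algebra A B]
    [IsLocalHom (algebraMap A B)] [AddCommGroup M] [Module A M] [Module.Finite A M]
    [AddCommGroup N] [Module B N] [Module A N] [IsScalarTower A B N] [Module.Finite B N] [Nontrivial N]
    [Module.Flat A N] (hN : IsFiniteLength B (EGA4.FibMod A B N)) :
    LocCoh.depth B (N ⊗[A] M) = LocCoh.depth A M := by
  rcases subsingleton_or_nontrivial M with hM | hM
  · haveI : Subsingleton (N ⊗[A] M) := inferInstance
    simp only [LocCoh.depth, Groth.Agent.Depth.idealDepth_of_subsingleton]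
  rw [Groth.Agent.CAlgT1.depth_tensor_eq_add A M N]
  have hne : Nontrivial (EGA4.FibMod A B N) := by
    refine Submodule.Quotient.nontrivial_iff.2 (Groth.Agent.Depth.smul_top_ne_top_of_isLocalRing ?_)
    exact ((local_hom_TFAE (algebraMap A B)).out 0 2 rfl rfl).1 inferInstance
  haveI := hne
  have h0 : LocCoh.depth B (EGA4.FibMod A B N) = 0 := by
    rw [Groth.Agent.Depth.depth_eq_zero_iff]
    obtain ⟨p, hp⟩ := associatedPrimes.nonempty B (EGA4.FibMod A B N)
    haveI := hp.isPrime
    obtain ⟨-, f, hf⟩ := (isAssociatedPrime_iff_exists_injective_linearMap p (EGA4.FibMod A B N)).1 hp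
    haveI : IsArtinian B (EGA4.FibMod A B N) := (isFiniteLength_iff_isNoetherian_isArtinian.1 hN).2
    haveI : IsArtinian B (B ⧸ p) := isArtinian_of_injective f hf
    haveI : IsArtinianRing (B ⧸ p) := isArtinian_of_tower B ‹_›
    haveI : p.IsMaximal := Ideal.Quotient.maximal_of_isField _ (IsArtinianRing.isField_of_isDomain _)
    rwa [← IsLocalRing.eq_maximalIdeal ‹p.IsMaximal›]
  rw [show LocCoh.depth B (N ⧸ (maximalIdeal A).map (algebraMap A B) • (⊤ : Submodule B N)) = 0 from h0, add_zero]

end Groth.Agent.S4694
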