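import Groth.Statements.S4697
import Groth.Agent.RegLocus.GeomMisc

set_option autoImplicit false
universe u
open EGA4

namespace Groth.Agent.S4697

/-- Retired milestone (weight 0, no credit; kept so that existing proof files which import this module still build). Case of normal morphisms, affine form: let A → B → C be homomorphisms of Noetherian rings such that
B → C is normal and faithfully flat and the composite A → C is normal. Then A → B is normal. -/
theorem result (A B C : Type u) [CommRing A] [CommRing B] [CommRing C]
    [IsNoetherianRing A] [IsNoetherianRing B] [IsNoetherianRing C] [Algebra A B] [Algebra B C] [Algebra A C]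
    [IsScalarTower A B C] (hBC : EGA4.IsNormalHom B C) [Module.FaithfullyFlat B C]
    (hAC : EGA4.IsNormalHom A C) : EGA4.IsNormalHom A B := by
  exact Groth.Agent.RegLocus.isNormalHom_descend A B C hAC

end Groth.Agent.S4697
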