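import Groth.Statements.S4799
import Groth.Agent.FlatOverBC.Open
import Groth.Agent.FpqcDescent.Specialization
import Mathlib.AlgebraicGeometry.FunctionField
import Mathlib.AlgebraicGeometry.IdealSheaf.Subscheme

set_option autoImplicit false
universe u
open CategoryTheory AlgebraicGeometry
open Lim8

namespace Groth.Agent.S4799

theorem flat_of_isField (R M : Type*) [CommRing R] [AddCommGroup M] [Module R M] (h : IsField R) :
    Module.Flat R M := by
  let := h.toField
  have : Module.Free R M := Module.Free.of_divisionRing R M
  exact Module.Flat.of_free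

/-- Generic flatness without Noetherian hypotheses: let Y be an integral scheme, u : X ⟶ Y a
quasi-compact morphism locally of finite presentation, and F a quasi-coherent O_X-module of finite
presentation. Then there is a nonempty open subset U of Y such that F restricted to u⁻¹(U) is flat
over U, i.e. the stalk F_x is flat over O_{Y, u(x)} for every x with u(x) ∈ U. -/
theorem result {X Y : Scheme.{u}} (u : X ⟶ Y) [IsIntegral Y]
    [LocallyOfFinitePresentation u] [QuasiCompact u] (F : X.Modules) [Coh.IsQCoh F] (hF : CohB1.IsFP F) :
    ∃ U : Y.Opens, (U : Set Y).Nonempty ∧ ∀ x : X, u.base x ∈ U → FlatMod.IsFlatOverAt u F x := by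
  have hO := Groth.Agent.FlatOverBC.isOpen_isFlatOverAt u F hF
  let C : TopologicalSpace.Closeds X := ⟨{x : X | FlatMod.IsFlatOverAt u F x}ᶜ, hO.isClosed_compl⟩
  let J := Scheme.IdealSheafData.vanishingIdeal C
  let g := J.subschemeι ≫ u
  have hr : Set.range J.subschemeι = (C : Set X) := by
    rw [J.range_subschemeι, Scheme.IdealSheafData.coe_support_vanishingIdeal]
  refine ⟨⟨(closure (Set.range g))ᶜ, isClosed_closure.isOpen_compl⟩, ⟨genericPoint Y, fun h => ?_⟩, fun x hx => ?_⟩
  · obtain ⟨z, hz⟩ := Groth.Agent.FpqcDescent.exists_specializes_of_mem_closure_range g h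
    have he : g z = genericPoint Y := (hz.antisymm (genericPoint_specializes _)).eq
    have hz' : J.subschemeι z ∈ (C : Set X) := hr ▸ Set.mem_range_self z
    apply hz'
    show FlatMod.IsFlatOverAt u F (J.subschemeι z)
    unfold FlatMod.IsFlatOverAt
    have hfld : IsField (Y.presheaf.stalk (u.base (J.subschemeι z))) := by
      have hh : u.base (J.subschemeι z) = genericPoint Y := he
      rw [hh]
      exact Field.toIsField Y.functionField
    exact @flat_of_isField _ _ _ _ (FlatMod.moduleStalkOver u F _) hfld
  · by_contra h
    obtain ⟨z, hz⟩ : x ∈ Set.range J.subschemeι := hr ▸ h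
    exact hx (subset_closure ⟨z, by rw [Scheme.Hom.comp_apply, hz]⟩)

end Groth.Agent.S4799
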