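import Groth.Statements.S4701
import Groth.Agent.RegLocus.FieldTensor
import Groth.Agent.RegLocus.Basic

set_option autoImplicit false
universe u
open EGA4

namespace Groth.Agent.S4701

open Groth.Agent


/-- Let A be a Noetherian ring. The regular locus of every quotient ring A/I is open in its spectrum if
and only if, for every prime ideal p, the regular locus of the domain A/p contains a nonempty open
subset of Spec(A/p). (The published statement quantifies over all subschemes of Spec A; open
subschemes of the closed ones add nothing, so closed subschemes are used here.) -/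
theorem result (A : Type u) [CommRing A] [IsNoetherianRing A] :
    (∀ I : Ideal A, IsOpen (EGA4.regLocus (A ⧸ I))) ↔
      ∀ (p : Ideal A) [p.IsPrime],
        ∃ U : Set (PrimeSpectrum (A ⧸ p)), IsOpen U ∧ U.Nonempty ∧ U ⊆ EGA4.regLocus (A ⧸ p) := by
  constructor
  · intro h p _
    refine ⟨EGA4.regLocus (A ⧸ p), h p, ⟨⟨⊥, Ideal.isPrime_bot⟩, ?_⟩, subset_rfl⟩
    show IsRegularLocalRing (Localization.AtPrime (⊥ : Ideal (A ⧸ p)))
    have hf : IsField (Localization.AtPrime (⊥ : Ideal (A ⧸ p))) := by
      refine IsLocalRing.isField_iff_maximalIdeal_eq.2 ?_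
      rw [← Localization.AtPrime.map_eq_maximalIdeal, Ideal.map_bot]
    letI := hf.toField
    infer_instance
  · intro h I
    refine RegLocus.isOpen_regLocus fun P _ => ?_
    obtain ⟨U, hU, ⟨x, hx⟩, hUr⟩ := h (P.asIdeal.comap (Ideal.Quotient.mk I))
    let e : (A ⧸ P.asIdeal.comap (Ideal.Quotient.mk I)) ≃+* (A ⧸ I) ⧸ P.asIdeal :=
      RingEquiv.ofBijective (Ideal.quotientMap P.asIdeal (Ideal.Quotient.mk I) le_rfl)
        ⟨Ideal.quotientMap_injective, Ideal.quotientMap_surjective Ideal.Quotient.mk_surjective⟩
    refine ⟨PrimeSpectrum.comap e.toRingHom ⁻¹' U, hU.preimage (PrimeSpectrum.continuous_comap e.toRingHom),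
      ⟨PrimeSpectrum.comap e.symm.toRingHom x, ?_⟩, fun z hz => ?_⟩
    · rw [Set.mem_preimage]
      convert hx using 1
      ext a
      simp
    · have hz' : IsRegularLocalRing (Localization.AtPrime (z.asIdeal.comap e.toRingHom)) := hUr hz
      show IsRegularLocalRing (Localization.AtPrime z.asIdeal)
      let eloc : Localization.AtPrime (z.asIdeal.comap e.toRingHom) ≃+* Localization.AtPrime z.asIdeal :=
        IsLocalization.ringEquivOfRingEquiv (M := (z.asIdeal.comap e.toRingHom).primeCompl) (T := z.asIdeal.primeCompl)
          _ _ e (by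
            ext a
            simp only [Submonoid.mem_map, Ideal.mem_primeCompl_iff, Ideal.mem_comap]
            exact ⟨fun ⟨y, hy, hya⟩ => hya ▸ hy, fun ha => ⟨e.symm a, by simpa using ha, by simp⟩⟩)
      exact IsRegularLocalRing.of_ringEquiv (R := Localization.AtPrime (z.asIdeal.comap e.toRingHom)) eloc

end Groth.Agent.S4701
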