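import Groth.Statements.S4702
import Groth.Agent.Chevalley.Equiv
import Groth.Agent.EquidimChart.ChainIneq
import Mathlib

set_option autoImplicit false
universe u
open EGA4

set_option backward.isDefEq.respectTransparency.types false
set_option linter.style.haveILetI false
namespace Groth.Agent.S4702

open Groth.Agent Groth.Agent.DimTheory Groth.Agent.EquidimChart


open AlgebraicGeometry CategoryTheory in
/-- Let Y be an irreducible locally Noetherian scheme of dimension 1, X an irreducible scheme and f : X
→ Y a dominant morphism of finite type. Then for every point y in the image of f, every irreducible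
component of the fibre of f at y has dimension equal to the dimension of the generic fibre. -/
theorem result {X Y : Scheme.{u}} (f : X ⟶ Y) [IsLocallyNoetherian Y]
    [IrreducibleSpace Y] [IrreducibleSpace X] (hY : topologicalKrullDim Y = 1) [LocallyOfFiniteType f]
    [QuasiCompact f] (hf : DenseRange f.base) (y : Y) (hy : y ∈ Set.range f.base)
    (Z : Set ↥(f.fiber y)) (hZ : Z ∈ irreducibleComponents ↥(f.fiber y)) :
    topologicalKrullDim Z = topologicalKrullDim ↥(f.fiber (genericPoint Y)) := by
  haveI : IsDominant f := ⟨hf⟩
  obtain ⟨e, he, -⟩ := height_asFiber f (genericPoint X)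
  have hgen : f (genericPoint X) = genericPoint Y := apply_genericPoint_of_dominant f
  rw [dim_fiber_generic f hgen he]
  haveI : LocallyOfFiniteType (f.fiberToSpecResidueField y) := MorphismProperty.pullback_snd _ _ inferInstance
  refine (FlatDim.forall_components_iff (X := f.fiber y) (e : WithBot ℕ∞)).2 (fun m hm => ?_) Z hZ
  obtain ⟨n, hn, hn'⟩ := exists_height_eq (k := Y.residueField y) (f.fiberToSpecResidueField y) m
  rw [FlatEquidim.resTrdeg_fiber_eq] at hn
  rw [hn']
  have hfz : f (f.fiberι y m) = y := FlatEquidim.fiberι_apply_eq f y m
  have hzmax : FlatEquidim.IsFibreMax f (f.fiberι y m) := fun w hw hfw =>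
    FlatDim.eq_fiberι_of_isMax f hm hw (hfw.trans hfz)
  have hsp : genericPoint X ⤳ f.fiberι y m := genericPoint_specializes _
  have hgmax : FlatEquidim.IsFibreMax f (genericPoint X) := fun w hw _ =>
    (hw.antisymm (genericPoint_specializes w)).eq
  have h1 : e ≤ n := le_of_specializes f hsp hgmax he (fibreDimAt_of_fibreMax f hzmax hn).le
  have h2 : n ≤ e := by
    by_cases hzeq : f.fiberι y m = genericPoint X
    · rw [hzeq] at hn
      exact (Nat.cast_injective (R := Cardinal.{u}) (hn.symm.trans he)).le
    · obtain ⟨r, -, -, hr⟩ := chain_ineq f hn he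
        ((RelSeries.singleton _ (f.fiberι y m)).snoc (genericPoint X) (FlatDim.lt_of_specializes_of_ne hsp hzeq))
        (by simp) (by simp [specializes_rfl])
      have h3 : (r.length : WithBot ℕ∞) ≤ 1 := by
        rw [← hY, ← EquidimChart.krullDim_eq]
        exact Order.LTSeries.length_le_krullDim r
      have h4 : r.length ≤ 1 := by exact_mod_cast h3
      simp only [RelSeries.snoc_length, RelSeries.singleton_length, zero_add] at hr
      omega
  rw [le_antisymm h2 h1]
  rfl

end Groth.Agent.S4702
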