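import Groth.Statements.S4703
import Groth.Agent.RegLocus.NagataGlobal
import Groth.Agent.RegLocus.NagataCrit
import Groth.Agent.RegLocus.GeomMisc

set_option autoImplicit false
universe u
open EGA4

namespace Groth.Agent.S4703

open TensorProduct

theorem regular_iff (A B C L : Type u) [CommRing A] [CommRing B] [CommRing C] [IsDomain C] [Field L] [Algebra A B]
    [Algebra A C] [Algebra C L] [IsFractionRing C L] [Algebra A L] [IsScalarTower A C L] :
    (∀ (P : Ideal (L ⊗[A] B)) [P.IsPrime], IsRegularLocalRing (Localization.AtPrime P)) ↔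
      ∀ (q : Ideal (C ⊗[A] B)) [q.IsPrime], q.comap (algebraMap C (C ⊗[A] B)) = ⊥ →
        IsRegularLocalRing (Localization.AtPrime q) := by
  let R := C ⊗[A] B
  let φ : R →ₐ[A] L ⊗[A] B := Algebra.TensorProduct.map (IsScalarTower.toAlgHom A C L) (AlgHom.id A B)
  let M := Algebra.algebraMapSubmonoid R (nonZeroDivisors C)
  letI : Algebra R (L ⊗[C] R) := Algebra.TensorProduct.rightAlgebra
  haveI : IsLocalization M (L ⊗[C] R) := inferInstance
  let e : L ⊗[C] R ≃ₐ[L] L ⊗[A] B := Algebra.TensorProduct.cancelBaseChange A C L L B
  letI : Algebra R (L ⊗[A] B) := φ.toRingHom.toAlgebra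
  have he : ∀ r : R, e ((1 : L) ⊗ₜ[C] r) = φ r := fun r => by
    induction r using TensorProduct.induction_on with
    | zero => simp only [TensorProduct.tmul_zero, map_zero]
    | add x y hx hy => simp only [TensorProduct.tmul_add, map_add, hx, hy]
    | tmul c b =>
      show Algebra.TensorProduct.cancelBaseChange A C L L B ((1 : L) ⊗ₜ[C] (c ⊗ₜ[A] b)) = _
      rw [Algebra.TensorProduct.cancelBaseChange_tmul, Algebra.TensorProduct.map_tmul, Algebra.smul_def, mul_one]
      rfl
  haveI : IsLocalization M (L ⊗[A] B) :=
    IsLocalization.isLocalization_of_algEquiv M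
      ({ e.toRingEquiv with commutes' := fun r => he r } : L ⊗[C] R ≃ₐ[R] L ⊗[A] B)
  refine ⟨fun h q hq hbot => ?_, fun h P _ => ?_⟩
  · have hdis : Disjoint (M : Set R) (q : Set R) := by
      refine Set.disjoint_left.2 ?_
      rintro _ ⟨c, hc, rfl⟩ hmem
      have : c ∈ q.comap (algebraMap C R) := hmem
      rw [hbot] at this
      exact nonZeroDivisors.ne_zero hc this
    let P := q.map (algebraMap R (L ⊗[A] B))
    haveI : P.IsPrime := IsLocalization.isPrime_of_isPrime_disjoint M _ q ‹_› hdis
    have hc : P.comap (algebraMap R (L ⊗[A] B)) = q := IsLocalization.under_map_of_isPrime_disjoint M _ ‹_› hdis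
    haveI := h P
    haveI := IsLocalization.isLocalization_isLocalization_atPrime_isLocalization M (Localization.AtPrime P) P
    exact RegLocus.regular_congr hc (IsRegularLocalRing.of_ringEquiv (R := Localization.AtPrime P)
      (IsLocalization.algEquiv (P.comap (algebraMap R (L ⊗[A] B))).primeCompl (Localization.AtPrime P)
        (Localization.AtPrime (P.comap (algebraMap R (L ⊗[A] B))))).toRingEquiv)
  · let q := P.comap (algebraMap R (L ⊗[A] B))
    have hbot : q.comap (algebraMap C R) = ⊥ := by
      refine (Submodule.eq_bot_iff _).2 fun c hc => by_contra fun hc0 => ?_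
      refine ‹P.IsPrime›.ne_top (P.eq_top_of_isUnit_mem hc ?_)
      exact IsLocalization.map_units (M := M) (L ⊗[A] B) ⟨algebraMap C R c, c, mem_nonZeroDivisors_of_ne_zero hc0, rfl⟩
    haveI := h q hbot
    haveI := IsLocalization.isLocalization_isLocalization_atPrime_isLocalization M (Localization.AtPrime P) P
    exact IsRegularLocalRing.of_ringEquiv (R := Localization.AtPrime q)
      (IsLocalization.algEquiv q.primeCompl (Localization.AtPrime q) (Localization.AtPrime P)).toRingEquiv


open TensorProduct in
/-- For the property 'geometrically regular', case of a local ring: let A be a Noetherian local ring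
with completion Â. Then the formal fibres of A are geometrically regular (the completion map A → Â
is a regular homomorphism) if and only if, for every finite A-algebra B which is a domain and every
prime ideal q of B ⊗_A Â whose contraction to B is zero, the local ring of B ⊗_A Â at q is regular.
(The published statement is for semi-local rings; this row takes A local.) -/
theorem result (A : Type u) [CommRing A] [IsNoetherianRing A] [IsLocalRing A] :
    CAlg.IsRegularHom A (EGA4.Cpl A) ↔
      ∀ (B : Type u) [CommRing B] [IsDomain B] [Algebra A B] [Module.Finite A B]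
        (q : Ideal (B ⊗[A] EGA4.Cpl A)) [q.IsPrime],
        q.comap (algebraMap B (B ⊗[A] EGA4.Cpl A)) = ⊥ → IsRegularLocalRing (Localization.AtPrime q) := by
  obtain ⟨hcN, hff, -⟩ := RegLocus.cpl_facts A
  haveI := hcN
  haveI := hff
  refine ⟨fun h B _ _ _ _ q _ hq => ?_, fun h => ⟨inferInstance, fun p _ => ⟨RegLocus.isNoetherianRing_fiber A _ p, fun L _ _ hfin => ?_⟩⟩⟩
  · let p := RingHom.ker (algebraMap A B)
    haveI : p.IsPrime := RingHom.ker_isPrime _
    let K := FractionRing B
    have hker : ∀ a : A, a ∉ p → IsUnit (algebraMap A K a) := fun a ha => by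
      rw [isUnit_iff_ne_zero, IsScalarTower.algebraMap_apply A B K, ne_eq, map_eq_zero_iff _ (IsFractionRing.injective B K)]
      exact ha
    let g : p.ResidueField →+* K := Ideal.ResidueField.lift p (algebraMap A K)
      (fun a ha => by
        rw [RingHom.mem_ker, IsScalarTower.algebraMap_apply A B K, RingHom.mem_ker.1 ha, map_zero])
      (fun a ha => hker a ha)
    letI : Algebra p.ResidueField K := g.toAlgebra
    haveI : IsScalarTower A p.ResidueField K := IsScalarTower.of_algebraMap_eq fun a =>
      (Ideal.ResidueField.lift_algebraMap _ _ _ _ a).symm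
    haveI : Module.Finite p.ResidueField K := by
      obtain ⟨n, v, hv⟩ := Module.Finite.exists_fin (R := A) (M := B)
      let E : IntermediateField p.ResidueField K :=
        IntermediateField.adjoin _ (Set.range fun i => algebraMap B K (v i))
      haveI : FiniteDimensional p.ResidueField E :=
        IntermediateField.finiteDimensional_adjoin (S := Set.range fun i => algebraMap B K (v i)) (by
          rintro _ ⟨i, rfl⟩
          exact ((Algebra.IsIntegral.isIntegral (R := A) (v i)).map (IsScalarTower.toAlgHom A B K)).tower_top)
      have hD : ∀ d : B, algebraMap B K d ∈ E := by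
        intro d
        obtain ⟨c, rfl⟩ := (Submodule.mem_span_range_iff_exists_fun A).1 (hv ▸ Submodule.mem_top (x := d))
        rw [map_sum]
        refine sum_mem fun i _ => ?_
        rw [Algebra.smul_def, map_mul, ← IsScalarTower.algebraMap_apply, IsScalarTower.algebraMap_apply A p.ResidueField K]
        exact mul_mem (E.algebraMap_mem _) (IntermediateField.subset_adjoin _ _ ⟨i, rfl⟩)
      have hE : E = ⊤ := by
        refine eq_top_iff.2 fun z _ => ?_
        obtain ⟨a, b, -, rfl⟩ := IsFractionRing.div_surjective B z
        exact div_mem (hD a) (hD b)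
      haveI : FiniteDimensional p.ResidueField (⊤ : IntermediateField p.ResidueField K) :=
        hE ▸ ‹FiniteDimensional p.ResidueField E›
      exact Module.Finite.equiv (IntermediateField.topEquiv (F := p.ResidueField) (E := K)).toLinearEquiv
    have hreg : IsRegularRing (K ⊗[A] EGA4.Cpl A) :=
      RegLocus.isRegularRing_of_ringEquiv'
        (Algebra.TensorProduct.cancelBaseChange A p.ResidueField p.ResidueField K (EGA4.Cpl A)).toRingEquiv
        ((h.2 p).2 K inferInstance)
    exact (regular_iff A (EGA4.Cpl A) B K).1 (fun P _ => hreg.isRegularLocalRing_localization P) q hq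
  · haveI := hfin
    letI : Algebra A L := ((algebraMap p.ResidueField L).comp (algebraMap A p.ResidueField)).toAlgebra
    haveI : IsScalarTower A p.ResidueField L := IsScalarTower.of_algebraMap_eq fun _ => rfl
    letI : Algebra (A ⧸ p) L := ((algebraMap p.ResidueField L).comp (algebraMap (A ⧸ p) p.ResidueField)).toAlgebra
    haveI : IsScalarTower A (A ⧸ p) L := IsScalarTower.of_algebraMap_eq fun a => by
      rw [IsScalarTower.algebraMap_apply A p.ResidueField L, IsScalarTower.algebraMap_apply A (A ⧸ p) p.ResidueField]
      rfl
    let e : FractionRing (A ⧸ p) ≃ₐ[A ⧸ p] p.ResidueField := FractionRing.algEquiv (A ⧸ p) p.ResidueField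
    letI : Algebra (FractionRing (A ⧸ p)) L := ((algebraMap p.ResidueField L).comp e.toRingEquiv.toRingHom).toAlgebra
    haveI : IsScalarTower (A ⧸ p) (FractionRing (A ⧸ p)) L := IsScalarTower.of_algebraMap_eq fun a => by
      show _ = algebraMap p.ResidueField L (e (algebraMap (A ⧸ p) _ a))
      rw [AlgEquiv.commutes]
      rfl
    haveI : Module.Finite (FractionRing (A ⧸ p)) L := by
      let b := Module.finBasis p.ResidueField L
      refine ⟨⟨Finset.univ.map ⟨b, b.injective⟩, eq_top_iff.2 fun x _ => ?_⟩⟩
      rw [← b.sum_repr x]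
      refine sum_mem fun i _ => ?_
      have : b.repr x i • b i = (e.symm (b.repr x i)) • b i := by
        rw [Algebra.smul_def, Algebra.smul_def]
        show _ = algebraMap p.ResidueField L (e (e.symm (b.repr x i))) * b i
        rw [AlgEquiv.apply_symm_apply]
      rw [this]
      exact Submodule.smul_mem _ _ (Submodule.subset_span (by simp))
    obtain ⟨C, hC, hCL⟩ := RegLocus.exists_finite_subalgebra (A ⧸ p) L
    haveI := hC
    haveI := hCL
    letI : Algebra A C := ((algebraMap (A ⧸ p) C).comp (Ideal.Quotient.mk p)).toAlgebra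
    haveI : IsScalarTower A (A ⧸ p) C := IsScalarTower.of_algebraMap_eq fun _ => rfl
    haveI : IsScalarTower A C L := IsScalarTower.of_algebraMap_eq fun a => by
      rw [IsScalarTower.algebraMap_apply A (A ⧸ p) L, IsScalarTower.algebraMap_apply A (A ⧸ p) C,
        ← IsScalarTower.algebraMap_apply (A ⧸ p) C L]
    haveI : Module.Finite A C := Module.Finite.trans (A ⧸ p) C
    haveI : IsNoetherianRing (L ⊗[A] EGA4.Cpl A) := RegLocus.isNoetherianRing_tensor_finite A (EGA4.Cpl A) p L
    have hreg : IsRegularRing (L ⊗[A] EGA4.Cpl A) :=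
      ⟨fun P _ => (regular_iff A (EGA4.Cpl A) C L).2 (fun q _ hq => h C q hq) P⟩
    exact RegLocus.isRegularRing_of_ringEquiv'
      (Algebra.TensorProduct.cancelBaseChange A p.ResidueField p.ResidueField L (EGA4.Cpl A)).toRingEquiv.symm hreg

end Groth.Agent.S4703
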