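import Groth.Statements.S4706
import Groth.Agent.CAlgReg.Basic
import Groth.Agent.RegNormal.Basic
import Groth.Agent.RegLocus.CplDescendHom

set_option autoImplicit false
universe u
open EGA4

namespace Groth.Agent.S4706


theorem isNormalRing_of_regular (R : Type u) [CommRing R] (h : IsRegularRing R) : EGA4.IsNormalRing R := fun p _ => by
  haveI := h.isRegularLocalRing_localization p
  exact ⟨CAlgReg.isDomain, RegNormal.isIntegrallyClosed _⟩


/-- Let A → A' be a local homomorphism of Noetherian local rings which is normal (flat, with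
geometrically normal fibres). If the completion map of A' is regular (the formal fibres of A' are
geometrically regular), then the formal fibres of A are geometrically normal. -/
theorem result (A A' : Type u) [CommRing A] [CommRing A']
    [IsNoetherianRing A] [IsNoetherianRing A'] [IsLocalRing A] [IsLocalRing A'] [Algebra A A']
    [IsLocalHom (algebraMap A A')] (hf : EGA4.IsNormalHom A A') (hA' : CAlg.IsRegularHom A' (EGA4.Cpl A')) :
    EGA4.HasGeomNormalFormalFibres A := by
  obtain ⟨hN', hff', -⟩ := RegLocus.cpl_facts A'
  haveI := hN'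
  haveI := hff'
  haveI := hf.1
  obtain ⟨hNA, -, -⟩ := RegLocus.cpl_facts A
  haveI := hNA
  obtain ⟨_, _, hff⟩ := RegLocus.exists_cpl_faithfullyFlat A A'
  haveI := hff
  haveI : Module.Flat A (EGA4.Cpl A') := Module.Flat.trans A A' (EGA4.Cpl A')
  exact (RegLocus.isNormalHom_descend A (EGA4.Cpl A) (EGA4.Cpl A')
    ⟨inferInstance, fun p _ => RegLocus.geomNormal_trans A A' (EGA4.Cpl A') hf.2
      (fun q _ k' _ _ hk => isNormalRing_of_regular _ ((hA'.2 q).2 k' hk)) p⟩).2

end Groth.Agent.S4706
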