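import Groth.Statements.S4709
import Groth.Agent.CAlgNagata.Main
import Groth.Agent.RegLocus.NagataGlobal

set_option autoImplicit false
universe u
open EGA4

namespace Groth.Agent.S4709

/-- Let A be a Noetherian ring such that (i) for every maximal ideal m the formal fibres of A_m are
geometrically reduced, and (ii) the regular locus of every A-algebra of finite type is open (A is
J-2). Then A is universally Japanese. -/
theorem result (A : Type u) [CommRing A] [IsNoetherianRing A]
    (h1 : ∀ (m : Ideal A) [m.IsMaximal], EGA4.HasGeomReducedFormalFibres (Localization.AtPrime m))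
    (h2 : EGA4.IsJ2 A) : CAlg.IsUniversallyJapanese A := by
  refine (CAlgNagata.isNagata_iff.1 (RegLocus.isNagata_of_local_generic A (fun M _ P _ =>
    RegLocus.isN2_quotient_of_geomReduced (Localization.AtPrime M) (h1 M) P)
    fun p _ K' _ _ _ _ _ _ B hfin hfr => ?_)).2
  haveI := hfin
  letI : Algebra A B := ((algebraMap (A ⧸ p) B).comp (Ideal.Quotient.mk p)).toAlgebra
  haveI : IsScalarTower A (A ⧸ p) B := IsScalarTower.of_algebraMap_eq fun _ => rfl
  haveI : Algebra.FiniteType A B :=
    Algebra.FiniteType.trans (inferInstance : Algebra.FiniteType A (A ⧸ p)) (inferInstance : Algebra.FiniteType (A ⧸ p) B)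
  exact RegLocus.exists_away_integrallyClosed B (h2 B inferInstance)

end Groth.Agent.S4709
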