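import Groth.Statements.S4710
import Groth.Agent.RegLocus.NagataGlobal

set_option autoImplicit false
universe u
open EGA4

namespace Groth.Agent.S4710

/-- Last assertion, case of rings of fractions: if A is a Noetherian ring all of whose quotient domains
are Japanese (a Nagata ring), then so is every ring of fractions S⁻¹A. -/
theorem result (A : Type u) [CommRing A] (hA : CAlg.IsNagata A) (S : Submonoid A) :
    CAlg.IsNagata (Localization S) := by
  haveI := hA.1
  refine ⟨IsLocalization.isNoetherianRing S (Localization S) inferInstance, fun P _ => ?_⟩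
  let q := P.comap (algebraMap A (Localization S))
  letI : Algebra (A ⧸ q) (Localization S ⧸ P) :=
    (Ideal.quotientMap P (algebraMap A (Localization S)) le_rfl).toAlgebra
  have hq : ∀ s ∈ S, (s : A) ∉ q := fun s hs h =>
    ‹P.IsPrime›.ne_top (P.eq_top_of_isUnit_mem h (IsLocalization.map_units (Localization S) (⟨s, hs⟩ : S)))
  haveI : IsLocalization (S.map (Ideal.Quotient.mk q)) (Localization S ⧸ P) :=
    { map_units := by
        rintro ⟨_, s, hs, rfl⟩
        exact (IsLocalization.map_units (Localization S) (⟨s, hs⟩ : S)).map (Ideal.Quotient.mk P)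
      surj := by
        intro z
        obtain ⟨z, rfl⟩ := Ideal.Quotient.mk_surjective z
        obtain ⟨⟨a, s⟩, ha⟩ := IsLocalization.surj S z
        exact ⟨⟨Ideal.Quotient.mk q a, ⟨Ideal.Quotient.mk q s, s, s.2, rfl⟩⟩,
          (map_mul (Ideal.Quotient.mk P) _ _).symm.trans (congrArg (Ideal.Quotient.mk P) ha)⟩
      exists_of_eq := by
        intro x y h
        exact ⟨1, by rw [Ideal.quotientMap_injective h]⟩ }
  exact N2Lib.isN2_of_isLocalization (S.map (Ideal.Quotient.mk q)) (Localization S ⧸ P) (hA.2 q)

end Groth.Agent.S4710
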