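import Groth.Statements.S4711
import Groth.Agent.NoethPts.Basic

set_option autoImplicit false
universe u
open EGA4

namespace Groth.Agent.S4711

open Topology AlgebraicGeometry in
theorem key {Y : Type u} [TopologicalSpace Y] {E : Set Y} (hE : IsConstructible E) :
    ∀ x ∈ E, ∃ Z, IsLocallyClosed Z ∧ x ∈ Z ∧ Z ⊆ E := by
  suffices (∀ x ∈ E, ∃ Z, IsLocallyClosed Z ∧ x ∈ Z ∧ Z ⊆ E) ∧ (∀ x ∈ Eᶜ, ∃ Z, IsLocallyClosed Z ∧ x ∈ Z ∧ Z ⊆ Eᶜ) from this.1
  induction hE using IsConstructible.empty_union_induction with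
  | open_retrocompact U hU _ => exact ⟨fun x hx => ⟨U, hU.isLocallyClosed, hx, subset_rfl⟩, fun x hx => ⟨Uᶜ, hU.isClosed_compl.isLocallyClosed, hx, subset_rfl⟩⟩
  | union s _ t _ hs ht =>
    refine ⟨fun x hx => ?_, fun x hx => ?_⟩
    · rcases hx with hx | hx
      · obtain ⟨Z, h1, h2, h3⟩ := hs.1 x hx; exact ⟨Z, h1, h2, h3.trans Set.subset_union_left⟩
      · obtain ⟨Z, h1, h2, h3⟩ := ht.1 x hx; exact ⟨Z, h1, h2, h3.trans Set.subset_union_right⟩
    · rw [Set.compl_union] at hx ⊢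
      obtain ⟨Z, h1, h2, h3⟩ := hs.2 x hx.1
      obtain ⟨Z', h1', h2', h3'⟩ := ht.2 x hx.2
      exact ⟨Z ∩ Z', h1.inter h1', ⟨h2, h2'⟩, Set.inter_subset_inter h3 h3'⟩
  | compl s _ hs => exact ⟨hs.2, by rw [compl_compl]; exact hs.1⟩


open AlgebraicGeometry Topology in
/-- In any scheme X, every nonempty locally constructible subset E contains a point x such that the
one-point set {x} is locally closed in X (equivalently x is isolated in its closure). -/
theorem result (X : Scheme.{u}) (E : Set X)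
    (hE : Topology.IsLocallyConstructible E) (hne : E.Nonempty) :
    ∃ x ∈ E, IsLocallyClosed ({x} : Set X) := by
  obtain ⟨x₀, hx₀⟩ := hne
  obtain ⟨U, hU, hUo, hc⟩ := hE x₀
  obtain ⟨Z, hZ, hxZ, hZE⟩ := key hc ⟨x₀, mem_of_mem_nhds hU⟩ hx₀
  obtain ⟨x, hx, hx'⟩ := NoethPts.exists_isLocallyClosed_singleton
    (hZ.image hUo.isOpenEmbedding_subtypeVal.isInducing (by simpa using hUo.isLocallyClosed))
    (⟨_, Set.mem_image_of_mem _ hxZ⟩)
  obtain ⟨z, hz, rfl⟩ := hx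
  exact ⟨_, hZE hz, hx'⟩

end Groth.Agent.S4711
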