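import Groth.Statements.S4713
import Groth.Agent.NoethPts.Basic

set_option autoImplicit false
universe u
open EGA4

namespace Groth.Agent.S4713

open AlgebraicGeometry in
/-- In a locally Noetherian scheme X, every nonempty closed subset contains a closed point of X. -/
theorem result (X : Scheme.{u}) [IsLocallyNoetherian X]
    (Z : Set X) (hZ : IsClosed Z) (hne : Z.Nonempty) : ∃ x ∈ Z, IsClosed ({x} : Set X) := by
  obtain ⟨x, hxZ, hx⟩ := NoethPts.exists_isLocallyClosed_singleton hZ.isLocallyClosed hne
  by_cases h : IsClosed ({x} : Set X)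
  · exact ⟨x, hxZ, h⟩
  obtain ⟨y, hy, hne⟩ : ∃ y ∈ closure ({x} : Set X), y ∉ ({x} : Set X) := by
    by_contra h'
    push Not at h'
    exact h (closure_eq_iff_isClosed.1 (subset_antisymm h' subset_closure))
  exact ⟨y, closure_minimal (Set.singleton_subset_iff.2 hxZ) hZ hy,
    NoethPts.isClosed_singleton_of_specializes hx (specializes_iff_mem_closure.2 hy) hne⟩

end Groth.Agent.S4713
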