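import Groth.Statements.S4714
import Groth.Agent.DimTheory.LocClosed
import Mathlib

set_option autoImplicit false
universe u
open EGA4

set_option backward.isDefEq.respectTransparency.types false
namespace Groth.Agent.S4714

open AlgebraicGeometry CategoryTheory


open AlgebraicGeometry CategoryTheory in
/-- For a section of the structure sheaf: let X be a scheme locally of finite type over a field k and f
a global section of O_X whose zero locus Y is nowhere dense in X. Then dim Y + 1 ≤ dim X. If
moreover some irreducible component of X has dimension equal to dim X and Y meets every such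
component, then dim Y + 1 = dim X. (The published statement is for a section of an invertible sheaf;
the existence of a component of maximal dimension, implicit in the published wording, is made a
hypothesis of the equality clause.) -/
theorem result (k : Type u) [Field k] (X : Scheme.{u}) (p : X ⟶ Spec (CommRingCat.of k))
    [LocallyOfFiniteType p] (f : Γ(X, ⊤)) (hY : interior (X.zeroLocus (U := ⊤) {f}) = ∅) :
    topologicalKrullDim (X.zeroLocus (U := ⊤) {f}) + 1 ≤ topologicalKrullDim X ∧
      ((∃ Z ∈ irreducibleComponents (X : Type u), topologicalKrullDim Z = topologicalKrullDim X) →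
        (∀ Z ∈ irreducibleComponents (X : Type u), topologicalKrullDim Z = topologicalKrullDim X →
          (Z ∩ X.zeroLocus (U := ⊤) {f}).Nonempty) →
        topologicalKrullDim (X.zeroLocus (U := ⊤) {f}) + 1 = topologicalKrullDim X) := by
  haveI : IsLocallyNoetherian X := LocallyOfFiniteType.isLocallyNoetherian p
  let Y := X.zeroLocus (U := ⊤) {f}
  have hYc : IsClosed Y := X.zeroLocus_isClosed _
  have hmemY : ∀ a : X, a ∈ Y ↔ a ∉ X.basicOpen f := fun a => by
    rw [Scheme.mem_zeroLocus_iff]; simp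
  have hdimY : topologicalKrullDim Y = ⨆ z : Y, (Order.height z.1 : WithBot ℕ∞) :=
    Groth.Agent.DimTheory.topologicalKrullDim_locallyClosed p hYc.isLocallyClosed
  have hdimX := Groth.Agent.DimTheory.topologicalKrullDim_eq_iSup_height X
  have hnm : ∀ a ∈ Y, ∃ b : X, a < b := fun a ha => by
    by_contra hc
    push Not at hc
    have hmx : ∀ b : X, b ⤳ a → a ⤳ b := fun b hb => by
      by_contra h
      exact hc b (lt_of_le_not_ge hb h)
    -- a maximal point has a neighbourhood contained in its closure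
    obtain ⟨A, hA, haA, -⟩ := exists_isAffineOpen_mem_and_subset (X := X) (x := a) (U := ⊤) trivial
    haveI : IsNoetherianRing Γ(X, A) := IsLocallyNoetherian.component_noetherian ⟨A, hA⟩
    haveI := noetherianSpace_of_isAffineOpen A hA
    let a' : (A : Scheme.{u}) := ⟨a, haA⟩
    have hfin : {Z ∈ irreducibleComponents (A : Scheme.{u}) | a' ∉ Z}.Finite :=
      TopologicalSpace.NoetherianSpace.finite_irreducibleComponents.subset fun _ h => h.1
    let R : Set (A : Scheme.{u}) := ⋃ Z ∈ {Z ∈ irreducibleComponents (A : Scheme.{u}) | a' ∉ Z}, Z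
    have hR : IsClosed R := hfin.isClosed_biUnion fun Z h => isClosed_of_mem_irreducibleComponents Z h.1
    have hsub : A.ι '' Rᶜ ⊆ Y := by
      rintro _ ⟨z, hz, rfl⟩
      obtain ⟨Z, hZ, hzZ⟩ : ∃ Z ∈ irreducibleComponents (A : Scheme.{u}), z ∈ Z :=
        ⟨irreducibleComponent z, irreducibleComponent_mem_irreducibleComponents z, mem_irreducibleComponent⟩
      have haZ : a' ∈ Z := by
        by_contra h
        exact hz (Set.mem_iUnion₂.2 ⟨Z, ⟨hZ, h⟩, hzZ⟩)
      obtain ⟨ζ, hζ⟩ := QuasiSober.sober hZ.1 (isClosed_of_mem_irreducibleComponents Z hZ)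
      exact ((hmx (A.ι ζ) ((hζ.specializes haZ).map A.ι.continuous)).trans
        ((hζ.specializes hzZ).map A.ι.continuous)).mem_closed hYc ha
    have hopen := interior_maximal hsub (A.ι.isOpenEmbedding.isOpenMap _ hR.isOpen_compl)
    have : a ∈ interior Y := hopen ⟨a', fun h => by
      obtain ⟨Z, ⟨-, hn⟩, hm⟩ := Set.mem_iUnion₂.1 h
      exact hn hm, rfl⟩
    rw [show interior Y = ∅ from hY] at this
    exact this
  have h1 : topologicalKrullDim Y + 1 ≤ topologicalKrullDim X := by
    rcases isEmpty_or_nonempty Y with hE | hE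
    · rw [hdimY, iSup_of_empty]
      simp
    rw [hdimY, ← WithBot.coe_iSup (OrderTop.bddAbove _), ← WithBot.coe_one, ← WithBot.coe_add, ENat.iSup_add,
      WithBot.coe_iSup (OrderTop.bddAbove _), hdimX]
    · refine iSup_le fun z => ?_
      obtain ⟨b, hb⟩ := hnm z.1 z.2
      refine le_trans ?_ (le_iSup (fun x : X => (Order.height x : WithBot ℕ∞)) b)
      exact_mod_cast Order.height_add_one_le hb
  refine ⟨h1, fun ⟨Z, hZ, hZd⟩ hmeet => le_antisymm h1 ?_⟩
  obtain ⟨η, hη⟩ := QuasiSober.sober hZ.1 (isClosed_of_mem_irreducibleComponents Z hZ)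
  have hηX : topologicalKrullDim X ≤ (Order.height η : WithBot ℕ∞) := by
    rw [← hZd, Groth.Agent.DimTheory.topologicalKrullDim_locallyClosed p (isClosed_of_mem_irreducibleComponents Z hZ).isLocallyClosed]
    exact iSup_le fun z => WithBot.coe_le_coe.2 (Order.height_mono (hη.specializes z.2))
  obtain ⟨z, hzZ, hzY⟩ := hmeet Z hZ hZd
  obtain ⟨A, hA, hzA, -⟩ := exists_isAffineOpen_mem_and_subset (X := X) (x := z) (U := ⊤) trivial
  let i := hA.fromSpec
  haveI : IsOpenImmersion i := hA.isOpenImmersion_fromSpec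
  have hηz : η ⤳ z := hη.specializes hzZ
  obtain ⟨(pz : PrimeSpectrum Γ(X, A)), hpz⟩ : z ∈ Set.range i := by rw [hA.range_fromSpec]; exact hzA
  obtain ⟨(q : PrimeSpectrum Γ(X, A)), hq⟩ : η ∈ Set.range i := by rw [hA.range_fromSpec]; exact hηz.mem_open A.2 hzA
  let g : Γ(X, A) := X.presheaf.map (homOfLE (le_top : A ≤ ⊤)).op f
  have hg : ∀ r : PrimeSpectrum Γ(X, A), i r ∈ Y ↔ g ∈ r.asIdeal := fun r => by
    have hAr : i r ∈ A := by
      have h := Set.mem_range_self (f := i) r
      rwa [hA.range_fromSpec] at h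
    rw [hmemY, show g ∈ r.asIdeal ↔ ¬ r ∈ i ⁻¹ᵁ X.basicOpen g by
      rw [hA.fromSpec_preimage_basicOpen]; exact (not_not (a := g ∈ r.asIdeal)).symm]
    refine not_congr ?_
    show i r ∈ X.basicOpen f ↔ i r ∈ X.basicOpen g
    rw [Scheme.basicOpen_res]
    exact ⟨fun h => ⟨hAr, h⟩, fun h => h.2⟩
  have hqz : q.asIdeal ≤ pz.asIdeal := (PrimeSpectrum.le_iff_specializes q pz).2
    (i.isOpenEmbedding.isInducing.specializes_iff.1 (show i q ⤳ i pz by rw [hq, hpz]; exact hηz))
  haveI : IsNoetherianRing Γ(X, A) := IsLocallyNoetherian.component_noetherian ⟨A, hA⟩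
  have hgz : g ∈ pz.asIdeal := (hg pz).1 (by rw [hpz]; exact hzY)
  obtain ⟨P, hP, hPz⟩ := Ideal.exists_minimalPrimes_le (I := q.asIdeal ⊔ Ideal.span {g}) (J := pz.asIdeal)
    (sup_le hqz ((Ideal.span_singleton_le_iff_mem _).2 hgz))
  haveI := hP.1.1
  have hqP : q.asIdeal ≤ P := le_sup_left.trans hP.1.2
  have hgP : g ∈ P := hP.1.2 (Ideal.mem_sup_right (Ideal.mem_span_singleton_self g))
  let P' : PrimeSpectrum Γ(X, A) := ⟨P, inferInstance⟩
  have hxY : i P' ∈ Y := (hg P').2 hgP
  have hgq : g ∉ q.asIdeal := fun h => by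
    have hηY : η ∈ Y := hq ▸ (hg q).2 h
    obtain ⟨b, hb⟩ := hnm η hηY
    have hbη : b ⤳ η := hb.le
    have hsub : Z ⊆ closure {b} := hη.def ▸ closure_minimal (Set.singleton_subset_iff.2 hbη.mem_closure) isClosed_closure
    have heq : closure {b} ⊆ Z := hZ.2 isIrreducible_singleton.closure hsub
    exact hb.not_ge (hη.specializes (heq (subset_closure rfl)))
  have hcov : i P' ⋖ η := by
    refine ⟨lt_of_le_not_ge ?_ ?_, fun w h1 h2 => ?_⟩
    · show η ⤳ i P'
      rw [← hq]
      exact ((PrimeSpectrum.le_iff_specializes q P').1 hqP).map i.continuous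
    · intro h
      exact hgq ((PrimeSpectrum.le_iff_specializes P' q).2 (i.isOpenEmbedding.isInducing.specializes_iff.1
        (show i P' ⤳ i q by rw [hq]; exact h)) hgP)
    · have hwA : w ∈ A := by
        refine (show w ⤳ i P' from h1.le).mem_open A.2 ?_
        have h := Set.mem_range_self (f := i) P'
        rwa [hA.range_fromSpec] at h
      obtain ⟨(r : PrimeSpectrum Γ(X, A)), hr⟩ : w ∈ Set.range i := by rw [hA.range_fromSpec]; exact hwA
      have hrP : r.asIdeal ≤ P := (PrimeSpectrum.le_iff_specializes r P').2 (i.isOpenEmbedding.isInducing.specializes_iff.1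
        (show i r ⤳ i P' by rw [hr]; exact h1.le))
      have hqr : q.asIdeal ≤ r.asIdeal := (PrimeSpectrum.le_iff_specializes q r).2 (i.isOpenEmbedding.isInducing.specializes_iff.1
        (show i q ⤳ i r by rw [hr, hq]; exact h2.le))
      have hrP' : r.asIdeal < P := lt_of_le_of_ne hrP fun h => h1.not_ge (by
        show i P' ⤳ w
        rw [← hr, show r = P' from PrimeSpectrum.ext h])
      have hqr' : q.asIdeal < r.asIdeal := lt_of_le_of_ne hqr fun h => h2.not_ge (by
        show w ⤳ η
        rw [← hr, ← hq, PrimeSpectrum.ext h])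
      let π := Ideal.Quotient.mk q.asIdeal
      have hk : ∀ J : Ideal Γ(X, A), q.asIdeal ≤ J → (J.map π).comap π = J := fun J hJ => by
        rw [Ideal.comap_map_of_surjective _ Ideal.Quotient.mk_surjective, ← RingHom.ker_eq_comap_bot, Ideal.mk_ker, sup_eq_left]
        exact hJ
      haveI : (r.asIdeal.map π).IsPrime := Ideal.map_isPrime_of_surjective Ideal.Quotient.mk_surjective (by rw [Ideal.mk_ker]; exact hqr)
      haveI : (P.map π).IsPrime := Ideal.map_isPrime_of_surjective Ideal.Quotient.mk_surjective (by rw [Ideal.mk_ker]; exact hqP)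
      have hmin : P.map π ∈ (Ideal.span {π g}).minimalPrimes := by
        refine ⟨⟨inferInstance, (Ideal.span_singleton_le_iff_mem _).2 (Ideal.mem_map_of_mem π hgP)⟩, fun Q hQ hle => ?_⟩
        refine Ideal.map_le_iff_le_comap.2 (hP.2 ⟨hQ.1.comap π, sup_le ?_ ?_⟩ ?_)
        · intro a ha
          rw [Ideal.mem_comap, Ideal.Quotient.eq_zero_iff_mem.2 ha]
          exact Q.zero_mem
        · exact (Ideal.span_singleton_le_iff_mem _).2 (hQ.2 (Ideal.mem_span_singleton_self _))
        · exact (Ideal.comap_mono hle).trans (hk P hqP).le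
      have hb : (⊥ : Ideal (Γ(X, A) ⧸ q.asIdeal)) < r.asIdeal.map π := by
        refine lt_of_le_of_ne bot_le fun h => hqr'.ne ?_
        rw [← hk r.asIdeal hqr, ← h, ← RingHom.ker_eq_comap_bot, Ideal.mk_ker]
      have hc : r.asIdeal.map π < P.map π := lt_of_le_of_ne (Ideal.map_mono hrP) fun h => hrP'.ne (by
        rw [← hk r.asIdeal hqr, h, hk P hqP])
      have e1 := Ideal.height_strict_mono_of_isPrime hb
      have e2 := Ideal.height_strict_mono_of_isPrime hc
      have e3 := Ideal.height_le_one_of_isPrincipal_of_mem_minimalPrimes _ _ hmin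
      exact absurd (e2.trans_le e3) (not_lt.2 (ENat.one_le_iff_ne_zero.2 (ne_bot_of_gt e1)))
  refine hηX.trans ?_
  rw [Groth.Agent.DimTheory.height_eq_add_one_of_covBy p hcov, hdimY]
  push_cast
  exact add_le_add (le_iSup (fun z : Y => (Order.height z.1 : WithBot ℕ∞)) ⟨i P', hxY⟩) le_rfl

end Groth.Agent.S4714
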