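import Groth.Statements.S4715
import Groth.Agent.DimTheory.Scheme
import Mathlib

set_option autoImplicit false
universe u
open EGA4

set_option backward.isDefEq.respectTransparency.types false
namespace Groth.Agent.S4715

open AlgebraicGeometry CategoryTheory


open AlgebraicGeometry CategoryTheory in
/-- Let f : X → Y be a quasi-finite morphism (of finite type with discrete fibres) of locally Noetherian
schemes. Then dim X is at most the dimension of the closure of f(X), which is at most dim Y. -/
theorem result {X Y : Scheme.{u}} (f : X ⟶ Y) [IsLocallyNoetherian X] [IsLocallyNoetherian Y]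
    [LocallyQuasiFinite f] [LocallyOfFiniteType f] [QuasiCompact f] :
    topologicalKrullDim X ≤ topologicalKrullDim (closure (Set.range f.base)) ∧
      topologicalKrullDim (closure (Set.range f.base)) ≤ topologicalKrullDim Y := by
  refine ⟨?_, ?_⟩
  · let C : TopologicalSpace.Closeds Y := ⟨closure (Set.range f.base), isClosed_closure⟩
    have hr : Set.range (Scheme.IdealSheafData.vanishingIdeal C).subschemeι = (C : Set Y) := by
      rw [Scheme.IdealSheafData.range_subschemeι, Scheme.IdealSheafData.coe_support_vanishingIdeal]
    let j := (Scheme.IdealSheafData.vanishingIdeal C).subschemeι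
    rw [show topologicalKrullDim (closure (Set.range f.base) : Set Y) = topologicalKrullDim (Set.range j) from by
        rw [hr]; rfl,
      ← j.isEmbedding.toHomeomorph.isHomeomorph.topologicalKrullDim_eq _,
      Groth.Agent.DimTheory.topologicalKrullDim_eq_iSup_height, Groth.Agent.DimTheory.topologicalKrullDim_eq_iSup_height]
    have hg : ∀ x : X, ∃ c, j c = f x := fun x => hr.ge (subset_closure (Set.mem_range_self x))
    choose φ hφ using hg
    refine iSup_le fun x => le_trans (WithBot.coe_le_coe.2 ?_) (le_iSup (fun c => (Order.height c : WithBot ℕ∞)) (φ x))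
    refine Order.height_le_height_apply_of_strictMono φ (fun a b h => ?_) x
    have hs : φ b ⤳ φ a := j.isEmbedding.isInducing.specializes_iff.1 (by
      rw [hφ, hφ]; exact (show b ⤳ a from h.le).map f.continuous)
    refine lt_of_le_not_ge hs fun h' => h.not_ge ?_
    have e : f b = f a := by rw [← hφ, ← hφ, (hs.antisymm h').eq]
    obtain ⟨wa, hwa⟩ : a ∈ Set.range (f.fiberι (f a)) := by rw [f.range_fiberι]; rfl
    obtain ⟨wb, hwb⟩ : b ∈ Set.range (f.fiberι (f a)) := by rw [f.range_fiberι]; exact e
    have hsp : wb ⤳ wa := (f.fiberι (f a)).isEmbedding.isInducing.specializes_iff.1 (by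
      rw [hwa, hwb]; exact h.le)
    haveI : DiscreteTopology (f.fiber (f a)) := inferInstance
    rw [← hwa, ← hwb, (specializes_iff_eq.1 hsp)]
  · exact topologicalKrullDim_subspace_le _ _

end Groth.Agent.S4715
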