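import Groth.Statements.S4716
import Groth.Agent.DimTheory.Scheme

set_option autoImplicit false
universe u
open EGA4

namespace Groth.Agent.S4716

open Groth.Agent AlgebraicGeometry CategoryTheory TopologicalSpace

theorem generalizingMap_of_isOpenMap {X Y : Scheme.{u}} [IsLocallyNoetherian X] (f : X ⟶ Y) (h : IsOpenMap f.base) :
    GeneralizingMap f.base := by
  intro x y' hy'
  obtain ⟨W, hW, hxW, -⟩ := Opens.isBasis_iff_nbhd.1 X.isBasis_affineOpens (show x ∈ (⊤ : X.Opens) from trivial)
  have : IsNoetherianRing Γ(X, W) := IsLocallyNoetherian.component_noetherian ⟨W, hW⟩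
  have hWn : NoetherianSpace (W : Set X) := noetherianSpace_of_isAffineOpen W hW
  let S : Set (W : Set X) := {w | f.base w.1 = y'}
  obtain ⟨T, hTf, hTc, hTi, hT⟩ := NoetherianSpace.exists_finite_set_isClosed_irreducible (isClosed_closure (s := S))
  let T' := {t ∈ T | (S ∩ t).Nonempty}
  have hx : (⟨x, hxW⟩ : (W : Set X)) ∈ closure S := by
    rw [mem_closure_iff]
    intro o ho hxo
    have hopen := h _ (W.isOpen.isOpenMap_subtype_val o ho)
    obtain ⟨_, ⟨w, hw, rfl⟩, hwy⟩ := hy'.mem_open hopen ⟨x, ⟨⟨x, hxW⟩, hxo, rfl⟩, rfl⟩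
    exact ⟨w, hw, hwy⟩
  have hsub : closure S ⊆ ⋃₀ T' := by
    have hcl : IsClosed (⋃₀ T') := by
      rw [Set.sUnion_eq_biUnion]
      exact (hTf.subset (Set.sep_subset _ _)).isClosed_biUnion fun t (ht : t ∈ T') => hTc t ht.1
    refine closure_minimal (fun w hw => ?_) hcl
    obtain ⟨t, ht, hwt⟩ := hT.subset (subset_closure hw)
    exact ⟨t, ⟨ht, w, hw, hwt⟩, hwt⟩
  obtain ⟨t, ⟨ht, w, hwS, hwt⟩, hxt⟩ := hsub hx
  have : QuasiSober (W : Set X) := (W.isOpen.isOpenEmbedding_subtypeVal).quasiSober
  obtain ⟨η, hη⟩ := QuasiSober.sober (hTi t ht) (hTc t ht)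
  refine ⟨η.1, (hη.specializes hxt).map continuous_subtype_val, ?_⟩
  have h1 : f.base η.1 ⤳ y' := hwS ▸ ((hη.specializes hwt).map continuous_subtype_val).map f.base.hom.continuous
  have h2 : y' ⤳ f.base η.1 := specializes_iff_mem_closure.2 (by
    have hcont : Continuous fun w : (W : Set X) => f.base w.1 := f.base.hom.continuous.comp continuous_subtype_val
    have : η ∈ closure S := hT.ge ⟨t, ht, hη.mem⟩
    exact closure_mono (by rintro _ ⟨v, hv, rfl⟩; exact hv) (image_closure_subset_closure_image hcont ⟨η, this, rfl⟩))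
  exact (h1.antisymm h2).eq

theorem exists_lift_gen {X Y : Scheme.{u}} (f : X ⟶ Y) (hs : Function.Surjective f.base) (hg : GeneralizingMap f.base) :
    ∀ (n : ℕ) (l : LTSeries Y), l.length = n → ∃ l' : LTSeries X, l'.length = n ∧ f.base l'.last = l.last := by
  intro n
  induction n with
  | zero =>
    intro l hl
    obtain ⟨x, hx⟩ := hs l.last
    exact ⟨RelSeries.singleton _ x, rfl, hx⟩
  | succ n ih =>
    intro l hl
    obtain ⟨l', hl', he⟩ := ih l.eraseLast (by simp [hl])
    have hlt : l.eraseLast.last < l.last := l.eraseLast_last_rel_last (by omega)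
    have hsp : l.last ⤳ f.base l'.last := he ▸ hlt.le
    obtain ⟨x, hx, hfx⟩ := hg hsp
    have hx' : l'.last < x := lt_iff_le_not_ge.2 ⟨hx, fun hxle => by
      have h2 : f.base l'.last ⤳ f.base x := Specializes.map hxle f.base.hom.continuous
      rw [he, hfx] at h2
      exact hlt.not_ge h2⟩
    exact ⟨l'.snoc x hx', by simp [hl'], by rw [RelSeries.last_snoc, hfx]⟩

theorem exists_lift_spec {X Y : Scheme.{u}} (f : X ⟶ Y) (hs : Function.Surjective f.base) (hg : SpecializingMap f.base) :
    ∀ (n : ℕ) (l : LTSeries Y), l.length = n → ∃ l' : LTSeries X, l'.length = n ∧ f.base l'.head = l.head := by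
  intro n
  induction n with
  | zero =>
    intro l hl
    obtain ⟨x, hx⟩ := hs l.head
    exact ⟨RelSeries.singleton _ x, rfl, hx⟩
  | succ n ih =>
    intro l hl
    obtain ⟨l', hl', he⟩ := ih (l.tail (by omega)) (by simp [hl])
    have hlt : l.head < (l.tail (by omega)).head := by
      rw [RelSeries.head_tail]
      exact l.strictMono (by simp [Fin.lt_def, hl])
    have hsp : f.base l'.head ⤳ l.head := he ▸ hlt.le
    obtain ⟨x, hx, hfx⟩ := hg hsp
    have hx' : x < l'.head := lt_iff_le_not_ge.2 ⟨hx, fun hxle => by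
      have h2 : f.base x ⤳ f.base l'.head := Specializes.map hxle f.base.hom.continuous
      rw [he, hfx] at h2
      exact hlt.not_ge h2⟩
    exact ⟨l'.cons x hx', by simp [hl'], by rw [RelSeries.head_cons, hfx]⟩


open AlgebraicGeometry CategoryTheory in
/-- Consider locally Noetherian schemes X and Y and a morphism f : X → Y that is surjective and whose
underlying map is either open or closed. Then dim X ≥ dim Y. -/
theorem result {X Y : Scheme.{u}} (f : X ⟶ Y) [IsLocallyNoetherian X]
    [IsLocallyNoetherian Y] (hs : Function.Surjective f.base) (h : IsOpenMap f.base ∨ IsClosedMap f.base) :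
    topologicalKrullDim Y ≤ topologicalKrullDim X := by
  rw [DimTheory.topologicalKrullDim_eq_iSup_height, DimTheory.topologicalKrullDim_eq_iSup_height,
    ← Order.krullDim_eq_iSup_height, ← Order.krullDim_eq_iSup_height]
  refine iSup_le fun l => ?_
  rcases h with h | h
  · obtain ⟨l', hl', -⟩ := exists_lift_gen f hs (generalizingMap_of_isOpenMap f h) l.length l rfl
    exact hl' ▸ Order.LTSeries.length_le_krullDim l'
  · obtain ⟨l', hl', -⟩ := exists_lift_spec f hs h.specializingMap l.length l rfl
    exact hl' ▸ Order.LTSeries.length_le_krullDim l'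

end Groth.Agent.S4716
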