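import Groth.Statements.S4717
import Groth.Agent.AlgSpc.DecentDim
import Groth.Agent.KrullSpecializing.Basic
import Mathlib.AlgebraicGeometry.Morphisms.QuasiFinite
import Mathlib.AlgebraicGeometry.Morphisms.Finite

set_option autoImplicit false
universe u
open EGA4

namespace Groth.Agent.S4717

open AlgebraicGeometry CategoryTheory in
/-- Let f : X → Y be a finite morphism of locally Noetherian schemes. Then dim X equals the dimension of
the image f(X); in particular if f is surjective then dim X = dim Y. -/
theorem result {X Y : Scheme.{u}} (f : X ⟶ Y) [IsLocallyNoetherian X] [IsLocallyNoetherian Y]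
    [IsFinite f] :
    topologicalKrullDim X = topologicalKrullDim (Set.range f.base) ∧
      (Function.Surjective f.base → topologicalKrullDim X = topologicalKrullDim Y) := by
  have hcl : IsClosedMap f.base := f.isClosedMap
  have : QuasiSober ↥(Set.range f.base) := hcl.isClosed_range.isClosedEmbedding_subtypeVal.quasiSober
  have e : topologicalKrullDim X = topologicalKrullDim (Set.range f.base) := by
    refine le_antisymm ?_ ?_
    · refine Groth.Agent.AlgSpc.topologicalKrullDim_le_of_injOn_fibres (Set.rangeFactorization f.base)
        f.continuous.rangeFactorization fun x y h e => ?_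
      exact (f.isDiscrete_preimage_singleton (f.base x)).eq_of_specializes h rfl (congrArg Subtype.val e).symm
    · refine Groth.Agent.KrullSpecializing.topologicalKrullDim_le_of_specializingMap
        (Set.rangeFactorization f.base) ?_ Set.rangeFactorization_surjective
      intro x y hy
      obtain ⟨x', hx', hxy⟩ := hcl.specializingMap (hy.map continuous_subtype_val : f.base x ⤳ (y : Y))
      exact ⟨x', hx', Subtype.ext hxy⟩
  refine ⟨e, fun hs => ?_⟩
  rw [e]
  exact IsHomeomorph.topologicalKrullDim_eq _
    ((Homeomorph.setCongr hs.range_eq).trans (Homeomorph.Set.univ Y)).isHomeomorph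


end Groth.Agent.S4717
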