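import Groth.Statements.S4722
import Mathlib.Tactic
import Mathlib.RingTheory.Noetherian.Basic
import Mathlib.RingTheory.Ideal.AssociatedPrime.Finiteness
import Mathlib.RingTheory.Ideal.AssociatedPrime.Localization

set_option autoImplicit false
universe u
open EGA4

namespace Groth.Agent.S4722

/-- Let A be a Noetherian ring and M a finite A-module whose set of associated primes is a single prime
p. Then M has a finite decreasing filtration by submodules M = M_0 ⊇ M_1 ⊇ ⋯ ⊇ M_m = 0 such that
each quotient M_h/M_{h+1} is isomorphic to a submodule of A/p (i.e. embeds A-linearly into A/p). -/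
theorem result (A : Type u) [CommRing A] [IsNoetherianRing A]
    (M : Type u) [AddCommGroup M] [Module A M] [Module.Finite A M] (p : Ideal A)
    (hp : associatedPrimes A M = {p}) :
    ∃ (m : ℕ) (F : Fin (m + 1) → Submodule A M), Antitone F ∧ F 0 = ⊤ ∧ F (Fin.last m) = ⊥ ∧
      ∀ i : Fin m, ∃ g : (↥(F i.castSucc) ⧸ Submodule.comap (F i.castSucc).subtype (F i.succ)) →ₗ[A] (A ⧸ p),
        Function.Injective g := by
  classical
  have hpA : p ∈ associatedPrimes A M := hp ▸ Set.mem_singleton p
  have hprime : p.IsPrime := IsAssociatedPrime.isPrime hpA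
  have hreg : ∀ s : A, s ∉ p → ∀ x : M, s • x = 0 → x = 0 := by
    intro s hs x hx
    by_contra hx0
    have : s ∈ ⋃ q ∈ associatedPrimes A M, (q : Set A) := by
      rw [biUnion_associatedPrimes_eq_zero_divisors A M]
      exact ⟨x, hx0, hx⟩
    simp [hp] at this
    exact hs this
  obtain ⟨n, hn⟩ : ∃ n, p ^ n • (⊤ : Submodule A M) = ⊥ := by
    have hle : p ≤ (Module.annihilator A M).radical := by
      rw [← Ideal.sInf_minimalPrimes]
      refine le_sInf fun q hq => ?_
      have h := Module.associatedPrimes.minimalPrimes_annihilator_subset_associatedPrimes A M hq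
      rw [hp, Set.mem_singleton_iff] at h
      exact h.ge
    obtain ⟨n, hn⟩ := Ideal.exists_pow_le_of_le_radical_of_fg hle (IsNoetherian.noetherian p)
    refine ⟨n, eq_bot_iff.2 (Submodule.smul_le.2 fun a ha x _ => ?_)⟩
    rw [Submodule.mem_bot]
    exact Module.mem_annihilator.1 (hn ha) x
  suffices key : ∀ G : Submodule A M, (∀ s ∉ p, ∀ y : M, s • y ∈ G → y ∈ G) →
      ∃ (m : ℕ) (F : Fin (m + 1) → Submodule A M), Antitone F ∧ F 0 = ⊤ ∧ F (Fin.last m) = G ∧
        ∀ i : Fin m, ∃ g : (↥(F i.castSucc) ⧸ Submodule.comap (F i.castSucc).subtype (F i.succ)) →ₗ[A] (A ⧸ p),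
          Function.Injective g by
    exact key ⊥ fun s hs y hy => (Submodule.mem_bot A).2 (hreg s hs y ((Submodule.mem_bot A).1 hy))
  intro G
  induction G using WellFoundedGT.induction with
  | ind G ih =>
    intro hG
    by_cases htop : G = ⊤
    · exact ⟨0, fun _ => ⊤, fun _ _ _ => le_rfl, rfl, htop.symm, fun i => i.elim0⟩
    obtain ⟨x, hxG, hx⟩ : ∃ x, x ∉ G ∧ ∀ a ∈ p, a • x ∈ G := by
      have hex : ∃ k, p ^ k • (⊤ : Submodule A M) ≤ G := ⟨n, hn ▸ bot_le⟩
      have hspec := Nat.find_spec hex
      rcases Nat.eq_zero_or_pos (Nat.find hex) with h0 | hpos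
      · rw [h0] at hspec; simp at hspec; exact absurd hspec htop
      obtain ⟨k, hk⟩ : ∃ k, Nat.find hex = k + 1 := ⟨_, (Nat.succ_pred_eq_of_pos hpos).symm⟩
      have hmin : ¬ p ^ k • (⊤ : Submodule A M) ≤ G := Nat.find_min hex (by omega)
      obtain ⟨x, hxm, hxG⟩ := SetLike.not_le_iff_exists.1 hmin
      refine ⟨x, hxG, fun a ha => hspec ?_⟩
      rw [hk, pow_succ', Submodule.mul_smul]
      exact Submodule.smul_mem_smul ha hxm
    let G' : Submodule A M :=
      { carrier := {y | ∃ s, s ∉ p ∧ s • y ∈ G ⊔ Submodule.span A {x}}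
        zero_mem' := ⟨1, fun h => hprime.ne_top ((Ideal.eq_top_iff_one p).2 h), by simp⟩
        add_mem' := by
          rintro a b ⟨s, hs, ha⟩ ⟨t, ht, hb⟩
          refine ⟨s * t, fun h => (hprime.mem_or_mem h).elim hs ht, ?_⟩
          rw [smul_add, mul_smul, mul_smul, smul_comm s t a]
          exact add_mem (Submodule.smul_mem _ t ha) (Submodule.smul_mem _ s hb)
        smul_mem' := by
          rintro c a ⟨s, hs, ha⟩
          exact ⟨s, hs, by rw [smul_comm]; exact Submodule.smul_mem _ c ha⟩ }
    have hle : G ≤ G' := fun y hy => ⟨1, fun h => hprime.ne_top ((Ideal.eq_top_iff_one p).2 h),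
      by rw [one_smul]; exact Submodule.mem_sup_left hy⟩
    have hlt : G < G' := lt_of_le_not_ge hle fun h => hxG (h ⟨1,
      fun h => hprime.ne_top ((Ideal.eq_top_iff_one p).2 h),
      by rw [one_smul]; exact Submodule.mem_sup_right (Submodule.mem_span_singleton_self x)⟩)
    have hG' : ∀ s ∉ p, ∀ y : M, s • y ∈ G' → y ∈ G' := by
      rintro s hs y ⟨t, ht, hy⟩
      exact ⟨t * s, fun h => (hprime.mem_or_mem h).elim ht hs, by rwa [mul_smul]⟩
    obtain ⟨m, F, hF, hF0, hFl, hFg⟩ := ih G' hlt hG'
    -- a common denominator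
    obtain ⟨T, hT⟩ := IsNoetherian.noetherian G'
    have hTmem : ∀ y ∈ T, y ∈ G' := fun y hy => hT ▸ Submodule.subset_span hy
    choose! d hd hdy using hTmem
    set s₀ := ∏ y ∈ T, d y with hs₀
    have hs₀p : s₀ ∉ p := fun h => by
      obtain ⟨y, hy, h⟩ := hprime.prod_mem_iff.1 h
      exact hd y hy h
    have hs₀G : ∀ y ∈ G', s₀ • y ∈ G ⊔ Submodule.span A {x} := by
      intro y hy
      rw [← hT] at hy
      induction hy using Submodule.span_induction with
      | mem y hy =>
        rw [hs₀, ← Finset.prod_erase_mul T d hy, mul_smul]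
        exact Submodule.smul_mem _ _ (hdy y hy)
      | zero => simp
      | add a b _ _ ha hb => rw [smul_add]; exact add_mem ha hb
      | smul c a _ ha => rw [smul_comm]; exact Submodule.smul_mem _ c ha
    have hcoef : ∀ y : G', ∃ a : A, s₀ • (y : M) - a • x ∈ G := fun y => by
      obtain ⟨g, hg, z, hz, e⟩ := Submodule.mem_sup.1 (hs₀G y y.2)
      obtain ⟨a, rfl⟩ := Submodule.mem_span_singleton.1 hz
      exact ⟨a, by rw [← e, add_sub_cancel_right]; exact hg⟩
    have huniq : ∀ a b : A, (a - b) • x ∈ G → Ideal.Quotient.mk p a = Ideal.Quotient.mk p b := by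
      intro a b h
      rw [Ideal.Quotient.eq]
      by_contra hab
      exact hxG (hG _ hab x h)
    choose co hco using hcoef
    let g₀ : G' →ₗ[A] A ⧸ p :=
      { toFun := fun y => Ideal.Quotient.mk p (co y)
        map_add' := fun y z => by
          rw [← map_add]
          refine huniq _ _ ?_
          have := sub_mem (add_mem (hco y) (hco z)) (hco (y + z))
          convert this using 1
          rw [Submodule.coe_add]
          module
        map_smul' := fun c y => by
          refine (huniq _ (c * co y) ?_).trans ?_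
          · have := sub_mem (Submodule.smul_mem G c (hco y)) (hco (c • y))
            convert this using 1
            rw [Submodule.coe_smul]
            module
          · rw [map_mul, RingHom.id_apply, Algebra.smul_def]
            rfl }
    have hker : LinearMap.ker g₀ = Submodule.comap G'.subtype G := by
      ext y
      rw [LinearMap.mem_ker, Submodule.mem_comap]
      change Ideal.Quotient.mk p (co y) = 0 ↔ (y : M) ∈ G
      rw [Ideal.Quotient.eq_zero_iff_mem]
      constructor
      · intro h
        refine hG s₀ hs₀p y ?_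
        have := add_mem (hco y) (hx _ h)
        rwa [sub_add_cancel] at this
      · intro h
        by_contra hc
        refine hxG (hG _ hc x ?_)
        have := sub_mem (Submodule.smul_mem G s₀ h) (hco y)
        rwa [sub_sub_cancel] at this
    have hlink : ∀ (P Q : Submodule A M), P = G' → Q = G →
        ∃ g : (↥P ⧸ Submodule.comap P.subtype Q) →ₗ[A] (A ⧸ p), Function.Injective g := by
      rintro P Q rfl rfl
      refine ⟨Submodule.liftQ _ g₀ hker.ge, ?_⟩
      rw [← LinearMap.ker_eq_bot, Submodule.ker_liftQ, hker, Submodule.mkQ_map_self]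
    refine ⟨m + 1, Fin.snoc F G, ?_, ?_, Fin.snoc_last _ _, ?_⟩
    · rw [Fin.antitone_iff_succ_le]
      intro i
      induction i using Fin.lastCases with
      | last => rw [Fin.succ_last, Fin.snoc_last, Fin.snoc_castSucc, hFl]; exact hle
      | cast i => rw [Fin.succ_castSucc, Fin.snoc_castSucc, Fin.snoc_castSucc]; exact hF (Fin.castSucc_le_succ i)
    · rw [← Fin.castSucc_zero, Fin.snoc_castSucc, hF0]
    · intro i
      induction i using Fin.lastCases with
      | last => exact hlink _ _ (by rw [Fin.snoc_castSucc, hFl]) (by rw [Fin.succ_last, Fin.snoc_last])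
      | cast i =>
        have e₁ : Fin.snoc (α := fun _ => Submodule A M) F G i.castSucc.castSucc = F i.castSucc := Fin.snoc_castSucc _ _ _
        have e₂ : Fin.snoc (α := fun _ => Submodule A M) F G i.castSucc.succ = F i.succ := by
          rw [Fin.succ_castSucc, Fin.snoc_castSucc]
        rw [e₁, e₂]
        exact hFg i

end Groth.Agent.S4722
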