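import Groth.Statements.S4723
import Groth.Agent.LeadFCat.HullCMQuot
import Groth.Agent.LocCohBasic.FaltingsRegular
import Groth.Agent.CAlgN2.Insep

set_option autoImplicit false
universe u
open EGA4

namespace Groth.Agent.S4723

/-- Let A be a Noetherian ring which is either a quotient of a regular Noetherian ring or universally
catenary and universally Japanese. Then for every prime q of A, writing B = A/q with fraction field
K, and every ideal J of B of height at least 2, the subring of K consisting of the elements lying in
B_p for every prime p of B not containing J (the ring of sections of the structure sheaf of Spec B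
over the open complement of V(J)) is a finite B-algebra (some B-subalgebra of K with exactly this
underlying set is a finitely generated B-module). -/
theorem result (A : Type u) [CommRing A] [IsNoetherianRing A]
    (hA : (∃ (R : Type u) (_ : CommRing R), IsNoetherianRing R ∧ IsRegularRing R ∧
        ∃ f : R →+* A, Function.Surjective f) ∨
      (CAlg.IsUniversallyCatenary A ∧ CAlg.IsUniversallyJapanese A))
    (q : Ideal A) [q.IsPrime] (J : Ideal (A ⧸ q)) (hJ2 : (2 : ℕ∞) ≤ J.height) :
    ∃ B' : Subalgebra (A ⧸ q) (FractionRing (A ⧸ q)),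
      (B' : Set (FractionRing (A ⧸ q))) =
          {x | ∀ (p : Ideal (A ⧸ q)) [p.IsPrime], ¬ J ≤ p →
            ∃ s : A ⧸ q, s ∉ p ∧ ∃ a : A ⧸ q,
              algebraMap (A ⧸ q) (FractionRing (A ⧸ q)) a = algebraMap (A ⧸ q) (FractionRing (A ⧸ q)) s * x} ∧
        Module.Finite (A ⧸ q) B' := by
  have hfin : EGA4.HeightOneHullFinite (A ⧸ q) := by
    rcases hA with ⟨R, _, _, hR, f, hf⟩ | ⟨hA1, hA2⟩
    · have := hR
      have := LocCohBasic.isCohenMacaulayRing_of_isRegularRing (S := R)
      let P := q.comap f
      have hker : RingHom.ker ((Ideal.Quotient.mk q).comp f) = P := by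
        rw [← RingHom.comap_ker, Ideal.mk_ker]
      let e : (R ⧸ P) ≃+* A ⧸ q := (Ideal.quotEquivOfEq hker.symm).trans
        (RingHom.quotientKerEquivOfSurjective (Ideal.Quotient.mk_surjective.comp hf))
      obtain ⟨n, hn⟩ := LeadFCat.exists_height P
      exact LeadFCat.hull_finite_of_ringEquiv e (LeadFCat.hull_finite_of_CM_quot n R P hn.le)
    · exact LeadFCat.hull_finite (LeadExc.isUniversallyCatenary_of_surjective (Ideal.Quotient.mk q)
        Ideal.Quotient.mk_surjective hA1) (CAlgN2.isN1_of_isN2 _ (hA2 (A ⧸ q) inferInstance))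
  rw [LeadFCat.heightOneHullFinite_iff] at hfin
  let B := A ⧸ q
  let B' : Subalgebra B (FractionRing B) :=
    { carrier := {x | ∀ (p : Ideal B) [p.IsPrime], ¬ J ≤ p →
        ∃ s : B, s ∉ p ∧ ∃ a : B, algebraMap B (FractionRing B) a = algebraMap B (FractionRing B) s * x}
      mul_mem' := fun {x y} hx hy p _ hp => by
        obtain ⟨s, hs, a, ha⟩ := hx p hp
        obtain ⟨t, ht, b, hb⟩ := hy p hp
        exact ⟨s * t, Ideal.IsPrime.mul_notMem inferInstance hs ht, a * b, by rw [map_mul, ha, hb, map_mul]; ring⟩
      add_mem' := fun {x y} hx hy p _ hp => by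
        obtain ⟨s, hs, a, ha⟩ := hx p hp
        obtain ⟨t, ht, b, hb⟩ := hy p hp
        exact ⟨s * t, Ideal.IsPrime.mul_notMem inferInstance hs ht, a * t + b * s, by
          rw [map_add, map_mul, map_mul, ha, hb, map_mul]; ring⟩
      algebraMap_mem' := fun r p _ _ => ⟨1, fun h => (inferInstance : p.IsPrime).ne_top ((Ideal.eq_top_iff_one p).2 h), r, by
        rw [map_one, one_mul]⟩ }
  refine ⟨B', rfl, ?_⟩
  have hle : B' ≤ LeadFCat.hull B := fun x hx p _ hp => hx p fun hle => by
    have h1 := hJ2.trans ((Ideal.height_mono hle).trans hp.le)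
    norm_num at h1
  have : IsNoetherian B (LeadFCat.hull B) := isNoetherian_of_isNoetherianRing_of_finite B _
  exact Module.Finite.of_injective (Subalgebra.inclusion hle).toLinearMap (Subalgebra.inclusion_injective hle)

end Groth.Agent.S4723
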