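import Groth.Statements.S4724

set_option autoImplicit false
universe u
open EGA4

namespace Groth.Agent.S4724

/-- Let (A_i) be a directed system of commutative rings with direct limit A. Then the nilradical of A is
the supremum of the extensions to A of the nilradicals of the A_i; in particular, if every A_i is
reduced then A is reduced. -/
theorem result (ι : Type u) [Preorder ι] [Nonempty ι] [IsDirectedOrder ι] (G : ι → Type u)
    [∀ i, CommRing (G i)] (f : ∀ i j, i ≤ j → G i →+* G j) [DirectedSystem G (fun i j h ↦ f i j h)] :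
    nilradical (Ring.DirectLimit G (fun i j h ↦ f i j h)) =
        ⨆ i, (nilradical (G i)).map (Ring.DirectLimit.of G (fun i j h ↦ f i j h) i) ∧
      ((∀ i, IsReduced (G i)) → IsReduced (Ring.DirectLimit G (fun i j h ↦ f i j h))) := by
  have h1 : nilradical (Ring.DirectLimit G (fun i j h ↦ f i j h)) =
      ⨆ i, (nilradical (G i)).map (Ring.DirectLimit.of G (fun i j h ↦ f i j h) i) := by
    refine le_antisymm ?_ (iSup_le fun i => Ideal.map_le_iff_le_comap.2 fun x hx => IsNilpotent.map hx _)
    intro a ha
    obtain ⟨i, a, rfl⟩ := Ring.DirectLimit.exists_of a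
    obtain ⟨n, hn⟩ := mem_nilradical.1 ha
    rw [← map_pow] at hn
    obtain ⟨j, hij, h0⟩ := Ring.DirectLimit.of.zero_exact hn
    rw [← Ring.DirectLimit.of_f hij a]
    exact Submodule.mem_iSup_of_mem j (Ideal.mem_map_of_mem _ ⟨n, by rw [← map_pow]; exact h0⟩)
  refine ⟨h1, fun h => ?_⟩
  rw [← nilradical_eq_bot_iff, h1, iSup_eq_bot]
  intro i
  haveI := h i
  simp [nilradical_eq_bot_iff.2 (h i)]

end Groth.Agent.S4724
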