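import Groth.Statements.S4725

set_option autoImplicit false
universe u
open EGA4

namespace Groth.Agent.S4725

/-- The direct limit of a nonempty directed system of commutative integral domains is an integral domain
(no injectivity of the transition maps is assumed). -/
theorem result (ι : Type u) [Preorder ι] [Nonempty ι] [IsDirectedOrder ι] (G : ι → Type u)
    [∀ i, CommRing (G i)] (f : ∀ i j, i ≤ j → G i →+* G j) [DirectedSystem G (fun i j h ↦ f i j h)]
    [∀ i, IsDomain (G i)] : IsDomain (Ring.DirectLimit G (fun i j h ↦ f i j h)) := by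
  haveI : Nontrivial (Ring.DirectLimit G (fun i j h ↦ f i j h)) := by
    obtain ⟨i⟩ := ‹Nonempty ι›
    refine ⟨0, 1, fun h => ?_⟩
    rw [← map_zero (Ring.DirectLimit.of G _ i), ← map_one (Ring.DirectLimit.of G _ i), ← sub_eq_zero, ← map_sub] at h
    obtain ⟨j, hij, h0⟩ := Ring.DirectLimit.of.zero_exact h
    simp at h0
  haveI : NoZeroDivisors (Ring.DirectLimit G (fun i j h ↦ f i j h)) := by
    constructor
    intro a b hab
    obtain ⟨i, a, rfl⟩ := Ring.DirectLimit.exists_of a
    obtain ⟨j, b, rfl⟩ := Ring.DirectLimit.exists_of b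
    obtain ⟨k, hik, hjk⟩ := exists_ge_ge i j
    rw [← Ring.DirectLimit.of_f hik a, ← Ring.DirectLimit.of_f hjk b, ← map_mul] at hab
    obtain ⟨l, hkl, h0⟩ := Ring.DirectLimit.of.zero_exact hab
    rw [map_mul] at h0
    rcases mul_eq_zero.1 h0 with h | h
    · left; rw [← Ring.DirectLimit.of_f hik a, ← Ring.DirectLimit.of_f hkl, h, map_zero]
    · right; rw [← Ring.DirectLimit.of_f hjk b, ← Ring.DirectLimit.of_f hkl, h, map_zero]
  exact NoZeroDivisors.to_isDomain _

end Groth.Agent.S4725
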