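import Groth.Statements.S4726
import Mathlib

set_option autoImplicit false
universe u
open EGA4

namespace Groth.Agent.S4726

open TensorProduct in
theorem descend {R L : Type u} [CommRing R] [CommRing L] [Algebra R L]
    {M : Type u} [AddCommGroup M] [Module L M] {n m : ℕ}
    (f : (Fin n → L) →ₗ[L] M) (g : (Fin m → L) →ₗ[L] (Fin n → L))
    (hf : Function.Surjective f) (hfg : Function.Exact g f)
    (A : Fin m → Fin n → R) (hA : ∀ j k, algebraMap R L (A j k) = g (Pi.single j 1) k) :
    ∃ (Mi : Type u) (_ : AddCommGroup Mi) (_ : Module R Mi), Module.FinitePresentation R Mi ∧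
      Nonempty (M ≃ₗ[L] L ⊗[R] Mi) := by
  classical
  letI : Module R M := Module.compHom M (algebraMap R L)
  haveI : IsScalarTower R L M := IsScalarTower.of_algebraMap_smul fun _ _ => rfl
  let K : Submodule R (Fin n → R) := Submodule.span R (Set.range A)
  let q := K.mkQ
  have hfp : Module.FinitePresentation R ((Fin n → R) ⧸ K) :=
    Module.finitePresentation_of_surjective q K.mkQ_surjective
      (by rw [Submodule.ker_mkQ]; exact Submodule.fg_span (Set.finite_range A))
  let incl : (Fin n → R) →ₗ[R] (Fin n → L) := (Algebra.linearMap R L).compLeft (Fin n)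
  have hincl : ∀ j, incl (A j) = g (Pi.single j 1) := fun j => funext fun k => hA j k
  let φ : ((Fin n → R) ⧸ K) →ₗ[R] M := K.liftQ ((f.restrictScalars R) ∘ₗ incl) (by
    refine Submodule.span_le.2 ?_
    rintro _ ⟨j, rfl⟩
    simp only [SetLike.mem_coe, LinearMap.mem_ker, LinearMap.comp_apply,
      LinearMap.restrictScalars_apply, hincl]
    exact (hfg _).2 ⟨_, rfl⟩)
  let ψ : (Fin n → L) →ₗ[L] L ⊗[R] ((Fin n → R) ⧸ K) :=
    Fintype.linearCombination L (fun k => (1 : L) ⊗ₜ[R] q (Pi.single k 1))
  have hψincl : ∀ y, ψ (incl y) = (1 : L) ⊗ₜ[R] q y := by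
    intro y
    conv_rhs => rw [pi_eq_sum_univ y, map_sum, TensorProduct.tmul_sum]
    simp only [ψ, Fintype.linearCombination_apply, incl, LinearMap.compLeft_apply,
      Function.comp_apply, Algebra.linearMap_apply, algebraMap_smul]
    refine Finset.sum_congr rfl fun k _ => ?_
    rw [map_smul, TensorProduct.tmul_smul]
    congr 3
    funext l
    simp [Pi.single_apply, eq_comm]
  have hker : LinearMap.ker f ≤ LinearMap.ker ψ := by
    rw [hfg.linearMap_ker_eq, LinearMap.range_le_ker_iff]
    refine LinearMap.pi_ext' fun j => LinearMap.ext_ring ?_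
    simp only [LinearMap.comp_apply, LinearMap.coe_single, LinearMap.zero_comp, LinearMap.zero_apply]
    rw [← hincl, hψincl, show q (A j) = 0 from (Submodule.Quotient.mk_eq_zero K).2
      (Submodule.subset_span ⟨j, rfl⟩), TensorProduct.tmul_zero]
  let b : M →ₗ[L] L ⊗[R] ((Fin n → R) ⧸ K) :=
    ((LinearMap.ker f).liftQ ψ hker) ∘ₗ (f.quotKerEquivOfSurjective hf).symm.toLinearMap
  have hb : ∀ x, b (f x) = ψ x := by
    intro x
    simp only [b, LinearMap.comp_apply, LinearEquiv.coe_coe]
    rw [show (f.quotKerEquivOfSurjective hf).symm (f x) = Submodule.Quotient.mk x from by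
      rw [LinearEquiv.symm_apply_eq]; rfl]
    rfl
  refine ⟨_, inferInstance, inferInstance, hfp, ⟨(LinearEquiv.ofLinear (φ.liftBaseChange L) b ?_ ?_).symm⟩⟩
  · refine LinearMap.ext fun x => ?_
    obtain ⟨x, rfl⟩ := hf x
    simp only [LinearMap.comp_apply, hb, LinearMap.id_apply]
    induction x using Pi.single_induction with
    | zero => simp
    | add a b ha hb => simp only [map_add, ha, hb]
    | single k c =>
      have h1 : (Pi.single k c : Fin n → L) = c • incl (Pi.single k 1) := by
        funext l
        by_cases h : l = k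
        · subst h; simp [incl]
        · simp [incl, Pi.single_eq_of_ne h]
      rw [h1, map_smul, map_smul, map_smul, hψincl, LinearMap.liftBaseChange_tmul, one_smul]
      rfl
  · refine TensorProduct.AlgebraTensorModule.ext fun c y => ?_
    obtain ⟨y, rfl⟩ := K.mkQ_surjective y
    simp only [LinearMap.comp_apply, LinearMap.id_apply, LinearMap.liftBaseChange_tmul, map_smul]
    rw [show φ (K.mkQ y) = f (incl y) from rfl, hb, hψincl, TensorProduct.smul_tmul', smul_eq_mul, mul_one]


open TensorProduct in
/-- Let (A_i) be a directed system of commutative rings with direct limit A and M a finitely presented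
A-module. Then there exist an index i and a finitely presented A_i-module M_i such that M is
isomorphic, as an A-module, to A ⊗_{A_i} M_i (A being an A_i-algebra through the canonical map). -/
theorem result (ι : Type u) [Preorder ι] [Nonempty ι] [IsDirectedOrder ι]
    (G : ι → Type u) [∀ i, CommRing (G i)] (f : ∀ i j, i ≤ j → G i →+* G j)
    [DirectedSystem G (fun i j h ↦ f i j h)] (M : Type u) [AddCommGroup M]
    [Module (Ring.DirectLimit G (fun i j h ↦ f i j h)) M]
    [Module.FinitePresentation (Ring.DirectLimit G (fun i j h ↦ f i j h)) M] :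
    ∃ (i : ι) (Mi : Type u) (_ : AddCommGroup Mi) (_ : Module (G i) Mi), Module.FinitePresentation (G i) Mi ∧
      letI : Algebra (G i) (Ring.DirectLimit G (fun i j h ↦ f i j h)) :=
        (Ring.DirectLimit.of G (fun i j h ↦ f i j h) i).toAlgebra
      Nonempty (M ≃ₗ[Ring.DirectLimit G (fun i j h ↦ f i j h)] (Ring.DirectLimit G (fun i j h ↦ f i j h)) ⊗[G i] Mi) := by
  classical
  obtain ⟨n, m, q, g, hq, hqg⟩ :=
    Module.FinitePresentation.exists_fin' (Ring.DirectLimit G (fun i j h ↦ f i j h)) M
  choose k a ha using fun p : Fin m × Fin n => Ring.DirectLimit.exists_of (g (Pi.single p.1 1) p.2)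
  obtain ⟨i, hi⟩ := Finite.exists_le k
  letI : Algebra (G i) (Ring.DirectLimit G (fun i j h ↦ f i j h)) :=
    (Ring.DirectLimit.of G (fun i j h ↦ f i j h) i).toAlgebra
  obtain ⟨Mi, i1, i2, h1, h2⟩ := descend (R := G i) q g hq hqg
    (fun j l => f _ i (hi (j, l)) (a (j, l)))
    (fun j l => (Ring.DirectLimit.of_f (hi (j, l)) (a (j, l))).trans (ha (j, l)))
  exact ⟨i, Mi, i1, i2, h1, h2⟩

end Groth.Agent.S4726
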