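import Groth.Statements.S4729
import Mathlib.RingTheory.Localization.AtPrime.Basic
import Mathlib.RingTheory.Support
import Mathlib.RingTheory.KrullDimension.Module

set_option autoImplicit false
universe u
open EGA4

namespace Groth.Agent.S4729


theorem mem_supp {A : Type*} [CommRing A] {M : Type*} [AddCommGroup M] [Module A M] [Module.Finite A M]
    (p : Ideal A) [p.IsPrime] (Q : PrimeSpectrum (Localization.AtPrime p)) :
    Q ∈ Module.support (Localization.AtPrime p) (LocalizedModule p.primeCompl M) ↔
      PrimeSpectrum.comap (algebraMap A (Localization.AtPrime p)) Q ∈ Module.support A M := by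
  rw [Module.mem_support_iff_exists_annihilator, Module.mem_support_iff_exists_annihilator]
  constructor
  · rintro ⟨x, hx⟩
    induction x using LocalizedModule.induction_on with
    | _ m s =>
      refine ⟨m, fun r hr => hx ?_⟩
      simp only [Submodule.mem_annihilator_span_singleton] at hr ⊢
      rw [algebraMap_smul, LocalizedModule.smul'_mk, hr, LocalizedModule.zero_mk]
  · rintro ⟨m, hm⟩
    refine ⟨LocalizedModule.mk m 1, fun r hr => ?_⟩
    obtain ⟨⟨a, s⟩, has⟩ := IsLocalization.surj p.primeCompl r
    simp only [Submodule.mem_annihilator_span_singleton] at hr hm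
    have h1 : LocalizedModule.mk (a • m) (1 : p.primeCompl) = 0 := by
      rw [← LocalizedModule.smul'_mk, ← algebraMap_smul (Localization.AtPrime p) a, ← has, mul_comm, mul_smul, hr, smul_zero]
    rw [← LocalizedModule.zero_mk 1, LocalizedModule.mk_eq] at h1
    obtain ⟨u, hu⟩ := h1
    simp only [smul_zero, one_smul, Submonoid.smul_def, smul_smul] at hu
    have h2 : algebraMap A _ ((u : A) * a) ∈ Q.asIdeal := hm ((Submodule.mem_annihilator_span_singleton _ _).2 hu)
    have hu' : algebraMap A (Localization.AtPrime p) (u : A) ∉ Q.asIdeal := fun h =>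
      Q.isPrime.ne_top (Ideal.eq_top_of_isUnit_mem _ h (IsLocalization.map_units _ u))
    have hs' : algebraMap A (Localization.AtPrime p) (s : A) ∉ Q.asIdeal := fun h =>
      Q.isPrime.ne_top (Ideal.eq_top_of_isUnit_mem _ h (IsLocalization.map_units _ s))
    rw [map_mul] at h2
    rw [← has] at h2
    rcases Q.isPrime.mem_or_mem h2 with h | h
    · exact absurd h hu'
    · exact (Q.isPrime.mem_or_mem h).resolve_right hs'


/-- Let A be a commutative ring, M a finite A-module and p ⊆ q prime ideals of A (so that p is a
generization of q). Then the dimension of the A_p-module M_p is at most the dimension of the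
A_q-module M_q. -/
theorem result (A : Type u) [CommRing A] (M : Type u) [AddCommGroup M] [Module A M]
    [Module.Finite A M] (p q : Ideal A) [p.IsPrime] [q.IsPrime] (hpq : p ≤ q) :
    Module.supportDim (Localization.AtPrime p) (LocalizedModule p.primeCompl M) ≤
      Module.supportDim (Localization.AtPrime q) (LocalizedModule q.primeCompl M) := by
  have hd : ∀ P : PrimeSpectrum (Localization.AtPrime p),
      Disjoint (q.primeCompl : Set A) ((P.asIdeal.comap (algebraMap A (Localization.AtPrime p)) : Ideal A) : Set A) :=
    fun P => Set.disjoint_left.2 fun a haq haP => P.isPrime.ne_top (Ideal.eq_top_of_isUnit_mem _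
      (show algebraMap A (Localization.AtPrime p) a ∈ P.asIdeal from haP)
        (IsLocalization.map_units _ (⟨a, fun h => haq (hpq h)⟩ : p.primeCompl)))
  have hpr : ∀ P : PrimeSpectrum (Localization.AtPrime p), (P.asIdeal.comap (algebraMap A (Localization.AtPrime p))).IsPrime :=
    fun P => Ideal.comap_isPrime _ _
  have hcm : ∀ P : PrimeSpectrum (Localization.AtPrime p),
      ((P.asIdeal.comap (algebraMap A (Localization.AtPrime p))).map (algebraMap A (Localization.AtPrime q))).comap
        (algebraMap A (Localization.AtPrime q)) = P.asIdeal.comap (algebraMap A (Localization.AtPrime p)) :=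
    fun P => IsLocalization.comap_map_of_isPrime_disjoint q.primeCompl _ (hpr P) (hd P)
  refine Order.krullDim_le_of_strictMono
    (fun P => ⟨⟨Ideal.map (algebraMap A (Localization.AtPrime q))
        (P.1.asIdeal.comap (algebraMap A (Localization.AtPrime p))), ?_⟩, ?_⟩) ?_
  · exact IsLocalization.isPrime_of_isPrime_disjoint q.primeCompl _ _ (hpr P.1) (hd P.1)
  · rw [mem_supp]
    refine Eq.subst (motive := fun x => x ∈ Module.support A M) (PrimeSpectrum.ext ?_) ((mem_supp p P.1).1 P.2)
    exact (hcm P.1).symm
  · intro P P' hPP'
    refine lt_of_le_of_ne (Ideal.map_mono (Ideal.comap_mono hPP'.le)) (fun h => hPP'.ne ?_)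
    have h' := congrArg (Ideal.comap (algebraMap A (Localization.AtPrime q))) (congrArg (fun x => x.1.asIdeal) h)
    simp only at h'
    rw [hcm P.1, hcm P'.1] at h'
    exact Subtype.ext (PrimeSpectrum.localization_comap_injective (Localization.AtPrime p) p.primeCompl (PrimeSpectrum.ext h'))
end Groth.Agent.S4729
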