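import Groth.Statements.S4731
import Mathlib.Tactic
import Mathlib.Algebra.Module.Torsion.Basic
import Mathlib.RingTheory.Ideal.Quotient.Operations
import Mathlib.RingTheory.Finiteness.Basic
import Mathlib.RingTheory.Noetherian.Basic

set_option autoImplicit false
universe u
open EGA4

namespace Groth.Agent.S4731

/-- Let S → R be an injective homomorphism of commutative rings making R a finite S-module, with R
Noetherian; let c be the conductor of S in R, the ideal of those s in S with s R contained in (the
image of) S. If S/c is Noetherian, then every increasing sequence of ideals of S contained in c is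
eventually constant. -/
theorem result (S R : Type u) [CommRing S] [CommRing R] [Algebra S R]
    [FaithfulSMul S R] [IsNoetherianRing R] [Module.Finite S R] (c : Ideal S)
    (hc : ∀ s : S, s ∈ c ↔ ∀ r : R, ∃ s' : S, algebraMap S R s' = algebraMap S R s * r)
    [IsNoetherianRing (S ⧸ c)] (a : ℕ →o Ideal S) (ha : ∀ n, a n ≤ c) :
    ∃ N : ℕ, ∀ n, N ≤ n → a n = a N := by
  classical
  have hinj := FaithfulSMul.algebraMap_injective S R
  -- the extended ideals stabilise
  let aR : ℕ →o Ideal R := ⟨fun n => (a n).map (algebraMap S R), fun i j h => Ideal.map_mono (a.monotone h)⟩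
  obtain ⟨N, hN⟩ := monotone_stabilizes_iff_noetherian.2 (inferInstance : IsNoetherian R R) aR
  set W : Submodule S R := ((a N).map (algebraMap S R)).restrictScalars S with hW
  let im : ℕ → Submodule S R := fun n => Submodule.map (Algebra.linearMap S R) (a n)
  have him_le : ∀ n, N ≤ n → im n ≤ W := by
    rintro n hn _ ⟨s, hs, rfl⟩
    change algebraMap S R s ∈ (a N).map (algebraMap S R)
    have h := Ideal.mem_map_of_mem (algebraMap S R) hs
    rw [show (a n).map (algebraMap S R) = (a N).map (algebraMap S R) from (hN n hn).symm] at h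
    exact h
  -- conductor times W lands in every later ideal
  have hcW : ∀ w ∈ W, ∀ s ∈ c, algebraMap S R s * w ∈ im N := by
    intro w hw
    rw [hW, Submodule.restrictScalars_mem, Ideal.map] at hw
    induction hw using Submodule.span_induction with
    | mem w hw =>
      obtain ⟨t, ht, rfl⟩ := hw
      exact fun s _ => ⟨s * t, Ideal.mul_mem_left _ _ ht, map_mul (algebraMap S R) _ _⟩
    | zero => intro s _; simp
    | add x y _ _ hx hy => intro s hs; rw [mul_add]; exact add_mem (hx s hs) (hy s hs)
    | smul r x _ hx =>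
      intro s hs
      obtain ⟨s', hs'⟩ := (hc s).1 hs r
      have hs'c : s' ∈ c := (hc s').2 fun r' => by
        obtain ⟨u, hu⟩ := (hc s).1 hs (r * r')
        exact ⟨u, by rw [hu, hs', mul_assoc]⟩
      rw [smul_eq_mul, ← mul_assoc, ← hs']
      exact hx s' hs'c
  -- the quotient is a noetherian `S ⧸ c`-module
  have hWfg : W.FG := Submodule.FG.restrictScalars (IsNoetherian.noetherian ((a N).map (algebraMap S R)))
  let Q : Submodule S ↥W := c • (⊤ : Submodule S ↥W)
  haveI : Module.Finite S ↥W := Module.Finite.iff_fg.2 hWfg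
  have htors : Module.IsTorsionBySet S (↥W ⧸ Q) c := fun q ⟨s, hs⟩ => by
    obtain ⟨w, rfl⟩ := Submodule.Quotient.mk_surjective _ q
    rw [← Submodule.Quotient.mk_smul, Submodule.Quotient.mk_eq_zero]
    exact Submodule.smul_mem_smul hs trivial
  letI : Module (S ⧸ c) (↥W ⧸ Q) := htors.module
  haveI : IsScalarTower S (S ⧸ c) (↥W ⧸ Q) := htors.isScalarTower
  haveI : Module.Finite (S ⧸ c) (↥W ⧸ Q) := Module.Finite.of_restrictScalars_finite S _ _
  haveI : IsNoetherian (S ⧸ c) (↥W ⧸ Q) := isNoetherian_of_isNoetherianRing_of_finite _ _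
  haveI : IsNoetherian S (↥W ⧸ Q) := ⟨fun P => by
    let P' : Submodule (S ⧸ c) (↥W ⧸ Q) :=
      { carrier := P
        add_mem' := P.add_mem
        zero_mem' := P.zero_mem
        smul_mem' := fun q x hx => by
          obtain ⟨s, rfl⟩ := Ideal.Quotient.mk_surjective q
          exact P.smul_mem s hx }
    have h := Submodule.FG.restrictScalars (R := S) (IsNoetherian.noetherian P')
    exact h⟩
  let b : ℕ →o Submodule S (↥W ⧸ Q) :=
    ⟨fun n => ((im (N + n)).comap W.subtype).map Q.mkQ, fun i j h =>
      Submodule.map_mono (Submodule.comap_mono (Submodule.map_mono (a.monotone (Nat.add_le_add_left h N))))⟩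
  obtain ⟨K, hK⟩ := monotone_stabilizes_iff_noetherian.2 inferInstance b
  refine ⟨N + K, fun n hn => le_antisymm (fun s hs => ?_) (a.monotone hn)⟩
  have hw : algebraMap S R s ∈ W := him_le n (by omega) ⟨s, hs, rfl⟩
  have h1 : Q.mkQ ⟨_, hw⟩ ∈ b K := by
    rw [hK (n - N) (by omega)]
    refine ⟨⟨_, hw⟩, ⟨s, ?_, rfl⟩, rfl⟩
    rw [show N + (n - N) = n by omega]
    exact hs
  obtain ⟨w, hwK, hwe⟩ := h1
  rw [Submodule.mkQ_apply, Submodule.mkQ_apply, Submodule.Quotient.eq] at hwe
  have hQ : ∀ q ∈ Q, (q : R) ∈ im (N + K) := by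
    intro q hq
    refine Submodule.smul_induction_on hq (fun t ht x _ => ?_) (fun x y hx hy => add_mem hx hy)
    rw [Submodule.coe_smul, Algebra.smul_def]
    exact Submodule.map_mono (a.monotone (Nat.le_add_right N K)) (hcW x x.2 t ht)
  have h2 : algebraMap S R s ∈ im (N + K) := by
    have h3 := sub_mem (show (w : R) ∈ im (N + K) from hwK) (hQ _ hwe)
    simpa using h3
  obtain ⟨t, ht, hts⟩ := h2
  exact hinj hts ▸ ht

end Groth.Agent.S4731
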