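import Groth.Statements.S4732
import Mathlib

set_option autoImplicit false
universe u
open EGA4

set_option backward.isDefEq.respectTransparency.types false
namespace Groth.Agent.S4732

open AlgebraicGeometry CategoryTheory


open AlgebraicGeometry CategoryTheory in
/-- Let k be a field, X a scheme locally of finite type over k and x a point of X. Then there are an
open neighbourhood U of x, a k-scheme Y all of whose local rings are regular, and an immersion U → Y
compatible with the structure morphisms to Spec k. -/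
theorem result (k : Type u) [Field k] {X : Scheme.{u}}
    (f : X ⟶ Spec (CommRingCat.of k)) [LocallyOfFiniteType f] (x : X) :
    ∃ (U : X.Opens) (_ : x ∈ U) (Y : Scheme.{u}) (g : Y ⟶ Spec (CommRingCat.of k)) (i : (U : Scheme.{u}) ⟶ Y),
      IsImmersion i ∧ i ≫ g = U.ι ≫ f ∧ ∀ y : Y, IsRegularLocalRing (Y.presheaf.stalk y) := by
  obtain ⟨U, hU, hxU, -⟩ := exists_isAffineOpen_mem_and_subset (X := X) (x := x) (U := ⊤) trivial
  haveI : IsAffine (U : Scheme.{u}) := hU
  let e := (U : Scheme.{u}).isoSpec
  let φ : CommRingCat.of k ⟶ Γ((U : Scheme.{u}), ⊤) := Spec.preimage (e.inv ≫ U.ι ≫ f)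
  have hφ : Spec.map φ = e.inv ≫ U.ι ≫ f := Spec.map_preimage _
  have hft : φ.hom.FiniteType := by
    rw [← HasRingHomProperty.Spec_iff (P := @LocallyOfFiniteType), hφ]
    infer_instance
  letI := φ.hom.toAlgebra
  haveI : Algebra.FiniteType k Γ((U : Scheme.{u}), ⊤) := hft
  obtain ⟨n, ψ, hψ⟩ := Algebra.FiniteType.iff_quotient_mvPolynomial''.1 ‹Algebra.FiniteType k Γ((U : Scheme.{u}), ⊤)›
  let R := CommRingCat.of (MvPolynomial (Fin n) k)
  let m : Spec Γ((U : Scheme.{u}), ⊤) ⟶ Spec R := Spec.map (CommRingCat.ofHom ψ.toRingHom)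
  haveI : IsClosedImmersion m := IsClosedImmersion.spec_of_surjective _ hψ
  refine ⟨U, hxU, Spec R, Spec.map (CommRingCat.ofHom (algebraMap k (MvPolynomial (Fin n) k))), e.hom ≫ m,
    inferInstance, ?_, fun y => ?_⟩
  · have hcomp : CommRingCat.ofHom (algebraMap k (MvPolynomial (Fin n) k)) ≫ CommRingCat.ofHom ψ.toRingHom = φ := by
      refine CommRingCat.hom_ext (RingHom.ext fun z => ?_)
      exact ψ.commutes z
    refine (Category.assoc _ _ _).trans ?_
    rw [← Spec.map_comp]
    erw [hcomp, hφ, Iso.hom_inv_id_assoc]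
  · let p : PrimeSpectrum (MvPolynomial (Fin n) k) := y
    haveI : IsRegularLocalRing (Localization.AtPrime p.asIdeal) :=
      IsRegularRing.isRegularLocalRing_localization p.asIdeal
    exact IsRegularLocalRing.of_ringEquiv (StructureSheaf.stalkIso (MvPolynomial (Fin n) k) p).toRingEquiv

end Groth.Agent.S4732
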