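import Groth.Statements.S4740
import Groth.Agent.CTensorLib.Flat


set_option autoImplicit false
set_option backward.isDefEq.respectTransparency false
universe u
attribute [local instance] Algebra.TensorProduct.rightAlgebra
open EGA4

namespace Groth.Agent.S4740

open TensorProduct in
/-- Let k be a field and A, B complete Noetherian local rings containing k, the residue field of A being
a finite extension of k; let C be the completed tensor product of A and B over k (the completion of
A ⊗_k B at the ideal m_A ⊗ B + A ⊗ m_B). Then (i) C is Noetherian with finitely many maximal ideals;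
(ii) C is flat over A and over B; (iii) m_A C is contained in the Jacobson radical of C and C/m_A C
is isomorphic to (A/m_A) ⊗_k B; (iv) the residue field of C at each of its maximal ideals is a
finite B-module. (Completeness of C, also asserted in the published item, is not restated; the
isomorphism in (iii) is asserted to exist only.) -/
theorem result (k A B : Type u) [Field k] [CommRing A] [CommRing B] [Algebra k A] [Algebra k B]
    [IsNoetherianRing A] [IsNoetherianRing B] [IsLocalRing A] [IsLocalRing B]
    [IsAdicComplete (IsLocalRing.maximalIdeal A) A] [IsAdicComplete (IsLocalRing.maximalIdeal B) B]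
    [Module.Finite k (IsLocalRing.ResidueField A)] :
    (IsNoetherianRing (EGA4.CTensor k A B) ∧ (Set.univ : Set (MaximalSpectrum (EGA4.CTensor k A B))).Finite) ∧
      (Module.Flat A (EGA4.CTensor k A B) ∧ Module.Flat B (EGA4.CTensor k A B)) ∧
      ((IsLocalRing.maximalIdeal A).map (algebraMap A (EGA4.CTensor k A B)) ≤ (⊥ : Ideal (EGA4.CTensor k A B)).jacobson ∧
        Nonempty ((EGA4.CTensor k A B ⧸ (IsLocalRing.maximalIdeal A).map (algebraMap A (EGA4.CTensor k A B))) ≃+*
          ((A ⧸ IsLocalRing.maximalIdeal A) ⊗[k] B))) ∧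
      (∀ (M : Ideal (EGA4.CTensor k A B)) [M.IsMaximal], Module.Finite B (EGA4.CTensor k A B ⧸ M)) := by
  haveI := CTensorLib.isNoetherianRing_cTensor k A B
  haveI := CTensorLib.isAdicComplete_compl _ (CTensorLib.fg_cTensorIdeal k A B)
  set JC := (EGA4.cTensorIdeal k A B).map (algebraMap (A ⊗[k] B) (EGA4.CTensor k A B)) with hJC
  haveI : Module.Finite B (EGA4.CTensor k A B ⧸ JC) := CTensorLib.finite_right_quot k A B
  have hM : ∀ M : Ideal (EGA4.CTensor k A B), M.IsMaximal → JC ≤ M := fun M hM =>
    (IsAdicComplete.le_jacobson_bot JC).trans (sInf_le ⟨bot_le, hM⟩)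
  refine ⟨⟨inferInstance, ?_⟩, ⟨CTensorLib.flat_left k A B, CTensorLib.flat_right k A B⟩,
    ⟨CTensorLib.map_maximalIdeal_le_jacobson k A B, ?_⟩, ?_⟩
  · let ψ : B →+* EGA4.CTensor k A B ⧸ JC := algebraMap B _
    have hψ : ∀ b ∈ IsLocalRing.maximalIdeal B, ψ b = 0 := fun b hb => by
      show algebraMap B (EGA4.CTensor k A B ⧸ JC) b = 0
      rw [IsScalarTower.algebraMap_apply B (EGA4.CTensor k A B) (EGA4.CTensor k A B ⧸ JC),
        IsScalarTower.algebraMap_apply B (A ⊗[k] B) (EGA4.CTensor k A B), Ideal.Quotient.algebraMap_eq,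
        Ideal.Quotient.eq_zero_iff_mem]
      exact Ideal.mem_map_of_mem _ (Ideal.mem_sup_right (Ideal.mem_map_of_mem _ hb))
    letI : Algebra (IsLocalRing.ResidueField B) (EGA4.CTensor k A B ⧸ JC) :=
      (Ideal.Quotient.lift (IsLocalRing.maximalIdeal B) ψ hψ).toAlgebra
    haveI : IsScalarTower B (IsLocalRing.ResidueField B) (EGA4.CTensor k A B ⧸ JC) :=
      IsScalarTower.of_algebraMap_eq fun b => rfl
    haveI : Module.Finite (IsLocalRing.ResidueField B) (EGA4.CTensor k A B ⧸ JC) :=
      Module.Finite.of_restrictScalars_finite B _ _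
    haveI : IsArtinianRing (EGA4.CTensor k A B ⧸ JC) := IsArtinianRing.of_finite (IsLocalRing.ResidueField B) _
    have : Finite (MaximalSpectrum (EGA4.CTensor k A B)) := by
      let F : MaximalSpectrum (EGA4.CTensor k A B) → {I : Ideal (EGA4.CTensor k A B ⧸ JC) // I.IsMaximal} :=
        fun M => ⟨M.asIdeal.map (Ideal.Quotient.mk JC), by
          haveI := M.isMaximal
          exact Ideal.IsMaximal.map_of_surjective_of_ker_le Ideal.Quotient.mk_surjective
            (by rw [Ideal.mk_ker]; exact hM _ M.isMaximal)⟩
      haveI : Finite {I : Ideal (EGA4.CTensor k A B ⧸ JC) // I.IsMaximal} :=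
        (IsArtinianRing.setOfPred_isMaximal_finite (EGA4.CTensor k A B ⧸ JC)).to_subtype
      refine Finite.of_injective F fun M N h => ?_
      have h' : M.asIdeal.map (Ideal.Quotient.mk JC) = N.asIdeal.map (Ideal.Quotient.mk JC) :=
        congrArg Subtype.val h
      have h'' := congrArg (Ideal.comap (Ideal.Quotient.mk JC)) h'
      rw [Ideal.comap_map_quotientMk, Ideal.comap_map_quotientMk, sup_eq_right.2 (hM _ M.isMaximal),
        sup_eq_right.2 (hM _ N.isMaximal)] at h''
      exact MaximalSpectrum.ext h''
    exact Set.finite_univ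
  · obtain ⟨e, -⟩ := CTensorLib.exists_quotEquiv k A B 0
    rw [zero_add, pow_one] at e
    exact ⟨e⟩
  · intro M hMm
    exact Module.Finite.of_surjective
      ({ toFun := Ideal.Quotient.factor (hM M hMm), map_add' := (Ideal.Quotient.factor (hM M hMm)).map_add, map_smul' := fun b x => by
          obtain ⟨x, rfl⟩ := Ideal.Quotient.mk_surjective x
          rfl } : (EGA4.CTensor k A B ⧸ JC) →ₗ[B] EGA4.CTensor k A B ⧸ M)
      (Ideal.Quotient.factor_surjective (hM M hMm))

end Groth.Agent.S4740
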