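import Groth.Statements.S4741
import Groth.Agent.CMAux.DimIneq
import Groth.Agent.FlatEquidim.Scheme
import Groth.Agent.FlatLocalDepth.Comp
import Groth.Agent.FlatLocalDepth.FibreStalk
import Mathlib

set_option autoImplicit false
universe u
open EGA4

set_option backward.isDefEq.respectTransparency.types false
namespace Groth.Agent.S4741

open AlgebraicGeometry CategoryTheory


open AlgebraicGeometry CategoryTheory in
/-- Suppose X and Y are locally Noetherian schemes, f : X → Y is a morphism that is surjective, and Z is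
a closed subset of Y. Then codim(f⁻¹(Z), X) ≤ codim(Z, Y), where the codimension of a closed subset
means the infimum over its points of the dimensions of the local rings there; when f is in addition
flat, these two codimensions coincide. (In the published version the equality part assumes f
quasi-flat; here f is taken to be flat.) -/
theorem result {X Y : Scheme.{u}} (f : X ⟶ Y) [IsLocallyNoetherian X]
    [IsLocallyNoetherian Y] (hf : Function.Surjective f.base) (Z : Set Y) (hZ : IsClosed Z) :
    (⨅ x ∈ f.base ⁻¹' Z, ringKrullDim (X.presheaf.stalk x)) ≤ ⨅ y ∈ Z, ringKrullDim (Y.presheaf.stalk y) ∧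
      (Flat f → (⨅ x ∈ f.base ⁻¹' Z, ringKrullDim (X.presheaf.stalk x)) = ⨅ y ∈ Z, ringKrullDim (Y.presheaf.stalk y)) := by
  have hstep : ∀ y : Y, ∃ x : X, f.base x = y ∧ ringKrullDim (X.presheaf.stalk x) ≤ ringKrullDim (Y.presheaf.stalk y) := by
    intro y
    obtain ⟨x₀, hx₀⟩ := hf y
    obtain ⟨v, -⟩ : x₀ ∈ Set.range (f.fiberι y) := by rw [f.range_fiberι]; exact hx₀
    let w := (isIrreducible_irreducibleComponent (x := v)).genericPoint
    have hw : IsGenericPoint w (irreducibleComponent v) :=
      (isIrreducible_irreducibleComponent (x := v)).isGenericPoint_genericPoint isClosed_irreducibleComponent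
    have h0 : ringKrullDim ((f.fiber y).presheaf.stalk w) = 0 := by
      rw [ringKrullDim_stalk_eq_coheight, Order.coheight_eq_zero.2 (fun a ha => ?_)]
      · rfl
      · have ha' : a ⤳ w := ha
        have hsub : irreducibleComponent v ⊆ closure {a} := by
          rw [← hw.def]
          exact closure_minimal (Set.singleton_subset_iff.2 ha'.mem_closure) isClosed_closure
        have heq := ((irreducibleComponent_property v).2.2 _ isIrreducible_singleton.closure.isPreirreducible hsub).symm
        show w ⤳ a
        exact hw.specializes (heq ▸ subset_closure rfl)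
    refine ⟨f.fiberι y w, Groth.Agent.FlatEquidim.fiberι_apply_eq f y w, ?_⟩
    obtain ⟨e⟩ := Groth.Agent.FlatLocalDepth.nonempty_fibre_stalk_equiv f y w _ rfl
    letI : Algebra (Y.presheaf.stalk (f (f.fiberι y w))) (X.presheaf.stalk (f.fiberι y w)) := (f.stalkMap _).hom.toAlgebra
    haveI : IsLocalHom (algebraMap (Y.presheaf.stalk (f (f.fiberι y w))) (X.presheaf.stalk (f.fiberι y w))) :=
      inferInstanceAs (IsLocalHom (f.stalkMap _).hom)
    refine (Groth.Agent.CMAux.ringKrullDim_le_add_fibre (Y.presheaf.stalk (f (f.fiberι y w))) (X.presheaf.stalk (f.fiberι y w))).trans ?_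
    refine le_of_eq ((congrArg (ringKrullDim (Y.presheaf.stalk (f (f.fiberι y w))) + ·)
      ((ringKrullDim_eq_of_ringEquiv e).trans h0)).trans ?_)
    rw [add_zero, Groth.Agent.FlatEquidim.fiberι_apply_eq f y w]
  have h1 : (⨅ x ∈ f.base ⁻¹' Z, ringKrullDim (X.presheaf.stalk x)) ≤ ⨅ y ∈ Z, ringKrullDim (Y.presheaf.stalk y) := by
    refine le_iInf₂ fun y hy => ?_
    obtain ⟨x, hxy, hx⟩ := hstep y
    exact (iInf₂_le x (show f.base x ∈ Z from hxy.symm ▸ hy)).trans hx
  refine ⟨h1, fun hflat => le_antisymm h1 (le_iInf₂ fun x hx => (iInf₂_le (f x) hx).trans ?_)⟩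
  letI : Algebra (Y.presheaf.stalk (f x)) (X.presheaf.stalk x) := (f.stalkMap x).hom.toAlgebra
  haveI : IsLocalHom (algebraMap (Y.presheaf.stalk (f x)) (X.presheaf.stalk x)) :=
    inferInstanceAs (IsLocalHom (f.stalkMap x).hom)
  haveI : Module.Flat (Y.presheaf.stalk (f x)) (X.presheaf.stalk x) := Flat.stalkMap f x
  haveI := Groth.Agent.FlatLocalDepth.nontrivial_fibre (Y.presheaf.stalk (f x)) (X.presheaf.stalk x)
  rw [Groth.Agent.FlatLocalDepth.ringKrullDim_eq_add (Y.presheaf.stalk (f x)) (X.presheaf.stalk x)]
  conv_lhs => rw [← add_zero (ringKrullDim (Y.presheaf.stalk (f x)))]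
  exact add_le_add le_rfl ringKrullDim_nonneg_of_nontrivial

end Groth.Agent.S4741
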