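import Groth.Statements.S4742
import Groth.Agent.LeadFCat.DimEq
import Groth.Agent.LocDuality.CanonBasic

set_option autoImplicit false
universe u
open EGA4

namespace Groth.Agent.S4742

/-- Let A be a Noetherian local ring which is equidimensional and catenary, t an element of A belonging
to a system of parameters (dim A/tA + 1 = dim A), and Z a set of prime ideals of A stable under
specialization. Write X = Spec A, X₀ = V(t), X₁ = X ∖ X₀ and Z₀ = Z ∩ X₀, Z₁ = Z ∩ X₁. Then
codim(Z₀, X₀) ≤ codim(Z, X) ≤ codim(Z₁, X₁), where each codimension is the infimum of the heights of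
the primes concerned, heights for Z₀ being taken in A/tA. -/
theorem result (A : Type u) [CommRing A] [IsNoetherianRing A] [IsLocalRing A]
    (hA : EGA4.IsEquidim A) (hA' : CAlg.IsCatenary A) (t : A)
    (ht : ringKrullDim (A ⧸ Ideal.span {t}) + 1 = ringKrullDim A) (Z : Set (PrimeSpectrum A))
    (hZ : StableUnderSpecialization Z) :
    (⨅ p ∈ {p ∈ Z | t ∈ p.asIdeal}, (p.asIdeal.map (Ideal.Quotient.mk (Ideal.span {t}))).height) ≤
        ⨅ p ∈ Z, p.asIdeal.height ∧
      (⨅ p ∈ Z, p.asIdeal.height) ≤ ⨅ p ∈ {p ∈ Z | t ∉ p.asIdeal}, p.asIdeal.height := by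
  refine ⟨le_iInf₂ fun p hp => ?_, le_iInf₂ fun p hp => iInf₂_le p hp.1⟩
  have hsurj : Function.Surjective (Ideal.Quotient.mk (Ideal.span {t})) := Ideal.Quotient.mk_surjective
  -- `t` is not a unit
  have htm : Ideal.span {t} ≤ IsLocalRing.maximalIdeal A := by
    refine IsLocalRing.le_maximalIdeal fun h => ?_
    obtain ⟨N, hN⟩ := LeadFCat.exists_dim A
    have : Subsingleton (A ⧸ Ideal.span {t}) := Ideal.Quotient.subsingleton_iff.2 h
    rw [ringKrullDim_eq_bot_of_subsingleton, WithBot.bot_add, hN] at ht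
    exact WithBot.natCast_ne_bot N ht.symm
  obtain ⟨P, hP, hle⟩ : ∃ P : PrimeSpectrum A, (P ∈ Z ∧ t ∈ P.asIdeal) ∧
      (P.asIdeal.map (Ideal.Quotient.mk (Ideal.span {t}))).height ≤ p.asIdeal.height := by
    obtain ⟨P, hPmin⟩ := Ideal.nonempty_minimalPrimes (I := p.asIdeal ⊔ Ideal.span {t})
      (fun h => (IsLocalRing.maximalIdeal.isMaximal A).ne_top
        (top_le_iff.1 (h ▸ sup_le (IsLocalRing.le_maximalIdeal p.2.ne_top) htm)))
    have hPp : P.IsPrime := hPmin.1.1
    have hpP : p.asIdeal ≤ P := le_sup_left.trans hPmin.1.2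
    have hspan : Ideal.span {t} ≤ P := le_sup_right.trans hPmin.1.2
    refine ⟨⟨P, hPp⟩, ⟨hZ ((PrimeSpectrum.le_iff_specializes p ⟨P, hPp⟩).1 hpP) hp,
      hspan (Ideal.mem_span_singleton_self t)⟩, ?_⟩
    show (P.map (Ideal.Quotient.mk (Ideal.span {t}))).height ≤ _
    -- `dim A/p ≤ dim A/P + 1`
    obtain ⟨k, hk⟩ := SerreLift.exists_hasLen hA' (show p ≤ (⟨P, hPp⟩ : PrimeSpectrum A) from hpP)
    obtain ⟨d, hd⟩ := SerreLift.exists_hasLen hA'
      (show (⟨P, hPp⟩ : PrimeSpectrum A) ≤ IsLocalRing.closedPoint A from IsLocalRing.le_maximalIdeal hPp.ne_top)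
    obtain ⟨d', hd'⟩ := SerreLift.exists_hasLen hA'
      (show p ≤ IsLocalRing.closedPoint A from IsLocalRing.le_maximalIdeal p.2.ne_top)
    have hadd := hk.add hA' hd hd'
    have hk1 : k ≤ 1 := by
      have h1 := Ideal.map_height_le_one_of_mem_minimalPrimes hPmin
      rw [LeadFCat.height_map_mk_eq p ⟨P, hPp⟩ hpP k hk] at h1
      exact_mod_cast h1
    have hdp := SerreLift.ringKrullDim_quotient_eq hd'
    have hdP := SerreLift.ringKrullDim_quotient_eq hd
    have e1 := LeadFCat.dim_add_height hA' hA p.asIdeal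
    have e2 := LeadFCat.dim_add_height hA' hA P
    have hPt : (P.map (Ideal.Quotient.mk (Ideal.span {t}))).IsPrime :=
      Ideal.map_isPrime_of_surjective hsurj (by rwa [Ideal.mk_ker])
    have : Nontrivial (A ⧸ Ideal.span {t}) := Ideal.Quotient.nontrivial_iff.2 fun h =>
      hPp.ne_top (top_le_iff.1 (h ▸ hspan))
    have : IsLocalRing (A ⧸ Ideal.span {t}) := IsLocalRing.of_surjective' _ hsurj
    have e3 := LocDuality.height_add_ringKrullDim_quotient_le (P.map (Ideal.Quotient.mk (Ideal.span {t})))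
    rw [ringKrullDim_eq_of_ringEquiv (DoubleQuot.quotQuotEquivQuotOfLE hspan)] at e3
    obtain ⟨N, hN⟩ := LeadFCat.exists_dim A
    obtain ⟨a, ha⟩ := LeadFCat.exists_height p.asIdeal
    obtain ⟨b, hb⟩ := LeadFCat.exists_height P
    obtain ⟨c, hc⟩ := LeadFCat.exists_height (P.map (Ideal.Quotient.mk (Ideal.span {t})))
    obtain ⟨M, hM⟩ := LeadFCat.exists_dim (A ⧸ Ideal.span {t})
    dsimp only at hdP
    rw [hdp, hN, ha] at e1
    rw [hdP, hN, hb] at e2
    rw [hdP, hc, hM] at e3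
    rw [hM, hN] at ht
    rw [ha, hc]
    norm_cast at e1 e2 e3 ht ⊢
    omega
  exact (iInf₂_le P hP).trans hle

end Groth.Agent.S4742
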