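import Groth.Statements.S4743
import Groth.Agent.RegLocus.NagataFibres

set_option autoImplicit false
universe u
open EGA4

namespace Groth.Agent.S4743

open TensorProduct


open TensorProduct in
/-- For the property 'geometrically reduced', case of a local ring: let A be a Noetherian local ring
with completion Â. Then the formal fibres of A are geometrically reduced if and only if, for every
finite A-algebra B which is a domain and every prime ideal q of B ⊗_A Â whose contraction to B is
zero, the local ring of B ⊗_A Â at q is reduced. (The published statement is for semi-local rings;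
this row takes A local.) -/
theorem result (A : Type u) [CommRing A] [IsNoetherianRing A]
    [IsLocalRing A] :
    EGA4.HasGeomReducedFormalFibres A ↔
      ∀ (B : Type u) [CommRing B] [IsDomain B] [Algebra A B] [Module.Finite A B]
        (q : Ideal (B ⊗[A] EGA4.Cpl A)) [q.IsPrime],
        q.comap (algebraMap B (B ⊗[A] EGA4.Cpl A)) = ⊥ → IsReduced (Localization.AtPrime q) := by
  obtain ⟨hcN, hff, -⟩ := RegLocus.cpl_facts A
  haveI := hcN
  haveI := hff
  refine ⟨fun h B _ _ _ _ q _ _ => ?_, fun h => RegLocus.geomReducedFormalFibres_of_tensor A fun C _ _ _ _ => ?_⟩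
  · haveI : IsReduced (EGA4.Cpl A ⊗[A] B) := RegLocus.isReduced_cpl_tensor_of_reduced A
      ⟨inferInstance, fun p _ => RegLocus.isN2_quotient_of_geomReduced A h p⟩ B
    haveI : IsReduced (B ⊗[A] EGA4.Cpl A) := isReduced_of_injective
      (Algebra.TensorProduct.comm A B (EGA4.Cpl A)) (Algebra.TensorProduct.comm A B (EGA4.Cpl A)).injective
    exact isReduced_localizationPreserves q.primeCompl (Localization.AtPrime q) inferInstance
  · haveI : IsNoetherianRing C := IsNoetherianRing.of_finite A C
    haveI : IsNoetherianRing (C ⊗[A] EGA4.Cpl A) := by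
      haveI : IsNoetherianRing (EGA4.Cpl A ⊗[A] C) := Algebra.FiniteType.isNoetherianRing (EGA4.Cpl A) _
      exact isNoetherianRing_of_ringEquiv _ (Algebra.TensorProduct.comm A (EGA4.Cpl A) C).toRingEquiv
    haveI : IsReduced (C ⊗[A] EGA4.Cpl A) := by
      refine ⟨fun z hz => ?_⟩
      by_contra hz0
      obtain ⟨Q, hQ, hle⟩ := exists_le_isAssociatedPrime_of_isNoetherianRing (R := C ⊗[A] EGA4.Cpl A) z hz0
      haveI := hQ.isPrime
      have hbot : Q.comap (algebraMap C (C ⊗[A] EGA4.Cpl A)) = ⊥ := by
        refine (Submodule.eq_bot_iff _).2 fun b hb => by_contra fun hb0 => ?_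
        have hreg : IsSMulRegular (C ⊗[A] EGA4.Cpl A) (algebraMap C (C ⊗[A] EGA4.Cpl A) b) :=
          IsSMulRegular.of_flat (S := C ⊗[A] EGA4.Cpl A)
            (show IsSMulRegular C b from fun x y e => mul_left_cancel₀ hb0 e)
        have hmem : algebraMap C (C ⊗[A] EGA4.Cpl A) b ∈
            ⋃ p ∈ associatedPrimes (C ⊗[A] EGA4.Cpl A) (C ⊗[A] EGA4.Cpl A), (p : Set (C ⊗[A] EGA4.Cpl A)) :=
          Set.mem_biUnion hQ hb
        rw [biUnion_associatedPrimes_eq_compl_regular] at hmem
        exact hmem hreg
      haveI := h C Q hbot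
      have h0 : algebraMap _ (Localization.AtPrime Q) z = 0 := (hz.map _).eq_zero
      obtain ⟨⟨c, hc⟩, hcz⟩ := (IsLocalization.map_eq_zero_iff Q.primeCompl (Localization.AtPrime Q) z).1 h0
      exact hc (hle (by simpa [Submodule.mem_colon_singleton] using hcz))
    exact isReduced_of_injective (Algebra.TensorProduct.comm A (EGA4.Cpl A) C)
      (Algebra.TensorProduct.comm A (EGA4.Cpl A) C).injective

end Groth.Agent.S4743
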