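import Groth.Statements.S4744
import Groth.Agent.RegLocus.CMFibres

set_option autoImplicit false
universe u
open EGA4

namespace Groth.Agent.S4744

/-- Let A → A' be a flat local homomorphism of Noetherian local rings all of whose fibre rings k(p) ⊗_A
A' are Cohen–Macaulay. If the completion map of A' is regular (the formal fibres of A' are
geometrically regular), then the formal fibres of A are Cohen–Macaulay. -/
theorem result (A A' : Type u) [CommRing A] [CommRing A'] [IsNoetherianRing A]
    [IsNoetherianRing A'] [IsLocalRing A] [IsLocalRing A'] [Algebra A A'] [IsLocalHom (algebraMap A A')]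
    [Module.Flat A A'] (hf : ∀ (p : Ideal A) [p.IsPrime], LocCoh.IsCohenMacaulayRing (p.Fiber A'))
    (hA' : CAlg.IsRegularHom A' (EGA4.Cpl A')) : EGA4.HasCMFormalFibres A := by
  refine Groth.Agent.RegLocus.cmFormalFibres_of_hom A A' hf fun r _ => ?_
  have := Groth.Agent.RegLocus.fibLoc_regular A' (EGA4.Cpl A') (fun p _ => (hA'.2 p).2) r
  exact Groth.Agent.LocCohBasic.isCohenMacaulayLocalRing_of_isRegularLocalRing (R := EGA4.FibLocRing A' (EGA4.Cpl A') r)

end Groth.Agent.S4744
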