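import Groth.Statements.S4746
import Groth.Agent.FormalFibRed.Core
import Groth.Agent.RegLocus.CplDescendHom
import Groth.Agent.RegLocus.SemilocalCpl


set_option autoImplicit false
set_option backward.isDefEq.respectTransparency false
set_option backward.isDefEq.respectTransparency.types false
universe u
open EGA4
open IsLocalRing (maximalIdeal local_hom_TFAE)

namespace Groth.Agent.S4746

section Pre

open TensorProduct IsLocalRing

/-- The closed fibre hypothesis transported to the completed base. -/
theorem closedGeomRed_cpl {A C D : Type u} [CommRing A] [IsLocalRing A] [CommRing C] [IsLocalRing C] [CommRing D]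
    [Algebra A C] [Algebra A D] [Algebra C D] [IsScalarTower A C D]
    (hmax : maximalIdeal C = (maximalIdeal A).map (algebraMap A C))
    (happ : ∀ x : C, ∃ a : A, x - algebraMap A C a ∈ maximalIdeal C)
    (h : Algebra.IsGeometricallyReduced (maximalIdeal A).ResidueField ((maximalIdeal A).Fiber D)) :
    Groth.Agent.FormalFibRed.ClosedGeomRed C D := by
  intro k' _ _ hfin
  haveI := hfin
  let m := maximalIdeal A
  letI : Algebra A k' := ((algebraMap C k').comp (algebraMap A C)).toAlgebra
  haveI : IsScalarTower A C k' := IsScalarTower.of_algebraMap_eq fun _ => rfl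
  haveI := Algebra.IsIntegral.of_finite C k'
  have hker : (⊥ : Ideal k').comap (algebraMap C k') = maximalIdeal C :=
    IsLocalRing.eq_maximalIdeal (Ideal.isMaximal_comap_of_isIntegral_of_isMaximal _)
  have hC0 : ∀ c ∈ maximalIdeal C, algebraMap C k' c = 0 := fun c hc => by
    rw [← hker, Ideal.mem_comap, Ideal.mem_bot] at hc
    exact hc
  have hA0 : ∀ a ∈ m, algebraMap A k' a = 0 := fun a ha => by
    rw [IsScalarTower.algebraMap_apply A C k']
    exact hC0 _ (hmax ▸ Ideal.mem_map_of_mem _ ha)
  have hC : ∀ c : C, ∃ a : A, algebraMap C k' c = algebraMap A k' a := fun c => by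
    obtain ⟨a, ha⟩ := happ c
    refine ⟨a, sub_eq_zero.1 ?_⟩
    rw [IsScalarTower.algebraMap_apply A C k', ← map_sub]
    exact hC0 _ ha
  haveI : Module.Finite A k' := by
    obtain ⟨s, hs⟩ := hfin.fg_top
    refine ⟨⟨s, top_le_iff.1 fun x hx => ?_⟩⟩
    replace hx : x ∈ Submodule.span C (s : Set k') := hs ▸ Submodule.mem_top
    induction hx using Submodule.span_induction with
    | mem y hy => exact Submodule.subset_span hy
    | zero => exact zero_mem _
    | add y z _ _ hy hz => exact add_mem hy hz
    | smul c y _ hy =>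
      obtain ⟨a, ha⟩ := hC c
      rw [show c • y = a • y by rw [Algebra.smul_def, Algebra.smul_def, ha]]
      exact Submodule.smul_mem _ a hy
  let g : (A ⧸ m) ≃+* m.ResidueField :=
    RingEquiv.ofBijective (algebraMap (A ⧸ m) m.ResidueField) m.bijective_algebraMap_quotient_residueField
  letI : Algebra m.ResidueField k' :=
    ((Ideal.Quotient.lift m (algebraMap A k') hA0).comp g.symm.toRingHom).toAlgebra
  haveI : IsScalarTower A m.ResidueField k' := IsScalarTower.of_algebraMap_eq fun a => by
    show _ = Ideal.Quotient.lift m (algebraMap A k') hA0 (g.symm (algebraMap A m.ResidueField a))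
    have : g.symm (algebraMap A m.ResidueField a) = Ideal.Quotient.mk m a := by
      rw [RingEquiv.symm_apply_eq]
      exact IsScalarTower.algebraMap_apply A (A ⧸ m) m.ResidueField a
    rw [this]
    rfl
  haveI := h
  haveI : IsReduced (k' ⊗[m.ResidueField] m.Fiber D) :=
    Groth.Agent.RegLocus.isReduced_tensor_field m.ResidueField (m.Fiber D) k'
  let e1 := Algebra.TensorProduct.cancelBaseChange A m.ResidueField m.ResidueField k' D
  haveI : IsReduced (k' ⊗[A] D) := isReduced_of_injective e1.symm e1.symm.injective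
  haveI : TensorProduct.CompatibleSMul A C k' D := ⟨fun c x y => by
    obtain ⟨a, ha⟩ := happ c
    have hy : ∀ e ∈ (maximalIdeal A).map (algebraMap A C), ∀ (x : k') (y : D), x ⊗ₜ[A] (e • y) = 0 := by
      intro e he
      refine Submodule.span_induction (p := fun e _ => ∀ (x : k') (y : D), x ⊗ₜ[A] (e • y) = 0) ?_ ?_ ?_ ?_ he
      · rintro _ ⟨t, ht, rfl⟩ x y
        rw [algebraMap_smul, ← TensorProduct.smul_tmul, Algebra.smul_def, hA0 t ht, zero_mul, TensorProduct.zero_tmul]
      · intro x y; rw [zero_smul, TensorProduct.tmul_zero]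
      · intro p q _ _ hp hq x y; rw [add_smul, TensorProduct.tmul_add, hp, hq, add_zero]
      · intro r p _ hp x y; rw [smul_eq_mul, mul_comm, mul_smul]; exact hp x (r • y)
    have h1 : c • x = a • x := by
      rw [← sub_eq_zero, ← algebraMap_smul C a x, ← sub_smul, Algebra.smul_def, hC0 _ ha, zero_mul]
    have h2 : x ⊗ₜ[A] (c • y) = x ⊗ₜ[A] (a • y) := by
      rw [← sub_eq_zero, ← TensorProduct.tmul_sub, ← algebraMap_smul C a y, ← sub_smul]
      exact hy _ (hmax ▸ ha) x y
    rw [h1, h2, TensorProduct.smul_tmul]⟩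
  let e2 := Algebra.TensorProduct.equivOfCompatibleSMul C A k' k' D
  exact isReduced_of_injective e2.symm e2.symm.injective

end Pre


/-- For the property 'reduced': let A → B be a local homomorphism of Noetherian local rings making B a
flat A-module, such that the residue field of B is a finite extension of the residue field k of A,
and such that the formal fibres of A are geometrically reduced. If the k-algebra k ⊗_A B̂, where B̂
is the completion of B, is geometrically reduced over k, then every fibre k(p) ⊗_A B of A → B is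
geometrically reduced over k(p). -/
theorem result (A B : Type u) [CommRing A] [CommRing B]
    [IsNoetherianRing A] [IsNoetherianRing B] [IsLocalRing A] [IsLocalRing B] [Algebra A B]
    [IsLocalHom (algebraMap A B)] [Module.Flat A B]
    [Module.Finite (IsLocalRing.ResidueField A) (IsLocalRing.ResidueField B)]
    (hA : EGA4.HasGeomReducedFormalFibres A)
    (h : Algebra.IsGeometricallyReduced (IsLocalRing.maximalIdeal A).ResidueField
      ((IsLocalRing.maximalIdeal A).Fiber (EGA4.Cpl B))) :
    ∀ (p : Ideal A) [p.IsPrime], Algebra.IsGeometricallyReduced p.ResidueField (p.Fiber B) := by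
  intro p _
  obtain ⟨hNA, hffA, -⟩ := Groth.Agent.RegLocus.cpl_facts A
  obtain ⟨hNB, hffB, -⟩ := Groth.Agent.RegLocus.cpl_facts B
  haveI := hNA; haveI := hffA; haveI := hNB; haveI := hffB
  obtain ⟨iC, hsc, hff⟩ := Groth.Agent.RegLocus.exists_cpl_faithfullyFlat A B
  letI := iC; haveI := hsc; haveI := hff
  haveI : IsAdicComplete (maximalIdeal (EGA4.Cpl A)) (EGA4.Cpl A) := by
    rw [AdicCompletion.maximalIdeal_eq_map]
    exact AdicCompletion.isAdicComplete_self _ (IsNoetherian.noetherian _)
  have hjac : (maximalIdeal (EGA4.Cpl A)).map (algebraMap (EGA4.Cpl A) (EGA4.Cpl B)) ≤ Ideal.jacobson ⊥ := by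
    rw [IsLocalRing.jacobson_eq_maximalIdeal ⊥ bot_ne_top, AdicCompletion.maximalIdeal_eq_map, Ideal.map_map,
      ← IsScalarTower.algebraMap_eq, IsScalarTower.algebraMap_eq A B (EGA4.Cpl B), ← Ideal.map_map,
      AdicCompletion.maximalIdeal_eq_map]
    exact Ideal.map_mono (((local_hom_TFAE (algebraMap A B)).out 0 2 rfl rfl).1 inferInstance)
  have hcl := closedGeomRed_cpl (A := A) (C := EGA4.Cpl A) (D := EGA4.Cpl B) AdicCompletion.maximalIdeal_eq_map
    (fun x => by
      obtain ⟨a, ha⟩ := Groth.Agent.RegLocus.exists_approx A 1 x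
      exact ⟨a, by rw [AdicCompletion.maximalIdeal_eq_map]; simpa using ha⟩) h
  have hAB : ∀ (q : Ideal (EGA4.Cpl A)) [q.IsPrime],
      Algebra.IsGeometricallyReduced q.ResidueField (q.Fiber (EGA4.Cpl B)) := fun q _ =>
    Groth.Agent.RegLocus.geomReduced_fiber_of_finite (EGA4.Cpl A) (EGA4.Cpl B) q fun K _ _ _ _ _ =>
      haveI := Groth.Agent.RegLocus.isReduced_tensor_finite_extension (EGA4.Cpl A) (EGA4.Cpl B)
        (fun C _ _ _ _ => Groth.Agent.FormalFibRed.isReduced_tensor_domain (EGA4.Cpl A) (EGA4.Cpl B) hjac hcl C) q K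
      isReduced_of_injective (Algebra.TensorProduct.comm (EGA4.Cpl A) K (EGA4.Cpl B))
        (Algebra.TensorProduct.comm (EGA4.Cpl A) K (EGA4.Cpl B)).injective
  haveI := Groth.Agent.RegLocus.geomReduced_trans A (EGA4.Cpl A) (EGA4.Cpl B) hA hAB p
  exact Groth.Agent.RegLocus.geomReduced_descend A B (EGA4.Cpl B) p

end Groth.Agent.S4746
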