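import Groth.Statements.S4747
import Groth.Agent.FormalFibCM.Core
import Groth.Agent.FlatOverBC.CMAlg


set_option autoImplicit false
set_option backward.isDefEq.respectTransparency false
set_option backward.isDefEq.respectTransparency.types false
universe u
open EGA4
open IsLocalRing (maximalIdeal residue residue_eq_zero_iff ResidueField local_hom_TFAE)

namespace Groth.Agent.S4747

section Pre

open TensorProduct IsLocalRing

theorem cm_of_equiv {R S : Type u} [CommRing R] [CommRing S] (e : R ≃+* S)
    [hR : LocCoh.IsCohenMacaulayRing R] [IsNoetherianRing R] : LocCoh.IsCohenMacaulayRing S :=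
  haveI := isNoetherianRing_of_ringEquiv R e
  { isCohenMacaulayLocalRing_localization := fun P _ => by
      obtain ⟨Q, hQ, ⟨f⟩⟩ := Groth.Agent.RegLocus.localization_equiv e.symm P
      exact @Groth.Agent.FlatLocalDepth.isCohenMacaulayLocalRing_of_ringEquiv _ _ _ _
        (hR.isCohenMacaulayLocalRing_localization Q) f }

/-- Cohen–Macaulayness ascends along finite flat algebras. -/
theorem cm_of_finite_flat (R S : Type u) [CommRing R] [CommRing S] [Algebra R S] [IsNoetherianRing R]
    [Module.Finite R S] [Module.Flat R S] [hR : LocCoh.IsCohenMacaulayRing R] :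
    LocCoh.IsCohenMacaulayRing S := by
  haveI : IsNoetherianRing S := isNoetherian_of_tower R (isNoetherian_of_isNoetherianRing_of_finite R S)
  refine { isCohenMacaulayLocalRing_localization := fun Q _ => ?_ }
  let P := Q.comap (algebraMap R S)
  haveI : Q.LiesOver P := ⟨rfl⟩
  letI := Localization.AtPrime.algebraOfLiesOver P Q
  haveI : IsLocalHom (algebraMap (Localization.AtPrime P) (Localization.AtPrime Q)) :=
    Localization.isLocalHom_localRingHom _ _ _ rfl
  haveI : Module.Flat R (Localization.AtPrime Q) := Module.Flat.trans R S _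
  haveI : Module.Flat (Localization.AtPrime P) (Localization.AtPrime Q) :=
    (Module.flat_iff_of_isLocalization (Localization.AtPrime P) P.primeCompl (Localization.AtPrime Q)).2
      inferInstance
  refine (Groth.Agent.FlatLocalDepth.isCohenMacaulayLocalRing_iff (Localization.AtPrime P) (Localization.AtPrime Q)).2
    ⟨hR.isCohenMacaulayLocalRing_localization P, ?_⟩
  obtain ⟨e⟩ := Groth.Agent.RegLocus.closedFibre_equiv R S P Q
  obtain ⟨Q', hQ', ⟨f⟩⟩ := Groth.Agent.RegLocus.exists_fibre_localization R S Q
  haveI : IsArtinianRing (P.Fiber S) := IsArtinianRing.of_finite P.ResidueField _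
  haveI : LocCoh.IsCohenMacaulayLocalRing (EGA4.FibLocRing R S Q) :=
    @Groth.Agent.FlatLocalDepth.isCohenMacaulayLocalRing_of_ringEquiv _ _ _ _
      (Groth.Agent.FormalFibCM.isCohenMacaulayLocalRing_of_artinian (Localization.AtPrime Q')) f
  exact Groth.Agent.FlatLocalDepth.isCohenMacaulayLocalRing_of_ringEquiv e

/-- A local ring isomorphic to a Cohen–Macaulay ring is a Cohen–Macaulay local ring. -/
theorem cm_local_of_equiv {T F : Type u} [CommRing T] [CommRing F] [IsLocalRing F]
    (hT : LocCoh.IsCohenMacaulayRing T) (e : T ≃+* F) : LocCoh.IsCohenMacaulayLocalRing F :=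
  haveI := hT
  Groth.Agent.FlatOverBC.isCohenMacaulayLocalRing_of_surjectiveOnStalks e.toRingHom
    (RingHom.Flat.of_bijective e.bijective) (RingHom.surjectiveOnStalks_of_surjective e.surjective)

/-- The closed fibre from the residue field base change. -/
theorem closedFibre_of_selfTensor {A C : Type u} [CommRing A] [CommRing C] [Algebra A C]
    (m : Ideal A) [m.IsMaximal] (I : Ideal C) (hI : I = m.map (algebraMap A C)) [IsLocalRing (C ⧸ I)]
    (h : LocCoh.IsCohenMacaulayRing (m.ResidueField ⊗[m.ResidueField] m.Fiber C)) :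
    LocCoh.IsCohenMacaulayLocalRing (C ⧸ I) := by
  let gA : (A ⧸ m) ≃ₐ[A] m.ResidueField :=
    AlgEquiv.ofBijective (IsScalarTower.toAlgHom A (A ⧸ m) m.ResidueField)
      m.bijective_algebraMap_quotient_residueField
  exact cm_local_of_equiv h ((Algebra.TensorProduct.lid m.ResidueField _).toRingEquiv.trans
      (((Algebra.TensorProduct.congr gA.symm (AlgEquiv.refl : C ≃ₐ[A] C)).toRingEquiv.trans
        (Algebra.TensorProduct.comm A (A ⧸ m) C).toRingEquiv).trans
          ((Algebra.TensorProduct.quotIdealMapEquivTensorQuot C m).symm.toRingEquiv.trans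
            (Ideal.quotEquivOfEq hI.symm))))

/-- Cohen–Macaulayness after a finite extension of the base field. -/
theorem cm_tensor {k R L : Type u} [Field k] [CommRing R] [Algebra k R] [Field L] [Algebra k L]
    [Module.Finite k L] [IsNoetherianRing R] [LocCoh.IsCohenMacaulayRing R] :
    LocCoh.IsCohenMacaulayRing (L ⊗[k] R) := by
  haveI := cm_of_finite_flat R (R ⊗[k] L)
  haveI : IsNoetherianRing (R ⊗[k] L) :=
    isNoetherian_of_tower R (isNoetherian_of_isNoetherianRing_of_finite R _)
  exact cm_of_equiv (Algebra.TensorProduct.comm k R L).toRingEquiv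

end Pre


open TensorProduct in
/-- For the property 'Cohen–Macaulay': let A → B be a local homomorphism of Noetherian local rings
making B a flat A-module, such that the residue field of B is a finite extension of the residue
field k of A, and such that the formal fibres of A are Cohen–Macaulay. If for every finite extension
k' of k the ring k' ⊗_k (k ⊗_A B̂) is Cohen–Macaulay (B̂ the completion of B), then for every prime
p of A and every finite extension K of k(p) the ring K ⊗_{k(p)} (k(p) ⊗_A B) is Cohen–Macaulay; in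
particular all fibres of A → B are Cohen–Macaulay. -/
theorem result (A B : Type u) [CommRing A] [CommRing B]
    [IsNoetherianRing A] [IsNoetherianRing B] [IsLocalRing A] [IsLocalRing B] [Algebra A B]
    [IsLocalHom (algebraMap A B)] [Module.Flat A B]
    [Module.Finite (IsLocalRing.ResidueField A) (IsLocalRing.ResidueField B)]
    (hA : EGA4.HasCMFormalFibres A)
    (h : ∀ (k' : Type u) [Field k'] [Algebra (IsLocalRing.maximalIdeal A).ResidueField k'],
      Module.Finite (IsLocalRing.maximalIdeal A).ResidueField k' →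
        LocCoh.IsCohenMacaulayRing (k' ⊗[(IsLocalRing.maximalIdeal A).ResidueField]
          ((IsLocalRing.maximalIdeal A).Fiber (EGA4.Cpl B)))) :
    ∀ (p : Ideal A) [p.IsPrime] (K : Type u) [Field K] [Algebra p.ResidueField K],
      Module.Finite p.ResidueField K → LocCoh.IsCohenMacaulayRing (K ⊗[p.ResidueField] (p.Fiber B)) := by
  intro p _ K _ _ hK
  haveI := hK
  obtain ⟨hNA, hffA, -⟩ := Groth.Agent.RegLocus.cpl_facts A
  obtain ⟨hNB, hffB, -⟩ := Groth.Agent.RegLocus.cpl_facts B
  haveI := hNA; haveI := hffA; haveI := hNB; haveI := hffB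
  obtain ⟨iC, hsc, hff⟩ := Groth.Agent.RegLocus.exists_cpl_faithfullyFlat A B
  letI := iC; haveI := hsc; haveI := hff
  haveI : IsAdicComplete (maximalIdeal (EGA4.Cpl A)) (EGA4.Cpl A) := by
    rw [AdicCompletion.maximalIdeal_eq_map]
    exact AdicCompletion.isAdicComplete_self _ (IsNoetherian.noetherian _)
  haveI : IsAdicComplete (maximalIdeal (EGA4.Cpl B)) (EGA4.Cpl B) := by
    rw [AdicCompletion.maximalIdeal_eq_map]
    exact AdicCompletion.isAdicComplete_self _ (IsNoetherian.noetherian _)
  have hle : (maximalIdeal A).map (algebraMap A (EGA4.Cpl B)) ≤ maximalIdeal (EGA4.Cpl B) := by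
    rw [IsScalarTower.algebraMap_eq A B (EGA4.Cpl B), ← Ideal.map_map, AdicCompletion.maximalIdeal_eq_map]
    exact Ideal.map_mono (Groth.Agent.FlatLocalDepth.map_maximalIdeal_le A B)
  have hmap : (maximalIdeal (EGA4.Cpl A)).map (algebraMap (EGA4.Cpl A) (EGA4.Cpl B)) =
      (maximalIdeal A).map (algebraMap A (EGA4.Cpl B)) := by
    rw [AdicCompletion.maximalIdeal_eq_map, Ideal.map_map, ← IsScalarTower.algebraMap_eq]
  haveI hlocal : IsLocalHom (algebraMap (EGA4.Cpl A) (EGA4.Cpl B)) :=
    ((local_hom_TFAE _).out 2 0 rfl rfl).1 (hmap.trans_le hle)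
  haveI : Module.Finite (ResidueField (EGA4.Cpl A)) (ResidueField (EGA4.Cpl B)) := by
    haveI : Module.Finite A (ResidueField A) :=
      Module.Finite.of_surjective (Algebra.linearMap A _) IsLocalRing.residue_surjective
    haveI : Module.Finite A (ResidueField B) := Module.Finite.trans (ResidueField A) _
    haveI : IsLocalHom (algebraMap B (EGA4.Cpl B)) := inferInstance
    haveI : Module.Finite A (ResidueField (EGA4.Cpl B)) := by
      refine Module.Finite.of_surjective (M := ResidueField B)
        ({ toFun := ResidueField.map (algebraMap B (EGA4.Cpl B))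
           map_add' := map_add _
           map_smul' := fun a x => by
            obtain ⟨b, rfl⟩ := IsLocalRing.residue_surjective x
            rw [Algebra.smul_def, map_mul, RingHom.id_apply, Algebra.smul_def,
              IsScalarTower.algebraMap_apply A B (ResidueField B), IsScalarTower.algebraMap_apply A B (ResidueField (EGA4.Cpl B))]
            rfl } : ResidueField B →ₗ[A] ResidueField (EGA4.Cpl B)) fun y => ?_
      obtain ⟨x, rfl⟩ := IsLocalRing.residue_surjective y
      obtain ⟨b, hb⟩ := Groth.Agent.RegLocus.exists_approx B 1 x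
      refine ⟨residue B b, Eq.symm ?_⟩
      show residue _ x = residue _ (algebraMap B (EGA4.Cpl B) b)
      rw [← sub_eq_zero, ← map_sub, residue_eq_zero_iff, AdicCompletion.maximalIdeal_eq_map]
      simpa using hb
    exact Module.Finite.of_restrictScalars_finite A _ _
  -- the closed fibre
  have hF : LocCoh.IsCohenMacaulayLocalRing
      (EGA4.Cpl B ⧸ (maximalIdeal (EGA4.Cpl A)).map (algebraMap (EGA4.Cpl A) (EGA4.Cpl B))) := by
    haveI := Groth.Agent.FlatLocalDepth.isLocalRing_quotient
      (hmap.trans_le hle : (maximalIdeal (EGA4.Cpl A)).map (algebraMap (EGA4.Cpl A) (EGA4.Cpl B)) ≤ _)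
    exact closedFibre_of_selfTensor (maximalIdeal A) _ hmap (h _ inferInstance)
  have hAfib := (Groth.Agent.RegLocus.fibLoc_cm_iff A (EGA4.Cpl A)
    fun q _ => Groth.Agent.RegLocus.isNoetherianRing_fiber A (EGA4.Cpl A) q).1 hA
  -- fibres of `A → B`
  haveI := Groth.Agent.RegLocus.isNoetherianRing_fiber A B p
  haveI hfib : LocCoh.IsCohenMacaulayRing (p.Fiber B) :=
    (Groth.Agent.RegLocus.fibLoc_cm_iff A B fun q _ => Groth.Agent.RegLocus.isNoetherianRing_fiber A B q).2
      (fun q _ => by
        obtain ⟨⟨r, hr⟩, hrq⟩ := PrimeSpectrum.comap_surjective_of_faithfullyFlat (A := B) (B := EGA4.Cpl B) ⟨q, inferInstance⟩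
        have hq : r.comap (algebraMap B (EGA4.Cpl B)) = q := congrArg PrimeSpectrum.asIdeal hrq
        subst hq
        exact ((Groth.Agent.RegLocus.fibLoc_cm_comp_iff A B (EGA4.Cpl B) r).1
          ((Groth.Agent.RegLocus.fibLoc_cm_comp_iff A (EGA4.Cpl A) (EGA4.Cpl B) r).2
            ⟨hAfib _, Groth.Agent.FormalFibCM.fibLoc_cm_of_complete (EGA4.Cpl A) (EGA4.Cpl B) hF r⟩)).1) p
  exact cm_tensor

end Groth.Agent.S4747
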