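import Groth.Statements.S4750
import Groth.Agent.CAlgT1.SkFlat
import Groth.Agent.RegLocus.GeomRedTrans
import Groth.Agent.FFDesc.Basic

set_option autoImplicit false
universe u
open EGA4
open scoped TensorProduct

namespace Groth.Agent.S4750

set_option synthInstance.maxHeartbeats 400000 in
set_option maxHeartbeats 2000000 in
/-- Let A → B → C be homomorphisms of Noetherian rings, both flat and with (S_n) fibres. Then the
composite A → C is flat with (S_n) fibres. -/
theorem result (n : ℕ) (A B C : Type u) [CommRing A] [CommRing B] [CommRing C] [IsNoetherianRing A]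
    [IsNoetherianRing B] [IsNoetherianRing C] [Algebra A B] [Algebra B C] [Algebra A C] [IsScalarTower A B C]
    [Module.Flat A B] [Module.Flat B C]
    (hAB : ∀ (p : Ideal A) [p.IsPrime], LocCoh.HasSk n (p.Fiber B) (p.Fiber B))
    (hBC : ∀ (q : Ideal B) [q.IsPrime], LocCoh.HasSk n (q.Fiber C) (q.Fiber C)) :
    Module.Flat A C ∧ ∀ (p : Ideal A) [p.IsPrime], LocCoh.HasSk n (p.Fiber C) (p.Fiber C) := by
  have hequiv : ∀ (R S : Type u) [CommRing R] [CommRing S] [IsNoetherianRing S] (e : R ≃+* S),
      LocCoh.HasSk n S S → LocCoh.HasSk n R R := by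
    intro R S _ _ _ e h
    letI : Algebra R S := e.toRingHom.toAlgebra
    haveI : Module.FaithfullyFlat R S := Module.FaithfullyFlat.of_linearEquiv (R := R) (M := R) (N := S)
      (LinearEquiv.ofBijective (Algebra.linearMap R S) e.bijective).symm
    exact Groth.Agent.FFDesc.hasSk_descent n R S h
  refine ⟨Module.Flat.trans A B C, fun p _ => ?_⟩
  let R := p.Fiber B
  letI : Algebra B R := Algebra.TensorProduct.rightAlgebra
  have : IsNoetherianRing R := Groth.Agent.RegLocus.isNoetherianRing_fiber A B p
  have : IsScalarTower A B R := IsScalarTower.of_algebraMap_eq fun a => by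
    simp only [RingHom.algebraMap_toAlgebra]
    exact ((Algebra.TensorProduct.includeRight : B →ₐ[A] R).commutes a).symm
  let e : R ⊗[B] C ≃+* p.Fiber C :=
    ((Algebra.TensorProduct.comm B R C).toRingEquiv.trans
      ((Algebra.TensorProduct.congr (AlgEquiv.refl : C ≃ₐ[B] C)
        ({ (Algebra.TensorProduct.comm A p.ResidueField B).toRingEquiv with commutes' := fun b => Algebra.TensorProduct.comm_tmul A (1 : p.ResidueField) b } :
          R ≃ₐ[B] B ⊗[A] p.ResidueField)).toRingEquiv.trans
        ((Algebra.TensorProduct.cancelBaseChange A B B C p.ResidueField).toRingEquiv.trans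
          (Algebra.TensorProduct.comm A C p.ResidueField).toRingEquiv)))
  have : IsNoetherianRing (p.Fiber C) := Groth.Agent.RegLocus.isNoetherianRing_fiber A C p
  have : IsNoetherianRing (R ⊗[B] C) := isNoetherianRing_of_ringEquiv _ e.symm
  refine hequiv (p.Fiber C) (R ⊗[B] C) e.symm ?_
  have fib : ∀ (R : Type u) [CommRing R] [Algebra B R], (algebraMap B R).SurjectiveOnStalks →
      ∀ (Q : Ideal R) [Q.IsPrime], LocCoh.HasSk n (Q.Fiber (R ⊗[B] C)) (Q.Fiber (R ⊗[B] C)) := by
    intro R _ _ hs Q _
    let q := Q.comap (algebraMap B R)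
    let g := Ideal.ResidueField.map q Q (algebraMap B R) rfl
    have hg := hs.residueFieldMap_bijective q Q rfl
    let φ₀ : q.ResidueField →ₐ[B] Q.ResidueField :=
      { toRingHom := g
        commutes' := fun b => by
          exact (Ideal.ResidueField.map_algebraMap q Q (algebraMap B R) rfl b).trans
            (IsScalarTower.algebraMap_apply B R Q.ResidueField b).symm }
    let φ : q.ResidueField ≃ₐ[B] Q.ResidueField := AlgEquiv.ofBijective φ₀ hg
    let e' : Q.Fiber (R ⊗[B] C) ≃+* q.Fiber C :=
      (Algebra.TensorProduct.cancelBaseChange B R R Q.ResidueField C).toRingEquiv.trans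
        (Algebra.TensorProduct.congr φ.symm (AlgEquiv.refl : C ≃ₐ[B] C)).toRingEquiv
    have : IsNoetherianRing (q.Fiber C) := Groth.Agent.RegLocus.isNoetherianRing_fiber B C q
    exact hequiv (Q.Fiber (R ⊗[B] C)) (q.Fiber C) e' (hBC q)
  exact Groth.Agent.CAlgT1.hasSk_of_flat_of_fibres n (hAB p)
    fun Q _ => fib R p.surjectiveOnStalks_residueField.baseChange' Q

end Groth.Agent.S4750
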