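import Groth.Statements.S4751
import Groth.Agent.RegLocus.GeomRedTrans
import Groth.Agent.FFDesc.Basic
import Groth.Agent.RegLocus.GeomMisc

set_option autoImplicit false
universe u
open EGA4
open scoped TensorProduct

namespace Groth.Agent.S4751

set_option synthInstance.maxHeartbeats 400000 in
set_option maxHeartbeats 2000000 in
/-- Let A → B → C be homomorphisms of Noetherian rings such that B → C is faithfully flat with (S_n)
fibres and the composite A → C is flat with (S_n) fibres. Then A → B is flat with (S_n) fibres. -/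
theorem result (n : ℕ) (A B C : Type u) [CommRing A] [CommRing B] [CommRing C]
    [IsNoetherianRing A] [IsNoetherianRing B] [IsNoetherianRing C] [Algebra A B] [Algebra B C] [Algebra A C]
    [IsScalarTower A B C] [Module.FaithfullyFlat B C] [Module.Flat A C]
    (hBC : ∀ (q : Ideal B) [q.IsPrime], LocCoh.HasSk n (q.Fiber C) (q.Fiber C))
    (hAC : ∀ (p : Ideal A) [p.IsPrime], LocCoh.HasSk n (p.Fiber C) (p.Fiber C)) :
    Module.Flat A B ∧ ∀ (p : Ideal A) [p.IsPrime], LocCoh.HasSk n (p.Fiber B) (p.Fiber B) := by
  have hequiv : ∀ (R S : Type u) [CommRing R] [CommRing S] [IsNoetherianRing S] (e : R ≃+* S),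
      LocCoh.HasSk n S S → LocCoh.HasSk n R R := by
    intro R S _ _ _ e h
    letI : Algebra R S := e.toRingHom.toAlgebra
    haveI : Module.FaithfullyFlat R S := Module.FaithfullyFlat.of_linearEquiv (R := R) (M := R) (N := S)
      (LinearEquiv.ofBijective (Algebra.linearMap R S) e.bijective).symm
    exact Groth.Agent.FFDesc.hasSk_descent n R S h
  refine ⟨Groth.Agent.RegLocus.flat_of_comp_faithfullyFlat A B C, fun p _ => ?_⟩
  let R := p.Fiber B
  letI : Algebra B R := Algebra.TensorProduct.rightAlgebra
  let e : R ⊗[B] C ≃+* p.Fiber C :=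
    ((Algebra.TensorProduct.comm B R C).toRingEquiv.trans
      ((Algebra.TensorProduct.congr (AlgEquiv.refl : C ≃ₐ[B] C)
        ({ (Algebra.TensorProduct.comm A p.ResidueField B).toRingEquiv with commutes' := fun b => Algebra.TensorProduct.comm_tmul A (1 : p.ResidueField) b } :
          R ≃ₐ[B] B ⊗[A] p.ResidueField)).toRingEquiv.trans
        ((Algebra.TensorProduct.cancelBaseChange A B B C p.ResidueField).toRingEquiv.trans
          (Algebra.TensorProduct.comm A C p.ResidueField).toRingEquiv)))
  have : IsNoetherianRing (p.Fiber C) := Groth.Agent.RegLocus.isNoetherianRing_fiber A C p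
  have : IsNoetherianRing (R ⊗[B] C) := isNoetherianRing_of_ringEquiv _ e.symm
  exact Groth.Agent.FFDesc.hasSk_descent n R (R ⊗[B] C)
    (hequiv (R ⊗[B] C) (p.Fiber C) e (hAC p))

end Groth.Agent.S4751
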