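import Groth.Statements.S4755
import Groth.Agent.SerreLift.Basic
import Groth.Agent.RegLocus.GeomRedTrans
import Groth.Agent.RegLocus.Fiber
import Groth.Agent.RegLocus.SemilocalCpl

set_option autoImplicit false
universe u
open EGA4

namespace Groth.Agent.S4755

open TensorProduct

theorem cm_of_equiv {R S : Type u} [CommRing R] [CommRing S] (e : R ≃+* S) (h : LocCoh.IsCohenMacaulayRing R) :
    LocCoh.IsCohenMacaulayRing S :=
  haveI := isNoetherianRing_of_ringEquiv R e
  { isCohenMacaulayLocalRing_localization := fun p _ => by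
      obtain ⟨Q, hQ, ⟨f⟩⟩ := RegLocus.localization_equiv e.symm p
      haveI := h.isCohenMacaulayLocalRing_localization Q
      have hcm := LocCoh.IsCohenMacaulayLocalRing.supportDim_eq_depth (R := Localization.AtPrime Q)
      refine { supportDim_eq_depth := ?_ }
      rw [Module.supportDim_self_eq_ringKrullDim] at hcm ⊢
      rw [← ringKrullDim_eq_of_ringEquiv f, hcm, SerreLift.depth_eq_of_ringEquiv f] }

theorem fibre_equiv (A S : Type u) [CommRing A] [CommRing S] [Algebra A S] (B : Type u) [CommRing B] [Algebra A B]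
    (hsurj : Function.Surjective (algebraMap A B)) (q : Ideal B) [q.IsPrime] (T : Type u) [CommRing T] [Algebra B T]
    (e : B ⊗[A] S ≃ₐ[B] T) :
    Nonempty ((q.comap (algebraMap A B)).Fiber S ≃+* q.Fiber T) := by
  let p := q.comap (algebraMap A B)
  let g : p.ResidueField →+* q.ResidueField := Ideal.ResidueField.map p q (algebraMap A B) rfl
  have hg : ∀ a, g (algebraMap A p.ResidueField a) = algebraMap B q.ResidueField (algebraMap A B a) :=
    fun a => Ideal.ResidueField.map_algebraMap p q (algebraMap A B) rfl a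
  have hsurjg : Function.Surjective g := fun z => by
    obtain ⟨x, y, -, rfl⟩ := IsFractionRing.div_surjective (B ⧸ q) z
    obtain ⟨x, rfl⟩ := Ideal.Quotient.mk_surjective x
    obtain ⟨y, rfl⟩ := Ideal.Quotient.mk_surjective y
    obtain ⟨a, rfl⟩ := hsurj x
    obtain ⟨b, rfl⟩ := hsurj y
    exact ⟨algebraMap A _ a / algebraMap A _ b, by rw [map_div₀, hg, hg]; rfl⟩
  let gA : p.ResidueField ≃ₐ[A] q.ResidueField :=
    AlgEquiv.ofBijective { g with commutes' := fun a => (hg a).trans (IsScalarTower.algebraMap_apply A B _ a).symm }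
      ⟨g.injective, hsurjg⟩
  exact ⟨((Algebra.TensorProduct.congr gA (AlgEquiv.refl : S ≃ₐ[A] S)).toRingEquiv.trans
    (Algebra.TensorProduct.cancelBaseChange A B B q.ResidueField S).symm.toRingEquiv).trans
      (Algebra.TensorProduct.congr (AlgEquiv.refl : q.ResidueField ≃ₐ[B] q.ResidueField) e).toRingEquiv⟩


/-- For the property 'Cohen–Macaulay', case of a local ring: if the formal fibres of a Noetherian local
ring A are Cohen–Macaulay, then so are the formal fibres of A/I for every proper ideal I of A. -/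
theorem result (A : Type u) [CommRing A] [IsNoetherianRing A] [IsLocalRing A]
    (hA : EGA4.HasCMFormalFibres A) (I : Ideal A) [Nontrivial (A ⧸ I)] :
    EGA4.HasCMFormalFibres (A ⧸ I) := by
  obtain ⟨e⟩ := RegLocus.cplQuotient_equiv A I
  intro q _
  obtain ⟨f⟩ := fibre_equiv A (EGA4.Cpl A) (A ⧸ I) Ideal.Quotient.mk_surjective q (EGA4.Cpl (A ⧸ I)) e
  exact cm_of_equiv f (hA (q.comap (algebraMap A (A ⧸ I))))

end Groth.Agent.S4755
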