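import Groth.Statements.S4756
import Groth.Agent.RegLocus.GeomRedTrans

set_option autoImplicit false
universe u
open EGA4

namespace Groth.Agent.S4756

open Groth.Agent TensorProduct

theorem geomNormal_baseChange (A B A' B' : Type u) [CommRing A] [CommRing B] [CommRing A'] [CommRing B']
    [Algebra A B] [Algebra A A'] [Algebra A' B'] (e : A' ⊗[A] B ≃ₐ[A'] B') (p' : Ideal A') [p'.IsPrime]
    (hs : Function.Surjective (Ideal.ResidueField.map (p'.comap (algebraMap A A')) p' (algebraMap A A') rfl))
    (h : EGA4.IsGeomNormal (p'.comap (algebraMap A A')).ResidueField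
      ((p'.comap (algebraMap A A')).Fiber B)) :
    EGA4.IsGeomNormal p'.ResidueField (p'.Fiber B') := by
  intro k' _ _ hk'
  let p := p'.comap (algebraMap A A')
  letI : Algebra p.ResidueField p'.ResidueField :=
    (Ideal.ResidueField.map p p' (algebraMap A A') rfl).toAlgebra
  have : IsScalarTower A p.ResidueField p'.ResidueField := IsScalarTower.of_algebraMap_eq fun a =>
    ((Ideal.ResidueField.map_algebraMap p p' (algebraMap A A') rfl a).trans (by
      rw [← IsScalarTower.algebraMap_apply A A' p'.ResidueField])).symm
  letI : Algebra A' k' := ((algebraMap p'.ResidueField k').comp (algebraMap A' p'.ResidueField)).toAlgebra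
  have : IsScalarTower A' p'.ResidueField k' := IsScalarTower.of_algebraMap_eq' rfl
  letI : Algebra A k' := ((algebraMap A' k').comp (algebraMap A A')).toAlgebra
  have : IsScalarTower A A' k' := IsScalarTower.of_algebraMap_eq' rfl
  letI : Algebra p.ResidueField k' := ((algebraMap p'.ResidueField k').comp (algebraMap p.ResidueField p'.ResidueField)).toAlgebra
  have : IsScalarTower p.ResidueField p'.ResidueField k' := IsScalarTower.of_algebraMap_eq' rfl
  have : IsScalarTower A p.ResidueField k' := IsScalarTower.of_algebraMap_eq fun a => by
    rw [IsScalarTower.algebraMap_apply p.ResidueField p'.ResidueField k', ← IsScalarTower.algebraMap_apply A p.ResidueField p'.ResidueField,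
      IsScalarTower.algebraMap_apply A A' p'.ResidueField]
    rfl
  have : Module.Finite p.ResidueField p'.ResidueField :=
    Module.Finite.of_surjective (Algebra.linearMap p.ResidueField p'.ResidueField) hs
  have : Module.Finite p.ResidueField k' := Module.Finite.trans p'.ResidueField k'
  have e2 : k' ⊗[p.ResidueField] p.Fiber B ≃+* k' ⊗[p'.ResidueField] p'.Fiber B' :=
    (((Algebra.TensorProduct.cancelBaseChange A p.ResidueField p.ResidueField k' B).toRingEquiv.trans
      (Algebra.TensorProduct.cancelBaseChange A A' A' k' B).symm.toRingEquiv).trans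
      (Algebra.TensorProduct.congr (AlgEquiv.refl : k' ≃ₐ[A'] k') e).toRingEquiv).trans
      (Algebra.TensorProduct.cancelBaseChange A' p'.ResidueField p'.ResidueField k' B').symm.toRingEquiv
  exact RegLocus.isNormalRing_of_equiv e2 (h k' inferInstance)


/-- Let A → B be a normal homomorphism of Noetherian rings (flat, with geometrically normal fibres) and
S a multiplicative subset of A. Then the induced homomorphism S⁻¹A → S⁻¹B (arbitrary localizations
at S and at its image) is normal. -/
theorem result (A B : Type u) [CommRing A] [CommRing B] [IsNoetherianRing A] [IsNoetherianRing B]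
    [Algebra A B] (h : EGA4.IsNormalHom A B) (S : Submonoid A)
    (A' B' : Type u) [CommRing A'] [CommRing B'] [Algebra A A'] [Algebra B B'] [Algebra A' B'] [Algebra A B']
    [IsScalarTower A A' B'] [IsScalarTower A B B'] [IsLocalization S A']
    [IsLocalization (Algebra.algebraMapSubmonoid B S) B'] :
    EGA4.IsNormalHom A' B' := by
  obtain ⟨hflat, hfib⟩ := h
  have : Algebra.IsPushout A A' B B' := (Algebra.isPushout_of_isLocalization S A' B B').symm
  let e := Algebra.IsPushout.equiv A A' B B'
  refine ⟨Module.Flat.of_linearEquiv e.symm.toLinearEquiv, fun p' _ => ?_⟩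
  exact geomNormal_baseChange A B A' B' e p'
    ((RingHom.surjectiveOnStalks_of_isLocalization (M := S) A').residueFieldMap_bijective _ p' rfl).2
    (hfib _)

end Groth.Agent.S4756
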