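import Groth.Statements.S4757
import Groth.Agent.RegLocus.GeomRedTrans

set_option autoImplicit false
universe u
open EGA4

namespace Groth.Agent.S4757

open Groth.Agent TensorProduct

theorem geomReduced_baseChange (A B A' B' : Type u) [CommRing A] [CommRing B] [CommRing A'] [CommRing B']
    [Algebra A B] [Algebra A A'] [Algebra A' B'] (e : A' ⊗[A] B ≃ₐ[A'] B') (p' : Ideal A') [p'.IsPrime]
    [Algebra.IsGeometricallyReduced (p'.comap (algebraMap A A')).ResidueField ((p'.comap (algebraMap A A')).Fiber B)] :
    Algebra.IsGeometricallyReduced p'.ResidueField (p'.Fiber B') := by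
  refine RegLocus.geomReduced_fiber_of_finite A' B' p' fun K _ _ _ _ _ => ?_
  let p := p'.comap (algebraMap A A')
  letI : Algebra p.ResidueField p'.ResidueField :=
    (Ideal.ResidueField.map p p' (algebraMap A A') rfl).toAlgebra
  have : IsScalarTower A p.ResidueField p'.ResidueField := IsScalarTower.of_algebraMap_eq fun a =>
    ((Ideal.ResidueField.map_algebraMap p p' (algebraMap A A') rfl a).trans (by
      rw [← IsScalarTower.algebraMap_apply A A' p'.ResidueField])).symm
  letI : Algebra A K := ((algebraMap A' K).comp (algebraMap A A')).toAlgebra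
  have : IsScalarTower A A' K := IsScalarTower.of_algebraMap_eq' rfl
  letI : Algebra p.ResidueField K := ((algebraMap p'.ResidueField K).comp (algebraMap p.ResidueField p'.ResidueField)).toAlgebra
  have : IsScalarTower A p.ResidueField K := IsScalarTower.of_algebraMap_eq fun a => by
    show algebraMap A K a = algebraMap p'.ResidueField K (algebraMap p.ResidueField p'.ResidueField (algebraMap A p.ResidueField a))
    rw [← IsScalarTower.algebraMap_apply A p.ResidueField p'.ResidueField,
      IsScalarTower.algebraMap_apply A A' p'.ResidueField, ← IsScalarTower.algebraMap_apply A' p'.ResidueField K]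
    rfl
  have : IsReduced (K ⊗[p.ResidueField] p.Fiber B) := RegLocus.isReduced_tensor_field p.ResidueField (p.Fiber B) K
  have e2 : K ⊗[p.ResidueField] p.Fiber B ≃+* K ⊗[A'] B' :=
    ((Algebra.TensorProduct.cancelBaseChange A p.ResidueField p.ResidueField K B).toRingEquiv.trans
      (Algebra.TensorProduct.cancelBaseChange A A' A' K B).symm.toRingEquiv).trans
      (Algebra.TensorProduct.congr (AlgEquiv.refl : K ≃ₐ[A'] K) e).toRingEquiv
  exact isReduced_of_injective e2.symm e2.symm.injective


/-- Let A → B be a flat homomorphism of Noetherian rings with geometrically reduced fibres and S a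
multiplicative subset of A. Then the induced homomorphism S⁻¹A → S⁻¹B (arbitrary localizations at S
and at its image) is flat with geometrically reduced fibres. -/
theorem result (A B : Type u) [CommRing A] [CommRing B] [IsNoetherianRing A]
    [IsNoetherianRing B] [Algebra A B] [Module.Flat A B]
    (h : ∀ (p : Ideal A) [p.IsPrime], Algebra.IsGeometricallyReduced p.ResidueField (p.Fiber B)) (S : Submonoid A)
    (A' B' : Type u) [CommRing A'] [CommRing B'] [Algebra A A'] [Algebra B B'] [Algebra A' B'] [Algebra A B']
    [IsScalarTower A A' B'] [IsScalarTower A B B'] [IsLocalization S A']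
    [IsLocalization (Algebra.algebraMapSubmonoid B S) B'] :
    Module.Flat A' B' ∧ ∀ (p' : Ideal A') [p'.IsPrime], Algebra.IsGeometricallyReduced p'.ResidueField (p'.Fiber B') := by
  have : Algebra.IsPushout A A' B B' := (Algebra.isPushout_of_isLocalization S A' B B').symm
  let e := Algebra.IsPushout.equiv A A' B B'
  refine ⟨Module.Flat.of_linearEquiv e.symm.toLinearEquiv, fun p' _ => ?_⟩
  have := h (p'.comap (algebraMap A A'))
  exact geomReduced_baseChange A B A' B' e p'

end Groth.Agent.S4757
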