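import Groth.Statements.S4779
import Groth.Agent.LimSch.OpenMap

set_option autoImplicit false
universe u
open CategoryTheory AlgebraicGeometry
open Lim8

namespace Groth.Agent.S4779

/-- Let S = lim S_i be a cofiltered limit of schemes with affine transition maps, let f₀ : X₀ ⟶ Y₀ be a
morphism of schemes over a stage S_{i₀}, and let f : X ⟶ Y be its base change along S ⟶ S_{i₀} (all
base changes are expressed by pullback squares). If there is an index i over i₀ such that, for every
j over i, the base change f_j : X_j ⟶ Y_j of f₀ along S_j ⟶ S_{i₀} is an open map, then f is an open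
map. (The corresponding statement for universally open morphisms follows from this one by base
change.) -/
theorem result {I : Type u} [SmallCategory I] [IsCofiltered I]
    (D : I ⥤ Scheme.{u}) (c : Limits.Cone D) (hc : Limits.IsLimit c)
    [∀ (i j : I) (f : i ⟶ j), IsAffineHom (D.map f)] (i₀ : I)
    {X₀ Y₀ : Scheme.{u}} (f₀ : X₀ ⟶ Y₀) (g₀ : Y₀ ⟶ D.obj i₀)
    {X Y : Scheme.{u}} (f : X ⟶ Y) (g : Y ⟶ c.pt) (qY : Y ⟶ Y₀) (qX : X ⟶ X₀)
    (hY : IsPullback qY g g₀ (c.π.app i₀)) (hX : IsPullback qX f f₀ qY)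
    (h : ∃ (i : I) (φ : i ⟶ i₀), ∀ (j : I) (ψ : j ⟶ i) (Xj Yj : Scheme.{u}) (fj : Xj ⟶ Yj)
      (gj : Yj ⟶ D.obj j) (pY : Yj ⟶ Y₀) (pX : Xj ⟶ X₀),
      IsPullback pY gj g₀ (D.map (ψ ≫ φ)) → IsPullback pX fj f₀ pY → IsOpenMap ⇑fj) :
    IsOpenMap ⇑f := by
  obtain ⟨i, φ, h⟩ := h
  let g' := f₀ ≫ g₀
  have hXc : IsPullback (f ≫ g) qX (c.π.app i₀) g' := (hX.paste_vert hY).flip
  let L := LimSch.bcCone D c i₀ g' _ _ hXc
  have hL : Limits.IsLimit L := LimSch.isLimitBcCone D c i₀ g' hc _ _ hXc
  refine LimSch.isOpenMap_of_stages hL (Over.mk φ) f fun j ψ => ?_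
  let gj : Limits.pullback g₀ (D.map j.hom) ⟶ D.obj j.left := Limits.pullback.snd _ _
  let q : Y ⟶ Limits.pullback g₀ (D.map j.hom) :=
    Limits.pullback.lift qY (g ≫ c.π.app j.left) (by rw [Category.assoc, c.w]; exact hY.w)
  let fj : (LimSch.bcDiag D i₀ g').obj j ⟶ Limits.pullback g₀ (D.map j.hom) :=
    Limits.pullback.lift (Limits.pullback.snd _ _ ≫ f₀) (Limits.pullback.fst _ _)
      (by rw [Category.assoc]; exact (Limits.pullback.condition).symm)
  have hfj : IsPullback (Limits.pullback.snd (D.map j.hom) g') fj f₀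
      (Limits.pullback.fst g₀ (D.map j.hom)) := by
    refine IsPullback.of_bot ?_ (Limits.pullback.lift_fst _ _ _).symm
      (IsPullback.of_hasPullback g₀ (D.map j.hom))
    erw [Limits.pullback.lift_snd]
    exact (IsPullback.of_hasPullback (D.map j.hom) g').flip
  refine ⟨_, fj, q, ?_, ?_⟩
  · refine IsPullback.of_right ?_ ?_ hfj
    · change IsPullback (Limits.pullback.lift _ qX _ ≫ Limits.pullback.snd _ _) f f₀
        (q ≫ Limits.pullback.fst g₀ _)
      simp only [q, Limits.pullback.lift_snd, Limits.pullback.lift_fst]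
      exact hX
    · apply Limits.pullback.hom_ext
      · simp only [q, fj, Category.assoc, Limits.pullback.lift_fst]
        change Limits.pullback.lift _ qX _ ≫ Limits.pullback.snd _ _ ≫ f₀ = _
        rw [Limits.pullback.lift_snd_assoc]
        exact hX.w
      · simp only [q, fj, Category.assoc, Limits.pullback.lift_snd]
        change Limits.pullback.lift _ qX _ ≫ Limits.pullback.fst _ _ = _
        rw [Limits.pullback.lift_fst]
        exact Category.assoc _ _ _
  · have hjw : ψ.left ≫ φ = j.hom := Over.w ψ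
    exact h j.left ψ.left _ _ fj gj _ _ (hjw.symm ▸ IsPullback.of_hasPullback g₀ (D.map j.hom)) hfj

end Groth.Agent.S4779
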