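import Groth.Statements.S4786
import Groth.Agent.S4787
import Groth.Agent.S4764
import Groth.Agent.SubtrLib.Basic
import Mathlib.CategoryTheory.Filtered.Final

set_option autoImplicit false
universe u
open CategoryTheory AlgebraicGeometry
open Lim8

namespace Groth.Agent.S4786

theorem preimage_closure_eq {X Y : Scheme.{u}} (g : X ⟶ Y) [Flat g] {Z : Set Y} (hZ : ProCons.IsProConstructible Z) :
    closure (⇑g ⁻¹' Z) = ⇑g ⁻¹' closure Z := by
  refine Set.Subset.antisymm (g.continuous.closure_preimage_subset Z) fun x hx => ?_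
  obtain ⟨e, he, hex⟩ := SubtrLib.exists_specializes_of_mem_closure hZ hx
  obtain ⟨t, ht, hgt⟩ := Flat.generalizingMap g hex
  exact ht.mem_closed isClosed_closure (subset_closure (show g t ∈ Z from hgt ▸ he))

theorem subset_iff {I : Type u} [SmallCategory I] [IsCofiltered I]
    (D : I ⥤ Scheme.{u}) (c : Limits.Cone D) (hc : Limits.IsLimit c)
    [∀ (i j : I) (f : i ⟶ j), IsAffineHom (D.map f)] (i₁ : I) [CompactSpace (D.obj i₁)]
    (A B : Set (D.obj i₁)) (hA : ProCons.IsProConstructible A) (hB : ProCons.IsIndConstructible B) :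
    ⇑(c.π.app i₁) ⁻¹' A ⊆ ⇑(c.π.app i₁) ⁻¹' B ↔ ∃ (j : I) (φ : j ⟶ i₁), ⇑(D.map φ) ⁻¹' A ⊆ ⇑(D.map φ) ⁻¹' B := by
  refine ⟨fun h => ?_, fun ⟨j, φ, hφ⟩ s hs => ?_⟩
  swap
  · rw [Set.mem_preimage, ← c.w φ, Scheme.Hom.comp_apply] at hs ⊢
    exact hφ hs
  let D' := Over.forget i₁ ⋙ D
  let c' : Limits.Cone D' := c.whisker (Over.forget i₁)
  let hc' : Limits.IsLimit c' := (Functor.Initial.isLimitWhiskerEquiv (Over.forget i₁) c).symm hc
  haveI : ∀ (a b : Over i₁) (f : a ⟶ b), IsAffineHom (D'.map f) := fun a b f => by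
    show IsAffineHom (D.map f.left); infer_instance
  haveI : CompactSpace (D'.obj (Over.mk (𝟙 i₁))) := by show CompactSpace (D.obj i₁); infer_instance
  have hw : ∀ (a b : Over i₁) (f : a ⟶ b) (T : Set (D.obj i₁)),
      ⇑(D'.map f) ⁻¹' (⇑(D.map b.hom) ⁻¹' T) = ⇑(D.map a.hom) ⁻¹' T := by
    intro a b f T
    rw [← Over.w f, D.map_comp]
    rfl
  obtain ⟨i, -, hi⟩ := (Groth.Agent.S4787.result D' c' hc' (Over.mk (𝟙 i₁))
    (fun a => ⇑(D.map a.hom) ⁻¹' A) (fun a => ⇑(D.map a.hom) ⁻¹' B)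
    (fun a => ProConsLib.isPro_preimage _ hA) (fun a => ProConsLib.isInd_preimage _ hB)
    (fun a b f => (hw a b f A).ge) (fun a b f => (hw a b f B).le)).1 (fun s hs => by
      refine Set.mem_iUnion.2 ⟨Over.mk (𝟙 i₁), ?_⟩
      have hs' := Set.mem_iInter.1 hs (Over.mk (𝟙 i₁))
      have e : ∀ z : D.obj i₁, D.map (𝟙 i₁) z = z := fun z => by rw [D.map_id]; rfl
      show D.map (𝟙 i₁) (c.π.app i₁ s) ∈ B
      have hs'' : D.map (𝟙 i₁) (c.π.app i₁ s) ∈ A := hs'
      rw [e] at hs'' ⊢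
      exact h hs'')
  exact ⟨i.left, i.hom, hi i (𝟙 i)⟩

/-- Let S = lim S_i be a cofiltered limit of schemes whose transition maps are affine and flat, let
S_{i₁} be a quasi-compact stage, and let Z' and Z'' be pro-constructible subsets of S_{i₁} such that
the closure of Z' is constructible. Then the preimage of Z'' in S is contained in the closure of the
preimage of Z' in S if and only if there is an index j over i₁ such that the preimage of Z'' in S_j
is contained in the closure of the preimage of Z' in S_j. -/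
theorem result {I : Type u} [SmallCategory I] [IsCofiltered I]
    (D : I ⥤ Scheme.{u}) (c : Limits.Cone D) (hc : Limits.IsLimit c)
    [∀ (i j : I) (f : i ⟶ j), IsAffineHom (D.map f)] (i₁ : I) [CompactSpace (D.obj i₁)]
    (hfl : ∀ (i j : I) (φ : i ⟶ j), Flat (D.map φ))
    (Z' Z'' : Set (D.obj i₁)) (hZ' : ProCons.IsProConstructible Z') (hZ'' : ProCons.IsProConstructible Z'')
    (hcl : Topology.IsConstructible (closure Z')) :
    (⇑(c.π.app i₁) ⁻¹' Z'' : Set c.pt) ⊆ closure (⇑(c.π.app i₁) ⁻¹' Z' : Set c.pt) ↔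
      ∃ (j : I) (φ : j ⟶ i₁), ⇑(D.map φ) ⁻¹' Z'' ⊆ closure (⇑(D.map φ) ⁻¹' Z') := by
  haveI : Flat (c.π.app i₁) := Groth.Agent.S4764.result D c hc i₁ fun j φ => hfl j i₁ φ
  rw [preimage_closure_eq _ hZ', subset_iff D c hc i₁ Z'' (closure Z') hZ''
    (ProConsLib.isInd_of_isLocallyConstructible hcl.isLocallyConstructible)]
  constructor
  · rintro ⟨j, φ, hφ⟩
    haveI := hfl j i₁ φ
    exact ⟨j, φ, by rwa [preimage_closure_eq _ hZ']⟩
  · rintro ⟨j, φ, hφ⟩
    haveI := hfl j i₁ φ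
    exact ⟨j, φ, by rwa [preimage_closure_eq _ hZ'] at hφ⟩

end Groth.Agent.S4786
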