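import Groth.Statements.S4791
import Groth.Agent.FlatFunLib.LimitHom
import Groth.Agent.FinLocFreeSections.Basic
import Groth.Agent.FinLocFreeSections.FP
import Groth.Agent.TensorMod.FinLocFree

set_option autoImplicit false
universe u
open CategoryTheory AlgebraicGeometry
open Lim8

namespace Groth.Agent.S4791

open TensorProduct EtSmColim FlatFunLib Opposite

theorem exists_cover (X : Scheme.{u}) [CompactSpace X] :
    ∃ (ι : Type u) (_ : Finite ι) (V : ι → X.Opens), (∀ k, IsAffineOpen (V k)) ∧ ∀ x : X, ∃ k, x ∈ V k := by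
  obtain ⟨t, ht⟩ := isCompact_univ.elim_finite_subcover
    (fun i : X.affineOpens => (i.1 : Set X)) (fun i => i.1.2) (fun y _ => by
      obtain ⟨W, hW, hx, -⟩ := exists_isAffineOpen_mem_and_subset (show y ∈ (⊤ : X.Opens) from trivial)
      exact Set.mem_iUnion.2 ⟨⟨W, hW⟩, hx⟩)
  refine ⟨t, inferInstance, fun i => i.1.1, fun i => i.1.2, fun x => ?_⟩
  obtain ⟨i, hi, hx⟩ : ∃ i ∈ t, x ∈ (i.1 : Set X) := by simpa using ht (Set.mem_univ x)
  exact ⟨⟨i, hi⟩, hx⟩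

section Alg

variable {A₀ : Type u} [CommRing A₀] {ι : Type u} {G : ι → Type u} [∀ i, CommRing (G i)]
  [∀ i, Algebra A₀ (G i)] {A : Type u} [CommRing A] [Algebra A₀ A] {g : ∀ i, G i →ₐ[A₀] A}
  (hd : Directed g) (hs : ∀ a : A, ∃ i, ∃ x : G i, g i x = a)
  (hk : ∀ i (x : G i), g i x = 0 → ∃ j, ∃ a : Step g i j, a.hom x = 0)
  {N F : Type u} [AddCommGroup N] [Module A₀ N] [AddCommGroup F] [Module A₀ F] (q : F →ₗ[A₀] N)

include hd hs hk in
theorem exists_stage_section [Nonempty ι] [Module.FinitePresentation A₀ N] [Module.Finite A₀ F]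
    (hq : Function.Surjective q) (σ : N →ₗ[A₀] F ⊗[A₀] A) (hσ : ∀ n, q.rTensor A (σ n) = n ⊗ₜ 1) :
    ∃ (j : ι) (v : N →ₗ[A₀] F ⊗[A₀] G j), ∀ n, q.rTensor (G j) (v n) = n ⊗ₜ 1 := by
  classical
  obtain ⟨i₀⟩ := ‹Nonempty ι›
  obtain ⟨p, π, hπ, hK⟩ : ∃ (p : ℕ) (π : (Fin p → A₀) →ₗ[A₀] N), Function.Surjective π ∧ (LinearMap.ker π).FG :=
    let ⟨p, π, hπ⟩ := Module.Finite.exists_fin' A₀ N
    ⟨p, π, hπ, Module.FinitePresentation.fg_ker π hπ⟩
  obtain ⟨R, hR⟩ := hK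
  let T := (baseSys hs hk).tensor hd F
  let U := (baseSys hs hk).tensor hd N
  obtain ⟨j₁, -, y, hy⟩ := T.lift_finset hd Finset.univ i₀ (fun k : Fin p => σ (π (Pi.single k 1)))
  have natψ : ∀ {i} (z : F ⊗[A₀] G i), q.rTensor A (T.ψ i z) = U.ψ i (q.rTensor (G i) z) := fun z =>
    LinearMap.congr_fun ((LinearMap.rTensor_comp_lTensor ..).trans (LinearMap.lTensor_comp_rTensor ..).symm) z
  let V₁ : (Fin p → A₀) →ₗ[A₀] F ⊗[A₀] G j₁ := Fintype.linearCombination A₀ y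
  have hV₁ : (T.ψ j₁).comp V₁ = σ.comp π := by
    refine (Pi.basisFun A₀ (Fin p)).ext fun k => ?_
    show T.ψ j₁ (V₁ (Pi.basisFun A₀ (Fin p) k)) = σ (π (Pi.basisFun A₀ (Fin p) k))
    rw [Pi.basisFun_apply, Fintype.linearCombination_apply_single, one_smul, hy k (Finset.mem_univ k)]
  obtain ⟨j₂, a₂, ha₂⟩ := T.kill_finset (i := j₁) R V₁ (fun r hr => by
    rw [← LinearMap.comp_apply, hV₁, LinearMap.comp_apply,
      show π r = 0 from LinearMap.mem_ker.1 (hR ▸ Submodule.subset_span hr), map_zero])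
  obtain ⟨j₃, a₃, ha₃⟩ := U.kill_finset (i := j₂) (Finset.univ : Finset (Fin p))
    (fun k => q.rTensor (G j₂) (T.act a₂ (V₁ (Pi.single k 1))) - π (Pi.single k 1) ⊗ₜ 1) (by
    intro k _
    rw [map_sub, ← natψ, T.ψ_act, ← LinearMap.comp_apply (T.ψ j₁), hV₁, LinearMap.comp_apply, hσ]
    exact sub_eq_zero.2 (lTensor_one_tmul (g j₂) _).symm)
  let V₃ : (Fin p → A₀) →ₗ[A₀] F ⊗[A₀] G j₃ := (T.act a₃).comp ((T.act a₂).comp V₁)
  have hker : LinearMap.ker π ≤ LinearMap.ker V₃ := by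
    rw [← hR, Submodule.span_le]
    intro r hr
    show T.act a₃ (T.act a₂ (V₁ r)) = 0
    rw [show T.act a₂ (V₁ r) = 0 from ha₂ _ hr, map_zero]
  let e := π.quotKerEquivOfSurjective hπ
  let v : N →ₗ[A₀] F ⊗[A₀] G j₃ := ((LinearMap.ker π).liftQ V₃ hker).comp e.symm.toLinearMap
  have hv : ∀ r, v (π r) = V₃ r := fun r => by
    show (LinearMap.ker π).liftQ V₃ hker (e.symm (π r)) = _
    rw [show e.symm (π r) = Submodule.Quotient.mk r from
      e.symm_apply_eq.2 (LinearMap.quotKerEquivOfSurjective_apply_mk π hπ r).symm]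
    exact Submodule.liftQ_apply _ _ _
  refine ⟨j₃, v, ?_⟩
  have h4 : ((q.rTensor (G j₃)).comp v).comp π = ((TensorProduct.mk A₀ N (G j₃)).flip 1).comp π := by
    refine (Pi.basisFun A₀ (Fin p)).ext fun k => ?_
    show q.rTensor (G j₃) (v (π _)) = π _ ⊗ₜ[A₀] (1 : G j₃)
    rw [hv, Pi.basisFun_apply]
    have h5 := ha₃ k (Finset.mem_univ k)
    rw [map_sub, sub_eq_zero] at h5
    have h6 : q.rTensor (G j₃) (T.act a₃ (T.act a₂ (V₁ (Pi.single k 1)))) = U.act a₃ (q.rTensor (G j₂) (T.act a₂ (V₁ (Pi.single k 1)))) :=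
      LinearMap.congr_fun ((LinearMap.rTensor_comp_lTensor ..).trans (LinearMap.lTensor_comp_rTensor ..).symm) _
    exact h6.trans (h5.trans (lTensor_one_tmul a₃.hom _))
  intro n
  obtain ⟨r, rfl⟩ := hπ n
  exact LinearMap.congr_fun h4 r

theorem projective_of_section [Module.Free A₀ F] {B : Type u} [CommRing B] [Algebra A₀ B]
    (v : N →ₗ[A₀] F ⊗[A₀] B) (hv : ∀ n, q.rTensor B (v n) = n ⊗ₜ 1) : Module.Projective B (B ⊗[A₀] N) := by
  let w : B ⊗[A₀] N →ₗ[B] B ⊗[A₀] F := LinearMap.liftBaseChange B ((TensorProduct.comm A₀ F B).toLinearMap.comp v)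
  refine Module.Projective.of_split w (q.baseChange B) ?_
  ext n
  have e : ∀ z, q.baseChange B (TensorProduct.comm A₀ F B z) = TensorProduct.comm A₀ N B (q.rTensor B z) := by
    intro z
    induction z using TensorProduct.induction_on with
    | zero => simp
    | tmul f b => simp
    | add x y hx hy => simp only [map_add, hx, hy]
  simp [w, e, hv]

end Alg

theorem exists_sigma {X Y : Scheme.{u}} (g : X ⟶ Y) (M : Y.Modules) [M.IsQuasicoherent] {W : Y.Opens} (hW : IsAffineOpen W)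
    (hW' : IsAffineOpen (g ⁻¹ᵁ W)) (hproj : Module.Projective Γ(X, g ⁻¹ᵁ W) Γ((Scheme.Modules.pullback g).obj M, g ⁻¹ᵁ W))
    {p : ℕ} (q : (Fin p → Γ(Y, W)) →ₗ[Γ(Y, W)] Γ(M, W)) (hq : Function.Surjective q) :
    letI := (g.app W).hom.toAlgebra
    ∃ σ : Γ(M, W) →ₗ[Γ(Y, W)] (Fin p → Γ(Y, W)) ⊗[Γ(Y, W)] Γ(X, g ⁻¹ᵁ W), ∀ n, q.rTensor _ (σ n) = n ⊗ₜ 1 := by
  letI := (g.app W).hom.toAlgebra
  letI := BCModel.pullModule g M W
  haveI : IsScalarTower Γ(Y, W) Γ(X, g ⁻¹ᵁ W) Γ((Scheme.Modules.pullback g).obj M, g ⁻¹ᵁ W) :=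
    .of_algebraMap_smul fun _ _ => rfl
  haveI : Module.Projective Γ(X, g ⁻¹ᵁ W) (Γ(X, g ⁻¹ᵁ W) ⊗[Γ(Y, W)] Γ(M, W)) :=
    Module.Projective.of_equiv ((BCModel.isBaseChange_pullSec g M hW hW').equiv).symm
  obtain ⟨s, hs⟩ := Module.projective_lifting_property (q.baseChange Γ(X, g ⁻¹ᵁ W)) LinearMap.id
    (LinearMap.lTensor_surjective _ hq)
  refine ⟨((TensorProduct.comm Γ(Y, W) _ _).toLinearMap.comp (s.restrictScalars Γ(Y, W))).comp
    (TensorProduct.mk Γ(Y, W) Γ(X, g ⁻¹ᵁ W) Γ(M, W) 1), fun n => ?_⟩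
  have e : ∀ z, q.rTensor _ (TensorProduct.comm Γ(Y, W) Γ(X, g ⁻¹ᵁ W) _ z) =
      TensorProduct.comm Γ(Y, W) Γ(X, g ⁻¹ᵁ W) _ (q.baseChange _ z) := by
    intro z
    induction z using TensorProduct.induction_on with
    | zero => simp
    | tmul b f => simp
    | add x y hx hy => simp only [map_add, hx, hy]
  exact (e _).trans (congrArg (TensorProduct.comm _ _ _) (LinearMap.congr_fun hs _))

/-- Let S = lim S_i be a cofiltered limit of schemes with affine transition maps, S_{i₀} a quasi-compact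
stage and F₀ a quasi-coherent O-module of finite presentation on S_{i₀}. Then the pullback of F₀
along S ⟶ S_{i₀} is (finite) locally free if and only if, for some index j over i₀, the pullback of
F₀ along S_j ⟶ S_{i₀} is locally free. This is the case of locally free modules. -/
theorem result {I : Type u} [SmallCategory I] [IsCofiltered I]
    (D : I ⥤ Scheme.{u}) (c : Limits.Cone D) (hc : Limits.IsLimit c)
    [∀ (i j : I) (f : i ⟶ j), IsAffineHom (D.map f)] (i₀ : I) [CompactSpace (D.obj i₀)]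
    (F₀ : (D.obj i₀).Modules) [Coh.IsQCoh F₀] (hF₀fp : CohB1.IsFP F₀) :
    FlatMod.IsFinLocFree ((Scheme.Modules.pullback (c.π.app i₀)).obj F₀) ↔
      ∃ (j : I) (φ : j ⟶ i₀), FlatMod.IsFinLocFree ((Scheme.Modules.pullback (D.map φ)).obj F₀) := by
  classical
  haveI : F₀.IsQuasicoherent := (inferInstance : Coh.IsQCoh F₀)
  refine ⟨fun h => ?_, fun ⟨j, φ, h⟩ => ?_⟩
  swap
  · exact TensorMod.isFinLocFree_of_iso
      ((Scheme.Modules.pullbackComp (c.π.app j) (D.map φ) ≪≫ Scheme.Modules.pullbackCongr (c.w φ)).app F₀)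
      (TensorMod.isFinLocFree_pullback _ h)
  obtain ⟨ι, _, V, hV, hcov⟩ := exists_cover (D.obj i₀)
  have := FlatFunLib.isAffineHom_π D c hc i₀
  haveI := QCohPull.isQuasicoherent_pullback (c.π.app i₀) F₀
  have hk : ∀ k, ∃ (l : Over i₀) (p : ℕ) (q : (Fin p → Γ(D.obj i₀, V k)) →ₗ[Γ(D.obj i₀, V k)] Γ(F₀, V k))
      (v : Γ(F₀, V k) →ₗ[Γ(D.obj i₀, V k)] (Fin p → Γ(D.obj i₀, V k)) ⊗[Γ(D.obj i₀, V k)] SecSys D (V k) l),
      ∀ n, q.rTensor (SecSys D (V k) l) (v n) = n ⊗ₜ 1 := fun k => by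
    haveI := FinLocFreeSections.finitePresentation_sections F₀ hF₀fp (hV k)
    obtain ⟨p, q, hq⟩ := Module.Finite.exists_fin' Γ(D.obj i₀, V k) Γ(F₀, V k)
    obtain ⟨σ, hσ⟩ := exists_sigma (c.π.app i₀) F₀ (hV k) ((hV k).preimage (c.π.app i₀))
      ((FinLocFreeSections.isFinLocFree_iff _).1 h _ ((hV k).preimage (c.π.app i₀))).2 q hq
    have : Nonempty (Over i₀) := ⟨Over.mk (𝟙 i₀)⟩
    obtain ⟨l, v, hv⟩ := exists_stage_section (directed_sec D c (V k)) (surjective_sec D c hc (V k) (hV k))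
      (kill_sec D c hc (V k) (hV k)) q hq σ hσ
    exact ⟨l, p, q, v, hv⟩
  choose l p q v hv using hk
  have := Fintype.ofFinite ι
  obtain ⟨m, hm⟩ := IsCofiltered.inf_objs_exists (Finset.univ.image l)
  refine ⟨m.left, m.hom, ?_⟩
  haveI := QCohPull.isQuasicoherent_pullback (D.map m.hom) F₀
  refine FinLocFreeSections.isFinLocFree_of_affine _ fun x => ?_
  obtain ⟨k, hk⟩ := hcov (D.map m.hom x)
  refine ⟨D.map m.hom ⁻¹ᵁ V k, (hV k).preimage _, hk, ?_⟩
  let t := (hm (Finset.mem_image_of_mem l (Finset.mem_univ k))).some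
  let st := (secStep D c (V k) t).hom.toLinearMap
  letI := BCModel.pullModule (D.map m.hom) F₀ (V k)
  haveI : IsScalarTower Γ(D.obj i₀, V k) (SecSys D (V k) m) Γ((Scheme.Modules.pullback (D.map m.hom)).obj F₀, D.map m.hom ⁻¹ᵁ V k) :=
    .of_algebraMap_smul fun _ _ => rfl
  haveI := FinLocFreeSections.finitePresentation_sections F₀ hF₀fp (hV k)
  haveI : Module.Projective (SecSys D (V k) m) (SecSys D (V k) m ⊗[Γ(D.obj i₀, V k)] Γ(F₀, V k)) :=
    projective_of_section (q k) ((st.lTensor _).comp (v k)) fun n => by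
      have := congrArg (st.lTensor _) (hv k n)
      rw [lTensor_one_tmul, ← LinearMap.comp_apply, LinearMap.lTensor_comp_rTensor,
        ← LinearMap.rTensor_comp_lTensor] at this
      exact this
  let eq := (BCModel.isBaseChange_pullSec (D.map m.hom) F₀ (hV k) ((hV k).preimage _)).equiv
  exact ⟨Module.Finite.equiv eq, Module.Projective.of_equiv eq⟩

end Groth.Agent.S4791
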