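import Groth.Statements.S4792
import Groth.Agent.S4791
import Groth.Agent.LimModEpi.Basic

set_option autoImplicit false
universe u
open CategoryTheory AlgebraicGeometry
open Lim8

namespace Groth.Agent.S4792

open Opposite

theorem finrank_sections {X : Scheme.{u}} (M : X.Modules) {W : X.Opens} (hW : IsAffineOpen W) {n : ℕ}
    (t : M.restrict W.ι ≅ FlatMod.freeMod (W : Scheme.{u}) n) [Nontrivial Γ(X, W)] :
    Module.finrank Γ(X, W) Γ(M, W) = n := by
  let e₁ : M.restrict hW.fromSpec ≅ tilde (ModuleCat.of Γ(X, W) (ULift.{u} (Fin n) →₀ Γ(X, W))) :=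
    ((Scheme.Modules.restrictFunctorCongr hW.isoSpec_inv_ι.symm) ≪≫
        Scheme.Modules.restrictFunctorComp hW.isoSpec.inv W.ι).app M ≪≫
      (Scheme.Modules.restrictFunctor hW.isoSpec.inv).mapIso t ≪≫
      TensorMod.restrictFreeModIso hW.isoSpec.inv n ≪≫ TensorMod.freeModIso _ n ≪≫
      (tildeFinsupp _).symm
  have e := LinearEquiv.finrank_eq
    (((tilde.isoTop _).toLinearEquiv.trans
      ((moduleSpecΓFunctor (R := Γ(X, W))).mapIso e₁).symm.toLinearEquiv).trans (QCohBase.sectionsEquiv M hW))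
  rw [← e]
  show Module.finrank Γ(X, W) (ULift.{u} (Fin n) →₀ Γ(X, W)) = n
  simp

theorem rank_unique {X : Scheme.{u}} (M : X.Modules) {U V : X.Opens} {x : X} (hU : x ∈ U) (hV : x ∈ V) {m n : ℕ}
    (s : M.restrict U.ι ≅ FlatMod.freeMod (U : Scheme.{u}) m) (t : M.restrict V.ι ≅ FlatMod.freeMod (V : Scheme.{u}) n) :
    m = n := by
  obtain ⟨W, hW, hx, hle⟩ := exists_isAffineOpen_mem_and_subset (show x ∈ U ⊓ V from ⟨hU, hV⟩)
  haveI : Nonempty W := ⟨⟨x, hx⟩⟩
  haveI : Nontrivial Γ(X, W) := Scheme.component_nontrivial X W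
  rw [← finrank_sections M hW (TensorMod.freeRestrict (fun y hy => (hle hy).1) s),
    finrank_sections M hW (TensorMod.freeRestrict (fun y hy => (hle hy).2) t)]

/-- Let S = lim S_i be a cofiltered limit of schemes with affine transition maps, S_{i₀} a quasi-compact
stage, F₀ a quasi-coherent O-module of finite presentation on S_{i₀} and n a natural number. Then
the pullback of F₀ along S ⟶ S_{i₀} is locally free of rank n if and only if, for some index j over
i₀, the pullback of F₀ along S_j ⟶ S_{i₀} is locally free of rank n. This is the case of locally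
free modules of rank n. -/
theorem result {I : Type u} [SmallCategory I] [IsCofiltered I]
    (D : I ⥤ Scheme.{u}) (c : Limits.Cone D) (hc : Limits.IsLimit c)
    [∀ (i j : I) (f : i ⟶ j), IsAffineHom (D.map f)] (i₀ : I) [CompactSpace (D.obj i₀)]
    (F₀ : (D.obj i₀).Modules) [Coh.IsQCoh F₀] (hF₀fp : CohB1.IsFP F₀)
    (n : ℕ) :
    FlatMod.IsFinLocFreeOfRank n ((Scheme.Modules.pullback (c.π.app i₀)).obj F₀) ↔
      ∃ (j : I) (φ : j ⟶ i₀), FlatMod.IsFinLocFreeOfRank n ((Scheme.Modules.pullback (D.map φ)).obj F₀) := by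
  refine ⟨fun h => ?_, fun ⟨j, φ, h⟩ => ?_⟩
  swap
  · exact TensorMod.isFinLocFreeOfRank_of_iso
      ((Scheme.Modules.pullbackComp (c.π.app j) (D.map φ) ≪≫ Scheme.Modules.pullbackCongr (c.w φ)).app F₀)
      (TensorMod.isFinLocFreeOfRank_pullback _ h)
  obtain ⟨j, φ, hj⟩ := (Groth.Agent.S4791.result D c hc i₀ F₀ hF₀fp).1 (TensorMod.isFinLocFree_of_rank h)
  haveI : CompactSpace (D.obj j) := QuasiCompact.compactSpace_of_compactSpace (D.map φ)
  let Fj := (Scheme.Modules.pullback (D.map φ)).obj F₀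
  let Z : Set (D.obj j) := {x | ¬ ∃ U : (D.obj j).Opens, x ∈ U ∧ Nonempty (Fj.restrict U.ι ≅ FlatMod.freeMod (↑U) n)}
  have hZ : IsClosed Z := by
    rw [← isOpen_compl_iff, isOpen_iff_forall_mem_open]
    intro x hx
    obtain ⟨U, hxU, hU⟩ := not_not.1 hx
    exact ⟨U, fun y hy hy' => hy' ⟨U, hy, hU⟩, U.isOpen, hxU⟩
  have hlim : FlatMod.IsFinLocFreeOfRank n ((Scheme.Modules.pullback (c.π.app j)).obj Fj) :=
    TensorMod.isFinLocFreeOfRank_of_iso
      ((Scheme.Modules.pullbackComp (c.π.app j) (D.map φ) ≪≫ Scheme.Modules.pullbackCongr (c.w φ)).app F₀).symm h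
  have hempty : c.π.app j ⁻¹' Z = ∅ := Set.eq_empty_of_forall_notMem fun s hs => by
    obtain ⟨V, m, hxV, ⟨t⟩⟩ := hj (c.π.app j s)
    obtain ⟨U, hsU, ⟨u⟩⟩ := hlim s
    have := rank_unique _ (show s ∈ c.π.app j ⁻¹ᵁ V from hxV) hsU
      (TensorMod.pullbackRestrictIso (c.π.app j) V Fj ≪≫
        (Scheme.Modules.pullback (c.π.app j ∣_ V)).mapIso t ≪≫ TensorMod.pullbackFreeModIso _ m) u
    subst this
    exact hs ⟨V, hxV, ⟨t⟩⟩
  obtain ⟨k, ψ, hk⟩ := (LimModEpi.preimage_eq_empty_iff c hc j hZ).1 hempty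
  refine ⟨k, ψ ≫ φ, TensorMod.isFinLocFreeOfRank_of_iso
    ((Scheme.Modules.pullbackComp (D.map ψ) (D.map φ) ≪≫ Scheme.Modules.pullbackCongr (D.map_comp ψ φ).symm).app F₀) ?_⟩
  intro x
  obtain ⟨U, hxU, ⟨t⟩⟩ := not_not.1 (Set.eq_empty_iff_forall_notMem.1 hk x)
  exact ⟨D.map ψ ⁻¹ᵁ U, hxU, ⟨TensorMod.pullbackRestrictIso (D.map ψ) U Fj ≪≫
    (Scheme.Modules.pullback (D.map ψ ∣_ U)).mapIso t ≪≫ TensorMod.pullbackFreeModIso _ n⟩⟩

end Groth.Agent.S4792
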