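import Groth.Statements.S4794
import Groth.Agent.LimModEpi.Basic
import Groth.Agent.FlatFunLib.Stalk
import Groth.Agent.S4764

set_option autoImplicit false
universe u
open CategoryTheory AlgebraicGeometry
open Lim8

namespace Groth.Agent.S4794

theorem mono_pullback_map_iff {X Y : Scheme.{u}} (g : X ⟶ Y) [Flat g] {F G : Y.Modules} (f : F ⟶ G) :
    Mono ((Scheme.Modules.pullback g).map f) ↔ ⇑g ⁻¹' CohB1.support (Limits.kernel f) = ∅ := by
  rw [FlatFunLib.mono_iff_stalk, Set.eq_empty_iff_forall_notMem]
  refine forall_congr' fun x' => ?_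
  rw [(FlatFunLib.faithful_pullback g f x' (Flat.stalkMap g x')).2.1]
  show _ ↔ ¬ ¬ Subsingleton ((Limits.kernel f).presheaf.stalk (g x'))
  rw [not_not]
  let e := Limits.PreservesKernel.iso (DerSch.stalkFunctor Y (g x')) f
  constructor
  · intro h
    haveI : Mono (FlatFunLib.st f (g x')) := (ModuleCat.mono_iff_injective _).2 h
    exact ModuleCat.subsingleton_of_isZero ((Limits.isZero_kernel_of_mono _).of_iso e)
  · intro h
    haveI : Subsingleton ((DerSch.stalkFunctor Y (g x')).obj (Limits.kernel f)) := h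
    exact (ModuleCat.mono_iff_injective _).1
      (Preadditive.mono_of_isZero_kernel _ ((ModuleCat.isZero_of_subsingleton _).of_iso e.symm))

/-- Let S = lim S_i be a cofiltered limit of schemes whose transition maps are affine and flat, and
S_{i₀} a quasi-compact stage; let f₀ : F₀ ⟶ G₀ be a homomorphism of quasi-coherent O-modules on
S_{i₀} whose kernel is an O-module of finite type. Then the pullback of f₀ along S ⟶ S_{i₀} is
injective (a monomorphism of O_S-modules) if and only if, for some index j over i₀, the pullback of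
f₀ along S_j ⟶ S_{i₀} is injective. -/
theorem result {I : Type u} [SmallCategory I] [IsCofiltered I]
    (D : I ⥤ Scheme.{u}) (c : Limits.Cone D) (hc : Limits.IsLimit c)
    [∀ (i j : I) (f : i ⟶ j), IsAffineHom (D.map f)] (i₀ : I) [CompactSpace (D.obj i₀)]
    (hfl : ∀ (i j : I) (φ : i ⟶ j), Flat (D.map φ))
    {F₀ G₀ : (D.obj i₀).Modules} [Coh.IsQCoh F₀]
    [Coh.IsQCoh G₀] (f₀ : F₀ ⟶ G₀)
    (hker : CohB1.IsFT (Limits.kernel f₀)) :
    Mono ((Scheme.Modules.pullback (c.π.app i₀)).map f₀) ↔
      ∃ (j : I) (φ : j ⟶ i₀), Mono ((Scheme.Modules.pullback (D.map φ)).map f₀) := by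
  haveI : Flat (c.π.app i₀) := Groth.Agent.S4764.result D c hc i₀ fun j φ => hfl j i₀ φ
  rw [mono_pullback_map_iff, LimModEpi.preimage_eq_empty_iff c hc i₀ (Groth.Agent.QCohBase.isClosed_support _ hker)]
  refine exists_congr fun j => exists_congr fun φ => ?_
  haveI := hfl j i₀ φ
  exact (mono_pullback_map_iff _ f₀).symm

end Groth.Agent.S4794
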