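import Groth.Statements.S4795
import Groth.Agent.LimSch.DescendsHom
import Groth.Agent.AlgSpc.LfpCancel

set_option autoImplicit false
universe u
open CategoryTheory AlgebraicGeometry
open Lim8

namespace Groth.Agent.S4795

/-- Let S = lim S_i be a cofiltered limit of schemes with affine transition maps and S_{i₀} a
quasi-compact quasi-separated stage; let X₀ and Y₀ be schemes of finite presentation over S_{i₀},
and let X, Y be their base changes along S ⟶ S_{i₀} (base changes are expressed by pullback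
squares). Then X and Y are isomorphic over S if and only if, for some index j over i₀, the base
changes X_j and Y_j of X₀ and Y₀ along S_j ⟶ S_{i₀} are isomorphic over S_j. -/
theorem result {I : Type u} [SmallCategory I] [IsCofiltered I]
    (D : I ⥤ Scheme.{u}) (c : Limits.Cone D) (hc : Limits.IsLimit c)
    [∀ (i j : I) (f : i ⟶ j), IsAffineHom (D.map f)] (i₀ : I)
    [CompactSpace (D.obj i₀)] [QuasiSeparatedSpace (D.obj i₀)]
    {X₀ Y₀ : Scheme.{u}} (a₀ : X₀ ⟶ D.obj i₀) (b₀ : Y₀ ⟶ D.obj i₀)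
    [LocallyOfFinitePresentation a₀] [QuasiCompact a₀] [QuasiSeparated a₀]
    [LocallyOfFinitePresentation b₀] [QuasiCompact b₀] [QuasiSeparated b₀]
    {X Y : Scheme.{u}} (a : X ⟶ c.pt) (b : Y ⟶ c.pt) (qX : X ⟶ X₀) (qY : Y ⟶ Y₀)
    (hX : IsPullback qX a a₀ (c.π.app i₀)) (hY : IsPullback qY b b₀ (c.π.app i₀)) :
    (∃ e : X ≅ Y, e.hom ≫ b = a) ↔
      ∃ (j : I) (φ : j ⟶ i₀) (Xj Yj : Scheme.{u}) (aj : Xj ⟶ D.obj j) (bj : Yj ⟶ D.obj j)
        (pX : Xj ⟶ X₀) (pY : Yj ⟶ Y₀), IsPullback pX aj a₀ (D.map φ) ∧ IsPullback pY bj b₀ (D.map φ) ∧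
        ∃ e : Xj ≅ Yj, e.hom ≫ bj = aj := by
  constructor
  · rintro ⟨e, he⟩
    have : CompactSpace X₀ := QuasiCompact.compactSpace_of_compactSpace a₀
    have : QuasiSeparatedSpace X₀ := quasiSeparatedSpace_of_quasiSeparated a₀
    have : CompactSpace Y₀ := QuasiCompact.compactSpace_of_compactSpace b₀
    obtain ⟨j, φ, g, hg, hm⟩ := Groth.Agent.LimSch.exists_hom_stage D c hc hX (e.hom ≫ qY) (yi := b₀)
      (by rw [Category.assoc, hY.w, reassoc_of% he])
    let fj := Limits.pullback.lift g (Limits.pullback.snd a₀ (D.map φ)) hg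
    have hfj : fj ≫ Limits.pullback.snd b₀ (D.map φ) = Limits.pullback.snd a₀ (D.map φ) := Limits.pullback.lift_snd _ _ _
    have : QuasiCompact (fj ≫ Limits.pullback.snd b₀ (D.map φ)) := by rw [hfj]; infer_instance
    have : QuasiSeparated (fj ≫ Limits.pullback.snd b₀ (D.map φ)) := by rw [hfj]; infer_instance
    have : LocallyOfFinitePresentation (fj ≫ Limits.pullback.snd b₀ (D.map φ)) := by rw [hfj]; infer_instance
    have : QuasiCompact fj := QuasiCompact.of_comp fj (Limits.pullback.snd b₀ (D.map φ))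
    have : QuasiSeparated fj := QuasiSeparated.of_comp fj (Limits.pullback.snd b₀ (D.map φ))
    have : IsAffineHom (D.map φ) := inferInstance
    have : CompactSpace (Limits.pullback b₀ (D.map φ) : Scheme.{u}) :=
      QuasiCompact.compactSpace_of_compactSpace (Limits.pullback.fst b₀ (D.map φ))
    have sqX : IsPullback (Limits.pullback.lift qX (a ≫ c.π.app j) (by rw [Category.assoc, c.w]; exact hX.w))
        a (Limits.pullback.snd a₀ (D.map φ)) (c.π.app j) :=
      IsPullback.of_right (by rw [Limits.pullback.lift_fst, c.w]; exact hX) (Limits.pullback.lift_snd _ _ _)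
        (IsPullback.of_hasPullback _ _)
    have sqY : IsPullback (Limits.pullback.lift qY (b ≫ c.π.app j) (by rw [Category.assoc, c.w]; exact hY.w))
        b (Limits.pullback.snd b₀ (D.map φ)) (c.π.app j) :=
      IsPullback.of_right (by rw [Limits.pullback.lift_fst, c.w]; exact hY) (Limits.pullback.lift_snd _ _ _)
        (IsPullback.of_hasPullback _ _)
    have sqe : IsPullback (Limits.pullback.lift qX (a ≫ c.π.app j) (by rw [Category.assoc, c.w]; exact hX.w)) e.hom fj
        (Limits.pullback.lift qY (b ≫ c.π.app j) (by rw [Category.assoc, c.w]; exact hY.w)) := by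
      refine IsPullback.of_bot (by rw [he, hfj]; exact sqX) ?_ sqY
      apply Limits.pullback.hom_ext
      · exact (Category.assoc _ _ _).trans ((congrArg (Limits.pullback.lift qX _ _ ≫ ·) (Limits.pullback.lift_fst _ _ _)).trans
          (hm.trans ((congrArg (e.hom ≫ ·) (Limits.pullback.lift_fst _ _ _).symm).trans (Category.assoc _ _ _).symm)))
      · refine (Category.assoc _ _ _).trans (Eq.trans (congrArg (Limits.pullback.lift qX _ _ ≫ ·) (Limits.pullback.lift_snd _ _ _)) (Eq.trans ?_ (Category.assoc _ _ _).symm))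
        exact (Limits.pullback.lift_snd _ _ _).trans
          ((congrArg (· ≫ c.π.app j) he.symm).trans ((Category.assoc _ _ _).trans (congrArg (e.hom ≫ ·) (Limits.pullback.lift_snd _ _ _).symm)))
    obtain ⟨k, ψ, Xk, Yk, fk, gk, pY, pX, h1, h2, (h3 : IsIso fk)⟩ :=
      Groth.Agent.LimSch.Descends.over D c hc j fj (Limits.pullback.snd b₀ (D.map φ)) e.hom b _ _ sqY sqe
        Groth.Agent.LimSch.descends_isomorphisms.{u}
        (Groth.Agent.AlgSpc.lfp_of_comp fj (Limits.pullback.snd b₀ (D.map φ))) (inferInstanceAs (IsIso e.hom))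
    have hA := h2.paste_vert h1
    rw [hfj] at hA
    refine ⟨k, ψ ≫ φ, Xk, Yk, fk ≫ gk, gk, pX ≫ Limits.pullback.fst _ _, pY ≫ Limits.pullback.fst _ _,
      ?_, ?_, asIso fk, rfl⟩
    · rw [D.map_comp]; exact hA.paste_horiz (IsPullback.of_hasPullback _ _)
    · rw [D.map_comp]; exact h1.paste_horiz (IsPullback.of_hasPullback _ _)
  · rintro ⟨j, φ, Xj, Yj, aj, bj, pX, pY, h1, h2, e, he⟩
    have sqX : IsPullback (h1.lift qX (a ≫ c.π.app j) (by rw [Category.assoc, c.w]; exact hX.w)) a aj (c.π.app j) :=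
      IsPullback.of_right (by rw [IsPullback.lift_fst, c.w]; exact hX) (IsPullback.lift_snd _ _ _ _) h1
    have sqY : IsPullback (h2.lift qY (b ≫ c.π.app j) (by rw [Category.assoc, c.w]; exact hY.w)) b bj (c.π.app j) :=
      IsPullback.of_right (by rw [IsPullback.lift_fst, c.w]; exact hY) (IsPullback.lift_snd _ _ _ _) h2
    have sqX' : IsPullback (h1.lift qX (a ≫ c.π.app j) (by rw [Category.assoc, c.w]; exact hX.w) ≫ e.hom)
        a bj (c.π.app j) :=
      sqX.of_iso (Iso.refl _) e (Iso.refl _) (Iso.refl _) (by simp) (by simp) (by simp [he]) (by simp)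
    exact ⟨sqX'.isoIsPullback _ _ sqY, IsPullback.isoIsPullback_hom_snd _ _ sqX' sqY⟩

end Groth.Agent.S4795
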