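import Groth.Statements.S4797
import Groth.Agent.FlatFunLib.LimitHom

set_option autoImplicit false
universe u
open CategoryTheory AlgebraicGeometry
open Lim8

namespace Groth.Agent.S4797

theorem exists_cover (X : Scheme.{u}) [CompactSpace X] :
    ∃ (ι : Type u) (_ : Finite ι) (V : ι → X.Opens), (∀ k, IsAffineOpen (V k)) ∧ ∀ x : X, ∃ k, x ∈ V k := by
  obtain ⟨t, ht⟩ := isCompact_univ.elim_finite_subcover
    (fun i : X.affineOpens => (i.1 : Set X)) (fun i => i.1.2) (fun y _ => by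
      obtain ⟨W, hW, hx, -⟩ := exists_isAffineOpen_mem_and_subset (show y ∈ (⊤ : X.Opens) from trivial)
      exact Set.mem_iUnion.2 ⟨⟨W, hW⟩, hx⟩)
  refine ⟨t, inferInstance, fun i => i.1.1, fun i => i.1.2, fun x => ?_⟩
  obtain ⟨i, hi, hx⟩ : ∃ i ∈ t, x ∈ (i.1 : Set X) := by simpa using ht (Set.mem_univ x)
  exact ⟨⟨i, hi⟩, hx⟩


/-- Let S = lim S_i be a cofiltered limit of schemes with affine transition maps and S_{i₀} a
quasi-compact stage; let F₀ be a quasi-coherent O-module of finite type and G₀ a quasi-coherent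
O-module on S_{i₀}, and φ₀, ψ₀ : F₀ ⟶ G₀ two homomorphisms. Then the pullbacks of φ₀ and ψ₀ along S
⟶ S_{i₀} are equal if and only if, for some index j over i₀, their pullbacks along S_j ⟶ S_{i₀} are
equal. This is the injectivity of the canonical map colim Hom(F_λ, G_λ) → Hom(F, G). -/
theorem result {I : Type u} [SmallCategory I] [IsCofiltered I]
    (D : I ⥤ Scheme.{u}) (c : Limits.Cone D) (hc : Limits.IsLimit c)
    [∀ (i j : I) (f : i ⟶ j), IsAffineHom (D.map f)] (i₀ : I) [CompactSpace (D.obj i₀)]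
    {F₀ G₀ : (D.obj i₀).Modules} [Coh.IsQCoh F₀] (hF₀ft : CohB1.IsFT F₀) [Coh.IsQCoh G₀]
    (φ₀ ψ₀ : F₀ ⟶ G₀) :
    (Scheme.Modules.pullback (c.π.app i₀)).map φ₀ = (Scheme.Modules.pullback (c.π.app i₀)).map ψ₀ ↔
      ∃ (j : I) (φ : j ⟶ i₀),
        (Scheme.Modules.pullback (D.map φ)).map φ₀ = (Scheme.Modules.pullback (D.map φ)).map ψ₀ := by
  obtain ⟨ι, _, V, hV, hcov⟩ := exists_cover (D.obj i₀)
  haveI : F₀.IsQuasicoherent := (inferInstance : Coh.IsQCoh F₀)
  haveI : G₀.IsQuasicoherent := (inferInstance : Coh.IsQCoh G₀)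
  have key : ∀ {X : Scheme.{u}} (g : X ⟶ D.obj i₀), (Scheme.Modules.pullback g).map φ₀ = (Scheme.Modules.pullback g).map ψ₀ ↔
      (Scheme.Modules.pullback g).map (φ₀ - ψ₀) = 0 := fun g => by
    rw [Functor.map_sub, sub_eq_zero]
  simp only [key]
  refine ⟨fun h => FlatFunLib.exists_stage_zero D c hc (φ₀ - ψ₀) hV hcov hF₀ft h, fun ⟨j, φ, h⟩ => ?_⟩
  have e := (Scheme.Modules.pullbackComp (c.π.app j) (D.map φ)).hom.naturality (φ₀ - ψ₀)
  simp only [Functor.comp_map, h, Functor.map_zero, Limits.zero_comp] at e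
  have e2 : (Scheme.Modules.pullback (c.π.app j ≫ D.map φ)).map (φ₀ - ψ₀) = 0 :=
    (cancel_epi ((Scheme.Modules.pullbackComp (c.π.app j) (D.map φ)).hom.app F₀)).1 (e.symm.trans Limits.comp_zero.symm)
  rw [c.w φ] at e2
  exact e2

end Groth.Agent.S4797
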