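import Groth.Statements.S4808
import Groth.Agent.DivPts.NormalIso

set_option autoImplicit false
universe u
open CategoryTheory AlgebraicGeometry
open Lim8

namespace Groth.Agent.S4808

/-- Let Y' and Y be integral schemes, Y normal (every local ring of Y is integrally closed), and u : Y'
⟶ Y a finite morphism which is birational: u maps the generic point of Y' to the generic point of Y
and the stalk map of u at the generic point of Y', which is the induced homomorphism of function
fields, is an isomorphism. Then u is an isomorphism. -/
theorem result {Y' Y : Scheme.{u}} [IsIntegral Y'] [IsIntegral Y]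
    (hN : ∀ y : Y, IsIntegrallyClosed (Y.presheaf.stalk y)) (u : Y' ⟶ Y) [IsFinite u]
    (hgen : u (genericPoint Y') = genericPoint Y)
    (hbir : IsIso (u.stalkMap (genericPoint Y'))) : IsIso u := by
  refine Groth.Agent.DivPts.isIso_of_sections (fun y => ⟨inferInstance, hN y⟩) u fun W hW _ => ?_
  have hηW : genericPoint Y ∈ W := (genericPoint_spec Y).mem_open_set_iff W.2 |>.2 (by
    simpa using (Set.nonempty_coe_sort.1 (inferInstance : Nonempty W)))
  have hη' : genericPoint Y' ∈ u ⁻¹ᵁ W := show u.base _ ∈ W by rw [hgen]; exact hηW
  haveI : Nonempty (u ⁻¹ᵁ W : Y'.Opens) := ⟨⟨_, hη'⟩⟩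
  haveI := hbir
  let e := (asIso (u.stalkMap (genericPoint Y'))).commRingCatIsoToRingEquiv
  let c : Y.presheaf.stalk (u.base (genericPoint Y')) ⟶ Y.functionField :=
    Y.presheaf.stalkSpecializes (specializes_of_eq hgen.symm)
  refine ⟨(c.hom.comp e.symm.toRingHom).comp (Y'.presheaf.germ _ _ hη').hom, ?_, ?_⟩
  · intro a b hab
    simp only [RingHom.comp_apply] at hab
    refine AlgebraicGeometry.germ_injective_of_isIntegral Y' (genericPoint Y') hη'
      (e.symm.injective ?_)
    exact (show Function.Injective c.hom by
      haveI : IsIso c := by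
        dsimp [c]; exact TopCat.Presheaf.stalkCongr Y.presheaf (Inseparable.of_eq hgen) |>.isIso_hom
      exact ((ConcreteCategory.isIso_iff_bijective c).1 inferInstance).1) hab
  · ext a
    simp only [RingHom.comp_apply]
    have h1 : (Y'.presheaf.germ _ _ hη').hom ((u.app W).hom a) =
        e (Y.presheaf.germ W _ hη' a) := (u.germ_stalkMap_apply W (genericPoint Y') hη' a).symm
    rw [h1]
    change c.hom (e.symm (e _)) = _
    rw [RingEquiv.symm_apply_apply]
    exact TopCat.Presheaf.germ_stalkSpecializes_apply _ _ _ _


end Groth.Agent.S4808
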