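import Groth.Statements.S4812
import Groth.Agent.FlatFunLib.LimitHom
import Groth.Agent.LimModEpi.Basic
import Groth.Agent.ModStA.Fib
import Groth.Agent.QCohBase.FiniteTypePullback

set_option autoImplicit false
universe u
open CategoryTheory AlgebraicGeometry
open Lim8

namespace Groth.Agent.S4812

open CategoryTheory.Limits

theorem exists_cover (X : Scheme.{u}) [CompactSpace X] :
    ∃ (ι : Type u) (_ : Finite ι) (V : ι → X.Opens), (∀ k, IsAffineOpen (V k)) ∧ ∀ x : X, ∃ k, x ∈ V k := by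
  obtain ⟨t, ht⟩ := isCompact_univ.elim_finite_subcover
    (fun i : X.affineOpens => (i.1 : Set X)) (fun i => i.1.2) (fun y _ => by
      obtain ⟨W, hW, hx, -⟩ := exists_isAffineOpen_mem_and_subset (show y ∈ (⊤ : X.Opens) from trivial)
      exact Set.mem_iUnion.2 ⟨⟨W, hW⟩, hx⟩)
  refine ⟨t, inferInstance, fun i => i.1.1, fun i => i.1.2, fun x => ?_⟩
  obtain ⟨i, hi, hx⟩ : ∃ i ∈ t, x ∈ (i.1 : Set X) := by simpa using ht (Set.mem_univ x)
  exact ⟨⟨i, hi⟩, hx⟩

abbrev E {X : Scheme.{u}} {A B C : X.Modules} (f : A ⟶ B) (g : B ⟶ C) : Prop :=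
  ∃ w : f ≫ g = 0, (ShortComplex.mk f g w).Exact ∧ Epi g

theorem isIso_desc_iff {X : Scheme.{u}} {A B C : X.Modules} (f : A ⟶ B) (g : B ⟶ C) (w : f ≫ g = 0) :
    E f g ↔ IsIso (cokernel.desc f g w) := by
  constructor
  · rintro ⟨_, he, hepi⟩
    haveI : Mono (cokernel.desc f g w) := he.mono_cokernelDesc
    haveI : Epi (cokernel.π f ≫ cokernel.desc f g w) := by rw [cokernel.π_desc]; exact hepi
    haveI : Epi (cokernel.desc f g w) := epi_of_epi (cokernel.π f) _
    exact isIso_of_mono_of_epi _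
  · intro h
    refine ⟨w, (ShortComplex.exact_iff_mono_cokernel_desc _).2 (inferInstanceAs (Mono (cokernel.desc f g w))), ?_⟩
    rw [← cokernel.π_desc f g w]
    infer_instance

theorem E_map_iff {X Y : Scheme.{u}} (a : Y ⟶ X) {A B C : X.Modules} (f : A ⟶ B) (g : B ⟶ C) (w : f ≫ g = 0) :
    E ((Scheme.Modules.pullback a).map f) ((Scheme.Modules.pullback a).map g) ↔
      IsIso ((Scheme.Modules.pullback a).map (cokernel.desc f g w)) := by
  haveI : (Scheme.Modules.pullback a).IsLeftAdjoint := (Scheme.Modules.pullbackPushforwardAdjunction a).isLeftAdjoint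
  have w' : (Scheme.Modules.pullback a).map f ≫ (Scheme.Modules.pullback a).map g = 0 := by
    rw [← Functor.map_comp, w, Functor.map_zero]
  rw [isIso_desc_iff _ _ w']
  have e : (Scheme.Modules.pullback a).map (cokernel.desc f g w) =
      (PreservesCokernel.iso (Scheme.Modules.pullback a) f).hom ≫ cokernel.desc _ _ w' := by
    rw [← Iso.inv_comp_eq]
    apply coequalizer.hom_ext
    simp [← Functor.map_comp]
  rw [e]
  exact (isIso_comp_left_iff _ _).symm

theorem E_comp_iff {X Y Z : Scheme.{u}} (a : X ⟶ Y) (b : Y ⟶ Z) {A B C : Z.Modules} (f : A ⟶ B) (g : B ⟶ C) :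
    E ((Scheme.Modules.pullback (a ≫ b)).map f) ((Scheme.Modules.pullback (a ≫ b)).map g) ↔
      E ((Scheme.Modules.pullback a).map ((Scheme.Modules.pullback b).map f))
        ((Scheme.Modules.pullback a).map ((Scheme.Modules.pullback b).map g)) := by
  let e := Scheme.Modules.pullbackComp a b
  have hf : (Scheme.Modules.pullback a).map ((Scheme.Modules.pullback b).map f) ≫ e.hom.app B =
      e.hom.app A ≫ (Scheme.Modules.pullback (a ≫ b)).map f := e.hom.naturality f
  have hg : (Scheme.Modules.pullback a).map ((Scheme.Modules.pullback b).map g) ≫ e.hom.app C =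
      e.hom.app B ≫ (Scheme.Modules.pullback (a ≫ b)).map g := e.hom.naturality g
  have hz : (Scheme.Modules.pullback a).map ((Scheme.Modules.pullback b).map f) ≫
      (Scheme.Modules.pullback a).map ((Scheme.Modules.pullback b).map g) = 0 ↔
      (Scheme.Modules.pullback (a ≫ b)).map f ≫ (Scheme.Modules.pullback (a ≫ b)).map g = 0 := by
    rw [← cancel_mono (e.hom.app C), Category.assoc, hg, ← Category.assoc, hf, Category.assoc, zero_comp]
    exact ⟨fun h => (cancel_epi (e.hom.app A)).1 (h.trans comp_zero.symm), fun h => by rw [h, comp_zero]⟩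
  constructor
  · rintro ⟨w, h⟩
    exact ⟨hz.2 w, (ShortComplex.exact_and_epi_g_iff_of_iso
      (ShortComplex.isoMk (S₁ := ShortComplex.mk _ _ (hz.2 w)) (S₂ := ShortComplex.mk _ _ w)
        (e.app A) (e.app B) (e.app C) hf.symm hg.symm)).2 h⟩
  · rintro ⟨w, h⟩
    exact ⟨hz.1 w, (ShortComplex.exact_and_epi_g_iff_of_iso
      (ShortComplex.isoMk (S₁ := ShortComplex.mk _ _ w) (S₂ := ShortComplex.mk _ _ (hz.1 w))
        (e.app A) (e.app B) (e.app C) hf.symm hg.symm)).1 h⟩

/-- Let S = lim S_i be a cofiltered limit of schemes with affine transition maps and S_{i₀} a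
quasi-compact stage; let f₀ : F₀ ⟶ G₀ and g₀ : G₀ ⟶ H₀ be homomorphisms of quasi-coherent O-modules
on S_{i₀}, with F₀ and G₀ of finite type and H₀ of finite presentation. Then the pulled-back
sequence F ⟶ G ⟶ H ⟶ 0 on S is exact (the composite is zero, the sequence is exact at G, and G ⟶ H
is an epimorphism) if and only if, for some index j over i₀, the pulled-back sequence F_j ⟶ G_j ⟶
H_j ⟶ 0 on S_j is exact. -/
theorem result {I : Type u} [SmallCategory I] [IsCofiltered I]
    (D : I ⥤ Scheme.{u}) (c : Limits.Cone D) (hc : Limits.IsLimit c)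
    [∀ (i j : I) (f : i ⟶ j), IsAffineHom (D.map f)] (i₀ : I) [CompactSpace (D.obj i₀)]
    {F₀ G₀ H₀ : (D.obj i₀).Modules} [Coh.IsQCoh F₀] [Coh.IsQCoh G₀] [Coh.IsQCoh H₀]
    (hF₀ : CohB1.IsFT F₀) (hG₀ : CohB1.IsFT G₀) (hH₀ : CohB1.IsFP H₀) (f₀ : F₀ ⟶ G₀) (g₀ : G₀ ⟶ H₀) :
    (∃ w : (Scheme.Modules.pullback (c.π.app i₀)).map f₀ ≫ (Scheme.Modules.pullback (c.π.app i₀)).map g₀ = 0,
        (ShortComplex.mk _ _ w).Exact ∧ Epi ((Scheme.Modules.pullback (c.π.app i₀)).map g₀)) ↔
      ∃ (j : I) (φ : j ⟶ i₀) (w : (Scheme.Modules.pullback (D.map φ)).map f₀ ≫ (Scheme.Modules.pullback (D.map φ)).map g₀ = 0),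
        (ShortComplex.mk _ _ w).Exact ∧ Epi ((Scheme.Modules.pullback (D.map φ)).map g₀) := by
  obtain ⟨ι, _, V, hV, hcov⟩ := exists_cover (D.obj i₀)
  haveI : F₀.IsQuasicoherent := (inferInstance : Coh.IsQCoh F₀)
  haveI : G₀.IsQuasicoherent := (inferInstance : Coh.IsQCoh G₀)
  haveI : H₀.IsQuasicoherent := (inferInstance : Coh.IsQCoh H₀)
  constructor
  · intro hE
    have hz : (Scheme.Modules.pullback (c.π.app i₀)).map (f₀ ≫ g₀) = 0 := by rw [Functor.map_comp]; exact hE.1
    obtain ⟨j, φ, hj⟩ := FlatFunLib.exists_stage_zero D c hc (f₀ ≫ g₀) hV hcov hF₀ hz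
    have w : (Scheme.Modules.pullback (D.map φ)).map f₀ ≫ (Scheme.Modules.pullback (D.map φ)).map g₀ = 0 := by
      rw [← Functor.map_comp]; exact hj
    haveI : CompactSpace (D.obj j) := QuasiCompact.compactSpace_of_compactSpace (D.map φ)
    obtain ⟨ι', _, V', hV', hcov'⟩ := exists_cover (D.obj j)
    haveI := QCohPull.isQuasicoherent_pullback (D.map φ) F₀
    haveI := QCohPull.isQuasicoherent_pullback (D.map φ) G₀
    haveI := QCohPull.isQuasicoherent_pullback (D.map φ) H₀
    haveI : (cokernel ((Scheme.Modules.pullback (D.map φ)).map f₀)).IsQuasicoherent :=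
      QCohBase.isQuasicoherent_cokernel _ inferInstance inferInstance
    have hiso : IsIso ((Scheme.Modules.pullback (c.π.app j)).map (cokernel.desc _ _ w)) := by
      rw [← E_map_iff, ← E_comp_iff, c.w φ]
      exact hE
    obtain ⟨k, ψ, hk⟩ := FlatFunLib.exists_stage_isIso D c hc (cokernel.desc _ _ w) hV' hcov'
      (LimModEpi.isFT_of_epi (cokernel.π _) (QCohBase.isFT_pullback _ hG₀)) (ModStA.isFP_pullback _ hH₀) hiso
    refine ⟨k, ψ ≫ φ, ?_⟩
    show E _ _
    rw [D.map_comp, E_comp_iff, E_map_iff]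
    exact hk
  · rintro ⟨j, φ, hE⟩
    obtain ⟨w, hw⟩ := hE
    have hE' : E _ _ := ⟨w, hw⟩
    show E _ _
    rw [← c.w φ, E_comp_iff, E_map_iff _ _ _ w]
    haveI := (isIso_desc_iff _ _ w).1 hE'
    infer_instance

end Groth.Agent.S4812
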