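import Groth.Statements.S4813
import Groth.Agent.FlatFunLib.LimitHom
import Groth.Agent.QCohBase.Exact
import Groth.Agent.QCohBase.Finite
import Groth.Agent.FinLocFreeSections.FP

set_option autoImplicit false
universe u
open CategoryTheory AlgebraicGeometry
open Lim8

namespace Groth.Agent.S4813

open CategoryTheory.Limits

theorem exists_cover (X : Scheme.{u}) [CompactSpace X] :
    ∃ (ι : Type u) (_ : Finite ι) (V : ι → X.Opens), (∀ k, IsAffineOpen (V k)) ∧ ∀ x : X, ∃ k, x ∈ V k := by
  obtain ⟨t, ht⟩ := isCompact_univ.elim_finite_subcover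
    (fun i : X.affineOpens => (i.1 : Set X)) (fun i => i.1.2) (fun y _ => by
      obtain ⟨W, hW, hx, -⟩ := exists_isAffineOpen_mem_and_subset (show y ∈ (⊤ : X.Opens) from trivial)
      exact Set.mem_iUnion.2 ⟨⟨W, hW⟩, hx⟩)
  refine ⟨t, inferInstance, fun i => i.1.1, fun i => i.1.2, fun x => ?_⟩
  obtain ⟨i, hi, hx⟩ : ∃ i ∈ t, x ∈ (i.1 : Set X) := by simpa using ht (Set.mem_univ x)
  exact ⟨⟨i, hi⟩, hx⟩

theorem isFT_kernel {X : Scheme.{u}} {F G : X.Modules} [F.IsQuasicoherent] [G.IsQuasicoherent]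
    (hF : CohB1.IsFT F) (hG : CohB1.IsFP G) (p : F ⟶ G) [Epi p] : CohB1.IsFT (kernel p) := by
  haveI hk : (kernel p).IsQuasicoherent := QCohBase.isQuasicoherent_kernel p inferInstance inferInstance
  refine QCohBase.isFiniteType_of_finite _ fun x => ?_
  obtain ⟨U, hU, hx, -⟩ := exists_isAffineOpen_mem_and_subset (show x ∈ (⊤ : X.Opens) from trivial)
  refine ⟨U, hU, hx, ?_⟩
  haveI : Module.Finite Γ(X, U) Γ(F, U) := QCohBase.finite_sections F hF hU
  haveI := FinLocFreeSections.finitePresentation_sections G hG hU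
  let T : ShortComplex X.Modules := ShortComplex.mk (kernel.ι p) p (kernel.condition p)
  haveI : Mono T.f := inferInstanceAs (Mono (kernel.ι p))
  haveI : Epi T.g := inferInstanceAs (Epi p)
  have hT : T.Exact := ShortComplex.exact_of_f_is_kernel _ (kernelIsKernel p)
  have hs : Function.Surjective (FlatFunLib.appₗ p U) :=
    QCohBase.sections_surjective_affine (T := T) ⟨hT⟩ hk hU
  have hr : LinearMap.range (FlatFunLib.appₗ (kernel.ι p) U) = LinearMap.ker (FlatFunLib.appₗ p U) := by
    ext s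
    constructor
    · rintro ⟨t, rfl⟩
      show p.app U ((kernel.ι p).app U t) = 0
      rw [← ConcreteCategory.comp_apply, ← Scheme.Modules.Hom.comp_app, kernel.condition]
      rfl
    · intro h
      exact QCohBase.sections_exact_left (T := T) hT s h
  have hfg : (LinearMap.range (FlatFunLib.appₗ (kernel.ι p) U)).FG := by
    rw [hr]; exact Module.FinitePresentation.fg_ker _ hs
  haveI := Module.Finite.iff_fg.2 hfg
  exact Module.Finite.equiv (LinearEquiv.ofInjective (FlatFunLib.appₗ (kernel.ι p) U)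
    (QCohBase.app_injective_of_mono (kernel.ι p) U)).symm

theorem key {X Y : Scheme.{u}} (a : X ⟶ Y) {F G₁ G₂ : Y.Modules} (p₁ : F ⟶ G₁) (p₂ : F ⟶ G₂) [Epi p₁] :
    (∃ k, (Scheme.Modules.pullback a).map p₁ ≫ k = (Scheme.Modules.pullback a).map p₂) ↔
      (Scheme.Modules.pullback a).map (kernel.ι p₁ ≫ p₂) = 0 := by
  haveI : (Scheme.Modules.pullback a).IsLeftAdjoint := (Scheme.Modules.pullbackPushforwardAdjunction a).isLeftAdjoint
  constructor
  · rintro ⟨k, hk⟩
    rw [Functor.map_comp, ← hk, ← Category.assoc, ← Functor.map_comp, kernel.condition, Functor.map_zero, zero_comp]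
  · intro h
    rw [Functor.map_comp] at h
    obtain ⟨k, hk⟩ := CokernelCofork.IsColimit.desc'
      (CokernelCofork.mapIsColimit _ (Abelian.epiIsCokernelOfKernel _ (kernelIsKernel p₁)) (Scheme.Modules.pullback a))
      ((Scheme.Modules.pullback a).map p₂) h
    exact ⟨k, hk⟩

theorem zero_comp_map {X Y Z : Scheme.{u}} (a : X ⟶ Y) (b : Y ⟶ Z) {M N : Z.Modules} (v : M ⟶ N)
    (h : (Scheme.Modules.pullback b).map v = 0) : (Scheme.Modules.pullback (a ≫ b)).map v = 0 := by
  have e := (Scheme.Modules.pullbackComp a b).hom.naturality v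
  simp only [Functor.comp_map, h, Functor.map_zero, zero_comp] at e
  exact (cancel_epi ((Scheme.Modules.pullbackComp a b).hom.app M)).1 (e.symm.trans comp_zero.symm)

/-- Let S = lim S_i be a cofiltered limit of schemes with affine transition maps and S_{i₀} a
quasi-compact stage; let F₀ be a quasi-coherent O-module of finite type on S_{i₀} and p₁ : F₀ ⟶ G₁,
p₂ : F₀ ⟶ G₂ two surjective homomorphisms onto quasi-coherent O-modules, G₁ being of finite
presentation. Then, on S, the pullback of p₂ factors through the pullback of p₁ (the quotient G₂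
becomes a quotient of G₁ after pullback to S) if and only if, for some index j over i₀, the pullback
of p₂ to S_j factors through the pullback of p₁ to S_j. -/
theorem result {I : Type u} [SmallCategory I] [IsCofiltered I]
    (D : I ⥤ Scheme.{u}) (c : Limits.Cone D) (hc : Limits.IsLimit c)
    [∀ (i j : I) (f : i ⟶ j), IsAffineHom (D.map f)] (i₀ : I) [CompactSpace (D.obj i₀)]
    {F₀ G₁ G₂ : (D.obj i₀).Modules} [Coh.IsQCoh F₀] [Coh.IsQCoh G₁] [Coh.IsQCoh G₂]
    (hF₀ : CohB1.IsFT F₀) (hG₁ : CohB1.IsFP G₁) (p₁ : F₀ ⟶ G₁) (p₂ : F₀ ⟶ G₂) [Epi p₁] [Epi p₂] :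
    (∃ k : (Scheme.Modules.pullback (c.π.app i₀)).obj G₁ ⟶ (Scheme.Modules.pullback (c.π.app i₀)).obj G₂, (Scheme.Modules.pullback (c.π.app i₀)).map p₁ ≫ k = (Scheme.Modules.pullback (c.π.app i₀)).map p₂) ↔
      ∃ (j : I) (φ : j ⟶ i₀) (k : (Scheme.Modules.pullback (D.map φ)).obj G₁ ⟶ (Scheme.Modules.pullback (D.map φ)).obj G₂),
        (Scheme.Modules.pullback (D.map φ)).map p₁ ≫ k = (Scheme.Modules.pullback (D.map φ)).map p₂ := by
  obtain ⟨ι, _, V, hV, hcov⟩ := exists_cover (D.obj i₀)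
  haveI : F₀.IsQuasicoherent := (inferInstance : Coh.IsQCoh F₀)
  haveI : G₁.IsQuasicoherent := (inferInstance : Coh.IsQCoh G₁)
  haveI : G₂.IsQuasicoherent := (inferInstance : Coh.IsQCoh G₂)
  haveI : (kernel p₁).IsQuasicoherent := QCohBase.isQuasicoherent_kernel p₁ inferInstance inferInstance
  simp only [key]
  refine ⟨fun h => FlatFunLib.exists_stage_zero D c hc _ hV hcov (isFT_kernel hF₀ hG₁ p₁) h, fun ⟨j, φ, h⟩ => ?_⟩
  rw [← c.w φ]
  exact zero_comp_map _ _ _ h

end Groth.Agent.S4813
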