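import Groth.Statements.S4821
import Mathlib.RingTheory.MvPolynomial.Localization
import Mathlib.RingTheory.LocalRing.ResidueField.Ideal

set_option autoImplicit false
universe u
open Cons9

namespace Groth.Agent.S4821

/-- Let A be an integral domain with fraction field K, and (P_i) a finite family of polynomials in
A[T_1, …, T_m], generating an ideal 𝔞; for a point s of Spec A write 𝔞_s for the ideal of κ(s)[T_1,
…, T_m] generated by the images of the P_i. If the zero locus of 𝔞_η in affine m-space over K = κ(η)
is empty, that is if 𝔞_η is the unit ideal, then there is an open neighbourhood D(f) (f ≠ 0) of the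
generic point such that 𝔞_s is the unit ideal (its zero locus is empty) for every s in D(f). -/
theorem result {A : Type u} [CommRing A] [IsDomain A] {m : ℕ}
    (P : Finset (MvPolynomial (Fin m) A))
    (hη : Ideal.span ((MvPolynomial.map (algebraMap A (FractionRing A))) '' (P : Set (MvPolynomial (Fin m) A))) = ⊤) :
    ∃ f : A, f ≠ 0 ∧ ∀ p : PrimeSpectrum A, f ∉ p.asIdeal →
      Ideal.span ((MvPolynomial.map (algebraMap A p.asIdeal.ResidueField)) '' (P : Set (MvPolynomial (Fin m) A))) = ⊤ := by
  let K := FractionRing A
  let I : Ideal (MvPolynomial (Fin m) A) := Ideal.span (P : Set (MvPolynomial (Fin m) A))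
  let _ : Algebra (MvPolynomial (Fin m) A) (MvPolynomial (Fin m) K) := MvPolynomial.algebraMvPolynomial
  have hI : (1 : MvPolynomial (Fin m) K) ∈ I.map (algebraMap (MvPolynomial (Fin m) A) (MvPolynomial (Fin m) K)) := by
    have : I.map (MvPolynomial.map (algebraMap A K)) = ⊤ := by
      rw [Ideal.map_span]; exact hη
    change (1 : MvPolynomial (Fin m) K) ∈ I.map (MvPolynomial.map (algebraMap A K))
    rw [this]; trivial
  rw [IsLocalization.mem_map_algebraMap_iff ((nonZeroDivisors A).map (MvPolynomial.C (σ := Fin m)))] at hI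
  obtain ⟨⟨⟨x, hx⟩, ⟨_, d, hd, rfl⟩⟩, he⟩ := hI
  have hinj : Function.Injective (algebraMap (MvPolynomial (Fin m) A) (MvPolynomial (Fin m) K)) :=
    MvPolynomial.map_injective _ (IsFractionRing.injective A K)
  have hdI : MvPolynomial.C d ∈ I := by
    simp only [one_mul] at he
    exact hinj he ▸ hx
  refine ⟨d, nonZeroDivisors.ne_zero hd, fun p hp => ?_⟩
  rw [← Ideal.map_span]
  refine Ideal.eq_top_of_isUnit_mem _ (Ideal.mem_map_of_mem _ hdI) ?_
  rw [MvPolynomial.map_C]
  refine (IsUnit.mk0 _ ?_).map _
  rwa [Ne, Ideal.algebraMap_residueField_eq_zero]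

end Groth.Agent.S4821
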