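import Groth.Statements.S4827
import Groth.Agent.S3455
import Groth.Agent.ConsProp.FibreRel
set_option linter.style.haveILetI false
-- import your own Groth.Agent.* helpers here

set_option autoImplicit false
open CategoryTheory AlgebraicGeometry
universe u
open Cons9

namespace Groth.Agent.S4827

/-- Let f : X ⟶ S be a morphism of finite presentation (locally of finite presentation, quasi-compact
and quasi-separated). Then the set of points s of S whose fibre X_s is geometrically normal over
κ(s), i.e. such that for every extension field K of κ(s) all local rings of X_s ⊗_{κ(s)} K are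
integrally closed domains, is locally constructible in S. This is the case of geometric normality. -/
theorem result {X S : Scheme.{u}} (f : X ⟶ S)
    [LocallyOfFinitePresentation f] [QuasiCompact f] [QuasiSeparated f] :
    Topology.IsLocallyConstructible {s : S |
      ∀ (K : Type u) [Field K] [Algebra (IsLocalRing.ResidueField (S.presheaf.stalk s)) K]
        (x' : ↥(FBase.bc (f.fiberToSpecResidueField s) K)),
        IsDomain ((FBase.bc (f.fiberToSpecResidueField s) K).presheaf.stalk x') ∧
          IsIntegrallyClosed ((FBase.bc (f.fiberToSpecResidueField s) K).presheaf.stalk x')} := by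
  have h1 := f.isLocallyConstructible_image (ConsProp.isLocallyConstructible_compl (S3455.result f))
  refine (congrArg Topology.IsLocallyConstructible ?_).mp (ConsProp.isLocallyConstructible_compl h1)
  ext s
  constructor
  · intro hs K _ _ x'
    obtain ⟨x, hx⟩ : ∃ x, (FBase.bcπ (f.fiberToSpecResidueField s) K ≫ f.fiberι s) x' = x := ⟨_, rfl⟩
    have hfx : f x = s := by
      rw [← hx, Scheme.Hom.comp_apply]
      exact (f.range_fiberι s).le ⟨_, rfl⟩
    subst hfx
    by_contra hbad
    refine hs ⟨x, fun hgood => hbad (hgood K x' ?_), rfl⟩
    apply (f.fiberι (f x)).isEmbedding.injective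
    rw [Scheme.Hom.fiberι_asFiber]
    exact hx
  · rintro hs ⟨x, hx, rfl⟩
    exact hx fun K _ _ x' _ => hs K x'

end Groth.Agent.S4827
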