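import Groth.Statements.S4834
import Mathlib.Algebra.Category.ModuleCat.FilteredColimits
import Mathlib.CategoryTheory.Limits.ConcreteCategory.Basic
import Mathlib.CategoryTheory.Filtered.Basic
import Mathlib.LinearAlgebra.StdBasis
set_option linter.style.haveILetI false

set_option autoImplicit false
open CategoryTheory CategoryTheory.Limits
universe u
open Lim8

namespace Groth.Agent.S4834

/-- Let A be a commutative ring, M an A-module of finite type and (N_λ) an inductive system of A-modules
indexed by a nonempty directed preordered set. Then the canonical map colim_λ Hom_A(M, N_λ) →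
Hom_A(M, colim_λ N_λ), sending a compatible system of homomorphisms to its inductive limit, is
injective. This is the finite type case, in the form its proof gives. -/
theorem result {A : Type u} [CommRing A] (M : ModuleCat.{u} A)
    [Module.Finite A M] {J : Type u} [Preorder J] [IsDirected J (· ≤ ·)] [Nonempty J]
    (N : J ⥤ ModuleCat.{u} A) :
    Function.Injective (colimit.post N (coyoneda.obj (Opposite.op M))) := by
  classical
  obtain ⟨n, π, hπ⟩ := Module.Finite.exists_fin' A M
  haveI : IsFiltered J := ⟨⟩
  let G := coyoneda.obj (Opposite.op M)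
  have post : ∀ i (a : M ⟶ N.obj i), colimit.post N G (colimit.ι (N ⋙ G) i a) = a ≫ colimit.ι N i :=
    fun i a => ConcreteCategory.congr_hom (colimit.ι_post N G i) a
  have key : ∀ {i : J} (S : Finset (N.obj i)), (∀ y ∈ S, (colimit.ι N i).hom y = 0) →
      ∃ (k : J) (f : i ⟶ k), ∀ y ∈ S, (N.map f).hom y = 0 := by
    intro i S
    induction S using Finset.induction with
    | empty => exact fun _ => ⟨i, 𝟙 i, by simp⟩
    | insert y S hy ih =>
      intro h
      obtain ⟨k, f, hf⟩ := ih fun z hz => h z (Finset.mem_insert_of_mem hz)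
      obtain ⟨l, g, g', hg⟩ := Concrete.colimit_exists_of_rep_eq N (x := y) (y := (0 : N.obj i))
        ((h y (Finset.mem_insert_self y S)).trans (map_zero _).symm)
      obtain ⟨m, p, q, -⟩ : ∃ (m : J) (_ : k ⟶ m) (_ : l ⟶ m), True :=
        ⟨_, IsFiltered.leftToMax k l, IsFiltered.rightToMax k l, trivial⟩
      refine ⟨m, f ≫ p, fun z hz => ?_⟩
      rcases Finset.mem_insert.1 hz with rfl | hz
      · rw [Subsingleton.elim (f ≫ p) (g ≫ q), N.map_comp, ModuleCat.comp_apply, hg, map_zero, map_zero]
      · rw [N.map_comp, ModuleCat.comp_apply, hf z hz, map_zero]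
  intro x y hxy
  obtain ⟨i₁, a, rfl⟩ := Types.jointly_surjective' x
  obtain ⟨i₂, b, rfl⟩ := Types.jointly_surjective' y
  rw [post, post] at hxy
  let i := IsFiltered.max i₁ i₂
  let a' := a ≫ N.map (IsFiltered.leftToMax i₁ i₂)
  let b' := b ≫ N.map (IsFiltered.rightToMax i₁ i₂)
  have h0 : a' ≫ colimit.ι N i = b' ≫ colimit.ι N i := by
    refine (Category.assoc _ _ _).trans ?_
    refine Eq.trans ?_ (Category.assoc _ _ _).symm
    exact (congrArg (a ≫ ·) (colimit.w N (IsFiltered.leftToMax i₁ i₂))).trans
      (hxy.trans (congrArg (b ≫ ·) (colimit.w N (IsFiltered.rightToMax i₁ i₂))).symm)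
  let v : Fin n → N.obj i := fun l => a'.hom (π (Pi.single l 1)) - b'.hom (π (Pi.single l 1))
  obtain ⟨k, f, hf⟩ := key (Finset.univ.image v) (by
    intro z hz
    obtain ⟨l, -, rfl⟩ := Finset.mem_image.1 hz
    rw [map_sub, sub_eq_zero]
    exact congrArg (fun m : M ⟶ colimit N => m.hom (π (Pi.single l 1))) h0)
  have he : a' ≫ N.map f = b' ≫ N.map f := by
    refine ModuleCat.hom_ext ((LinearMap.cancel_right hπ).1 ((Pi.basisFun A (Fin n)).ext fun l => ?_))
    have h := hf _ (Finset.mem_image_of_mem v (Finset.mem_univ l))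
    rw [map_sub, sub_eq_zero] at h
    simpa using h
  exact (Types.FilteredColimit.colimit_eq_iff (N ⋙ G)).2
    ⟨k, IsFiltered.leftToMax i₁ i₂ ≫ f, IsFiltered.rightToMax i₁ i₂ ≫ f, by
      show a ≫ N.map _ = b ≫ N.map _
      rw [N.map_comp, N.map_comp, ← Category.assoc, ← Category.assoc]
      exact he⟩

end Groth.Agent.S4834
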