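import Groth.Statements.S4835
import Mathlib.Algebra.Category.ModuleCat.FilteredColimits
import Mathlib.CategoryTheory.Limits.ConcreteCategory.Basic
import Mathlib.CategoryTheory.Filtered.Basic
import Mathlib.LinearAlgebra.StdBasis
set_option linter.style.haveILetI false

set_option autoImplicit false
open CategoryTheory CategoryTheory.Limits
universe u
open Lim8

namespace Groth.Agent.S4835

/-- Let A be a commutative ring, M an A-module of finite presentation and (N_λ) an inductive system of
A-modules indexed by a nonempty directed preordered set. Then the canonical map colim_λ Hom_A(M,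
N_λ) → Hom_A(M, colim_λ N_λ), sending a compatible system of homomorphisms to its inductive limit,
is bijective. This is the form established in the source's proof (finite presentation case). -/
theorem result {A : Type u} [CommRing A] (M : ModuleCat.{u} A)
    [Module.FinitePresentation A M] {J : Type u} [Preorder J] [IsDirected J (· ≤ ·)] [Nonempty J]
    (N : J ⥤ ModuleCat.{u} A) :
    Function.Bijective (colimit.post N (coyoneda.obj (Opposite.op M))) := by
  classical
  obtain ⟨n, π, hπ⟩ := Module.Finite.exists_fin' A M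
  have hker : (LinearMap.ker π).FG := Module.FinitePresentation.fg_ker π hπ
  obtain ⟨T, hT⟩ := hker
  haveI : IsFiltered J := ⟨⟩
  let G := coyoneda.obj (Opposite.op M)
  have post : ∀ i (a : M ⟶ N.obj i), colimit.post N G (colimit.ι (N ⋙ G) i a) = a ≫ colimit.ι N i :=
    fun i a => ConcreteCategory.congr_hom (colimit.ι_post N G i) a
  have key : ∀ {i : J} (S : Finset (N.obj i)), (∀ y ∈ S, (colimit.ι N i).hom y = 0) →
      ∃ (k : J) (f : i ⟶ k), ∀ y ∈ S, (N.map f).hom y = 0 := by
    intro i S
    induction S using Finset.induction with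
    | empty => exact fun _ => ⟨i, 𝟙 i, by simp⟩
    | insert y S hy ih =>
      intro h
      obtain ⟨k, f, hf⟩ := ih fun z hz => h z (Finset.mem_insert_of_mem hz)
      obtain ⟨l, g, g', hg⟩ := Concrete.colimit_exists_of_rep_eq N (x := y) (y := (0 : N.obj i))
        ((h y (Finset.mem_insert_self y S)).trans (map_zero _).symm)
      obtain ⟨m, p, q, -⟩ : ∃ (m : J) (_ : k ⟶ m) (_ : l ⟶ m), True :=
        ⟨_, IsFiltered.leftToMax k l, IsFiltered.rightToMax k l, trivial⟩
      refine ⟨m, f ≫ p, fun z hz => ?_⟩
      rcases Finset.mem_insert.1 hz with rfl | hz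
      · rw [Subsingleton.elim (f ≫ p) (g ≫ q), N.map_comp, ModuleCat.comp_apply, hg, map_zero, map_zero]
      · rw [N.map_comp, ModuleCat.comp_apply, hf z hz, map_zero]
  refine ⟨fun x y hxy => ?_, fun φ => ?_⟩
  · obtain ⟨i₁, a, rfl⟩ := Types.jointly_surjective' x
    obtain ⟨i₂, b, rfl⟩ := Types.jointly_surjective' y
    rw [post, post] at hxy
    let i := IsFiltered.max i₁ i₂
    let a' := a ≫ N.map (IsFiltered.leftToMax i₁ i₂)
    let b' := b ≫ N.map (IsFiltered.rightToMax i₁ i₂)
    have h0 : a' ≫ colimit.ι N i = b' ≫ colimit.ι N i := by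
      refine (Category.assoc _ _ _).trans ?_
      refine Eq.trans ?_ (Category.assoc _ _ _).symm
      exact (congrArg (a ≫ ·) (colimit.w N (IsFiltered.leftToMax i₁ i₂))).trans
        (hxy.trans (congrArg (b ≫ ·) (colimit.w N (IsFiltered.rightToMax i₁ i₂))).symm)
    let v : Fin n → N.obj i := fun l => a'.hom (π (Pi.single l 1)) - b'.hom (π (Pi.single l 1))
    obtain ⟨k, f, hf⟩ := key (Finset.univ.image v) (by
      intro z hz
      obtain ⟨l, -, rfl⟩ := Finset.mem_image.1 hz
      rw [map_sub, sub_eq_zero]
      exact congrArg (fun m : M ⟶ colimit N => m.hom (π (Pi.single l 1))) h0)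
    have he : a' ≫ N.map f = b' ≫ N.map f := by
      refine ModuleCat.hom_ext ((LinearMap.cancel_right hπ).1 ((Pi.basisFun A (Fin n)).ext fun l => ?_))
      have h := hf _ (Finset.mem_image_of_mem v (Finset.mem_univ l))
      rw [map_sub, sub_eq_zero] at h
      simpa using h
    exact (Types.FilteredColimit.colimit_eq_iff (N ⋙ G)).2
      ⟨k, IsFiltered.leftToMax i₁ i₂ ≫ f, IsFiltered.rightToMax i₁ i₂ ≫ f, by
        show a ≫ N.map _ = b ≫ N.map _
        rw [N.map_comp, N.map_comp, ← Category.assoc, ← Category.assoc]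
        exact he⟩
  · let φ' : M ⟶ colimit N := φ
    choose J' w hw using fun l : Fin n => Concrete.colimit_exists_rep N (φ'.hom (π (Pi.single l 1)))
    obtain ⟨i, hi⟩ := IsFiltered.sup_objs_exists (Finset.univ.image J')
    let e : Fin n → N.obj i := fun l => (N.map (hi (Finset.mem_image_of_mem J' (Finset.mem_univ l))).some).hom (w l)
    let ψ : (Fin n → A) →ₗ[A] N.obj i := (Pi.basisFun A (Fin n)).constr A e
    have hψ : (colimit.ι N i).hom ∘ₗ ψ = φ'.hom ∘ₗ π := (Pi.basisFun A (Fin n)).ext fun l => by
      simp only [LinearMap.comp_apply, ψ, Module.Basis.constr_basis, e]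
      rw [← ModuleCat.comp_apply, colimit.w]
      simpa using hw l
    obtain ⟨k, f, hf⟩ := key (T.image ψ) (by
      intro z hz
      obtain ⟨r, hr, rfl⟩ := Finset.mem_image.1 hz
      have hr0 : π r = 0 := LinearMap.mem_ker.1 (hT.le (Submodule.subset_span hr))
      exact (LinearMap.congr_fun hψ r).trans ((congrArg φ'.hom hr0).trans (map_zero _)))
    have hle : LinearMap.ker π ≤ LinearMap.ker ((N.map f).hom ∘ₗ ψ) := by
      rw [← hT, Submodule.span_le]
      exact fun r hr => hf _ (Finset.mem_image_of_mem ψ hr)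
    let a : M →ₗ[A] N.obj k :=
      (Submodule.liftQ _ ((N.map f).hom ∘ₗ ψ) hle).comp (π.quotKerEquivOfSurjective hπ).symm.toLinearMap
    refine ⟨colimit.ι (N ⋙ G) k (ModuleCat.ofHom a), (post k _).trans ?_⟩
    refine ModuleCat.hom_ext (LinearMap.ext fun m => ?_)
    obtain ⟨r, rfl⟩ := hπ m
    have hq : (π.quotKerEquivOfSurjective hπ).symm (π r) = Submodule.Quotient.mk r :=
      (π.quotKerEquivOfSurjective hπ).symm_apply_eq.2 rfl
    show (colimit.ι N k).hom (a (π r)) = φ'.hom (π r)
    simp only [a, LinearMap.comp_apply, LinearEquiv.coe_coe, hq, Submodule.liftQ_apply]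
    rw [← ModuleCat.comp_apply, colimit.w]
    exact LinearMap.congr_fun hψ r

end Groth.Agent.S4835
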