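import Groth.Statements.S4837
import Groth.Agent.RelSpecLib.Basic

set_option linter.style.haveILetI false
set_option autoImplicit false
open CategoryTheory AlgebraicGeometry
universe u
open Lim8

namespace Groth.Agent.S4837

/-- Let f : X ⟶ Y be a quasi-compact quasi-separated morphism, C a quasi-coherent O_Y-algebra with
relative spectrum Z = Spec(C) over Y, g : X ⟶ Z a Y-morphism which is an immersion, and φ : C ⟶
f_*O_X the homomorphism of O_Y-algebras corresponding to g (the canonical identification of C with
the direct image of O_Z followed by the map induced by g). Then the scheme-theoretic image of g is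
the whole of Z, i.e. the kernel ideal of g vanishes, if and only if φ is injective; and when this
holds g is an open immersion. -/
theorem result {X Y : Scheme.{u}} (f : X ⟶ Y)
    [QuasiCompact f] [QuasiSeparated f] (C : RelSpec.QCAlg Y) (g : X ⟶ C.spec) (w : g ≫ C.π = f)
    [IsImmersion g] (φ : C ⟶ RelSpec.QCAlg.directImage f)
    (hφ : C.gammaMap ≫ φ.hom = AffAlg.algHom C.π f g w) :
    (g.ker = ⊥ ↔ ∀ U : Y.Opens, Function.Injective (φ.hom.app (Opposite.op U)).hom) ∧
      (g.ker = ⊥ → IsOpenImmersion g) := by
  haveI := RelSpecLib.isIso_gammaMap C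
  haveI : QuasiCompact (g ≫ C.π) := w ▸ inferInstance
  haveI : QuasiCompact g := QuasiCompact.of_comp g C.π
  have key : ∀ U : Y.Opens, Function.Injective (φ.hom.app (Opposite.op U)).hom ↔ Function.Injective (g.app (C.π ⁻¹ᵁ U)).hom := by
    intro U
    have h1 := NatTrans.congr_app hφ (Opposite.op U)
    subst w
    simp only [NatTrans.comp_app, AffAlg.algHom, eqToHom_refl, Category.comp_id] at h1
    have hb : Function.Bijective (C.gammaMap.app (Opposite.op U)).hom := ConcreteCategory.bijective_of_isIso (C.gammaMap.app (Opposite.op U))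
    have h2 : ⇑(φ.hom.app (Opposite.op U)).hom ∘ ⇑(C.gammaMap.app (Opposite.op U)).hom = ⇑(g.app (C.π ⁻¹ᵁ U)).hom :=
      funext fun a => RingHom.congr_fun (congrArg CommRingCat.Hom.hom h1) a
    rw [← h2]
    exact ⟨fun h => h.comp hb.1, fun h => Function.Injective.of_comp_right h hb.2⟩
  refine ⟨⟨fun h U => ?_, fun h => ?_⟩, fun h => ?_⟩
  · haveI : IsSchemeTheoreticallyDominant g := ⟨h⟩
    exact (key U).mpr (g.app_injective _)
  · refine Scheme.IdealSheafData.ext_of_iSup_eq_top (fun U : Y.affineOpens => (⟨C.π ⁻¹ᵁ U.1, U.2.preimage C.π⟩ : C.spec.affineOpens)) ?_ (fun U => ?_)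
    · rw [← Scheme.Hom.preimage_iSup, iSup_affineOpens_eq_top Y]
      rfl
    · rw [Scheme.Hom.ker_apply, Scheme.IdealSheafData.ideal_bot]
      exact (RingHom.injective_iff_ker_eq_bot _).mp ((key U.1).mp (h U.1))
  · haveI : IsSchemeTheoreticallyDominant g := ⟨h⟩
    haveI : QuasiCompact (g.liftCoborder ≫ g.coborderRange.ι) := g.liftCoborder_ι.symm ▸ inferInstance
    have hk : g.liftCoborder.ker = ⊥ := by
      refine Scheme.IdealSheafData.ext_of_iSup_eq_top (fun V : g.coborderRange.toScheme.affineOpens => V) (iSup_affineOpens_eq_top _) (fun V => ?_)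
      rw [Scheme.Hom.ker_apply, Scheme.IdealSheafData.ideal_bot]
      apply (RingHom.injective_iff_ker_eq_bot _).mp
      rw [liftCoborder_app]
      show Function.Injective (⇑(X.presheaf.map (eqToHom (g.liftCoborder_preimage V.1)).op).hom ∘ ⇑(g.app (g.coborderRange.ι ''ᵁ V.1)).hom)
      exact (ConcreteCategory.bijective_of_isIso (X.presheaf.map (eqToHom (g.liftCoborder_preimage V.1)).op)).1.comp (g.app_injective _)
    haveI : IsIso g.liftCoborder := IsClosedImmersion.isIso_iff_ker_eq_bot.mpr hk
    rw [← g.liftCoborder_ι]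
    infer_instance

end Groth.Agent.S4837
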