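import Groth.Statements.S4840
import Groth.Agent.FlatFunLib.LimitHom
import Groth.Agent.LimModEpi.Basic
import Groth.Agent.FlatFunLib.Stalk
import Groth.Agent.S4764
import Groth.Agent.QCohBase.Exact

set_option autoImplicit false
universe u
open CategoryTheory AlgebraicGeometry
open Lim8

namespace Groth.Agent.S4840

open CategoryTheory.Limits

theorem exists_cover (X : Scheme.{u}) [CompactSpace X] :
    ∃ (ι : Type u) (_ : Finite ι) (V : ι → X.Opens), (∀ k, IsAffineOpen (V k)) ∧ ∀ x : X, ∃ k, x ∈ V k := by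
  obtain ⟨t, ht⟩ := isCompact_univ.elim_finite_subcover
    (fun i : X.affineOpens => (i.1 : Set X)) (fun i => i.1.2) (fun y _ => by
      obtain ⟨W, hW, hx, -⟩ := exists_isAffineOpen_mem_and_subset (show y ∈ (⊤ : X.Opens) from trivial)
      exact Set.mem_iUnion.2 ⟨⟨W, hW⟩, hx⟩)
  refine ⟨t, inferInstance, fun i => i.1.1, fun i => i.1.2, fun x => ?_⟩
  obtain ⟨i, hi, hx⟩ : ∃ i ∈ t, x ∈ (i.1 : Set X) := by simpa using ht (Set.mem_univ x)
  exact ⟨⟨i, hi⟩, hx⟩

theorem zero_comp_map {X Y Z : Scheme.{u}} (a : X ⟶ Y) (b : Y ⟶ Z) {M N : Z.Modules} (v : M ⟶ N)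
    (h : (Scheme.Modules.pullback b).map v = 0) : (Scheme.Modules.pullback (a ≫ b)).map v = 0 := by
  have e := (Scheme.Modules.pullbackComp a b).hom.naturality v
  simp only [Functor.comp_map, h, Functor.map_zero, zero_comp] at e
  exact (cancel_epi ((Scheme.Modules.pullbackComp a b).hom.app M)).1 (e.symm.trans comp_zero.symm)

theorem key {X Y : Scheme.{u}} (a : X ⟶ Y) [Flat a] {F G H : Y.Modules} (f : F ⟶ G) (g : G ⟶ H) :
    (∃ w : (Scheme.Modules.pullback a).map f ≫ (Scheme.Modules.pullback a).map g = 0, (ShortComplex.mk _ _ w).Exact) ↔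
      (Scheme.Modules.pullback a).map (Limits.image.ι f ≫ g) = 0 ∧
      (Scheme.Modules.pullback a).map (kernel.ι g ≫ cokernel.π f) = 0 := by
  haveI : (Scheme.Modules.pullback a).IsLeftAdjoint := (Scheme.Modules.pullbackPushforwardAdjunction a).isLeftAdjoint
  set P := Scheme.Modules.pullback a with hP
  have hw : P.map f ≫ P.map g = 0 ↔ P.map (Limits.image.ι f ≫ g) = 0 := by
    rw [← Functor.map_comp, ← cancel_epi (P.map (factorThruImage f)) (g := P.map (Limits.image.ι f ≫ g)), comp_zero,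
      ← Functor.map_comp, image.fac_assoc]
  have hπ : P.map (cokernel.π f) ≫ (PreservesCokernel.iso P f).hom = cokernel.π (P.map f) := by
    rw [← Iso.eq_comp_inv]; simp
  have hk : P.map (kernel.ι g) ≫ P.map g = 0 := by rw [← Functor.map_comp, kernel.condition, Functor.map_zero]
  have h0 : kernel.ι g ≫ factorThruImage g = 0 := by
    rw [← cancel_mono (Limits.image.ι g), Category.assoc, image.fac, kernel.condition, zero_comp]
  have hex : (ShortComplex.mk (P.map (kernel.ι g)) (P.map g) hk).Exact := by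
    have h1 : (ShortComplex.mk (kernel.ι g) (factorThruImage g) h0).Exact := by
      refine (ShortComplex.exact_iff_of_epi_of_isIso_of_mono
        ({ τ₁ := 𝟙 _, τ₂ := 𝟙 _, τ₃ := Limits.image.ι g } : ShortComplex.mk (kernel.ι g) (factorThruImage g) h0 ⟶
          ShortComplex.mk (kernel.ι g) g (kernel.condition g))).2 ?_
      exact ShortComplex.exact_of_f_is_kernel _ (kernelIsKernel g)
    haveI : Mono (cokernel.desc (kernel.ι g) (factorThruImage g) h0) := h1.mono_cokernelDesc
    haveI : Epi (cokernel.π (kernel.ι g) ≫ cokernel.desc (kernel.ι g) (factorThruImage g) h0) := by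
      rw [cokernel.π_desc]; infer_instance
    haveI : Epi (cokernel.desc (kernel.ι g) (factorThruImage g) h0) := epi_of_epi (cokernel.π (kernel.ι g)) _
    haveI : IsIso (cokernel.desc (kernel.ι g) (factorThruImage g) h0) := isIso_of_mono_of_epi _
    have h2 : P.map (kernel.ι g) ≫ P.map (factorThruImage g) = 0 := by rw [← Functor.map_comp, h0, Functor.map_zero]
    have h3 : (ShortComplex.mk _ _ h2).Exact := by
      refine (ShortComplex.exact_iff_mono_cokernel_desc _).2 ?_
      have e : P.map (cokernel.desc (kernel.ι g) (factorThruImage g) h0) =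
          (PreservesCokernel.iso P (kernel.ι g)).hom ≫ cokernel.desc _ _ h2 := by
        rw [← Iso.inv_comp_eq]
        apply coequalizer.hom_ext
        simp [← Functor.map_comp]
      haveI : IsIso ((PreservesCokernel.iso P (kernel.ι g)).hom ≫ cokernel.desc _ _ h2) := e ▸ inferInstance
      haveI : IsIso (cokernel.desc _ _ h2) := IsIso.of_isIso_comp_left (PreservesCokernel.iso P (kernel.ι g)).hom _
      exact inferInstanceAs (Mono (cokernel.desc _ _ h2))
    haveI : Mono (P.map (Limits.image.ι g)) := FlatFunLib.mono_pullback a _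
    refine (ShortComplex.exact_iff_of_epi_of_isIso_of_mono
      ({ τ₁ := 𝟙 _, τ₂ := 𝟙 _, τ₃ := P.map (Limits.image.ι g), comm₂₃ := by simp [← Functor.map_comp] } :
        ShortComplex.mk _ _ h2 ⟶ ShortComplex.mk _ _ hk)).1 h3
  haveI : Epi (kernel.lift (P.map g) (P.map (kernel.ι g)) hk) := (ShortComplex.exact_iff_epi_kernel_lift _).1 hex
  have hc : (∀ w : P.map f ≫ P.map g = 0, (ShortComplex.mk _ _ w).Exact ↔ P.map (kernel.ι g ≫ cokernel.π f) = 0) := by
    intro w
    rw [ShortComplex.exact_iff_kernel_ι_comp_cokernel_π_zero,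
      ← cancel_epi (kernel.lift (P.map g) (P.map (kernel.ι g)) hk), comp_zero]
    dsimp only
    rw [kernel.lift_ι_assoc, ← hπ, ← Category.assoc, ← Functor.map_comp]
    exact ⟨fun h => (cancel_mono (PreservesCokernel.iso P f).hom).1 (h.trans zero_comp.symm), fun h => by rw [h, zero_comp]⟩
  exact ⟨fun ⟨w, h⟩ => ⟨hw.1 w, (hc w).1 h⟩, fun ⟨h1, h2⟩ => ⟨hw.2 h1, (hc _).2 h2⟩⟩

/-- Let S = lim S_i be a cofiltered limit of schemes whose transition maps are affine and flat, and
S_{i₀} a quasi-compact stage; let f₀ : F₀ ⟶ G₀ and g₀ : G₀ ⟶ H₀ be homomorphisms of quasi-coherent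
O-modules on S_{i₀} such that the image of f₀ and the kernel of g₀ are O-modules of finite type.
Then the pulled-back sequence F ⟶ G ⟶ H on S is exact (the composite is zero and the sequence is
exact at G) if and only if, for some index j over i₀, the pulled-back sequence F_j ⟶ G_j ⟶ H_j on
S_j is exact. -/
theorem result {I : Type u} [SmallCategory I] [IsCofiltered I]
    (D : I ⥤ Scheme.{u}) (c : Limits.Cone D) (hc : Limits.IsLimit c)
    [∀ (i j : I) (f : i ⟶ j), IsAffineHom (D.map f)] (i₀ : I) [CompactSpace (D.obj i₀)]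
    [∀ (i j : I) (f : i ⟶ j), Flat (D.map f)]
    {F₀ G₀ H₀ : (D.obj i₀).Modules} [Coh.IsQCoh F₀] [Coh.IsQCoh G₀] [Coh.IsQCoh H₀]
    (f₀ : F₀ ⟶ G₀) (g₀ : G₀ ⟶ H₀)
    (hIm : CohB1.IsFT (Limits.image f₀)) (hKer : CohB1.IsFT (Limits.kernel g₀)) :
    (∃ w : (Scheme.Modules.pullback (c.π.app i₀)).map f₀ ≫ (Scheme.Modules.pullback (c.π.app i₀)).map g₀ = 0, (ShortComplex.mk _ _ w).Exact) ↔
      ∃ (j : I) (φ : j ⟶ i₀) (w : (Scheme.Modules.pullback (D.map φ)).map f₀ ≫ (Scheme.Modules.pullback (D.map φ)).map g₀ = 0),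
        (ShortComplex.mk _ _ w).Exact := by
  haveI : Flat (c.π.app i₀) := Groth.Agent.S4764.result D c hc i₀ fun j φ => inferInstance
  obtain ⟨ι, _, V, hV, hcov⟩ := exists_cover (D.obj i₀)
  haveI : F₀.IsQuasicoherent := (inferInstance : Coh.IsQCoh F₀)
  haveI : G₀.IsQuasicoherent := (inferInstance : Coh.IsQCoh G₀)
  haveI : H₀.IsQuasicoherent := (inferInstance : Coh.IsQCoh H₀)
  haveI : (cokernel f₀).IsQuasicoherent := QCohBase.isQuasicoherent_cokernel f₀ inferInstance inferInstance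
  haveI : (kernel g₀).IsQuasicoherent := QCohBase.isQuasicoherent_of_exact_left
    (T := ShortComplex.mk (kernel.ι g₀) g₀ (kernel.condition g₀)) (ShortComplex.exact_of_f_is_kernel _ (kernelIsKernel g₀))
    ‹G₀.IsQuasicoherent› ‹H₀.IsQuasicoherent›
  have hz : Limits.image.ι f₀ ≫ cokernel.π f₀ = 0 := by
    rw [← cancel_epi (factorThruImage f₀), image.fac_assoc, cokernel.condition, comp_zero]
  haveI : (Limits.image f₀).IsQuasicoherent := QCohBase.isQuasicoherent_of_exact_left
    (T := ShortComplex.mk (Limits.image.ι f₀) (cokernel.π f₀) hz)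
    ((ShortComplex.exact_iff_of_epi_of_isIso_of_mono
      ({ τ₁ := factorThruImage f₀, τ₂ := 𝟙 _, τ₃ := 𝟙 _ } :
        ShortComplex.mk f₀ (cokernel.π f₀) (cokernel.condition f₀) ⟶ ShortComplex.mk (Limits.image.ι f₀) (cokernel.π f₀) hz)).1
      (ShortComplex.exact_of_g_is_cokernel _ (cokernelIsCokernel f₀)))
    ‹G₀.IsQuasicoherent› ‹(cokernel f₀).IsQuasicoherent›
  rw [key]
  constructor
  · rintro ⟨h1, h2⟩
    obtain ⟨j₁, φ₁, e1⟩ := FlatFunLib.exists_stage_zero D c hc _ hV hcov hIm h1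
    obtain ⟨j₂, φ₂, e2⟩ := FlatFunLib.exists_stage_zero D c hc _ hV hcov hKer h2
    obtain ⟨k, a, b, hab⟩ := IsCofiltered.cospan φ₁ φ₂
    refine ⟨k, a ≫ φ₁, (key (D.map (a ≫ φ₁)) f₀ g₀).2 ⟨?_, ?_⟩⟩
    · rw [D.map_comp]; exact zero_comp_map _ _ _ e1
    · rw [hab, D.map_comp]; exact zero_comp_map _ _ _ e2
  · rintro ⟨j, φ, h⟩
    obtain ⟨h1, h2⟩ := (key (D.map φ) f₀ g₀).1 h
    rw [← c.w φ]
    exact ⟨zero_comp_map _ _ _ h1, zero_comp_map _ _ _ h2⟩

end Groth.Agent.S4840
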