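import Groth.Statements.S4847
import Mathlib
import Groth.Agent.FlatCrit.BaseIdeal
import Groth.Agent.QuasiFlatLib.Basic

set_option autoImplicit false
universe u
open EGA43

namespace Groth.Agent.S4847

open TensorProduct in
theorem alg {A B C M : Type u} [CommRing A] [CommRing B] [CommRing C] [IsLocalRing A] [IsLocalRing B] [IsLocalRing C]
    [IsNoetherianRing A] [IsNoetherianRing B] [IsNoetherianRing C]
    [Algebra A B] [IsLocalHom (algebraMap A B)] [Algebra B C] [IsLocalHom (algebraMap B C)]
    [AddCommGroup M] [Module C M] [Module B M] [Module A M] [IsScalarTower B C M] [IsScalarTower A B M]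
    [Module.Finite C M] [Nontrivial M] :
    (Module.Flat A M ∧ Module.Flat (B ⧸ (IsLocalRing.maximalIdeal A).map (algebraMap A B))
      (M ⧸ ((IsLocalRing.maximalIdeal A).map (algebraMap A B) • (⊤ : Submodule B M)))) ↔
    Module.Flat A B ∧ Module.Flat B M := by
  let p := IsLocalRing.maximalIdeal A
  let I := p.map (algebraMap A B)
  let e : (B ⧸ I) ⊗[B] M ≃ₗ[B ⧸ I] M ⧸ (I • (⊤ : Submodule B M)) :=
    LinearEquiv.extendScalarsOfSurjective Ideal.Quotient.mk_surjective (TensorProduct.quotTensorEquivQuotSMul M I)
  constructor
  · rintro ⟨hc1, hc2⟩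
    haveI := hc1
    haveI : Module.Flat (B ⧸ I) ((B ⧸ I) ⊗[B] M) := haveI := hc2; Module.Flat.of_linearEquiv e
    have hI : I.map (algebraMap B C) ≤ Ideal.jacobson ⊥ := by
      rw [IsLocalRing.jacobson_eq_maximalIdeal ⊥ bot_ne_top]
      exact (Ideal.map_mono (IsLocalRing.map_maximalIdeal_le (algebraMap A B))).trans
        (IsLocalRing.map_maximalIdeal_le (algebraMap B C))
    haveI hM : Module.Flat B M := FlatCrit.flat_of_le_jacobson (S := C) hI
      (FlatCrit.lTensor_subtype_map_injective
        (Module.Flat.lTensor_preserves_injective_linearMap (R := A) (M := M) p.subtype Subtype.val_injective))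
    refine ⟨?_, hM⟩
    haveI : Module.FaithfullyFlat B M := ⟨fun {m} hm htop => by
      rw [IsLocalRing.eq_maximalIdeal hm] at htop
      have h1 : (IsLocalRing.maximalIdeal C) • (⊤ : Submodule C M) = ⊤ := by
        rw [eq_top_iff]
        intro z _
        have hz : z ∈ IsLocalRing.maximalIdeal B • (⊤ : Submodule B M) := by rw [htop]; exact Submodule.mem_top
        induction hz using Submodule.smul_induction_on' with
        | smul b hb y _ =>
          rw [← algebraMap_smul C b y]
          exact Submodule.smul_mem_smul (map_nonunit (algebraMap B C) b hb) Submodule.mem_top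
        | add a _ b _ ha hb => exact Submodule.add_mem _ (ha trivial) (hb trivial)
      exact (top_ne_bot : (⊤ : Submodule C M) ≠ ⊥) (Submodule.eq_bot_of_le_smul_of_le_jacobson_bot _ _
        (Module.Finite.fg_top) h1.ge (IsLocalRing.maximalIdeal_le_jacobson _))⟩
    letI : Field (A ⧸ p) := Ideal.Quotient.field p
    refine FlatCrit.flat_of_le_jacobson (S := B) (I := p) ?_ ?_
    · rw [IsLocalRing.jacobson_eq_maximalIdeal ⊥ bot_ne_top]
      exact IsLocalRing.map_maximalIdeal_le (algebraMap A B)
    let g := TensorProduct.AlgebraTensorModule.lTensor B B p.subtype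
    have hg : Function.Injective (g.lTensor M) := by
      let eJ := TensorProduct.AlgebraTensorModule.cancelBaseChange A B B M p
      let eA := TensorProduct.AlgebraTensorModule.cancelBaseChange A B B M A
      have key : ∀ z, eA (g.lTensor M z) = p.subtype.lTensor M (eJ z) := by
        intro z
        induction z with
        | zero => simp
        | add a b ha hb => simp only [map_add, ha, hb]
        | tmul x w =>
          induction w with
          | zero => simp
          | add a b ha hb => simp only [TensorProduct.tmul_add, map_add, ha, hb]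
          | tmul b j => simp [eA, eJ, g]
      intro x y hxy
      apply eJ.injective
      apply Module.Flat.lTensor_preserves_injective_linearMap (R := A) (M := M) p.subtype Subtype.val_injective
      rw [← key, ← key, hxy]
    exact (Module.FaithfullyFlat.lTensor_injective_iff_injective B M g).1 hg
  · rintro ⟨hd1, hd2⟩
    haveI := hd1; haveI := hd2
    exact ⟨Module.Flat.trans A B M, Module.Flat.of_linearEquiv e.symm⟩

open AlgebraicGeometry CategoryTheory Limits in
/-- Case 1° (fibrewise flatness criterion for locally Noetherian schemes): let S, X and Y be locally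
Noetherian schemes, f : X ⟶ Y and h : Y ⟶ S arbitrary morphisms, F a coherent O_X-module and x a
point of X with images y in Y and s in S, such that the stalk F_x is nonzero. Then F is flat over S
at x and F_x / m_s F_x is flat over O_{Y,y} / m_s O_{Y,y} (that is, the fibre module F_s is flat
over the fibre Y_s at x) if and only if h is flat at y and F is flat over Y at x. No finiteness
hypothesis on f or h is required in this case. -/
theorem result {X Y S : Scheme.{u}}
    [IsLocallyNoetherian X] [IsLocallyNoetherian Y] [IsLocallyNoetherian S]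
    (f : X ⟶ Y) (h : Y ⟶ S) (F : X.Modules) (hF : Coh.IsCoh F) (x : X)
    (hx : Nontrivial ↑(F.presheaf.stalk x)) :
    letI := FlatMod.moduleStalkOver f F x
    (FlatMod.IsFlatOverAt (f ≫ h) F x ∧
      Module.Flat (↑(Y.presheaf.stalk (f x)) ⧸ Ideal.map (h.stalkMap (f x)).hom (IsLocalRing.maximalIdeal ↑(S.presheaf.stalk (h (f x)))))
        (↑(F.presheaf.stalk x) ⧸ (Ideal.map (h.stalkMap (f x)).hom (IsLocalRing.maximalIdeal ↑(S.presheaf.stalk (h (f x)))) •
          (⊤ : Submodule ↑(Y.presheaf.stalk (f x)) ↑(F.presheaf.stalk x))))) ↔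
    ((h.stalkMap (f x)).hom.Flat ∧ FlatMod.IsFlatOverAt f F x) := by
  haveI := hx
  letI := FlatMod.moduleStalkOver f F x
  let A := S.presheaf.stalk (h (f x))
  let B := Y.presheaf.stalk (f x)
  let C := X.presheaf.stalk x
  letI : Algebra A B := (h.stalkMap (f x)).hom.toAlgebra
  letI : Algebra B C := (f.stalkMap x).hom.toAlgebra
  haveI : IsLocalHom (algebraMap A B) := inferInstanceAs (IsLocalHom (h.stalkMap (f x)).hom)
  haveI : IsLocalHom (algebraMap B C) := inferInstanceAs (IsLocalHom (f.stalkMap x).hom)
  letI : Module A (F.presheaf.stalk x) := Module.compHom _ (h.stalkMap (f x)).hom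
  haveI : IsScalarTower A B (F.presheaf.stalk x) := IsScalarTower.of_algebraMap_smul fun _ _ => rfl
  haveI : IsScalarTower B C (F.presheaf.stalk x) := IsScalarTower.of_algebraMap_smul fun _ _ => rfl
  haveI : Module.Finite C (F.presheaf.stalk x) := QuasiFlatLib.finite_stalk F hF x
  have e1 : FlatMod.IsFlatOverAt (f ≫ h) F x ↔ Module.Flat A (F.presheaf.stalk x) := by
    have hm : (Module.compHom (F.presheaf.stalk x) ((f ≫ h).stalkMap x).hom : Module A (F.presheaf.stalk x)) =
        ‹Module A (F.presheaf.stalk x)› := by
      refine Module.ext' _ _ fun a m => ?_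
      show ((f ≫ h).stalkMap x).hom a • m = (f.stalkMap x).hom ((h.stalkMap (f x)).hom a) • m
      rw [Scheme.Hom.stalkMap_comp]
      rfl
    unfold FlatMod.IsFlatOverAt FlatMod.moduleStalkOver
    exact iff_of_eq (congrArg (fun inst => @Module.Flat A (F.presheaf.stalk x) _ _ inst) hm)
  rw [e1]
  exact alg (A := A) (B := B) (C := C) (M := F.presheaf.stalk x)

end Groth.Agent.S4847
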