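import Groth.Statements.S4848
import Mathlib
import Groth.Agent.FlatLocus.Model
import Groth.Agent.ModModel.Basic
import Groth.Agent.LimSch.DescendsFlat
import Groth.Agent.FlatStage.Directed

set_option autoImplicit false
universe u
open TensorProduct
open EGA43

namespace Groth.Agent.S4848

attribute [local instance] MvPolynomial.algebraMvPolynomial

/-- Let A₀ be a commutative ring, (A_i) a directed system of A₀-algebras with colimit A, B₀ a finitely
presented A₀-algebra and M₀ a finitely presented B₀-module. Then the A-module A ⊗_{A₀} M₀ is flat if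
and only if, for some index i, the A_i-module A_i ⊗_{A₀} M₀ is flat. -/
theorem result {A₀ : Type u} [CommRing A₀]
    {ι : Type u} [Preorder ι] (G : ι → Type u) [∀ i, CommRing (G i)] [∀ i, Algebra A₀ (G i)]
    (g : ∀ i j, i ≤ j → G i →ₐ[A₀] G j)
    (A : Type u) [CommRing A] [Algebra A₀ A] [∀ i, Algebra (G i) A] [∀ i, IsScalarTower A₀ (G i) A]
    (hcolim : FlatCA.IsDirectedColimitRing G (fun i j h => (g i j h).toRingHom) A)
    {B₀ : Type u} [CommRing B₀] [Algebra A₀ B₀] [Algebra.FinitePresentation A₀ B₀]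
    (M₀ : Type u) [AddCommGroup M₀] [Module B₀ M₀] [Module A₀ M₀] [IsScalarTower A₀ B₀ M₀]
    [Module.FinitePresentation B₀ M₀] :
    Module.Flat A (A ⊗[A₀] M₀) ↔ ∃ i : ι, Module.Flat (G i) (G i ⊗[A₀] M₀) := by
  classical
  refine ⟨fun hflat => ?_, fun ⟨i, _⟩ => Module.Flat.of_linearEquiv
    (TensorProduct.AlgebraTensorModule.cancelBaseChange A₀ (G i) A A M₀).symm⟩
  obtain ⟨hd, hs, hk⟩ := FlatStage.directed_of_isDirectedColimitRing
    (fun i j h => (g i j h).comp_algebraMap) hcolim
  have : Nonempty ι := hcolim.2.1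
  obtain ⟨n, φ, hφ, hker⟩ := Algebra.FinitePresentation.out (R := A₀) (A := B₀)
  let _ : Algebra (MvPolynomial (Fin n) A₀) B₀ := φ.toRingHom.toAlgebra
  let _ : Module (MvPolynomial (Fin n) A₀) M₀ := Module.compHom M₀ φ.toRingHom
  have : IsScalarTower (MvPolynomial (Fin n) A₀) B₀ M₀ := IsScalarTower.of_compHom _ _ M₀
  have : IsScalarTower A₀ (MvPolynomial (Fin n) A₀) M₀ := IsScalarTower.of_algebraMap_smul fun x z => by
    show φ (algebraMap A₀ _ x) • z = x • z
    rw [φ.commutes, algebraMap_smul]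
  have : Module.FinitePresentation (MvPolynomial (Fin n) A₀) B₀ :=
    Module.finitePresentation_of_surjective (Algebra.linearMap (MvPolynomial (Fin n) A₀) B₀) hφ (by exact hker)
  have : Module.FinitePresentation (MvPolynomial (Fin n) A₀) M₀ := Module.FinitePresentation.trans _ M₀ B₀
  obtain ⟨R, hR, -, M₁, _, _, _, ⟨e⟩⟩ := FlatLocus.exists_module_model n M₀ (∅ : Finset A₀)
  have : Algebra.FiniteType ℤ R := R.fg_iff_finiteType.mp hR
  have : IsNoetherianRing R := Algebra.FiniteType.isNoetherianRing ℤ R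
  let _ : Module R M₁ := Module.compHom M₁ (algebraMap R (MvPolynomial (Fin n) R))
  have : IsScalarTower R (MvPolynomial (Fin n) R) M₁ := IsScalarTower.of_compHom _ _ M₁
  let e₀ : M₀ ≃ₗ[A₀] A₀ ⊗[R] M₁ := (e.symm.restrictScalars A₀).trans
    (Algebra.IsPushout.cancelBaseChange R A₀ (MvPolynomial (Fin n) R) (MvPolynomial (Fin n) A₀) M₁)
  have : IsScalarTower R A₀ A := IsScalarTower.of_algebraMap_eq fun x => rfl
  have cb : ∀ (T : Type u) [CommRing T] [Algebra A₀ T],
      Nonempty (T ⊗[A₀] M₀ ≃ₗ[T] T ⊗[R] M₁) := fun T _ _ =>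
    have : IsScalarTower R A₀ T := IsScalarTower.of_algebraMap_eq fun x => rfl
    ⟨(LinearEquiv.baseChange A₀ T _ _ e₀).trans (TensorProduct.AlgebraTensorModule.cancelBaseChange R A₀ T T M₁)⟩
  have hA : Module.Flat A (A ⊗[R] M₁) := Module.Flat.of_linearEquiv (cb A).some.symm
  obtain ⟨s, hsS⟩ := ModModel.exists_flat_subalgebra_module (A := R) (R := A) (MvPolynomial (Fin n) R) M₁
  let T : Subalgebra R A := Algebra.adjoin R (s : Set A)
  have hft : Algebra.FiniteType R T := Algebra.FiniteType.adjoin_of_finite s.finite_toSet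
  have : Module.Flat T (T ⊗[R] M₁) := hsS T Algebra.subset_adjoin hft
  have : Algebra.FinitePresentation R T := Algebra.FinitePresentation.of_finiteType.mp hft
  obtain ⟨m, π, hπ, K, hK⟩ := ‹Algebra.FinitePresentation R T›
  obtain ⟨i₀⟩ := ‹Nonempty ι›
  let B := EtSmColim.baseSys (g := fun i => IsScalarTower.toAlgHom A₀ (G i) A) hs hk
  obtain ⟨j, -, y, hy⟩ := B.lift_finset hd (Finset.univ : Finset (Fin m)) i₀
    fun k => ((π (MvPolynomial.X k) : T) : A)
  have : ∀ i, IsScalarTower R A₀ (G i) := fun i => IsScalarTower.of_algebraMap_eq fun x => rfl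
  let φj : MvPolynomial (Fin m) R →ₐ[R] G j := MvPolynomial.aeval y
  have hφj : ((IsScalarTower.toAlgHom A₀ (G j) A).restrictScalars R).comp φj = T.val.comp π :=
    MvPolynomial.algHom_ext fun k => by
      simp [φj]
      exact hy k (Finset.mem_univ k)
  obtain ⟨l, a, ha⟩ := B.kill_finset K (i := j) (fun p => φj p) fun p hp => by
    have h0 : π p = 0 := RingHom.mem_ker.mp (hK ▸ Ideal.subset_span hp : p ∈ RingHom.ker π.toRingHom)
    show IsScalarTower.toAlgHom A₀ (G j) A (φj p) = 0
    have := AlgHom.congr_fun hφj p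
    simp only [AlgHom.comp_apply, AlgHom.restrictScalars_apply, h0, map_zero] at this
    exact this
  let φl : MvPolynomial (Fin m) R →ₐ[R] G l := (a.hom.restrictScalars R).comp φj
  have hker' : RingHom.ker π.toRingHom ≤ RingHom.ker φl.toRingHom := by
    rw [← hK, Ideal.span_le]
    exact fun p hp => RingHom.mem_ker.mpr (ha p hp)
  let ψ : T →ₐ[R] G l := (Ideal.Quotient.liftₐ _ φl fun p hp => RingHom.mem_ker.mp (hker' hp)).comp
    (Ideal.quotientKerAlgEquivOfSurjective hπ).symm.toAlgHom
  let _ : Algebra T (G l) := ψ.toRingHom.toAlgebra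
  have : IsScalarTower R T (G l) := IsScalarTower.of_algebraMap_eq fun x => (ψ.commutes x).symm
  have : Module.Flat (G l) (G l ⊗[R] M₁) :=
    Module.Flat.of_linearEquiv (TensorProduct.AlgebraTensorModule.cancelBaseChange R T (G l) (G l) M₁).symm
  exact ⟨l, Module.Flat.of_linearEquiv (cb (G l)).some⟩

end Groth.Agent.S4848
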