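import Groth.Statements.S4850
import Mathlib
import Groth.Agent.FlatInjCoker.Scheme

set_option autoImplicit false
universe u
open EGA43

namespace Groth.Agent.S4850

open AlgebraicGeometry CategoryTheory Limits in
/-- Equivalence of a: and b)): let f : X ⟶ Y be locally of finite presentation, F and F' quasi-coherent
O_X-modules of finite presentation, u : F' ⟶ F a homomorphism and x a point with y = f x, such that
F is f-flat at x. Then the stalk map u_x is injective and Coker u is f-flat at x, if and only if u_x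
induces an injective map F'_x / m_y F'_x → F_x / m_y F_x. The second condition is written out: an
element of F'_x whose image under u_x lies in m_y F_x already lies in m_y F'_x. (The vanishing of
the stalk (Ker u)_x is expressed as injectivity of u_x.) -/
theorem result {X Y : Scheme.{u}} (f : X ⟶ Y)
    [LocallyOfFinitePresentation f] (F F' : X.Modules) [Coh.IsQCoh F] [Coh.IsQCoh F']
    (hF : CohB1.IsFP F) (hF' : CohB1.IsFP F') (u : F' ⟶ F) (x : X) (hflat : FlatMod.IsFlatOverAt f F x) :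
    letI J : Ideal ↑(X.presheaf.stalk x) :=
      Ideal.map (f.stalkMap x).hom (IsLocalRing.maximalIdeal ↑(Y.presheaf.stalk (f x)))
    letI ux := (TopCat.Presheaf.stalkFunctor Ab x).map (Scheme.Modules.Hom.mapPresheaf u)
    (Function.Injective ux ∧ FlatMod.IsFlatOverAt f (cokernel u) x) ↔
      ∀ m : ↑(F'.presheaf.stalk x),
        ux m ∈ (J • (⊤ : Submodule ↑(X.presheaf.stalk x) ↑(F.presheaf.stalk x))) →
          m ∈ (J • (⊤ : Submodule ↑(X.presheaf.stalk x) ↑(F'.presheaf.stalk x))) := by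
  classical
  let J : Ideal (X.presheaf.stalk x) := Ideal.map (f.stalkMap x).hom (IsLocalRing.maximalIdeal (Y.presheaf.stalk (f x)))
  let ux := (TopCat.Presheaf.stalkFunctor Ab x).map (Scheme.Modules.Hom.mapPresheaf u)
  haveI : F.IsQuasicoherent := ‹Coh.IsQCoh F›
  haveI : F'.IsQuasicoherent := ‹Coh.IsQCoh F'›
  obtain ⟨W, hxW, hW⟩ := QCohBase.exists_affine_finitePresentation F hF x
  obtain ⟨W', hxW', hW'⟩ := QCohBase.exists_affine_finitePresentation F' hF' x
  obtain ⟨_, ⟨V, hV, rfl⟩, hfx, -⟩ :=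
    Y.isBasis_affineOpens.exists_subset_of_mem_open (Set.mem_univ (f x)) isOpen_univ
  obtain ⟨_, ⟨U, hU, rfl⟩, hxU, hle⟩ :=
    X.isBasis_affineOpens.exists_subset_of_mem_open (show x ∈ W ⊓ W' ⊓ f ⁻¹ᵁ V from ⟨⟨hxW, hxW'⟩, hfx⟩)
      (W ⊓ W' ⊓ f ⁻¹ᵁ V).2
  have e : U ≤ f ⁻¹ᵁ V := fun y hy => (hle hy).2
  haveI := hW U hU fun y hy => (hle hy).1.1
  haveI := hW' U hU fun y hy => (hle hy).1.2
  letI : Algebra Γ(Y, V) Γ(X, U) := (f.appLE V U e).hom.toAlgebra
  letI := FlatOver.baseModule f F e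
  haveI : IsScalarTower Γ(Y, V) Γ(X, U) Γ(F, U) := .of_algebraMap_smul fun _ _ ↦ rfl
  haveI : Algebra.FinitePresentation Γ(Y, V) Γ(X, U) := Scheme.Hom.finitePresentation_appLE f hV hU e
  let q := (hU.primeIdealOf ⟨x, hxU⟩).asIdeal
  haveI : Module.Flat Γ(Y, V) (LocalizedModule q.primeCompl Γ(F, U)) :=
    (FlatOverBC.isFlatOverAt_iff_localized f F e hU hV x hxU).1 hflat
  let N := Γ(F, U); let M := Γ(F', U)
  let u₀ := QCohBase.appL u U
  let I := (q.comap (algebraMap Γ(Y, V) Γ(X, U))).map (algebraMap Γ(Y, V) Γ(X, U))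
  have key : (∀ m : F'.presheaf.stalk x, ux m ∈ (J • (⊤ : Submodule (X.presheaf.stalk x) (F.presheaf.stalk x))) →
      m ∈ (J • (⊤ : Submodule (X.presheaf.stalk x) (F'.presheaf.stalk x)))) ↔
      FlatInjCoker.FibInj Γ(Y, V) u₀ q := by
    constructor
    · intro h s hs
      apply (FlatInjCoker.germ_mem_fibre_iff F' f e hU hV x hxU s).1
      refine h (F'.presheaf.germ U x hxU s) ?_
      have h1 := FlatInjCoker.stalk_map_germ u x hxU s
      rw [show ux (F'.presheaf.germ U x hxU s) = _ from h1]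
      exact (FlatInjCoker.germ_mem_fibre_iff F f e hU hV x hxU _).2 ⟨1, q.primeCompl.one_mem, by rwa [one_smul]⟩
    · intro h m hm
      obtain ⟨g, s, hg, hs⟩ := Groth.Agent.AssPts.exists_germ_smul_eq F' hU x hxU m
      obtain ⟨v, hv⟩ := (Groth.Agent.AssPts.notMem_prime_iff hU x hxU g).1 hg
      have hs' : v.1 • m = F'.presheaf.germ U x hxU s := by
        rw [← hs, ← hv]
      have h2 : RefHull.stalkMapₗ u x (v.1 • m) ∈ J • (⊤ : Submodule (X.presheaf.stalk x) (F.presheaf.stalk x)) := by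
        rw [map_smul]; exact Submodule.smul_mem _ _ hm
      rw [hs', RefHull.stalkMapₗ_germ] at h2
      obtain ⟨c, hc, hcs⟩ := (FlatInjCoker.germ_mem_fibre_iff F f e hU hV x hxU _).1 h2
      obtain ⟨d, hd, hds⟩ := h (c • s) (by rw [map_smul]; exact hcs)
      have h3 : F'.presheaf.germ U x hxU s ∈ J • (⊤ : Submodule (X.presheaf.stalk x) (F'.presheaf.stalk x)) :=
        (FlatInjCoker.germ_mem_fibre_iff F' f e hU hV x hxU s).2
          ⟨d * c, q.primeCompl.mul_mem hd hc, by rw [mul_smul]; exact hds⟩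
      rw [← hs'] at h3
      have h4 := Submodule.smul_mem _ v⁻¹.1 h3
      rwa [smul_smul, Units.inv_mul, one_smul] at h4
  refine Iff.trans ?_ key.symm
  refine (FlatInjCoker.injFlat_iff f e u hU hV x hxU).trans ⟨fun h s hs => ?_, FlatInjCoker.injFlat u₀ q⟩
  exact FlatInjCoker.fibInj_of_injFlat u₀ q h s hs

end Groth.Agent.S4850
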