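import Groth.Statements.S4851
import Mathlib
import Groth.Agent.FlatInjCoker.Scheme

set_option autoImplicit false
universe u
open EGA43

namespace Groth.Agent.S4851

open AlgebraicGeometry CategoryTheory Limits in
/-- Let f : X ⟶ Y be locally of finite presentation, F and F' quasi-coherent O_X-modules of finite
presentation and u : F' ⟶ F a homomorphism. Then the set of points x of X at which the stalk map u_x
is injective and Coker u is f-flat at x is open in X. (No flatness hypothesis on F is made; the form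
of this openness statement in which F is moreover assumed f-flat is a special case.) -/
theorem result {X Y : Scheme.{u}} (f : X ⟶ Y)
    [LocallyOfFinitePresentation f] (F F' : X.Modules) [Coh.IsQCoh F] [Coh.IsQCoh F']
    (hF : CohB1.IsFP F) (hF' : CohB1.IsFP F') (u : F' ⟶ F) :
    IsOpen {x : X | Function.Injective ((TopCat.Presheaf.stalkFunctor Ab x).map (Scheme.Modules.Hom.mapPresheaf u)) ∧
      FlatMod.IsFlatOverAt f (cokernel u) x} := by
  classical
  haveI : F.IsQuasicoherent := ‹Coh.IsQCoh F›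
  haveI : F'.IsQuasicoherent := ‹Coh.IsQCoh F'›
  rw [isOpen_iff_forall_mem_open]
  intro x hx
  obtain ⟨W, hxW, hW⟩ := QCohBase.exists_affine_finitePresentation F hF x
  obtain ⟨W', hxW', hW'⟩ := QCohBase.exists_affine_finitePresentation F' hF' x
  obtain ⟨_, ⟨V, hV, rfl⟩, hfx, -⟩ :=
    Y.isBasis_affineOpens.exists_subset_of_mem_open (Set.mem_univ (f x)) isOpen_univ
  obtain ⟨_, ⟨U, hU, rfl⟩, hxU, hle⟩ :=
    X.isBasis_affineOpens.exists_subset_of_mem_open (show x ∈ W ⊓ W' ⊓ f ⁻¹ᵁ V from ⟨⟨hxW, hxW'⟩, hfx⟩)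
      (W ⊓ W' ⊓ f ⁻¹ᵁ V).2
  have e : U ≤ f ⁻¹ᵁ V := fun y hy => (hle hy).2
  haveI := hW U hU fun y hy => (hle hy).1.1
  haveI := hW' U hU fun y hy => (hle hy).1.2
  letI : Algebra Γ(Y, V) Γ(X, U) := (f.appLE V U e).hom.toAlgebra
  letI := FlatOver.baseModule f F e
  haveI : IsScalarTower Γ(Y, V) Γ(X, U) Γ(F, U) := .of_algebraMap_smul fun _ _ ↦ rfl
  haveI : Algebra.FinitePresentation Γ(Y, V) Γ(X, U) := Scheme.Hom.finitePresentation_appLE f hV hU e
  obtain ⟨g, hg, hg'⟩ := FlatInjCoker.exists_injFlat_away (R := Γ(Y, V)) (QCohBase.appL u U)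
    (hU.primeIdealOf ⟨x, hxU⟩).asIdeal ((FlatInjCoker.injFlat_iff f e u hU hV x hxU).1 hx)
  refine ⟨hU.fromSpec '' (PrimeSpectrum.basicOpen g : Set (PrimeSpectrum Γ(X, U))), ?_,
    hU.fromSpec.isOpenEmbedding.isOpenMap _ (PrimeSpectrum.basicOpen g).2,
    hU.primeIdealOf ⟨x, hxU⟩, hg, hU.fromSpec_primeIdealOf _⟩
  rintro _ ⟨q, hq, rfl⟩
  have hy : hU.fromSpec q ∈ U := hU.range_fromSpec.le ⟨q, rfl⟩
  have heq : hU.primeIdealOf ⟨_, hy⟩ = q :=
    hU.fromSpec.isOpenEmbedding.injective (hU.fromSpec_primeIdealOf _)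
  refine (FlatInjCoker.injFlat_iff f e u hU hV _ hy).2 ?_
  refine hg' _ ?_
  rw [heq]
  exact hq

end Groth.Agent.S4851
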