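import Groth.Statements.S4852
import Groth.Agent.FlatBasics.DeformAlg
import Groth.Agent.FlatCrit.Basic
import Mathlib

set_option autoImplicit false
universe u
open TensorProduct
open EGA43

namespace Groth.Agent.S4852

open TensorProduct

theorem flat_local {A : Type u} [CommRing A] (m : Ideal A) [m.IsMaximal] (hnil : IsNilpotent m)
    {ι : Type u} (B : ι → Type u) [∀ i, CommRing (B i)] [∀ i, Algebra A (B i)]
    (hB : ∀ a : A, (∀ i, algebraMap A (B i) a = 0) → a = 0)
    (M : Type u) [AddCommGroup M] [Module A M] (h : ∀ i, Module.Flat (B i) (B i ⊗[A] M)) :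
    Module.Flat A M := by
  classical
  letI := Ideal.Quotient.field m
  let M0 := M ⧸ (m • (⊤ : Submodule A M))
  let b := Module.Free.chooseBasis (A ⧸ m) M0
  let J := Module.Free.ChooseBasisIndex (A ⧸ m) M0
  choose v hv using fun j : J => Submodule.Quotient.mk_surjective (m • (⊤ : Submodule A M)) (b j)
  let F := J →₀ A
  let φ : F →ₗ[A] M := Finsupp.linearCombination A v
  let ψ : M →ₗ[A] (J →₀ A ⧸ m) := (b.repr.toLinearMap.restrictScalars A).comp (Submodule.mkQ _)
  have hψφ : ψ.comp φ = Finsupp.mapRange.linearMap (Submodule.mkQ m) := by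
    refine Finsupp.lhom_ext fun j a => ?_
    rw [LinearMap.comp_apply, Finsupp.linearCombination_single, map_smul, Finsupp.mapRange.linearMap_apply,
      Finsupp.mapRange_single]
    show a • b.repr (Submodule.Quotient.mk (v j)) = _
    rw [hv, b.repr_self, Finsupp.smul_single]
    exact congrArg _ (by rw [Algebra.smul_def, mul_one]; rfl)
  have hsurjψ : Function.Surjective (ψ.comp φ) := by
    rw [hψφ]
    exact Finsupp.mapRange_surjective _ (map_zero _) (Submodule.mkQ_surjective m)
  have hφ : Function.Surjective φ := by
    rw [← LinearMap.range_eq_top]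
    refine FlatBasics.eq_top_of_sup_smul_top_of_isNilpotent hnil ?_
    rw [eq_top_iff]
    intro z _
    obtain ⟨c, hc⟩ := hsurjψ (ψ z)
    have : (Submodule.Quotient.mk (φ c) : M0) = Submodule.Quotient.mk z := b.repr.injective hc
    exact Submodule.mem_sup.2 ⟨φ c, ⟨c, rfl⟩, z - φ c, (Submodule.Quotient.eq _).1 this.symm, by abel⟩
  have hinj : Function.Injective φ := by
    rw [injective_iff_map_eq_zero]
    intro c hc
    suffices ∀ i, (1 : B i) ⊗ₜ[A] c = 0 by
      ext j
      refine hB _ fun i => ?_
      have := congrArg (fun z => TensorProduct.finsuppScalarRight A A (B i) J z j) (this i)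
      rw [map_zero, Finsupp.zero_apply] at this
      rw [TensorProduct.finsuppScalarRight_apply_tmul_apply] at this
      rw [Algebra.algebraMap_eq_smul_one]
      exact this
    intro i
    let φB := φ.baseChange (B i)
    have hsurj : Function.Surjective φB := LinearMap.lTensor_surjective (B i) hφ
    let mB := m.map (algebraMap A (B i))
    have hmB : IsNilpotent mB := by
      obtain ⟨n, hn⟩ := hnil
      exact ⟨n, by rw [← Ideal.map_pow, hn, Ideal.zero_eq_bot, Ideal.map_bot]; rfl⟩
    let K := LinearMap.ker φB
    letI : AddCommGroup ↥K := Submodule.addCommGroup _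
    suffices hK : K = ⊥ by
      have : (1 : B i) ⊗ₜ[A] c ∈ K := by simp [K, φB, hc]
      rwa [hK, Submodule.mem_bot] at this
    haveI := h i
    have hle : K ≤ mB • (⊤ : Submodule (B i) (B i ⊗[A] F)) := by
      intro z hz
      letI : AddCommGroup ↥(LinearMap.ker (ψ.comp φ)) := Submodule.addCommGroup _
      have hex : Function.Exact (LinearMap.ker (ψ.comp φ)).subtype (ψ.comp φ) := LinearMap.exact_subtype_ker_map _
      have hz0 : (ψ.comp φ).lTensor (B i) z = 0 := by
        rw [LinearMap.lTensor_comp_apply]
        exact (congrArg _ (show φ.lTensor (B i) z = 0 from LinearMap.mem_ker.1 hz)).trans (map_zero _)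
      obtain ⟨y, rfl⟩ := (_root_.lTensor_exact (B i) hex hsurjψ z).1 hz0
      clear hz hz0
      induction y with
      | zero => simp
      | add x y hx hy => rw [map_add]; exact add_mem hx hy
      | tmul r c =>
        rw [LinearMap.lTensor_tmul, Submodule.subtype_apply, ← Finsupp.sum_single (c : F), Finsupp.sum,
          TensorProduct.tmul_sum]
        refine Submodule.sum_mem _ fun j _ => ?_
        have hcj : (c : F) j ∈ m := by
          have := c.2
          rw [LinearMap.mem_ker] at this
          have := (DFunLike.congr_fun hψφ (c : F)).symm.trans this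
          have := DFunLike.congr_fun this j
          rw [Finsupp.mapRange.linearMap_apply, Finsupp.mapRange_apply, Submodule.mkQ_apply, Finsupp.zero_apply,
            Submodule.Quotient.mk_eq_zero] at this
          exact this
        have e : r ⊗ₜ[A] (Finsupp.single j ((c : F) j) : F) = algebraMap A (B i) ((c : F) j) • (r ⊗ₜ[A] Finsupp.single j 1) := by
          rw [algebraMap_smul, ← TensorProduct.tmul_smul, Finsupp.smul_single, smul_eq_mul, mul_one]
        rw [e]
        exact Submodule.smul_mem_smul (Ideal.mem_map_of_mem _ hcj) trivial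
    have htor := (FlatCrit.TorZero.of_flat (R := B i) (M := B i ⧸ mB) (Q := B i ⊗[A] M)).lTensor_injective
      K.injective_subtype (LinearMap.exact_subtype_ker_map φB) hsurj
    have hKm : K ≤ mB • K := by
      intro z hz
      have h1 : K.subtype.lTensor (B i ⧸ mB) (1 ⊗ₜ ⟨z, hz⟩) = 0 := by
        apply (TensorProduct.quotTensorEquivQuotSMul (B i ⊗[A] F) mB).injective
        rw [map_zero, LinearMap.lTensor_tmul, show (1 : B i ⧸ mB) = Ideal.Quotient.mk mB 1 from rfl,
          TensorProduct.quotTensorEquivQuotSMul_mk_tmul, one_smul, Submodule.Quotient.mk_eq_zero]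
        exact hle hz
      have h2 := congrArg (TensorProduct.quotTensorEquivQuotSMul K mB) (htor (h1.trans (map_zero _).symm))
      rw [map_zero, show (1 : B i ⧸ mB) = Ideal.Quotient.mk mB 1 from rfl,
        TensorProduct.quotTensorEquivQuotSMul_mk_tmul, one_smul, Submodule.Quotient.mk_eq_zero] at h2
      have := Submodule.mem_map_of_mem (f := K.subtype) h2
      rwa [Submodule.map_smul'', Submodule.map_top, Submodule.range_subtype] at this
    obtain ⟨n, hn⟩ := hmB
    have : ∀ k, K ≤ mB ^ k • K := fun k => by
      induction k with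
      | zero => simp
      | succ k ih =>
        calc K ≤ mB • K := hKm
          _ ≤ mB • (mB ^ k • K) := Submodule.smul_mono le_rfl ih
          _ = mB ^ (k + 1) • K := by rw [← mul_smul, ← pow_succ']
    exact eq_bot_iff.2 ((this n).trans (by rw [hn]; simp))
  exact Module.Flat.of_linearEquiv (LinearEquiv.ofBijective φ ⟨hinj, hφ⟩).symm

theorem flat_semilocal {A : Type u} [CommRing A] [Finite (MaximalSpectrum A)] (hnil : IsNilpotent (Ring.jacobson A))
    {ι : Type u} (B : ι → Type u) [∀ i, CommRing (B i)] [∀ i, Algebra A (B i)]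
    (hB : ∀ a : A, (∀ i, algebraMap A (B i) a = 0) → a = 0)
    (M : Type u) [AddCommGroup M] [Module A M] (h : ∀ i, Module.Flat (B i) (B i ⊗[A] M)) :
    Module.Flat A M := by
  classical
  have : Fintype (MaximalSpectrum A) := Fintype.ofFinite _
  obtain ⟨n, hn⟩ := hnil
  let n' := n + 1
  let I : MaximalSpectrum A → Ideal A := fun m => m.asIdeal ^ n'
  have hcop : Pairwise (Function.onFun IsCoprime I) := fun m m' hne =>
    IsCoprime.pow (Ideal.isCoprime_iff_sup_eq.2 (m.isMaximal.coprime_of_ne m'.isMaximal fun e => hne (MaximalSpectrum.ext e)))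
  have hbot : ⨅ m, I m = ⊥ := by
    rw [eq_bot_iff]
    calc ⨅ m, I m = ∏ m : MaximalSpectrum A, I m := by
          rw [Ideal.prod_eq_iInf_of_pairwise_isCoprime (s := Finset.univ) (fun a _ b _ hab => hcop hab)]
          simp
      _ = (∏ m : MaximalSpectrum A, m.asIdeal) ^ n' := Finset.prod_pow _ _ _
      _ ≤ Ring.jacobson A ^ n' := by
          refine Ideal.pow_right_mono ?_ _
          rw [Ring.jacobson_eq_sInf_isMaximal, le_sInf_iff]
          intro m hm
          exact Ideal.prod_le_inf.trans (Finset.inf_le (Finset.mem_univ (⟨m, hm⟩ : MaximalSpectrum A)))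
      _ ≤ ⊥ := by rw [pow_succ, hn]; simp
  have hbij : Function.Bijective (LinearMap.pi fun m => Submodule.mkQ (I m) : A →ₗ[A] (∀ m, A ⧸ I m)) := by
    refine ⟨?_, fun z => ?_⟩
    · rw [injective_iff_map_eq_zero]
      intro a ha
      rw [← Submodule.mem_bot (R := A), ← hbot, Submodule.mem_iInf]
      exact fun m => (Submodule.Quotient.mk_eq_zero _).1 (congrFun ha m)
    · choose z' hz' using fun m => Ideal.Quotient.mk_surjective (z m)
      obtain ⟨a, ha⟩ := Ideal.exists_forall_sub_mem_ideal hcop z'
      exact ⟨a, funext fun m => (((Ideal.Quotient.eq).2 (ha m)).trans (hz' m) : Ideal.Quotient.mk (I m) a = z m)⟩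
  let e : A ≃ₗ[A] (∀ m, A ⧸ I m) := LinearEquiv.ofBijective _ hbij
  have hflat : ∀ m, Module.Flat A ((A ⧸ I m) ⊗[A] M) := fun m => by
    have hA : Module.Flat A (A ⧸ I m) := Module.Flat.of_retract (M := A)
      (e.symm.toLinearMap.comp (LinearMap.single A (fun m => A ⧸ I m) m))
      ((LinearMap.proj m).comp e.toLinearMap) (by
        refine LinearMap.ext fun x => ?_
        simp only [LinearMap.comp_apply, LinearEquiv.coe_coe, LinearEquiv.apply_symm_apply, LinearMap.id_apply]
        simp)
    let mk := Ideal.Quotient.mk (I m)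
    let m' := m.asIdeal.map mk
    have hsurj : Function.Surjective mk := Ideal.Quotient.mk_surjective
    have hm : RingHom.ker mk ≤ m.asIdeal := Ideal.mk_ker.le.trans (Ideal.pow_le_self (Nat.succ_ne_zero n))
    have : m.asIdeal.IsMaximal := m.isMaximal
    have : m'.IsMaximal := (Ideal.map_eq_top_or_isMaximal_of_surjective mk hsurj this).resolve_left fun ht => by
      have := congrArg (Ideal.comap mk) ht
      rw [Ideal.comap_map_of_surjective mk hsurj, Ideal.comap_top, ← RingHom.ker_eq_comap_bot, sup_eq_left.2 hm] at this
      exact m.isMaximal.ne_top this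
    have hm'nil : IsNilpotent m' := ⟨n', by
      rw [← Ideal.map_pow, Ideal.zero_eq_bot, Ideal.map_eq_bot_iff_le_ker, Ideal.mk_ker]⟩
    let B' : ι → Type u := fun i => (A ⧸ I m) ⊗[A] B i
    have hflat' : Module.Flat (A ⧸ I m) ((A ⧸ I m) ⊗[A] M) := by
      refine flat_local m' hm'nil B' (fun a ha => ?_) _ fun i => ?_
      · obtain ⟨a, rfl⟩ := Ideal.Quotient.mk_surjective a
        let u := e.symm (Pi.single m (Ideal.Quotient.mk (I m) a))
        have hu : ∀ m', Ideal.Quotient.mk (I m') u = Pi.single (M := fun m => A ⧸ I m) m (Ideal.Quotient.mk (I m) a) m' :=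
          fun m' => congrFun (e.apply_symm_apply _) m'
        suffices u = 0 by simpa [this] using (hu m).symm
        refine hB u fun i => ?_
        let E : B i →ₗ[A] (∀ m', (A ⧸ I m') ⊗[A] B i) :=
          LinearMap.pi fun m' => (TensorProduct.mk A (A ⧸ I m') (B i)) 1
        have hE : Function.Injective E := by
          let T : (∀ m', (A ⧸ I m') ⊗[A] B i) ≃ₗ[A] B i :=
            ((TensorProduct.piLeft A (B i) (fun m' => A ⧸ I m')).symm.trans
              (TensorProduct.congr e.symm (LinearEquiv.refl A (B i)))).trans (TensorProduct.lid A (B i))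
          refine Function.LeftInverse.injective (g := T) fun x => ?_
          apply T.symm.injective
          rw [T.symm_apply_apply]
          funext m'
          simp [T, E, e]
        apply hE
        rw [map_zero]
        funext m'
        show (1 : A ⧸ I m') ⊗ₜ[A] algebraMap A (B i) u = 0
        rw [Algebra.algebraMap_eq_smul_one, ← TensorProduct.smul_tmul, Algebra.smul_def, mul_one,
          show algebraMap A (A ⧸ I m') u = Ideal.Quotient.mk (I m') u from rfl, hu]
        by_cases hmm : m' = m
        · subst hmm
          rw [Pi.single_eq_same]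
          have := ha i
          simpa [B', Algebra.TensorProduct.algebraMap_apply] using this
        · rw [Pi.single_eq_of_ne hmm, TensorProduct.zero_tmul]
      · letI : Algebra (B i) (B' i) := Algebra.TensorProduct.rightAlgebra
        haveI := h i
        exact Module.Flat.of_linearEquiv (R := B' i) (M := B' i ⊗[B i] (B i ⊗[A] M))
          ((TensorProduct.AlgebraTensorModule.cancelBaseChange A (A ⧸ I m) (B' i) (B' i) M).trans
            (TensorProduct.AlgebraTensorModule.cancelBaseChange A (B i) (B' i) (B' i) M).symm)
    exact Module.Flat.trans A (A ⧸ I m) _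
  let E := ((TensorProduct.lid A M).symm.trans (TensorProduct.congr e (LinearEquiv.refl A M))).trans
    (TensorProduct.piLeft A M (fun m => A ⧸ I m))
  exact Module.Flat.of_linearEquiv (E.trans DFinsupp.linearEquivFunOnFintype.symm)


/-- Let A be a semi-local ring (finitely many maximal ideals) whose Jacobson radical is nilpotent, for
instance an Artinian ring, and let (u_i : A → B_i) be a family of ring homomorphisms whose kernels
have zero intersection. Then an A-module M is flat if and only if, for every i, the B_i-module B_i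
⊗_A M is flat. -/
theorem result {A : Type u} [CommRing A]
    [Finite (MaximalSpectrum A)] (hnil : IsNilpotent (Ring.jacobson A))
    {ι : Type u} (B : ι → Type u) [∀ i, CommRing (B i)] [∀ i, Algebra A (B i)]
    (hB : ∀ a : A, (∀ i, algebraMap A (B i) a = 0) → a = 0)
    (M : Type u) [AddCommGroup M] [Module A M] :
    Module.Flat A M ↔ ∀ i, Module.Flat (B i) (B i ⊗[A] M) := by
  refine ⟨fun h i => inferInstance, fun h => flat_semilocal hnil B hB M h⟩

end Groth.Agent.S4852
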