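import Groth.Statements.S4859
import Groth.Agent.QHomeo.Basic

set_option autoImplicit false
universe u
open EGA43

namespace Groth.Agent.S4859

/-- Conditions a), a′), b) (quasi-homeomorphisms): for a continuous map f : X₀ → X the following are
equivalent: taking preimages is a bijection from the open subsets of X onto the open subsets of X₀;
taking preimages is a bijection from the closed subsets of X onto the closed subsets of X₀; the
topology of X₀ is induced from X through f and the image f(X₀) is very dense in X, in the sense that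
two open subsets of X with the same trace on f(X₀) coincide. -/
theorem result {X₀ X : Type u} [TopologicalSpace X₀] [TopologicalSpace X]
    (f : X₀ → X) (hf : Continuous f) :
    [Function.Bijective (fun U : TopologicalSpace.Opens X =>
        (⟨f ⁻¹' (U : Set X), U.isOpen.preimage hf⟩ : TopologicalSpace.Opens X₀)),
      Function.Bijective (fun F : TopologicalSpace.Closeds X =>
        (⟨f ⁻¹' (F : Set X), F.isClosed.preimage hf⟩ : TopologicalSpace.Closeds X₀)),
      Topology.IsInducing f ∧
        ∀ U V : Set X, IsOpen U → IsOpen V → U ∩ Set.range f = V ∩ Set.range f → U = V].TFAE := by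
  have key : Function.Bijective (fun U : TopologicalSpace.Opens X =>
      (⟨f ⁻¹' (U : Set X), U.isOpen.preimage hf⟩ : TopologicalSpace.Opens X₀)) ↔ QHomeo.QH f :=
    ⟨QHomeo.qh_of_bijective hf, fun h => h.bijective hf⟩
  tfae_have 1 → 2 := fun h => by
    have hq := key.1 h
    refine ⟨fun F₁ F₂ e => TopologicalSpace.Closeds.ext (hq.eq_of_preimage_eq
      F₁.isClosed.isLocallyClosed.lqc F₂.isClosed.isLocallyClosed.lqc
      (congrArg (fun F : TopologicalSpace.Closeds X₀ => (F : Set X₀)) e)), fun F => ?_⟩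
    obtain ⟨U, hU, e⟩ := hq.2 _ F.isClosed.isOpen_compl
    exact ⟨⟨Uᶜ, hU.isClosed_compl⟩, TopologicalSpace.Closeds.ext
      (show f ⁻¹' Uᶜ = _ by rw [Set.preimage_compl, e, compl_compl])⟩
  tfae_have 2 → 3 := fun h => by
    have hsur : ∀ V : Set X₀, IsOpen V → ∃ U : Set X, IsOpen U ∧ f ⁻¹' U = V := fun V hV => by
      obtain ⟨F, hF⟩ := h.2 ⟨Vᶜ, hV.isClosed_compl⟩
      refine ⟨(F : Set X)ᶜ, F.isClosed.isOpen_compl, ?_⟩
      rw [Set.preimage_compl, show f ⁻¹' (F : Set X) = Vᶜ from
        congrArg (fun F : TopologicalSpace.Closeds X₀ => (F : Set X₀)) hF, compl_compl]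
    refine ⟨⟨TopologicalSpace.ext_iff.2 fun V => ⟨fun hV => isOpen_induced_iff.2 (hsur V hV), fun hV => ?_⟩⟩, ?_⟩
    · obtain ⟨U, hU, rfl⟩ := isOpen_induced_iff.1 hV
      exact hU.preimage hf
    · intro U V hU hV e
      refine compl_injective (congrArg (fun F : TopologicalSpace.Closeds X => (F : Set X))
        (h.1 (a₁ := ⟨Uᶜ, hU.isClosed_compl⟩) (a₂ := ⟨Vᶜ, hV.isClosed_compl⟩) (TopologicalSpace.Closeds.ext ?_)))
      ext x
      have := Set.ext_iff.1 e (f x)
      simp only [Set.mem_inter_iff, Set.mem_range_self, and_true] at this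
      exact not_congr this
  tfae_have 3 → 1 := fun ⟨hi, h⟩ => by
    refine key.2 ⟨fun U V hU hV e => h U V hU hV ?_, fun V hV => ?_⟩
    · ext y
      constructor
      · rintro ⟨hy, x, rfl⟩; exact ⟨(Set.ext_iff.1 e x).1 hy, x, rfl⟩
      · rintro ⟨hy, x, rfl⟩; exact ⟨(Set.ext_iff.1 e x).2 hy, x, rfl⟩
    · exact hi.isOpen_iff.1 hV
  tfae_finish

end Groth.Agent.S4859
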