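import Groth.Statements.S4860
import Mathlib.RingTheory.IntegralClosure.IntegralRestrict
import Mathlib.RingTheory.Localization.Away.Basic
import Mathlib.RingTheory.Algebraic.Integral
import Groth.Agent.NoethPts.Jacobson

set_option autoImplicit false
universe u
open EGA43

namespace Groth.Agent.S4860


theorem isField_away_of_finiteType {B : Type u} [CommRing B] [IsDomain B] {K : Type u} [Field K] [Algebra B K]
    (hinj : Function.Injective (algebraMap B K)) [Algebra.FiniteType B K] :
    ∃ f : B, f ≠ 0 ∧ IsField (Localization.Away f) := by
  haveI : FaithfulSMul B K := (faithfulSMul_iff_algebraMap_injective B K).2 hinj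
  letI := FractionRing.liftAlgebra B K
  haveI : Algebra.FiniteType (FractionRing B) K := Algebra.FiniteType.of_restrictScalars_finiteType B _ _
  haveI : Module.Finite (FractionRing B) K := finite_of_finite_type_of_isJacobsonRing _ _
  haveI : Algebra.IsAlgebraic B K := (IsFractionRing.comap_isAlgebraic_iff (A := B) (K := FractionRing B)).2 inferInstance
  obtain ⟨s, hs⟩ := (inferInstance : Algebra.FiniteType B K).out
  obtain ⟨y, hy0, hy⟩ := Algebra.IsAlgebraic.exists_integral_multiples B s
  have hu : ∀ z : Submonoid.powers y, IsUnit (algebraMap B K z) := by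
    rintro ⟨_, n, rfl⟩
    exact isUnit_iff_ne_zero.2 (by simpa using pow_ne_zero n ((map_ne_zero_iff _ hinj).2 hy0))
  letI : Algebra (Localization.Away y) K := (IsLocalization.lift hu).toAlgebra
  haveI : IsScalarTower B (Localization.Away y) K := .of_algebraMap_eq fun b => (IsLocalization.lift_eq hu b).symm
  have hd : IsDomain (Localization.Away y) :=
    IsLocalization.isDomain_localization (powers_le_nonZeroDivisors_of_noZeroDivisors hy0)
  have hs' : ∀ z ∈ s, IsIntegral (Localization.Away y) z := by
    intro z hz
    have h1 : IsIntegral (Localization.Away y) (y • z) := (hy z hz).tower_top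
    obtain ⟨c, hc⟩ := (IsLocalization.Away.algebraMap_isUnit y : IsUnit (algebraMap B (Localization.Away y) y)).exists_left_inv
    have := h1.smul c
    rwa [← IsScalarTower.algebraMap_smul (Localization.Away y) y z, smul_smul, hc, one_smul] at this
  haveI : Algebra.IsIntegral (Localization.Away y) K := by
    refine ⟨fun z => ?_⟩
    have hz : z ∈ Algebra.adjoin B (s : Set K) := hs ▸ Algebra.mem_top
    exact (Algebra.adjoin_le (S := (integralClosure (Localization.Away y) K).restrictScalars B) hs') hz
  refine ⟨y, hy0, isField_of_isIntegral_of_isField (S := K) ?_ (Field.toIsField K)⟩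
  exact (IsLocalization.lift_injective_iff hu).2 fun a b => ⟨fun h => by
    rw [IsLocalization.injective (Localization.Away y) (powers_le_nonZeroDivisors_of_noZeroDivisors hy0) h],
    fun h => by rw [hinj h]⟩

theorem finiteType_fractionRing {B : Type u} [CommRing B] [IsDomain B] {f : B} (hf : f ≠ 0)
    (h : IsField (Localization.Away f)) : Algebra.FiniteType B (FractionRing B) := by
  letI := h.toField
  have hu : ∀ z : Submonoid.powers f, IsUnit (algebraMap B (FractionRing B) z) := by
    rintro ⟨_, n, rfl⟩
    exact isUnit_iff_ne_zero.2 (by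
      simpa using pow_ne_zero n ((map_ne_zero_iff _ (IsFractionRing.injective B (FractionRing B))).2 hf))
  let φ : Localization.Away f →ₐ[B] FractionRing B :=
    { IsLocalization.lift hu with commutes' := fun b => IsLocalization.lift_eq hu b }
  haveI : Algebra.FiniteType B (Localization.Away f) := IsLocalization.finiteType_of_monoid_fg (Submonoid.powers f) _
  refine Algebra.FiniteType.of_surjective φ fun z => ?_
  obtain ⟨a, b, -, rfl⟩ := IsFractionRing.div_surjective (A := B) z
  refine ⟨algebraMap B _ a * (algebraMap B (Localization.Away f) b)⁻¹, ?_⟩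
  rw [map_mul, map_inv₀, φ.commutes, φ.commutes, div_eq_mul_inv]


/-- For an integral domain B the following are equivalent: a) the localization B_f is a field for some
nonzero f; b) the fraction field of B is a finitely generated B-algebra; c) there is a field
containing B (an injective algebra map from B) which is a finitely generated B-algebra; d) the
generic point of Spec B is open. -/
theorem result (B : Type u) [CommRing B] [IsDomain B] :
    [∃ f : B, f ≠ 0 ∧ IsField (Localization.Away f),
      Algebra.FiniteType B (FractionRing B),
      ∃ (K : Type u) (_ : Field K) (_ : Algebra B K), Function.Injective (algebraMap B K) ∧ Algebra.FiniteType B K,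
      IsOpen ({⟨⊥, Ideal.bot_prime⟩} : Set (PrimeSpectrum B))].TFAE := by
  tfae_have 1 → 4 := fun ⟨f, hf, h⟩ => by
    have : ({⟨⊥, Ideal.bot_prime⟩} : Set (PrimeSpectrum B)) = (PrimeSpectrum.basicOpen f : Set (PrimeSpectrum B)) := by
      ext P
      constructor
      · rintro rfl; simpa using hf
      · intro hP; exact PrimeSpectrum.ext ((NoethPts.isField_away_iff hf).1 h _ P.isPrime hP)
    rw [this]; exact (PrimeSpectrum.basicOpen f).isOpen
  tfae_have 4 → 1 := fun h => by
    obtain ⟨g, hg, hiso⟩ := NoethPts.exists_notMem_of_isLocallyClosed h.isLocallyClosed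
    have hg0 : g ≠ 0 := fun e => hg (by simp [e])
    exact ⟨g, hg0, (NoethPts.isField_away_iff hg0).2 fun P hP hgP =>
      congrArg PrimeSpectrum.asIdeal (hiso ⟨P, hP⟩ (show (⊥ : Ideal B) ≤ P from bot_le) hgP)⟩
  tfae_have 1 → 2 := fun ⟨f, hf, h⟩ => finiteType_fractionRing hf h
  tfae_have 2 → 3 := fun h => ⟨FractionRing B, inferInstance, inferInstance, IsFractionRing.injective B _, h⟩
  tfae_have 3 → 1 := fun ⟨K, _, _, hinj, h⟩ => isField_away_of_finiteType hinj
  tfae_finish

end Groth.Agent.S4860
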