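import Groth.Statements.S4861
import Groth.Agent.NoethPts.Basic

set_option autoImplicit false
universe u
open EGA43

namespace Groth.Agent.S4861

/-- For a Noetherian integral domain B the following are equivalent (and hence equivalent to: the
fraction field of B is a finitely generated B-algebra; the generic point of Spec B is open): a) the
localization B_f is a field for some nonzero f; e) Spec B is finite; f) B is semi-local (finitely
many maximal ideals) of Krull dimension at most 1. -/
theorem result (B : Type u) [CommRing B] [IsDomain B]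
    [IsNoetherianRing B] :
    [∃ f : B, f ≠ 0 ∧ IsField (Localization.Away f),
      Finite (PrimeSpectrum B),
      Finite (MaximalSpectrum B) ∧ ringKrullDim B ≤ 1].TFAE := by
  tfae_have 1 → 2 := fun ⟨f, hf, h⟩ =>
    (NoethPts.isMaximal_and_finite_of_isolated hf ((NoethPts.isField_away_iff hf).1 h)).2
  tfae_have 1 → 3 := fun ⟨f, hf, h⟩ => by
    obtain ⟨hmax, hfin⟩ := NoethPts.isMaximal_and_finite_of_isolated hf ((NoethPts.isField_away_iff hf).1 h)
    exact ⟨Finite.of_injective (fun m : MaximalSpectrum B => (⟨m.asIdeal, m.isMaximal.isPrime⟩ : PrimeSpectrum B))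
      (fun a b e => MaximalSpectrum.ext (congrArg PrimeSpectrum.asIdeal e :)), NoethPts.ringKrullDim_le_one_of_maximal hmax⟩
  tfae_have 2 → 1 := fun h => by
    classical
    haveI := Fintype.ofFinite (PrimeSpectrum B)
    have hsel : ∀ P : PrimeSpectrum B, ∃ a : B, a ≠ 0 ∧ (P.asIdeal ≠ ⊥ → a ∈ P.asIdeal) := fun P => by
      by_cases hP : P.asIdeal = ⊥
      · exact ⟨1, one_ne_zero, fun h => absurd hP h⟩
      · obtain ⟨a, ha, ha0⟩ := Submodule.exists_mem_ne_zero_of_ne_bot hP
        exact ⟨a, ha0, fun _ => ha⟩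
    choose a ha0 ha using hsel
    refine ⟨∏ P, a P, Finset.prod_ne_zero_iff.2 fun P _ => ha0 P,
      (NoethPts.isField_away_iff (Finset.prod_ne_zero_iff.2 fun P _ => ha0 P)).2 fun P hP hf => ?_⟩
    by_contra hP0
    exact hf (P.mem_of_dvd (Finset.dvd_prod_of_mem a (Finset.mem_univ (⟨P, hP⟩ : PrimeSpectrum B))) (ha ⟨P, hP⟩ hP0))
  tfae_have 3 → 2 := fun ⟨hm, hd⟩ => by
    haveI : Ring.KrullDimLE 1 B := Ring.krullDimLE_iff.2 hd
    have hsub : (Set.univ : Set (PrimeSpectrum B)) ⊆
        insert ⟨⊥, Ideal.bot_prime⟩ (Set.range fun m : MaximalSpectrum B => (⟨m.asIdeal, m.isMaximal.isPrime⟩ : PrimeSpectrum B)) := by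
      intro P _
      by_cases hP : P.asIdeal = ⊥
      · exact Or.inl (PrimeSpectrum.ext hP)
      · exact Or.inr ⟨⟨P.asIdeal, Ring.krullDimLE_one_iff_of_noZeroDivisors.1 ‹_› _ hP P.isPrime⟩, rfl⟩
    exact Set.finite_univ_iff.1 (((Set.finite_range _).insert _).subset hsub)
  tfae_finish

end Groth.Agent.S4861
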