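import Groth.Statements.S4862
import Mathlib.RingTheory.IntegralClosure.IntegralRestrict
import Groth.Agent.NoethPts.Jacobson

set_option autoImplicit false
universe u
open EGA43

namespace Groth.Agent.S4862

/-- For a commutative ring A the following are equivalent: a) A is a Jacobson ring; b) for every prime
ideal p of A which is not maximal and every nonzero f of B = A/p, the localization B_f is not a
field; b′) every finitely generated A-algebra which is a field is a finite A-module. -/
theorem result (A : Type u) [CommRing A] :
    [IsJacobsonRing A,
      ∀ (p : Ideal A) [p.IsPrime], ¬ p.IsMaximal → ∀ f : A ⧸ p, f ≠ 0 → ¬ IsField (Localization.Away f),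
      ∀ (K : Type u) [Field K] [Algebra A K], Algebra.FiniteType A K → Module.Finite A K].TFAE := by
  tfae_have 1 → 2 := fun h p hp hm f hf hF =>
    hm (Ideal.Quotient.maximal_of_isField _
      (NoethPts.isField_of_isJacobsonRing_of_isolated hf ((NoethPts.isField_away_iff hf).1 hF)))
  tfae_have 2 → 1 := fun h => by
    by_contra hJ
    obtain ⟨p, g, hm, hg, hiso⟩ := NoethPts.exists_prime_of_not_isJacobsonRing hJ
    have hg0 : Ideal.Quotient.mk p.asIdeal g ≠ 0 := fun e => hg (Ideal.Quotient.eq_zero_iff_mem.1 e)
    exact h p.asIdeal hm _ hg0 ((NoethPts.isField_away_iff hg0).2 (NoethPts.isField_away_quotient hg hiso))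
  tfae_have 1 → 3 := fun h K _ _ hft => finite_of_finite_type_of_isJacobsonRing A K
  tfae_have 3 → 2 := fun h p hp hm f hf hF => by
    letI := hF.toField
    haveI hs : Algebra.FiniteType A (A ⧸ p) := Algebra.FiniteType.of_surjective (Ideal.Quotient.mkₐ A p) Ideal.Quotient.mk_surjective
    haveI : Algebra.FiniteType (A ⧸ p) (Localization.Away f) := IsLocalization.finiteType_of_monoid_fg (Submonoid.powers f) _
    haveI : Algebra.FiniteType A (Localization.Away f) := Algebra.FiniteType.trans (S := A ⧸ p) hs inferInstance
    haveI := h (Localization.Away f) this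
    haveI : Module.Finite (A ⧸ p) (Localization.Away f) := Module.Finite.of_restrictScalars_finite A _ _
    exact hm (Ideal.Quotient.maximal_of_isField _ (isField_of_isIntegral_of_isField
      (IsLocalization.injective (Localization.Away f) (powers_le_nonZeroDivisors_of_noZeroDivisors hf)) hF))
  tfae_finish

end Groth.Agent.S4862
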