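import Groth.Statements.S4864
import Groth.Agent.LimSch.ClosureRange
import Groth.Agent.S4863

set_option autoImplicit false
universe u
open EGA43

namespace Groth.Agent.S4864

open AlgebraicGeometry CategoryTheory Limits in
/-- Let f : X ⟶ Y and g : Y ⟶ Z be morphisms of finite presentation and F a quasi-coherent O_X-module of
finite presentation. Then the set U of points y of Y such that, for every generization y' of y, F is
(f ≫ g)-flat at every point of X above y', is open in Y. -/
theorem result {X Y Z : Scheme.{u}} (f : X ⟶ Y) (g : Y ⟶ Z)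
    [LocallyOfFinitePresentation f] [QuasiCompact f] [QuasiSeparated f]
    [LocallyOfFinitePresentation g] [QuasiCompact g] [QuasiSeparated g]
    (F : X.Modules) [Coh.IsQCoh F] (hF : CohB1.IsFP F) :
    IsOpen {y : Y | ∀ y' : Y, y' ⤳ y → ∀ x : X, f x = y' → FlatMod.IsFlatOverAt (f ≫ g) F x} := by
  have hopen := Groth.Agent.S4863.result (f ≫ g) F hF
  let C : TopologicalSpace.Closeds X := ⟨{x : X | FlatMod.IsFlatOverAt (f ≫ g) F x}ᶜ, hopen.isClosed_compl⟩
  let J := Scheme.IdealSheafData.vanishingIdeal C
  let c : J.subscheme ⟶ Y := J.subschemeι ≫ f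
  have hr : Set.range J.subschemeι = (C : Set X) := by
    rw [Scheme.IdealSheafData.range_subschemeι, Scheme.IdealSheafData.coe_support_vanishingIdeal]
  convert (isClosed_closure (s := Set.range c)).isOpen_compl using 1
  ext y
  simp only [Set.mem_setOf_eq, Set.mem_compl_iff]
  constructor
  · intro h hy
    obtain ⟨z, hz⟩ := Groth.Agent.LimSch.exists_specializes_of_mem_closure_range c hy
    have hzC : J.subschemeι z ∈ (C : Set X) := hr.le ⟨z, rfl⟩
    exact hzC (h (c z) hz (J.subschemeι z) rfl)
  · intro h y' hy' x hx
    by_contra hflat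
    obtain ⟨z, hz⟩ : x ∈ Set.range J.subschemeι := hr.ge hflat
    refine h (hy'.mem_closed isClosed_closure (subset_closure ⟨z, ?_⟩))
    rw [← hx, ← hz]
    rfl

end Groth.Agent.S4864
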