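import Groth.Statements.S4865
import Mathlib
import Groth.Agent.S0387

set_option autoImplicit false
universe u
open EGA43

namespace Groth.Agent.S4865


/-- Restricting a localized module along an algebra map. -/
theorem isLocalizedModule_restrict {B C : Type u} [CommRing B] [CommRing C] [Algebra B C] (S : Submonoid B)
    {M N : Type u} [AddCommGroup M] [AddCommGroup N] [Module C M] [Module C N] [Module B M] [Module B N]
    [IsScalarTower B C M] [IsScalarTower B C N] (f : M →ₗ[C] N) [IsLocalizedModule (S.map (algebraMap B C)) f] :
    IsLocalizedModule S (f.restrictScalars B) where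
  map_units x := by
    rw [Module.End.isUnit_iff]
    have h := (Module.End.isUnit_iff _).1 (IsLocalizedModule.map_units f (⟨_, ⟨x, x.2, rfl⟩⟩ : S.map (algebraMap B C)))
    convert h using 1
    ext y
    exact (algebraMap_smul C (x : B) y).symm
  surj y := by
    obtain ⟨⟨m, ⟨_, b, hb, rfl⟩⟩, h⟩ := IsLocalizedModule.surj (S.map (algebraMap B C)) f y
    exact ⟨(m, ⟨b, hb⟩), by simpa [Submonoid.smul_def, algebraMap_smul] using h⟩
  exists_of_eq {x y} h := by
    obtain ⟨⟨_, b, hb, rfl⟩, hb'⟩ := IsLocalizedModule.exists_of_eq (S := S.map (algebraMap B C)) (f := f) h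
    exact ⟨⟨b, hb⟩, by simpa [Submonoid.smul_def, algebraMap_smul] using hb'⟩

theorem flat_localizedModule_of_forall {A B C : Type u} [CommRing A] [CommRing B] [CommRing C]
    [Algebra A B] [Algebra B C] [Algebra A C] [IsScalarTower A B C] (M : Type u) [AddCommGroup M] [Module C M]
    [Module B M] [Module A M] [IsScalarTower B C M] [IsScalarTower A C M] [IsScalarTower A B M]
    (q : Ideal B) [q.IsPrime]
    (h : ∀ (r : Ideal C) [r.IsPrime], r.comap (algebraMap B C) ≤ q → Module.Flat A (LocalizedModule r.primeCompl M)) :
    Module.Flat A (LocalizedModule q.primeCompl M) := by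
  let T := q.primeCompl.map (algebraMap B C)
  let N := LocalizedModule T M
  let g : M →ₗ[C] N := LocalizedModule.mkLinearMap T M
  haveI := isLocalizedModule_restrict q.primeCompl g
  let e := (IsLocalizedModule.linearEquiv q.primeCompl (LocalizedModule.mkLinearMap q.primeCompl M)
    (g.restrictScalars B)).restrictScalars A
  haveI : Module.Flat A N := ?_
  · exact Module.Flat.of_linearEquiv e
  refine Module.flat_of_isLocalized_maximal (Localization T) N
    (fun P _ => LocalizedModule P.primeCompl N) (fun P _ => LocalizedModule.mkLinearMap P.primeCompl N) fun P _ => ?_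
  let r := P.comap (algebraMap C (Localization T))
  have hr : r.comap (algebraMap B C) ≤ q := fun b hb => by
    by_contra hbq
    exact (‹P.IsMaximal›).ne_top (P.eq_top_of_isUnit_mem hb
      (IsLocalization.map_units (Localization T) (⟨_, ⟨b, hbq, rfl⟩⟩ : T)))
  haveI := h r hr
  haveI : IsLocalization.AtPrime (Localization.AtPrime P) r :=
    IsLocalization.isLocalization_isLocalization_atPrime_isLocalization T (Localization.AtPrime P) P
  let f : N →ₗ[Localization T] LocalizedModule P.primeCompl N := LocalizedModule.mkLinearMap P.primeCompl N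
  have h1 : IsBaseChange (Localization T) g :=
    (isLocalizedModule_iff_isBaseChange T (Localization T) g).1 inferInstance
  have h2 : IsBaseChange (Localization.AtPrime P) f :=
    (isLocalizedModule_iff_isBaseChange P.primeCompl (Localization.AtPrime P) f).1 inferInstance
  haveI : IsLocalizedModule r.primeCompl ((f.restrictScalars C).comp g) :=
    (isLocalizedModule_iff_isBaseChange r.primeCompl (Localization.AtPrime P) _).2 (h1.comp h2)
  exact Module.Flat.of_linearEquiv (M := LocalizedModule r.primeCompl M)
    ((IsLocalizedModule.linearEquiv r.primeCompl ((f.restrictScalars C).comp g)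
      (LocalizedModule.mkLinearMap r.primeCompl M)).restrictScalars A)

theorem flat_of_isLocalizedModule' {R A M M' : Type u} [CommRing R] [CommRing A] [Algebra R A]
    [AddCommGroup M] [AddCommGroup M'] [Module R M] [Module A M] [IsScalarTower R A M]
    [Module R M'] [Module A M'] [IsScalarTower R A M'] (p : Submonoid A) (f : M →ₗ[A] M')
    [IsLocalizedModule p f] [Module.Flat R M] : Module.Flat R M' := by
  refine Module.Flat.iff_lTensor_injectiveₛ.mpr fun P _ _ N ↦ ?_
  rw [← TensorProduct.AlgebraTensorModule.coe_lTensor (A := A)]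
  have h : Function.Injective
      (TensorProduct.AlgebraTensorModule.lTensor (R := R) A M N.subtype) := by
    rw [TensorProduct.AlgebraTensorModule.coe_lTensor]
    exact Module.Flat.lTensor_preserves_injective_linearMap _ N.injective_subtype
  have := IsLocalizedModule.map_injective p (TensorProduct.AlgebraTensorModule.rTensor R N f)
    (TensorProduct.AlgebraTensorModule.rTensor R P f) _ h
  rwa [IsLocalizedModule.map_lTensor] at this

theorem flat_of_comap_le {A B C : Type u} [CommRing A] [CommRing B] [CommRing C]
    [Algebra A B] [Algebra B C] [Algebra A C] [IsScalarTower A B C] (M : Type u) [AddCommGroup M] [Module C M]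
    [Module B M] [Module A M] [IsScalarTower B C M] [IsScalarTower A C M] [IsScalarTower A B M]
    (q : Ideal B) [q.IsPrime] (r : Ideal C) [r.IsPrime] (hrq : r.comap (algebraMap B C) ≤ q)
    [Module.Flat A (LocalizedModule q.primeCompl M)] : Module.Flat A (LocalizedModule r.primeCompl M) := by
  let T := q.primeCompl.map (algebraMap B C)
  let N := LocalizedModule T M
  let g : M →ₗ[C] N := LocalizedModule.mkLinearMap T M
  haveI := isLocalizedModule_restrict q.primeCompl g
  haveI : Module.Flat A N := Module.Flat.of_linearEquiv ((IsLocalizedModule.linearEquiv q.primeCompl (g.restrictScalars B)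
    (LocalizedModule.mkLinearMap q.primeCompl M)).restrictScalars A)
  have hle : T ≤ r.primeCompl := by
    rintro _ ⟨b, hb, rfl⟩ hmem
    exact hb (hrq hmem)
  let fr : M →ₗ[C] LocalizedModule r.primeCompl M := LocalizedModule.mkLinearMap r.primeCompl M
  let l : N →ₗ[C] LocalizedModule r.primeCompl M := IsLocalizedModule.lift T g fr
    fun x => IsLocalizedModule.map_units fr (⟨x, hle x.2⟩ : r.primeCompl)
  have hl : ∀ m, l (g m) = fr m := fun m => IsLocalizedModule.lift_apply T g fr _ m
  haveI : IsLocalizedModule r.primeCompl l :=
    { map_units := fun x => IsLocalizedModule.map_units fr x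
      surj := fun y => by
        obtain ⟨⟨m, s⟩, h⟩ := IsLocalizedModule.surj r.primeCompl fr y
        exact ⟨(g m, s), h.trans (hl m).symm⟩
      exists_of_eq := fun {x y} h => by
        obtain ⟨⟨m₁, t₁⟩, h₁⟩ := IsLocalizedModule.surj T g x
        obtain ⟨⟨m₂, t₂⟩, h₂⟩ := IsLocalizedModule.surj T g y
        simp only [Submonoid.smul_def] at h₁ h₂
        have h3 : fr ((t₂ : C) • m₁) = fr ((t₁ : C) • m₂) := by
          rw [← hl, ← hl, map_smul g, map_smul g, ← h₁, ← h₂, smul_comm (t₁ : C), map_smul, map_smul, map_smul,
            map_smul, h]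
        obtain ⟨c, hc⟩ := IsLocalizedModule.exists_of_eq (S := r.primeCompl) h3
        refine ⟨c * ⟨_, hle t₁.2⟩ * ⟨_, hle t₂.2⟩, ?_⟩
        have h4 := congrArg g hc
        simp only [Submonoid.smul_def, map_smul, ← h₁, ← h₂, Submonoid.coe_mul, mul_smul] at h4 ⊢
        rw [smul_comm (t₁ : C) (t₂ : C) x]
        exact h4 }
  exact flat_of_isLocalizedModule' r.primeCompl l


/-- Let A be a commutative ring, B a finitely presented A-algebra, C a finitely presented B-algebra and
M a finitely presented C-module. Then the set of prime ideals q of B such that the localized module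
M_q (M regarded as a B-module) is flat over A is open in Spec B. -/
theorem result {A B C : Type u} [CommRing A] [CommRing B] [CommRing C]
    [Algebra A B] [Algebra B C] [Algebra A C] [IsScalarTower A B C]
    [Algebra.FinitePresentation A B] [Algebra.FinitePresentation B C]
    (M : Type u) [AddCommGroup M] [Module C M] [Module B M] [Module A M]
    [IsScalarTower B C M] [IsScalarTower A C M] [IsScalarTower A B M] [Module.FinitePresentation C M] :
    IsOpen {q : PrimeSpectrum B | Module.Flat A (LocalizedModule q.asIdeal.primeCompl M)} := by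
  let U := {r : PrimeSpectrum C | Module.Flat A (LocalizedModule r.asIdeal.primeCompl M)}
  have hU : IsOpen U := by
    haveI : Algebra.FinitePresentation A C := Algebra.FinitePresentation.trans A B C
    exact Groth.Agent.S0387.result
  obtain ⟨I, hI⟩ := (PrimeSpectrum.isClosed_iff_zeroLocus_ideal _).1 hU.isClosed_compl
  convert (PrimeSpectrum.isClosed_zeroLocus (I.comap (algebraMap B C) : Set B)).isOpen_compl using 1
  ext q
  refine ⟨fun hq hmem => ?_, fun hq => flat_localizedModule_of_forall (A := A) (C := C) M q.asIdeal fun r _ hr => ?_⟩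
  · obtain ⟨J, hJ, hJq⟩ := Ideal.exists_minimalPrimes_le (show I.comap (algebraMap B C) ≤ q.asIdeal from hmem)
    obtain ⟨r, hr, hIr, hrJ⟩ := Ideal.exists_comap_eq_of_mem_minimalPrimes (f := algebraMap B C) J hJ
    haveI : r.IsPrime := hr
    haveI : Module.Flat A (LocalizedModule q.asIdeal.primeCompl M) := hq
    exact (Set.ext_iff.1 hI ⟨r, hr⟩).2 hIr (flat_of_comap_le (A := A) M q.asIdeal r (hrJ ▸ hJq))
  · by_contra hbad
    exact hq ((Ideal.comap_mono ((Set.ext_iff.1 hI ⟨r, inferInstance⟩).1 hbad)).trans hr)

end Groth.Agent.S4865
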