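import Groth.Statements.S4872
import Groth.Agent.SchDomLib.Basic

set_option autoImplicit false
universe u
open CategoryTheory AlgebraicGeometry
open EGA43

namespace Groth.Agent.S4872

/-- Conditions b), c), d) (schematically dominant families): let p : X ⟶ S be a morphism and (f_i : Z_i
⟶ X) a family of morphisms. The following are equivalent: b) for every open V of X, a section of O_X
over V whose images in all the Γ(f_i⁻¹(V), O_{Z_i}) are zero is zero; c) for every open U of X, a
closed immersion j : Y ⟶ U through which each restriction f_i⁻¹(U) ⟶ U factors is an isomorphism; d)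
for every separated S-scheme X', every open U of X and every pair of S-morphisms u, v : U ⟶ X'
having the same composite with each f_i⁻¹(U) ⟶ U, one has u = v. -/
theorem result {X S : Scheme.{u}} (p : X ⟶ S) {ι : Type u} (Z : ι → Scheme.{u})
    (f : ∀ i, Z i ⟶ X) :
    [(∀ (V : (X).Opens) (t : Γ(X, V)), (∀ i, (f i).app V t = 0) → t = 0),
      ∀ (U : X.Opens) (Y : Scheme.{u}) (j : Y ⟶ (U : Scheme.{u})), IsClosedImmersion j →
        (∀ i, ∃ g : ((f i) ⁻¹ᵁ U : Scheme.{u}) ⟶ Y, g ≫ j = (f i) ∣_ U) → IsIso j,
      ∀ (X' : Scheme.{u}) (q : X' ⟶ S), IsSeparated q → ∀ (U : X.Opens) (u v : (U : Scheme.{u}) ⟶ X'),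
        u ≫ q = U.ι ≫ p → v ≫ q = U.ι ≫ p → (∀ i, ((f i) ∣_ U) ≫ u = ((f i) ∣_ U) ≫ v) → u = v].TFAE := by
  tfae_have 1 → 2 := by
    intro h U Y j hj hfac
    exact (Groth.Agent.SchDomLib.SchDom.restrict h U).isIso_of_factors j hfac
  tfae_have 2 → 3 := by
    intro h X' q hq U a b ha hb hab
    let d : (U : Scheme.{u}) ⟶ Limits.pullback.diagonalObj q :=
      Limits.pullback.lift a b (ha.trans hb.symm)
    have d1 : d ≫ Limits.pullback.fst q q = a := Limits.pullback.lift_fst _ _ _
    have d2 : d ≫ Limits.pullback.snd q q = b := Limits.pullback.lift_snd _ _ _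
    have hiso : IsIso (Limits.pullback.snd (Limits.pullback.diagonal q) d) := by
      refine h U _ _ inferInstance (fun i => ⟨Limits.pullback.lift ((f i ∣_ U) ≫ a) (f i ∣_ U) ?_,
        Limits.pullback.lift_snd _ _ _⟩)
      apply Limits.pullback.hom_ext
      · rw [Category.assoc, Category.assoc, Limits.pullback.diagonal_fst, Category.assoc, d1, Category.comp_id]
      · rw [Category.assoc, Category.assoc, Limits.pullback.diagonal_snd, Category.assoc, d2, Category.comp_id, hab i]
    have h0 := Limits.pullback.condition (f := Limits.pullback.diagonal q) (g := d)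
    have h1 := congr($h0 ≫ Limits.pullback.fst q q)
    have h2 := congr($h0 ≫ Limits.pullback.snd q q)
    rw [Category.assoc, Category.assoc, Limits.pullback.diagonal_fst, d1, Category.comp_id] at h1
    rw [Category.assoc, Category.assoc, Limits.pullback.diagonal_snd, d2, Category.comp_id] at h2
    exact (cancel_epi (Limits.pullback.snd (Limits.pullback.diagonal q) d)).1 (h1.symm.trans h2)
  tfae_have 3 → 1 := by
    intro h
    exact Groth.Agent.SchDomLib.SchDom.of_hom_ext_affineSpace p (fun U u v => h _ _ inferInstance U u v)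
  tfae_finish

end Groth.Agent.S4872
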