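import Groth.Statements.S4873
import Groth.Agent.SchDomLib.Basic

set_option autoImplicit false
universe u
open CategoryTheory AlgebraicGeometry
open EGA43

namespace Groth.Agent.S4873

/-- Let (f_i : Z_i ⟶ X) be a family of morphisms. If the family is schematically dominant, i.e. a
section of O_X over an open V whose pullback to every f_i⁻¹(V) vanishes is zero, then the union of
the images f_i(Z_i) is dense in X. Conversely, if X is reduced and this union is dense, the family
is schematically dominant. -/
theorem result {X : Scheme.{u}} {ι : Type u} (Z : ι → Scheme.{u})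
    (f : ∀ i, Z i ⟶ X) :
    ((∀ (V : (X).Opens) (t : Γ(X, V)), (∀ i, (f i).app V t = 0) → t = 0) → Dense (⋃ i, Set.range (f i))) ∧
    (IsReduced X → Dense (⋃ i, Set.range (f i)) → (∀ (V : (X).Opens) (t : Γ(X, V)), (∀ i, (f i).app V t = 0) → t = 0)) := by
  constructor
  · intro h
    rw [dense_iff_inter_open]
    rintro V hV ⟨x, hx⟩
    by_contra hne
    let W : X.Opens := ⟨V, hV⟩
    have hbot : ∀ i, (f i) ⁻¹ᵁ W = ⊥ := fun i => TopologicalSpace.Opens.ext (Set.eq_empty_of_forall_notMem
      (fun z hz => hne ⟨f i z, hz, Set.mem_iUnion.2 ⟨i, z, rfl⟩⟩))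
    have hone : (1 : Γ(X, W)) = 0 := h W 1 (fun i => by
      have : Subsingleton Γ(Z i, (f i) ⁻¹ᵁ W) := by
        rw [hbot i]; infer_instance
      exact Subsingleton.elim _ _)
    have := congr(X.presheaf.germ W x hx $hone)
    rw [map_one, map_zero] at this
    exact one_ne_zero this
  · intro hred hd V t ht
    rw [← AlgebraicGeometry.basicOpen_eq_bot_iff]
    by_contra hne
    obtain ⟨_, hz1, hz2⟩ := hd.inter_open_nonempty _ (X.basicOpen t).2
      (TopologicalSpace.Opens.ne_bot_iff_nonempty _ |>.1 hne)
    obtain ⟨i, z, rfl⟩ := Set.mem_iUnion.1 hz2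
    have h3 : z ∈ (f i) ⁻¹ᵁ X.basicOpen t := hz1
    rw [Scheme.preimage_basicOpen, ht i, Scheme.basicOpen_zero] at h3
    exact h3

end Groth.Agent.S4873
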