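import Groth.Statements.S4874
import Groth.Agent.SchDomLib.Basic

set_option autoImplicit false
universe u
open CategoryTheory AlgebraicGeometry
open EGA43

namespace Groth.Agent.S4874

/-- Let (f_i : Z_i ⟶ X) be a family of morphisms, g : X' ⟶ X a faithfully flat morphism and f'_i : Z_i
×_X X' ⟶ X' the base changes. If the family (f'_i) is schematically dominant, then so is the family
(f_i). (Schematically dominant: a section of the structure sheaf over an open whose pullback along
every member of the family vanishes is zero.) -/
theorem result {X X' : Scheme.{u}} {ι : Type u} (Z : ι → Scheme.{u})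
    (f : ∀ i, Z i ⟶ X) (g : X' ⟶ X) [Flat g] [Surjective g]
    (h : (∀ (V : (X').Opens) (t : Γ(X', V)), (∀ i, (Limits.pullback.snd (f i) g).app V t = 0) → t = 0)) :
    (∀ (V : (X).Opens) (t : Γ(X, V)), (∀ i, (f i).app V t = 0) → t = 0) := by
  intro V t ht
  have hg : g.app V t = 0 := h (g ⁻¹ᵁ V) _ (fun i => by
    have h1 := congr($(Scheme.Hom.congr_app (Limits.pullback.condition (f := f i) (g := g)).symm V) t)
    simp only [Scheme.Hom.comp_app] at h1
    refine h1.trans ?_
    have h2 : ((f i).app V ≫ (Limits.pullback.fst (f i) g).app ((f i) ⁻¹ᵁ V)) t = 0 :=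
      (congr((Limits.pullback.fst (f i) g).app _ $(ht i))).trans (map_zero _)
    rw [CommRingCat.comp_apply]
    exact (congr((Limits.pullback (f i) g).presheaf.map (eqToHom _).op $h2)).trans (map_zero _))
  refine X.IsSheaf.section_ext fun x hx => ?_
  obtain ⟨x', rfl⟩ := g.surjective x
  have hinj : Function.Injective (g.stalkMap x') := by
    have := Flat.stalkMap g x'
    algebraize [(g.stalkMap x').hom]
    have : IsLocalHom (algebraMap (X.presheaf.stalk (g x')) (X'.presheaf.stalk x')) :=
      inferInstanceAs (IsLocalHom (g.stalkMap x').hom)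
    have := Module.FaithfullyFlat.of_flat_of_isLocalHom (A := X.presheaf.stalk (g x')) (B := X'.presheaf.stalk x')
    exact FaithfulSMul.algebraMap_injective _ _
  have h1 : X.presheaf.germ V (g x') hx t = X.presheaf.germ V (g x') hx 0 := by
    refine hinj ?_
    rw [map_zero, map_zero]
    exact (Scheme.Hom.germ_stalkMap_apply g V x' hx t).trans (by rw [hg, map_zero])
  obtain ⟨W, hxW, iU, iV, he⟩ := X.presheaf.germ_eq _ hx hx t 0 h1
  exact ⟨W, iU.le, hxW, he⟩

end Groth.Agent.S4874
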