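import Groth.Statements.S4878

set_option autoImplicit false
universe u
open TensorProduct
open EGA43

namespace Groth.Agent.S4878

/-- Let A be a commutative ring, (u_i : M → M_i) a family of A-linear maps whose kernels have zero
intersection, and N a projective A-module. Then the kernels of the maps u_i ⊗ 1 : M ⊗_A N → M_i ⊗_A
N have zero intersection. -/
theorem result {A : Type u} [CommRing A]
    {M : Type u} [AddCommGroup M] [Module A M] {ι : Type u} (M' : ι → Type u)
    [∀ i, AddCommGroup (M' i)] [∀ i, Module A (M' i)] (u : ∀ i, M →ₗ[A] M' i)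
    (hu : ⨅ i, LinearMap.ker (u i) = ⊥)
    (N : Type u) [AddCommGroup N] [Module A N] [Module.Projective A N] :
    ⨅ i, LinearMap.ker ((u i).rTensor N) = ⊥ := by
  obtain ⟨s, hs⟩ := Module.projective_lifting_property (Finsupp.linearCombination A (id : N → N))
    (LinearMap.id : N →ₗ[A] N) (Finsupp.linearCombination_id_surjective A N)
  rw [eq_bot_iff]
  intro x hx
  simp only [Submodule.mem_iInf, LinearMap.mem_ker] at hx
  classical
  let φ : (n : N) → M ⊗[A] N →ₗ[A] M := fun n =>
    (TensorProduct.rid A M).toLinearMap ∘ₗ ((Finsupp.lapply n) ∘ₗ s).lTensor M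
  have h0 : ∀ n, φ n x = 0 := by
    intro n
    have : φ n x ∈ ⨅ i, LinearMap.ker (u i) := by
      simp only [Submodule.mem_iInf, LinearMap.mem_ker]
      intro i
      have key : (u i) ∘ₗ φ n = ((TensorProduct.rid A (M' i)).toLinearMap ∘ₗ
          ((Finsupp.lapply n) ∘ₗ s).lTensor (M' i)) ∘ₗ (u i).rTensor N := by
        ext m y
        simp [φ]
      have := LinearMap.congr_fun key x
      simp only [LinearMap.comp_apply] at this
      rw [this, hx i]; simp
    simpa [hu] using this
  have h1 : s.lTensor M x = 0 := by
    apply (TensorProduct.finsuppScalarRight A A M N).injective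
    ext n
    rw [map_zero]
    have key : (Finsupp.lapply n) ∘ₗ (TensorProduct.finsuppScalarRight A A M N).toLinearMap ∘ₗ s.lTensor M = φ n := by
      ext m y
      simp [φ]
    simpa [LinearMap.congr_fun key x] using h0 n |>.symm ▸ (LinearMap.congr_fun key x)
  have h2 := congrArg ((Finsupp.linearCombination A (id : N → N)).lTensor M) h1
  rw [← LinearMap.comp_apply, ← LinearMap.lTensor_comp, hs, LinearMap.lTensor_id] at h2
  simpa using h2

end Groth.Agent.S4878
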