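import Groth.Statements.S4880
import Groth.Agent.NoethPts.Basic

set_option autoImplicit false
universe u
open CategoryTheory AlgebraicGeometry
open EGA43

namespace Groth.Agent.S4880

/-- For a Noetherian irreducible scheme X the following are equivalent: a) the generic point of X is an
isolated point; b) the underlying set of X is finite; c) X has dimension at most 1 and finitely many
closed points. -/
theorem result (X : Scheme.{u}) [IsNoetherian X]
    [IrreducibleSpace X] :
    [IsOpen ({genericPoint X} : Set X),
      Finite X,
      topologicalKrullDim X ≤ 1 ∧ {x : X | IsClosed ({x} : Set X)}.Finite].TFAE := by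
  have hclu : closure ({genericPoint X} : Set X) = Set.univ := genericPoint_closure X
  tfae_have 1 → 2 := fun h => by
    have := NoethPts.finite_closure_singleton h.isLocallyClosed
    rw [hclu] at this
    exact Set.finite_univ_iff.1 this
  tfae_have 2 → 1 := fun h => by
    have : ({genericPoint X} : Set X) = (⋃ y ∈ ({genericPoint X}ᶜ : Set X), closure ({y} : Set X))ᶜ := by
      ext z
      simp only [Set.mem_singleton_iff, Set.mem_compl_iff, Set.mem_iUnion, not_exists]
      constructor
      · rintro rfl y hy hyc
        exact hy (((specializes_iff_mem_closure.2 hyc).antisymm (genericPoint_specializes y)).eq)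
      · intro h; by_contra hz; exact h z hz (subset_closure rfl)
    rw [this, isOpen_compl_iff]
    exact (Set.toFinite _).isClosed_biUnion fun _ _ => isClosed_closure
  tfae_have 1 → 3 := fun h => by
    have := NoethPts.finite_closure_singleton h.isLocallyClosed
    rw [hclu] at this
    refine ⟨?_, this.subset (Set.subset_univ _)⟩
    refine NoethPts.topologicalKrullDim_le_one_of_specializes fun a b c hab hbc => ?_
    by_cases hb : b = genericPoint X
    · exact Or.inl ((hab.antisymm (hb ▸ genericPoint_specializes a)).eq)
    · exact Or.inr (NoethPts.eq_of_specializes h.isLocallyClosed (genericPoint_specializes b) hb hbc)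
  tfae_have 3 → 2 := fun ⟨hd, hf⟩ => by
    have : (Set.univ : Set X) ⊆ insert (genericPoint X) {x : X | IsClosed ({x} : Set X)} := by
      intro y _
      by_contra hy
      simp only [Set.mem_insert_iff, Set.mem_ofPred_eq, not_or] at hy
      obtain ⟨z, hz, hzy⟩ : ∃ z ∈ closure ({y} : Set X), z ∉ ({y} : Set X) := by
        by_contra h'
        push Not at h'
        exact hy.2 (closure_eq_iff_isClosed.1 (subset_antisymm h' subset_closure))
      have hlt : ∀ a b : X, a ⤳ b → a ≠ b →
          TopologicalSpace.IrreducibleCloseds.mk (closure {b}) isIrreducible_singleton.closure isClosed_closure <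
          TopologicalSpace.IrreducibleCloseds.mk (closure {a}) isIrreducible_singleton.closure isClosed_closure := by
        intro a b hab hne
        refine lt_of_le_of_ne (closure_minimal (Set.singleton_subset_iff.2 hab.mem_closure) isClosed_closure) fun e => hne ?_
        have e' : closure ({b} : Set X) = closure {a} := congrArg (fun s : TopologicalSpace.IrreducibleCloseds X => (s : Set X)) e
        exact (hab.antisymm (specializes_iff_mem_closure.2 (e'.symm ▸ subset_closure rfl))).eq
      let l : LTSeries (TopologicalSpace.IrreducibleCloseds X) :=
        ((RelSeries.singleton _ (TopologicalSpace.IrreducibleCloseds.mk (closure {z}) isIrreducible_singleton.closure isClosed_closure)).snoc _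
          (hlt y z (specializes_iff_mem_closure.2 hz) fun e => hzy e.symm)).snoc
          (TopologicalSpace.IrreducibleCloseds.mk (closure {genericPoint X}) isIrreducible_singleton.closure isClosed_closure)
          (by simpa using hlt _ y (genericPoint_specializes y) (fun e => hy.1 e.symm))
      have : (l.length : WithBot ℕ∞) ≤ topologicalKrullDim X := Order.LTSeries.length_le_krullDim l
      exact absurd (this.trans hd) (by simp [l, RelSeries.snoc, RelSeries.append])
    exact Set.finite_univ_iff.1 ((hf.insert _).subset this)
  tfae_finish

end Groth.Agent.S4880
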