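import Groth.Statements.S4881
import Mathlib
import Groth.Agent.RectDepth.JacUC

set_option autoImplicit false
universe u
open CategoryTheory AlgebraicGeometry
open EGA43

namespace Groth.Agent.S4881

/-- Let X be a locally Noetherian scheme which is Jacobson, whose local rings are universally catenary,
and whose irreducible components X' are equidimensional in the sense that for every closed point x
of X' the dimension of X' equals the dimension of the set of generizations of x in X'. Then for
every dense open subset U of X, dim U = dim X. -/
theorem result (X : Scheme.{u}) [IsLocallyNoetherian X] [JacobsonSpace X]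
    (h2 : ∀ x : X, CAlg.IsUniversallyCatenary (X.presheaf.stalk x))
    (h3 : ∀ X' ∈ irreducibleComponents (X : Type u), ∀ x ∈ X', IsClosed ({x} : Set X) →
      topologicalKrullDim (↥X' : Type u) = topologicalKrullDim ↥{t : X | t ∈ X' ∧ t ⤳ x})
    (U : Set X) (hU : IsOpen U) (hd : Dense U) :
    topologicalKrullDim ↥U = topologicalKrullDim X := by
  have hS : Groth.Agent.RectDepth.GoodBase X := ⟨inferInstance, inferInstance, h2, h3⟩
  have h := Groth.Agent.RectDepth.dim_open_inter_closed (𝟙 X) hS hU isClosed_univ
  rw [Set.inter_univ] at h
  rw [h, Groth.Agent.DimTheory.topologicalKrullDim_eq_iSup_height]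
  refine le_antisymm (iSup_le fun τ => le_iSup (fun z : X => (Order.height z : WithBot ℕ∞)) τ.1) (iSup_le fun z => ?_)
  obtain ⟨η, hη, hmax⟩ := Groth.Agent.FlatMorLib.exists_maximal_generization z
  exact le_iSup_of_le ⟨η, Groth.Agent.RectDepth.dense_open_mem_max ⟨U, hU⟩ hd hmax⟩
    (WithBot.coe_le_coe.2 (Order.height_mono hη))

end Groth.Agent.S4881
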