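import Groth.Statements.S4882
import Mathlib.Topology.JacobsonSpace
import Groth.Agent.QHomeo.Basic

set_option autoImplicit false
universe u
open EGA43

namespace Groth.Agent.S4882

/-- Let X be a Jacobson space and Z a locally quasi-constructible subset of X, i.e. every point of X has
an open neighbourhood U such that U ∩ Z is a finite union of locally closed subsets of X. Then the
subspace Z is a Jacobson space, and a point of Z is closed in Z if and only if it is closed in X. -/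
theorem result {X : Type u} [TopologicalSpace X] [JacobsonSpace X]
    (Z : Set X)
    (hZ : ∀ x : X, ∃ U : Set X, IsOpen U ∧ x ∈ U ∧
      ∃ T : Set (Set X), T.Finite ∧ (∀ t ∈ T, IsLocallyClosed t) ∧ U ∩ Z = ⋃₀ T) :
    JacobsonSpace ↥Z ∧ ∀ z : ↥Z, IsClosed ({z} : Set ↥Z) ↔ IsClosed ({(z : X)} : Set X) := by
  have hkey : ∀ W : Set X, QHomeo.LQC W → W.Nonempty → (W ∩ closedPoints X).Nonempty := fun W hW ⟨x, hx⟩ => by
    obtain ⟨A, h1, h2, h3⟩ := hW.exists_mem hx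
    obtain ⟨y, hy, hy0⟩ := jacobsonSpace_iff_locallyClosed.1 ‹_› A ⟨x, h2⟩ h1
    exact ⟨y, h3 hy, hy0⟩
  have hcl : ∀ z : ↥Z, IsClosed ({(z : X)} : Set X) → IsClosed ({z} : Set ↥Z) := fun z hz => by
    have := hz.preimage (f := (Subtype.val : ↥Z → X)) continuous_subtype_val
    rwa [← Set.image_singleton, Set.preimage_image_eq _ Subtype.val_injective] at this
  refine ⟨jacobsonSpace_iff_locallyClosed.2 fun S hne hS => ?_, fun z => ⟨fun hz => ?_, hcl z⟩⟩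
  · obtain ⟨U, F, hU, hF, rfl⟩ := hS
    obtain ⟨O, hO, rfl⟩ := isOpen_induced_iff.1 hU
    obtain ⟨C, hC, rfl⟩ := isClosed_induced_iff.1 hF
    obtain ⟨x, hx⟩ := hne
    obtain ⟨y, ⟨⟨hyO, hyC⟩, hyZ⟩, hyc⟩ := hkey (O ∩ C ∩ Z)
      ((hO.isLocallyClosed.inter hC.isLocallyClosed).lqc.inter hZ) ⟨x.1, ⟨hx.1, hx.2⟩, x.2⟩
    exact ⟨⟨y, hyZ⟩, ⟨hyO, hyC⟩, hcl _ hyc⟩
  · obtain ⟨C, hC, e⟩ := isClosed_induced_iff.1 hz
    obtain ⟨y, ⟨hyC, hyZ⟩, hyc⟩ := hkey (C ∩ Z) (hC.isLocallyClosed.lqc.inter hZ)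
      ⟨z.1, (Set.ext_iff.1 e z).2 rfl, z.2⟩
    have : (⟨y, hyZ⟩ : ↥Z) = z := (Set.ext_iff.1 e ⟨y, hyZ⟩).1 hyC
    rw [← this]
    exact hyc

end Groth.Agent.S4882
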