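import Groth.Statements.S4885
import Mathlib

set_option autoImplicit false
universe u
open EGA43

namespace Groth.Agent.S4885

/-- Every finite algebra A' over a commutative ring A is a directed colimit (filtered inductive limit)
of A-algebras which are finite and of finite presentation over A. -/
theorem result (A A' : Type u) [CommRing A] [CommRing A']
    [Algebra A A'] [Module.Finite A A'] :
    ∃ (ι : Type u) (_ : Preorder ι) (G : ι → Type u) (_ : ∀ i, CommRing (G i)) (_ : ∀ i, Algebra A (G i))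
      (g : ∀ i j, i ≤ j → G i →ₐ[A] G j) (_ : ∀ i, Algebra (G i) A') (_ : ∀ i, IsScalarTower A (G i) A'),
      FlatCA.IsDirectedColimitRing G (fun i j h => (g i j h).toRingHom) A' ∧
        ∀ i, Module.Finite A (G i) ∧ Algebra.FinitePresentation A (G i) := by
  classical
  obtain ⟨n, v, hv⟩ := Algebra.FiniteType.iff_quotient_mvPolynomial''.1 (inferInstance : Algebra.FiniteType A A')
  let P := MvPolynomial (Fin n) A
  let K : Ideal P := RingHom.ker v
  have hp : ∀ i : Fin n, ∃ p : Polynomial A, p.Monic ∧ Polynomial.aeval (v (MvPolynomial.X i)) p = 0 :=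
    fun i => (Algebra.IsIntegral.isIntegral (R := A) _)
  choose p hpm hp0 using hp
  let J0 : Ideal P := Ideal.span (Set.range fun i => Polynomial.aeval (MvPolynomial.X i) (p i))
  have hJ0 : J0 ≤ K := Ideal.span_le.2 (by
    rintro _ ⟨i, rfl⟩
    show v _ = 0
    rw [← Polynomial.aeval_algHom_apply, hp0])
  let ι := {J : Ideal P // J.FG ∧ J0 ≤ J ∧ J ≤ K}
  letI alg : ∀ J : ι, Algebra (P ⧸ J.1) A' :=
    fun J => (Ideal.Quotient.lift J.1 v.toRingHom fun a ha => J.2.2.2 ha).toAlgebra
  have tow : ∀ J : ι, IsScalarTower A (P ⧸ J.1) A' := fun J => IsScalarTower.of_algebraMap_eq (R := A) (S := P ⧸ J.1) (A := A') fun a => (v.commutes a).symm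
  refine ⟨ι, inferInstance, fun J => P ⧸ J.1, fun _ => inferInstance, fun _ => inferInstance,
    fun i j h => Ideal.Quotient.factorₐ A h,
    alg, tow,
    ⟨⟨fun a b => ⟨⟨a.1 ⊔ b.1, Submodule.FG.sup a.2.1 b.2.1, a.2.2.1.trans le_sup_left, sup_le a.2.2.2 b.2.2.2⟩,
      show a.1 ≤ a.1 ⊔ b.1 from le_sup_left, show b.1 ≤ a.1 ⊔ b.1 from le_sup_right⟩⟩,
      ⟨⟨J0, Submodule.fg_span (Set.finite_range _), le_rfl, hJ0⟩⟩, ?_, ?_, ?_, ?_, ?_⟩, fun J => ⟨?_, ?_⟩⟩
  · intro i; exact Ideal.Quotient.ringHom_ext rfl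
  · intro i j k hij hjk; exact Ideal.Quotient.ringHom_ext rfl
  · intro i j h; exact Ideal.Quotient.ringHom_ext rfl
  · intro a
    obtain ⟨b, rfl⟩ := hv a
    exact ⟨⟨J0, Submodule.fg_span (Set.finite_range _), le_rfl, hJ0⟩, Ideal.Quotient.mk _ b, rfl⟩
  · intro i x hx
    obtain ⟨b, rfl⟩ := Ideal.Quotient.mk_surjective x
    have hb : b ∈ K := hx
    exact ⟨⟨i.1 ⊔ Ideal.span {b}, Submodule.FG.sup i.2.1 (Submodule.fg_span_singleton b), i.2.2.1.trans le_sup_left,
      sup_le i.2.2.2 ((Ideal.span_singleton_le_iff_mem _).2 hb)⟩, show i.1 ≤ i.1 ⊔ Ideal.span {b} from le_sup_left,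
      Ideal.Quotient.eq_zero_iff_mem.2 (Ideal.mem_sup_right (Ideal.mem_span_singleton_self b))⟩
  · haveI : Algebra.IsIntegral A (P ⧸ J.1) := by
      refine ⟨fun x => ?_⟩
      obtain ⟨b, rfl⟩ := Ideal.Quotient.mk_surjective x
      induction b using MvPolynomial.induction_on with
      | C a => exact isIntegral_algebraMap
      | add a b ha hb => rw [map_add]; exact ha.add hb
      | mul_X a i ha =>
        rw [map_mul]
        refine ha.mul ⟨p i, hpm i, ?_⟩
        show Polynomial.aeval _ (p i) = 0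
        rw [← Ideal.Quotient.mkₐ_eq_mk A, Polynomial.aeval_algHom_apply, Ideal.Quotient.mkₐ_eq_mk,
          Ideal.Quotient.eq_zero_iff_mem]
        exact J.2.2.1 (Ideal.subset_span ⟨i, rfl⟩)
    haveI : Algebra.FiniteType A (P ⧸ J.1) := Algebra.FiniteType.of_surjective (Ideal.Quotient.mkₐ A J.1) Ideal.Quotient.mk_surjective
    exact Algebra.IsIntegral.finite
  · exact Algebra.FinitePresentation.quotient J.2.1

end Groth.Agent.S4885
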