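import Groth.Statements.S4886
import Groth.Agent.MultHopf.Dense
import Groth.Agent.ConstrFib.Immersion

set_option autoImplicit false
universe u
open CategoryTheory AlgebraicGeometry
open EGA43

namespace Groth.Agent.S4886


theorem finiteType_int_sections {Y : Scheme.{u}}
    [LocallyOfFiniteType (Limits.IsTerminal.from specULiftZIsTerminal Y)] {U : Y.Opens} (hU : IsAffineOpen U) :
    Algebra.FiniteType ℤ Γ(Y, U) := by
  have h := (Limits.IsTerminal.from specULiftZIsTerminal Y).finiteType_appLE (isAffineOpen_top _) hU (le_top)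
  have h2 : (Int.castRingHom Γ(Spec (CommRingCat.of (ULift.{u} ℤ)), ⊤)).FiniteType :=
    RingHom.FiniteType.of_surjective _ fun x => ⟨((Scheme.ΓSpecIso (CommRingCat.of (ULift.{u} ℤ))).hom x).down, by
      apply (Scheme.ΓSpecIso (CommRingCat.of (ULift.{u} ℤ))).commRingCatIsoToRingEquiv.injective
      rw [eq_intCast, map_intCast]
      exact ULift.ext _ _ (by simp; rfl)⟩
  have := h.comp h2
  have := RingHom.finiteType_algebraMap.1 (show (algebraMap ℤ Γ(Y, U)).FiniteType from RingHom.ext_int (((Limits.IsTerminal.from specULiftZIsTerminal Y).appLE ⊤ U le_top).hom.comp (Int.castRingHom _)) (algebraMap ℤ Γ(Y, U)) ▸ this)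
  exact this

noncomputable def residueEquiv {Y : Scheme.{u}} {U : Y.Opens} (hU : IsAffineOpen U) (p : PrimeSpectrum Γ(Y, U)) :
    Y.residueField (hU.fromSpec p) ≃+* p.asIdeal.ResidueField :=
  haveI := hU.isOpenImmersion_fromSpec
  have := Groth.Agent.ConstrFib.isIso_residueFieldMap hU.fromSpec p
  ((asIso (hU.fromSpec.residueFieldMap p)).trans (Scheme.Spec.residueFieldIso Γ(Y, U) p)).commRingCatIsoToRingEquiv

theorem isClosed_iff_finite {Y : Scheme.{u}}
    [LocallyOfFiniteType (Limits.IsTerminal.from specULiftZIsTerminal Y)] (y : Y) :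
    IsClosed ({y} : Set Y) ↔ Finite ↑(Y.residueField y) := by
  have key : ∀ (U : Y.Opens) (hU : IsAffineOpen U) (p : PrimeSpectrum Γ(Y, U)),
      p.asIdeal.IsMaximal ↔ Finite (Y.residueField (hU.fromSpec p)) := by
    intro U hU p
    have := finiteType_int_sections hU
    rw [(residueEquiv hU p).toEquiv.finite_iff]
    refine ⟨fun _ => ?_, fun h => ?_⟩
    · have := Groth.Agent.MultHopf.finite_residueField_int p.asIdeal
      exact Finite.of_surjective _ (Ideal.bijective_algebraMap_quotient_residueField p.asIdeal).2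
    have : Finite (Γ(Y, U) ⧸ p.asIdeal) :=
      Finite.of_injective (algebraMap (Γ(Y, U) ⧸ p.asIdeal) p.asIdeal.ResidueField)
        (Ideal.injective_algebraMap_quotient_residueField p.asIdeal)
    exact Ideal.Quotient.maximal_of_isField _ (Finite.isField_of_domain _)
  constructor
  · intro hy
    obtain ⟨U, hU, hyU, -⟩ := TopologicalSpace.Opens.isBasis_iff_nbhd.mp Y.isBasis_affineOpens (TopologicalSpace.Opens.mem_top y)
    replace hU : IsAffineOpen U := hU
    obtain ⟨p, rfl⟩ : y ∈ Set.range hU.fromSpec := hU.range_fromSpec.ge hyU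
    refine (key U hU p).1 ((PrimeSpectrum.isClosed_singleton_iff_isMaximal p).1 ?_)
    have e : ({p} : Set (PrimeSpectrum Γ(Y, U))) = hU.fromSpec ⁻¹' {hU.fromSpec p} := by
      ext q
      exact ⟨fun h => h ▸ rfl, fun h => hU.fromSpec.isOpenEmbedding.injective h⟩
    exact (congrArg IsClosed e).mpr (hy.preimage hU.fromSpec.continuous)
  · intro hy
    refine closure_subset_iff_isClosed.1 fun z hz => ?_
    obtain ⟨U, hU, hzU, -⟩ := TopologicalSpace.Opens.isBasis_iff_nbhd.mp Y.isBasis_affineOpens (TopologicalSpace.Opens.mem_top z)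
    replace hU : IsAffineOpen U := hU
    have hspec : y ⤳ z := specializes_iff_mem_closure.2 hz
    obtain ⟨q, rfl⟩ : z ∈ Set.range hU.fromSpec := hU.range_fromSpec.ge hzU
    obtain ⟨p, rfl⟩ : y ∈ Set.range hU.fromSpec := hU.range_fromSpec.ge (hspec.mem_open U.2 hzU)
    have hc := (PrimeSpectrum.isClosed_singleton_iff_isMaximal p).2 ((key U hU p).2 hy)
    have : p ⤳ q := hU.fromSpec.isOpenEmbedding.isInducing.specializes_iff.1 hspec
    rw [(this.mem_closed hc rfl : q = p)]
    rfl


/-- Let Y be a scheme of finite type over ℤ. (i) A point y of Y is closed if and only if the residue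
field k(y) is finite. (ii) For every prime number p and every integer d ≥ 1, the set of points y of
Y such that k(y) is an extension of 𝔽_p of degree dividing d, i.e. admits a ring homomorphism into
the field with p^d elements, is finite. -/
theorem result (Y : Scheme.{u}) [CompactSpace Y]
    [LocallyOfFiniteType (Limits.IsTerminal.from specULiftZIsTerminal Y)] :
    (∀ y : Y, IsClosed ({y} : Set Y) ↔ Finite ↑(Y.residueField y)) ∧
    ∀ (p d : ℕ) [Fact p.Prime], 0 < d →
      {y : Y | Nonempty (↑(Y.residueField y) →+* GaloisField p d)}.Finite := by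
  refine ⟨fun y => isClosed_iff_finite y, fun p d _ _ => ?_⟩
  classical
  obtain ⟨w, hw, hcov⟩ := isCompact_iff_finite_and_eq_biUnion_affineOpens (U := (⊤ : Y.Opens)).mp isCompact_univ
  have hsub : {y : Y | Nonempty (↑(Y.residueField y) →+* GaloisField p d)} ⊆
      ⋃ U ∈ w, {y : Y | Nonempty (↑(Y.residueField y) →+* GaloisField p d)} ∩ U.1 := fun y hy => by
    obtain ⟨U, hU⟩ := TopologicalSpace.Opens.mem_iSup.1 (show y ∈ ⨆ U ∈ w, (U.1 : Y.Opens) from hcov ▸ TopologicalSpace.Opens.mem_top y)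
    obtain ⟨hUw, hyU⟩ := TopologicalSpace.Opens.mem_iSup.1 hU
    exact Set.mem_biUnion hUw ⟨hy, hyU⟩
  refine (hw.biUnion fun U _ => ?_).subset hsub
  have := finiteType_int_sections U.2
  obtain ⟨s, hs⟩ := Algebra.FiniteType.out (R := ℤ) (A := Γ(Y, U.1))
  have : Finite (Γ(Y, U.1) →+* GaloisField p d) := by
    refine Finite.of_injective (fun φ (x : s) => φ x) fun φ ψ h => RingHom.ext fun r => ?_
    exact DFunLike.congr_fun (AlgHom.ext_of_adjoin_eq_top hs (φ₁ := φ.toIntAlgHom) (φ₂ := ψ.toIntAlgHom) fun x hx => congrFun h ⟨x, hx⟩) r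
  let T : Set (PrimeSpectrum Γ(Y, U.1)) := Set.range fun φ : Γ(Y, U.1) →+* GaloisField p d => ⟨RingHom.ker φ, RingHom.ker_isPrime φ⟩
  refine ((Set.finite_range _).image U.2.fromSpec : (U.2.fromSpec '' T).Finite).subset ?_
  rintro y ⟨⟨ψ⟩, hyU⟩
  obtain ⟨(q : PrimeSpectrum Γ(Y, U.1)), rfl⟩ : y ∈ Set.range U.2.fromSpec := U.2.range_fromSpec.ge hyU
  have : q.asIdeal.IsPrime := q.isPrime
  refine ⟨q, ⟨(ψ.comp (residueEquiv U.2 q).symm.toRingHom).comp (algebraMap Γ(Y, U.1) q.asIdeal.ResidueField), ?_⟩, rfl⟩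
  refine PrimeSpectrum.ext ?_
  show RingHom.ker _ = _
  rw [RingHom.ker_comp_of_injective _ (RingHom.injective _), Ideal.ker_algebraMap_residueField]

end Groth.Agent.S4886
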