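import Groth.Statements.S4887
import Mathlib
import Groth.Agent.FlatInjCoker.Scheme
import Groth.Agent.QCohBase.FinitePresentation

set_option autoImplicit false
universe u
open EGA43

namespace Groth.Agent.S4887

open AlgebraicGeometry CategoryTheory Limits in
/-- Let f : X ⟶ Y be locally of finite presentation, G and H quasi-coherent O_X-modules of finite
presentation with H f-flat, and p : G ⟶ H an epimorphism. Then Ker p is an O_X-module of finite
presentation. -/
theorem result {X Y : Scheme.{u}} (f : X ⟶ Y) [LocallyOfFinitePresentation f]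
    (G H : X.Modules) [Coh.IsQCoh G] [Coh.IsQCoh H] (hG : CohB1.IsFP G) (hH : CohB1.IsFP H)
    (hflat : FlatMod.IsFlatOver f H) (p : G ⟶ H) [Epi p] :
    CohB1.IsFP (kernel p) := by
  haveI : G.IsQuasicoherent := ‹Coh.IsQCoh G›
  haveI : H.IsQuasicoherent := ‹Coh.IsQCoh H›
  haveI : (kernel p).IsQuasicoherent := QCohBase.isQuasicoherent_kernel p ‹_› ‹_›
  refine QCohBase.isFinitePresentation_of_affine (kernel p) fun x => ?_
  obtain ⟨W, hxW, hW⟩ := QCohBase.exists_affine_finitePresentation G hG x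
  obtain ⟨W', hxW', hW'⟩ := QCohBase.exists_affine_finitePresentation H hH x
  obtain ⟨_, ⟨V, hV, rfl⟩, hfx, -⟩ :=
    Y.isBasis_affineOpens.exists_subset_of_mem_open (Set.mem_univ (f x)) isOpen_univ
  obtain ⟨_, ⟨U, hU, rfl⟩, hxU, hle⟩ :=
    X.isBasis_affineOpens.exists_subset_of_mem_open (show x ∈ W ⊓ W' ⊓ f ⁻¹ᵁ V from ⟨⟨hxW, hxW'⟩, hfx⟩)
      (W ⊓ W' ⊓ f ⁻¹ᵁ V).2
  have e : U ≤ f ⁻¹ᵁ V := fun y hy => (hle hy).2
  haveI := hW U hU fun y hy => (hle hy).1.1
  haveI := hW' U hU fun y hy => (hle hy).1.2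
  letI : Algebra Γ(Y, V) Γ(X, U) := (f.appLE V U e).hom.toAlgebra
  letI := FlatOver.baseModule f H e
  haveI : IsScalarTower Γ(Y, V) Γ(X, U) Γ(H, U) := .of_algebraMap_smul fun _ _ ↦ rfl
  haveI : Algebra.FinitePresentation Γ(Y, V) Γ(X, U) := Scheme.Hom.finitePresentation_appLE f hV hU e
  haveI : Module.Flat Γ(Y, V) Γ(H, U) := FlatOver.flat_of_isFlatOverAt f H e hU hV fun y _ => hflat y
  let pU := QCohBase.appL p U
  haveI := FlatInjCoker.finitePresentation_ker_of_flat Γ(Y, V) pU (QCohBase.app_surjective_of_epi p ‹_› ‹_› hU)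
  refine ⟨U, hU, hxU, Module.FinitePresentation.of_equiv (LinearEquiv.ofBijective
    (LinearMap.codRestrict (LinearMap.ker pU) (QCohBase.appL (kernel.ι p) U) fun z => ?_) ⟨?_, ?_⟩).symm⟩
  · show p.app U ((kernel.ι p).app U z) = 0
    rw [← ConcreteCategory.comp_apply, ← Scheme.Modules.Hom.comp_app, kernel.condition]
    rfl
  · exact fun a b hab => QCohBase.app_injective_of_mono (kernel.ι p) U (congrArg Subtype.val hab)
  · rintro ⟨z, hz⟩
    let T : ShortComplex X.Modules := ShortComplex.mk (kernel.ι p) p (kernel.condition p)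
    haveI : Mono T.f := inferInstanceAs (Mono (kernel.ι p))
    obtain ⟨w, hw⟩ := QCohBase.sections_exact_left (T := T)
      (ShortComplex.exact_of_f_is_kernel _ (kernelIsKernel p)) z hz
    exact ⟨w, Subtype.ext hw⟩

end Groth.Agent.S4887
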