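import Groth.Statements.S4889
import Mathlib
import Groth.Agent.RectDepth.JacUC
import Groth.Agent.RectDepth.StalkGen
import Groth.Agent.QuasiFlatLib.Basic
import Groth.Agent.QCohBase.Support

set_option autoImplicit false
universe u
open CategoryTheory AlgebraicGeometry
open EGA43

namespace Groth.Agent.S4889

/-- Stated as the dimension equality to which its two-line proof reduces it: let S be a locally
Noetherian Jacobson scheme whose local rings are universally catenary and whose irreducible
components are equidimensional (for every irreducible component S' and every closed point s of S',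
dim S' equals the dimension of the space of generizations of s in S'); let g : X ⟶ S be a morphism
locally of finite type, F a coherent O_X-module, Y its support and x a point of Y. Then dim(cl{x}) +
dim(F_x) = dim_x(Y), where dim(F_x) is the Krull dimension of the O_{X,x}-module F_x (the Krull
dimension of its support in Spec O_{X,x}) and dim_x(Y) is the local dimension of Y at x. (The
published statement reads prof*_x(F) = dim_x(Y) − coprof(F_x), with the rectified depth prof*_x(F) =
prof(F_x) + dim cl{x} and the codepth coprof(F_x) = dim(F_x) − prof(F_x); for the nonzero finitely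
generated module F_x this is the equality stated here. The published form of the special case in
which the base is X itself assumes only the Jacobson and universally-catenary conditions; this row
keeps the equidimensionality of the irreducible components of the base, which the proof uses and
without which the formula fails.) -/
theorem result {X S : Scheme.{u}} [IsLocallyNoetherian S]
    [JacobsonSpace S] (h2 : ∀ s : S, CAlg.IsUniversallyCatenary (S.presheaf.stalk s))
    (h3 : ∀ S' ∈ irreducibleComponents (S : Type u), ∀ s ∈ S', IsClosed ({s} : Set S) →
      topologicalKrullDim (↥S' : Type u) = topologicalKrullDim ↥{t : S | t ∈ S' ∧ t ⤳ s})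
    (g : X ⟶ S) [LocallyOfFiniteType g] (F : X.Modules) (hF : Coh.IsCoh F) (x : X) (hx : x ∈ CohB1.support F) :
    topologicalKrullDim ↥(closure ({x} : Set X)) + Module.supportDim ↑(X.presheaf.stalk x) ↑(F.presheaf.stalk x) =
      FlatMor.localDim ↥(CohB1.support F) ⟨x, hx⟩ := by
  haveI hT : IsLocallyNoetherian X := LocallyOfFiniteType.isLocallyNoetherian g
  have hS : Groth.Agent.RectDepth.GoodBase S := ⟨inferInstance, inferInstance, h2, h3⟩
  let Y := CohB1.support F
  have hY : IsClosed Y := Groth.Agent.QCohBase.isClosed_support F hF.2
  haveI : F.IsQuasicoherent := hF.1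
  haveI : Module.Finite (X.presheaf.stalk x) (F.presheaf.stalk x) := Groth.Agent.QuasiFlatLib.finite_stalk F hF x
  let A := X.presheaf.stalk x
  let M := F.presheaf.stalk x
  -- the generizations in the support
  let I : Ideal A := Module.annihilator A M
  let Q : CommRingCat.{u} := CommRingCat.of (A ⧸ I)
  let π : A ⟶ Q := CommRingCat.ofHom (Ideal.Quotient.mk I)
  haveI : IsClosedImmersion (Spec.map π) := IsClosedImmersion.spec_of_surjective _ Ideal.Quotient.mk_surjective
  let j := Spec.map π ≫ X.fromSpecStalk x
  have hj : Set.range j = Groth.Agent.RectDepth.GenPts Y x := by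
    rw [Scheme.Hom.comp_base, TopCat.coe_comp, Set.range_comp]
    have hs : Set.range (Spec.map π) = Module.support A M := by
      rw [Module.support_eq_zeroLocus]
      show Set.range (PrimeSpectrum.comap (Ideal.Quotient.mk I)) = _
      rw [range_comap_of_surjective _ _ Ideal.Quotient.mk_surjective, Ideal.mk_ker]
    rw [hs]
    ext a
    constructor
    · rintro ⟨p, hp, rfl⟩
      refine ⟨?_, (Scheme.range_fromSpecStalk (X := X) (x := x)).le ⟨p, rfl⟩⟩
      exact not_subsingleton_iff_nontrivial.2 ((Groth.Agent.RectDepth.inv_localized_stalk F x p _ rfl).2.2.1 hp)
    · rintro ⟨ha, hax⟩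
      obtain ⟨p, hp⟩ := Groth.Agent.RectDepth.exists_specStalkEmb x a hax
      exact ⟨p, (Groth.Agent.RectDepth.inv_localized_stalk F x p a hp).2.2.2 (not_subsingleton_iff_nontrivial.1 ha), hp⟩
  have hdim : topologicalKrullDim ↥(Groth.Agent.RectDepth.GenPts Y x) = Module.supportDim A M := by
    rw [← hj, ← j.isEmbedding.toHomeomorph.isHomeomorph.topologicalKrullDim_eq,
      Module.supportDim_eq_ringKrullDim_quotient_annihilator]
    exact PrimeSpectrum.topologicalKrullDim_eq_ringKrullDim Q
  rw [← hdim]
  exact (Groth.Agent.RectDepth.localDim_data g hS Y hY x hx).1.symm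

end Groth.Agent.S4889
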