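import Groth.Statements.S4891
import Mathlib
import Groth.Agent.FlatCrit.BaseIdeal

set_option autoImplicit false
universe u
open TensorProduct
open EGA43

namespace Groth.Agent.S4891

/-- Let A be a commutative ring, J a nilpotent ideal of A, B a commutative A-algebra and M a B-module.
If M is flat over A, M/JM is flat over B/JB, B/JB is flat over A/J and mM ≠ M for every maximal
ideal m of B containing JB, then B is flat over A. (Under the first two hypotheses M is also flat
over B; that implication is stated elsewhere and not repeated here.) -/
theorem result {A B : Type u} [CommRing A] [CommRing B] [Algebra A B]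
    (J : Ideal A) (hJ : IsNilpotent J) (M : Type u) [AddCommGroup M] [Module B M] [Module A M] [IsScalarTower A B M]
    (hc1 : Module.Flat A M)
    (hc2 : Module.Flat (B ⧸ J.map (algebraMap A B)) ((B ⧸ J.map (algebraMap A B)) ⊗[B] M))
    (hd1 : Module.Flat (A ⧸ J) ((A ⧸ J) ⊗[A] B))
    (hd2 : ∀ m : Ideal B, m.IsMaximal → J.map (algebraMap A B) ≤ m → (m • (⊤ : Submodule B M)) ≠ ⊤) :
    Module.Flat A B := by
  haveI := hc1; haveI := hc2; haveI := hd1
  let I := J.map (algebraMap A B)
  have hI : IsNilpotent I := by
    obtain ⟨n, hn⟩ := hJ
    exact ⟨n, by rw [← Ideal.map_pow, hn, Submodule.zero_eq_bot, Ideal.map_bot]; rfl⟩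
  haveI hM : Module.Flat B M := FlatCrit.flat_of_isNilpotent hI
    (FlatCrit.lTensor_subtype_map_injective
      (Module.Flat.lTensor_preserves_injective_linearMap (R := A) (M := M) J.subtype Subtype.val_injective))
  haveI : Module.FaithfullyFlat B M := ⟨fun {m} hm => hd2 m hm (by
    obtain ⟨n, hn⟩ := hI
    refine hm.isPrime.le_of_pow_le (n := n) ?_
    rw [hn, Submodule.zero_eq_bot]
    exact bot_le)⟩
  refine FlatCrit.flat_of_isNilpotent hJ ?_
  let g := TensorProduct.AlgebraTensorModule.lTensor B B J.subtype
  have hg : Function.Injective (g.lTensor M) := by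
    let eJ := TensorProduct.AlgebraTensorModule.cancelBaseChange A B B M J
    let eA := TensorProduct.AlgebraTensorModule.cancelBaseChange A B B M A
    have key : ∀ z, eA (g.lTensor M z) = J.subtype.lTensor M (eJ z) := by
      intro z
      induction z with
      | zero => simp
      | add a b ha hb => simp only [map_add, ha, hb]
      | tmul x w =>
        induction w with
        | zero => simp
        | add a b ha hb => simp only [TensorProduct.tmul_add, map_add, ha, hb]
        | tmul b j => simp [eA, eJ, g]
    intro x y hxy
    apply eJ.injective
    apply Module.Flat.lTensor_preserves_injective_linearMap (R := A) (M := M) J.subtype Subtype.val_injective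
    rw [← key, ← key, hxy]
  exact (Module.FaithfullyFlat.lTensor_injective_iff_injective B M g).1 hg

end Groth.Agent.S4891
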