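import Groth.Statements.S4894
import Groth.Agent.QHomeo.Basic

set_option autoImplicit false
universe u
open EGA43

namespace Groth.Agent.S4894

/-- Let f : X → Y be continuous and (W_i) an open covering of Y such that every restriction f⁻¹(W_i) →
W_i is a quasi-homeomorphism (taking preimages is a bijection on open subsets). Then f is a
quasi-homeomorphism. -/
theorem result {X Y : Type u} [TopologicalSpace X]
    [TopologicalSpace Y] (f : X → Y) (hf : Continuous f) {ι : Type u} (W : ι → Set Y)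
    (hWo : ∀ i, IsOpen (W i)) (hWc : ⋃ i, W i = Set.univ)
    (h : ∀ i, ((∀ U₁ U₂ : Set ↥(W i), IsOpen U₁ → IsOpen U₂ → ((W i).restrictPreimage f) ⁻¹' U₁ = ((W i).restrictPreimage f) ⁻¹' U₂ → U₁ = U₂) ∧ (∀ V : Set ↥(f ⁻¹' W i), IsOpen V → ∃ U : Set ↥(W i), IsOpen U ∧ ((W i).restrictPreimage f) ⁻¹' U = V))) :
    ((∀ U₁ U₂ : Set Y, IsOpen U₁ → IsOpen U₂ → (f) ⁻¹' U₁ = (f) ⁻¹' U₂ → U₁ = U₂) ∧ (∀ V : Set X, IsOpen V → ∃ U : Set Y, IsOpen U ∧ (f) ⁻¹' U = V)) := by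
  have hcov : ∀ y, ∃ i, y ∈ W i := fun y => Set.mem_iUnion.1 (hWc.symm ▸ Set.mem_univ y)
  constructor
  · intro U₁ U₂ h₁ h₂ e
    ext y
    obtain ⟨i, hi⟩ := hcov y
    have := (h i).1 (Subtype.val ⁻¹' U₁) (Subtype.val ⁻¹' U₂)
      (h₁.preimage continuous_subtype_val) (h₂.preimage continuous_subtype_val)
      (Set.ext fun x => Set.ext_iff.1 e x.1)
    exact Set.ext_iff.1 this ⟨y, hi⟩
  · intro V hV
    choose U hU eU using fun i => (h i).2 (Subtype.val ⁻¹' V) (hV.preimage continuous_subtype_val)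
    refine ⟨⋃ i, Subtype.val '' U i, isOpen_iUnion fun i => (hWo i).isOpenMap_subtype_val _ (hU i), ?_⟩
    ext x
    constructor
    · intro hx
      obtain ⟨i, y, hy, e⟩ := Set.mem_iUnion.1 hx
      have hxi : f x ∈ W i := e ▸ y.2
      have : (⟨f x, hxi⟩ : W i) ∈ U i := by rwa [show (⟨f x, hxi⟩ : W i) = y from Subtype.ext e.symm]
      exact (Set.ext_iff.1 (eU i) ⟨x, hxi⟩).1 this
    · intro hx
      obtain ⟨i, hi⟩ := hcov (f x)
      exact Set.mem_iUnion.2 ⟨i, ⟨f x, hi⟩, (Set.ext_iff.1 (eU i) ⟨x, hi⟩).2 hx, rfl⟩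

end Groth.Agent.S4894
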