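import Groth.Statements.S4896
import Mathlib
import Groth.Agent.RectDepth.JacReg

set_option autoImplicit false
universe u
open CategoryTheory AlgebraicGeometry
open EGA43

namespace Groth.Agent.S4896

open Groth.Agent Groth.Agent.RectDepth

/-- Let S be locally Noetherian, Jacobson and regular with equidimensional irreducible components, g : X
⟶ S locally of finite type and F a coherent O_X-module. For every point x of X the rectified depth
prof*_x(F) = prof(F_x) + dim cl{x} is the unique n (a natural number or ∞) such that, for some open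
neighbourhood U of x, prof(F_{x'}) = n for every point x' of U ∩ cl{x} which is closed in U. -/
theorem result {X S : Scheme.{u}} [IsLocallyNoetherian S] [JacobsonSpace S]
    (hreg : ∀ s : S, IsRegularLocalRing ↑(S.presheaf.stalk s))
    (h3 : ∀ S' ∈ irreducibleComponents (S : Type u), ∀ s ∈ S', IsClosed ({s} : Set S) →
      topologicalKrullDim (↥S' : Type u) = topologicalKrullDim ↥{t : S | t ∈ S' ∧ t ⤳ s})
    (g : X ⟶ S) [LocallyOfFiniteType g] (F : X.Modules) (hF : Coh.IsCoh F) (x : X) :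
    letI pstar : WithBot ℕ∞ :=
      ((LocCoh.depth ↑(X.presheaf.stalk x) ↑(F.presheaf.stalk x) : ℕ∞) : WithBot ℕ∞) +
        topologicalKrullDim ↥(closure ({x} : Set X))
    ∀ n : ℕ∞,
      (∃ U : X.Opens, x ∈ U ∧ ∀ x' : ↥U, (x' : X) ∈ closure ({x} : Set X) → IsClosed ({x'} : Set ↥U) →
        LocCoh.depth ↑(X.presheaf.stalk (x' : X)) ↑(F.presheaf.stalk (x' : X)) = n) ↔
      ((n : WithBot ℕ∞) = pstar) := by
  haveI : JacobsonSpace X := LocallyOfFiniteType.jacobsonSpace g
  obtain ⟨W, D, hxW, hW, htop⟩ := exists_nbhd_pstar (goodBase_of_regular hreg h3) hreg g F hF x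
  -- near `x`, the rectified depth is constant on the closure of `x`
  obtain ⟨U0, hxU0, hU0⟩ : ∃ U0 : X.Opens, x ∈ U0 ∧ ∀ y ∈ U0, y ∈ closure ({x} : Set X) → pstar F y = pstar F x := by
    cases hp : pstar F x with
    | top =>
      refine ⟨⟨_, hW (D + 1)⟩, ⟨hxW, by rw [hp]; exact le_top⟩, fun y hy _ => ?_⟩
      exact htop y hy.1 hy.2
    | coe m =>
      refine ⟨⟨_, hW m⟩, ⟨hxW, hp.ge⟩, fun y hy hyx => ?_⟩
      refine le_antisymm (not_lt.1 fun hlt => ?_) hy.2
      have h1 : x ∈ {z | z ∈ W ∧ ((m + 1 : ℕ) : ℕ∞) ≤ pstar F z} :=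
        (specializes_iff_mem_closure.2 hyx).mem_open (hW (m + 1)) ⟨hy.1, by push_cast; exact Order.add_one_le_of_lt hlt⟩
      have h2 := h1.2
      rw [hp] at h2
      have h3 : m + 1 ≤ m := by exact_mod_cast h2
      omega
  have hclosed : ∀ (U : X.Opens) (x' : U), IsClosed ({x'} : Set U) → Order.height (x' : X) = 0 := fun U x' hx' => by
    refine height_eq_zero_of_closed (isClosed_singleton_of_isLocallyClosed_singleton ?_)
    have h := hx'.isLocallyClosed.image (f := U.ι) U.ι.isEmbedding.isInducing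
      (by rw [Scheme.Opens.range_ι]; exact U.isOpen.isLocallyClosed)
    have e : U.ι '' ({x'} : Set (U : Scheme.{u})) = {(x' : X)} := Set.image_singleton
    exact e ▸ h
  intro n
  rw [coe_pstar, WithBot.coe_inj]
  constructor
  · rintro ⟨U, hxU, hU⟩
    obtain ⟨z, ⟨⟨hzU, hzx⟩, hzc⟩⟩ := nonempty_inter_closedPoints (X := X) (Z := ((U ⊓ U0 : X.Opens) : Set X) ∩ closure {x})
      ⟨x, ⟨hxU, hxU0⟩, subset_closure rfl⟩ ((U ⊓ U0 : X.Opens).isOpen.isLocallyClosed.inter isClosed_closure.isLocallyClosed)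
    have hzc' : IsClosed ({(⟨z, hzU.1⟩ : U)} : Set U) := by
      have h := (show IsClosed ({z} : Set X) from hzc).preimage (continuous_subtype_val (p := fun a => a ∈ U))
      rwa [show Subtype.val ⁻¹' ({z} : Set X) = ({(⟨z, hzU.1⟩ : U)} : Set U) from
        Set.ext fun a => ⟨fun e => Subtype.ext e, fun e => congrArg Subtype.val e⟩] at h
    rw [← hU0 z hzU.2 hzx, pstar, height_eq_zero_of_closed hzc, add_zero]
    exact (hU ⟨z, hzU.1⟩ hzx hzc').symm
  · intro hn
    refine ⟨U0, hxU0, fun x' hx' hc => ?_⟩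
    have := hU0 x' x'.2 hx'
    rw [pstar, hclosed U0 x' hc, add_zero] at this
    rw [this, hn]

end Groth.Agent.S4896
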