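import Groth.Statements.S4903
import Groth.Agent.QHomeo.Basic

set_option autoImplicit false
universe u
open EGA43

namespace Groth.Agent.S4903

/-- Conditions a), b), b′), c″), c‴) and its last assertion: given a topological space X and a subset X₀
⊆ X, the statements below are equivalent. Every locally closed subset of X that is nonempty
intersects X₀. Every nonempty locally quasi-constructible subset of X intersects X₀; here a subset
is locally quasi-constructible when each point of X has an open neighbourhood on which the subset's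
trace can be written as a union of finitely many locally closed sets. Each locally
quasi-constructible Z ⊆ X is contained in the closure of Z ∩ X₀. Any two quasi-constructible subsets
of X (unions of finitely many locally closed sets) having equal traces on X₀ coincide. Any two
locally quasi-constructible subsets of X having equal traces on X₀ coincide. Assuming these
conditions, each locally quasi-constructible subset of the subspace X₀ arises as the trace on X₀ of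
some locally quasi-constructible subset of X. -/
theorem result {X : Type u} [TopologicalSpace X] (X₀ : Set X) :
    [∀ Z : Set X, IsLocallyClosed Z → Z.Nonempty → (Z ∩ X₀).Nonempty,
      ∀ Z : Set X, (∀ x : X, ∃ U : Set X, IsOpen U ∧ x ∈ U ∧ ∃ T : Set (Set X), T.Finite ∧ (∀ t ∈ T, IsLocallyClosed t) ∧ U ∩ Z = ⋃₀ T) → Z.Nonempty → (Z ∩ X₀).Nonempty,
      ∀ Z : Set X, (∀ x : X, ∃ U : Set X, IsOpen U ∧ x ∈ U ∧ ∃ T : Set (Set X), T.Finite ∧ (∀ t ∈ T, IsLocallyClosed t) ∧ U ∩ Z = ⋃₀ T) → Z ⊆ closure (Z ∩ X₀),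
      ∀ Z Z' : Set X, (∃ T : Set (Set X), T.Finite ∧ (∀ t ∈ T, IsLocallyClosed t) ∧ Z = ⋃₀ T) → (∃ T : Set (Set X), T.Finite ∧ (∀ t ∈ T, IsLocallyClosed t) ∧ Z' = ⋃₀ T) → Z ∩ X₀ = Z' ∩ X₀ → Z = Z',
      ∀ Z Z' : Set X, (∀ x : X, ∃ U : Set X, IsOpen U ∧ x ∈ U ∧ ∃ T : Set (Set X), T.Finite ∧ (∀ t ∈ T, IsLocallyClosed t) ∧ U ∩ Z = ⋃₀ T) → (∀ x : X, ∃ U : Set X, IsOpen U ∧ x ∈ U ∧ ∃ T : Set (Set X), T.Finite ∧ (∀ t ∈ T, IsLocallyClosed t) ∧ U ∩ Z' = ⋃₀ T) → Z ∩ X₀ = Z' ∩ X₀ → Z = Z'].TFAE ∧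
    ((∀ Z : Set X, IsLocallyClosed Z → Z.Nonempty → (Z ∩ X₀).Nonempty) →
      ∀ Z₀ : Set ↥X₀, (∀ x : ↥X₀, ∃ U : Set ↥X₀, IsOpen U ∧ x ∈ U ∧ ∃ T : Set (Set ↥X₀), T.Finite ∧ (∀ t ∈ T, IsLocallyClosed t) ∧ U ∩ Z₀ = ⋃₀ T) →
        ∃ Z : Set X, (∀ x : X, ∃ U : Set X, IsOpen U ∧ x ∈ U ∧ ∃ T : Set (Set X), T.Finite ∧ (∀ t ∈ T, IsLocallyClosed t) ∧ U ∩ Z = ⋃₀ T) ∧ Subtype.val ⁻¹' Z = Z₀) := by
  have hlqc : ∀ h : (∀ Z : Set X, IsLocallyClosed Z → Z.Nonempty → (Z ∩ X₀).Nonempty),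
      ∀ Z : Set X, QHomeo.LQC Z → Z.Nonempty → (Z ∩ X₀).Nonempty := fun h Z hZ ⟨x, hx⟩ => by
    obtain ⟨W, h1, h2, h3⟩ := hZ.exists_mem hx
    obtain ⟨y, hy, hy0⟩ := h W h1 ⟨x, h2⟩
    exact ⟨y, h3 hy, hy0⟩
  refine ⟨?_, fun h Z₀ hZ₀ => (QHomeo.qh_subtype_val h).exists_lqc hZ₀⟩
  tfae_have 1 → 2 := hlqc
  tfae_have 1 → 3 := fun h Z hZ x hx => by
    rw [mem_closure_iff]
    intro U hU hxU
    obtain ⟨y, ⟨hyU, hyZ⟩, hy0⟩ := hlqc h (U ∩ Z) ((IsLocallyClosed.lqc hU.isLocallyClosed).inter hZ) ⟨x, hxU, hx⟩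
    exact ⟨y, hyU, hyZ, hy0⟩
  tfae_have 3 → 1 := fun h Z hZ ⟨x, hx⟩ => by
    exact closure_nonempty_iff.1 ⟨x, h Z hZ.lqc hx⟩
  tfae_have 2 → 1 := fun h Z hZ hne => h Z hZ.lqc hne
  tfae_have 1 → 5 := fun h Z Z' hZ hZ' e => by
    refine (QHomeo.qh_subtype_val h).eq_of_preimage_eq hZ hZ' ?_
    ext x
    simpa using Set.ext_iff.1 e x.1
  tfae_have 5 → 4 := fun h Z Z' hZ hZ' e => h Z Z' (QHomeo.FLC.lqc hZ) (QHomeo.FLC.lqc hZ') e
  tfae_have 4 → 1 := fun h Z hZ hne => by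
    by_contra he
    exact hne.ne_empty (h Z ∅ (QHomeo.FLC.of_isLocallyClosed hZ) QHomeo.FLC.empty
      (by rw [Set.not_nonempty_iff_eq_empty.1 he, Set.empty_inter]))
  tfae_finish

end Groth.Agent.S4903
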