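import Groth.Statements.S4908
import Groth.Agent.DCohBridge.StalkPull
import Mathlib

set_option autoImplicit false
universe u
open CategoryTheory AlgebraicGeometry
open EGA43

namespace Groth.Agent.S4908

set_option backward.isDefEq.respectTransparency.types false
set_option backward.isDefEq.respectTransparency false
open Groth.Agent.DCohBridge in
theorem germ_zero {X X' : Scheme.{u}} (F : X.Modules) (g : X' ⟶ X) (x : X') (V : X.Opens) (hx : g.base x ∈ V)
    (t : Γ(F, V)) (ht : ((Scheme.Modules.pullbackPushforwardAdjunction g).unit.app F).app V t = 0)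
    {N : ModuleCat.{u} (X'.presheaf.stalk x)}
    (h : (DerSch.stalkFunctor X (g.base x)).obj F ⟶ (ModuleCat.restrictScalars (stφ g x)).obj N) :
    h (gmM F V hx t) = 0 := by
  let adj := Scheme.Modules.pullbackPushforwardAdjunction g
  let b : F ⟶ (Scheme.Modules.pushforward g).obj ((sky x).obj N) := toSky h ≫ (pushSkyIso g x).inv.app N
  let a : (Scheme.Modules.pullback g).obj F ⟶ (sky x).obj N := (adj.homEquiv _ _).symm b
  have hb : adj.unit.app F ≫ (Scheme.Modules.pushforward g).map a = b := by
    exact (adj.homEquiv_unit F ((sky x).obj N) a).symm.trans (Equiv.apply_symm_apply _ b)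
  have h2 : toSky h = b ≫ (pushSkyIso g x).hom.app N := by
    simp [b]
  have h3 : h (gmM F V hx t) = ((toSky h).app V t : SkySec (g.base x) _ (Opposite.op V)) ⟨hx⟩ := rfl
  rw [h3, h2, ← hb]
  show ((pushSkyHom g x N).app V (((Scheme.Modules.pushforward g).map a).app V
    ((adj.unit.app F).app V t)) : SkySec (g.base x) _ (Opposite.op V)) ⟨hx⟩ = 0
  rw [ht, map_zero, map_zero]
  rfl

/-- Case Z_λ = X: let X be a scheme, u_i : F ⟶ G_i a family of homomorphisms of quasi-coherent
O_X-modules and g : X' ⟶ X a faithfully flat morphism. If the family (g^*u_i : g^*F ⟶ g^*G_i) is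
separating — a section of g^*F over an open subset killed by every g^*u_i is zero — then the family
(u_i) is separating. (The published statement allows homomorphisms into direct images (f_λ)_*G_λ
along morphisms f_λ : Z_λ ⟶ X; this row is the case Z_λ = X, to which the general case reduces.) -/
theorem result {X X' : Scheme.{u}} (F : X.Modules) [Coh.IsQCoh F] {ι : Type u}
    (G : ι → X.Modules) [∀ i, Coh.IsQCoh (G i)] (u : ∀ i, F ⟶ G i) (g : X' ⟶ X) [Flat g] [Surjective g]
    (h : (∀ (V : (X').Opens) (t : ↑(((Scheme.Modules.pullback g).obj F).presheaf.obj (Opposite.op V))), (∀ i, (Scheme.Modules.Hom.mapPresheaf ((Scheme.Modules.pullback g).map (u i))).app (Opposite.op V) t = 0) → t = 0)) :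
    (∀ (V : (X).Opens) (t : ↑((F).presheaf.obj (Opposite.op V))), (∀ i, (Scheme.Modules.Hom.mapPresheaf (u i)).app (Opposite.op V) t = 0) → t = 0) := by
  intro V t ht
  let adj := Scheme.Modules.pullbackPushforwardAdjunction g
  have h0 : (adj.unit.app F).app V t = 0 := by
    refine h (g ⁻¹ᵁ V) _ fun i => ?_
    have hn := congrArg (fun q => q.app V t) (adj.unit.naturality (u i))
    refine Eq.trans ?_ (map_zero ((adj.unit.app (G i)).app V).hom)
    refine Eq.trans hn.symm ?_
    exact congrArg _ (ht i)
  refine TopCat.Presheaf.section_ext (F := (Coh.toAb F : TopCat.Sheaf AddCommGrpCat.{u} X.toTopCat)) V t 0 fun x hx => ?_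
  obtain ⟨x', rfl⟩ := g.surjective x
  refine Eq.trans ?_ (map_zero _).symm
  let O := X.presheaf.stalk (g.base x')
  let O' := X'.presheaf.stalk x'
  let φ : O →+* O' := (g.stalkMap x').hom
  letI : Algebra O O' := φ.toAlgebra
  haveI : Module.Flat O O' := (Flat.stalkMap g x' : φ.Flat)
  haveI : IsLocalHom (algebraMap O O') := inferInstanceAs (IsLocalHom (g.stalkMap x').hom)
  haveI : Module.FaithfullyFlat O O' := Module.FaithfullyFlat.of_flat_of_isLocalHom
  let M := (DerSch.stalkFunctor X (g.base x')).obj F
  have h1 := germ_zero F g x' V hx t h0 ((ModuleCat.extendRestrictScalarsAdj.{u, u, u} φ).unit.app M)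
  exact Module.FaithfullyFlat.tensorProduct_mk_injective (A := O) (B := O') M (h1.trans (map_zero _).symm)

end Groth.Agent.S4908
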