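import Groth.Statements.S4912
import Mathlib
import Groth.Agent.DCohBridge.StalkPull
import Groth.Agent.DimTheory.ZeroDim
import Groth.Agent.S0397


set_option autoImplicit false
universe u
open CategoryTheory AlgebraicGeometry
open EGA43

namespace Groth.Agent.S4912
section Pre
open TensorProduct
theorem sep_free {O O' : Type u} [CommRing O] [CommRing O'] [Algebra O O'] [Module.Free O O'] {ι : Type u}
    {M : Type u} [AddCommGroup M] [Module O M] {N : ι → Type u} [∀ i, AddCommGroup (N i)] [∀ i, Module O (N i)]
    (φ : ∀ i, M →ₗ[O] N i) (h : ∀ s, (∀ i, φ i s = 0) → s = 0) (v : O' ⊗[O] M)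
    (hv : ∀ i, (φ i).lTensor O' v = 0) : v = 0 := by
  classical
  let b := Module.Free.chooseBasis O O'
  apply (TensorProduct.equivFinsuppOfBasisLeft b (N := M)).injective
  rw [map_zero]
  ext k
  refine h _ fun i => ?_
  have key : ∀ w : O' ⊗[O] M, φ i (TensorProduct.equivFinsuppOfBasisLeft b w k) =
      TensorProduct.equivFinsuppOfBasisLeft b ((φ i).lTensor O' w) k := by
    intro w
    induction w with
    | zero => simp
    | add a c ha hc => simp only [map_add, Finsupp.add_apply, ha, hc]
    | tmul a c => simp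
  rw [key, hv i, map_zero, Finsupp.zero_apply]

theorem sep_stalk {X : Scheme.{u}} [DiscreteTopology X] {F : X.Modules} {ι : Type u} {G : ι → X.Modules} (u : ∀ i, F ⟶ G i)
    (h : ∀ (V : X.Opens) (t : Γ(F, V)), (∀ i, (u i).app V t = 0) → t = 0) (x : X) (s : F.presheaf.stalk x)
    (hs : ∀ i, (DerSch.stalkFunctor X x).map (u i) s = 0) : s = 0 := by
  obtain ⟨V, hx, t, rfl⟩ := TopCat.Presheaf.exists_germ_eq F.presheaf s
  let O : X.Opens := ⟨{x}, isOpen_discrete _⟩
  have hle : O ≤ V := fun y (hy : y = x) => hy ▸ hx
  have h0 : F.presheaf.map (homOfLE hle).op t = 0 := by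
    refine h O _ fun i => ?_
    refine TopCat.Presheaf.section_ext (F := (Coh.toAb (G i) : TopCat.Sheaf AddCommGrpCat.{u} X.toTopCat)) O _ 0
      fun y (hy : y = x) => ?_
    subst hy
    show (G i).presheaf.germ O y rfl _ = (G i).presheaf.germ O y rfl 0
    rw [map_zero]
    refine (DerSch.stalkFunctor_map_germ y (u i) O rfl _).symm.trans ?_
    erw [TopCat.Presheaf.germ_res_apply F.presheaf (homOfLE hle) y rfl t]
    exact hs i
  rw [← TopCat.Presheaf.germ_res_apply F.presheaf (homOfLE hle) x rfl t]
  exact (congrArg _ h0).trans (map_zero _)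

theorem maximalIdeal_nilpotent {X : Scheme.{u}} [IsLocallyNoetherian X] [DiscreteTopology X] (x : X) :
    IsNilpotent (IsLocalRing.maximalIdeal (X.presheaf.stalk x)) := by
  haveI : Ring.KrullDimLE 0 (X.presheaf.stalk x) := Ring.krullDimLE_iff.2 (by
    rw [ringKrullDim_stalk_eq_coheight, Order.coheight_eq_zero.2 fun b hb => (Specializes.eq (show b ⤳ x from hb)).le]
    rfl)
  rw [← Ring.KrullDimLE.nilradical_eq_maximalIdeal (R := X.presheaf.stalk x)]
  exact IsNoetherianRing.isNilpotent_nilradical _
end Pre

/-- Case Z_λ = X: let X be an Artinian scheme (Noetherian of dimension ≤ 0), u_i : F ⟶ G_i a separating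
family of homomorphisms of quasi-coherent O_X-modules (a section of F over an open subset killed by
every u_i is zero) and g : X' ⟶ X a flat morphism; for instance X the spectrum of a field and g
arbitrary. Then the family (g^*u_i) on X' is separating. (The published statement allows
homomorphisms into direct images (f_λ)_*G_λ; this row is the case Z_λ = X, to which the general case
reduces.) -/
theorem result {X X' : Scheme.{u}} [IsNoetherian X]
    (hX : topologicalKrullDim X ≤ 0) (F : X.Modules) [Coh.IsQCoh F] {ι : Type u}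
    (G : ι → X.Modules) [∀ i, Coh.IsQCoh (G i)] (u : ∀ i, F ⟶ G i) (g : X' ⟶ X) [Flat g]
    (h : (∀ (V : (X).Opens) (t : ↑((F).presheaf.obj (Opposite.op V))), (∀ i, (Scheme.Modules.Hom.mapPresheaf (u i)).app (Opposite.op V) t = 0) → t = 0)) :
    (∀ (V : (X').Opens) (t : ↑(((Scheme.Modules.pullback g).obj F).presheaf.obj (Opposite.op V))), (∀ i, (Scheme.Modules.Hom.mapPresheaf ((Scheme.Modules.pullback g).map (u i))).app (Opposite.op V) t = 0) → t = 0) := by
  haveI : IsLocallyArtinian X := IsLocallyArtinian.of_topologicalKrullDim_le_zero hX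
  intro V t ht
  refine TopCat.Presheaf.section_ext (F := (Coh.toAb ((Scheme.Modules.pullback g).obj F) : TopCat.Sheaf AddCommGrpCat.{u} X'.toTopCat))
    V t 0 fun x hx => ?_
  let P := Scheme.Modules.pullback g
  let z : (P.obj F).presheaf.stalk x := (P.obj F).presheaf.germ V x hx t
  refine Eq.trans ?_ (map_zero _).symm
  show z = 0
  have hz : ∀ i, (DerSch.stalkFunctor X' x).map (P.map (u i)) z = 0 := fun i => by
    refine (DerSch.stalkFunctor_map_germ x (P.map (u i)) V hx t).trans ?_
    exact (congrArg _ (ht i)).trans (map_zero _)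
  let e := DCohBridge.stalkPullIso g x
  have hflat : (DCohBridge.stφ g x).Flat := Flat.stalkMap g x
  let O := X.presheaf.stalk (g.base x)
  let O' := X'.presheaf.stalk x
  letI : Algebra O O' := (DCohBridge.stφ g x).toAlgebra
  haveI : Module.Flat O O' := hflat
  haveI : Module.Free O O' := Groth.Agent.S0397.result (maximalIdeal_nilpotent (g.base x))
  let Fx : Type u := F.presheaf.stalk (g.base x)
  let Gx : ι → Type u := fun i => (G i).presheaf.stalk (g.base x)
  let φ : ∀ i, Fx →ₗ[O] Gx i := fun i => ((DerSch.stalkFunctor X (g.base x)).map (u i)).hom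
  let w : TensorProduct O O' Fx := (e.app F).hom z
  have hw0 : w = 0 := by
    refine sep_free φ (fun s hs => sep_stalk u h (g.base x) s hs) w fun i => ?_
    have h2 := ConcreteCategory.congr_hom (e.hom.naturality (u i)) z
    erw [ConcreteCategory.comp_apply, ConcreteCategory.comp_apply] at h2
    refine Eq.trans h2.symm ?_
    rw [show ((P ⋙ DerSch.stalkFunctor X' x).map (u i)) z = 0 from hz i]
    exact map_zero _
  exact (e.app F).toLinearEquiv.injective (hw0.trans (map_zero _).symm)

end Groth.Agent.S4912
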