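import Groth.Statements.S4914

set_option autoImplicit false
open CategoryTheory AlgebraicGeometry
universe u v w
open EGA43

namespace Groth.Agent.S4914

/-- Let ψ : X → Y be a continuous map, x a point of X, and (Y_i) a locally finite covering of Y by
closed subsets. If for every index i with ψ x ∈ Y_i the restriction ψ⁻¹(Y_i) → Y_i of ψ is open at
x, then ψ is open at x. -/
theorem result {α : Type u} {β : Type v} {ι : Type w} [TopologicalSpace α]
    [TopologicalSpace β] (ψ : α → β) (hψ : Continuous ψ) (x : α) (Y : ι → Set β) (hY : LocallyFinite Y)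
    (hcl : ∀ i, IsClosed (Y i)) (hcov : ⋃ i, Y i = Set.univ)
    (h : ∀ i, ∀ hi : ψ x ∈ Y i, EGA43.IsOpenAt ((Y i).restrictPreimage ψ) ⟨x, hi⟩) :
    EGA43.IsOpenAt ψ x := by
  intro U hU
  have hfin : {i | ψ x ∈ Y i}.Finite := hY.point_finite _
  have hnot : (⋃ i ∈ {i | ψ x ∉ Y i}, Y i)ᶜ ∈ nhds (ψ x) := by
    refine IsOpen.mem_nhds ?_ ?_
    · rw [Set.biUnion_eq_iUnion]
      exact ((hY.comp_injective Subtype.val_injective).isClosed_iUnion fun i => hcl i.1).isOpen_compl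
    · simp only [Set.mem_compl_iff, Set.mem_iUnion, not_exists]
      exact fun i hi h => hi h
  have hi : ∀ i ∈ {i | ψ x ∈ Y i}, ∃ O ∈ nhds (ψ x), O ∩ Y i ⊆ ψ '' U := by
    intro i hi
    have h1 : (Y i).restrictPreimage ψ '' (Subtype.val ⁻¹' U) ∈ nhds (⟨ψ x, hi⟩ : Y i) :=
      h i hi _ (continuous_subtype_val.continuousAt.preimage_mem_nhds hU)
    rw [nhds_subtype_eq_comap] at h1
    obtain ⟨O, hO, hOU⟩ := Filter.mem_comap.1 h1
    refine ⟨O, hO, fun z hz => ?_⟩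
    obtain ⟨a, ha, e⟩ := hOU (show (⟨z, hz.2⟩ : Y i) ∈ Subtype.val ⁻¹' O from hz.1)
    exact ⟨a.1, ha, congrArg Subtype.val e⟩
  choose! O hO hOU using hi
  refine Filter.mem_of_superset (Filter.inter_mem hnot ((Filter.biInter_mem hfin).2 hO)) fun z hz => ?_
  obtain ⟨i, hzi⟩ := Set.mem_iUnion.1 (hcov.symm ▸ Set.mem_univ z)
  have hix : ψ x ∈ Y i := by
    by_contra hn
    exact hz.1 (Set.mem_iUnion₂.2 ⟨i, hn, hzi⟩)
  exact hOU i hix ⟨Set.mem_iInter₂.1 hz.2 i hix, hzi⟩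

end Groth.Agent.S4914
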