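import Groth.Statements.S4917
import Groth.Agent.Chevalley.Equiv
import Groth.Agent.EquidimChart.DimOpen
import Groth.Agent.EquidimChart.Section
import Groth.Agent.FibreDimChart.Mono
import Mathlib

set_option autoImplicit false
open CategoryTheory AlgebraicGeometry
universe u v w
open EGA43

set_option backward.isDefEq.respectTransparency.types false
set_option linter.style.haveILetI false
namespace Groth.Agent.S4917

open Groth.Agent Groth.Agent.DimTheory Groth.Agent.EquidimChart TopologicalSpace


/-- Assume Y is a locally Noetherian scheme and X is an irreducible scheme, and consider a dominant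
morphism f : X ⟶ Y that is locally of finite type. Fix a point x of X and write y = f x. If, for
every irreducible component of the fibre X_y that contains x, the morphism f is open at the generic
point of that component, then f is equidimensional at x. -/
theorem result {X Y : Scheme.{u}} [IsLocallyNoetherian Y]
    [IrreducibleSpace X] (f : X ⟶ Y) [LocallyOfFiniteType f] [IsDominant f] (x : X)
    (h : ∀ z : ↥(f.fiber (f.base x)), f.asFiber x ∈ closure {z} →
      (∀ z' : ↥(f.fiber (f.base x)), z ∈ closure {z'} → z' = z) →
      EGA43.IsOpenAt f.base ((f.fiberι (f.base x)).base z)) :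
    EGA43.IsEquidimAt f x := by
  refine isEquidimAt_of_isOpenAt f x (fun p hp => ?_) fun z hz hzmax =>
    h z (specializes_iff_mem_closure.1 hz) fun z' hz' => hzmax z' (specializes_iff_mem_closure.2 hz')
  have hpp : p.IsPrime := hp.1.1
  have hle : ∀ q : PrimeSpectrum (X.presheaf.stalk x), p ≤ q.asIdeal := fun q => by
    let P : PrimeSpectrum (X.presheaf.stalk x) := ⟨p, hpp⟩
    obtain ⟨G, hG⟩ : genericPoint X ∈ Set.range (X.fromSpecStalk x) := by
      rw [Scheme.range_fromSpecStalk]; exact genericPoint_specializes x
    have h1 : G ⤳ P := (X.fromSpecStalk x).isEmbedding.isInducing.specializes_iff.1 (hG ▸ genericPoint_specializes _)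
    have h2 : G ⤳ q := (X.fromSpecStalk x).isEmbedding.isInducing.specializes_iff.1 (hG ▸ genericPoint_specializes _)
    exact (hp.2 ⟨G.isPrime, bot_le⟩ ((PrimeSpectrum.le_iff_specializes G P).2 h1)).trans
      ((PrimeSpectrum.le_iff_specializes G q).2 h2)
  refine le_antisymm (ringKrullDim_quotient_le _) ?_
  rw [ringKrullDim_quotient]
  exact Order.krullDim_le_of_strictMono (fun q => ⟨q, hle q⟩) fun a b hab => hab

end Groth.Agent.S4917
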