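import Groth.Statements.S4919
import Groth.Agent.Chevalley.Equiv
import Groth.Agent.EquidimChart.DimOpen
import Groth.Agent.EquidimChart.Section
import Groth.Agent.FibreDimChart.Mono
import Mathlib

set_option autoImplicit false
open CategoryTheory AlgebraicGeometry
universe u v w
open EGA43

set_option backward.isDefEq.respectTransparency.types false
set_option linter.style.haveILetI false
namespace Groth.Agent.S4919

open Groth.Agent Groth.Agent.DimTheory Groth.Agent.EquidimChart TopologicalSpace


/-- Let Y be an irreducible locally Noetherian scheme with generic point η, f : X ⟶ Y a morphism locally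
of finite type, y a point of Y and Z an irreducible component of the fibre f⁻¹(y) (a maximal
irreducible subset of f⁻¹(y), with the topology induced from X) such that f is open at the generic
point ζ of Z. Then there is an irreducible component X' of X containing Z and dominating Y such that
the local dimension of X' ∩ f⁻¹(y) at ζ equals dim Z, and dim Z = dim (X' ∩ f⁻¹(η)). (The published
statement writes the middle term as the dimension of the whole of X' ∩ f⁻¹(y); its proof yields only
the local dimension at the generic point of Z, and the global equality can fail: for the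
endomorphism (a, b) ↦ (ab, b² − b) of the affine plane over a field, the fibre over the origin is
the line b = 0 together with the isolated point (0, 1), at which the map is étale, hence open; with
Z that point, X' is the whole plane, X' ∩ f⁻¹(y) has dimension 1 and dim Z = 0. So the local form is
stated here.) -/
theorem result {X Y : Scheme.{u}} [IrreducibleSpace Y]
    [IsLocallyNoetherian Y] (f : X ⟶ Y) [LocallyOfFiniteType f] (y : Y) (Z : Set X)
    (hZy : Z ⊆ f.base ⁻¹' {y}) (hZ : IsIrreducible Z)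
    (hZmax : ∀ Z' : Set X, IsIrreducible Z' → Z' ⊆ f.base ⁻¹' {y} → Z ⊆ Z' → Z' = Z)
    (hopen : ∀ ζ ∈ Z, Z ⊆ closure {ζ} → EGA43.IsOpenAt f.base ζ) :
    ∃ X' ∈ irreducibleComponents (X : Type u), Z ⊆ X' ∧ Dense (f.base '' X') ∧
      (∀ ζ ∈ Z, Z ⊆ closure {ζ} → ∀ hζ : ζ ∈ X' ∩ f.base ⁻¹' {y},
        FlatMor.localDim ↥(X' ∩ f.base ⁻¹' {y}) ⟨ζ, hζ⟩ = topologicalKrullDim ↥Z) ∧
      topologicalKrullDim ↥Z = topologicalKrullDim ↥(X' ∩ f.base ⁻¹' {genericPoint Y}) := by
  obtain ⟨ζ, hζgen⟩ : ∃ ζ, IsGenericPoint ζ (closure Z) := ⟨_, hZ.isGenericPoint_genericPoint_closure⟩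
  have hc : closure ({ζ} : Set X) = closure Z := hζgen
  let Zc : Closeds X := ⟨closure {ζ}, isClosed_closure⟩
  obtain ⟨a, ha⟩ := hZ.nonempty
  -- the generic point of the closure is in the fibre
  have hZeq : closure ({ζ} : Set X) ∩ f.base ⁻¹' {y} = Z ∧ ζ ∈ Z := by
    have hsub : Z ⊆ closure ({ζ} : Set X) ∩ f.base ⁻¹' {y} := fun b hb => ⟨hc ▸ subset_closure hb, hZy hb⟩
    obtain ⟨v, hv⟩ : a ∈ Set.range (f.fiberι y) := by rw [f.range_fiberι]; exact hZy ha
    have hirr : IsIrreducible ((f.fiberι y).base ⁻¹' Z) := by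
      refine ⟨⟨v, show f.fiberι y v ∈ Z from hv ▸ ha⟩, ?_⟩
      intro U V hU hV hU' hV'
      obtain ⟨U', hU'o, rfl⟩ := (f.fiberι y).isEmbedding.isInducing.isOpen_iff.1 hU
      obtain ⟨V', hV'o, rfl⟩ := (f.fiberι y).isEmbedding.isInducing.isOpen_iff.1 hV
      obtain ⟨b, hb, hb'⟩ := hU'
      obtain ⟨c, hc, hc'⟩ := hV'
      obtain ⟨d, hd, hd'⟩ := hZ.2 U' V' hU'o hV'o ⟨_, hb, hb'⟩ ⟨_, hc, hc'⟩
      obtain ⟨d', rfl⟩ : d ∈ Set.range (f.fiberι y) := by rw [f.range_fiberι]; exact hZy hd
      exact ⟨d', hd, hd'⟩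
    obtain ⟨g, hg⟩ : ∃ g, IsGenericPoint g (closure ((f.fiberι y).base ⁻¹' Z)) :=
      ⟨_, hirr.isGenericPoint_genericPoint_closure⟩
    have hfg : f (f.fiberι y g) = y := FlatEquidim.fiberι_apply_eq f y g
    let Z' : Set X := (f.fiberι y).base '' closure {g}
    have hZ'y : Z' ⊆ f.base ⁻¹' {y} := by rintro _ ⟨b, -, rfl⟩; exact FlatEquidim.fiberι_apply_eq f y b
    have hZZ' : Z ⊆ Z' := fun b hb => by
      obtain ⟨b', rfl⟩ : b ∈ Set.range (f.fiberι y) := by rw [f.range_fiberι]; exact hZy hb
      exact ⟨b', hg.symm ▸ subset_closure hb, rfl⟩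
    have heq : Z' = Z := hZmax Z' ((isIrreducible_singleton.closure).image _ (f.fiberι y).continuous.continuousOn) hZ'y hZZ'
    have hgZ : f.fiberι y g ∈ Z := heq ▸ ⟨g, subset_closure rfl, rfl⟩
    have hspec : f.fiberι y g ⤳ ζ := specializes_iff_mem_closure.2 (by
      have : closure Z ⊆ closure {f.fiberι y g} := closure_minimal (fun b hb => by
        obtain ⟨b', hb', rfl⟩ := hZZ' hb
        exact ((specializes_iff_mem_closure.2 hb').map (f.fiberι y).continuous).mem_closure) isClosed_closure
      exact this (hc ▸ subset_closure rfl))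
    have hge : ζ = f.fiberι y g :=
      ((specializes_iff_mem_closure.2 (hc.symm ▸ subset_closure hgZ)).antisymm hspec).eq
    refine ⟨subset_antisymm (fun b hb => ?_) hsub, hge ▸ hgZ⟩
    rw [← heq]
    obtain ⟨b', rfl⟩ : b ∈ Set.range (f.fiberι y) := by rw [f.range_fiberι]; exact hb.2
    refine ⟨b', specializes_iff_mem_closure.1 ((f.fiberι y).isEmbedding.isInducing.specializes_iff.1 ?_), rfl⟩
    exact hge ▸ specializes_iff_mem_closure.2 hb.1
  obtain ⟨hZeq, hζZ⟩ := hZeq
  have hfζ : f ζ = y := hZy hζZ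
  have hmax : FlatEquidim.IsFibreMax f ζ := fun z hz hfz => by
    have hirr : IsIrreducible (closure ({z} : Set X) ∩ f.base ⁻¹' {y}) := by
      obtain ⟨v, hv⟩ : z ∈ Set.range (f.fiberι y) := by rw [f.range_fiberι]; exact hfz.trans hfζ
      have : (f.fiberι y).base '' closure {v} = closure ({z} : Set X) ∩ f.base ⁻¹' {y} := by
        ext b
        constructor
        · rintro ⟨c, hc, rfl⟩
          exact ⟨hv ▸ ((specializes_iff_mem_closure.2 hc).map (f.fiberι y).continuous).mem_closure,
            FlatEquidim.fiberι_apply_eq f y c⟩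
        · rintro ⟨hb, hb'⟩
          obtain ⟨c, rfl⟩ : b ∈ Set.range (f.fiberι y) := by rw [f.range_fiberι]; exact hb'
          exact ⟨c, specializes_iff_mem_closure.1 ((f.fiberι y).isEmbedding.isInducing.specializes_iff.1
            (hv.symm ▸ specializes_iff_mem_closure.2 hb)), rfl⟩
      exact this ▸ isIrreducible_singleton.closure.image _ (f.fiberι y).continuous.continuousOn
    have h1 := hZmax _ hirr Set.inter_subset_right fun b hb => ⟨by
      have h0 : ζ ⤳ b := specializes_iff_mem_closure.2 (hc ▸ subset_closure hb)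
      exact (hz.trans h0).mem_closure, hZy hb⟩
    have h2 : z ∈ Z := h1 ▸ ⟨subset_closure rfl, hfz.trans hfζ⟩
    exact (hz.antisymm (specializes_iff_mem_closure.2 (hc ▸ subset_closure h2))).eq
  obtain ⟨n, hn, -⟩ := height_asFiber f ζ
  obtain ⟨ξ, hξζ, hξ, hfξ, he⟩ :=
    exists_generic_of_isOpenAt f ζ hmax (hopen ζ hζZ (hc ▸ subset_closure)) hn
  let W : Closeds X := ⟨closure {ξ}, isClosed_closure⟩
  obtain ⟨hirr, hg, hr⟩ := component_subscheme ξ W rfl
  obtain ⟨hirr', hg', -⟩ := component_subscheme ζ Zc rfl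
  have hdimZ : topologicalKrullDim ↥Z = (n : WithBot ℕ∞) := by
    rw [← hZeq, show closure ({ζ} : Set X) = (Zc : Set X) from rfl, dim_inter f Zc]
    refine dim_fiber_generic _ ?_ ?_
    · rw [Scheme.Hom.comp_apply, hg', hfζ]
    · rw [mapTrdeg_component f Zc, hg', hn]
  have hZW : Z ⊆ closure {ξ} := fun b hb =>
    (hξζ.trans (specializes_iff_mem_closure.2 (hc ▸ subset_closure hb))).mem_closure
  refine ⟨closure {ξ}, FlatDim.closure_mem_irreducibleComponents hξ, hZW, ?_, fun ζ' hζ' hζ'c hx => ?_, ?_⟩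
  · intro v
    exact closure_mono (Set.singleton_subset_iff.2 (show genericPoint Y ∈ f.base '' closure {ξ} from ⟨ξ, subset_closure rfl, hfξ⟩))
      (genericPoint_specializes v).mem_closure
  · rw [hdimZ]
    obtain rfl : ζ' = ζ := ((specializes_iff_mem_closure.2 (hζ'c hζZ)).antisymm
      (specializes_iff_mem_closure.2 (hc ▸ subset_closure hζ'))).eq
    obtain ⟨w, hw⟩ : ζ' ∈ Set.range (Scheme.IdealSheafData.vanishingIdeal W).subschemeι := by rw [hr]; exact hx.1
    rw [show closure ({ξ} : Set X) = (W : Set X) from rfl] at hx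
    refine (localDim_inter f W w hw hfζ hx).trans (fibreDimAt_of_fibreMax _ (fun v hv hfv => ?_) ?_)
    · exact (Scheme.IdealSheafData.vanishingIdeal W).subschemeι.isEmbedding.injective
        ((hmax _ (hw ▸ hv.map (Scheme.IdealSheafData.vanishingIdeal W).subschemeι.continuous)
          (hfv.trans (congrArg f hw))).trans hw.symm)
    · rw [mapTrdeg_component, hw, hn]
  · rw [hdimZ, show closure ({ξ} : Set X) = (W : Set X) from rfl, dim_inter f W]
    refine (dim_fiber_generic _ ?_ ?_).symm
    · rw [Scheme.Hom.comp_apply, hg, hfξ]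
    · rw [mapTrdeg_component f W, hg, he]

end Groth.Agent.S4919
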