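import Groth.Statements.S4920
import Groth.Agent.EquidimChart.OpenAt
import Mathlib

set_option autoImplicit false
open CategoryTheory AlgebraicGeometry
universe u v w
open EGA43

namespace Groth.Agent.S4920

open Groth.Agent.EquidimChart Groth.Agent.DimTheory
set_option backward.isDefEq.respectTransparency.types false

theorem lift_dim {X Y : Scheme.{u}} [IrreducibleSpace Y] [IsLocallyNoetherian Y]
    (f : X ⟶ Y) [LocallyOfFiniteType f] (y : Y) (h : ∀ x : X, f.base x = y → EGA43.IsOpenAt f.base x)
    (w : f.fiber y) (hw : ∀ v, v ⤳ w → v = w) :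
    ∃ w' : f.fiber (genericPoint Y), (∀ v, v ⤳ w' → v = w') ∧ Order.height w' = Order.height w := by
  have : LocallyOfFiniteType (f.fiberToSpecResidueField y) := MorphismProperty.pullback_snd _ _ inferInstance
  have : LocallyOfFiniteType (f.fiberToSpecResidueField (genericPoint Y)) := MorphismProperty.pullback_snd _ _ inferInstance
  obtain ⟨n, hn, hn'⟩ := exists_height_eq (k := Y.residueField y) (f.fiberToSpecResidueField y) w
  rw [Groth.Agent.FlatEquidim.resTrdeg_fiber_eq] at hn
  have hfw := Groth.Agent.FlatEquidim.fiberι_apply_eq f y w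
  obtain ⟨ξ, -, hξ, hfξ, htr⟩ := exists_generic_of_isOpenAt f (f.fiberι y w)
    (fun z hz hfz => Groth.Agent.FlatDim.eq_fiberι_of_isMax f hw hz (hfz.trans hfw)) (h _ hfw) hn
  obtain ⟨w', hw'⟩ : ξ ∈ Set.range (f.fiberι (genericPoint Y)) := by rw [f.range_fiberι]; exact hfξ
  refine ⟨w', fun v hv => (f.fiberι _).isEmbedding.injective ((hξ _ (hw' ▸ hv.map (f.fiberι _).continuous)).trans hw'.symm), ?_⟩
  obtain ⟨m, hm, hm'⟩ := exists_height_eq (k := Y.residueField (genericPoint Y)) (f.fiberToSpecResidueField (genericPoint Y)) w'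
  rw [Groth.Agent.FlatEquidim.resTrdeg_fiber_eq, hw', htr] at hm
  rw [hn', hm', Nat.cast_injective (R := Cardinal.{u}) hm]


/-- Let Y be an irreducible locally Noetherian scheme with generic point η, f : X ⟶ Y a morphism locally
of finite type and y a point of Y such that f is open at every point of the fibre over y. For z in Y
write E(z) for the set of dimensions of the irreducible components of the fibre X_z. Then E(y) ⊆
E(η), and consequently dim X_y ≤ dim X_η. -/
theorem result {X Y : Scheme.{u}} [IrreducibleSpace Y] [IsLocallyNoetherian Y]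
    (f : X ⟶ Y) [LocallyOfFiniteType f] (y : Y) (h : ∀ x : X, f.base x = y → EGA43.IsOpenAt f.base x) :
    letI E : Y → Set (WithBot ℕ∞) := fun z =>
      (fun Z : Set ↥(f.fiber z) => topologicalKrullDim ↥Z) '' irreducibleComponents ↥(f.fiber z)
    E y ⊆ E (genericPoint Y) ∧
      topologicalKrullDim ↥(f.fiber y) ≤ topologicalKrullDim ↥(f.fiber (genericPoint Y)) := by
  refine ⟨?_, ?_⟩
  · rintro _ ⟨C, hC, rfl⟩
    obtain ⟨w', hw', he⟩ := lift_dim f y h hC.1.genericPoint (mem_component_isMax hC)
    refine ⟨closure {w'}, Groth.Agent.FlatDim.closure_mem_irreducibleComponents hw', ?_⟩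
    show topologicalKrullDim ↥(closure ({w'} : Set ↥(f.fiber (genericPoint Y)))) = topologicalKrullDim ↥C
    conv_rhs => rw [← component_eq_closure hC]
    rw [topologicalKrullDim_closure, topologicalKrullDim_closure, he]
  · rw [topologicalKrullDim_eq_iSup_height, topologicalKrullDim_eq_iSup_height]
    refine iSup_le fun w => ?_
    obtain ⟨m, hm, hmax⟩ := Groth.Agent.FlatMorLib.exists_maximal_generization w
    obtain ⟨w', -, he⟩ := lift_dim f y h m hmax
    refine le_iSup_of_le w' ?_
    rw [he]
    exact WithBot.coe_le_coe.2 (Order.height_mono (show w ≤ m from hm))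

end Groth.Agent.S4920
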