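import Groth.Statements.S4921
import Groth.Agent.LimSch.CurveTest
import Groth.Agent.Chevalley.Equiv
import Groth.Agent.EquidimChart.DimOpen
import Groth.Agent.EquidimChart.Section
import Groth.Agent.FibreDimChart.Mono
import Mathlib

set_option autoImplicit false
open CategoryTheory AlgebraicGeometry
universe u v w
open EGA43

set_option backward.isDefEq.respectTransparency.types false
set_option linter.style.haveILetI false
namespace Groth.Agent.S4921

open Groth.Agent Groth.Agent.DimTheory Groth.Agent.EquidimChart TopologicalSpace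


/-- Let Y be a locally Noetherian scheme, f : X ⟶ Y a proper morphism and y a point of Y such that f is
open at every point of the fibre over y. Then the function z ↦ dim X_z is constant on a
neighbourhood of y. -/
theorem result {X Y : Scheme.{u}} [IsLocallyNoetherian Y] (f : X ⟶ Y)
    [IsProper f] (y : Y) (h : ∀ x : X, f.base x = y → EGA43.IsOpenAt f.base x) :
    ∃ V ∈ nhds y, ∀ z ∈ V, topologicalKrullDim ↥(f.fiber z) = topologicalKrullDim ↥(f.fiber y) := by
  have hcl : ∀ n : ℕ, IsClosed (f.base '' {w | (n : WithBot ℕ∞) ≤ FlatMor.fibreDimAt f w}) := fun n =>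
    f.isClosedMap _ (isClosed_le_fibreDimAt f n)
  by_cases hne : ∃ x, f x = y
  swap
  · refine ⟨(Set.range f.base)ᶜ, (f.isClosedMap.isClosed_range).isOpen_compl.mem_nhds
      (fun hy => hne hy), fun z hz => ?_⟩
    have hbot : ∀ z, (∀ x, f x ≠ z) → topologicalKrullDim ↥(f.fiber z) = ⊥ := fun z hz =>
      le_bot_iff.1 ((FibreDimChart.dim_fiber_le_iff f z ⊥).2 fun x hx => (hz x hx).elim)
    rw [hbot z fun x hx => hz ⟨x, hx⟩, hbot y fun x hx => hne ⟨x, hx⟩]
  obtain ⟨x₀, hx₀⟩ := hne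
  obtain ⟨k, hk⟩ : ∃ k : ℕ, topologicalKrullDim ↥(f.fiber y) ≤ (k : WithBot ℕ∞) := by
    obtain ⟨s, hs⟩ := (f.isCompact_preimage_singleton y).elim_finite_subcover
      (fun k : ℕ => {w : X | FlatMor.fibreDimAt f w ≤ (k : WithBot ℕ∞)})
      (fun k => FibreDimChart.isOpen_fibreDimAt_le f k) fun w _ => by
        obtain ⟨-, k, -, -, -, hk⟩ := exists_fibreMax f w
        exact Set.mem_iUnion.2 ⟨k, hk.le⟩
    refine ⟨s.sup id, (FibreDimChart.dim_fiber_le_iff f y _).2 fun x hx => ?_⟩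
    obtain ⟨i, hi, hxi⟩ := Set.mem_iUnion₂.1 (hs hx)
    exact le_trans hxi (Nat.cast_le.2 (Finset.le_sup (f := id) hi))
  obtain ⟨n, hn⟩ : ∃ n : ℕ, topologicalKrullDim ↥(f.fiber y) = (n : WithBot ℕ∞) := by
    obtain ⟨-, m, -, -, -, hm⟩ := exists_fibreMax f x₀
    have h1 := FibreDimChart.fibreDimAt_le_dim_fiber f x₀
    rw [hm, hx₀] at h1
    revert h1 hk
    generalize topologicalKrullDim ↥(f.fiber y) = d
    intro hk h1
    induction d using WithBot.recBotCoe with
    | bot => exact absurd h1 (by simp)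
    | coe d =>
      induction d using ENat.recTopCoe with
      | top =>
        have h3 : (⊤ : ℕ∞) ≤ (k : ℕ∞) := WithBot.coe_le_coe.1 hk
        exact absurd h3 (by simp)
      | coe d => exact ⟨d, rfl⟩
  obtain ⟨x, hx, hxn⟩ := FibreDimChart.exists_fibreDimAt_ge f n hn.ge
  obtain ⟨m, n', hmx, hfm, hm, hn', hd⟩ := Chevalley.exists_fibreMax_eq f x
  have hV2 : f.base '' {w | (n : WithBot ℕ∞) ≤ FlatMor.fibreDimAt f w} ∈ nhds y := by
    refine mem_nhds_of_generizations (LimSch.CurveTest.isLocallyConstructible_of_isClosed (hcl n)) fun z hz => ?_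
    obtain ⟨ξ, hξ, hfξ, -, hξn⟩ := exists_over_generization f m hm (h m (hfm.trans hx)) hn' (hfm.trans hx ▸ hz)
    exact ⟨ξ, le_trans (hxn.trans hd.le) (le_fibreDimAt f hξn), hfξ⟩
  have hV1 : (f.base '' {w | ((n + 1 : ℕ) : WithBot ℕ∞) ≤ FlatMor.fibreDimAt f w})ᶜ ∈ nhds y := by
    refine (hcl _).isOpen_compl.mem_nhds ?_
    rintro ⟨w, hw, hfw⟩
    have h1 := le_trans hw (FibreDimChart.fibreDimAt_le_dim_fiber f w)
    rw [hfw, hn, Nat.cast_le] at h1
    omega
  refine ⟨_, Filter.inter_mem hV1 hV2, fun z ⟨hz1, w, hw, hfw⟩ => ?_⟩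
  rw [hn]
  refine le_antisymm ((FibreDimChart.dim_fiber_le_iff f z _).2 fun v hv => ?_) ?_
  · by_contra hlt
    obtain ⟨-, j, -, -, -, hj⟩ := exists_fibreMax f v
    refine hz1 ⟨v, ?_, hv⟩
    show ((n + 1 : ℕ) : WithBot ℕ∞) ≤ _
    rw [hj, Nat.cast_le] at hlt ⊢
    omega
  · exact hfw ▸ le_trans hw (FibreDimChart.fibreDimAt_le_dim_fiber f w)

end Groth.Agent.S4921
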