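import Groth.Statements.S4923
import Mathlib
import Groth.Agent.RectDepth.EquidimConstr
import Groth.Agent.EquidimChart.OpenAt
import Groth.Agent.FibreDimChart.Constr

set_option autoImplicit false
open CategoryTheory AlgebraicGeometry
universe u v w
open EGA43

namespace Groth.Agent.S4923

open Groth.Agent Groth.Agent.EquidimChart Groth.Agent.DimTheory Topology
set_option backward.isDefEq.respectTransparency.types false

variable {X Y : Scheme.{u}} (f : X ⟶ Y) [LocallyOfFiniteType f]

theorem exists_max_gen (x : X) : ∃ (z : X) (n : ℕ), z ⤳ x ∧ f z = f x ∧ FlatEquidim.IsFibreMax f z ∧ mapTrdeg f z = n := by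
  obtain ⟨m, hm, hmax⟩ := FlatMorLib.exists_maximal_generization (f.asFiber x)
  have hfm := FlatEquidim.fiberι_apply_eq f (f x) m
  obtain ⟨n, hn, -⟩ := height_asFiber f (f.fiberι (f x) m)
  refine ⟨_, n, ?_, hfm, fun z hz hfz => FlatDim.eq_fiberι_of_isMax f hmax hz (hfz.trans hfm), hn⟩
  have := hm.map (f.fiberι (f x)).continuous
  rwa [f.fiberι_asFiber] at this

/-- The dimensions of the components of a fibre are the degrees at its maximal points. -/
theorem mem_E_iff (z : Y) (c : WithBot ℕ∞) :
    c ∈ (fun Z : Set ↥(f.fiber z) => topologicalKrullDim ↥Z) '' irreducibleComponents ↥(f.fiber z) ↔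
      ∃ (w : X) (n : ℕ), f w = z ∧ FlatEquidim.IsFibreMax f w ∧ mapTrdeg f w = n ∧ c = (n : WithBot ℕ∞) := by
  haveI : LocallyOfFiniteType (f.fiberToSpecResidueField z) := MorphismProperty.pullback_snd _ _ ‹_›
  constructor
  · rintro ⟨C, hC, rfl⟩
    let m := hC.1.genericPoint
    obtain ⟨n, hn, hn'⟩ := exists_height_eq (k := Y.residueField z) (f.fiberToSpecResidueField z) m
    rw [FlatEquidim.resTrdeg_fiber_eq] at hn
    have hfm := FlatEquidim.fiberι_apply_eq f z m
    refine ⟨f.fiberι z m, n, hfm, fun w hw hfw =>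
      FlatDim.eq_fiberι_of_isMax f (mem_component_isMax hC) hw (hfw.trans hfm), hn, ?_⟩
    show topologicalKrullDim ↥C = _
    conv_lhs => rw [← component_eq_closure hC]
    rw [topologicalKrullDim_closure, hn']
    rfl
  · rintro ⟨w, n, rfl, hw, hn, rfl⟩
    refine ⟨closure {f.asFiber w}, FlatDim.closure_mem_irreducibleComponents ((asFiber_max_iff f w).2 hw), ?_⟩
    obtain ⟨k, hk, hk'⟩ := height_asFiber f w
    show topologicalKrullDim ↥(closure ({f.asFiber w} : Set ↥(f.fiber (f w)))) = _
    rw [topologicalKrullDim_closure, hk', Nat.cast_injective (R := Cardinal.{u}) (hn.symm.trans hk)]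
    rfl

theorem isLocallyConstructible_dimEq [LocallyOfFinitePresentation f] (n : ℕ) :
    IsLocallyConstructible {x : X | FlatMor.fibreDimAt f x = (n : WithBot ℕ∞)} := by
  cases n with
  | zero =>
    convert FibreDimChart.isLocallyConstructible_fibreDimAt_le f 0 using 1
    ext x
    exact ⟨fun h => le_of_eq h, fun h => le_antisymm h (FibreDimChart.zero_le_fibreDimAt f x)⟩
  | succ m =>
    convert (FibreDimChart.isLocallyConstructible_fibreDimAt_le f (m + 1)).inter
      (FibreDimChart.isLocallyConstructible_compl (FibreDimChart.isLocallyConstructible_fibreDimAt_le f m)) using 1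
    ext x
    obtain ⟨z, k, -, -, -, hk⟩ := EquidimChart.exists_fibreMax f x
    simp only [Set.mem_setOf_eq, Set.mem_inter_iff, Set.mem_compl_iff, hk, Nat.cast_le, Nat.cast_inj]
    omega

theorem isLocallyConstructible_mem_E [LocallyOfFinitePresentation f] [QuasiCompact f] (n : ℕ) :
    IsLocallyConstructible {z : Y | (n : WithBot ℕ∞) ∈
      (fun Z : Set ↥(f.fiber z) => topologicalKrullDim ↥Z) '' irreducibleComponents ↥(f.fiber z)} := by
  refine (congrArg IsLocallyConstructible ?_).mp (f.isLocallyConstructible_image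
    ((RectDepth.isLocallyConstructible_equidim_at f).inter (isLocallyConstructible_dimEq f n)))
  ext z
  rw [Set.mem_setOf_eq, mem_E_iff]
  constructor
  · rintro ⟨x, ⟨hx, hxn⟩, rfl⟩
    obtain ⟨w, k, hw, hfw, hmax, hk⟩ := exists_max_gen f x
    refine ⟨w, n, hfw, hmax, ?_, rfl⟩
    have h1 := hx w hw hfw
    have h2 := FibreDimChart.fibreDimAt_le_of_specializes f hw
    have h3 := fibreDimAt_of_fibreMax f hmax hk
    rw [h3, hxn] at h1 h2
    have : k = n := by exact_mod_cast le_antisymm h2 h1
    rw [hk, this]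
  · rintro ⟨w, k, rfl, hmax, hk, hnk⟩
    obtain rfl : n = k := by exact_mod_cast hnk
    exact ⟨w, ⟨fun v hv hfv => le_of_eq (by rw [hmax v hv hfv]), fibreDimAt_of_fibreMax f hmax hk⟩, rfl⟩

/-- Let Y be a locally Noetherian scheme, f : X ⟶ Y an open morphism of finite type and y a point of Y;
for z in Y let E(z) be the set of dimensions of the irreducible components of the fibre X_z. If E(y)
= E(η) for the generic point η of every irreducible component of Y containing y, then E is constant
on a neighbourhood of y. -/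
theorem result {X Y : Scheme.{u}}
    [IsLocallyNoetherian Y] (f : X ⟶ Y) [LocallyOfFiniteType f] [QuasiCompact f] (hf : IsOpenMap f.base) (y : Y) :
    letI E : Y → Set (WithBot ℕ∞) := fun z =>
      (fun Z : Set ↥(f.fiber z) => topologicalKrullDim ↥Z) '' irreducibleComponents ↥(f.fiber z)
    (∀ η : Y, y ∈ closure {η} → closure {η} ∈ irreducibleComponents (Y : Type u) → E y = E η) →
      ∃ V ∈ nhds y, ∀ z ∈ V, E z = E y := by
  intro hE
  let E : Y → Set (WithBot ℕ∞) := fun z =>
    (fun Z : Set ↥(f.fiber z) => topologicalKrullDim ↥Z) '' irreducibleComponents ↥(f.fiber z)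
  replace hE : ∀ η : Y, y ∈ closure {η} → closure {η} ∈ irreducibleComponents (Y : Type u) → E y = E η := hE
  haveI : LocallyOfFinitePresentation f := inferInstance
  have mono : ∀ a b : Y, b ⤳ a → E a ⊆ E b := by
    intro a b hb c hc
    obtain ⟨w, n, rfl, hmax, hn, rfl⟩ := (mem_E_iff f a c).1 hc
    obtain ⟨ξ, -, hξ, hξmax, hξn⟩ := exists_over_generization f w hmax (fun O hO => hf.image_mem_nhds hO) hn hb
    exact (mem_E_iff f b _).2 ⟨ξ, n, hξ, hξmax, hξn, rfl⟩
  have hgen : ∀ z : Y, z ⤳ y → E z = E y := by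
    intro z hz
    obtain ⟨η, hη, hηmax⟩ := FlatMorLib.exists_maximal_generization z
    refine Set.Subset.antisymm ?_ (mono y z hz)
    rw [hE η (specializes_iff_mem_closure.1 (hη.trans hz)) (FlatDim.closure_mem_irreducibleComponents hηmax)]
    exact mono z η hη
  obtain ⟨N, hN⟩ := FibreDimChart.exists_nat_dim_fiber_le f y
  -- the condition in finitely many numerical terms
  let G : Set Y := {z | topologicalKrullDim ↥(f.fiber z) ≤ (N : WithBot ℕ∞)} ∩
    ⋂ n ∈ Finset.range (N + 1), {z | (n : WithBot ℕ∞) ∈ E z ↔ (n : WithBot ℕ∞) ∈ E y}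
  have hGE : ∀ z ∈ G, E z = E y := by
    intro z hz
    have hbd : ∀ a : Y, topologicalKrullDim ↥(f.fiber a) ≤ (N : WithBot ℕ∞) → ∀ c ∈ E a, ∃ n ≤ N, c = (n : WithBot ℕ∞) := by
      intro a ha c hc
      obtain ⟨w, n, rfl, hmax, hn, rfl⟩ := (mem_E_iff f a c).1 hc
      refine ⟨n, ?_, rfl⟩
      have h1 := (FibreDimChart.dim_fiber_le_iff f (f w) _).1 ha w rfl
      rw [fibreDimAt_of_fibreMax f hmax hn] at h1
      exact_mod_cast h1
    have key := fun n (hn : n ≤ N) => Set.mem_iInter₂.1 hz.2 n (Finset.mem_range.2 (Nat.lt_succ_of_le hn))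
    ext c
    constructor
    · intro hc
      obtain ⟨n, hn, rfl⟩ := hbd z hz.1 c hc
      exact (key n hn).1 hc
    · intro hc
      obtain ⟨n, hn, rfl⟩ := hbd y hN c hc
      exact (key n hn).2 hc
  have hGc : IsLocallyConstructible G := by
    refine (FibreDimChart.isLocallyConstructible_dim_fiber_le f _).inter ?_
    induction Finset.range (N + 1) using Finset.induction_on with
    | empty => simp only [Finset.notMem_empty, Set.iInter_of_empty, Set.iInter_univ]; exact IsLocallyConstructible.univ
    | insert a s ha ih =>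
      rw [Finset.set_biInter_insert]
      refine IsLocallyConstructible.inter ?_ ih
      by_cases h : (a : WithBot ℕ∞) ∈ E y
      · simp only [h, iff_true]; exact isLocallyConstructible_mem_E f a
      · simp only [h, iff_false]; exact FibreDimChart.isLocallyConstructible_compl (isLocallyConstructible_mem_E f a)
  refine ⟨G, mem_nhds_of_generizations hGc fun z hz => ⟨?_, Set.mem_iInter₂.2 fun n _ => by rw [Set.mem_setOf_eq, hgen z hz]⟩, hGE⟩
  -- the dimension bound
  haveI : LocallyOfFiniteType (f.fiberToSpecResidueField z) := MorphismProperty.pullback_snd _ _ inferInstance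
  show topologicalKrullDim ↥(f.fiber z) ≤ _
  rw [topologicalKrullDim_eq_iSup_height]
  refine iSup_le fun w => ?_
  obtain ⟨m, hm, hmax⟩ := FlatMorLib.exists_maximal_generization w
  have hmem : topologicalKrullDim ↥(closure ({m} : Set ↥(f.fiber z))) ∈ E y :=
    hgen z hz ▸ ⟨closure {m}, FlatDim.closure_mem_irreducibleComponents hmax, rfl⟩
  obtain ⟨v, n, hv, hvmax, hn, hmn⟩ := (mem_E_iff f y _).1 hmem
  have h2 := (FibreDimChart.dim_fiber_le_iff f y _).1 hN v hv
  rw [fibreDimAt_of_fibreMax f hvmax hn, ← hmn, topologicalKrullDim_closure] at h2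
  exact (WithBot.coe_le_coe.2 (Order.height_mono (show w ≤ m from hm))).trans h2

end Groth.Agent.S4923
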