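import Groth.Statements.S4924
import Groth.Agent.EquidimChart.OpenAt
import Groth.Agent.FibreDimChart.Constr
import Mathlib

set_option autoImplicit false
open CategoryTheory AlgebraicGeometry
universe u v w
open EGA43

namespace Groth.Agent.S4924

open Groth.Agent.EquidimChart
set_option backward.isDefEq.respectTransparency.types false


/-- Let Y be a locally Noetherian scheme, f : X ⟶ Y an open morphism of finite type and y a point of Y.
Then there is an open neighbourhood U of the fibre f⁻¹(y) in X such that the function z ↦ dim (U ∩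
f⁻¹(z)) is constant on a neighbourhood of y. -/
theorem result {X Y : Scheme.{u}} [IsLocallyNoetherian Y]
    (f : X ⟶ Y) [LocallyOfFiniteType f] [QuasiCompact f] (hf : IsOpenMap f.base) (y : Y) :
    ∃ U : X.Opens, f.base ⁻¹' {y} ⊆ (U : Set X) ∧ ∃ V ∈ nhds y, ∀ z ∈ V,
      topologicalKrullDim ↥((U : Set X) ∩ f.base ⁻¹' {z}) = topologicalKrullDim ↥((U : Set X) ∩ f.base ⁻¹' {y}) := by
  have hsub : ∀ (U : X.Opens), f.base ⁻¹' {y} ⊆ (U : Set X) →
      topologicalKrullDim ↥((U : Set X) ∩ f.base ⁻¹' {y}) = topologicalKrullDim ↥(f.fiber y) := fun U hU => by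
    rw [Set.inter_eq_right.2 hU, Groth.Agent.DimTheory.fiber_dim_eq]
  obtain ⟨N, hN⟩ := Groth.Agent.FibreDimChart.exists_nat_dim_fiber_le f y
  by_cases hbot : Nonempty ↥(f.fiber y)
  swap
  · have he : IsEmpty ↥(f.fiber y) := not_nonempty_iff.1 hbot
    refine ⟨⊥, fun x hx => (he.false ((f.fiberHomeo y).symm ⟨x, hx⟩)).elim, Set.univ, Filter.univ_mem, fun z _ => ?_⟩
    exact congrArg (fun s : Set X => topologicalKrullDim ↥s) (by simp)
  obtain ⟨n, hn⟩ : ∃ n : ℕ, topologicalKrullDim ↥(f.fiber y) = n := by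
    have h0 : (0 : WithBot ℕ∞) ≤ topologicalKrullDim ↥(f.fiber y) := by
      obtain ⟨w⟩ := hbot
      rw [Groth.Agent.DimTheory.topologicalKrullDim_eq_iSup_height]
      exact le_iSup_of_le w (WithBot.coe_le_coe.2 bot_le)
    generalize topologicalKrullDim ↥(f.fiber y) = c at hN h0
    induction c with
    | bot => simp at h0
    | coe c =>
      induction c using ENat.recTopCoe with
      | top => exact absurd (WithBot.coe_le_coe.1 hN) (by simp)
      | coe n => exact ⟨n, rfl⟩
  let U : X.Opens := ⟨_, Groth.Agent.FibreDimChart.isOpen_fibreDimAt_le f n⟩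
  have hU : f.base ⁻¹' {y} ⊆ (U : Set X) := fun x hx => (Groth.Agent.FibreDimChart.dim_fiber_le_iff f y _).1 hn.le x hx
  have hle : ∀ z, topologicalKrullDim ↥((U : Set X) ∩ f.base ⁻¹' {z}) ≤ (n : WithBot ℕ∞) := fun z => by
    rw [dim_fiber_restrict]
    refine (Groth.Agent.FibreDimChart.dim_fiber_le_iff (U.ι ≫ f) z _).2 fun v _ => ?_
    obtain ⟨m, k, hm1, hm2, hk, hd⟩ := exists_fibreMax (U.ι ≫ f) v
    rw [hd]
    rw [mapTrdeg_restrict] at hk
    exact (le_fibreDimAt f hk).trans m.2
  have hopen : IsOpenMap (U.ι ≫ f).base := hf.comp U.ι.isOpenEmbedding.isOpenMap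
  have : IsLocallyNoetherian X := LocallyOfFiniteType.isLocallyNoetherian f
  refine ⟨U, hU, _, mem_nhds_of_generizations (Groth.Agent.FibreDimChart.isLocallyConstructible_dim_fiber_eq (U.ι ≫ f) (n : WithBot ℕ∞)) (fun z hz => ?_), fun z hz => ?_⟩
  · show topologicalKrullDim ↥((U.ι ≫ f).fiber z) = _
    refine le_antisymm ?_ ?_
    · rw [← dim_fiber_restrict]; exact hle z
    · refine le_trans (le_of_eq ?_) (dim_fiber_mono (U.ι ≫ f) hopen hz)
      rw [← dim_fiber_restrict, hsub U hU, hn]
  · rw [hsub U hU, hn, dim_fiber_restrict]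
    exact hz

end Groth.Agent.S4924
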