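import Groth.Statements.S4925

set_option autoImplicit false
open CategoryTheory AlgebraicGeometry
universe u v w
open EGA43

namespace Groth.Agent.S4925

/-- Let f : X ⟶ Y and g : Y ⟶ Z be morphisms of schemes and x a point of X. If f is universally open at
x and g is universally open at f x, then f ≫ g is universally open at x. -/
theorem result {X Y Z : Scheme.{u}} (f : X ⟶ Y) (g : Y ⟶ Z) (x : X)
    (hf : EGA43.IsUnivOpenAt f x) (hg : EGA43.IsUnivOpenAt g (f.base x)) :
    EGA43.IsUnivOpenAt (f ≫ g) x := by
  intro Z' h' x' hx'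
  let π := Limits.pullback.lift (Limits.pullback.fst (f ≫ g) h' ≫ f) (Limits.pullback.snd (f ≫ g) h')
    (by rw [Category.assoc, Limits.pullback.condition]) (f := g) (g := h')
  have hπ1 : π ≫ Limits.pullback.fst g h' = Limits.pullback.fst (f ≫ g) h' ≫ f := Limits.pullback.lift_fst _ _ _
  have hπ2 : π ≫ Limits.pullback.snd g h' = Limits.pullback.snd (f ≫ g) h' := Limits.pullback.lift_snd _ _ _
  have sq : IsPullback (Limits.pullback.fst (f ≫ g) h') π f (Limits.pullback.fst g h') :=
    IsPullback.of_bot (by rw [hπ2]; exact IsPullback.of_hasPullback (f ≫ g) h') hπ1.symm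
      (IsPullback.of_hasPullback g h')
  let e := sq.isoPullback
  have he1 : e.hom ≫ Limits.pullback.fst f (Limits.pullback.fst g h') = Limits.pullback.fst (f ≫ g) h' :=
    sq.isoPullback_hom_fst
  have he2 : e.hom ≫ Limits.pullback.snd f (Limits.pullback.fst g h') = π := sq.isoPullback_hom_snd
  have hopen : EGA43.IsOpenAt π.base x' := by
    intro U hU
    have hoe : IsOpenMap e.hom.base := (Scheme.Hom.homeomorph e.hom).isOpenMap
    have h1 := hf _ (Limits.pullback.fst g h') (e.hom.base x') (by rw [← Scheme.Hom.comp_apply, he1]; exact hx')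
      (e.hom.base '' U) (hoe.image_mem_nhds hU)
    rw [← Set.image_comp] at h1
    rw [← Scheme.Hom.comp_apply, he2] at h1
    refine Filter.mem_of_superset h1 ?_
    rintro _ ⟨a, ha, rfl⟩
    exact ⟨a, ha, by rw [Function.comp_apply, ← Scheme.Hom.comp_apply, he2]⟩
  have hgo : EGA43.IsOpenAt (Limits.pullback.snd g h').base (π.base x') :=
    hg Z' h' _ (by rw [← Scheme.Hom.comp_apply, hπ1, Scheme.Hom.comp_apply, hx'])
  intro U hU
  rw [← hπ2]
  have := hgo _ (hopen U hU)
  rw [← Set.image_comp] at this
  simpa [Scheme.Hom.comp_base, Function.comp_def] using this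

end Groth.Agent.S4925
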