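import Groth.Statements.S4926

set_option autoImplicit false
open CategoryTheory AlgebraicGeometry
universe u v w
open EGA43

namespace Groth.Agent.S4926

/-- Let f : X ⟶ Y and g : Y ⟶ Z be morphisms of schemes and x a point of X. If f ≫ g is universally open
at x, then g is universally open at the point f x. -/
theorem result {X Y Z : Scheme.{u}} (f : X ⟶ Y) (g : Y ⟶ Z) (x : X)
    (h : EGA43.IsUnivOpenAt (f ≫ g) x) : EGA43.IsUnivOpenAt g (f.base x) := by
  intro Y' h' y' hy'
  obtain ⟨z, hz1, hz2⟩ := Scheme.Pullback.exists_preimage_pullback (f := f)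
    (g := Limits.pullback.fst g h') x y' hy'.symm
  let π := Limits.pullback.lift (Limits.pullback.fst (f ≫ g) h' ≫ f) (Limits.pullback.snd (f ≫ g) h')
    (by rw [Category.assoc, Limits.pullback.condition]) (f := g) (g := h')
  let σ := Limits.pullback.lift (Limits.pullback.fst f (Limits.pullback.fst g h'))
    (Limits.pullback.snd f (Limits.pullback.fst g h') ≫ Limits.pullback.snd g h')
    (by rw [← Category.assoc, Limits.pullback.condition, Category.assoc, Limits.pullback.condition, Category.assoc])
    (f := f ≫ g) (g := h')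
  have hσπ : σ ≫ π = Limits.pullback.snd f (Limits.pullback.fst g h') := by
    apply Limits.pullback.hom_ext
    · rw [Category.assoc, show π ≫ Limits.pullback.fst g h' = _ from Limits.pullback.lift_fst _ _ _, ← Category.assoc,
        show σ ≫ Limits.pullback.fst (f ≫ g) h' = _ from Limits.pullback.lift_fst _ _ _]
      exact Limits.pullback.condition
    · rw [Category.assoc, show π ≫ Limits.pullback.snd g h' = _ from Limits.pullback.lift_snd _ _ _]
      exact Limits.pullback.lift_snd _ _ _
  have hx' : (Limits.pullback.fst (f ≫ g) h').base (σ.base z) = x := by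
    rw [← Scheme.Hom.comp_apply, show σ ≫ Limits.pullback.fst (f ≫ g) h' = _ from Limits.pullback.lift_fst _ _ _]
    exact hz1
  have hπ : π.base (σ.base z) = y' := by rw [← Scheme.Hom.comp_apply, hσπ]; exact hz2
  intro U hU
  rw [← hπ] at hU ⊢
  have h1 := h Y' h' _ hx' (π.base ⁻¹' U) (π.base.hom.continuous.continuousAt.preimage_mem_nhds hU)
  have hc : π ≫ Limits.pullback.snd g h' = Limits.pullback.snd (f ≫ g) h' := Limits.pullback.lift_snd _ _ _
  rw [← hc] at h1
  simp only [Scheme.Hom.comp_apply] at h1 ⊢
  exact Filter.mem_of_superset h1 (by rintro _ ⟨a, ha, rfl⟩; exact ⟨_, ha, rfl⟩)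

end Groth.Agent.S4926
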