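import Groth.Statements.S4932
import Groth.Agent.EquidimChart.Ineq
import Mathlib

set_option autoImplicit false
open CategoryTheory AlgebraicGeometry
universe u v w
open EGA43

namespace Groth.Agent.S4932

open Groth.Agent.EquidimChart Groth.Agent.DimTheory
set_option backward.isDefEq.respectTransparency.types false


/-- Let A be a valuation ring (not necessarily discrete), X an irreducible scheme and f : X ⟶ Spec A a
dominant morphism of finite type. If the fibre X_0 of f over the closed point is nonempty, then dim
X_0 = dim X_1, where X_1 is the fibre over the generic point. -/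
theorem result {A : Type u} [CommRing A] [IsDomain A]
    [ValuationRing A] {X : Scheme.{u}} [IrreducibleSpace X] (f : X ⟶ Spec (CommRingCat.of A))
    [LocallyOfFiniteType f] [QuasiCompact f] [IsDominant f]
    (h0 : Nonempty ↥(f.fiber (IsLocalRing.closedPoint A))) :
    topologicalKrullDim ↥(f.fiber (IsLocalRing.closedPoint A)) =
      topologicalKrullDim ↥(f.fiber (genericPoint (Spec (CommRingCat.of A)))) := by
  have : IsDomain (CommRingCat.of A) := inferInstanceAs (IsDomain A)
  have : ValuationRing (CommRingCat.of A) := inferInstanceAs (ValuationRing A)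
  have hd := apply_genericPoint_of_dominant f
  obtain ⟨e, he, -⟩ := height_asFiber f (genericPoint X)
  rw [dim_fiber_generic f hd he, topologicalKrullDim_eq_iSup_height]
  let gp : ↥(Spec (CommRingCat.of A)) := ⟨⊥, Ideal.isPrime_bot⟩
  have hgp : genericPoint ↥(Spec (CommRingCat.of A)) = gp :=
    (Groth.Agent.FlatDim.eq_genericPoint fun w hw =>
      (hw.antisymm ((PrimeSpectrum.le_iff_specializes gp w).1 bot_le)).eq).symm
  have : LocallyOfFiniteType (f.fiberToSpecResidueField (IsLocalRing.closedPoint A)) :=
    MorphismProperty.pullback_snd _ _ inferInstance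
  refine le_antisymm (iSup_le fun w => ?_) ?_
  · obtain ⟨n, hn, hn'⟩ := exists_height_eq (k := (Spec (CommRingCat.of A)).residueField _) (f.fiberToSpecResidueField (IsLocalRing.closedPoint A)) w
    rw [Groth.Agent.FlatEquidim.resTrdeg_fiber_eq] at hn
    rw [hn']
    exact_mod_cast trdeg_le_of_valuation f (genericPoint_specializes _) (Groth.Agent.FlatEquidim.fiberι_apply_eq f _ w)
      (hd.trans hgp) hn he
  · obtain ⟨w⟩ := h0
    obtain ⟨u, hu, humax⟩ := Groth.Agent.FlatMorLib.exists_maximal_generization w
    obtain ⟨n, hn, hn'⟩ := exists_height_eq (k := (Spec (CommRingCat.of A)).residueField _) (f.fiberToSpecResidueField (IsLocalRing.closedPoint A)) u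
    rw [Groth.Agent.FlatEquidim.resTrdeg_fiber_eq] at hn
    have hmax : Groth.Agent.FlatEquidim.IsFibreMax f (f.fiberι _ u) := fun z hz hfz =>
      Groth.Agent.FlatDim.eq_fiberι_of_isMax f humax hz (hfz.trans (Groth.Agent.FlatEquidim.fiberι_apply_eq f _ u))
    refine le_iSup_of_le u ?_
    rw [hn']
    exact_mod_cast le_of_specializes f (genericPoint_specializes _)
      (fun z hz _ => Groth.Agent.FlatDim.genericPoint_isMax z hz) he (fibreDimAt_of_fibreMax f hmax hn).le

end Groth.Agent.S4932
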