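import Groth.Statements.S4935
import Mathlib.RingTheory.IntegralClosure.GoingDown
import Mathlib.RingTheory.LocalRing.RingHom.Basic
import Mathlib.RingTheory.Ideal.GoingUp

set_option autoImplicit false
universe u
open EGA43

namespace Groth.Agent.S4935

theorem exists_integralClosure_bottom {A B : Type u} [CommRing A] [IsDomain A]
    [IsLocalRing A] (hA : IsLocalRing (integralClosure A (FractionRing A))) [CommRing B] [IsDomain B] [Algebra A B]
    (hinj : Function.Injective (algebraMap A B)) [Algebra.IsIntegral A B] (n : Ideal B) [n.IsPrime]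
    (hn : n.comap (algebraMap A B) = IsLocalRing.maximalIdeal A) (p : Ideal A) [p.IsPrime] :
    ∃ q : Ideal B, q.IsPrime ∧ q ≤ n ∧ q.comap (algebraMap A B) = p := by
  have : FaithfulSMul A B := (faithfulSMul_iff_algebraMap_injective A B).2 hinj
  have : Algebra.IsAlgebraic A B := Algebra.IsIntegral.isAlgebraic
  let L := FractionRing B
  let : Algebra (FractionRing A) L := FractionRing.liftAlgebra A L
  let A' := integralClosure A (FractionRing A)
  let B' := integralClosure A L
  let j : A' →ₐ[A] B' := (((IsScalarTower.toAlgHom A (FractionRing A) L).comp A'.val).codRestrict B'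
    fun a => a.2.map (IsScalarTower.toAlgHom A (FractionRing A) L))
  let : Algebra A' B' := j.toRingHom.toAlgebra
  have : IsScalarTower A A' B' := IsScalarTower.of_algebraMap_eq fun a => (j.commutes a).symm
  have : Algebra.IsIntegral A' B' := ⟨fun b => IsIntegral.tower_top (R := A)
    (Algebra.IsIntegral.isIntegral b)⟩
  have : FaithfulSMul A' B' := (faithfulSMul_iff_algebraMap_injective A' B').2 fun a b h =>
    Subtype.ext ((algebraMap (FractionRing A) L).injective (congrArg Subtype.val h))
  have : IsIntegrallyClosed A' := integralClosure.isIntegrallyClosedOfFiniteExtension (FractionRing A)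
  let ιB : B →ₐ[A] B' := (IsScalarTower.toAlgHom A B L).codRestrict B'
    fun b => (Algebra.IsIntegral.isIntegral b).map (IsScalarTower.toAlgHom A B L)
  have hιB : Function.Injective ιB := fun a b h =>
    IsFractionRing.injective B L (congrArg Subtype.val h)
  have hker : (RingHom.ker ιB.toRingHom) ≤ n := fun b hb => by
    rw [(hιB (hb.trans (map_zero ιB).symm) : b = 0)]; exact n.zero_mem
  let : Algebra B B' := ιB.toRingHom.toAlgebra
  have : IsScalarTower A B B' := IsScalarTower.of_algebraMap_eq fun a => (ιB.commutes a).symm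
  have : Algebra.IsIntegral B B' := ⟨fun b => IsIntegral.tower_top (R := A)
    (Algebra.IsIntegral.isIntegral b)⟩
  obtain ⟨n', -, hn', hn'n⟩ := Ideal.exists_ideal_over_prime_of_isIntegral n (⊥ : Ideal B') (by
    rw [← RingHom.ker_eq_comap_bot]; exact hker)
  obtain ⟨p', -, hp', hp'p⟩ := Ideal.exists_ideal_over_prime_of_isIntegral p (⊥ : Ideal A') (by
    rw [← RingHom.ker_eq_comap_bot, (RingHom.injective_iff_ker_eq_bot _).1
      (fun a b h => IsFractionRing.injective A (FractionRing A) (congrArg Subtype.val h))]
    exact bot_le)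
  have hmax : n'.comap (algebraMap A' B') = IsLocalRing.maximalIdeal A' := by
    have : (n'.comap (algebraMap A' B')).IsMaximal := by
      refine Ideal.isMaximal_of_isIntegral_of_isMaximal_comap (R := A) _ ?_
      rw [Ideal.comap_comap, ← IsScalarTower.algebraMap_eq, IsScalarTower.algebraMap_eq A B B',
        ← Ideal.comap_comap, hn'n, hn]
      exact IsLocalRing.maximalIdeal.isMaximal A
    exact IsLocalRing.eq_maximalIdeal this
  have : n'.LiesOver (IsLocalRing.maximalIdeal A') := ⟨hmax.symm⟩
  obtain ⟨q', hq', hq'p, hq'n⟩ := Ideal.exists_ideal_le_liesOver_of_le (S := B') (p := p') n'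
    (IsLocalRing.le_maximalIdeal hp'.ne_top)
  refine ⟨q'.comap (algebraMap B B'), inferInstance, hn'n ▸ Ideal.comap_mono hq', ?_⟩
  rw [Ideal.comap_comap, ← IsScalarTower.algebraMap_eq, IsScalarTower.algebraMap_eq A A' B',
    ← Ideal.comap_comap]
  show (q'.comap (algebraMap A' B')).comap (algebraMap A A') = p
  rw [show q'.comap (algebraMap A' B') = p' from hq'n.over.symm, hp'p]


/-- Let A be a unibranch local domain, B a domain containing A and integral over A, and 𝔫 a prime ideal
of B lying over the maximal ideal of A. Then Spec B_𝔫 → Spec A is surjective: for every prime ideal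
𝔭 of A there is a prime ideal 𝔮 ⊆ 𝔫 of B with 𝔮 ∩ A = 𝔭. -/
theorem result {A B : Type u} [CommRing A] [IsDomain A]
    [IsLocalRing A] (hA : CAlg2.IsUnibranch A) [CommRing B] [IsDomain B] [Algebra A B]
    (hinj : Function.Injective (algebraMap A B)) [Algebra.IsIntegral A B] (n : Ideal B) [n.IsPrime]
    (hn : n.comap (algebraMap A B) = IsLocalRing.maximalIdeal A) (p : Ideal A) [p.IsPrime] :
    ∃ q : Ideal B, q.IsPrime ∧ q ≤ n ∧ q.comap (algebraMap A B) = p := by
  obtain ⟨hdom, hloc⟩ := hA
  let e : A ≃+* CAlg2.red A := ((RingEquiv.quotientBot A).symm.trans (Ideal.quotEquivOfEq (nilradical_eq_zero A).symm))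
  refine exists_integralClosure_bottom ?_ hinj n hn p
  have hfr : IsFractionRing A (FractionRing A) := inferInstance
  let E : FractionRing A ≃+* FractionRing (CAlg2.red A) := IsFractionRing.ringEquivOfRingEquiv e
  have hE : ∀ a, E (algebraMap A (FractionRing A) a) = algebraMap _ _ (e a) := fun a =>
    IsFractionRing.ringEquivOfRingEquiv_algebraMap e a
  have hmem : ∀ x, IsIntegral A x ↔ IsIntegral (CAlg2.red A) (E x) := fun x => by
    constructor
    · exact fun h => h.map_of_comp_eq e.toRingHom E.toRingHom (RingHom.ext fun a => (hE a).symm)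
    · intro h
      have := h.map_of_comp_eq e.symm.toRingHom E.symm.toRingHom (RingHom.ext fun a => by
        refine E.injective ?_
        show E (algebraMap A _ (e.symm a)) = E (E.symm _)
        rw [hE, RingEquiv.apply_symm_apply, RingEquiv.apply_symm_apply])
      simpa using this
  let φ : integralClosure A (FractionRing A) ≃+* CAlg2.normRed A :=
    { toFun := fun x => ⟨E x, (hmem _).1 x.2⟩
      invFun := fun y => ⟨E.symm y, (hmem _).2 (by rw [RingEquiv.apply_symm_apply]; exact y.2)⟩
      left_inv := fun x => Subtype.ext (E.symm_apply_apply _)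
      right_inv := fun y => Subtype.ext (E.apply_symm_apply _)
      map_mul' := fun x y => Subtype.ext (map_mul E _ _)
      map_add' := fun x y => Subtype.ext (map_add E _ _) }
  exact φ.symm.isLocalRing

end Groth.Agent.S4935
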