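import Groth.Statements.S4936
import Groth.Agent.Branch.SmoothScheme

set_option autoImplicit false
open CategoryTheory AlgebraicGeometry
universe u v w
open EGA43

namespace Groth.Agent.S4936

/-- Let Y be a scheme, Y' = Y[T_1, …, T_n] affine n-space over Y, y' a point of Y' and y its image in Y.
If Y is geometrically unibranch at y, then Y' is geometrically unibranch at y'. -/
theorem result {Y : Scheme.{u}} (n : ℕ) (y' : ↥𝔸(ULift.{u} (Fin n); Y))
    (hy : CAlg2.IsGeomUnibranch (Y.presheaf.stalk ((𝔸(ULift.{u} (Fin n); Y) ↘ Y).base y'))) :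
    CAlg2.IsGeomUnibranch ((𝔸(ULift.{u} (Fin n); Y)).presheaf.stalk y') := by
  haveI : Smooth (Limits.terminal.from (Spec (CommRingCat.of (MvPolynomial (ULift.{u} (Fin n)) (ULift.{u} ℤ))))) := by
    have hfac : Limits.terminal.from (Spec (CommRingCat.of (MvPolynomial (ULift.{u} (Fin n)) (ULift.{u} ℤ)))) =
        Spec.map (CommRingCat.ofHom (algebraMap (ULift.{u} ℤ) (MvPolynomial (ULift.{u} (Fin n)) (ULift.{u} ℤ)))) ≫
          (AlgebraicGeometry.specULiftZIsTerminal.uniqueUpToIso Limits.terminalIsTerminal).hom := Limits.terminalIsTerminal.hom_ext _ _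
    rw [hfac]
    haveI : Smooth (Spec.map (CommRingCat.ofHom (algebraMap (ULift.{u} ℤ)
        (MvPolynomial (ULift.{u} (Fin n)) (ULift.{u} ℤ))))) :=
      (HasRingHomProperty.Spec_iff (P := @Smooth)).2 (RingHom.smooth_algebraMap.2
        (⟨inferInstance, inferInstance⟩ : Algebra.Smooth (ULift.{u} ℤ) (MvPolynomial (ULift.{u} (Fin n)) (ULift.{u} ℤ))))
    infer_instance
  haveI : Smooth (𝔸(ULift.{u} (Fin n); Y) ↘ Y) :=
    MorphismProperty.pullback_fst (P := @Smooth) _ _ inferInstance
  exact (Groth.Agent.Branch.isGeomUnibranch_stalk_of_smooth _ y' hy).1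

end Groth.Agent.S4936
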