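import Groth.Statements.S4939
import Groth.Agent.Chevalley.Equiv
import Groth.Agent.EquidimChart.DimOpen
import Groth.Agent.EquidimChart.ChainIneq
import Groth.Agent.EquidimChart.Section
import Mathlib

set_option autoImplicit false
open CategoryTheory AlgebraicGeometry
universe u v w
open EGA43

set_option backward.isDefEq.respectTransparency.types false
set_option linter.style.haveILetI false
namespace Groth.Agent.S4939

open Groth.Agent Groth.Agent.DimTheory Groth.Agent.EquidimChart TopologicalSpace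

/-- A chain inside a component gives a lower bound for the dimension of the corresponding quotient. -/
theorem le_dim_quotient {X W : Scheme.{u}} {x ξ : X} (p : PrimeSpectrum (X.presheaf.stalk x))
    (hp : X.fromSpecStalk x p = ξ) (ι : W ⟶ X) [IsPreimmersion ι] (hr : Set.range ι = closure {ξ}) {xW : W}
    (hxW : ι xW = x) {a : ℕ} (ha : (a : ℕ∞) ≤ Order.coheight xW) :
    (a : WithBot ℕ∞) ≤ ringKrullDim (X.presheaf.stalk x ⧸ p.asIdeal) := by
  obtain ⟨s, hs1, hs2⟩ := Order.exists_series_of_le_coheight xW ha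
  have hmem : ∀ i, ι (s i) ∈ Set.range (X.fromSpecStalk x) := fun i => by
    rw [Scheme.range_fromSpecStalk]
    refine hxW ▸ Specializes.map ?_ ι.continuous
    have h1 : s.head ≤ s i := s.monotone (Fin.zero_le i)
    rw [hs1] at h1
    exact h1
  choose G hG using hmem
  have hz : ∀ i, G i ∈ PrimeSpectrum.zeroLocus (p.asIdeal : Set (X.presheaf.stalk x)) := fun i => by
    show p.asIdeal ≤ (G i).asIdeal
    refine (PrimeSpectrum.le_iff_specializes p (G i)).2 ((X.fromSpecStalk x).isEmbedding.isInducing.specializes_iff.1 ?_)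
    rw [hp, hG]
    exact specializes_iff_mem_closure.2 (hr ▸ ⟨_, rfl⟩)
  let l : LTSeries (PrimeSpectrum.zeroLocus (p.asIdeal : Set (X.presheaf.stalk x))) :=
    ⟨s.length, fun i => ⟨G i.rev, hz _⟩, fun i => by
      show (⟨G (Fin.rev (Fin.castSucc i)), hz _⟩ : PrimeSpectrum.zeroLocus _) < ⟨G (Fin.rev i.succ), hz _⟩
      rw [Fin.rev_castSucc, Fin.rev_succ, Subtype.mk_lt_mk]
      have h1 : s i.rev.castSucc < s i.rev.succ := s.strictMono Fin.castSucc_lt_succ
      refine lt_of_le_of_ne ((PrimeSpectrum.le_iff_specializes _ _).2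
        ((X.fromSpecStalk x).isEmbedding.isInducing.specializes_iff.1 ?_)) fun h => ?_
      · rw [hG, hG]
        exact (show s i.rev.succ ⤳ s i.rev.castSucc from h1.le).map ι.continuous
      · have h2 := congrArg (X.fromSpecStalk x) h
        rw [hG, hG] at h2
        exact h1.ne (ι.isEmbedding.injective h2).symm⟩
  rw [ringKrullDim_quotient, ← hs2]
  exact Order.LTSeries.length_le_krullDim l

theorem isEquidim_stalk {X Y : Scheme.{u}} [IsLocallyNoetherian Y] (f : X ⟶ Y) [LocallyOfFiniteType f] (x : X)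
    (hy : CAlg2.IsGeomUnibranch (Y.presheaf.stalk (f x))) (h : EGA43.IsEquidimAt f x) :
    EGA4.IsEquidim (X.presheaf.stalk x) := by
  obtain ⟨e, U, hxU, hcomp, h1, h2⟩ := data_of_isEquidimAt f h
  obtain ⟨t, ht, -⟩ := height_asFiber f x
  obtain ⟨d, hd⟩ := LeadFCat.exists_dim (Y.presheaf.stalk (f x))
  rw [ringKrullDim_stalk_eq_coheight] at hd
  have hd' : Order.coheight (f x) = (d : ℕ∞) := WithBot.coe_injective hd
  haveI : IsLocallyNoetherian X := LocallyOfFiniteType.isLocallyNoetherian f
  obtain ⟨D, hD⟩ := LeadFCat.exists_dim (X.presheaf.stalk x)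
  rw [ringKrullDim_stalk_eq_coheight] at hD
  have hD' : Order.coheight x = (D : ℕ∞) := WithBot.coe_injective hD
  have hmax : ∀ {ξ : X}, ξ ∈ U → (∀ z : X, z ⤳ ξ → z = ξ) → mapTrdeg f ξ = e := fun hU hξ =>
    h1 _ hU fun z hz _ => hξ z hz
  -- every chain is bounded
  have hup : D + t ≤ d + e := by
    obtain ⟨s, hs1, hs2⟩ := Order.exists_series_of_le_coheight x hD'.ge
    obtain ⟨ξ, hξs, hξ⟩ := FlatMorLib.exists_maximal_generization s.last
    have hξx : ξ ⤳ x := hξs.trans (show s.last ⤳ x from hs1 ▸ s.head_le_last)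
    obtain ⟨r, hr1, -, hr⟩ := chain_ineq f ht (hmax (hξx.mem_open U.2 hxU) hξ) s hs1 hξs
    have h3 : (r.length : ℕ∞) ≤ d := hd' ▸ Order.length_le_coheight (le_of_eq hr1.symm)
    have h4 : r.length ≤ d := by exact_mod_cast h3
    omega
  intro p hp
  have hpp : p.IsPrime := hp.1.1
  let P : PrimeSpectrum (X.presheaf.stalk x) := ⟨p, hpp⟩
  generalize hξdef : X.fromSpecStalk x P = ξ
  have hξx : ξ ⤳ x := by
    show ξ ∈ {y | y ⤳ x}
    rw [← Scheme.range_fromSpecStalk, ← hξdef]
    exact ⟨P, rfl⟩
  have hξ : ∀ z : X, z ⤳ ξ → z = ξ := fun z hz => by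
    obtain ⟨q, rfl⟩ : z ∈ Set.range (X.fromSpecStalk x) := by
      rw [Scheme.range_fromSpecStalk]; exact hz.trans hξx
    rw [← hξdef] at hz ⊢
    rw [(X.fromSpecStalk x).isEmbedding.isInducing.specializes_iff] at hz
    have hle : q.asIdeal ≤ p := (PrimeSpectrum.le_iff_specializes q P).2 hz
    exact congrArg _ (PrimeSpectrum.ext (le_antisymm hle (hp.2 ⟨q.isPrime, bot_le⟩ hle)))
  have hξU := hξx.mem_open U.2 hxU
  obtain ⟨hη, hηx⟩ := hcomp ξ hξU hξ
  let Wc : Closeds X := ⟨closure {ξ}, isClosed_closure⟩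
  obtain ⟨hWirr, hWg, hWr⟩ := component_subscheme ξ Wc rfl
  let ιW := (Scheme.IdealSheafData.vanishingIdeal Wc).subschemeι
  obtain ⟨xW, hxW⟩ : x ∈ Set.range ιW := by rw [hWr]; exact specializes_iff_mem_closure.1 hξx
  let g := ιW ≫ f
  have hgx : g xW = f x := by rw [Scheme.Hom.comp_apply, hxW]
  obtain ⟨w, n, hwx, hwmax, hn, hdim⟩ := exists_fibreMax' g xW
  have hfw := FlatEquidim.fiberι_apply_eq g (g xW) w
  have hw : FlatEquidim.IsFibreMax g (g.fiberι (g xW) w) := fun z hz hfz =>
    FlatDim.eq_fiberι_of_isMax g hwmax hz (hfz.trans hfw)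
  have hwx' : ιW (g.fiberι (g xW) w) ⤳ x := by
    have := (hwx.map (g.fiberι (g xW)).continuous).map ιW.continuous
    rwa [g.fiberι_asFiber, hxW] at this
  have hne : n ≤ e := by
    have := le_fibreDimAt f (x := ιW (g.fiberι (g xW) w)) (m := n) (by rw [← mapTrdeg_component]; exact hn)
    rw [h2 _ (hwx'.mem_open U.2 hxU)] at this
    exact_mod_cast this
  have hgen : mapTrdeg g (genericPoint _) = e :=
    (mapTrdeg_component f Wc _).trans (hWg.symm ▸ hmax hξU hξ)
  have hgenmax : ∀ z, z ⤳ genericPoint ↥(Scheme.IdealSheafData.vanishingIdeal Wc).subscheme →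
      z = genericPoint _ := fun z hz => (hz.antisymm (genericPoint_specializes z)).eq
  have hen : e ≤ n := le_of_specializes g (genericPoint_specializes xW) (fun z hz _ => hgenmax z hz) hgen hdim.le
  obtain rfl : n = e := by omega
  have hgη : g (genericPoint _) = f ξ := by rw [Scheme.Hom.comp_apply, hWg]
  have hopen : EGA43.IsOpenAt g.base (g.fiberι (g xW) w) := by
    refine Chevalley.isOpenAt_of_isUnivOpenAt g (Chevalley.isUnivOpenAt_of_generic g _ _
      (genericPoint_specializes _) (hgη ▸ hη) ?_ n hgen (fibreDimAt_of_fibreMax g hw hn).le ?_)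
    · rw [hfw, hgx, hgη]
      exact Chevalley.closure_mem_nhds _ hy.1.1 hηx hη
    · rw [hfw, hgx]; exact hy
  have hb : (d : ℕ∞) ≤ Order.coheight (g.fiberι (g xW) w) :=
    (le_of_eq (hd'.symm.trans (congrArg Order.coheight (hfw.trans hgx)).symm)).trans (dim_base_le g hw hopen hn)
  obtain ⟨c, hc, hle⟩ := coheight_add_trdeg g hwx (show mapTrdeg g xW = t from (mapTrdeg_component f Wc xW).trans (hxW.symm ▸ ht)) hn
  have hcd : ((c + d : ℕ) : ℕ∞) ≤ Order.coheight xW := by
    push_cast
    exact (add_le_add le_rfl hb).trans hle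
  refine le_antisymm (ringKrullDim_quotient_le _) ?_
  rw [ringKrullDim_stalk_eq_coheight, hD']
  refine le_trans ?_ (le_dim_quotient P hξdef ιW hWr hxW hcd)
  exact_mod_cast (show D ≤ c + d by omega)


/-- Suppose Y is a locally Noetherian scheme and f : X ⟶ Y is locally of finite type; take a point x of
X whose image y = f x is geometrically unibranch on Y. Then these three conditions are equivalent:
a) f is equidimensional at x; b) O_{X,x} is an equidimensional local ring, and f is open at every
generic point of an irreducible component of the fibre X_y that contains x; c) O_{X,x} is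
equidimensional, and f is universally open at every such generic point of an irreducible component
of X_y passing through x. (Not formalized here is the additional claim that, when these hold,
restricting f to any reduced irreducible component of X through x gives a morphism equidimensional
at x and universally open at the points of the components of its fibre through x.) -/
theorem result {X Y : Scheme.{u}} [IsLocallyNoetherian Y] (f : X ⟶ Y)
    [LocallyOfFiniteType f] (x : X) (hy : CAlg2.IsGeomUnibranch (Y.presheaf.stalk (f.base x))) :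
    List.TFAE [EGA43.IsEquidimAt f x,
      EGA4.IsEquidim (X.presheaf.stalk x) ∧ (∀ z : ↥(f.fiber (f.base x)), f.asFiber x ∈ closure {z} →
        (∀ z' : ↥(f.fiber (f.base x)), z ∈ closure {z'} → z' = z) → EGA43.IsOpenAt f.base ((f.fiberι (f.base x)).base z)),
      EGA4.IsEquidim (X.presheaf.stalk x) ∧ (∀ z : ↥(f.fiber (f.base x)), f.asFiber x ∈ closure {z} →
        (∀ z' : ↥(f.fiber (f.base x)), z ∈ closure {z'} → z' = z) → EGA43.IsUnivOpenAt f ((f.fiberι (f.base x)).base z))] := by
  tfae_have 1 → 3 := fun h => by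
    refine ⟨isEquidim_stalk f x hy h, fun z hz hzmax => ?_⟩
    obtain ⟨e, U, hxU, hcomp, h1, h2⟩ := data_of_isEquidimAt f h
    have hzx : f.fiberι (f x) z ⤳ x := by
      have := (specializes_iff_mem_closure.2 hz).map (f.fiberι (f x)).continuous
      rwa [f.fiberι_asFiber] at this
    have hfz := FlatEquidim.fiberι_apply_eq f (f x) z
    obtain ⟨ξ, hξz, hξ⟩ := FlatMorLib.exists_maximal_generization (f.fiberι (f x) z)
    have hzU := hzx.mem_open U.2 hxU
    obtain ⟨hη, hηx⟩ := hcomp ξ ((hξz.trans hzx).mem_open U.2 hxU) hξ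
    refine Chevalley.isUnivOpenAt_of_generic f _ ξ hξz hη ?_ e
      (h1 _ ((hξz.trans hzx).mem_open U.2 hxU) fun v hv _ => hξ v hv) (h2 _ hzU).le ?_
    · rw [hfz]
      exact Chevalley.closure_mem_nhds _ hy.1.1 hηx hη
    · rw [hfz]; exact hy
  tfae_have 3 → 2 := fun h => ⟨h.1, fun z hz hzmax => Chevalley.isOpenAt_of_isUnivOpenAt f (h.2 z hz hzmax)⟩
  tfae_have 2 → 1 := fun h => isEquidimAt_of_isOpenAt f x h.1 fun z hz hzmax =>
    h.2 z (specializes_iff_mem_closure.1 hz) fun z' hz' => hzmax z' (specializes_iff_mem_closure.2 hz')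
  tfae_finish

end Groth.Agent.S4939
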