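import Groth.Statements.S4943
import Mathlib
import Groth.Agent.EquidimChart.Crit
import Groth.Agent.FibreDimChart.Mono
import Groth.Agent.EquidimChart.Comp
import Groth.Agent.EquidimChart.DimOpen
import Groth.Agent.RectDepth.EquidimCodim

set_option autoImplicit false
open CategoryTheory AlgebraicGeometry
universe u v w
open EGA43

namespace Groth.Agent.S4943

/-- Let Y be an irreducible locally Noetherian scheme, f : X ⟶ Y a morphism locally of finite type which
is equidimensional at the point x, y = f x and e = dim_x(X_y). Let X' be an irreducible closed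
subset of X containing x, with generic point x', and n a natural number such that codim(X', X) ≤ n
(the codimension being dim O_{X,x'}) and dim_x(X' ∩ X_y) ≤ e − n. Then codim(X', X) = n, dim_x(X' ∩
X_y) = e − n, and the restriction of f to X' with its reduced subscheme structure is equidimensional
at x. -/
theorem result {X Y : Scheme.{u}} [IrreducibleSpace Y]
    [IsLocallyNoetherian Y] (f : X ⟶ Y) [LocallyOfFiniteType f] (x : X) (hf : EGA43.IsEquidimAt f x)
    (X' : TopologicalSpace.Closeds X) (x' : X) (hx' : closure ({x'} : Set X) = (X' : Set X)) (hx : x ∈ X') (n : ℕ)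
    (hcodim : ringKrullDim (X.presheaf.stalk x') ≤ n)
    (hdim : FlatMor.localDim ↥((X' : Set X) ∩ f.base ⁻¹' {f.base x}) ⟨x, ⟨hx, rfl⟩⟩ + n ≤ FlatMor.fibreDimAt f x) :
    ringKrullDim (X.presheaf.stalk x') = n ∧
      FlatMor.localDim ↥((X' : Set X) ∩ f.base ⁻¹' {f.base x}) ⟨x, ⟨hx, rfl⟩⟩ + n = FlatMor.fibreDimAt f x ∧
      ∀ w : ↥(Scheme.IdealSheafData.vanishingIdeal X').subscheme,
        (Scheme.IdealSheafData.vanishingIdeal X').subschemeι.base w = x →
        EGA43.IsEquidimAt ((Scheme.IdealSheafData.vanishingIdeal X').subschemeι ≫ f) w := by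
  classical
  obtain ⟨e, U, hxU, hcomp, -, hF⟩ := Groth.Agent.EquidimChart.data_of_isEquidimAt f hf
  have hx'x : x' ⤳ x := specializes_iff_mem_closure.2 (hx' ▸ hx)
  have hx'U : x' ∈ U := hx'x.mem_open U.2 hxU
  let I := Scheme.IdealSheafData.vanishingIdeal X'
  let ι := I.subschemeι
  let g := ι ≫ f
  obtain ⟨hirr, hgen⟩ := Groth.Agent.EquidimChart.genericPoint_component X' hx'.symm
  obtain ⟨a, ha, ha'⟩ := Groth.Agent.EquidimChart.height_asFiber f x'
  have hga : Groth.Agent.DimTheory.mapTrdeg g (genericPoint I.subscheme) = a := by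
    rw [Groth.Agent.EquidimChart.mapTrdeg_component, hgen, ha]
  obtain ⟨w₀, hw₀⟩ : x ∈ Set.range ι := by
    rw [Groth.Agent.EquidimChart.range_subschemeι_vanishingIdeal X']; exact hx
  rw [Groth.Agent.EquidimChart.localDim_inter f X' w₀ hw₀ rfl, hF x hxU] at hdim ⊢
  obtain ⟨b, hb⟩ := FibreDimChart.exists_nat_fibreDimAt_eq g w₀
  have hmaxW : ∀ z, z ⤳ genericPoint I.subscheme → z = genericPoint I.subscheme :=
    Groth.Agent.FlatDim.genericPoint_isMax
  have hab : a ≤ b := Groth.Agent.EquidimChart.le_of_specializes g (genericPoint_specializes w₀)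
    (fun z hz _ => hmaxW z hz) hga (le_of_eq hb)
  rw [hb] at hdim ⊢
  have hbn : b + n ≤ e := by exact_mod_cast hdim
  rw [ringKrullDim_stalk_eq_coheight, ← WithBot.coe_natCast, WithBot.coe_le_coe] at hcodim
  obtain ⟨hco, hane, hη⟩ := Groth.Agent.RectDepth.codim_data f (hF x' hx'U)
    (fun ξ hξ hmax => (hcomp ξ (hξ.mem_open U.2 hx'U) hmax).1) hcodim ha (by omega)
  refine ⟨?_, ?_, ?_⟩
  · rw [ringKrullDim_stalk_eq_coheight, ← WithBot.coe_natCast, WithBot.coe_inj]
    exact hco
  · exact_mod_cast (show b + n = e by omega)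
  · intro w hw
    obtain rfl : w = w₀ := ι.isEmbedding.injective (hw.trans hw₀.symm)
    obtain rfl : a = b := by omega
    refine Groth.Agent.EquidimChart.isEquidimAt_of_bound g w a ?_ hga (le_of_eq hb)
    rw [Scheme.Hom.comp_apply, hgen]
    exact hη

end Groth.Agent.S4943
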