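import Groth.Statements.S4944
import Groth.Agent.EquidimChart.Section
import Mathlib

set_option autoImplicit false
open CategoryTheory AlgebraicGeometry
universe u v w
open EGA43

namespace Groth.Agent.S4944

open Groth.Agent.EquidimChart Groth.Agent.DimTheory
set_option backward.isDefEq.respectTransparency.types false
set_option linter.style.haveILetI false


/-- Suppose Y is an irreducible, locally Noetherian scheme and f : X ⟶ Y is locally of finite type. Take
a point x of X at which f is equidimensional and which is closed in its fibre f⁻¹(f x). Then one can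
find an irreducible reduced scheme T together with an immersion i : T ⟶ X whose image contains x,
such that the composite T ⟶ Y is dominant and quasi-finite (meaning locally quasi-finite and of
finite type). -/
theorem result {X Y : Scheme.{u}} [IrreducibleSpace Y]
    [IsLocallyNoetherian Y] (f : X ⟶ Y) [LocallyOfFiniteType f] (x : X) (hf : EGA43.IsEquidimAt f x)
    (hcl : ∀ x' : X, f.base x' = f.base x → x ⤳ x' → x' = x) :
    ∃ (T : Scheme.{u}) (i : T ⟶ X), IsImmersion i ∧ IrreducibleSpace ↥T ∧ IsReduced T ∧ x ∈ Set.range i.base ∧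
        LocallyOfFiniteType (i ≫ f) ∧ LocallyQuasiFinite (i ≫ f) ∧ QuasiCompact (i ≫ f) ∧ IsDominant (i ≫ f) := by
  obtain ⟨e, U, hxU, hcomp, h1, h2⟩ := data_of_isEquidimAt f hf
  have hZ := irreducibleComponent_mem_irreducibleComponents x
  let ξ := hZ.1.genericPoint
  have hξ : ∀ z : X, z ⤳ ξ → z = ξ := mem_component_isMax hZ
  have hξx : ξ ⤳ x := specializes_iff_mem_closure.2 ((component_eq_closure hZ).symm ▸ mem_irreducibleComponent)
  have hξU : ξ ∈ U := hξx.mem_open U.isOpen hxU
  let W : TopologicalSpace.Closeds X := ⟨_, isClosed_irreducibleComponent (x := x)⟩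
  have hW : (W : Set X) = closure {ξ} := (component_eq_closure hZ).symm
  obtain ⟨hirr, hg, hr⟩ := component_subscheme ξ W hW
  obtain ⟨w, hw, hequi⟩ := isEquidimAt_vanishingIdeal f x ξ W hW e hξx
    (hcomp ξ hξU hξ).1 (h1 ξ hξU fun z hz _ => hξ z hz) (h2 x hxU).le
  let ι := (Scheme.IdealSheafData.vanishingIdeal W).subschemeι
  obtain ⟨e', U', hwU', -, -, h2'⟩ := data_of_isEquidimAt (ι ≫ f) hequi
  obtain ⟨T, i, hi, hT1, hT2, ⟨wT, hwT⟩, h3, h4, h5, h6⟩ := exists_quasiFinite_section (ι ≫ f) w
    (fun w' hfw hsp => ι.isEmbedding.injective ((hcl _ (hfw.trans (congrArg f.base hw)) (hw ▸ hsp.map ι.continuous)).trans hw.symm))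
    (fun t ht _ _ => by rw [h2' w hwU', h2' t (ht.mem_open U'.isOpen hwU')])
  refine ⟨T, i ≫ ι, inferInstance, hT1, hT2, ⟨wT, (congrArg ι.base hwT).trans hw⟩, ?_, ?_, ?_, ?_⟩
  · rw [Category.assoc]; exact h3
  · rw [Category.assoc]; exact h4
  · rw [Category.assoc]; exact h5
  · rw [Category.assoc]
    refine isDominant_of_mem _ ?_
    rw [← Groth.Agent.FlatDim.eq_genericPoint (hcomp ξ hξU hξ).1]
    rw [Scheme.Hom.comp_apply, hg] at h6
    exact h6

end Groth.Agent.S4944
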