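import Groth.Statements.S4945
import Groth.Agent.S4938
import Groth.Agent.S4944
import Groth.Agent.Chevalley.Equiv
import Groth.Agent.AlgSpDesc.LqfFibre
import Mathlib

set_option autoImplicit false
open CategoryTheory AlgebraicGeometry
universe u v w
open EGA43

set_option backward.isDefEq.respectTransparency.types false
set_option linter.style.haveILetI false
namespace Groth.Agent.S4945

open Groth.Agent Groth.Agent.DimTheory Groth.Agent.EquidimChart TopologicalSpace

theorem component_data {X Y : Scheme.{u}} [IrreducibleSpace Y] (f : X ⟶ Y) [LocallyOfFiniteType f] {x : X} {Z : Set X}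
    (hZ : Z ∈ irreducibleComponents (X : Type u)) (hx : x ∈ Z) (hd : closure (f.base '' Z) = Set.univ)
    (heq : FlatMor.localDim ↥(Z ∩ f.base ⁻¹' {f x}) ⟨x, ⟨hx, rfl⟩⟩ =
      topologicalKrullDim ↥(Z ∩ f.base ⁻¹' {genericPoint Y})) :
    ∃ (ξ : X) (e : ℕ) (W : Closeds X) (w : ↥(Scheme.IdealSheafData.vanishingIdeal W).subscheme),
      ξ ⤳ x ∧ (∀ z, z ⤳ ξ → z = ξ) ∧ f ξ = genericPoint Y ∧ mapTrdeg f ξ = e ∧
      (W : Set X) = closure {ξ} ∧ (Scheme.IdealSheafData.vanishingIdeal W).subschemeι w = x ∧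
      FlatMor.fibreDimAt ((Scheme.IdealSheafData.vanishingIdeal W).subschemeι ≫ f) w = (e : WithBot ℕ∞) := by
  obtain ⟨ξ, hξZ⟩ := Chevalley.exists_generic hZ
  subst hξZ
  let W : Closeds X := ⟨closure {ξ}, isClosed_closure⟩
  obtain ⟨hirr, hg, hr⟩ := component_subscheme ξ W rfl
  have hξ : ∀ z, z ⤳ ξ → z = ξ := fun z hz => isMax_of_closure_mem_components hZ hz
  have hfξ : f ξ = genericPoint Y := by
    refine FlatDim.eq_genericPoint fun v hv => (hv.antisymm (specializes_iff_mem_closure.2 ?_)).eq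
    have h2 : closure (f.base '' closure {ξ}) ⊆ closure {f ξ} :=
      closure_minimal ((image_closure_subset_closure_image f.continuous).trans
        (by rw [Set.image_singleton])) isClosed_closure
    exact h2 (hd.symm ▸ Set.mem_univ v)
  obtain ⟨e, he, -⟩ := height_asFiber f ξ
  obtain ⟨w, hw⟩ : x ∈ Set.range (Scheme.IdealSheafData.vanishingIdeal W).subschemeι := by rw [hr]; exact hx
  refine ⟨ξ, e, W, w, specializes_iff_mem_closure.2 hx, hξ, hfξ, he, rfl, hw, ?_⟩
  rw [← localDim_inter f W w hw (rfl : f x = f x) ⟨hx, rfl⟩]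
  refine heq.trans ?_
  rw [show closure ({ξ} : Set X) = (W : Set X) from rfl, dim_inter f W]
  refine dim_fiber_generic _ ?_ ?_
  · rw [Scheme.Hom.comp_apply, hg, hfξ]
  · rw [mapTrdeg_component f W, hg, he]


/-- Let Y be an irreducible locally Noetherian scheme with generic point η, f : X ⟶ Y a morphism locally
of finite type and y a geometrically unibranch point of Y. The following are equivalent: a) f is
universally open at every point of X_y; b) f is open at every point of X_y; c) for every maximal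
point z of X_y there is an irreducible component Z of X containing z and dominating Y with dim_z(Z ∩
X_y) = dim(Z ∩ X_η); d) for every point x closed in X_y there are an irreducible reduced scheme T
and an immersion T ⟶ X with image containing x such that T ⟶ Y is quasi-finite and dominant. -/
theorem result {X Y : Scheme.{u}} [IrreducibleSpace Y]
    [IsLocallyNoetherian Y] (f : X ⟶ Y) [LocallyOfFiniteType f] (y : Y) (hy : CAlg2.IsGeomUnibranch (Y.presheaf.stalk y)) :
    List.TFAE [∀ x : X, f.base x = y → EGA43.IsUnivOpenAt f x,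
      ∀ x : X, f.base x = y → EGA43.IsOpenAt f.base x,
      ∀ z : X, ∀ hzy : f.base z = y, (∀ z' : X, f.base z' = y → z ∈ closure {z'} → z' = z) →
        ∃ Z ∈ irreducibleComponents (X : Type u), ∃ hz : z ∈ Z, Dense (f.base '' Z) ∧
          FlatMor.localDim ↥(Z ∩ f.base ⁻¹' {y}) ⟨z, ⟨hz, hzy⟩⟩ = topologicalKrullDim ↥(Z ∩ f.base ⁻¹' {genericPoint Y}),
      ∀ x : X, f.base x = y → (∀ x' : X, f.base x' = y → x ⤳ x' → x' = x) →
        ∃ (T : Scheme.{u}) (i : T ⟶ X), IsImmersion i ∧ IrreducibleSpace ↥T ∧ IsReduced T ∧ x ∈ Set.range i.base ∧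
        LocallyOfFiniteType (i ≫ f) ∧ LocallyQuasiFinite (i ≫ f) ∧ QuasiCompact (i ≫ f) ∧ IsDominant (i ≫ f)] := by
  have hc : closure ({genericPoint Y} : Set Y) = Set.univ := genericPoint_spec Y
  have huniv : (Set.univ : Set Y) ∈ irreducibleComponents (Y : Type u) := by
    rw [irreducibleComponents_eq_singleton]; rfl
  tfae_have 1 → 2 := fun h x hx => Chevalley.isOpenAt_of_isUnivOpenAt f (h x hx)
  tfae_have 2 → 3 := fun h z hzy _ => by
    have h31 := (S4938.result f y hy).out 3 1
    obtain ⟨Z, hZ, hz, hd, hdim⟩ := h31.mp h z hzy Set.univ huniv (Set.mem_univ y)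
    subst hzy
    exact ⟨Z, hZ, hz, dense_iff_closure_eq.2 hd, hdim _ hc⟩
  tfae_have 3 → 1 := fun h => by
    have h20 := (S4938.result f y hy).out 2 0
    refine h20.mp fun U Y₀ hY₀ _ η hη => ?_
    obtain rfl : Y₀ = Set.univ := by
      rw [irreducibleComponents_eq_singleton] at hY₀
      exact hY₀
    obtain rfl : η = genericPoint Y :=
      IsGenericPoint.eq (hη : IsGenericPoint η (Set.univ : Set Y)) (genericPoint_spec Y)
    refine Chevalley.dim_inter_le f y U fun m hmU hfm hm n hn => ?_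
    obtain ⟨Z, hZ, hmZ, hd, hdim⟩ := h m hfm fun z' hz' hmz' =>
      hm z' (specializes_iff_mem_closure.2 hmz') (hz'.trans hfm.symm)
    subst hfm
    obtain ⟨ξ, e, W, w, hξm, hξ, hfξ, he, hW, hw, hfd⟩ :=
      component_data f hZ hmZ (dense_iff_closure_eq.1 hd) hdim
    have hwmax : FlatEquidim.IsFibreMax ((Scheme.IdealSheafData.vanishingIdeal W).subschemeι ≫ f) w :=
      fun v hv hfv => (Scheme.IdealSheafData.vanishingIdeal W).subschemeι.isEmbedding.injective
        ((hm _ (hw ▸ hv.map (Scheme.IdealSheafData.vanishingIdeal W).subschemeι.continuous)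
          (hfv.trans (congrArg f hw))).trans hw.symm)
    rw [fibreDimAt_of_fibreMax _ hwmax (m := n) (by rw [mapTrdeg_component, hw, hn])] at hfd
    rw [hfd, ← hfξ]
    exact Chevalley.le_dim_inter_self f (fun z hz _ => hξ z hz) he U (hξm.mem_open U.2 hmU)
  tfae_have 2 → 4 := fun h x hxy hmax => by
    have h31 := (S4938.result f y hy).out 3 1
    obtain ⟨Z, hZ, hx, hd, hdim⟩ := h31.mp h x hxy Set.univ huniv (Set.mem_univ y)
    subst hxy
    obtain ⟨ξ, e, W, w, hξx, hξ, hfξ, he, hW, hw, hfd⟩ := component_data f hZ hx hd (hdim _ hc)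
    obtain ⟨hirr, hg⟩ := genericPoint_component W hW
    let ι := (Scheme.IdealSheafData.vanishingIdeal W).subschemeι
    have hequi : EGA43.IsEquidimAt (ι ≫ f) w := by
      refine isEquidimAt_of_bound _ w e ?_ ?_ hfd.le
      · rw [Scheme.Hom.comp_apply, hg, hfξ]
        exact fun v hv => (hv.antisymm ((genericPoint_spec Y).specializes (Set.mem_univ v))).eq
      · rw [mapTrdeg_component, hg, he]
    obtain ⟨T, i, hi, h1, h2, ⟨t, ht⟩, h3, h4, h5, h6⟩ := S4944.result (ι ≫ f) w hequi
      (fun w' hfw hsp => ι.isEmbedding.injective ((hmax _ (hfw.trans (congrArg f.base hw))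
        (hw ▸ hsp.map ι.continuous)).trans hw.symm))
    exact ⟨T, i ≫ ι, inferInstance, h1, h2, ⟨t, (congrArg ι.base ht).trans hw⟩,
      (Category.assoc i ι f).symm ▸ h3, (Category.assoc i ι f).symm ▸ h4,
      (Category.assoc i ι f).symm ▸ h5, (Category.assoc i ι f).symm ▸ h6⟩
  tfae_have 4 → 2 := fun h x hx U hU => by
    subst hx
    obtain ⟨V, hVU, hV, hxV⟩ := mem_nhds_iff.1 hU
    haveI : LocallyOfFiniteType (f.fiberToSpecResidueField (f x)) := MorphismProperty.pullback_snd _ _ ‹_›
    haveI : JacobsonSpace ↥(f.fiber (f x)) :=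
      LocallyOfFiniteType.jacobsonSpace (f.fiberToSpecResidueField (f x))
    obtain ⟨x₀, hx₀V, hx₀⟩ := nonempty_inter_closedPoints (X := ↥(f.fiber (f x)))
      (Z := (f.fiberι (f x)).base ⁻¹' V) ⟨f.asFiber x, by show f.fiberι (f x) (f.asFiber x) ∈ V; rwa [f.fiberι_asFiber]⟩
      (hV.preimage (f.fiberι (f x)).continuous).isLocallyClosed
    have hfx₀ := FlatEquidim.fiberι_apply_eq f (f x) x₀
    obtain ⟨T, i, hi, h1, h2, ⟨t, ht⟩, h3, h4, h5, h6⟩ := h _ hfx₀ fun x' hfx' hsp => by
      obtain ⟨v, rfl⟩ : x' ∈ Set.range (f.fiberι (f x)) := by rw [f.range_fiberι]; exact hfx'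
      have h7 : v ∈ closure ({x₀} : Set ↥(f.fiber (f x))) := specializes_iff_mem_closure.1
        ((f.fiberι (f x)).isEmbedding.isInducing.specializes_iff.1 hsp)
      rw [(show IsClosed {x₀} from hx₀).closure_eq] at h7
      exact congrArg _ h7
    have hη : (i ≫ f) (genericPoint T) = genericPoint Y := apply_genericPoint_of_dominant (i ≫ f)
    have hft : (i ≫ f) t = f x := by rw [Scheme.Hom.comp_apply]; exact (congrArg f ht).trans hfx₀
    have hopen : EGA43.IsUnivOpenAt (i ≫ f) t := by
      refine Chevalley.isUnivOpenAt_of_generic _ t _ (genericPoint_specializes t) ?_ ?_ 0 ?_ ?_ (hft.symm ▸ hy)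
      · rw [hη]
        exact fun v hv => (hv.antisymm ((genericPoint_spec Y).specializes (Set.mem_univ v))).eq
      · rw [hη, hc]; exact Filter.univ_mem
      · refine mapTrdeg_eq_zero_of_closed _ fun v h1 h2 => ?_
        haveI := ((i ≫ f).isDiscrete_preimage_singleton ((i ≫ f) (genericPoint T))).to_subtype
        exact congrArg Subtype.val (Specializes.eq (x := (⟨_, rfl⟩ : ↥((i ≫ f) ⁻¹' {(i ≫ f) (genericPoint T)})))
          (y := ⟨v, h1⟩) ((subtype_specializes_iff _ _).2 h2)).symm
      · rw [(AlgSpDesc.quasiFiniteAt_iff_fibreDimAt (i ≫ f) t).1 ((i ≫ f).quasiFiniteAt t)]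
        rfl
    have h8 := Chevalley.isOpenAt_of_isUnivOpenAt f
      (Chevalley.isUnivOpenAt_of_closed i i.isEmbedding.injective f t hopen)
    have h9 := h8 U (Filter.mem_of_superset (hV.mem_nhds (show i t ∈ V from ht ▸ hx₀V)) hVU)
    have h10 : f.base (i.base t) = f x := (congrArg f.base ht).trans hfx₀
    rwa [h10] at h9
  tfae_finish

end Groth.Agent.S4945
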