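import Groth.Statements.S4946
import Groth.Agent.EquidimChart.Section
import Mathlib

set_option autoImplicit false
open CategoryTheory AlgebraicGeometry
universe u v w
open EGA43

namespace Groth.Agent.S4946

open Groth.Agent.EquidimChart Groth.Agent.DimTheory
set_option backward.isDefEq.respectTransparency.types false
set_option linter.style.haveILetI false


/-- Let Y be an irreducible locally Noetherian scheme which is regular of dimension 1 (all local rings
regular of dimension at most 1), f : X ⟶ Y a morphism locally of finite type and y a point of Y.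
Then the following are equivalent: d) every irreducible component of X meeting the fibre X_y
dominates Y; e) for every point x closed in X_y and every irreducible component X_i of X containing
x, there are an irreducible reduced scheme T and an immersion T ⟶ X with image containing x and
contained in X_i, such that T ⟶ Y is quasi-finite and dominant. -/
theorem result {X Y : Scheme.{u}} [IrreducibleSpace Y]
    [IsLocallyNoetherian Y] (hY : ∀ y : Y, IsRegularLocalRing (Y.presheaf.stalk y) ∧ ringKrullDim (Y.presheaf.stalk y) ≤ 1)
    (f : X ⟶ Y) [LocallyOfFiniteType f] (y : Y) :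
    (∀ Z ∈ irreducibleComponents (X : Type u), (Z ∩ f.base ⁻¹' {y}).Nonempty → Dense (f.base '' Z)) ↔
      ∀ x : X, f.base x = y → (∀ x' : X, f.base x' = y → x ⤳ x' → x' = x) →
        ∀ Xi ∈ irreducibleComponents (X : Type u), x ∈ Xi →
          ∃ (T : Scheme.{u}) (i : T ⟶ X), IsImmersion i ∧ IrreducibleSpace ↥T ∧ IsReduced T ∧ x ∈ Set.range i.base ∧
            Set.range i.base ⊆ Xi ∧
            LocallyOfFiniteType (i ≫ f) ∧ LocallyQuasiFinite (i ≫ f) ∧ QuasiCompact (i ≫ f) ∧ IsDominant (i ≫ f) := by
  constructor
  · intro h x hxy hcl Xi hXi hxXi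
    let ξ := hXi.1.genericPoint
    let W : TopologicalSpace.Closeds X := ⟨Xi, isClosed_of_mem_irreducibleComponents Xi hXi⟩
    have hW : (W : Set X) = closure {ξ} := (component_eq_closure hXi).symm
    have hη : f ξ = genericPoint Y := by
      have hd := h Xi hXi ⟨x, hxXi, hxy⟩
      have h2 : genericPoint Y ∈ closure ({f ξ} : Set Y) := by
        have h3 : f.base '' Xi ⊆ closure {f ξ} := by
          rw [← component_eq_closure hXi]
          exact (image_closure_subset_closure_image f.continuous).trans (by rw [Set.image_singleton])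
        exact closure_minimal h3 isClosed_closure (hd _)
      exact ((genericPoint_specializes (f ξ)).antisymm (specializes_iff_mem_closure.2 h2)).eq.symm
    obtain ⟨hirr, hg, hr⟩ := component_subscheme ξ W hW
    let ι := (Scheme.IdealSheafData.vanishingIdeal W).subschemeι
    obtain ⟨w, hw⟩ : x ∈ Set.range ι := by rw [hr, ← hW]; exact hxXi
    obtain ⟨T, i, hi, hT1, hT2, ⟨wT, hwT⟩, h3, h4, h5, h6⟩ := exists_quasiFinite_section (ι ≫ f) w
      (fun w' hfw hsp => ι.isEmbedding.injective ((hcl _ (hfw.trans ((congrArg f.base hw).trans hxy)) (hw ▸ hsp.map ι.continuous)).trans hw.symm))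
      (fun t ht h1 h2 => by
        exfalso
        rw [Scheme.Hom.comp_apply, Scheme.Hom.comp_apply, hg, hη] at h1
        rw [Scheme.Hom.comp_apply, Scheme.Hom.comp_apply, hw, show f x = y from hxy] at h2
        have hty : f (ι t) ⤳ y := by
          have := (ht.map ι.continuous).map f.continuous
          rwa [hw, show f x = y from hxy] at this
        have lt1 : y < f (ι t) := Groth.Agent.FlatDim.lt_of_specializes_of_ne hty (Ne.symm h2)
        have lt2 : f (ι t) < genericPoint Y := Groth.Agent.FlatDim.lt_of_specializes_of_ne (genericPoint_specializes _) h1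
        have h7 := Order.length_le_coheight_head (p := (RelSeries.singleton _ y |>.snoc (f (ι t)) lt1).snoc (genericPoint Y) (by simpa using lt2))
        have h8 := (hY y).2
        rw [ringKrullDim_stalk_eq_coheight] at h8
        simp only [RelSeries.head_snoc, RelSeries.snoc_length, RelSeries.singleton_length] at h7
        have h9 : Order.coheight y ≤ 1 := by exact_mod_cast h8
        exact absurd (h7.trans h9) (by simp))
    refine ⟨T, i ≫ ι, inferInstance, hT1, hT2, ⟨wT, (congrArg ι.base hwT).trans hw⟩, ?_, ?_, ?_, ?_, ?_⟩
    · rintro _ ⟨a, rfl⟩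
      show ι (i a) ∈ (W : Set X)
      rw [hW, ← hr]
      exact ⟨_, rfl⟩
    · rw [Category.assoc]; exact h3
    · rw [Category.assoc]; exact h4
    · rw [Category.assoc]; exact h5
    · rw [Category.assoc]
      refine isDominant_of_mem _ ?_
      rw [Scheme.Hom.comp_apply, hg, hη] at h6
      exact h6
  · rintro h Z hZ ⟨z, hzZ, hzy⟩
    haveI : LocallyOfFiniteType (f.fiberToSpecResidueField y) := MorphismProperty.pullback_snd _ _ inferInstance
    haveI := LocallyOfFiniteType.jacobsonSpace (f.fiberToSpecResidueField y)
    have hne : ((f.fiberι y).base ⁻¹' Z).Nonempty := by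
      obtain ⟨a, ha⟩ : z ∈ Set.range (f.fiberι y) := by rw [f.range_fiberι]; exact hzy
      exact ⟨a, show f.fiberι y a ∈ Z from ha ▸ hzZ⟩
    obtain ⟨c, hcZ, hc⟩ := nonempty_inter_closedPoints hne
      ((isClosed_of_mem_irreducibleComponents Z hZ).preimage (f.fiberι y).continuous).isLocallyClosed
    obtain ⟨T, i, hi, hT1, hT2, hxT, hsub, h3, h4, h5, h6⟩ := h (f.fiberι y c)
      (Groth.Agent.FlatEquidim.fiberι_apply_eq f y c) (fun x' hx' hsp => by
        obtain ⟨a, rfl⟩ : x' ∈ Set.range (f.fiberι y) := by rw [f.range_fiberι]; exact hx'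
        have h2 := (f.fiberι y).isEmbedding.isInducing.specializes_iff.1 hsp
        rw [show a = c from h2.mem_closed (show IsClosed ({c} : Set _) from hc) rfl]) Z hZ hcZ
    refine Dense.mono ?_ h6.denseRange
    rintro _ ⟨a, rfl⟩
    exact ⟨i a, hsub ⟨a, rfl⟩, rfl⟩

end Groth.Agent.S4946
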