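import Groth.Statements.S4947
import Groth.Agent.CAlgReg.Basic

set_option autoImplicit false
universe u
open EGA43

namespace Groth.Agent.S4947

open IsLocalRing Polynomial Groth.Agent

/-- the residue extension along a local hom is purely transcendental -/
def PT {A B : Type u} [CommRing A] [CommRing B] [IsLocalRing A] [IsLocalRing B] (i : A →+* B) : Prop :=
  ∃ _ : IsLocalHom i, letI := (ResidueField.map i).toAlgebra
    ∃ (ι : Type u) (t : ι → ResidueField B), AlgebraicIndependent (ResidueField A) t ∧
      Subfield.closure (Set.range (ResidueField.map i) ∪ Set.range t) = ⊤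

theorem PT.of_surjective {A B : Type u} [CommRing A] [CommRing B] [IsLocalRing A] [IsLocalRing B] (i : A →+* B)
    [IsLocalHom i] (h : Function.Surjective i) : PT i := by
  letI := (ResidueField.map i).toAlgebra
  refine ⟨inferInstance, PEmpty, PEmpty.elim, algebraicIndependent_empty_type_iff.2 (algebraMap (ResidueField A) (ResidueField B)).injective, ?_⟩
  refine top_le_iff.1 fun x _ => Subfield.subset_closure (Or.inl ?_)
  obtain ⟨b, rfl⟩ := residue_surjective x
  obtain ⟨a, rfl⟩ := h b
  exact ⟨residue A a, rfl⟩

theorem PT.comp {A B C : Type u} [CommRing A] [CommRing B] [CommRing C] [IsLocalRing A] [IsLocalRing B] [IsLocalRing C]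
    {i : A →+* B} {j : B →+* C} (hi : PT i) (hj : PT j) : PT (j.comp i) := by
  obtain ⟨h1, hi⟩ := hi
  obtain ⟨h2, hj⟩ := hj
  have := RingHom.isLocalHom_comp j i
  letI := (ResidueField.map i).toAlgebra
  letI := (ResidueField.map j).toAlgebra
  letI := (ResidueField.map (j.comp i)).toAlgebra
  have : IsScalarTower (ResidueField A) (ResidueField B) (ResidueField C) :=
    IsScalarTower.of_algebraMap_eq' (ResidueField.map_comp i j)
  obtain ⟨ι, t, ht, hc⟩ := hi
  obtain ⟨κ, s, hs, hd⟩ := hj
  refine ⟨inferInstance, κ ⊕ ι, _, ht.sumElim_comp hs, top_le_iff.1 (hd.symm.le.trans (Subfield.closure_le.2 ?_))⟩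
  set M : Subfield (ResidueField C) := Subfield.closure (Set.range (ResidueField.map (j.comp i)) ∪
    Set.range (Sum.elim s (algebraMap (ResidueField B) (ResidueField C) ∘ t))) with hM
  rintro x (⟨y, rfl⟩ | ⟨k, rfl⟩)
  · have : Subfield.closure (Set.range (ResidueField.map i) ∪ Set.range t) ≤ M.comap (ResidueField.map j) := by
      refine Subfield.closure_le.2 ?_
      rintro z (⟨w, rfl⟩ | ⟨k, rfl⟩)
      · exact Subfield.subset_closure (Or.inl ⟨w, RingHom.congr_fun (ResidueField.map_comp i j) w⟩)
      · exact Subfield.subset_closure (Or.inr ⟨.inr k, rfl⟩)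
    exact this (hc ▸ Subfield.mem_top y)
  · exact Subfield.subset_closure (Or.inr ⟨.inl k, rfl⟩)

set_option backward.isDefEq.respectTransparency false in
/-- one step: lower the dimension by blowing up -/
theorem step {A : Type u} [CommRing A] [IsRegularLocalRing A] (n : ℕ) (hd : ringKrullDim A = (n + 2 : ℕ))
    (K : Type u) [Field K] [Algebra A K] [IsFractionRing A K] :
    ∃ (B : Type u) (_ : CommRing B) (_ : IsRegularLocalRing B) (i : A →+* B) (_ : Algebra B K),
      IsFractionRing B K ∧ (∀ a, algebraMap B K (i a) = algebraMap A K a) ∧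
      ringKrullDim B = (n + 1 : ℕ) ∧ PT i := by
  classical
  have : IsDomain A := CAlgReg.isDomain
  obtain ⟨x, hxm, hx2⟩ := SetLike.not_le_iff_exists.1 (CAlgReg.not_maximalIdeal_le_sq (d := n + 1) hd)
  obtain ⟨-, hreg, hdim⟩ := CAlgReg.quotient_span_singleton hxm hx2 hd
  have hd' : IsDomain (A ⧸ Ideal.span {x}) := CAlgReg.isDomain
  have hprime : (Ideal.span {x}).IsPrime := (Ideal.Quotient.isDomain_iff_prime _).1 hd'
  have hx0 : x ≠ 0 := fun h => hx2 (h ▸ zero_mem _)
  have hne : ¬ maximalIdeal A ≤ Ideal.span {x} ⊔ maximalIdeal A ^ 2 := fun hle => by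
    have hle' := Submodule.le_of_le_smul_of_le_jacobson_bot (maximalIdeal A).fg_of_isNoetherianRing
      (maximalIdeal_le_jacobson _) (show maximalIdeal A ≤ Ideal.span {x} ⊔ maximalIdeal A • maximalIdeal A by
        rwa [smul_eq_mul, ← pow_two])
    have := CAlgReg.card_ge_of_span_eq hd (Set.finite_singleton x)
      (le_antisymm ((Ideal.span_singleton_le_iff_mem _).2 hxm) hle')
    rw [Set.ncard_singleton] at this
    omega
  obtain ⟨y, hym, hy2⟩ := SetLike.not_le_iff_exists.1 hne
  have hyx : y ∉ Ideal.span {x} := fun h => hy2 (Ideal.mem_sup_left h)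
  let φ : A[X] →+* K := eval₂RingHom (algebraMap A K) (algebraMap A K y / algebraMap A K x)
  let f : A[X] := Polynomial.C x * X - Polynomial.C y
  have hxK : algebraMap A K x ≠ 0 := (map_ne_zero_iff _ (IsFractionRing.injective A K)).2 hx0
  have hφf : φ f = 0 := by
    simp only [φ, f, map_sub, map_mul, coe_eval₂RingHom, eval₂_C, eval₂_X]
    rw [mul_div_cancel₀ _ hxK, sub_self]
  have hker : ∀ (m : ℕ) (p : A[X]), p.natDegree ≤ m → φ p = 0 → f ∣ p := by
    intro m
    induction m with
    | zero =>
      intro p hp h0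
      rw [eq_C_of_natDegree_le_zero hp] at h0 ⊢
      simp only [φ, coe_eval₂RingHom, eval₂_C, map_eq_zero_iff _ (IsFractionRing.injective A K)] at h0
      simp [h0]
    | succ m ih =>
      intro p hp h0
      have hN : ∃ z, y ^ (m + 1) * p.coeff (m + 1) = x * z := by
        have e : φ p = ∑ i ∈ Finset.range (m + 2), algebraMap A K (p.coeff i) *
            (algebraMap A K y / algebraMap A K x) ^ i := eval₂_eq_sum_range' _ (by omega) _
        rw [h0] at e
        refine ⟨-∑ i ∈ Finset.range (m + 1), p.coeff i * y ^ i * x ^ (m - i),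
          IsFractionRing.injective A K ?_⟩
        have h2 : ∀ i ∈ Finset.range (m + 2), algebraMap A K (p.coeff i) *
            (algebraMap A K y / algebraMap A K x) ^ i * algebraMap A K x ^ (m + 1) =
            algebraMap A K (p.coeff i * y ^ i * x ^ (m + 1 - i)) := fun i hi => by
          rw [Finset.mem_range] at hi
          rw [map_mul, map_mul, map_pow, map_pow, div_pow]
          nth_rw 1 [show m + 1 = i + (m + 1 - i) by omega]
          rw [pow_add]
          field_simp
        have e2 := congrArg (fun z => z * algebraMap A K x ^ (m + 1)) e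
        simp only [zero_mul, Finset.sum_mul, Finset.sum_congr rfl h2, ← map_sum] at e2
        have e3 := IsFractionRing.injective A K (e2.symm.trans (map_zero _).symm)
        rw [Finset.sum_range_succ, Nat.sub_self, pow_zero, mul_one] at e3
        congr 1
        rw [mul_neg, Finset.mul_sum, eq_neg_iff_add_eq_zero, mul_comm (y ^ (m + 1)), add_comm]
        refine (congrArg (· + _) (Finset.sum_congr rfl fun i hi => ?_)).trans e3
        rw [Finset.mem_range] at hi
        rw [show m + 1 - i = (m - i) + 1 by omega, pow_succ]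
        ring
      obtain ⟨z, hz⟩ := hN
      obtain ⟨c, hc⟩ : x ∣ p.coeff (m + 1) := Ideal.mem_span_singleton.1
        ((hprime.mem_or_mem (Ideal.mem_span_singleton.2 ⟨z, hz⟩)).resolve_left fun h => hyx (hprime.mem_of_pow_mem _ h))
      have hdeg : (p - Polynomial.C c * X ^ m * f).natDegree ≤ m := by
        refine natDegree_le_iff_coeff_eq_zero.2 fun k hk => ?_
        have e : Polynomial.C c * X ^ m * f = Polynomial.C (x * c) * X ^ (m + 1) - Polynomial.C (y * c) * X ^ m := by
          simp only [f, map_mul, pow_succ]; ring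
        rw [e]
        simp only [coeff_sub, coeff_C_mul, coeff_X_pow]
        by_cases hk1 : k = m + 1
        · subst hk1; simp [hc]
        · rw [if_neg hk1, if_neg (by omega : k ≠ m), coeff_eq_zero_of_natDegree_lt (by omega)]; simp
      have := ih _ hdeg (by rw [map_sub, map_mul, h0, hφf, mul_zero, sub_zero])
      exact (dvd_sub_left (Dvd.intro_left _ rfl)).1 this
  let P : Ideal A[X] := (maximalIdeal A).map Polynomial.C
  have : P.IsPrime := Ideal.isPrime_map_C_of_isPrime (P := maximalIdeal A)
  have hPmem : ∀ p : A[X], p ∈ P ↔ ∀ k, p.coeff k ∈ maximalIdeal A := fun p => Ideal.mem_map_C_iff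
  have hcomap : P.comap Polynomial.C = maximalIdeal A := Ideal.ext fun a => by
    rw [Ideal.mem_comap, hPmem]
    refine ⟨fun h => by simpa using h 0, fun h k => ?_⟩
    rw [coeff_C]; split <;> simp [h]
  have := Polynomial.isRegularLocalRing_localization_atPrime_of_comap_eq_maximalIdeal A P hcomap
  have hR : ringKrullDim (Localization.AtPrime P) = (n + 2 : ℕ) := by
    rw [← maximalIdeal_height_eq_ringKrullDim, ← IsLocalization.height_under P.primeCompl,
      IsLocalization.AtPrime.under_maximalIdeal _ P, Polynomial.height_map_C, maximalIdeal_height_eq_ringKrullDim, hd]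
  have hfP : f ∈ P := (hPmem f).2 fun k => by
    simp only [f, coeff_sub, coeff_C_mul, coeff_C]
    refine sub_mem (Ideal.mul_mem_right _ _ hxm) ?_
    split <;> simp [hym]
  have hφu : ∀ u : P.primeCompl, IsUnit (φ u) := fun u => isUnit_iff_ne_zero.2 fun h0 =>
    u.2 (P.mem_of_dvd (hker _ u.1 le_rfl h0) hfP)
  let g := algebraMap A[X] (Localization.AtPrime P) f
  let ψ : Localization.AtPrime P →+* K := IsLocalization.lift hφu
  have hψg : ψ g = 0 := by rw [IsLocalization.lift_eq]; exact hφf
  have hkerψ : ∀ r, ψ r = 0 → r ∈ Ideal.span {g} := fun r hr => by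
    obtain ⟨⟨p, u⟩, rfl⟩ := IsLocalization.mk'_surjective P.primeCompl r
    rw [IsLocalization.lift_mk'_spec, mul_zero] at hr
    obtain ⟨q, rfl⟩ := hker _ p le_rfl hr
    simp only
    rw [← IsLocalization.mul_mk'_eq_mk'_of_mul]
    exact Ideal.mul_mem_right _ _ (Ideal.mem_span_singleton_self _)
  have hgm : g ∈ maximalIdeal (Localization.AtPrime P) :=
    (IsLocalization.AtPrime.to_map_mem_maximal_iff _ P f).2 hfP
  have hg2 : g ∉ maximalIdeal (Localization.AtPrime P) ^ 2 := fun hmem => by
    rw [← Localization.AtPrime.map_eq_maximalIdeal, ← Ideal.map_pow,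
      IsLocalization.algebraMap_mem_map_algebraMap_iff P.primeCompl] at hmem
    obtain ⟨s, hs, hsf⟩ := hmem
    have hsf2 : ∀ k, (s * f).coeff k ∈ maximalIdeal A ^ 2 := Ideal.mem_map_C_iff.1 (by
      rwa [Ideal.map_pow])
    have hQ : ∀ k, (s * f).coeff k ∈ Ideal.span {x} ⊔ maximalIdeal A ^ 2 := fun k => Ideal.mem_sup_right (hsf2 k)
    -- the top coefficient of `s` which is a unit gives `y ∈ (x) + m²`
    have : ∀ k, y * s.coeff k ∈ Ideal.span {x} ⊔ maximalIdeal A ^ 2 := fun k => by
      have e : (s * f).coeff k = x * (s * X).coeff k - y * s.coeff k := by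
        simp only [f, mul_sub, coeff_sub, ← mul_assoc, coeff_mul_C]
        rw [mul_comm s (Polynomial.C x), mul_assoc, coeff_C_mul]; ring
      rw [show y * s.coeff k = x * (s * X).coeff k - (s * f).coeff k by rw [e]; ring]
      exact sub_mem (Ideal.mem_sup_left (Ideal.mul_mem_right _ _ (Ideal.mem_span_singleton_self _))) (hQ k)
    obtain ⟨k, hk⟩ : ∃ k, s.coeff k ∉ maximalIdeal A := by
      by_contra! h
      exact hs ((hPmem s).2 h)
    have hu : IsUnit (s.coeff k) := by simpa using hk
    exact hy2 ((Ideal.mul_unit_mem_iff_mem _ hu).1 (this k))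
  obtain ⟨-, hreg', hdim'⟩ := CAlgReg.quotient_span_singleton hgm hg2 hR
  let j : Localization.AtPrime P ⧸ Ideal.span {g} →+* K := Ideal.Quotient.lift _ ψ
    (fun a ha => by obtain ⟨c, rfl⟩ := Ideal.mem_span_singleton.1 ha; rw [map_mul, hψg, zero_mul])
  have hj : Function.Injective j := (RingHom.injective_iff_ker_eq_bot _).2 <| bot_unique fun r hr => by
    obtain ⟨r, rfl⟩ := Ideal.Quotient.mk_surjective r
    exact Ideal.Quotient.eq_zero_iff_mem.2 (hkerψ r hr)
  let i : A →+* Localization.AtPrime P ⧸ Ideal.span {g} :=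
    (Ideal.Quotient.mk _).comp ((algebraMap A[X] _).comp Polynomial.C)
  have hcompat : ∀ a, j (i a) = algebraMap A K a := fun a => by
    simp only [i, j, RingHom.comp_apply, Ideal.Quotient.lift_mk, ψ, IsLocalization.lift_eq]
    exact eval₂_C _ _
  refine ⟨_, inferInstance, hreg', i, RingHom.toAlgebra (R := Localization.AtPrime P ⧸ Ideal.span {g}) j, ?_, hcompat, by rw [hdim']; norm_cast, ?_⟩
  · letI := RingHom.toAlgebra (R := Localization.AtPrime P ⧸ Ideal.span {g}) j
    have : FaithfulSMul (Localization.AtPrime P ⧸ Ideal.span {g}) K :=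
      (faithfulSMul_iff_algebraMap_injective _ _).2 hj
    refine IsFractionRing.of_field _ K fun z => ?_
    obtain ⟨a, b, -, rfl⟩ := IsFractionRing.div_surjective A z
    exact ⟨i a, i b, by rw [RingHom.algebraMap_toAlgebra, hcompat, hcompat]⟩
  let q : A[X] →+* ResidueField (Localization.AtPrime P ⧸ Ideal.span {g}) :=
    (residue _).comp ((Ideal.Quotient.mk _).comp (algebraMap _ _))
  have hq : ∀ p, q p = 0 ↔ p ∈ P := fun p => by
    simp only [q, RingHom.comp_apply, residue_eq_zero_iff]
    rw [mem_maximalIdeal, mem_nonunits_iff, ← IsLocalization.AtPrime.to_map_mem_maximal_iff (Localization.AtPrime P) P p,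
      mem_maximalIdeal, mem_nonunits_iff]
    have : IsLocalHom (Ideal.Quotient.mk (Ideal.span {g})) := IsLocalHom.of_surjective _ Ideal.Quotient.mk_surjective
    rw [isUnit_map_iff (Ideal.Quotient.mk (Ideal.span {g}))]
  have hloc : IsLocalHom i := ⟨fun a ha => by
    by_contra hu
    have h1 : q (Polynomial.C a) = 0 := (hq _).2 (Ideal.mem_map_of_mem _ ((mem_maximalIdeal _).2 hu))
    exact (residue_ne_zero_iff_isUnit _).2 ha h1⟩
  refine ⟨hloc, ?_⟩
  letI := (ResidueField.map (S := Localization.AtPrime P ⧸ Ideal.span {g}) i).toAlgebra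
  have hval : ∀ p : A[X], aeval (q X) (p.map (residue A)) = q p := by
    intro p
    induction p using Polynomial.induction_on' with
    | add a b ha hb => simp [ha, hb]
    | monomial k a =>
      rw [← C_mul_X_pow_eq_monomial, Polynomial.map_mul, map_C, Polynomial.map_pow, map_X, map_mul, map_pow,
        aeval_C, aeval_X, map_mul, map_pow]
      rfl
  refine ⟨PUnit, fun _ => q X, algebraicIndependent_unique_type_iff.2 (transcendental_iff.2 fun p hp => ?_),
    top_le_iff.1 fun z _ => ?_⟩
  · obtain ⟨p, rfl⟩ := Polynomial.map_surjective (residue A) residue_surjective p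
    rw [hval, hq, hPmem] at hp
    exact Polynomial.ext fun k => by simpa [coeff_map, residue_eq_zero_iff] using hp k
  · set M := Subfield.closure (Set.range (ResidueField.map (S := Localization.AtPrime P ⧸ Ideal.span {g}) i) ∪ Set.range (fun _ : PUnit.{u+1} => q X)) with hMdef
    have hM : ∀ p, q p ∈ M := fun p => by
      rw [← hval, aeval_eq_sum_range]
      refine sum_mem fun k _ => ?_
      rw [Algebra.smul_def]
      exact mul_mem (Subfield.subset_closure (Or.inl ⟨_, rfl⟩))
        (pow_mem (show q X ∈ M from Subfield.subset_closure (Or.inr ⟨PUnit.unit, rfl⟩)) _)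
    obtain ⟨z, rfl⟩ := residue_surjective z
    obtain ⟨z, rfl⟩ := Ideal.Quotient.mk_surjective z
    obtain ⟨⟨p, u⟩, rfl⟩ := IsLocalization.mk'_surjective P.primeCompl z
    have hu : q u ≠ 0 := fun h => u.2 ((hq _).1 h)
    rw [show residue _ (Ideal.Quotient.mk (Ideal.span {g}) (IsLocalization.mk' _ p u)) = q p / q u by
      rw [eq_div_iff hu]
      simp only [q, RingHom.comp_apply, ← map_mul, IsLocalization.mk'_spec]]
    exact div_mem (hM p) (hM u)

theorem aux : ∀ (n : ℕ) (A : Type u) [CommRing A] [IsRegularLocalRing A], ringKrullDim A = (n + 1 : ℕ) →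
    ∀ (K : Type u) [Field K] [Algebra A K] [IsFractionRing A K],
    ∃ (B : Type u) (_ : CommRing B) (_ : IsDomain B) (_ : IsDiscreteValuationRing B) (i : A →+* B)
      (_ : Algebra B K), IsFractionRing B K ∧ (∀ a, algebraMap B K (i a) = algebraMap A K a) ∧ PT i := by
  intro n
  induction n with
  | zero =>
    intro A _ _ hd K _ _ _
    have : IsDomain A := CAlgReg.isDomain
    have hr := CAlgReg.spanFinrank_eq_of_dim hd
    have hnf : ¬ IsField A := fun h => by
      rw [ringKrullDim_eq_zero_of_isField h] at hd; norm_num at hd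
    have hp := (IsRegularLocalRing.iff_finrank_cotangentSpace (R := A)).1 inferInstance
    rw [hd] at hp
    have : IsDiscreteValuationRing A := ((IsDiscreteValuationRing.TFAE A hnf).out 0 5).2 (by
      have := Nat.cast_injective (R := WithBot ℕ∞) hp; omega)
    have : IsLocalHom (RingHom.id A) := ⟨fun _ h => h⟩
    exact ⟨A, inferInstance, inferInstance, inferInstance, RingHom.id A, inferInstance, inferInstance,
      fun _ => rfl, PT.of_surjective _ fun a => ⟨a, rfl⟩⟩
  | succ n ih =>
    intro A _ _ hd K _ _ _
    obtain ⟨B, _, _, i, _, _, hc, hdim, hPT⟩ := step n hd K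
    obtain ⟨C, _, _, _, i', _, hF, hc', hPT'⟩ := ih B hdim K
    exact ⟨C, inferInstance, inferInstance, inferInstance, i'.comp i, inferInstance, hF,
      fun a => by rw [RingHom.comp_apply, hc', hc], hPT.comp hPT'⟩


/-- Let A be a regular local ring which is not a field, K its fraction field and k its residue field.
Then there is a discrete valuation ring V between A and K, with fraction field K, dominating A,
whose residue field is a purely transcendental extension of k: for some ring map from k compatible
with A → V there is an algebraically independent family generating the residue field of V as a field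
over k. -/
theorem result (A : Type u) [CommRing A] [IsRegularLocalRing A]
    (hA : ¬ IsField A) :
    ∃ (V : Subalgebra A (FractionRing A)) (_ : IsDomain V) (_ : IsDiscreteValuationRing V), IsFractionRing V (FractionRing A) ∧
      (IsLocalRing.maximalIdeal V).comap (algebraMap A V) = IsLocalRing.maximalIdeal A ∧
      ∃ (φ : IsLocalRing.ResidueField A →+* IsLocalRing.ResidueField V),
        φ.comp (IsLocalRing.residue A) = (IsLocalRing.residue V).comp (algebraMap A V) ∧
        letI := φ.toAlgebra
        ∃ (ι : Type u) (t : ι → IsLocalRing.ResidueField V), AlgebraicIndependent (IsLocalRing.ResidueField A) t ∧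
          IntermediateField.adjoin (IsLocalRing.ResidueField A) (Set.range t) = ⊤ := by
  classical
  have : IsDomain A := CAlgReg.isDomain
  obtain ⟨d, hd⟩ := CAlgReg.exists_dim (R := A)
  obtain ⟨n, rfl⟩ : ∃ n, d = n + 1 := by
    rcases d with _ | n
    · exact absurd (isField_iff_maximalIdeal_eq.2 ((Submodule.spanFinrank_eq_zero_iff_eq_bot
        (maximalIdeal A).fg_of_isNoetherianRing).1 (CAlgReg.spanFinrank_eq_of_dim hd))) hA
    · exact ⟨n, rfl⟩
  obtain ⟨B, _, _, _, i, _, hF, hc, hPT⟩ := aux n A hd (FractionRing A)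
  letI := i.toAlgebra
  let j : B →ₐ[A] FractionRing A := { algebraMap B (FractionRing A) with commutes' := hc }
  let e : B ≃+* j.range := (AlgEquiv.ofInjective j (IsFractionRing.injective B (FractionRing A))).toRingEquiv
  have : IsDiscreteValuationRing j.range := IsDiscreteValuationRing.RingEquivClass.isDiscreteValuationRing e
  have he : IsLocalHom (e : B →+* j.range) := ⟨fun a h => by simpa using h.map e.symm⟩
  have hT : PT ((e : B →+* j.range).comp i) := hPT.comp (PT.of_surjective _ e.surjective)
  have hi : (e : B →+* j.range).comp i = algebraMap A j.range := RingHom.ext fun a => Subtype.ext (hc a)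
  rw [hi] at hT
  obtain ⟨hloc, ι, t, ht, hcl⟩ := hT
  refine ⟨j.range, inferInstance, inferInstance, ?_, ?_, ResidueField.map (algebraMap A j.range), ?_, ι, t, ?_, ?_⟩
  · refine IsFractionRing.of_field _ _ fun z => ?_
    obtain ⟨a, b, -, rfl⟩ := IsFractionRing.div_surjective B z
    exact ⟨e a, e b, rfl⟩
  · exact ((IsLocalRing.local_hom_TFAE (algebraMap A j.range)).out 0 4).1 hloc
  · exact ResidueField.map_comp_residue _
  · exact ht
  · refine top_le_iff.1 fun z _ => ?_
    have hz : z ∈ Subfield.closure (Set.range (ResidueField.map (algebraMap A j.range)) ∪ Set.range t) :=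
      hcl ▸ Subfield.mem_top z
    exact hz

end Groth.Agent.S4947
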