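import Groth.Statements.S4948
import Groth.Agent.Chevalley.DVRCrit
import Groth.Agent.EquidimChart.ChainIneq
import Groth.Agent.CAlgSerre.Normal
import Groth.Agent.FlatLocalDepth.FibreStalk
import Mathlib

set_option autoImplicit false
open CategoryTheory AlgebraicGeometry
universe u v w
open EGA43

set_option backward.isDefEq.respectTransparency.types false
set_option linter.style.haveILetI false
namespace Groth.Agent.S4948

open Groth.Agent Groth.Agent.DimTheory Groth.Agent.EquidimChart


/-- Consider a discrete valuation ring A and set Y = Spec A, whose closed point is y. Given a morphism f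
: X ⟶ Y that is locally of finite type, and a point x lying in the fibre X_y, assume two things:
first, f is open at each generic point of an irreducible component of X_y passing through x; second,
X_y is reduced at x (that is, the local ring of the fibre at x is reduced). Under these assumptions
f is flat at x. -/
theorem result {A : Type u} [CommRing A] [IsDomain A]
    [IsDiscreteValuationRing A] {X : Scheme.{u}} (f : X ⟶ Spec (CommRingCat.of A)) [LocallyOfFiniteType f] (x : X)
    (hx : f.base x = IsLocalRing.closedPoint A)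
    (h : ∀ z : ↥(f.fiber (f.base x)), f.asFiber x ∈ closure {z} →
      (∀ z' : ↥(f.fiber (f.base x)), z ∈ closure {z'} → z' = z) → EGA43.IsOpenAt f.base ((f.fiberι (f.base x)).base z))
    (hred : _root_.IsReduced ((f.fiber (f.base x)).presheaf.stalk (f.asFiber x))) :
    (f.stalkMap x).hom.Flat := by
  haveI : IsLocallyNoetherian X := LocallyOfFiniteType.isLocallyNoetherian f
  let φ := (f.stalkMap x).hom
  let B := (Spec (CommRingCat.of A)).presheaf.stalk (f x)
  let q : PrimeSpectrum A := f x
  letI : Algebra A B := (StructureSheaf.toStalk A q).hom.toAlgebra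
  haveI : IsLocalization.AtPrime B q.asIdeal := StructureSheaf.IsLocalization.to_stalk A q
  have hq : q.asIdeal = IsLocalRing.maximalIdeal A := congrArg PrimeSpectrum.asIdeal hx
  obtain ⟨π, hπ⟩ := IsDiscreteValuationRing.exists_irreducible A
  let ψ : A →+* X.presheaf.stalk x := φ.comp (algebraMap A B)
  have hI : (IsLocalRing.maximalIdeal B).map φ = Ideal.span {ψ π} := by
    rw [← IsLocalization.AtPrime.map_eq_maximalIdeal q.asIdeal B, hq, hπ.maximalIdeal_eq, Ideal.map_map,
      Ideal.map_span, Set.image_singleton]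
  -- no component through `x` lies in the special fibre
  have hmin : ∀ P ∈ minimalPrimes (X.presheaf.stalk x), ψ π ∉ P := by
    intro P hP hπP
    haveI : P.IsPrime := hP.1.1
    let Pp : Spec (X.presheaf.stalk x) := ⟨P, hP.1.1⟩
    let ξ := X.fromSpecStalk x Pp
    have hξx : ξ ⤳ x := X.range_fromSpecStalk.le ⟨Pp, rfl⟩
    have hnat : f ξ = (Spec (CommRingCat.of A)).fromSpecStalk (f x) (PrimeSpectrum.comap φ Pp) :=
      (congr($(Scheme.SpecMap_stalkMap_fromSpecStalk f (x := x)) Pp)).symm
    have hfξ : f ξ = f x := by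
      rw [hnat]
      have : PrimeSpectrum.comap φ Pp = IsLocalRing.closedPoint B := by
        refine PrimeSpectrum.ext ?_
        refine le_antisymm (IsLocalRing.le_maximalIdeal (Ideal.IsPrime.ne_top inferInstance)) ?_
        show IsLocalRing.maximalIdeal B ≤ P.comap φ
        rw [← Ideal.map_le_iff_le_comap, hI, Ideal.span_le, Set.singleton_subset_iff]
        exact hπP
      rw [this, Scheme.fromSpecStalk_closedPoint]
    have hξmax : ∀ v : X, v ⤳ ξ → v = ξ := fun v hv => by
      obtain ⟨Q, rfl⟩ : v ∈ Set.range (X.fromSpecStalk x) := by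
        rw [Scheme.range_fromSpecStalk]; exact hv.trans hξx
      have hle : (Q : PrimeSpectrum (X.presheaf.stalk x)).asIdeal ≤ P :=
        (PrimeSpectrum.le_iff_specializes Q Pp).2 ((X.fromSpecStalk x).isEmbedding.isInducing.specializes_iff.1 hv)
      exact congrArg _ (PrimeSpectrum.ext (le_antisymm hle (hP.2 ⟨Q.isPrime, bot_le⟩ hle)))
    obtain ⟨z, hz⟩ : ξ ∈ Set.range (f.fiberι (f x)) := by rw [f.range_fiberι]; exact hfξ
    have hopen := h z (specializes_iff_mem_closure.1 ((f.fiberι (f x)).isEmbedding.isInducing.specializes_iff.1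
      (by rw [hz, f.fiberι_asFiber]; exact hξx))) fun z' hz' =>
      (f.fiberι (f x)).isEmbedding.injective ((hξmax _
        (hz ▸ (specializes_iff_mem_closure.2 hz').map (f.fiberι (f x)).continuous)).trans hz.symm)
    obtain ⟨w, hw, hne⟩ := Chevalley.exists_ne_closedPoint f ξ (hz ▸ hopen) (hfξ.trans hx)
    exact hne ((congrArg f (hξmax w hw)).trans (hfξ.trans hx))
  -- the special fibre is reduced
  obtain ⟨e⟩ := FlatLocalDepth.nonempty_asFiber_stalk_equiv f x
  haveI : _root_.IsReduced ((f.fiber (f x)).presheaf.stalk (f.asFiber x)) := hred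
  haveI := isReduced_of_injective e.toRingHom e.injective
  have hnil : ∀ a : X.presheaf.stalk x, IsNilpotent a → ψ π ∣ a := by
    intro a ha
    have := Ideal.Quotient.eq_zero_iff_mem.1
      ((ha.map (Ideal.Quotient.mk ((IsLocalRing.maximalIdeal B).map φ))).eq_zero)
    rw [hI, Ideal.mem_span_singleton] at this
    exact this
  have hreg : ∀ a : X.presheaf.stalk x, ψ π * a = 0 → a = 0 := by
    intro a ha
    have key : ∀ (n : ℕ) (b : X.presheaf.stalk x), ψ π ^ (n + 1) * b = 0 → IsNilpotent b := fun n b hb => by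
      rw [← mem_nilradical, nilradical, Ideal.zero_eq_bot, ← Ideal.sInf_minimalPrimes (I := (⊥ : Ideal (X.presheaf.stalk x))), Ideal.mem_sInf]
      intro P hP
      have h0 : ψ π ^ (n + 1) * b ∈ P := hb ▸ P.zero_mem
      exact ((hP.1.1).mem_or_mem h0).resolve_left fun h1 => hmin P hP ((hP.1.1).mem_of_pow_mem _ h1)
    have hdiv : ∀ n : ℕ, ∃ b, a = ψ π ^ n * b ∧ ψ π ^ (n + 1) * b = 0 := by
      intro n
      induction n with
      | zero => exact ⟨a, by simp, by simpa using ha⟩
      | succ n ih =>
        obtain ⟨b, hb, hb0⟩ := ih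
        obtain ⟨c, rfl⟩ := hnil b (key n b hb0)
        exact ⟨c, by rw [hb]; ring, by rw [← hb0]; ring⟩
    have hne : Ideal.span {ψ π} ≠ ⊤ := by
      rw [← hI]
      exact ne_top_of_le_ne_top (Ideal.IsMaximal.ne_top (IsLocalRing.maximalIdeal.isMaximal (X.presheaf.stalk x)))
        (Ideal.map_le_iff_le_comap.2 (IsLocalRing.maximalIdeal_comap φ).ge)
    rw [← Ideal.mem_bot, ← Ideal.iInf_pow_eq_bot_of_isLocalRing _ hne, Ideal.mem_iInf]
    intro n
    obtain ⟨b, hb, -⟩ := hdiv n
    rw [Ideal.span_singleton_pow, Ideal.mem_span_singleton]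
    exact ⟨b, hb⟩
  show φ.Flat
  letI : Algebra B (X.presheaf.stalk x) := φ.toAlgebra
  letI : Algebra A (X.presheaf.stalk x) := ψ.toAlgebra
  haveI : IsScalarTower A B (X.presheaf.stalk x) := IsScalarTower.of_algebraMap_eq' rfl
  refine (Module.flat_iff_of_isLocalization B q.asIdeal.primeCompl _).2 ?_
  rw [Module.Flat.flat_iff_torsion_eq_bot_of_isBezout, eq_bot_iff]
  rintro m ⟨⟨r, hr⟩, hm⟩
  obtain ⟨n, u, rfl⟩ := IsDiscreteValuationRing.eq_unit_mul_pow_irreducible (nonZeroDivisors.ne_zero hr) hπ
  have h1 : ψ (u : A) * (ψ π ^ n * m) = 0 := by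
    rw [← mul_assoc, ← map_pow, ← map_mul]
    exact hm
  have h2 := (IsUnit.mul_right_eq_zero (u.isUnit.map ψ)).1 h1
  clear h1 hm hr
  induction n with
  | zero => simpa using h2
  | succ n ih => exact ih (hreg _ (by rw [← h2]; ring))

end Groth.Agent.S4948
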