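import Groth.Statements.S4951

set_option autoImplicit false
universe u
open EGA43

namespace Groth.Agent.S4951

open TopologicalSpace in
theorem exists_generization_of_mem_closure {X : Type u} [TopologicalSpace X] [QuasiSober X]
    (hloc : ∀ x : X, ∃ U ∈ nhds x, NoetherianSpace ↥U) {U : Set X} (hU : IsOpen U) {x : X}
    (hx : x ∈ closure U) : ∃ η ∈ U, η ⤳ x := by
  obtain ⟨W, hW, hWn⟩ := hloc x
  obtain ⟨W₀, hW₀W, hW₀, hxW₀⟩ := mem_nhds_iff.1 hW
  set S := U ∩ W₀
  have hxS : x ∈ closure S := by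
    rw [mem_closure_iff]
    intro o ho hxo
    obtain ⟨y, ⟨hyo, hyW⟩, hyU⟩ := mem_closure_iff.1 hx _ (ho.inter hW₀) ⟨hxo, hxW₀⟩
    exact ⟨y, hyo, hyU, hyW⟩
  have : NoetherianSpace ↥S :=
    (Topology.IsEmbedding.inclusion (fun y hy => hW₀W hy.2 : S ⊆ W)).isInducing.noetherianSpace
  obtain ⟨T, hTf, -, hTi, hTS⟩ := NoetherianSpace.exists_finite_set_isClosed_irreducible (α := ↥S) isClosed_univ
  have hS : S = ⋃ t ∈ T, Subtype.val '' t := by
    ext y
    simp only [Set.mem_iUnion, exists_prop, Set.mem_image]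
    constructor
    · intro hy
      obtain ⟨t, ht, hyt⟩ := Set.mem_sUnion.1 (hTS.le (Set.mem_univ (⟨y, hy⟩ : ↥S)))
      exact ⟨t, ht, ⟨y, hy⟩, hyt, rfl⟩
    · rintro ⟨t, -, ⟨z, hz⟩, -, rfl⟩
      exact hz
  rw [hS, hTf.closure_biUnion, Set.mem_iUnion₂] at hxS
  obtain ⟨t, ht, hxt⟩ := hxS
  have hirr : IsIrreducible (closure (Subtype.val '' t)) :=
    ((hTi t ht).image _ continuous_subtype_val.continuousOn).closure
  refine ⟨hirr.genericPoint, ?_, ?_⟩
  · obtain ⟨z, hz⟩ := (hTi t ht).nonempty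
    exact (hirr.isGenericPoint_genericPoint_closure.specializes
      (by rw [closure_closure]; exact subset_closure ⟨z, hz, rfl⟩)).mem_open hU z.2.1
  · exact hirr.isGenericPoint_genericPoint_closure.specializes (by rw [closure_closure]; exact hxt)


/-- Let X be a locally Noetherian topological space in which every irreducible closed subset has a
unique generic point (X quasi-sober and T₀), and Z a closed nowhere dense subset of X such that for
every point x of Z the set of generizations of x distinct from x is connected (possibly empty). If X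
is connected, then X − Z is connected. (Uniqueness of generic points, automatic for the underlying
space of a scheme, is needed: in the four-point space {u, v, z₁, z₂} whose open sets are ∅, {u},
{v}, {u, v} and the whole space, the closed nowhere dense set Z = {z₁, z₂} satisfies the hypothesis,
since z₂ is a generization of z₁ and conversely, yet X − Z = {u, v} is not connected.) -/
theorem result {X : Type u} [TopologicalSpace X]
    [QuasiSober X] [T0Space X] (hloc : ∀ x : X, ∃ U ∈ nhds x, TopologicalSpace.NoetherianSpace ↥U) [ConnectedSpace X]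
    (Z : Set X) (hZ : IsClosed Z) (hZn : IsNowhereDense Z)
    (hgen : ∀ x ∈ Z, IsPreconnected ({x' : X | x' ⤳ x} \ {x})) :
    IsConnected Zᶜ := by
  have hd : Dense Zᶜ := by
    rw [← interior_eq_empty_iff_dense_compl]
    have := hZn
    rwa [IsNowhereDense, hZ.closure_eq] at this
  refine ⟨hd.nonempty, fun U V hU hV hcov hUne hVne => ?_⟩
  by_contra hdisj
  have hU1 : IsOpen (U ∩ Zᶜ) := hU.inter hZ.isOpen_compl
  have hV1 : IsOpen (V ∩ Zᶜ) := hV.inter hZ.isOpen_compl
  have hcl : closure (U ∩ Zᶜ) ∪ closure (V ∩ Zᶜ) = Set.univ := by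
    rw [← closure_union, ← Set.union_inter_distrib_right, Set.inter_eq_right.2 hcov, hd.closure_eq]
  obtain ⟨c, hc⟩ : (closure (U ∩ Zᶜ) ∩ closure (V ∩ Zᶜ)).Nonempty := by
    have := isPreconnected_closed_iff.1 (PreconnectedSpace.isPreconnected_univ (α := X)) _ _
      isClosed_closure isClosed_closure hcl.ge
      (by rw [Set.univ_inter]; obtain ⟨y, hy, hyU⟩ := hUne; exact ⟨y, subset_closure ⟨hyU, hy⟩⟩)
      (by rw [Set.univ_inter]; obtain ⟨y, hy, hyV⟩ := hVne; exact ⟨y, subset_closure ⟨hyV, hy⟩⟩)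
    rwa [Set.univ_inter] at this
  obtain ⟨t, htpre, hct, htmax⟩ := exists_preirreducible
    (Set.singleton (⟨c, hc⟩ : ↥(closure (U ∩ Zᶜ) ∩ closure (V ∩ Zᶜ)))) isIrreducible_singleton.isPreirreducible
  have htirr : IsIrreducible (Subtype.val '' t) :=
    (IsIrreducible.image ⟨⟨_, hct (Set.mem_singleton _)⟩, htpre⟩ _ continuous_subtype_val.continuousOn)
  set x := htirr.genericPoint
  have hspec := htirr.isGenericPoint_genericPoint_closure
  have hxC : x ∈ closure (U ∩ Zᶜ) ∩ closure (V ∩ Zᶜ) :=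
    (isClosed_closure.inter isClosed_closure).closure_subset_iff.2 (Subtype.coe_image_subset _ t)
      hspec.mem
  have hxmax : ∀ x' ∈ closure (U ∩ Zᶜ) ∩ closure (V ∩ Zᶜ), x' ⤳ x → x' = x := fun x' hx' hs => by
    have hpre : IsPreirreducible (Subtype.val ⁻¹' closure {x'} :
        Set ↥(closure (U ∩ Zᶜ) ∩ closure (V ∩ Zᶜ))) := by
      have : (Subtype.val ⁻¹' closure {x'} : Set ↥(closure (U ∩ Zᶜ) ∩ closure (V ∩ Zᶜ))) =
          closure {⟨x', hx'⟩} := by
        ext y; rw [closure_subtype]; simp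
      rw [this]
      exact isIrreducible_singleton.closure.isPreirreducible
    have hle : t ⊆ Subtype.val ⁻¹' closure {x'} := fun y hy => by
      have : x ⤳ (y : X) := hspec.specializes (subset_closure ⟨y, hy, rfl⟩)
      exact specializes_iff_mem_closure.1 (hs.trans this)
    have heq := htmax _ hpre hle
    have : x ⤳ x' := hspec.specializes (subset_closure
      ⟨⟨x', hx'⟩, heq ▸ (subset_closure rfl : x' ∈ closure ({x'} : Set X)), rfl⟩)
    exact (hs.antisymm this).eq
  have hsep : ∀ y, y ∈ U ∩ Zᶜ → y ∉ closure (V ∩ Zᶜ) := fun y hy h => by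
    obtain ⟨z, hzU, hzV⟩ := mem_closure_iff.1 h _ hU1 hy
    exact hdisj ⟨z, hzU.2, hzU.1, hzV.1⟩
  have hsep' : ∀ y, y ∈ V ∩ Zᶜ → y ∉ closure (U ∩ Zᶜ) := fun y hy h => by
    obtain ⟨z, hzV, hzU⟩ := mem_closure_iff.1 h _ hV1 hy
    exact hdisj ⟨z, hzU.2, hzU.1, hzV.1⟩
  have hxZ : x ∈ Z := by
    by_contra hn
    rcases hcov hn with h | h
    · exact hsep x ⟨h, hn⟩ hxC.2
    · exact hsep' x ⟨h, hn⟩ hxC.1
  obtain ⟨η, hη, hηx⟩ := exists_generization_of_mem_closure hloc hU1 hxC.1
  obtain ⟨η', hη', hη'x⟩ := exists_generization_of_mem_closure hloc hV1 hxC.2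
  obtain ⟨z, ⟨hzx, hzne⟩, hz⟩ := isPreconnected_closed_iff.1 (hgen x hxZ) _ _ isClosed_closure
    isClosed_closure (hcl.symm ▸ Set.subset_univ _)
    ⟨η, ⟨hηx, fun h => hη.2 (Set.mem_singleton_iff.1 h ▸ hxZ)⟩, subset_closure hη⟩
    ⟨η', ⟨hη'x, fun h => hη'.2 (Set.mem_singleton_iff.1 h ▸ hxZ)⟩, subset_closure hη'⟩
  exact hzne (hxmax z hz hzx)

end Groth.Agent.S4951
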