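import Groth.Statements.S4956
import Groth.Agent.Chevalley.ValTrdeg
import Groth.Agent.FibreDimChart.Constr
import Groth.Agent.LimSch.Constructible
import Mathlib

set_option autoImplicit false
open CategoryTheory AlgebraicGeometry
universe u v w
open EGA43

set_option backward.isDefEq.respectTransparency.types false
namespace Groth.Agent.S4956

open Groth.Agent


/-- Let f : X ⟶ Y be a morphism of finite presentation with a section g, X_y^0 the connected component
of f⁻¹(y) containing g y, every X_y^0 geometrically irreducible over κ(y), and y₀ a point of Y such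
that f is universally open at the generic point of X_{y₀}^0. Suppose moreover that either (α) the
fibre over y₀ is geometrically reduced at g y₀ and the local ring O_{Y,y₀} is Noetherian, or (β) dim
X_{y'} = dim X_{y'}^0 for the generic point y' of every irreducible component of Y containing y₀.
Then y ↦ dim X_y^0 is constant on a neighbourhood of y₀. -/
theorem result {X Y : Scheme.{u}} (f : X ⟶ Y)
    [LocallyOfFinitePresentation f] [QuasiCompact f] [QuasiSeparated f] (g : Y ⟶ X) (hg : g ≫ f = 𝟙 Y)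
    (hirr : ∀ y : Y, (∀ (K : Type u) [Field K] [Algebra (IsLocalRing.ResidueField (Y.presheaf.stalk y)) K],
        IsIrreducible ((FBase.bcπ (f.fiberToSpecResidueField y) K ≫ f.fiberι y).base ⁻¹' connectedComponentIn (f.base ⁻¹' {y}) (g.base y))))
    (y₀ : Y) (hopen : ∀ ξ ∈ connectedComponentIn (f.base ⁻¹' {y₀}) (g.base y₀), connectedComponentIn (f.base ⁻¹' {y₀}) (g.base y₀) ⊆ closure {ξ} → EGA43.IsUnivOpenAt f ξ)
    (hαβ : (FBase.IsGeomReducedAt (f.fiberToSpecResidueField (f.base (g.base y₀))) (f.asFiber (g.base y₀)) ∧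
        IsNoetherianRing (Y.presheaf.stalk y₀)) ∨
      (∀ y' : Y, y₀ ∈ closure {y'} → closure {y'} ∈ irreducibleComponents (Y : Type u) →
        topologicalKrullDim ↥(f.fiber y') = topologicalKrullDim ↥(connectedComponentIn (f.base ⁻¹' {y'}) (g.base y')))) :
    ∃ V ∈ nhds y₀, ∀ z ∈ V, topologicalKrullDim ↥(connectedComponentIn (f.base ⁻¹' {z}) (g.base z)) = topologicalKrullDim ↥(connectedComponentIn (f.base ⁻¹' {y₀}) (g.base y₀)) := by
  have hirr' : ∀ z : Y, IsIrreducible (connectedComponentIn (f.base ⁻¹' {z}) (g.base z)) := fun z =>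
    Chevalley.isIrreducible_of_geom f (connectedComponentIn_subset _ _) (hirr z)
  have hfg : ∀ a : Y, f (g a) = a := fun a => by rw [← Scheme.Hom.comp_apply, hg]; rfl
  have hgi := fun (z : Y) (K : Type u) [Field K] [Algebra (IsLocalRing.ResidueField (Y.presheaf.stalk z)) K] =>
    hirr z K
  have hge : ∀ y' : Y, y' ⤳ y₀ → topologicalKrullDim ↥(connectedComponentIn (f.base ⁻¹' {y₀}) (g.base y₀)) ≤
      topologicalKrullDim ↥(connectedComponentIn (f.base ⁻¹' {y'}) (g.base y')) := by
    intro y' hy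
    rcases hαβ with ⟨hα, hN⟩ | hβ
    · by_cases hne : y' = y₀
      · rw [hne]
      haveI := hN
      haveI : IsLocallyNoetherian (Spec (Y.presheaf.stalk y₀)) := inferInstance
      obtain ⟨p, hp⟩ : y' ∈ Set.range (Y.fromSpecStalk y₀) := by rw [Scheme.range_fromSpecStalk]; exact hy
      obtain ⟨q, hq⟩ : y₀ ∈ Set.range (Y.fromSpecStalk y₀) := by rw [Scheme.range_fromSpecStalk]; exact specializes_rfl
      have hpq : p ⤳ q := (Y.fromSpecStalk y₀).isEmbedding.isInducing.specializes_iff.1 (by rw [hp, hq]; exact hy)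
      obtain ⟨A, _, _, _, k, hkc, hkb⟩ := Chevalley.exists_dvr hpq (fun h => hne (by rw [← hp, h, hq]))
      obtain ⟨c, hc⟩ : ∃ c : Spec (CommRingCat.of A), c = IsLocalRing.closedPoint A := ⟨_, rfl⟩
      obtain ⟨η, hη⟩ : ∃ η : Spec (CommRingCat.of A), η = (⟨⊥, Ideal.isPrime_bot⟩ : PrimeSpectrum A) := ⟨_, rfl⟩
      rw [← hc] at hkc
      rw [← hη] at hkb
      have h1 : (k ≫ Y.fromSpecStalk y₀) c = y₀ := by rw [Scheme.Hom.comp_apply, hkc, hq]
      have h2 : (k ≫ Y.fromSpecStalk y₀) η = y' := by rw [Scheme.Hom.comp_apply, hkb, hp]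
      have := Chevalley.dim_component_le_of_dvr f g hg hgi (k ≫ Y.fromSpecStalk y₀) c η hc
        (fun r => hη ▸ Chevalley.bot_specializes (A := A) r) (by rw [h1]; exact hopen)
        (by rw [h1]; exact Chevalley.redAlong_of_isGeomReducedAt f g (hfg y₀) hα)
      rwa [h1, h2] at this
    · obtain ⟨y'', hy'', hmax⟩ := FlatMorLib.exists_maximal_generization y'
      obtain ⟨ν, hν, hνg, hνC⟩ := Chevalley.exists_generic_component f (hfg y₀) (hirr' y₀)
      have hνmax : FlatEquidim.IsFibreMax f ν := fun w hw hfw =>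
        (hw.antisymm (specializes_iff_mem_closure.2 (hνC ▸ Chevalley.subset_component f (hw.trans hνg) (hfw.trans hν) (hfg y₀)
          ⟨subset_closure rfl, hfw.trans hν⟩ : w ∈ closure {ν} ∩ _).1)).eq
      obtain ⟨ξ, hξ, hle⟩ := Chevalley.exists_fibreDimAt_ge_of_univOpen f hνmax
        (hopen ν (hνC ▸ ⟨subset_closure rfl, hν⟩) (hνC ▸ Set.inter_subset_left)) (y' := y'') (hν ▸ hy''.trans hy)
      refine le_trans ?_ (Chevalley.dim_component_le_of_irreducible f g hg hirr' hy'').1
      rw [← hβ y'' (specializes_iff_mem_closure.1 (hy''.trans hy))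
        (FlatDim.closure_mem_irreducibleComponents fun w hw => hmax w hw), ← hξ]
      refine le_trans ?_ (hle.trans (FibreDimChart.fibreDimAt_le_dim_fiber f ξ))
      obtain ⟨n, hn⟩ := Chevalley.exists_mapTrdeg f ν
      rw [hνC, ← hν, Chevalley.dim_closure_inter f ν hn]
      exact EquidimChart.le_fibreDimAt f hn
  have heq : ∀ z, topologicalKrullDim ↥(connectedComponentIn (f.base ⁻¹' {z}) (g.base z)) =
      FlatMor.fibreDimAt f (g z) := fun z => Chevalley.dim_component_eq_fibreDimAt f (hfg z) (hirr' z)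
  simp only [heq] at hge ⊢
  obtain ⟨-, n, -, -, -, -, hn⟩ := Chevalley.exists_fibreMax_eq f (g y₀)
  have hloc : ∀ m : ℕ, Topology.IsLocallyConstructible {z : Y | FlatMor.fibreDimAt f (g z) ≤ (m : WithBot ℕ∞)} :=
    fun m => LimSch.isLocallyConstructible_preimage g (FibreDimChart.isLocallyConstructible_fibreDimAt_le f m)
  have h2 := ((FibreDimChart.isOpen_fibreDimAt_le f n).preimage g.continuous).mem_nhds (x := y₀) hn.le
  rcases Nat.eq_zero_or_pos n with h0 | h0
  · refine ⟨_, h2, fun z hz => le_antisymm (hn ▸ hz) ?_⟩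
    rw [hn, h0]
    exact FibreDimChart.zero_le_fibreDimAt f (g z)
  · have h1 : {z : Y | FlatMor.fibreDimAt f (g z) ≤ ((n - 1 : ℕ) : WithBot ℕ∞)}ᶜ ∈ nhds y₀ :=
      Chevalley.mem_nhds_of_generizations' (LimSch.isLocallyConstructible_compl (hloc _)) fun z hz hle => by
        have h3 := (hge z hz).trans hle
        rw [hn] at h3
        have h4 : n ≤ n - 1 := by exact_mod_cast h3
        omega
    refine ⟨_, Filter.inter_mem h1 h2, fun z hz => le_antisymm (hn ▸ hz.2) ?_⟩
    obtain ⟨-, k, -, -, -, -, hk⟩ := Chevalley.exists_fibreMax_eq f (g z)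
    have h5 : ¬ (k ≤ n - 1) := fun h => hz.1 (show FlatMor.fibreDimAt f (g z) ≤ _ from hk ▸ Nat.cast_le.2 h)
    rw [hn, hk]
    exact Nat.cast_le.2 (by omega)

end Groth.Agent.S4956
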