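import Groth.Statements.S4958
import Groth.Agent.EquidimChart.ChainIneq
import Mathlib

set_option autoImplicit false
open CategoryTheory AlgebraicGeometry
universe u v w
open EGA43

namespace Groth.Agent.S4958

open Groth.Agent.EquidimChart Groth.Agent.DimTheory
set_option backward.isDefEq.respectTransparency.types false


/-- Let Y be an irreducible locally Noetherian scheme with generic point η, f : X ⟶ Y a morphism of
finite type and y a point of Y whose local ring O_{Y,y} is universally catenary. Suppose that dim
O_{X,z} = dim O_{Y,y} for every maximal point z of the fibre X_y. For z' in Y let E(z') be the set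
of dimensions of the irreducible components of X_{z'}. Then E(y) ⊆ E(η), and hence dim X_y ≤ dim
X_η. -/
theorem result {X Y : Scheme.{u}} [IrreducibleSpace Y]
    [IsLocallyNoetherian Y] (f : X ⟶ Y) [LocallyOfFiniteType f] [QuasiCompact f] (y : Y)
    (hcat : CAlg.IsUniversallyCatenary (Y.presheaf.stalk y))
    (hb : ∀ z : X, f.base z = y → (∀ z' : X, f.base z' = y → z ∈ closure {z'} → z' = z) →
      ringKrullDim (X.presheaf.stalk z) = ringKrullDim (Y.presheaf.stalk y)) :
    letI E : Y → Set (WithBot ℕ∞) := fun z =>
      (fun Z : Set ↥(f.fiber z) => topologicalKrullDim ↥Z) '' irreducibleComponents ↥(f.fiber z)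
    E y ⊆ E (genericPoint Y) ∧
      topologicalKrullDim ↥(f.fiber y) ≤ topologicalKrullDim ↥(f.fiber (genericPoint Y)) := by
  haveI : LocallyOfFiniteType (f.fiberToSpecResidueField y) := MorphismProperty.pullback_snd _ _ ‹_›
  haveI : LocallyOfFiniteType (f.fiberToSpecResidueField (genericPoint Y)) := MorphismProperty.pullback_snd _ _ ‹_›
  haveI : IsLocallyNoetherian X := LocallyOfFiniteType.isLocallyNoetherian f
  -- every maximal point of the fibre over `y` has a counterpart over the generic point
  have key : ∀ m : f.fiber y, (∀ w, w ⤳ m → w = m) → ∃ (n : ℕ) (m' : f.fiber (genericPoint Y)),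
      Order.height m = n ∧ (∀ w, w ⤳ m' → w = m') ∧ Order.height m' = n := by
    intro m hm
    obtain ⟨n, hn, hn'⟩ := exists_height_eq (k := Y.residueField y) (f.fiberToSpecResidueField y) m
    rw [Groth.Agent.FlatEquidim.resTrdeg_fiber_eq] at hn
    have hfz := Groth.Agent.FlatEquidim.fiberι_apply_eq f y m
    have hmax : Groth.Agent.FlatEquidim.IsFibreMax f (f.fiberι y m) := fun z hz hfz' =>
      Groth.Agent.FlatDim.eq_fiberι_of_isMax f hm hz (hfz'.trans hfz)
    obtain ⟨d, hd⟩ := Groth.Agent.LeadFCat.exists_dim (Y.presheaf.stalk y)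
    have hdz := hb (f.fiberι y m) hfz fun z' hz' hcl =>
      hmax z' (specializes_iff_mem_closure.2 hcl) (hz'.trans hfz.symm)
    rw [hd, ringKrullDim_stalk_eq_coheight] at hdz
    rw [ringKrullDim_stalk_eq_coheight] at hd
    have hcz : Order.coheight (f.fiberι y m) = (d : ℕ∞) := WithBot.coe_injective hdz
    have hcy : Order.coheight y = (d : ℕ∞) := WithBot.coe_injective hd
    obtain ⟨s, hs1, hs2⟩ := Order.exists_series_of_le_coheight _ hcz.ge
    have hξ : ∀ w, w ⤳ s.last → w = s.last := by
      intro w hw
      by_contra hne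
      have h7 := Order.length_le_coheight_head (p := s.snoc w (Groth.Agent.FlatDim.lt_of_specializes_of_ne hw (Ne.symm hne)))
      rw [RelSeries.head_snoc, RelSeries.snoc_length, hs1, hcz] at h7
      change ((s.length + 1 : ℕ) : ℕ∞) ≤ (d : ℕ∞) at h7
      have : s.length + 1 ≤ d := by exact_mod_cast h7
      omega
    have hξz : s.last ⤳ f.fiberι y m := hs1 ▸ (show s.last ⤳ s.head from s.head_le_last)
    obtain ⟨e, he, -⟩ := height_asFiber f s.last
    obtain ⟨r, hr1, hr2, hr3⟩ := chain_ineq f hn he s hs1 specializes_rfl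
    have hen : e ≤ n := le_of_specializes f hξz (fun w hw _ => hξ w hw) he (fibreDimAt_of_fibreMax f hmax hn).le
    have hrd : r.length ≤ d := by
      have h7 := Order.length_le_coheight_head (p := r)
      rw [hr1, hfz, hcy] at h7
      exact_mod_cast h7
    have hfξ : f s.last = genericPoint Y := by
      by_contra hne
      have hlt : r.last < genericPoint Y := lt_of_le_of_lt (show r.last ≤ f s.last from hr2)
        (Groth.Agent.FlatDim.lt_of_specializes_of_ne (genericPoint_specializes _) hne)
      have h7 := Order.length_le_coheight_head (p := r.snoc _ hlt)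
      rw [RelSeries.head_snoc, RelSeries.snoc_length, hr1, hfz, hcy] at h7
      change ((r.length + 1 : ℕ) : ℕ∞) ≤ (d : ℕ∞) at h7
      have : r.length + 1 ≤ d := by exact_mod_cast h7
      omega
    obtain ⟨m', hm'⟩ : s.last ∈ Set.range (f.fiberι (genericPoint Y)) := by rw [f.range_fiberι]; exact hfξ
    refine ⟨n, m', hn', fun w hw => (f.fiberι (genericPoint Y)).isEmbedding.injective ?_, ?_⟩
    · rw [hm']; exact hξ _ (hm' ▸ hw.map (f.fiberι (genericPoint Y)).continuous)
    · obtain ⟨e', he1, he2⟩ := exists_height_eq (k := Y.residueField (genericPoint Y)) (f.fiberToSpecResidueField (genericPoint Y)) m'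
      rw [Groth.Agent.FlatEquidim.resTrdeg_fiber_eq, hm', he] at he1
      rw [he2, ← Nat.cast_injective (R := Cardinal.{u}) he1, show e = n by omega]
  refine ⟨?_, ?_⟩
  · rintro c ⟨Z, hZ, rfl⟩
    obtain ⟨n, m', h1, h2, h3⟩ := key _ (mem_component_isMax hZ)
    refine ⟨closure {m'}, Groth.Agent.FlatDim.closure_mem_irreducibleComponents h2, ?_⟩
    show topologicalKrullDim ↥(closure {m'}) = topologicalKrullDim ↥Z
    rw [topologicalKrullDim_closure, h3, ← component_eq_closure hZ, topologicalKrullDim_closure, h1]
  · rw [topologicalKrullDim_eq_iSup_height, topologicalKrullDim_eq_iSup_height]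
    refine iSup_le fun w => ?_
    obtain ⟨m, hm, hmax⟩ := Groth.Agent.FlatMorLib.exists_maximal_generization w
    obtain ⟨n, m', h1, h2, h3⟩ := key m hmax
    refine le_trans ?_ (le_iSup _ m')
    rw [h3, ← h1]
    exact WithBot.coe_le_coe.2 (Order.height_mono hm)

end Groth.Agent.S4958
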