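import Groth.Statements.S4966
import Mathlib
import Groth.Agent.RectDepth.CompDims
import Groth.Agent.RectDepth.Proper
import Groth.Agent.S4964
import Groth.Agent.S4965

set_option autoImplicit false
open CategoryTheory AlgebraicGeometry
universe u v w
open EGA43

namespace Groth.Agent.S4966

/-- Let f : X ⟶ Y be a proper morphism of finite presentation and F a finitely presented O_X-module
which is f-flat; for y in Y write F_y for the restriction of F to the fibre X_y. Let Φ be a finite
set of natural numbers. Then the set of points y of Y such that F_y has no embedded associated point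
and the set of dimensions of the irreducible components of Supp(F_y) is exactly Φ is open in Y. -/
theorem result {X Y : Scheme.{u}} (f : X ⟶ Y) [IsProper f]
    [LocallyOfFinitePresentation f] (F : X.Modules) (hF : CohB1.IsFP F) (hflat : FlatMod.IsFlatOver f F) (Φ : Finset ℕ) :
    IsOpen {y : Y | AssSch.NoEmbedded ((Scheme.Modules.pullback (f.fiberι y)).obj F) ∧
      (fun Z : Set ↥{z : ↥(f.fiber y) | Nontrivial (((Scheme.Modules.pullback (f.fiberι y)).obj F).presheaf.stalk z)} => topologicalKrullDim ↥Z) '' irreducibleComponents ↥{z : ↥(f.fiber y) | Nontrivial (((Scheme.Modules.pullback (f.fiberι y)).obj F).presheaf.stalk z)} =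
        (fun n : ℕ => (n : WithBot ℕ∞)) '' (Φ : Set ℕ)} := by
  have hnoe := RectDepth.isOpen_forall_fiber f f.isClosedMap (fun y x => ∀ z ∈ AssSch.Ass ((Scheme.Modules.pullback (f.fiberι y)).obj F),
      x ∈ closure {z} → ∀ z' ∈ AssSch.Ass ((Scheme.Modules.pullback (f.fiberι y)).obj F), z ∈ closure {z'} → z' = z)
    (by simp only [RectDepth.noEmbedded_iff_forall_mIneq f hF]; exact RectDepth.isOpen_forall_mIneq f F hF hflat 1)
  refine (congrArg IsOpen ?_).mp ((hnoe.inter (S4964.result f F hF hflat Φ)).inter (S4965.result f F hF hflat Φ))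
  ext y
  have hN : IsLocallyNoetherian (f.fiber y) := FlatOverBC.isLocallyNoetherian_fiber f _
  have hcl := RectDepth.isClosed_nontrivial_stalk (ModStA.isFP_pullback (f.fiberι y) hF)
  obtain ⟨hc1, hc2, hc3⟩ := RectDepth.component_iff hcl
  have hNE : (∀ x z, z ∈ AssSch.Ass ((Scheme.Modules.pullback (f.fiberι y)).obj F) → x ∈ closure {z} →
      ∀ z' ∈ AssSch.Ass ((Scheme.Modules.pullback (f.fiberι y)).obj F), z ∈ closure {z'} → z' = z) ↔
      AssSch.NoEmbedded ((Scheme.Modules.pullback (f.fiberι y)).obj F) :=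
    ⟨fun h a ha b hb hba => (h a a ha (subset_closure rfl) b hb (specializes_iff_mem_closure.1 hba)).symm,
      fun h _ z hz _ z' hz' hzz => (h z hz z' hz' (specializes_iff_mem_closure.2 hzz)).symm⟩
  constructor
  · rintro ⟨⟨h1, h2⟩, h3⟩
    refine ⟨hNE.1 fun x z => h1 x z, Set.eq_of_subset_of_subset ?_ ?_⟩
    · rintro _ ⟨C, hC, rfl⟩
      obtain ⟨m, hm, hmax, hdim⟩ := hc1 C hC
      haveI : Nontrivial (((Scheme.Modules.pullback (f.fiberι y)).obj F).presheaf.stalk m) := hm
      obtain ⟨n, hn, hdn⟩ := h2 m (RectDepth.mem_ass_of_maximal f hF y m hmax)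
      exact ⟨n, hn, (hdim.trans ((DimTheory.topologicalKrullDim_closure m).symm.trans hdn)).symm⟩
    · rintro _ ⟨n, hn, rfl⟩
      obtain ⟨C, hC, hdim⟩ := h3 n hn
      exact ⟨C, hC, hdim⟩
  · rintro ⟨h1, h2⟩
    refine ⟨⟨fun x z => hNE.2 h1 x z, fun z hz => ?_⟩, fun n hn => ?_⟩
    · haveI := RectDepth.finite_pullback_stalk hF (f.fiberι y) z
      have hzn := ((RectDepth.mem_ass_iff_depth _ z).1 hz).1
      obtain ⟨m, hm, hmz, hmax⟩ := hc3 z hzn
      haveI : Nontrivial (((Scheme.Modules.pullback (f.fiberι y)).obj F).presheaf.stalk m) := hm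
      obtain rfl := h1 z hz m (RectDepth.mem_ass_of_maximal f hF y m hmax) hmz
      obtain ⟨C, hC, hdim⟩ := hc2 z hzn hmax
      obtain ⟨n, hn, hn'⟩ := h2.le ⟨C, hC, rfl⟩
      exact ⟨n, hn, by rw [DimTheory.topologicalKrullDim_closure, ← hdim]; exact hn'.symm⟩
    · obtain ⟨C, hC, hdim⟩ := h2.ge ⟨n, hn, rfl⟩
      exact ⟨C, hC, hdim⟩

end Groth.Agent.S4966
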