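import Groth.Statements.S4969
import Mathlib
import Groth.Agent.RectDepth.CompDims
import Groth.Agent.S4964

set_option autoImplicit false
open CategoryTheory AlgebraicGeometry
universe u v w
open EGA43

namespace Groth.Agent.S4969

theorem aux {Z : Scheme.{u}} {S : Set Z} (hS : IsClosed S) :
    topologicalKrullDim ↥S = ⨆ z : S, (Order.height z.1 : WithBot ℕ∞) := by
  refine le_antisymm ?_ (iSup_le fun z => ?_)
  · refine iSup_le fun l => ?_
    let L : LTSeries Z := (l.map (TopologicalSpace.IrreducibleCloseds.map (Subtype.val : S → Z) continuous_subtype_val)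
      (TopologicalSpace.IrreducibleCloseds.map_strictMono_of_isInducing Topology.IsInducing.subtypeVal)).map
        irreducibleSetEquivPoints (irreducibleSetEquivPoints (α := Z)).strictMono
    have hL : L.last ∈ S := by
      let C := TopologicalSpace.IrreducibleCloseds.map (Subtype.val : S → Z) continuous_subtype_val l.last
      have hC : (C : Set Z) ⊆ S := closure_minimal (by rintro _ ⟨a, -, rfl⟩; exact a.2) hS
      rw [LTSeries.last_map, LTSeries.last_map]
      exact hC ((congrArg SetLike.coe ((irreducibleSetEquivPoints (α := Z)).symm_apply_apply C)).le (subset_closure rfl))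
    exact (WithBot.coe_le_coe.2 (Order.length_le_height (p := L) le_rfl)).trans (le_iSup_of_le ⟨L.last, hL⟩ le_rfl)
  · rw [← DimTheory.topologicalKrullDim_closure]
    exact (Topology.IsEmbedding.inclusion (closure_minimal (Set.singleton_subset_iff.2 z.2) hS)).isInducing.topologicalKrullDim_le

/-- Let f : X ⟶ Y be a proper morphism of finite presentation and F a finitely presented O_X-module
which is f-flat; for y in Y let F_y be the restriction of F to the fibre X_y. Then the function y ↦
dim Supp(F_y) is locally constant on Y. -/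
theorem result {X Y : Scheme.{u}} (f : X ⟶ Y) [IsProper f]
    [LocallyOfFinitePresentation f] (F : X.Modules) (hF : CohB1.IsFP F) (hflat : FlatMod.IsFlatOver f F) :
    IsLocallyConstant (fun y : Y => topologicalKrullDim ↥{z : ↥(f.fiber y) | Nontrivial (((Scheme.Modules.pullback (f.fiberι y)).obj F).presheaf.stalk z)}) := by
  have hcl := fun y => RectDepth.isClosed_nontrivial_stalk (ModStA.isFP_pullback (f.fiberι y) hF)
  have hlft := fun y => RectDepth.locallyOfFiniteType_fiber f y
  rw [IsLocallyConstant.iff_exists_open]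
  intro y₀
  obtain ⟨U, hU, hy₀, hUeq⟩ : ∃ U : Set Y, IsOpen U ∧ y₀ ∈ U ∧ ∀ y ∈ U, topologicalKrullDim ↥{z : ↥(f.fiber y) | Nontrivial (((Scheme.Modules.pullback (f.fiberι y)).obj F).presheaf.stalk z)} =
      topologicalKrullDim ↥{z : ↥(f.fiber y₀) | Nontrivial (((Scheme.Modules.pullback (f.fiberι y₀)).obj F).presheaf.stalk z)} := by
    by_cases he : ∀ z : f.fiber y₀, ¬ Nontrivial (((Scheme.Modules.pullback (f.fiberι y₀)).obj F).presheaf.stalk z)
    · refine ⟨_, S4964.result f F hF hflat ∅, fun z hz => ?_, fun y hy => ?_⟩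
      · haveI := RectDepth.finite_pullback_stalk hF (f.fiberι y₀) z
        haveI : IsLocallyNoetherian (f.fiber y₀) := FlatOverBC.isLocallyNoetherian_fiber f _
        exact absurd ((RectDepth.mem_ass_iff_depth _ z).1 hz).1 (he z)
      · have h0 : ∀ y : Y, (∀ z : f.fiber y, ¬ Nontrivial (((Scheme.Modules.pullback (f.fiberι y)).obj F).presheaf.stalk z)) →
            topologicalKrullDim ↥{z : ↥(f.fiber y) | Nontrivial (((Scheme.Modules.pullback (f.fiberι y)).obj F).presheaf.stalk z)} = ⊥ := fun y h => by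
          haveI : IsEmpty ↥{z : ↥(f.fiber y) | Nontrivial (((Scheme.Modules.pullback (f.fiberι y)).obj F).presheaf.stalk z)} := ⟨fun z => h _ z.2⟩
          rw [aux (hcl y), iSup_of_empty']
          exact sSup_empty
        rw [h0 y₀ he, h0 y]
        intro z hz
        obtain ⟨m, hm, -, hmax⟩ := (RectDepth.component_iff (hcl y)).2.2 z hz
        haveI : Nontrivial (((Scheme.Modules.pullback (f.fiberι y)).obj F).presheaf.stalk m) := hm
        obtain ⟨n, hn, -⟩ := hy m (RectDepth.mem_ass_of_maximal f hF y m hmax)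
        exact Finset.notMem_empty n hn
    push Not at he
    obtain ⟨z₁, hz₁⟩ := he
    obtain ⟨D, hD⟩ : ∃ D : ℕ, ∀ z ∈ AssSch.Ass ((Scheme.Modules.pullback (f.fiberι y₀)).obj F), Order.height z ≤ D := by
      haveI : CompactSpace (f.fiber y₀) := inferInstance
      choose d hd using fun z : f.fiber y₀ => FibreDimChart.exists_nat_fibreDimAt_le f (f.fiberι y₀ z)
      obtain ⟨t, ht⟩ := isCompact_univ.elim_finite_subcover
        (fun z => (f.fiberι y₀) ⁻¹' {x | FlatMor.fibreDimAt f x ≤ d z})
        (fun z => (FibreDimChart.isOpen_fibreDimAt_le f (d z)).preimage (f.fiberι y₀).continuous)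
        (fun z _ => Set.mem_iUnion.2 ⟨z, hd z⟩)
      refine ⟨t.sup d, fun z _ => ?_⟩
      obtain ⟨z', hz't, hz'⟩ := Set.mem_iUnion₂.1 (ht (Set.mem_univ z))
      have h := (show FlatMor.fibreDimAt f (f.fiberι y₀ z) ≤ d z' from hz').trans (Nat.cast_le.2 (Finset.le_sup hz't))
      rw [RectDepth.fibreDimAt_eq_add, ← RectDepth.height_eq_of_fiberι f y₀ z _ rfl] at h
      obtain ⟨t', d', h', -, hd', -⟩ := RectDepth.exists_invariants f (f.fiberι y₀ z)
      rw [hd'] at h
      exact WithBot.coe_le_coe.1 ((le_add_of_nonneg_left (Nat.cast_nonneg d')).trans h)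
    have hne : (Order.height '' {z : ↥(f.fiber y₀) | Nontrivial (((Scheme.Modules.pullback (f.fiberι y₀)).obj F).presheaf.stalk z)}).Nonempty :=
      ⟨_, z₁, hz₁, rfl⟩
    have hle : ∀ y, ∀ D : ℕ, (∀ z ∈ AssSch.Ass ((Scheme.Modules.pullback (f.fiberι y)).obj F), Order.height z ≤ D) →
        ∀ z : f.fiber y, Nontrivial (((Scheme.Modules.pullback (f.fiberι y)).obj F).presheaf.stalk z) → Order.height z ≤ D := by
      intro y D h z hz
      obtain ⟨m, hm, hmz, hmax⟩ := (RectDepth.component_iff (hcl y)).2.2 z hz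
      haveI : Nontrivial (((Scheme.Modules.pullback (f.fiberι y)).obj F).presheaf.stalk m) := hm
      exact (Order.height_mono (show z ≤ m from hmz)).trans (h m (RectDepth.mem_ass_of_maximal f hF y m hmax))
    have hfin : (Order.height '' {z : ↥(f.fiber y₀) | Nontrivial (((Scheme.Modules.pullback (f.fiberι y₀)).obj F).presheaf.stalk z)}).Finite :=
      ((Set.finite_Iic D).image (Nat.cast : ℕ → ℕ∞)).subset (by
        rintro _ ⟨z, hz, rfl⟩
        obtain ⟨n, hn⟩ := ENat.ne_top_iff_exists.1 (ne_top_of_le_ne_top (ENat.natCast_ne_top D) (hle y₀ D hD z hz))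
        exact ⟨n, Nat.cast_le.1 (hn.le.trans (hle y₀ D hD z hz)), hn⟩)
    obtain ⟨_, ⟨z₂, hz₂, rfl⟩, hmax₂⟩ := hfin.exists_maximal hne
    obtain ⟨n, hn⟩ := ENat.ne_top_iff_exists.1 (ne_top_of_le_ne_top (ENat.natCast_ne_top D) (hle y₀ D hD z₂ hz₂))
    have hsup : ∀ z : f.fiber y₀, Nontrivial (((Scheme.Modules.pullback (f.fiberι y₀)).obj F).presheaf.stalk z) → Order.height z ≤ n := fun z hz => by
      rcases le_total (Order.height z) (Order.height z₂) with h | h
      · exact h.trans hn.ge
      · exact (hmax₂ ⟨z, hz, rfl⟩ h).trans hn.ge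
    refine ⟨_, (S4964.result f F hF hflat (Finset.range (n + 1))).inter (RectDepth.isOpen_exists_component f hF hflat n), ⟨fun z hz => ?_, ?_⟩, ?_⟩
    · haveI := RectDepth.finite_pullback_stalk hF (f.fiberι y₀) z
      haveI : IsLocallyNoetherian (f.fiber y₀) := FlatOverBC.isLocallyNoetherian_fiber f _
      have h := hsup z ((RectDepth.mem_ass_iff_depth _ z).1 hz).1
      obtain ⟨k, hk⟩ := ENat.ne_top_iff_exists.1 (ne_top_of_le_ne_top (ENat.natCast_ne_top n) h)
      rw [← hk, Nat.cast_le] at h
      exact ⟨k, Finset.mem_range.2 (by omega), by rw [DimTheory.topologicalKrullDim_closure, ← hk]; rfl⟩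
    · obtain ⟨m, hm, hmz, hmax⟩ := (RectDepth.component_iff (hcl y₀)).2.2 z₂ hz₂
      obtain ⟨C, hC, hdim⟩ := (RectDepth.component_iff (hcl y₀)).2.1 m hm hmax
      exact ⟨C, hC, by rw [hdim, le_antisymm (hsup m hm) (hn.le.trans (Order.height_mono (show z₂ ≤ m from hmz)))]; rfl⟩
    · have key : ∀ y : Y, (∀ z : f.fiber y, Nontrivial (((Scheme.Modules.pullback (f.fiberι y)).obj F).presheaf.stalk z) → Order.height z ≤ n) →
          (∃ z : f.fiber y, Nontrivial (((Scheme.Modules.pullback (f.fiberι y)).obj F).presheaf.stalk z) ∧ Order.height z = n) →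
          topologicalKrullDim ↥{z : ↥(f.fiber y) | Nontrivial (((Scheme.Modules.pullback (f.fiberι y)).obj F).presheaf.stalk z)} = (n : WithBot ℕ∞) := by
        intro y h1 h2
        obtain ⟨z, hz, hzn⟩ := h2
        rw [aux (hcl y)]
        exact le_antisymm (iSup_le fun w => WithBot.coe_le_coe.2 (h1 w.1 w.2))
          (le_iSup_of_le ⟨z, hz⟩ (by rw [hzn]; rfl))
      rintro y ⟨h1, C, hC, hdim⟩
      rw [key y₀ hsup ⟨z₂, hz₂, hn.symm⟩, key y (hle y n ?_) ?_]
      · intro z hz
        obtain ⟨k, hk, hk'⟩ := h1 z hz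
        rw [DimTheory.topologicalKrullDim_closure] at hk'
        rw [WithBot.coe_inj.1 hk']
        exact Nat.cast_le.2 (Nat.le_of_lt_succ (Finset.mem_range.1 hk))
      · obtain ⟨m, hm, -, hm'⟩ := (RectDepth.component_iff (hcl y)).1 C hC
        exact ⟨m, hm, WithBot.coe_inj.1 (hm'.symm.trans hdim)⟩
  exact ⟨U, hU, hy₀, hUeq⟩

end Groth.Agent.S4969
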