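import Groth.Statements.S4971
import Mathlib.RingTheory.Nakayama
import Mathlib.RingTheory.LocalRing.MaximalIdeal.Basic

set_option autoImplicit false
universe u
open EGA43

namespace Groth.Agent.S4971

/-- Let B be a Noetherian local ring, M, N, P three B-modules with N finitely generated, u : M → N and v
: N → P linear maps with v ∘ u = 0, and t an element of the maximal ideal of B which is P-regular.
If the induced sequence M/tM → N/tN → P/tP is exact, then M → N → P is exact. -/
theorem result {B : Type u} [CommRing B] [IsNoetherianRing B] [IsLocalRing B]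
    {M N P : Type u} [AddCommGroup M] [Module B M] [AddCommGroup N] [Module B N] [Module.Finite B N]
    [AddCommGroup P] [Module B P] (u : M →ₗ[B] N) (v : N →ₗ[B] P) (huv : v ∘ₗ u = 0) (t : B)
    (ht : t ∈ IsLocalRing.maximalIdeal B) (hreg : IsSMulRegular P t)
    (hu : (Ideal.span {t} • ⊤ : Submodule B M) ≤ (Ideal.span {t} • ⊤ : Submodule B N).comap u)
    (hv : (Ideal.span {t} • ⊤ : Submodule B N) ≤ (Ideal.span {t} • ⊤ : Submodule B P).comap v)
    (hex : LinearMap.ker ((Ideal.span {t} • ⊤ : Submodule B N).mapQ (Ideal.span {t} • ⊤ : Submodule B P) v hv) ≤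
      LinearMap.range ((Ideal.span {t} • ⊤ : Submodule B M).mapQ (Ideal.span {t} • ⊤ : Submodule B N) u hu)) :
    LinearMap.ker v ≤ LinearMap.range u := by
  intro x hx
  have key : ∀ y ∈ LinearMap.ker v, ∃ m, y - u m ∈ (Ideal.span {t} • (LinearMap.ker v) : Submodule B N) := by
    intro y hy
    have h1 : (Submodule.Quotient.mk y : N ⧸ (Ideal.span {t} • ⊤ : Submodule B N)) ∈
        LinearMap.ker ((Ideal.span {t} • ⊤ : Submodule B N).mapQ (Ideal.span {t} • ⊤ : Submodule B P) v hv) := by
      rw [LinearMap.mem_ker, Submodule.mapQ_apply, LinearMap.mem_ker.1 hy]; rfl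
    obtain ⟨m, hm⟩ := hex h1
    obtain ⟨m, rfl⟩ := Submodule.Quotient.mk_surjective _ m
    rw [Submodule.mapQ_apply, Submodule.Quotient.eq] at hm
    refine ⟨m, ?_⟩
    have h2 : y - u m ∈ (Ideal.span {t} • ⊤ : Submodule B N) := by
      simpa using neg_mem hm
    rw [Submodule.ideal_span_singleton_smul] at h2 ⊢
    obtain ⟨z, -, hz⟩ := (Submodule.mem_smul_pointwise_iff_exists _ _ _).1 h2
    refine (Submodule.mem_smul_pointwise_iff_exists _ _ _).2 ⟨z, ?_, hz⟩
    apply LinearMap.mem_ker.2
    apply hreg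
    simp only [smul_zero, ← map_smul, hz, map_sub, LinearMap.mem_ker.1 hy]
    rw [← LinearMap.comp_apply, huv]; simp
  have hle : LinearMap.ker v ≤ LinearMap.range u ⊔ Ideal.span {t} • LinearMap.ker v := by
    intro y hy
    obtain ⟨m, hm⟩ := key y hy
    have : y = u m + (y - u m) := by abel
    rw [this]; exact Submodule.add_mem_sup ⟨m, rfl⟩ hm
  exact Submodule.le_of_le_smul_of_le_jacobson_bot (IsNoetherian.noetherian _)
    ((Ideal.span_singleton_le_iff_mem _).2 (by rw [IsLocalRing.jacobson_eq_maximalIdeal ⊥ bot_ne_top]; exact ht)) hle hx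

end Groth.Agent.S4971
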