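import Groth.Statements.S4972
import Groth.Agent.EquidimChart.UnivOpen
import Groth.Agent.EquidimChart.Section
import Groth.Agent.AlgSpc.UnivOpenField
import Groth.Agent.DimTheory.LocClosed
import Mathlib

set_option autoImplicit false
open CategoryTheory AlgebraicGeometry
universe u v w
open EGA43

namespace Groth.Agent.S4972

open Groth.Agent.EquidimChart Groth.Agent.DimTheory CategoryTheory.Limits
set_option backward.isDefEq.respectTransparency.types false
set_option linter.style.haveILetI false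

theorem fibre_set_dim {X S : Scheme.{u}} (f : X ⟶ S) [LocallyOfFiniteType f] (t : S) (C : Set X) (hC : IsClosed C) :
    topologicalKrullDim ↥(f.base ⁻¹' {t} ∩ C) =
      ⨆ z : ↥((f.fiberι t).base ⁻¹' C), (Order.height z.1 : WithBot ℕ∞) := by
  haveI : LocallyOfFiniteType (f.fiberToSpecResidueField t) := MorphismProperty.pullback_snd _ _ ‹_›
  rw [← topologicalKrullDim_locallyClosed (k := S.residueField t) (f.fiberToSpecResidueField t)
    (hC.preimage (f.fiberι t).continuous).isLocallyClosed]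
  have he := ((f.fiberι t).isEmbedding.comp (Topology.IsEmbedding.subtypeVal (p := ((f.fiberι t).base ⁻¹' C)))).toHomeomorph
  have hr : Set.range ((f.fiberι t) ∘ (Subtype.val : ↥((f.fiberι t).base ⁻¹' C) → _)) = f.base ⁻¹' {t} ∩ C := by
    rw [Set.range_comp, Subtype.range_coe, Set.image_preimage_eq_inter_range, f.range_fiberι, Set.inter_comm]
  exact ((he.trans (Homeomorph.setCongr hr)).isHomeomorph.topologicalKrullDim_eq).symm

theorem mem_fibre_height {X S : Scheme.{u}} (f : X ⟶ S) [LocallyOfFiniteType f] (t : S) (w : f.fiber t) :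
    ∃ n : ℕ, mapTrdeg f (f.fiberι t w) = n ∧ Order.height w = n := by
  haveI : LocallyOfFiniteType (f.fiberToSpecResidueField t) := MorphismProperty.pullback_snd _ _ ‹_›
  obtain ⟨n, hn, hn'⟩ := exists_height_eq (k := S.residueField t) (f.fiberToSpecResidueField t) w
  rw [Groth.Agent.FlatEquidim.resTrdeg_fiber_eq] at hn
  exact ⟨n, hn, hn'⟩

theorem key {X S : Scheme.{u}} (f : X ⟶ S) [LocallyOfFiniteType f]
    [QuasiCompact f] {ι : Type u} (Y : ι → Scheme.{u}) (g : ∀ i, Y i ⟶ S) [∀ i, UniversallyOpen (g i)]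
    (v : ∀ i, Y i ⟶ X) (hv : ∀ i, v i ≫ f = g i) (z : X) (s' : S) (hs : s' ⤳ f z)
    (hz : z ∈ closure ((⋃ i, Set.range (v i).base) ∩ f.base ⁻¹' {f z})) :
    ∃ (p : X) (n m : ℕ), f p = s' ∧ p ∈ closure ((⋃ i, Set.range (v i).base) ∩ f.base ⁻¹' {s'}) ∧
      mapTrdeg f z = n ∧ mapTrdeg f p = m ∧ n ≤ m := by
  obtain ⟨W, _, _, m, hmc, hmg⟩ := Groth.Agent.VCov.exists_valuation_of_specializes hs
  haveI : IsDomain W := ‹_›
  let c : Spec W := IsLocalRing.closedPoint W
  let gp : Spec W := ⟨⊥, Ideal.isPrime_bot⟩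
  let p2 := pullback.snd f m
  let p1 := pullback.fst f m
  have hc : IsPullback p1 p2 f m := IsPullback.of_hasPullback f m
  haveI : LocallyOfFiniteType p2 := MorphismProperty.pullback_snd _ _ inferInstance
  haveI : QuasiCompact p2 := MorphismProperty.pullback_snd _ _ inferInstance
  let A : Set X := ⋃ i, Set.range (v i).base
  let C : Set X := closure (A ∩ f.base ⁻¹' {s'})
  let D : Set ↥(pullback f m) := closure (p2.base ⁻¹' {gp} ∩ p1.base ⁻¹' C)
  have hfp : ∀ a, f (p1 a) = m (p2 a) := fun a => congr($(hc.w) a)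
  have claim1 : ∀ a : ↥(pullback f m), p2 a = c → p1 a ∈ A → a ∈ D := by
    intro a ha hA
    obtain ⟨i, b, hb⟩ : ∃ i b, v i b = p1 a := by
      obtain ⟨i, hi⟩ := Set.mem_iUnion.1 hA; exact ⟨i, hi⟩
    obtain ⟨q, hq1, hq2⟩ := Scheme.Pullback.exists_preimage_pullback (f := v i) (g := p1) b a hb
    have hsq : IsPullback (pullback.fst (v i) p1) (pullback.snd (v i) p1 ≫ p2) (g i) m :=
      hv i ▸ (IsPullback.of_hasPullback (v i) p1).paste_vert hc
    haveI : UniversallyOpen (pullback.snd (v i) p1 ≫ p2) := MorphismProperty.of_isPullback hsq inferInstance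
    have hgen := Groth.Agent.FpqcDescent.generalizingMap_of_isOpenMap (pullback.snd (v i) p1 ≫ p2)
      (pullback.snd (v i) p1 ≫ p2).isOpenMap
    obtain ⟨q', hq', hq'g⟩ := hgen (show gp ⤳ (pullback.snd (v i) p1 ≫ p2) q by
      rw [Scheme.Hom.comp_apply, hq2, ha]; exact Groth.Agent.VCov.specializes_closedPt gp)
    have hg : p2 (pullback.snd (v i) p1 q') = gp := hq'g
    refine (hq2 ▸ hq'.map (pullback.snd (v i) p1).continuous).mem_closed isClosed_closure
      (subset_closure ⟨hg, subset_closure ⟨?_, ?_⟩⟩)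
    · exact Set.mem_iUnion.2 ⟨i, pullback.fst (v i) p1 q', congr($(pullback.condition (f := v i) (g := p1)) q')⟩
    · show f (p1 _) = s'
      rw [hfp, hg]; exact hmg
  have claim2 : ∀ a : ↥(pullback f m), p2 a = c → p1 a = z → a ∈ D := by
    intro a ha haz
    have hh := isPullback_fiberToSpecResidueField_of_isPullback hc c
    let μ : p2.fiber c ⟶ f.fiber (m c) := pullback.map p2 ((Spec W).fromSpecResidueField c) f (S.fromSpecResidueField (m c)) p1
      (Spec.map (m.residueFieldMap c)) m hc.w.symm (by simp)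
    haveI : UniversallyOpen (Spec.map (m.residueFieldMap c)) :=
      Groth.Agent.AlgSpc.universallyOpen_to_field (k := S.residueField (m c)) _
    haveI : UniversallyOpen μ := MorphismProperty.of_isPullback hh.flip inferInstance
    have hμ : ∀ w, f.fiberι (m c) (μ w) = p1 (p2.fiberι c w) := fun w => by
      rw [← Scheme.Hom.comp_apply, ← Scheme.Hom.comp_apply]
      exact congrArg (fun q : p2.fiber c ⟶ X => q w) (pullback.lift_fst _ _ _)
    obtain ⟨w, rfl⟩ : a ∈ Set.range (p2.fiberι c) := by rw [p2.range_fiberι]; exact ha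
    have hfz : f z = m c := by rw [← haz, hfp, ha]
    have h1 : μ w ∈ closure ((f.fiberι (m c)).base ⁻¹' A) := by
      rw [(f.fiberι (m c)).isEmbedding.closure_eq_preimage_closure_image, Set.mem_preimage, hμ, haz,
        Set.image_preimage_eq_inter_range, f.range_fiberι, ← hfz]
      exact hz
    have h2 := μ.isOpenMap.preimage_closure_subset_closure_preimage (show w ∈ μ.base ⁻¹' closure _ from h1)
    have h3 : μ.base ⁻¹' ((f.fiberι (m c)).base ⁻¹' A) ⊆ (p2.fiberι c).base ⁻¹' D := fun b hb =>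
      claim1 _ (Groth.Agent.FlatEquidim.fiberι_apply_eq p2 c b) (hμ b ▸ hb)
    exact closure_minimal h3 (isClosed_closure.preimage (p2.fiberι c).continuous) h2
  -- a point over `z`
  let W0 : TopologicalSpace.Closeds X := ⟨closure {z}, isClosed_closure⟩
  obtain ⟨hirr, hg0, -⟩ := component_subscheme z W0 rfl
  let ι0 := (Scheme.IdealSheafData.vanishingIdeal W0).subschemeι
  have hc0 := (IsPullback.of_hasPullback ι0 p1).paste_vert hc
  obtain ⟨x', n, hx'1, hx'2, -, hn', hn⟩ := exists_baseChange_point (ι0 ≫ f) hc0 (y' := c)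
    (fun w hw _ => Groth.Agent.FlatDim.genericPoint_isMax w hw) (by rw [Scheme.Hom.comp_apply, hg0]; exact hmc)
  rw [Groth.Agent.FlatEquidim.mapTrdeg_comp, mapTrdeg_eq_zero ι0, add_zero, hg0] at hn
  rw [Groth.Agent.FlatEquidim.mapTrdeg_comp, mapTrdeg_eq_zero (pullback.snd ι0 p1), add_zero] at hn'
  let z1 := pullback.snd ι0 p1 x'
  have hz1 : p1 z1 = z := (congr($((pullback.condition (f := ι0) (g := p1)).symm) x')).trans ((congrArg ι0.base hx'1).trans hg0)
  have hz1D : z1 ∈ D := claim2 z1 hx'2 hz1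
  -- a point over the generic point
  let W1 : TopologicalSpace.Closeds X := ⟨C, isClosed_closure⟩
  let ι1 := (Scheme.IdealSheafData.vanishingIdeal W1).subschemeι
  have hr1 : Set.range ι1 = C := by
    rw [Scheme.IdealSheafData.range_subschemeι, Scheme.IdealSheafData.coe_support_vanishingIdeal]; rfl
  let pT := pullback.snd ι1 p1 ≫ p2
  have hc1 : IsPullback (pullback.fst ι1 p1) pT (ι1 ≫ f) m := (IsPullback.of_hasPullback ι1 p1).paste_vert hc
  haveI : QuasiCompact (pullback.snd ι1 p1) := inferInstance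
  haveI : LocallyOfFiniteType (pT.fiberToSpecResidueField gp) := MorphismProperty.pullback_snd _ _ inferInstance
  haveI : QuasiCompact (pT.fiberToSpecResidueField gp) := MorphismProperty.pullback_snd _ _ inferInstance
  haveI : IsLocallyNoetherian (pT.fiber gp) := LocallyOfFiniteType.isLocallyNoetherian (pT.fiberToSpecResidueField gp)
  haveI : CompactSpace (pT.fiber gp) := QuasiCompact.compactSpace_of_compactSpace (pT.fiberToSpecResidueField gp)
  haveI : IsNoetherian (pT.fiber gp) := {}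
  have hfin := TopologicalSpace.NoetherianSpace.finite_irreducibleComponents (α := pT.fiber gp)
  let j := pT.fiberι gp ≫ pullback.snd ι1 p1
  have hsub : p2.base ⁻¹' {gp} ∩ p1.base ⁻¹' C ⊆ ⋃ Z ∈ irreducibleComponents ↥(pT.fiber gp), closure (j.base '' Z) := by
    rintro a ⟨ha, haC⟩
    obtain ⟨e, he⟩ : p1 a ∈ Set.range ι1 := by rw [hr1]; exact haC
    obtain ⟨q, -, hq⟩ := Scheme.Pullback.exists_preimage_pullback (f := ι1) (g := p1) e a he
    obtain ⟨w, hw⟩ : q ∈ Set.range (pT.fiberι gp) := by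
      rw [pT.range_fiberι]; show p2 (pullback.snd ι1 p1 q) = gp; rw [hq]; exact ha
    refine Set.mem_iUnion₂.2 ⟨_, irreducibleComponent_mem_irreducibleComponents w, subset_closure ⟨w, mem_irreducibleComponent, ?_⟩⟩
    show pullback.snd ι1 p1 (pT.fiberι gp w) = a
    rw [hw, hq]
  obtain ⟨Z, hZ, hzZ⟩ := Set.mem_iUnion₂.1 (closure_minimal hsub (hfin.isClosed_biUnion fun Z _ => isClosed_closure) hz1D)
  let w0 := hZ.1.genericPoint
  rw [← component_eq_closure hZ, closure_image_closure j.continuous, Set.image_singleton] at hzZ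
  let q0 := pT.fiberι gp w0
  have hq0 : Groth.Agent.FlatEquidim.IsFibreMax pT q0 := fun a ha hfa =>
    Groth.Agent.FlatDim.eq_fiberι_of_isMax pT (mem_component_isMax hZ) ha (hfa.trans (Groth.Agent.FlatEquidim.fiberι_apply_eq pT _ w0))
  have hq0g : pT q0 = gp := Groth.Agent.FlatEquidim.fiberι_apply_eq pT _ w0
  obtain ⟨k, hk', hk, -⟩ := mapTrdeg_baseChange_of_fibreMax (ι1 ≫ f) hc1 hq0
  rw [Groth.Agent.FlatEquidim.mapTrdeg_comp, mapTrdeg_eq_zero ι1, add_zero] at hk
  rw [Groth.Agent.FlatEquidim.mapTrdeg_comp, mapTrdeg_eq_zero (pullback.snd ι1 p1), add_zero] at hk'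
  refine ⟨ι1 (pullback.fst ι1 p1 q0), n, k, ?_, ?_, hn, hk, ?_⟩
  · rw [← Scheme.Hom.comp_apply, ← Scheme.Hom.comp_apply, hc1.w, Scheme.Hom.comp_apply, hq0g]
    exact hmg
  · exact hr1.le ⟨_, rfl⟩
  · exact trdeg_le_of_valuation p2 (specializes_iff_mem_closure.2 hzZ) hx'2 hq0g hn' hk'


/-- Let f : X ⟶ S be a morphism of finite type, (g_i : Y_i ⟶ S) a family of universally open morphisms
and (u_i : Y_i ⟶ X) a family of S-morphisms. For s in S let Z(s) be the closure, in the fibre f⁻¹(s)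
(with the topology induced from X), of the union of the sets u_i(Y_i) ∩ f⁻¹(s) (the images of the
fibres of the Y_i over s), and let d(s) = dim Z(s). Then for every point s of S and every
generization s' of s one has d(s) ≤ d(s'). -/
theorem result {X S : Scheme.{u}} (f : X ⟶ S) [LocallyOfFiniteType f]
    [QuasiCompact f] {ι : Type u} (Y : ι → Scheme.{u}) (g : ∀ i, Y i ⟶ S) [∀ i, UniversallyOpen (g i)]
    (v : ∀ i, Y i ⟶ X) (hv : ∀ i, v i ≫ f = g i) (s s' : S) (hs : s' ⤳ s) :
    letI d : S → WithBot ℕ∞ := fun t =>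
      topologicalKrullDim ↥(f.base ⁻¹' {t} ∩ closure ((⋃ i, Set.range (v i).base) ∩ f.base ⁻¹' {t}))
    d s ≤ d s' := by
  show topologicalKrullDim _ ≤ topologicalKrullDim _
  rw [fibre_set_dim f s _ isClosed_closure, fibre_set_dim f s' _ isClosed_closure]
  refine iSup_le fun z => ?_
  have hfz : f (f.fiberι s z.1) = s := Groth.Agent.FlatEquidim.fiberι_apply_eq f s z.1
  obtain ⟨p, n, m, hp, hpC, hn, hm, hnm⟩ := key f Y g v hv (f.fiberι s z.1) s' (by rw [hfz]; exact hs) (by rw [hfz]; exact z.2)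
  obtain ⟨n', hn1, hn2⟩ := mem_fibre_height f s z.1
  obtain rfl : n = n' := Nat.cast_injective (R := Cardinal.{u}) (hn.symm.trans hn1)
  obtain ⟨w, hw⟩ : p ∈ Set.range (f.fiberι s') := by rw [f.range_fiberι]; exact hp
  obtain ⟨m', hm1, hm2⟩ := mem_fibre_height f s' w
  rw [hw] at hm1
  obtain rfl : m = m' := Nat.cast_injective (R := Cardinal.{u}) (hm.symm.trans hm1)
  refine le_iSup_of_le ⟨w, show f.fiberι s' w ∈ _ by rw [hw]; exact hpC⟩ ?_
  rw [hn2, hm2]
  exact_mod_cast hnm

end Groth.Agent.S4972
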