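import Groth.Statements.S4973
import Mathlib
import Groth.Agent.EquidimChart.Ineq

set_option autoImplicit false
open CategoryTheory AlgebraicGeometry
universe u v w
open EGA43

namespace Groth.Agent.S4973

open CategoryTheory.Limits Groth.Agent
set_option backward.isDefEq.respectTransparency.types false

open CategoryTheory.Limits in
/-- Let Y₀ and Y be integral schemes, g : Y ⟶ Y₀ a dominant morphism, f₀ : X₀ ⟶ Y₀ a dominant morphism
whose fibre over the generic point of Y₀ is irreducible, and X'₀ an irreducible component of X₀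
meeting that generic fibre (it is unique), regarded as a reduced closed subscheme of X₀. If X = X₀
×_{Y₀} Y is an integral scheme, then the morphism X'₀ ×_{Y₀} Y ⟶ X induced by the inclusion of X'₀
is an isomorphism. -/
theorem result {X₀ Y₀ Y : Scheme.{u}} [IsIntegral Y₀] [IsIntegral Y]
    (g : Y ⟶ Y₀) [IsDominant g] (f₀ : X₀ ⟶ Y₀) [IsDominant f₀]
    (hirr : IsIrreducible (f₀.base ⁻¹' {genericPoint Y₀}))
    (C : TopologicalSpace.Closeds X₀) (hC : (C : Set X₀) ∈ irreducibleComponents (X₀ : Type u))
    (hCη : ((C : Set X₀) ∩ f₀.base ⁻¹' {genericPoint Y₀}).Nonempty) [IsIntegral (pullback f₀ g)]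
    (e₁ : ((Scheme.IdealSheafData.vanishingIdeal C).subschemeι ≫ f₀) ≫ 𝟙 Y₀ =
      (Scheme.IdealSheafData.vanishingIdeal C).subschemeι ≫ f₀) (e₂ : g ≫ 𝟙 Y₀ = 𝟙 Y ≫ g) :
    IsIso (pullback.map ((Scheme.IdealSheafData.vanishingIdeal C).subschemeι ≫ f₀) g f₀ g
      (Scheme.IdealSheafData.vanishingIdeal C).subschemeι (𝟙 Y) (𝟙 Y₀) e₁ e₂) := by
  let I := Scheme.IdealSheafData.vanishingIdeal C
  let ι := I.subschemeι
  let m : pullback (ι ≫ f₀) g ⟶ pullback f₀ g := pullback.map (ι ≫ f₀) g f₀ g ι (𝟙 Y) (𝟙 Y₀) e₁ e₂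
  have hsq : IsPullback (pullback.fst (ι ≫ f₀) g) m ι (pullback.fst f₀ g) := by
    refine IsPullback.of_bot (v₂₁ := pullback.snd f₀ g) (v₂₂ := f₀) (h₃₁ := g) ?_ (pullback.lift_fst _ _ _).symm
      (IsPullback.of_hasPullback f₀ g)
    rw [show m ≫ pullback.snd f₀ g = pullback.snd (ι ≫ f₀) g from (pullback.lift_snd _ _ _).trans (Category.comp_id _)]
    exact IsPullback.of_hasPullback (ι ≫ f₀) g
  haveI : IsClosedImmersion m := MorphismProperty.of_isPullback hsq inferInstance
  have hr : Set.range ι = (C : Set X₀) := by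
    rw [Scheme.IdealSheafData.range_subschemeι, Scheme.IdealSheafData.coe_support_vanishingIdeal]
  -- the generic point of `C` is the generic point of the generic fibre
  obtain ⟨v, hvC, hv⟩ := hCη
  have hη₀ : ∀ w : Y₀, genericPoint Y₀ ⤳ w := genericPoint_specializes
  let c := hC.1.genericPoint
  have hcl : closure ({c} : Set X₀) = (C : Set X₀) := DimTheory.component_eq_closure hC
  have hcmax := DimTheory.mem_component_isMax hC
  have hcf : f₀ c = genericPoint Y₀ := by
    have h1 := (specializes_iff_mem_closure.2 (hcl.ge hvC) : c ⤳ v).map f₀.continuous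
    rw [show f₀ v = genericPoint Y₀ from hv] at h1
    exact (h1.antisymm (hη₀ _)).eq
  have hfib : ∀ w : X₀, f₀ w = genericPoint Y₀ → w ∈ (C : Set X₀) := by
    intro w hw
    have h1 : hirr.genericPoint ∈ closure (f₀.base ⁻¹' {genericPoint Y₀}) ∧
        closure ({hirr.genericPoint} : Set X₀) = closure (f₀.base ⁻¹' {genericPoint Y₀}) :=
      ⟨hirr.isGenericPoint_genericPoint_closure.mem, hirr.isGenericPoint_genericPoint_closure⟩
    have h2 : hirr.genericPoint ⤳ c := specializes_iff_mem_closure.2 (h1.2.ge (subset_closure hcf))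
    rw [← hcl]
    have h3 : hirr.genericPoint = c := hcmax _ h2
    rw [← h3, h1.2]
    exact subset_closure hw
  have hsurj : Function.Surjective m := by
    -- a point over both generic points
    haveI : IsDominant g := inferInstance
    have hgη : g (genericPoint Y) = genericPoint Y₀ := EquidimChart.apply_genericPoint_of_dominant g
    obtain ⟨z, hz1, hz2⟩ := Scheme.Pullback.exists_preimage_pullback (f := f₀) (g := g) c (genericPoint Y)
      (hcf.trans hgη.symm)
    let ξ := genericPoint ↥(pullback f₀ g)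
    have h2 : pullback.snd f₀ g ξ = genericPoint Y := by
      have := (genericPoint_specializes z).map (pullback.snd f₀ g).continuous
      rw [hz2] at this
      exact (this.antisymm (genericPoint_specializes _)).eq
    have h3 : f₀ (pullback.fst f₀ g ξ) = genericPoint Y₀ := by
      rw [← Scheme.Hom.comp_apply, pullback.condition, Scheme.Hom.comp_apply, h2, hgη]
    obtain ⟨a, ha⟩ : pullback.fst f₀ g ξ ∈ Set.range ι := hr.symm ▸ hfib _ h3
    obtain ⟨w', -, hw2'⟩ := Scheme.Pullback.exists_preimage_pullback (f := ι) (g := pullback.fst f₀ g) a ξ ha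
    have hw2 : m (hsq.isoPullback.inv w') = ξ := by
      rw [← Scheme.Hom.comp_apply, hsq.isoPullback_inv_snd]
      exact hw2'
    let w := hsq.isoPullback.inv w'
    intro x
    exact m.isClosedEmbedding.isClosed_range.closure_subset_iff.2 (Set.singleton_subset_iff.2 ⟨w, hw2⟩)
      (specializes_iff_mem_closure.1 (genericPoint_specializes x))
  haveI : IsReduced (pullback f₀ g) := inferInstance
  haveI : Surjective m := ⟨hsurj⟩
  exact isIso_of_isClosedImmersion_of_surjective m

end Groth.Agent.S4973
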