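import Groth.Statements.S4974
import Groth.Agent.S4944
import Groth.Agent.Hensel.Split
import Groth.Agent.Hensel.Local
import Groth.Agent.NormSH.Main
import Mathlib

set_option autoImplicit false
open CategoryTheory AlgebraicGeometry
universe u v w
open EGA43

namespace Groth.Agent.S4974

set_option backward.isDefEq.respectTransparency.types false
set_option linter.style.haveILetI false


/-- Consider a complete Noetherian local domain A and put Y = Spec A. Suppose f : X ⟶ Y is locally of
finite type, and take a point x ∈ X mapping to the closed point of Y, where f is equidimensional at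
x and x is closed in the fibre containing it. Then one can find a local domain A' that contains A
and is finite as an A-algebra, together with a Y-morphism h : Spec A' ⟶ X that is an immersion and
has x in its image. -/
theorem result {A : Type u} [CommRing A] [IsDomain A]
    [IsNoetherianRing A] [IsLocalRing A] [IsAdicComplete (IsLocalRing.maximalIdeal A) A] {X : Scheme.{u}}
    (f : X ⟶ Spec (CommRingCat.of A)) [LocallyOfFiniteType f] (x : X) (hx : f.base x = IsLocalRing.closedPoint A)
    (hf : EGA43.IsEquidimAt f x) (hcl : ∀ x' : X, f.base x' = f.base x → x ⤳ x' → x' = x) :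
    ∃ (A' : Type u) (_ : CommRing A') (_ : IsDomain A') (_ : IsLocalRing A') (_ : Algebra A A') (_ : Module.Finite A A'),
      Function.Injective (algebraMap A A') ∧
      ∃ h : Spec (CommRingCat.of A') ⟶ X, h ≫ f = Spec.map (CommRingCat.ofHom (algebraMap A A')) ∧
        IsImmersion h ∧ x ∈ Set.range h.base := by
  haveI : IsDomain (CommRingCat.of A) := inferInstanceAs (IsDomain A)
  haveI : IsNoetherianRing (CommRingCat.of A) := inferInstanceAs (IsNoetherianRing A)
  haveI : HenselianLocalRing A := (Groth.Agent.Hensel.henselianLocalRing_iff_henselianRing (R := A)).2 inferInstance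
  obtain ⟨T, i, hi, hT1, hT2, ⟨wT, hwT⟩, h3, h4, h5, h6⟩ := Groth.Agent.S4944.result f x hf hcl
  haveI : AlgebraicGeometry.IsIntegral T := isIntegral_of_irreducibleSpace_of_isReduced T
  obtain ⟨T', hT', hwT', -⟩ := exists_isAffineOpen_mem_and_subset (X := T) (x := wT) (U := ⊤) trivial
  haveI : Nonempty T' := ⟨⟨wT, hwT'⟩⟩
  let B : Type u := Γ(T, T')
  let g := hT'.fromSpec ≫ i ≫ f
  let φ := Spec.preimage g
  have hφ : Spec.map φ = g := Spec.map_preimage g
  letI : Algebra A B := φ.hom.toAlgebra
  haveI : LocallyOfFiniteType g := inferInstance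
  haveI : LocallyQuasiFinite g := inferInstance
  have hft : LocallyOfFiniteType (Spec.map φ) := by rw [hφ]; infer_instance
  haveI : Algebra.FiniteType A B := ((HasRingHomProperty.Spec_iff (P := @LocallyOfFiniteType)).1 hft : φ.hom.FiniteType)
  have hqf : φ.hom.QuasiFinite := (HasRingHomProperty.Spec_iff (P := @LocallyQuasiFinite)).1 (by rw [hφ]; infer_instance)
  haveI : Algebra.QuasiFinite A B := hqf
  haveI : IsDominant hT'.fromSpec := ⟨by
    show Dense (Set.range hT'.fromSpec)
    rw [hT'.range_fromSpec]
    exact T'.isOpen.dense ⟨wT, hwT'⟩⟩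
  have hinj : Function.Injective (algebraMap A B) := by
    have hd : DenseRange (PrimeSpectrum.comap φ.hom) := (show IsDominant (Spec.map φ) by rw [hφ]; infer_instance).denseRange
    rw [PrimeSpectrum.denseRange_comap_iff_ker_le_nilRadical, show nilradical A = ⊥ from nilradical_eq_zero A, le_bot_iff] at hd
    exact (RingHom.injective_iff_ker_eq_bot _).2 hd
  let pt : PrimeSpectrum B := hT'.primeIdealOf ⟨wT, hwT'⟩
  have hpt : hT'.fromSpec pt = wT := hT'.fromSpec_primeIdealOf ⟨wT, hwT'⟩
  have hover : pt.asIdeal.LiesOver (IsLocalRing.maximalIdeal A) := ⟨by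
    have h7 : Spec.map φ pt = IsLocalRing.closedPoint A := by
      rw [hφ]
      show f (i (hT'.fromSpec pt)) = _
      rw [hpt]
      exact (congrArg f.base hwT).trans hx
    exact (congrArg PrimeSpectrum.asIdeal h7).symm⟩
  obtain ⟨e, he, hfin, hmem, -⟩ := Groth.Agent.Hensel.exists_idem_split (R := A) (S := B)
  have he' : e ∉ pt.asIdeal := hmem pt hover inferInstance
  have he1 : e = 1 := (IsIdempotentElem.iff_eq_zero_or_one.1 he).resolve_left fun h => he' (h ▸ zero_mem _)
  haveI : Module.Finite A B := by
    haveI := hfin
    have hbot : Ideal.span ({1 - e} : Set B) = ⊥ := by rw [he1, sub_self]; exact Ideal.span_singleton_eq_bot.2 rfl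
    exact Module.Finite.equiv ((Ideal.quotientEquivAlgOfEq A hbot).trans (AlgEquiv.quotientBot A B)).toLinearEquiv
  haveI : IsLocalRing B := Groth.Agent.NormSH.isLocalRing_of_isDomain_integral A B
  refine ⟨B, inferInstance, inferInstance, inferInstance, inferInstance, inferInstance, hinj, hT'.fromSpec ≫ i, ?_, inferInstance, ⟨pt, ?_⟩⟩
  · rw [Category.assoc]; exact hφ.symm
  · show i (hT'.fromSpec pt) = x
    rw [hpt]; exact hwT

end Groth.Agent.S4974
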