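import Groth.Statements.S4975
import Groth.Agent.Chevalley.SectionIsOpen
import Mathlib

set_option autoImplicit false
open CategoryTheory AlgebraicGeometry
universe u v w
open EGA43

set_option backward.isDefEq.respectTransparency.types false
namespace Groth.Agent.S4975

open Groth.Agent


/-- Let f : X ⟶ Y be a morphism locally of finite type with Y locally Noetherian, g : Y ⟶ X a section of
f, X_y^0 the connected component of f⁻¹(y) containing g y, and X^0 ⊆ X their union. Suppose every
X_y^0 is geometrically integral over κ(y) (its preimage in X_y ⊗ K is irreducible and has reduced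
local rings, for every field extension K of κ(y)). Then y ↦ dim X_y^0 is locally constant on Y if
and only if f is universally open at every point of X^0; and when this holds, X^0 is open in X. (The
published statement also lists, as a further equivalent condition, flatness of the base change of f
to the reduced closed subscheme Y_red at the points of X^0; that condition is not stated here.) -/
theorem result {X Y : Scheme.{u}}
    [IsLocallyNoetherian Y] (f : X ⟶ Y) [LocallyOfFiniteType f] (g : Y ⟶ X) (hg : g ≫ f = 𝟙 Y)
    (hint : ∀ y : Y, (∀ (K : Type u) [Field K] [Algebra (IsLocalRing.ResidueField (Y.presheaf.stalk y)) K],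
        IsIrreducible ((FBase.bcπ (f.fiberToSpecResidueField y) K ≫ f.fiberι y).base ⁻¹' connectedComponentIn (f.base ⁻¹' {y}) (g.base y)) ∧
        ∀ x' : ↥(FBase.bc (f.fiberToSpecResidueField y) K),
          (FBase.bcπ (f.fiberToSpecResidueField y) K ≫ f.fiberι y).base x' ∈ connectedComponentIn (f.base ⁻¹' {y}) (g.base y) →
          _root_.IsReduced ((FBase.bc (f.fiberToSpecResidueField y) K).presheaf.stalk x'))) :
    (IsLocallyConstant (fun y : Y => topologicalKrullDim ↥(connectedComponentIn (f.base ⁻¹' {y}) (g.base y))) ↔ ∀ x ∈ MoreMor.sectionComponents f g, EGA43.IsUnivOpenAt f x) ∧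
      (IsLocallyConstant (fun y : Y => topologicalKrullDim ↥(connectedComponentIn (f.base ⁻¹' {y}) (g.base y))) → IsOpen (MoreMor.sectionComponents f g)) := by
  have hgi := fun (y : Y) (K : Type u) [Field K] [Algebra (IsLocalRing.ResidueField (Y.presheaf.stalk y)) K] =>
    (hint y K).1
  have hirr : ∀ z : Y, IsIrreducible (connectedComponentIn (f.base ⁻¹' {z}) (g.base z)) := fun z =>
    Chevalley.isIrreducible_of_geom f (connectedComponentIn_subset _ _) (hgi z)
  have hfg : ∀ a : Y, f (g a) = a := fun a => by rw [← Scheme.Hom.comp_apply, hg]; rfl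
  have hred : ∀ (y : Y) (x : X), x ∈ connectedComponentIn (f.base ⁻¹' {y}) (g.base y) → Chevalley.RedAlong f g y x :=
    fun y x hx K _ _ b hb => (hint y K).2 b (by rw [hb]; exact hx)
  have hloc : IsLocallyConstant (fun y : Y => topologicalKrullDim ↥(connectedComponentIn (f.base ⁻¹' {y}) (g.base y))) →
      ∀ y : Y, ∀ x ∈ connectedComponentIn (f.base ⁻¹' {y}) (g.base y), EGA43.IsUnivOpenAt f x := by
    intro hc y x hx
    exact Chevalley.isUnivOpenAt_component f g hg hgi
      ⟨_, (IsLocallyConstant.iff_eventually_eq _).1 hc y, fun z hz => hz⟩ hx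
  refine ⟨⟨fun hc x hx => hloc hc _ x hx, fun hop => ?_⟩, fun hc => ?_⟩
  · refine (IsLocallyConstant.iff_eventually_eq _).2 fun y => ?_
    have hop' : ∀ x ∈ connectedComponentIn (f.base ⁻¹' {y}) (g.base y), EGA43.IsUnivOpenAt f x := fun x hx => by
      refine hop x ?_
      show x ∈ connectedComponentIn (f.base ⁻¹' {f x}) (g.base (f x))
      rwa [show f x = y from connectedComponentIn_subset (f.base ⁻¹' {y}) _ hx]
    obtain ⟨V, hV, hVeq⟩ := Chevalley.eventually_dim_eq f g hg hirr y fun y' hy =>
      Chevalley.dim_component_le_generization f g hg hgi (fun x hx _ => hop' x hx)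
        (hred y _ (mem_connectedComponentIn (hfg y))) hy
    exact Filter.eventually_iff_exists_mem.2 ⟨V, hV, hVeq⟩
  · haveI : IsLocallyNoetherian X := LocallyOfFiniteType.isLocallyNoetherian f
    refine Chevalley.isOpen_of_generizations (fun a b hab hb => ?_) fun a ha =>
      Chevalley.exists_nhd_inter_closure f g hg a ha (hgi _)
    obtain ⟨O, hOc, hO, hbO⟩ := mem_nhds_iff.1 ((IsLocallyConstant.iff_eventually_eq _).1 hc (f b))
    exact Chevalley.mem_sectionComponents_of_specializes f g hg hgi hab hb
      (hOc ((hab.map f.continuous).mem_open hO hbO)) (fun x hx _ => hloc hc _ x hx) (hred _ _ hb)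

end Groth.Agent.S4975
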