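import Groth.Statements.S4978
import Groth.Agent.ProperNear.Main
import Mathlib

set_option autoImplicit false
open CategoryTheory AlgebraicGeometry
universe u v w
open EGA43

namespace Groth.Agent.S4978

open Groth.Agent.ProperNear IsLocalRing CategoryTheory.Limits
set_option backward.isDefEq.respectTransparency.types false
set_option linter.style.haveILetI false
set_option maxHeartbeats 800000

theorem exists_residue {K : Type u} [Field K] {Y : Scheme.{u}} (α : Spec (CommRingCat.of K) ⟶ Y) {p : Y}
    (h : α (closedPoint K) = p) : ∃ φ : Y.residueField p ⟶ CommRingCat.of K, Spec.map φ ≫ Y.fromSpecResidueField p = α := by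
  subst h
  exact ⟨_, Scheme.descResidueField_stalkClosedPointTo_fromSpecResidueField K Y α⟩

theorem residue_surjective {R K : Type u} [CommRing R] [Field K] [Algebra R K] [IsFractionRing R K]
    {p : ↥(Spec (CommRingCat.of R))} (φ : (Spec (CommRingCat.of R)).residueField p ⟶ CommRingCat.of K)
    (h : Spec.map φ ≫ (Spec (CommRingCat.of R)).fromSpecResidueField p = Spec.map (CommRingCat.ofHom (algebraMap R K))) :
    Function.Surjective φ.hom := by
  intro z
  obtain ⟨a, b, -, rfl⟩ := IsFractionRing.div_surjective R z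
  let ψ := Spec.preimage ((Spec (CommRingCat.of R)).fromSpecResidueField p)
  rw [← Spec.map_preimage ((Spec (CommRingCat.of R)).fromSpecResidueField p), ← Spec.map_comp] at h
  have h' : ∀ r, φ.hom (ψ.hom r) = algebraMap R K r := fun r => congr($(Spec.map_injective h).hom r)
  exact ⟨ψ.hom a / ψ.hom b, by rw [map_div₀, h', h']⟩

theorem eq_genericPoint {R K : Type u} [CommRing R] [IsDomain R] [Field K] [Algebra R K] [IsFractionRing R K] :
    Spec.map (CommRingCat.ofHom (algebraMap R K)) (closedPoint K) = genericPoint (Spec (CommRingCat.of R)) := by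
  rw [genericPoint_eq_bot_of_affine]
  refine PrimeSpectrum.ext ?_
  show Ideal.comap (algebraMap R K) (maximalIdeal K) = ⊥
  rw [IsLocalRing.maximalIdeal_eq_bot, ← RingHom.ker_eq_comap_bot]
  exact (RingHom.injective_iff_ker_eq_bot _).1 (IsFractionRing.injective R K)


open CategoryTheory.Limits in
/-- Let Y be a Noetherian scheme, f : X ⟶ Y a separated morphism of finite type, Z a subset of X such
that every maximal point of the closure of Z belongs to Z, and y a point of Y. Then the closure of Z
is proper over Y at y (for some open U ∋ y, its trace on f⁻¹(U) is proper over U with the reduced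
structure) if and only if: for every discrete valuation ring A' and every morphism g : Spec A' ⟶ Y
mapping the closed point to y, every point x' of X' = X ×_Y Spec A' which projects into Z, lies over
the generic point η' of Spec A' and is rational over κ(η') is in the image of some section of X' ⟶
Spec A'. -/
theorem result {X Y : Scheme.{u}} [IsNoetherian Y] (f : X ⟶ Y) [IsSeparated f]
    [LocallyOfFiniteType f] [QuasiCompact f] (Z : Set X)
    (hZ : ∀ z ∈ closure Z, (∀ z' ∈ closure Z, z ∈ closure {z'} → z' = z) → z ∈ Z) (y : Y) :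
    (∃ U : Y.Opens, y ∈ U ∧ ∃ hC : IsClosed ((f ⁻¹ᵁ U).ι.base ⁻¹' closure Z),
      IsProper ((Scheme.IdealSheafData.vanishingIdeal
        (⟨(f ⁻¹ᵁ U).ι.base ⁻¹' closure Z, hC⟩ : TopologicalSpace.Closeds ↥(f ⁻¹ᵁ U))).subschemeι ≫ (f ∣_ U))) ↔
      ∀ (A' : Type u) [CommRing A'] [IsDomain A'] [IsDiscreteValuationRing A'] (g : Spec (CommRingCat.of A') ⟶ Y),
        g.base (IsLocalRing.closedPoint A') = y →
        ∀ x' : ↥(pullback f g), (pullback.fst f g).base x' ∈ Z →
          (pullback.snd f g).base x' = genericPoint (Spec (CommRingCat.of A')) →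
          Function.Bijective ((pullback.snd f g).residueFieldMap x').hom →
          ∃ s : Spec (CommRingCat.of A') ⟶ pullback f g, s ≫ pullback.snd f g = 𝟙 _ ∧ x' ∈ Set.range s.base := by
  let W : TopologicalSpace.Closeds X := ⟨closure Z, isClosed_closure⟩
  let I := Scheme.IdealSheafData.vanishingIdeal W
  have hrI : Set.range I.subschemeι = closure Z := Groth.Agent.EquidimChart.range_subschemeι_vanishingIdeal W
  have hiso : ∀ (U : Y.Opens) (hC : IsClosed ((f ⁻¹ᵁ U).ι.base ⁻¹' closure Z)),
      IsProper ((Scheme.IdealSheafData.vanishingIdeal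
        (⟨(f ⁻¹ᵁ U).ι.base ⁻¹' closure Z, hC⟩ : TopologicalSpace.Closeds ↥(f ⁻¹ᵁ U))).subschemeι ≫ (f ∣_ U)) ↔
      IsProper ((I.subschemeι ≫ f) ∣_ U) := by
    intro U hC
    let J := Scheme.IdealSheafData.vanishingIdeal (X := (f ⁻¹ᵁ U : Scheme.{u}))
        (⟨(f ⁻¹ᵁ U).ι.base ⁻¹' closure Z, hC⟩ : TopologicalSpace.Closeds ↥(f ⁻¹ᵁ U))
    have hrJ : Set.range J.subschemeι = (f ⁻¹ᵁ U).ι.base ⁻¹' closure Z :=
      Groth.Agent.EquidimChart.range_subschemeι_vanishingIdeal _
    let j := I.subschemeι ∣_ (f ⁻¹ᵁ U)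
    haveI : IsClosedImmersion j := IsZariskiLocalAtTarget.restrict (P := @IsClosedImmersion) (inferInstance : IsClosedImmersion I.subschemeι) _
    have hrj : Set.range j = (f ⁻¹ᵁ U).ι.base ⁻¹' closure Z := by
      ext v
      constructor
      · rintro ⟨w, rfl⟩
        show (f ⁻¹ᵁ U).ι (j w) ∈ closure Z
        rw [← Scheme.Hom.comp_apply, morphismRestrict_ι, ← hrI]
        exact ⟨_, rfl⟩
      · intro hv
        obtain ⟨w, hw⟩ : v.1 ∈ Set.range I.subschemeι := by rw [hrI]; exact hv
        exact ⟨⟨w, show I.subschemeι w ∈ f ⁻¹ᵁ U from hw.symm ▸ v.2⟩,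
          Subtype.ext (by rw [morphismRestrict_base_coe]; exact hw)⟩
    haveI : _root_.AlgebraicGeometry.IsReduced (I.subschemeι ⁻¹ᵁ (f ⁻¹ᵁ U) : Scheme.{u}) :=
      isReduced_of_isOpenImmersion (I.subschemeι ⁻¹ᵁ (f ⁻¹ᵁ U)).ι
    obtain ⟨a, ha⟩ := Groth.Agent.RedSepLib.exists_lift_of_range_subset j J.subschemeι (by rw [hrj, hrJ])
    obtain ⟨b, hb⟩ := Groth.Agent.RedSepLib.exists_lift_of_range_subset J.subschemeι j (by rw [hrj, hrJ])
    have hab : a ≫ b = 𝟙 _ := by rw [← cancel_mono j, Category.assoc, hb, ha, Category.id_comp]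
    have hba : b ≫ a = 𝟙 _ := by rw [← cancel_mono J.subschemeι, Category.assoc, ha, hb, Category.id_comp]
    haveI : IsIso b := ⟨a, hba, hab⟩
    rw [morphismRestrict_comp]
    refine Iff.trans (Iff.symm ?_) (MorphismProperty.cancel_left_of_respectsIso @IsProper b (j ≫ (f ∣_ U)))
    rw [reassoc_of% hb]
  constructor
  · rintro ⟨U, hy, hC, hP⟩ R _ _ _ g hg x' hxZ hgen hbij
    haveI := (hiso U hC).1 hP
    let K := FractionRing R
    have hp : Spec.map (CommRingCat.ofHom (algebraMap R K)) (closedPoint K) = (pullback.snd f g) x' :=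
      eq_genericPoint.trans hgen.symm
    obtain ⟨φ, hφ⟩ := exists_residue (Spec.map (CommRingCat.ofHom (algebraMap R K))) hp
    haveI : IsIso ((pullback.snd f g).residueFieldMap x') :=
      (ConcreteCategory.isIso_iff_bijective _).2 hbij
    let σ0 := Spec.map φ ≫ Spec.map (inv ((pullback.snd f g).residueFieldMap x')) ≫ (pullback f g).fromSpecResidueField x'
    have hσ0 : σ0 ≫ pullback.snd f g = Spec.map (CommRingCat.ofHom (algebraMap R K)) := by
      simp only [σ0, Category.assoc]
      rw [← Scheme.Hom.SpecMap_residueFieldMap_fromSpecResidueField,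
        ← Spec.map_comp_assoc ((pullback.snd f g).residueFieldMap x'), IsIso.hom_inv_id,
        Spec.map_id, Category.id_comp]
      exact hφ
    have hσ0x : σ0 (closedPoint K) = x' := by
      simp only [σ0, Scheme.Hom.comp_apply]
      exact Scheme.fromSpecResidueField_apply _ _
    obtain ⟨σ, hσ⟩ := Groth.Agent.RedSepLib.exists_lift_of_range_subset (σ0 ≫ pullback.fst f g) I.subschemeι (by
      rintro _ ⟨p, rfl⟩
      rw [Subsingleton.elim p (closedPoint K), Scheme.Hom.comp_apply, hσ0x, hrI]
      exact subset_closure hxZ)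
    obtain ⟨s, hs1, hs2⟩ := dvrLiftAt_of_isProper (I.subschemeι ≫ f) hy (fun _ => True) R K g σ hg
      (by rw [← hσ0, reassoc_of% hσ, pullback.condition]; simp only [Category.assoc]) trivial
    refine ⟨pullback.lift (s ≫ I.subschemeι) (𝟙 _) (by rw [Category.assoc, hs1, Category.id_comp]),
      pullback.lift_snd _ _ _, Spec.map (CommRingCat.ofHom (algebraMap R K)) (closedPoint K), ?_⟩
    show (pullback.lift (s ≫ I.subschemeι) (𝟙 _) _) _ = x'
    rw [← Scheme.Hom.comp_apply, ← hσ0x]
    refine congrArg (fun m : Spec (CommRingCat.of K) ⟶ pullback f g => m (closedPoint K)) ?_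
    apply pullback.hom_ext
    · rw [Category.assoc, pullback.lift_fst, reassoc_of% hs2, hσ]
    · rw [Category.assoc, pullback.lift_snd, Category.comp_id, hσ0]
  · intro H
    haveI : IsLocallyNoetherian X := LocallyOfFiniteType.isLocallyNoetherian f
    obtain ⟨U, hy, hU⟩ := exists_isProper_nhd (I.subschemeι ≫ f) y (by
      intro R K _ _ _ _ _ _ g σ hg hσ hmax
      let σ0 := pullback.lift (σ ≫ I.subschemeι) (Spec.map (CommRingCat.ofHom (algebraMap R K)))
        (by rw [Category.assoc]; exact hσ)
      have hσ0 : σ0 ≫ pullback.snd f g = Spec.map (CommRingCat.ofHom (algebraMap R K)) := pullback.lift_snd _ _ _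
      have hσ1 : σ0 ≫ pullback.fst f g = σ ≫ I.subschemeι := pullback.lift_fst _ _ _
      obtain ⟨θ, hθ⟩ := exists_residue σ0 (p := σ0 (closedPoint K)) rfl
      let x' := σ0 (closedPoint K)
      have hφ : Spec.map ((pullback.snd f g).residueFieldMap x' ≫ θ) ≫
          (Spec (CommRingCat.of R)).fromSpecResidueField _ = Spec.map (CommRingCat.ofHom (algebraMap R K)) := by
        rw [Spec.map_comp, Category.assoc, Scheme.Hom.SpecMap_residueFieldMap_fromSpecResidueField, reassoc_of% hθ, hσ0]
      have hsurj := residue_surjective _ hφ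
      have hbij : Function.Bijective ((pullback.snd f g).residueFieldMap x').hom := by
        refine ⟨((pullback.snd f g).residueFieldMap x').hom.injective, fun z => ?_⟩
        obtain ⟨w, hw⟩ := hsurj (θ.hom z)
        exact ⟨w, θ.hom.injective hw⟩
      have hxZ : (pullback.fst f g) x' ∈ Z := by
        rw [← Scheme.Hom.comp_apply, hσ1, Scheme.Hom.comp_apply]
        refine hZ _ (hrI.le ⟨_, rfl⟩) fun z' hz' hcl => ?_
        obtain ⟨w, rfl⟩ : z' ∈ Set.range I.subschemeι := hrI.ge hz'
        rw [hmax w (I.subschemeι.isEmbedding.isInducing.specializes_iff.1 (specializes_iff_mem_closure.2 hcl))]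
      have hgen : (pullback.snd f g) x' = genericPoint (Spec (CommRingCat.of R)) := by
        rw [← Scheme.Hom.comp_apply, hσ0]; exact eq_genericPoint
      obtain ⟨s, hs, q, hq⟩ := H R g hg x' hxZ hgen hbij
      have hqη : q = Spec.map (CommRingCat.ofHom (algebraMap R K)) (closedPoint K) := by
        rw [eq_genericPoint, ← hgen, ← hq, ← Scheme.Hom.comp_apply, hs]; rfl
      subst hqη
      have hkey : Spec.map (CommRingCat.ofHom (algebraMap R K)) ≫ s = σ0 := by
        obtain ⟨θ', hθ'⟩ := exists_residue (Spec.map (CommRingCat.ofHom (algebraMap R K)) ≫ s) (p := x')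
          (by rw [Scheme.Hom.comp_apply]; exact hq)
        have hφ' : Spec.map ((pullback.snd f g).residueFieldMap x' ≫ θ') ≫
            (Spec (CommRingCat.of R)).fromSpecResidueField _ = Spec.map (CommRingCat.ofHom (algebraMap R K)) := by
          rw [Spec.map_comp, Category.assoc, Scheme.Hom.SpecMap_residueFieldMap_fromSpecResidueField, reassoc_of% hθ',
            hs, Category.comp_id]
        have h2 := Spec.map_injective ((cancel_mono _).1 (hφ'.trans hφ.symm))
        have h3 : θ' = θ := CommRingCat.hom_ext (RingHom.ext fun z => by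
          obtain ⟨w, rfl⟩ := hbij.2 z
          exact congr($(h2).hom w))
        rw [← hθ', h3, hθ]
      obtain ⟨s', hs'⟩ := Groth.Agent.RedSepLib.exists_lift_of_range_subset (s ≫ pullback.fst f g) I.subschemeι (by
        rintro _ ⟨p, rfl⟩
        refine ((specializes_closedPoint_dominant (K := K) p).map (s ≫ pullback.fst f g).continuous).mem_closed
          I.subschemeι.isClosedEmbedding.isClosed_range ?_
        rw [← Scheme.Hom.comp_apply, reassoc_of% hkey, hσ1, Scheme.Hom.comp_apply]
        exact ⟨_, rfl⟩)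
      refine ⟨s', by rw [reassoc_of% hs', pullback.condition, reassoc_of% hs], ?_⟩
      rw [← cancel_mono I.subschemeι, Category.assoc, hs', reassoc_of% hkey, hσ1])
    exact ⟨U, hy, isClosed_closure.preimage (f ⁻¹ᵁ U).ι.continuous, (hiso U _).2 hU⟩

end Groth.Agent.S4978
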