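import Groth.Statements.S4985
import Groth.Agent.EquidimChart.ChainIneq
import Groth.Agent.EquidimChart.Comp
import Mathlib


set_option autoImplicit false
open CategoryTheory AlgebraicGeometry
universe u v w
open EGA43

namespace Groth.Agent.S4985

open Groth.Agent.EquidimChart Groth.Agent.DimTheory
set_option backward.isDefEq.respectTransparency.types false
set_option maxHeartbeats 1000000

theorem le_coheight_of_chain {X Z : Scheme.{u}} (i : Z ⟶ X) [IsPreimmersion i] {z : Z} (s : LTSeries X)
    (hs1 : s.head = i z) (hs : ∀ j, s j ∈ Set.range i) : (s.length : ℕ∞) ≤ Order.coheight z := by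
  choose w hw using hs
  have hmono : StrictMono w := fun a b hab => by
    have h1 : s a < s b := s.strictMono hab
    have h2 : w b ⤳ w a := i.isEmbedding.isInducing.specializes_iff.1 (by rw [hw, hw]; exact h1.le)
    exact Groth.Agent.FlatDim.lt_of_specializes_of_ne h2 fun h => h1.ne (by rw [← hw, ← hw, h])
  have hw0 : w 0 = z := i.isEmbedding.injective (by rw [hw]; exact hs1)
  rw [← hw0]
  exact Order.length_le_coheight_head (p := LTSeries.mk s.length w hmono)



/-- Let Y be a locally Noetherian scheme, f : X ⟶ Y a morphism of finite type, x a point of X with y = f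
x, X' an irreducible closed subset of X containing x, regarded as a reduced closed subscheme, and Y'
the closure of f(X') regarded as a reduced closed subscheme of Y, with generic point η'. Write A, B,
A', B' for the local rings of Y at y, of X at x, of Y' at y and of X' at x, and B ⊗ κ(y), B' ⊗ κ(y)
for the local rings at x of the fibres over y of X and of X'. Then dim B' = dim A + dim(B ⊗ κ(y)) if
and only if all of the following hold: (i) dim A' = dim A; (ii) dim(B' ⊗ κ(y)) = dim(B ⊗ κ(y));
(iii) X' is equidimensional over Y' at x, i.e. the local dimension at x of the fibre of X' over y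
equals dim(X' ∩ f⁻¹(η')); (iv) dim B' = dim A' + dim(B' ⊗ κ(y)) (the published (iv) carries the
correction term dim_x − dim of (iii), which vanishes under (iii)). -/
theorem result {X Y : Scheme.{u}} [IsLocallyNoetherian Y] (f : X ⟶ Y)
    [LocallyOfFiniteType f] [QuasiCompact f] (x : X) (X' : TopologicalSpace.Closeds X) (hirr : IsIrreducible (X' : Set X))
    (hx : x ∈ X') (w : ↥(Scheme.IdealSheafData.vanishingIdeal X').subscheme)
    (hw : (Scheme.IdealSheafData.vanishingIdeal X').subschemeι.base w = x)
    (v : ↥(Scheme.IdealSheafData.vanishingIdeal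
      (⟨closure (f.base '' (X' : Set X)), isClosed_closure⟩ : TopologicalSpace.Closeds Y)).subscheme)
    (hv : (Scheme.IdealSheafData.vanishingIdeal
      (⟨closure (f.base '' (X' : Set X)), isClosed_closure⟩ : TopologicalSpace.Closeds Y)).subschemeι.base v = f.base x)
    (η' : Y) (hη' : closure ({η'} : Set Y) = closure (f.base '' (X' : Set X))) :
    letI ιX := (Scheme.IdealSheafData.vanishingIdeal X').subschemeι
    letI dA := ringKrullDim (Y.presheaf.stalk (f.base x))
    letI dB := ringKrullDim (X.presheaf.stalk x)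
    letI dA' := ringKrullDim ((Scheme.IdealSheafData.vanishingIdeal
      (⟨closure (f.base '' (X' : Set X)), isClosed_closure⟩ : TopologicalSpace.Closeds Y)).subscheme.presheaf.stalk v)
    letI dB' := ringKrullDim ((Scheme.IdealSheafData.vanishingIdeal X').subscheme.presheaf.stalk w)
    letI dBk := ringKrullDim ((f.fiber (f.base x)).presheaf.stalk (f.asFiber x))
    letI dB'k := ringKrullDim (((ιX ≫ f).fiber ((ιX ≫ f).base w)).presheaf.stalk ((ιX ≫ f).asFiber w))
    letI e' := topologicalKrullDim ↥((X' : Set X) ∩ f.base ⁻¹' {η'})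
    (dB' = dA + dBk ↔
      (dA' = dA ∧ dB'k = dBk ∧ FlatMor.fibreDimAt (ιX ≫ f) w = e' ∧ dB' = dA' + dB'k)) := by
  haveI : IsLocallyNoetherian X := LocallyOfFiniteType.isLocallyNoetherian f
  let I := Scheme.IdealSheafData.vanishingIdeal X'
  let Yc : TopologicalSpace.Closeds Y := ⟨closure (f.base '' (X' : Set X)), isClosed_closure⟩
  let J := Scheme.IdealSheafData.vanishingIdeal Yc
  haveI : IsLocallyNoetherian I.subscheme := LocallyOfFiniteType.isLocallyNoetherian I.subschemeι
  haveI : IsLocallyNoetherian J.subscheme := LocallyOfFiniteType.isLocallyNoetherian J.subschemeι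
  have hWc : (X' : Set X) = closure {hirr.genericPoint} :=
    (hirr.closure_genericPoint X'.isClosed).symm
  obtain ⟨_, hgen⟩ := genericPoint_component X' hWc
  let ξ := hirr.genericPoint
  have himg : closure (f.base '' (X' : Set X)) = closure {f ξ} := by
    conv_lhs => rw [hWc]
    rw [closure_image_closure f.continuous, Set.image_singleton]
  obtain rfl : η' = f ξ := ((inseparable_iff_closure_eq).2 (hη'.trans himg)).eq
  obtain ⟨e, he, -⟩ := height_asFiber f ξ
  have he' : topologicalKrullDim ↥((X' : Set X) ∩ f.base ⁻¹' {f ξ}) = (e : WithBot ℕ∞) :=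
    (dim_inter f X' (f ξ)).trans (dim_fiber_generic (I.subschemeι ≫ f) (congrArg f hgen)
      (by rw [mapTrdeg_component, hgen, he]))
  obtain ⟨D, hD⟩ := Groth.Agent.LeadFCat.exists_dim (X.presheaf.stalk x)
  obtain ⟨d, hd⟩ := Groth.Agent.LeadFCat.exists_dim (Y.presheaf.stalk (f x))
  obtain ⟨a, ha⟩ := Groth.Agent.LeadFCat.exists_dim (I.subscheme.presheaf.stalk w)
  obtain ⟨a', ha'⟩ := Groth.Agent.LeadFCat.exists_dim (J.subscheme.presheaf.stalk v)
  obtain ⟨t, ht, -⟩ := height_asFiber f x
  obtain ⟨_, N, -, -, -, hdim⟩ := exists_fibreMax f x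
  obtain ⟨z', N', hz', hzmax, hn', hdim'⟩ := exists_fibreMax (I.subschemeι ≫ f) w
  have hloc : FlatMor.localDim ↥((X' : Set X) ∩ f.base ⁻¹' {f.base x}) ⟨x, ⟨hx, rfl⟩⟩ = (N' : WithBot ℕ∞) :=
    (localDim_inter f X' w hw rfl ⟨hx, rfl⟩).trans hdim'
  have htw : mapTrdeg (I.subschemeι ≫ f) w = t := by rw [mapTrdeg_component]; exact hw ▸ ht
  -- fibre dimensions
  have hcf : ∀ {X₀ : Scheme.{u}} (g : X₀ ⟶ Y) [LocallyOfFiniteType g] (p : X₀) (M : ℕ), mapTrdeg g p = t →
      FlatMor.fibreDimAt g p = (M : WithBot ℕ∞) →
      ∃ c : ℕ, ringKrullDim ((g.fiber (g p)).presheaf.stalk (g.asFiber p)) = (c : WithBot ℕ∞) ∧ M = c + t := by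
    intro X₀ g _ p M h1 h2
    haveI : LocallyOfFiniteType (g.fiberToSpecResidueField (g p)) := MorphismProperty.pullback_snd _ _ ‹_›
    have hfib := Groth.Agent.AlgSpDesc.fibreDimAt_eq_stalk_add_resTrdeg g p
    rw [h2, show Dual3.resTrdeg g p = mapTrdeg g p from rfl, h1, map_natCast, ringKrullDim_stalk_eq_coheight] at hfib
    obtain ⟨c0, hc0⟩ := ENat.ne_top_iff_exists.1
      (coheight_lt_top (k := Y.residueField (g p)) (g.fiberToSpecResidueField (g p)) (g.asFiber p)).ne
    rw [← hc0] at hfib
    exact ⟨c0, by rw [ringKrullDim_stalk_eq_coheight, ← hc0]; rfl, by exact_mod_cast hfib⟩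
  obtain ⟨c, hc, hNc⟩ := hcf f x N ht hdim
  obtain ⟨c', hc', hNc'⟩ := hcf (I.subschemeι ≫ f) w N' htw hdim'
  show (ringKrullDim (I.subscheme.presheaf.stalk w) = ringKrullDim (Y.presheaf.stalk (f x)) +
      ringKrullDim ((f.fiber (f x)).presheaf.stalk (f.asFiber x))) ↔
    (ringKrullDim (J.subscheme.presheaf.stalk v) = ringKrullDim (Y.presheaf.stalk (f x)) ∧
      ringKrullDim (((I.subschemeι ≫ f).fiber ((I.subschemeι ≫ f) w)).presheaf.stalk ((I.subschemeι ≫ f).asFiber w)) =
        ringKrullDim ((f.fiber (f x)).presheaf.stalk (f.asFiber x)) ∧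
      FlatMor.fibreDimAt (I.subschemeι ≫ f) w = topologicalKrullDim ↥((X' : Set X) ∩ f.base ⁻¹' {f ξ}) ∧
      ringKrullDim (I.subscheme.presheaf.stalk w) = ringKrullDim (J.subscheme.presheaf.stalk v) +
        ringKrullDim (((I.subschemeι ≫ f).fiber ((I.subschemeι ≫ f) w)).presheaf.stalk ((I.subschemeι ≫ f).asFiber w)))
  rw [hd, hc, ha', hdim', he', ha, hc']
  constructor
  · intro h
    have h0 : a = d + c := by exact_mod_cast h
    have hN : N' ≤ N := by
      rw [mapTrdeg_component] at hn'
      have hz'x : I.subschemeι z' ⤳ x := hw ▸ hz'.map I.subschemeι.continuous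
      have := (le_fibreDimAt f hn').trans (hz'x.mem_open (Groth.Agent.FibreDimChart.isOpen_fibreDimAt_le f N) hdim.le)
      exact_mod_cast this
    have heN : e ≤ N' := le_of_specializes (I.subschemeι ≫ f) (genericPoint_specializes w)
      (fun b hb _ => Groth.Agent.FlatDim.genericPoint_isMax b hb) (by rw [mapTrdeg_component, hgen, he]) hdim'.le
    rw [ringKrullDim_stalk_eq_coheight] at ha ha' hd
    obtain ⟨s, hs1, hs2⟩ := Order.exists_series_of_le_coheight w (WithBot.coe_injective ha).ge
    obtain ⟨r, hr1, hr2, hr3⟩ := chain_ineq f (x := x) (ξ := ξ) ht he (s.map _ (strictMono_immersion I.subschemeι))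
      (by rw [LTSeries.head_map, hs1]; exact hw)
      (by rw [LTSeries.last_map, show ξ = _ from hgen.symm]; exact (genericPoint_specializes s.last).map I.subschemeι.continuous)
    have hrd : r.length ≤ d := by
      have h7 := Order.length_le_coheight_head (p := r)
      rw [hr1, WithBot.coe_injective hd] at h7
      exact_mod_cast h7
    change s.length + t ≤ r.length + e at hr3
    have hJr : Set.range J.subschemeι = closure {f ξ} := (range_subschemeι_vanishingIdeal Yc).trans himg
    have hra : r.length ≤ a' := by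
      have h7 := le_coheight_of_chain J.subschemeι r (z := v) (hr1.trans hv.symm) fun j => by
        rw [hJr]
        exact specializes_iff_mem_closure.1 (hr2.trans (show r.last ⤳ r j from r.monotone (Fin.le_last j)))
      rw [WithBot.coe_injective ha'] at h7
      exact_mod_cast h7
    have had : a' ≤ d := by
      have h7 := coheight_subscheme_le J.subschemeι v
      rw [show J.subschemeι v = f x from hv, WithBot.coe_injective hd, WithBot.coe_injective ha'] at h7
      exact_mod_cast h7
    refine ⟨?_, ?_, ?_, ?_⟩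
    · exact_mod_cast (show a' = d by omega)
    · exact_mod_cast (show c' = c by omega)
    · exact_mod_cast (show N' = e by omega)
    · exact_mod_cast (show a = a' + c' by omega)
  · rintro ⟨h1, h2, h3, h4⟩
    have h1' : a' = d := by exact_mod_cast h1
    have h2' : c' = c := by exact_mod_cast h2
    have h4' : a = a' + c' := by exact_mod_cast h4
    exact_mod_cast (show a = d + c by omega)

end Groth.Agent.S4985
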