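import Groth.Statements.S4988
import Groth.Agent.Unram.Equalizer


set_option autoImplicit false
universe u
open CategoryTheory CategoryTheory.Limits AlgebraicGeometry TopologicalSpace
open Unram17

namespace Groth.Agent.S4988

/-- Let h : Y ⟶ S be formally unramified, locally of finite type and separated, let f, g : X ⟶ Y be
morphisms over S whose common composite X ⟶ S is both open and closed as a map of topological
spaces, and let s be a point of S. If f and g have the same restriction to the scheme-theoretic
fibre of X over s, then there is an open and closed subset V of S containing s such that f and g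
agree on the preimage of V; in particular f = g when S is connected. -/
theorem result {X Y S : Scheme.{u}} (h : Y ⟶ S)
    [FormallyUnramified h] [LocallyOfFiniteType h] [IsSeparated h]
    (f g : X ⟶ Y) (w : g ≫ h = f ≫ h)
    (ho : IsOpenMap (f ≫ h).base) (hc : IsClosedMap (f ≫ h).base) (s : ↥S)
    (hs : (f ≫ h).fiberι s ≫ f = (f ≫ h).fiberι s ≫ g) :
    ∃ V : S.Opens, IsClosed (V : Set ↥S) ∧ s ∈ V ∧
      ((f ≫ h) ⁻¹ᵁ V).ι ≫ f = ((f ≫ h) ⁻¹ᵁ V).ι ≫ g := by
  let E := Set.range (Groth.Agent.Unram.agreeι h f g w)
  have hE : IsOpen E := (Groth.Agent.Unram.agreeι h f g w).isOpenEmbedding.isOpen_range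
  have : IsClosedImmersion (Groth.Agent.Unram.agreeι h f g w) :=
    MorphismProperty.pullback_fst _ _ inferInstance
  have hE' : IsClosed E := (Groth.Agent.Unram.agreeι h f g w).isClosedEmbedding.isClosed_range
  refine ⟨⟨((f ≫ h).base '' Eᶜ)ᶜ, (hc _ hE.isClosed_compl).isOpen_compl⟩,
    (ho _ hE'.isOpen_compl).isClosed_compl, ?_,
    Groth.Agent.Unram.eq_on_nhd_of_fibre h f g w _ fun x hx => ?_⟩
  · rintro ⟨x, hx, hxs⟩
    exact hx (Groth.Agent.Unram.fibre_subset_agree h f g w s hs x hxs)
  · by_contra hx'
    exact hx ⟨x, hx', rfl⟩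

end Groth.Agent.S4988
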