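import Groth.Statements.S4997
import Groth.Agent.S3830
import Mathlib.AlgebraicGeometry.Morphisms.Etale
import Mathlib.AlgebraicGeometry.Morphisms.QuasiFinite


set_option autoImplicit false
universe u
open CategoryTheory CategoryTheory.Limits AlgebraicGeometry TopologicalSpace
open Unram17

namespace Groth.Agent.S4997

/-- A morphism of schemes is etale if and only if it is smooth and locally quasi-finite. -/
theorem result {X Y : Scheme.{u}} (f : X ⟶ Y) :
    Etale f ↔ Smooth f ∧ LocallyQuasiFinite f := by
  rw [HasRingHomProperty.iff_appLE (P := @Etale), HasRingHomProperty.iff_appLE (P := @Smooth),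
    HasRingHomProperty.iff_appLE (P := @LocallyQuasiFinite)]
  refine ⟨fun h => ⟨fun U V e => ?_, fun U V e => ?_⟩, fun h U V e => ?_⟩
  · have := h U V e
    algebraize [(f.appLE U V e).hom]
    change Algebra.Smooth _ _
    infer_instance
  · have := h U V e
    algebraize [(f.appLE U V e).hom]
    change Algebra.QuasiFinite _ _
    infer_instance
  · have h₁ := h.1 U V e
    have h₂ := h.2 U V e
    algebraize [(f.appLE U V e).hom]
    change Algebra.Etale _ _
    rw [← Algebra.etaleLocus_eq_univ_iff_etale, Set.eq_univ_iff_forall]
    intro q
    exact Groth.Agent.S3830.result _ _ q.asIdeal (inferInstance : Algebra.FormallySmooth _ _)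

end Groth.Agent.S4997
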