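import Groth.Statements.S4998
import Mathlib.RingTheory.Etale.Field
import Mathlib.RingTheory.Unramified.Field


set_option autoImplicit false
universe u
open Unram17 Polynomial

namespace Groth.Agent.S4998

/-- Let A be an algebra of finite type over a field k. Then A is formally unramified over k if and only
if A is finite over k and every element of A has separable minimal polynomial over k (equivalently,
A is a finite product of finite separable extensions of k). -/
theorem result (k A : Type u) [Field k] [CommRing A]
    [Algebra k A] [Algebra.FiniteType k A] :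
    Algebra.FormallyUnramified k A ↔ Module.Finite k A ∧ Algebra.IsSeparable k A := by
  constructor
  · intro h
    have := Algebra.FormallyUnramified.finite_of_free k A
    refine ⟨this, ?_⟩
    have : Algebra.FormallyEtale k A := Algebra.FormallyEtale.of_formallyUnramified_of_field k A
    obtain ⟨I, _, Ai, _, _, e, hsep⟩ := (Algebra.FormallyEtale.iff_exists_algEquiv_prod k A).mp this
    classical
    have := Fintype.ofFinite I
    refine ⟨fun x => ?_⟩
    let S : Finset k[X] := Finset.univ.image fun i => minpoly k (e x i)
    have hint : ∀ i, IsIntegral k (e x i) := fun i => ((hsep i).isSeparable _ (e x i)).isIntegral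
    have hq : (∏ p ∈ S, p).Separable := by
      refine Polynomial.separable_prod' ?_ ?_
      · intro p hp q hq hne
        obtain ⟨i, -, rfl⟩ := Finset.mem_image.mp hp
        obtain ⟨j, -, rfl⟩ := Finset.mem_image.mp hq
        refine (minpoly.irreducible (hint i)).coprime_iff_not_dvd.mpr fun hdvd => hne ?_
        exact Polynomial.eq_of_monic_of_associated (minpoly.monic (hint i)) (minpoly.monic (hint j))
          ((minpoly.irreducible (hint i)).associated_of_dvd (minpoly.irreducible (hint j)) hdvd)
      · intro p hp
        obtain ⟨i, -, rfl⟩ := Finset.mem_image.mp hp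
        exact (hsep i).isSeparable _ (e x i)
    refine hq.of_dvd (minpoly.dvd k x ?_)
    apply e.injective
    rw [map_zero, ← Polynomial.aeval_algHom_apply]
    ext i
    rw [Pi.zero_apply, show Polynomial.aeval (e x) (∏ p ∈ S, p) i =
      Polynomial.aeval (e x i) (∏ p ∈ S, p) from
        (Polynomial.aeval_algHom_apply (Pi.evalAlgHom k Ai i) (e x) _).symm, map_prod]
    exact Finset.prod_eq_zero (Finset.mem_image_of_mem _ (Finset.mem_univ i)) (minpoly.aeval k _)
  · rintro ⟨hfin, hsep⟩
    classical
    have : IsArtinianRing A := isArtinian_of_tower k inferInstance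
    have : IsReduced A := ⟨fun x hx => by
      obtain ⟨n, hn⟩ := hx
      have hd : minpoly k x ∣ X ^ n := minpoly.dvd k x (by simp [hn])
      obtain ⟨i, -, hi⟩ := (dvd_prime_pow Polynomial.prime_X n).mp hd
      have heq : minpoly k x = X ^ i := Polynomial.eq_of_monic_of_associated
        (minpoly.monic (Algebra.IsIntegral.isIntegral x)) (Polynomial.monic_X_pow i) hi
      rcases Nat.lt_or_ge i 2 with h | h
      · interval_cases i
        · have := minpoly.aeval k x
          rw [heq] at this; simp at this
          exact eq_zero_of_zero_eq_one this.symm x
        · have := minpoly.aeval k x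
          rw [heq] at this; simpa using this
      · have hs : Squarefree (X ^ i : k[X]) := heq ▸ (Algebra.IsSeparable.isSeparable k x).squarefree
        exact absurd (hs X ⟨X ^ (i - 2), by rw [← pow_two, ← pow_add]; congr 1; omega⟩)
          Polynomial.prime_X.not_unit⟩
    letI (m : MaximalSpectrum A) : Field (A ⧸ m.asIdeal) := Ideal.Quotient.field m.asIdeal
    have : Algebra.FormallyEtale k A := by
      rw [Algebra.FormallyEtale.iff_exists_algEquiv_prod]
      refine ⟨MaximalSpectrum A, inferInstance, fun m => A ⧸ m.asIdeal, inferInstance, inferInstance,
        (IsArtinianRing.equivPi A).restrictScalars k, fun m => ⟨fun y => ?_⟩⟩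
      obtain ⟨x, rfl⟩ := Ideal.Quotient.mk_surjective y
      exact (Algebra.IsSeparable.isSeparable k x).of_dvd (minpoly.dvd _ _ (by
        rw [← Ideal.Quotient.mkₐ_eq_mk k, Polynomial.aeval_algHom_apply, minpoly.aeval, map_zero]))
    infer_instance

end Groth.Agent.S4998
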