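import Groth.Statements.S5004
import Groth.Agent.QuasiRegNoeth.Basic

set_option autoImplicit false
universe u
open CategoryTheory CategoryTheory.Limits AlgebraicGeometry TopologicalSpace
open Nrm16

namespace Groth.Agent.S5004

/-- On a locally Noetherian scheme, every quasi-regular (quasi-coherent) ideal sheaf is a regular ideal
sheaf. -/
theorem result {X : Scheme.{u}} [IsLocallyNoetherian X] (I : X.IdealSheafData)
    (h : RegImm.IsRegularIdeal RegImm.Kind.quasi I) : RegImm.IsRegularIdeal RegImm.Kind.regular I := by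
  intro x hx
  obtain ⟨U, hxU, rs, hrs, hI⟩ := h x hx
  haveI : IsNoetherianRing Γ(X, U.1) := IsLocallyNoetherian.component_noetherian U
  let p := (U.2.primeIdealOf ⟨x, hxU⟩).asIdeal
  have hmem : ∀ s : Γ(X, U.1), x ∈ X.basicOpen s ↔ s ∉ p := fun s => by
    have h := SetLike.ext_iff.1 (U.2.fromSpec_preimage_basicOpen s) (U.2.primeIdealOf ⟨x, hxU⟩)
    conv_lhs => rw [show x = (⟨x, hxU⟩ : U.1).1 from rfl, ← U.2.fromSpec_primeIdealOf ⟨x, hxU⟩]
    exact h
  have hp : Ideal.ofList rs ≤ p := by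
    rw [← hI]
    intro s hs
    have h1 := (Scheme.mem_zeroLocus_iff _ _ _).1 ((I.mem_support_iff_of_mem hxU).1 hx) s hs
    rw [hmem] at h1
    exact not_not.1 h1
  obtain ⟨g, hgp, hg⟩ := Groth.Agent.QuasiRegNoeth.exists_away rs hrs p hp
  haveI := U.2.isLocalization_basicOpen g
  refine ⟨X.affineBasicOpen g, ?_, rs.map (algebraMap Γ(X, U.1) Γ(X, X.basicOpen g)), hg Γ(X, X.basicOpen g), ?_⟩
  · exact (hmem g).2 hgp
  · exact (I.map_ideal_basicOpen U g).symm.trans (by rw [hI, Ideal.map_ofList]; rfl)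

end Groth.Agent.S5004
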