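import Groth.Statements.S5006
import Mathlib.Tactic
import Mathlib.RingTheory.Finiteness.Ideal
import Mathlib.RingTheory.Nilpotent.Lemmas
import Mathlib.RingTheory.Localization.AtPrime.Basic
import Mathlib.RingTheory.Nakayama

set_option autoImplicit false
universe u
open Nrm16

namespace Groth.Agent.S5006

/-- Let A be a commutative ring, I a finitely generated ideal and p a prime ideal containing I. Then
some basic open neighbourhood of p in Spec A is contained in the closed set V(I) (so that V(I) ⟶
Spec A is a local homeomorphism onto an open set near p) if and only if there is an integer n > 0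
with I^n A_p = I^(n+1) A_p in the local ring at p. Affine form. -/
theorem result (A : Type u) [CommRing A] (I : Ideal A) (hI : I.FG)
    (p : Ideal A) [p.IsPrime] (hp : I ≤ p) :
    (∃ f : A, f ∉ p ∧ ∀ q : Ideal A, q.IsPrime → f ∉ q → I ≤ q) ↔
      ∃ n : ℕ, 0 < n ∧
        (I ^ n).map (algebraMap A (Localization.AtPrime p)) =
          (I ^ (n + 1)).map (algebraMap A (Localization.AtPrime p)) := by
  constructor
  · rintro ⟨f, hfp, hf⟩
    have hnil : Ideal.span {f} * I ≤ nilradical A := by
      rw [Ideal.mul_le]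
      intro a ha b hb
      rw [mem_nilradical, nilpotent_iff_mem_prime]
      intro q hq
      by_cases hfq : f ∈ q
      · exact q.mul_mem_right _ ((Ideal.span_singleton_le_iff_mem q).2 hfq ha)
      · exact q.mul_mem_left _ (hf q hq hfq hb)
    obtain ⟨n, hn⟩ := Ideal.exists_pow_le_of_le_radical_of_fg (I := Ideal.span {f} * I) (J := ⊥) hnil
      ((Submodule.fg_span_singleton f).mul hI)
    refine ⟨n + 1, Nat.succ_pos n, ?_⟩
    have key : ∀ k, n ≤ k → (I ^ k).map (algebraMap A (Localization.AtPrime p)) = ⊥ := by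
      intro k hk
      rw [eq_bot_iff, Ideal.map_le_iff_le_comap]
      intro b hb
      change algebraMap A (Localization.AtPrime p) b = 0
      rw [IsLocalization.map_eq_zero_iff p.primeCompl]
      refine ⟨⟨f ^ k, fun h => hfp (‹p.IsPrime›.mem_of_pow_mem k h)⟩, ?_⟩
      have h1 : f ^ k * b ∈ (Ideal.span {f} * I) ^ k := by
        rw [mul_pow]
        exact Ideal.mul_mem_mul (Ideal.pow_mem_pow (Ideal.mem_span_singleton_self f) k) hb
      exact Ideal.mem_bot.1 (hn (Ideal.pow_le_pow_right hk h1))
    rw [key _ (by omega), key _ (by omega)]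
  · rintro ⟨n, hn0, hn⟩
    have hbot : (I ^ n).map (algebraMap A (Localization.AtPrime p)) = ⊥ := by
      refine Submodule.eq_bot_of_le_smul_of_le_jacobson_bot
        (I.map (algebraMap A (Localization.AtPrime p))) _ ((hI.pow).map _) ?_ ?_
      · rw [smul_eq_mul, ← Ideal.map_mul, ← pow_succ', ← hn]
      · rw [IsLocalRing.jacobson_eq_maximalIdeal _ bot_ne_top]
        refine (Ideal.map_mono hp).trans ?_
        rw [IsLocalization.AtPrime.map_eq_maximalIdeal p (Localization.AtPrime p)]
    obtain ⟨s, hs⟩ := hI.pow (n := n)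
    have hex : ∀ b ∈ s, ∃ t : A, t ∉ p ∧ t * b = 0 := by
      intro b hb
      have h0 : algebraMap A (Localization.AtPrime p) b ∈ (I ^ n).map (algebraMap A (Localization.AtPrime p)) :=
        Ideal.mem_map_of_mem _ (hs ▸ Ideal.subset_span hb)
      rw [hbot, Ideal.mem_bot, IsLocalization.map_eq_zero_iff p.primeCompl] at h0
      obtain ⟨t, ht⟩ := h0
      exact ⟨t, t.2, ht⟩
    choose t ht ht0 using hex
    classical
    refine ⟨∏ b ∈ s.attach, t b.1 b.2, fun h => ?_, fun q hq hfq => ?_⟩
    · obtain ⟨b, -, hb⟩ := ‹p.IsPrime›.prod_mem_iff.1 h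
      exact ht _ _ hb
    · refine (hq.pow_le_iff (n := n) (by omega)).1 ?_
      rw [← hs, Ideal.span_le]
      intro b hb
      refine (hq.mem_or_mem ?_).resolve_left hfq
      obtain ⟨c, hc⟩ := Finset.dvd_prod_of_mem (fun b : {x // x ∈ s} => t b.1 b.2) (Finset.mem_attach s ⟨b, hb⟩)
      rw [show (∏ b ∈ s.attach, t b.1 b.2) * b = c * (t b hb * b) by rw [hc]; ring, ht0, mul_zero]
      exact q.zero_mem

end Groth.Agent.S5006
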