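import Groth.Statements.S5009
import Groth.Agent.Unram.Pointwise
import Groth.Agent.Unram.LocalLift


set_option autoImplicit false
universe u
open CategoryTheory CategoryTheory.Limits AlgebraicGeometry TopologicalSpace
open Unram17

namespace Groth.Agent.S5009

/-- Let f : X ⟶ Y be locally of finite presentation and x a point of X. Then f is (formally) unramified
on an open neighbourhood of x if and only if for every surjection of local rings B' → B with
square-zero kernel, every morphism Spec B ⟶ X sending the closed point to x and every morphism Spec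
B' ⟶ Y making the square commute, any two lifts Spec B' ⟶ X compatible with both are equal. -/
theorem result {X Y : Scheme.{u}} (f : X ⟶ Y)
    [LocallyOfFinitePresentation f] (x : ↥X) :
    (∃ U : X.Opens, x ∈ U ∧ FormallyUnramified (U.ι ≫ f)) ↔
      ∀ (B B' : Type u) [CommRing B] [CommRing B'] [IsLocalRing B] [IsLocalRing B'] (φ : B' →+* B),
      Function.Surjective φ → RingHom.ker φ ^ 2 = ⊥ →
      ∀ (α : Spec (CommRingCat.of B) ⟶ X) (β : Spec (CommRingCat.of B') ⟶ Y),
        α.base (IsLocalRing.closedPoint B) = x → Spec.map (CommRingCat.ofHom φ) ≫ β = α ≫ f →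
        ∀ γ₁ γ₂ : Spec (CommRingCat.of B') ⟶ X,
          Spec.map (CommRingCat.ofHom φ) ≫ γ₁ = α → γ₁ ≫ f = β →
          Spec.map (CommRingCat.ofHom φ) ≫ γ₂ = α → γ₂ ≫ f = β → γ₁ = γ₂ := by
  rw [Groth.Agent.Unram.unramified_nhd_iff, Groth.Agent.Unram.formallyUnramified_iff_lift_local]
  constructor
  · intro H B B' _ _ _ _ φ hφ hker α β hα hcomm γ₁ γ₂ h₁ h₁' h₂ h₂'
    have key : ∀ γ : Spec (CommRingCat.of B') ⟶ X,
        Spec.map (CommRingCat.ofHom φ) ≫ γ = α → γ (IsLocalRing.closedPoint B') = x := fun γ h =>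
      (Groth.Agent.Unram.closedPoint_of_comm hφ (𝟙 X) α γ (by rw [h, Category.comp_id])).trans hα
    obtain ⟨a, ha, rfl⟩ := Groth.Agent.Unram.exists_stalk_fac x B α hα
    obtain ⟨c₁, -, rfl⟩ := Groth.Agent.Unram.exists_stalk_fac x B' γ₁ (key γ₁ h₁)
    obtain ⟨c₂, -, rfl⟩ := Groth.Agent.Unram.exists_stalk_fac x B' γ₂ (key γ₂ h₂)
    rw [← Spec.map_comp_assoc] at h₁ h₂
    have e₁ := congr(CommRingCat.Hom.hom $(Groth.Agent.Unram.stalk_fac_injective _ h₁))
    have e₂ := congr(CommRingCat.Hom.hom $(Groth.Agent.Unram.stalk_fac_injective _ h₂))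
    have e := h₁'.trans h₂'.symm
    rw [Category.assoc, Category.assoc, ← Scheme.SpecMap_stalkMap_fromSpecStalk,
      ← Spec.map_comp_assoc, ← Spec.map_comp_assoc] at e
    have hl : IsLocalHom (φ.comp c₁.hom) := by
      rw [show φ.comp c₁.hom = a.hom from e₁]; exact ha
    rw [show c₁ = c₂ from CommRingCat.hom_ext (H B B' φ hφ hker c₁.hom c₂.hom hl
      (e₁.trans e₂.symm) congr(CommRingCat.Hom.hom $(Groth.Agent.Unram.stalk_fac_injective _ e)))]
  · intro H B B' _ _ _ _ φ hφ hker c₁ c₂ hl h₁ h₂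
    have : IsLocalHom (CommRingCat.ofHom (φ.comp c₁)).hom := hl
    have := H B B' φ hφ hker (Spec.map (CommRingCat.ofHom (φ.comp c₁)) ≫ X.fromSpecStalk x)
      (Spec.map (CommRingCat.ofHom c₁) ≫ X.fromSpecStalk x ≫ f)
      (Groth.Agent.Unram.stalk_fac_closedPoint x B _) (by
        rw [← Spec.map_comp_assoc, Category.assoc]; rfl)
      (Spec.map (CommRingCat.ofHom c₁) ≫ X.fromSpecStalk x)
      (Spec.map (CommRingCat.ofHom c₂) ≫ X.fromSpecStalk x)
      (by rw [← Spec.map_comp_assoc]; rfl) (Category.assoc _ _ _)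
      (by rw [← Spec.map_comp_assoc, h₁]; rfl) (by
        rw [Category.assoc, ← Scheme.SpecMap_stalkMap_fromSpecStalk, ← Spec.map_comp_assoc,
          ← Spec.map_comp_assoc]
        exact congrArg (fun ψ => Spec.map ψ ≫ Y.fromSpecStalk (f x)) (CommRingCat.hom_ext h₂.symm))
    exact congr(CommRingCat.Hom.hom $(Groth.Agent.Unram.stalk_fac_injective _ this))

end Groth.Agent.S5009
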