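import Groth.Statements.S5010
import Mathlib.RingTheory.TensorProduct.Free
import Mathlib.RingTheory.Smooth.Kaehler
import Mathlib.RingTheory.Kaehler.Polynomial
import Mathlib.RingTheory.Etale.Kaehler
import Groth.Agent.PParts.Basis

set_option autoImplicit false
universe u
open PP16

namespace Groth.Agent.S5010

/-- Let k be a field and K the field of fractions of the polynomial ring k[T_1, ..., T_r]. For every n,
the K-algebra map from the polynomial ring K[U_1, ..., U_r] to the ring of principal parts of order
n of K over k (a K-algebra through the first factor) that sends U_i to d^n(T_i) − T_i · 1 is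
surjective, and its kernel is the (n+1)-st power of the ideal generated by the U_i. -/
theorem result (k : Type u) [Field k] (r n : ℕ) :
    Function.Surjective
        (MvPolynomial.aeval (R := FractionRing (MvPolynomial (Fin r) k))
          (S₁ := PP16.P n k (FractionRing (MvPolynomial (Fin r) k)))
          (fun i : Fin r =>
            PP16.dn n k (FractionRing (MvPolynomial (Fin r) k))
                (algebraMap (MvPolynomial (Fin r) k) (FractionRing (MvPolynomial (Fin r) k)) (MvPolynomial.X i)) -
              algebraMap (FractionRing (MvPolynomial (Fin r) k)) (PP16.P n k (FractionRing (MvPolynomial (Fin r) k)))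
                (algebraMap (MvPolynomial (Fin r) k) (FractionRing (MvPolynomial (Fin r) k)) (MvPolynomial.X i)))) ∧
      RingHom.ker
          (MvPolynomial.aeval (R := FractionRing (MvPolynomial (Fin r) k))
            (S₁ := PP16.P n k (FractionRing (MvPolynomial (Fin r) k)))
            (fun i : Fin r =>
              PP16.dn n k (FractionRing (MvPolynomial (Fin r) k))
                  (algebraMap (MvPolynomial (Fin r) k) (FractionRing (MvPolynomial (Fin r) k)) (MvPolynomial.X i)) -
                algebraMap (FractionRing (MvPolynomial (Fin r) k)) (PP16.P n k (FractionRing (MvPolynomial (Fin r) k)))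
                  (algebraMap (MvPolynomial (Fin r) k) (FractionRing (MvPolynomial (Fin r) k)) (MvPolynomial.X i)))).toRingHom =
        (Ideal.span (Set.range (MvPolynomial.X : Fin r → MvPolynomial (Fin r) (FractionRing (MvPolynomial (Fin r) k))))) ^ (n + 1) := by
  classical
  have : Algebra.FormallyEtale (MvPolynomial (Fin r) k) (FractionRing (MvPolynomial (Fin r) k)) :=
    Algebra.FormallyEtale.of_isLocalization (nonZeroDivisors (MvPolynomial (Fin r) k))
  have : Algebra.FormallySmooth k (FractionRing (MvPolynomial (Fin r) k)) :=
    Algebra.FormallySmooth.comp k (MvPolynomial (Fin r) k) _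
  let z : Fin r → FractionRing (MvPolynomial (Fin r) k) := fun i => algebraMap (MvPolynomial (Fin r) k) _ (MvPolynomial.X i)
  let b : Module.Basis (Fin r) (FractionRing (MvPolynomial (Fin r) k))
      (KaehlerDifferential k (FractionRing (MvPolynomial (Fin r) k))) :=
    (Algebra.TensorProduct.basis (FractionRing (MvPolynomial (Fin r) k)) (KaehlerDifferential.mvPolynomialBasis k (Fin r))).map
      (KaehlerDifferential.tensorKaehlerEquivOfFormallyEtale k (MvPolynomial (Fin r) k) (FractionRing (MvPolynomial (Fin r) k)))
  have hb : ∀ i, b i = KaehlerDifferential.D k _ (z i) := fun i => by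
    simp only [b, z]
    rw [Module.Basis.map_apply, Algebra.TensorProduct.basis_apply, KaehlerDifferential.mvPolynomialBasis_apply,
      ← KaehlerDifferential.tensorKaehlerEquivOfFormallyEtale_symm_D_algebraMap (R := k) (S := MvPolynomial (Fin r) k)
        (T := FractionRing (MvPolynomial (Fin r) k)), LinearEquiv.apply_symm_apply]
  have hbij := PParts.tmap_bijective_of_formallySmooth ⟨b, hb⟩ n
  set f := MvPolynomial.aeval (R := FractionRing (MvPolynomial (Fin r) k))
    (S₁ := PP16.P n k (FractionRing (MvPolynomial (Fin r) k))) _ with hfdef
  have hf : f = (PParts.tmap (A := k) n z).comp (Ideal.Quotient.mkₐ _ _) := MvPolynomial.algHom_ext fun i => by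
    rw [hfdef, MvPolynomial.aeval_X, AlgHom.comp_apply, Ideal.Quotient.mkₐ_eq_mk, PParts.tmap_tmk, PParts.zev_X]
    rfl
  rw [hf]
  refine ⟨hbij.2.comp Ideal.Quotient.mk_surjective, ?_⟩
  ext q
  simp only [RingHom.mem_ker, AlgHom.toRingHom_eq_coe, RingHom.coe_coe, AlgHom.comp_apply]
  rw [map_eq_zero_iff _ hbij.1, Ideal.Quotient.mkₐ_eq_mk, Ideal.Quotient.eq_zero_iff_mem]

end Groth.Agent.S5010
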