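import Groth.Statements.S5014
import Groth.Agent.Unram.Tower


set_option autoImplicit false
universe u
open Unram17

namespace Groth.Agent.S5014

/-- Let C be a smooth algebra over a commutative ring A, equipped with an A-algebra map from the
polynomial ring in r variables (images s_i of the variables), and let q be a prime of C. Then C is
etale at q over the polynomial ring if and only if the differentials of the s_i are linearly
independent and generate the module of differentials of the local ring C_q over A, i.e. form a basis
of it. -/
theorem result (A C : Type u) [CommRing A] [CommRing C]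
    [Algebra A C] [Algebra.Smooth A C] (r : ℕ) [Algebra (MvPolynomial (Fin r) A) C]
    [IsScalarTower A (MvPolynomial (Fin r) A) C] (q : Ideal C) [q.IsPrime] :
    Algebra.IsEtaleAt (MvPolynomial (Fin r) A) q ↔
      LinearIndependent (Localization.AtPrime q)
          (fun i : Fin r => KaehlerDifferential.D A (Localization.AtPrime q)
            (algebraMap C (Localization.AtPrime q) (algebraMap (MvPolynomial (Fin r) A) C (MvPolynomial.X i)))) ∧
        Submodule.span (Localization.AtPrime q)
          (Set.range fun i : Fin r => KaehlerDifferential.D A (Localization.AtPrime q)
            (algebraMap C (Localization.AtPrime q) (algebraMap (MvPolynomial (Fin r) A) C (MvPolynomial.X i)))) = ⊤ := by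
  let L := Localization.AtPrime q
  have : Algebra.IsSmoothAt A q :=
    (Set.eq_univ_iff_forall.mp (Algebra.smoothLocus_eq_univ (R := A) (A := C))) ⟨q, ‹_›⟩
  refine (Groth.Agent.Unram.formallyEtale_iff_bijective A (MvPolynomial (Fin r) A) L).trans ?_
  let b := (KaehlerDifferential.mvPolynomialBasis A (Fin r)).baseChange L
  rw [Groth.Agent.Unram.bijective_iff_of_basis b]
  have : (KaehlerDifferential.mapBaseChange A (MvPolynomial (Fin r) A) L ∘ b) = fun i : Fin r =>
      KaehlerDifferential.D A L (algebraMap C L
        (algebraMap (MvPolynomial (Fin r) A) C (MvPolynomial.X i))) := by
    funext i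
    simp [b, L, ← IsScalarTower.algebraMap_apply]
  rw [this]

end Groth.Agent.S5014
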