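import Groth.Statements.S5017
import Groth.Agent.Unram.Mono
import Groth.Agent.UnramFibre.Basic


set_option autoImplicit false
universe u
open CategoryTheory CategoryTheory.Limits AlgebraicGeometry TopologicalSpace
open Unram17

namespace Groth.Agent.S5017

/-- Let f : X ⟶ Y be locally of finite type. Then f is a monomorphism if and only if, for every point x
of X with image y, x is the only point of its fibre and the canonical map from the residue field
κ(y) to the quotient of the local ring of X at x by the extension of the maximal ideal at y is
bijective (each nonempty fibre is Spec κ(y)). -/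
theorem result {X Y : Scheme.{u}} (f : X ⟶ Y) [LocallyOfFiniteType f] :
    Mono f ↔ ∀ x : ↥X,
      (∀ x' : ↥X, f.base x' = f.base x → x' = x) ∧
        Function.Bijective
          (Ideal.quotientMap
            ((IsLocalRing.maximalIdeal ↑(Y.presheaf.stalk (f.base x))).map (f.stalkMap x).hom)
            (f.stalkMap x).hom Ideal.le_comap_map) := by
  rw [Groth.Agent.Unram.mono_iff_injective_and_stalk f, forall_and (p := fun x : X => ∀ x', f x' = f x → x' = x)]
  refine and_congr ?_ ?_
  · exact ⟨fun h x x' e => h e, fun h x' x e => h x x' e⟩
  refine forall_congr' fun x => ?_
  exact (Groth.Agent.Unram.quotientMap_bijective_iff (f.stalkMap x).hom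
    (LocallyOfFiniteType.stalkMap f x)).symm

end Groth.Agent.S5017
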