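import Groth.Statements.S5039
import Groth.Agent.Hensel.NagataHens
import Groth.Agent.S0567

set_option autoImplicit false
universe u
open Hensel

namespace Groth.Agent.S5039

/-- Let R be a Noetherian local ring and S its henselization. Then S is universally Japanese if and only
if R is. -/
theorem result (R S : Type u) [CommRing R] [IsLocalRing R] [IsNoetherianRing R]
    [CommRing S] [IsLocalRing S] [Algebra R S] [IsLocalHom (algebraMap R S)] [Hensel.IsHenselization R S] :
    CAlg.IsUniversallyJapanese S ↔ CAlg.IsUniversallyJapanese R := by
  haveI : IsNoetherianRing S := Groth.Agent.Hensel.henselization_isNoetherianRing (R := R)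
  exact ⟨fun h => ((Groth.Agent.S0567.result R).1 (Groth.Agent.Hensel.isNagata_of_henselization (S := S)
      ((Groth.Agent.S0567.result S).2 ⟨inferInstance, h⟩))).2,
    fun h => ((Groth.Agent.S0567.result S).1 (Groth.Agent.Hensel.isNagata_henselization (R := R)
      ((Groth.Agent.S0567.result R).2 ⟨inferInstance, h⟩))).2⟩

end Groth.Agent.S5039
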