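import Groth.Statements.S5050
import Mathlib.RingTheory.Filtration
-- import your own Groth.Agent.* helpers here

set_option autoImplicit false
universe u v
open CInt

namespace Groth.Agent.S5050

/-- Let A be a Noetherian ring, N a finitely generated A-module, E and F submodules of N and Q an ideal
of A. For every natural number k there is h > 0 with E ⊓ (F ⊔ Q^h N) ≤ (E ⊓ F) ⊔ Q^k N. -/
theorem result {A : Type u} [CommRing A] [IsNoetherianRing A] {N : Type v} [AddCommGroup N]
    [Module A N] [Module.Finite A N] (E F : Submodule A N) (Q : Ideal A) (k : ℕ) :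
    ∃ h : ℕ, 0 < h ∧ E ⊓ (F ⊔ Q ^ h • (⊤ : Submodule A N)) ≤ (E ⊓ F) ⊔ Q ^ k • (⊤ : Submodule A N) := by
  let p := F.mkQ
  obtain ⟨c, hc⟩ := Ideal.exists_pow_inf_eq_pow_smul Q (E.map p)
  refine ⟨k + c + 1, Nat.succ_pos _, fun x hx => ?_⟩
  obtain ⟨hxE, hx'⟩ := hx
  obtain ⟨a, ha, b, hb, rfl⟩ := Submodule.mem_sup.1 hx'
  have hb' : p b ∈ Q ^ (k + c + 1) • (⊤ : Submodule A (N ⧸ F)) ⊓ E.map p := by
    refine ⟨?_, ⟨a + b, hxE, ?_⟩⟩
    · have := Submodule.mem_map_of_mem (f := p) hb
      rw [Submodule.map_smul''] at this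
      exact Submodule.smul_mono le_rfl le_top this
    · rw [map_add, show p a = 0 from (Submodule.Quotient.mk_eq_zero F).2 ha, zero_add]
  rw [hc (k + c + 1) (by omega)] at hb'
  have hb'' : p (a + b) ∈ (Q ^ k • E).map p := by
    rw [map_add, show p a = 0 from (Submodule.Quotient.mk_eq_zero F).2 ha, zero_add, Submodule.map_smul'']
    exact Submodule.smul_mono (Ideal.pow_le_pow_right (by omega)) inf_le_right hb'
  obtain ⟨e, he, hpe⟩ := hb''
  have hF : a + b - e ∈ F := (Submodule.Quotient.mk_eq_zero F).1 (show p (a + b - e) = 0 by rw [map_sub, hpe, sub_self])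
  have heE : e ∈ E := Submodule.smul_le_right he
  refine Submodule.mem_sup.2 ⟨a + b - e, ⟨sub_mem hxE heE, hF⟩, e, Submodule.smul_mono le_rfl le_top he, sub_add_cancel _ _⟩

end Groth.Agent.S5050
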