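import Groth.Statements.S5052
import Groth.Agent.EtStrat.Basic
import Groth.Agent.EtSh.StalkCard

set_option autoImplicit false
open CategoryTheory AlgebraicGeometry
universe u
open Unram

namespace Groth.Agent.S5052

open Limits Groth.Agent.Weighting Groth.Agent.EtStrat

set_option backward.isDefEq.respectTransparency.types false in
theorem card_points {W : Scheme.{u}} {k K : Type u} [Field k] [IsSepClosed k] [Field K] [IsAlgClosed K]
    (π : W ⟶ Spec (CommRingCat.of k)) [Etale π] [IsSeparated π] [LocallyQuasiFinite π]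
    (y : Spec (CommRingCat.of K) ⟶ Spec (CommRingCat.of k)) : ENat.card W = ENat.card (GPts π y) := by
  refine (ENat.card_congr (Equiv.ofBijective (fun x : GPts π y => pt x.1) ⟨fun a b hab => ?_, fun u => ?_⟩)).symm
  · obtain ⟨l, hl, hlu⟩ := Scheme.exists_fac_of_etale_of_isSepClosed π (𝟙 _) (pt a.1) (Subsingleton.elim _ _)
    have : IsClosedImmersion (l ≫ π) := by rw [hl]; infer_instance
    have : IsClosedImmersion l := IsClosedImmersion.of_comp l π
    have key : ∀ x : GPts π y, pt x.1 = pt a.1 → x.1 = y ≫ l := fun x hx => by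
      obtain ⟨w, hw⟩ := EtSh.exists_lift_immersion l x.1 ⟨default, hlu.trans (hx.symm.trans
        (congrArg x.1.base (Subsingleton.elim _ _)))⟩
      have : w = y := by
        rw [← x.2, ← hw, Category.assoc, hl, Category.comp_id]
      rw [← hw, this]
    exact Subtype.ext ((key a rfl).trans (key b hab.symm).symm)
  · exact exists_lift π y u (Subsingleton.elim (α := PrimeSpectrum k) _ _)

set_option backward.isDefEq.respectTransparency.types false in
theorem card_geomFiber {X Y : Scheme.{u}} (f : X ⟶ Y) [Etale f] [IsSeparated f] [QuasiCompact f] (y : Y) :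
    ENat.card ↥(MoreMor.geomFiber f y) = ((deg f y).toNat : ℕ∞) := by
  have := EtSh.locallyQuasiFinite_of_etale f
  have hfin : ∀ z, (f ⁻¹' {z}).Finite := fun z => f.finite_preimage_singleton z
  let k := SeparableClosure (Y.residueField y)
  let b : Spec (CommRingCat.of k) ⟶ Y :=
    Spec.map (CommRingCat.ofHom (algebraMap (Y.residueField y) k)) ≫ Y.fromSpecResidueField y
  let π : MoreMor.geomFiber f y ⟶ Spec (CommRingCat.of k) := pullback.snd _ _
  have hsq : IsPullback (pullback.fst _ _ ≫ pullback.fst f (Y.fromSpecResidueField y)) π f b :=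
    (IsPullback.of_hasPullback (f.fiberToSpecResidueField y) _).paste_horiz
      (IsPullback.of_hasPullback f (Y.fromSpecResidueField y))
  have : Etale π := MorphismProperty.of_isPullback hsq ‹_›
  have : IsSeparated π := MorphismProperty.of_isPullback hsq ‹_›
  have := EtSh.locallyQuasiFinite_of_etale π
  let a : Spec (CommRingCat.of (AlgebraicClosure k)) ⟶ Spec (CommRingCat.of k) :=
    Spec.map (CommRingCat.ofHom (algebraMap k (AlgebraicClosure k)))
  have hpt : pt (a ≫ b) = y := Scheme.fromSpecResidueField_apply y _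
  have hd := fibreIntegral_one_eq f (a ≫ b) (hfin _)
  rw [hpt] at hd
  have := finite_gpts f (a ≫ b) (hfin _)
  rw [card_points π a]
  refine (ENat.card_congr (GPts.pullbackEquiv hsq a)).trans ?_
  rw [hd, Int.toNat_natCast]
  exact ENat.card_eq_coe_natCard _

set_option backward.isDefEq.respectTransparency.types false in
theorem deg_nonneg {X Y : Scheme.{u}} (f : X ⟶ Y) [Etale f] [IsSeparated f] [QuasiCompact f] (y : Y) :
    0 ≤ deg f y := by
  have := EtSh.locallyQuasiFinite_of_etale f
  obtain ⟨K, _, _, ξ, rfl⟩ := exists_geomPoint y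
  rw [fibreIntegral_one_eq f ξ (f.finite_preimage_singleton _)]
  exact Int.natCast_nonneg _

set_option backward.isDefEq.respectTransparency.types false in
theorem main {X Y : Scheme.{u}} (f : X ⟶ Y) [Etale f] [IsSeparated f]
    [QuasiCompact f] (y : Y) :
    (∃ U : Y.Opens, y ∈ U ∧ ∀ y' : Y, y' ∈ U → ENat.card ↥(MoreMor.geomFiber f y') = ENat.card ↥(MoreMor.geomFiber f y)) ↔
      ∃ U : Y.Opens, y ∈ U ∧ IsFinite (f ∣_ U) := by
  have := EtSh.locallyQuasiFinite_of_etale f
  have hres : ∀ (U : Y.Opens) (z : U.toScheme), deg (f ∣_ U) z = deg f z.1 := fun U z => by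
    have := EtSh.locallyQuasiFinite_of_etale (f ∣_ U)
    exact fibreIntegral_isPullback (isPullback_morphismRestrict f U).flip (fun _ => (1 : ℤ)) z
      (f.finite_preimage_singleton _)
  simp only [card_geomFiber, Nat.cast_inj]
  constructor
  · rintro ⟨U₀, hy₀, hU₀⟩
    obtain ⟨U, hU, hyU, hle⟩ := exists_isAffineOpen_mem_and_subset (x := y) (U := U₀) hy₀
    refine ⟨U, hyU, ?_⟩
    have : IsAffine U.toScheme := hU
    have : QuasiCompact (f ∣_ U) := MorphismProperty.of_isPullback (isPullback_morphismRestrict f U).flip ‹_›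
    have : IsSeparated (f ∣_ U) := MorphismProperty.of_isPullback (isPullback_morphismRestrict f U).flip ‹_›
    have : CompactSpace (f ⁻¹ᵁ U).toScheme := QuasiCompact.compactSpace_of_compactSpace (f ∣_ U)
    obtain ⟨d, -, -, -, hd⟩ := exists_deg_strata (f ∣_ U)
    have := hd _ (𝟙 _) (deg f y) fun t => by
      show deg (f ∣_ U) t = deg f y
      have h1 := deg_nonneg f t.1
      have h2 := deg_nonneg f y
      have h3 := hU₀ t.1 (hle t.2)
      rw [hres]
      omega
    exact (MorphismProperty.cancel_left_of_respectsIso @IsFinite (pullback.fst (f ∣_ U) (𝟙 _)) _).1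
      (by rw [pullback.condition, Category.comp_id]; exact this)
  · rintro ⟨U, hyU, hfin⟩
    obtain ⟨O, hO, hyO, hconst⟩ := (IsLocallyConstant.iff_exists_open _).1 (isLocallyConstant_deg (f ∣_ U)) ⟨y, hyU⟩
    refine ⟨⟨U.ι '' O, U.ι.isOpenEmbedding.isOpenMap _ hO⟩, ⟨_, hyO, rfl⟩, ?_⟩
    rintro _ ⟨z, hz, rfl⟩
    have := hconst z hz
    rw [hres, hres] at this
    show (deg f z.1).toNat = _
    rw [this]

/-- Let f : X ⟶ Y be étale, separated and of finite type, and y a point of Y. The number of points of
the geometric fibre is constant on a neighbourhood of y if and only if the restriction of f over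
some open neighbourhood of y is a finite morphism. -/
theorem result {X Y : Scheme.{u}} (f : X ⟶ Y) [Etale f] [IsSeparated f]
    [LocallyOfFiniteType f] [QuasiCompact f] (y : Y) :
    (∃ U : Y.Opens, y ∈ U ∧ ∀ y' : Y, y' ∈ U → ENat.card ↥(MoreMor.geomFiber f y') = ENat.card ↥(MoreMor.geomFiber f y)) ↔
      ∃ U : Y.Opens, y ∈ U ∧ IsFinite (f ∣_ U) := by
  exact main f y

end Groth.Agent.S5052
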