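import Groth.Statements.S5051
import Groth.Agent.S5052


set_option autoImplicit false
open CategoryTheory AlgebraicGeometry
universe u
open Unram

namespace Groth.Agent.S5051

/-- Let f : X ⟶ Y be étale, separated and of finite type. Then y ↦ (number of points of the geometric
fibre of f at y) is lower semicontinuous on Y. -/
theorem result {X Y : Scheme.{u}} (f : X ⟶ Y) [Etale f] [IsSeparated f]
    [LocallyOfFiniteType f] [QuasiCompact f] :
    LowerSemicontinuous (fun y : Y => ENat.card ↥(MoreMor.geomFiber f y)) := by
  have := Groth.Agent.EtSh.locallyQuasiFinite_of_etale f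
  have hlsc := Groth.Agent.Weighting.lowerSemicontinuous_of_pos f (fun z => f.finite_preimage_singleton z)
    (Groth.Agent.EtStrat.isWeighting_one f) (fun _ => one_pos)
  simp only [Groth.Agent.S5052.card_geomFiber]
  intro y a ha
  cases a with
  | top => exact absurd ha not_top_lt
  | coe a =>
    have ha' : (a : ℕ) < (Groth.Agent.EtStrat.deg f y).toNat := Nat.cast_lt.1 (show ((a : ℕ) : ℕ∞) < ((Groth.Agent.EtStrat.deg f y).toNat : ℕ∞) from ha)
    filter_upwards [hlsc y (a : ℤ) (show ((a : ℕ) : ℤ) < Groth.Agent.EtStrat.deg f y by omega)] with z hz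
    have hz' : ((a : ℕ) : ℤ) < Groth.Agent.EtStrat.deg f z := hz
    exact Nat.cast_lt.2 (show a < (Groth.Agent.EtStrat.deg f z).toNat by omega)

end Groth.Agent.S5051
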