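import Groth.Statements.S5053
import Groth.Agent.S5052


set_option autoImplicit false
open CategoryTheory AlgebraicGeometry
universe u
open Unram

namespace Groth.Agent.S5053

/-- Let Y be a connected scheme and f : X ⟶ Y étale, separated and of finite type. Then f is finite if
and only if all geometric fibres of f have the same number of points. -/
theorem result {X Y : Scheme.{u}} [ConnectedSpace ↥Y] (f : X ⟶ Y)
    [Etale f] [IsSeparated f] [LocallyOfFiniteType f] [QuasiCompact f] :
    IsFinite f ↔ ∃ n : ℕ∞, ∀ y : Y, ENat.card ↥(MoreMor.geomFiber f y) = n := by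
  constructor
  · intro hf
    obtain ⟨y₀⟩ := (inferInstance : Nonempty Y)
    refine ⟨ENat.card ↥(MoreMor.geomFiber f y₀), fun y => ?_⟩
    have hloc : IsLocallyConstant (fun y : Y => ENat.card ↥(MoreMor.geomFiber f y)) := by
      rw [IsLocallyConstant.iff_exists_open]
      intro z
      obtain ⟨U, hzU, hU⟩ := (Groth.Agent.S5052.result f z).2 ⟨⊤, trivial, IsZariskiLocalAtTarget.restrict hf ⊤⟩
      exact ⟨U, U.2, hzU, hU⟩
    exact hloc.apply_eq_of_preconnectedSpace y y₀
  · rintro ⟨n, hn⟩
    choose U hU hfin using fun y => (Groth.Agent.S5052.result f y).1 ⟨⊤, trivial, fun y' _ => by rw [hn, hn]⟩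
    exact IsZariskiLocalAtTarget.of_iSup_eq_top (P := @IsFinite) U
      (eq_top_iff.2 fun y _ => TopologicalSpace.Opens.mem_iSup.2 ⟨y, hU y⟩) hfin

end Groth.Agent.S5053
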