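import Groth.Statements.S5056
import Groth.Agent.FormalIrred.Domain

set_option autoImplicit false
universe u
open Hensel

namespace Groth.Agent.S5056

/-- Let A be a Noetherian henselian local domain whose formal fibres are geometrically normal, Â its
completion (an integral domain), K and L fraction fields of A and Â with L a K-algebra compatibly.
Then L is geometrically reduced over K (a separable extension) and every element of L algebraic over
K lies in K. -/
theorem result (A : Type u) [CommRing A] [IsNoetherianRing A]
    [HenselianLocalRing A] [IsDomain A] (h : EGA4.HasGeomNormalFormalFibres A) [IsDomain (EGA4.Cpl A)]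
    (K L : Type u) [Field K] [Field L] [Algebra A K] [IsFractionRing A K]
    [Algebra (EGA4.Cpl A) L] [IsFractionRing (EGA4.Cpl A) L] [Algebra K L] [Algebra A L]
    [IsScalarTower A K L] [IsScalarTower A (EGA4.Cpl A) L] :
    Algebra.IsGeometricallyReduced K L ∧ ∀ x : L, IsAlgebraic K x → x ∈ Set.range (algebraMap K L) := by
  have hd := fun (E : Type u) [Field E] [Algebra K E] => Groth.Agent.FormalIrred.isDomain_tensor_fracCpl A h K L E
  refine ⟨Algebra.isGeometricallyReduced_field_iff K L |>.2 ?_,
    Groth.Agent.FormalIrred.mem_range_of_isAlgebraic K L hd⟩
  haveI := hd (AlgebraicClosure K)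
  infer_instance

end Groth.Agent.S5056
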