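import Groth.Statements.S5057

set_option autoImplicit false
open CategoryTheory CategoryTheory.Limits AlgebraicGeometry
universe u
open Hensel

namespace Groth.Agent.S5057

/-- Let i : S₀ ⟶ S be a closed immersion such that for every finite morphism g : S' ⟶ S every
open-closed subset of S' ×_S S₀ is the inverse image under the first projection of exactly one
open-closed subset of S'. Then for every finite morphism g : S' ⟶ S, every open subset of S'
containing the image of S' ×_S S₀ is all of S'. -/
theorem result {S S₀ : Scheme.{u}} (i : S₀ ⟶ S) [IsClosedImmersion i]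
    (ha : ∀ (S' : Scheme.{u}) (g : S' ⟶ S), IsFinite g →
      ∀ V : Set ↥(pullback g i), IsClopen V → ∃! U : Set ↥S', IsClopen U ∧ (pullback.fst g i).base ⁻¹' U = V)
    {S' : Scheme.{u}} (g : S' ⟶ S) [IsFinite g] (U : Set ↥S') (hU : IsOpen U)
    (hU₀ : Set.range (pullback.fst g i).base ⊆ U) : U = Set.univ := by
  let Z : Scheme.{u} := (Scheme.IdealSheafData.vanishingIdeal ⟨Uᶜ, hU.isClosed_compl⟩).subscheme
  let ι := (Scheme.IdealSheafData.vanishingIdeal ⟨Uᶜ, hU.isClosed_compl⟩).subschemeι
  have hr : Set.range ι = Uᶜ := by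
    rw [Scheme.IdealSheafData.range_subschemeι, Scheme.IdealSheafData.coe_support_vanishingIdeal]
    rfl
  have hem : IsEmpty ↥(pullback (ι ≫ g) i) := ⟨fun p => by
    have h1 : ι (pullback.fst (ι ≫ g) i p) ∈ Uᶜ := (Set.ext_iff.1 hr _).1 (Set.mem_range_self _)
    apply h1
    apply hU₀
    rw [Scheme.Pullback.range_fst, Set.mem_preimage]
    refine ⟨pullback.snd (ι ≫ g) i p, ?_⟩
    rw [← Scheme.Hom.comp_apply, ← pullback.condition, Scheme.Hom.comp_apply, Scheme.Hom.comp_apply]⟩
  have hu := (ha _ (ι ≫ g) inferInstance ∅ isClopen_empty).unique (y₁ := Set.univ) (y₂ := ∅)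
    ⟨isClopen_univ, Set.eq_empty_of_forall_notMem fun p _ => hem.false p⟩
    ⟨isClopen_empty, Set.preimage_empty⟩
  refine Set.eq_univ_of_forall fun y => not_not.1 fun hy => ?_
  obtain ⟨z, -⟩ : y ∈ Set.range ι := by rw [hr]; exact hy
  exact Set.notMem_empty z (hu ▸ Set.mem_univ z)

end Groth.Agent.S5057
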