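import Groth.Statements.S5059
import Groth.Agent.NormFlat.RegularFlat
-- import your own Groth.Agent.* helpers here

set_option autoImplicit false
universe u
open CInt

namespace Groth.Agent.S5059

/-- a) iff c) in the Noetherian case: let A be a Noetherian ring, R an ideal of A, f_1, …, f_n elements
of the Jacobson radical of A whose images form a regular sequence on A/R, Q = R + (f_1, …, f_n), and
M a finitely generated A-module. Then every graded piece R^k M / R^(k+1) M is flat over A/R if and
only if, for every k, (R^k M / R^(k+1) M) ⊗ A/Q is flat over A/Q and f_1, …, f_n is a regular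
sequence on R^k M / R^(k+1) M. -/
theorem result (A : Type u) [CommRing A] [IsNoetherianRing A]
    (R : Ideal A) {n : ℕ} (f : Fin n → A) (hrad : ∀ i, f i ∈ (⊥ : Ideal A).jacobson)
    (hreg : RingTheory.Sequence.IsWeaklyRegular (A ⧸ R) (List.ofFn f))
    (M : Type u) [AddCommGroup M] [Module A M] [Module.Finite A M] :
    EGA4.IsNormallyFlat R M ↔
      ∀ k : ℕ, Module.Flat (A ⧸ (R ⊔ Ideal.span (Set.range f))) ((↥(R ^ k • (⊤ : Submodule A M)) ⧸ (R • (⊤ : Submodule A ↥(R ^ k • (⊤ : Submodule A M))))) ⧸ ((R ⊔ Ideal.span (Set.range f)) • (⊤ : Submodule A (↥(R ^ k • (⊤ : Submodule A M)) ⧸ (R • (⊤ : Submodule A ↥(R ^ k • (⊤ : Submodule A M)))))))) ∧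
        RingTheory.Sequence.IsWeaklyRegular (↥(R ^ k • (⊤ : Submodule A M)) ⧸ (R • (⊤ : Submodule A ↥(R ^ k • (⊤ : Submodule A M))))) (List.ofFn f) := by
  let as := List.ofFn f
  have hF : Ideal.span (Set.range f) = Ideal.ofList as := by
    simp only [as, Ideal.ofList, List.mem_ofFn]
    rfl
  refine forall_congr' fun k => ?_
  let N := ↥(R ^ k • (⊤ : Submodule A M)) ⧸ (R • (⊤ : Submodule A ↥(R ^ k • (⊤ : Submodule A M))))
  let C := A ⧸ (R ⊔ Ideal.span (Set.range f))
  let φ : (A ⧸ R) →+* C := Ideal.Quotient.factor (le_sup_left : R ≤ R ⊔ Ideal.span (Set.range f))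
  let : Algebra (A ⧸ R) C := φ.toAlgebra
  have : IsScalarTower A (A ⧸ R) C := IsScalarTower.of_algebraMap_eq fun a => rfl
  have : Module.Finite (A ⧸ R) N := Module.Finite.of_restrictScalars_finite A _ _
  refine Groth.Agent.NormFlat.flat_iff_regular_of_surjective (B := A ⧸ R) (N := N) A
    Ideal.Quotient.mk_surjective C Ideal.Quotient.mk_surjective as ?_ ?_ hreg
    _ (TensorProduct.quotTensorEquivQuotSMul N (R ⊔ Ideal.span (Set.range f)))
  · change RingHom.ker φ = _
    rw [Ideal.Quotient.factor_ker, Ideal.map_sup, Ideal.map_quotient_self, bot_sup_eq, hF]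
    rfl
  · intro a ha
    obtain ⟨i, rfl⟩ := List.mem_ofFn.mp ha
    change f i ∈ Ideal.comap (Ideal.Quotient.mk R) (⊥ : Ideal (A ⧸ R)).jacobson
    rw [Ideal.comap_jacobson_of_surjective Ideal.Quotient.mk_surjective, ← RingHom.ker_eq_comap_bot,
      Ideal.mk_ker]
    exact Ideal.jacobson_mono bot_le (hrad i)

end Groth.Agent.S5059
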