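import Groth.Statements.S5062
import Groth.Agent.Hensel.EtaleLift
import Groth.Agent.Hensel.Local
import Mathlib.AlgebraicGeometry.Morphisms.Etale
import Mathlib.FieldTheory.IsSepClosed
import Mathlib.RingTheory.Etale.StandardEtale

set_option autoImplicit false
open CategoryTheory AlgebraicGeometry
universe u
open Hensel

namespace Groth.Agent.S5062

/-- a) iff c): a local ring A is henselian with separably closed residue field if and only if, for every
étale morphism f : X ⟶ Spec A and every point x of X lying over the closed point s, there is a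
section u of f with u s = x. -/
theorem result (A : Type u) [CommRing A] [IsLocalRing A] :
    (HenselianLocalRing A ∧ IsSepClosed (IsLocalRing.ResidueField A)) ↔
      ∀ (X : Scheme.{u}) (f : X ⟶ Spec (CommRingCat.of A)), Etale f →
        ∀ x : X, f.base x = IsLocalRing.closedPoint A →
          ∃ u : Spec (CommRingCat.of A) ⟶ X, u ≫ f = 𝟙 _ ∧ u.base (IsLocalRing.closedPoint A) = x := by
  constructor
  · rintro ⟨hA, hk⟩ X f hf x hx
    obtain ⟨_, ⟨U, hU : IsAffineOpen U, rfl⟩, hxU, -⟩ :=
      X.isBasis_affineOpens.exists_subset_of_mem_open (Set.mem_univ x) isOpen_univ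
    let φ : CommRingCat.of A ⟶ Γ(X, U) := Spec.preimage (hU.fromSpec ≫ f)
    have hφ : Spec.map φ = hU.fromSpec ≫ f := Spec.map_preimage _
    have het : φ.hom.Etale := by
      rw [← HasRingHomProperty.Spec_iff (P := @Etale), hφ]
      infer_instance
    algebraize [φ.hom]
    have het' : Algebra.Etale A Γ(X, U) := het
    obtain ⟨q, hq⟩ : x ∈ Set.range hU.fromSpec := hU.range_fromSpec.symm ▸ hxU
    let q' : Ideal Γ(X, U) := q.asIdeal
    haveI : q'.IsPrime := q.isPrime
    have hqm : q'.comap (algebraMap A Γ(X, U)) = IsLocalRing.maximalIdeal A := by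
      have : (Spec.map φ) q = IsLocalRing.closedPoint A := by
        rw [hφ, Scheme.Hom.comp_apply, hq]; exact hx
      exact congrArg PrimeSpectrum.asIdeal this
    have hker : IsLocalRing.maximalIdeal A ≤
        RingHom.ker (algebraMap A q'.ResidueField) := by
      intro a ha
      rw [RingHom.mem_ker, IsScalarTower.algebraMap_apply A Γ(X, U) q'.ResidueField,
        Ideal.algebraMap_residueField_eq_zero]
      rw [← hqm] at ha
      exact ha
    letI : Algebra (IsLocalRing.ResidueField A) q'.ResidueField :=
      (Ideal.Quotient.lift _ (algebraMap A q'.ResidueField) hker).toAlgebra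
    haveI : IsScalarTower A (IsLocalRing.ResidueField A) q'.ResidueField :=
      IsScalarTower.of_algebraMap_eq fun _ => rfl
    let σ' : TensorProduct A (IsLocalRing.ResidueField A) Γ(X, U) →ₐ[IsLocalRing.ResidueField A] q'.ResidueField :=
      Algebra.TensorProduct.lift (Algebra.ofId _ _) (IsScalarTower.toAlgHom A Γ(X, U) q'.ResidueField)
        (fun _ _ => Commute.all _ _)
    have hc : ∀ e : Γ(X, U), ∃ c : IsLocalRing.ResidueField A,
        algebraMap _ q'.ResidueField c = algebraMap Γ(X, U) q'.ResidueField e := by
      intro e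
      obtain ⟨c, hc⟩ := Groth.Agent.Hensel.exists_algebraMap_eq_of_unramified σ' (TensorProduct.tmul A 1 e)
      exact ⟨c, hc.trans (by simp [σ'])⟩
    choose c hc using hc
    have hinj : Function.Injective (algebraMap (IsLocalRing.ResidueField A) q'.ResidueField) :=
      (algebraMap (IsLocalRing.ResidueField A) q'.ResidueField).injective
    let σk : Γ(X, U) →ₐ[A] IsLocalRing.ResidueField A :=
      { toFun := c
        map_one' := hinj (by rw [hc, map_one, map_one])
        map_mul' := fun a b => hinj (by simp only [map_mul, hc])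
        map_zero' := hinj (by rw [hc, map_zero, map_zero])
        map_add' := fun a b => hinj (by simp only [map_add, hc])
        commutes' := fun a => hinj (by
          rw [hc, ← IsScalarTower.algebraMap_apply, ← IsScalarTower.algebraMap_apply]) }
    obtain ⟨τ, hτ, -⟩ := Groth.Agent.Hensel.existsUnique_algHom_of_residueField Γ(X, U) σk
    refine ⟨Spec.map (CommRingCat.ofHom τ.toRingHom) ≫ hU.fromSpec, ?_, ?_⟩
    · rw [CategoryTheory.Category.assoc, ← hφ, ← Spec.map_comp, ← Spec.map_id]
      congr 1
      ext a
      exact τ.commutes a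
    · rw [Scheme.Hom.comp_apply, ← hq]
      congr 1
      apply PrimeSpectrum.ext
      ext e
      show τ e ∈ IsLocalRing.maximalIdeal A ↔ e ∈ q'
      rw [← IsLocalRing.residue_eq_zero_iff, hτ, ← Ideal.algebraMap_residueField_eq_zero (I := q'), ← hc e,
        map_eq_zero_iff _ hinj]
      exact Iff.rfl
  · intro h
    have key : ∀ (E : Type u) [CommRing E] [Algebra A E] [Algebra.Etale A E] (x : PrimeSpectrum E),
        x.asIdeal.comap (algebraMap A E) = IsLocalRing.maximalIdeal A → Nonempty (E →ₐ[A] A) := by
      intro E _ _ _ x hx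
      have het : Etale (Spec.map (CommRingCat.ofHom (algebraMap A E))) := by
        rw [HasRingHomProperty.Spec_iff (P := @Etale)]
        exact RingHom.etale_algebraMap.2 ‹_›
      obtain ⟨u, hu, -⟩ := h _ _ het x (PrimeSpectrum.ext hx)
      let t : CommRingCat.of E ⟶ CommRingCat.of A := Spec.preimage u
      have ht : CommRingCat.ofHom (algebraMap A E) ≫ t = 𝟙 _ := by
        apply Spec.map_injective
        rw [Spec.map_comp, Spec.map_preimage, hu, Spec.map_id]
      exact ⟨{ t.hom with commutes' := fun a => congrArg (fun g => g.hom a) ht }⟩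
    refine ⟨Groth.Agent.Hensel.henselianLocalRing_of_retraction fun E _ _ _ σ => ?_, ?_⟩
    · refine key E ⟨RingHom.ker σ.toRingHom, RingHom.ker_isPrime _⟩ ?_
      ext a
      show σ (algebraMap A E a) = 0 ↔ _
      rw [σ.commutes]
      exact IsLocalRing.residue_eq_zero_iff a
    · refine IsSepClosed.of_exists_root _ fun g hg hirr hsep => ?_
      obtain ⟨f, hfg, -, hf⟩ := Polynomial.lifts_and_degree_eq_and_monic
        (Polynomial.map_surjective (IsLocalRing.residue A) IsLocalRing.residue_surjective g) hg
      haveI : Fact (Irreducible g) := ⟨hirr⟩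
      let P : StandardEtalePair A := ⟨f, hf, Polynomial.derivative f, ⟨1, 0, 1, by ring⟩⟩
      let α : AdjoinRoot g := AdjoinRoot.root g
      have h1 : Polynomial.aeval α f = 0 := by
        rw [← Polynomial.aeval_map_algebraMap (IsLocalRing.ResidueField A), 
          show algebraMap A (IsLocalRing.ResidueField A) = IsLocalRing.residue A from rfl, hfg]
        exact AdjoinRoot.eval₂_root g
      have h2 : Polynomial.aeval α (Polynomial.derivative f) ≠ 0 := by
        rw [← Polynomial.aeval_map_algebraMap (IsLocalRing.ResidueField A), ← Polynomial.derivative_map,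
          show algebraMap A (IsLocalRing.ResidueField A) = IsLocalRing.residue A from rfl, hfg]
        exact hsep.aeval_derivative_ne_zero (AdjoinRoot.eval₂_root g)
      have hP : P.HasMap α := ⟨h1, isUnit_iff_ne_zero.2 h2⟩
      let σ := P.lift α hP
      obtain ⟨τ⟩ := key P.Ring ⟨RingHom.ker σ.toRingHom, RingHom.ker_isPrime _⟩ (by
        ext a
        show σ (algebraMap A P.Ring a) = 0 ↔ _
        rw [σ.commutes, IsScalarTower.algebraMap_apply A (IsLocalRing.ResidueField A) (AdjoinRoot g),
          map_eq_zero_iff _ (algebraMap (IsLocalRing.ResidueField A) (AdjoinRoot g)).injective]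
        exact IsLocalRing.residue_eq_zero_iff a)
      have hm := (P.hasMap_X.map τ).1
      refine ⟨IsLocalRing.residue A (τ P.X), ?_⟩
      rw [← hfg, Polynomial.eval_map, Polynomial.eval₂_at_apply]
      rw [Polynomial.coe_aeval_eq_eval] at hm
      rw [show f = P.f from rfl, hm, map_zero]

end Groth.Agent.S5062
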