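import Groth.Statements.S5066
import Groth.Agent.Hensel.EtaleLift

set_option autoImplicit false
universe u
open Hensel

namespace Groth.Agent.S5066

/-- Case of a local ring, affine étale schemes: a local ring A with maximal ideal m is henselian if and
only if, for every finite A-algebra C and every étale A-algebra E, composing with the projection C →
C/mC is a bijection from the set of A-algebra homomorphisms E → C onto the set of A-algebra
homomorphisms E → C/mC. -/
theorem result (A : Type u) [CommRing A] [IsLocalRing A] :
    HenselianLocalRing A ↔
      ∀ (C : Type u) [CommRing C] [Algebra A C] [Module.Finite A C] (E : Type u) [CommRing E] [Algebra A E] [Algebra.Etale A E],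
        Function.Bijective (fun φ : E →ₐ[A] C =>
          (Ideal.Quotient.mkₐ A (Ideal.map (algebraMap A C) (IsLocalRing.maximalIdeal A))).comp φ) := by
  open Groth.Agent.Hensel in
  constructor
  · intro hA C _ _ _ E _ _ _
    have : HenselianRing C ((IsLocalRing.maximalIdeal A).map (algebraMap A C)) :=
      henselianRing_of_isIntegral C
    refine ⟨fun f g hfg ↦ algHom_ext_of_unramified (HenselianRing.jac (R := C)
      (I := (IsLocalRing.maximalIdeal A).map (algebraMap A C))) fun s ↦ Ideal.Quotient.eq.mp
      (DFunLike.congr_fun hfg s), fun σ ↦ ?_⟩
    exact (exists_algHom_lift_etale _ gabberRoot_of_henselianRing E σ).exists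
  · intro h
    refine henselianLocalRing_of_retraction fun E _ _ _ σ ↦ ?_
    have hJ : Ideal.map (algebraMap A A) (IsLocalRing.maximalIdeal A) = IsLocalRing.maximalIdeal A :=
      Ideal.map_id _
    obtain ⟨φ, -⟩ := (h A E).2 ((Ideal.quotientEquivAlgOfEq A hJ.symm).toAlgHom.comp σ)
    exact ⟨φ⟩

end Groth.Agent.S5066
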