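import Groth.Statements.S5067
import Mathlib.AlgebraicGeometry.Morphisms.QuasiFinite
import Mathlib.AlgebraicGeometry.Morphisms.FlatMono
import Mathlib.AlgebraicGeometry.Morphisms.UniversallyOpen
import Mathlib.AlgebraicGeometry.Morphisms.Etale
import Mathlib.RingTheory.Unramified.LocalStructure


set_option autoImplicit false
open CategoryTheory AlgebraicGeometry
universe u
open Unram

namespace Groth.Agent.S5067

/-- Let f : X ⟶ Y be an étale separated morphism of integral schemes which maps the generic point of X
to the generic point of Y and induces a bijection between the residue fields of the generic points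
(f is birational). Then f is an open immersion. -/
theorem result {X Y : Scheme.{u}} [IsIntegral X] [IsIntegral Y]
    (f : X ⟶ Y) [Etale f] [IsSeparated f] (hgen : f.base (genericPoint X) = genericPoint Y)
    (hbir : Function.Bijective (f.residueFieldMap (genericPoint X)).hom) : IsOpenImmersion f := by
  have : LocallyQuasiFinite f := ⟨fun {U} hU {V} hV h => by
    have h₁ := HasRingHomProperty.appLE (P := @LocallyOfFiniteType) f inferInstance ⟨U, hU⟩ ⟨V, hV⟩ h
    have h₂ := HasRingHomProperty.appLE (P := @FormallyUnramified) f inferInstance ⟨U, hU⟩ ⟨V, hV⟩ h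
    algebraize [(f.appLE U V h).hom]
    exact (inferInstance : Algebra.QuasiFinite Γ(Y, U) Γ(X, V))⟩
  have hfib : ∀ x : X, f.base x = genericPoint Y → x = genericPoint X := by
    intro x hx
    have hsp : genericPoint X ⤳ x :=
      (genericPoint_spec X).specializes (Set.mem_univ x)
    have hd := f.isDiscrete_preimage_singleton (genericPoint Y)
    by_contra hne
    obtain ⟨U, hU, hUeq⟩ := (isOpen_induced_iff.mp
      (@isOpen_discrete _ _ hd.to_subtype ({⟨x, hx⟩} : Set (f ⁻¹' {genericPoint Y}))))
    have hxU : x ∈ U := (Set.ext_iff.mp hUeq ⟨x, hx⟩).mpr rfl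
    exact hne (congrArg Subtype.val ((Set.ext_iff.mp hUeq ⟨genericPoint X, hgen⟩).mp
      (hsp.mem_open hU hxU))).symm
  have : IsIso (f.residueFieldMap (genericPoint X)) :=
    (ConcreteCategory.isIso_iff_bijective _).mpr hbir
  have hmono : Mono (X.fromSpecResidueField (genericPoint X) ≫ f) := by
    rw [← Scheme.Hom.SpecMap_residueFieldMap_fromSpecResidueField]
    infer_instance
  have hsurj : Surjective (Limits.pullback.diagonal f) := by
    refine ⟨fun z => ?_⟩
    let π := Limits.pullback.fst f f ≫ f
    have hcl : IsClosed (Set.range (Limits.pullback.diagonal f)) :=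
      (Limits.pullback.diagonal f).isClosedEmbedding.isClosed_range
    obtain ⟨z', hz', hzη⟩ := Flat.generalizingMap (f := π)
      ((genericPoint_spec Y).specializes (Set.mem_univ (π z)))
    refine hz'.mem_closed hcl ?_
    have h1 : Limits.pullback.fst f f z' = genericPoint X := hfib _ hzη
    have h2 : Limits.pullback.snd f f z' = genericPoint X := hfib _ (by
      rw [← hzη, ← Scheme.Hom.comp_apply, ← Limits.pullback.condition])
    have key : ∀ (g : Limits.pullback f f ⟶ X), g z' = genericPoint X →
        ∃ a, (Limits.pullback f f).fromSpecResidueField z' ≫ g =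
          a ≫ X.fromSpecResidueField (genericPoint X) := by
      intro g hg
      rw [← hg]
      exact ⟨_, (Scheme.Hom.SpecMap_residueFieldMap_fromSpecResidueField g z').symm⟩
    obtain ⟨a, ha⟩ := key _ h1
    obtain ⟨b, hb⟩ := key _ h2
    have hab : a = b := by
      rw [← cancel_mono (X.fromSpecResidueField (genericPoint X) ≫ f), ← reassoc_of% ha,
        ← reassoc_of% hb, Limits.pullback.condition]
    have : (Limits.pullback f f).fromSpecResidueField z' =
        (a ≫ X.fromSpecResidueField (genericPoint X)) ≫ Limits.pullback.diagonal f := by
      refine Limits.pullback.hom_ext ?_ ?_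
      · rw [Category.assoc, Limits.pullback.diagonal_fst, Category.comp_id, ha]
      · rw [Category.assoc, Limits.pullback.diagonal_snd, Category.comp_id, hb, hab]
    let p : Spec ((Limits.pullback f f).residueField z') := default
    exact ⟨(a ≫ X.fromSpecResidueField (genericPoint X)) p, by
      rw [← Scheme.Hom.comp_apply, ← this, Scheme.fromSpecResidueField_apply]⟩
  have : IsIso (Limits.pullback.diagonal f) := by
    have : IsOpenImmersion (Limits.pullback.diagonal f) := inferInstance
    have : Epi (Limits.pullback.diagonal f).base := (TopCat.epi_iff_surjective _).mpr hsurj.surj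
    exact IsOpenImmersion.isIso (Limits.pullback.diagonal f)
  have : Mono f := (Limits.pullback.isIso_diagonal_iff f).mp this
  exact IsOpenImmersion.of_flat_of_mono f

end Groth.Agent.S5067
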