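import Groth.Statements.S5068
import Groth.Agent.CIPres.Locus
import Groth.Agent.QRFlat.Basic
import Groth.Agent.CMAux.FibreEquiv
import Groth.Agent.CMAux.FlatDescReg
import Groth.Agent.FlatLocalDepth.Basic


set_option autoImplicit false
universe u
open CInt

namespace Groth.Agent.S5068

/-- Suppose A and C are Noetherian local rings joined by a flat local homomorphism A → C whose closed
fibre C/m_A C is a regular local ring, and consider a local ring B obtained as a quotient of C by an
ideal J (encoded as a surjective C-algebra B, with J taken to be the kernel). The ideal J admits a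
generating sequence that is transversally regular relative to A (each term a non-zero-divisor modulo
the previous ones, and every partial quotient C/(f_1, …, f_j) A-flat) exactly when two things hold:
B is A-flat, and B/m_A B is a complete intersection (meaning its completion is a regular local ring
divided by a regular sequence). -/
theorem result (A C B : Type u) [CommRing A] [IsLocalRing A]
    [IsNoetherianRing A] [CommRing C] [IsLocalRing C] [IsNoetherianRing C] [Algebra A C] [IsLocalHom (algebraMap A C)]
    [Module.Flat A C] (hreg : IsRegularLocalRing (EGA4.FibRing A C))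
    [CommRing B] [IsLocalRing B] [Algebra C B] [Algebra A B] [IsScalarTower A C B] [IsLocalHom (algebraMap A B)]
    (hsurj : Function.Surjective (algebraMap C B)) :
    (∃ rs : List C, Ideal.ofList rs = RingHom.ker (algebraMap C B) ∧ RegImm.IsTransRegularSeq A C rs) ↔
      (Module.Flat A B ∧ Pi1.IsCompleteIntersection (EGA4.FibRing A B)) := by
  haveI := hreg
  let m := (IsLocalRing.maximalIdeal A).map (algebraMap A C)
  let J := RingHom.ker (algebraMap C B)
  have hJne : J ≠ ⊤ := RingHom.ker_ne_top _
  let eB : (C ⧸ J) ≃ₗ[A] B :=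
    { (RingHom.quotientKerEquivOfSurjective hsurj).toAddEquiv with
      map_smul' := fun a z => by
        obtain ⟨c, rfl⟩ := Ideal.Quotient.mk_surjective z
        show algebraMap C B (a • c) = a • algebraMap C B c
        rw [Algebra.smul_def, map_mul, ← IsScalarTower.algebraMap_apply A C B, ← Algebra.smul_def] }
  haveI : IsNoetherianRing B := isNoetherianRing_of_surjective C B _ hsurj
  -- the closed fibre of `B`
  let π : C ⧸ m →+* EGA4.FibRing A B := Ideal.quotientMap _ (algebraMap C B) (by
    rw [← Ideal.map_le_iff_le_comap, Ideal.map_map, ← IsScalarTower.algebraMap_eq])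
  have hπ : Function.Surjective π := Ideal.quotientMap_surjective hsurj
  have hkerπ : RingHom.ker π = J.map (Ideal.Quotient.mk m) := by
    apply le_antisymm
    · intro z hz
      obtain ⟨c, rfl⟩ := Ideal.Quotient.mk_surjective z
      have h1 : algebraMap C B c ∈ m.map (algebraMap C B) := by
        rw [Ideal.map_map, ← IsScalarTower.algebraMap_eq]
        exact Ideal.Quotient.eq_zero_iff_mem.1 hz
      rw [← Ideal.mem_comap, Ideal.comap_map_of_surjective _ hsurj, ← RingHom.ker_eq_comap_bot] at h1
      obtain ⟨a, ha, b, hb, rfl⟩ := Submodule.mem_sup.1 h1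
      rw [map_add, Ideal.Quotient.eq_zero_iff_mem.2 ha, zero_add]
      exact Ideal.mem_map_of_mem _ hb
    · rw [Ideal.map_le_iff_le_comap]
      intro c hc
      show Ideal.Quotient.mk _ (algebraMap C B c) = 0
      rw [RingHom.mem_ker.1 hc, map_zero]
  rw [Groth.Agent.CIPres.isCI_iff_ker π hπ]
  constructor
  · rintro ⟨rs, hrs, hw, hflat⟩
    haveI hBflat : Module.Flat A B := by
      haveI := hflat rs.length le_rfl
      refine Module.Flat.of_linearEquiv (R := A) (M := C ⧸ Ideal.ofList (rs.take rs.length)) ?_
      exact ((Submodule.quotEquivOfEq _ _ (show Ideal.ofList (rs.take rs.length) = J by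
        rw [List.take_length]; exact hrs)).restrictScalars A).trans eB |>.symm
    refine ⟨hBflat, ?_⟩
    rw [Groth.Agent.CIPres.exists_regular_iff _ (RingHom.ker_ne_top π),
      ringKrullDim_eq_of_ringEquiv (RingHom.quotientKerEquivOfSurjective hπ)]
    have hm' : ∀ r ∈ rs, r ∈ IsLocalRing.maximalIdeal C := fun r hr =>
      IsLocalRing.le_maximalIdeal hJne (hrs.le (Ideal.subset_span hr))
    have h1 := ringKrullDim_add_length_eq_ringKrullDim_of_isRegular rs
      ((IsLocalRing.isRegular_iff_isWeaklyRegular_of_subset_maximalIdeal hm').mpr hw)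
    rw [ringKrullDim_eq_of_ringEquiv ((Ideal.quotEquivOfEq hrs).trans (RingHom.quotientKerEquivOfSurjective hsurj)),
      Groth.Agent.FlatLocalDepth.ringKrullDim_eq_add A B, Groth.Agent.FlatLocalDepth.ringKrullDim_eq_add A C] at h1
    classical
    have hμ : (RingHom.ker π).spanFinrank ≤ rs.length := by
      rw [hkerπ]
      refine (Ideal.spanFinrank_map_le_of_fg _ (IsNoetherian.noetherian J)).trans ?_
      rw [show J = Ideal.ofList rs from hrs.symm]
      refine (Submodule.spanFinrank_span_le_ncard_of_finite rs.finite_toSet).trans ?_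
      rw [show {x | x ∈ rs} = (rs.toFinset : Set C) by ext; simp, Set.ncard_coe_finset]
      exact List.toFinset_card_le rs
    haveI : IsLocalRing (EGA4.FibRing A B) := IsLocalRing.of_surjective' (Ideal.Quotient.mk _) Ideal.Quotient.mk_surjective
    haveI : IsNoetherianRing (EGA4.FibRing A B) := inferInstance
    obtain ⟨a, ha⟩ := Groth.Agent.CAlgReg.exists_dim (R := A)
    obtain ⟨b, hb⟩ := Groth.Agent.CAlgReg.exists_dim (R := EGA4.FibRing A B)
    obtain ⟨c, hc⟩ := Groth.Agent.CAlgReg.exists_dim (R := C ⧸ m)
    have hb' : ringKrullDim (B ⧸ (IsLocalRing.maximalIdeal A).map (algebraMap A B)) = b := hb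
    have hc' : ringKrullDim (C ⧸ (IsLocalRing.maximalIdeal A).map (algebraMap A C)) = c := hc
    rw [ha, hb', hc'] at h1
    rw [hb, hc]
    norm_cast at h1 ⊢
    omega
  · rintro ⟨hBflat, rsb, hrsb, hregb⟩
    haveI : Module.Flat A (C ⧸ J) := Module.Flat.of_linearEquiv eB
    have hlift : ∀ z ∈ rsb, ∃ c ∈ J, Ideal.Quotient.mk m c = z := fun z hz => by
      have : z ∈ J.map (Ideal.Quotient.mk m) := hkerπ ▸ hrsb.le (Ideal.subset_span hz)
      exact (Ideal.mem_map_iff_of_surjective _ Ideal.Quotient.mk_surjective).1 this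
    choose g hg hg' using hlift
    let rs : List C := rsb.attach.map fun z => g z.1 z.2
    have hmap : rs.map (Ideal.Quotient.mk m) = rsb := by
      simp only [rs, List.map_map, Function.comp_def, hg']
      exact List.attach_map_subtype_val rsb
    have hsub : ∀ r ∈ rs, r ∈ J := fun r hr => by
      obtain ⟨z, -, rfl⟩ := List.mem_map.1 hr
      exact hg z.1 z.2
    have hmC : m ≤ IsLocalRing.maximalIdeal C := ((IsLocalRing.local_hom_TFAE (algebraMap A C)).out 0 2 rfl rfl).1 inferInstance
    have hjac : m ≤ Ideal.jacobson ⊥ := hmC.trans (IsLocalRing.maximalIdeal_le_jacobson ⊥)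
    have hK : Ideal.ofList rs = J := by
      refine le_antisymm (Ideal.span_le.2 hsub) ?_
      refine Submodule.le_of_le_smul_of_le_jacobson_bot (IsNoetherian.noetherian J) hjac ?_
      intro x hx
      have h1 : Ideal.Quotient.mk m x ∈ (Ideal.ofList rs).map (Ideal.Quotient.mk m) := by
        rw [Ideal.map_ofList, hmap, hrsb, hkerπ]
        exact Ideal.mem_map_of_mem _ hx
      obtain ⟨y, hy, hxy⟩ := (Ideal.mem_map_iff_of_surjective _ Ideal.Quotient.mk_surjective).1 h1
      have h2 : x - y ∈ m * J := Groth.Agent.QRFlat.inf_map_le J (IsLocalRing.maximalIdeal A)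
        (Ideal.Quotient.eq.1 hxy.symm) (sub_mem hx ((Ideal.span_le.2 hsub : Ideal.ofList rs ≤ J) hy))
      rw [← add_sub_cancel y x]
      exact Submodule.add_mem_sup hy h2
    obtain ⟨e⟩ := Groth.Agent.CMAux.nonempty_fibreEquiv A C C
    have hw0 : RingTheory.Sequence.IsWeaklyRegular (C ⧸ (m • (⊤ : Submodule C C))) rs := by
      refine (LinearEquiv.isWeaklyRegular_congr (Submodule.quotEquivOfEq _ m (by rw [smul_eq_mul, Ideal.mul_top])) rs).2 ?_
      refine (RingTheory.Sequence.isWeaklyRegular_map_algebraMap_iff (C ⧸ m) (C ⧸ m) rs).1 ?_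
      show RingTheory.Sequence.IsWeaklyRegular (C ⧸ m) (rs.map (Ideal.Quotient.mk m))
      rw [hmap]; exact hregb.toIsWeaklyRegular
    obtain ⟨hw, hq⟩ := Groth.Agent.FlatLocalDepth.regular_and_flat_quot A hjac rs C
      ((LinearEquiv.isWeaklyRegular_congr e rs).2 hw0)
    refine ⟨rs, hK, hw, fun j _ => ?_⟩
    haveI := Groth.Agent.CMAux.flat_take A C hjac rs C (fun f hf => IsLocalRing.maximalIdeal_le_jacobson ⊥
      (IsLocalRing.le_maximalIdeal hJne (hsub f hf))) hw hq j
    exact Module.Flat.of_linearEquiv ((Submodule.quotEquivOfEq (Ideal.ofList (rs.take j) • (⊤ : Submodule C C))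
      (Ideal.ofList (rs.take j)) (by rw [smul_eq_mul, Ideal.mul_top])).restrictScalars A).symm

end Groth.Agent.S5068
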