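import Groth.Statements.S5069
import Mathlib.RingTheory.HopkinsLevitzki

set_option autoImplicit false
universe u v
open Hensel

namespace Groth.Agent.S5069

/-- First assertion, phrased for the images of the inductive system: let B be a Noetherian commutative
ring and (C_i) a family of Artinian subrings of B, directed under inclusion, whose union is B. Then
B is an Artinian ring. -/
theorem result (B : Type u) [CommRing B] [IsNoetherianRing B]
    {ι : Type v} [Nonempty ι] (C : ι → Subring B) (hdir : Directed (fun a b => a ≤ b) C)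
    (hart : ∀ i, IsArtinianRing ↥(C i)) (hcov : ∀ b : B, ∃ i, b ∈ C i) : IsArtinianRing B := by
  have hk : Ring.KrullDimLE 0 B := by
    refine Ring.KrullDimLE.mk₀ fun P hP ↦ ⟨hP.ne_top, fun Q hPQ ↦ ?_⟩
    by_contra hne
    obtain ⟨x, hxQ, hxP⟩ := SetLike.exists_of_lt hPQ
    obtain ⟨i, hi⟩ := hcov x
    have := hart i
    have hp : (P.comap (C i).subtype).IsMaximal :=
      IsArtinianRing.isMaximal_of_isPrime _
    obtain ⟨y, z, hz, hyz⟩ := hp.exists_inv (x := (⟨x, hi⟩ : C i)) hxP
    refine hne ((Ideal.eq_top_iff_one _).mpr ?_)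
    have := congrArg Subtype.val hyz
    simp only [Subring.coe_add, Subring.coe_mul, Subring.coe_one] at this
    rw [← this]
    exact add_mem (Q.mul_mem_left _ hxQ) (hPQ.le hz)
  exact IsNoetherianRing.isArtinianRing_of_krullDimLE_zero

end Groth.Agent.S5069
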