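import Groth.Statements.S5072
import Groth.Agent.Hensel.HenselTransfer
import Groth.Agent.Hensel.Product
import Groth.Agent.Hensel.Local
import Mathlib.FieldTheory.PurelyInseparable.Basic

set_option autoImplicit false
open scoped TensorProduct
universe u
open Hensel

namespace Groth.Agent.S5072

/-- Case of a local ring A and a local finite A-algebra B: let S be a strict henselization of A and T a
strict henselization of B. Then there is a maximal ideal q of B ⊗_A S such that T is isomorphic, as
a B-algebra, to the local ring (B ⊗_A S)_q. -/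
theorem result (A B S T : Type u) [CommRing A] [IsLocalRing A]
    [CommRing B] [IsLocalRing B] [Algebra A B] [Module.Finite A B]
    [CommRing S] [IsLocalRing S] [Algebra A S] [IsLocalHom (algebraMap A S)] [Hensel.IsStrictHenselization A S]
    [CommRing T] [IsLocalRing T] [Algebra B T] [IsLocalHom (algebraMap B T)] [Hensel.IsStrictHenselization B T] :
    ∃ (q : Ideal (B ⊗[A] S)) (_ : q.IsMaximal), Nonempty (Localization.AtPrime q ≃ₐ[B] T) := by
  let hS : Hensel.IsStrictHenselization A S := inferInstance
  let hT : Hensel.IsStrictHenselization B T := inferInstance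
  have hSh := hS.henselian
  have hTh := hT.henselian
  have hSs := hS.isSepClosure
  have hTs := hT.isSepClosure
  have hlAB : IsLocalHom (algebraMap A B) :=
    ((IsLocalRing.local_hom_TFAE _).out 4 0 rfl rfl).mp
      (IsLocalRing.eq_maximalIdeal (Ideal.isMaximal_comap_of_isIntegral_of_isMaximal _))
  let _ : Algebra A T := ((algebraMap B T).comp (algebraMap A B)).toAlgebra
  have : IsScalarTower A B T := .of_algebraMap_eq' rfl
  have hlT : IsLocalHom (algebraMap A T) :=
    inferInstanceAs (IsLocalHom ((algebraMap B T).comp (algebraMap A B)))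
  have : IsSepClosed (IsLocalRing.ResidueField T) := IsSepClosure.sep_closed (IsLocalRing.ResidueField B)
  have : Algebra.IsSeparable (IsLocalRing.ResidueField A) (IsLocalRing.ResidueField S) :=
    IsSepClosure.separable
  let τ : IsLocalRing.ResidueField S →ₐ[IsLocalRing.ResidueField A] IsLocalRing.ResidueField T :=
    IsSepClosed.lift
  obtain ⟨g, ⟨hg, hgr⟩, -⟩ := hS.universal T (algebraMap A T) τ.toRingHom (RingHom.ext τ.commutes)
  let g' : S →ₐ[A] T := { toRingHom := g, commutes' := DFunLike.congr_fun hg }
  let φ : B ⊗[A] S →ₐ[A] T := Algebra.TensorProduct.productMap (IsScalarTower.toAlgHom A B T) g'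
  let ι : S →ₐ[A] B ⊗[A] S := Algebra.TensorProduct.includeRight
  let _ : Algebra S (B ⊗[A] S) := ι.toRingHom.toAlgebra
  have hfin : Module.Finite S (B ⊗[A] S) := by
    obtain ⟨t, ht⟩ := Module.Finite.fg_top (R := A) (M := B)
    classical
    refine ⟨⟨t.image fun b ↦ b ⊗ₜ[A] (1 : S), eq_top_iff.mpr fun z _hz ↦ ?_⟩⟩
    clear _hz
    induction z using TensorProduct.induction_on with
    | zero => exact zero_mem _
    | add x y hx hy => exact add_mem hx hy
    | tmul b s =>
      rw [show b ⊗ₜ[A] s = s • (b ⊗ₜ[A] (1 : S)) from by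
        change _ = ((1 : B) ⊗ₜ[A] s) * (b ⊗ₜ[A] (1 : S))
        rw [Algebra.TensorProduct.tmul_mul_tmul, one_mul, mul_one]]
      refine Submodule.smul_mem _ s ?_
      have hb : b ∈ Submodule.span A (t : Set B) := ht ▸ Submodule.mem_top
      induction hb using Submodule.span_induction with
      | mem y hy => exact Submodule.subset_span (by simpa using ⟨y, hy, rfl⟩)
      | zero => simp
      | add y z _ _ hy hz => rw [TensorProduct.add_tmul]; exact add_mem hy hz
      | smul a y _ hy =>
        rw [show (a • y) ⊗ₜ[A] (1 : S) = algebraMap A S a • (y ⊗ₜ[A] (1 : S)) from by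
          change _ = ((1 : B) ⊗ₜ[A] algebraMap A S a) * (y ⊗ₜ[A] (1 : S))
          rw [Algebra.TensorProduct.tmul_mul_tmul, one_mul, mul_one, Algebra.algebraMap_eq_smul_one,
            TensorProduct.smul_tmul]]
        exact Submodule.smul_mem _ _ hy
  set q := (IsLocalRing.maximalIdeal T).comap φ.toRingHom with hq
  have hφι : ∀ s, φ (ι s) = g s := fun s ↦ Algebra.TensorProduct.productMap_right_apply _ g' s
  have hφL : ∀ b : B, φ (b ⊗ₜ[A] (1 : S)) = algebraMap B T b := fun b ↦
    Algebra.TensorProduct.productMap_left_apply _ g' b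
  have hlg : IsLocalHom g := by
    refine ((IsLocalRing.local_hom_TFAE g).out 2 0 rfl rfl).mp (Ideal.map_le_iff_le_comap.mpr fun x hx ↦ ?_)
    rw [Ideal.mem_comap, ← IsLocalRing.residue_eq_zero_iff, hgr,
      (IsLocalRing.residue_eq_zero_iff x).mpr hx, map_zero]
  have hqS : q.comap (algebraMap S (B ⊗[A] S)) = IsLocalRing.maximalIdeal S := by
    ext s
    rw [hq, Ideal.mem_comap, Ideal.mem_comap]
    change φ (ι s) ∈ _ ↔ _
    rw [hφι, IsLocalRing.mem_maximalIdeal, map_mem_nonunits_iff, IsLocalRing.mem_maximalIdeal]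
  have hqm : q.IsMaximal := Ideal.isMaximal_of_isIntegral_of_isMaximal_comap (R := S) q
    (hqS ▸ IsLocalRing.maximalIdeal.isMaximal S)
  refine ⟨q, hqm, ?_⟩
  let L := Localization.AtPrime q
  obtain ⟨hfinM, hb⟩ := Groth.Agent.Hensel.bijective_pi_localization_of_surjOn (A := S) (B := B ⊗[A] S)
    (Groth.Agent.Hensel.idempotents_bijOn Groth.Agent.Hensel.gabberRoot_of_henselianLocalRing _).surjOn
  have hfinL : Module.Finite S L := by
    classical
    refine Module.Finite.of_surjective (IsScalarTower.toAlgHom S (B ⊗[A] S) L).toLinearMap fun z ↦ ?_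
    obtain ⟨t, ht⟩ := hb.2 (Pi.single (M := fun m : MaximalSpectrum (B ⊗[A] S) ↦
      Localization.AtPrime m.asIdeal) ⟨q, hqm⟩ z)
    exact ⟨t, (congrFun ht ⟨q, hqm⟩).trans (Pi.single_eq_same _ _)⟩
  have hL : HenselianLocalRing L := Groth.Agent.Hensel.henselianLocalRing_of_isIntegral (R := S) L
  let iB : B →+* L := (algebraMap (B ⊗[A] S) L).comp Algebra.TensorProduct.includeLeftRingHom
  have hiB : ∀ b, algebraMap B L b = iB b := fun b ↦ IsScalarTower.algebraMap_apply B (B ⊗[A] S) L b
  have hu : ∀ y : q.primeCompl, IsUnit (φ y) := fun y ↦ not_not.mp fun hn ↦ y.2 (Ideal.mem_comap.mpr hn)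
  let ψ : L →+* T := IsLocalization.lift (M := q.primeCompl) (g := φ.toRingHom) hu
  have hψ : ∀ d, ψ (algebraMap _ L d) = φ d := IsLocalization.lift_eq _
  have hlψ : IsLocalHom ψ := by
    refine ((IsLocalRing.local_hom_TFAE ψ).out 2 0 rfl rfl).mp ?_
    rw [← IsLocalization.AtPrime.map_eq_maximalIdeal q L, Ideal.map_map, Ideal.map_le_iff_le_comap]
    intro d hd
    rw [Ideal.mem_comap, RingHom.comp_apply, hψ]
    exact hd
  have hψB : ψ.comp (algebraMap B L) = algebraMap B T := RingHom.ext fun b ↦ by
    rw [RingHom.comp_apply, hiB]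
    exact (hψ _).trans (hφL b)
  have hlB : IsLocalHom (algebraMap B L) := by
    have : IsLocalHom (ψ.comp (algebraMap B L)) := by rw [hψB]; infer_instance
    exact isLocalHom_of_comp _ ψ
  have hlS : IsLocalHom (algebraMap S L) := by
    have : IsLocalHom (ψ.comp (algebraMap S L)) := by
      rw [show ψ.comp (algebraMap S L) = g from RingHom.ext fun s ↦ (hψ (ι s)).trans (hφι s)]
      exact hlg
    exact isLocalHom_of_comp _ ψ
  have : Module.Finite (IsLocalRing.ResidueField S) (IsLocalRing.ResidueField L) :=
    Module.Finite.of_restrictScalars_finite S _ _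
  have : IsSepClosed (IsLocalRing.ResidueField S) := IsSepClosure.sep_closed (IsLocalRing.ResidueField A)
  have hsc : IsSepClosed (IsLocalRing.ResidueField L) :=
    Algebra.IsAlgebraic.isSepClosed (F := IsLocalRing.ResidueField S)
  let ρ : IsLocalRing.ResidueField L →ₐ[IsLocalRing.ResidueField B] IsLocalRing.ResidueField T :=
    { toRingHom := IsLocalRing.ResidueField.map ψ
      commutes' := fun x ↦ by
        obtain ⟨b, rfl⟩ := IsLocalRing.residue_surjective x
        exact congrArg (IsLocalRing.residue T) (DFunLike.congr_fun hψB b) }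
  have := hTs.separable
  have hsep : Algebra.IsSeparable (IsLocalRing.ResidueField B) (IsLocalRing.ResidueField L) :=
    Algebra.IsSeparable.of_algHom _ (IsLocalRing.ResidueField T) ρ
  have hstrict : Hensel.IsStrictHenselization B L := by
    refine ⟨hL, ⟨hsc, hsep⟩, fun T' _ _ f hf τ' hτ' ↦ ?_⟩
    let _ : Algebra A T' := (f.comp (algebraMap A B)).toAlgebra
    have : IsLocalHom (f.comp (algebraMap A B)) := inferInstance
    let τS := τ'.comp (IsLocalRing.ResidueField.map (algebraMap S L))
    have hSA : ∀ a, algebraMap S L (algebraMap A S a) = algebraMap B L (algebraMap A B a) := fun a ↦ by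
      rw [hiB]
      exact congrArg (algebraMap (B ⊗[A] S) L) (ι.commutes a)
    have hτS : τS.comp (IsLocalRing.ResidueField.map (algebraMap A S)) =
        IsLocalRing.ResidueField.map (f.comp (algebraMap A B)) := RingHom.ext fun x ↦ by
      obtain ⟨a, rfl⟩ := IsLocalRing.residue_surjective x
      exact (congrArg (fun z ↦ τ' (IsLocalRing.residue L z)) (hSA a)).trans
        (DFunLike.congr_fun hτ' (IsLocalRing.residue B (algebraMap A B a)))
    obtain ⟨g₀, ⟨hg₀, hg₀r⟩, hu₀⟩ := hS.universal T' (f.comp (algebraMap A B)) τS hτS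
    let g₀' : S →ₐ[A] T' := { toRingHom := g₀, commutes' := DFunLike.congr_fun hg₀ }
    let f' : B →ₐ[A] T' := { toRingHom := f, commutes' := fun a ↦ rfl }
    let χ := Algebra.TensorProduct.productMap f' g₀'
    have hχr : ∀ d, IsLocalRing.residue T' (χ d) = τ' (IsLocalRing.residue L (algebraMap _ L d)) := fun d ↦ by
      induction d using TensorProduct.induction_on with
      | zero => simp
      | add x y hx hy => simp [hx, hy]
      | tmul b s =>
        rw [show χ (b ⊗ₜ[A] s) = f b * g₀ s from Algebra.TensorProduct.productMap_apply_tmul _ _ _ _,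
          show b ⊗ₜ[A] s = b ⊗ₜ[A] (1 : S) * ι s by
            simp [ι], map_mul, map_mul, map_mul, map_mul, hg₀r]
        congr 1
        exact ((congrArg (fun z ↦ τ' (IsLocalRing.residue L z)) (hiB b).symm).trans
          (DFunLike.congr_fun hτ' (IsLocalRing.residue B b))).symm
    have hχu : ∀ y : q.primeCompl, IsUnit (χ y) := fun y ↦ by
      rw [← IsLocalRing.residue_ne_zero_iff_isUnit, hχr]
      exact (((IsLocalization.map_units L y).map (IsLocalRing.residue L)).map τ').ne_zero
    let G : L →+* T' := IsLocalization.lift (M := q.primeCompl) (g := χ.toRingHom) hχu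
    have hG : ∀ d, G (algebraMap _ L d) = χ d := IsLocalization.lift_eq _
    have hGB : G.comp (algebraMap B L) = f := RingHom.ext fun b ↦ by
      rw [RingHom.comp_apply, hiB]
      exact (hG _).trans (Algebra.TensorProduct.productMap_left_apply f' g₀' b)
    refine ⟨G, ⟨hGB, fun x ↦ ?_⟩, fun G' ⟨h1, h2⟩ ↦ IsLocalization.ringHom_ext q.primeCompl
      (RingHom.ext fun d ↦ ?_)⟩
    · obtain ⟨d, e, rfl⟩ := IsLocalization.exists_mk'_eq q.primeCompl x
      have hne := (((IsLocalization.map_units L e).map (IsLocalRing.residue L)).map τ').ne_zero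
      refine mul_right_cancel₀ hne ?_
      rw [← map_mul, ← map_mul, IsLocalization.mk'_spec]
      rw [← hχr, ← map_mul, ← hG, ← map_mul, IsLocalization.mk'_spec, hG, hχr]
    · have hGS : (G'.comp (algebraMap S L)) = g₀ := hu₀ _ ⟨RingHom.ext fun a ↦ by
        rw [RingHom.comp_apply, RingHom.comp_apply, hSA]
        exact DFunLike.congr_fun h1 (algebraMap A B a), fun s ↦ h2 _⟩
      simp only [RingHom.comp_apply, hG]
      induction d using TensorProduct.induction_on with
      | zero => simp
      | add x y hx hy => rw [map_add, map_add, hx, hy, map_add]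
      | tmul b s =>
        rw [show χ (b ⊗ₜ[A] s) = f b * g₀ s from Algebra.TensorProduct.productMap_apply_tmul _ _ _ _,
          show b ⊗ₜ[A] s = b ⊗ₜ[A] (1 : S) * ι s by simp [ι], map_mul, map_mul]
        congr 1
        · exact (congrArg G' (hiB b).symm).trans (DFunLike.congr_fun h1 b)
        · exact DFunLike.congr_fun hGS s
  exact Groth.Agent.Hensel.exists_algEquiv_of_isStrictHenselization (R := B) (S := L) (S' := T)

end Groth.Agent.S5072
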