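import Groth.Statements.S5073
import Mathlib.Tactic
import Mathlib.RingTheory.Localization.AtPrime.Basic
import Mathlib.RingTheory.Nilpotent.Lemmas
import Mathlib.RingTheory.Ideal.Operations
import Mathlib.RingTheory.Ideal.MinimalPrime.Noetherian
import Mathlib.RingTheory.Ideal.MinimalPrime.Localization

set_option autoImplicit false
universe u
open EGA418

namespace Groth.Agent.S5073

/-- Let A be a Noetherian local ring, p a prime ideal and x an element of A. Then there is an element x'
of A whose image in A_p equals that of x and which belongs to no minimal prime ideal of A not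
contained in p. -/
theorem result (A : Type u) [CommRing A] [IsNoetherianRing A] [IsLocalRing A]
    (p : Ideal A) [p.IsPrime] (x : A) :
    ∃ x' : A, algebraMap A (Localization.AtPrime p) x' = algebraMap A (Localization.AtPrime p) x ∧
      ∀ q ∈ minimalPrimes A, ¬ q ≤ p → x' ∉ q := by
  classical
  set K : Ideal A := RingHom.ker (algebraMap A (Localization.AtPrime p)) with hKdef
  have hK : ∀ q ∈ minimalPrimes A, ¬ q ≤ p → ¬ K ≤ q := by
    intro q hq hqp hle
    have hqprime : q.IsPrime := hq.1.1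
    obtain ⟨a, haq, hap⟩ := SetLike.not_le_iff_exists.1 hqp
    have hnil : IsNilpotent (algebraMap A (Localization.AtPrime q) a) := by
      rw [nilpotent_iff_mem_prime]
      intro P hP
      have h1 : P.comap (algebraMap A (Localization.AtPrime q)) ≤ q :=
        ((IsLocalization.AtPrime.orderIsoOfPrime (Localization.AtPrime q) q) ⟨P, hP⟩).2.2
      have h2 : q ≤ P.comap (algebraMap A (Localization.AtPrime q)) :=
        hq.2 ⟨hP.comap _, bot_le⟩ h1
      exact h2 haq
    obtain ⟨k, hk⟩ := hnil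
    rw [← map_pow] at hk
    obtain ⟨t, ht⟩ := (IsLocalization.map_eq_zero_iff q.primeCompl (Localization.AtPrime q) _).1 hk
    have htK : (t : A) ∈ K := by
      rw [hKdef, RingHom.mem_ker, IsLocalization.map_eq_zero_iff p.primeCompl]
      exact ⟨⟨a ^ k, fun h => hap (‹p.IsPrime›.mem_of_pow_mem k h)⟩, by rw [← ht, mul_comm]⟩
    exact t.2 (hle htK)
  set S := (minimalPrimes.finite_of_isNoetherianRing A).toFinset.filter fun q => ¬ q ≤ p with hS
  have hmem : ∀ q, q ∈ S ↔ q ∈ minimalPrimes A ∧ ¬ q ≤ p := fun q => by simp [hS]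
  set S₀ := S.filter fun q => x ∉ q with hS₀
  set S₁ := S.filter fun q => x ∈ q with hS₁
  set J := K * ∏ q ∈ S₀, q with hJ
  have hJ1 : ∀ q ∈ S₁, ¬ J ≤ q := by
    intro q hq hle
    rw [hS₁, Finset.mem_filter, hmem] at hq
    have hqprime : q.IsPrime := hq.1.1.1.1
    rcases hqprime.mul_le.1 hle with h | h
    · exact hK q hq.1.1 hq.1.2 h
    · obtain ⟨q', hq', hle'⟩ := hqprime.prod_le.1 h
      rw [hS₀, Finset.mem_filter, hmem] at hq'
      exact hq'.2 (le_antisymm hle' (hq.1.1.2 hq'.1.1.1 hle') ▸ hq.2)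
  have hy : ¬ (↑J : Set A) ⊆ ⋃ q ∈ S₁, (q : Set A) := by
    intro hsub
    obtain ⟨q, hq, hle⟩ := (Ideal.subset_union_prime (f := id) ⊥ ⊥ (fun q hq _ _ => by
      rw [hS₁, Finset.mem_filter, hmem] at hq
      exact hq.1.1.1.1)).1 hsub
    exact hJ1 q hq hle
  obtain ⟨y, hyJ, hy1⟩ := Set.not_subset.1 hy
  have hyK : algebraMap A (Localization.AtPrime p) y = 0 := (Ideal.mul_le_left (J := ∏ q ∈ S₀, q) hyJ : y ∈ K)
  refine ⟨x + y, by rw [map_add, hyK, add_zero], fun q hq hqp hmemq => ?_⟩
  by_cases hxq : x ∈ q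
  · refine hy1 (Set.mem_iUnion₂.2 ⟨q, Finset.mem_filter.2 ⟨(hmem q).2 ⟨hq, hqp⟩, hxq⟩, ?_⟩)
    have := q.sub_mem hmemq hxq
    rwa [add_sub_cancel_left] at this
  · have hyq : y ∈ q :=
      Ideal.prod_le_inf.trans (Finset.inf_le (Finset.mem_filter.2 ⟨(hmem q).2 ⟨hq, hqp⟩, hxq⟩))
        (Ideal.mul_le_right (I := K) hyJ)
    have := q.sub_mem hmemq hyq
    rw [add_sub_cancel_right] at this
    exact hxq this

end Groth.Agent.S5073
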