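import Groth.Statements.S5075
import Groth.Agent.Unram.TopInv


set_option autoImplicit false
open CategoryTheory AlgebraicGeometry
universe u
open Unram

namespace Groth.Agent.S5075

/-- Let p : X ⟶ S be étale, g : S' ⟶ S a morphism and i : S'₀ ⟶ S' a surjective closed immersion (a
closed subscheme with the same underlying space). Then for every f₀ : S'₀ ⟶ X over S there is
exactly one f : S' ⟶ X over S with i ≫ f = f₀. -/
theorem result {X S S' S'₀ : Scheme.{u}} (p : X ⟶ S) [Etale p]
    (g : S' ⟶ S) (i : S'₀ ⟶ S') [IsClosedImmersion i] [Surjective i]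
    (f₀ : S'₀ ⟶ X) (h₀ : f₀ ≫ p = i ≫ g) :
    ∃! f : S' ⟶ X, f ≫ p = g ∧ i ≫ f = f₀ := by
  let s₀ : S'₀ ⟶ Limits.pullback p g := Limits.pullback.lift f₀ i h₀
  obtain ⟨t, ⟨ht₁, ht₂⟩, huniq⟩ := Groth.Agent.Unram.existsUnique_section (Limits.pullback.snd p g) i s₀
    (Limits.pullback.lift_snd _ _ _)
  refine ⟨t ≫ Limits.pullback.fst p g, ⟨?_, ?_⟩, ?_⟩
  · rw [Category.assoc, Limits.pullback.condition, ← Category.assoc, ht₁, Category.id_comp]
  · rw [← Category.assoc, ht₂, Limits.pullback.lift_fst]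
  · rintro f ⟨hf, hif⟩
    rw [← huniq (Limits.pullback.lift f (𝟙 S') (by rw [hf, Category.id_comp]))
      ⟨Limits.pullback.lift_snd _ _ _, Limits.pullback.hom_ext ?_ ?_⟩, Limits.pullback.lift_fst]
    · rw [Category.assoc, Limits.pullback.lift_fst, hif]; exact (Limits.pullback.lift_fst _ _ _).symm
    · rw [Category.assoc, Limits.pullback.lift_snd, Category.comp_id]
      exact (Limits.pullback.lift_snd _ _ _).symm

end Groth.Agent.S5075
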