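import Groth.Statements.S5076
import Mathlib.RingTheory.Ideal.GoingUp
import Mathlib.RingTheory.IntegralClosure.IsIntegralClosure.Basic
import Mathlib.RingTheory.Nakayama
import Mathlib.RingTheory.LocalRing.RingHom.Basic
import Mathlib.RingTheory.Jacobson.Ideal
import Mathlib.Tactic.LinearCombination


set_option autoImplicit false
universe u
open Unram

namespace Groth.Agent.S5076

open IsLocalRing in
theorem aux (A C : Type u) [CommRing A] [IsLocalRing A]
    [CommRing C] [Algebra A C] [Module.Finite A C] (r : Ideal C) [r.IsMaximal] (u : C)
    (hu₁ : ∀ r' : Ideal C, r'.IsMaximal → r' ≠ r → u ∈ r') (hu₂ : u ∉ r)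
    (B : Subalgebra A C) (hB : B = Algebra.adjoin A ({u} : Set C))
    (hu₃ : Subalgebra.toSubmodule (Algebra.adjoin A {algebraMap C (Localization.AtPrime r) u}) ⊔
        Submodule.restrictScalars A (Ideal.map (algebraMap A (Localization.AtPrime r)) (IsLocalRing.maximalIdeal A)) = ⊤) :
    Function.Bijective (Localization.localRingHom (Ideal.comap B.val.toRingHom r) r B.val.toRingHom rfl) := by
  have huB : u ∈ B := hB ▸ Algebra.subset_adjoin rfl
  haveI : Module.Finite B C := Module.Finite.of_restrictScalars_finite A B C
  haveI : Algebra.IsIntegral B C := Algebra.IsIntegral.of_finite B C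
  set q : Ideal B := Ideal.comap B.val.toRingHom r with hq
  haveI : q.IsMaximal := Ideal.isMaximal_comap_of_isIntegral_of_isMaximal (R := B) r
  have key : ∀ s : C, s ∉ r → ∃ t : B, t ∉ q ∧ ∃ c : C, c * s = (t : C) := by
    intro s hs
    by_contra hcon
    push Not at hcon
    have hdis : Disjoint (Ideal.span {s} : Set C)
        ((q.primeCompl.map B.val.toRingHom : Submonoid C) : Set C) := by
      rw [Set.disjoint_left]
      rintro x hx ⟨t, ht, rfl⟩
      obtain ⟨c, hc⟩ := Ideal.mem_span_singleton'.mp hx
      exact hcon t ht c hc
    obtain ⟨P, hP, hle, hdisP⟩ := Ideal.exists_le_prime_disjoint _ _ hdis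
    have hPq : P.comap (algebraMap B C) ≤ q := by
      intro t ht
      by_contra h
      exact Set.disjoint_left.mp hdisP ht ⟨t, h, rfl⟩
    obtain ⟨Q, hQ, hQp, hQc⟩ := Ideal.exists_ideal_over_prime_of_isIntegral q P hPq
    haveI := hQp
    haveI : Q.IsMaximal := Ideal.isMaximal_of_isIntegral_of_isMaximal_comap (R := B) Q
      (by rw [hQc]; infer_instance)
    have hQr : Q = r := by
      by_contra hne
      have h1 : (⟨u, huB⟩ : B) ∈ q := by
        rw [← hQc]; exact hu₁ Q inferInstance hne
      exact hu₂ h1
    exact hs (hQr ▸ hQ (hle (Ideal.mem_span_singleton_self s)))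
  let φ := Localization.localRingHom q r B.val.toRingHom rfl
  have hφ : ∀ b : B, φ (algebraMap B _ b) = algebraMap C (Localization.AtPrime r) (b : C) :=
    fun b => Localization.localRingHom_to_map q r B.val.toRingHom rfl b
  refine ⟨(injective_iff_map_eq_zero φ).mpr fun x hx => ?_, ?_⟩
  · obtain ⟨⟨b, t⟩, rfl⟩ := IsLocalization.mk'_surjective q.primeCompl x
    have hx' : algebraMap C (Localization.AtPrime r) (b : C) = 0 := by
      rw [← hφ, ← IsLocalization.mk'_spec (Localization.AtPrime q) b t, map_mul, hx, zero_mul]
    obtain ⟨⟨s, hs⟩, hsb⟩ := (IsLocalization.map_eq_zero_iff r.primeCompl _ _).mp hx'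
    obtain ⟨t0, ht0, c, hc⟩ := key s hs
    rw [IsLocalization.mk'_eq_zero_iff]
    refine ⟨⟨t0, ht0⟩, Subtype.ext ?_⟩
    have hsb' : s * (b : C) = 0 := hsb
    simp only [MulMemClass.coe_mul, ZeroMemClass.coe_zero]
    rw [← hc, mul_assoc, hsb', mul_zero]
  · letI := φ.toAlgebra
    have hgen : ∀ x : Localization.AtPrime r, ∃ (a : Localization.AtPrime q) (c : C),
        x = a • algebraMap C (Localization.AtPrime r) c := by
      intro x
      obtain ⟨⟨c, s, hs⟩, rfl⟩ := IsLocalization.mk'_surjective r.primeCompl x
      obtain ⟨t0, ht0, d, hd⟩ := key s hs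
      refine ⟨IsLocalization.mk' _ (1 : B) (⟨t0, ht0⟩ : q.primeCompl), c * d, ?_⟩
      rw [Algebra.smul_def, RingHom.algebraMap_toAlgebra]
      have e : φ (IsLocalization.mk' _ (1 : B) (⟨t0, ht0⟩ : q.primeCompl)) *
          algebraMap C (Localization.AtPrime r) (t0 : C) = 1 := by
        rw [← hφ, ← map_mul, IsLocalization.mk'_spec, map_one, map_one]
      have e2 := IsLocalization.mk'_spec (Localization.AtPrime r) c (⟨s, hs⟩ : r.primeCompl)
      rw [map_mul, ← e2]
      have : algebraMap C (Localization.AtPrime r) d * algebraMap C (Localization.AtPrime r) s =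
          algebraMap C (Localization.AtPrime r) (t0 : C) := by rw [← map_mul, hd]
      linear_combination (-(IsLocalization.mk' (Localization.AtPrime r) c (⟨s, hs⟩ : r.primeCompl))) * e
        - (φ (IsLocalization.mk' _ (1 : B) (⟨t0, ht0⟩ : q.primeCompl))) *
          (IsLocalization.mk' (Localization.AtPrime r) c (⟨s, hs⟩ : r.primeCompl)) * this
    have hA : ∀ a : A, φ (algebraMap B _ (algebraMap A B a)) =
        algebraMap A (Localization.AtPrime r) a := by
      intro a
      rw [hφ, IsScalarTower.algebraMap_apply A C (Localization.AtPrime r) a]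
      rfl
    obtain ⟨G, hG⟩ := Module.finite_def.mp (inferInstance : Module.Finite A C)
    let M : Submodule (Localization.AtPrime q) (Localization.AtPrime r) :=
      Submodule.span _ (algebraMap C (Localization.AtPrime r) '' (G : Set C))
    have hM : M = ⊤ := by
      rw [eq_top_iff]
      intro x hxx; clear hxx
      obtain ⟨a, c, rfl⟩ := hgen x
      refine M.smul_mem a ?_
      have hc : c ∈ Submodule.span A (G : Set C) := hG ▸ trivial
      induction hc using Submodule.span_induction with
      | mem x hx => exact Submodule.subset_span ⟨x, hx, rfl⟩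
      | zero => rw [map_zero]; exact M.zero_mem
      | add x y _ _ hx hy => rw [map_add]; exact M.add_mem hx hy
      | smul a x _ hx =>
        have : algebraMap C (Localization.AtPrime r) (a • x) =
            (algebraMap B (Localization.AtPrime q) (algebraMap A B a)) •
              algebraMap C (Localization.AtPrime r) x := by
          rw [Algebra.smul_def a x, map_mul, Algebra.smul_def, RingHom.algebraMap_toAlgebra, hA,
            ← IsScalarTower.algebraMap_apply A C (Localization.AtPrime r) a]
        rw [this]; exact M.smul_mem _ hx
    have hfg : (⊤ : Submodule (Localization.AtPrime q) (Localization.AtPrime r)).FG := by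
      classical
      exact ⟨G.image (algebraMap C (Localization.AtPrime r)), by rw [Finset.coe_image]; exact hM⟩
    let N : Submodule (Localization.AtPrime q) (Localization.AtPrime r) :=
      LinearMap.range (Algebra.linearMap _ _)
    have hN : (⊤ : Submodule _ (Localization.AtPrime r)) ≤ N := by
      refine Submodule.le_of_le_smul_of_le_jacobson_bot hfg
        (maximalIdeal_le_jacobson ⊥) ?_
      intro x hxx; clear hxx
      have hx : x ∈ Subalgebra.toSubmodule (Algebra.adjoin A {algebraMap C (Localization.AtPrime r) u}) ⊔
        Submodule.restrictScalars A (Ideal.map (algebraMap A (Localization.AtPrime r)) (IsLocalRing.maximalIdeal A)) := hu₃ ▸ trivial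
      obtain ⟨y, hy, z, hz, rfl⟩ := Submodule.mem_sup.mp hx
      clear hx
      refine Submodule.add_mem_sup ?_ ?_
      · change y ∈ Algebra.adjoin A _ at hy
        show y ∈ LinearMap.range _
        simp only [LinearMap.mem_range, Algebra.linearMap_apply, RingHom.algebraMap_toAlgebra]
        induction hy using Algebra.adjoin_induction with
        | mem x hx => exact ⟨algebraMap B _ ⟨u, huB⟩, by rw [hφ]; exact (Set.mem_singleton_iff.mp hx).symm⟩
        | algebraMap a => exact ⟨_, hA a⟩
        | add x y _ _ hx hy =>
          obtain ⟨a, rfl⟩ := hx; obtain ⟨b, rfl⟩ := hy; exact ⟨a + b, map_add φ a b⟩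
        | mul x y _ _ hx hy =>
          obtain ⟨a, rfl⟩ := hx; obtain ⟨b, rfl⟩ := hy; exact ⟨a * b, map_mul φ a b⟩
      · rw [Submodule.restrictScalars_mem] at hz
        induction hz using Submodule.span_induction with
        | mem x hx =>
          obtain ⟨a, ha, rfl⟩ := hx
          have ha' : algebraMap A B a ∈ q := by
            haveI : Algebra.IsIntegral A C := Algebra.IsIntegral.of_finite A C
            haveI : (r.comap (algebraMap A C)).IsMaximal :=
              Ideal.isMaximal_comap_of_isIntegral_of_isMaximal r
            have := IsLocalRing.eq_maximalIdeal (R := A) (I := r.comap (algebraMap A C)) inferInstance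
            show algebraMap A C a ∈ r
            exact (this ▸ ha : a ∈ r.comap (algebraMap A C))
          rw [← hA a, ← RingHom.algebraMap_toAlgebra φ, Algebra.algebraMap_eq_smul_one]
          refine Submodule.smul_mem_smul ?_ trivial
          rw [← Localization.AtPrime.map_eq_maximalIdeal]
          exact Ideal.mem_map_of_mem _ ha'
        | zero => exact Submodule.zero_mem _
        | add x y _ _ hx hy => exact Submodule.add_mem _ hx hy
        | smul c x _ hx =>
          refine Submodule.smul_induction_on hx ?_ ?_
          · intro a ha m _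
            have : c • a • m = a • (c • m) := smul_comm c a m
            rw [this]
            exact Submodule.smul_mem_smul ha trivial
          · intro x y hx hy
            rw [smul_add]; exact Submodule.add_mem _ hx hy
    intro x
    exact hN (trivial : x ∈ ⊤)


/-- Let A be a local ring with maximal ideal m, C a finite A-algebra, r a maximal ideal of C, and u an
element of C which lies in every maximal ideal of C other than r, does not lie in r, and whose image
generates C_r modulo m C_r as an A-algebra. Let B = A[u] be the A-subalgebra of C generated by u and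
n the inverse image of r in B. Then the canonical homomorphism B_n → C_r is bijective. -/
theorem result (A C : Type u) [CommRing A] [IsLocalRing A]
    [CommRing C] [Algebra A C] [Module.Finite A C] (r : Ideal C) [r.IsMaximal] (u : C)
    (hu₁ : ∀ r' : Ideal C, r'.IsMaximal → r' ≠ r → u ∈ r') (hu₂ : u ∉ r)
    (hu₃ : Subalgebra.toSubmodule (Algebra.adjoin A {algebraMap C (Localization.AtPrime r) u}) ⊔
        Submodule.restrictScalars A (Ideal.map (algebraMap A (Localization.AtPrime r)) (IsLocalRing.maximalIdeal A)) = ⊤) :
    Function.Bijective (Localization.localRingHom (Ideal.comap (Algebra.adjoin A ({u} : Set C)).val.toRingHom r) r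
      (Algebra.adjoin A ({u} : Set C)).val.toRingHom rfl) := by
  exact aux A C r u hu₁ hu₂ (Algebra.adjoin A ({u} : Set C)) rfl hu₃

end Groth.Agent.S5076
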