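import Groth.Statements.S5077
import Mathlib


set_option autoImplicit false
universe u
open Unram

namespace Groth.Agent.S5077

open Polynomial

theorem exists_deriv_notMem {A B : Type u} [CommRing A] [CommRing B] [Algebra A B] [Module.Finite A B] (u : B)
    (hu : Algebra.adjoin A ({u} : Set B) = ⊤) (n : Ideal B) [n.IsPrime] (hn : Algebra.IsUnramifiedAt A n) :
    ∃ G : A[X], aeval u G = 0 ∧ aeval u (derivative G) ∉ n := by
  by_contra! h
  have hs : Function.Surjective (aeval u : A[X] →ₐ[A] B) := by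
    rw [← AlgHom.range_eq_top, ← Algebra.adjoin_singleton_eq_range_aeval, hu]
  obtain ⟨σ, hσ⟩ := hs.hasRightInverse
  let π := Ideal.Quotient.mkₐ A n
  let D₀ : A[X] →ₗ[A] (B ⧸ n) := (π.comp (aeval u)).toLinearMap.comp derivative
  have key : ∀ P Q, aeval u P = aeval u Q → D₀ P = D₀ Q := fun P Q hPQ =>
    sub_eq_zero.1 (by
      rw [← map_sub]
      exact Ideal.Quotient.eq_zero_iff_mem.2 (h _ (by rw [map_sub, hPQ, sub_self])))
  let D : Derivation A B (B ⧸ n) := Derivation.mk'
    { toFun := fun x => D₀ (σ x)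
      map_add' := fun x y => by rw [← map_add]; exact key _ _ (by rw [map_add, hσ, hσ, hσ])
      map_smul' := fun a x => by
        rw [RingHom.id_apply, ← map_smul]; exact key _ _ (by rw [map_smul, hσ, hσ]) }
    (fun x y => by
      show D₀ (σ (x * y)) = x • D₀ (σ y) + y • D₀ (σ x)
      rw [key (σ (x * y)) (σ x * σ y) (by rw [map_mul, hσ, hσ, hσ])]
      simp only [D₀, π, LinearMap.comp_apply, derivative_mul, AlgHom.toLinearMap_apply, AlgHom.comp_apply,
        map_add, map_mul, hσ _, Algebra.smul_def, Ideal.Quotient.algebraMap_eq, Ideal.Quotient.mkₐ_eq_mk]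
      ring)
  haveI : Algebra.FormallyUnramified A (Localization.AtPrime n) := hn
  have h0 : KaehlerDifferential.map A A B (Localization.AtPrime n) (KaehlerDifferential.D A B u) = 0 :=
    Subsingleton.elim _ _
  obtain ⟨s, hs'⟩ := (IsLocalizedModule.eq_zero_iff n.primeCompl _).1 h0
  refine s.2 (Ideal.Quotient.eq_zero_iff_mem.1 ?_)
  have h1 := congrArg D.liftKaehlerDifferential hs'
  rw [Submonoid.smul_def, map_smul, map_zero, Derivation.liftKaehlerDifferential_comp_D] at h1
  have h2 : D u = 1 := by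
    show D₀ (σ u) = 1
    rw [key (σ u) X (by rw [hσ, aeval_X])]
    simp [D₀, π]
  rwa [h2, Algebra.smul_def, mul_one] at h1

theorem exists_monic {A B : Type u} [CommRing A] [IsLocalRing A] [CommRing B] [Algebra A B] [Module.Finite A B] (u : B)
    (hu : Algebra.adjoin A ({u} : Set B) = ⊤) :
    ∃ F : A[X], F.Monic ∧ aeval u F = 0 ∧ ∀ G : A[X], aeval u G = 0 →
      ∃ R : A[X], R.map (Ideal.Quotient.mk (IsLocalRing.maximalIdeal A)) = 0 ∧ ∃ H, G = H * F + R := by
  classical
  let m := IsLocalRing.maximalIdeal A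
  letI := Ideal.Quotient.field m
  let q := Ideal.Quotient.mk m
  have hs : Function.Surjective (aeval u : A[X] →ₐ[A] B) := by
    rw [← AlgHom.range_eq_top, ← Algebra.adjoin_singleton_eq_range_aeval, hu]
  let J : Ideal ((A ⧸ m)[X]) := (RingHom.ker (aeval u : A[X] →ₐ[A] B)).map (mapRingHom q)
  obtain ⟨M, hM, hMu⟩ : ∃ M : A[X], M.Monic ∧ aeval u M = 0 := Algebra.IsIntegral.isIntegral (R := A) u
  have hJ : J ≠ ⊥ := fun h0 => (hM.map q).ne_zero (by
    have := Ideal.mem_map_of_mem (mapRingHom q) (show M ∈ RingHom.ker (aeval u : A[X] →ₐ[A] B) from hMu)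
    rw [show (RingHom.ker (aeval u : A[X] →ₐ[A] B)).map (mapRingHom q) = ⊥ from h0] at this
    simpa using this)
  obtain ⟨g, hg⟩ : ∃ g, J = Ideal.span {g} := ⟨_, (Ideal.span_singleton_generator J).symm⟩
  have hg0 : g ≠ 0 := fun h0 => hJ (by rw [hg, h0, Ideal.span_singleton_eq_bot.2 rfl])
  let g₁ := g * C g.leadingCoeff⁻¹
  have hg1 : g₁.Monic := monic_mul_leadingCoeff_inv hg0
  obtain ⟨F₁, hF₁, hdeg, hF₁m⟩ := lifts_and_degree_eq_and_monic (f := q)
    ((mem_lifts _).2 ⟨_, (Polynomial.map_surjective q Ideal.Quotient.mk_surjective g₁).choose_spec⟩) hg1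
  obtain ⟨G₁, hG₁, hG₁q⟩ := (Ideal.mem_map_iff_of_surjective (mapRingHom q)
    (Polynomial.map_surjective q Ideal.Quotient.mk_surjective)).1
      (show g₁ ∈ J from hg ▸ Ideal.mul_mem_right _ _ (Ideal.mem_span_singleton_self g))
  -- the span of the first `d` powers is everything
  let d := F₁.natDegree
  let N : Submodule A B := Submodule.span A (Set.range fun i : Fin d => u ^ (i : ℕ))
  have hN : ∀ P : A[X], aeval u (P %ₘ F₁) ∈ N := fun P => by
    rw [aeval_eq_sum_range]
    refine Submodule.sum_mem _ fun i _ => ?_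
    by_cases hi : i < d
    · exact Submodule.smul_mem _ _ (Submodule.subset_span ⟨⟨i, hi⟩, rfl⟩)
    · rcases eq_or_ne (P %ₘ F₁) 0 with h0 | h0
      · simp [h0]
      · rw [coeff_eq_zero_of_natDegree_lt (lt_of_lt_of_le (natDegree_modByMonic_lt P hF₁m (fun h1 => by
          simp [h1] at h0)) (not_lt.1 hi)), zero_smul]
        exact zero_mem _
  have hsmul : ∀ (R : A[X]), R.map q = 0 → aeval u R ∈ m • (⊤ : Submodule A B) := fun R hR => by
    rw [aeval_eq_sum_range]
    refine Submodule.sum_mem _ fun i _ => Submodule.smul_mem_smul ?_ Submodule.mem_top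
    rw [← Ideal.Quotient.eq_zero_iff_mem]
    simpa [coeff_map] using congrArg (coeff · i) hR
  have htop : N = ⊤ := by
    refine top_le_iff.1 (Submodule.le_of_le_smul_of_le_jacobson_bot Module.Finite.fg_top
      (IsLocalRing.jacobson_eq_maximalIdeal _ bot_ne_top).ge fun x _ => ?_)
    obtain ⟨P, rfl⟩ := hs x
    rw [← modByMonic_add_div P F₁, map_add]
    refine Submodule.add_mem_sup (hN P) ?_
    have hsub : aeval u (F₁ * (P /ₘ F₁)) = aeval u ((F₁ - G₁) * (P /ₘ F₁)) := by
      simp [RingHom.mem_ker.1 hG₁]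
    rw [hsub]
    refine hsmul _ ?_
    rw [Polynomial.map_mul, Polynomial.map_sub, hF₁, show G₁.map q = g₁ from hG₁q, sub_self, zero_mul]
  obtain ⟨c, hc⟩ := (Submodule.mem_span_range_iff_exists_fun A).1 (htop.ge (Submodule.mem_top (x := u ^ d)))
  let F : A[X] := X ^ d - ∑ i : Fin d, C (c i) * X ^ (i : ℕ)
  have hFm : F.Monic := monic_X_pow_sub (degree_sum_fin_lt c)
  have hFu : aeval u F = 0 := by
    simp [F, ← hc, Algebra.smul_def]
  refine ⟨F, hFm, hFu, fun G hG => ?_⟩
  have hdd : F.natDegree = d := by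
    refine natDegree_eq_of_degree_eq_some ?_
    simp only [F]
    rw [degree_sub_eq_left_of_degree_lt (by rw [degree_X_pow]; exact degree_sum_fin_lt c), degree_X_pow]
  have hmem : ∀ P : A[X], aeval u P = 0 → g₁ ∣ P.map q := fun P hP => by
    have h1 := Ideal.mem_map_of_mem (mapRingHom q) (show P ∈ RingHom.ker (aeval u : A[X] →ₐ[A] B) from hP)
    rw [show (RingHom.ker (aeval u : A[X] →ₐ[A] B)).map (mapRingHom q) = Ideal.span {g} from hg,
      Ideal.mem_span_singleton] at h1
    exact (Associated.dvd_iff_dvd_left (associated_mul_unit_right g _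
      (isUnit_C.2 (isUnit_iff_ne_zero.2 (inv_ne_zero (leadingCoeff_ne_zero.2 hg0)))))).1 h1
  have hFg : F.map q = g₁ := (eq_of_monic_of_dvd_of_natDegree_le hg1 (hFm.map q) (hmem F hFu) (by
    rw [hFm.natDegree_map, hdd, show d = g₁.natDegree by
      rw [← natDegree_eq_of_degree_eq hdeg]])).symm ▸ rfl
  obtain ⟨h, hh⟩ := hmem G hG
  obtain ⟨H, hH⟩ := Polynomial.map_surjective q Ideal.Quotient.mk_surjective h
  exact ⟨G - H * F, by rw [Polynomial.map_sub, Polynomial.map_mul, hFg, hH, hh]; ring, H, by ring⟩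


/-- Let A be a local ring and B a finite A-algebra generated by a single element u. Then there is a
monic polynomial F with coefficients in A such that F(u) = 0 and F'(u) does not belong to any
maximal ideal n of B at which B is unramified over A. -/
theorem result (A B : Type u) [CommRing A] [IsLocalRing A]
    [CommRing B] [Algebra A B] [Module.Finite A B] (u : B) (hu : Algebra.adjoin A ({u} : Set B) = ⊤) :
    ∃ F : Polynomial A, F.Monic ∧ Polynomial.aeval u F = 0 ∧
      ∀ (n : Ideal B) [n.IsMaximal], Algebra.IsUnramifiedAt A n → Polynomial.aeval u (Polynomial.derivative F) ∉ n := by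
  obtain ⟨F, hFm, hFu, hF⟩ := exists_monic u hu
  refine ⟨F, hFm, hFu, fun n hn hunr hmem => ?_⟩
  obtain ⟨G, hG, hG'⟩ := exists_deriv_notMem u hu n hunr
  obtain ⟨R, hR, H, rfl⟩ := hF G hG
  refine hG' ?_
  have hmn : (IsLocalRing.maximalIdeal A).map (algebraMap A B) ≤ n := by
    refine Ideal.map_le_iff_le_comap.2 (le_of_eq ?_)
    haveI : (n.comap (algebraMap A B)).IsMaximal := Ideal.isMaximal_comap_of_isIntegral_of_isMaximal n
    exact (IsLocalRing.eq_maximalIdeal this).symm
  have hR' : Polynomial.aeval u (Polynomial.derivative R) ∈ n := by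
    rw [Polynomial.aeval_eq_sum_range]
    refine Ideal.sum_mem _ fun i _ => ?_
    rw [Algebra.smul_def]
    refine n.mul_mem_right _ (hmn (Ideal.mem_map_of_mem _ ?_))
    rw [← Ideal.Quotient.eq_zero_iff_mem, ← Polynomial.coeff_map, ← Polynomial.derivative_map, hR]
    simp
  simp only [Polynomial.derivative_add, Polynomial.derivative_mul, map_add, map_mul, hFu, mul_zero, zero_add]
  exact n.add_mem (n.mul_mem_left _ hmem) hR'

end Groth.Agent.S5077
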