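import Groth.Statements.S5081
import Mathlib.Algebra.Polynomial.Derivation
import Mathlib.RingTheory.Adjoin.Polynomial
import Mathlib.RingTheory.Ideal.Quotient.Operations


set_option autoImplicit false
universe u
open Unram

namespace Groth.Agent.S5081

/-- Let B be a finite A-algebra generated by a single element u and F a polynomial with coefficients in
A such that F(u) = 0. Then the ideal generated by F'(u) is contained in the annihilator of the
module of differentials of B over A, and equals it when the kernel of the surjection A[T] → B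
sending T to u is generated by F. -/
theorem result (A B : Type u) [CommRing A] [CommRing B] [Algebra A B]
    [Module.Finite A B] (u : B) (hu : Algebra.adjoin A ({u} : Set B) = ⊤) (F : Polynomial A) (hF : Polynomial.aeval u F = 0) :
    Ideal.span {Polynomial.aeval u (Polynomial.derivative F)} ≤ Module.annihilator B (KaehlerDifferential A B) ∧
      (RingHom.ker (Polynomial.aeval u : Polynomial A →ₐ[A] B) = Ideal.span {F} →
        Module.annihilator B (KaehlerDifferential A B) = Ideal.span {Polynomial.aeval u (Polynomial.derivative F)}) := by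
  set D := KaehlerDifferential.D A B with hD
  have hsurj : Function.Surjective (Polynomial.aeval u : Polynomial A →ₐ[A] B) := by
    rw [← AlgHom.range_eq_top, ← Algebra.adjoin_singleton_eq_range_aeval, hu]
  have hgen : ∀ ω : KaehlerDifferential A B, ∃ b : B, ω = b • D u := by
    intro ω
    have hω : ω ∈ Submodule.span B (Set.range D) := by
      rw [hD, KaehlerDifferential.span_range_derivation]; trivial
    induction hω using Submodule.span_induction with
    | mem x hx =>
      obtain ⟨b, rfl⟩ := hx
      obtain ⟨p, rfl⟩ := hsurj b
      exact ⟨_, by rw [Derivation.map_aeval]⟩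
    | zero => exact ⟨0, (zero_smul _ _).symm⟩
    | add x y _ _ hx hy =>
      obtain ⟨a, rfl⟩ := hx; obtain ⟨b, rfl⟩ := hy
      exact ⟨a + b, (add_smul _ _ _).symm⟩
    | smul c x _ hx =>
      obtain ⟨a, rfl⟩ := hx
      exact ⟨c * a, (mul_smul _ _ _).symm⟩
  have hle : Ideal.span {Polynomial.aeval u (Polynomial.derivative F)} ≤ Module.annihilator B (KaehlerDifferential A B) := by
    rw [Ideal.span_singleton_le_iff_mem, Module.mem_annihilator]
    intro ω
    obtain ⟨b, rfl⟩ := hgen ω
    rw [smul_comm, ← Derivation.map_aeval, hF, map_zero, smul_zero]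
  refine ⟨hle, fun hker => le_antisymm ?_ hle⟩
  intro c hc
  set J := Ideal.span {Polynomial.aeval u (Polynomial.derivative F)}
  have hwd : ∀ p : Polynomial A, Polynomial.aeval u p = 0 →
      Polynomial.aeval u (Polynomial.derivative p) ∈ J := by
    intro p hp
    obtain ⟨q, rfl⟩ := Ideal.mem_span_singleton'.1 (hker ▸ (show p ∈ RingHom.ker (Polynomial.aeval u : Polynomial A →ₐ[A] B) from hp))
    rw [Polynomial.derivative_mul, map_add, map_mul, map_mul, hF, mul_zero, zero_add]
    exact J.mul_mem_left _ (Ideal.subset_span rfl)
  let d0 : B → B ⧸ J := fun b => Ideal.Quotient.mk J (Polynomial.aeval u (Polynomial.derivative (Function.surjInv hsurj b)))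
  have hd0 : ∀ p : Polynomial A, d0 (Polynomial.aeval u p) = Ideal.Quotient.mk J (Polynomial.aeval u (Polynomial.derivative p)) := by
    intro p
    rw [Ideal.Quotient.eq, ← map_sub, ← map_sub]
    apply hwd
    rw [map_sub, Function.surjInv_eq hsurj, sub_self]
  let lin : B →ₗ[A] B ⧸ J :=
    { toFun := d0
      map_add' := fun x y => by
        obtain ⟨p, rfl⟩ := hsurj x; obtain ⟨q, rfl⟩ := hsurj y
        rw [← map_add, hd0, hd0, hd0, map_add, map_add, map_add]
      map_smul' := fun a x => by
        obtain ⟨p, rfl⟩ := hsurj x
        rw [← map_smul, hd0, hd0, Polynomial.derivative_smul, map_smul]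
        rfl }
  let d : Derivation A B (B ⧸ J) := Derivation.mk' lin (fun x y => by
    obtain ⟨p, rfl⟩ := hsurj x; obtain ⟨q, rfl⟩ := hsurj y
    show d0 _ = _ • d0 _ + _ • d0 _
    rw [← map_mul, hd0, hd0, hd0, Polynomial.derivative_mul, map_add, map_mul, map_mul, map_add,
      Algebra.smul_def, Algebra.smul_def]
    show _ = Ideal.Quotient.mk J _ * _ + Ideal.Quotient.mk J _ * _
    rw [map_mul, map_mul]
    ring)
  have h1 : d u = 1 := by
    show d0 u = 1
    rw [show u = Polynomial.aeval u (Polynomial.X : Polynomial A) from (Polynomial.aeval_X u).symm, hd0]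
    simp
  have hc' := (Module.mem_annihilator.1 hc) (D u)
  have := congrArg d.liftKaehlerDifferential hc'
  rw [map_smul, map_zero, Derivation.liftKaehlerDifferential_comp_D, h1, Algebra.smul_def, mul_one] at this
  exact (Ideal.Quotient.eq_zero_iff_mem).1 this

end Groth.Agent.S5081
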