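import Groth.Statements.S5082
import Groth.Agent.MeroDivLead.DepthOne
import Groth.Agent.MeroDivLead.Easy
-- import your own Groth.Agent.* helpers here

set_option autoImplicit false
universe u
open CategoryTheory CategoryTheory.Limits AlgebraicGeometry TopologicalSpace
open Mero

namespace Groth.Agent.S5082

/-- Let A be a Noetherian local ring. Then the group of divisors of Spec A is trivial (every divisor
equals the unit divisor, divisors being written multiplicatively) if and only if A has depth 0, that
is, if and only if every element of the maximal ideal of A is a zero-divisor. -/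
theorem result (A : Type u) [CommRing A] [IsNoetherianRing A] [IsLocalRing A] :
    (∀ D : Mero.Divisor (Spec (CommRingCat.of A)), D = 1) ↔ LocCoh.depth A A = 0 := by
  let X := Spec (CommRingCat.of A)
  let x₀ : X := IsLocalRing.closedPoint A
  have htop : ∀ U : X.Opens, x₀ ∈ U → U = ⊤ := fun U hU =>
    top_le_iff.1 fun y _ => (IsLocalRing.specializes_closedPoint y).mem_open U.2 hU
  let e : A ≃+* Γ(X, ⊤) := (Scheme.ΓSpecIso (CommRingCat.of A)).symm.commRingCatIsoToRingEquiv
  haveI : IsLocalRing Γ(X, ⊤) := e.isLocalRing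
  have hnzd : ∀ {R S : Type u} [CommRing R] [CommRing S] (φ : R ≃+* S) {r : R}, r ∈ nonZeroDivisors R →
      φ r ∈ nonZeroDivisors S := fun φ r hr => mem_nonZeroDivisors_iff_right.2 fun c hc => by
    have := congrArg φ.symm hc
    rw [map_mul, φ.symm_apply_apply, map_zero] at this
    exact φ.symm.injective ((mem_nonZeroDivisors_iff_right.1 hr _ this).trans (map_zero _).symm)
  have hunit : ∀ (a : A), IsUnit (X.presheaf.germ ⊤ x₀ trivial (e a)) → IsUnit a := fun a h => by
    have h1 : x₀ ∈ X.basicOpen (e a) := (X.mem_basicOpen (e a) x₀ trivial).2 h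
    rw [basicOpen_eq_of_affine'] at h1
    have h2 : a ∉ IsLocalRing.maximalIdeal A := by
      intro ha
      refine h1 ?_
      show (Scheme.ΓSpecIso (CommRingCat.of A)).hom ((Scheme.ΓSpecIso (CommRingCat.of A)).inv a) ∈ _
      rw [Iso.inv_hom_id_apply]
      exact ha
    exact IsLocalRing.notMem_maximalIdeal.1 h2
  constructor
  · intro h
    by_contra hd
    obtain ⟨a, ham, hareg⟩ : ∃ a ∈ IsLocalRing.maximalIdeal A, a ∈ nonZeroDivisors A := by
      by_contra hcon
      push Not at hcon
      refine hd (Groth.Agent.Depth.depth_eq_zero_iff.2 ?_)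
      have hsub : (IsLocalRing.maximalIdeal A : Set A) ⊆ ⋃ p ∈ associatedPrimes A A, p := fun a ha => by
        rw [biUnion_associatedPrimes_eq_compl_regular]
        intro hr
        exact hcon a ha (mem_nonZeroDivisors_iff_right.2 fun c hc => hr (by simpa [mul_comm] using hc))
      obtain ⟨p, hp, hle⟩ := (Ideal.subset_union_prime_finite (associatedPrimes.finite A A) ⊥ ⊥
        (fun p hp _ _ => hp.1)).1 hsub
      rwa [(IsLocalRing.maximalIdeal.isMaximal A).eq_of_le hp.1.ne_top hle]
    have hr : e a ∈ Mero.regSub X ⊤ := by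
      rw [Groth.Agent.MeroDivLead.regSub_eq_nonZeroDivisors ⊤ (isAffineOpen_top X)]
      exact hnzd e hareg
    let bA : Mero.regSub X ⊤ := ⟨e a, hr⟩
    let F : Γ(Mero.kmod X, ⊤) := Mero.toK X ⊤ (e a)
    let F' : Γ(Mero.kmod X, ⊤) := ⟨fun y => Localization.mk (1 : X.presheaf.stalk y.1) (Mero.regGerm y bA),
      fun y => ⟨⊤, y.2, 𝟙 _, 1, bA, fun z => Mero.mk_congr (map_one (X.presheaf.germ ⊤ z.1 z.2).hom).symm rfl⟩⟩
    have hFF : F * F' = 1 := Subtype.ext (funext fun y => by
      change Localization.mk (X.presheaf.germ ⊤ y.1 y.2 (e a)) 1 * Localization.mk 1 (Mero.regGerm y bA) =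
        (1 : Mero.KStalk X y.1)
      rw [Localization.mk_mul, mul_one, one_mul]
      exact Localization.mk_self (Mero.regGerm y bA))
    let f : (Γ(Mero.kmod X, ⊤))ˣ := ⟨F, F', hFF, by rw [mul_comm, hFF]⟩
    have h0 := congrFun (congrArg Subtype.val (h (Mero.div f))) x₀
    change Mero.germOf f ⟨x₀, trivial⟩ = 1 at h0
    rw [Mero.germOf, QuotientGroup.eq_one_iff, Groth.Agent.MeroDivLead.mem_stalkUnits] at h0
    obtain ⟨v, hv⟩ := h0
    have : (v : X.presheaf.stalk x₀) = X.presheaf.germ ⊤ x₀ trivial (e a) :=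
      Mero.algebraMap_KStalk_injective x₀ (hv.trans (Localization.mk_one_eq_algebraMap _))
    exact (IsLocalRing.mem_maximalIdeal a).1 ham (hunit a (this ▸ v.isUnit))
  · intro hd D
    have key : ∀ D : Mero.Divisor X, Mero.IsEffective D := fun D y => by
      obtain ⟨U, hxU, m, b, hfr⟩ := Groth.Agent.MeroDivLead.exists_frac D x₀
      have hyU : y ∈ U.1 := by rw [htop U.1 hxU]; trivial
      refine Groth.Agent.MeroDivLead.effectiveAt_of_germ_mem_span hfr ⟨y, hyU⟩ ?_
      obtain ⟨r, hr⟩ := e.surjective (X.presheaf.map (homOfLE (htop U.1 hxU).ge).op b.1)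
      have hbreg : r ∈ nonZeroDivisors A := by
        have h1 := Mero.regSub_res (homOfLE (htop U.1 hxU).ge) b.2
        rw [← hr, Groth.Agent.MeroDivLead.regSub_eq_nonZeroDivisors ⊤ (isAffineOpen_top X)] at h1
        have h2 := hnzd e.symm h1
        rwa [e.symm_apply_apply] at h2
      have hu : IsUnit r := by
        by_contra hn
        obtain ⟨-, z, hz⟩ := Groth.Agent.Depth.depth_eq_zero_iff.1 hd
        have hrm : r ∈ IsLocalRing.maximalIdeal A := hn
        rw [hz] at hrm
        obtain ⟨n, hn'⟩ := hrm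
        rw [Submodule.mem_colon_singleton, Submodule.mem_bot, smul_eq_mul] at hn'
        have hz0 : z = 0 := mem_nonZeroDivisors_iff_left.1 (pow_mem hbreg n) z hn'
        refine (IsLocalRing.maximalIdeal.isMaximal A).ne_top ?_
        rw [hz, hz0, Ideal.eq_top_iff_one]
        exact Ideal.le_radical (Submodule.mem_colon_singleton.mpr (by simp))
      have hbu : IsUnit (X.presheaf.germ U.1 y hyU b.1) := by
        have := ((hu.map e).map (X.presheaf.germ ⊤ y trivial).hom)
        rw [hr] at this
        simpa only [TopCat.Presheaf.germ_res_apply] using this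
      rw [Ideal.span_singleton_eq_top.2 hbu]
      exact Submodule.mem_top
    exact Subtype.ext (funext fun y => Groth.Agent.MeroDivLead.eq_one_of_effective (key D y) (key D⁻¹ y))
end Groth.Agent.S5082
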