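import Groth.Statements.S5084
import Groth.Agent.MeroFrac.Regular
import Groth.Agent.AssPtsMore.Basic
import Groth.Agent.QCohBase.Exact
-- import your own Groth.Agent.* helpers here

set_option autoImplicit false
universe u
open CategoryTheory CategoryTheory.Limits AlgebraicGeometry TopologicalSpace
open Mero

namespace Groth.Agent.S5084

/-- Let X be a locally Noetherian scheme and F a quasi-coherent O_X-module. Then F is torsion-free — the
canonical map from F to its sheaf of meromorphic sections K_X(F), m ↦ m/1, is a monomorphism, i.e.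
at every point no germ of a regular function kills a nonzero element of the stalk of F — if and only
if every associated point of F is an associated point of the structure sheaf (a point x such that
the maximal ideal of O_{X,x} is an associated prime of O_{X,x}). -/
theorem result (X : Scheme.{u}) [IsLocallyNoetherian X]
    (F : X.Modules) (hF : Coh.IsQCoh F) :
    Mono (Mero.toMer F) ↔
      ∀ x : ↥X, Curv2.IsAssPoint F x →
        IsAssociatedPrime (IsLocalRing.maximalIdeal ↑(X.presheaf.stalk x)) ↑(X.presheaf.stalk x) := by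
  classical
  haveI : F.IsQuasicoherent := hF
  haveI := Groth.Agent.AssPts.isQuasicoherent_structureModule X
  constructor
  · intro hm x hx
    rw [Groth.Agent.AssPtsMore.isAssociatedPrime_stalk_iff]
    by_contra hxO
    obtain ⟨_, ⟨A, hA, rfl⟩, hxA, -⟩ := X.isBasis_affineOpens.exists_subset_of_mem_open (Set.mem_univ x) isOpen_univ
    have hfinA : (Groth.Agent.MeroFrac.wass A).Finite := Groth.Agent.MeroFrac.finite_wass hA
    let B : Set ↥X := ⋃ z ∈ {z ∈ Groth.Agent.MeroFrac.wass A | ¬ z ⤳ x}, closure ({z} : Set ↥X)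
    have hB : IsClosed B := (hfinA.subset fun z hz => hz.1).isClosed_biUnion fun _ _ => isClosed_closure
    have hxB : x ∈ ((A ⊓ ⟨_, hB.isOpen_compl⟩ : X.Opens) : Set ↥X) := by
      refine ⟨hxA, fun h => ?_⟩
      obtain ⟨z, hz, hzx⟩ := Set.mem_iUnion₂.1 h
      exact hz.2 (specializes_iff_mem_closure.2 hzx)
    obtain ⟨_, ⟨A', hA', rfl⟩, hxA', hA'le⟩ :=
      X.isBasis_affineOpens.exists_subset_of_mem_open hxB (A ⊓ ⟨_, hB.isOpen_compl⟩ : X.Opens).2
    haveI : IsNoetherianRing Γ(X, A') := IsLocallyNoetherian.component_noetherian ⟨A', hA'⟩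
    obtain ⟨hp, s, hs⟩ := Groth.Agent.WeakAss.mem_ass_iff.1 ((Groth.Agent.AssPts.mem_ass_iff F hA' x hxA').1 hx)
    haveI := (Groth.Agent.MeroFrac.finite_wass hA').fintype
    have hsub : ¬ ((hA'.primeIdealOf ⟨x, hxA'⟩).asIdeal : Set Γ(X, A')) ⊆
        ⋃ z ∈ ((Finset.univ : Finset (Groth.Agent.MeroFrac.wass A')) : Set (Groth.Agent.MeroFrac.wass A')),
          ((hA'.primeIdealOf ⟨z.1, z.2.1⟩).asIdeal : Set Γ(X, A')) := by
      rcases isEmpty_or_nonempty (Groth.Agent.MeroFrac.wass A') with he | ⟨⟨z₀⟩⟩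
      · intro h0
        obtain ⟨z, -⟩ := Set.mem_iUnion₂.1 (h0 (hA'.primeIdealOf ⟨x, hxA'⟩).asIdeal.zero_mem)
        exact he.false z
      rw [Ideal.subset_union_prime z₀ z₀ fun z _ _ _ => (hA'.primeIdealOf ⟨z.1, z.2.1⟩).isPrime]
      rintro ⟨z, -, hle⟩
      have hzx : z.1 ⤳ x := by
        by_contra h
        exact (hA'le z.2.1).2 (Set.mem_iUnion₂.2 ⟨z.1, ⟨⟨(hA'le z.2.1).1, z.2.2⟩, h⟩, subset_closure rfl⟩)
      have hxz : x ⤳ z.1 := (Groth.Agent.AssPts.specializes_iff hA' z.1 z.2.1 hxA').2 hle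
      have e : z.1 = x := (hzx.antisymm hxz).eq
      exact hxO (e ▸ (Groth.Agent.AssPts.isAssPoint_iff_isWeakAssPoint _ z.1).2 z.2.2)
    obtain ⟨b, hbp, hb⟩ := Set.not_subset.1 hsub
    have hbr : b ∈ Mero.regSub X A' := Groth.Agent.MeroFrac.mem_regSub_of_units hA' fun z hz =>
      (Groth.Agent.AssPts.notMem_prime_iff hA' z hz.1 b).1 fun h0 => hb (Set.mem_iUnion₂.2 ⟨⟨z, hz⟩, Finset.mem_univ _, h0⟩)
    have hbs := (hs b).1 hbp
    have hz0 : (Mero.toMer F).app A' s = 0 := Subtype.ext (funext fun y => by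
      change LocalizedModule.mk (F.presheaf.germ A' y.1 y.2 s) 1 = (0 : Mero.MStalk F y.1)
      rw [← LocalizedModule.zero_mk (1 : Mero.regStalk X y.1), LocalizedModule.mk_eq]
      refine ⟨Mero.regGerm y ⟨b, hbr⟩, ?_⟩
      rw [one_smul, one_smul, smul_zero, Submonoid.smul_def]
      refine (Mero.germ_smul F A' y.1 y.2 b s).symm.trans ?_
      exact (congrArg _ hbs).trans (map_zero _))
    haveI := hm
    have hs0 : s = 0 := Groth.Agent.QCohBase.app_injective_of_mono (Mero.toMer F) A' (hz0.trans (map_zero _).symm)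
    exact hp.ne_top ((Ideal.eq_top_iff_one _).2 ((hs 1).2 (by rw [hs0, smul_zero])))
  · intro h
    have inj : ∀ U : X.Opens, Function.Injective ((Mero.toMer F).app U) := fun U => by
      rw [injective_iff_map_eq_zero]
      intro m hm
      refine TopCat.Presheaf.section_ext (⟨F.presheaf, F.isSheaf⟩ : TopCat.Sheaf AddCommGrpCat X.toTopCat) U _ _
        fun y hy => ?_
      refine Eq.trans ?_ (map_zero _).symm
      have e0 : LocalizedModule.mk (F.presheaf.germ U y hy m) 1 = (0 : Mero.MStalk F y) :=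
        congrArg (fun u : Γ(Mero.merMod F, U) => u.1 ⟨y, hy⟩) hm
      rw [← LocalizedModule.zero_mk (1 : Mero.regStalk X y), LocalizedModule.mk_eq] at e0
      obtain ⟨⟨_, W, hyW, b, hb, rfl⟩, hw⟩ := e0
      simp only [one_smul, smul_zero, Submonoid.smul_def] at hw
      let T : X.Opens := W ⊓ U
      have he : F.presheaf.germ T y ⟨hyW, hy⟩ (X.presheaf.map (homOfLE (inf_le_left : T ≤ W)).op b •
          F.presheaf.map (homOfLE (inf_le_right : T ≤ U)).op m) = F.presheaf.germ T y ⟨hyW, hy⟩ 0 := by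
        refine (Mero.germ_smul F T y ⟨hyW, hy⟩ _ _).trans ?_
        rw [map_zero]
        erw [TopCat.Presheaf.germ_res_apply, TopCat.Presheaf.germ_res_apply]
        exact hw
      obtain ⟨T', hyT', i, j, hT'⟩ := F.presheaf.germ_eq y _ _ _ _ he
      obtain ⟨_, ⟨A, hA, rfl⟩, hyA, hAT⟩ := X.isBasis_affineOpens.exists_subset_of_mem_open hyT' T'.2
      have hAU : A ≤ U := fun z hz => (i.le (hAT hz)).2
      have h0 : (show Γ(F, A) from F.presheaf.map (homOfLE hAU).op m) = 0 :=
        Groth.Agent.AssPts.eq_zero_of_forall_germ F hA _ fun z hz hzA => by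
          have hzO : Curv2.IsWeakAssPoint (Coh.structureModule X) z :=
            (Groth.Agent.AssPts.isAssPoint_iff_isWeakAssPoint _ z).1
              ((Groth.Agent.AssPtsMore.isAssociatedPrime_stalk_iff z).1 (h z hzA))
          have hu := Groth.Agent.MeroFrac.unit_of_nzd hzO (hb ⟨z, (i.le (hAT hz)).1⟩)
          have e := congrArg (F.presheaf.germ T' z (hAT hz)) hT'
          erw [TopCat.Presheaf.germ_res_apply, TopCat.Presheaf.germ_res_apply] at e
          rw [map_zero] at e
          have e' := (Mero.germ_smul F T z (i.le (hAT hz)) _ _).symm.trans e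
          erw [TopCat.Presheaf.germ_res_apply, TopCat.Presheaf.germ_res_apply] at e'
          erw [TopCat.Presheaf.germ_res_apply]
          exact hu.smul_eq_zero.1 e'
      have e := congrArg (F.presheaf.germ A y hyA) h0
      erw [TopCat.Presheaf.germ_res_apply, map_zero] at e
      exact e
    refine ⟨fun {Z} a b hab => Scheme.Modules.hom_ext _ _ fun U => ?_⟩
    ext z
    exact inj U (congrArg (fun φ : Z ⟶ Mero.merMod F => φ.app U z) hab)
end Groth.Agent.S5084
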