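import Groth.Statements.S5086
import Groth.Agent.MeroDivLead.Extend
import Groth.Agent.S8869
-- import your own Groth.Agent.* helpers here

set_option autoImplicit false
universe u
open CategoryTheory CategoryTheory.Limits AlgebraicGeometry TopologicalSpace
open Mero

namespace Groth.Agent.S5086

theorem finite_wass (X : Scheme.{u}) (hX : ∀ x : ↥X, ∃ W : X.Opens, x ∈ W ∧
      {Z : Set ↥X | Z ∈ irreducibleComponents ↥X ∧ (Z ∩ (W : Set ↥X)).Nonempty}.Finite)
    (ha : ∀ x : ↥X, Curv2.IsWeakAssPoint (Coh.structureModule X) x → ∀ y : ↥X, y ⤳ x → y = x)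
    (U : X.Opens) (hU : IsAffineOpen U) : (Groth.Agent.MeroFrac.wass U).Finite := by
  choose W hxW hW using hX
  obtain ⟨t, ht⟩ := hU.isCompact.elim_finite_subcover (fun x : ↥X => (W x : Set ↥X)) (fun x => (W x).2)
    (fun x _ => Set.mem_iUnion.2 ⟨x, hxW x⟩)
  have hfin : (⋃ x ∈ t, {Z : Set ↥X | Z ∈ irreducibleComponents ↥X ∧ (Z ∩ (W x : Set ↥X)).Nonempty}).Finite :=
    t.finite_toSet.biUnion fun x _ => hW x
  refine Set.Finite.of_finite_image (f := fun z : ↥X => closure ({z} : Set ↥X)) (hfin.subset ?_) ?_
  · rintro _ ⟨z, hz, rfl⟩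
    obtain ⟨x, hxt, hzW⟩ := Set.mem_iUnion₂.1 (ht hz.1)
    refine Set.mem_iUnion₂.2 ⟨x, hxt, ⟨isIrreducible_singleton.closure, fun S hS hle => ?_⟩,
      z, subset_closure rfl, hzW⟩
    have hg := hS.isGenericPoint_genericPoint_closure
    have hw : hS.genericPoint ⤳ z := hg.specializes (subset_closure (hle (subset_closure rfl)))
    dsimp only at hle ⊢
    rw [← ha z hz.2 _ hw, show closure ({hS.genericPoint} : Set ↥X) = closure S from hg]
    exact subset_closure
  · intro z _ w _ h
    exact (inseparable_iff_closure_eq.2 h).eq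


/-- Let X be a scheme which is either locally Noetherian, or reduced with locally finite set of
irreducible components (every point has an open neighbourhood meeting only finitely many irreducible
components). Let U be an open subset, V an open subset of U schematically dense in U (restriction of
functions from every open W ⊆ U to W ∩ V is injective) and g a function on V. Then there is a
section of the sheaf of meromorphic functions K_X over U whose restriction to V is g/1; with part
(i), meromorphic functions over U are exactly the pseudo-functions on U. -/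
theorem result (X : Scheme.{u})
    (hX : IsLocallyNoetherian X ∨ (IsReduced X ∧ ∀ x : ↥X, ∃ W : X.Opens, x ∈ W ∧
      {Z : Set ↥X | Z ∈ irreducibleComponents ↥X ∧ (Z ∩ (W : Set ↥X)).Nonempty}.Finite))
    (U V : X.Opens) (hVU : V ≤ U)
    (hV : ∀ W : X.Opens, W ≤ U →
      Function.Injective ⇑(X.presheaf.map (homOfLE (inf_le_left : W ⊓ V ≤ W)).op))
    (g : Γ(X, V)) :
    ∃ s : Γ(Mero.kmod X, U), (Mero.kmod X).presheaf.map (homOfLE hVU).op s = Mero.toK X V g := by
  rcases hX with hN | ⟨hR, hloc⟩
  · haveI := hN
    exact Groth.Agent.MeroDivLead.exists_extension hVU hV (fun W hW => Groth.Agent.MeroFrac.finite_wass hW)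
      (fun W hW hWU z hz => Groth.Agent.MeroDivLead.wass_mem_of_dense_noetherian hV hW hWU hz) g
  · haveI := hR
    have ha : ∀ x : ↥X, Curv2.IsWeakAssPoint (Coh.structureModule X) x → ∀ y : ↥X, y ⤳ x → y = x :=
      fun x hx => (Groth.Agent.S8869.result X x).1 hx
    exact Groth.Agent.MeroDivLead.exists_extension hVU hV (finite_wass X hloc ha)
      (fun W hW hWU z hz => Groth.Agent.MeroDivLead.wass_mem_of_dense_maximal hV ha (finite_wass X hloc ha W hW) hWU hz) g
end Groth.Agent.S5086
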