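import Groth.Statements.S5089
import Groth.Agent.MeroDivLead.OfSection
import Groth.Agent.S8869
-- import your own Groth.Agent.* helpers here

set_option autoImplicit false
universe u
open CategoryTheory CategoryTheory.Limits AlgebraicGeometry TopologicalSpace
open Mero

namespace Groth.Agent.S5089

/-- Case b): let X be a reduced scheme whose set of irreducible components is locally finite (every
point has an open neighbourhood meeting only finitely many irreducible components). Then every
invertible O_X-module is isomorphic to O_X(D) for some divisor D on X; in other words the canonical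
homomorphism Div(X) → Pic(X) is surjective. -/
theorem result (X : Scheme.{u}) [IsReduced X]
    (hX : ∀ x : ↥X, ∃ W : X.Opens, x ∈ W ∧
      {Z : Set ↥X | Z ∈ irreducibleComponents ↥X ∧ (Z ∩ (W : Set ↥X)).Nonempty}.Finite)
    (L : X.Modules) (hL : PicF.IsInvertible L) :
    ∃ D : Mero.Divisor X, Nonempty (L ≅ Mero.divMod D) := by
  have ha : ∀ x : ↥X, Curv2.IsWeakAssPoint (Coh.structureModule X) x → ∀ y : ↥X, y ⤳ x → y = x :=
    fun x hx => (Groth.Agent.S8869.result X x).1 hx
  obtain ⟨s, hs⟩ := Groth.Agent.MeroFrac.hasRegularMero hL ha fun U hU => by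
    choose W hxW hW using hX
    obtain ⟨t, ht⟩ := hU.isCompact.elim_finite_subcover (fun x : ↥X => (W x : Set ↥X)) (fun x => (W x).2)
      (fun x _ => Set.mem_iUnion.2 ⟨x, hxW x⟩)
    have hfin : (⋃ x ∈ t, {Z : Set ↥X | Z ∈ irreducibleComponents ↥X ∧ (Z ∩ (W x : Set ↥X)).Nonempty}).Finite :=
      t.finite_toSet.biUnion fun x _ => hW x
    refine Set.Finite.of_finite_image (f := fun z : ↥X => closure ({z} : Set ↥X)) (hfin.subset ?_) ?_
    · rintro _ ⟨z, hz, rfl⟩
      obtain ⟨x, hxt, hzW⟩ := Set.mem_iUnion₂.1 (ht hz.1)
      refine Set.mem_iUnion₂.2 ⟨x, hxt, ⟨isIrreducible_singleton.closure, fun S hS hle => ?_⟩,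
        z, subset_closure rfl, hzW⟩
      have hg := hS.isGenericPoint_genericPoint_closure
      have hw : hS.genericPoint ⤳ z := hg.specializes (subset_closure (hle (subset_closure rfl)))
      dsimp only at hle ⊢
      rw [← ha z hz.2 _ hw, show closure ({hS.genericPoint} : Set ↥X) = closure S from hg]
      exact subset_closure
    · intro z _ w _ h
      exact (inseparable_iff_closure_eq.2 h).eq
  exact Groth.Agent.MeroDivLead.exists_divisor_of_regularMero hL s hs
end Groth.Agent.S5089
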