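import Groth.Statements.S5103
import Groth.Agent.ReflStalk.Global
import Groth.Agent.RefDiv.Group
import Groth.Agent.FinLocFreeSections.Basic
import Groth.Agent.TensorMod.FinLocFree
import Groth.Agent.TensorMod.Invertible

set_option autoImplicit false
universe u
open CategoryTheory CategoryTheory.Limits AlgebraicGeometry TopologicalSpace
open Div21

namespace Groth.Agent.S5103

/-- For an integral scheme (the canonical homomorphism Pic(X) → Cl(X) to the group of codimension-1
cycle classes is injective): let X be a normal locally Noetherian integral scheme, L an invertible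
O_X-module and s a nonzero rational section of L (a nonzero element of the fibre of L at the generic
point). If the Weil divisor of s is principal — there is a nonzero rational function f whose order
of vanishing at every point of codimension 1 (coheight 1 in the specialization order) equals the
order of s there — then L is isomorphic to O_X. -/
theorem result (X : Scheme.{u}) [IsIntegral X] [IsLocallyNoetherian X]
    (hX : Pi1.IsNormalScheme X) (L : X.Modules) (hL : PicF.IsInvertible L)
    (s : Cyc.secFibre L (genericPoint ↥X)) (hs : s ≠ 0) (f : ↑X.functionField) (hf : f ≠ 0)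
    (h : ∀ x : ↥X, Order.coheight x = 1 →
      Cyc.secOrdAt L (genericPoint ↥X) x (genericPoint_specializes x) s = Scheme.ord f x) :
    Nonempty (L ≅ Coh.structureModule X) := by
  haveI : RefDiv.Nrm X := ⟨hX⟩
  have hco := TensorMod.isCoh_of_isInvertible hL
  have hfl := TensorMod.isFinLocFree_of_isInvertible hL
  have hLr : RefHull.IsRef1 L := by
    refine ⟨hco, (ReflStalk.isReflexive_iff hco).2 fun x => ?_, ⊤, ?_, TensorMod.isInvertible_restrict hL _⟩
    · haveI := FinLocFreeSections.flat_stalk L hfl x
      haveI := RefDiv.finite_stalk hco x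
      haveI : Module.Free (X.presheaf.stalk x) (L.presheaf.stalk x) := Module.free_of_flat_of_isLocalRing
      show Module.IsReflexive _ _
      infer_instance
    · rw [TopologicalSpace.Opens.coe_top]; exact dense_univ
  have hD : RefDiv.LocFin (0 : X → ℤ) := RefDiv.locFin_zero
  obtain ⟨v, hv⟩ := (RefDiv.fnlOD_good hD).bij.2 1
  have hv0 : v ≠ 0 := fun h => by rw [h, map_zero] at hv; exact zero_ne_one hv
  obtain ⟨k⟩ := (RefDiv.iso_iff L (RefDiv.OD (0 : X → ℤ)) hLr (RefDiv.isRef1_OD hD) s hs
    (Submodule.Quotient.mk v) (fun h => hv0 ((RefDiv.secFibre_bijective _).1 h))).2 ⟨f, hf, fun z hz => by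
      rw [RefDiv.secOrdAt_eq (RefDiv.fnlOD_good hD) hz (fun a b hab => RefDiv.evK_injective _ z (by
        rwa [RefDiv.valAt_fnlOD, RefDiv.valAt_fnlOD] at hab)) v hv0, hv, RefDiv.ord_one, Pi.zero_apply,
        zero_add, zero_add]
      exact h z hz⟩
  obtain ⟨e⟩ := RefDiv.nonempty_structureIso (X := X)
  exact ⟨k ≪≫ e.symm⟩

end Groth.Agent.S5103
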