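import Groth.Statements.S5113
-- import your own Groth.Agent.* helpers here

set_option autoImplicit false
universe u
open SGA1

namespace Groth.Agent.S5113

open AlgebraicGeometry CategoryTheory CategoryTheory.Limits in
/-- Let g : S' ⟶ S be submersive, i.e. surjective and making S a topological quotient of S'. Then the
sequence of sets of open subsets Ouv(S) → Ouv(S') ⇉ Ouv(S' ×_S S') (inverse images along g and along
the two projections) is exact: an open subset U' of S' whose inverse images under the two
projections of S' ×_S S' agree is the inverse image of one and only one open subset of S. -/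
theorem result {S' S : Scheme.{u}} (g : S' ⟶ S)
    (hg : Topology.IsQuotientMap g.base) (U' : S'.Opens)
    (h : (pullback.fst g g) ⁻¹ᵁ U' = (pullback.snd g g) ⁻¹ᵁ U') :
    ∃! U : S.Opens, g ⁻¹ᵁ U = U' := by
  have hsat : ∀ a b : ↥S', g.base a = g.base b → a ∈ U' → b ∈ U' := by
    intro a b hab ha
    obtain ⟨z, h1, h2⟩ := Scheme.Pullback.exists_preimage_pullback a b hab
    have : z ∈ (pullback.fst g g) ⁻¹ᵁ U' := by
      show (pullback.fst g g) z ∈ U'
      rw [h1]; exact ha
    rw [h] at this
    show b ∈ U'
    rw [← h2]; exact this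
  have hpre : g.base ⁻¹' (g.base '' (U' : Set ↥S')) = (U' : Set ↥S') := by
    ext b
    exact ⟨fun ⟨a, ha, hab⟩ => hsat a b hab ha, fun hb => ⟨b, hb, rfl⟩⟩
  have hopen : IsOpen (g.base '' (U' : Set ↥S')) := by
    rw [← hg.isOpen_preimage, hpre]; exact U'.2
  refine ⟨⟨_, hopen⟩, TopologicalSpace.Opens.ext hpre, fun V hV => ?_⟩
  apply TopologicalSpace.Opens.ext
  show (V : Set ↥S) = g.base '' (U' : Set ↥S')
  rw [← hV]
  exact (Set.image_preimage_eq _ hg.surjective).symm

end Groth.Agent.S5113
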