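import Groth.Statements.S5114
import Groth.Agent.Hensel.FiniteEtaleLift
import Mathlib

set_option autoImplicit false
universe u
open SGA1

namespace Groth.Agent.S5114

open AlgebraicGeometry CategoryTheory CategoryTheory.Limits

private theorem univSubmersive_of_comp {Y X S : Scheme.{u}} (h : Y ⟶ X) (g : X ⟶ S) [UniversallyClosed (h ≫ g)]
    [Surjective (h ≫ g)] : SGA1.UnivSubmersive g := by
  intro X₂ S₂ i₁ i₂ g₂ sq
  show Topology.IsQuotientMap g₂.base
  let h₂ := pullback.snd h i₁
  have sq' : IsPullback (pullback.fst h i₁) (h₂ ≫ g₂) (h ≫ g) i₂ :=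
    (IsPullback.of_hasPullback h i₁).paste_vert sq.flip
  haveI : UniversallyClosed (h₂ ≫ g₂) := MorphismProperty.of_isPullback sq' inferInstance
  haveI : Surjective (h₂ ≫ g₂) := MorphismProperty.of_isPullback sq' inferInstance
  have hq : Topology.IsQuotientMap (h₂ ≫ g₂).base :=
    (h₂ ≫ g₂).isClosedMap.isQuotientMap (Scheme.Hom.continuous _) (h₂ ≫ g₂).surjective
  exact Topology.IsQuotientMap.of_comp h₂.continuous g₂.continuous (by
    rw [← TopCat.coe_comp, ← Scheme.Hom.comp_base]; exact hq)

open IsLocalRing in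
private theorem exists_finite_chart (A : Type u) [CommRing A] [IsNoetherianRing A] [IsLocalRing A]
    [IsAdicComplete (maximalIdeal A) A] {S' : Scheme.{u}} (g : S' ⟶ Spec (CommRingCat.of A))
    [LocallyOfFiniteType g] (hfin : (g.base ⁻¹' {closedPoint A}).Finite) (s' : S')
    (hs' : g.base s' = closedPoint A) :
    ∃ (T : CommRingCat.{u}) (φ : CommRingCat.of A ⟶ T) (h : Spec T ⟶ S'), φ.hom.Finite ∧
      h ≫ g = Spec.map φ ∧ ∀ t : S', t ⤳ s' → t ∈ Set.range h := by
  classical
  obtain ⟨U, hU, hsU, -⟩ := exists_isAffineOpen_mem_and_subset (U := (⊤ : S'.Opens)) (x := s') trivial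
  let j := hU.fromSpec
  let E := Γ(S', U)
  let φ : CommRingCat.of A ⟶ E := Spec.preimage (j ≫ g)
  have hjg : Spec.map φ = j ≫ g := Spec.map_preimage _
  algebraize [φ.hom]
  have h0 : φ.hom.FiniteType := (HasRingHomProperty.Spec_iff (P := @LocallyOfFiniteType)).mp
    (hjg ▸ (inferInstance : LocallyOfFiniteType (j ≫ g)))
  haveI : Algebra.FiniteType A E := h0
  let I : Ideal E := (maximalIdeal A).map (algebraMap A E)
  let k := A ⧸ maximalIdeal A
  letI : Field k := Ideal.Quotient.field _
  letI : Algebra k (E ⧸ I) := (Ideal.quotientMap I (algebraMap A E) Ideal.le_comap_map).toAlgebra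
  haveI : IsScalarTower A k (E ⧸ I) := IsScalarTower.of_algebraMap_eq fun _ => rfl
  haveI : Algebra.FiniteType k (E ⧸ I) := Algebra.FiniteType.of_restrictScalars_finiteType A k (E ⧸ I)
  let ι₀ : PrimeSpectrum (E ⧸ I) → S' := fun q => j.base (PrimeSpectrum.comap (Ideal.Quotient.mk I) q)
  have hι : Function.Injective ι₀ :=
    j.isOpenEmbedding.injective.comp (PrimeSpectrum.comap_injective_of_surjective _ Ideal.Quotient.mk_surjective)
  have hcl : ∀ q : PrimeSpectrum E, I ≤ q.asIdeal → g.base (j.base q) = closedPoint A := fun q hq => by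
    show (j ≫ g).base q = _
    rw [← hjg]
    refine PrimeSpectrum.ext (Ideal.IsMaximal.eq_of_le (maximalIdeal.isMaximal A) ?_ ?_).symm
    · exact ((Spec.map φ).base q : PrimeSpectrum A).2.ne_top
    · exact Ideal.map_le_iff_le_comap.mp hq
  haveI : Finite (PrimeSpectrum (E ⧸ I)) := by
    haveI := hfin.to_subtype
    refine Finite.of_injective (fun q => (⟨ι₀ q, hcl _ fun a ha => ?_⟩ : g.base ⁻¹' {closedPoint A}))
      fun a b e => hι (congrArg Subtype.val e :)
    show Ideal.Quotient.mk I a ∈ q.asIdeal
    rw [Ideal.Quotient.eq_zero_iff_mem.mpr ha]; exact q.asIdeal.zero_mem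
  haveI : Algebra.QuasiFinite k (E ⧸ I) :=
    Algebra.QuasiFinite.iff_finite_comap_preimage_singleton.mpr fun _ => Set.toFinite _
  haveI : Module.Finite k (E ⧸ I) := Module.Finite.of_quasiFinite
  haveI : Module.Finite A (E ⧸ (maximalIdeal A).map (algebraMap A E)) := Module.Finite.trans k (E ⧸ I)
  obtain ⟨e, he, he1, hefin⟩ := Hensel.exists_idem_split_pair (A := A) (E := E) (I := maximalIdeal A)
  let T := E ⧸ Ideal.span ({1 - e} : Set E)
  let π : E ⟶ CommRingCat.of T := CommRingCat.ofHom (Ideal.Quotient.mk _)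
  refine ⟨CommRingCat.of T, φ ≫ π, Spec.map π ≫ j, ?_, by rw [Category.assoc, ← hjg, ← Spec.map_comp], ?_⟩
  · exact (RingHom.finite_algebraMap (A := A) (B := T)).mpr hefin
  intro t ht
  have htU : t ∈ U := ht.mem_open U.2 hsU
  obtain ⟨q', hq'⟩ : ∃ q, j.base q = s' := by
    show s' ∈ Set.range j.base
    rw [hU.range_fromSpec]; exact hsU
  obtain ⟨q, rfl⟩ : ∃ q, j.base q = t := by
    show t ∈ Set.range j.base
    rw [hU.range_fromSpec]; exact htU
  rw [← hq'] at ht hs'
  have hqq : q ⤳ q' := j.isOpenEmbedding.isInducing.specializes_iff.mp ht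
  have hle : q.asIdeal ≤ q'.asIdeal := (PrimeSpectrum.le_iff_specializes q q').mpr hqq
  have hI' : I ≤ q'.asIdeal := by
    change (j ≫ g).base q' = _ at hs'
    rw [← hjg] at hs'
    exact Ideal.map_le_iff_le_comap.mpr (le_of_eq (congrArg PrimeSpectrum.asIdeal hs').symm)
  have he' : 1 - e ∈ q.asIdeal := by
    have h0 : e * (1 - e) ∈ q.asIdeal := by rw [mul_sub, mul_one, he.eq, sub_self]; exact q.asIdeal.zero_mem
    refine (q.2.mem_or_mem h0).resolve_left fun h => q'.2.ne_top ((Ideal.eq_top_iff_one _).mpr ?_)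
    simpa using add_mem (hle h) (hI' he1)
  obtain ⟨q₀, hq₀⟩ : q ∈ Set.range (PrimeSpectrum.comap (Ideal.Quotient.mk (Ideal.span ({1 - e} : Set E)))) := by
    rw [range_comap_of_surjective _ _ Ideal.Quotient.mk_surjective, Ideal.mk_ker]
    refine (PrimeSpectrum.mem_zeroLocus (R := E) q _).mpr ?_
    exact Ideal.span_le.mpr (Set.singleton_subset_iff.mpr he')
  exact ⟨q₀, (Scheme.Hom.comp_apply _ _ _).trans (congrArg j.base hq₀)⟩



open AlgebraicGeometry CategoryTheory CategoryTheory.Limits in
/-- Let A be a complete Noetherian local ring, S = Spec A, and g : S' ⟶ S a surjective morphism of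
finite type whose fibre over the closed point s is finite. If every point of S' specialises to some
point of the fibre over s (equivalently: the disjoint union of the spectra of the local rings of S'
at the points over s maps onto S'), then g is universally submersive. (The published statement
asserts an equivalence and does not mention surjectivity of g; the converse fails: for A a complete
discrete valuation ring with fraction field K, S' = S ⊔ Spec K ⟶ S has a section, hence is
universally submersive, while the isolated point Spec K specialises to no point over s. This row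
states the implication the published proof establishes, with the surjectivity it uses.) -/
theorem result (A : Type u) [CommRing A]
    [IsNoetherianRing A] [IsLocalRing A] [IsAdicComplete (IsLocalRing.maximalIdeal A) A]
    {S' : Scheme.{u}} (g : S' ⟶ Spec (CommRingCat.of A)) [LocallyOfFiniteType g] [QuasiCompact g]
    [Surjective g]
    (hfin : (g.base ⁻¹' {IsLocalRing.closedPoint A}).Finite)
    (hsp : ∀ t : S', ∃ s' : S', g.base s' = IsLocalRing.closedPoint A ∧ t ⤳ s') :
    SGA1.UnivSubmersive g := by
  classical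
  let F := g.base ⁻¹' {IsLocalRing.closedPoint A}
  haveI := hfin.to_subtype
  haveI : Fintype F := Fintype.ofFinite _
  choose T φ h hφ hg hh using fun s' : F => exists_finite_chart A g hfin s'.1 s'.2
  let H : (∐ fun s' : F => Spec (T s')) ⟶ S' := Sigma.desc h
  have hHg : H ≫ g = sigmaSpec T ≫ Spec.map (CommRingCat.ofHom (RingHom.pi fun s' => (φ s').hom)) := by
    refine Sigma.hom_ext _ _ fun s' => ?_
    rw [Sigma.ι_desc_assoc, ι_sigmaSpec_assoc, hg, ← Spec.map_comp]
    congr 1
  haveI : IsFinite (H ≫ g) := by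
    rw [hHg]
    haveI : IsFinite (Spec.map (CommRingCat.ofHom (RingHom.pi fun s' => (φ s').hom))) := by
      rw [IsFinite.SpecMap_iff]
      letI := fun s' => (φ s').hom.toAlgebra
      haveI : ∀ s', Module.Finite A (T s') := hφ
      exact Module.Finite.pi
    infer_instance
  haveI : Surjective H := ⟨fun t => by
    obtain ⟨s', hs', ht⟩ := hsp t
    obtain ⟨q, hq⟩ := hh ⟨s', hs'⟩ t ht
    exact ⟨Sigma.ι (fun s' : F => Spec (T s')) ⟨s', hs'⟩ q, by
      rw [← Scheme.Hom.comp_apply, Sigma.ι_desc]; exact hq⟩⟩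
  exact univSubmersive_of_comp H g

end Groth.Agent.S5114
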