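import Groth.Statements.S5115
import Groth.Agent.EtSh.RadicialDescent


set_option autoImplicit false
set_option backward.isDefEq.respectTransparency false
set_option backward.isDefEq.respectTransparency.types false
universe u
open EtBase

namespace Groth.Agent.S5115

open AlgebraicGeometry CategoryTheory CategoryTheory.Limits in
/-- Let g : S' ⟶ S be faithfully flat (flat and surjective), quasi-compact and radicial (universally
injective). Then base change along g is an equivalence from the category of schemes etale over S to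
the category of schemes etale over S'. -/
theorem result {S S' : Scheme.{u}} (g : S' ⟶ S)
    [Flat g] [Surjective g] [QuasiCompact g] [UniversallyInjective g] :
    (EtCoh.bc g).IsEquivalence := by
  haveI := EtSh.isIntegralHom_of_flat_qc_radicial g
  haveI : (EtCoh.bc g).Full := (EtSh.bcFullyFaithful g).full
  haveI : (EtCoh.bc g).Faithful := (EtSh.bcFullyFaithful g).faithful
  haveI : (EtCoh.bc g).EssSurj := ⟨fun E => by
    obtain ⟨X, ⟨e⟩⟩ := EtSh.exists_bc_iso g E fun x => by
      obtain ⟨_, ⟨O, hO, rfl⟩, hx, -⟩ := E.left.isBasis_affineOpens.exists_subset_of_mem_open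
        (Set.mem_univ x) isOpen_univ
      haveI : Etale E.hom := E.prop
      haveI : IsAffine O := hO
      haveI : IsSeparated ((Scheme.Opens.ι O) ≫ E.hom) := by
        haveI : IsSeparated (((Scheme.Opens.ι O) ≫ E.hom) ≫ terminal.from S') := by
          rw [Subsingleton.elim (((Scheme.Opens.ι O) ≫ E.hom) ≫ terminal.from S') (terminal.from _)]
          infer_instance
        exact IsSeparated.of_comp _ (terminal.from S')
      haveI : Etale (Over.mk ((Scheme.Opens.ι O) ≫ E.hom)).hom := inferInstanceAs (Etale ((Scheme.Opens.ι O) ≫ E.hom))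
      haveI : IsSeparated (Over.mk ((Scheme.Opens.ι O) ≫ E.hom)).hom := ‹IsSeparated ((Scheme.Opens.ι O) ≫ E.hom)›
      obtain ⟨U, hU, θ, hθ⟩ := EtSh.exists_etale_bc g (Over.mk ((Scheme.Opens.ι O) ≫ E.hom))
      refine ⟨Scheme.Etale.mk U.hom, MorphismProperty.Over.homMk (θ.hom ≫ (Scheme.Opens.ι O)) ((Category.assoc _ _ _).trans hθ), ?_, ?_⟩
      · exact (inferInstance : IsOpenImmersion (θ.hom ≫ (Scheme.Opens.ι O)))
      · refine ⟨θ.inv ⟨x, hx⟩, ?_⟩
        show (θ.hom ≫ (Scheme.Opens.ι O)) _ = x
        rw [← Scheme.Hom.comp_apply, Iso.inv_hom_id_assoc]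
        rfl
    exact ⟨X, ⟨e⟩⟩⟩
  exact {}

end Groth.Agent.S5115
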