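import Groth.Statements.S5118
import Mathlib.Algebra.DualNumber
import Mathlib.RingTheory.Etale.StandardEtale
-- import your own Groth.Agent.* helpers here

set_option autoImplicit false
universe u
open SGA1t

namespace Groth.Agent.S5118

open Polynomial in
/-- The etaleness criterion for the Kummer group scheme: Let A be a commutative ring and n ≥ 1. The
group scheme μ_n over Spec A is the spectrum of A[t]/(t^n − 1), a free A-module of rank n; it is
etale over A if and only if n is a unit of A (equivalently, n is prime to the characteristic of the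
residue field at every point of Spec A). -/
theorem result (A : Type u) [CommRing A] (n : ℕ) (hn : 1 ≤ n) :
    Algebra.Etale A (AdjoinRoot ((X : A[X]) ^ n - 1)) ↔ IsUnit ((n : ℕ) : A) := by
  set f : A[X] := X ^ n - 1 with hf
  have hmon : f.Monic := monic_X_pow_sub_C 1 (by omega)
  constructor
  · intro het
    by_contra hu
    obtain ⟨m, hm, hle⟩ := Ideal.exists_le_maximal (Ideal.span {((n : ℕ) : A)}) (by rwa [Ne, Ideal.span_singleton_eq_top])
    let := Ideal.Quotient.field m
    let K := A ⧸ m
    have hn0 : (n : K) = 0 := by
      rw [← map_natCast (Ideal.Quotient.mk m)]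
      exact Ideal.Quotient.eq_zero_iff_mem.mpr (hle (Ideal.mem_span_singleton_self _))
    let g₁ : AdjoinRoot f →ₐ[A] DualNumber K := AdjoinRoot.liftAlgHom f (Algebra.ofId A _) 1 (by simp [hf])
    let g₂ : AdjoinRoot f →ₐ[A] DualNumber K := AdjoinRoot.liftAlgHom f (Algebra.ofId A _) (1 + DualNumber.eps) (by
      have key : ∀ k : ℕ, (1 + DualNumber.eps : DualNumber K) ^ k = 1 + (k : K) • DualNumber.eps := by
        intro k
        induction k with
        | zero => simp
        | succ k ih => rw [pow_succ, ih, mul_add, mul_one, add_mul, smul_mul_assoc, DualNumber.eps_mul_eps, smul_zero, Nat.cast_succ, add_smul, one_smul, one_mul]; abel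
      simp [hf, key, hn0])
    have hk : IsNilpotent (RingHom.ker (TrivSqZeroExt.fstHom K K K).toRingHom) := by
      refine ⟨2, ?_⟩
      rw [Submodule.pow_succ, Submodule.pow_one]
      refine le_bot_iff.mp (Ideal.mul_le.mpr fun a ha b hb => ?_)
      rw [RingHom.mem_ker] at ha hb
      change a.fst = 0 at ha
      change b.fst = 0 at hb
      rw [Ideal.mem_bot]
      ext <;> simp [ha, hb]
    have heq : g₁ = g₂ := by
      refine Algebra.FormallyUnramified.ext' _ hk g₁ g₂ fun x => ?_
      have : ((TrivSqZeroExt.fstHom K K K).restrictScalars A).comp g₁ = ((TrivSqZeroExt.fstHom K K K).restrictScalars A).comp g₂ := by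
        apply AdjoinRoot.algHom_ext
        simp [g₁, g₂]
      exact DFunLike.congr_fun this x
    have := congrArg (fun g : AdjoinRoot f →ₐ[A] DualNumber K => (g (AdjoinRoot.root f)).snd) heq
    simp [g₁, g₂] at this
  · rintro ⟨u, hu⟩
    let P : StandardEtalePair A := ⟨f, hmon, 1, C (↑u⁻¹ : A) * X, -1, 0, by
      simp only [hf, derivative_sub, derivative_X_pow, derivative_one, sub_zero, pow_zero]
      rw [← hu, mul_mul_mul_comm, ← C_mul, Units.mul_inv, C_1, one_mul, ← pow_succ,
        show n - 1 + 1 = n by omega]
      ring⟩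
    have hone : IsUnit (AdjoinRoot.mk P.f P.g) := by simp [P]
    let e := IsLocalization.atUnit (AdjoinRoot f) (Localization.Away (AdjoinRoot.mk P.f P.g)) (AdjoinRoot.mk P.f P.g) hone
    exact Algebra.Etale.of_equiv (P.equivAwayAdjoinRoot.trans (e.symm.restrictScalars A))

end Groth.Agent.S5118
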