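import Groth.Statements.S5119
-- import your own Groth.Agent.* helpers here

set_option autoImplicit false
universe u
open scoped LaurentPolynomial
open SGA1t

namespace Groth.Agent.S5119

/-- The computation behind the exactness of the Kummer sequence 0 → μ_n → G_m → G_m → 0, i.e. faithful
flatness of the n-th power map u_n of G_m: Let A be a commutative ring and n ≥ 1, and let u_n be the
ring endomorphism of A[t, t⁻¹] with u_n(t) = t^n (on monomials, t^k ↦ t^{nk}). Then A[t, t⁻¹] is
free of rank n over itself via u_n, with basis 1, t, …, t^{n−1}: every Laurent polynomial q can be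
written in exactly one way as Σ_{i<n} u_n(c_i) t^i. -/
theorem result (A : Type u) [CommRing A] (n : ℕ) (hn : 1 ≤ n) (q : A[T;T⁻¹]) :
    ∃! c : Fin n → A[T;T⁻¹],
      q = ∑ i : Fin n, (AddMonoidAlgebra.mapDomainRingHom A (AddMonoidHom.mulLeft (n : ℤ)) : A[T;T⁻¹] →+* A[T;T⁻¹]) (c i) *
        LaurentPolynomial.T (i : ℤ) := by
  classical
  have hn0 : (n : ℤ) ≠ 0 := by omega
  let u : A[T;T⁻¹] →+* A[T;T⁻¹] := AddMonoidAlgebra.mapDomainRingHom A (AddMonoidHom.mulLeft (n : ℤ))
  have hinj : Function.Injective (fun j : ℤ => (n : ℤ) * j) := mul_right_injective₀ hn0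
  have hu : ∀ (c : A[T;T⁻¹]) (i i' : Fin n) (j : ℤ),
      (u c * LaurentPolynomial.T (i : ℤ)).coeff ((n : ℤ) * j + (i' : ℤ)) = if i = i' then c.coeff j else 0 := by
    intro c i i' j
    have hmul : (u c * LaurentPolynomial.T (i : ℤ)).coeff ((n : ℤ) * j + (i' : ℤ)) =
        (u c).coeff ((n : ℤ) * j + (i' : ℤ) - (i : ℤ)) * 1 :=
      AddMonoidAlgebra.coeff_mul_single_eq_coeff_mul _ (fun m' _ => by omega)
    rw [hmul, mul_one]
    have hc : ∀ k, (u c).coeff k = Finsupp.mapDomain (fun j : ℤ => (n : ℤ) * j) c.coeff k := fun k => rfl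
    rw [hc]
    split_ifs with h
    · subst h
      rw [add_sub_cancel_right]
      exact Finsupp.mapDomain_apply hinj _ _
    · refine Finsupp.mapDomain_notin_range _ _ ?_
      rintro ⟨k, hk⟩
      refine h (Fin.ext ?_)
      have h1 : (n : ℤ) * (k - j) = (i' : ℤ) - (i : ℤ) := by linarith [hk]
      have hi := i.2
      have hi' := i'.2
      rcases lt_trichotomy (k - j) 0 with h2 | h2 | h2
      · nlinarith
      · rw [h2] at h1; omega
      · nlinarith
  refine ⟨fun i => AddMonoidAlgebra.ofCoeff (Finsupp.comapDomain (fun j : ℤ => (n : ℤ) * j + (i : ℤ)) q.coeff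
    ((add_left_injective _).comp hinj).injOn), ?_, fun c hc => ?_⟩
  · show q = ∑ i, u _ * _
    apply LaurentPolynomial.ext
    intro k
    obtain ⟨j, i', rfl⟩ : ∃ (j : ℤ) (i' : Fin n), k = (n : ℤ) * j + (i' : ℤ) :=
      ⟨k / n, ⟨(k % n).toNat, by have := Int.emod_nonneg k hn0; have := Int.emod_lt_of_pos k (show (0:ℤ) < n by omega); omega⟩, by
        have := Int.emod_add_mul_ediv k (n : ℤ)
        simp only [Int.toNat_of_nonneg (Int.emod_nonneg k hn0)]; linarith⟩
    rw [AddMonoidAlgebra.coeff_sum, Finsupp.finsetSum_apply, Finset.sum_eq_single i']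
    · rw [hu, if_pos rfl]; rfl
    · intro i _ hi; rw [hu, if_neg hi]
    · simp
  · funext i'
    apply LaurentPolynomial.ext
    intro j
    show _ = q.coeff ((n : ℤ) * j + (i' : ℤ))
    rw [hc]
    change _ = (∑ i, u (c i) * LaurentPolynomial.T (i : ℤ)).coeff _
    rw [AddMonoidAlgebra.coeff_sum, Finsupp.finsetSum_apply, Finset.sum_eq_single i']
    · rw [hu, if_pos rfl]
    · intro i _ hi; rw [hu, if_neg hi]
    · simp

end Groth.Agent.S5119
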