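import Groth.Statements.S5120
-- import your own Groth.Agent.* helpers here

set_option autoImplicit false
universe u
open SGA1t

namespace Groth.Agent.S5120

open Polynomial in
/-- The computation behind the exactness of the Artin-Schreier sequence 0 → Z/p → G_a → G_a → 0 in
characteristic p, i.e. faithful flatness of ℘ = id − F: Let p be a prime and A a ring of
characteristic p. Then A[t] is free of rank p over itself via the endomorphism t ↦ t − t^p, with
basis 1, t, …, t^{p−1}: every polynomial q can be written in exactly one way as Σ_{i<p} c_i(t − t^p)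
t^i. -/
theorem result (p : ℕ) [Fact p.Prime] (A : Type u) [CommRing A] [CharP A p]
    (q : A[X]) :
    ∃! c : Fin p → A[X], q = ∑ i : Fin p, aeval (X - X ^ p : A[X]) (c i) * X ^ (i : ℕ) := by
  classical
  have : Nontrivial A := CharP.nontrivial_of_char_ne_one (v := p) (Fact.out : p.Prime).ne_one
  let φ : A[X] := X - X ^ p
  let P : (A[X])[X] := X ^ p + (C X - X)
  have hp1 : 1 < p := (Fact.out : p.Prime).one_lt
  have hdeg : (C X - X : (A[X])[X]).degree < (p : ℕ) := by
    refine lt_of_le_of_lt (degree_sub_le _ _) (max_lt ?_ ?_)
    · exact lt_of_le_of_lt degree_C_le (by exact_mod_cast zero_lt_one.trans hp1)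
    · exact lt_of_le_of_lt degree_X_le (by exact_mod_cast hp1)
  have hmon : P.Monic := monic_X_pow_add hdeg
  have hnd : P.natDegree = p := by
    have : P.degree = (p : ℕ) := by
      show (X ^ p + (C X - X)).degree = _
      rw [degree_add_eq_left_of_degree_lt (by rwa [degree_X_pow]), degree_X_pow]
    exact natDegree_eq_of_degree_eq_some this
  let F : AdjoinRoot P →+* A[X] := AdjoinRoot.lift (aeval φ).toRingHom X (by simp [P, φ])
  let G : A[X] →ₐ[A] AdjoinRoot P := aeval (AdjoinRoot.root P)
  have hφ : G φ = AdjoinRoot.of P X := by
    have := AdjoinRoot.eval₂_root P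
    simp [P] at this
    simp [G, φ]
    linear_combination -this
  have hGF : ∀ z, G (F z) = z := by
    have : (G.toRingHom.comp F) = RingHom.id _ := by
      apply AdjoinRoot.ringHom_ext
      · ext a
        · have hC : AdjoinRoot.of P (C a) = algebraMap A (AdjoinRoot P) a := rfl
          simp [F, G, ← hC]
        · simp [F, hφ]
      · simp [F, G]
    exact fun z => DFunLike.congr_fun this z
  have hFG : ∀ z, F (G z) = z := by
    have : F.comp G.toRingHom = RingHom.id _ := by
      apply Polynomial.ringHom_ext
      · intro a
        have hC : AdjoinRoot.of P (C a) = algebraMap A (AdjoinRoot P) a := rfl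
        simp [F, G, ← hC]
      · simp [F, G]
    exact fun z => DFunLike.congr_fun this z
  let pb := AdjoinRoot.powerBasis' hmon
  let b := pb.basis.reindex (finCongr (show pb.dim = p from hnd))
  have key : ∀ c : Fin p → A[X], ∑ i : Fin p, aeval φ (c i) * X ^ (i : ℕ) = F (b.equivFun.symm c) := by
    intro c
    rw [Module.Basis.equivFun_symm_apply, map_sum]
    refine Finset.sum_congr rfl fun i _ => ?_
    simp only [b, Module.Basis.reindex_apply, PowerBasis.coe_basis, Algebra.smul_def, map_mul, map_pow]
    simp [F, pb]
  refine ⟨b.equivFun (G q), ?_, fun c hc => ?_⟩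
  · show q = _
    rw [key, LinearEquiv.symm_apply_apply, hFG]
  · rw [hc, key, hGF, LinearEquiv.apply_symm_apply]

end Groth.Agent.S5120
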