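import Groth.Statements.S5128
import Groth.Agent.TopInvHomeo.Basic

set_option autoImplicit false
universe u
open SGA1

namespace Groth.Agent.S5128

open AlgebraicGeometry CategoryTheory CategoryTheory.Limits in
/-- Let X and Y be S-schemes with Y etale over S. The map f ↦ Γ_f sending an S-morphism f : X ⟶ Y to the
subset of X ×_S Y underlying its graph is a bijection from Hom_S(X, Y) onto the set of open subsets
Γ of X ×_S Y for which the restriction Γ → X of the first projection is radicial (universally
injective) and surjective. Stated as: the graph of every S-morphism is an open immersion, and every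
such open Γ is the image of the graph of exactly one S-morphism. -/
theorem result {S X Y : Scheme.{u}} (p : X ⟶ S)
    (q : Y ⟶ S) [Etale q] :
    (∀ f : {f : X ⟶ Y // f ≫ q = p},
      IsOpenImmersion (pullback.lift (𝟙 X) f.1 ((Category.id_comp p).trans f.2.symm) : X ⟶ pullback p q)) ∧
    ∀ Γ : (pullback p q).Opens, UniversallyInjective (Γ.ι ≫ pullback.fst p q) → Surjective (Γ.ι ≫ pullback.fst p q) →
      ∃! f : {f : X ⟶ Y // f ≫ q = p},
        Set.range (pullback.lift (𝟙 X) f.1 ((Category.id_comp p).trans f.2.symm) : X ⟶ pullback p q).base =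
          (Γ : Set ↥(pullback p q)) := by
  have hoi : ∀ f : {f : X ⟶ Y // f ≫ q = p},
      IsOpenImmersion (pullback.lift (𝟙 X) f.1 ((Category.id_comp p).trans f.2.symm) : X ⟶ pullback p q) := by
    intro f
    let s := pullback.lift (𝟙 X) f.1 ((Category.id_comp p).trans f.2.symm)
    have hs : s ≫ pullback.fst p q = 𝟙 X := pullback.lift_fst _ _ _
    haveI : IsSplitMono s := IsSplitMono.mk' ⟨_, hs⟩
    haveI : Etale (s ≫ pullback.fst p q) := by rw [hs]; infer_instance
    haveI : Etale s := Etale.of_comp s (pullback.fst p q)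
    exact IsOpenImmersion.of_flat_of_mono s
  refine ⟨hoi, fun Γ hui hsu => ?_⟩
  let e := Γ.ι ≫ pullback.fst p q
  haveI : UniversallyInjective e := hui
  haveI : Surjective e := hsu
  haveI : Etale e := inferInstanceAs (Etale (Γ.ι ≫ pullback.fst p q))
  haveI : Mono e := Groth.Agent.TopInvHomeo.mono_of_universallyInjective e
  haveI : IsOpenImmersion e := IsOpenImmersion.of_flat_of_mono e
  haveI : IsIso e := (isIso_iff_isOpenImmersion_and_epi_base e).mpr
    ⟨inferInstance, (TopCat.epi_iff_surjective _).mpr e.surjective⟩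
  let f₀ := inv e ≫ Γ.ι ≫ pullback.snd p q
  have hf₀ : f₀ ≫ q = p := by
    rw [Category.assoc, Category.assoc, ← pullback.condition, IsIso.inv_comp_eq, Category.assoc]
  have hg : pullback.lift (𝟙 X) f₀ ((Category.id_comp p).trans hf₀.symm) = inv e ≫ Γ.ι := by
    refine pullback.hom_ext ?_ ?_
    · rw [pullback.lift_fst, Category.assoc]; exact (IsIso.inv_hom_id e).symm
    · rw [pullback.lift_snd, Category.assoc]
  refine ⟨⟨f₀, hf₀⟩, ?_, ?_⟩
  · show Set.range (pullback.lift (𝟙 X) f₀ _ : X ⟶ pullback p q) = _
    rw [hg, Scheme.Hom.comp_base, TopCat.coe_comp, Set.range_comp, (inv e).surjective.range_eq, Set.image_univ,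
      Scheme.Opens.range_ι]
  · intro f hf
    let s := pullback.lift (𝟙 X) f.1 ((Category.id_comp p).trans f.2.symm)
    have hsub : Set.range s ⊆ Set.range Γ.ι := by rw [Scheme.Opens.range_ι]; exact hf.le
    let l := IsOpenImmersion.lift Γ.ι s hsub
    have hl : l ≫ Γ.ι = s := IsOpenImmersion.lift_fac _ _ _
    have hle : l ≫ e = 𝟙 X := by rw [show l ≫ e = (l ≫ Γ.ι) ≫ pullback.fst p q from (Category.assoc _ _ _).symm, hl]; exact pullback.lift_fst _ _ _
    have hl' : l = inv e := (cancel_mono e).mp (hle.trans (IsIso.inv_hom_id e).symm)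
    refine Subtype.ext ?_
    show f.1 = inv e ≫ Γ.ι ≫ pullback.snd p q
    rw [← hl', reassoc_of% hl]
    exact (pullback.lift_snd _ _ _).symm

end Groth.Agent.S5128
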