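import Groth.Statements.S5132
-- import your own Groth.Agent.* helpers here

set_option autoImplicit false
open CategoryTheory AlgebraicGeometry
universe u
open SGA1

namespace Groth.Agent.S5132

set_option backward.isDefEq.respectTransparency.types false in
/-- Quasi-compactness of a morphism descends along a surjective and quasi-compact base change; flatness
of the base change is not needed for this property. -/
theorem result :
    MorphismProperty.DescendsAlong @QuasiCompact (@Surjective ⊓ @QuasiCompact : MorphismProperty Scheme.{u}) := by
  refine MorphismProperty.DescendsAlong.mk' fun {X Y Z} f g _ hf hg => ?_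
  obtain ⟨hfs, hfq⟩ := hf
  refine ⟨fun U hUo hU => ?_⟩
  have hs : Function.Surjective (Limits.pullback.snd f g).base := (inferInstance : Surjective (Limits.pullback.snd f g)).surj
  rw [← Set.image_preimage_eq (g.base ⁻¹' U) hs]
  refine IsCompact.image ?_ (Limits.pullback.snd f g).continuous
  have h1 := hg.isCompact_preimage _ (hUo.preimage f.continuous) (hfq.isCompact_preimage U hUo hU)
  rw [← Set.preimage_comp] at h1 ⊢
  convert h1 using 2
  funext x
  show g ((Limits.pullback.snd f g) x) = f ((Limits.pullback.fst f g) x)
  rw [← Scheme.Hom.comp_apply, ← Scheme.Hom.comp_apply, Limits.pullback.condition]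

end Groth.Agent.S5132
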