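import Groth.Statements.S5134
import Groth.Agent.FinLocFreeSections.Descent
import Groth.Agent.FinLocFreeSections.FP
import Groth.Agent.QCohBase.FinitePresentation

set_option autoImplicit false
open CategoryTheory AlgebraicGeometry
universe u
open SGA1

set_option backward.isDefEq.respectTransparency.types false
open TensorProduct

namespace Groth.Agent.S5134

theorem descend {A M : Type u} [CommRing A] [AddCommGroup M] [Module A M] (T : Type u) [CommRing T]
    [Algebra A T] [Module.FaithfullyFlat A T] [Module.FinitePresentation T (T ⊗[A] M)] :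
    Module.FinitePresentation A M := by
  haveI : Module.Finite A M := Module.Finite.of_finite_tensorProduct_of_faithfullyFlat T
  obtain ⟨n, f, hf⟩ := Module.Finite.exists_fin' A M
  refine Module.finitePresentation_of_surjective f hf ?_
  let i := (LinearMap.ker f).subtype.baseChange T
  have hinj : Function.Injective i :=
    Module.Flat.lTensor_preserves_injective_linearMap (M := T) _ (LinearMap.ker f).injective_subtype
  have hker : LinearMap.range i = LinearMap.ker (f.baseChange T) := by
    ext x
    exact ((lTensor_exact T (LinearMap.exact_subtype_ker_map f) hf) x).symm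
  haveI : Module.Finite T (LinearMap.range i) := by
    rw [hker, Module.Finite.iff_fg]
    exact Module.FinitePresentation.fg_ker _ (LinearMap.lTensor_surjective T hf)
  haveI : Module.Finite T (T ⊗[A] LinearMap.ker f) := Module.Finite.equiv (LinearEquiv.ofInjective i hinj).symm
  exact Module.Finite.iff_fg.1 (Module.Finite.of_finite_tensorProduct_of_faithfullyFlat T)

theorem fp_pi_of {T : Type u} [CommRing T] {ι : Type u} [Finite ι] (N : ι → Type u)
    [∀ k, AddCommGroup (N k)] [∀ k, Module T (N k)] [∀ k, Module.FinitePresentation T (N k)] :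
    Module.FinitePresentation T (∀ k, N k) := by
  choose n f hf using fun k => Module.Finite.exists_fin' T (N k)
  haveI : Module.FinitePresentation T (∀ k, Fin (n k) → T) :=
    Module.FinitePresentation.of_equiv (LinearEquiv.piCurry T (fun (k : ι) (_ : Fin (n k)) => T))
  refine Module.finitePresentation_of_surjective (LinearMap.piMap f) (fun y => ?_) ?_
  · choose x hx using fun k => hf k (y k)
    exact ⟨x, funext hx⟩
  · have : LinearMap.ker (LinearMap.piMap f) = Submodule.pi Set.univ fun k => LinearMap.ker (f k) := by
      ext x
      simp [funext_iff]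
    rw [this]
    exact Submodule.fg_pi fun k => Module.FinitePresentation.fg_ker (f k) (hf k)

theorem pi_fp {ι : Type u} [Finite ι] (S : ι → Type u) [∀ k, CommRing (S k)] (N : ι → Type u)
    [∀ k, AddCommGroup (N k)] [∀ k, Module (S k) (N k)] [∀ k, Module.FinitePresentation (S k) (N k)] :
    Module.FinitePresentation (∀ k, S k) (∀ k, N k) := by
  classical
  letI : ∀ k, Module (∀ j, S j) (N k) := fun k => Module.compHom (N k) (Pi.evalRingHom S k)
  haveI : ∀ k, Module.FinitePresentation (∀ j, S j) (N k) := fun k => by
    letI : Algebra (∀ j, S j) (S k) := (Pi.evalRingHom S k).toAlgebra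
    haveI : IsScalarTower (∀ j, S j) (S k) (N k) := .of_algebraMap_smul fun _ _ => rfl
    haveI : Module.FinitePresentation (∀ j, S j) (S k) := by
      refine Module.finitePresentation_of_surjective (Algebra.linearMap (∀ j, S j) (S k))
        (fun y => ⟨Function.update 0 k y, Function.update_self k y 0⟩)
        ⟨{1 - Pi.single k 1}, le_antisymm ?_ fun x hx => ?_⟩
      · rw [Submodule.span_le, Finset.coe_singleton, Set.singleton_subset_iff]
        show (1 - Pi.single k 1 : ∀ j, S j) k = 0
        simp
      · rw [Finset.coe_singleton, Submodule.mem_span_singleton]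
        refine ⟨x, funext fun j => ?_⟩
        by_cases hj : j = k
        · subst hj
          simp [show x j = 0 from hx]
        · simp [hj]
    exact Module.FinitePresentation.trans (∀ j, S j) (N k) (S k)
  exact fp_pi_of (T := ∀ j, S j) N


/-- For g : S' ⟶ S flat, surjective and quasi-compact and F a quasi-coherent module on S, if the
pullback of F to S' is of finite presentation then F is of finite presentation. -/
theorem result {S S' : Scheme.{u}} (g : S' ⟶ S) [Flat g] [Surjective g] [QuasiCompact g]
    (F : S.Modules) (hF : Coh.IsQCoh F)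
    (h : CohB1.IsFP ((Scheme.Modules.pullback g).obj F)) : CohB1.IsFP F := by
  haveI : F.IsQuasicoherent := hF
  haveI := QCohPull.isQuasicoherent_pullback g F
  refine QCohBase.isFinitePresentation_of_affine F fun x => ?_
  obtain ⟨V, hV, hxV, -⟩ := TopologicalSpace.Opens.isBasis_iff_nbhd.1 S.isBasis_affineOpens (U := ⊤) (TopologicalSpace.Opens.mem_top x)
  refine ⟨V, hV, hxV, ?_⟩
  obtain ⟨ι, _, U, hU, _, hff, ⟨e⟩⟩ := FinLocFreeSections.exists_faithfullyFlat_sections g F hV
  let N : ι → Type u := fun i => ↥Γ((Scheme.Modules.pullback g).obj F, U i)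
  letI : ∀ i, AddCommGroup (N i) := fun i => inferInstanceAs (AddCommGroup Γ((Scheme.Modules.pullback g).obj F, U i))
  letI : ∀ i, Module Γ(S', U i) (N i) := fun i => inferInstanceAs (Module Γ(S', U i) Γ((Scheme.Modules.pullback g).obj F, U i))
  haveI : ∀ i, Module.FinitePresentation Γ(S', U i) (N i) := fun i =>
    FinLocFreeSections.finitePresentation_sections _ h (hU i)
  haveI := pi_fp (fun i => Γ(S', U i)) N
  haveI : Module.FinitePresentation (∀ i, Γ(S', U i)) ((∀ i, Γ(S', U i)) ⊗[Γ(S, V)] Γ(F, V)) :=
    Module.FinitePresentation.of_equiv e.symm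
  exact descend (∀ i, Γ(S', U i))

end Groth.Agent.S5134
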