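import Groth.Statements.S5135
import Mathlib

set_option autoImplicit false
universe u
open scoped TensorProduct
open SGA1

namespace Groth.Agent.S5135

/-- The affine case, in submodule form (descent of submodules, equivalently of quotient modules): for A
⟶ A' faithfully flat, M an A-module and N' an A'-submodule of A' ⊗ M whose two extensions to (A' ⊗
A') ⊗ M, along a ↦ a ⊗ 1 and a ↦ 1 ⊗ a, generate the same submodule, N' is the base change of the
submodule of M formed by the elements m with 1 ⊗ m in N'. -/
theorem result (A A' : Type u) [CommRing A] [CommRing A'] [Algebra A A']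
    [Module.FaithfullyFlat A A'] (M : Type u) [AddCommGroup M] [Module A M] (N' : Submodule A' (A' ⊗[A] M))
    (h : Submodule.span (A' ⊗[A] A')
          ((N'.restrictScalars A).map
            ((Algebra.TensorProduct.includeLeft : A' →ₐ[A] A' ⊗[A] A').toLinearMap.rTensor M) : Set ((A' ⊗[A] A') ⊗[A] M)) =
        Submodule.span (A' ⊗[A] A')
          ((N'.restrictScalars A).map
            ((Algebra.TensorProduct.includeRight : A' →ₐ[A] A' ⊗[A] A').toLinearMap.rTensor M) : Set ((A' ⊗[A] A') ⊗[A] M))) :
    ((N'.restrictScalars A).comap (TensorProduct.mk A A' M 1)).baseChange A' = N' := by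
  set M0 : Submodule A M := (N'.restrictScalars A).comap (TensorProduct.mk A A' M 1)
  refine le_antisymm ?_ fun x hx => ?_
  · rw [Submodule.baseChange_eq_span]
    refine Submodule.span_le.2 ?_
    rintro _ ⟨m, hm, rfl⟩
    exact hm
  let φ : M →ₗ[A] ((A' ⊗[A] M) ⧸ N') := ((N'.mkQ).restrictScalars A).comp (TensorProduct.mk A A' M 1)
  have hker : LinearMap.ker φ = M0 := by
    ext m; exact Submodule.Quotient.mk_eq_zero _
  let Φ : (A' ⊗[A] A') ⊗[A] M →ₗ[A] A' ⊗[A] ((A' ⊗[A] M) ⧸ N') :=
    ((N'.mkQ).restrictScalars A).lTensor A' ∘ₗ (TensorProduct.assoc A A' A' M).toLinearMap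
  have hΦ : ∀ (c d : A') (z : (A' ⊗[A] A') ⊗[A] M),
      Φ ((c ⊗ₜ[A] d) • z) = TensorProduct.map ((LinearMap.lsmul A' A' c).restrictScalars A)
        ((LinearMap.lsmul A' ((A' ⊗[A] M) ⧸ N') d).restrictScalars A) (Φ z) := by
    intro c d z
    induction z using TensorProduct.induction_on with
    | zero => simp
    | add a b ha hb => simp only [smul_add, map_add, ha, hb]
    | tmul r m =>
      induction r using TensorProduct.induction_on with
      | zero => simp
      | add a b ha hb => simp only [TensorProduct.add_tmul, smul_add, map_add, ha, hb]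
      | tmul a b =>
        simp [Φ, TensorProduct.smul_tmul', ← Submodule.Quotient.mk_smul]
  have hspan : ∀ z ∈ Submodule.span (A' ⊗[A] A') ((N'.restrictScalars A).map
      ((Algebra.TensorProduct.includeRight : A' →ₐ[A] A' ⊗[A] A').toLinearMap.rTensor M) : Set ((A' ⊗[A] A') ⊗[A] M)), Φ z = 0 := by
    intro z hz
    induction hz using Submodule.span_induction with
    | zero => simp
    | add a b _ _ ha hb => simp [ha, hb]
    | mem z hz =>
      obtain ⟨y, hy, rfl⟩ := hz
      have : ∀ y : A' ⊗[A] M, Φ ((Algebra.TensorProduct.includeRight : A' →ₐ[A] A' ⊗[A] A').toLinearMap.rTensor M y) = (1 : A') ⊗ₜ[A] N'.mkQ y := by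
        intro y
        induction y using TensorProduct.induction_on with
        | zero => simp
        | add a b ha hb => simp only [map_add, ha, hb, TensorProduct.tmul_add]
        | tmul a m => simp [Φ]
      rw [this, show N'.mkQ y = 0 from (Submodule.Quotient.mk_eq_zero _).2 hy, TensorProduct.tmul_zero]
    | smul r a _ ha =>
      induction r using TensorProduct.induction_on with
      | zero => simp
      | add r s hr hs => simp [add_smul, hr, hs]
      | tmul c d => simp [hΦ, ha]
  have h0 : φ.lTensor A' x = 0 := by
    have : Φ ((Algebra.TensorProduct.includeLeft : A' →ₐ[A] A' ⊗[A] A').toLinearMap.rTensor M x) = φ.lTensor A' x := by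
      clear hx
      induction x using TensorProduct.induction_on with
      | zero => simp
      | add a b ha hb => simp only [map_add, ha, hb]
      | tmul a m => simp [Φ, φ]
    rw [← this]
    refine hspan _ ?_
    rw [← h]
    exact Submodule.subset_span ⟨x, hx, rfl⟩
  obtain ⟨t, ht⟩ := (Module.Flat.lTensor_exact A' (f := M0.subtype) (g := φ)
    (LinearMap.exact_iff.2 (by rw [hker, Submodule.range_subtype])) x).1 h0
  subst ht
  clear hx h0
  rw [Submodule.baseChange_eq_span]
  induction t using TensorProduct.induction_on with
  | zero => simp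
  | add a b ha hb => simpa only [map_add] using Submodule.add_mem _ ha hb
  | tmul a m =>
    have := Submodule.smul_mem (Submodule.span A' ((TensorProduct.mk A A' M 1) '' (M0 : Set M))) a
      (Submodule.subset_span ⟨m.1, m.2, rfl⟩)
    simpa [TensorProduct.smul_tmul'] using this

end Groth.Agent.S5135
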