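import Groth.Statements.S5136
import Groth.Agent.AlgSpImage.Image
import Groth.Agent.BddFibLib.FlatSurj

set_option backward.isDefEq.respectTransparency false
set_option linter.style.haveILetI false

set_option autoImplicit false
open CategoryTheory CategoryTheory.Limits AlgebraicGeometry
universe u
open SGA1

namespace Groth.Agent.S5136

/-- The existence half of the exactness of H(S) ⟶ H(S') ⇉ H(S'') for closed subschemes: for g : S' ⟶ S
flat, surjective and quasi-compact, a quasi-coherent ideal sheaf on S' whose pullbacks along the two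
projections of S' ×_S S' agree is the pullback of a quasi-coherent ideal sheaf on S. (Injectivity of
the pullback of ideal sheaves along g is the other half.) -/
theorem result {S S' : Scheme.{u}} (g : S' ⟶ S) [Flat g] [Surjective g]
    [QuasiCompact g] (J' : S'.IdealSheafData)
    (h : J'.comap (pullback.fst g g) = J'.comap (pullback.snd g g)) :
    ∃ J : S.IdealSheafData, J.comap g = J' := by
  let ι := J'.subschemeι
  refine ⟨(ι ≫ g).ker, ?_⟩
  let p₁ := pullback.fst g g
  let p₂ := pullback.snd g g
  have sA := IsPullback.of_hasPullback ι p₁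
  have H : IsPullback (pullback.fst ι p₁) (pullback.snd ι p₁ ≫ p₂) (ι ≫ g) g :=
    (sA.flip.paste_horiz (IsPullback.of_hasPullback g g).flip).flip
  rw [← Groth.Agent.AlgSpImage.ker_of_isPullback_flat H]
  have h₁ : (pullback.snd ι p₁).ker = J'.comap p₁ := by
    rw [← Groth.Agent.ModPairLib.comap_ker_of_isPullback sA, Scheme.IdealSheafData.ker_subschemeι]
  have h₂ : (pullback.snd ι p₂).ker = J'.comap p₂ := by
    rw [← Groth.Agent.ModPairLib.comap_ker_of_isPullback (IsPullback.of_hasPullback ι p₂), Scheme.IdealSheafData.ker_subschemeι]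
  haveI : Flat p₂ := MorphismProperty.pullback_snd _ _ ‹Flat g›
  haveI : Surjective p₂ := MorphismProperty.pullback_snd _ _ ‹Surjective g›
  haveI : QuasiCompact p₂ := MorphismProperty.pullback_snd _ _ ‹QuasiCompact g›
  haveI : Flat (pullback.fst ι p₂) := MorphismProperty.pullback_fst _ _ inferInstance
  haveI : Surjective (pullback.fst ι p₂) := MorphismProperty.pullback_fst _ _ inferInstance
  haveI : QuasiCompact (pullback.fst ι p₂) := MorphismProperty.pullback_fst _ _ inferInstance
  haveI : IsSchemeTheoreticallyDominant (pullback.fst ι p₂) := ⟨Scheme.IdealSheafData.ext (funext fun O => by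
    rw [Scheme.Hom.ker_apply, Scheme.IdealSheafData.ideal_bot]
    exact (RingHom.injective_iff_ker_eq_bot _).1
      (Groth.Agent.BddFibLib.app_injective_of_flat_of_surjective (pullback.fst ι p₂) O.1))⟩
  rw [Scheme.Hom.ker_comp, h₁, h, ← h₂, ← Scheme.Hom.ker_comp, ← pullback.condition, Scheme.Hom.ker_comp,
    (pullback.fst ι p₂).ker_eq_bot, Scheme.IdealSheafData.map_bot, Scheme.IdealSheafData.ker_subschemeι]

end Groth.Agent.S5136
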