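import Groth.Statements.S5138
import Groth.Agent.AlgSpc.EtLocInst

set_option autoImplicit false
open CategoryTheory AlgebraicGeometry
universe u
open SGA1

namespace Groth.Agent.S5138

/-- For X ⟶ X' ⟶ Y locally of finite type over a locally Noetherian Y and a point x of X, if X ⟶ X' and
the composite X ⟶ Y are both etale near x then X' ⟶ Y is etale near the image of x; 'etale near a
point' is membership in the etale locus, the union of the opens on which the morphism is etale. (The
published statement takes the morphisms of finite type; quasi-compactness plays no role in this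
assertion about single points, so only local finiteness is assumed.) -/
theorem result {X X' Y : Scheme.{u}} (f : X ⟶ X') (g : X' ⟶ Y)
    [IsLocallyNoetherian Y] [LocallyOfFiniteType f] [LocallyOfFiniteType g] (x : X)
    (hf : x ∈ Pi1X.etaleLocus f) (hfg : x ∈ Pi1X.etaleLocus (f ≫ g)) : f.base x ∈ Pi1X.etaleLocus g := by
  obtain ⟨U, hU, hxU⟩ := TopologicalSpace.Opens.mem_sSup.mp hf
  obtain ⟨U', hU', hxU'⟩ := TopologicalSpace.Opens.mem_sSup.mp hfg
  let W : X.Opens := U ⊓ U'
  have h1 : Etale (W.ι ≫ f) := by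
    rw [← X.homOfLE_ι (inf_le_left : W ≤ U), Category.assoc]
    have : Etale (Scheme.Opens.ι U ≫ f) := hU
    infer_instance
  have h2 : Etale (W.ι ≫ f ≫ g) := by
    rw [← X.homOfLE_ι (inf_le_right : W ≤ U'), Category.assoc]
    have : Etale (Scheme.Opens.ι U' ≫ f ≫ g) := hU'
    infer_instance
  let V : X'.Opens := ⟨Set.range (W.ι ≫ f), (W.ι ≫ f).isOpenMap.isOpen_range⟩
  let e : W.toScheme ⟶ V.toScheme := IsOpenImmersion.lift V.ι (W.ι ≫ f) (by rw [Scheme.Opens.range_ι]; rfl)
  have he : e ≫ V.ι = W.ι ≫ f := IsOpenImmersion.lift_fac _ _ _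
  have het : Etale e := Groth.Agent.AlgSpc.EtLoc.cancel (P := @Etale) e V.ι inferInstance (by rw [he]; exact h1)
  have hes : Surjective e := ⟨fun v => by
    obtain ⟨w, hw⟩ := v.2
    refine ⟨w, V.ι.injective ?_⟩
    rw [← Scheme.Hom.comp_apply, he, hw]; rfl⟩
  have hV : Etale (V.ι ≫ g) := Groth.Agent.AlgSpc.EtLoc.descend (P := @Etale) e _ het hes (by
    rw [← Category.assoc, he, Category.assoc]; exact h2)
  exact TopologicalSpace.Opens.mem_sSup.mpr ⟨V, hV, ⟨⟨x, ⟨hxU, hxU'⟩⟩, rfl⟩⟩

end Groth.Agent.S5138
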