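import Groth.Statements.S5147
import Groth.Agent.GalDict.Exact

set_option autoImplicit false
universe u v w
open CategoryTheory PreGaloisCategory
open Pi1

namespace Groth.Agent.S5147

open CategoryTheory.Limits in
/-- In the situation of the first assertion, the stabilizer U of a contains the normal subgroup
generated by the image of u (hence also its closure, U being open) if and only if H(X) is isomorphic
to a finite coproduct of copies of the final object of C'. -/
theorem result {C C' : Type u} [Category.{v} C] [Category.{v} C']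
    [GaloisCategory C] [GaloisCategory C'] (H : C ⥤ C') [PreservesFiniteLimits H] [PreservesFiniteColimits H]
    (F' : C' ⥤ FintypeCat.{w}) [FiberFunctor F'] [FiberFunctor (H ⋙ F')] (X : C) [IsConnected X]
    (a : (H ⋙ F').obj X) :
    Subgroup.normalClosure ((Pi1X.autWhisker H F').range : Set (Aut (H ⋙ F'))) ≤ MulAction.stabilizer (Aut (H ⋙ F')) a ↔
      ∃ n : ℕ, Nonempty (H.obj X ≅ ∐ fun _ : Fin n => ⊤_ C') := by
  constructor
  · intro hh
    refine (Groth.Agent.GalDict.forall_range_le_iff H F' X).1 fun b => ?_
    obtain ⟨k, hk⟩ := MulAction.exists_smul_eq (Aut (H ⋙ F')) a b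
    intro g hg
    have hm := hh (Subgroup.normalClosure_normal.conj_mem g (Subgroup.subset_normalClosure hg) k⁻¹)
    rw [inv_inv, MulAction.mem_stabilizer_iff, mul_smul, mul_smul, inv_smul_eq_iff, hk] at hm
    exact hm
  · intro hh
    have htriv := (Groth.Agent.GalDict.forall_range_le_iff H F' X).2 hh
    rw [Subgroup.normalClosure, Subgroup.closure_le]
    intro g hg
    obtain ⟨x, hx, hgx⟩ := Group.mem_conjugatesOfSet_iff.1 hg
    obtain ⟨k, rfl⟩ := isConj_iff.1 hgx
    show k * x * k⁻¹ ∈ MulAction.stabilizer (Aut (H ⋙ F')) a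
    rw [MulAction.mem_stabilizer_iff, mul_smul, mul_smul,
      MulAction.mem_stabilizer_iff.1 (htriv (k⁻¹ • a) hx), smul_inv_smul]

end Groth.Agent.S5147
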