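import Groth.Statements.S5150
import Mathlib.RingTheory.Regular.Category
import Mathlib.Algebra.Homology.DerivedCategory.Ext.ExactSequences
import Mathlib.Algebra.Homology.DerivedCategory.Ext.Linear
import Mathlib.Algebra.Category.ModuleCat.Ext.HasExt
-- import your own Groth.Agent.* helpers here

set_option autoImplicit false
universe u
open CategoryTheory
open LocCoh

namespace Groth.Agent.S5150

/-- Let A be a commutative ring, I an ideal, M and N A-modules, and f_1, …, f_r a weakly M-regular
sequence of elements of I. If N is killed by a power of I then Ext^i_A(N, M) vanishes for all i < r.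
(No Noetherian or finiteness hypothesis on A, M or N.) -/
theorem result (A : Type u) [CommRing A] (I : Ideal A) (M N : Type u) [AddCommGroup M] [Module A M] [AddCommGroup N] [Module A N] (rs : List A) (hreg : RingTheory.Sequence.IsWeaklyRegular M rs) (hI : ∀ r ∈ rs, r ∈ I) (k : ℕ) (hN : (I ^ k) • (⊤ : Submodule A N) = ⊥) (i : ℕ) (hi : i < rs.length) : Subsingleton (Abelian.Ext (ModuleCat.of A N) (ModuleCat.of A M) i) := by
  induction rs generalizing M i with
  | nil => simp at hi
  | cons r rs ih =>
    rw [RingTheory.Sequence.isWeaklyRegular_cons_iff] at hreg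
    have hS := hreg.1.smulShortComplex_shortExact (M := ModuleCat.of A M)
    have hinj : ∀ x : Abelian.Ext (ModuleCat.of A N) (ModuleCat.of A M) i, r • x = 0 → x = 0 := by
      intro x hx
      cases i with
      | zero =>
        obtain ⟨f, rfl⟩ := (Abelian.Ext.mk₀_bijective _ _).2 x
        have hf : r • f = 0 := (Abelian.Ext.mk₀_bijective _ _).1 (by simpa [Abelian.Ext.mk₀_smul] using hx)
        rw [show f = 0 from ModuleCat.hom_ext (LinearMap.ext fun n => hreg.1 (by
          show r • f.hom n = r • (0 : M)
          rw [smul_zero, ← LinearMap.smul_apply, ← ModuleCat.hom_smul, hf]; rfl))]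
        exact Abelian.Ext.mk₀_zero _ _
      | succ j =>
        have hsub : Subsingleton (Abelian.Ext (ModuleCat.of A N) (ModuleCat.of A (QuotSMulTop r M)) j) :=
          ih _ hreg.2 (fun s hs => hI s (List.mem_cons_of_mem _ hs)) j (by simpa using hi)
        obtain ⟨y, hy⟩ := Abelian.Ext.covariant_sequence_exact₁ _ hS x (by
          show x.comp (Abelian.Ext.mk₀ (r • 𝟙 (ModuleCat.of A M))) (add_zero _) = 0
          rw [Abelian.Ext.mk₀_smul, Abelian.Ext.comp_smul, Abelian.Ext.comp_mk₀_id]
          exact hx) rfl
        rw [← hy, show y = 0 from @Subsingleton.elim _ hsub _ _]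
        exact Abelian.Ext.zero_comp _ _ hS.extClass _ rfl
    have hz : ∀ x : Abelian.Ext (ModuleCat.of A N) (ModuleCat.of A M) i, r ^ k • x = 0 := fun x => by
      have h0 : r ^ k • 𝟙 (ModuleCat.of A N) = 0 := ModuleCat.hom_ext (LinearMap.ext fun n => by
        have hm := Submodule.smul_mem_smul (Ideal.pow_mem_pow (hI r (List.mem_cons_self ..)) k)
          (Submodule.mem_top (x := n))
        rw [hN, Submodule.mem_bot] at hm
        exact hm)
      calc r ^ k • x = r ^ k • ((Abelian.Ext.mk₀ (𝟙 _)).comp x (zero_add i)) := by rw [Abelian.Ext.mk₀_id_comp]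
        _ = (Abelian.Ext.mk₀ (r ^ k • 𝟙 (ModuleCat.of A N))).comp x (zero_add i) := by
          rw [Abelian.Ext.mk₀_smul, Abelian.Ext.smul_comp]
        _ = 0 := by rw [h0]; simp
    refine ⟨fun a b => sub_eq_zero.1 ?_⟩
    generalize a - b = x
    suffices ∀ m, r ^ m • x = 0 → x = 0 from this k (hz x)
    intro m
    induction m with
    | zero => simp
    | succ m ihm => intro hm; exact ihm (hinj _ (by rw [← mul_smul, ← pow_succ']; exact hm))

end Groth.Agent.S5150
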