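import Groth.Statements.S5153
import Groth.Agent.S0335
import Mathlib.Topology.LocallyConstant.Basic
-- import your own Groth.Agent.* helpers here

set_option autoImplicit false
universe u
open AlgebraicGeometry
open LocCoh

namespace Groth.Agent.S5153

/-- Let X be a locally Noetherian scheme and Y = X − U a closed subset such that depth O_{X,x} ≥ 2 for
every x ∈ Y. Then the inclusion U → X induces a bijection on sets of connected components. -/
theorem result (X : Scheme.{u}) [IsLocallyNoetherian X] (U : X.Opens) (h : ∀ x : X, x ∉ (U : Set X) → (2 : ℕ∞) ≤ LocCoh.depth (X.presheaf.stalk x) (X.presheaf.stalk x)) : Function.Bijective (Continuous.connectedComponentsMap (continuous_subtype_val : Continuous (fun x : U => (x : X)))) := by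
  open TopologicalSpace AlgebraicGeometry in
  classical
  let cc : U → ConnectedComponents U := fun η => ConnectedComponents.mk η
  let Good : X → Prop := fun z => ∀ η η' : U, (η : X) ⤳ z → (η' : X) ⤳ z → cc η = cc η'
  have hUgood : ∀ z : X, z ∈ (U : Set X) → Good z := by
    intro z hz η η' h h'
    have key : ∀ e : U, (e : X) ⤳ z → cc e = cc ⟨z, hz⟩ := fun e he => by
      have h1 : e ⤳ (⟨z, hz⟩ : U) := (Topology.IsInducing.subtypeVal.specializes_iff).1 he
      symm
      exact ConnectedComponents.coe_eq_coe'.2 (h1.mem_closed isClosed_connectedComponent mem_connectedComponent)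
    exact (key η h).trans (key η' h').symm
  have hlocal : ∀ (z : X), z ∉ (U : Set X) →
      IsConnected {w : PrimeSpectrum (X.presheaf.stalk z) | w.asIdeal ≠ IsLocalRing.maximalIdeal _} :=
    fun z hz => S0335.result (X.presheaf.stalk z) (h z hz)
  let g : ∀ z : X, PrimeSpectrum (X.presheaf.stalk z) → X := fun z w => X.fromSpecStalk z w
  have gemb : ∀ z, Topology.IsEmbedding (g z) := fun z => (X.fromSpecStalk z).isEmbedding
  have grange : ∀ z y, y ⤳ z → ∃ w, g z w = y := fun z y hy => by
    have : y ∈ Set.range (X.fromSpecStalk z) := by rw [Scheme.range_fromSpecStalk]; exact hy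
    exact this
  have gspec : ∀ z w, g z w ⤳ z := fun z w => by
    have : g z w ∈ Set.range (X.fromSpecStalk z) := ⟨w, rfl⟩
    rw [Scheme.range_fromSpecStalk] at this
    exact this
  have gle : ∀ z w w', g z w' ⤳ g z w ↔ w' ≤ w := fun z w w' =>
    (gemb z).isInducing.specializes_iff.trans (PrimeSpectrum.le_iff_specializes w' w).symm
  have gne : ∀ z, ∀ w : PrimeSpectrum (X.presheaf.stalk z), w.asIdeal ≠ IsLocalRing.maximalIdeal _ → g z w ≠ z := by
    intro z w hw e
    have e' : g z w = g z (IsLocalRing.closedPoint (X.presheaf.stalk z)) := e.trans Scheme.fromSpecStalk_closedPoint.symm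
    exact hw (by rw [(gemb z).injective e']; rfl)
  -- existence of generizations in `U`
  have hex : ∀ z : X, ∃ η : U, (η : X) ⤳ z := by
    intro z
    obtain ⟨p, hp, -⟩ := Ideal.exists_minimalPrimes_le (I := (⊥ : Ideal (X.presheaf.stalk z)))
      (J := IsLocalRing.maximalIdeal _) bot_le
    let w : PrimeSpectrum (X.presheaf.stalk z) := ⟨p, hp.1.1⟩
    refine ⟨⟨g z w, ?_⟩, gspec z w⟩
    by_contra hno
    obtain ⟨v, hv⟩ := (hlocal _ hno).nonempty
    obtain ⟨w', hw'⟩ := grange z (g (g z w) v) ((gspec _ v).trans (gspec z w))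
    have hle : w' ≤ w := (gle z w w').1 (hw' ▸ gspec _ v)
    have : w' = w := le_antisymm hle (hp.2 ⟨w'.2, bot_le⟩ hle)
    exact gne _ v hv (hw'.symm.trans (congrArg (g z) this))
  choose gen hgen using hex
  let f : X → ConnectedComponents U := fun z => cc (gen z)
  have hfeq : ∀ z, Good z → ∀ η : U, (η : X) ⤳ z → cc η = f z := fun z hz η hη => hz η (gen z) hη (hgen z)
  have hgood : ∀ z, Good z := by
    intro x
    suffices ∀ w : PrimeSpectrum (X.presheaf.stalk x), Good (g x w) by
      obtain ⟨w, hw⟩ := grange x x specializes_rfl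
      exact hw ▸ this w
    refine fun w => (InvImage.wf (fun w : PrimeSpectrum (X.presheaf.stalk x) => w.asIdeal.height)
      wellFounded_lt).induction (C := fun w => Good (g x w)) w ?_
    intro w ih
    by_cases hwU : g x w ∈ (U : Set X)
    · exact hUgood _ hwU
    set z := g x w with hz
    let S : Set (PrimeSpectrum (X.presheaf.stalk z)) := {v | v.asIdeal ≠ IsLocalRing.maximalIdeal _}
    have hS : IsConnected S := hlocal z hwU
    have hgoodS : ∀ v ∈ S, Good (g z v) := by
      intro v hv
      obtain ⟨w', hw'⟩ := grange x (g z v) ((gspec z v).trans (gspec x w))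
      have hle : w' ≤ w := (gle x w w').1 (hw' ▸ gspec z v)
      have hlt : w' < w := lt_of_le_of_ne hle fun e => gne z v hv (hw'.symm.trans (congrArg (g x) e))
      rw [← hw']
      exact ih w' (Ideal.height_strict_mono_of_isPrime hlt)
    intro η η' hη hη'
    obtain ⟨v, hv⟩ := grange z η hη
    obtain ⟨v', hv'⟩ := grange z η' hη'
    have hvS : ∀ v : PrimeSpectrum (X.presheaf.stalk z), g z v ∈ (U : Set X) → v ∈ S := fun v hvU e => by
      refine hwU ?_
      have : v = IsLocalRing.closedPoint _ := PrimeSpectrum.ext e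
      rw [this, show g z (IsLocalRing.closedPoint _) = z from Scheme.fromSpecStalk_closedPoint] at hvU
      exact hvU
    have hη2 : η.1 ∈ (U : Set X) := η.2
    have hη2' : η'.1 ∈ (U : Set X) := η'.2
    let mins := {p : Ideal (X.presheaf.stalk z) | p ∈ minimalPrimes _}
    let val : ∀ p ∈ mins, ConnectedComponents U := fun p hp => f (g z ⟨p, hp.1.1⟩)
    have hminS : ∀ (p) (hp : p ∈ mins) (u : PrimeSpectrum (X.presheaf.stalk z)), u ∈ S → p ≤ u.asIdeal →
        (⟨p, hp.1.1⟩ : PrimeSpectrum _) ∈ S ∧ val p hp = f (g z u) := by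
      intro p hp u hu hpu
      have hpS : (⟨p, hp.1.1⟩ : PrimeSpectrum _) ∈ S := fun e => hu
        (le_antisymm (IsLocalRing.le_maximalIdeal u.2.ne_top) (e ▸ hpu))
      refine ⟨hpS, ?_⟩
      exact hfeq (g z u) (hgoodS u hu) _ ((hgen _).trans ((gle z u ⟨p, hp.1.1⟩).2 hpu))
    let c := cc η
    let t : Set (PrimeSpectrum (X.presheaf.stalk z)) :=
      ⋃ p ∈ {p | ∃ hp : p ∈ mins, val p hp = c}, PrimeSpectrum.zeroLocus (p : Set _)
    let t' : Set (PrimeSpectrum (X.presheaf.stalk z)) :=
      ⋃ p ∈ {p | ∃ hp : p ∈ mins, val p hp ≠ c}, PrimeSpectrum.zeroLocus (p : Set _)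
    have hfin : mins.Finite := minimalPrimes.finite_of_isNoetherianRing _
    have ht : IsClosed t := (hfin.subset fun p hp => hp.1).isClosed_biUnion fun p _ => PrimeSpectrum.isClosed_zeroLocus _
    have ht' : IsClosed t' := (hfin.subset fun p hp => hp.1).isClosed_biUnion fun p _ => PrimeSpectrum.isClosed_zeroLocus _
    have hcover : ∀ u ∈ S, u ∈ t ∪ t' := by
      intro u hu
      obtain ⟨p, hp, hpu⟩ := Ideal.exists_minimalPrimes_le (I := (⊥ : Ideal (X.presheaf.stalk z))) (J := u.asIdeal) bot_le
      by_cases hval : val p hp = c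
      · exact Or.inl (Set.mem_biUnion (show p ∈ {p | ∃ hp : p ∈ mins, val p hp = c} from ⟨hp, hval⟩) hpu)
      · exact Or.inr (Set.mem_biUnion (show p ∈ {p | ∃ hp : p ∈ mins, val p hp ≠ c} from ⟨hp, hval⟩) hpu)
    have hval' : ∀ u ∈ S, (u ∈ t → f (g z u) = c) ∧ (u ∈ t' → f (g z u) ≠ c) := by
      intro u hu
      constructor
      · intro hut
        obtain ⟨p, ⟨hp, hval⟩, hpu⟩ := Set.mem_iUnion₂.1 hut
        exact (hminS p hp u hu hpu).2 ▸ hval
      · intro hut
        obtain ⟨p, ⟨hp, hval⟩, hpu⟩ := Set.mem_iUnion₂.1 hut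
        exact (hminS p hp u hu hpu).2 ▸ hval
    have hfv : f (g z v) = c := (hfeq (g z v) (hgoodS v (hvS v (hv ▸ hη2))) η (hv ▸ specializes_rfl)).symm
    by_contra hne
    have hfv' : f (g z v') ≠ c := fun e =>
      hne (e.symm.trans (hfeq (g z v') (hgoodS v' (hvS v' (hv' ▸ hη2'))) η' (hv' ▸ specializes_rfl)).symm)
    have hSv := hvS v (hv ▸ hη2)
    have hSv' := hvS v' (hv' ▸ hη2')
    obtain ⟨u, hu, hut, hut'⟩ := (isPreconnected_closed_iff.1 hS.isPreconnected) t t' ht ht' hcover
      ⟨v, hSv, (hcover v hSv).resolve_right fun h' => (hval' v hSv).2 h' hfv⟩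
      ⟨v', hSv', (hcover v' hSv').resolve_left fun h' => hfv' ((hval' v' hSv').1 h')⟩
    exact (hval' u hu).2 hut' ((hval' u hu).1 hut)
  -- `f` is locally constant
  have hlc : IsLocallyConstant f := by
    rw [IsLocallyConstant.iff_exists_open]
    intro z
    obtain ⟨V, hV, hzV, -⟩ := Opens.isBasis_iff_nbhd.1 X.isBasis_affineOpens (show z ∈ (⊤ : X.Opens) from trivial)
    haveI : IsNoetherianRing Γ(X, V) := IsLocallyNoetherian.component_noetherian ⟨V, hV⟩
    haveI : NoetherianSpace V := noetherianSpace_of_isAffineOpen V hV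
    let bad : Set V := ⋃ C ∈ {C ∈ irreducibleComponents V | (⟨z, hzV⟩ : V) ∉ C}, C
    have hbad : IsClosed bad :=
      ((NoetherianSpace.finite_irreducibleComponents (α := V)).subset fun C hC => hC.1).isClosed_biUnion
        fun C hC => isClosed_of_mem_irreducibleComponents C hC.1
    refine ⟨Subtype.val '' badᶜ, V.2.isOpenMap_subtype_val _ hbad.isOpen_compl, ⟨⟨z, hzV⟩, ?_, rfl⟩, ?_⟩
    · intro hz
      obtain ⟨C, hC, hzC⟩ := Set.mem_iUnion₂.1 hz
      exact hC.2 hzC
    · rintro _ ⟨w, hw, rfl⟩
      obtain ⟨C, hC, hwC⟩ : ∃ C ∈ irreducibleComponents V, w ∈ C :=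
        ⟨irreducibleComponent w, irreducibleComponent_mem_irreducibleComponents w, mem_irreducibleComponent⟩
      have hzC : (⟨z, hzV⟩ : V) ∈ C := by
        by_contra h'
        exact hw (Set.mem_biUnion (show C ∈ {C ∈ irreducibleComponents V | (⟨z, hzV⟩ : V) ∉ C} from ⟨hC, h'⟩) hwC)
      have hirr : IsIrreducible (Subtype.val '' C) := hC.1.image _ continuous_subtype_val.continuousOn
      let ξ := hirr.genericPoint
      have hξ : ∀ y ∈ C, ξ ⤳ Subtype.val y := fun y hy =>
        hirr.isGenericPoint_genericPoint_closure.specializes (subset_closure ⟨y, hy, rfl⟩)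
      exact (hfeq _ (hgood _) (gen ξ) ((hgen ξ).trans (hξ w hwC))).symm.trans
        (hfeq z (hgood z) (gen ξ) ((hgen ξ).trans (hξ _ hzC)))
  refine ⟨fun a b hab => ?_, fun b => ?_⟩
  · obtain ⟨a, rfl⟩ := ConnectedComponents.surjective_coe a
    obtain ⟨b, rfl⟩ := ConnectedComponents.surjective_coe b
    have h1 : (ConnectedComponents.mk (a : X)) = ConnectedComponents.mk (b : X) := hab
    have h2 : f a = f b := hlc.apply_eq_of_isPreconnected isPreconnected_connectedComponent
      (ConnectedComponents.coe_eq_coe'.1 h1) mem_connectedComponent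
    rw [← hfeq a (hgood a) a specializes_rfl, ← hfeq b (hgood b) b specializes_rfl] at h2
    exact h2
  · obtain ⟨z, rfl⟩ := ConnectedComponents.surjective_coe b
    refine ⟨cc (gen z), ?_⟩
    show ConnectedComponents.mk ((gen z : U) : X) = ConnectedComponents.mk z
    symm
    exact ConnectedComponents.coe_eq_coe'.2 ((hgen z).mem_closed isClosed_connectedComponent mem_connectedComponent)

end Groth.Agent.S5153
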