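import Groth.Statements.S5157
import Groth.Agent.MatlisDual.Completion
import Groth.Agent.S11662
-- import your own Groth.Agent.* helpers here

set_option autoImplicit false
universe u
open Matlis

namespace Groth.Agent.S5157

/-- Let A be a Noetherian local ring, a an ideal with A/a local (i.e. a ≠ A) and E an injective hull of
the residue field of A. Then the annihilator of a in E, E[a] = {e | a e = 0}, is an injective hull
of the residue field of A/a over A/a. -/
theorem result (A : Type u) [CommRing A] [IsLocalRing A] [IsNoetherianRing A] (a : Ideal A) [IsLocalRing (A ⧸ a)] (E : Type u) [AddCommGroup E] [Module A E] (f : IsLocalRing.ResidueField A →ₗ[A] E) (hf : InjHull.IsInjectiveHull f) : ∃ g : IsLocalRing.ResidueField (A ⧸ a) →ₗ[A ⧸ a] (LocCoh.torsionBy a E), InjHull.IsInjectiveHull g := by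
  have hsurj : Function.Surjective (Ideal.Quotient.mk a) := Ideal.Quotient.mk_surjective
  have : IsLocalHom (Ideal.Quotient.mk a) := IsLocalHom.of_surjective _ hsurj
  let φ := IsLocalRing.ResidueField.map (Ideal.Quotient.mk a)
  have hφ : Function.Bijective φ := ⟨φ.injective, fun z => by
    obtain ⟨z, rfl⟩ := IsLocalRing.residue_surjective z
    obtain ⟨r, rfl⟩ := hsurj z
    exact ⟨IsLocalRing.residue A r, IsLocalRing.ResidueField.map_residue _ _⟩⟩
  let e : IsLocalRing.ResidueField A ≃ₗ[A] IsLocalRing.ResidueField (A ⧸ a) :=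
    LinearEquiv.ofBijective
      { toFun := φ, map_add' := map_add φ, map_smul' := fun r z => by
          rw [RingHom.id_apply, Algebra.smul_def, Algebra.smul_def, map_mul]
          rfl } hφ
  obtain ⟨g, hg, -⟩ := S11662.result A a (IsLocalRing.ResidueField (A ⧸ a)) E
    (f ∘ₗ e.symm.toLinearMap)
    ⟨InjHullBasic.isEssentialInj_comp (InjHullBasic.isEssentialInj_linearEquiv e.symm)
      hf.toIsEssentialInj, hf.isInjective⟩
  exact ⟨g, hg⟩

end Groth.Agent.S5157
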