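import Groth.Statements.S5158
import Groth.Agent.MatlisDual.Completion
-- import your own Groth.Agent.* helpers here

set_option autoImplicit false
universe u
open scoped TensorProduct
open Matlis

namespace Groth.Agent.S5158

/-- Let A be a Noetherian local ring, Â its m-adic completion and I an m-power torsion A-module (a union
of submodules of finite length). Then x ↦ 1 ⊗ x is a bijection I → Â ⊗_A I. -/
theorem result (A : Type u) [CommRing A] [IsLocalRing A] [IsNoetherianRing A] (I : Type u) [AddCommGroup I] [Module A I] (hI : LocCoh.IsPowerTorsion (IsLocalRing.maximalIdeal A) I) : Function.Bijective (TensorProduct.mk A (AdicCompletion (IsLocalRing.maximalIdeal A) A) I 1) := by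
  obtain ⟨Θ, hΘ⟩ := MatlisDual.exists_completion_action hI
  let L : TensorProduct A (AdicCompletion (IsLocalRing.maximalIdeal A) A) I →ₗ[A] I :=
    TensorProduct.lift Θ.toLinearMap
  refine ⟨Function.LeftInverse.injective (g := L) fun e => ?_, fun z => ?_⟩
  · change Θ 1 e = e
    rw [map_one]
    rfl
  induction z using TensorProduct.induction_on with
  | zero => exact ⟨0, map_zero _⟩
  | add x y hx hy =>
    obtain ⟨u, rfl⟩ := hx
    obtain ⟨v, rfl⟩ := hy
    exact ⟨u + v, map_add _ _ _⟩
  | tmul x e =>
    obtain ⟨n, hn⟩ := hI e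
    obtain ⟨r, hr⟩ := Submodule.mkQ_surjective _ (AdicCompletion.eval (IsLocalRing.maximalIdeal A) A n x)
    have hmem : x - AdicCompletion.of (IsLocalRing.maximalIdeal A) A r ∈
        IsLocalRing.maximalIdeal A ^ n • (⊤ : Submodule A (AdicCompletion (IsLocalRing.maximalIdeal A) A)) := by
      rw [AdicCompletion.pow_smul_top_eq_ker_eval (IsLocalRing.maximalIdeal A).fg_of_isNoetherianRing,
        LinearMap.mem_ker, map_sub, AdicCompletion.eval_of, ← hr, sub_self]
    refine ⟨r • e, ?_⟩
    have h0 : ∀ y ∈ IsLocalRing.maximalIdeal A ^ n •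
        (⊤ : Submodule A (AdicCompletion (IsLocalRing.maximalIdeal A) A)), y ⊗ₜ[A] e = 0 := by
      intro y hy
      induction hy using Submodule.smul_induction_on' with
      | smul c hc w _ => rw [TensorProduct.smul_tmul, hn c hc, TensorProduct.tmul_zero]
      | add u _ v _ hu hv => rw [TensorProduct.add_tmul, hu, hv, add_zero]
    have h1 := h0 _ hmem
    rw [TensorProduct.sub_tmul, sub_eq_zero] at h1
    rw [h1, TensorProduct.mk_apply, ← TensorProduct.smul_tmul]
    congr 1
    change r • (1 : AdicCompletion (IsLocalRing.maximalIdeal A) A) = _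
    rw [Algebra.smul_def, mul_one]
    rfl

end Groth.Agent.S5158
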