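import Groth.Statements.S5161
import Groth.Agent.LocCohConn.AffineCompl
-- import your own Groth.Agent.* helpers here

set_option autoImplicit false
universe u
open AlgebraicGeometry
open LocCoh

namespace Groth.Agent.S5161

/-- Let A be a Noetherian ring, X = Spec A and Y ⊆ X a closed subset whose complement U is an affine
open. Then every irreducible component of Y has codimension ≤ 1 in X, i.e. the generic point of each
irreducible component of Y is a prime of height at most 1. -/
theorem result (A : Type u) [CommRing A] [IsNoetherianRing A] (U : (Spec (CommRingCat.of A)).Opens) (hU : IsAffineOpen U) (p : PrimeSpectrum A) (hpU : (p : (Spec (CommRingCat.of A) : Type u)) ∉ (U : Set (Spec (CommRingCat.of A) : Type u))) (hmin : ∀ q : PrimeSpectrum A, q.asIdeal ≤ p.asIdeal → (q : (Spec (CommRingCat.of A) : Type u)) ∉ (U : Set (Spec (CommRingCat.of A) : Type u)) → q = p) : p.asIdeal.height ≤ 1 := by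
  let L := Localization.AtPrime p.asIdeal
  let φ := Spec.map (CommRingCat.ofHom (algebraMap A L))
  obtain ⟨d, hd⟩ := ENat.ne_top_iff_exists.1 (Ideal.height_ne_top_of_isPrime (I := p.asIdeal))
  have : IsNoetherianRing L := IsLocalization.isNoetherianRing p.asIdeal.primeCompl L inferInstance
  have hh : ringKrullDim L = d := by
    rw [IsLocalization.AtPrime.ringKrullDim_eq_height p.asIdeal L, ← hd]; rfl
  have hmem : ∀ x : PrimeSpectrum L, (x : (Spec (CommRingCat.of L) : Type u)) ∈ φ ⁻¹ᵁ U ↔ x.asIdeal ≠ IsLocalRing.maximalIdeal L := by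
    intro x
    have hx : x.asIdeal.comap (algebraMap A L) ≤ p.asIdeal :=
      (Ideal.comap_mono (IsLocalRing.le_maximalIdeal x.2.ne_top)).trans
        (IsLocalization.AtPrime.under_maximalIdeal L p.asIdeal).le
    have h2 : (x : (Spec (CommRingCat.of L) : Type u)) ∈ φ ⁻¹ᵁ U ↔
        ((PrimeSpectrum.comap (algebraMap A L) x : PrimeSpectrum A) : (Spec (CommRingCat.of A) : Type u)) ∈
          (U : Set (Spec (CommRingCat.of A) : Type u)) := Iff.rfl
    rw [h2]
    constructor
    · intro hU' heq
      refine hpU ?_
      convert hU' using 1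
      exact PrimeSpectrum.ext ((IsLocalization.AtPrime.under_maximalIdeal L p.asIdeal).symm.trans (by rw [Ideal.under, ← heq]; rfl))
    · intro hne
      by_contra hnot
      have := hmin (PrimeSpectrum.comap (algebraMap A L) x) hx hnot
      refine hne ((IsLocalization.orderEmbedding p.asIdeal.primeCompl L).injective ?_)
      exact (congrArg PrimeSpectrum.asIdeal this).trans (IsLocalization.AtPrime.under_maximalIdeal L p.asIdeal).symm
  rw [← hd]
  exact_mod_cast LocCohConn.ringKrullDim_le_one_of_isAffineOpen L (φ ⁻¹ᵁ U) (hU.preimage φ) hmem d hh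

end Groth.Agent.S5161
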