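import Groth.Statements.S5162
import Groth.Agent.LocCohBasic.ExtVanish
-- import your own Groth.Agent.* helpers here

set_option autoImplicit false
universe u
open CategoryTheory
open LocCoh

namespace Groth.Agent.S5162

/-- The affine case. Let A be a Noetherian ring, J an ideal, G any A-module and n ≥ 0. Then: H^i_J(G) =
0 for all i < n iff Ext^i_A(F, G) = 0 for all i < n and all finite A-modules F with Supp F ⊆ V(J),
iff Ext^i_A(F, G) = 0 for all i < n for one finite F with Supp F = V(J). (G is not assumed finitely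
generated.) -/
theorem result (A : Type u) [CommRing A] [IsNoetherianRing A] (J : Ideal A) (G : Type u) [AddCommGroup G] [Module A G] (n : ℕ) : ((∀ i : ℕ, i < n → Subsingleton (LocCoh.H J i G)) ↔ ∀ (F : Type u) [AddCommGroup F] [Module A F], Module.Finite A F → Module.support A F ⊆ PrimeSpectrum.zeroLocus (J : Set A) → ∀ i : ℕ, i < n → Subsingleton (Abelian.Ext (ModuleCat.of A F) (ModuleCat.of A G) i)) ∧ ((∀ i : ℕ, i < n → Subsingleton (LocCoh.H J i G)) ↔ ∃ (F : Type u) (_ : AddCommGroup F) (_ : Module A F), Module.Finite A F ∧ Module.support A F = PrimeSpectrum.zeroLocus (J : Set A) ∧ ∀ i : ℕ, i < n → Subsingleton (Abelian.Ext (ModuleCat.of A F) (ModuleCat.of A G) i)) := by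
  constructor
  · refine ⟨fun h F _ _ _ hF i hi => LocCohBasic.subsingleton_ext_of_forall J n (ModuleCat.of A G) h F hF i hi, fun h => ?_⟩
    refine LocCohBasic.subsingleton_of_exists_ext J n (ModuleCat.of A G) (A ⧸ J) ?_ (h (A ⧸ J) inferInstance ?_)
    · rw [Module.support_eq_zeroLocus, Ideal.annihilator_quotient]
    · rw [Module.support_eq_zeroLocus, Ideal.annihilator_quotient]
  · refine ⟨fun h => ⟨A ⧸ J, inferInstance, inferInstance, inferInstance, ?_, ?_⟩, ?_⟩
    · rw [Module.support_eq_zeroLocus, Ideal.annihilator_quotient]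
    · refine LocCohBasic.subsingleton_ext_of_forall J n (ModuleCat.of A G) h (A ⧸ J) ?_
      rw [Module.support_eq_zeroLocus, Ideal.annihilator_quotient]
    · rintro ⟨F, _, _, hfin, hF, hext⟩
      exact LocCohBasic.subsingleton_of_exists_ext J n (ModuleCat.of A G) F hF hext

end Groth.Agent.S5162
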