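import Groth.Statements.S5165
import Groth.Agent.PdLocus.Basic
-- import your own Groth.Agent.* helpers here

set_option autoImplicit false
universe u
open CategoryTheory
open LocCoh

namespace Groth.Agent.S5165

/-- Suppose A is a regular Noetherian ring and consider a finitely generated A-module M. Then some
natural number d bounds the projective dimension of M (equivalently, p ↦ proj.dim M_p stays bounded
as p ranges over Spec A, and this holds even if the Krull dimension of A is infinite). -/
theorem result (A : Type u) [CommRing A] [IsRegularRing A] (M : Type u) [AddCommGroup M] [Module A M] [Module.Finite A M] : ∃ d : ℕ, HasProjectiveDimensionLE (ModuleCat.of A M) d := by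
  obtain ⟨N, hN⟩ := PdLocus.exists_forall_locus (R := A) M fun p => by
    obtain ⟨d, hd⟩ := CAlgReg.exists_dim (R := Localization.AtPrime p.asIdeal)
    exact ⟨d, CAlgReg.pdLT_of_isRegularLocalRing hd _⟩
  exact ⟨N, PdLocus.hasProjectiveDimensionLE_of_locus N M hN⟩

end Groth.Agent.S5165
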