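import Groth.Statements.S5166
import Mathlib.RingTheory.Ideal.KrullsHeightTheorem
-- import your own Groth.Agent.* helpers here

set_option autoImplicit false
universe u
open LocCoh

namespace Groth.Agent.S5166

/-- In its local form at a point y ∈ Y (A = O_{X,y}). Let A be a Noetherian local ring and I ≠ A an
ideal contained in no minimal prime of A. Then some prime p ⊉ I has dim A/p = 1. -/
theorem result (A : Type u) [CommRing A] [IsLocalRing A] [IsNoetherianRing A] (I : Ideal A) (hI : I ≠ ⊤) (hdense : ∀ q ∈ minimalPrimes A, ¬ I ≤ q) : ∃ p : PrimeSpectrum A, ¬ I ≤ p.asIdeal ∧ ringKrullDim (A ⧸ p.asIdeal) = 1 := by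
  obtain ⟨q, hq⟩ := (inferInstance : Nonempty (PrimeSpectrum A))
  obtain ⟨q₀, hq₀, -⟩ := Ideal.exists_minimalPrimes_le (I := ⊥) (J := q) bot_le
  obtain ⟨P, ⟨hPprime, hPI⟩, hmax⟩ := set_has_maximal_iff_noetherian.2 (inferInstance : IsNoetherianRing A)
    {p : Ideal A | p.IsPrime ∧ ¬ I ≤ p} ⟨q₀, hq₀.1.1, hdense q₀ hq₀⟩
  refine ⟨⟨P, hPprime⟩, hPI, ?_⟩
  show ringKrullDim (A ⧸ P) = 1
  change Ideal A at P
  obtain ⟨a, haI, haP⟩ := SetLike.not_le_iff_exists.1 hPI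
  have hnm : ¬ P.IsMaximal := fun h => hPI (by
    rw [IsLocalRing.eq_maximalIdeal h]; exact IsLocalRing.le_maximalIdeal hI)
  let x : A ⧸ P := Ideal.Quotient.mk P a
  have hx0 : x ≠ 0 := fun h => haP (Ideal.Quotient.eq_zero_iff_mem.1 h)
  have hall : ∀ Q : Ideal (A ⧸ P), Q.IsPrime → Q ≠ ⊥ → x ∈ Q := fun Q hQ hne => by
    by_contra hx
    refine hmax (Q.comap (Ideal.Quotient.mk P)) ⟨inferInstance, fun hle => hx (hle haI)⟩ ?_
    refine lt_of_le_of_ne (fun y hy => ?_) fun e => hne ?_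
    · simp [Ideal.mem_comap, Ideal.Quotient.eq_zero_iff_mem.2 hy]
    · rw [← Ideal.map_comap_of_surjective _ Ideal.Quotient.mk_surjective Q, ← e, Ideal.map_quotient_self]
  have : IsLocalRing (A ⧸ P) := IsLocalRing.of_surjective' _ Ideal.Quotient.mk_surjective
  have hxm : x ∈ IsLocalRing.maximalIdeal (A ⧸ P) := fun hu => by
    obtain ⟨Q, hQ⟩ := Ideal.exists_maximal (A ⧸ P)
    rcases eq_or_ne Q ⊥ with rfl | hne
    · exact hnm ((Ideal.Quotient.maximal_ideal_iff_isField_quotient P).2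
        (Ring.isField_iff_maximal_bot.2 hQ))
    · exact hQ.ne_top (Ideal.eq_top_of_isUnit_mem _ (hall Q hQ.isPrime hne) hu)
  have hm0 : IsLocalRing.maximalIdeal (A ⧸ P) ≠ ⊥ := fun h => hx0 (by
    rw [h, Ideal.mem_bot] at hxm; exact hxm)
  have hh1 : (IsLocalRing.maximalIdeal (A ⧸ P)).height ≤ 1 := by
    by_contra hlt
    push Not at hlt
    let T := (Ideal.span {x}).minimalPrimes
    have hT : ∀ Q ∈ T, Q.height ≤ 1 := fun Q hQ =>
      Ideal.height_le_one_of_isPrincipal_of_mem_minimalPrimes _ Q hQ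
    obtain ⟨b, hbm, hb⟩ : ∃ b ∈ IsLocalRing.maximalIdeal (A ⧸ P), ∀ Q ∈ T, b ∉ Q := by
      by_contra hc
      push Not at hc
      have hsub : (IsLocalRing.maximalIdeal (A ⧸ P) : Set (A ⧸ P)) ⊆ ⋃ Q ∈ T, (Q : Set (A ⧸ P)) := fun y hy => by
        obtain ⟨Q, hQ, hyQ⟩ := hc y hy
        exact Set.mem_biUnion hQ hyQ
      obtain ⟨Q, hQ, hle⟩ := (Ideal.subset_union_prime_finite (Ideal.finite_minimalPrimes_of_isNoetherianRing _ _)
        ⊥ ⊥ (fun Q hQ _ _ => hQ.1.1)).1 hsub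
      have : Q = IsLocalRing.maximalIdeal _ := le_antisymm (IsLocalRing.le_maximalIdeal hQ.1.1.ne_top) hle
      exact not_lt.2 (hT Q hQ) (this ▸ hlt)
    obtain ⟨Q, hQ, hQm⟩ := Ideal.exists_minimalPrimes_le (I := Ideal.span {b})
      ((Ideal.span_singleton_le_iff_mem _).2 hbm)
    have hb0 : b ≠ 0 := by
      rintro rfl
      obtain ⟨Q', hQ', -⟩ := Ideal.exists_minimalPrimes_le (I := Ideal.span {x}) ((Ideal.span_singleton_le_iff_mem _).2 hxm)
      exact hb Q' hQ' Q'.zero_mem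
    have : Q.IsPrime := hQ.1.1
    have hbQ : b ∈ Q := hQ.1.2 (Ideal.mem_span_singleton_self b)
    have hxQ := hall Q hQ.1.1 (fun h => hb0 (by rw [h, Ideal.mem_bot] at hbQ; exact hbQ))
    obtain ⟨Q', hQ', hle⟩ := Ideal.exists_minimalPrimes_le (I := Ideal.span {x}) ((Ideal.span_singleton_le_iff_mem _).2 hxQ)
    have : Q'.IsPrime := hQ'.1.1
    have hne : Q' ≠ ⊥ := fun h => hx0 (by
      have := hQ'.1.2 (Ideal.mem_span_singleton_self x); rw [h, Ideal.mem_bot] at this; exact this)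
    have hlt' : Q' < Q := lt_of_le_of_ne hle fun e => hb Q' hQ' (e ▸ hbQ)
    have h1 := Ideal.height_add_one_le_of_lt_of_isPrime hlt'
    have h2 : Q.height ≤ 1 := Ideal.height_le_one_of_isPrincipal_of_mem_minimalPrimes _ Q hQ
    have h3 : Q'.height ≠ 0 := fun h => hne (Ideal.height_eq_zero_iff_eq_bot.1 h)
    have h4 : (1 : ℕ∞) + 1 ≤ 1 := ((add_le_add (Order.one_le_iff_pos.2 (pos_iff_ne_zero.2 h3)) le_rfl).trans h1).trans h2
    exact absurd h4 (by decide)
  rw [← IsLocalRing.maximalIdeal_height_eq_ringKrullDim]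
  have : (IsLocalRing.maximalIdeal (A ⧸ P)).height = 1 := le_antisymm hh1
    (Order.one_le_iff_pos.2 (pos_iff_ne_zero.2 fun h => hm0 (Ideal.height_eq_zero_iff_eq_bot.1 h)))
  rw [this]; rfl

end Groth.Agent.S5166
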