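import Groth.Statements.S5167
import Groth.Agent.LocDuality.FiniteBelow
import Groth.Agent.LocCohBasic.Artinian
import Groth.Agent.S0564
-- import your own Groth.Agent.* helpers here

set_option autoImplicit false
universe u
open LocCoh

namespace Groth.Agent.S5167

/-- Let A be a Noetherian local ring which is a quotient of a regular local ring, m its maximal ideal, M
a finite A-module and n ≥ 0. Then H^i_m(M) is of finite length for all i ≤ n if and only if
depth(M_p) > n − dim(A/p) for every prime p ≠ m. -/
theorem result (R : Type u) [CommRing R] [IsRegularLocalRing R] (A : Type u) [CommRing A] [IsLocalRing A] [IsNoetherianRing A] (π : R →+* A) (hπ : Function.Surjective π) (M : Type u) [AddCommGroup M] [Module A M] [Module.Finite A M] (n : ℕ) : (∀ i : ℕ, i ≤ n → IsFiniteLength A (LocCoh.H (IsLocalRing.maximalIdeal A) i M)) ↔ ∀ p : PrimeSpectrum A, p.asIdeal ≠ IsLocalRing.maximalIdeal A → ∀ e : ℕ, ringKrullDim (A ⧸ p.asIdeal) = e → (n : ℕ∞) < LocCoh.depth (Localization.AtPrime p.asIdeal) (LocalizedModule p.asIdeal.primeCompl M) + e := by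
  let : Algebra R A := π.toAlgebra
  have : IsRegularRing R := isRegularRing_iff.mpr fun p _ => S0564.result (R := R) p
  have hfl : ∀ i, IsFiniteLength A (LocCoh.H (IsLocalRing.maximalIdeal A) i M) ↔
      Module.Finite A (LocCoh.H (IsLocalRing.maximalIdeal A) i M) := fun i => by
    rw [isFiniteLength_iff_isNoetherian_isArtinian]
    exact ⟨fun h => have := h.1; inferInstance,
      fun h => ⟨inferInstance, Groth.Agent.LocCohBasic.isArtinian_localCohomology i (ModuleCat.of A M)⟩⟩
  simp only [hfl]
  rw [Groth.Agent.LocDuality.forall_finite_iff_depth_add_relCodim (R := R) hπ]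
  have key : ∀ p : PrimeSpectrum A, (SGA2.relCodim (IsLocalRing.maximalIdeal A) p : WithBot ℕ∞) = ringKrullDim (A ⧸ p.asIdeal) := by
    intro p
    have hp : p.asIdeal ≤ IsLocalRing.maximalIdeal A := IsLocalRing.le_maximalIdeal p.2.ne_top
    have : IsLocalRing (A ⧸ p.asIdeal) := IsLocalRing.of_surjective' (Ideal.Quotient.mk p.asIdeal) Ideal.Quotient.mk_surjective
    rw [← Groth.Agent.LocDuality.height_sup_eq_relCodim, sup_eq_left.mpr hp,
      IsLocalRing.map_maximalIdeal_of_surjective _ Ideal.Quotient.mk_surjective,
      IsLocalRing.maximalIdeal_height_eq_ringKrullDim]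
  constructor
  · intro h p hp e he
    have := h p fun hle => hp ((IsLocalRing.maximalIdeal.isMaximal A).eq_of_le p.2.ne_top hle).symm
    rwa [show SGA2.relCodim (IsLocalRing.maximalIdeal A) p = (e : ℕ∞) from WithBot.coe_inj.mp ((key p).trans he)] at this
  · intro h p hp
    have hne : p.asIdeal ≠ IsLocalRing.maximalIdeal A := fun he => hp he.ge
    have h0 := h p hne
    generalize hc : SGA2.relCodim (IsLocalRing.maximalIdeal A) p = c
    cases c using ENat.recTopCoe with
    | top => rw [add_top]; exact ENat.natCast_lt_top n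
    | coe e =>
      refine h0 e ?_
      rw [← key, hc]
      rfl

end Groth.Agent.S5167
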