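import Groth.Statements.S5168
import Groth.Agent.InjHullBasic.Noetherian
-- import your own Groth.Agent.* helpers here

set_option autoImplicit false
universe u
open InjHull

namespace Groth.Agent.S5168

/-- Let A be a Noetherian ring, J an ideal and H a J-power torsion A-module. Then H is injective if and
only if Hom_A(−, H) is exact on finite A-modules killed by a power of J, i.e. every linear map to H
from a submodule of such a module M extends to M. -/
theorem result (A : Type u) [CommRing A] [IsNoetherianRing A] (J : Ideal A) (H : Type u) [AddCommGroup H] [Module A H] (hH : LocCoh.IsPowerTorsion J H) : Module.Injective A H ↔ ∀ (M : Type u) [AddCommGroup M] [Module A M], Module.Finite A M → (∃ k : ℕ, (J ^ k) • (⊤ : Submodule A M) = ⊥) → ∀ (N : Submodule A M) (g : N →ₗ[A] H), ∃ g' : M →ₗ[A] H, g'.comp N.subtype = g := by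
  refine ⟨fun h M _ _ _ _ N g => ?_, fun h => InjHullBasic.injective_of_torsion_extends hH
    fun k N g => h (A ⧸ J ^ k) inferInstance ⟨k, ?_⟩ N g⟩
  · exact Module.Injective.extension_property A H N M N.subtype N.subtype_injective g
  · rw [eq_bot_iff, Submodule.smul_le]
    intro r hr y _
    obtain ⟨y, rfl⟩ := Submodule.mkQ_surjective (J ^ k) y
    rw [Submodule.mem_bot, ← map_smul]
    exact (Submodule.Quotient.mk_eq_zero (J ^ k)).mpr (Ideal.mul_mem_right y _ hr)

end Groth.Agent.S5168
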