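import Groth.Statements.S5171
import Groth.Agent.LocCohBasic.Depth
-- import your own Groth.Agent.* helpers here

set_option autoImplicit false
universe u
open LocCoh

namespace Groth.Agent.S5171

/-- Let A be a Noetherian ring, J an ideal, n ≥ 0 and G a finite Cohen–Macaulay A-module (each
localization G_p is zero or Cohen–Macaulay). Then H^i_J(G) = 0 for i < n if and only if codim(V(J) ∩
Supp G, Supp G) ≥ n, i.e. dim Supp(G_p) ≥ n for every p ∈ V(J) ∩ Supp G. -/
theorem result (A : Type u) [CommRing A] [IsNoetherianRing A] (J : Ideal A) (G : Type u) [AddCommGroup G] [Module A G] [Module.Finite A G] (hCM : ∀ p : PrimeSpectrum A, Subsingleton (LocalizedModule p.asIdeal.primeCompl G) ∨ LocCoh.IsCohenMacaulayModule (Localization.AtPrime p.asIdeal) (LocalizedModule p.asIdeal.primeCompl G)) (n : ℕ) : (∀ i : ℕ, i < n → Subsingleton (LocCoh.H J i G)) ↔ ∀ p : PrimeSpectrum A, J ≤ p.asIdeal → p ∈ Module.support A G → (n : WithBot ℕ∞) ≤ Module.supportDim (Localization.AtPrime p.asIdeal) (LocalizedModule p.asIdeal.primeCompl G) := by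
  rw [← LocCohBasic.le_idealDepth_iff_subsingleton J (ModuleCat.of A G),
    Depth.idealDepth_eq_iInf, le_iInf₂_iff]
  refine forall₂_congr fun p hp => ?_
  by_cases hs : p ∈ Module.support A G
  · rcases hCM p with h | h
    · exact absurd h (not_subsingleton_iff_nontrivial.mpr (Module.mem_support_iff.mp hs))
    · rw [LocCoh.IsCohenMacaulayModule] at h
      rw [h]
      exact ⟨fun hn _ => WithBot.coe_le_coe.mpr hn, fun hn => WithBot.coe_le_coe.mp (hn hs)⟩
  · refine ⟨fun _ h' => absurd h' hs, fun _ => ?_⟩
    have := Module.notMem_support_iff.mp hs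
    rw [LocCoh.depth, Depth.idealDepth_eq_top (Subsingleton.elim _ _)]
    exact le_top

end Groth.Agent.S5171
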