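import Groth.Statements.S5174
import Groth.Agent.LocDuality.LeftExact
import Groth.Agent.LocCohBasic.ExtComparison
-- import your own Groth.Agent.* helpers here

set_option autoImplicit false
universe u
open CategoryTheory Opposite
open LocCoh

namespace Groth.Agent.S5174

/-- Affine case with Z = X. Let A be a Noetherian ring, J an ideal, G any A-module and n ≥ 0 with
Ext^{n−1}_A(F', G) = 0 for all finite F' supported in V(J). Then for every finite A-module F with
Supp F ⊆ V(J) there is an A-linear isomorphism Ext^n_A(F, G) ≅ Hom_A(F, H^n_J(G)). (Existence of the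
isomorphism is asserted; in the source it is the canonical one expressing that Ext^n_A(−, G), left
exact on such F, is represented by H^n_J(G).) -/
theorem result (A : Type u) [CommRing A] [IsNoetherianRing A] (J : Ideal A) (G : Type u) [AddCommGroup G] [Module A G] (n : ℕ) (hvan : ∀ (F' : Type u) [AddCommGroup F'] [Module A F'], Module.Finite A F' → Module.support A F' ⊆ PrimeSpectrum.zeroLocus (J : Set A) → ∀ i : ℕ, i + 1 = n → Subsingleton (((Ext A (ModuleCat.{u} A) i).obj (op (ModuleCat.of A F'))).obj (ModuleCat.of A G))) (F : Type u) [AddCommGroup F] [Module A F] [Module.Finite A F] (hF : Module.support A F ⊆ PrimeSpectrum.zeroLocus (J : Set A)) : Nonempty ((((Ext A (ModuleCat.{u} A) n).obj (op (ModuleCat.of A F))).obj (ModuleCat.of A G)) ≃ₗ[A] (F →ₗ[A] LocCoh.H J n G)) := by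

  let e : ∀ (X : ModuleCat.{u} A) (i : ℕ), (((Ext A (ModuleCat.{u} A) i).obj (op X)).obj (ModuleCat.of A G)) ≃ₗ[A]
      (Abelian.Ext X (ModuleCat.of A G) i) := fun X i =>
    (((Groth.Agent.LocCohBasic.extNatIso A (ModuleCat.{u} A) i).app (op X)).app (ModuleCat.of A G)).toLinearEquiv
  have hv : ∀ X : ModuleCat.{u} A, Groth.Agent.LocDuality.LeftExact.Tor J X → ∀ i, i + 1 = n →
      Subsingleton (Abelian.Ext X (ModuleCat.of A G) i) := fun X hX i hi => by
    obtain ⟨hfin, k, hk⟩ := hX
    have hsupp : Module.support A X ⊆ PrimeSpectrum.zeroLocus (J : Set A) := by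
      intro p hp a ha
      by_contra hap
      obtain ⟨x, hx⟩ := Module.mem_support_iff'.mp hp
      exact hx (a ^ k) (fun h => hap (p.isPrime.mem_of_pow_mem k h)) (hk _ (Ideal.pow_mem_pow ha k) x)
    haveI := hvan X hfin hsupp i hi
    exact (e X i).symm.toEquiv.subsingleton
  obtain ⟨k, hk⟩ : ∃ k : ℕ, J ^ k ≤ Module.annihilator A F := by
    refine Ideal.exists_pow_le_of_le_radical_of_fg ?_ J.fg_of_isNoetherianRing
    rw [← PrimeSpectrum.zeroLocus_subset_zeroLocus_iff]
    rwa [← Module.support_eq_zeroLocus]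
  have hX : ∀ a ∈ J ^ k, ∀ x : ModuleCat.of A F, a • x = 0 := fun a ha x =>
    Module.mem_annihilator.mp (hk ha) x
  exact ⟨(e _ n).trans (LinearEquiv.ofBijective _
    (Groth.Agent.LocDuality.LeftExact.toHom_bijective J (ModuleCat.of A G) n hv (X := ModuleCat.of A F) hX))⟩

end Groth.Agent.S5174
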