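import Groth.Statements.S5178
import Groth.Agent.CIPres.Completion
import Groth.Agent.CAlgCompl.Local


set_option autoImplicit false
universe u
open CInt

namespace Groth.Agent.S5178

/-- Let A be a Noetherian local ring of dimension d, and let the completion of A be presented as B/I
with B a regular local ring of dimension e and I an ideal whose minimal number of generators is q,
so that e − q is the geometric depth of A (this number does not depend on the presentation). Then e
− q ≤ d, and equality holds if and only if A is a complete intersection, i.e. its completion is a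
regular local ring modulo an ideal generated by a regular sequence. -/
theorem result (A : Type u) [CommRing A] [IsLocalRing A] [IsNoetherianRing A] (B : Type u) [CommRing B] [IsRegularLocalRing B] (I : Ideal B) (hpres : Nonempty (AdicCompletion (IsLocalRing.maximalIdeal A) A ≃+* B ⧸ I)) (d e : ℕ) (hd : ringKrullDim A = (d : WithBot ℕ∞)) (he : ringKrullDim B = (e : WithBot ℕ∞)) : (e : ℤ) - (I.spanFinrank : ℤ) ≤ (d : ℤ) ∧ ((e : ℤ) - (I.spanFinrank : ℤ) = (d : ℤ) ↔ Pi1.IsCompleteIntersection A) := by
  obtain ⟨u⟩ := hpres
  let f : B →+* AdicCompletion (IsLocalRing.maximalIdeal A) A := u.symm.toRingHom.comp (Ideal.Quotient.mk I)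
  have hf : Function.Surjective f := u.symm.surjective.comp Ideal.Quotient.mk_surjective
  haveI : Nontrivial (B ⧸ I) := by
    haveI : Nontrivial (AdicCompletion (IsLocalRing.maximalIdeal A) A) :=
      ⟨0, 1, fun h => by
        have hdd := Groth.Agent.CAlgCompl.ringKrullDim_adicCompletion A
        haveI hs : Subsingleton (AdicCompletion (IsLocalRing.maximalIdeal A) A) := subsingleton_of_zero_eq_one h
        rw [ringKrullDim_eq_bot_of_subsingleton, hd] at hdd
        exact absurd hdd.symm (by simp)⟩
    exact u.symm.toEquiv.nontrivial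
  haveI : IsLocalRing (B ⧸ I) := IsLocalRing.of_surjective' _ Ideal.Quotient.mk_surjective
  haveI : IsLocalRing (AdicCompletion (IsLocalRing.maximalIdeal A) A) := u.symm.isLocalRing
  have hI : I ≠ ⊤ := Ideal.Quotient.nontrivial_iff.mp inferInstance
  have hker : RingHom.ker f = I := by
    rw [RingHom.ker_comp_of_injective _ u.symm.injective, Ideal.mk_ker]
  have hdim : ringKrullDim (B ⧸ I) = (d : WithBot ℕ∞) := by
    rw [← ringKrullDim_eq_of_ringEquiv u, Groth.Agent.CAlgCompl.ringKrullDim_adicCompletion A, hd]
  rw [Groth.Agent.CIPres.isCI_iff_of_surjective f hf, hker, Groth.Agent.CIPres.exists_regular_iff I hI, hdim, he]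
  have h1 := ringKrullDim_le_ringKrullDim_quotient_add_spanFinrank I
    ((IsLocalRing.le_maximalIdeal hI).trans_eq (IsLocalRing.ringJacobson_eq_maximalIdeal B).symm)
  rw [hdim, he] at h1
  have key : ((I.spanFinrank : WithBot ℕ∞) + (d : WithBot ℕ∞) ≤ (e : WithBot ℕ∞)) ↔ I.spanFinrank + d ≤ e := by
    norm_cast
  norm_cast at h1
  rw [key]
  omega

end Groth.Agent.S5178
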