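import Groth.Statements.S5186
import Groth.Agent.S0036
import Groth.Agent.CompDerived.CohComp

set_option autoImplicit false
universe u
open CategoryTheory AlgebraicGeometry
open Coherent

namespace Groth.Agent.S5186

/-- Let f : X → S be a proper morphism of schemes with S locally Noetherian, U an open subset of X with
inclusion g : U → X, h = f ∘ g : U → S, F an O_U-module and n ≥ 0. If the higher direct images R^i
g_*(F) are coherent O_X-modules for all i ≤ n, then the higher direct images R^i h_*(F) are coherent
O_S-modules for all i ≤ n. (The existence of injective resolutions in the module categories is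
carried as instance arguments.) -/
theorem result {X S : Scheme.{u}} (f : X ⟶ S) [IsProper f] [IsLocallyNoetherian S] (U : X.Opens) [HasInjectiveResolutions (U : Scheme.{u}).Modules] [HasInjectiveResolutions X.Modules] (F : (U : Scheme.{u}).Modules) (n : ℕ) (hg : ∀ i : ℕ, i ≤ n → Coh.IsCoh ((Coh.Rpush U.ι i).obj F)) (i : ℕ) (hi : i ≤ n) : Coh.IsCoh ((Coh.Rpush (U.ι ≫ f) i).obj F) := by
  haveI : IsLocallyNoetherian X := LocallyOfFiniteType.isLocallyNoetherian f
  let g := U.ι
  let I := injectiveResolution F
  let K := ((Scheme.Modules.pushforward g).mapHomologicalComplex (ComplexShape.up ℕ)).obj I.cocomplex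
  haveI : (Scheme.Modules.restrictFunctor g).PreservesMonomorphisms := by infer_instance
  have hK : ∀ j k, Limits.IsZero (((Scheme.Modules.pushforward f).rightDerived (k + 1)).obj (K.X j)) := fun j k => by
    haveI : Injective (K.X j) :=
      (Scheme.Modules.restrictAdjunction g).map_injective _ (I.injective j)
    exact Functor.isZero_rightDerived_obj_injective_succ _ k _
  haveI : HasInjectiveResolutions S.Modules := inferInstance
  have h := Groth.Agent.CompDerived.isCoh_homology_map (Scheme.Modules.pushforward f) K hK i (fun j hj p =>
    Groth.Agent.S0036.result f _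
      (Groth.Agent.CompDerived.isCoh_of_iso' (I.isoRightDerivedObj (Scheme.Modules.pushforward g) j)
        (hg j (le_trans hj hi))) p)
  refine Groth.Agent.CompDerived.isCoh_of_iso' ?_ h
  exact (HomologicalComplex.homologyFunctor _ _ i).mapIso
    ((NatIso.mapHomologicalComplex (Scheme.Modules.pushforwardComp g f) (ComplexShape.up ℕ)).app I.cocomplex)
      ≪≫ (I.isoRightDerivedObj (Scheme.Modules.pushforward (g ≫ f)) i).symm

end Groth.Agent.S5186
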