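import Groth.Statements.S5209
import Groth.Agent.DescCatLib.UEpi

set_option autoImplicit false
set_option backward.isDefEq.respectTransparency false
set_option backward.defeqAttrib.useBackward true
open CategoryTheory CategoryTheory.Limits
universe w v₁ u₁
open DescCat

namespace Groth.Agent.S5209

/-- In a category with pullbacks, let `f : S' ⟶ S` be a universal effective epimorphism, that is, a
morphism all of whose base changes are effective epimorphisms. Then a morphism `g` over `S` is an
isomorphism (resp. a monomorphism) if and only if its base change along `f` is. -/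
theorem result {C : Type u₁} [Category.{v₁} C] [HasPullbacks C]
    {S' S : C} (f : S' ⟶ S) (hf : (MorphismProperty.universally (fun (A B : C) (p : A ⟶ B) => EffectiveEpi p)) f) {X Y : Over S} (g : X ⟶ Y) :
    (IsIso g ↔ IsIso ((Over.pullback f).map g)) ∧ (Mono g ↔ Mono ((Over.pullback f).map g)) := by
  have key : Mono ((Over.pullback f).map g) → Mono g := fun hm => by
    refine ⟨fun {Z} a b hab => ?_⟩
    ext
    have := DescCatLib.ue_epi_fst (DescCatLib.uee_le_ue hf) Z.hom
    rw [← cancel_epi (pullback.fst Z.hom f)]
    have h : (Over.pullback f).map a ≫ (Over.pullback f).map g = (Over.pullback f).map b ≫ (Over.pullback f).map g := by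
      rw [← Functor.map_comp, hab, Functor.map_comp]
    have h2 := congrArg (fun k => k.left ≫ pullback.fst X.hom f) ((cancel_mono _).1 h)
    simpa using h2
  refine ⟨⟨fun _ => inferInstance, fun h => ?_⟩, ⟨fun _ => ?_, key⟩⟩
  · have : Mono g := key inferInstance
    have h1 : DescCatLib.UEE (pullback.fst X.hom f) :=
      MorphismProperty.of_isPullback (IsPullback.of_hasPullback X.hom f).flip hf
    have h2 : DescCatLib.UEE (pullback.fst Y.hom f) :=
      MorphismProperty.of_isPullback (IsPullback.of_hasPullback Y.hom f).flip hf
    have h3 : pullback.fst X.hom f ≫ g.left = ((Over.pullback f).map g).left ≫ pullback.fst Y.hom f := by simp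
    have h4 : IsIso ((Over.pullback f).map g).left := (Over.forget S').map_isIso ((Over.pullback f).map g)
    have h5 : DescCatLib.UEE (pullback.fst X.hom f ≫ g.left) := by
      rw [h3]
      exact (MorphismProperty.cancel_left_of_respectsIso DescCatLib.UEE ((Over.pullback f).map g).left _).2 h2
    have := DescCatLib.uee_effectiveEpi (DescCatLib.uee_of_comp h5)
    have : Mono g.left := inferInstance
    have : IsIso g.left := isIso_of_mono_of_strongEpi _
    have : IsIso ((Over.forget S).map g) := ‹IsIso g.left›
    exact isIso_of_reflects_iso g (Over.forget S)
  · refine ⟨fun {Z} a b hab => ?_⟩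
    ext
    apply pullback.hom_ext
    · have h1 := congrArg (fun k => k.left ≫ pullback.fst Y.hom f) hab
      simp only [Over.comp_left, Category.assoc, Over.pullback_map_left, pullback.lift_fst] at h1
      rw [← cancel_mono g.left, Category.assoc, Category.assoc]
      exact h1
    · exact (Over.w a).trans (Over.w b).symm

end Groth.Agent.S5209
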