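import Groth.Statements.S5210
import Groth.Agent.DescCatLib.UEpi

set_option autoImplicit false
set_option backward.isDefEq.respectTransparency false
set_option backward.defeqAttrib.useBackward true
open CategoryTheory CategoryTheory.Limits
universe w v₁ u₁
open DescCat

namespace Groth.Agent.S5210

/-- In a category with pullbacks, let `f : S' ⟶ S` be a universal effective epimorphism (all of its base
changes are effective epimorphisms) and `Y ⟶ S` a monomorphism. Then an object `X` over `S` admits a
morphism to `Y` over `S` if and only if it does so after base change along `f`. -/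
theorem result {C : Type u₁} [Category.{v₁} C] [HasPullbacks C]
    {S' S : C} (f : S' ⟶ S) (hf : (MorphismProperty.universally (fun (A B : C) (p : A ⟶ B) => EffectiveEpi p)) f) (X Y : Over S) [Mono Y.hom] :
    Nonempty (X ⟶ Y) ↔ Nonempty ((Over.pullback f).obj X ⟶ (Over.pullback f).obj Y) := by
  refine ⟨fun ⟨g⟩ => ⟨(Over.pullback f).map g⟩, fun ⟨h⟩ => ?_⟩
  have h1 : DescCatLib.UEE (pullback.fst X.hom f) :=
    MorphismProperty.of_isPullback (IsPullback.of_hasPullback X.hom f).flip hf
  have := DescCatLib.uee_effectiveEpi h1
  have w : (h.left ≫ pullback.fst Y.hom f) ≫ Y.hom = pullback.fst X.hom f ≫ X.hom := by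
    rw [Category.assoc, pullback.condition, pullback.condition, ← Category.assoc]
    congr 1
    exact Over.w h
  obtain ⟨d, hd⟩ := DescCatLib.exists_desc (pullback.fst X.hom f) (h.left ≫ pullback.fst Y.hom f)
    fun a b hab => by
      rw [← cancel_mono Y.hom]
      simp only [Category.assoc] at w ⊢
      rw [w, reassoc_of% hab]
  exact ⟨Over.homMk d (by rw [← cancel_epi (pullback.fst X.hom f), reassoc_of% hd]; simpa using w)⟩

end Groth.Agent.S5210
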