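import Groth.Statements.S5211
import Groth.Agent.DescCatLib.UEpi

set_option autoImplicit false
set_option backward.isDefEq.respectTransparency false
set_option backward.defeqAttrib.useBackward true
open CategoryTheory CategoryTheory.Limits
universe w v₁ u₁
open DescCat

namespace Groth.Agent.S5211

/-- In a category with pullbacks: if `f : S' ⟶ S` is a universal effective epimorphism and the canonical
map `S' ×_S S' ⟶ S' ×_T S'` induced by `g : S ⟶ T` is an isomorphism, then `g` is a monomorphism. -/
theorem result {C : Type u₁} [Category.{v₁} C] [HasPullbacks C]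
    {S' S T : C} (f : S' ⟶ S) (hf : (MorphismProperty.universally (fun (A B : C) (p : A ⟶ B) => EffectiveEpi p)) f) (g : S ⟶ T)
    [IsIso (pullback.mapDesc f f g)] : Mono g := by
  refine ⟨fun {Z} a b hab => ?_⟩
  have hf' := DescCatLib.uee_le_ue hf
  have := DescCatLib.ue_epi_fst hf' a
  have := DescCatLib.ue_epi_fst hf' (pullback.fst a f ≫ b)
  rw [← cancel_epi (pullback.fst a f), ← cancel_epi (pullback.fst (pullback.fst a f ≫ b) f)]
  let x := pullback.fst (pullback.fst a f ≫ b) f ≫ pullback.snd a f
  let y := pullback.snd (pullback.fst a f ≫ b) f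
  have hx : x ≫ f = pullback.fst (pullback.fst a f ≫ b) f ≫ pullback.fst a f ≫ a := by
    simp [x, pullback.condition]
  have hy : y ≫ f = pullback.fst (pullback.fst a f ≫ b) f ≫ pullback.fst a f ≫ b := by
    simp [y, ← pullback.condition]
  let q := pullback.lift (f := f ≫ g) (g := f ≫ g) x y (by simp [reassoc_of% hx, reassoc_of% hy, hab])
  have e1 : q ≫ inv (pullback.mapDesc f f g) ≫ pullback.fst f f = x := by
    have : inv (pullback.mapDesc f f g) ≫ pullback.fst f f = pullback.fst (f ≫ g) (f ≫ g) := by
      simp [IsIso.inv_comp_eq]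
    simp [q, this]
  have e2 : q ≫ inv (pullback.mapDesc f f g) ≫ pullback.snd f f = y := by
    have : inv (pullback.mapDesc f f g) ≫ pullback.snd f f = pullback.snd (f ≫ g) (f ≫ g) := by
      simp [IsIso.inv_comp_eq]
    simp [q, this]
  rw [← hx, ← hy, ← e1, ← e2]
  simp [pullback.condition]

end Groth.Agent.S5211
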