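import Groth.Statements.S5212
import Mathlib.RingTheory.LocalRing.ResidueField.Fiber
import Mathlib.LinearAlgebra.Charpoly.BaseChange
import Mathlib.RingTheory.Norm.Basic
-- import your own Groth.Agent.* helpers here

set_option autoImplicit false
universe u
open GrpQ

namespace Groth.Agent.S5212

/-- For `A'` finite and free as an `A`-module, a prime `p` of `A` and `a ∈ A'`, the element `a` belongs
to some prime of `A'` lying over `p` if and only if its norm belongs to `p`. (The published
statement allows `A'` projective of constant rank over `A`; this row takes `A'` free, where the norm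
is the determinant of multiplication.) -/
theorem result {A A' : Type u} [CommRing A] [CommRing A'] [Algebra A A']
    [Module.Free A A'] [Module.Finite A A'] (p : Ideal A) [p.IsPrime] (a : A') :
    (∃ q : Ideal A', q.IsPrime ∧ q.LiesOver p ∧ a ∈ q) ↔ Algebra.norm A a ∈ p := by
  let P : PrimeSpectrum A := ⟨p, inferInstance⟩
  have hiff : (∃ q : Ideal A', q.IsPrime ∧ q.LiesOver p ∧ a ∈ q) ↔
      ¬ IsUnit ((1 : p.ResidueField) ⊗ₜ[A] a) := by
    rw [← Ideal.span_singleton_eq_top]
    constructor
    · rintro ⟨q, hq, hqp, ha⟩ h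
      let e := PrimeSpectrum.preimageEquivFiber A A' P
      let Q := e ⟨⟨q, hq⟩, PrimeSpectrum.ext hqp.over.symm⟩
      have h' : ((1 : p.ResidueField) ⊗ₜ[A] a) ∈ Q.asIdeal := by
        have := e.symm_apply_apply ⟨⟨q, hq⟩, PrimeSpectrum.ext hqp.over.symm⟩
        have hc : Q.asIdeal.comap Algebra.TensorProduct.includeRight.toRingHom = q :=
          congrArg (fun z => z.1.asIdeal) this
        rw [← hc] at ha
        exact ha
      exact Q.isPrime.ne_top (top_unique (h ▸ (Ideal.span_singleton_le_iff_mem _).2 h'))
    · intro h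
      obtain ⟨Q, hQ, hle⟩ := Ideal.exists_le_maximal _ h
      let z := (PrimeSpectrum.preimageEquivFiber A A' P).symm ⟨Q, hQ.isPrime⟩
      exact ⟨z.1.asIdeal, z.1.isPrime, ⟨(congrArg PrimeSpectrum.asIdeal z.2).symm⟩,
        hle (Ideal.mem_span_singleton_self _)⟩
  rw [hiff]
  have hmul : LinearMap.mulLeft p.ResidueField ((1 : p.ResidueField) ⊗ₜ[A] a) =
      (LinearMap.mulLeft A a).baseChange p.ResidueField := by
    ext x
    simp
  have hu : ∀ (R S : Type u) [CommRing R] [CommRing S] [Algebra R S] [Module.Free R S]
      [Module.Finite R S] (x : S), IsUnit x ↔ IsUnit (LinearMap.det (LinearMap.mulLeft R x)) := by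
    intro R S _ _ _ _ _ x
    rw [← LinearMap.isUnit_iff_isUnit_det, Module.End.isUnit_iff, isUnit_iff_exists_inv]
    constructor
    · rintro ⟨y, hy⟩
      refine Function.bijective_iff_has_inverse.2 ⟨fun z => y * z, fun z => ?_, fun z => ?_⟩
      · simp [← mul_assoc, mul_comm y x, hy]
      · simp [← mul_assoc, hy]
    · exact fun h => h.2 1
  rw [hu p.ResidueField, hmul, LinearMap.det_baseChange, isUnit_iff_ne_zero, not_not,
    Ideal.algebraMap_residueField_eq_zero, Algebra.norm_apply]
  rfl

end Groth.Agent.S5212
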