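import Groth.Statements.S5213
import Mathlib

set_option autoImplicit false
universe u
open GrpQ

namespace Groth.Agent.S5213

theorem exists_mem_avoiding {B M ι : Type*} [CommRing B] [IsLocalRing B]
    [Infinite (IsLocalRing.ResidueField B)] [AddCommGroup M] [Module B M]
    (N : Submodule B M) (S : ι → Submodule B M)
    (h : ∀ i, ∃ x ∈ N, x ∉ S i) (s : Finset ι) : ∃ x ∈ N, ∀ i ∈ s, x ∉ S i := by
  classical
  induction s using Finset.induction with
  | empty => exact ⟨0, N.zero_mem, by simp⟩
  | @insert a s _ ih =>
    obtain ⟨v, hv, hvS⟩ := ih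
    by_cases hva : v ∉ S a
    · exact ⟨v, hv, fun i hi => (Finset.mem_insert.mp hi).elim (fun h => h ▸ hva) (hvS i)⟩
    replace hva : v ∈ S a := not_not.mp hva
    obtain ⟨w, hw, hwa⟩ := h a
    let bad : ι → Set (IsLocalRing.ResidueField B) :=
      fun i => {c | ∃ t, IsLocalRing.residue B t = c ∧ v + t • w ∈ S i}
    have hbad : ∀ i ∈ insert a s, (bad i).Subsingleton := by
      intro i hi c ⟨t, ht, hts⟩ c' ⟨t', ht', hts'⟩
      by_contra hne
      have hu : IsUnit (t - t') := by
        rw [← IsLocalRing.residue_ne_zero_iff_isUnit, map_sub, ht, ht', sub_ne_zero]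
        exact hne
      have hw' : w ∈ S i := by
        refine (Submodule.smul_mem_iff_of_isUnit (S i) hu).mp ?_
        have := (S i).sub_mem hts hts'
        rwa [add_sub_add_left_eq_sub, ← sub_smul] at this
      rcases Finset.mem_insert.mp hi with rfl | hi
      · exact hwa hw'
      · refine hvS i hi ?_
        simpa using (S i).sub_mem hts ((S i).smul_mem t hw')
    have hfin : (⋃ i ∈ (↑(insert a s) : Set ι), bad i).Finite :=
      (Finset.finite_toSet _).biUnion fun i hi => (hbad i hi).finite
    obtain ⟨c, hc⟩ := hfin.exists_notMem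
    obtain ⟨t, rfl⟩ := IsLocalRing.residue_surjective c
    refine ⟨v + t • w, N.add_mem hv (N.smul_mem t hw), fun i hi hmem => hc ?_⟩
    exact Set.mem_biUnion (Finset.mem_coe.mpr hi) ⟨t, rfl, hmem⟩

/-- Let `B` be a local ring with infinite residue field, `A` a semi-local ring, `B → A` a ring map
carrying the maximal ideal of `B` into the Jacobson radical of `A`, `M` a finite free `A`-module and
`N` a `B`-submodule of `M` generating `M` as an `A`-module. Then `N` contains a basis of `M` over
`A`. -/
theorem result {B A M : Type u} [CommRing B] [CommRing A]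
    [IsLocalRing B] [Infinite (IsLocalRing.ResidueField B)] [Algebra B A]
    [Finite (MaximalSpectrum A)]
    (hBA : (IsLocalRing.maximalIdeal B).map (algebraMap B A) ≤ (⊥ : Ideal A).jacobson)
    [AddCommGroup M] [Module A M] [Module B M] [IsScalarTower B A M]
    [Module.Free A M] [Module.Finite A M]
    (N : Submodule B M) (hN : Submodule.span A (N : Set M) = ⊤) :
    ∃ b : Module.Basis (Fin (Module.finrank A M)) A M, ∀ i, b i ∈ N := by
  classical
  let r := Module.finrank A M
  rcases subsingleton_or_nontrivial A with hA | hA
  · have : Subsingleton M := Module.subsingleton A M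
    exact ⟨Module.Basis.ofRepr (LinearEquiv.ofSubsingleton M _), fun i => by
      convert N.zero_mem using 1⟩
  let e : Module.Basis (Fin r) A M := Module.finBasis A M
  let π : ∀ m : MaximalSpectrum A, M →ₗ[A] (Fin r → A ⧸ m.asIdeal) :=
    fun m => LinearMap.pi fun k => (Algebra.linearMap A (A ⧸ m.asIdeal)).comp (e.coord k)
  have hsurj : ∀ m, Function.Surjective (π m) := by
    intro m f
    choose g hg using fun k => Ideal.Quotient.mk_surjective (f k)
    refine ⟨e.equivFun.symm g, funext fun k => ?_⟩
    simp [π, ← hg, Module.Basis.coord_apply, Module.Basis.equivFun_symm_apply, Finsupp.single_apply]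
    exact (Algebra.algebraMap_eq_smul_one (A := A ⧸ m.asIdeal) (g k)).symm
  have main : ∀ j ≤ r, ∃ v : Fin j → M, (∀ i, v i ∈ N) ∧
      ∀ m : MaximalSpectrum A, LinearIndependent (A ⧸ m.asIdeal) (fun i => π m (v i)) := by
    intro j
    induction j with
    | zero => exact fun _ => ⟨Fin.elim0, fun i => i.elim0, fun m => linearIndependent_empty_type⟩
    | succ j ih =>
      intro hj
      obtain ⟨v, hvN, hli⟩ := ih (Nat.le_of_succ_le hj)
      let S : MaximalSpectrum A → Submodule B M := fun m =>
        (((Submodule.span (A ⧸ m.asIdeal) (Set.range fun i => π m (v i))).restrictScalars A).comap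
          (π m)).restrictScalars B
      have hS : ∀ m, ∃ x ∈ N, x ∉ S m := by
        intro m
        by_contra hall
        push Not at hall
        letI := Ideal.Quotient.field m.asIdeal
        have htop : Submodule.span (A ⧸ m.asIdeal) (Set.range fun i => π m (v i)) = ⊤ := by
          rw [eq_top_iff]
          intro f _
          obtain ⟨x, rfl⟩ := hsurj m f
          have hx : x ∈ Submodule.span A (N : Set M) := hN ▸ Submodule.mem_top
          exact (Submodule.span_le (p := ((Submodule.span (A ⧸ m.asIdeal)
            (Set.range fun i => π m (v i))).restrictScalars A).comap (π m))).mpr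
              (fun y hy => hall y hy) hx
        have hle := finrank_range_le_card (R := A ⧸ m.asIdeal) (fun i => π m (v i))
        rw [Set.finrank, htop, finrank_top, Module.finrank_pi, Fintype.card_fin,
          Fintype.card_fin] at hle
        omega
      have : Fintype (MaximalSpectrum A) := Fintype.ofFinite _
      obtain ⟨x, hxN, hx⟩ := exists_mem_avoiding N S hS Finset.univ
      refine ⟨Fin.snoc v x, fun i => ?_, fun m => ?_⟩
      · induction i using Fin.lastCases with
        | last => simpa using hxN
        | cast i => simpa using hvN i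
      · letI := Ideal.Quotient.field m.asIdeal
        have he : (fun i => π m ((Fin.snoc v x : Fin (j + 1) → M) i)) =
            Fin.snoc (fun i => π m (v i)) (π m x) := Fin.comp_snoc (π m) v x
        rw [he, linearIndependent_finSnoc]
        exact ⟨hli m, hx m (Finset.mem_univ m)⟩
  obtain ⟨v, hvN, hli⟩ := main r le_rfl
  have hdet : IsUnit (e.det v) := by
    by_contra hnu
    obtain ⟨I, hI, hmem⟩ := exists_max_ideal_of_mem_nonunits hnu
    let m : MaximalSpectrum A := ⟨I, hI⟩
    letI := Ideal.Quotient.field m.asIdeal
    have h := hli m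
    have hM : LinearIndependent (A ⧸ m.asIdeal)
        (((Ideal.Quotient.mk m.asIdeal).mapMatrix (e.toMatrix v)).col) := h
    rw [Matrix.linearIndependent_cols_iff_isUnit, Matrix.isUnit_iff_isUnit_det,
      ← RingHom.map_det, ← Module.Basis.det_apply] at hM
    exact hM.ne_zero (Ideal.Quotient.eq_zero_iff_mem.mpr hmem)
  obtain ⟨hind, hsp⟩ := (Module.Basis.is_basis_iff_det e).mpr hdet
  exact ⟨Module.Basis.mk hind hsp.ge, fun i => by rw [Module.Basis.mk_apply]; exact hvN i⟩

end Groth.Agent.S5213
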