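import Groth.Statements.S5214
import Groth.Agent.DescCatLib.UEpi

set_option autoImplicit false
set_option backward.isDefEq.respectTransparency false
set_option backward.defeqAttrib.useBackward true
open CategoryTheory CategoryTheory.Limits
universe w v₁ u₁
open DescCat

namespace Groth.Agent.S5214

/-- In a category with pullbacks and binary products: the product `u × u'` of two universal effective
epimorphisms (morphisms all of whose base changes are effective epimorphisms) is a universal
effective epimorphism. -/
theorem result {C : Type u₁} [Category.{v₁} C] [HasPullbacks C] [HasBinaryProducts C]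
    {X Y X' Y' : C} (u : X ⟶ Y) (u' : X' ⟶ Y')
    (hu : (MorphismProperty.universally (fun (A B : C) (p : A ⟶ B) => EffectiveEpi p)) u) (hu' : (MorphismProperty.universally (fun (A B : C) (p : A ⟶ B) => EffectiveEpi p)) u') :
    (MorphismProperty.universally (fun (A B : C) (p : A ⟶ B) => EffectiveEpi p)) (prod.map u u') := by
  have sq1 : IsPullback (prod.map u (𝟙 X')) prod.fst prod.fst u := by
    refine ⟨⟨prod.map_fst u (𝟙 X')⟩, ⟨PullbackCone.isLimitAux' _ fun s => ?_⟩⟩
    refine ⟨prod.lift s.snd (s.fst ≫ prod.snd), ?_, by simp, ?_⟩
    · dsimp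
      ext <;> simp [s.condition]
    · intro m h1 h2
      dsimp at *
      ext
      · simpa using h2
      · simpa using h1 =≫ prod.snd
  have sq2 : IsPullback (prod.map (𝟙 Y) u') prod.snd prod.snd u' := by
    refine ⟨⟨prod.map_snd (𝟙 Y) u'⟩, ⟨PullbackCone.isLimitAux' _ fun s => ?_⟩⟩
    refine ⟨prod.lift (s.fst ≫ prod.fst) s.snd, ?_, by simp, ?_⟩
    · dsimp
      ext <;> simp [s.condition]
    · intro m h1 h2
      dsimp at *
      ext
      · simpa using h1 =≫ prod.fst
      · simpa using h2
  have := DescCatLib.uee_comp (MorphismProperty.of_isPullback sq2.flip hu') (MorphismProperty.of_isPullback sq1.flip hu)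
  rwa [prod.map_map, Category.comp_id, Category.id_comp] at this

end Groth.Agent.S5214
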