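import Groth.Statements.S5215
import Groth.Agent.DescCatLib.UEpi

set_option autoImplicit false
set_option backward.isDefEq.respectTransparency false
set_option backward.defeqAttrib.useBackward true
open CategoryTheory CategoryTheory.Limits
universe w v₁ u₁
open DescCat

namespace Groth.Agent.S5215

/-- In a category with pullbacks: for a universally effective equivalence relation `p₁, p₂ : R ⇉ X` with
quotient map `π : X ⟶ X/R` and a morphism `g` out of the quotient, `g` is a monomorphism if and only
if `R` is the kernel pair of `π ≫ g`. -/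
theorem result {C : Type u₁} [Category.{v₁} C] [HasPullbacks C]
    {R X Z : C} {p₁ p₂ : R ⟶ X} (e : UniversallyEffectiveEquivalenceRelation p₁ p₂)
    (f : X ⟶ Z) (g : e.B ⟶ Z) (hg : e.π ≫ g = f) :
    Mono g ↔ IsKernelPair f p₁ p₂ := by
  subst hg
  constructor
  · intro _
    exact IsPullback.of_isLimit' ⟨by rw [reassoc_of% e.isKernelPair.w]⟩
      (PullbackCone.IsLimit.mk _ (fun s => e.isKernelPair.lift s.fst s.snd
        (by rw [← cancel_mono g]; simpa using s.condition))
        (fun s => IsPullback.lift_fst _ _ _ _) (fun s => IsPullback.lift_snd _ _ _ _)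
        (fun s m h1 h2 => e.isKernelPair.hom_ext (by simpa using h1) (by simpa using h2)))
  · intro h
    refine ⟨fun {Z} a b hab => ?_⟩
    have hf' := DescCatLib.uee_le_ue e.universally_effectiveEpi_π
    have := DescCatLib.ue_epi_fst hf' a
    have := DescCatLib.ue_epi_fst hf' (pullback.fst a e.π ≫ b)
    rw [← cancel_epi (pullback.fst a e.π), ← cancel_epi (pullback.fst (pullback.fst a e.π ≫ b) e.π)]
    let x := pullback.fst (pullback.fst a e.π ≫ b) e.π ≫ pullback.snd a e.π
    let y := pullback.snd (pullback.fst a e.π ≫ b) e.π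
    have hx : x ≫ e.π = pullback.fst (pullback.fst a e.π ≫ b) e.π ≫ pullback.fst a e.π ≫ a := by
      simp [x, pullback.condition]
    have hy : y ≫ e.π = pullback.fst (pullback.fst a e.π ≫ b) e.π ≫ pullback.fst a e.π ≫ b := by
      simp [y, ← pullback.condition]
    have hxy : x ≫ e.π ≫ g = y ≫ e.π ≫ g := by simp [reassoc_of% hx, reassoc_of% hy, hab]
    rw [← hx, ← hy]
    obtain ⟨r, h1, h2⟩ : ∃ r, r ≫ p₁ = x ∧ r ≫ p₂ = y :=
      ⟨h.lift x y hxy, h.lift_fst _ _ _, h.lift_snd _ _ _⟩
    rw [← h1, ← h2]
    simp [e.isKernelPair.w]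

end Groth.Agent.S5215
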