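import Groth.Statements.S5216
import Groth.Agent.SiteBase.SetExact

set_option autoImplicit false
open CategoryTheory CategoryTheory.Limits
universe w v₁ u₁
open ShfCat

namespace Groth.Agent.S5216

/-- The case of the chaotic topology, i.e. for presheaves of sets on an arbitrary category: every
equivalence relation is universally effective (its quotient exists, the relation is the kernel pair
of the quotient map, and that map is a universal effective epimorphism). -/
theorem result (C : Type u₁) [Category.{v₁} C]
    {R X : Cᵒᵖ ⥤ Type w} (p₁ p₂ : R ⟶ X) [IsEquivalenceRelation p₁ p₂] :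
    IsUniversallyEffectiveEquivalenceRelation p₁ p₂ := by
  obtain ⟨e⟩ := IsEquivalenceRelation.nonempty_equivalenceRelation (p₁ := p₁) (p₂ := p₂)
  obtain ⟨e'⟩ := SiteBase.presheaf_effectiveEquivalenceRelation e
  exact ⟨⟨{ toEffectiveEquivalenceRelation := e'
            universally_effectiveEpi_π := SiteBase.presheaf_universally_effectiveEpi e'.π }⟩⟩

end Groth.Agent.S5216
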