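import Groth.Statements.S5220
import Mathlib
-- import your own Groth.Agent.* helpers here

set_option autoImplicit false
open CategoryTheory CategoryTheory.Limits
universe w v₁ u₁
open GrpQ

namespace Groth.Agent.S5220

/-- In a category with pullbacks: let `d₀ d₁ : X₁ ⇉ X₀` admit a common section and let `f₀ : Y₀ ⟶ X₀` be
an effective epimorphism which is also a universal epimorphism. For the inverse-image pair `Y₁ :=
(Y₀ ×_{X₀,d₁} X₁) ×_{d₀,X₀} Y₀ ⇉ Y₀`, every morphism out of `Y₀` equalized by the two projections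
descends uniquely to a morphism out of `X₀` equalized by `d₀, d₁`. (Only the common section of the
groupoid structure is used.) -/
theorem result {C : Type u₁} [Category.{v₁} C] [HasPullbacks C]
    {X₁ X₀ Y₀ : C} (d₀ d₁ : X₁ ⟶ X₀) (s : X₀ ⟶ X₁) (hs₀ : s ≫ d₀ = 𝟙 X₀) (hs₁ : s ≫ d₁ = 𝟙 X₀)
    (f₀ : Y₀ ⟶ X₀) [EffectiveEpi f₀]
    (hf : MorphismProperty.universally (MorphismProperty.epimorphisms C) f₀)
    {T : C} (g : Y₀ ⟶ T)
    (hg : (pullback.fst (pullback.snd f₀ d₁ ≫ d₀) f₀ ≫ pullback.fst f₀ d₁) ≫ g =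
      pullback.snd (pullback.snd f₀ d₁ ≫ d₀) f₀ ≫ g) :
    ∃! h : X₀ ⟶ T, d₁ ≫ h = d₀ ≫ h ∧ f₀ ≫ h = g := by
  have hep : ∀ {W : C} (a : W ⟶ X₀), Epi (pullback.snd f₀ a) := fun a =>
    hf (pullback.fst f₀ a) a (pullback.snd f₀ a) (IsPullback.of_hasPullback f₀ a).flip
  have hep' : ∀ {W : C} (a : W ⟶ X₀), Epi (pullback.fst a f₀) := fun a =>
    hf (pullback.snd a f₀) a (pullback.fst a f₀) (IsPullback.of_hasPullback a f₀)
  have key : ∀ {Z : C} (a b : Z ⟶ Y₀), a ≫ f₀ = b ≫ f₀ → a ≫ g = b ≫ g := by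
    intro Z a b hab
    obtain ⟨u, hu1, hu2⟩ : ∃ u : Z ⟶ pullback f₀ d₁, u ≫ pullback.fst f₀ d₁ = a ∧
        u ≫ pullback.snd f₀ d₁ = a ≫ f₀ ≫ s :=
      ⟨pullback.lift a (a ≫ f₀ ≫ s) (by simp [hs₁]), pullback.lift_fst _ _ _, pullback.lift_snd _ _ _⟩
    obtain ⟨w, hw1, hw2⟩ : ∃ w : Z ⟶ pullback (pullback.snd f₀ d₁ ≫ d₀) f₀,
        w ≫ pullback.fst _ _ = u ∧ w ≫ pullback.snd _ _ = b :=
      ⟨pullback.lift u b (by rw [reassoc_of% hu2, hs₀, Category.comp_id, hab]),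
        pullback.lift_fst _ _ _, pullback.lift_snd _ _ _⟩
    calc a ≫ g = w ≫ (pullback.fst _ _ ≫ pullback.fst f₀ d₁) ≫ g := by
          rw [Category.assoc, reassoc_of% hw1, reassoc_of% hu1]
      _ = w ≫ pullback.snd _ _ ≫ g := by rw [hg]
      _ = b ≫ g := by rw [reassoc_of% hw2]
  refine ⟨EffectiveEpi.desc f₀ g key, ⟨?_, EffectiveEpi.fac f₀ g key⟩, ?_⟩
  · haveI := hep d₁
    haveI := hep' (pullback.snd f₀ d₁ ≫ d₀)
    rw [← cancel_epi (pullback.snd f₀ d₁), ← cancel_epi (pullback.fst (pullback.snd f₀ d₁ ≫ d₀) f₀)]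
    rw [← pullback.condition_assoc, EffectiveEpi.fac]
    rw [← Category.assoc (pullback.snd f₀ d₁) d₀, pullback.condition_assoc, EffectiveEpi.fac]
    rw [← Category.assoc, hg]
  · rintro h ⟨-, h2⟩
    exact EffectiveEpi.uniq f₀ g key h h2

end Groth.Agent.S5220
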