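import Groth.Statements.S5221
import Mathlib
import Groth.Agent.S5220
-- import your own Groth.Agent.* helpers here

set_option autoImplicit false
open CategoryTheory CategoryTheory.Limits
universe w v₁ u₁
open GrpQ

namespace Groth.Agent.S5221

/-- Existence part: in a category with pullbacks: with `d₀ d₁ : X₁ ⇉ X₀` admitting a common section and
`f₀ : Y₀ ⟶ X₀` an effective and universal epimorphism, the pair `(d₀, d₁)` has a coequalizer if and
only if its inverse-image pair on `Y₀` has one. -/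
theorem result {C : Type u₁} [Category.{v₁} C] [HasPullbacks C]
    {X₁ X₀ Y₀ : C} (d₀ d₁ : X₁ ⟶ X₀) (s : X₀ ⟶ X₁) (hs₀ : s ≫ d₀ = 𝟙 X₀) (hs₁ : s ≫ d₁ = 𝟙 X₀)
    (f₀ : Y₀ ⟶ X₀) [EffectiveEpi f₀]
    (hf : MorphismProperty.universally (MorphismProperty.epimorphisms C) f₀) :
    HasCoequalizer d₁ d₀ ↔
      HasCoequalizer (pullback.fst (pullback.snd f₀ d₁ ≫ d₀) f₀ ≫ pullback.fst f₀ d₁)
        (pullback.snd (pullback.snd f₀ d₁ ≫ d₀) f₀) := by
  have hpq : (pullback.fst (pullback.snd f₀ d₁ ≫ d₀) f₀ ≫ pullback.fst f₀ d₁) ≫ f₀ =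
      pullback.fst (pullback.snd f₀ d₁ ≫ d₀) f₀ ≫ pullback.snd f₀ d₁ ≫ d₁ := by
    rw [Category.assoc, pullback.condition]
  have hpr : pullback.snd (pullback.snd f₀ d₁ ≫ d₀) f₀ ≫ f₀ =
      pullback.fst (pullback.snd f₀ d₁ ≫ d₀) f₀ ≫ pullback.snd f₀ d₁ ≫ d₀ := pullback.condition.symm
  constructor
  · intro _
    refine ⟨⟨⟨Cofork.ofπ (f₀ ≫ coequalizer.π d₁ d₀) ?_, ?_⟩⟩⟩
    · simp only [Category.assoc]; rw [reassoc_of% hpq, reassoc_of% hpr, coequalizer.condition]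
    · refine Cofork.IsColimit.mk' _ fun c => ?_
      have hex := S5220.result d₀ d₁ s hs₀ hs₁ f₀ hf c.π c.condition
      have h1 := hex.exists.choose_spec.1
      have h2 := hex.exists.choose_spec.2
      refine ⟨coequalizer.desc hex.exists.choose h1, ?_, fun {m} hm => ?_⟩
      · simp [h2]
      · refine (cancel_epi (coequalizer.π d₁ d₀)).mp ?_
        refine (cancel_epi f₀).mp ?_
        rw [coequalizer.π_desc, h2, ← hm]
        simp
  · intro _
    obtain ⟨h, ⟨h1, h2⟩, -⟩ := S5220.result d₀ d₁ s hs₀ hs₁ f₀ hf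
      (coequalizer.π (pullback.fst (pullback.snd f₀ d₁ ≫ d₀) f₀ ≫ pullback.fst f₀ d₁)
        (pullback.snd (pullback.snd f₀ d₁ ≫ d₀) f₀)) (coequalizer.condition _ _)
    refine ⟨⟨⟨Cofork.ofπ h h1, ?_⟩⟩⟩
    refine Cofork.IsColimit.mk' _ fun c => ?_
    refine ⟨coequalizer.desc (f₀ ≫ c.π) (by
      simp only [Category.assoc]; rw [reassoc_of% hpq, reassoc_of% hpr, c.condition]), ?_, fun {m} hm => ?_⟩
    · rw [← cancel_epi f₀]
      simp [reassoc_of% h2]
    · refine (cancel_epi (coequalizer.π (pullback.fst (pullback.snd f₀ d₁ ≫ d₀) f₀ ≫ pullback.fst f₀ d₁)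
        (pullback.snd (pullback.snd f₀ d₁ ≫ d₀) f₀))).mp ?_
      rw [coequalizer.π_desc, ← hm]
      simp [reassoc_of% h2]

end Groth.Agent.S5221
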