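import Groth.Statements.S5222
import Mathlib.CategoryTheory.Monoidal.Cartesian.Grp

set_option autoImplicit false
set_option backward.isDefEq.respectTransparency false
set_option backward.defeqAttrib.useBackward true
open CategoryTheory CategoryTheory.Limits MonoidalCategory
universe v₁ u₁
open DescCat

namespace Groth.Agent.S5222

open MonObj CartesianMonoidalCategory SemiCartesianMonoidalCategory in
/-- In a cartesian monoidal category with pullbacks: for a homomorphism `f : G ⟶ G'` of group objects
with kernel `K = G ×_{G'} e`, the pair `G × K ⇉ G` given by the projection and by multiplication is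
the kernel pair of `f`. -/
theorem result {C : Type u₁} [Category.{v₁} C]
    [CartesianMonoidalCategory C] [HasPullbacks C]
    {G G' : C} [GrpObj G] [GrpObj G'] (f : G ⟶ G') [IsMonHom f] :
    IsKernelPair f (fst G (pullback f η[G']))
      ((G ◁ pullback.fst f η[G']) ≫ μ[G]) := by
  have hm : (G ◁ pullback.fst f η[G']) ≫ μ[G] = fst G (pullback f η[G']) * (snd G (pullback f η[G']) ≫ pullback.fst f η[G']) := by
    rw [Hom.mul_def]
    congr 1
    ext <;> simp
  have hk : pullback.fst f η[G'] ≫ f = 1 := by
    rw [pullback.condition, Hom.one_def]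
    congr 1
    exact toUnit_unique _ _
  rw [hm]
  refine IsPullback.of_isLimit' ⟨by simp [MonObj.mul_comp, hk, MonObj.comp_one]⟩ ?_
  refine PullbackCone.IsLimit.mk _ (fun s => lift s.fst (pullback.lift (s.fst⁻¹ * s.snd) (toUnit _) ?_)) ?_ ?_ ?_
  · rw [MonObj.mul_comp, GrpObj.inv_comp, s.condition, inv_mul_cancel, Hom.one_def]
  · intro s; simp
  · intro s; simp [MonObj.comp_mul]
  · intro s m h1 h2
    apply CartesianMonoidalCategory.hom_ext
    · simpa using h1
    · apply pullback.hom_ext
      · simp [← h1, ← h2, MonObj.comp_mul]
      · exact toUnit_unique _ _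

end Groth.Agent.S5222
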