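import Groth.Statements.S5227
import Groth.Agent.SiteBase.SubQuot
-- import your own Groth.Agent.* helpers here

set_option autoImplicit false
open CategoryTheory CategoryTheory.Limits
universe w v₁ u₁
open ShfCat

namespace Groth.Agent.S5227

/-- For sheaves of sets on a site with sheafification: for an equivalence relation `R ⇉ X` with
(universally effective) quotient `π : X ⟶ X/R`, inverse image along `π` is a bijection from the
subsheaves of `X/R` onto the subsheaves of `X` stable under `R` (those whose two inverse images in
`R` agree). -/
theorem result {C : Type u₁} [Category.{v₁} C]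
    (J : GrothendieckTopology C) [HasSheafify J (Type w)]
    {R X : Sheaf J (Type w)} {p₁ p₂ : R ⟶ X} (e : UniversallyEffectiveEquivalenceRelation p₁ p₂) :
    Function.Injective (Subobject.pullback e.π).obj ∧
      Set.range (Subobject.pullback e.π).obj =
        {Y : Subobject X | (Subobject.pullback p₁).obj Y = (Subobject.pullback p₂).obj Y} := by
  have hk := e.isKernelPair
  haveI : Epi e.π := by
    have := e.universally_effectiveEpi_π _ _ _ (IsPullback.of_id_fst (f := e.π)).flip
    infer_instance
  refine ⟨fun P Q h => SiteBase.subobject_eq_of_factors fun T t => ?_, ?_⟩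
  · haveI := SiteBase.sheaf_epi_pullback_fst t e.π
    have key : ∀ (Z : Subobject e.B), Z.Factors t ↔
        ((Subobject.pullback e.π).obj Z).Factors (pullback.snd t e.π) := by
      intro Z
      rw [SiteBase.pullback_factors_iff, ← pullback.condition]
      exact ⟨fun h => Subobject.factors_of_factors_right _ h,
        fun h => SiteBase.factors_of_epi Z _ t h⟩
    rw [key P, key Q]
    exact Iff.of_eq (by rw [h])
  · refine Set.ext fun Y => ⟨?_, fun hY => ?_⟩
    · rintro ⟨Z, rfl⟩
      show (Subobject.pullback p₁).obj _ = (Subobject.pullback p₂).obj _
      rw [← Subobject.pullback_comp, ← Subobject.pullback_comp, hk.w]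
    · have hY' : (Subobject.pullback p₁).obj Y = (Subobject.pullback p₂).obj Y := hY
      have hK := SiteBase.kernelPair_restrict hk Y.arrow
      let g := coequalizer.desc (Y.arrow ≫ e.π) hK.w
      haveI : Mono g := SiteBase.sheaf_mono_of_kernelPair (coequalizer.π _ _) g
        (coequalizer.condition _ _) (by rw [coequalizer.π_desc]; exact hK)
      refine ⟨Subobject.mk g, SiteBase.subobject_eq_of_factors fun T t => ?_⟩
      rw [SiteBase.pullback_factors_iff, Subobject.mk_factors_iff]
      constructor
      · intro ht
        obtain ⟨u, hu⟩ : ∃ u, u ≫ g = t ≫ e.π := ht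
        haveI := SiteBase.sheaf_epi_pullback_fst u (coequalizer.π _ _ :
          (Y : Sheaf J (Type w)) ⟶ coequalizer _ _)
        refine SiteBase.factors_of_epi Y (pullback.fst u (coequalizer.π _ _)) t ?_
        let y := pullback.snd u (coequalizer.π _ _ :
          (Y : Sheaf J (Type w)) ⟶ coequalizer _ _) ≫ Y.arrow
        let r := hk.lift y (pullback.fst u (coequalizer.π _ _) ≫ t) (by
          simp only [y, Category.assoc]
          rw [← hu, pullback.condition_assoc, coequalizer.π_desc])
        have h1 : Y.Factors (r ≫ p₁) := by
          rw [hk.lift_fst]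
          exact Subobject.factors_comp_arrow _
        rw [← SiteBase.pullback_factors_iff, hY', SiteBase.pullback_factors_iff, hk.lift_snd] at h1
        exact h1
      · intro ht
        refine ⟨Y.factorThru t ht ≫ coequalizer.π _ _, ?_⟩
        show (Y.factorThru t ht ≫ coequalizer.π _ _) ≫ g = t ≫ e.π
        simp [g]

end Groth.Agent.S5227
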