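import Groth.Statements.S5228
import Mathlib
import Groth.Agent.GrpAlgComod.Basic

set_option autoImplicit false
universe w u
open HopfRep

namespace Groth.Agent.S5228

open scoped TensorProduct
open Groth.Agent.GrpAlgComod in
lemma exists_subcomod_compl {k : Type*} [CommRing k] {A : Type*} [CommRing A] [HopfAlgebra k A] {ι : Type*}
    (e : Module.Basis ι k A) (hΔ : ∀ a, Coalgebra.comul (R := k) (e a) = e a ⊗ₜ[k] e a)
    (hε : ∀ a, Coalgebra.counit (R := k) (e a) = 1)
    {V : Type*} [AddCommGroup V] [Module k V] [HopfRep.Comod k A V]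
    (W : Submodule k V) (hW : HopfRep.IsSubcomod (k := k) (A := A) W) (W' : Submodule k V) (hWW' : IsCompl W W') :
    ∃ W'' : Submodule k V, HopfRep.IsSubcomod (k := k) (A := A) W'' ∧ IsCompl W W'' := by
  classical
  let P : V →ₗ[k] V := W.subtype ∘ₗ W.projectionOnto W' hWW'
  have hPid : ∀ w ∈ W, P w = w := fun w hw =>
    congrArg Subtype.val (Submodule.projectionOnto_apply_left hWW' ⟨w, hw⟩)
  have hPmem : ∀ v, P v ∈ W := fun v => (W.projectionOnto W' hWW' v).2
  have hWproj : ∀ w ∈ W, ∀ a, wproj e a w ∈ W := by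
    intro w hw a
    obtain ⟨y, hy⟩ := hW w hw
    rw [wproj_apply, ← hy]
    clear hy
    induction y using TensorProduct.induction_on with
    | zero => simp
    | tmul u x => rw [LinearMap.rTensor_tmul, coef_tmul]; exact W.smul_mem _ u.2
    | add x y hx hy => rw [map_add, map_add]; exact W.add_mem hx hy
  let Φ : V ⊗[k] A →ₗ[k] V := TensorProduct.lift (e.constr k (fun a => wproj e a ∘ₗ P)).flip
  let Q : V →ₗ[k] V := Φ ∘ₗ HopfRep.Comod.coact (k := k) (A := A)
  have hΦ : ∀ a v, Φ (v ⊗ₜ[k] e a) = wproj e a (P v) := fun a v => by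
    simp [Φ, Module.Basis.constr_basis]
  have hQmem : ∀ v, Q v ∈ W := by
    intro v
    obtain ⟨s, -, hs, -⟩ := eq_sum_wproj e hε v
    show Φ _ ∈ W
    rw [hs, map_sum]
    exact W.sum_mem (fun a _ => by rw [hΦ]; exact hWproj _ (hPmem _) a)
  have hQb : ∀ v b, Q (wproj e b v) = wproj e b (P (wproj e b v)) := by
    intro v b
    show Φ _ = _
    rw [coact_wproj e hΔ b v, hΦ]
  have hQid : ∀ w ∈ W, Q w = w := by
    intro w hw
    obtain ⟨s, -, hs, hsum⟩ := eq_sum_wproj e hε w
    show Φ _ = w
    rw [hs, map_sum]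
    refine Eq.trans (Finset.sum_congr rfl fun a _ => ?_) hsum
    rw [hΦ, hPid _ (hWproj w hw a), wproj_of_mem e (coact_wproj e hΔ a w), if_pos rfl]
  refine ⟨LinearMap.ker Q, fun v hv => ?_, ?_, ?_⟩
  · obtain ⟨s, hs0, hs, hsum⟩ := eq_sum_wproj e hε v
    have hker : ∀ b, wproj e b v ∈ LinearMap.ker Q := by
      intro b
      by_cases hb : b ∈ s
      · have h0 : wproj e b (Q v) = 0 := by rw [LinearMap.mem_ker.mp hv, map_zero]
        rw [← hsum, map_sum, map_sum, Finset.sum_eq_single b] at h0
        · rw [hQb] at h0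
          rw [wproj_of_mem e (coact_wproj e hΔ b _), if_pos rfl] at h0
          rw [LinearMap.mem_ker, hQb, h0]
        · intro c _ hcb
          rw [hQb, wproj_of_mem e (coact_wproj e hΔ c _), if_neg hcb]
        · exact fun h => absurd hb h
      · rw [hs0 b hb]; exact Submodule.zero_mem _
    exact ⟨∑ a ∈ s, ⟨wproj e a v, hker a⟩ ⊗ₜ[k] e a, by
      rw [map_sum, hs]
      exact Finset.sum_congr rfl fun a _ => rfl⟩
  · rw [Submodule.disjoint_def]
    intro w hw hwQ
    rw [← hQid w hw]; exact hwQ
  · rw [codisjoint_iff, eq_top_iff]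
    intro v _
    rw [show v = Q v + (v - Q v) by abel]
    refine Submodule.add_mem_sup (hQmem v) ?_
    rw [LinearMap.mem_ker, map_sub, hQid _ (hQmem v), sub_self]


/-- Over an affine base, in comodule form: for a representation `V` of a diagonalizable group `D(M)`
over a commutative ring `k` (a `k[M]`-comodule), every sub-representation which is a direct summand
as a `k`-module is a direct summand as a representation. (The published statement: a short exact
sequence of quasi-coherent `D(M)`-modules that splits as a sequence of modules splits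
equivariantly.) -/
theorem result {k : Type u} [CommRing k] {M : Type u} [CommGroup M]
    (V : Type w) [AddCommGroup V] [Module k V] [HopfRep.Comod k (MonoidAlgebra k M) V]
    (W : Submodule k V) (hW : HopfRep.IsSubcomod (k := k) (A := MonoidAlgebra k M) W)
    (hsplit : ∃ W' : Submodule k V, IsCompl W W') :
    ∃ W'' : Submodule k V, HopfRep.IsSubcomod (k := k) (A := MonoidAlgebra k M) W'' ∧ IsCompl W W'' := by
  obtain ⟨W', hW'⟩ := hsplit
  exact exists_subcomod_compl (MonoidAlgebra.basis M k) (fun a => by simp) (fun a => by simp) W hW W' hW'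

end Groth.Agent.S5228
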