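import Groth.Statements.S5231
import Mathlib.CategoryTheory.Sites.Limits
import Mathlib.CategoryTheory.Limits.Types.Limits
import Mathlib.CategoryTheory.Limits.FunctorCategory.EpiMono

set_option autoImplicit false
open CategoryTheory
universe w v₁ u₁
open ShfCat

namespace Groth.Agent.S5231

/-- (iii) ⇒ (i): a morphism `f` of sheaves of sets on a site is a monomorphism (resp. an epimorphism) as
soon as, for every object `S`, the morphisms `T ⟶ S` over which the restriction of `f` to the
induced site `C/T` is a monomorphism (resp. an epimorphism) form a covering sieve. No sheafification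
is assumed. (The published statement also treats isomorphisms in the same way; that case is left out
here.) -/
theorem result {C : Type u₁} [Category.{v₁} C]
    (J : GrothendieckTopology C) {F G : Sheaf J (Type w)} (f : F ⟶ G) :
    ((∀ S : C, ∃ R : Sieve S, R ∈ J S ∧ ∀ ⦃T : C⦄ (g : T ⟶ S), R g →
        Mono ((J.overPullback (Type w) T).map f)) → Mono f) ∧
    ((∀ S : C, ∃ R : Sieve S, R ∈ J S ∧ ∀ ⦃T : C⦄ (g : T ⟶ S), R g →
        Epi ((J.overPullback (Type w) T).map f)) → Epi f) := by
  constructor
  · intro h
    have : Mono f.hom := by
      rw [NatTrans.mono_iff_mono_app]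
      intro U
      rw [CategoryTheory.mono_iff_injective]
      intro x y hxy
      obtain ⟨R, hR, hm⟩ := h U.unop
      refine (((CategoryTheory.isSheaf_iff_isSheaf_of_type _ _).mp F.2).isSeparated) R hR |>.ext fun T g hg => ?_
      have := hm g hg
      have h2 : Mono ((sheafToPresheaf _ _).map ((J.overPullback (Type w) T).map f)) := inferInstance
      have h3 := (CategoryTheory.mono_iff_injective _).mp ((NatTrans.mono_iff_mono_app _).mp h2 (Opposite.op (Over.mk (𝟙 T))))
      apply h3
      change f.hom.app _ (F.obj.map g.op x) = f.hom.app _ (F.obj.map g.op y)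
      erw [NatTrans.naturality_apply, NatTrans.naturality_apply, hxy]
    exact (sheafToPresheaf J (Type w)).mono_of_mono_map this
  · intro h
    refine ⟨fun {H} a b hab => ?_⟩
    apply Sheaf.hom_ext
    ext U x
    obtain ⟨R, hR, hm⟩ := h U.unop
    refine (((CategoryTheory.isSheaf_iff_isSheaf_of_type _ _).mp H.2).isSeparated) R hR |>.ext fun T g hg => ?_
    have := hm g hg
    have h2 : (J.overPullback (Type w) T).map a = (J.overPullback (Type w) T).map b := by
      rw [← cancel_epi ((J.overPullback (Type w) T).map f), ← Functor.map_comp, ← Functor.map_comp, hab]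
    have h3 := ConcreteCategory.congr_hom (NatTrans.congr_app (congrArg (fun t => t.hom) h2) (Opposite.op (Over.mk (𝟙 T)))) (G.obj.map g.op x)
    refine (NatTrans.naturality_apply a.hom g.op x).symm.trans (Eq.trans ?_ (NatTrans.naturality_apply b.hom g.op x))
    exact h3

end Groth.Agent.S5231
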