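import Groth.Statements.S5233
import Mathlib
-- import your own Groth.Agent.* helpers here

set_option autoImplicit false
set_option backward.isDefEq.respectTransparency.types false
open CategoryTheory CategoryTheory.Limits AlgebraicGeometry
universe u
open GrpQ

namespace Groth.Agent.S5233

open CategoryTheory CategoryTheory.Limits in
theorem isSchemeTheoreticallyDominant_toImage {X Y : Scheme.{u}} (f : X ⟶ Y) [QuasiCompact f] :
    IsSchemeTheoreticallyDominant f.toImage := by
  rw [isSchemeTheoreticallyDominant_iff]
  refine Scheme.IdealSheafData.ext_of_iSup_eq_top (fun U : Y.affineOpens => ⟨f.imageι ⁻¹ᵁ U.1, U.2.preimage f.imageι⟩) ?_ ?_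
  · exact top_le_iff.mp fun x _ => by
      obtain ⟨U, hU⟩ := TopologicalSpace.Opens.mem_iSup.mp ((iSup_affineOpens_eq_top Y).ge (show f.imageι x ∈ (⊤ : Y.Opens) from trivial))
      exact TopologicalSpace.Opens.mem_iSup.mpr ⟨U, hU⟩
  intro U
  rw [Scheme.Hom.ker_apply, Scheme.IdealSheafData.ideal_bot]
  exact (RingHom.injective_iff_ker_eq_bot _).mp (f.toImage_app_injective U)

open CategoryTheory CategoryTheory.Limits in
theorem isClosedImmersion_arrow_mk {X A : Scheme.{u}} (i : A ⟶ X) [Mono i] [IsClosedImmersion i] :
    IsClosedImmersion (Subobject.mk i).arrow := by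
  rw [← Subobject.underlyingIso_hom_comp_eq_mk]
  infer_instance

open CategoryTheory CategoryTheory.Limits in
theorem exists_descent {X X' : Scheme.{u}} (π : X ⟶ X') [Flat π] [Surjective π] [QuasiCompact π]
    (Y : Subobject X) [IsClosedImmersion Y.arrow]
    (hst : (Subobject.pullback (pullback.fst π π)).obj Y = (Subobject.pullback (pullback.snd π π)).obj Y) :
    ∃ Y' : Subobject X', IsClosedImmersion Y'.arrow ∧ (Subobject.pullback π).obj Y' = Y := by
  let c := Y.arrow
  let b := c ≫ π
  haveI : QuasiCompact b := inferInstance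
  refine ⟨Subobject.mk b.imageι, isClosedImmersion_arrow_mk _, ?_⟩
  rw [Subobject.pullback_obj_mk (IsPullback.of_hasPullback π b.imageι).flip]
  let q := pullback.fst π b
  let r := pullback.snd π b
  -- `q` factors through `Y`
  obtain ⟨l, hl⟩ : ∃ l : pullback π b ⟶ (Y : Scheme.{u}), l ≫ c = q := by
    let w : pullback π b ⟶ pullback π π := pullback.lift (r ≫ c) q (by
      rw [Category.assoc]; exact pullback.condition.symm)
    let u := (Subobject.isPullback (pullback.fst π π) Y).lift r w (by
      exact (pullback.lift_fst _ _ _).symm)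
    have hu : u ≫ ((Subobject.pullback (pullback.fst π π)).obj Y).arrow = w := IsPullback.lift_snd _ _ _ _
    refine ⟨u ≫ Subobject.ofLE _ _ hst.le ≫ Subobject.pullbackπ (pullback.snd π π) Y, ?_⟩
    rw [Category.assoc, Category.assoc, (Subobject.isPullback (pullback.snd π π) Y).w, Subobject.ofLE_arrow_assoc,
      reassoc_of% hu]
    exact pullback.lift_snd _ _ _
  let p := pullback.fst π b.imageι
  let k : pullback π b ⟶ pullback π b.imageι := pullback.lift q (r ≫ b.toImage) (by
    rw [Category.assoc, Scheme.Hom.toImage_imageι]; exact pullback.condition)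
  have hkp : k ≫ p = q := pullback.lift_fst _ _ _
  haveI : IsSchemeTheoreticallyDominant b.toImage := isSchemeTheoreticallyDominant_toImage b
  have hsq : IsPullback r k b.toImage (pullback.snd π b.imageι) := by
    refine (IsPullback.of_right (h₁₂ := p) (h₂₂ := b.imageι) (v₁₃ := π) ?_ ?_ (IsPullback.of_hasPullback π b.imageι)).flip
    · rw [Scheme.Hom.toImage_imageι, hkp]; exact IsPullback.of_hasPullback π b
    · exact pullback.lift_snd _ _ _
  haveI : IsSchemeTheoreticallyDominant k := IsSchemeTheoreticallyDominant.of_isPullback hsq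
  have hle : c.ker ≤ p.ker := by
    have : (k ≫ p).ker = p.ker := by
      rw [Scheme.Hom.ker_comp, k.ker_eq_bot, Scheme.IdealSheafData.map_bot]
    rw [← this, hkp, ← hl]
    exact Scheme.Hom.le_ker_comp _ _
  let back := IsClosedImmersion.lift c p hle
  have hback : back ≫ c = p := IsClosedImmersion.lift_fac _ _ _
  let forth : (Y : Scheme.{u}) ⟶ pullback π b.imageι := pullback.lift c b.toImage (by rw [Scheme.Hom.toImage_imageι])
  have hforth : forth ≫ p = c := pullback.lift_fst _ _ _
  refine (Subobject.mk_eq_mk_of_comm p c ⟨back, forth, ?_, ?_⟩ hback).trans (Subobject.mk_arrow Y)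
  · rw [← cancel_mono p, Category.assoc, hforth, hback, Category.id_comp]
  · rw [← cancel_mono c, Category.assoc, hback, hforth, Category.id_comp]

open CategoryTheory CategoryTheory.Limits in
theorem le_of_pullback_le {X X' : Scheme.{u}} (π : X ⟶ X') [Flat π] [Surjective π] [QuasiCompact π]
    (Y₁ Y₂ : Subobject X') [IsClosedImmersion Y₂.arrow]
    (h : (Subobject.pullback π).obj Y₁ ≤ (Subobject.pullback π).obj Y₂) : Y₁ ≤ Y₂ := by
  let a := Subobject.pullbackπ π Y₁
  haveI : Flat a := MorphismProperty.of_isPullback (Subobject.isPullback π Y₁).flip ‹Flat π›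
  haveI : Surjective a := MorphismProperty.of_isPullback (Subobject.isPullback π Y₁).flip ‹Surjective π›
  haveI : QuasiCompact a := MorphismProperty.of_isPullback (Subobject.isPullback π Y₁).flip ‹QuasiCompact π›
  let c := pullback.snd Y₂.arrow Y₁.arrow
  let k := Subobject.ofLE _ _ h ≫ Subobject.pullbackπ π Y₂
  let s : ((Subobject.pullback π).obj Y₁ : Scheme.{u}) ⟶ pullback a c :=
    pullback.lift (𝟙 _) (pullback.lift k a (by
      rw [Category.assoc, (Subobject.isPullback π Y₂).w, Subobject.ofLE_arrow_assoc]
      exact (Subobject.isPullback π Y₁).w.symm)) (by rw [Category.id_comp]; exact (pullback.lift_snd _ _ _).symm)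
  haveI : IsIso (pullback.fst a c) :=
    ⟨s, by rw [← cancel_mono (pullback.fst a c), Category.assoc, pullback.lift_fst, Category.comp_id, Category.id_comp],
      pullback.lift_fst _ _ _⟩
  haveI : IsIso c := MorphismProperty.of_pullback_fst_of_descendsAlong (P := MorphismProperty.isomorphisms Scheme.{u})
    (Q := @Surjective ⊓ @Flat ⊓ @QuasiCompact) (f := a) ⟨⟨inferInstance, inferInstance⟩, inferInstance⟩
    (MorphismProperty.isomorphisms.infer_property _)
  exact Subobject.le_of_comm (inv c ≫ pullback.fst Y₂.arrow Y₁.arrow) (by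
    rw [Category.assoc, pullback.condition, IsIso.inv_hom_id_assoc])

/-- For schemes, with (M) the faithfully flat quasi-compact morphisms and (N) the closed immersions: if
`π : X ⟶ X'` is flat, surjective and quasi-compact (so `X' = X/R` for its kernel pair `R ⇉ X`), then
`Y' ↦ π⁻¹(Y')` is a bijection from closed subschemes of `X'` onto the closed subschemes of `X`
stable under `R`. -/
theorem result {X X' : Scheme.{u}} (π : X ⟶ X')
    [Flat π] [Surjective π] [QuasiCompact π] :
    Set.BijOn (Subobject.pullback π).obj
      {Y' : Subobject X' | IsClosedImmersion Y'.arrow}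
      {Y : Subobject X | IsClosedImmersion Y.arrow ∧
        (Subobject.pullback (pullback.fst π π)).obj Y = (Subobject.pullback (pullback.snd π π)).obj Y} := by
  refine ⟨fun Y' hY' => ⟨?_, ?_⟩, fun Y₁ h₁ Y₂ h₂ h => ?_, fun Y hY => ?_⟩
  · haveI : IsClosedImmersion Y'.arrow := hY'
    exact MorphismProperty.of_isPullback (Subobject.isPullback π Y') ‹IsClosedImmersion Y'.arrow›
  · rw [← Subobject.pullback_comp, ← Subobject.pullback_comp, Limits.pullback.condition]
  · haveI : IsClosedImmersion Y₁.arrow := h₁
    haveI : IsClosedImmersion Y₂.arrow := h₂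
    exact le_antisymm (le_of_pullback_le π Y₁ Y₂ h.le) (le_of_pullback_le π Y₂ Y₁ h.ge)
  · haveI : IsClosedImmersion Y.arrow := hY.1
    exact exists_descent π Y hY.2

end Groth.Agent.S5233
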