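import Groth.Statements.S5234
import Groth.Agent.FpqcDescent.Flat
import Groth.Agent.GrpSch.OverBase

set_option autoImplicit false
open CategoryTheory CategoryTheory.Limits AlgebraicGeometry MonoidalCategory
universe u
open RedSub

namespace Groth.Agent.S5234

open CartesianMonoidalCategory SemiCartesianMonoidalCategory in
/-- (ii) ⇔ (iii), for schemes with the fppf topology: let `G` be an `S`-group scheme which is faithfully
flat and locally of finite presentation over `S`, acting on `X` so that `X` is formally principal
homogeneous. Then `X` is a torsor (its structure map is faithfully flat and locally of finite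
presentation) if and only if `X` has a point over some faithfully flat, locally finitely presented
`S' ⟶ S`. -/
theorem result {S : Scheme.{u}} {G X : Over S} [GrpObj G]
    (a : AlgGrp.Action G X)
    [Flat G.hom] [Surjective G.hom] [LocallyOfFinitePresentation G.hom]
    (hX : IsIso (lift a.act (snd G X))) :
    RedSub.IsTorsor a ↔
      ∃ S' : Over S, Surjective S'.hom ∧ Flat S'.hom ∧ LocallyOfFinitePresentation S'.hom ∧
        Nonempty (S' ⟶ X) := by
  constructor
  · rintro ⟨h1, h2, h3, -⟩
    exact ⟨X, h1, h2, h3, ⟨𝟙 X⟩⟩
  rintro ⟨S', hs, hf, hp, ⟨x⟩⟩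
  haveI : IsIso (lift a.act (snd G X)) := hX
  have H : IsPullback (snd X S').left (fst X S').left S'.hom X.hom :=
    (Groth.Agent.GrpSch.isPullback_fst_snd X S').flip
  have hsurj : Surjective X.hom := by
    haveI : Surjective (x.left ≫ X.hom) := by rw [Over.w x]; exact hs
    exact Surjective.of_comp x.left X.hom
  let e : G ⊗ S' ≅ X ⊗ S' :=
    { hom := lift (lift (fst G S') (snd G S' ≫ x) ≫ a.act) (snd G S')
      inv := lift (lift (fst X S') (snd X S' ≫ x) ≫ inv (lift a.act (snd G X)) ≫ fst G X) (snd X S')
      hom_inv_id := by
        apply CartesianMonoidalCategory.hom_ext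
        · simp only [Category.assoc, lift_fst, Category.id_comp]
          rw [comp_lift_assoc, lift_fst, lift_snd_assoc,
            show lift (lift (fst G S') (snd G S' ≫ x) ≫ a.act) (snd G S' ≫ x) =
              lift (fst G S') (snd G S' ≫ x) ≫ lift a.act (snd G X) by rw [comp_lift, lift_snd]]
          rw [Category.assoc, IsIso.hom_inv_id_assoc, lift_fst]
        · simp
      inv_hom_id := by
        apply CartesianMonoidalCategory.hom_ext
        · simp only [Category.assoc, lift_fst, Category.id_comp]
          rw [comp_lift_assoc, lift_fst, lift_snd_assoc]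
          have h1 : inv (lift a.act (snd G X)) ≫ snd G X = snd X X := by
            rw [IsIso.inv_comp_eq, lift_snd]
          have h2 : lift (fst X S') (snd X S' ≫ x) ≫ inv (lift a.act (snd G X)) ≫ snd G X =
              snd X S' ≫ x := by rw [h1, lift_snd]
          have h4 : ∀ w : X ⊗ S' ⟶ X ⊗ X, lift (w ≫ inv (lift a.act (snd G X)) ≫ fst G X)
              (w ≫ inv (lift a.act (snd G X)) ≫ snd G X) ≫ a.act =
              w ≫ inv (lift a.act (snd G X)) ≫ a.act := fun w => by
            rw [← Category.assoc, ← Category.assoc w (inv _) (snd G X), ← comp_lift, lift_fst_snd,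
              Category.comp_id, Category.assoc]
          refine (congrArg (fun z => lift _ z ≫ a.act) h2.symm).trans ((h4 _).trans ?_)
          have h3 : inv (lift a.act (snd G X)) ≫ a.act = fst X X := by
            rw [IsIso.inv_comp_eq, lift_fst]
          rw [h3, lift_fst]
        · simp }
  haveI : IsIso e.hom.left := inferInstanceAs (IsIso ((Over.forget S).mapIso e).hom)
  have hsnd : (snd X S').left = inv e.hom.left ≫ (snd G S').left := by
    rw [IsIso.eq_inv_comp, ← Over.comp_left]
    simp [e]
  have hflat : Flat (snd X S').left := by
    haveI : Flat (snd G S').left := Groth.Agent.GrpSch.property_snd G S' ‹Flat G.hom›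
    rw [hsnd]; infer_instance
  refine ⟨hsurj, ?_, ?_, hX⟩
  · haveI : Flat (fst X S').left := Groth.Agent.GrpSch.property_fst X S' hf
    haveI : Surjective (fst X S').left := Groth.Agent.GrpSch.property_fst X S' hs
    haveI : Flat ((fst X S').left ≫ X.hom) := by
      rw [← H.w]; infer_instance
    exact Groth.Agent.FpqcDescent.flat_of_flat_comp (fst X S').left X.hom
  · refine MorphismProperty.of_isPullback_of_descendsAlong (P := @LocallyOfFinitePresentation)
      (Q := @Surjective ⊓ @Flat ⊓ @LocallyOfFinitePresentation) H ⟨⟨hs, hf⟩, hp⟩ ?_
    haveI : LocallyOfFinitePresentation (snd G S').left :=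
      Groth.Agent.GrpSch.property_snd G S' ‹LocallyOfFinitePresentation G.hom›
    rw [hsnd]; infer_instance

end Groth.Agent.S5234
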