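import Groth.Statements.S5235
-- import your own Groth.Agent.* helpers here

set_option autoImplicit false
open CategoryTheory CategoryTheory.Limits AlgebraicGeometry
universe u
open GrpQ

namespace Groth.Agent.S5235

theorem mk_range {X : Scheme.{u}} (Y : Subobject X) [IsOpenImmersion Y.arrow] :
    Y = Subobject.mk (Y.arrow.opensRange).ι :=
  (Subobject.mk_arrow Y).symm.trans (Subobject.mk_eq_mk_of_comm _ _
    (IsOpenImmersion.isoOfRangeEq Y.arrow (Y.arrow.opensRange).ι (by simp))
    (IsOpenImmersion.isoOfRangeEq_hom_fac _ _ _))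

theorem pullback_mk_ι {X Y : Scheme.{u}} (f : X ⟶ Y) (U : Y.Opens) :
    (Subobject.pullback f).obj (Subobject.mk U.ι) = Subobject.mk (f ⁻¹ᵁ U).ι :=
  Subobject.pullback_obj_mk (isPullback_morphismRestrict f U)

theorem mk_ι_inj {X : Scheme.{u}} {U V : X.Opens} (h : Subobject.mk U.ι = Subobject.mk V.ι) : U = V := by
  apply TopologicalSpace.Opens.ext
  rw [← U.range_ι, ← V.range_ι]
  have e : U.ι = (Subobject.isoOfMkEqMk _ _ h).hom ≫ V.ι := by simp
  rw [e]
  simp only [Scheme.Hom.comp_base, TopCat.coe_comp, Set.range_comp]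
  rw [Set.range_eq_univ.2 (Scheme.Hom.surjective (Subobject.isoOfMkEqMk _ _ h).hom), Set.image_univ]

theorem mk_congr' {X : Scheme.{u}} {U V : X.Opens} (h : U = V) : Subobject.mk U.ι = Subobject.mk V.ι := by
  subst h; rfl

theorem openImm_arrow {X : Scheme.{u}} (U : X.Opens) : IsOpenImmersion (Subobject.mk U.ι).arrow := by
  rw [← Subobject.underlyingIso_hom_comp_eq_mk]; infer_instance


/-- For schemes, with (M) the faithfully flat quasi-compact morphisms and (N) the open immersions: if `π
: X ⟶ X'` is flat, surjective and quasi-compact, then `Y' ↦ π⁻¹(Y')` is a bijection from open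
subschemes of `X'` onto the open subschemes of `X` stable under the kernel pair of `π`. -/
theorem result {X X' : Scheme.{u}} (π : X ⟶ X')
    [Flat π] [Surjective π] [QuasiCompact π] :
    Set.BijOn (Subobject.pullback π).obj
      {Y' : Subobject X' | IsOpenImmersion Y'.arrow}
      {Y : Subobject X | IsOpenImmersion Y.arrow ∧
        (Subobject.pullback (pullback.fst π π)).obj Y = (Subobject.pullback (pullback.snd π π)).obj Y} := by
  refine ⟨?_, ?_, ?_⟩
  · intro Y' (hY' : IsOpenImmersion Y'.arrow)
    rw [mk_range Y', Set.mem_setOf_eq, pullback_mk_ι]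
    refine ⟨openImm_arrow _, ?_⟩
    rw [pullback_mk_ι, pullback_mk_ι, ← Scheme.Hom.comp_preimage, ← Scheme.Hom.comp_preimage, pullback.condition]
  · intro Y₁ (h₁ : IsOpenImmersion Y₁.arrow) Y₂ (h₂ : IsOpenImmersion Y₂.arrow) h
    rw [mk_range Y₁, mk_range Y₂] at h ⊢
    rw [pullback_mk_ι, pullback_mk_ι] at h
    have := mk_ι_inj h
    have heq : Scheme.Hom.opensRange Y₁.arrow = Scheme.Hom.opensRange Y₂.arrow := by
      apply TopologicalSpace.Opens.ext
      exact (Set.preimage_eq_preimage π.surjective).1 (congrArg (fun U : X.Opens => (U : Set X)) this)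
    exact mk_congr' heq
  · rintro Y ⟨hY, hst⟩
    rw [mk_range Y, pullback_mk_ι, pullback_mk_ι] at hst
    have hst' := mk_ι_inj hst
    set U := Y.arrow.opensRange with hU
    have hsat : π ⁻¹' (π '' (U : Set X)) = U := by
      refine Set.Subset.antisymm ?_ (Set.subset_preimage_image _ _)
      rintro x ⟨u, hu, hxu⟩
      obtain ⟨z, hz₁, hz₂⟩ := Scheme.Pullback.exists_preimage_pullback (f := π) (g := π) u x hxu
      have : z ∈ pullback.fst π π ⁻¹ᵁ U := by rw [Scheme.Hom.mem_preimage, hz₁]; exact hu
      rw [hst', Scheme.Hom.mem_preimage, hz₂] at this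
      exact this
    have hop : IsOpen (π '' (U : Set X)) := by
      rw [← (Flat.isQuotientMap_of_surjective π).isOpen_preimage, hsat]
      exact U.2
    refine ⟨Subobject.mk (show X'.Opens from ⟨_, hop⟩).ι, openImm_arrow _, ?_⟩
    rw [pullback_mk_ι, mk_range Y]
    have heq : π ⁻¹ᵁ (show X'.Opens from ⟨_, hop⟩) = U := TopologicalSpace.Opens.ext hsat
    exact mk_congr' heq

end Groth.Agent.S5235
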