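import Groth.Statements.S5237
import Groth.Agent.GrpSch.Desc

set_option autoImplicit false
open CategoryTheory CategoryTheory.Limits AlgebraicGeometry MonoidalCategory
universe u
open RedSub

namespace Groth.Agent.S5237

open MonObj GrpObj CartesianMonoidalCategory in
/-- For group schemes and the fppf topology: if `q : G ⟶ Q = G/H` is the fppf quotient of `G` by a
normal subgroup `H`, with its group structure, then a homomorphism `G ⟶ K` that kills `H` factors
uniquely through `q`, and the factorisation is a homomorphism. -/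
theorem result {S : Scheme.{u}} {H G Q K : Over S}
    [GrpObj H] [GrpObj G] [GrpObj Q] [GrpObj K]
    (i : H ⟶ G) [IsMonHom i] [Mono i] (hn : AlgGrp.IsNormalHom i)
    (q : G ⟶ Q) [IsMonHom q] (hq : RedSub.IsQuotient i q)
    (f : G ⟶ K) [IsMonHom f] (hf : i ≫ f = 1) :
    ∃! g : Q ⟶ K, q ≫ g = f ∧ IsMonHom g := by
  obtain ⟨_, _, _, hpb⟩ := hq
  haveI := Groth.Agent.GrpSch.Desc.epi_tensor_of_lfp q
  obtain ⟨g, hg, huniq⟩ := Groth.Agent.GrpSch.Desc.exists_desc q f fun T a b hab => by
    obtain ⟨l, hla, hlb⟩ := hpb.exists_lift a b hab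
    have hl : (G ◁ i) ≫ μ[G] = fst G H * (snd G H ≫ i) := by
      rw [Hom.mul_def]
      congr 1
    rw [← hla, ← hlb, hl, MonObj.comp_mul, MonObj.mul_comp, ← Category.assoc l (snd G H), Category.assoc _ i f,
      hf, MonObj.comp_one, _root_.mul_one]
  haveI : IsMonHom (q ≫ g) := by rw [hg]; infer_instance
  exact ⟨g, ⟨hg, Groth.Agent.GrpSch.Desc.isMonHom_of_epi q g⟩, fun g' hg' => huniq g' hg'.1⟩

end Groth.Agent.S5237
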