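import Groth.Statements.S5243
import Groth.Agent.MultHopf.Points
import Groth.Agent.MultHopf.KerAlg
import Mathlib.RingTheory.LocalRing.ResidueField.Basic
-- import your own Groth.Agent.* helpers here

set_option autoImplicit false
universe u
open TensorProduct SGA3b
open SGA3b

namespace Groth.Agent.S5243

set_option backward.isDefEq.respectTransparency.types false
open Groth.Agent.MultHopf
open Groth.Agent.FinHopf (postComp)
open WithConv


variable {R : Type u} [CommRing R] {A : Type u} [CommRing A] [HopfAlgebra R A] {C : Type u} [CommRing C]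
  [HopfAlgebra R C]

/-- After a chart, a monomorphism has every character in its image. -/
theorem chart_surjective (φ : C →ₐc[R] A)
    (hmono : ∀ (T : Type u) [CommRing T] [Algebra R T],
      Function.Injective (fun x : A →ₐ[R] T => x.comp (φ : C →ₐ[R] A)))
    {p : PrimeSpectrum R} (ch : Chart R A p) :
    Function.Surjective (Algebra.TensorProduct.lift (Algebra.ofId ch.R' (MonoidAlgebra ch.R' ch.M))
      (ch.θ.comp (φ : C →ₐ[R] A)) (fun _ _ => Commute.all _ _)) := by
  classical
  set f := Algebra.TensorProduct.lift (Algebra.ofId ch.R' (MonoidAlgebra ch.R' ch.M))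
      (ch.θ.comp (φ : C →ₐ[R] A)) (fun _ _ => Commute.all _ _) with hf
  let B := f.range
  have hgen : ∀ c, ch.θ (φ c) ∈ B := fun c => ⟨(1 : ch.R') ⊗ₜ[R] c, by simp [hf, ← MonoidAlgebra.one_def]⟩
  -- coefficient extraction
  let co : ch.M → MonoidAlgebra ch.R' ch.M →ₗ[ch.R'] ch.R' := fun m =>
    Finsupp.lapply m ∘ₗ (MonoidAlgebra.coeffLinearEquiv ch.R').toLinearMap
  let Φ : ch.M → MonoidAlgebra ch.R' ch.M ⊗[ch.R'] MonoidAlgebra ch.R' ch.M →ₗ[ch.R'] MonoidAlgebra ch.R' ch.M :=
    fun m => (TensorProduct.rid ch.R' _).toLinearMap ∘ₗ TensorProduct.map LinearMap.id (co m)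
  have hΦ : ∀ m (x : MonoidAlgebra ch.R' ch.M), Φ m (Coalgebra.comul (R := ch.R') x) = MonoidAlgebra.single m (x.coeff m) := by
    intro m x
    induction x using MonoidAlgebra.induction_linear with
    | zero => simp
    | add a b ha hb => rw [map_add, map_add, ha, hb, MonoidAlgebra.coeff_add, Finsupp.add_apply, MonoidAlgebra.single_add]
    | single k r =>
      rw [MonoidAlgebra.comul_single, CommSemiring.comul_apply, TensorProduct.map_tmul]
      simp only [Φ, co, LinearMap.comp_apply, TensorProduct.map_tmul, LinearEquiv.coe_toLinearMap,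
        TensorProduct.rid_tmul, LinearMap.id_apply, MonoidAlgebra.lsingle_apply]
      by_cases hk : k = m
      · subst hk; simp
      · simp [hk]
  have hgraded : ∀ x ∈ B, ∀ m, MonoidAlgebra.single m (x.coeff m) ∈ B := by
    rintro _ ⟨w, rfl⟩ m
    induction w using TensorProduct.induction_on with
    | zero => simp
    | add a b ha hb => simpa [map_add, MonoidAlgebra.single_add] using B.add_mem ha hb
    | tmul t c =>
      have h : MonoidAlgebra.single m ((ch.θ (φ c)).coeff m) ∈ B := by
        rw [← hΦ, ch.comul_θ, show Coalgebra.comul (R := R) (φ c) =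
          TensorProduct.map (φ : C →ₗ[R] A) (φ : C →ₗ[R] A) (Coalgebra.comul (R := R) c) from
          (LinearMap.congr_fun φ.toCoalgHom.map_comp_comul c).symm]
        induction Coalgebra.comul (R := R) c using TensorProduct.induction_on with
        | zero => simp
        | add u v hu hv => simp only [map_add]; exact B.add_mem hu hv
        | tmul u v =>
          simp only [TensorProduct.map_tmul, Algebra.TensorProduct.lift_tmul, AlgHom.comp_apply,
            AlgHom.restrictScalars_apply, Algebra.TensorProduct.includeLeft_apply,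
            Algebra.TensorProduct.includeRight_apply, Algebra.TensorProduct.tmul_mul_tmul, _root_.mul_one, _root_.one_mul,
            Φ, LinearMap.comp_apply, LinearEquiv.coe_toLinearMap, TensorProduct.rid_tmul, LinearMap.id_apply]
          exact B.smul_mem (hgen u) _
      have h2 := B.smul_mem h t
      simpa [hf, Algebra.smul_def, ← MonoidAlgebra.one_def] using h2
  -- the inversion
  let σ : MonoidAlgebra ch.R' ch.M →ₐ[ch.R'] MonoidAlgebra ch.R' ch.M :=
    MonoidAlgebra.lift ch.R' _ ch.M ((MonoidAlgebra.of ch.R' ch.M).comp (invMonoidHom : ch.M →* ch.M))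
  have hσ : ∀ a, σ (ch.θ a) = ch.θ (HopfAlgebraStruct.antipode R a) := by
    intro a
    let χ : ch.M →* MonoidAlgebra ch.R' ch.M := MonoidAlgebra.of ch.R' ch.M
    let χ' : ch.M →* MonoidAlgebra ch.R' ch.M := χ.comp (invMonoidHom : ch.M →* ch.M)
    have hmul : χ * χ' = 1 := MonoidHom.ext fun m => by
      show χ m * χ' m = 1
      simp [χ, χ', MonoidAlgebra.of_apply, MonoidAlgebra.single_mul_single, MonoidAlgebra.one_def]
    have h1 : ch.point χ * ch.point χ' = 1 := by rw [← ch.point_mul, hmul, ch.point_one]
    have hid : (ch.point χ).ofConv = ch.θ := by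
      ext x : 1
      show MonoidAlgebra.lift ch.R' _ ch.M χ (ch.θ x) = ch.θ x
      rw [show MonoidAlgebra.lift ch.R' _ ch.M χ = AlgHom.id ch.R' _ from
        MonoidAlgebra.algHom_ext (fun m => by simp [χ, MonoidAlgebra.of_apply]) (by ext)]
      rfl
    have h2 := congrArg (postComp (C := A) (ch.point χ).ofConv) (AlgHom.antipode_id_cancel (R := R) (A := A))
    rw [map_mul, map_one] at h2
    have h3 := left_inv_eq_right_inv (h2 : postComp (C := A) (ch.point χ).ofConv
      (toConv (HopfAlgebra.antipodeAlgHom R A)) * ch.point χ = 1) h1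
    have h4 := DFunLike.congr_fun (congrArg WithConv.ofConv h3) a
    rw [Groth.Agent.FinHopf.postComp_apply, hid] at h4
    exact h4.symm
  have hσB : ∀ x ∈ B, σ x ∈ B := by
    rintro _ ⟨w, rfl⟩
    induction w using TensorProduct.induction_on with
    | zero => simp
    | add a b ha hb => simpa [map_add] using B.add_mem ha hb
    | tmul t c =>
      have hS : HopfAlgebraStruct.antipode R (φ c) = φ (HopfAlgebraStruct.antipode R c) :=
        (Groth.Agent.MultHopf.antipode_bialgHom φ c).symm
      have : σ (f (t ⊗ₜ[R] c)) = t • ch.θ (φ (HopfAlgebraStruct.antipode R c)) := by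
        rw [show f (t ⊗ₜ[R] c) = t • ch.θ (φ c) by rw [hf, Algebra.TensorProduct.lift_tmul, Algebra.smul_def]; rfl,
          map_smul, hσ, hS]
      exact this ▸ B.smul_mem (hgen _) t
  -- characters in the image
  let M' : Subgroup ch.M :=
    { carrier := {m | MonoidAlgebra.single m (1 : ch.R') ∈ B}
      one_mem' := B.one_mem
      mul_mem' := fun {a b} ha hb => by
        show MonoidAlgebra.single (a * b) (1 : ch.R') ∈ B
        simpa [MonoidAlgebra.single_mul_single] using B.mul_mem ha hb
      inv_mem' := fun {a} ha => by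
        show MonoidAlgebra.single a⁻¹ (1 : ch.R') ∈ B
        simpa [σ, MonoidAlgebra.of_apply] using hσB _ ha }
  suffices htop : M' = ⊤ by
    intro z
    show z ∈ B
    rw [← MonoidAlgebra.sum_coeff_single z]
    refine sum_mem fun m _ => ?_
    have hm : m ∈ M' := by rw [htop]; exact Subgroup.mem_top m
    replace hm : MonoidAlgebra.single m (1 : ch.R') ∈ B := hm
    simpa using B.smul_mem hm (z.coeff m)
  let k := IsLocalRing.ResidueField ch.R'
  let L := MonoidAlgebra k (ch.M ⧸ M')
  let : Algebra R k := ((algebraMap ch.R' k).comp (algebraMap R ch.R')).toAlgebra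
  have : IsScalarTower R ch.R' k := IsScalarTower.of_algebraMap_eq fun _ => rfl
  have : IsScalarTower R ch.R' L := IsScalarTower.of_algebraMap_eq fun r => by
    rw [MonoidAlgebra.coe_algebraMap, MonoidAlgebra.coe_algebraMap]
    simp [← IsScalarTower.algebraMap_apply]
  let χ₁ : ch.M →* L := (MonoidAlgebra.of k (ch.M ⧸ M')).comp (QuotientGroup.mk' M')
  let w₁ := MonoidAlgebra.lift ch.R' L ch.M χ₁
  let w₀ := MonoidAlgebra.lift ch.R' L ch.M (1 : ch.M →* L)
  have hagree : ∀ x ∈ B, w₁ x = w₀ x := by
    intro x hx
    rw [← MonoidAlgebra.sum_coeff_single x]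
    simp only [Finsupp.sum, map_sum, w₁, w₀, MonoidAlgebra.lift_single]
    refine Finset.sum_congr rfl fun m _ => ?_
    by_cases hu : IsUnit (x.coeff m)
    · have hm : m ∈ M' := by
        show MonoidAlgebra.single m (1 : ch.R') ∈ B
        obtain ⟨v, hv⟩ := hu.exists_left_inv
        simpa [hv] using B.smul_mem (hgraded x hx m) v
      simp [χ₁, MonoidAlgebra.of_apply, (QuotientGroup.eq_one_iff m).2 hm, ← MonoidAlgebra.one_def]
    · have h0 : algebraMap ch.R' k (x.coeff m) = 0 := (IsLocalRing.residue_eq_zero_iff _).2 hu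
      rw [← algebraMap_smul k (x.coeff m), ← algebraMap_smul k (x.coeff m) ((1 : ch.M →* L) m), h0, zero_smul, zero_smul]
  have heq : ch.point χ₁ = ch.point (1 : ch.M →* L) := WithConv.ofConv_injective
    (hmono L (AlgHom.ext fun c => hagree _ (hgen c)))
  have hw : w₁ = w₀ := ch.algHom_ext fun a => DFunLike.congr_fun (congrArg WithConv.ofConv heq) a
  refine Subgroup.ext fun m => iff_of_true ?_ (Subgroup.mem_top m)
  have h := DFunLike.congr_fun hw (MonoidAlgebra.single m 1)
  simp only [w₁, w₀, MonoidAlgebra.lift_single, one_smul, MonoidHom.one_apply, χ₁, MonoidHom.comp_apply,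
    MonoidAlgebra.of_apply, MonoidAlgebra.one_def] at h
  exact (QuotientGroup.eq_one_iff m).1 (MonoidAlgebra.single_left_injective (R := k) one_ne_zero h)

/-- Let G = Spec A be an R-group of multiplicative type, H = Spec C an affine R-group and u : G ⟶ H a
homomorphism of R-groups, given by the bialgebra map φ : C → A, which is a monomorphism: for every
R-algebra T the induced map on T-valued points G(T) → H(T) is injective. Then u is a closed
immersion, i.e. φ is surjective. (The published statement also asserts that the quotient of H by G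
exists and is affine over the base, and that H is a torsor over it; this row states only that u is a
closed immersion.) (Affine group schemes over an affine base are taken in Hopf-algebra form; base
change is the tensor product; a homomorphism of groups Spec A ⟶ Spec C is a bialgebra map C → A.) -/
theorem result (R : Type u) [CommRing R] (A : Type u) [CommRing A] [HopfAlgebra R A]
    (h : IsMultType R A) (C : Type u) [CommRing C] [HopfAlgebra R C] (φ : C →ₐc[R] A)
    (hmono : ∀ (T : Type u) [CommRing T] [Algebra R T],
      Function.Injective (fun x : A →ₐ[R] T => x.comp (φ : C →ₐ[R] A))) :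
    Function.Surjective φ := by
  intro a
  let P : Submodule R A := LinearMap.range (φ : C →ₗ[R] A)
  let I : Ideal R := Submodule.comap (LinearMap.toSpanSingleton R A a) P
  suffices hI : I = ⊤ by
    have h1 : (1 : R) ∈ I := hI ▸ Submodule.mem_top
    simpa [I, P] using h1
  by_contra hne
  obtain ⟨q, hq, hle⟩ := Ideal.exists_le_maximal I hne
  obtain ⟨ch⟩ := exists_chart h ⟨q, hq.isPrime⟩
  let j : R ⧸ I →ₗ[R] A ⧸ P := Submodule.mapQ I P (LinearMap.toSpanSingleton R A a) le_rfl
  have hj : Function.Injective j := by
    rw [← LinearMap.ker_eq_bot]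
    refine Submodule.ker_liftQ_eq_bot _ _ _ fun x hx => ?_
    exact (Submodule.Quotient.mk_eq_zero P).1 (by simpa using hx)
  have hj' : Function.Injective (j.lTensor ch.R') := Module.Flat.lTensor_preserves_injective_linearMap j hj
  have hzero : ∀ w : ch.R' ⊗[R] A, (P.mkQ).lTensor ch.R' w = 0 := by
    intro w
    obtain ⟨v, hv⟩ := chart_surjective φ hmono ch (ch.isBaseChange.equiv w)
    have hw : w = (φ : C →ₗ[R] A).lTensor ch.R' v := by
      apply ch.isBaseChange.equiv.injective
      rw [← hv]
      clear hv
      induction v using TensorProduct.induction_on with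
      | zero => simp
      | add x y hx hy => simp only [map_add, hx, hy]
      | tmul t c => simp [IsBaseChange.equiv_tmul, Algebra.smul_def, Algebra.ofId_apply]
    rw [hw, ← LinearMap.lTensor_comp_apply,
      show P.mkQ ∘ₗ (φ : C →ₗ[R] A) = 0 from LinearMap.ext fun c => (Submodule.Quotient.mk_eq_zero _).2 ⟨c, rfl⟩]
    simp
  have h1 : (1 : ch.R') ⊗ₜ[R] (Submodule.Quotient.mk (1 : R) : R ⧸ I) = 0 := by
    apply hj'
    rw [map_zero, LinearMap.lTensor_tmul]
    have := hzero ((1 : ch.R') ⊗ₜ[R] a)
    rw [show j (Submodule.Quotient.mk (1 : R)) = Submodule.Quotient.mk a by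
      rw [Submodule.mapQ_apply]; simp]
    simpa using this
  let e := (TensorProduct.quotTensorEquivQuotSMul ch.R' I)
  have h2 : (1 : ch.R') ∈ (I • ⊤ : Submodule R ch.R') := by
    rw [← Submodule.Quotient.mk_eq_zero]
    have h3 := congrArg (fun z => e (TensorProduct.comm R ch.R' (R ⧸ I) z)) h1
    simpa [e] using h3
  rw [Ideal.smul_top_eq_map] at h2
  have h4 : (1 : ch.R') ∈ IsLocalRing.maximalIdeal ch.R' :=
    Ideal.map_le_iff_le_comap.2 (hle.trans ch.over.ge) h2
  exact (IsLocalRing.maximalIdeal.isMaximal ch.R').ne_top ((Ideal.eq_top_iff_one _).2 h4)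

end Groth.Agent.S5243
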