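import Groth.Statements.S5252
import Groth.Agent.S2969
import Groth.Agent.MultHopf.QuasiIso
import Groth.Agent.MultHopf.IsoBasic
import Mathlib.RingTheory.Etale.Field
-- import your own Groth.Agent.* helpers here

set_option autoImplicit false
universe u
open TensorProduct SGA3b
open SGA3b

namespace Groth.Agent.S5252

/-- Let A be an Artinian local ring with residue field k and H = Spec C an affine A-group with C flat
and of finite type over A, whose closed fibre Spec (k ⊗ C) is a k-group of multiplicative type. Then
H is of multiplicative type and isotrivial. (Affine group schemes over an affine base are taken in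
Hopf-algebra form; base change is the tensor product; a homomorphism of groups Spec A ⟶ Spec C is a
bialgebra map C → A.) -/
theorem result (A : Type u) [CommRing A] [IsArtinianRing A] [IsLocalRing A]
    (C : Type u) [CommRing C] [HopfAlgebra A C] [Module.Flat A C] (hft : Algebra.FiniteType A C)
    (h0 : IsMultType (IsLocalRing.ResidueField A) (IsLocalRing.ResidueField A ⊗[A] C)) :
    IsMultType A C ∧ IsIsotrivial A C := by
  classical
  let m := IsLocalRing.maximalIdeal A
  have hm : IsNilpotent m := by
    have := IsArtinianRing.isNilpotent_jacobson_bot (R := A)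
    rwa [IsLocalRing.jacobson_eq_maximalIdeal ⊥ bot_ne_top] at this
  have hnil : ∀ x ∈ m, IsNilpotent x := fun x hx => by
    obtain ⟨n, hn⟩ := hm
    refine ⟨n, ?_⟩
    have := Ideal.pow_mem_pow hx n
    rwa [hn, Ideal.zero_eq_bot, Ideal.mem_bot] at this
  have : Algebra.FiniteType A C := hft
  obtain ⟨k', _, _, hfin, hsep, M, _, -, hD⟩ :=
    S2969.result (IsLocalRing.ResidueField A) (IsLocalRing.ResidueField A ⊗[A] C) inferInstance h0
  have : Algebra.FinitePresentation (IsLocalRing.ResidueField A) k' :=
    (Algebra.FinitePresentation.of_finiteType (R := IsLocalRing.ResidueField A) (A := k')).1 inferInstance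
  have : Algebra.Etale (IsLocalRing.ResidueField A) k' :=
    ⟨Algebra.FormallyEtale.of_isSeparable _ _, inferInstance⟩
  have : Module.Finite (IsLocalRing.ResidueField A) k' := hfin
  have hk : SGA3b.IsIsotrivial (IsLocalRing.ResidueField A) (IsLocalRing.ResidueField A ⊗[A] C) :=
    ⟨k', inferInstance, inferInstance, inferInstance, hfin, inferInstance, M, inferInstance, hD⟩
  have hiso := MultHopf.isIsotrivial_of_liftsDiag hnil (MultHopf.liftsDiag_of_flat hm) hk
  exact ⟨MultHopf.isMultType_of_isIsotrivial' hiso, hiso⟩

end Groth.Agent.S5252
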