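import Groth.Statements.S5257
import Groth.Agent.MultHopf.TransporterRep
import Groth.Agent.MultHopf.MonoClosed
-- import your own Groth.Agent.* helpers here

set_option autoImplicit false
open CategoryTheory MonoidalCategory CartesianMonoidalCategory MonObj GrpObj AlgebraicGeometry
universe u
open SGA3x

namespace Groth.Agent.S5257

/-- Let H be an S-group of multiplicative type and of finite type, G an S-group smooth and affine over
S, and u₁, u₂ : H ⟶ G two homomorphisms of S-groups. Then the transporter of u₁ into u₂, the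
subfunctor of G whose X-points are the g with int(g) ∘ u₁ = u₂ after every base change X' ⟶ X, is
representable by a closed subscheme of G which is smooth over S. -/
theorem result {S : Scheme.{u}} (H G : Over S) [GrpObj H] [GrpObj G]
    (hH : SGA3x.IsMultTypeFT H) (hG : Smooth G.hom) (hGa : IsAffineHom G.hom) (u₁ u₂ : H ⟶ G) [IsMonHom u₁] [IsMonHom u₂] :
    ∃ (T : Over S) (j : T ⟶ G), IsClosedImmersion j.left ∧ Smooth T.hom ∧
      ∀ (X : Over S) (g : X ⟶ G), (∃ t : X ⟶ T, t ≫ j = g) ↔
        ∀ (X' : Over S) (x : X' ⟶ X) (h : X' ⟶ H), (x ≫ g) * (h ≫ u₁) * (x ≫ g)⁻¹ = h ≫ u₂ := by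
  have := hGa
  have := Groth.Agent.MultHopf.isClosedImmersion_one (G := G)
  have h₁ := Groth.Agent.MultHopf.isMultTypeLoc_of_ft hH
  have := Groth.Agent.MultHopf.quasiCompact_of_loc h₁
  obtain ⟨T, t, hc, hf, hT⟩ := Groth.Agent.MultHopf.exists_conjugates_closed
    (Groth.Agent.MultHopf.projChart_of_isMultTypeLoc H h₁) u₁ u₂
  exact ⟨T, t, hc, Groth.Agent.MultHopf.smooth_of_lifts t hG _ hT
    (Groth.Agent.MultHopf.lifts_conjugates h₁ hG u₁ u₂), hT⟩

end Groth.Agent.S5257
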