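import Groth.Statements.S5263
import Groth.Agent.WeilAff.DiagHom
import Groth.Agent.WeilAff.HomBC
import Groth.Agent.WeilAff.MultFlat
import Groth.Agent.MultHopf.HomLocus
import Groth.Agent.FpqcDescent.Basic
-- import your own Groth.Agent.* helpers here

set_option autoImplicit false
open CategoryTheory MonoidalCategory CartesianMonoidalCategory MonObj GrpObj AlgebraicGeometry
universe u
open SGA3x

namespace Groth.Agent.S5263

open CategoryTheory.Limits Groth.Agent.MultHopf

/-- Let G and H be S-groups of multiplicative type which are finite over S. Then the functor of group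
homomorphisms from G to H is representable by an S-scheme which is finite and etale over S (with its
universal family of homomorphisms). -/
theorem result {S : Scheme.{u}} (G H : Over S) [GrpObj G] [GrpObj H]
    (hG : SGA3x.IsMultTypeFT G) [IsFinite G.hom] (hH : SGA3x.IsMultTypeFT H) [IsFinite H.hom] :
    ∃ (A : Over S) (υ : G ⊗ A ⟶ H), AutFam.RepresentsHom G H A υ ∧ IsFinite A.hom ∧ Etale A.hom := by
  classical
  haveI := Groth.Agent.WeilAff.flat_of_isMultTypeFT G hG
  haveI := Groth.Agent.WeilAff.locallyOfFinitePresentation_of_isMultTypeFT G hG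
  obtain ⟨A, υ, hυ, hAa, -, -⟩ := Groth.Agent.WeilAff.exists_representsHom G H
  haveI := hAa
  refine ⟨A, υ, hυ, ?_⟩
  obtain ⟨S', f, hfl, hsurj, hcov, hloc⟩ := exists_common_cover G H hG hH
  haveI := hfl
  haveI := hsurj
  -- charts
  have hchart : ∀ x : S', ∃ (R : Type u) (_ : CommRing R) (k : Spec (CommRingCat.of R) ⟶ S') (_ : IsOpenImmersion k),
      x ∈ Set.range k ∧ IsFinite (pullback.snd A.hom (k ≫ f)) ∧ Etale (pullback.snd A.hom (k ≫ f)) := by
    intro x
    obtain ⟨U, hxU, M, iM, M', iM', hM, hM', ⟨eG⟩, ⟨eH⟩⟩ := hloc x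
    obtain ⟨W, hW, hxW, hWU⟩ := exists_isAffineOpen_mem_and_subset hxU
    let R : Type u := Γ(S', W)
    let g : Spec (CommRingCat.of R) ⟶ U.toScheme := hW.isoSpec.inv ≫ S'.homOfLE hWU
    have hg : hW.fromSpec ≫ f = g ≫ U.ι ≫ f := by
      simp only [g, Category.assoc, Scheme.homOfLE_ι_assoc]
      rfl
    let t := Limits.IsTerminal.from specULiftZIsTerminal U.toScheme
    let MG : Type u := ULift.{u} (Multiplicative M)
    let MH : Type u := ULift.{u} (Multiplicative M')
    let eA : Grp.mk (Red.bc (hW.fromSpec ≫ f) G) ≅ Grp.mk (hspec R (MonoidAlgebra R MG)) :=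
      bcCongr hg G ≪≫ bcComp g _ G ≪≫ bcIso g eG ≪≫ (bcComp g t _).symm ≪≫ bcDiag _ _ _ M
    let eB : Grp.mk (Red.bc (hW.fromSpec ≫ f) H) ≅ Grp.mk (hspec R (MonoidAlgebra R MH)) :=
      bcCongr hg H ≪≫ bcComp g _ H ≪≫ bcIso g eH ≪≫ (bcComp g t _).symm ≪≫ bcDiag _ _ _ M'
    refine ⟨R, inferInstance, hW.fromSpec, hW.isOpenImmersion_fromSpec, hW.range_fromSpec ▸ hxW, ?_⟩
    haveI : Nontrivial R := by
      have : Nonempty (Spec (CommRingCat.of R)) := by
        have hxr : x ∈ Set.range hW.fromSpec := hW.range_fromSpec ▸ hxW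
        obtain ⟨y, -⟩ := hxr
        exact ⟨y⟩
      exact PrimeSpectrum.nonempty_iff_nontrivial.1 this
    have hfinM : ∀ (K : Over S) [GrpObj K] [IsFinite K.hom] (N : Type u) [CommGroup N]
        (e : Grp.mk (Red.bc (hW.fromSpec ≫ f) K) ≅ Grp.mk (hspec R (MonoidAlgebra R N))), Finite N := by
      intro K _ _ N _ e
      let w : Red.bc (hW.fromSpec ≫ f) K ≅ hspec R (MonoidAlgebra R N) := (Grp.forget _).mapIso e
      haveI : IsIso w.inv.left := ((Over.forget _).mapIso w.symm).isIso_hom
      have h1 : IsFinite (pullback.snd K.hom (hW.fromSpec ≫ f)) :=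
        MorphismProperty.pullback_snd (P := @IsFinite) _ _ inferInstance
      have h2 : IsFinite (hspec R (MonoidAlgebra R N)).hom := by
        rw [← Over.w w.inv]
        exact MorphismProperty.comp_mem @IsFinite _ _ inferInstance h1
      haveI : Module.Finite R (MonoidAlgebra R N) := RingHom.finite_algebraMap.1 ((IsFinite.SpecMap_iff _).1 h2)
      exact Module.Finite.finite_basis (MonoidAlgebra.basis N R)
    haveI : Finite MG := hfinM G MG eA
    haveI : Finite MH := hfinM H MH eB
    obtain ⟨υ', hυ'⟩ := Groth.Agent.WeilAff.representsHom_bc (hW.fromSpec ≫ f) υ hυ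
    haveI : IsAffineHom (Red.bc (hW.fromSpec ≫ f) G).hom := MorphismProperty.pullback_snd (P := @IsAffineHom) _ _ inferInstance
    haveI : IsAffineHom (Red.bc (hW.fromSpec ≫ f) A).hom := MorphismProperty.pullback_snd (P := @IsAffineHom) _ _ hAa
    let idIso : ∀ (K : Over S) [GrpObj K], Grp.mk (Red.bc (𝟙 _) (Red.bc (hW.fromSpec ≫ f) K)) ≅ Grp.mk (Red.bc (hW.fromSpec ≫ f) K) :=
      fun K _ => (bcComp (𝟙 _) _ K).symm ≪≫ bcCongr (Category.id_comp _) K
    have hfe := Groth.Agent.WeilAff.finite_etale_of_chart (𝟙 (Spec (CommRingCat.of R)))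
      (idIso G ≪≫ eA) (idIso H ≪≫ eB) (Red.bc (hW.fromSpec ≫ f) A) υ' hυ'
    have hsnd : pullback.snd (Red.bc (hW.fromSpec ≫ f) A).hom (𝟙 (Spec (CommRingCat.of R))) =
        pullback.fst (Red.bc (hW.fromSpec ≫ f) A).hom (𝟙 _) ≫ pullback.snd A.hom (hW.fromSpec ≫ f) := by
      refine Eq.trans ?_ pullback.condition.symm
      rw [Category.comp_id]
    rw [hsnd] at hfe
    exact ⟨(MorphismProperty.cancel_left_of_respectsIso (P := @IsFinite) _ _).1 hfe.1,
      (MorphismProperty.cancel_left_of_respectsIso (P := @Etale) _ _).1 hfe.2⟩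
  -- descent
  have main : ∀ (P : MorphismProperty Scheme.{u}) [IsZariskiLocalAtTarget P] [P.IsStableUnderBaseChange]
      [P.DescendsAlong (@Surjective ⊓ @Flat ⊓ @QuasiCompact)],
      (∀ (R : Type u) [CommRing R] (k : Spec (CommRingCat.of R) ⟶ S') [IsOpenImmersion k],
        IsFinite (pullback.snd A.hom (k ≫ f)) → Etale (pullback.snd A.hom (k ≫ f)) → P (pullback.snd A.hom (k ≫ f))) →
      P A.hom := by
    intro P _ _ _ hP
    choose R iR k hk hxk hfin het using hchart
    let 𝒰 : S'.OpenCover := Scheme.openCoverOfIsOpenCover S' (fun x : S' => (k x).opensRange)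
      (top_le_iff.1 fun x _ => TopologicalSpace.Opens.mem_iSup.2 ⟨x, hxk x⟩)
    have h' : P (pullback.snd A.hom f) := by
      refine IsZariskiLocalAtTarget.of_iSup_eq_top (P := P) (fun x : S' => (k x).opensRange)
        (top_le_iff.1 fun x _ => TopologicalSpace.Opens.mem_iSup.2 ⟨x, hxk x⟩) fun x => ?_
      have hbc : P (pullback.snd A.hom ((k x).opensRange.ι ≫ f)) := by
        let i := (k x).isoOpensRange
        have hi : i.inv ≫ k x = (k x).opensRange.ι := by simp [i]
        rw [← hi, Category.assoc]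
        rw [← MorphismProperty.cancel_left_of_respectsIso (P := P) (pullbackLeftPullbackSndIso A.hom (k x ≫ f) i.inv).hom,
          pullbackLeftPullbackSndIso_hom_snd]
        exact MorphismProperty.pullback_snd _ _ (hP (R x) (k x) (hfin x) (het x))
      rw [← (isPullback_morphismRestrict (pullback.snd A.hom f) (k x).opensRange).flip.isoPullback_hom_snd,
        MorphismProperty.cancel_left_of_respectsIso (P := P),
        ← MorphismProperty.cancel_left_of_respectsIso (P := P)
          (pullbackLeftPullbackSndIso A.hom f (k x).opensRange.ι).inv, pullbackLeftPullbackSndIso_inv_snd_snd]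
      exact hbc
    exact Groth.Agent.WeilAff.descend_fpqcCover P f hcov A.hom h'
  exact ⟨main @IsFinite fun _ _ _ _ h _ => h, main @Etale fun _ _ _ _ _ h => h⟩

end Groth.Agent.S5263
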