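import Groth.Statements.S5266
import Groth.Agent.MultHopf.FreeAct
-- import your own Groth.Agent.* helpers here

set_option autoImplicit false
open CategoryTheory MonoidalCategory CartesianMonoidalCategory MonObj GrpObj AlgebraicGeometry
universe u
open SGA3x

namespace Groth.Agent.S5266

set_option backward.isDefEq.respectTransparency.types false
open Limits Groth.Agent.MultHopf

theorem disjoint_range_ι {I : Type u} {T : Scheme.{u}} {a b : I} (h : a ≠ b) :
    Disjoint (Set.range (Sigma.ι (fun _ : I => T) a)) (Set.range (Sigma.ι (fun _ : I => T) b)) := by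
  rw [Set.disjoint_left]
  rintro _ ⟨x, rfl⟩ ⟨y, hy⟩
  have h2 := (AlgebraicGeometry.sigmaMk (fun _ : I => T)).injective
    (a₁ := ⟨b, y⟩) (a₂ := ⟨a, x⟩) (by rw [AlgebraicGeometry.sigmaMk_mk, AlgebraicGeometry.sigmaMk_mk]; exact hy)
  exact h (congrArg Sigma.fst h2).symm

theorem isFinite_affine {R : CommRingCat.{u}} {I : Type u} {Z : Scheme.{u}} [CompactSpace Z]
    (q : Z ⟶ ∐ fun _ : I => Spec R) [IsClosedImmersion q] :
    IsFinite (q ≫ Sigma.desc fun _ : I => 𝟙 (Spec R)) := by
  classical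
  obtain ⟨J, hJ⟩ := isCompact_univ.elim_finite_subcover (fun i : I => q ⁻¹' Set.range (Sigma.ι (fun _ : I => Spec R) i))
    (fun i => ((Sigma.ι (fun _ : I => Spec R) i).isOpenEmbedding.isOpen_range).preimage q.continuous)
    (fun z _ => by
      obtain ⟨⟨i, y⟩, hy⟩ := (AlgebraicGeometry.sigmaMk (fun _ : I => Spec R)).surjective (q z)
      rw [AlgebraicGeometry.sigmaMk_mk] at hy
      exact Set.mem_iUnion.2 ⟨i, y, hy⟩)
  let incl : (∐ fun _ : J => Spec R) ⟶ ∐ fun _ : I => Spec R := Sigma.desc fun j : J => Sigma.ι (fun _ : I => Spec R) j.1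
  have : IsOpenImmersion incl := isOpenImmersion_sigmaDesc _ (fun j : J => Sigma.ι (fun _ : I => Spec R) j.1)
    fun a b hab => disjoint_range_ι (fun h => hab (Subtype.ext h))
  have hr : Set.range q ⊆ Set.range incl := by
    rintro _ ⟨z, rfl⟩
    obtain ⟨j, hjJ, y, hy⟩ := Set.mem_iUnion₂.1 (hJ (Set.mem_univ z))
    exact ⟨Sigma.ι (fun _ : J => Spec R) ⟨j, hjJ⟩ y, by rw [← Scheme.Hom.comp_apply, Sigma.ι_desc]; exact hy⟩
  let q' : Z ⟶ ∐ fun _ : J => Spec R := IsOpenImmersion.lift incl q hr
  have hq : q' ≫ incl = q := IsOpenImmersion.lift_fac _ _ _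
  have : IsClosedImmersion (q' ≫ incl) := hq ▸ inferInstance
  have : IsClosedImmersion q' := IsClosedImmersion.of_comp q' incl
  have e : incl ≫ (Sigma.desc fun _ : I => 𝟙 (Spec R)) =
      sigmaSpec (fun _ : J => R) ≫ Spec.map (CommRingCat.ofHom (RingHom.pi fun _ : J => RingHom.id R)) := by
    refine Sigma.hom_ext _ _ fun j => ?_
    rw [← Category.assoc, ← Category.assoc, Sigma.ι_desc, Sigma.ι_desc, ι_sigmaSpec, ← Spec.map_comp]
    exact (Spec.map_id R).symm
  have : IsFinite (Spec.map (CommRingCat.ofHom (RingHom.pi fun _ : J => RingHom.id R))) := by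
    rw [IsFinite.SpecMap_iff]
    exact RingHom.finite_algebraMap.2 (inferInstance : Module.Finite R (J → R))
  rw [← hq, Category.assoc, e]
  infer_instance

theorem isFinite_const {T : Scheme.{u}} {I : Type u} {Z : Scheme.{u}}
    (q : Z ⟶ ∐ fun _ : I => T) [IsClosedImmersion q] [QuasiCompact (q ≫ Sigma.desc fun _ : I => 𝟙 T)] :
    IsFinite (q ≫ Sigma.desc fun _ : I => 𝟙 T) := by
  refine (IsZariskiLocalAtTarget.iff_of_openCover (P := @IsFinite) T.affineOpenCover.openCover).2 fun k => ?_
  let R : CommRingCat.{u} := T.affineOpenCover.X k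
  let a : Spec R ⟶ T := T.affineOpenCover.f k
  let m := q ≫ Sigma.desc fun _ : I => 𝟙 T
  let A : (∐ fun _ : I => Spec R) ⟶ ∐ fun _ : I => T := Sigma.desc fun i => a ≫ Sigma.ι (fun _ : I => T) i
  have : ∀ i, IsOpenImmersion (a ≫ Sigma.ι (fun _ : I => T) i) := fun i => inferInstance
  have : IsOpenImmersion A := isOpenImmersion_sigmaDesc _ (fun i => a ≫ Sigma.ι (fun _ : I => T) i) fun i j hij =>
    (disjoint_range_ι hij).mono (by rintro _ ⟨x, rfl⟩; exact ⟨a x, (Scheme.Hom.comp_apply _ _ _).symm⟩)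
      (by rintro _ ⟨x, rfl⟩; exact ⟨a x, (Scheme.Hom.comp_apply _ _ _).symm⟩)
  let fs : pullback m a ⟶ Z := pullback.fst m a
  let sn : pullback m a ⟶ Spec R := pullback.snd m a
  have hr : Set.range (fs ≫ q) ⊆ Set.range A := by
    rintro _ ⟨w, rfl⟩
    obtain ⟨⟨i, y⟩, hy⟩ := (AlgebraicGeometry.sigmaMk (fun _ : I => T)).surjective ((fs ≫ q) w)
    rw [AlgebraicGeometry.sigmaMk_mk] at hy
    have h1 : y = a (sn w) := by
      have := congrArg (Sigma.desc fun _ : I => 𝟙 T) hy
      rw [← Scheme.Hom.comp_apply, Sigma.ι_desc, ← Scheme.Hom.comp_apply, Category.assoc,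
        show fs ≫ m = sn ≫ a from pullback.condition] at this
      exact this
    exact ⟨Sigma.ι (fun _ : I => Spec R) i (sn w), by
      rw [← Scheme.Hom.comp_apply, Sigma.ι_desc, Scheme.Hom.comp_apply, ← h1, hy]⟩
  let qk : pullback m a ⟶ ∐ fun _ : I => Spec R := IsOpenImmersion.lift A (fs ≫ q) hr
  have hqk : qk ≫ A = fs ≫ q := IsOpenImmersion.lift_fac _ _ _
  have hA : A ≫ (Sigma.desc fun _ : I => 𝟙 T) = (Sigma.desc fun _ : I => 𝟙 (Spec R)) ≫ a :=
    Sigma.hom_ext _ _ fun i => by simp [A]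
  have hsn : qk ≫ (Sigma.desc fun _ : I => 𝟙 (Spec R)) = sn := by
    rw [← cancel_mono a, Category.assoc, ← hA, ← Category.assoc, hqk, Category.assoc]
    exact pullback.condition
  have : IsImmersion (qk ≫ A) := hqk ▸ inferInstance
  have : IsImmersion qk := IsImmersion.of_comp qk A
  have hclosed : IsClosed (Set.range qk) := by
    suffices h : Set.range qk = A ⁻¹' Set.range q from h ▸ q.isClosedEmbedding.isClosed_range.preimage A.continuous
    apply Set.Subset.antisymm
    · rintro _ ⟨w, rfl⟩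
      exact ⟨fs w, by rw [← Scheme.Hom.comp_apply, ← Scheme.Hom.comp_apply, hqk]⟩
    · rintro y ⟨z, hz⟩
      obtain ⟨w, hw, -⟩ := Scheme.Pullback.exists_preimage_pullback (f := m) (g := a) z
        ((Sigma.desc fun _ : I => 𝟙 (Spec R)) y) (by
          show (q ≫ Sigma.desc fun _ : I => 𝟙 T) z = _
          rw [Scheme.Hom.comp_apply, hz, ← Scheme.Hom.comp_apply, hA, Scheme.Hom.comp_apply])
      refine ⟨w, A.isOpenEmbedding.injective ?_⟩
      rw [← Scheme.Hom.comp_apply, hqk, Scheme.Hom.comp_apply, show fs w = z from hw, hz]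
  have : IsClosedImmersion qk := IsClosedImmersion.of_isPreimmersion qk hclosed
  have : CompactSpace ↥(pullback m a) := QuasiCompact.compactSpace_of_compactSpace sn
  show IsFinite sn
  rw [← hsn]
  exact isFinite_affine qk

/-- Let R be a twisted constant S-scheme (fpqc-locally on S isomorphic to a constant scheme, the index
set being allowed to vary) and Z a closed subscheme of R which is quasi-compact over S. Then Z is
finite over S. -/
theorem result {S : Scheme.{u}} (R : Over S) (hR : TwC.IsTwConst TwC.Topology.fpqc R)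
    {Z : Scheme.{u}} (z : Z ⟶ R.left) [IsClosedImmersion z] [QuasiCompact (z ≫ R.hom)] :
    IsFinite (z ≫ R.hom) := by
  obtain ⟨S', f, hfl, hsurj, hcov, hloc⟩ := hR
  let m : Over S := Over.mk (z ≫ R.hom)
  let w : m ⟶ R := Over.homMk z
  let t : Over S := Over.mk (𝟙 S)
  let wt : m ⟶ t := Over.homMk (z ≫ R.hom) (Category.comp_id _)
  show IsFinite wt.left
  have hqc : QuasiCompact wt.left := ‹_›
  choose U hU I he using hloc
  refine of_locally_base @IsFinite wt
    (S.openCoverOfIsOpenCover (fun V : S.affineOpens => V.1) (iSup_affineOpens_eq_top S)) fun V => ?_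
  obtain ⟨V, hV⟩ := V
  obtain ⟨W, hWc, hWV⟩ := hcov V hV
  have hle : W ≤ f ⁻¹ᵁ V := fun w hw => hWV.le ⟨w, hw, rfl⟩
  let b : W.toScheme ⟶ V.toScheme := f.resLE V W hle
  have hb : b ≫ V.ι = W.ι ≫ f := Scheme.Hom.resLE_comp_ι f hle
  have : IsAffine V.toScheme := hV
  have : CompactSpace W.toScheme := isCompact_iff_compactSpace.1 hWc
  have : QuasiCompact b := inferInstance
  have : Flat b := MorphismProperty.of_postcomp (W := @Flat) (W' := @IsOpenImmersion) b V.ι
    inferInstance (hb ▸ inferInstance)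
  have : Surjective b := ⟨fun v => by
    obtain ⟨w, hw, hwv⟩ := hWV.ge v.2
    refine ⟨⟨w, hw⟩, V.ι.isOpenEmbedding.injective ?_⟩
    rw [← Scheme.Hom.comp_apply, hb, Scheme.Hom.comp_apply]
    exact hwv⟩
  show IsFinite ((Over.pullback V.ι).map wt).left
  refine of_fpqc_base @IsFinite (U := W.toScheme) (S := V.toScheme) _ b ((map_comp_iff @IsFinite b _ wt).1 ?_)
  show IsFinite ((Over.pullback (b ≫ V.ι)).map wt).left
  rw [hb]
  refine (map_comp_iff @IsFinite W.ι f wt).2 ?_
  refine MorphismProperty.of_isPullback (isPullback_map_left W.ι _) ?_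
  have hsup : (⨆ x, U x) = ⊤ := top_le_iff.1 fun y _ => TopologicalSpace.Opens.mem_iSup.2 ⟨y, hU y⟩
  refine of_locally_base @IsFinite _ (S'.openCoverOfIsOpenCover U hsup) fun x => ?_
  refine (map_comp_iff @IsFinite _ f wt).1 ?_
  show IsFinite ((Over.pullback ((U x).ι ≫ f)).map wt).left
  let g := (U x).ι ≫ f
  obtain ⟨e⟩ := he x
  have : IsIso e.hom.left := inferInstanceAs (IsIso ((Over.forget _).map e.hom))
  let q := ((Over.pullback g).map w).left ≫ e.hom.left
  have : IsClosedImmersion ((Over.pullback g).map w).left :=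
    MorphismProperty.of_isPullback (isPullback_map_left g w) (inferInstanceAs (IsClosedImmersion z))
  have : IsClosedImmersion q := inferInstanceAs (IsClosedImmersion (_ ≫ _))
  have : QuasiCompact ((Over.pullback g).map wt).left :=
    MorphismProperty.of_isPullback (isPullback_map_left g wt) hqc
  have h1 : ((Over.pullback g).map wt).left ≫ pullback.snd t.hom g = q ≫ Sigma.desc fun _ => 𝟙 _ := by
    have ea : ((Over.pullback g).map w).left ≫ pullback.snd R.hom g = pullback.snd m.hom g := pullback.lift_snd _ _ _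
    have eb : ((Over.pullback g).map wt).left ≫ pullback.snd t.hom g = pullback.snd m.hom g := pullback.lift_snd _ _ _
    have ec : e.hom.left ≫ (TwC.const (U x).toScheme (I x)).hom = pullback.snd R.hom g := Over.w e.hom
    exact eb.trans ((ea.symm.trans (congrArg _ ec.symm)).trans (Category.assoc _ _ _).symm)
  have : IsIso t.hom := inferInstanceAs (IsIso (𝟙 S))
  have : IsIso (pullback.snd t.hom g) := inferInstance
  have : QuasiCompact (q ≫ Sigma.desc fun _ : I x => 𝟙 (U x).toScheme) := h1 ▸ inferInstance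
  have hfin := isFinite_const q
  rw [← h1] at hfin
  exact (MorphismProperty.cancel_right_of_respectsIso (P := @IsFinite) _ _).1 hfin

end Groth.Agent.S5266
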