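import Groth.Statements.S5267
import Mathlib
import Groth.Agent.S5266
-- import your own Groth.Agent.* helpers here

set_option autoImplicit false
set_option backward.isDefEq.respectTransparency.types false
open CategoryTheory MonoidalCategory CartesianMonoidalCategory MonObj GrpObj AlgebraicGeometry
universe u
open SGA3x

namespace Groth.Agent.S5267

open CategoryTheory CategoryTheory.Limits in
theorem isOpen_connectedComponent_of_noetherian {α : Type*} [TopologicalSpace α] [TopologicalSpace.NoetherianSpace α]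
    (x : α) : IsOpen (connectedComponent x) := by
  rw [← isClosed_compl_iff]
  have : (connectedComponent x)ᶜ = ⋃ C ∈ {C ∈ irreducibleComponents α | Disjoint C (connectedComponent x)}, C := by
    ext y
    refine ⟨fun hy => ?_, fun hy => ?_⟩
    · refine Set.mem_biUnion (x := irreducibleComponent y) ⟨irreducibleComponent_mem_irreducibleComponents y, ?_⟩ mem_irreducibleComponent
      rw [Set.disjoint_left]
      intro w hw hwx
      apply hy
      rw [connectedComponent_eq hwx]
      exact (isIrreducible_irreducibleComponent.isConnected.subset_connectedComponent hw) mem_irreducibleComponent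
    · obtain ⟨C, ⟨-, hd⟩, hyC⟩ := Set.mem_iUnion₂.1 hy
      exact Set.disjoint_left.1 hd hyC
  rw [this]
  exact (TopologicalSpace.NoetherianSpace.finite_irreducibleComponents.subset fun C hC => hC.1).isClosed_biUnion
    fun C hC => isClosed_of_mem_irreducibleComponents C hC.1

open CategoryTheory CategoryTheory.Limits in
theorem local_dichotomy {S : Scheme.{u}} [IsLocallyNoetherian S] (P : Over S) (hP : TwC.IsTwConst TwC.Topology.etale P)
    {Z : Scheme.{u}} (z : Z ⟶ P.left) [IsOpenImmersion z] [IsClosedImmersion z] (s : S) (V : S.Opens) (hV : s ∈ V) :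
    ∃ W : S.Opens, s ∈ W ∧ W ≤ V ∧
      ((∀ t ∈ W, ¬ Set.Finite ((z ≫ P.hom) ⁻¹' {t})) ∨
        ((∀ t ∈ W, Set.Finite ((z ≫ P.hom) ⁻¹' {t})) ∧ IsCompact ((z ≫ P.hom) ⁻¹' (W : Set S)))) := by
  classical
  obtain ⟨S', f, hf, ⟨s', hs'⟩, I, ⟨e⟩⟩ := hP s
  haveI := hf
  haveI : IsLocallyNoetherian S' := LocallyOfFiniteType.isLocallyNoetherian f
  obtain ⟨_, ⟨A', hA, rfl⟩, hsA, hAV⟩ := S'.isBasis_affineOpens.exists_subset_of_mem_open
    (show s' ∈ (f ⁻¹ᵁ V : Set S') from (show f s' ∈ V by rw [hs']; exact hV)) (f ⁻¹ᵁ V).isOpen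
  let A : S'.Opens := A'
  haveI : CompactSpace A.toScheme := isCompact_iff_compactSpace.1 (show IsCompact (A : Set S') from hA.isCompact)
  haveI : CompactSpace ↥A := ‹CompactSpace A.toScheme›
  haveI : IsNoetherian A.toScheme := ⟨⟩
  let Co : A.toScheme.Opens := ⟨connectedComponent ⟨s', hsA⟩, isOpen_connectedComponent_of_noetherian _⟩
  haveI : PreconnectedSpace Co.toScheme := by
    exact Subtype.preconnectedSpace isPreconnected_connectedComponent
  haveI : CompactSpace Co.toScheme := isCompact_iff_compactSpace.1 (isClosed_connectedComponent (x := (⟨s', hsA⟩ : A.toScheme))).isCompact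
  let a : Co.toScheme ⟶ S' := Co.ι ≫ A.ι
  let g : Co.toScheme ⟶ S := a ≫ f
  haveI : Etale g := inferInstance
  haveI : LocallyQuasiFinite f := by
    refine HasRingHomProperty.iff_appLE.2 fun U W h => ?_
    have := HasRingHomProperty.appLE (P := @Etale) f ‹_› U W h
    algebraize [(f.appLE U.1 W.1 h).hom]
    change Algebra.QuasiFinite _ _
    infer_instance
  haveI : LocallyQuasiFinite g := inferInstance
  haveI : QuasiCompact g := quasiCompact_of_compactSpace g
  let m := z ≫ P.hom
  let p := pullback.fst m g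
  let q := pullback.snd m g
  -- the pullback of `Z` as a clopen part of the constant scheme
  let j : pullback m g ⟶ pullback P.hom f := pullback.map m g P.hom f z a (𝟙 S) (by simp [m]) (by simp [g])
  haveI : IsIso e.hom.left := inferInstanceAs (IsIso ((Over.forget _).map e.hom))
  let ψ := j ≫ e.hom.left
  have hψ : ψ ≫ (Sigma.desc fun _ : I => 𝟙 S') = q ≫ a := by
    have h1 : e.hom.left ≫ (Sigma.desc fun _ : I => 𝟙 S') = pullback.snd P.hom f := Over.w e.hom
    simp only [ψ, Category.assoc, h1, j, pullback.map]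
    exact pullback.lift_snd _ _ _
  -- membership of the copies
  let M : I → Set Co.toScheme := fun i => {u | Sigma.ι (fun _ : I => S') i (a u) ∈ Set.range ψ}
  have hrange : Set.range ψ = (e.hom.left '' (pullback.fst P.hom f ⁻¹' Set.range z ∩ pullback.snd P.hom f ⁻¹' Set.range a)) := by
    rw [← Scheme.Pullback.range_map m g P.hom f z a (𝟙 S) (by simp [m]) (by simp [g]), ← Set.range_comp]
    rfl
  have hMeq : ∀ i, M i = (fun u => e.inv.left (Sigma.ι (fun _ : I => S') i (a u))) ⁻¹' (pullback.fst P.hom f ⁻¹' Set.range z) := by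
    intro i
    have inv1 : ∀ x, e.inv.left (e.hom.left x) = x := fun x => by
      rw [← Scheme.Hom.comp_apply, ← Over.comp_left, Iso.hom_inv_id, Over.id_left]; rfl
    have inv2 : ∀ x, e.hom.left (e.inv.left x) = x := fun x => by
      rw [← Scheme.Hom.comp_apply, ← Over.comp_left, Iso.inv_hom_id, Over.id_left]; rfl
    ext u
    simp only [M, Set.mem_setOf_eq, hrange, Set.mem_preimage]
    refine ⟨?_, fun h => ⟨_, ⟨h, ?_⟩, inv2 _⟩⟩
    · rintro ⟨x, ⟨hx, -⟩, hxe⟩
      rw [← hxe, inv1]; exact hx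
    · refine ⟨u, ?_⟩
      have h1 : e.inv.left ≫ pullback.snd P.hom f = Sigma.desc fun _ : I => 𝟙 S' := Over.w e.inv
      rw [← Scheme.Hom.comp_apply, h1, ← Scheme.Hom.comp_apply, Sigma.ι_desc]
      rfl
  have hclopen : ∀ i, IsClopen (M i) := fun i => by
    rw [hMeq i]
    exact (IsClopen.preimage ⟨z.isClosedEmbedding.isClosed_range, z.isOpenEmbedding.isOpen_range⟩
      (pullback.fst P.hom f).continuous).preimage
      (e.inv.left.continuous.comp ((Sigma.ι (fun _ : I => S') i).continuous.comp a.continuous))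
  let J : Set I := {i | M i = Set.univ}
  have hMJ : ∀ i u, u ∈ M i → i ∈ J := fun i u hu => (hclopen i).eq_univ ⟨u, hu⟩
  have hpts : ∀ w, ∃ i ∈ J, ψ w = Sigma.ι (fun _ : I => S') i (a (q w)) := by
    intro w
    obtain ⟨⟨i, v⟩, hv⟩ := (AlgebraicGeometry.sigmaMk (fun _ : I => S')).surjective (ψ w)
    rw [AlgebraicGeometry.sigmaMk_mk] at hv
    have hva : v = a (q w) := by
      have := congrArg (Sigma.desc fun _ : I => 𝟙 S') hv
      rw [← Scheme.Hom.comp_apply, Sigma.ι_desc, ← Scheme.Hom.comp_apply, hψ] at this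
      exact this
    subst hva
    exact ⟨i, hMJ i (q w) ⟨w, hv.symm⟩, hv.symm⟩
  haveI : IsOpenImmersion ψ := inferInstance
  have hψinj : Function.Injective ψ := ψ.isOpenEmbedding.injective
  have hainj : Function.Injective a := a.isOpenEmbedding.injective
  let W : S.Opens := ⟨Set.range g, g.isOpenMap.isOpen_range⟩
  refine ⟨W, ⟨⟨⟨s', hsA⟩, mem_connectedComponent⟩, hs'⟩, ?_, ?_⟩
  · rintro _ ⟨u, rfl⟩
    exact hAV (Co.ι u).2
  by_cases hJ : J.Finite
  · refine Or.inr ⟨?_, ?_⟩
    · rintro _ ⟨u, rfl⟩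
      have hsub : (m ⁻¹' {g u}) ⊆ p '' (ψ ⁻¹' ((fun i => Sigma.ι (fun _ : I => S') i (a u)) '' J)) := by
        intro x hx
        obtain ⟨w, hw1, hw2⟩ := Scheme.Pullback.exists_preimage_pullback (f := m) (g := g) x u hx
        obtain ⟨i, hi, hiw⟩ := hpts w
        exact ⟨w, ⟨i, hi, by rw [hiw, hw2]⟩, hw1⟩
      exact (((hJ.image _).preimage hψinj.injOn).image p).subset hsub
    · have hcpt : IsCompact (Set.range ψ) := by
        have : Set.range ψ = ⋃ i ∈ J, Set.range (fun u => Sigma.ι (fun _ : I => S') i (a u)) := by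
          ext x
          simp only [Set.mem_iUnion, Set.mem_range]
          constructor
          · rintro ⟨w, rfl⟩
            obtain ⟨i, hi, hiw⟩ := hpts w
            exact ⟨i, hi, q w, hiw.symm⟩
          · rintro ⟨i, hi, u, rfl⟩
            exact (Set.eq_univ_iff_forall.1 hi u : u ∈ M i)
        rw [this]
        exact hJ.isCompact_biUnion fun i _ =>
          isCompact_range ((Sigma.ι (fun _ : I => S') i).continuous.comp a.continuous)
      have h2 : IsCompact (Set.univ : Set ↑(pullback m g)) := by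
        rw [ψ.isOpenEmbedding.isInducing.isCompact_iff, Set.image_univ]; exact hcpt
      have h3 : m ⁻¹' (W : Set S) = Set.range p := (Scheme.Pullback.range_fst m g).symm
      rw [h3, ← Set.image_univ]
      exact h2.image p.continuous
  · refine Or.inl ?_
    rintro _ ⟨u, rfl⟩ hfin
    apply hJ
    have hfin2 : (p ⁻¹' (m ⁻¹' {g u})).Finite := p.finite_preimage hfin
    refine Set.Finite.of_finite_image (f := fun i => Sigma.ι (fun _ : I => S') i (a u)) ?_ ?_
    · refine (hfin2.image ψ).subset ?_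
      rintro _ ⟨i, hi, rfl⟩
      obtain ⟨w, hw⟩ := (Set.eq_univ_iff_forall.1 hi u : u ∈ M i)
      refine ⟨w, ?_, hw⟩
      have hqu : q w = u := hainj (by
        have := congrArg (Sigma.desc fun _ : I => 𝟙 S') hw
        rw [← Scheme.Hom.comp_apply, hψ, ← Scheme.Hom.comp_apply, Sigma.ι_desc] at this
        exact this)
      show m (p w) = g u
      rw [← Scheme.Hom.comp_apply, pullback.condition, Scheme.Hom.comp_apply]
      exact congrArg g hqu
    · intro i _ k _ h
      have := (AlgebraicGeometry.sigmaMk (fun _ : I => S')).injective (a₁ := ⟨i, a u⟩) (a₂ := ⟨k, a u⟩)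
        (by rw [AlgebraicGeometry.sigmaMk_mk, AlgebraicGeometry.sigmaMk_mk]; exact h)
      exact congrArg Sigma.fst this

open CategoryTheory CategoryTheory.Limits in
noncomputable def bcIso {S T T' : Scheme.{u}} {X : Over S} {I : Type u} (f : T ⟶ S) (φ : T' ⟶ T) (g : T' ⟶ S)
    (h : φ ≫ f = g) [IsIso φ] (e : Red.bc f X ≅ TwC.const T I) : Red.bc g X ≅ TwC.const T' I := by
  subst h
  refine (Over.pullbackComp φ f).app X ≪≫ (Over.pullback φ).mapIso e ≪≫ ?_
  let k : (∐ fun _ : I => T') ⟶ ∐ fun _ : I => T := Limits.Sigma.map fun _ => φ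
  haveI : IsIso k := by infer_instance
  exact Over.isoMk ((IsPullback.of_horiz_isIso (fst := k) (snd := Sigma.desc fun _ : I => 𝟙 T') (f := Sigma.desc fun _ : I => 𝟙 T) (g := φ)
    ⟨Sigma.hom_ext _ _ fun i => by simp [k]⟩).isoPullback).symm (by simp)

/-- Let S be a locally Noetherian connected scheme, P a quasi-isotrivial twisted constant S-scheme
(etale-locally on S isomorphic to a constant scheme) and Z an open and closed subscheme of P such
that for some s ∈ S the fibre Z_s is finite. Then Z is finite over S. -/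
theorem result {S : Scheme.{u}} [IsLocallyNoetherian S] [ConnectedSpace S]
    (P : Over S) (hP : TwC.IsTwConst TwC.Topology.etale P)
    {Z : Scheme.{u}} (z : Z ⟶ P.left) [IsOpenImmersion z] [IsClosedImmersion z]
    (hs : ∃ s : S, Set.Finite ((z ≫ P.hom).base ⁻¹' {s})) :
    IsFinite (z ≫ P.hom) := by
  let F : Set S := {t | Set.Finite ((z ≫ P.hom) ⁻¹' {t})}
  have hopen : IsOpen F := isOpen_iff_forall_mem_open.2 fun t ht => by
    obtain ⟨W, htW, -, h | ⟨h, -⟩⟩ := local_dichotomy P hP z t ⊤ trivial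
    · exact absurd ht (h t htW)
    · exact ⟨W, h, W.isOpen, htW⟩
  have hclosed : IsClosed F := by
    rw [← isOpen_compl_iff]
    refine isOpen_iff_forall_mem_open.2 fun t ht => ?_
    obtain ⟨W, htW, -, h | ⟨h, -⟩⟩ := local_dichotomy P hP z t ⊤ trivial
    · exact ⟨W, h, W.isOpen, htW⟩
    · exact absurd (h t htW) ht
  obtain ⟨s, hs⟩ := hs
  have huniv : ∀ t, t ∈ F := Set.eq_univ_iff_forall.1 ((show IsClopen F from ⟨hclosed, hopen⟩).eq_univ ⟨s, hs⟩)
  haveI : QuasiCompact (z ≫ P.hom) := by
    refine quasiCompact_iff_forall_isAffineOpen.2 fun V hV => ?_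
    choose W hW hWV hd using fun t : V => local_dichotomy P hP z t.1 V t.2
    have hWc : ∀ t, IsCompact ((z ≫ P.hom) ⁻¹' (W t : Set S)) := fun t => (hd t).elim
      (fun h => absurd (huniv t.1) (h _ (hW t))) And.right
    obtain ⟨T, hT⟩ := hV.isCompact.elim_finite_subcover (fun t : V => (W t : Set S)) (fun t => (W t).isOpen)
      (fun x hx => Set.mem_iUnion.2 ⟨⟨x, hx⟩, hW _⟩)
    have : (z ≫ P.hom) ⁻¹' (V : Set S) = ⋃ t ∈ T, (z ≫ P.hom) ⁻¹' (W t : Set S) := by
      refine Set.Subset.antisymm (fun x hx => ?_) (fun x hx => ?_)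
      · obtain ⟨t, ht, hxt⟩ := Set.mem_iUnion₂.1 (hT hx)
        exact Set.mem_iUnion₂.2 ⟨t, ht, hxt⟩
      · obtain ⟨t, ht, hxt⟩ := Set.mem_iUnion₂.1 hx
        exact hWV t hxt
    show IsCompact ((z ≫ P.hom) ⁻¹' (V : Set S))
    rw [this]
    exact T.finite_toSet.isCompact_biUnion fun t _ => hWc t
  refine S5266.result P ?_ z
  -- étale-locally constant schemes are fpqc-locally constant
  choose S' f hf hfs I hI using hP
  haveI := hf
  let g : (∐ S') ⟶ S := Limits.Sigma.desc f
  haveI : Etale g := IsZariskiLocalAtSource.sigmaDesc hf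
  have gs : Function.Surjective g := fun t => by
    obtain ⟨y, hy⟩ := hfs t
    exact ⟨Limits.Sigma.ι S' t y, by rw [← Scheme.Hom.comp_apply]; simpa [g] using hy⟩
  refine ⟨_, g, inferInstance, ⟨gs⟩, ?_, ?_⟩
  · intro V hV
    obtain ⟨W, hW, e⟩ := g.isOpenMap.exists_opens_image_eq_of_prespectralSpace g.continuous
      (U := (V : Set S)) (fun x _ => gs x) V.isOpen hV.isCompact
    exact ⟨W, hW, e⟩
  · intro y
    obtain ⟨⟨t, v⟩, rfl⟩ := (AlgebraicGeometry.sigmaMk S').surjective y
    refine ⟨(Limits.Sigma.ι S' t).opensRange, ⟨v, by rw [AlgebraicGeometry.sigmaMk_mk]⟩, I t, ?_⟩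
    obtain ⟨e⟩ := hI t
    let φ := (Limits.Sigma.ι S' t).isoOpensRange
    have hφ : φ.inv ≫ f t = (Limits.Sigma.ι S' t).opensRange.ι ≫ g := by
      rw [Iso.inv_comp_eq, ← Category.assoc, Scheme.Hom.isoOpensRange_hom_ι, Limits.Sigma.ι_desc]
    exact ⟨Groth.Agent.S5267.bcIso (f t) φ.inv _ hφ e⟩

end Groth.Agent.S5267
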