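import Groth.Statements.S5270
import Groth.Agent.MultHopf.Rigid
import Mathlib.RingTheory.AdicCompletion.Basic
import Mathlib.RingTheory.Filtration
-- import your own Groth.Agent.* helpers here

set_option autoImplicit false
universe u
open TensorProduct SGA3b
open SGA3b

namespace Groth.Agent.S5270

/-- Injectivity of the map to formal homomorphisms. Let A be a Noetherian ring, separated and complete
for the I-adic topology, H = Spec B an isotrivial A-group of multiplicative type and G = Spec C an
affine A-group. If two homomorphisms H ⟶ G, given by bialgebra maps φ, ψ : C → B, have the same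
reduction modulo I^(n+1) for every n ≥ 0, then φ = ψ. (Affine group schemes over an affine base are
taken in Hopf-algebra form; base change is the tensor product; a homomorphism of groups Spec A ⟶
Spec C is a bialgebra map C → A.) -/
theorem result (A : Type u) [CommRing A] [IsNoetherianRing A] (I : Ideal A) [IsAdicComplete I A]
    (B : Type u) [CommRing B] [HopfAlgebra A B] (hH : IsIsotrivial A B)
    (C : Type u) [CommRing C] [HopfAlgebra A C] (φ ψ : C →ₐc[A] B)
    (h : ∀ (n : ℕ) (c : C), (1 : A ⧸ I ^ (n + 1)) ⊗ₜ[A] (φ c) = (1 : A ⧸ I ^ (n + 1)) ⊗ₜ[A] (ψ c)) :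
    φ = ψ := by
  obtain ⟨R', _, _, -, _, hff, M, _, ⟨e⟩⟩ := hH
  ext c
  rw [← sub_eq_zero]
  apply Module.FaithfullyFlat.tensorProduct_mk_injective (A := A) (B := R') B
  apply (e : R' ⊗[A] B ≃ₐ[R'] MonoidAlgebra R' M).injective
  rw [map_zero, map_zero]
  ext m
  have hbot : (⨅ n : ℕ, I ^ n • (⊤ : Submodule A R')) = ⊥ :=
    Ideal.iInf_pow_smul_eq_bot_of_le_jacobson I (IsAdicComplete.le_jacobson_bot I)
  rw [MonoidAlgebra.coeff_zero, Finsupp.zero_apply, ← Submodule.mem_bot A, ← hbot, Submodule.mem_iInf]
  intro n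
  refine Submodule.smul_mono_left (Ideal.pow_le_pow_right n.le_succ) ?_
  rw [Ideal.smul_top_eq_map, Submodule.restrictScalars_mem]
  refine MultHopf.coeff_mem_of_mem_map _ ?_ m
  let θ : B →ₐ[A] MonoidAlgebra R' M :=
    ((e : R' ⊗[A] B →ₐ[R'] MonoidAlgebra R' M).restrictScalars A).comp Algebra.TensorProduct.includeRight
  have hd := (MultHopf.quot_tmul_eq_iff (I ^ (n + 1)) _ _).1 (h n c)
  rw [Ideal.map_map, ← IsScalarTower.algebraMap_eq, ← AlgHom.comp_algebraMap θ, ← Ideal.map_map]
  exact Ideal.mem_map_of_mem (θ : B →+* MonoidAlgebra R' M) hd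

end Groth.Agent.S5270
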