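import Groth.Statements.S5275
import Groth.Agent.MultHopf.HomLocus
-- import your own Groth.Agent.* helpers here

set_option autoImplicit false
open CategoryTheory MonoidalCategory CartesianMonoidalCategory MonObj GrpObj AlgebraicGeometry
universe u
open SGA3x

namespace Groth.Agent.S5275

set_option backward.isDefEq.respectTransparency.types false
open Limits Groth.Agent.MultHopf

/-- Let u : G ⟶ H be a homomorphism of S-groups of multiplicative type and of finite type. Then the set
U of points s ∈ S such that u_s : G_s ⟶ H_s is an isomorphism is open and closed in S, and the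
homomorphism G|_U ⟶ H|_U induced above U is an isomorphism. -/
theorem result {S : Scheme.{u}} (G H : Over S) [GrpObj G] [GrpObj H]
    (hG : SGA3x.IsMultTypeFT G) (hH : SGA3x.IsMultTypeFT H) (u : G ⟶ H) [IsMonHom u] :
    ∃ U : S.Opens, IsClosed (U : Set S) ∧
      (∀ s : S, s ∈ U ↔ IsIso ((Over.pullback (S.fromSpecResidueField s)).map u).left) ∧
      IsIso ((Over.pullback U.ι).map u).left := by
  refine exists_clopen_locus (MorphismProperty.isomorphisms Scheme.{u}) (fun θ => Function.Bijective θ)
    (fun R _ M' M _ _ θ h => ?_) (fun K _ M' M _ _ θ h => ?_) G H hG hH u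
  · let e := MulEquiv.ofBijective θ h
    have hb : Function.Bijective (MonoidAlgebra.mapDomainAlgHom R R θ) :=
      ⟨MonoidAlgebra.mapDomain_injective h.1, mapDomain_surjective' R θ h.2⟩
    show IsIso _
    have : IsIso (CommRingCat.ofHom (MonoidAlgebra.mapDomainAlgHom R R θ).toRingHom) :=
      (ConcreteCategory.isIso_iff_bijective _).2 hb
    infer_instance
  · have hi : IsIso (Spec.map (CommRingCat.ofHom (MonoidAlgebra.mapDomainAlgHom K K θ).toRingHom)) := h
    refine ⟨injective_of_injective_mapDomain K θ ?_, surjective_of_mono K θ inferInstance⟩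
    have : IsIso (CommRingCat.ofHom (MonoidAlgebra.mapDomainAlgHom K K θ).toRingHom) := by
      have h1 : IsIso (Scheme.Spec.map (CommRingCat.ofHom (MonoidAlgebra.mapDomainAlgHom K K θ).toRingHom).op) := hi
      have h2 := isIso_of_fully_faithful Scheme.Spec (CommRingCat.ofHom (MonoidAlgebra.mapDomainAlgHom K K θ).toRingHom).op
      exact isIso_of_op _
    exact ((ConcreteCategory.isIso_iff_bijective _).1 this).1

end Groth.Agent.S5275
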