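import Groth.Statements.S5278
import Mathlib.AlgebraicGeometry.Morphisms.QuasiFinite
import Mathlib.AlgebraicGeometry.Morphisms.UniversallyOpen
import Mathlib.AlgebraicGeometry.ZariskisMainTheorem
-- import your own Groth.Agent.* helpers here

set_option autoImplicit false
open CategoryTheory AlgebraicGeometry
universe u
open SGA3x

namespace Groth.Agent.S5278

/-- Let X be a connected scheme, f : X' ⟶ X a finite etale morphism and x a point of X. Then every
connected component of X' meets the fibre of f over x; equivalently the map from the connected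
components of the fibre (or of the geometric fibre) to those of X' is surjective. -/
theorem result {X X' : Scheme.{u}} [ConnectedSpace X] (f : X' ⟶ X)
    [IsFinite f] [Etale f] (x : X) (c : X') :
    ∃ x' : X', f.base x' = x ∧ x' ∈ connectedComponent c := by
  classical
  have hfib : (f.base ⁻¹' {x}).Finite := f.finite_preimage_singleton x
  let 𝒲 : Set (Set X') := {W | IsClopen W ∧ c ∈ W}
  let n := fun W : Set X' => (W ∩ f.base ⁻¹' {x}).ncard
  have hne : ∀ W : Set X', IsClopen W → W.Nonempty → ∃ x' ∈ W, f.base x' = x := by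
    intro W hW hWne
    have h1 : IsClopen (f.base '' W) := ⟨f.isClosedMap _ hW.1, f.isOpenMap _ hW.2⟩
    rcases isClopen_iff.1 h1 with h | h
    · exact absurd h (Set.nonempty_iff_ne_empty.1 (hWne.image _))
    · obtain ⟨x', hx', e⟩ := h.ge (Set.mem_univ x)
      exact ⟨x', hx', e⟩
  obtain ⟨W, hW, hmin⟩ : ∃ W ∈ 𝒲, ∀ W' ∈ 𝒲, n W ≤ n W' := by
    have hex : ∃ k, ∃ W ∈ 𝒲, n W = k := ⟨_, Set.univ, ⟨isClopen_univ, trivial⟩, rfl⟩
    obtain ⟨W, hW, hn⟩ := Nat.find_spec hex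
    exact ⟨W, hW, fun W' hW' => hn.le.trans (Nat.find_min' hex ⟨W', hW', rfl⟩)⟩
  obtain ⟨x', hx'W, hx'⟩ := hne W hW.1 ⟨c, hW.2⟩
  refine ⟨x', hx', ?_⟩
  suffices hcon : _root_.IsPreconnected W from hcon.subset_connectedComponent hW.2 hx'W
  rw [isPreconnected_iff_subset_of_fully_disjoint_closed hW.1.1]
  intro A B hA hB hsub hd
  by_contra hne2
  push_neg at hne2
  obtain ⟨hA', hB'⟩ := hne2
  have hAo : IsClopen (W ∩ A) := ⟨hW.1.1.inter hA, by
    have : W ∩ A = W ∩ Bᶜ := Set.ext fun z => ⟨fun h => ⟨h.1, fun hz => Set.disjoint_left.1 hd h.2 hz⟩,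
      fun h => ⟨h.1, (hsub h.1).resolve_right h.2⟩⟩
    rw [this]; exact hW.1.2.inter hB.isOpen_compl⟩
  have hBo : IsClopen (W ∩ B) := ⟨hW.1.1.inter hB, by
    have : W ∩ B = W ∩ Aᶜ := Set.ext fun z => ⟨fun h => ⟨h.1, fun hz => Set.disjoint_left.1 hd hz h.2⟩,
      fun h => ⟨h.1, (hsub h.1).resolve_left h.2⟩⟩
    rw [this]; exact hW.1.2.inter hA.isOpen_compl⟩
  have key : ∀ W₁ W₂ : Set X', IsClopen W₁ → IsClopen W₂ → W₁ ⊆ W → W₂ ⊆ W → Disjoint W₁ W₂ → c ∈ W₁ →
      W₂.Nonempty → False := by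
    intro W₁ W₂ h₁ h₂ hs₁ hs₂ hd' hc₁ hne₂
    obtain ⟨y, hy, hyx⟩ := hne W₂ h₂ hne₂
    have hlt : n W₁ < n W := Set.ncard_lt_ncard ⟨Set.inter_subset_inter_left _ hs₁, fun h =>
      Set.disjoint_left.1 hd' (h ⟨hs₂ hy, hyx⟩).1 hy⟩ (hfib.subset Set.inter_subset_right)
    exact absurd (hmin W₁ ⟨h₁, hc₁⟩) (not_le.2 hlt)
  obtain ⟨a, haW, haA⟩ := Set.not_subset.1 hA'
  obtain ⟨b, hbW, hbB⟩ := Set.not_subset.1 hB'
  have hd' : Disjoint (W ∩ A) (W ∩ B) := hd.mono Set.inter_subset_right Set.inter_subset_right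
  rcases hsub hW.2 with hcA | hcB
  · exact key _ _ hAo hBo Set.inter_subset_left Set.inter_subset_left hd' ⟨hW.2, hcA⟩
      ⟨a, haW, (hsub haW).resolve_left haA⟩
  · exact key _ _ hBo hAo Set.inter_subset_left Set.inter_subset_left hd'.symm ⟨hW.2, hcB⟩
      ⟨b, hbW, (hsub hbW).resolve_right hbB⟩

end Groth.Agent.S5278
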