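import Groth.Statements.S5279
import Groth.Agent.MultHopf.ActRigid
import Groth.Agent.MultHopf.Locally
-- import your own Groth.Agent.* helpers here

set_option autoImplicit false
open CategoryTheory MonoidalCategory CartesianMonoidalCategory MonObj GrpObj AlgebraicGeometry
universe u
open SGA3x

namespace Groth.Agent.S5279

set_option backward.isDefEq.respectTransparency.types false
open Groth.Agent.MultHopf
open CategoryTheory.Limits

/-- Let i₀ : S₀ ⟶ S be a closed immersion whose ideal is locally nilpotent (nilpotent on each member of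
an affine open cover of S; in particular S₀ and S have the same underlying space), G an S-group of
multiplicative type (fpqc-locally on S isomorphic, as a group, to diagonalisable groups D(M), M
allowed to vary and taken in Type 0), X an S-scheme locally of finite presentation over S, and a an
action of G on X. If G₀ acts trivially on X₀, i.e. g · x = x for all points g of G and x of X
defined over an S₀-scheme, then G acts trivially on X. -/
theorem result {S S₀ : Scheme.{u}} (i₀ : S₀ ⟶ S) [IsClosedImmersion i₀]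
    (hnil : ∀ x : S, ∃ U : S.affineOpens, x ∈ (U : S.Opens) ∧ IsNilpotent (i₀.ker.ideal U))
    (G X : Over S) [GrpObj G] (hG : TwC.Locally S TwC.Topology.fpqc (fun S' f => ∃ (M : Type) (_ : AddCommGroup M), Nonempty (Grp.mk (Red.bc f G) ≅ Grp.mk (Red.DS S' M))))
    [LocallyOfFinitePresentation X.hom] (a : AlgGrp.Action G X)
    (h0 : ∀ (Y : Over S) (p : Y ⟶ Over.mk i₀) (g : Y ⟶ G) (x : Y ⟶ X), lift g x ≫ a.act = x) :
    ∀ (Y : Over S) (g : Y ⟶ G) (x : Y ⟶ X), lift g x ≫ a.act = x := by
  classical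
  have : IsAffineHom G.hom := isAffineHom_of_isMultTypeLoc G hG
  have main : ∀ (U : S.affineOpens) (k : ℕ) (C : Type u) [CommRing C] [Algebra Γ(S, (U : S.Opens)) C],
      (i₀.ker.ideal U) ^ (k + 1) ≤ RingHom.ker (algebraMap Γ(S, (U : S.Opens)) C) →
      ∀ (g : ptS U.2.fromSpec C ⟶ G) (x : ptS U.2.fromSpec C ⟶ X), lift g x ≫ a.act = x := by
    rintro ⟨U, hU⟩ k
    induction k with
    | zero =>
      intro C _ _ hC g x
      rw [pow_one] at hC
      let φ : Γ(S, U) →+* Γ(S₀, i₀ ⁻¹ᵁ U) := (i₀.app U).hom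
      have hsur : Function.Surjective φ := i₀.app_surjective U hU
      have hker : RingHom.ker φ = i₀.ker.ideal ⟨U, hU⟩ := (Scheme.Hom.ker_apply i₀ ⟨U, hU⟩).symm
      let ψ : Γ(S₀, i₀ ⁻¹ᵁ U) →+* C :=
        φ.liftOfSurjective hsur ⟨algebraMap Γ(S, U) C, hker ▸ hC⟩
      have hψ : ψ.comp φ = algebraMap Γ(S, U) C := RingHom.liftOfRightInverse_comp _ _ _ _
      let hW₀ := hU.preimage i₀
      refine h0 (ptS hU.fromSpec C) (Over.homMk (Spec.map (CommRingCat.ofHom ψ) ≫ hW₀.fromSpec) ?_) g x
      show (Spec.map (CommRingCat.ofHom ψ) ≫ hW₀.fromSpec) ≫ i₀ =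
        Spec.map (CommRingCat.ofHom (algebraMap Γ(S, U) C)) ≫ hU.fromSpec
      rw [← hψ, CommRingCat.ofHom_comp, Spec.map_comp, Category.assoc, Category.assoc,
        ← IsAffineOpen.SpecMap_appLE_fromSpec i₀ hU hW₀ le_rfl]
      exact congrArg (fun k => Spec.map (CommRingCat.ofHom ψ) ≫ Spec.map k ≫ hU.fromSpec) (Scheme.Hom.app_eq_appLE i₀).symm
    | succ k ih =>
      intro C _ _ hC g x
      refine Over.OverMorphism.ext (hom_ext_atPrimes _ _ fun p => ?_)
      let R₀ : Type u := Γ(S, U)
      let R : Type u := Localization.AtPrime p.asIdeal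
      let j : Spec (CommRingCat.of R) ⟶ S := Spec.map (CommRingCat.ofHom (algebraMap R₀ R)) ≫ hU.fromSpec
      have : IsAffineHom (Red.bc j G).hom := MorphismProperty.pullback_snd (P := @IsAffineHom) _ _ inferInstance
      obtain ⟨A, _, _, ⟨eA⟩⟩ := exists_hopf R (Red.bc j G)
      have hA := isMultType_of_isMultTypeLoc G hG j eA
      let J := i₀.ker.ideal ⟨U, hU⟩
      let Q : Ideal R := (J ^ (k + 1)).map (algebraMap R₀ R)
      have hJR : J ^ (k + 2) ≤ RingHom.ker (algebraMap R₀ R) := fun r hr => by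
        rw [RingHom.mem_ker, IsScalarTower.algebraMap_apply R₀ C R, RingHom.mem_ker.1 (hC hr), map_zero]
      have hQ : ∀ u ∈ Q, ∀ v ∈ Q, u * v = 0 := by
        intro u hu v hv
        have hm := Ideal.mul_mem_mul hu hv
        rw [← Ideal.map_mul, ← pow_add] at hm
        have h2 : (J ^ (k + 1 + (k + 1))).map (algebraMap R₀ R) = ⊥ := by
          rw [Ideal.map_eq_bot_iff_le_ker]
          exact (Ideal.pow_le_pow_right (by omega)).trans hJR
        rw [h2] at hm
        exact hm
      have h0' : ∀ (D : Type u) [CommRing D] [Algebra R D], Q ≤ RingHom.ker (algebraMap R D) →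
          ∀ (g : ptS j D ⟶ G) (z : ptS j D ⟶ X), lift g z ≫ a.act = z := by
        intro D _ _ hD g' z
        let : Algebra R₀ D := ((algebraMap R D).comp (algebraMap R₀ R)).toAlgebra
        have hT : Spec.map (CommRingCat.ofHom (algebraMap R₀ D)) ≫ hU.fromSpec =
            Spec.map (CommRingCat.ofHom (algebraMap R D)) ≫ j := by
          rw [← Category.assoc, ← Spec.map_comp]
          rfl
        let i : ptS hU.fromSpec D ≅ ptS j D := Over.isoMk (Iso.refl (Spec (CommRingCat.of D))) ((Category.id_comp _).trans hT.symm)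
        have h1 := ih D (fun r hr => by
          rw [RingHom.mem_ker]
          exact RingHom.mem_ker.1 (hD (Ideal.mem_map_of_mem _ hr))) (i.hom ≫ g') (i.hom ≫ z)
        rw [← comp_lift, Category.assoc] at h1
        exact (cancel_epi i.hom).1 h1
      let ρ : ptS j R ⟶ ptS hU.fromSpec C := Over.homMk (Spec.map (CommRingCat.ofHom (algebraMap C R))) (by
        show Spec.map (CommRingCat.ofHom (algebraMap C R)) ≫ Spec.map (CommRingCat.ofHom (algebraMap R₀ C)) ≫ hU.fromSpec =
          Spec.map (CommRingCat.ofHom (algebraMap R R)) ≫ Spec.map (CommRingCat.ofHom (algebraMap R₀ R)) ≫ hU.fromSpec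
        rw [← Category.assoc, ← Category.assoc, ← Spec.map_comp, ← Spec.map_comp, ← CommRingCat.ofHom_comp,
          ← CommRingCat.ofHom_comp, ← IsScalarTower.algebraMap_eq, Algebra.algebraMap_self, RingHom.id_comp])
      have h1 := act_eq_of_squareZero j eA a hA Q hQ h0' (ρ ≫ g) (ρ ≫ x)
      rw [← comp_lift, Category.assoc] at h1
      exact congrArg (fun q : ptS j R ⟶ X => q.left) h1
  intro Y g x
  choose U hxU hUnil using hnil
  have hO : TopologicalSpace.IsOpenCover (fun y : Y.left => Y.hom ⁻¹ᵁ (U (Y.hom y) : S.Opens)) :=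
    top_le_iff.1 fun y _ => TopologicalSpace.Opens.mem_iSup.2 ⟨y, hxU _⟩
  refine Over.OverMorphism.ext (Scheme.Cover.hom_ext (Y.left.openCoverOfIsOpenCover _ hO) _ _ fun y => ?_)
  let V := U (Y.hom y)
  let O : Y.left.Opens := Y.hom ⁻¹ᵁ (V : S.Opens)
  let T' : Over S := Over.mk (O.ι ≫ Y.hom)
  let ρ : T' ⟶ Y := Over.homMk O.ι
  suffices ρ ≫ lift g x ≫ a.act = ρ ≫ x from congrArg (fun q : T' ⟶ X => q.left) this
  let b : T'.left ⟶ Spec Γ(S, (V : S.Opens)) := Y.hom.resLE _ O le_rfl ≫ V.2.isoSpec.hom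
  have hb : b ≫ V.2.fromSpec = T'.hom := by
    show (_ ≫ _) ≫ V.2.isoSpec.inv ≫ (V : S.Opens).ι = O.ι ≫ Y.hom
    rw [Category.assoc, Iso.hom_inv_id_assoc, Scheme.Hom.resLE_comp_ι]
  obtain ⟨n, hn⟩ := hUnil (Y.hom y)
  refine hom_ext_pieces V.2.fromSpec b hb _ _ fun C _ _ σ _ => ?_
  rw [← Category.assoc ρ, ← Category.assoc σ, comp_lift, comp_lift]
  refine main V n C ?_ _ _
  rw [pow_succ, hn, Ideal.zero_eq_bot, Ideal.bot_mul]
  exact bot_le

end Groth.Agent.S5279
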