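import Groth.Statements.S5284
import Groth.Agent.MultHopf.FreeAct
-- import your own Groth.Agent.* helpers here

set_option autoImplicit false
open CategoryTheory MonoidalCategory CartesianMonoidalCategory MonObj GrpObj AlgebraicGeometry
universe u
open SGA3x

namespace Groth.Agent.S5284

set_option backward.isDefEq.respectTransparency.types false
open Limits Groth.Agent.MultHopf

/-- Let G be an S-group of multiplicative type (fpqc-locally on S isomorphic, as a group, to
diagonalisable groups D(M), M allowed to vary and taken in Type 0) acting on an S-scheme X which is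
affine over S, the action being free (a point g of G fixing a point x of X is the unit). Then the
graph morphism G ×_S X ⟶ X ×_S X, (g, x) ↦ (g·x, x), is a closed immersion; and for every section σ
of X over S the orbit morphism G ⟶ X, g ↦ g·σ, is a closed immersion. -/
theorem result {S : Scheme.{u}} (G X : Over S) [GrpObj G]
    (hG : TwC.Locally S TwC.Topology.fpqc (fun S' f => ∃ (M : Type) (_ : AddCommGroup M), Nonempty (Grp.mk (Red.bc f G) ≅ Grp.mk (Red.DS S' M)))) (hX : IsAffineHom X.hom) (a : AlgGrp.Action G X)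
    (hfree : ∀ (Y : Over S) (g : Y ⟶ G) (x : Y ⟶ X), lift g x ≫ a.act = x → g = 1) :
    IsClosedImmersion (lift a.act (snd G X)).left ∧
      ∀ σ : 𝟙_ (Over S) ⟶ X, IsClosedImmersion (a.orbitMap σ).left := by
  have hgraph : IsClosedImmersion (lift a.act (snd G X)).left := by
    obtain ⟨S', f, hfl, hsurj, hcov, hloc⟩ := hG
    choose U hU M _ hiso using hloc
    let w := lift a.act (snd G X)
    -- over an affine scheme mapping into some `U x`
    have key : ∀ (R : Type u) [CommRing R] (x : S') (g' : Spec (CommRingCat.of R) ⟶ (U x).toScheme),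
        IsClosedImmersion ((Over.pullback (g' ≫ (U x).ι ≫ f)).map w).left := by
      intro R _ x g'
      let j := g' ≫ (U x).ι ≫ f
      obtain ⟨eU⟩ := hiso x
      let t := Limits.IsTerminal.from specULiftZIsTerminal (U x).toScheme
      let eA : Grp.mk (Red.bc j G) ≅
          Grp.mk (hspec R (MonoidAlgebra R (ULift.{u} (Multiplicative (M x))))) :=
        bcComp g' _ G ≪≫ bcIso g' eU ≪≫ (bcComp g' t _).symm ≪≫ bcDiag _ _ _ (M x)
      let X₁ := Red.bc j X
      have : IsAffineHom X₁.hom := MorphismProperty.pullback_snd (P := @IsAffineHom) _ _ hX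
      have : IsAffine X₁.left := isAffine_of_isAffineHom X₁.hom
      let p : Spec Γ(X₁.left, ⊤) ⟶ Spec (CommRingCat.of R) := X₁.left.isoSpec.inv ≫ X₁.hom
      let B : Type u := Γ(X₁.left, ⊤)
      let : Algebra R B := (Spec.preimage p).hom.toAlgebra
      let eP : pt (R := R) B ≅ X₁ := Over.isoMk X₁.left.isoSpec.symm (Spec.map_preimage p).symm
      exact isClosedImmersion_graph j eA eP.symm a hfree
    refine of_locally_base @IsClosedImmersion w
      (S.openCoverOfIsOpenCover (fun V : S.affineOpens => V.1) (iSup_affineOpens_eq_top S)) fun V => ?_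
    obtain ⟨V, hV⟩ := V
    obtain ⟨W, hWc, hWV⟩ := hcov V hV
    have hle : W ≤ f ⁻¹ᵁ V := fun w hw => hWV.le ⟨w, hw, rfl⟩
    let b : W.toScheme ⟶ V.toScheme := f.resLE V W hle
    have hb : b ≫ V.ι = W.ι ≫ f := Scheme.Hom.resLE_comp_ι f hle
    have : IsAffine V.toScheme := hV
    have : CompactSpace W.toScheme := isCompact_iff_compactSpace.1 hWc
    have : QuasiCompact b := inferInstance
    have : Flat b := MorphismProperty.of_postcomp (W := @Flat) (W' := @IsOpenImmersion) b V.ι
      inferInstance (hb ▸ inferInstance)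
    have : Surjective b := ⟨fun v => by
      obtain ⟨w, hw, hwv⟩ := hWV.ge v.2
      refine ⟨⟨w, hw⟩, V.ι.isOpenEmbedding.injective ?_⟩
      rw [← Scheme.Hom.comp_apply, hb, Scheme.Hom.comp_apply]
      exact hwv⟩
    show IsClosedImmersion ((Over.pullback V.ι).map w).left
    refine of_fpqc_base @IsClosedImmersion (U := W.toScheme) (S := V.toScheme) _ b ((map_comp_iff @IsClosedImmersion b _ w).1 ?_)
    show IsClosedImmersion ((Over.pullback (b ≫ V.ι)).map w).left
    rw [hb]
    refine (map_comp_iff @IsClosedImmersion W.ι f w).2 ?_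
    have hsup : (⨆ x, W.ι ⁻¹ᵁ U x) = ⊤ :=
      top_le_iff.1 fun y _ => TopologicalSpace.Opens.mem_iSup.2 ⟨W.ι y, hU _⟩
    refine of_locally_base @IsClosedImmersion _ (W.toScheme.openCoverOfIsOpenCover _ hsup) fun x => ?_
    refine of_locally_base @IsClosedImmersion _ (Scheme.affineOpenCover _).openCover fun k => ?_
    refine (map_comp_iff @IsClosedImmersion _ _ _).1 ((map_comp_iff @IsClosedImmersion _ W.ι _).1 ?_)
    refine (map_comp_iff @IsClosedImmersion _ f w).1 ?_
    let V' : W.toScheme.Opens := W.ι ⁻¹ᵁ U x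
    let i : V'.toScheme ⟶ (U x).toScheme := W.ι ∣_ (U x)
    have hi : i ≫ (U x).ι = V'.ι ≫ W.ι := morphismRestrict_ι _ _
    have := key _ x ((Scheme.affineOpenCover V'.toScheme).f k ≫ i)
    rw [Category.assoc, reassoc_of% hi] at this
    have hq : ∀ q, q = (Scheme.affineOpenCover V'.toScheme).f k ≫ V'.ι ≫ W.ι ≫ f →
        IsClosedImmersion ((Over.pullback q).map w).left := fun q hq => hq ▸ this
    exact hq _ ((Category.assoc _ _ _).trans (Category.assoc _ _ _))
  refine ⟨hgraph, fun σ => ?_⟩
  have hσ : ∀ {A : Over S} (τ : 𝟙_ (Over S) ⟶ X), IsClosedImmersion (lift (𝟙 A) (toUnit A ≫ τ)).left := by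
    intro A τ
    have : IsSeparated (fst A X).left := MorphismProperty.pullback_fst (P := @IsSeparated) _ _ inferInstance
    have h : (lift (𝟙 A) (toUnit A ≫ τ)).left ≫ (fst A X).left = 𝟙 _ :=
      congrArg (fun q => q.left) (lift_fst (𝟙 A) (toUnit A ≫ τ))
    have : IsClosedImmersion ((lift (𝟙 A) (toUnit A ≫ τ)).left ≫ (fst A X).left) := h ▸ inferInstance
    exact IsClosedImmersion.of_comp _ (fst A X).left
  -- the orbit map followed by the constant map
  have : IsSeparated X.hom := inferInstance
  have hsec : IsClosedImmersion (lift (𝟙 X) (toUnit X ≫ σ)).left := hσ σ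
  have e : (a.orbitMap σ).left ≫ (lift (𝟙 X) (toUnit X ≫ σ)).left =
      (lift (𝟙 G) (toUnit G ≫ σ)).left ≫ (lift a.act (snd G X)).left := by
    rw [← Over.comp_left, ← Over.comp_left]
    congr 1
    simp [AlgGrp.Action.orbitMap]
  have : IsClosedImmersion (lift (𝟙 G) (toUnit G ≫ σ)).left := hσ σ
  have : IsClosedImmersion ((a.orbitMap σ).left ≫ (lift (𝟙 X) (toUnit X ≫ σ)).left) := by
    rw [e]; exact inferInstanceAs (IsClosedImmersion (_ ≫ _))
  have : IsSeparated (lift (𝟙 X) (toUnit X ≫ σ)).left := inferInstance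
  exact IsClosedImmersion.of_comp _ (lift (𝟙 X) (toUnit X ≫ σ)).left

end Groth.Agent.S5284
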