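import Groth.Statements.S5290
import Groth.Agent.MultHopf.CentralRigid
-- import your own Groth.Agent.* helpers here

set_option autoImplicit false
open CategoryTheory MonoidalCategory CartesianMonoidalCategory MonObj GrpObj AlgebraicGeometry
universe u
open SGA3x

namespace Groth.Agent.S5290

set_option backward.isDefEq.respectTransparency.types false
open Limits Groth.Agent.MultHopf

/-- Let S = Spec R be affine, J a nilpotent ideal of R and S₀ = Spec (R/J); let G be an arbitrary
S-group and i : H ⟶ G, i' : H' ⟶ G two sub-group-schemes (homomorphisms which are immersions) of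
multiplicative type (fpqc-locally on S isomorphic, as groups, to diagonalisable groups D(M), M
allowed to vary and taken in Type 0), with H central in G (every point of G commutes with every
point of H). If H ×_S S₀ and H' ×_S S₀ coincide as subgroups of G ×_S S₀, then H = H' as subgroups
of G: there is an isomorphism H ≅ H' compatible with i and i'. -/
theorem result {R : Type u} [CommRing R] (J : Ideal R) (hJ : IsNilpotent J)
    (G H H' : Over (Spec (CommRingCat.of R))) [GrpObj G] [GrpObj H] [GrpObj H']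
    (hH : TwC.Locally (Spec (CommRingCat.of R)) TwC.Topology.fpqc (fun S' f => ∃ (M : Type) (_ : AddCommGroup M), Nonempty (Grp.mk (Red.bc f H) ≅ Grp.mk (Red.DS S' M))))
    (hH' : TwC.Locally (Spec (CommRingCat.of R)) TwC.Topology.fpqc (fun S' f => ∃ (M : Type) (_ : AddCommGroup M), Nonempty (Grp.mk (Red.bc f H') ≅ Grp.mk (Red.DS S' M))))
    (i : H ⟶ G) [IsMonHom i] [IsImmersion i.left] (i' : H' ⟶ G) [IsMonHom i'] [IsImmersion i'.left]
    (hc : ∀ (X : Over (Spec (CommRingCat.of R))) (g : X ⟶ G) (h : X ⟶ H), g * (h ≫ i) = (h ≫ i) * g)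
    (h0 : ∃ ψ : Red.bc (Spec.map (CommRingCat.ofHom (Ideal.Quotient.mk J))) H ≅ Red.bc (Spec.map (CommRingCat.ofHom (Ideal.Quotient.mk J))) H',
      ψ.hom ≫ (Over.pullback (Spec.map (CommRingCat.ofHom (Ideal.Quotient.mk J)))).map i' = (Over.pullback (Spec.map (CommRingCat.ofHom (Ideal.Quotient.mk J)))).map i) :
    ∃ φ : H ≅ H', φ.hom ≫ i' = i := by
  obtain ⟨ψ, hψ⟩ := h0
  let g : Spec (CommRingCat.of (R ⧸ J)) ⟶ Spec (CommRingCat.of R) := Spec.map (CommRingCat.ofHom (Ideal.Quotient.mk J))
  have hcorr : ∀ (A A' : Over (Spec (CommRingCat.of R))) (k : A ⟶ G) (k' : A' ⟶ G)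
      (χ : (Over.pullback g).obj A ⟶ (Over.pullback g).obj A'),
      χ ≫ (Over.pullback g).map k' = (Over.pullback g).map k →
      ∀ (T : Over (Spec (CommRingCat.of R))) (b : T.left ⟶ Spec (CommRingCat.of (R ⧸ J))),
        b ≫ g = T.hom → ∀ y : T ⟶ A, ∃ y' : T ⟶ A', y' ≫ k' = y ≫ k := by
    intro A A' k k' χ hχ T b hb y
    let e : T ≅ (Over.map g).obj (Over.mk b) := Over.isoMk (Iso.refl _) ((Category.id_comp _).trans hb)
    refine ⟨e.hom ≫ ((Over.mapPullbackAdj g).homEquiv _ A').symm ((Over.mapPullbackAdj g).homEquiv _ A (e.inv ≫ y) ≫ χ), ?_⟩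
    rw [Category.assoc, ← Adjunction.homEquiv_naturality_right_symm, Category.assoc, hχ,
      ← Adjunction.homEquiv_naturality_right, Equiv.symm_apply_apply, Category.assoc, e.hom_inv_id_assoc]
  have hψ' : ψ.inv ≫ (Over.pullback g).map i = (Over.pullback g).map i' := by
    rw [Iso.inv_comp_eq]
    exact hψ.symm
  obtain ⟨h, hh⟩ := exists_factor J hJ hH hH' i i' (.inl hc) (hcorr H H' i i' ψ.hom hψ)
  obtain ⟨h', hh'⟩ := exists_factor J hJ hH' hH i' i (.inr hc) (hcorr H' H i' i ψ.inv hψ')
  have : Mono i.left := inferInstance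
  have : Mono i := Over.mono_of_mono_left i
  have : Mono i'.left := inferInstance
  have : Mono i' := Over.mono_of_mono_left i'
  exact ⟨⟨h, h', by rw [← cancel_mono i, Category.assoc, hh', hh, Category.id_comp],
    by rw [← cancel_mono i', Category.assoc, hh, hh', Category.id_comp]⟩, hh⟩

end Groth.Agent.S5290
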