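import Groth.Statements.S5291
import Groth.Agent.MultHopf.Conj
-- import your own Groth.Agent.* helpers here

set_option autoImplicit false
universe u
open TensorProduct SGA3b
open SGA3b

namespace Groth.Agent.S5291

open Groth.Agent.MultHopf WithConv
open Groth.Agent.FinHopf (postComp)

/-- Let R be a ring, I a nilpotent ideal of R, u : H₁ ⟶ H₂ a homomorphism of R-groups of multiplicative
type (H₁ = Spec A₁, H₂ = Spec A₂, u given by the bialgebra map α : A₂ → A₁), G = Spec C an affine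
R-group with C smooth over R, v : H₁ ⟶ G a homomorphism (bialgebra map β : C → A₁) and w₀ : H₂,₀ ⟶
G₀ a homomorphism over R/I (bialgebra map γ₀ : C₀ → A₂,₀) with w₀ ∘ u₀ = v₀ (the reduction of α
composed with γ₀ is the reduction of β). Then there is a homomorphism w : H₂ ⟶ G (bialgebra map γ :
C → A₂) lifting w₀ with w ∘ u = v, i.e. α ∘ γ = β. (The published statement says that the map of
homomorphism functors w ↦ w ∘ u is formally smooth, for any smooth S-group G; this row states the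
lifting property this means over an affine base, for G affine.) (Affine group schemes over an affine
base are taken in Hopf-algebra form; base change is the tensor product; a homomorphism of groups
Spec A ⟶ Spec C is a bialgebra map C → A.) -/
theorem result (R : Type u) [CommRing R] (I : Ideal R) (hI : IsNilpotent I)
    (A₁ : Type u) [CommRing A₁] [HopfAlgebra R A₁] (h₁ : IsMultType R A₁)
    (A₂ : Type u) [CommRing A₂] [HopfAlgebra R A₂] (h₂ : IsMultType R A₂) (α : A₂ →ₐc[R] A₁)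
    (C : Type u) [CommRing C] [HopfAlgebra R C] [Algebra.Smooth R C] (β : C →ₐc[R] A₁)
    (γ₀ : ((R ⧸ I) ⊗[R] C) →ₐc[R ⧸ I] ((R ⧸ I) ⊗[R] A₂))
    (h0 : ∀ c : C, Algebra.TensorProduct.map (AlgHom.id (R ⧸ I) (R ⧸ I)) (α : A₂ →ₐ[R] A₁) (γ₀ ((1 : R ⧸ I) ⊗ₜ[R] c)) =
      (1 : R ⧸ I) ⊗ₜ[R] (β c)) :
    ∃ γ : C →ₐc[R] A₂, (∀ c : C, γ₀ ((1 : R ⧸ I) ⊗ₜ[R] c) = (1 : R ⧸ I) ⊗ₜ[R] (γ c)) ∧ ∀ c : C, α (γ c) = β c := by
  obtain ⟨l₂, hl₂⟩ := exists_integral h₂
  obtain ⟨l₁, hl₁⟩ := exists_integral h₁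
  obtain ⟨γ', hγ'⟩ := exists_lift_of_nilpotent (C := C) hl₂ I hI γ₀
  let e₁ : Bar I A₁ ≃ₐ[R] (R ⧸ I) ⊗[R] A₁ := (Algebra.TensorProduct.quotIdealMapEquivQuotTensor A₁ I).restrictScalars R
  let e₂ : Bar I A₂ ≃ₐ[R] (R ⧸ I) ⊗[R] A₂ := (Algebra.TensorProduct.quotIdealMapEquivQuotTensor A₂ I).restrictScalars R
  have he₁ : ∀ a, e₁ (Ideal.Quotient.mk _ a) = (1 : R ⧸ I) ⊗ₜ[R] a :=
    fun a => Algebra.TensorProduct.quotIdealMapEquivQuotTensor_mk A₁ I a
  have he₂ : ∀ a, e₂ (Ideal.Quotient.mk _ a) = (1 : R ⧸ I) ⊗ₜ[R] a :=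
    fun a => Algebra.TensorProduct.quotIdealMapEquivQuotTensor_mk A₂ I a
  let u : WithConv (C →ₐ[R] A₂) := toConv (γ' : C →ₐ[R] A₂)
  have hu := hom_eq γ'
  have hv : postComp (α : A₂ →ₐ[R] A₁) u = toConv ((α.comp γ' : C →ₐc[R] A₁) : C →ₐ[R] A₁) := rfl
  obtain ⟨g, hg, hg'⟩ := exists_conj hl₁ I hI _ (toConv (β : C →ₐ[R] A₁)) (hom_eq (α.comp γ')) (hom_eq β) (by
    apply WithConv.ofConv_injective
    refine AlgHom.ext fun c => e₁.injective ?_
    show e₁ (Ideal.Quotient.mk _ (β c)) = e₁ (Ideal.Quotient.mk _ (α (γ' c)))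
    rw [he₁, he₁, ← h0 c, hγ' c, Algebra.TensorProduct.map_tmul]
    rfl)
  obtain ⟨γ, hγ⟩ := exists_bialgHom (conjPt g u) (hom_conjPt g u hu)
  refine ⟨γ, fun c => ?_, fun c => ?_⟩
  · have h1 : postComp (Ideal.Quotient.mkₐ R (I.map (algebraMap R A₂))) (conjPt g u) =
        postComp (Ideal.Quotient.mkₐ R (I.map (algebraMap R A₂))) u := by
      have h2 : postComp (Ideal.Quotient.mkₐ R (I.map (algebraMap R A₂))) (postComp (Algebra.ofId R A₂) g) = 1 :=
        (inK_iff I _).1 (hg.postComp _)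
      rw [show conjPt g u = postComp (Algebra.ofId R A₂) g * u * cinv (postComp (Algebra.ofId R A₂) g) from rfl,
        map_mul, map_mul, postComp_cinv, h2, cinv_one, one_mul, mul_one]
    have h3 := congrArg e₂ (DFunLike.congr_fun (congrArg WithConv.ofConv h1) c)
    rw [hγ c, hγ' c, ← he₂, ← he₂]
    exact h3.symm
  · have h1 := DFunLike.congr_fun (congrArg WithConv.ofConv hg') c
    rw [← hv, ← postComp_conjPt] at h1
    rw [hγ c]
    exact h1.symm

end Groth.Agent.S5291
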