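import Groth.Statements.S5308
import Mathlib
import Groth.Agent.TwConstB.Basic
-- import your own Groth.Agent.* helpers here

set_option autoImplicit false
set_option backward.isDefEq.respectTransparency.types false
open CategoryTheory MonoidalCategory CartesianMonoidalCategory MonObj GrpObj AlgebraicGeometry
universe u
open SGA3x

namespace Groth.Agent.S5308

theorem locallyQuasiFinite_of_etale' {X Y : Scheme.{u}} (f : X ⟶ Y) [Etale f] : LocallyQuasiFinite f := by
  refine HasRingHomProperty.iff_appLE.2 fun U V h => ?_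
  have := HasRingHomProperty.appLE (P := @Etale) f ‹_› U V h
  algebraize [(f.appLE U.1 V.1 h).hom]
  change Algebra.QuasiFinite _ _
  infer_instance

/-- (i) ⇒ (ii). Let R be a commutative twisted constant S-group which is isotrivial (it becomes a
constant group over the open and closed pieces of one finite etale surjective S' ⟶ S). Then R is a
union of open and closed subschemes which are quasi-compact, indeed finite, over S: every point of R
has an open and closed neighbourhood U in R with U ⟶ S finite. -/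
theorem result {S : Scheme.{u}} (R : Over S) [GrpObj R]
    (hcomm : ∀ (X : Over S) (a b : X ⟶ R), a * b = b * a) (hR : TwC.IsTwConstGrp TwC.Topology.finiteEtale R) (x : R.left) :
    ∃ U : R.left.Opens, x ∈ U ∧ IsClosed (U : Set R.left) ∧ IsFinite (U.ι ≫ R.hom) := by
  have hR' : TwC.IsTwConst TwC.Topology.finiteEtale R := by
    obtain ⟨S', f, h1, h2, h3, hloc⟩ := hR
    refine ⟨S', f, h1, h2, h3, fun s' => ?_⟩
    obtain ⟨U, hU, hc, M, _, e, -⟩ := hloc s'
    exact ⟨U, hU, hc, M, ⟨e⟩⟩
  obtain ⟨hsep, het⟩ := Groth.Agent.TwConstB.isSeparated_and_etale R (Groth.Agent.TwConstB.isTwConst_etale_of_finiteEtale R hR')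
  obtain ⟨S', f, hfin, hfet, hfs, hloc⟩ := hR'
  haveI := hfin
  haveI := hfet
  obtain ⟨s', hs'⟩ := hfs.surj (R.hom x)
  obtain ⟨U, hU, hc, M, ⟨e⟩⟩ := hloc s'
  obtain ⟨w, hw, -⟩ := Scheme.Pullback.exists_preimage_pullback (f := R.hom) (g := U.ι ≫ f) x ⟨s', hU⟩
    (by rw [Scheme.Hom.comp_apply]; exact hs'.symm)
  obtain ⟨⟨m, v⟩, hv⟩ := (AlgebraicGeometry.sigmaMk (fun _ : M => (U : Scheme.{u}))).surjective (e.hom.left w)
  rw [AlgebraicGeometry.sigmaMk_mk] at hv
  let h : (U : Scheme.{u}) ⟶ R.left := Limits.Sigma.ι (fun _ : M => (U : Scheme.{u})) m ≫ e.inv.left ≫ Limits.pullback.fst R.hom (U.ι ≫ f)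
  have hh : h ≫ R.hom = U.ι ≫ f := by
    have h1 : e.inv.left ≫ Limits.pullback.snd R.hom (U.ι ≫ f) = Limits.Sigma.desc fun _ : M => 𝟙 (U : Scheme.{u}) := Over.w e.inv
    simp only [h, Category.assoc, Limits.pullback.condition, reassoc_of% h1, Limits.Sigma.ι_desc_assoc, Category.id_comp]
  haveI : IsClosedImmersion U.ι := IsClosedImmersion.of_isPreimmersion _ (by rw [Scheme.Opens.range_ι]; exact hc)
  haveI : IsFinite (h ≫ R.hom) := hh ▸ inferInstance
  haveI : IsFinite h := IsFinite.of_comp h R.hom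
  haveI : Etale (h ≫ R.hom) := hh ▸ inferInstance
  haveI : Etale h := MorphismProperty.of_postcomp (W := @Etale) h R.hom het inferInstance
  let V : R.left.Opens := ⟨Set.range h, h.isOpenMap.isOpen_range⟩
  refine ⟨V, ⟨v, ?_⟩, h.isClosedMap.isClosed_range, ?_⟩
  · show (Limits.Sigma.ι (fun _ : M => (U : Scheme.{u})) m ≫ e.inv.left ≫ Limits.pullback.fst R.hom (U.ι ≫ f)) v = x
    rw [Scheme.Hom.comp_apply, hv, ← Scheme.Hom.comp_apply, ← Category.assoc, ← Over.comp_left, Iso.hom_inv_id,
      Over.id_left, Category.id_comp, hw]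
  · let h' : (U : Scheme.{u}) ⟶ V := IsOpenImmersion.lift V.ι h (by rw [Scheme.Opens.range_ι]; exact le_rfl)
    have hh' : h' ≫ V.ι = h := IsOpenImmersion.lift_fac _ _ _
    haveI : Surjective h' := ⟨fun y => by
      obtain ⟨z, hz⟩ := y.2
      refine ⟨z, V.ι.isOpenEmbedding.injective ?_⟩
      rw [← Scheme.Hom.comp_apply, hh']
      exact hz⟩
    haveI : UniversallyClosed (h' ≫ V.ι ≫ R.hom) := by
      rw [reassoc_of% hh']; infer_instance
    haveI : UniversallyClosed (V.ι ≫ R.hom) := UniversallyClosed.of_comp_surjective h' _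
    haveI : IsProper (V.ι ≫ R.hom) := ⟨⟩
    haveI : LocallyQuasiFinite R.hom := locallyQuasiFinite_of_etale' R.hom
    exact IsFinite.of_isProper_of_locallyQuasiFinite _

end Groth.Agent.S5308
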