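import Groth.Statements.S5318
import Groth.Agent.HomLocus.OpenUnit
import Groth.Agent.UnramFibre.Basic
-- import your own Groth.Agent.* helpers here

set_option autoImplicit false
universe u
open CategoryTheory CategoryTheory.Limits MonoidalCategory CartesianMonoidalCategory MonObj GrpObj AlgebraicGeometry
open SGA3

namespace Groth.Agent.S5318

open Groth.Agent.HomLocus

/-- (ii) ⟺ (iii) and, for G locally of finite presentation over S, (ii) ⟺ (iv): let G be an S-group
scheme. The unit section of G is an open immersion if and only if G is locally of finite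
presentation over S on some open containing the unit section and every fibre G_s is unramified
(formally unramified and locally of finite presentation) over κ(s). If G is locally of finite
presentation over S, the unit section is an open immersion if and only if G is unramified over S. -/
theorem result (S : Scheme.{u}) (G : Over S) [GrpObj G] :
    (IsOpenImmersion η[G].left ↔
      ((∃ W : G.left.Opens, (∀ p : ↥(𝟙_ (Over S)).left, η[G].left.base p ∈ W) ∧ LocallyOfFinitePresentation (W.ι ≫ G.hom)) ∧
        ∀ s : S, FormallyUnramified (G.hom.fiberToSpecResidueField s) ∧ LocallyOfFinitePresentation (G.hom.fiberToSpecResidueField s))) ∧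
    (LocallyOfFinitePresentation G.hom → (IsOpenImmersion η[G].left ↔ FormallyUnramified G.hom)) := by
  refine ⟨⟨fun h => ⟨⟨η[G].left.opensRange, fun p => ⟨p, rfl⟩, ?_⟩, fibre_of_openUnit G h⟩, ?_⟩,
    fun _ => ⟨formallyUnramified_of_openUnit G, fun _ => openUnit_of_formallyUnramified G⟩⟩
  · rw [← MorphismProperty.cancel_left_of_respectsIso (P := @LocallyOfFinitePresentation)
      η[G].left.isoOpensRange.hom, ← Category.assoc, Scheme.Hom.isoOpensRange_hom_ι, Over.w]
    show LocallyOfFinitePresentation (𝟙 S)
    infer_instance
  rintro ⟨⟨W, hW, hWlfp⟩, hfib⟩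
  have hfu : FormallyUnramified (W.ι ≫ G.hom) := by
    refine Groth.Agent.UnramFibre.formallyUnramified_of_fibres _ fun s => ?_
    have := (hfib s).1
    show FormallyUnramified (pullback.snd (W.ι ≫ G.hom) (S.fromSpecResidueField s))
    rw [← MorphismProperty.cancel_left_of_respectsIso (P := @FormallyUnramified)
      (pullbackRightPullbackFstIso G.hom (S.fromSpecResidueField s) W.ι).hom,
      pullbackRightPullbackFstIso_hom_snd]
    exact MorphismProperty.comp_mem @FormallyUnramified _ _ inferInstance this
  have hr : Set.range η[G].left ⊆ Set.range W.ι := by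
    rintro _ ⟨p, rfl⟩
    rw [Scheme.Opens.range_ι]
    exact hW p
  let σ := IsOpenImmersion.lift W.ι η[G].left hr
  have hσ : IsOpenImmersion σ := by
    have : MorphismProperty.HasOfPostcompProperty @IsOpenImmersion
        (MorphismProperty.diagonal @IsOpenImmersion) :=
      MorphismProperty.hasOfPostcompProperty_iff_le_diagonal.2 le_rfl
    refine MorphismProperty.of_postcomp (W' := MorphismProperty.diagonal @IsOpenImmersion) _ σ
      (W.ι ≫ G.hom) (inferInstance : IsOpenImmersion (pullback.diagonal (W.ι ≫ G.hom))) ?_
    rw [← Category.assoc, IsOpenImmersion.lift_fac, Over.w]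
    show IsOpenImmersion (𝟙 S)
    infer_instance
  rw [← IsOpenImmersion.lift_fac W.ι η[G].left hr]
  exact MorphismProperty.comp_mem @IsOpenImmersion _ _ hσ inferInstance

end Groth.Agent.S5318
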