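import Groth.Statements.S5321
import Groth.Agent.UnramFibre.Basic
-- import your own Groth.Agent.* helpers here

set_option autoImplicit false
universe u
open CategoryTheory CategoryTheory.Limits MonoidalCategory CartesianMonoidalCategory MonObj GrpObj AlgebraicGeometry
open SGA3

namespace Groth.Agent.S5321

/-- Consider a morphism π : X → S admitting a section ε, and assume the map of underlying spaces of π is
closed. Fix a point s of S, and suppose that on some open neighbourhood of ε(s) the morphism π is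
locally of finite presentation, and that the fibre X_s → Spec κ(s) is an isomorphism. Under these
assumptions one can find an open subset U of S containing s such that π restricts to an isomorphism
π⁻¹(U) → U (consequently ε restricted to U is an isomorphism onto π⁻¹(U)). -/
theorem result (X S : Scheme.{u}) (π : X ⟶ S) (ε : S ⟶ X) (hε : ε ≫ π = 𝟙 S)
    (hcl : IsClosedMap π.base) (s : S)
    (hfp : ∃ W : X.Opens, ε.base s ∈ W ∧ LocallyOfFinitePresentation (W.ι ≫ π))
    (hs : IsIso (π.fiberToSpecResidueField s)) :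
    ∃ U : S.Opens, s ∈ U ∧ IsIso (π ∣_ U) := by
  obtain ⟨W0, hxW0, hW0⟩ := hfp
  let x := ε s
  have hπx : π x = s := by rw [← Scheme.Hom.comp_apply, hε]; rfl
  have hun : ((W0.ι ≫ π).stalkMap ⟨x, hxW0⟩).hom.FormallyUnramified := by
    have hh : (W0.ι ≫ π) ⟨x, hxW0⟩ = s := hπx
    have : FormallyUnramified ((W0.ι ≫ π).fiberToSpecResidueField ((W0.ι ≫ π) ⟨x, hxW0⟩)) := by
      rw [hh]
      let i0 := S.fromSpecResidueField s
      let e0 := pullbackRightPullbackFstIso π i0 W0.ι
      have e : (W0.ι ≫ π).fiberToSpecResidueField s =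
          e0.inv ≫ pullback.snd W0.ι (pullback.fst π i0) ≫ π.fiberToSpecResidueField s := by
        exact e0.eq_inv_comp.2 (pullbackRightPullbackFstIso_hom_snd π i0 W0.ι)
      have := hs
      have : IsIso (pullback.diagonal (π.fiberToSpecResidueField s)) := inferInstance
      have hFU : FormallyUnramified (π.fiberToSpecResidueField s) := inferInstance
      rw [e]
      refine MorphismProperty.comp_mem @FormallyUnramified _ _ inferInstance ?_
      exact MorphismProperty.comp_mem @FormallyUnramified _ _ inferInstance hFU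
    exact Groth.Agent.UnramFibre.formallyUnramified_stalkMap_of_fibre _ _
  obtain ⟨U1, hxU1, hU1⟩ := (Groth.Agent.Unram.unramified_nhd_iff (W0.ι ≫ π) ⟨x, hxW0⟩).2 hun
  let i : U1.toScheme ⟶ X := U1.ι ≫ W0.ι
  let W' : X.Opens := i.opensRange
  have hxW' : x ∈ W' := ⟨⟨⟨x, hxW0⟩, hxU1⟩, rfl⟩
  let e : U1.toScheme ≅ W'.toScheme :=
    IsOpenImmersion.isoOfRangeEq i W'.ι (by rw [Scheme.Opens.range_ι]; rfl)
  have he : e.hom ≫ W'.ι = i := IsOpenImmersion.isoOfRangeEq_hom_fac _ _ _
  have hWe : W'.ι ≫ π = e.inv ≫ U1.ι ≫ W0.ι ≫ π := by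
    rw [Iso.eq_inv_comp, reassoc_of% he, Category.assoc]
  have : FormallyUnramified (W'.ι ≫ π) :=
    hWe ▸ MorphismProperty.comp_mem @FormallyUnramified _ _ inferInstance hU1
  have : LocallyOfFiniteType (W'.ι ≫ π) := hWe ▸ inferInstance
  let W'' : X.Opens := W' ⊓ (π ≫ ε) ⁻¹ᵁ W'
  let a : W''.toScheme ⟶ W'.toScheme := X.homOfLE inf_le_left
  let b : W''.toScheme ⟶ W'.toScheme := IsOpenImmersion.lift W'.ι (W''.ι ≫ π ≫ ε) (by
    rw [Scheme.Opens.range_ι]
    rintro _ ⟨z, rfl⟩
    exact z.2.2)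
  have ha : a ≫ W'.ι = W''.ι := Scheme.homOfLE_ι _ _
  have hb : b ≫ W'.ι = W''.ι ≫ π ≫ ε := IsOpenImmersion.lift_fac _ _ _
  let q := pullback.lift (f := W'.ι ≫ π) (g := W'.ι ≫ π) a b (by
    rw [reassoc_of% ha, reassoc_of% hb, hε, Category.comp_id])
  let j := pullback.fst q (pullback.diagonal (W'.ι ≫ π))
  let V : X.Opens := (j ≫ W''.ι).opensRange
  have hxW'' : x ∈ W'' := ⟨hxW', by
    show ε (π x) ∈ W'
    rw [hπx]; exact hxW'⟩
  have hxV : x ∈ V := by
    let σ : Spec (S.residueField s) ⟶ X := S.fromSpecResidueField s ≫ ε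
    let σ0 : Spec (S.residueField s) ⟶ W''.toScheme := IsOpenImmersion.lift W''.ι σ (by
      rw [Scheme.Opens.range_ι]
      rintro _ ⟨z, rfl⟩
      show ε (S.fromSpecResidueField s z) ∈ W''
      rw [Scheme.fromSpecResidueField_apply]
      exact hxW'')
    have h0 : σ0 ≫ W''.ι = σ := IsOpenImmersion.lift_fac _ _ _
    have hab : σ0 ≫ q = (σ0 ≫ a) ≫ pullback.diagonal (W'.ι ≫ π) := by
      apply pullback.hom_ext
      · simp only [q, Category.assoc, pullback.lift_fst, pullback.diagonal_fst, Category.comp_id]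
      · simp only [q, Category.assoc, pullback.lift_snd, pullback.diagonal_snd, Category.comp_id]
        rw [← cancel_mono W'.ι, Category.assoc, Category.assoc, ha, hb, reassoc_of% h0, h0]
        simp only [σ, Category.assoc, reassoc_of% hε]
    let pt : ↥(Spec (S.residueField s)) := (⊥ : PrimeSpectrum (S.residueField s))
    refine ⟨pullback.lift σ0 (σ0 ≫ a) hab pt, ?_⟩
    rw [← Scheme.Hom.comp_apply, pullback.lift_fst_assoc, h0]
    show ε (S.fromSpecResidueField s pt) = x
    rw [Scheme.fromSpecResidueField_apply]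
  have hfix : V.ι ≫ π ≫ ε = V.ι := by
    let eV := IsOpenImmersion.isoOfRangeEq (j ≫ W''.ι) V.ι (by rw [Scheme.Opens.range_ι]; rfl)
    have heV : eV.hom ≫ V.ι = j ≫ W''.ι := IsOpenImmersion.isoOfRangeEq_hom_fac _ _ _
    rw [← cancel_epi eV.hom, reassoc_of% heV, heV, ← hb, ← ha, ← Category.assoc, ← Category.assoc]
    congr 1
    have h1 := congrArg (fun z => z ≫ pullback.snd _ _) (pullback.condition (f := q) (g := pullback.diagonal (W'.ι ≫ π)))
    have h2 := congrArg (fun z => z ≫ pullback.fst _ _) (pullback.condition (f := q) (g := pullback.diagonal (W'.ι ≫ π)))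
    simp only [Category.assoc, q, pullback.lift_fst, pullback.lift_snd, pullback.diagonal_fst,
      pullback.diagonal_snd, Category.comp_id] at h1 h2
    exact h1.trans h2.symm
  have hfib : ∀ z, π z = s → z = x := by
    intro z hz
    have hsub : Function.Injective (π.fiberToSpecResidueField s) :=
      (asIso (π.fiberToSpecResidueField s)).hom.homeomorph.injective
    have hz' : z ∈ Set.range (π.fiberι s) := by rw [Scheme.Hom.range_fiberι]; exact hz
    have hx' : x ∈ Set.range (π.fiberι s) := by rw [Scheme.Hom.range_fiberι]; exact hπx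
    obtain ⟨z', rfl⟩ := hz'
    obtain ⟨x', hx''⟩ := hx'
    rw [← hx'']
    exact congrArg _ (hsub (Subsingleton.elim (α := PrimeSpectrum (S.residueField s)) _ _))
  let U : S.Opens := ⟨(π '' (V : Set X)ᶜ)ᶜ, (hcl _ V.isOpen.isClosed_compl).isOpen_compl⟩
  refine ⟨U, fun ⟨z, hz, hzs⟩ => hz (hfib z hzs ▸ hxV), ?_⟩
  have hUV : π ⁻¹ᵁ U ≤ V := fun z hz => by
    by_contra hn
    exact hz ⟨z, hn, rfl⟩
  let t : U.toScheme ⟶ (π ⁻¹ᵁ U).toScheme := IsOpenImmersion.lift (π ⁻¹ᵁ U).ι (U.ι ≫ ε) (by
    rw [Scheme.Opens.range_ι]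
    rintro _ ⟨z, rfl⟩
    show π (ε (U.ι z)) ∈ U
    rw [← Scheme.Hom.comp_apply, hε]
    exact z.2)
  have ht : t ≫ (π ⁻¹ᵁ U).ι = U.ι ≫ ε := IsOpenImmersion.lift_fac _ _ _
  refine ⟨t, ?_, ?_⟩
  · rw [← cancel_mono (π ⁻¹ᵁ U).ι, Category.assoc, ht, morphismRestrict_ι_assoc, Category.id_comp,
      ← Scheme.homOfLE_ι X hUV, Category.assoc, hfix]
  · rw [← cancel_mono U.ι, Category.assoc, morphismRestrict_ι, reassoc_of% ht, hε, Category.comp_id,
      Category.id_comp]

end Groth.Agent.S5321
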