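import Groth.Statements.S5322
import Groth.Agent.GeomConn.Fibre
import Mathlib.CategoryTheory.Monoidal.Cartesian.Over
-- import your own Groth.Agent.* helpers here

set_option autoImplicit false
universe u
open CategoryTheory CategoryTheory.Limits MonoidalCategory CartesianMonoidalCategory MonObj GrpObj AlgebraicGeometry
open SGA3

namespace Groth.Agent.S5322

/-- Let G be an S-group scheme and f : S' → S a morphism. Then the subset of G ×_S S' formed by the
neutral components of its fibres over S' is the inverse image, under the first projection G ×_S S' →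
G, of the subset of G formed by the neutral components of the fibres G_s: the formation of the
neutral component commutes with base change. -/
theorem result (S S' : Scheme.{u}) (f : S' ⟶ S) (G : Over S) [GrpObj G] :
    SGA3x.neutralSet (Red.bc f G) = (pullback.fst G.hom f).base ⁻¹' SGA3x.neutralSet G := by
  let e : S ⟶ G.left := η[G].left
  have he : e ≫ G.hom = 𝟙 S := Over.w η[G]
  let e' : S' ⟶ pullback G.hom f := η[Red.bc f G].left
  have he' : e' ≫ pullback.snd G.hom f = 𝟙 S' := Over.w η[Red.bc f G]
  have hee : e' ≫ pullback.fst G.hom f = f ≫ e := by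
    have h1 : η[Red.bc f G] = Functor.LaxMonoidal.ε (Over.pullback f) ≫ (Over.pullback f).map η[G] := rfl
    show (η[Red.bc f G]).left ≫ _ = _
    rw [h1, Over.comp_left, Over.ε_pullback_left, Category.assoc, IsIso.inv_comp_eq]
    show ((Over.pullback f).map η[G]).left ≫ pullback.fst G.hom f = _
    rw [show ((Over.pullback f).map η[G]).left ≫ pullback.fst G.hom f = _ from pullback.lift_fst _ _ _]
    show pullback.fst (𝟙 S) f ≫ e = pullback.snd (𝟙 S) f ≫ f ≫ e
    rw [← pullback.condition_assoc]
    simp
  have key := fun s' => Groth.Agent.GeomConn.connectedComponentIn_fibre_bc G.hom f e he e' he' hee s'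
  ext z
  simp only [SGA3x.neutralSet, Set.mem_preimage, Set.mem_iUnion]
  constructor
  · rintro ⟨p, hp⟩
    have hp' : z ∈ connectedComponentIn (pullback.snd G.hom f ⁻¹' {p}) (e' p) := hp
    rw [key p] at hp'
    exact ⟨f p, hp'.2⟩
  · rintro ⟨s, hs⟩
    have hs' : pullback.fst G.hom f z ∈ connectedComponentIn (G.hom ⁻¹' {s}) (e s) := hs
    have h1 : G.hom (pullback.fst G.hom f z) = s := connectedComponentIn_subset (G.hom ⁻¹' {s}) _ hs'
    refine ⟨pullback.snd G.hom f z, ?_⟩
    show z ∈ connectedComponentIn (pullback.snd G.hom f ⁻¹' {pullback.snd G.hom f z}) (e' (pullback.snd G.hom f z))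
    rw [key]
    have h2 : f (pullback.snd G.hom f z) = s := by
      rw [← h1, ← Scheme.Hom.comp_apply, ← Scheme.Hom.comp_apply, pullback.condition]
    refine ⟨rfl, ?_⟩
    rw [Set.mem_preimage, h2]
    exact hs'

end Groth.Agent.S5322
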