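import Groth.Statements.S5324
import Groth.Agent.Neutral0.Group
-- import your own Groth.Agent.* helpers here

set_option autoImplicit false
universe u
open CategoryTheory CategoryTheory.Limits MonoidalCategory CartesianMonoidalCategory MonObj GrpObj AlgebraicGeometry
open SGA3

namespace Groth.Agent.S5324

open Groth.Agent.Neutral0
set_option backward.isDefEq.respectTransparency.types false
open scoped CategoryTheory.Obj

/-- Let G be an S-group scheme whose fibres G_s are locally of finite type over κ(s) and connected. Then
G is quasi-compact over S. -/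
theorem result (S : Scheme.{u}) (G : Over S) [GrpObj G]
    (hG : ∀ s : S, LocallyOfFiniteType (G.hom.fiberToSpecResidueField s))
    (hconn : ∀ s : S, _root_.IsConnected (G.hom.base ⁻¹' {s})) : QuasiCompact G.hom := by
  rw [IsZariskiLocalAtTarget.iff_of_openCover (P := @QuasiCompact) S.affineCover]
  intro j
  let jj : S.affineCover.X j ⟶ S := S.affineCover.f j
  let G' := (Over.pullback jj).obj G
  have hG' : ∀ w, LocallyOfFiniteType (G'.hom.fiberToSpecResidueField w) := by
    intro w
    have h := locallyOfFiniteType_GK (fromPt w ≫ jj) hG
    rw [show (GK (fromPt w ≫ jj) G).hom = pullback.snd G.hom (fromPt w ≫ jj) from rfl,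
      ← MorphismProperty.cancel_left_of_respectsIso (P := @LocallyOfFiniteType)
        (pullbackLeftPullbackSndIso G.hom jj (fromPt w)).hom, pullbackLeftPullbackSndIso_hom_snd] at h
    exact h
  obtain ⟨U, hUc, hU⟩ := exists_compact_open_supset hG'
  have hN : SGA3x.neutralSet G' = Set.univ := by
    refine Set.eq_univ_of_forall fun x => mem_neutralSet.2 ?_
    set w := G'.hom x
    have hp : Topology.IsOpenEmbedding (pullback.fst G.hom jj) := (pullback.fst G.hom jj).isOpenEmbedding
    have heq : G'.hom ⁻¹' {w} = pullback.fst G.hom jj ⁻¹' (G.hom ⁻¹' {jj w}) := by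
      ext z
      have hz : G.hom (pullback.fst G.hom jj z) = jj (G'.hom z) :=
        congrArg (fun (f : pullback G.hom jj ⟶ S) => f z) pullback.condition
      constructor
      · intro hzw
        exact hz.trans (congrArg jj hzw)
      · intro hzw
        exact jj.isOpenEmbedding.injective (hz.symm.trans hzw)
    have hc : _root_.IsPreconnected (G'.hom ⁻¹' {w}) := by
      rw [heq, ← hp.isInducing.isPreconnected_image, Set.image_preimage_eq_of_subset]
      · exact (hconn (jj w)).isPreconnected
      · rw [Scheme.Pullback.range_fst]
        intro z hz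
        exact ⟨w, (show G.hom z = jj w from hz).symm⟩
    exact (hc.connectedComponentIn (hom_one w)).ge rfl
  have : CompactSpace G'.left := ⟨hUc.of_isClosed_subset isClosed_univ (hN ▸ hU)⟩
  exact (HasAffineProperty.iff_of_isAffine (P := @QuasiCompact)).2 this

end Groth.Agent.S5324
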