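import Groth.Statements.S5331
import Groth.Agent.GrpSch.OverBase
import Mathlib.AlgebraicGeometry.Morphisms.Separated
-- import your own Groth.Agent.* helpers here

set_option autoImplicit false
universe u
open CategoryTheory CategoryTheory.Limits MonoidalCategory CartesianMonoidalCategory MonObj GrpObj AlgebraicGeometry
open SGA3

namespace Groth.Agent.S5331

/-- Let S be a scheme whose underlying topological space is discrete. Then every S-group scheme is
separated over S. -/
theorem result (S : Scheme.{u}) [DiscreteTopology S] (G : Over S) [GrpObj G] :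
    IsSeparated G.hom := by
  rw [Groth.Agent.GrpSch.isSeparated_iff_one]
  let ε : S ⟶ G.left := η[G].left
  have hε : ε ≫ G.hom = 𝟙 S := Over.w η[G]
  show IsClosedImmersion ε
  let U : S → G.left.Opens := fun s => G.hom ⁻¹ᵁ ⟨{s}, isOpen_discrete _⟩
  refine IsZariskiLocalAtTarget.of_iSup_eq_top U (top_unique fun x _ => ?_) fun s => ?_
  · exact TopologicalSpace.Opens.mem_iSup.2 ⟨G.hom.base x, rfl⟩
  · let V : S.Opens := ⟨{s}, isOpen_discrete _⟩
    have h : IsIso ((ε ≫ G.hom) ∣_ V) := by rw [hε]; infer_instance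
    have hsub : Subsingleton ↥(ε ⁻¹ᵁ U s : S.Opens).toScheme := by
      refine ⟨fun a b => Subtype.ext ?_⟩
      have key : ∀ a : S, a ∈ ε ⁻¹ᵁ U s → a = s := by
        intro a ha
        have e : G.hom.base (ε.base a) = a := by
          rw [← Scheme.Hom.comp_apply, hε]; rfl
        exact e.symm.trans ha
      rw [key _ a.2, key _ b.2]
    have hc : (ε ∣_ U s) ≫ (G.hom ∣_ V) = (ε ≫ G.hom) ∣_ V := (morphismRestrict_comp ε G.hom V).symm
    have : Subsingleton ↥((ε ≫ G.hom) ⁻¹ᵁ V : S.Opens).toScheme := hsub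
    refine isClosedImmersion_of_comp_eq_id ((G.hom ∣_ V) ≫ inv ((ε ≫ G.hom) ∣_ V)) _ ?_
    rw [← Category.assoc]
    exact (congrArg (· ≫ @CategoryTheory.inv _ _ _ _ ((ε ≫ G.hom) ∣_ V) h) hc).trans (@IsIso.hom_inv_id _ _ _ _ _ h)

end Groth.Agent.S5331
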