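import Groth.Statements.S5335
import Groth.Agent.GrpSch.FieldTop
import Groth.Agent.FpqcDescent.UnivOpenPoint
-- import your own Groth.Agent.* helpers here

set_option autoImplicit false
universe u
open CategoryTheory CategoryTheory.Limits MonoidalCategory CartesianMonoidalCategory MonObj GrpObj AlgebraicGeometry
open SGA3

namespace Groth.Agent.S5335

/-- Let A be a local artinian ring and f : X' → X, g : Y' → Y two quasi-compact dominant morphisms of
schemes over A. Then the product morphism f ×_A g : X' ×_A Y' → X ×_A Y is dominant (and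
quasi-compact). -/
theorem result (A : Type u) [CommRing A] [IsArtinianRing A] [IsLocalRing A] (X X' Y Y' : Over (Spec (CommRingCat.of A)))
    (f : X' ⟶ X) (g : Y' ⟶ Y) [QuasiCompact f.left] [QuasiCompact g.left]
    (hf : DenseRange f.left.base) (hg : DenseRange g.left.base) :
    DenseRange (f ⊗ₘ g).left.base ∧ QuasiCompact (f ⊗ₘ g).left := by
  have hsub : Subsingleton ↥(Spec (CommRingCat.of A)) := by
    refine ⟨fun p q => PrimeSpectrum.ext ?_⟩
    rw [IsLocalRing.eq_maximalIdeal (IsArtinianRing.isMaximal_of_isPrime (PrimeSpectrum.asIdeal p)),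
      IsLocalRing.eq_maximalIdeal (IsArtinianRing.isMaximal_of_isPrime (PrimeSpectrum.asIdeal q))]
  have huo : ∀ Z : Over (Spec (CommRingCat.of A)), UniversallyOpen Z.hom := fun Z =>
    Groth.Agent.FpqcDescent.universallyOpen_of_subsingleton Z.hom
  have key : ∀ (T : Over (Spec (CommRingCat.of A))) {H G : Over (Spec (CommRingCat.of A))} (ψ : H ⟶ G),
      DenseRange ψ.left.base → QuasiCompact ψ.left →
        DenseRange (T ◁ ψ).left.base ∧ QuasiCompact (T ◁ ψ).left := by
    intro T H G ψ hd hq
    refine ⟨?_, ?_⟩
    · have ho : IsOpenMap (snd T G).left := by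
        have : UniversallyOpen (snd T G).left :=
          Groth.Agent.GrpSch.property_snd (P := @UniversallyOpen) T G (huo T)
        exact (snd T G).left.isOpenMap
      show Dense (Set.range (T ◁ ψ).left)
      rw [Groth.Agent.GrpSch.range_whiskerLeft]
      exact Dense.preimage hd ho
    · exact MorphismProperty.of_isPullback
        (Groth.Agent.GrpSch.isPullback_left (Groth.Agent.GrpSch.isPullback_whiskerLeft T ψ)).flip hq
  have hiso : ∀ {P Q : Over (Spec (CommRingCat.of A))} (e : P ≅ Q), IsIso e.hom.left := fun e =>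
    inferInstanceAs (IsIso ((Over.forget _).map e.hom))
  have key' : DenseRange (f ▷ Y').left.base ∧ QuasiCompact (f ▷ Y').left := by
    have e : f ▷ Y' = (β_ X' Y').hom ≫ Y' ◁ f ≫ (β_ Y' X).hom := by
      rw [BraidedCategory.braiding_naturality_right, SymmetricCategory.symmetry_assoc]
    obtain ⟨h1, h2⟩ := key Y' f hf inferInstance
    have := hiso (β_ X' Y')
    have := hiso (β_ Y' X)
    rw [e, Over.comp_left, Over.comp_left]
    refine ⟨?_, inferInstance⟩
    rw [Scheme.Hom.comp_base, Scheme.Hom.comp_base, TopCat.coe_comp, TopCat.coe_comp]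
    exact ((β_ Y' X).hom.left.surjective.denseRange.comp h1 (β_ Y' X).hom.left.continuous).comp
      (β_ X' Y').hom.left.surjective.denseRange (Continuous.comp (β_ Y' X).hom.left.continuous (Y' ◁ f).left.continuous)
  obtain ⟨h1, h2⟩ := key X g hg inferInstance
  obtain ⟨h3, h4⟩ := key'
  rw [MonoidalCategory.tensorHom_def, Over.comp_left]
  refine ⟨?_, inferInstance⟩
  rw [Scheme.Hom.comp_base, TopCat.coe_comp]
  exact h1.comp h3 (X ◁ g).left.continuous

end Groth.Agent.S5335
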