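import Groth.Statements.S5341
import Groth.Agent.GrpSch.Dim
import Groth.Agent.GrpSch.Neutral
-- import your own Groth.Agent.* helpers here

set_option autoImplicit false
universe u
open CategoryTheory CategoryTheory.Limits MonoidalCategory CartesianMonoidalCategory MonObj GrpObj AlgebraicGeometry
open SGA3

namespace Groth.Agent.S5341

open Groth.Agent.GrpSch
set_option backward.isDefEq.respectTransparency.types false

/-- Let G be a group scheme locally of finite type over a field k. Then (i) every irreducible component
of G has the same dimension as G; (ii) for every point g of G the local dimension of G at g (the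
infimum of the dimensions of the open neighbourhoods of g) equals dim G. -/
theorem result (k : Type u) [Field k] (G : Over (Spec (CommRingCat.of k))) [GrpObj G]
    [LocallyOfFiniteType G.hom] :
    (∀ Z ∈ irreducibleComponents ↥G.left, topologicalKrullDim ↥Z = topologicalKrullDim ↥G.left) ∧
    (∀ g : G.left, FlatMor.localDim ↥G.left g = topologicalKrullDim ↥G.left) := by
  have : JacobsonSpace G.left := LocallyOfFiniteType.jacobsonSpace G.hom
  have key : ∀ U : G.left.Opens, (U : Set G.left).Nonempty →
      topologicalKrullDim ↥(U : Set G.left) = topologicalKrullDim ↥G.left := by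
    intro U hU
    refine le_antisymm (topologicalKrullDim_subspace_le _ _) ?_
    obtain ⟨c, hcU, hc⟩ := nonempty_inter_closedPoints hU U.2.isLocallyClosed
    rw [← coheight_eq_topologicalKrullDim G hc]
    show _ ≤ topologicalKrullDim ↥U.toScheme
    rw [topologicalKrullDim_eq_iSup_coheight]
    let c' : U.toScheme := ⟨c, hcU⟩
    have h : Order.coheight (U.ι c') = Order.coheight c' := coheight_eq_of_isOpenImmersion U.ι
    exact h ▸ le_iSup (fun x : U.toScheme => (Order.coheight x : WithBot ℕ∞)) c'
  refine ⟨fun Z hZ => ?_, fun g => le_antisymm ?_ ?_⟩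
  · obtain ⟨x, hx⟩ := hZ.1.nonempty
    have : Z = irreducibleComponent x := eq_of_mem_irreducibleComponents G hZ
      (irreducibleComponent_mem_irreducibleComponents x) hx mem_irreducibleComponent
    subst this
    exact key ⟨_, isOpen_irreducibleComponent G x⟩ ⟨x, hx⟩
  · refine (iInf_le _ ⟨⊤, trivial⟩).trans ?_
    exact le_of_eq (key ⊤ ⟨g, trivial⟩)
  · refine le_iInf fun U => ?_
    exact (key U.1 ⟨g, U.2⟩).ge

end Groth.Agent.S5341
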