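import Groth.Statements.S5343
import Mathlib.RingTheory.Ideal.IdempotentFG
import Mathlib.RingTheory.LocalRing.ResidueField.Ideal
-- import your own Groth.Agent.* helpers here

set_option autoImplicit false
universe u
open CategoryTheory CategoryTheory.Limits MonoidalCategory CartesianMonoidalCategory MonObj GrpObj AlgebraicGeometry
open SGA3

namespace Groth.Agent.S5343

/-- Let R be a commutative ring and B a commutative R-algebra which is projective as an R-module. Then
the image of Spec B → Spec R is an open and closed subset of Spec R. (The published statement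
concerns a quasi-coherent algebra on any scheme which is a direct summand of a free module; this row
is the affine case.) -/
theorem result (R B : Type u) [CommRing R] [CommRing B] [Algebra R B] [Module.Projective R B] :
    IsClopen (Set.range (PrimeSpectrum.comap (algebraMap R B))) := by
  classical
  obtain ⟨s, hs⟩ := Module.projective_def'.1 ‹Module.Projective R B›
  let c : B →ₗ[R] (B →₀ R) := s
  let t := (c 1).support
  let I : Ideal R := Ideal.span ((t.image fun b => c 1 b : Finset R) : Set R)
  have hmem : ∀ b, c 1 b ∈ I := fun b => by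
    by_cases hb : b ∈ t
    · exact Ideal.subset_span (Finset.mem_coe.2 (Finset.mem_image_of_mem _ hb))
    · rw [Finsupp.notMem_support_iff.1 hb]; exact zero_mem _
  have hexp : ∀ x : B, x = ∑ b ∈ t, c 1 b • (b * x) := fun x => by
    have h1 : Finsupp.linearCombination R id (c 1) = (1 : B) := LinearMap.congr_fun hs 1
    rw [Finsupp.linearCombination_apply, Finsupp.sum] at h1
    calc x = (∑ b ∈ t, c 1 b • id b) * x := by rw [h1, _root_.one_mul]
      _ = _ := by simp [Finset.sum_mul, smul_mul_assoc]
  have hcI : ∀ x b, c x b ∈ I := fun x b => by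
    rw [hexp x, map_sum, Finsupp.finsetSum_apply]
    refine I.sum_mem fun a _ => ?_
    rw [map_smul, Finsupp.smul_apply, smul_eq_mul]
    exact I.mul_mem_right _ (hmem a)
  have hidem : IsIdempotentElem I := by
    refine le_antisymm Ideal.mul_le_right (Ideal.span_le.2 ?_)
    intro r hr
    obtain ⟨b, -, rfl⟩ := Finset.mem_image.1 (Finset.mem_coe.1 hr)
    show c 1 b ∈ I * I
    rw [hexp 1, map_sum, Finsupp.finsetSum_apply]
    refine (I * I).sum_mem fun a _ => ?_
    rw [map_smul, Finsupp.smul_apply, smul_eq_mul]
    exact Ideal.mul_mem_mul (hmem a) (hcI _ b)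
  obtain ⟨e, he, hIe⟩ := (Ideal.isIdempotentElem_iff_of_fg I ⟨_, rfl⟩).1 hidem
  have hset : Set.range (PrimeSpectrum.comap (algebraMap R B)) = (PrimeSpectrum.basicOpen e : Set (PrimeSpectrum R)) := by
    ext p
    have hb : p ∈ (PrimeSpectrum.basicOpen e : Set (PrimeSpectrum R)) ↔ ¬ I ≤ p.asIdeal := by
      rw [hIe, Submodule.span_singleton_le_iff_mem]; rfl
    rw [hb]
    constructor
    · rintro ⟨q, rfl⟩ hle
      apply q.isPrime.ne_top
      rw [Ideal.eq_top_iff_one, hexp 1]
      refine q.asIdeal.sum_mem fun a _ => ?_
      rw [Algebra.smul_def]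
      exact q.asIdeal.mul_mem_right _ (hle (hmem a))
    · intro hI
      obtain ⟨b, hbt, hbp⟩ : ∃ b ∈ t, c 1 b ∉ p.asIdeal := by
        by_contra! h
        exact hI (Ideal.span_le.2 fun r hr => by
          obtain ⟨b, hb, rfl⟩ := Finset.mem_image.1 (Finset.mem_coe.1 hr)
          exact h b hb)
      have : Nontrivial (TensorProduct R p.asIdeal.ResidueField B) := by
        refine ⟨(1 : p.asIdeal.ResidueField) ⊗ₜ[R] (1 : B), 0, fun h => hbp ?_⟩
        have h2 := congrArg ((TensorProduct.rid R p.asIdeal.ResidueField).toLinearMap ∘ₗ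
          LinearMap.lTensor _ (Finsupp.lapply b ∘ₗ c)) h
        simp [Algebra.smul_def] at h2
        exact h2
      exact (PrimeSpectrum.nontrivial_iff_mem_rangeComap p).1 this
  rw [hset]
  exact PrimeSpectrum.isClopen_iff_mul_add.2 ⟨e, 1 - e, by rw [mul_sub, _root_.mul_one, he.eq, sub_self], add_sub_cancel e 1, rfl⟩

end Groth.Agent.S5343
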