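import Groth.Statements.S5344
import Groth.Agent.Neutral0.Group
import Mathlib.RingTheory.Artinian.Ring
-- import your own Groth.Agent.* helpers here

set_option autoImplicit false
universe u
open CategoryTheory CategoryTheory.Limits MonoidalCategory CartesianMonoidalCategory MonObj GrpObj AlgebraicGeometry
open SGA3

namespace Groth.Agent.S5344

open Groth.Agent.Neutral0
set_option backward.isDefEq.respectTransparency.types false

/-- Let A be a local artinian ring and G an A-group scheme locally of finite type, and let G⁰ be the
connected component of the unit point. Then G⁰ is open in G; it is stable under the group law: for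
every A-scheme T and all points g, h : T → G whose images lie in G⁰, the image of g h⁻¹ lies in G⁰
(so G⁰ carries an open subgroup scheme, the neutral component); and it is normal: for every A-scheme
T, every point g : T → G and every point n : T → G whose image lies in G⁰, the image of g n g⁻¹ lies
in G⁰. -/
theorem result (A : Type u) [CommRing A] [IsArtinianRing A] [IsLocalRing A] (G : Over (Spec (CommRingCat.of A))) [GrpObj G] [LocallyOfFiniteType G.hom]
    (pt : ↥(𝟙_ (Over (Spec (CommRingCat.of A)))).left) :
    IsOpen (connectedComponent (η[G].left.base pt)) ∧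
    (∀ (T : Over (Spec (CommRingCat.of A))) (g h : T ⟶ G), Set.range g.left.base ⊆ connectedComponent (η[G].left.base pt) →
      Set.range h.left.base ⊆ connectedComponent (η[G].left.base pt) →
      Set.range (g * h⁻¹).left.base ⊆ connectedComponent (η[G].left.base pt)) ∧
    ∀ (T : Over (Spec (CommRingCat.of A))) (g n : T ⟶ G), Set.range n.left.base ⊆ connectedComponent (η[G].left.base pt) →
      Set.range (g * n * g⁻¹).left.base ⊆ connectedComponent (η[G].left.base pt) := by
  have hG : ∀ s, LocallyOfFiniteType (G.hom.fiberToSpecResidueField s) := fun s =>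
    MorphismProperty.pullback_snd _ _ inferInstance
  obtain ⟨s, hs⟩ : ∃ s : Spec (CommRingCat.of A), s = pt := ⟨pt, rfl⟩
  have hu : G.hom ⁻¹' {s} = Set.univ :=
    Set.eq_univ_of_forall fun _ => Subsingleton.elim (α := PrimeSpectrum A) _ _
  have hN : SGA3x.neutralSet G = connectedComponent (η[G].left.base pt) := by
    subst hs
    have := neutralSet_inter_fibre (G := G) s
    rw [hu, Set.inter_univ, connectedComponentIn_univ] at this
    exact this
  rw [← hN]
  refine ⟨?_, fun T g h hg hh => ?_, fun T g n hn => ?_⟩
  · have : LocallyOfFiniteType (GK (fromPt s) G).hom := locallyOfFiniteType_GK _ hG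
    have hr := range_pr (G := G) s
    rw [hu] at hr
    rw [← Set.image_preimage_eq (SGA3x.neutralSet G) (f := pr (fromPt s) G) (Set.range_eq_univ.1 hr),
      preimage_neutralSet _ hG]
    refine (Topology.IsEmbedding.toHomeomorphOfSurjective
      (pullback.fst G.hom (fromPt s)).isEmbedding (Set.range_eq_univ.1 hr)).isOpenMap _ ?_
    rw [Groth.Agent.GrpSch.connectedComponent_eq]
    exact Groth.Agent.GrpSch.isOpen_irreducibleComponent _ _
  · rintro _ ⟨x, rfl⟩
    exact mul_inv_mem_neutralSet hG g h x (hg ⟨x, rfl⟩) (hh ⟨x, rfl⟩)
  · rintro _ ⟨x, rfl⟩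
    exact conj_mem_neutralSet hG g n x (hn ⟨x, rfl⟩)

end Groth.Agent.S5344
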