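import Groth.Statements.S5345
import Groth.Agent.Neutral0.Group
import Mathlib.RingTheory.Artinian.Ring
-- import your own Groth.Agent.* helpers here

set_option autoImplicit false
universe u
open CategoryTheory CategoryTheory.Limits MonoidalCategory CartesianMonoidalCategory MonObj GrpObj AlgebraicGeometry
open SGA3

namespace Groth.Agent.S5345

open Groth.Agent.Neutral0
set_option backward.isDefEq.respectTransparency.types false
open scoped CategoryTheory.Obj

/-- Let A be a local artinian ring and G an A-group scheme locally of finite type. Then every connected
component of G, in particular the connected component of the unit, is quasi-compact (so the open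
subscheme it carries is of finite type over A). (The published statement also asserts that the
components are irreducible and of equal dimension; this row states only their quasi-compactness.) -/
theorem result (A : Type u) [CommRing A] [IsArtinianRing A] [IsLocalRing A] (G : Over (Spec (CommRingCat.of A))) [GrpObj G] [LocallyOfFiniteType G.hom]
    (g : G.left) : IsCompact (connectedComponent g) := by
  have hG : ∀ s, LocallyOfFiniteType (G.hom.fiberToSpecResidueField s) := fun s =>
    MorphismProperty.pullback_snd _ _ inferInstance
  obtain ⟨s, -⟩ : ∃ s, G.hom g = s := ⟨_, rfl⟩
  have hr := range_pr (G := G) s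
  rw [show G.hom ⁻¹' {s} = Set.univ from
    Set.eq_univ_of_forall fun _ => Subsingleton.elim (α := PrimeSpectrum A) _ _] at hr
  have : LocallyOfFiniteType (GK (fromPt s) G).hom := locallyOfFiniteType_GK _ hG
  obtain ⟨w, rfl⟩ := Set.range_eq_univ.1 hr g
  have h := image_connectedComponent (pullback.fst G.hom (fromPt s)).isEmbedding w
  rw [hr, connectedComponentIn_univ] at h
  rw [← h]
  exact (isCompact_connectedComponent w).image (pullback.fst G.hom (fromPt s)).continuous

end Groth.Agent.S5345
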