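import Groth.Statements.S5346
import Groth.Agent.NilLift.Thickening
import Mathlib.RingTheory.Artinian.Ring
-- import your own Groth.Agent.* helpers here

set_option autoImplicit false
universe u
open CategoryTheory CategoryTheory.Limits MonoidalCategory CartesianMonoidalCategory MonObj GrpObj AlgebraicGeometry
open SGA3

namespace Groth.Agent.S5346

open Groth.Agent.NilLift

/-- Let A be a local artinian ring with residue field k and i : Spec k → Spec A the closed point. (i) If
X is an A-scheme whose base change X ⊗_A k is locally of finite type (resp. of finite type) over k,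
then X is locally of finite type (resp. of finite type) over A. (ii) If u : X → Y is a morphism of
A-schemes whose base change u ⊗_A k is an immersion (resp. a closed immersion), then u is an
immersion (resp. a closed immersion). -/
theorem result (A : Type u) [CommRing A] [IsArtinianRing A] [IsLocalRing A] (X Y : Over (Spec (CommRingCat.of A))) (u : X ⟶ Y) :
    letI i : Spec (CommRingCat.of (IsLocalRing.ResidueField A)) ⟶ (Spec (CommRingCat.of A)) := Spec.map (CommRingCat.ofHom (IsLocalRing.residue A))
    (LocallyOfFiniteType (pullback.snd X.hom i) → LocallyOfFiniteType X.hom) ∧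
    (LocallyOfFiniteType (pullback.snd X.hom i) → QuasiCompact (pullback.snd X.hom i) → QuasiCompact X.hom) ∧
    (IsImmersion ((Over.pullback i).map u).left → IsImmersion u.left) ∧
    (IsClosedImmersion ((Over.pullback i).map u).left → IsClosedImmersion u.left) := by
  have hm : IsNilpotent (IsLocalRing.maximalIdeal A) := by
    rw [← IsLocalRing.jacobson_eq_maximalIdeal (⊥ : Ideal A) bot_ne_top]
    exact IsArtinianRing.isNilpotent_jacobson_bot
  refine ⟨fun h => ?_, fun _ h => ?_, ?_⟩
  · have : LocallyOfFiniteType (pullback.snd X.hom (quotι (IsLocalRing.maximalIdeal A))) := h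
    exact locallyOfFiniteType_of_nil _ hm _
  · have : QuasiCompact (pullback.snd X.hom (quotι (IsLocalRing.maximalIdeal A))) := h
    exact quasiCompact_of_nil _ hm _
  have key : ∀ (X' : Scheme.{u}) (u' : X' ⟶ Y.left) (v : pullback (u' ≫ Y.hom) (quotι (IsLocalRing.maximalIdeal A)) ⟶
      pullback Y.hom (quotι (IsLocalRing.maximalIdeal A))) (_ : v ≫ pullback.fst _ _ = pullback.fst _ _ ≫ u'),
      (IsImmersion v → IsImmersion u') ∧ (IsClosedImmersion v → IsClosedImmersion u') :=
    fun X' u' v hv => isImmersion_of_nil _ hm u' Y.hom v hv
  have e := Over.w u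
  have H : ∀ (a : X.left ⟶ Spec (CommRingCat.of A)) (he : u.left ≫ Y.hom = a)
      (v : pullback a (quotι (IsLocalRing.maximalIdeal A)) ⟶
      pullback Y.hom (quotι (IsLocalRing.maximalIdeal A))), v ≫ pullback.fst _ _ = pullback.fst _ _ ≫ u.left →
      (IsImmersion v → IsImmersion u.left) ∧ (IsClosedImmersion v → IsClosedImmersion u.left) := by
    rintro a rfl v hv
    exact key _ _ v hv
  refine H _ e _ ?_
  exact pullback.lift_fst _ _ _

end Groth.Agent.S5346
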