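import Groth.Statements.S5354
import Groth.Agent.GrpSch.FieldTop
import Mathlib.AlgebraicGeometry.Morphisms.Flat
-- import your own Groth.Agent.* helpers here

set_option autoImplicit false
universe u
open CategoryTheory CategoryTheory.Limits MonoidalCategory CartesianMonoidalCategory MonObj GrpObj AlgebraicGeometry
open SGA3

namespace Groth.Agent.S5354

open Groth.Agent.GrpSch
set_option backward.isDefEq.respectTransparency.types false

/-- Let G be a group scheme over a field k (not assumed of finite type). For every point x of G there is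
a point z of G ×_k G with product x whose two projections are maximal points of G (generic points of
irreducible components). -/
theorem result (k : Type u) [Field k] (G : Over (Spec (CommRingCat.of k))) [GrpObj G] (x : G.left) :
    ∃ z : ↥(G ⊗ G).left, μ[G].left.base z = x ∧
      closure {(fst G G).left.base z} ∈ irreducibleComponents ↥G.left ∧
      closure {(snd G G).left.base z} ∈ irreducibleComponents ↥G.left := by
  set T := ptOver G x
  set t : T ⟶ G := ptHom G x
  let m : T ⊗ G ⟶ G := (fst T G ≫ t) * (snd T G)⁻¹
  have hm : m = (T ◁ ι[G]) ≫ (t ▷ G ≫ μ[G]) := by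
    rw [whiskerRight_mul, MonObj.comp_mul, whiskerLeft_fst_assoc, whiskerLeft_snd]
    rfl
  have : Flat T.hom := inferInstance
  have h1 : Flat m.left := by
    have : IsIso ι[G] := ⟨ι[G], GrpObj.inv_comp_inv G, GrpObj.inv_comp_inv G⟩
    have : IsIso (T ◁ ι[G]).left := inferInstanceAs (IsIso ((Over.forget _).map (T ◁ ι[G])))
    have := property_whisker_mul (P := @Flat) t (inferInstance : Flat T.hom)
    rw [hm, Over.comp_left]
    exact MorphismProperty.comp_mem @Flat _ _ inferInstance this
  have h2 : Flat (snd T G).left := property_snd T G inferInstance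
  obtain ⟨p₀⟩ : Nonempty T.left := inferInstanceAs (Nonempty (PrimeSpectrum _))
  obtain ⟨Z, hZ, -⟩ := exists_mem_irreducibleComponents_subset_of_isIrreducible
    {(lift (𝟙 T) 1 : T ⟶ T ⊗ G).left p₀} isIrreducible_singleton
  have hζ := hZ.1.isGenericPoint_genericPoint (isClosed_of_mem_irreducibleComponents Z hZ)
  set ζ := hZ.1.genericPoint
  have hmax : ∀ ξ : ↥(T ⊗ G).left, ξ ⤳ ζ → ξ = ζ := by
    intro ξ hξ
    have hle : Z ⊆ closure {ξ} := fun a ha => (hξ.trans (hζ.specializes ha)).mem_closure
    have hξZ : ξ ∈ Z := hZ.2 isIrreducible_singleton.closure hle (subset_closure rfl)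
    exact (hξ.antisymm (hζ.specializes hξZ)).eq
  have key : ∀ (f : (T ⊗ G).left ⟶ G.left), Flat f →
      closure {f ζ} ∈ irreducibleComponents ↥G.left := by
    intro f hf
    obtain ⟨C, hC, hle⟩ := exists_mem_irreducibleComponents_subset_of_isIrreducible {f ζ}
      isIrreducible_singleton
    have hξ := hC.1.isGenericPoint_genericPoint (isClosed_of_mem_irreducibleComponents C hC)
    obtain ⟨ξ', hξ', he⟩ := Flat.generalizingMap f (hξ.specializes (hle rfl))
    obtain rfl := hmax ξ' hξ'
    rw [he, hξ.def]
    exact hC
  refine ⟨(lift m (snd T G)).left ζ, ?_, ?_, ?_⟩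
  · rw [← comp_left_apply, ← mul_eq_lift, inv_mul_cancel_right, comp_left_apply]
    exact ptHom_apply G x _
  · rw [← comp_left_apply, lift_fst]
    exact key _ h1
  · rw [← comp_left_apply, lift_snd]
    exact key _ h2

end Groth.Agent.S5354
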