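import Groth.Statements.S5358
import Groth.Agent.GrpSch.FactorLocus
import Groth.Agent.GrpSch.FieldTop
import Groth.Agent.GrpSch.Cat
-- import your own Groth.Agent.* helpers here

set_option autoImplicit false
universe u
open CategoryTheory CategoryTheory.Limits MonoidalCategory CartesianMonoidalCategory MonObj GrpObj AlgebraicGeometry
open SGA3

namespace Groth.Agent.S5358

/-- Let G be a group scheme over a field k, y' : Y' → G an immersion and y : Y → G a closed immersion.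
(ii) The transporter of Y' into Y, whose points with values in S' are the g such that conjugation by
g carries every point of Y' (after any base change S'' → S') into Y, is represented by a closed
subscheme of G; if y' is also a closed immersion, so is the strict transporter (g Y' g⁻¹ = Y
functorially). (iii) For every subgroup scheme h : H → G (a homomorphism which is an immersion), the
normalizer of H in G is represented by a closed subscheme of G. -/
theorem result (k : Type u) [Field k] (G Y Y' : Over (Spec (CommRingCat.of k))) [GrpObj G]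
    (y : Y ⟶ G) [IsClosedImmersion y.left] (y' : Y' ⟶ G) [IsImmersion y'.left] :
    (∃ (T : Over (Spec (CommRingCat.of k))) (t : T ⟶ G), IsClosedImmersion t.left ∧
      ∀ (S' : Over (Spec (CommRingCat.of k))) (g : S' ⟶ G), (∃ z : S' ⟶ T, z ≫ t = g) ↔
        ∀ (S'' : Over (Spec (CommRingCat.of k))) (s : S'' ⟶ S') (x : S'' ⟶ Y'),
          ∃ x' : S'' ⟶ Y, (s ≫ g) * (x ≫ y') * (s ≫ g)⁻¹ = x' ≫ y) ∧
    (IsClosedImmersion y'.left →
      ∃ (T : Over (Spec (CommRingCat.of k))) (t : T ⟶ G), IsClosedImmersion t.left ∧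
      ∀ (S' : Over (Spec (CommRingCat.of k))) (g : S' ⟶ G), (∃ z : S' ⟶ T, z ≫ t = g) ↔
        ((∀ (S'' : Over (Spec (CommRingCat.of k))) (s : S'' ⟶ S') (x : S'' ⟶ Y'),
          ∃ x' : S'' ⟶ Y, (s ≫ g) * (x ≫ y') * (s ≫ g)⁻¹ = x' ≫ y) ∧
        (∀ (S'' : Over (Spec (CommRingCat.of k))) (s : S'' ⟶ S') (x' : S'' ⟶ Y),
          ∃ x : S'' ⟶ Y', (s ≫ g)⁻¹ * (x' ≫ y) * (s ≫ g) = x ≫ y'))) ∧
    (∀ (H : Over (Spec (CommRingCat.of k))) [GrpObj H] (h : H ⟶ G) [IsMonHom h] [IsImmersion h.left],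
      ∃ (N : Over (Spec (CommRingCat.of k))) (_ : GrpObj N) (n : N ⟶ G), IsClosedImmersion n.left ∧
        Red.IsNormalizerOf h n) := by
  have hX : ∀ Z : Over (Spec (CommRingCat.of k)), Groth.Agent.GrpSch.WeilClosed.ProjChart Z.hom :=
    fun Z => Groth.Agent.GrpSch.WeilClosed.projChart_of_field Z.hom
  refine ⟨Groth.Agent.GrpSch.WeilClosed.exists_transporter G (hX Y') y' y, fun hy' =>
    haveI := hy'
    Groth.Agent.GrpSch.WeilClosed.exists_strict_transporter G (hX Y') (hX Y) y' y, fun H _ h _ _ => ?_⟩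
  haveI : IsClosedImmersion h.left :=
    .of_isPreimmersion _ (Groth.Agent.GrpSch.isClosed_range_of_isLocallyClosed_range h h.left.isLocallyClosed_range)
  obtain ⟨N, n, hn, hN⟩ := Groth.Agent.GrpSch.WeilClosed.exists_strict_transporter G (hX H) (hX H) h h
  haveI : Mono n.left := inferInstance
  haveI : Mono n := Over.mono_of_mono_left n
  have h1 : ∀ (T : Over (Spec (CommRingCat.of k))), ∃ c : T ⟶ N, c ≫ n = 1 := by
    intro T
    refine (hN T 1).2 ⟨fun S'' s x => ⟨x, ?_⟩, fun S'' s x => ⟨x, ?_⟩⟩ <;> simp [MonObj.comp_one]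
  have hmem : ∀ {T : Over (Spec (CommRingCat.of k))} (a : T ⟶ N) (S'' : Over (Spec (CommRingCat.of k))) (s : S'' ⟶ T),
      (∀ x : S'' ⟶ H, ∃ x' : S'' ⟶ H, (s ≫ a ≫ n) * (x ≫ h) * (s ≫ a ≫ n)⁻¹ = x' ≫ h) ∧
      (∀ x : S'' ⟶ H, ∃ x' : S'' ⟶ H, (s ≫ a ≫ n)⁻¹ * (x ≫ h) * (s ≫ a ≫ n) = x' ≫ h) := fun a S'' s =>
    ⟨((hN _ (a ≫ n)).1 ⟨a, rfl⟩).1 S'' s, ((hN _ (a ≫ n)).1 ⟨a, rfl⟩).2 S'' s⟩
  obtain ⟨gN, hgN⟩ := Groth.Agent.GrpSch.exists_grpObj_of_mono n
    (by
      obtain ⟨c, hc⟩ := h1 (𝟙_ _)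
      exact ⟨c, by rw [hc, Groth.Agent.GrpSch.one_eq_toUnit, toUnit_unique (toUnit _) (𝟙 _), Category.id_comp]⟩)
    (fun T a b => (hN T _).2 ⟨fun S'' s x => by
        obtain ⟨x₁, e₁⟩ := (hmem b S'' s).1 x
        obtain ⟨x₂, e₂⟩ := (hmem a S'' s).1 x₁
        refine ⟨x₂, ?_⟩
        rw [← e₂, ← e₁, MonObj.comp_mul]
        group, fun S'' s x => by
        obtain ⟨x₁, e₁⟩ := (hmem a S'' s).2 x
        obtain ⟨x₂, e₂⟩ := (hmem b S'' s).2 x₁
        refine ⟨x₂, ?_⟩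
        rw [← e₂, ← e₁, MonObj.comp_mul]
        group⟩)
    (fun T a => (hN T _).2 ⟨fun S'' s x => by
        obtain ⟨x', e⟩ := (hmem a S'' s).2 x
        exact ⟨x', by rw [← e, GrpObj.comp_inv, _root_.inv_inv]⟩, fun S'' s x => by
        obtain ⟨x', e⟩ := (hmem a S'' s).1 x
        exact ⟨x', by rw [← e, GrpObj.comp_inv, _root_.inv_inv]⟩⟩)
  refine ⟨N, gN, n, hn, hgN, inferInstance, fun X g => (hN X g).trans ⟨?_, ?_⟩⟩
  · exact fun h X' x z => ⟨h.1 X' x z, h.2 X' x z⟩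
  · exact fun h => ⟨fun X' x z => (h X' x z).1, fun X' x z => (h X' x z).2⟩

end Groth.Agent.S5358
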