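import Groth.Statements.S5363
import Mathlib
import Groth.Agent.GrpSch.AgreeLocus
import Groth.Agent.GrpSch.SepPoints
import Groth.Agent.GrpSch.Cat
-- import your own Groth.Agent.* helpers here

set_option autoImplicit false
universe u
open CategoryTheory CategoryTheory.Limits MonoidalCategory CartesianMonoidalCategory MonObj GrpObj AlgebraicGeometry
open SGA3

namespace Groth.Agent.S5363

open Groth.Agent.GrpSch.WeilClosed

/-- Let G be a group scheme over a field k and g a k-rational point of G. Then the smallest closed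
subgroup scheme Γ of G through which g factors (the closed subgroup generated by g) is commutative. -/
theorem result (k : Type u) [Field k] (G : Over (Spec (CommRingCat.of k))) [GrpObj G]
    (g : 𝟙_ (Over (Spec (CommRingCat.of k))) ⟶ G) (Γ : Over (Spec (CommRingCat.of k))) [GrpObj Γ] (i : Γ ⟶ G) [IsMonHom i] [IsClosedImmersion i.left]
    (hf : ∃ f' : 𝟙_ (Over (Spec (CommRingCat.of k))) ⟶ Γ, f' ≫ i = g)
    (hmin : ∀ (Γ' : Over (Spec (CommRingCat.of k))) (_ : GrpObj Γ') (i' : Γ' ⟶ G), IsMonHom i' → IsClosedImmersion i'.left →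
        (∃ f'' : 𝟙_ (Over (Spec (CommRingCat.of k))) ⟶ Γ', f'' ≫ i' = g) → ∃ j : Γ ⟶ Γ', j ≫ i' = i) :
    IsCommMonObj Γ := by
  haveI : IsSeparated G.hom := GrpSch.SepPoints.isSeparated_grp G
  haveI : IsSeparated Γ.hom := GrpSch.SepPoints.isSeparated_grp Γ
  haveI : Mono i := Over.mono_of_mono_left i
  obtain ⟨f', hf'⟩ := hf
  -- every subobject of `Γ` cut out by commuting with a family is everything once it contains the generator
  have main : ∀ (Y : Over (Spec (CommRingCat.of k))) (u : Y ⟶ Γ),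
      (∀ (T : Over (Spec (CommRingCat.of k))) (y : T ⟶ Y), (y ≫ u) * (toUnit T ≫ f') = (toUnit T ≫ f') * (y ≫ u)) →
      ∀ (T : Over (Spec (CommRingCat.of k))) (y : T ⟶ Y) (t : T ⟶ Γ), (y ≫ u) * t = t * (y ≫ u) := by
    intro Y u hu
    obtain ⟨Z, z, hzc, hZ⟩ := exists_agree_of_separated Y Γ Γ (projChart_of_field _)
      ((fst Y Γ ≫ u) * snd Y Γ) (snd Y Γ * (fst Y Γ ≫ u))
    have hZ' : ∀ (T : Over (Spec (CommRingCat.of k))) (t : T ⟶ Γ), (∃ l, l ≫ z = t) ↔
        ∀ (T'' : Over (Spec (CommRingCat.of k))) (h : T'' ⟶ T) (y : T'' ⟶ Y), (y ≫ u) * (h ≫ t) = (h ≫ t) * (y ≫ u) := by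
      intro T t
      rw [hZ, whisker_eq_iff]
      simp only [MonObj.comp_mul, lift_fst_assoc, lift_snd]
    haveI : Mono z := Over.mono_of_mono_left z
    obtain ⟨iZ, hzm⟩ := GrpSch.exists_grpObj_of_mono z
      ((hZ' _ _).2 fun T h y => by
        rw [show η[Γ] = (1 : 𝟙_ _ ⟶ Γ) from MonObj.one_eq_one Γ, MonObj.comp_one, _root_.mul_one, _root_.one_mul])
      (fun T a b => (hZ' _ _).2 fun T'' h y => by
        have ha : (y ≫ u) * (h ≫ a ≫ z) = (h ≫ a ≫ z) * (y ≫ u) := (hZ' _ (a ≫ z)).1 ⟨a, rfl⟩ _ h y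
        have hb : (y ≫ u) * (h ≫ b ≫ z) = (h ≫ b ≫ z) * (y ≫ u) := (hZ' _ (b ≫ z)).1 ⟨b, rfl⟩ _ h y
        rw [MonObj.comp_mul, ← _root_.mul_assoc, ha, _root_.mul_assoc, hb, _root_.mul_assoc])
      (fun T a => (hZ' _ _).2 fun T'' h y => by
        have ha : Commute (y ≫ u) (h ≫ a ≫ z) := (hZ' _ (a ≫ z)).1 ⟨a, rfl⟩ _ h y
        rw [GrpObj.comp_inv]
        exact ha.inv_right)
    haveI : IsMonHom (z ≫ i) := inferInstance
    haveI : IsClosedImmersion (z ≫ i).left := by rw [Over.comp_left]; infer_instance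
    obtain ⟨l, hl⟩ := (hZ' _ f').2 fun T h y => by
      rw [show h = toUnit T from toUnit_unique _ _]
      exact hu T y
    obtain ⟨j, hj⟩ := hmin Z iZ (z ≫ i) inferInstance inferInstance ⟨l, by rw [reassoc_of% hl, hf']⟩
    intro T y t
    have hjz : j ≫ z = 𝟙 Γ := by rw [← cancel_mono i, Category.assoc, hj, Category.id_comp]
    have := (hZ' T t).1 ⟨t ≫ j, by rw [Category.assoc, hjz, Category.comp_id]⟩ T (𝟙 T) y
    simpa using this
  have hg : ∀ (T : Over (Spec (CommRingCat.of k))) (t : T ⟶ Γ), t * (toUnit T ≫ f') = (toUnit T ≫ f') * t := fun T t =>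
    (main (𝟙_ _) f' (fun T y => by rw [show y = toUnit T from toUnit_unique _ _]) T (toUnit T) t).symm
  have hcomm : ∀ (T : Over (Spec (CommRingCat.of k))) (a b : T ⟶ Γ), a * b = b * a := fun T a b => by
    simpa using main Γ (𝟙 Γ) (fun T y => by simpa using hg T y) T a b
  refine ⟨?_⟩
  have := hcomm (Γ ⊗ Γ) (snd Γ Γ) (fst Γ Γ)
  rw [← lift_snd_fst, MonObj.mul_eq_mul, MonObj.comp_mul, lift_fst, lift_snd]
  exact this

end Groth.Agent.S5363
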