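import Groth.Statements.S5364
import Mathlib
import Groth.Agent.GrpSch.AgreeLocus
import Groth.Agent.GrpSch.Cat
-- import your own Groth.Agent.* helpers here

set_option autoImplicit false
set_option backward.isDefEq.respectTransparency.types false
universe u
open CategoryTheory CategoryTheory.Limits MonoidalCategory CartesianMonoidalCategory MonObj GrpObj AlgebraicGeometry
open SGA3

namespace Groth.Agent.S5364

open Groth.Agent.GrpSch.WeilClosed

/-- Let G be a group scheme over a field k and a : A → G, b : B → G two closed subgroup schemes which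
are geometrically reduced over k and normal in G. Let i : Γ → G be the commutator subgroup scheme
(A, B): the smallest closed subgroup scheme of G through which the morphism A ×_k B → G, (x, y) ↦
a(x) b(y) a(x)⁻¹ b(y)⁻¹, factors. Then Γ is normal in G. (The published statement also covers
characteristic subgroups; this row states the case of normal subgroups only.) -/
theorem result (k : Type u) [Field k] (G A B : Over (Spec (CommRingCat.of k))) [GrpObj G] [GrpObj A] [GrpObj B]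
    (a : A ⟶ G) [IsMonHom a] [IsClosedImmersion a.left] (b : B ⟶ G) [IsMonHom b] [IsClosedImmersion b.left]
    [GeometricallyReduced A.hom] [GeometricallyReduced B.hom] (hA : AlgGrp.IsNormalHom a) (hB : AlgGrp.IsNormalHom b)
    (Γ : Over (Spec (CommRingCat.of k))) [GrpObj Γ] (i : Γ ⟶ G) [IsMonHom i] [IsClosedImmersion i.left]
    (hf : ∃ f' : A ⊗ B ⟶ Γ, f' ≫ i = (((fst A B) ≫ a) * ((snd A B) ≫ b) * ((fst A B) ≫ a)⁻¹ * ((snd A B) ≫ b)⁻¹))
    (hmin : ∀ (Γ' : Over (Spec (CommRingCat.of k))) (_ : GrpObj Γ') (i' : Γ' ⟶ G), IsMonHom i' → IsClosedImmersion i'.left →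
        (∃ f'' : A ⊗ B ⟶ Γ', f'' ≫ i' = (((fst A B) ≫ a) * ((snd A B) ≫ b) * ((fst A B) ≫ a)⁻¹ * ((snd A B) ≫ b)⁻¹)) → ∃ j : Γ ⟶ Γ', j ≫ i' = i) :
    AlgGrp.IsNormalHom i := by
  obtain ⟨f', hf'⟩ := hf
  haveI : Mono i := Over.mono_of_mono_left i
  -- conjugation `G ⊗ Γ ⟶ G` and the closed subscheme of `G ⊗ Γ` where it lands in `Γ`
  let c : G ⊗ Γ ⟶ G := fst G Γ * (snd G Γ ≫ i) * (fst G Γ)⁻¹
  let e := Limits.pullback.fst c.left i.left
  have hsq : IsPullback (snd G Γ).left (fst G Γ).left Γ.hom G.hom := (Groth.Agent.GrpSch.isPullback_fst_snd G Γ).flip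
  obtain ⟨Z, z, hz, hZ⟩ := exists_closed_agree e (snd G Γ).left (ProjChart.of_isPullback hsq (projChart_of_field G.hom))
  haveI := hz
  let zo : Over.mk (z ≫ Γ.hom) ⟶ Γ := Over.homMk z
  let P : ∀ (T : Over (Spec (CommRingCat.of k))), (T ⟶ Γ) → Prop := fun T t =>
    ∀ (T' : Over (Spec (CommRingCat.of k))) (h : T' ⟶ T) (g : T' ⟶ G), ∃ l : T' ⟶ Γ, g * (h ≫ t ≫ i) * g⁻¹ = l ≫ i
  have hc : ∀ {T' : Over (Spec (CommRingCat.of k))} (g : T' ⟶ G) (t : T' ⟶ Γ),
      lift g t ≫ c = g * (t ≫ i) * g⁻¹ := fun g t => by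
    simp only [c, MonObj.comp_mul, GrpObj.comp_inv, lift_fst, lift_snd_assoc]
  have hZP : ∀ (T : Over (Spec (CommRingCat.of k))) (t : T ⟶ Γ), (∃ l, l ≫ zo = t) ↔ P T t := by
    intro T t
    have h0 : (∃ l, l ≫ zo = t) ↔ ∃ l, l ≫ z = t.left := by
      refine ⟨fun ⟨l, hl⟩ => ⟨l.left, congrArg (·.left) hl⟩, fun ⟨l, hl⟩ => ?_⟩
      refine ⟨Over.homMk l (by show l ≫ z ≫ Γ.hom = T.hom; rw [← Category.assoc, hl, Over.w]), Over.OverMorphism.ext hl⟩
    rw [h0, hZ]
    constructor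
    · intro h T' a g
      obtain ⟨l, hl⟩ := h (lift g (a ≫ t)).left a.left (by
        rw [← Over.comp_left, lift_snd, Over.comp_left])
      refine ⟨Over.homMk (l ≫ Limits.pullback.snd c.left i.left) ?_, ?_⟩
      · rw [Category.assoc, ← Over.w i, ← Limits.pullback.condition_assoc, ← Category.assoc, hl, Over.w, Over.w]
      · rw [← Category.assoc a t, ← hc]
        apply Over.OverMorphism.ext
        show (lift g (a ≫ t)).left ≫ c.left = (l ≫ Limits.pullback.snd c.left i.left) ≫ i.left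
        rw [Category.assoc, ← Limits.pullback.condition, ← Category.assoc, hl]
    · intro h Q p a hpa
      let T' : Over (Spec (CommRingCat.of k)) := Over.mk (p ≫ (G ⊗ Γ).hom)
      let p' : T' ⟶ G ⊗ Γ := Over.homMk p
      let a' : T' ⟶ T := Over.homMk a (by
        show a ≫ T.hom = p ≫ (G ⊗ Γ).hom
        rw [← Over.w t, ← Over.w (snd G Γ), ← Category.assoc, ← hpa, Category.assoc])
      have hsnd : p' ≫ snd G Γ = a' ≫ t := Over.OverMorphism.ext hpa
      obtain ⟨l, hl⟩ := h T' a' (p' ≫ fst G Γ)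
      have hp : p' = lift (p' ≫ fst G Γ) (a' ≫ t) := by
        rw [← hsnd]; exact (CartesianMonoidalCategory.hom_ext _ _ (lift_fst _ _) (lift_snd _ _)).symm
      rw [← Category.assoc a' t, ← hc, ← hp] at hl
      exact ⟨Limits.pullback.lift p l.left (congrArg (·.left) hl), Limits.pullback.lift_fst _ _ _⟩
  haveI : Mono zo := Over.mono_of_mono_left zo
  obtain ⟨iZ, hzm⟩ := GrpSch.exists_grpObj_of_mono zo
    ((hZP _ _).2 fun T' h g => ⟨1, by
      rw [show η[Γ] = (1 : 𝟙_ _ ⟶ Γ) from MonObj.one_eq_one Γ, MonObj.one_comp, MonObj.comp_one, MonObj.one_comp,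
        _root_.mul_one, mul_inv_cancel]⟩)
    (fun T u v => (hZP _ _).2 fun T' h g => by
      obtain ⟨l₁, h₁⟩ := (hZP _ (u ≫ zo)).1 ⟨u, rfl⟩ T' h g
      obtain ⟨l₂, h₂⟩ := (hZP _ (v ≫ zo)).1 ⟨v, rfl⟩ T' h g
      refine ⟨l₁ * l₂, ?_⟩
      rw [MonObj.mul_comp, MonObj.comp_mul, MonObj.mul_comp, ← h₁, ← h₂]
      group)
    (fun T u => (hZP _ _).2 fun T' h g => by
      obtain ⟨l₁, h₁⟩ := (hZP _ (u ≫ zo)).1 ⟨u, rfl⟩ T' h g
      refine ⟨l₁⁻¹, ?_⟩
      rw [GrpObj.inv_comp, GrpObj.comp_inv, GrpObj.inv_comp, ← h₁]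
      group)
  haveI : IsMonHom (zo ≫ i) := inferInstance
  haveI : IsClosedImmersion (zo ≫ i).left := by rw [Over.comp_left]; exact inferInstanceAs (IsClosedImmersion (z ≫ i.left))
  obtain ⟨w, hw⟩ := (hZP _ f').2 fun T' h g => by
    obtain ⟨A', hA'⟩ := hA T' g (h ≫ fst A B)
    obtain ⟨B', hB'⟩ := hB T' g (h ≫ snd A B)
    refine ⟨lift A' B' ≫ f', ?_⟩
    rw [hf', Category.assoc, hf']
    simp only [MonObj.comp_mul, GrpObj.comp_inv, lift_fst_assoc, lift_snd_assoc, ← hA', ← hB']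
    simp only [Category.assoc]
    group
  obtain ⟨j, hj⟩ := hmin _ iZ (zo ≫ i) inferInstance inferInstance ⟨w, by rw [reassoc_of% hw, hf']⟩
  intro T g n
  have hjz : j ≫ zo = 𝟙 Γ := by rw [← cancel_mono i, Category.assoc, hj, Category.id_comp]
  obtain ⟨l, hl⟩ := (hZP T n).1 ⟨n ≫ j, by rw [Category.assoc, hjz, Category.comp_id]⟩ T (𝟙 T) g
  exact ⟨l, by simpa using hl⟩

end Groth.Agent.S5364
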