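import Groth.Statements.S5373
import Groth.Agent.SchDescent.CovHom
-- import your own Groth.Agent.* helpers here

set_option autoImplicit false
universe u
open CategoryTheory CategoryTheory.Limits MonoidalCategory CartesianMonoidalCategory MonObj GrpObj AlgebraicGeometry
open SGA3

namespace Groth.Agent.S5373

/-- Let p : X → Y be a morphism of S-schemes and v : X ×_Y X → X ×_S X the canonical monomorphism (the
graph of the effective equivalence relation defined by p). Then (i) v is an immersion, and a closed
immersion if Y is separated over S; (ii) if p is covering for the fpqc topology (some Z → Y which is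
flat, surjective, with every affine open of Y the image of a quasi-compact open of Z, factors
through p), so that Y represents the quotient sheaf of X by this equivalence relation, and v is a
closed immersion, then Y is separated over S. -/
theorem result (S : Scheme.{u}) (X Y : Over S) (p : X ⟶ Y) :
    letI v : (pullback p p) ⟶ X ⊗ X := lift (pullback.fst p p) (pullback.snd p p)
    IsImmersion v.left ∧ (IsSeparated Y.hom → IsClosedImmersion v.left) ∧
    ((∃ (Z : Scheme.{u}) (q : Z ⟶ Y.left) (r : Z ⟶ X.left), r ≫ p.left = q ∧ Surjective q ∧ Flat q ∧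
        ∀ V : Y.left.Opens, IsAffineOpen V → ∃ W : Z.Opens, IsCompact (W : Set Z) ∧ q.base '' (W : Set Z) = (V : Set Y.left)) →
      IsClosedImmersion v.left → IsSeparated Y.hom) := by
  have hp : p.left ≫ Y.hom = X.hom := Over.w p
  let v : (pullback p p) ⟶ X ⊗ X := lift (pullback.fst p p) (pullback.snd p p)
  show IsImmersion v.left ∧ _
  have hpb : IsPullback (pullback.fst p p).left (pullback.snd p p).left p.left p.left :=
    (IsPullback.of_hasPullback p p).map (Over.forget S)
  let m : (X ⊗ X).left ⟶ pullback Y.hom Y.hom :=
    pullback.map X.hom X.hom Y.hom Y.hom p.left p.left (𝟙 S) (by simp [hp]) (by simp [hp])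
  have v1 : v.left ≫ pullback.fst X.hom X.hom = (pullback.fst p p).left := congrArg (fun k => k.left) (lift_fst (pullback.fst p p) (pullback.snd p p))
  have v2 : v.left ≫ pullback.snd X.hom X.hom = (pullback.snd p p).left := congrArg (fun k => k.left) (lift_snd (pullback.fst p p) (pullback.snd p p))
  have m1 : m ≫ pullback.fst Y.hom Y.hom = pullback.fst X.hom X.hom ≫ p.left := pullback.lift_fst _ _ _
  have m2 : m ≫ pullback.snd Y.hom Y.hom = pullback.snd X.hom X.hom ≫ p.left := pullback.lift_snd _ _ _
  have hc : ((pullback.fst p p).left ≫ p.left) ≫ pullback.diagonal Y.hom = v.left ≫ m := by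
    apply pullback.hom_ext
    · rw [Category.assoc, pullback.diagonal_fst, Category.comp_id, Category.assoc, m1]
      exact (congrArg (· ≫ p.left) v1.symm).trans (Category.assoc _ _ _)
    · rw [Category.assoc, pullback.diagonal_snd, Category.comp_id, Category.assoc, m2]
      exact (hpb.w.trans (congrArg (· ≫ p.left) v2.symm)).trans (Category.assoc _ _ _)
  have hsq : IsPullback ((pullback.fst p p).left ≫ p.left) v.left (pullback.diagonal Y.hom) m := by
    refine ⟨⟨hc⟩, ⟨PullbackCone.IsLimit.mk _ (fun c => hpb.lift (c.snd ≫ pullback.fst X.hom X.hom) (c.snd ≫ pullback.snd X.hom X.hom) ?_) (fun c => ?_) (fun c => ?_) (fun c k k1 k2 => ?_)⟩⟩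
    · have h := c.condition
      have h1 := congr($h ≫ pullback.fst Y.hom Y.hom)
      have h2 := congr($h ≫ pullback.snd Y.hom Y.hom)
      rw [Category.assoc, Category.assoc, pullback.diagonal_fst, Category.comp_id, m1] at h1
      rw [Category.assoc, Category.assoc, pullback.diagonal_snd, Category.comp_id, m2] at h2
      exact (Category.assoc _ _ _).trans ((h1.symm.trans h2).trans (Category.assoc _ _ _).symm)
    · have h1 := congr($(c.condition) ≫ pullback.fst Y.hom Y.hom)
      rw [Category.assoc, Category.assoc, pullback.diagonal_fst, Category.comp_id, m1] at h1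
      rw [hpb.lift_fst_assoc]
      exact (Category.assoc _ _ _).trans h1.symm
    · apply pullback.hom_ext
      · exact (Category.assoc _ _ _).trans ((congrArg (_ ≫ ·) v1).trans (hpb.lift_fst _ _ _))
      · exact (Category.assoc _ _ _).trans ((congrArg (_ ≫ ·) v2).trans (hpb.lift_snd _ _ _))
    · apply hpb.hom_ext
      · rw [hpb.lift_fst, ← v1]
        exact (Category.assoc _ _ _).symm.trans (congrArg (· ≫ pullback.fst X.hom X.hom) k2)
      · rw [hpb.lift_snd, ← v2]
        exact (Category.assoc _ _ _).symm.trans (congrArg (· ≫ pullback.snd X.hom X.hom) k2)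
  refine ⟨MorphismProperty.of_isPullback (P := @IsImmersion) hsq (inferInstanceAs (IsImmersion (pullback.diagonal Y.hom))),
    fun h => MorphismProperty.of_isPullback (P := @IsClosedImmersion) hsq h.1, ?_⟩
  rintro ⟨Z, q, r, hr, _, _, hqc⟩ hv
  refine Groth.Agent.SchDescent.isSeparated_of_cover Y.hom p.left (Groth.Agent.SchDescent.isCover_of_image q hqc) r hr ?_
  let φ : pullback (p.left ≫ Y.hom) (p.left ≫ Y.hom) ⟶ (X ⊗ X).left :=
    pullback.map (p.left ≫ Y.hom) (p.left ≫ Y.hom) X.hom X.hom (𝟙 _) (𝟙 _) (𝟙 S) (by simp [hp]) (by simp [hp])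
  have hm : pullback.map (p.left ≫ Y.hom) (p.left ≫ Y.hom) Y.hom Y.hom p.left p.left (𝟙 S) (Category.comp_id _) (Category.comp_id _) = φ ≫ m := by
    apply pullback.hom_ext
    · exact (pullback.lift_fst _ _ _).trans ((Category.assoc _ _ _).trans ((congrArg (_ ≫ ·) m1).trans
        ((Category.assoc _ _ _).symm.trans (congrArg (· ≫ p.left) ((pullback.lift_fst _ _ _).trans (Category.comp_id _)))))).symm
    · exact (pullback.lift_snd _ _ _).trans ((Category.assoc _ _ _).trans ((congrArg (_ ≫ ·) m2).trans
        ((Category.assoc _ _ _).symm.trans (congrArg (· ≫ p.left) ((pullback.lift_snd _ _ _).trans (Category.comp_id _)))))).symm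
  rw [hm, Scheme.Hom.comp_base, TopCat.coe_comp, Set.preimage_comp, ← Groth.Agent.SchDescent.range_of_isPullback hsq]
  exact hv.base_closed.isClosed_range.preimage φ.continuous

end Groth.Agent.S5373
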