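import Groth.Statements.S5369
import Groth.Agent.SchDescent.CovHom
import Groth.Agent.GrpSch.Cat
import Groth.Agent.S5373
-- import your own Groth.Agent.* helpers here

set_option autoImplicit false
universe u
open CategoryTheory CategoryTheory.Limits MonoidalCategory CartesianMonoidalCategory MonObj GrpObj AlgebraicGeometry
open SGA3

namespace Groth.Agent.S5369

/-- Let u : G' → G be a monomorphism of S-group schemes and p : G → G'' a morphism of S-schemes which is
covering for the fpqc topology (some Z → G'' which is flat, surjective, with every affine open of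
G'' the image of a quasi-compact open of Z, factors through p) and such that the square (g, h) ↦
g·u(h), first projection G ×_S G' → G, p, p is cartesian, so that G'' represents the fpqc quotient
sheaf G/G'. Let ε'' be the composite of the unit section of G with p. Then the square formed by u,
the structure morphism G' → S, p and ε'' is cartesian; u is an immersion; and G'' is separated over
S if and only if u is a closed immersion, if and only if ε'' is a closed immersion. -/
theorem result (S : Scheme.{u}) (G G' G'' : Over S) [GrpObj G] [GrpObj G']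
    (u : G' ⟶ G) [IsMonHom u] [Mono u] (p : G ⟶ G'')
    (hcov : (∃ (Z : Scheme.{u}) (q : Z ⟶ G''.left) (r : Z ⟶ G.left), r ≫ p.left = q ∧ Surjective q ∧ Flat q ∧
        ∀ V : G''.left.Opens, IsAffineOpen V → ∃ W : Z.Opens, IsCompact (W : Set Z) ∧ q.base '' (W : Set Z) = (V : Set G''.left)))
    (hsq : IsPullback ((G ◁ u) ≫ μ[G]) (fst G G') p p) :
    IsPullback u (toUnit G') p (η[G] ≫ p) ∧ IsImmersion u.left ∧
    (IsSeparated G''.hom ↔ IsClosedImmersion u.left) ∧ (IsClosedImmersion u.left ↔ IsClosedImmersion (η[G] ≫ p).left) := by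
  have hmap : ∀ {P A B Q : Over S} {a : P ⟶ A} {b : P ⟶ B} {c : A ⟶ Q} {d : B ⟶ Q},
      IsPullback a b c d → IsPullback a.left b.left c.left d.left := fun h => h.map (Over.forget S)
  have hu : lift (toUnit G' ≫ η[G]) (𝟙 G') ≫ (G ◁ u) ≫ μ[G] = u := by
    rw [lift_whiskerLeft_assoc, Category.id_comp, ← Groth.Agent.GrpSch.mul_eq_lift,
      ← Groth.Agent.GrpSch.one_eq_toUnit, _root_.one_mul]
  have hL : IsPullback (lift (toUnit G' ≫ η[G]) (𝟙 G')) (toUnit G') (fst G G') η[G] :=
    IsPullback.of_isLimit' ⟨lift_fst _ _⟩ (PullbackCone.IsLimit.mk _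
      (fun s => s.fst ≫ snd G G')
      (fun s => by
        apply CartesianMonoidalCategory.hom_ext
        · rw [Category.assoc, lift_fst, s.condition]
          simp only [← Category.assoc]
          exact congrArg (· ≫ η[G]) (toUnit_unique _ _)
        · rw [Category.assoc, lift_snd, Category.comp_id])
      (fun s => toUnit_unique _ _)
      (fun s m h1 _ => by rw [← h1, Category.assoc, lift_snd, Category.comp_id]))
  have h1 : IsPullback u (toUnit G') p (η[G] ≫ p) := by
    have h := (hL.flip.paste_vert hsq.flip).flip
    rwa [hu] at h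
  have h1l := hmap h1
  have hsec : (η[G] ≫ p).left ≫ G''.hom = 𝟙 S := Over.w (η[G] ≫ p)
  haveI : IsImmersion ((η[G] ≫ p).left ≫ G''.hom) := by
    rw [hsec]; exact inferInstanceAs (IsImmersion (𝟙 S))
  haveI : IsImmersion (η[G] ≫ p).left := IsImmersion.of_comp _ G''.hom
  obtain ⟨Z, q, r, hr, hs, hf, hqc⟩ := hcov
  have hε : IsClosedImmersion u.left → IsClosedImmersion (η[G] ≫ p).left := fun h =>
    Groth.Agent.SchDescent.isClosedImmersion_of_isPullback h1l.flip h.base_closed.isClosed_range
      (Groth.Agent.SchDescent.isCover_of_image q hqc) r hr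
  have hu' : IsClosedImmersion (η[G] ≫ p).left → IsClosedImmersion u.left := fun h =>
    MorphismProperty.of_isPullback (P := @IsClosedImmersion) h1l.flip h
  refine ⟨h1, MorphismProperty.of_isPullback (P := @IsImmersion) h1l.flip inferInstance,
    ⟨fun h => hu' ?_, fun h => ?_⟩, hε, hu'⟩
  · haveI := h
    haveI : IsClosedImmersion ((η[G] ≫ p).left ≫ G''.hom) := by
      rw [hsec]; exact inferInstanceAs (IsClosedImmersion (𝟙 S))
    exact IsClosedImmersion.of_comp _ G''.hom
  · refine (Groth.Agent.S5373.result S G G'' p).2.2 ⟨Z, q, r, hr, hs, hf, hqc⟩ ?_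
    haveI : IsClosedImmersion (G ◁ u).left := by
      have h2 : IsPullback (G ◁ u) (snd G G') (snd G G) u :=
        IsPullback.of_isLimit' ⟨whiskerLeft_snd G u⟩ (PullbackCone.IsLimit.mk _
          (fun s => lift (s.fst ≫ fst G G) s.snd)
          (fun s => by apply CartesianMonoidalCategory.hom_ext <;> simp [s.condition])
          (fun s => lift_snd _ _)
          (fun s m k1 k2 => by apply CartesianMonoidalCategory.hom_ext <;> simp [← k1, ← k2]))
      exact MorphismProperty.of_isPullback (P := @IsClosedImmersion) (hmap h2).flip h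
    have hv : lift (pullback.fst p p) (pullback.snd p p) = hsq.isoPullback.inv ≫ (G ◁ u) ≫
        ((Groth.Agent.GrpSch.shearLeft (𝟙 G)).hom ≫ (β_ G G).hom) := by
      apply CartesianMonoidalCategory.hom_ext
      · rw [lift_fst, Category.assoc, Category.assoc, Category.assoc, braiding_hom_fst,
          Groth.Agent.GrpSch.shearLeft_hom_snd, id_whiskerRight, Category.id_comp, hsq.isoPullback_inv_fst]
      · rw [lift_snd, Category.assoc, Category.assoc, Category.assoc, braiding_hom_snd,
          Groth.Agent.GrpSch.shearLeft_hom_fst, whiskerLeft_fst, hsq.isoPullback_inv_snd]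
    show IsClosedImmersion (lift (pullback.fst p p) (pullback.snd p p)).left
    rw [hv]
    haveI : IsIso ((Groth.Agent.GrpSch.shearLeft (𝟙 G)).hom ≫ (β_ G G).hom).left :=
      inferInstanceAs (IsIso ((Over.forget S).map ((Groth.Agent.GrpSch.shearLeft (𝟙 G)).hom ≫ (β_ G G).hom)))
    haveI : IsIso hsq.isoPullback.inv.left := inferInstanceAs (IsIso ((Over.forget S).map hsq.isoPullback.inv))
    rw [Over.comp_left, Over.comp_left]
    infer_instance

end Groth.Agent.S5369
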