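import Groth.Statements.S5370
import Groth.Agent.FpqcDescent.Flat
import Groth.Agent.S5369
-- import your own Groth.Agent.* helpers here

set_option autoImplicit false
universe u
open CategoryTheory CategoryTheory.Limits MonoidalCategory CartesianMonoidalCategory MonObj GrpObj AlgebraicGeometry
open SGA3

namespace Groth.Agent.S5370

/-- Let u : G' → G be a monomorphism of S-group schemes and p : G → G'' a morphism of S-schemes which is
covering for the fpqc topology (some Z → G'' which is flat, surjective, with every affine open of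
G'' the image of a quasi-compact open of Z, factors through p) and such that the square (g, h) ↦
g·u(h), first projection G ×_S G' → G, p, p is cartesian, so that G'' represents the fpqc quotient
sheaf G/G'. Then: (ix) if G is reduced, G'' is reduced; (xi) G' is flat over S if and only if p is
flat, and in that case G'' is flat over S if and only if G is flat over S. -/
theorem result (S : Scheme.{u}) (G G' G'' : Over S) [GrpObj G] [GrpObj G']
    (u : G' ⟶ G) [IsMonHom u] [Mono u] (p : G ⟶ G'')
    (hcov : (∃ (Z : Scheme.{u}) (q : Z ⟶ G''.left) (r : Z ⟶ G.left), r ≫ p.left = q ∧ Surjective q ∧ Flat q ∧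
        ∀ V : G''.left.Opens, IsAffineOpen V → ∃ W : Z.Opens, IsCompact (W : Set Z) ∧ q.base '' (W : Set Z) = (V : Set G''.left)))
    (hsq : IsPullback ((G ◁ u) ≫ μ[G]) (fst G G') p p) :
    (IsReduced G.left → IsReduced G''.left) ∧
    (Flat G'.hom ↔ Flat p.left) ∧ (Flat p.left → (Flat G''.hom ↔ Flat G.hom)) := by
  have hmap : ∀ {P A B Q : Over S} {a : P ⟶ A} {b : P ⟶ B} {c : A ⟶ Q} {d : B ⟶ Q},
      IsPullback a b c d → IsPullback a.left b.left c.left d.left := fun h => h.map (Over.forget S)
  obtain ⟨Z, q, r, hr, hs, hf, hqc⟩ := hcov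
  haveI : Surjective p.left := ⟨fun y => by
    obtain ⟨z, hz⟩ := q.surjective y
    exact ⟨r z, by rw [← Scheme.Hom.comp_apply, hr, hz]⟩⟩
  have hpG : p.left ≫ G''.hom = G.hom := Over.w p
  refine ⟨fun _ => ?_, ⟨fun h => ?_, fun h => ?_⟩, fun h => ⟨fun h2 => ?_, fun h2 => ?_⟩⟩
  · have : ∀ y : G''.left, _root_.IsReduced (G''.left.presheaf.stalk y) := fun y ↦ by
      haveI : Surjective (r ≫ p.left) := hr ▸ hs
      obtain ⟨z, hz⟩ := (r ≫ p.left).surjective y
      subst hz
      have hinj := (Groth.Agent.FpqcDescent.faithfullyFlat_stalkMap (r ≫ p.left) z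
        (by haveI : Flat (r ≫ p.left) := hr ▸ hf; exact Flat.stalkMap _ z)).injective
      rw [Scheme.Hom.stalkMap_comp] at hinj
      change Function.Injective ((r.stalkMap z).hom ∘ (p.left.stalkMap (r z)).hom) at hinj
      exact isReduced_of_injective (p.left.stalkMap (r z)).hom (Function.Injective.of_comp hinj)
    exact isReduced_of_isReduced_stalk G''.left
  · have h0 : IsPullback (snd G G').left (fst G G').left G'.hom G.hom :=
      (IsPullback.of_hasPullback G.hom G'.hom).flip
    have hfst : Flat (fst G G').left := MorphismProperty.of_isPullback (P := @Flat) h0 h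
    have hW0 := ((IsPullback.of_hasPullback (fst G G').left r).paste_horiz (hmap hsq)) 
    haveI hW : Flat (pullback.snd p.left (r ≫ p.left)) := by
      rw [← hW0.isoPullback_inv_snd]
      haveI : Flat (pullback.snd (fst G G').left r) := MorphismProperty.pullback_snd _ _ hfst
      infer_instance
    haveI : Flat (r ≫ p.left) := hr ▸ hf
    haveI : Surjective (r ≫ p.left) := hr ▸ hs
    haveI : Flat (pullback.fst p.left (r ≫ p.left) ≫ p.left) := by
      rw [pullback.condition]; infer_instance
    exact Groth.Agent.FpqcDescent.flat_of_flat_comp (pullback.fst p.left (r ≫ p.left)) p.left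
  · have h1 : IsPullback (u.left) (toUnit G').left p.left (η[G] ≫ p).left := hmap (Groth.Agent.S5369.result S G G' G'' u p ⟨Z, q, r, hr, hs, hf, hqc⟩ hsq).1
    have : Flat (toUnit G').left := MorphismProperty.of_isPullback (P := @Flat) h1 h
    rw [← Over.w (toUnit G')]
    haveI : Flat (𝟙_ (Over S)).hom := inferInstanceAs (Flat (𝟙 S))
    infer_instance
  · haveI := h2; haveI := h
    rw [← hpG]; infer_instance
  · haveI := h2; haveI := h
    haveI : Flat (p.left ≫ G''.hom) := by rw [hpG]; infer_instance
    exact Groth.Agent.FpqcDescent.flat_of_flat_comp p.left G''.hom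

end Groth.Agent.S5370
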