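import Groth.Statements.S5372
import Groth.Agent.SchDescent.OverEpi
-- import your own Groth.Agent.* helpers here

set_option autoImplicit false
universe u
open CategoryTheory CategoryTheory.Limits MonoidalCategory CartesianMonoidalCategory MonObj GrpObj AlgebraicGeometry
open SGA3

namespace Groth.Agent.S5372

/-- Let u : G' → G be a monomorphism of S-group schemes which is normal, and p : G → G'' a morphism of
S-schemes which is covering for the fpqc topology (some Z → G'' which is flat, surjective, with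
every affine open of G'' the image of a quasi-compact open of Z, factors through p) and such that
the square (g, h) ↦ g·u(h), first projection G ×_S G' → G, p, p is cartesian, so that G'' represents
the fpqc quotient sheaf G/G'. Then there is a structure of S-group scheme on G'' for which p is a
homomorphism, and it is unique: any morphism m : G'' ×_S G'' → G'' with (p × p) followed by m equal
to the multiplication of G followed by p is its multiplication. -/
theorem result (S : Scheme.{u}) (G G' G'' : Over S) [GrpObj G] [GrpObj G']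
    (u : G' ⟶ G) [IsMonHom u] [Mono u] (p : G ⟶ G'')
    (hcov : (∃ (Z : Scheme.{u}) (q : Z ⟶ G''.left) (r : Z ⟶ G.left), r ≫ p.left = q ∧ Surjective q ∧ Flat q ∧
        ∀ V : G''.left.Opens, IsAffineOpen V → ∃ W : Z.Opens, IsCompact (W : Set Z) ∧ q.base '' (W : Set Z) = (V : Set G''.left)))
    (hsq : IsPullback ((G ◁ u) ≫ μ[G]) (fst G G') p p) (hN : AlgGrp.IsNormalHom u) :
    ∃ _ : GrpObj G'', IsMonHom p ∧ ∀ m : G'' ⊗ G'' ⟶ G'', (p ⊗ₘ p) ≫ m = μ[G] ≫ p → m = μ[G''] := by
  obtain ⟨Z, q, r, hr, hs, hf, hqc⟩ := hcov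
  have hp : Groth.Agent.SchDescent.IsCovHom p.left :=
    Groth.Agent.SchDescent.IsCovHom.of_cover r hr (Groth.Agent.SchDescent.isCover_of_image q hqc)
  have hμ : ∀ {T : Over S} (b : T ⟶ G) (h : T ⟶ G'), lift b h ≫ (G ◁ u) ≫ μ[G] = b * (h ≫ u) := by
    intro T b h; rw [lift_whiskerLeft_assoc]; rfl
  have hker : ∀ {T : Over S} (a b : T ⟶ G), a ≫ p = b ≫ p → ∃ h : T ⟶ G', a = b * (h ≫ u) := by
    intro T a b e
    have h1 := hsq.lift_fst a b e
    have h2 := hsq.lift_snd a b e
    refine ⟨hsq.lift a b e ≫ snd G G', ?_⟩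
    rw [← hμ]
    conv_lhs => rw [← h1]
    congr 1
    apply CartesianMonoidalCategory.hom_ext
    · rw [h2, lift_fst]
    · rw [lift_snd]
  have hinvar : ∀ {T : Over S} (b : T ⟶ G) (h : T ⟶ G'), (b * (h ≫ u)) ≫ p = b ≫ p := by
    intro T b h
    rw [← hμ, Category.assoc, hsq.w, lift_fst_assoc]
  obtain ⟨m, hm, hmu⟩ := (hp.tensorHom hp).existsUnique_desc (μ[G] ≫ p) (fun T a b e => by
    obtain ⟨h, hh⟩ := hker (a ≫ fst G G) (b ≫ fst G G) (by
      simpa [tensorHom_fst] using congrArg (· ≫ fst G'' G'') e)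
    obtain ⟨k, hk⟩ := hker (a ≫ snd G G) (b ≫ snd G G) (by
      simpa [tensorHom_snd] using congrArg (· ≫ snd G'' G'') e)
    obtain ⟨n, hn⟩ := hN T (b ≫ snd G G)⁻¹ h
    have ea : a ≫ μ[G] = (a ≫ fst G G) * (a ≫ snd G G) := by
      change _ = lift _ _ ≫ μ[G]; rw [← comp_lift, lift_fst_snd, Category.comp_id]
    have eb : b ≫ μ[G] = (b ≫ fst G G) * (b ≫ snd G G) := by
      change _ = lift _ _ ≫ μ[G]; rw [← comp_lift, lift_fst_snd, Category.comp_id]
    rw [← Category.assoc, ← Category.assoc, ea, eb, hh, hk,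
      ← hinvar ((b ≫ fst G G) * (b ≫ snd G G)) (n * k), MonObj.mul_comp n k u, ← hn]
    congr 1
    group)
  obtain ⟨n, hn, -⟩ := hp.existsUnique_desc (ι[G] ≫ p) (fun T a b e => by
    obtain ⟨h, hh⟩ := hker a b e
    obtain ⟨k, hk⟩ := hN T b h⁻¹
    have hi : ∀ c : T ⟶ G, c ≫ ι[G] = c⁻¹ := fun c => rfl
    rw [← Category.assoc, ← Category.assoc, hi, hi, hh, ← hinvar b⁻¹ k, ← hk, GrpObj.inv_comp h u]
    congr 1
    group)
  have hm' : ∀ {T : Over S} (a b : T ⟶ G), lift (a ≫ p) (b ≫ p) ≫ m = (a * b) ≫ p := by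
    intro T a b
    rw [← lift_map_assoc, hm, ← Category.assoc]; rfl
  let gr : GrpObj G'' :=
  { one := η[G] ≫ p
    mul := m
    inv := n
    one_mul := by
      refine (hp.of_isPullback (Groth.Agent.SchDescent.isPullback_whiskerLeft (𝟙_ (Over S)) p)).cancel ?_
      have e : 𝟙_ (Over S) ◁ p ≫ (η[G] ≫ p) ▷ G'' = η[G] ▷ G ≫ (p ⊗ₘ p) := by
        apply CartesianMonoidalCategory.hom_ext
        · rw [Category.assoc, whiskerRight_fst, whiskerLeft_fst_assoc, Category.assoc, tensorHom_fst, whiskerRight_fst_assoc]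
        · rw [Category.assoc, whiskerRight_snd, whiskerLeft_snd, Category.assoc, tensorHom_snd, whiskerRight_snd_assoc]
      rw [← Category.assoc, e, Category.assoc, hm, MonObj.one_mul_assoc, leftUnitor_naturality]
    mul_one := by
      refine (hp.of_isPullback (Groth.Agent.SchDescent.isPullback_whiskerRight p (𝟙_ (Over S)))).cancel ?_
      have e : p ▷ 𝟙_ (Over S) ≫ G'' ◁ (η[G] ≫ p) = G ◁ η[G] ≫ (p ⊗ₘ p) := by
        apply CartesianMonoidalCategory.hom_ext
        · rw [Category.assoc, whiskerLeft_fst, whiskerRight_fst, Category.assoc, tensorHom_fst, whiskerLeft_fst_assoc]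
        · rw [Category.assoc, whiskerLeft_snd, whiskerRight_snd_assoc, Category.assoc, tensorHom_snd, whiskerLeft_snd_assoc]
      rw [← Category.assoc, e, Category.assoc, hm, MonObj.mul_one_assoc, rightUnitor_naturality]
    mul_assoc := by
      refine ((hp.tensorHom hp).tensorHom hp).cancel ?_
      have e1 : ((p ⊗ₘ p) ⊗ₘ p) ≫ m ▷ G'' = μ[G] ▷ G ≫ (p ⊗ₘ p) := by
        apply CartesianMonoidalCategory.hom_ext
        · rw [Category.assoc, whiskerRight_fst, tensorHom_fst_assoc, hm, Category.assoc, tensorHom_fst,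
            whiskerRight_fst_assoc]
        · simp
      have e2 : ((p ⊗ₘ p) ⊗ₘ p) ≫ (α_ G'' G'' G'').hom ≫ G'' ◁ m = (α_ G G G).hom ≫ G ◁ μ[G] ≫ (p ⊗ₘ p) := by
        rw [associator_naturality_assoc]
        congr 1
        apply CartesianMonoidalCategory.hom_ext
        · simp
        · simp [hm]
      rw [reassoc_of% e1, hm, MonObj.mul_assoc_assoc, reassoc_of% e2, hm]
    left_inv := by
      refine hp.cancel ?_
      rw [comp_lift_assoc, hn, Category.comp_id]
      conv_lhs => arg 1; arg 2; rw [← Category.id_comp p]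
      rw [hm', comp_toUnit_assoc]
      exact (congrArg (· ≫ p) (inv_mul_cancel (𝟙 G))).trans (Category.assoc _ _ _)
    right_inv := by
      refine hp.cancel ?_
      rw [comp_lift_assoc, hn, Category.comp_id]
      conv_lhs => arg 1; arg 1; rw [← Category.id_comp p]
      rw [hm', comp_toUnit_assoc]
      exact (congrArg (· ≫ p) (mul_inv_cancel (𝟙 G))).trans (Category.assoc _ _ _) }
  exact ⟨gr, ⟨rfl, hm.symm⟩, fun m' hm' => hmu m' hm'⟩

end Groth.Agent.S5372
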