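import Groth.Statements.S5375
import Groth.Agent.Comod.Subcoalg
import Groth.Agent.HopfLib.Antipode
-- import your own Groth.Agent.* helpers here

set_option autoImplicit false
universe u
open CategoryTheory CategoryTheory.Limits MonoidalCategory CartesianMonoidalCategory MonObj GrpObj AlgebraicGeometry
open SGA3

namespace Groth.Agent.S5375

/-- Let A be a commutative Hopf algebra over a field k (an affine k-group, not necessarily of finite
type) and x an element of A. Then there is a subalgebra B of A of finite type over k containing x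
which is a sub-Hopf-algebra: the comultiplication sends B into B ⊗ B and the antipode preserves B. -/
theorem result (k : Type u) [Field k] (A : Type u) [CommRing A] [HopfAlgebra k A] (x : A) :
    ∃ B : Subalgebra k A, x ∈ B ∧ B.FG ∧ SGA3.IsHopfSubalgebra k A B := by
  classical
  obtain ⟨C, hC, hxC, hΔ⟩ := Groth.Agent.Comod.exists_finite_subcoalgebra (k := k) ({x} : Set A)
    (Set.finite_singleton x)
  let S : A →ₗ[k] A := HopfAlgebraStruct.antipode k
  let W : Submodule k A := C ⊔ C.map S
  obtain ⟨t, ht⟩ : W.FG := (Module.Finite.iff_fg.1 hC).sup ((Module.Finite.iff_fg.1 hC).map S)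
  let B : Subalgebra k A := Algebra.adjoin k (t : Set A)
  have hWB : W ≤ Subalgebra.toSubmodule B := by
    rw [← ht]
    exact Submodule.span_le.2 Algebra.subset_adjoin
  have hCB : ∀ c ∈ C, c ∈ B := fun c hc => hWB (Submodule.mem_sup_left hc)
  have hSB : ∀ c ∈ C, S c ∈ B := fun c hc => hWB (Submodule.mem_sup_right (Submodule.mem_map_of_mem hc))
  refine ⟨B, hCB x (hxC rfl), ⟨t, rfl⟩, ?_, ?_⟩
  · let io : TensorProduct k B B →ₐ[k] TensorProduct k A A := Algebra.TensorProduct.map B.val B.val
    have key : B ≤ io.range.comap (Bialgebra.comulAlgHom k A) := by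
      rw [Algebra.adjoin_le_iff]
      intro w hw
      have hwW : w ∈ W := ht ▸ Submodule.subset_span hw
      have hC' : ∀ c ∈ C, Coalgebra.comul (R := k) c ∈ io.range := by
        intro c hc
        obtain ⟨z, hz⟩ := hΔ c hc
        rw [← hz]
        clear hz
        induction z using TensorProduct.induction_on with
        | zero => simp
        | add u v hu hv => rw [map_add]; exact add_mem hu hv
        | tmul a b => exact ⟨⟨a.1, hCB _ a.2⟩ ⊗ₜ ⟨b.1, hCB _ b.2⟩, rfl⟩
      have hS' : ∀ c ∈ C, Coalgebra.comul (R := k) (S c) ∈ io.range := by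
        intro c hc
        obtain ⟨z, hz⟩ := hΔ c hc
        rw [Groth.Agent.HopfLib.comul_antipode, ← hz]
        clear hz
        induction z using TensorProduct.induction_on with
        | zero => simp
        | add u v hu hv => simp only [map_add]; exact add_mem hu hv
        | tmul a b => exact ⟨⟨S b.1, hSB _ b.2⟩ ⊗ₜ ⟨S a.1, hSB _ a.2⟩, rfl⟩
      obtain ⟨c, hc, d, hd, rfl⟩ := Submodule.mem_sup.1 hwW
      obtain ⟨e, he, rfl⟩ := hd
      show Bialgebra.comulAlgHom k A (c + S e) ∈ io.range
      rw [map_add]
      exact add_mem (hC' c hc) (hS' e he)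
    intro b hb
    obtain ⟨z, hz⟩ := key hb
    exact ⟨z, hz⟩
  · have key : B ≤ B.comap (HopfAlgebra.antipodeAlgHom k A) := by
      rw [Algebra.adjoin_le_iff]
      intro w hw
      have hwW : w ∈ W := ht ▸ Submodule.subset_span hw
      obtain ⟨c, hc, d, hd, rfl⟩ := Submodule.mem_sup.1 hwW
      obtain ⟨e, he, rfl⟩ := hd
      show S (c + S e) ∈ B
      rw [map_add, Groth.Agent.HopfLib.antipode_antipode]
      exact add_mem (hSB c hc) (hCB e he)
    exact fun b hb => key hb

end Groth.Agent.S5375
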