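import Groth.Statements.S5376
import Groth.Agent.Comod.Basic

set_option autoImplicit false
universe u
open CategoryTheory CategoryTheory.Limits MonoidalCategory CartesianMonoidalCategory MonObj GrpObj AlgebraicGeometry
open SGA3

open scoped TensorProduct
namespace Groth.Agent.S5376
open Groth.Agent.Comod

theorem eq_zero_of_pts {k A : Type u} [Field k] [IsAlgClosed k] [CommRing A] [Algebra k A]
    [Algebra.FiniteType k A] [IsReduced A] (a : A) (h : ∀ g : A →ₐ[k] k, g a = 0) : a = 0 := by
  haveI : IsJacobsonRing A := isJacobsonRing_of_finiteType (A := k)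
  have hj : a ∈ (⊥ : Ideal A).jacobson := by
    rw [Ideal.jacobson, Ideal.mem_sInf]
    rintro m ⟨-, hm⟩
    haveI := hm
    letI : Field (A ⧸ m) := Ideal.Quotient.field m
    haveI : Module.Finite k (A ⧸ m) := finite_of_finite_type_of_isJacobsonRing k (A ⧸ m)
    let e : k ≃ₐ[k] A ⧸ m := AlgEquiv.ofBijective (Algebra.ofId k (A ⧸ m))
      IsAlgClosed.algebraMap_bijective_of_isIntegral
    have := h (e.symm.toAlgHom.comp (Ideal.Quotient.mkₐ k m))
    rw [AlgHom.comp_apply, AlgEquiv.toAlgHom_eq_coe, AlgEquiv.coe_toAlgHom] at this
    rw [← Ideal.Quotient.eq_zero_iff_mem]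
    exact e.symm.injective (this.trans (map_zero _).symm)
  rw [IsJacobsonRing.out' (⊥ : Ideal A) (fun x ⟨n, hn⟩ => by
    rw [Ideal.mem_bot] at hn ⊢; exact IsReduced.eq_zero x ⟨n, hn⟩)] at hj
  exact hj


/-- Let k be an algebraically closed field, A a finitely generated commutative Hopf algebra over k which
is reduced (a reduced affine algebraic k-group G), V a finite-dimensional A-comodule and v a vector
of V. Let E be the k-subspace of V spanned by the vectors g·v for g running over the k-points of G
(algebra maps A → k). Then E is a subcomodule of V containing v, and it is the smallest one. -/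
theorem result (k : Type u) [Field k] [IsAlgClosed k] (A : Type u) [CommRing A] [HopfAlgebra k A]
    [Algebra.FiniteType k A] [IsReduced A] (V : Type u) [AddCommGroup V] [Module k V] [HopfRep.Comod k A V]
    [Module.Finite k V] (v : V) :
    letI E : Submodule k V := Submodule.span k (Set.range fun g : A →ₐ[k] k => HopfRep.Comod.act k A V g v)
    HopfRep.IsSubcomod (k := k) (A := A) E ∧ v ∈ E ∧
      ∀ W : Submodule k V, HopfRep.IsSubcomod (k := k) (A := A) W → v ∈ W → E ≤ W := by
  set E : Submodule k V := Submodule.span k (Set.range fun g : A →ₐ[k] k => HopfRep.Comod.act k A V g v)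
  have hact : ∀ (g : A →ₐ[k] k) (x : V), HopfRep.Comod.act k A V g x = actL g.toLinearMap x := fun g x => rfl
  have hgen : ∀ g : A →ₐ[k] k, actL g.toLinearMap v ∈ E := fun g => Submodule.subset_span ⟨g, rfl⟩
  have hconv : ∀ g h : A →ₐ[k] k, conv g.toLinearMap h.toLinearMap =
      ((Algebra.TensorProduct.lift g h fun _ _ => mul_comm _ _).comp (Bialgebra.comulAlgHom k A)).toLinearMap := by
    intro g h
    ext a
    simp only [conv, LinearMap.comp_apply, LinearEquiv.coe_coe, AlgHom.toLinearMap_apply, AlgHom.comp_apply,
      Bialgebra.comulAlgHom_apply]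
    induction Coalgebra.comul (R := k) a using TensorProduct.induction_on with
    | zero => simp
    | tmul x y => simp
    | add x y hx hy => simp only [map_add, hx, hy]
  have hpt : ∀ (g : A →ₐ[k] k) (x : V), x ∈ E → actL g.toLinearMap x ∈ E := by
    intro g x hx
    induction hx using Submodule.span_induction with
    | mem x hx =>
      obtain ⟨h, rfl⟩ := hx
      show actL g.toLinearMap (HopfRep.Comod.act k A V h v) ∈ E
      rw [hact, actL_actL, hconv]
      exact hgen _
    | zero => simp
    | add x y _ _ hx hy => rw [map_add]; exact E.add_mem hx hy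
    | smul c x _ hx => rw [map_smul]; exact E.smul_mem c hx
  refine ⟨isSubcomod_iff.2 fun φ x hx => ?_, ?_, ?_⟩
  · rw [← Subspace.forall_mem_dualAnnihilator_apply_eq_zero_iff E]
    intro ψ hψ
    rw [Submodule.mem_dualAnnihilator] at hψ
    have key : ∀ (χ : A →ₗ[k] k) (y : V ⊗[k] A), ψ (slR χ y) = χ (slL ψ y) := by
      intro χ y
      induction y using TensorProduct.induction_on with
      | zero => simp
      | tmul p q => simp [mul_comm]
      | add p q hp hq => simp only [map_add, hp, hq]
    rw [actL_apply, key]
    have : slL ψ (HopfRep.Comod.coact (k := k) (A := A) x) = 0 := eq_zero_of_pts _ fun g => by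
      have := (key g.toLinearMap (HopfRep.Comod.coact (k := k) (A := A) x)).symm
      simpa using this.trans (hψ _ (hpt g x hx))
    rw [this, map_zero]
  · have := hgen (Bialgebra.counitAlgHom k A)
    rwa [show (Bialgebra.counitAlgHom k A).toLinearMap = Coalgebra.counit (R := k) (A := A) from rfl,
      actL_counit] at this
  · intro W hW hv
    refine Submodule.span_le.2 ?_
    rintro _ ⟨g, rfl⟩
    exact IsSubcomod.actL_mem hW g.toLinearMap hv

end Groth.Agent.S5376
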