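import Groth.Statements.S5377
import Mathlib.RingTheory.Flat.EquationalCriterion
import Mathlib.RingTheory.Flat.FaithfullyFlat.Basic
import Mathlib.RingTheory.RingHom.FaithfullyFlat
import Mathlib.Algebra.Category.Ring.FilteredColimits
import Mathlib.CategoryTheory.Limits.ConcreteCategory.Basic
-- import your own Groth.Agent.* helpers here

set_option autoImplicit false
universe u
open CategoryTheory CategoryTheory.Limits MonoidalCategory CartesianMonoidalCategory MonObj GrpObj AlgebraicGeometry
open SGA3

namespace Groth.Agent.S5377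

/-- Let (C_i → A_i)_i be a filtered direct system of homomorphisms of commutative rings, each of which
is faithfully flat. Then the induced homomorphism colim C_i → colim A_i is faithfully flat. -/
theorem result (J : Type u) [SmallCategory J] [IsFiltered J]
    (C A : J ⥤ CommRingCat.{u}) (φ : C ⟶ A) (h : ∀ j : J, (φ.app j).hom.FaithfullyFlat) :
    (colimMap φ).hom.FaithfullyFlat := by
  classical
  let f := (colimMap φ).hom
  let ci : ∀ j, C.obj j →+* (colimit C : CommRingCat.{u}) := fun j => (colimit.ι C j).hom
  let ai : ∀ j, A.obj j →+* (colimit A : CommRingCat.{u}) := fun j => (colimit.ι A j).hom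
  have hcomm : ∀ j (c : C.obj j), f (ci j c) = ai j ((φ.app j).hom c) := fun j c =>
    ConcreteCategory.congr_hom (ι_colimMap φ j) c
  have hA : ∀ {i j : J} (g : i ⟶ j) (a : A.obj i), ai j ((A.map g).hom a) = ai i a := fun g a =>
    ConcreteCategory.congr_hom (colimit.w A g) a
  have hC : ∀ {i j : J} (g : i ⟶ j) (a : C.obj i), ci j ((C.map g).hom a) = ci i a := fun g a =>
    ConcreteCategory.congr_hom (colimit.w C g) a
  have lift : ∀ (l : ℕ) (c : Fin l → (colimit C : CommRingCat.{u})) (x : Fin l → (colimit A : CommRingCat.{u}))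
      (n : Bool), (∑ i, f (c i) * x i = if n then 1 else 0) →
      ∃ (j : J) (c' : Fin l → C.obj j) (x' : Fin l → A.obj j), (∀ i, ci j (c' i) = c i) ∧
        (∀ i, ai j (x' i) = x i) ∧ (∑ i, (φ.app j).hom (c' i) * x' i = if n then 1 else 0) := by
    intro l c x n hs
    choose jc cc hcc using fun i => Concrete.colimit_exists_rep C (c i)
    choose jx xx hxx using fun i => Concrete.colimit_exists_rep A (x i)
    obtain ⟨j, hj⟩ := IsFiltered.sup_objs_exists
      ((Finset.univ.image jc) ∪ (Finset.univ.image jx))
    have gc : ∀ i, Nonempty (jc i ⟶ j) := fun i => hj (by simp)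
    have gx : ∀ i, Nonempty (jx i ⟶ j) := fun i => hj (by simp)
    let c1 : Fin l → C.obj j := fun i => (C.map (gc i).some).hom (cc i)
    let x1 : Fin l → A.obj j := fun i => (A.map (gx i).some).hom (xx i)
    have hc1 : ∀ i, ci j (c1 i) = c i := fun i => (hC _ _).trans (hcc i)
    have hx1 : ∀ i, ai j (x1 i) = x i := fun i => (hA _ _).trans (hxx i)
    have h0 : ai j (∑ i, (φ.app j).hom (c1 i) * x1 i) = ai j (if n then 1 else 0) := by
      rw [map_sum]
      simp only [map_mul, ← hcomm, hc1, hx1, hs]
      cases n <;> simp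
    obtain ⟨j', g, g', hg⟩ := Concrete.colimit_exists_of_rep_eq A _ _ h0
    have hnat : ∀ {i i' : J} (q : i ⟶ i') (z : C.obj i),
        (A.map q).hom ((φ.app i).hom z) = (φ.app i').hom ((C.map q).hom z) := fun q z =>
      (ConcreteCategory.congr_hom (φ.naturality q) z).symm
    let j'' := IsFiltered.coeq g g'
    let q := g ≫ IsFiltered.coeqHom g g'
    refine ⟨j'', fun i => (C.map q).hom (c1 i), fun i => (A.map q).hom (x1 i),
      fun i => (hC _ _).trans (hc1 i), fun i => (hA _ _).trans (hx1 i), ?_⟩
    have hq : (A.map q).hom (∑ i, (φ.app j).hom (c1 i) * x1 i) = (A.map q).hom (if n then 1 else 0) := by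
      have hq' : q = g' ≫ IsFiltered.coeqHom g g' := IsFiltered.coeq_condition g g'
      conv_rhs => rw [hq']
      simp only [q, A.map_comp, CommRingCat.hom_comp, RingHom.comp_apply]
      exact congrArg _ hg
    rw [map_sum] at hq
    simp only [map_mul, hnat] at hq
    rw [hq]
    cases n <;> simp
  letI : Algebra (colimit C : CommRingCat.{u}) (colimit A : CommRingCat.{u}) := f.toAlgebra
  show Module.FaithfullyFlat (colimit C : CommRingCat.{u}) (colimit A : CommRingCat.{u})
  have hflat : Module.Flat (colimit C : CommRingCat.{u}) (colimit A : CommRingCat.{u}) := by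
    refine Module.Flat.of_forall_isTrivialRelation fun {l c x} hs => ?_
    obtain ⟨j, c', x', hc', hx', hs'⟩ := lift l c x false (by simpa [Algebra.smul_def, RingHom.algebraMap_toAlgebra] using hs)
    letI : Algebra (C.obj j) (A.obj j) := (φ.app j).hom.toAlgebra
    have : Module.Flat (C.obj j) (A.obj j) := (h j).flat
    obtain ⟨m, a, y, hy, ha⟩ := Module.Flat.isTrivialRelation_of_sum_smul_eq_zero (f := c') (x := x')
      (by simpa [Algebra.smul_def, RingHom.algebraMap_toAlgebra] using hs')
    refine ⟨m, fun i t => ci j (a i t), fun t => ai j (y t), fun i => ?_, fun t => ?_⟩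
    · rw [← hx' i, hy i, map_sum]
      refine Finset.sum_congr rfl fun t _ => ?_
      show ai j ((φ.app j).hom (a i t) * y t) = f (ci j (a i t)) * ai j (y t)
      rw [map_mul, hcomm]
    · have := congrArg (ci j) (ha t)
      simpa [map_sum, map_mul, hc'] using this
  refine { toFlat := hflat, submodule_ne_top := fun m hm htop => ?_ }
  rw [Ideal.smul_top_eq_map, Submodule.restrictScalars_eq_top_iff, Ideal.eq_top_iff_one, Ideal.map,
    Ideal.span, Finsupp.mem_span_image_iff_linearCombination] at htop
  obtain ⟨w, hw, hw1⟩ := htop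
  let l := w.support.card
  let e := w.support.equivFin
  obtain ⟨j, c', x', hc', -, hs'⟩ := lift l (fun i => (e.symm i).1) (fun i => w (e.symm i).1) true (by
    rw [Finsupp.linearCombination_apply, Finsupp.sum, ← Finset.sum_coe_sort] at hw1
    simp only [if_true]
    refine ((e.symm.sum_comp fun s : w.support => f s.1 * w s.1)).trans (Eq.trans ?_ hw1)
    exact Finset.sum_congr rfl fun s _ => mul_comm _ _)
  letI : Algebra (C.obj j) (A.obj j) := (φ.app j).hom.toAlgebra
  have : Module.FaithfullyFlat (C.obj j) (A.obj j) := h j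
  let I : Ideal (C.obj j) := Ideal.span (Set.range c')
  have hI : I = ⊤ := by
    by_contra hne
    refine ((Module.FaithfullyFlat.iff_flat_and_proper_ideal _ _).1 this).2 I hne ?_
    rw [Ideal.smul_top_eq_map, Submodule.restrictScalars_eq_top_iff, Ideal.eq_top_iff_one]
    simp only [if_true] at hs'
    rw [← hs']
    exact Ideal.sum_mem _ fun i _ => Ideal.mul_mem_right _ _ (Ideal.mem_map_of_mem _ (Ideal.subset_span ⟨i, rfl⟩))
  apply hm.ne_top
  rw [Ideal.eq_top_iff_one, ← map_one (ci j)]
  have : I ≤ m.comap (ci j) := Ideal.span_le.2 (by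
    rintro _ ⟨i, rfl⟩
    show ci j (c' i) ∈ m
    rw [hc' i]
    exact hw (e.symm i).2)
  exact this (hI ▸ Submodule.mem_top)

end Groth.Agent.S5377
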