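import Groth.Statements.S5381
import Mathlib.RingTheory.Flat.TorsionFree
import Mathlib.AlgebraicGeometry.Morphisms.Flat
-- import your own Groth.Agent.* helpers here

set_option autoImplicit false
universe u
open CategoryTheory CategoryTheory.Limits MonoidalCategory CartesianMonoidalCategory MonObj GrpObj AlgebraicGeometry
open SGA3

namespace Groth.Agent.S5381

/-- For S the spectrum of a Dedekind domain R: let X be a scheme which is flat, quasi-compact and
quasi-separated over R. Then the ring of global sections Γ(X, O_X) is a flat R-module. (The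
published remark takes S locally noetherian and regular of dimension 1 and also observes, when S is
local with closed point s and uniformizer π, that Γ(X, O_X)/πΓ(X, O_X) → Γ(X_s, O_{X_s}) is
injective; this row takes S the spectrum of a Dedekind domain and omits the injectivity.) -/
theorem result (R : Type u) [CommRing R] [IsDedekindDomain R]
    (X : Scheme.{u}) (f : X ⟶ Spec (CommRingCat.of R)) [Flat f] [QuasiCompact f] [QuasiSeparated f] :
    letI := ((Scheme.ΓSpecIso (CommRingCat.of R)).inv ≫ f.appTop).hom.toAlgebra
    Module.Flat R Γ(X, ⊤) := by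
  letI := ((Scheme.ΓSpecIso (CommRingCat.of R)).inv ≫ f.appTop).hom.toAlgebra
  show Module.Flat R Γ(X, ⊤)
  have : Module.IsTorsionFree R Γ(X, ⊤) := by
    constructor
    intro r hr a b hab
    refine X.sheaf.eq_of_locally_eq' (fun i : X.affineOpens => i.1) ⊤ (fun _ => homOfLE le_top)
      (iSup_affineOpens_eq_top X).ge a b fun V => ?_
    let φ : CommRingCat.of R ⟶ Γ(X, V.1) :=
      (Scheme.ΓSpecIso (CommRingCat.of R)).inv ≫ f.appLE ⊤ V.1 le_top
    have hφ : φ.hom.Flat := by
      refine RingHom.Flat.comp (RingHom.Flat.of_bijective (ConcreteCategory.bijective_of_isIso (Scheme.ΓSpecIso (CommRingCat.of R)).inv)) ?_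
      exact f.flat_appLE (isAffineOpen_top _) V.2 _
    letI := φ.hom.toAlgebra
    have : Module.Flat R Γ(X, V.1) := hφ
    have hsm : ∀ z : Γ(X, ⊤), X.presheaf.map (homOfLE le_top).op (r • z) =
        r • (X.presheaf.map (homOfLE (le_top : V.1 ≤ ⊤)).op z) := by
      intro z
      rw [Algebra.smul_def, map_mul, Algebra.smul_def]
      congr 1
    apply (Module.IsTorsionFree.isSMulRegular (M := Γ(X, V.1)) hr)
    show r • X.presheaf.map _ a = r • X.presheaf.map _ b
    rw [← hsm, ← hsm, show r • a = r • b from hab]
  infer_instance

end Groth.Agent.S5381
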