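import Groth.Statements.S5384
import Groth.Agent.Neutral0.Basic
import Groth.Agent.GrpSch.FieldTop
import Mathlib.RingTheory.Artinian.Ring
-- import your own Groth.Agent.* helpers here

set_option autoImplicit false
universe u
open CategoryTheory CategoryTheory.Limits MonoidalCategory CartesianMonoidalCategory MonObj GrpObj AlgebraicGeometry
open SGA3

namespace Groth.Agent.S5384

open Groth.Agent.Neutral0
open scoped CategoryTheory.Obj
set_option backward.isDefEq.respectTransparency.types false

/-- Let A be a local artinian ring, G an A-group scheme and u : H → G a homomorphism of A-group schemes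
which is an immersion (a subgroup scheme; no finiteness is assumed). Then u is a closed immersion. -/
theorem result (A : Type u) [CommRing A] [IsArtinianRing A] [IsLocalRing A] (G H : Over (Spec (CommRingCat.of A))) [GrpObj G] [GrpObj H]
    (u : H ⟶ G) [IsMonHom u] [IsImmersion u.left] : IsClosedImmersion u.left := by
  let s : Spec (CommRingCat.of A) := IsLocalRing.closedPoint A
  have hu : ∀ X : Over (Spec (CommRingCat.of A)), X.hom ⁻¹' {s} = Set.univ := fun X =>
    Set.eq_univ_of_forall fun _ => Subsingleton.elim (α := PrimeSpectrum A) _ _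
  have hr : ∀ (X : Over (Spec (CommRingCat.of A))), Set.range (pr (fromPt s) X) = Set.univ :=
    fun X => by
      rw [show Set.range (pr (fromPt s) X) = X.hom ⁻¹' Set.range (fromPt s) from
        Scheme.Pullback.range_fst _ _]
      exact (congrArg (X.hom ⁻¹' ·) (Scheme.range_fromSpecResidueField s)).trans (hu X)
  let ψ := (Over.pullback (fromPt s)).map u
  have hψ : ∀ w, pr (fromPt s) G (ψ.left w) = u.left (pr (fromPt s) H w) := fun w =>
    congrArg (fun (f : (GK (fromPt s) H).left ⟶ G.left) => f w) (pullback.lift_fst _ _ _)
  have himg : Set.range ψ.left = pr (fromPt s) G ⁻¹' Set.range u.left := by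
    ext z
    constructor
    · rintro ⟨w, rfl⟩
      exact ⟨_, (hψ w).symm⟩
    · rintro ⟨y, hy⟩
      obtain ⟨w, rfl⟩ := Set.range_eq_univ.1 (hr H) y
      exact ⟨w, (pullback.fst G.hom (fromPt s)).isEmbedding.injective ((hψ w).trans hy)⟩
  have hlc : IsLocallyClosed (Set.range ψ.left) := himg ▸
    (u.left.isLocallyClosed_range.preimage (pr (fromPt s) G).continuous)
  have hcl := Groth.Agent.GrpSch.isClosed_range_of_isLocallyClosed_range ψ hlc
  refine IsClosedImmersion.of_isPreimmersion u.left ?_
  rw [← Set.image_preimage_eq (Set.range u.left) (f := pr (fromPt s) G) (Set.range_eq_univ.1 (hr G)), ← himg]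
  exact (Topology.IsEmbedding.toHomeomorphOfSurjective
      (pullback.fst G.hom (fromPt s)).isEmbedding (Set.range_eq_univ.1 (hr G))).isClosedMap _ hcl

end Groth.Agent.S5384
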