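import Groth.Statements.S5387
import Mathlib.AlgebraicGeometry.Group.Smooth
import Mathlib.AlgebraicGeometry.AlgClosed.Basic
-- import your own Groth.Agent.* helpers here

set_option autoImplicit false
universe u
open CategoryTheory CategoryTheory.Limits MonoidalCategory CartesianMonoidalCategory MonObj GrpObj AlgebraicGeometry
open SGA3

namespace Groth.Agent.S5387

/-- Let k be an algebraically closed field, G a group scheme locally of finite type over k and x a
closed point of G. Then the local ring of G at x is isomorphic to the local ring of G at the unit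
point (an isomorphism is induced by a translation; this row asserts the existence of an isomorphism
of rings). -/
theorem result (k : Type u) [Field k] [IsAlgClosed k] (G : Over (Spec (CommRingCat.of k))) [GrpObj G]
    [LocallyOfFiniteType G.hom] (pt : ↥(𝟙_ (Over (Spec (CommRingCat.of k)))).left) (x : G.left) (hx : IsClosed ({x} : Set G.left)) :
    Nonempty (G.left.presheaf.stalk (η[G].left.base pt) ≅ G.left.presheaf.stalk x) := by
  let sx : 𝟙_ (Over (Spec (CommRingCat.of k))) ⟶ G :=
    Over.homMk (pointOfClosedPoint G.hom x hx) (pointOfClosedPoint_comp G.hom x hx)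
  let τ : G ≅ G := (GrpObj.mulRight η[G]).symm ≪≫ GrpObj.mulRight sx
  have hτ : η[G] ≫ τ.hom = sx := by
    dsimp only [Iso.trans_hom, Iso.symm_hom, τ]
    rw [← Category.assoc, ← Iso.eq_comp_inv]
    simp [comp_lift_assoc]
  have hx' : τ.hom.left.base (η[G].left.base pt) = x := by
    have h := congrArg (fun z => z.left.base pt) hτ
    simp only [Over.comp_left, Scheme.Hom.comp_apply] at h
    rw [h]
    exact pointOfClosedPoint_apply G.hom x hx pt
  have : IsIso τ.hom.left := inferInstanceAs (IsIso ((Over.forget _).map τ.hom))
  exact ⟨(eqToIso (congrArg (fun y => G.left.presheaf.stalk y) hx'.symm) ≪≫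
    asIso (τ.hom.left.stalkMap (η[G].left.base pt))).symm⟩

end Groth.Agent.S5387
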