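import Groth.Statements.S5389
import Groth.Agent.MaxOpen.Basic
import Groth.Agent.GrpSch.FieldTop
-- import your own Groth.Agent.* helpers here

set_option autoImplicit false
universe u
open CategoryTheory CategoryTheory.Limits MonoidalCategory CartesianMonoidalCategory MonObj GrpObj AlgebraicGeometry
open SGA3

namespace Groth.Agent.S5389

open Groth.Agent.MaxOpen Groth.Agent.GrpSch
set_option backward.isDefEq.respectTransparency.types false

/-- Let P be a property of morphisms of schemes which is local on the target for the fpqc topology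
(stable under base change, Zariski-local on the target, and descending along flat surjective
quasi-compact morphisms). Let u : G → H be a homomorphism of S-group schemes with G flat and
universally open over S, W the largest open subscheme of H over which the restriction of u has P,
and V = u⁻¹(W). Then the image U of V in S is open and V is an open subgroup scheme of G over U: V
contains the unit point of every fibre of G that it meets, V is stable under the inversion of G, and
the product of a point of G ×_S G whose two projections lie in V lies in V. -/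
theorem result (P : MorphismProperty Scheme.{u}) [P.IsStableUnderBaseChange] [IsZariskiLocalAtTarget P]
    [P.DescendsAlong (@Flat ⊓ @Surjective ⊓ @QuasiCompact)]
    (S : Scheme.{u}) (G H : Over S) [GrpObj G] [GrpObj H] (u : G ⟶ H) [IsMonHom u] [Flat G.hom] [UniversallyOpen G.hom]
    (W : H.left.Opens) (hW : P (u.left ∣_ W)) (hmax : ∀ W' : H.left.Opens, P (u.left ∣_ W') → W' ≤ W) :
    letI V : G.left.Opens := u.left ⁻¹ᵁ W
    IsOpen (G.hom.base '' (V : Set G.left)) ∧
    (∀ g ∈ V, ∀ p : ↥(𝟙_ (Over S)).left, (𝟙_ (Over S)).hom.base p = G.hom.base g → η[G].left.base p ∈ V) ∧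
    (∀ g ∈ V, ι[G].left.base g ∈ V) ∧
    (∀ z : ↥(G ⊗ G).left, (fst G G).left.base z ∈ V → (snd G G).left.base z ∈ V → μ[G].left.base z ∈ V) := by
  let Φ : G ⊗ H ⟶ H := u ▷ H ≫ μ[H]
  have : Flat Φ.left := property_whisker_mul (P := @Flat) u inferInstance
  have : UniversallyOpen Φ.left := property_whisker_mul (P := @UniversallyOpen) u inferInstance
  have : Flat (snd G H).left := property_snd G H inferInstance
  have : UniversallyOpen (snd G H).left := property_snd G H inferInstance
  have hσ : IsPullback (shearLeft (𝟙 G)).hom (G ◁ u) (G ◁ u) (shearLeft u).hom := by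
    refine IsPullback.of_horiz_isIso ⟨?_⟩
    apply CartesianMonoidalCategory.hom_ext
    · simp [shearLeft]
    · simp [shearLeft, MonObj.comp_mul, MonObj.mul_comp]
  have hΦ : IsPullback μ[G] (G ◁ u) u Φ := by
    have h := hσ.paste_horiz (isPullback_whiskerLeft G u).flip
    rwa [shearLeft_hom_snd, shearLeft_hom_snd, id_whiskerRight, Category.id_comp] at h
  have s1 := isPullback_left (isPullback_whiskerLeft G u).flip
  have s2 := isPullback_left hΦ
  have key : ∀ z : ↥(G ⊗ G).left, u.left (μ[G].left z) ∈ W ↔ u.left ((snd G G).left z) ∈ W := by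
    intro z
    have e1 : u.left (μ[G].left z) = Φ.left ((G ◁ u).left z) :=
      congrArg (fun (f : (G ⊗ G).left ⟶ H.left) => f z) s2.w
    have e2 : u.left ((snd G G).left z) = (snd G H).left ((G ◁ u).left z) :=
      congrArg (fun (f : (G ⊗ G).left ⟶ H.left) => f z) s1.w
    rw [e1, e2]
    exact ⟨fun h => image_subset P s1 (snd G H).left.isOpenMap hmax (restrict_baseChange P s2 hW)
        ⟨_, h, rfl⟩,
      fun h => image_subset P s2 Φ.left.isOpenMap hmax (restrict_baseChange P s1 hW) ⟨_, h, rfl⟩⟩
  have hone : ∀ g : G.left, u.left g ∈ W ↔ u.left (η[G].left (G.hom g)) ∈ W := by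
    intro g
    have h := key ((lift ι[G] (𝟙 G)).left g)
    have e1 : μ[G].left ((lift ι[G] (𝟙 G)).left g) = η[G].left (G.hom g) :=
      congrArg (fun (f : G ⟶ G) => f.left g) (GrpObj.left_inv G)
    have e2 : (snd G G).left ((lift ι[G] (𝟙 G)).left g) = g :=
      congrArg (fun (f : G ⟶ G) => f.left g) (lift_snd ι[G] (𝟙 G))
    rw [e1, e2] at h
    exact h.symm
  refine ⟨G.hom.isOpenMap _ (u.left ⁻¹ᵁ W).2, ?_, ?_, fun z _ hz => (key z).2 hz⟩
  · intro g hg p hp
    have hp' : p = G.hom g := hp
    subst hp'
    exact (hone g).1 hg
  · intro g hg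
    refine (hone _).2 ?_
    rw [show G.hom (ι[G].left g) = G.hom g from
      congrArg (fun (f : G.left ⟶ S) => f g) (Over.w ι[G])]
    exact (hone g).1 hg

end Groth.Agent.S5389
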