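import Groth.Statements.S5422
import Groth.Agent.HopfUnip.Subgroups
import Groth.Agent.HopfUnip.Diag

set_option autoImplicit false
universe u
open TensorProduct
open SGA3t2b

namespace Groth.Agent.S5422

/-- Parts (ii), (iii) and (iv) (Hopf-algebra form; 'unipotent' in the fixed-vector form: every non-zero
finite-dimensional representation has a non-zero fixed vector, which is equivalent to the published
definition for affine algebraic groups): let k be a field and A the coordinate Hopf algebra of an
affine algebraic k-group E. (ii) If E is unipotent, so is every closed subgroup Spec B (B a Hopf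
quotient of A, φ : A → B a surjective bialgebra map). (iii) If E is unipotent, so is every quotient
group Spec C (ψ : C → A an injective bialgebra map). (iv) If ψ : C → A is an injective bialgebra map
(quotient U = Spec C), J the Hopf ideal of A generated by the image of the augmentation ideal of C
(kernel N = Spec (A/J)), and both U and N are unipotent, then E is unipotent. -/
theorem result (k : Type u) [Field k] (A : Type u) [CommRing A] [HopfAlgebra k A] [Algebra.FiniteType k A] :
    (∀ (B : Type u) [CommRing B] [HopfAlgebra k B] [Algebra.FiniteType k B] (φ : A →ₐc[k] B),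
      Function.Surjective φ → HopfRep.IsUnipotent k A → HopfRep.IsUnipotent k B) ∧
    (∀ (C : Type u) [CommRing C] [HopfAlgebra k C] [Algebra.FiniteType k C] (ψ : C →ₐc[k] A),
      Function.Injective ψ → HopfRep.IsUnipotent k A → HopfRep.IsUnipotent k C) ∧
    (∀ (C : Type u) [CommRing C] [HopfAlgebra k C] [Algebra.FiniteType k C] (ψ : C →ₐc[k] A)
      (J : Ideal A) [J.IsHopfIdeal k],
      Function.Injective ψ → J = Ideal.map (ψ : C →+* A) (RingHom.ker (Bialgebra.counitAlgHom k C)) →
      HopfRep.IsUnipotent k C → HopfRep.IsUnipotent k (A ⧸ J) → HopfRep.IsUnipotent k A) := by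
  refine ⟨fun B _ _ _ φ hφ hA => Groth.Agent.HopfUnip.isUnipotent_of_surjective φ hφ hA, ?_, ?_⟩
  · intro C _ _ _ ψ hψ hA
    rw [Groth.Agent.HopfUnip.isUnipotent_iff_isWeighted] at hA ⊢
    refine Groth.Agent.HopfUnip.isWeighted_mono ?_ (Groth.Agent.HopfUnip.isWeighted_of_injective ψ hψ
      (fun g hg => by rw [Set.mem_singleton_iff.1 hg]; exact IsGroupLikeElem.one) hA)
    rintro b ⟨-, hb⟩
    exact Set.mem_singleton_iff.2 (hψ ((Set.mem_singleton_iff.1 hb).trans (map_one ψ).symm))
  · intro C _ _ _ ψ J _ hψ hJ hC hN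
    rw [Groth.Agent.HopfUnip.isUnipotent_iff_isWeighted] at hC ⊢
    refine Groth.Agent.HopfUnip.isWeighted_of_extension ψ
      (fun g hg => by rw [Set.mem_singleton_iff.1 hg]; exact IsGroupLikeElem.one) J ?_ hJ hN
    rintro a ⟨c, rfl⟩
    have hc : c ∈ ⨆ n, Groth.Agent.HopfUnip.fil k C ({1} : Set C) n := hC.symm ▸ Submodule.mem_top
    obtain ⟨n, hn⟩ := (Submodule.mem_iSup_of_directed _ (Groth.Agent.HopfUnip.fil_mono _).directed_le).1 hc
    refine Submodule.mem_iSup_of_mem n (Groth.Agent.HopfUnip.fil_mono_set ?_ n (Groth.Agent.HopfUnip.map_fil_le ψ ({1} : Set C) n ⟨c, hn, rfl⟩))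
    rintro _ ⟨x, hx, rfl⟩
    rw [Set.mem_singleton_iff.1 hx]
    exact Set.mem_singleton_iff.2 (map_one ψ)

end Groth.Agent.S5422
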