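import Groth.Statements.S5427
import Mathlib
-- import your own Groth.Agent.* helpers here

set_option autoImplicit false
universe u
open CategoryTheory MonoidalCategory CartesianMonoidalCategory MonObj GrpObj AlgebraicGeometry CategoryTheory.Limits
open Red

namespace Groth.Agent.S5427

/-- Let S be a scheme and G = D_S(M) a diagonalizable S-group of finite type, M a non-trivial finitely
generated commutative group. Then there are a prime number r and a closed subgroup of G isomorphic
to (μ_r)_S: a homomorphism of S-groups D_S(ℤ/r) → D_S(M) which is a closed immersion. -/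
theorem result (S : Scheme.{u}) (M : Type) [AddCommGroup M] [AddGroup.FG M] [Nontrivial M] :
    ∃ (r : ℕ) (_ : r.Prime) (j : Red.DS S (ZMod r) ⟶ Red.DS S M), IsMonHom j ∧ IsClosedImmersion j.left := by
  haveI : Module.Finite ℤ M := Module.Finite.iff_addGroup_fg.mpr inferInstance
  obtain ⟨r, hr, φ, hφ⟩ : ∃ (r : ℕ), r.Prime ∧ ∃ φ : M →+ ZMod r, Function.Surjective φ := by
    obtain ⟨N, hN, -⟩ := (eq_top_or_exists_le_coatom (⊥ : Submodule ℤ M)).resolve_left bot_ne_top
    haveI : IsSimpleModule ℤ (M ⧸ N) := isSimpleModule_iff_isCoatom.mpr hN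
    obtain ⟨I, hI, ⟨e⟩⟩ := isSimpleModule_iff_quot_maximal.mp (inferInstance : IsSimpleModule ℤ (M ⧸ N))
    obtain ⟨n, rfl⟩ := (inferInstance : I.IsPrincipal).principal
    have hn0 : n ≠ 0 := by
      rintro rfl
      refine Ring.ne_bot_of_isMaximal_of_not_isField hI Int.not_isField ?_
      simp
    have hp : Prime n := (Ideal.span_singleton_prime hn0).mp hI.isPrime
    refine ⟨n.natAbs, Int.prime_iff_natAbs_prime.mp hp,
      (Int.quotientSpanEquivZMod n).toAddEquiv.toAddMonoidHom.comp (e.toAddMonoidHom.comp N.mkQ.toAddMonoidHom), ?_⟩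
    exact (Int.quotientSpanEquivZMod n).surjective.comp (e.surjective.comp N.mkQ_surjective)
  let f : MonoidAlgebra (ULift.{u} ℤ) (Multiplicative M) →ₐc[ULift.{u} ℤ] MonoidAlgebra (ULift.{u} ℤ) (Multiplicative (ZMod r)) :=
    MonoidAlgebra.mapDomainBialgHom (ULift.{u} ℤ) φ.toMultiplicative
  let g : Red.diag (ULift.{u} ℤ) (ZMod r) ⟶ Red.diag (ULift.{u} ℤ) M :=
    ((hopfSpec (CommRingCat.of (ULift.{u} ℤ))).map (CommHopfAlgCat.ofHom f).op).hom.hom
  haveI : IsMonHom g := ((hopfSpec (CommRingCat.of (ULift.{u} ℤ))).map (CommHopfAlgCat.ofHom f).op).hom.isMonHom_hom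
  refine ⟨r, hr, (Over.pullback (Limits.IsTerminal.from specULiftZIsTerminal S)).map g, inferInstance, ?_⟩
  haveI : IsClosedImmersion g.left := by
    have e : g.left = Spec.map (CommRingCat.ofHom f.toAlgHom.toRingHom) := rfl
    rw [e]
    exact IsClosedImmersion.spec_of_surjective _ (fun x => by
      induction x using MonoidAlgebra.induction_linear with
      | zero => exact ⟨0, map_zero _⟩
      | add a b ha hb => obtain ⟨a', rfl⟩ := ha; obtain ⟨b', rfl⟩ := hb; exact ⟨a' + b', map_add _ _ _⟩
      | single m c =>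
        obtain ⟨m', hm⟩ := hφ (Multiplicative.toAdd m)
        exact ⟨MonoidAlgebra.single (Multiplicative.ofAdd m') c, by simp [f, hm]⟩)
  exact MorphismProperty.baseChange_map (P := @IsClosedImmersion) _ _ inferInstance

end Groth.Agent.S5427
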