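import Groth.Statements.S5442
import Groth.Agent.MultHopf.FixedRep
-- import your own Groth.Agent.* helpers here

set_option autoImplicit false
universe u
open CategoryTheory MonoidalCategory CartesianMonoidalCategory MonObj GrpObj AlgebraicGeometry CategoryTheory.Limits
open SGA3x

namespace Groth.Agent.S5442

/-- Let S be a scheme, G an S-group scheme separated and smooth over S, and H an S-group of
multiplicative type and of finite type acting on G by group automorphisms (on points, h · (g g′) =
(h · g)(h · g′)). Then the functor Z = G^H of invariants (points of G fixed by all points of H after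
any base change) is representable by a closed subgroup scheme of G which is smooth over S: there are
an S-group Z and a homomorphism Z → G which is a closed immersion, with Z smooth over S, whose
points are exactly the invariant points. (The published statement allows any S-group of
multiplicative type; this row assumes it moreover of finite type.) -/
theorem result (S : Scheme.{u}) (H G : Over S) [GrpObj H] [GrpObj G] (hH : SGA3x.IsMultTypeFT H)
    [IsSeparated G.hom] [Smooth G.hom] (a : AlgGrp.Action H G)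
    (hmul : ∀ (X : Over S) (h : X ⟶ H) (g g' : X ⟶ G),
      lift h (g * g') ≫ a.act = (lift h g ≫ a.act) * (lift h g' ≫ a.act)) :
    ∃ (Z : Over S) (_ : GrpObj Z) (z : Z ⟶ G) (_ : IsMonHom z), IsClosedImmersion z.left ∧ Smooth Z.hom ∧
      ∀ (X : Over S) (g : X ⟶ G), (∃ x : X ⟶ Z, x ≫ z = g) ↔
        ∀ (X' : Over S) (f : X' ⟶ X) (h : X' ⟶ H), lift h (f ≫ g) ≫ a.act = f ≫ g := by
  obtain ⟨Z, i, hi, hf, hZ⟩ := Groth.Agent.MultHopf.exists_fixed_closed H G (Groth.Agent.MultHopf.isMultTypeLoc_of_ft hH) a
  have hmono : Mono i := Over.mono_of_mono_left i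
  have hF : ∀ (T : Over S) (x : T ⟶ G), (∃ y : T.left ⟶ Z.left, y ≫ i.left = x.left) ↔
      ∀ (T' : Over S) (t : T' ⟶ T) (g : T' ⟶ H), lift g (t ≫ x) ≫ a.act = t ≫ x := fun T x => by
    refine Iff.trans ⟨fun ⟨y, hy⟩ => ?_, fun ⟨z, hz⟩ => ⟨z.left, congrArg (fun q => q.left) hz⟩⟩ (hZ T x)
    exact ⟨Over.homMk y (by rw [← Over.w i, ← Category.assoc, hy, Over.w]), Over.OverMorphism.ext hy⟩
  have hsm : Smooth (i.left ≫ G.hom) :=
    Groth.Agent.MultHopf.smooth_fixedPoints H (Groth.Agent.MultHopf.isMultTypeLoc_of_ft hH) G a Z.left i.left hF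
  rw [Over.w i] at hsm
  have h1 : ∀ (T : Over S) (h : T ⟶ H), lift h (1 : T ⟶ G) ≫ a.act = 1 := fun T h => by
    have e := hmul T h 1 1
    rwa [_root_.one_mul, left_eq_mul] at e
  obtain ⟨iZ, hj⟩ := Groth.Agent.MultHopf.exists_grpObj_of_subgroup i
    (fun T x => ∀ (T' : Over S) (t : T' ⟶ T) (g : T' ⟶ H), lift g (t ≫ x) ≫ a.act = t ≫ x) hZ
    (fun T T' t g => by rw [MonObj.comp_one, h1])
    (fun T x y hx hy T' t g => by rw [MonObj.comp_mul, hmul, hx T' t g, hy T' t g])
    (fun T x hx T' t g => by
      rw [GrpObj.comp_inv]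
      apply eq_inv_of_mul_eq_one_left
      have e := hmul T' g (t ≫ x)⁻¹ (t ≫ x)
      rw [inv_mul_cancel, h1, hx T' t g] at e
      exact e.symm)
  exact ⟨Z, iZ, i, hj, hi, hsm, hZ⟩

end Groth.Agent.S5442
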