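import Groth.Statements.S5447
import Groth.Agent.RootSys.Criterion

set_option autoImplicit false
open RootD

namespace Groth.Agent.S5447

/-- If every root can be written in exactly one way as an integer combination of the roots indexed by Δ
with coefficients all of the same sign, then these roots are linearly independent (so Δ is a system
of simple roots) and indivisible. -/
theorem result {ι M N : Type*} [AddCommGroup M] [AddCommGroup N]
    (P : RootPairing ι ℤ M N) [Finite ι] (Δ : Set ι)
    (h : ∀ k : ι, ∃! c : ι →₀ ℤ, (↑c.support ⊆ Δ ∧ ((∀ j, 0 ≤ c j) ∨ (∀ j, c j ≤ 0)) ∧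
      Finsupp.linearCombination ℤ P.root c = P.root k)) :
    RootD.IsSimpleSys P Δ ∧ ∀ i ∈ Δ, RootD.IsIndiv P i := by
  classical
  let rep := fun k => (h k).choose
  have hrep : ∀ k, (↑(rep k).support ⊆ Δ ∧ ((∀ j, 0 ≤ rep k j) ∨ (∀ j, rep k j ≤ 0)) ∧
      Finsupp.linearCombination ℤ P.root (rep k) = P.root k) := fun k => (h k).choose_spec.1
  have huniq : ∀ k c, (↑c.support ⊆ Δ ∧ ((∀ j, 0 ≤ c j) ∨ (∀ j, c j ≤ 0)) ∧
      Finsupp.linearCombination ℤ P.root c = P.root k) → c = rep k :=
    fun k c hc => (h k).choose_spec.2 c hc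
  have hne : ∀ k, rep k ≠ 0 := fun k hk => P.ne_zero k (by
    have := (hrep k).2.2; rw [hk, map_zero] at this; exact this.symm)
  set S : Set ι := {k | ∀ j, 0 ≤ rep k j} with hS
  have hsimple : ∀ i ∈ Δ, rep i = Finsupp.single i 1 := fun i hi => (huniq i _ ⟨fun l hl =>
    Finset.mem_singleton.mp (Finsupp.support_single_subset hl) ▸ hi,
    Or.inl fun j => by rw [Finsupp.single_apply]; split_ifs <;> simp, by simp⟩).symm
  have hneg : ∀ k, rep (P.reflectionPerm k k) = -rep k := fun k => (huniq _ _ ⟨by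
    rw [Finsupp.support_neg]; exact (hrep k).1,
    (hrep k).2.1.symm.imp (fun h j => by simpa using h j) (fun h j => by simpa using h j),
    by rw [map_neg, (hrep k).2.2, RootSys.root_neg]⟩).symm
  have hP1 : ∀ i ∈ S, P.reflectionPerm i i ∉ S := fun i hi hi' => hne i (Finsupp.ext fun j => by
    have h1 := hi j
    have h2 := hi' j
    rw [hneg, Finsupp.neg_apply] at h2
    simp only [Finsupp.coe_zero, Pi.zero_apply]
    omega)
  have hP2 : ∀ i : ι, i ∈ S ∨ P.reflectionPerm i i ∈ S := fun i =>
    (hrep i).2.1.imp id fun h j => by simpa [hneg] using h j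
  have hadd : ∀ {i j k : ι}, i ∈ S → j ∈ S → P.root k = P.root i + P.root j →
      rep k = rep i + rep j := fun {i j k} hi hj hk => (huniq k _ ⟨fun l hl => by
      rcases Finset.mem_union.mp (Finsupp.support_add hl) with h | h
      exacts [(hrep i).1 h, (hrep j).1 h],
      Or.inl fun l => by simpa using add_nonneg (hi l) (hj l),
      by rw [map_add, (hrep i).2.2, (hrep j).2.2, hk]⟩).symm
  have hcl : RootD.IsClosedSub P S := fun i j k hi hj hk l => by
    rw [hadd hi hj hk, Finsupp.add_apply]; exact add_nonneg (hi l) (hj l)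
  obtain ⟨Δ₀, hΔ₀, hpos⟩ := RootSys.exists_simpleSys_of_isPosSys
    (RootSys.isPosSys_iff.mpr ⟨hP1, hP2, hcl⟩)
  have hΔS : ∀ i ∈ Δ, i ∈ S := fun i hi j => by
    rw [hsimple i hi, Finsupp.single_apply]; split_ifs <;> simp
  have hsub : Δ ⊆ Δ₀ := by
    intro i hi
    rw [RootSys.mem_simple_iff_not_sum hΔ₀ (hpos ▸ hΔS i hi), hpos]
    rintro ⟨a, b, ha, hb, he⟩
    have h1 := hadd ha hb he
    rw [hsimple i hi] at h1
    have hz : ∀ l, l ≠ i → rep a l = 0 ∧ rep b l = 0 := fun l hl => by
      have := congrArg (fun f : ι →₀ ℤ => f l) h1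
      simp [Finsupp.single_eq_of_ne hl] at this
      have := ha l
      have := hb l
      omega
    have hi' := congrArg (fun f : ι →₀ ℤ => f i) h1
    simp at hi'
    have := ha i
    have := hb i
    rcases (show rep a i = 0 ∨ rep b i = 0 by omega) with h0 | h0
    · exact hne a (Finsupp.ext fun l => by
        by_cases hl : l = i
        · rw [hl]; simpa using h0
        · simpa using (hz l hl).1)
    · exact hne b (Finsupp.ext fun l => by
        by_cases hl : l = i
        · rw [hl]; simpa using h0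
        · simpa using (hz l hl).2)
  have hΔ₀sub : Δ₀ ⊆ Δ := by
    intro x hx
    by_contra hxΔ
    have h1 := RootSys.coef_eq hΔ₀ ((hrep x).1.trans hsub) (hrep x).2.2
    rw [RootSys.coef_simple hΔ₀ hx] at h1
    have h2 : rep x x = 0 := Finsupp.notMem_support_iff.mp fun h' => hxΔ ((hrep x).1 h')
    rw [← h1] at h2
    simp at h2
  obtain rfl := hsub.antisymm hΔ₀sub
  exact ⟨hΔ₀, fun i hi => RootSys.simple_indiv hΔ₀ hi⟩

end Groth.Agent.S5447
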