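import Groth.Statements.S5451
import Groth.Agent.RootSys.Exists

set_option autoImplicit false
open RootD

namespace Groth.Agent.S5451

/-- If a root is a positive integer combination of roots α_i, then it can be reached from 0 by
successively adding roots taken among the α_i in such a way that every partial sum is a root. -/
theorem result {ι M N : Type*} [AddCommGroup M] [AddCommGroup N]
    (P : RootPairing ι ℤ M N) [Finite ι] {n : ℕ} (a : Fin n → ι) (m : Fin n → ℕ)
    (hm : ∀ i, 0 < m i) (k : ι) (hk : P.root k = ∑ i, m i • P.root (a i)) :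
    ∃ (l : ℕ) (b : Fin l → Fin n), 0 < l ∧
      (∀ p : Fin l, ∃ j : ι, P.root j = ∑ q ∈ Finset.univ.filter (fun q : Fin l => q.val ≤ p.val), P.root (a (b q))) ∧
      P.root k = ∑ q, P.root (a (b q)) := by
  classical
  suffices key : ∀ (N : ℕ) (k : ι) (m : Fin n → ℕ), ∑ i, m i = N →
      P.root k = ∑ i, m i • P.root (a i) →
      ∃ (l : ℕ) (b : Fin l → Fin n), 0 < l ∧
        (∀ p : Fin l, ∃ j : ι, P.root j = ∑ q ∈ Finset.univ.filter (fun q : Fin l => q.val ≤ p.val),
          P.root (a (b q))) ∧
        P.root k = ∑ q, P.root (a (b q)) from key _ k m rfl hk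
  clear hk k hm m
  intro N
  induction N using Nat.strong_induction_on with
  | _ N ih =>
    intro k m hN hk
    obtain ⟨x, hx, hp⟩ : ∃ x, m x ≠ 0 ∧ 0 < P.pairingIn ℤ (a x) k := by
      by_contra! H
      have h0 := congrArg (P.coroot' k) hk
      simp only [map_sum, map_nsmul, RootSys.coroot'_root, RootPairing.pairingIn_same,
        nsmul_eq_mul, Int.cast_id] at h0
      have : ∑ l, (m l : ℤ) * P.pairingIn ℤ (a l) k ≤ 0 := Finset.sum_nonpos fun l _ => by
        by_cases h : m l = 0
        · simp [h]
        · exact mul_nonpos_of_nonneg_of_nonpos (by positivity) (H l h)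
      omega
    by_cases hkx : a x = k
    · refine ⟨1, fun _ => x, one_pos, fun p => ⟨a x, ?_⟩, by simp [hkx]⟩
      rw [Finset.filter_true_of_mem (by intro q _; omega)]
      simp
    obtain ⟨j, hj⟩ := P.root_sub_root_mem_of_pairingIn_pos
      ((P.zero_lt_pairingIn_iff' ℤ).mp hp) (Ne.symm hkx)
    have hupd : ∀ i, m i = Function.update m x (m x - 1) i + if i = x then 1 else 0 := by
      intro i
      by_cases h : i = x
      · subst h; simp; omega
      · simp [h]
    have hsum : ∑ i, m i = ∑ i, Function.update m x (m x - 1) i + 1 := by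
      rw [Finset.sum_congr rfl (fun i _ => hupd i), Finset.sum_add_distrib]; simp
    have hj' : P.root j = ∑ i, Function.update m x (m x - 1) i • P.root (a i) := by
      rw [hj, hk, Finset.sum_congr rfl
        (fun i _ => show m i • P.root (a i) = _ by rw [hupd i, add_smul])]
      simp [Finset.sum_add_distrib, ite_smul]
    obtain ⟨l, b, hl, hb, hjb⟩ := ih _ (by omega) j _ rfl hj'
    refine ⟨l + 1, Fin.snoc b x, by omega, fun p => ?_, ?_⟩
    · by_cases hpl : p.val < l
      · obtain ⟨j', hj''⟩ := hb ⟨p.val, hpl⟩
        refine ⟨j', ?_⟩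
        rw [Finset.sum_filter, Fin.sum_univ_castSucc, if_neg (by simp; omega), add_zero, hj'',
          Finset.sum_filter]
        simp
      · refine ⟨k, ?_⟩
        rw [Finset.filter_true_of_mem (by intro q _; omega), Fin.sum_univ_castSucc]
        simp [← hjb, hj]
    · rw [Fin.sum_univ_castSucc]
      simp [← hjb, hj]

end Groth.Agent.S5451
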