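import Groth.Statements.S5457
import Groth.Agent.RootSys.Simple

set_option autoImplicit false
open RootD

namespace Groth.Agent.S5457

/-- Given a translation-invariant partial order (pulled back along an additive map to an ordered abelian
group) for which every root is > 0 or < 0, the roots > 0 form a system of positive roots. -/
theorem result {ι M N : Type*} [AddCommGroup M] [AddCommGroup N]
    (P : RootPairing ι ℤ M N) [Finite ι] {G : Type*} [AddCommGroup G] [PartialOrder G]
    [IsOrderedAddMonoid G] (φ : M →+ G) (hφ : ∀ i : ι, 0 < φ (P.root i) ∨ φ (P.root i) < 0) :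
    RootD.IsPosSys P {i : ι | 0 < φ (P.root i)} := by
  have hneg : ∀ i : ι, φ (P.root (P.reflectionPerm i i)) = -φ (P.root i) := fun i => by
    rw [RootSys.root_neg, map_neg]
  refine ⟨fun i (hi : 0 < φ (P.root i)) (hi' : 0 < φ _) => ?_, fun i => ?_, fun k n hn hk => ?_⟩
  · rw [hneg] at hi'
    exact lt_irrefl _ (hi.trans (neg_pos.mp hi'))
  · rcases hφ i with h | h
    · exact Or.inl h
    · exact Or.inr (show 0 < φ _ by rw [hneg]; exact neg_pos.mpr h)
  · refine (hφ k).resolve_right fun hlt => ?_
    have h0 : ∀ y ∈ RootD.natSpan P {i : ι | 0 < φ (P.root i)}, 0 ≤ φ y := by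
      intro y hy
      induction hy using AddSubmonoid.closure_induction with
      | mem y hy => obtain ⟨i, hi, rfl⟩ := hy; exact le_of_lt hi
      | zero => simp
      | add x y _ _ hx hy => rw [map_add]; exact add_nonneg hx hy
    have h1 := h0 _ hk
    have h2 : 0 < n • -φ (P.root k) := nsmul_pos (neg_pos.mpr hlt) hn.ne'
    rw [← map_neg, ← map_nsmul, smul_neg, map_neg, neg_pos] at h2
    exact lt_irrefl _ (h1.trans_lt h2)

end Groth.Agent.S5457
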