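import Groth.Statements.S5462
import Groth.Agent.RootSys.Criterion

set_option autoImplicit false
open RootPairing
open scoped Pointwise
open RootD

namespace Groth.Agent.S5462

/-- For Δ' contained in a system of simple roots Δ, the subgroup of the Weyl group generated by the
reflections in Δ' preserves the set of positive roots not lying in the span of Δ'. -/
theorem result {ι M N : Type*} [AddCommGroup M] [AddCommGroup N]
    (P : RootPairing ι ℤ M N) [Finite ι] (Δ Δ' : Set ι) (hΔ : RootD.IsSimpleSys P Δ) (hsub : Δ' ⊆ Δ)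
    (g : P.Aut) (hg : g ∈ Subgroup.closure ((fun i : ι => Equiv.reflection P i) '' Δ'))
    (k : ι) (hk : k ∈ RootD.posOf P Δ) (hk' : k ∉ RootD.inSpan P Δ') :
    g • k ∈ RootD.posOf P Δ ∧ g • k ∉ RootD.inSpan P Δ' := by
  have key : ∀ g ∈ Subgroup.closure ((fun i : ι => RootPairing.Equiv.reflection P i) '' Δ'),
      ∀ k, ∀ l ∉ Δ', RootSys.coef hΔ (g • k) l = RootSys.coef hΔ k l := by
    intro g hg
    induction hg using Subgroup.closure_induction with
    | mem x hx =>
      obtain ⟨i, hi, rfl⟩ := hx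
      intro k l hl
      rw [RootSys.smul_index_reflection, RootSys.coef_refl, RootSys.coef_simple hΔ (hsub hi)]
      simp [Finsupp.single_eq_of_ne (fun h => hl (h ▸ hi) : l ≠ i)]
    | one => simp
    | mul x y _ _ hx hy => intro k l hl; rw [mul_smul, hx _ l hl, hy k l hl]
    | inv x _ hx => intro k l hl; rw [← hx (x⁻¹ • k) l hl, smul_inv_smul]
  rw [RootSys.mem_inSpan_iff hΔ hsub] at hk' ⊢
  push Not at hk' ⊢
  obtain ⟨l, hl, hl'⟩ := hk'
  refine ⟨RootSys.pos_of_coef_pos hΔ (l := l) ?_, l, hl, by rwa [key g hg k l hl]⟩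
  rw [key g hg k l hl]
  have := (RootSys.mem_posOf_iff hΔ).mp hk l
  omega

end Groth.Agent.S5462
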