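import Groth.Statements.S5463
import Groth.Agent.RootSys.Criterion

set_option autoImplicit false
open RootPairing
open scoped Pointwise
open RootD

namespace Groth.Agent.S5463

/-- An element w of the Weyl group belongs to the subgroup generated by the reflections in Δ' ⊆ Δ (Δ a
system of simple roots) if and only if w(α) - α lies in the rational span of Δ' for every root α. -/
theorem result {ι M N : Type*} [AddCommGroup M] [AddCommGroup N]
    (P : RootPairing ι ℤ M N) [Finite ι] (Δ Δ' : Set ι) (hΔ : RootD.IsSimpleSys P Δ)
    (hsub : Δ' ⊆ Δ) (g : P.Aut) (hg : g ∈ P.weylGroup) :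
    g ∈ Subgroup.closure ((fun i : ι => Equiv.reflection P i) '' Δ') ↔
      ∀ k : ι, ∃ n : ℕ, 0 < n ∧ n • (P.root (g • k) - P.root k) ∈ Submodule.span ℤ (P.root '' Δ') := by
  have crit : ∀ g : P.Aut, (∀ k, ∃ n : ℕ, 0 < n ∧
      n • (P.root (g • k) - P.root k) ∈ Submodule.span ℤ (P.root '' Δ')) ↔
      ∀ k, ∀ l ∉ Δ', RootSys.coef hΔ (g • k) l = RootSys.coef hΔ k l := by
    intro g
    constructor
    · intro h k l hl
      obtain ⟨n, hn, hmem⟩ := h k
      obtain ⟨c, hc, hck⟩ := (Finsupp.mem_span_image_iff_linearCombination ℤ).mp hmem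
      rw [Finsupp.mem_supported] at hc
      have h1 : (n : ℤ) • (RootSys.coef hΔ (g • k) - RootSys.coef hΔ k) = c := by
        refine RootSys.rep_unique hΔ (fun x hx => ?_) (hc.trans hsub) ?_
        · classical
          rcases Finset.mem_union.mp (Finsupp.support_sub (Finsupp.support_smul hx)) with h | h
          exacts [RootSys.coef_support hΔ _ h, RootSys.coef_support hΔ _ h]
        · rw [map_smul, map_sub, RootSys.coef_lc, RootSys.coef_lc, hck, natCast_zsmul]
      have h2 := congrArg (fun f : ι →₀ ℤ => f l) h1
      simp [Finsupp.notMem_support_iff.mp fun h' => hl (hc h'), show n ≠ 0 by omega,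
        sub_eq_zero] at h2
      exact h2
    · intro h k
      refine ⟨1, one_pos, ?_⟩
      rw [one_smul]
      refine (Finsupp.mem_span_image_iff_linearCombination ℤ).mpr
        ⟨RootSys.coef hΔ (g • k) - RootSys.coef hΔ k, ?_, by
          rw [map_sub, RootSys.coef_lc, RootSys.coef_lc]⟩
      rw [Finsupp.mem_supported]
      intro x hx
      by_contra hx'
      exact Finsupp.mem_support_iff.mp hx (by simp [h k x hx'])
  rw [crit]
  constructor
  · intro h
    induction h using Subgroup.closure_induction with
    | mem x hx =>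
      obtain ⟨i, hi, rfl⟩ := hx
      intro k l hl
      rw [RootSys.smul_index_reflection, RootSys.coef_refl, RootSys.coef_simple hΔ (hsub hi)]
      simp [Finsupp.single_eq_of_ne (fun h => hl (h ▸ hi) : l ≠ i)]
    | one => simp
    | mul x y hx hy ihx ihy =>
      have hx' : x ∈ P.weylGroup := Subgroup.closure_mono (Set.image_subset_range _ _) hx
      intro k l hl
      rw [mul_smul, ihx hx' _ l hl, ihy (Subgroup.closure_mono (Set.image_subset_range _ _) hy) k l hl]
    | inv x hx ihx =>
      intro k l hl
      rw [← ihx (Subgroup.closure_mono (Set.image_subset_range _ _) hx) (x⁻¹ • k) l hl, smul_inv_smul]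
  · intro h
    obtain ⟨w, hw, rfl⟩ := RootSys.exists_word hΔ hg
    clear hg
    obtain ⟨N, hN⟩ : ∃ N, w.length ≤ N := ⟨_, le_rfl⟩
    induction N generalizing w with
    | zero =>
      obtain rfl : w = [] := List.length_eq_zero_iff.mp (by omega)
      exact one_mem _
    | succ N ih =>
      by_cases hone : ∀ d ∈ Δ, RootSys.wordProd P w • d ∈ RootD.posOf P Δ
      · rw [RootSys.eq_one_of_pos hΔ (RootSys.closure_simple_eq_weylGroup hΔ ▸
          RootSys.mem_closure_iff_word.mpr ⟨w, hw, rfl⟩) hone]
        exact one_mem _
      push Not at hone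
      obtain ⟨d, hd, hneg⟩ := hone
      have hd' : d ∈ Δ' := by
        by_contra hd'
        refine hneg (RootSys.pos_of_coef_pos hΔ (l := d) ?_)
        rw [h d d hd', RootSys.coef_simple hΔ hd, Finsupp.single_eq_same]
        exact one_pos
      obtain ⟨w', hw', hlen, hprod⟩ := RootSys.exists_shorter hΔ w hw hd hneg
      have hmem := ih w' hw' (fun k l hl => ?_) (by omega)
      · rw [hprod] at hmem
        exact (Subgroup.mul_mem_cancel_right _
          (show RootPairing.Equiv.reflection P d ∈
              Subgroup.closure ((fun i : ι => RootPairing.Equiv.reflection P i) '' Δ') from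
            Subgroup.subset_closure ⟨d, hd', rfl⟩)).mp hmem
      · rw [hprod, mul_smul, h _ l hl, RootSys.smul_index_reflection, RootSys.coef_refl,
          RootSys.coef_simple hΔ hd]
        simp [Finsupp.single_eq_of_ne (fun h => hl (h ▸ hd') : l ≠ d)]

end Groth.Agent.S5463
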