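import Groth.Statements.S5464
import Groth.Agent.RootSys.Sub

set_option autoImplicit false
open RootD

namespace Groth.Agent.S5464

/-- Given an indivisible root α and a root γ not proportional to it, there is a system of simple roots
containing α and a simple root β of it with γ = aα + bβ, a, b ∈ ℕ. -/
theorem result {ι M N : Type*} [AddCommGroup M] [AddCommGroup N]
    (P : RootPairing ι ℤ M N) [Finite ι] (i k : ι) (hα : RootD.IsIndiv P i)
    (hli : LinearIndependent ℤ ![P.root i, P.root k]) :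
    ∃ Δ : Set ι, RootD.IsSimpleSys P Δ ∧ i ∈ Δ ∧
      ∃ j ∈ Δ, ∃ a b : ℕ, P.root k = a • P.root i + b • P.root j := by
  classical
  have := Fintype.ofFinite ι
  have tf := RootSys.isAddTorsionFree_weight P
  have hi' := RootSys.rootForm_root_pos (P := P) i
  set R₁ : Set ι := {x | ∃ n : ℕ, 0 < n ∧ n • P.root x ∈ Submodule.span ℤ (P.root '' {i})}
  set R₂ : Set ι := {x | ∃ n : ℕ, 0 < n ∧ n • P.root x ∈ Submodule.span ℤ (P.root '' {i, k})}
  have hsat : ∀ (A : Set ι) (x : ι), (∃ n : ℕ, 0 < n ∧ n • P.root x ∈ Submodule.span ℤ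
      (P.root '' {y | ∃ m : ℕ, 0 < m ∧ m • P.root y ∈ Submodule.span ℤ (P.root '' A)})) →
      ∃ n : ℕ, 0 < n ∧ n • P.root x ∈ Submodule.span ℤ (P.root '' A) := by
    rintro A x ⟨n, hn, hx⟩
    have : ∀ z ∈ Submodule.span ℤ
        (P.root '' {y | ∃ m : ℕ, 0 < m ∧ m • P.root y ∈ Submodule.span ℤ (P.root '' A)}),
        ∃ m : ℕ, 0 < m ∧ m • z ∈ Submodule.span ℤ (P.root '' A) := by
      intro z hz
      induction hz using Submodule.span_induction with
      | mem w hw => obtain ⟨y, hy, rfl⟩ := hw; exact hy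
      | zero => exact ⟨1, one_pos, by simp⟩
      | add a b _ _ ha hb =>
        obtain ⟨m, hm, ha⟩ := ha
        obtain ⟨m', hm', hb⟩ := hb
        refine ⟨m * m', Nat.mul_pos hm hm', ?_⟩
        rw [smul_add]
        refine add_mem ?_ ?_
        · rw [mul_comm, mul_smul]; exact Submodule.smul_of_tower_mem _ m' ha
        · rw [mul_smul]; exact Submodule.smul_of_tower_mem _ m hb
      | smul t a _ ha =>
        obtain ⟨m, hm, ha⟩ := ha
        exact ⟨m, hm, by rw [smul_comm]; exact Submodule.smul_mem _ t ha⟩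
    obtain ⟨m, hm, h⟩ := this _ hx
    exact ⟨m * n, Nat.mul_pos hm hn, by rw [mul_smul]; exact h⟩
  obtain ⟨f₁, hf₁⟩ := RootSys.exists_dual_vanishing (P := P) R₁ (fun x h => hsat {i} x h)
  obtain ⟨f₂, hf₂⟩ := RootSys.exists_dual_vanishing (P := P) R₂ (fun x h => hsat {i, k} x h)
  set g : Module.Dual ℤ M := P.RootForm (P.root i)
  have hR₁ : ∀ x, x ∈ R₁ → ∃ c : ℤ, c ≠ 0 ∧ P.root x = c • P.root i := by
    rintro x ⟨n, hn, hx⟩
    rw [Set.image_singleton, Submodule.mem_span_singleton] at hx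
    obtain ⟨a, ha⟩ := hx
    obtain ⟨c, hc, hcx, -⟩ := RootSys.indiv_proportional hα (j := x) (a := a) (b := (n : ℤ)) (by omega)
      (by rw [natCast_zsmul]; exact ha.symm)
    exact ⟨c, by omega, hcx⟩
  have hiR₁ : i ∈ R₁ := ⟨1, one_pos, by rw [one_smul]; exact Submodule.subset_span ⟨i, rfl, rfl⟩⟩
  have hsub : ∀ x, x ∈ R₁ → x ∈ R₂ := fun x ⟨n, hn, hx⟩ => ⟨n, hn,
    Submodule.span_mono (Set.image_mono (by simp)) hx⟩
  have hkR₁ : k ∉ R₁ := fun h => by
    obtain ⟨c, _, hc⟩ := hR₁ k h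
    have := LinearIndependent.pair_iff.mp hli c (-1) (by rw [hc]; module)
    omega
  have hf₁k : f₁ (P.root k) ≠ 0 := fun h => hkR₁ ((hf₁ k).mp h)
  set σ : ℤ := Int.sign (f₁ (P.root k))
  have hσk : 0 < σ * f₁ (P.root k) := by
    rw [Int.sign_mul_self_eq_natAbs]; omega
  have hσ : σ ≠ 0 := fun h => by rw [h, zero_mul] at hσk; omega
  set S : Set ι := {x | 0 < f₂ (P.root x) ∨ (f₂ (P.root x) = 0 ∧ (0 < σ * f₁ (P.root x) ∨
    (σ * f₁ (P.root x) = 0 ∧ 0 < g (P.root x))))}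
  have hn2 : ∀ x, f₂ (P.root (P.reflectionPerm x x)) = -f₂ (P.root x) := fun x => by
    rw [RootSys.root_neg, map_neg]
  have hn1 : ∀ x, σ * f₁ (P.root (P.reflectionPerm x x)) = -(σ * f₁ (P.root x)) := fun x => by
    rw [RootSys.root_neg, map_neg, mul_neg]
  have hng : ∀ x, g (P.root (P.reflectionPerm x x)) = -g (P.root x) := fun x => by
    rw [RootSys.root_neg, map_neg]
  have hP1 : ∀ x ∈ S, P.reflectionPerm x x ∉ S := fun x hx hx' => by
    simp only [S, Set.mem_ofPred_eq, hn2, hn1, hng] at hx hx'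
    omega
  have hg0 : ∀ x, σ * f₁ (P.root x) = 0 → g (P.root x) ≠ 0 := fun x hx => by
    obtain ⟨c, hc, hcx⟩ := hR₁ x ((hf₁ x).mp ((mul_eq_zero.mp hx).resolve_left hσ))
    rw [hcx, map_zsmul, smul_eq_mul]
    exact mul_ne_zero hc hi'.ne'
  have hP2 : ∀ x : ι, x ∈ S ∨ P.reflectionPerm x x ∈ S := fun x => by
    simp only [S, Set.mem_ofPred_eq, hn2, hn1, hng]
    have := hg0 x
    omega
  have hcl : RootD.IsClosedSub P S := by
    intro a b c ha hb hc
    have e2 : f₂ (P.root c) = f₂ (P.root a) + f₂ (P.root b) := by rw [hc, map_add]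
    have e1 : σ * f₁ (P.root c) = σ * f₁ (P.root a) + σ * f₁ (P.root b) := by
      rw [hc, map_add, mul_add]
    have eg : g (P.root c) = g (P.root a) + g (P.root b) := by rw [hc, map_add]
    simp only [S, Set.mem_ofPred_eq] at ha hb ⊢
    omega
  obtain ⟨Δ, hΔ, hpos⟩ := RootSys.exists_simpleSys_of_isPosSys
    (RootSys.isPosSys_iff.mpr ⟨hP1, hP2, hcl⟩)
  have hiS : i ∈ S := Or.inr ⟨(hf₂ i).mpr (hsub i hiR₁),
    Or.inr ⟨by rw [(hf₁ i).mpr hiR₁, mul_zero], hi'⟩⟩
  have hkS : k ∈ S := Or.inr ⟨(hf₂ k).mpr ⟨1, one_pos, by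
    rw [one_smul]; exact Submodule.subset_span ⟨k, Or.inr rfl, rfl⟩⟩, Or.inl hσk⟩
  have hiΔ : i ∈ Δ := by
    rw [RootSys.mem_simple_iff_not_sum hΔ (hpos ▸ hiS), hpos]
    rintro ⟨a, b, ha, hb, he⟩
    have e2 : f₂ (P.root i) = f₂ (P.root a) + f₂ (P.root b) := by rw [he, map_add]
    have e1 : σ * f₁ (P.root i) = σ * f₁ (P.root a) + σ * f₁ (P.root b) := by
      rw [he, map_add, mul_add]
    rw [(hf₂ i).mpr (hsub i hiR₁)] at e2
    rw [(hf₁ i).mpr hiR₁, mul_zero] at e1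
    simp only [S, Set.mem_ofPred_eq] at ha hb
    have ha1 : σ * f₁ (P.root a) = 0 := by omega
    have hb1 : σ * f₁ (P.root b) = 0 := by omega
    have key : ∀ x, σ * f₁ (P.root x) = 0 → 0 < g (P.root x) →
        ∃ c : ℤ, 1 ≤ c ∧ P.root x = c • P.root i := by
      intro x hx hgx
      obtain ⟨c, hc, hcx⟩ := hR₁ x ((hf₁ x).mp ((mul_eq_zero.mp hx).resolve_left hσ))
      rw [hcx, map_zsmul, smul_eq_mul] at hgx
      exact ⟨c, pos_of_mul_pos_left hgx hi'.le, hcx⟩
    obtain ⟨c, hc, hca⟩ := key a ha1 (by omega)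
    obtain ⟨d, hd, hdb⟩ := key b hb1 (by omega)
    rw [hca, hdb, ← add_smul] at he
    have : (1 - (c + d)) • P.root i = 0 := by rw [sub_smul, one_smul, ← he, sub_self]
    have := (smul_eq_zero.mp this).resolve_right (P.ne_zero i)
    omega
  have hkp : k ∈ RootD.posOf P Δ := hpos ▸ hkS
  have hnn : ∀ x ∈ RootD.posOf P Δ, 0 ≤ f₂ (P.root x) := fun x hx => by
    rcases (hpos ▸ hx : x ∈ S) with h | ⟨h, -⟩ <;> omega
  have hsupp : ∀ l, RootSys.coef hΔ k l ≠ 0 → l ∈ Δ ∧ l ∈ R₂ := by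
    intro l hl
    have h1 := congrArg f₂ (RootSys.coef_lc hΔ k)
    rw [Finsupp.linearCombination_apply, map_finsuppSum] at h1
    simp only [map_zsmul, smul_eq_mul] at h1
    rw [(hf₂ k).mpr ⟨1, one_pos, by rw [one_smul]; exact Submodule.subset_span ⟨k, Or.inr rfl, rfl⟩⟩,
      Finsupp.sum, Finset.sum_eq_zero_iff_of_nonneg (fun x hx => mul_nonneg
        ((RootSys.mem_posOf_iff hΔ).mp hkp x)
        (hnn x (RootSys.simple_pos hΔ (RootSys.coef_support hΔ k hx))))] at h1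
    exact ⟨RootSys.mem_of_coef_ne_zero hΔ hl, (hf₂ l).mp
      ((mul_eq_zero.mp (h1 l (Finsupp.mem_support_iff.mpr hl))).resolve_left hl)⟩
  obtain ⟨j, hji, hj0⟩ : ∃ j, j ≠ i ∧ RootSys.coef hΔ k j ≠ 0 := by
    by_contra! H
    rcases RootSys.eq_or_two_of_coef hΔ hiΔ hkp H with h | h
    · exact hkR₁ (h ▸ hiR₁)
    · have := LinearIndependent.pair_iff.mp hli 2 (-1) (by rw [h]; module)
      omega
  obtain ⟨hjΔ, n, hn, hjn⟩ := hsupp j hj0
  rw [Set.image_pair, Submodule.mem_span_pair] at hjn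
  obtain ⟨a, b, hab⟩ := hjn
  have hb0 : b ≠ 0 := by
    rintro rfl
    have h1 : (n : ℤ) • RootSys.coef hΔ j = a • RootSys.coef hΔ i := by
      refine RootSys.rep_unique hΔ
        ((Finset.coe_subset.mpr Finsupp.support_smul).trans (RootSys.coef_support hΔ j))
        ((Finset.coe_subset.mpr Finsupp.support_smul).trans (RootSys.coef_support hΔ i)) ?_
      rw [map_zsmul, map_zsmul, RootSys.coef_lc, RootSys.coef_lc, natCast_zsmul, ← hab, zero_smul, add_zero]
    have h2 := congrArg (fun F : ι →₀ ℤ => F j) h1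
    simp [RootSys.coef_simple hΔ hjΔ, RootSys.coef_simple hΔ hiΔ, Finsupp.single_eq_of_ne hji] at h2
    omega
  refine ⟨Δ, hΔ, hiΔ, j, hjΔ, (RootSys.coef hΔ k i).toNat, (RootSys.coef hΔ k j).toNat, ?_⟩
  have hnonneg := (RootSys.mem_posOf_iff hΔ).mp hkp
  have honly : ∀ l, l ≠ i → l ≠ j → RootSys.coef hΔ k l = 0 := by
    intro l hli' hlj
    by_contra hl
    obtain ⟨hlΔ, m, hm, hlm⟩ := hsupp l hl
    rw [Set.image_pair, Submodule.mem_span_pair] at hlm
    obtain ⟨a', b', hab'⟩ := hlm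
    have h1 : (b * (m : ℤ)) • RootSys.coef hΔ l =
        (b' * (n : ℤ)) • RootSys.coef hΔ j + (b * a' - b' * a) • RootSys.coef hΔ i := by
      refine RootSys.rep_unique hΔ
        ((Finset.coe_subset.mpr Finsupp.support_smul).trans (RootSys.coef_support hΔ l)) ?_ ?_
      · intro x hx
        rcases Finset.mem_union.mp (Finsupp.support_add hx) with h | h
        exacts [RootSys.coef_support hΔ _ (Finsupp.support_smul h),
          RootSys.coef_support hΔ _ (Finsupp.support_smul h)]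
      · rw [map_add, map_zsmul, map_zsmul, map_zsmul, RootSys.coef_lc, RootSys.coef_lc,
          RootSys.coef_lc, mul_smul, natCast_zsmul, mul_smul, natCast_zsmul, ← hab, ← hab']
        module
    have h2 := congrArg (fun F : ι →₀ ℤ => F l) h1
    simp [RootSys.coef_simple hΔ hlΔ, RootSys.coef_simple hΔ hjΔ, RootSys.coef_simple hΔ hiΔ,
      Finsupp.single_eq_of_ne hlj, Finsupp.single_eq_of_ne hli', hb0] at h2
    omega
  conv_lhs => rw [← RootSys.coef_lc hΔ k]
  rw [Finsupp.linearCombination_apply, Finsupp.sum_of_support_subset _ (s := {i, j}) ?_ (fun a b => b • P.root a)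
    (fun _ _ => zero_smul _ _), Finset.sum_pair hji.symm, ← natCast_zsmul, ← natCast_zsmul,
    Int.toNat_of_nonneg (hnonneg i), Int.toNat_of_nonneg (hnonneg j)]
  intro l hl
  rw [Finset.mem_insert, Finset.mem_singleton]
  by_contra! H
  exact Finsupp.mem_support_iff.mp hl (honly l H.1 H.2)

end Groth.Agent.S5464
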