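import Groth.Statements.S5465
import Groth.Agent.RootSys.Exists

set_option autoImplicit false
open RootD

namespace Groth.Agent.S5465

/-- A map from the roots to an abelian group that is odd and additive on pairs of roots whose sum is a
root extends uniquely to a homomorphism on the lattice generated by the roots. -/
theorem result {ι M N : Type*} [AddCommGroup M] [AddCommGroup N]
    (P : RootPairing ι ℤ M N) [Finite ι] {G : Type*} [AddCommGroup G] (f : ι → G)
    (hneg : ∀ i : ι, f (P.reflectionPerm i i) = -f i)
    (hadd : ∀ i j k : ι, P.root k = P.root i + P.root j → f k = f i + f j) :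
    ∃! φ : Submodule.span ℤ (Set.range P.root) →+ G,
      ∀ i : ι, φ ⟨P.root i, Submodule.subset_span (Set.mem_range_self i)⟩ = f i := by
  classical
  obtain ⟨Δ, hΔ⟩ := RootSys.exists_simpleSys P
  have hspan : Submodule.span ℤ (Set.range P.root) ≤
      Submodule.span ℤ (Set.range fun d : Δ => P.root d) := by
    refine Submodule.span_le.mpr ?_
    rintro _ ⟨i, rfl⟩
    rw [← RootSys.coef_lc hΔ i, Finsupp.linearCombination_apply]
    exact Submodule.sum_mem _ fun l hl =>
      Submodule.smul_mem _ _ (Submodule.subset_span ⟨⟨l, RootSys.coef_support hΔ i hl⟩, rfl⟩)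
  have hv : LinearIndependent ℤ (fun d : Δ => P.root d) := RootSys.linInd_int hΔ
  let φl : Submodule.span ℤ (Set.range P.root) →ₗ[ℤ] G :=
    (Finsupp.linearCombination ℤ fun d : Δ => f d).comp
      (hv.repr.comp (Submodule.inclusion hspan))
  have hval : ∀ d : Δ, φl ⟨P.root d, Submodule.subset_span (Set.mem_range_self (d : ι))⟩ = f d := by
    intro d
    simp only [φl, LinearMap.comp_apply]
    rw [hv.repr_eq_single d _ rfl, Finsupp.linearCombination_single, one_smul]
  have hpos : ∀ k ∈ RootD.posOf P Δ,
      φl ⟨P.root k, Submodule.subset_span (Set.mem_range_self k)⟩ = f k := by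
    intro k hk
    refine RootSys.pos_induction hΔ (p := fun k =>
      φl ⟨P.root k, Submodule.subset_span (Set.mem_range_self k)⟩ = f k) ?_ ?_ hk
    · exact fun i hi => hval ⟨i, hi⟩
    · intro i j k hi _ he ih
      rw [hadd j i k he, ← ih, ← hval ⟨i, hi⟩, ← map_add]
      exact congrArg φl (Subtype.ext he)
  refine ⟨φl.toAddMonoidHom, fun k => ?_, fun ψ hψ => ?_⟩
  · rcases RootSys.pos_or_neg hΔ k with h | h
    · exact hpos k h
    · have h1 := hpos _ h
      rw [hneg, ← neg_inj, neg_neg, ← map_neg] at h1
      rw [← h1]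
      exact congrArg φl (Subtype.ext (by simp))
  · refine AddMonoidHom.ext fun x => ?_
    obtain ⟨x, hx⟩ := x
    induction hx using Submodule.span_induction with
    | mem y hy =>
      obtain ⟨k, rfl⟩ := hy
      rw [hψ k]
      rcases RootSys.pos_or_neg hΔ k with h | h
      · exact (hpos k h).symm
      · have h1 := hpos _ h
        rw [hneg, ← neg_inj, neg_neg, ← map_neg] at h1
        rw [← h1]
        exact congrArg φl (Subtype.ext (by simp))
    | zero => exact ψ.map_zero.trans φl.toAddMonoidHom.map_zero.symm
    | add a b ha hb iha ihb =>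
      have : (⟨a + b, add_mem ha hb⟩ : Submodule.span ℤ (Set.range P.root)) = ⟨a, ha⟩ + ⟨b, hb⟩ := rfl
      rw [this, map_add, map_add, iha, ihb]
    | smul c a ha iha =>
      have : (⟨c • a, Submodule.smul_mem _ c ha⟩ : Submodule.span ℤ (Set.range P.root)) = c • ⟨a, ha⟩ := rfl
      rw [this, map_zsmul, map_zsmul, iha]

end Groth.Agent.S5465
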