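import Groth.Statements.S5468
import Groth.Agent.RootSys.Basic

set_option autoImplicit false
open RootD

namespace Groth.Agent.S5468

/-- Two roots whose reflections are distinct and commute are orthogonal. -/
theorem result {ι M N : Type*} [AddCommGroup M] [AddCommGroup N]
    (P : RootPairing ι ℤ M N) [Finite ι] (i j : ι)
    (hne : P.reflection i ≠ P.reflection j) (hc : Commute (P.reflection i) (P.reflection j)) :
    P.IsOrthogonal i j := by
  have hR : RootPairing.Equiv.reflection P i * RootPairing.Equiv.reflection P j =
      RootPairing.Equiv.reflection P j * RootPairing.Equiv.reflection P i :=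
    RootSys.aut_ext fun m => by
      simp only [mul_smul, RootPairing.Equiv.reflection_smul]
      exact LinearEquiv.congr_fun hc.eq m
  have hk : RootPairing.Equiv.reflection P (P.reflectionPerm i j) =
      RootPairing.Equiv.reflection P j := by
    have h := RootSys.conj_reflection (RootPairing.Equiv.reflection P i) j
    rw [RootSys.smul_index_reflection] at h
    rw [← h, hR, mul_assoc, RootPairing.Equiv.reflection_inv, RootSys.reflection_mul_self, mul_one]
  set k := P.reflectionPerm i j
  have h1 : RootPairing.Equiv.reflection P k • P.root j = -P.root j := by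
    rw [hk, RootPairing.Equiv.reflection_smul, P.reflection_apply_self]
  rw [RootPairing.Equiv.reflection_smul, RootPairing.reflection_apply_root,
    RootSys.pairing_eq_cast, Int.cast_id] at h1
  have h2 : P.root k = P.root j - P.pairingIn ℤ j i • P.root i := RootSys.root_refl i j
  set p := P.pairingIn ℤ j k
  set q := P.pairingIn ℤ j i
  have h3 : (2 - p) • P.root j = (-(p * q)) • P.root i := by
    rw [h2] at h1
    linear_combination (norm := module) h1
  by_cases hq : q = 0
  · have hp : P.pairing j i = 0 := by rw [RootSys.pairing_eq_cast, show P.pairingIn ℤ j i = 0 from hq]; simp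
    exact ⟨P.pairing_eq_zero_iff'.mp hp, hp⟩
  have hp0 : p ≠ 0 := by
    intro h
    rw [h, zero_smul, sub_zero] at h1
    have := RootSys.isAddTorsionFree_weight P
    have h4 : (2 : ℤ) • P.root j = 0 := by linear_combination (norm := module) h1
    exact P.ne_zero j ((smul_eq_zero.mp h4).resolve_left (by norm_num))
  have hp2 : (2 - p) ≠ 0 := by
    intro h
    rw [h, zero_smul] at h3
    have := RootSys.isAddTorsionFree_weight P
    rcases smul_eq_zero.mp h3.symm with h' | h'
    · exact (mul_ne_zero hp0 hq) (neg_eq_zero.mp h')
    · exact P.ne_zero i h'
  obtain ⟨_, hcases⟩ := RootSys.proportional_cases hp2 h3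
  refine absurd ?_ hne
  have key : RootPairing.Equiv.reflection P i = RootPairing.Equiv.reflection P j := by
    rcases hcases with h | h | h | h | h | h
    · rw [P.root.injective h]
    · rw [RootSys.eq_neg_of_root_eq_neg h, RootSys.reflection_neg_index]
    · exact (RootSys.reflection_eq_of_two_smul h).symm
    · rw [← RootSys.reflection_neg_index j]
      exact (RootSys.reflection_eq_of_two_smul (by rw [RootSys.root_neg, h]; module)).symm
    · exact RootSys.reflection_eq_of_two_smul h
    · rw [← RootSys.reflection_neg_index i]
      exact RootSys.reflection_eq_of_two_smul (by rw [RootSys.root_neg, h]; module)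
  refine LinearEquiv.ext fun m => ?_
  have := congrArg (fun g : P.Aut => g • m) key
  simpa using this

end Groth.Agent.S5468
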