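import Groth.Statements.S5469
import Groth.Agent.RootSys.Exists

set_option autoImplicit false
open RootPairing
open scoped Pointwise
open RootD

namespace Groth.Agent.S5469

/-- Two non-orthogonal roots of equal length (for the canonical form ℓ(x) = Σ_{u ∈ R^v} (u, x)²) are
conjugate under the Weyl group. -/
theorem result {ι M N : Type*} [AddCommGroup M] [AddCommGroup N]
    (P : RootPairing ι ℤ M N) [Finite ι] [Fintype ι] (i j : ι) (hno : ¬ P.IsOrthogonal i j)
    (hl : P.RootForm (P.root i) (P.root i) = P.RootForm (P.root j) (P.root j)) :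
    ∃ g : P.Aut, g ∈ P.weylGroup ∧ g • i = j := by
  have hswap := P.toInvariantForm.pairing_mul_eq_pairing_mul_swap i j
  simp only [RootPairing.toInvariantForm_form] at hswap
  rw [← hl] at hswap
  have hne : P.RootForm (P.root i) (P.root i) ≠ 0 := RootPairing.IsAnisotropic.rootForm_root_ne_zero i
  have hsym : P.pairing j i = P.pairing i j := mul_right_cancel₀ hne hswap
  have hpij : P.pairingIn ℤ j i = P.pairingIn ℤ i j := by
    rw [RootSys.pairingIn_int, RootSys.pairingIn_int, hsym]
  have hmem := P.pairingIn_pairingIn_mem_set_of_isCrystallographic i j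
  rw [hpij] at hmem
  have hne0 : P.pairingIn ℤ i j ≠ 0 := by
    intro h
    rw [RootSys.pairingIn_int] at h
    exact hno ⟨h, hsym.trans h⟩
  simp only [Set.mem_insert_iff, Set.mem_singleton_iff, Prod.mk.injEq] at hmem
  have hval : P.pairingIn ℤ i j = 1 ∨ P.pairingIn ℤ i j = -1 ∨
      P.pairingIn ℤ i j = 2 ∨ P.pairingIn ℤ i j = -2 := by omega
  have hW : ∀ a : ι, RootPairing.Equiv.reflection P a ∈ P.weylGroup := P.reflection_mem_weylGroup
  have := RootSys.isTorsionFree_weight P
  have := RootSys.isTorsionFree_coweight P
  rcases hval with h | h | h | h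
  · refine ⟨RootPairing.Equiv.reflection P j * (RootPairing.Equiv.reflection P i *
      RootPairing.Equiv.reflection P j), mul_mem (hW j) (mul_mem (hW i) (hW j)), ?_⟩
    apply P.root.injective
    simp only [mul_smul, RootSys.smul_index_reflection, RootPairing.root_reflectionPerm,
      RootPairing.reflection_apply_root' ℤ, map_sub, map_zsmul, RootPairing.reflection_apply_self,
      RootPairing.pairingIn_same, hpij, h]
    module
  · refine ⟨RootPairing.Equiv.reflection P i * RootPairing.Equiv.reflection P j,
      mul_mem (hW i) (hW j), ?_⟩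
    apply P.root.injective
    simp only [mul_smul, RootSys.smul_index_reflection, RootPairing.root_reflectionPerm,
      RootPairing.reflection_apply_root' ℤ, map_sub, map_zsmul, RootPairing.reflection_apply_self,
      RootPairing.pairingIn_same, hpij, h]
    module
  · refine ⟨1, one_mem _, ?_⟩
    rw [one_smul]
    exact (P.pairingIn_two_two_iff ℤ i j).mp ⟨h, hpij.trans h⟩
  · refine ⟨RootPairing.Equiv.reflection P i, hW i, ?_⟩
    rw [RootSys.smul_index_reflection]
    apply P.root.injective
    rw [RootSys.root_neg, (P.pairingIn_neg_two_neg_two_iff ℤ i j).mp ⟨h, hpij.trans h⟩, neg_neg]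

end Groth.Agent.S5469
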