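import Groth.Statements.S5471
import Groth.Agent.RootSys.Irred

set_option autoImplicit false
open RootPairing
open scoped Pointwise
open RootD

namespace Groth.Agent.S5471

/-- In a reduced irreducible root datum the ratios of squared root lengths to the minimal one form one
of the sets {1}, {1, 2}, {1, 3}. -/
theorem result {ι M N : Type*} [AddCommGroup M] [AddCommGroup N]
    (P : RootPairing ι ℤ M N) [Finite ι] [Fintype ι] [Nonempty ι] [P.IsReduced]
    (hirr : ∀ R' : Set ι, RootD.IsClosedSub P R' → RootD.IsSymmSub P R' → RootD.IsClosedSub P R'ᶜ →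
      RootD.IsSymmSub P R'ᶜ → R' = ∅ ∨ R' = Set.univ)
    (i₀ : ι) (hmin : ∀ i : ι, P.RootForm (P.root i₀) (P.root i₀) ≤ P.RootForm (P.root i) (P.root i)) :
    (∀ i : ι, P.RootForm (P.root i) (P.root i) = P.RootForm (P.root i₀) (P.root i₀) ∨
        P.RootForm (P.root i) (P.root i) = 2 * P.RootForm (P.root i₀) (P.root i₀) ∨
        P.RootForm (P.root i) (P.root i) = 3 * P.RootForm (P.root i₀) (P.root i₀)) ∧
      ¬ ((∃ i : ι, P.RootForm (P.root i) (P.root i) = 2 * P.RootForm (P.root i₀) (P.root i₀)) ∧
          ∃ j : ι, P.RootForm (P.root j) (P.root j) = 3 * P.RootForm (P.root i₀) (P.root i₀)) := by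
  have key := fun a b => RootSys.lengths_related hirr a b
  have pos := RootSys.rootForm_root_pos (P := P)
  have hred : P.IsReduced := inferInstance
  have main : ∀ i : ι, P.RootForm (P.root i) (P.root i) = P.RootForm (P.root i₀) (P.root i₀) ∨
      P.RootForm (P.root i) (P.root i) = 2 * P.RootForm (P.root i₀) (P.root i₀) ∨
      P.RootForm (P.root i) (P.root i) = 3 * P.RootForm (P.root i₀) (P.root i₀) := by
    intro i
    obtain ⟨t, ht, h⟩ := key i₀ i
    have h1 := hmin i
    have h2 := pos i
    have h3 := pos i₀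
    rcases ht with rfl | rfl | rfl | ⟨-, hn⟩
    · omega
    · omega
    · omega
    · exact absurd hred hn
  refine ⟨main, fun ⟨⟨i, hi⟩, j, hj⟩ => ?_⟩
  obtain ⟨t, ht, h⟩ := key i j
  have h3 := pos i₀
  rcases ht with rfl | rfl | rfl | ⟨-, hn⟩
  · omega
  · omega
  · omega
  · exact absurd hred hn

end Groth.Agent.S5471
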