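import Groth.Statements.S5473
import Groth.Agent.RootSys.Basic

set_option autoImplicit false
open RootD

namespace Groth.Agent.S5473

/-- If a linear map f and its transpose g induce bijections from the roots of R' onto the roots of R and
from the coroots of R onto the coroots of R' respectively (a morphism of root data in the
two-bijection sense), then the two bijections correspond: the coroot of α' is g applied to the
coroot of f(α'). -/
theorem result {ι M N ι' M' N' : Type*} [AddCommGroup M] [AddCommGroup N] [AddCommGroup M'] [AddCommGroup N']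
    (P : RootPairing ι ℤ M N) (P' : RootPairing ι' ℤ M' N') [Finite ι] [Finite ι']
    (f : M' →ₗ[ℤ] M) (g : N →ₗ[ℤ] N') (hfg : ∀ (m' : M') (n : N), P.toLinearMap (f m') n = P'.toLinearMap m' (g n))
    (e : ι' ≃ ι) (he : ∀ i' : ι', f (P'.root i') = P.root (e i'))
    (e' : ι ≃ ι') (he' : ∀ i : ι, g (P.coroot i) = P'.coroot (e' i)) :
    ∀ i' : ι', g (P.coroot (e i')) = P'.coroot i' := by
  have tf := RootSys.isTorsionFree_weight P'
  intro y
  have hv : g (P.coroot (e y)) = P'.coroot (e' (e y)) := he' _
  set z := e' (e y)
  have hkill : ∀ d ∈ Submodule.span ℤ (Set.range P'.root), f d = 0 → d = 0 := by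
    intro d hd h0
    refine RootSys.eq_zero_of_forall_coroot'_eq_zero hd fun i' => ?_
    obtain ⟨i, rfl⟩ := e'.surjective i'
    have h := hfg d (P.coroot i)
    rw [h0, map_zero, LinearMap.zero_apply, he'] at h
    exact h.symm
  have hφ : ∀ x : M', P'.coroot' z x = P.coroot' (e y) (f x) := fun x => by
    change P'.toLinearMap x (P'.coroot z) = P.toLinearMap (f x) (P.coroot (e y))
    rw [hfg, hv]
  have hmaps : Set.MapsTo (Module.preReflection (P'.root y) (P'.coroot' z))
      (Set.range P'.root) (Set.range P'.root) := by
    rintro _ ⟨x, rfl⟩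
    refine ⟨e.symm (P.reflectionPerm (e y) (e x)), ?_⟩
    refine sub_eq_zero.mp (hkill _ ?_ ?_)
    · refine sub_mem (Submodule.subset_span (Set.mem_range_self _)) ?_
      rw [Module.preReflection_apply]
      exact sub_mem (Submodule.subset_span (Set.mem_range_self _))
        (Submodule.smul_mem _ _ (Submodule.subset_span (Set.mem_range_self _)))
    · rw [map_sub, Module.preReflection_apply, map_sub, map_smul, he, he, he, e.apply_symm_apply,
        P.root_reflectionPerm, RootPairing.reflection_apply, hφ, he, sub_self]
  have h2 : P'.coroot' z (P'.root y) = 2 := by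
    rw [hφ, he]; exact P.root_coroot_two (e y)
  have heq := Module.Dual.eq_of_preReflection_mapsTo' (Set.finite_range P'.root)
    (Submodule.subset_span (Set.mem_range_self y)) h2 hmaps
    (P'.root_coroot_two y) (P'.mapsTo_reflection_root y)
  have hd : P'.coroot z - P'.coroot y = 0 := by
    refine RootSys.eq_zero_of_forall_coroot'_eq_zero (P := P'.flip) ?_ fun x => ?_
    · exact sub_mem (Submodule.subset_span (Set.mem_range_self z))
        (Submodule.subset_span (Set.mem_range_self y))
    · have := congrArg (fun φ : Module.Dual ℤ (Submodule.span ℤ (Set.range P'.root)) =>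
        φ ⟨P'.root x, Submodule.subset_span (Set.mem_range_self x)⟩) heq
      rw [map_sub, sub_eq_zero]
      exact this
  rw [hv]
  exact sub_eq_zero.mp hd

end Groth.Agent.S5473
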