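import Groth.Statements.S5474
import Groth.Agent.RootSys.Basic
import Mathlib.GroupTheory.FiniteAbelian.Basic

set_option autoImplicit false
open RootD

namespace Groth.Agent.S5474

theorem tor {X : Type*} [AddCommGroup X] [Module.Finite ℤ X] (S : Submodule ℤ X)
    (hS : Module.finrank ℤ S = Module.finrank ℤ X) (x : X) : ∃ a : ℤ, a ≠ 0 ∧ a • x ∈ S := by
  have h0 : Module.finrank ℤ (X ⧸ S) = 0 := by
    have := S.finrank_quotient_add_finrank
    omega
  obtain ⟨a, ha, hax⟩ := Module.finrank_eq_zero_iff.mp h0 (Submodule.Quotient.mk x)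
  exact ⟨a, ha, by rwa [← Submodule.Quotient.mk_eq_zero, Submodule.Quotient.mk_smul]⟩


/-- Every morphism between semisimple root data is an isogeny (injective on weight lattices with finite
cokernel). -/
theorem result {ι M N ι' M' N' : Type*} [AddCommGroup M] [AddCommGroup N] [AddCommGroup M'] [AddCommGroup N']
    (P : RootPairing ι ℤ M N) (P' : RootPairing ι' ℤ M' N') [Finite ι] [Finite ι']
    [Module.Finite ℤ M] [Module.Finite ℤ N] [Module.Finite ℤ M'] [Module.Finite ℤ N']
    (hss : Module.finrank ℤ (Submodule.span ℤ (Set.range P.root)) = Module.finrank ℤ M)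
    (hss' : Module.finrank ℤ (Submodule.span ℤ (Set.range P'.root)) = Module.finrank ℤ M')
    (f : RootPairing.Hom P' P) :
    Function.Injective f.weightMap ∧ Finite (M ⧸ LinearMap.range f.weightMap) := by
  have tf := RootSys.isAddTorsionFree_weight P'
  constructor
  · rw [injective_iff_map_eq_zero]
    intro x hx
    obtain ⟨a, ha, hax⟩ := tor _ hss' x
    have h0 : a • x = 0 := by
      refine RootSys.eq_zero_of_forall_coroot'_eq_zero (P := P') hax fun i' => ?_
      have h := LinearMap.congr_fun
        (RootPairing.Hom.weight_coweight_transpose_apply P' P (P.coroot (f.indexEquiv i')) f) x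
      rw [RootPairing.Hom.coroot_coweightMap_apply, Equiv.symm_apply_apply] at h
      rw [map_zsmul]
      have h' : P'.coroot' i' x = P.coroot' (f.indexEquiv i') (f.weightMap x) := h.symm
      rw [h', hx, map_zero, smul_zero]
    exact (smul_eq_zero.mp h0).resolve_left ha
  · have hsub : Submodule.span ℤ (Set.range P.root) ≤ LinearMap.range f.weightMap := by
      refine Submodule.span_le.mpr ?_
      rintro _ ⟨i, rfl⟩
      exact ⟨P'.root (f.indexEquiv.symm i), by
        rw [RootPairing.Hom.root_weightMap_apply, Equiv.apply_symm_apply]⟩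
    refine Module.finite_of_fg_torsion _ fun q => ?_
    induction q using Submodule.Quotient.induction_on with
    | H x =>
      obtain ⟨a, ha, hax⟩ := tor _ hss x
      exact ⟨⟨a, mem_nonZeroDivisors_of_ne_zero ha⟩, by
        rw [Submonoid.mk_smul, ← Submodule.Quotient.mk_smul, Submodule.Quotient.mk_eq_zero]
        exact hsub hax⟩

end Groth.Agent.S5474
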