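import Groth.Statements.S5475
import Groth.Agent.RootSys.Exists

set_option autoImplicit false
open RootD

namespace Groth.Agent.S5475

/-- In an adjoint root datum every indivisible root is an indivisible element of the weight lattice. -/
theorem result {ι M N : Type*} [AddCommGroup M] [AddCommGroup N]
    (P : RootPairing ι ℤ M N) [Finite ι] (had : Submodule.span ℤ (Set.range P.root) = ⊤)
    (i : ι) (hind : RootD.IsIndiv P i) (m : M) (n : ℤ) (h : n • m = P.root i) : n = 1 ∨ n = -1 := by
  classical
  obtain ⟨Δ, hΔ⟩ := RootSys.exists_simpleSys P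
  obtain ⟨g, hg, d, hd, rfl⟩ := RootSys.exists_conj_simple hΔ hind
  have hm : g⁻¹ • m ∈ Submodule.span ℤ (Set.range fun l : Δ => P.root l) := by
    refine Submodule.span_le.mpr ?_ (show g⁻¹ • m ∈ Submodule.span ℤ (Set.range P.root) by
      rw [had]; trivial)
    rintro _ ⟨l, rfl⟩
    rw [← RootSys.coef_lc hΔ l, Finsupp.linearCombination_apply]
    exact Submodule.sum_mem _ fun x hx =>
      Submodule.smul_mem _ _ (Submodule.subset_span ⟨⟨x, RootSys.coef_support hΔ l hx⟩, rfl⟩)
  obtain ⟨c, hc⟩ := Finsupp.mem_span_range_iff_exists_finsupp.mp hm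
  have hli : LinearIndependent ℤ (fun l : Δ => P.root l) := RootSys.linInd_int hΔ
  have h1 : Finsupp.linearCombination ℤ (fun l : Δ => P.root l) (n • c) =
      Finsupp.linearCombination ℤ (fun l : Δ => P.root l) (Finsupp.single ⟨d, hd⟩ 1) := by
    rw [map_smul, Finsupp.linearCombination_apply, hc, Finsupp.linearCombination_single, one_smul,
      ← RootSys.smul_zsmul', h, RootSys.root_smul, inv_smul_smul]
  have h2 := congrArg (fun f : Δ →₀ ℤ => f ⟨d, hd⟩) (hli.finsuppLinearCombination_injective h1)
  simp only [Finsupp.smul_apply, Finsupp.single_eq_same, smul_eq_mul] at h2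
  exact Int.eq_one_or_neg_one_of_mul_eq_one h2

end Groth.Agent.S5475
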