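import Groth.Statements.S5476
import Groth.Agent.RootSys.Basic

set_option autoImplicit false
open RootD

namespace Groth.Agent.S5476

theorem hbot {X : Type*} [AddCommGroup X] [Module.Finite ℤ X] [IsAddTorsionFree X]
    (K : Submodule ℤ X) : K = ⊥ ↔ Module.finrank ℤ K = 0 := by
  constructor
  · rintro rfl; simp
  · intro h0
    rw [Submodule.eq_bot_iff]
    intro x hx
    obtain ⟨a, ha, hax⟩ := Module.finrank_eq_zero_iff.mp h0 ⟨x, hx⟩
    exact (smul_eq_zero.mp (congrArg Subtype.val hax)).resolve_left ha


theorem half {ι M N : Type*} [Fintype ι] [AddCommGroup M] [AddCommGroup N] [Module.Finite ℤ M]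
    (P : RootPairing ι ℤ M N) :
    Module.finrank ℤ (⨅ i : ι, LinearMap.ker (P.coroot' i) : Submodule ℤ M) +
      Module.finrank ℤ (Submodule.span ℤ (Set.range P.root)) = Module.finrank ℤ M := by
  have tf := RootSys.isTorsionFree_weight P
  let φ : M →ₗ[ℤ] Module.Dual ℤ (Submodule.span ℤ (Set.range P.coroot)) :=
    (Submodule.span ℤ (Set.range P.coroot)).subtype.dualMap ∘ₗ P.toLinearMap
  have hker : LinearMap.ker φ = ⨅ i : ι, LinearMap.ker (P.coroot' i) := by
    ext x
    simp only [LinearMap.mem_ker, Submodule.mem_iInf]
    constructor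
    · intro hx i
      exact congrArg (fun F : Module.Dual ℤ (Submodule.span ℤ (Set.range P.coroot)) =>
        F ⟨P.coroot i, Submodule.subset_span (Set.mem_range_self i)⟩) hx
    · intro hx
      refine LinearMap.ext fun ⟨n, hn⟩ => ?_
      change P.toLinearMap x n = 0
      induction hn using Submodule.span_induction with
      | mem y hy => obtain ⟨i, rfl⟩ := hy; exact hx i
      | zero => rw [map_zero]
      | add a b _ _ ha hb => rw [map_add, ha, hb, add_zero]
      | smul t a _ ha => rw [map_smul, ha, smul_zero]
  have hrn : Module.finrank ℤ (LinearMap.ker φ) + Module.finrank ℤ (LinearMap.range φ) =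
      Module.finrank ℤ M := by
    rw [← φ.quotKerEquivRange.finrank_eq, add_comm]
    exact (LinearMap.ker φ).finrank_quotient_add_finrank
  have hinj : Function.Injective (φ ∘ₗ (Submodule.span ℤ (Set.range P.root)).subtype) := by
    rw [injective_iff_map_eq_zero]
    intro ⟨x, hx⟩ h0
    refine Subtype.ext (RootSys.eq_zero_of_forall_coroot'_eq_zero hx fun i => ?_)
    exact congrArg (fun F : Module.Dual ℤ (Submodule.span ℤ (Set.range P.coroot)) =>
      F ⟨P.coroot i, Submodule.subset_span (Set.mem_range_self i)⟩) h0
  have hge : Module.finrank ℤ (Submodule.span ℤ (Set.range P.root)) ≤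
      Module.finrank ℤ (LinearMap.range φ) := by
    let ψ := LinearMap.codRestrict (LinearMap.range φ)
      (φ ∘ₗ (Submodule.span ℤ (Set.range P.root)).subtype) fun x => ⟨_, rfl⟩
    exact LinearMap.finrank_le_finrank_of_injective (f := ψ)
      (fun a b hab => hinj (congrArg Subtype.val hab))
  have tfN := RootSys.isTorsionFree_coweight P
  have : Module.Free ℤ (Submodule.span ℤ (Set.range P.coroot)) :=
    Module.free_of_finite_type_torsion_free'
  have hle : Module.finrank ℤ (LinearMap.range φ) ≤
      Module.finrank ℤ (Submodule.span ℤ (Set.range P.root)) := by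
    refine le_of_le_of_eq (Submodule.finrank_le _) ?_
    rw [← (Module.Free.chooseBasis ℤ (Submodule.span ℤ (Set.range P.coroot))).toDualEquiv.finrank_eq]
    exact P.finrank_corootSpan_eq'
  rw [hker] at hrn
  omega


/-- The lattice of the coradical (weights killed by every coroot) and the lattice of the radical
(coweights killed by every root) both have rank rgred - rgss, the rank of the weight lattice minus
the rank of the lattice generated by the roots; and the datum is semisimple (the roots span a
sublattice of full rank) if and only if the coradical lattice vanishes, if and only if the radical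
lattice vanishes. -/
theorem result {ι M N : Type*} [AddCommGroup M] [AddCommGroup N]
    (P : RootPairing ι ℤ M N) [Finite ι] [Module.Finite ℤ M] [Module.Finite ℤ N] :
    (Module.finrank ℤ (⨅ i : ι, LinearMap.ker (P.coroot' i) : Submodule ℤ M) +
        Module.finrank ℤ (Submodule.span ℤ (Set.range P.root)) = Module.finrank ℤ M) ∧
      (Module.finrank ℤ (⨅ i : ι, LinearMap.ker (P.root' i) : Submodule ℤ N) +
        Module.finrank ℤ (Submodule.span ℤ (Set.range P.root)) = Module.finrank ℤ M) ∧
      (Module.finrank ℤ (Submodule.span ℤ (Set.range P.root)) = Module.finrank ℤ M ↔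
        (⨅ i : ι, LinearMap.ker (P.coroot' i) : Submodule ℤ M) = ⊥) ∧
      (Module.finrank ℤ (Submodule.span ℤ (Set.range P.root)) = Module.finrank ℤ M ↔
        (⨅ i : ι, LinearMap.ker (P.root' i) : Submodule ℤ N) = ⊥) := by
  have := Fintype.ofFinite ι
  have tf := RootSys.isAddTorsionFree_weight P
  have tfN := RootSys.isAddTorsionFree_coweight P
  have e1 := half P
  have e2 := half P.flip
  have hflip : Module.finrank ℤ (Submodule.span ℤ (Set.range P.flip.root)) =
      Module.finrank ℤ (Submodule.span ℤ (Set.range P.root)) := P.finrank_corootSpan_eq'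
  have hMN : Module.finrank ℤ N = Module.finrank ℤ M := by
    have := RootSys.isTorsionFree_weight P
    rw [(P.flip.toPerfPair).finrank_eq]
    have : Module.Free ℤ M := Module.free_of_finite_type_torsion_free'
    exact (Module.Free.chooseBasis ℤ M).toDualEquiv.finrank_eq.symm
  rw [hflip, hMN] at e2
  refine ⟨e1, e2, ?_, ?_⟩
  · rw [hbot]; omega
  · rw [hbot]
    have e2' : Module.finrank ℤ (⨅ i : ι, LinearMap.ker (P.root' i) : Submodule ℤ N) +
        Module.finrank ℤ (Submodule.span ℤ (Set.range P.root)) = Module.finrank ℤ M := e2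
    omega

end Groth.Agent.S5476
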