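import Groth.Statements.S5478
import Groth.Agent.RootSys.Basic

set_option autoImplicit false
open RootPairing
open scoped Pointwise
open RootD

namespace Groth.Agent.S5478

/-- The group of automorphisms of a root datum that act trivially on the radical is finite. -/
theorem result {ι M N : Type*} [AddCommGroup M] [AddCommGroup N]
    (P : RootPairing ι ℤ M N) [Finite ι] :
    Set.Finite {u : P.Aut | ∀ m : M, ∃ n : ℕ, 0 < n ∧ n • (u • m - m) ∈ Submodule.span ℤ (Set.range P.root)} := by
  set A : Set P.Aut := {u : P.Aut | ∀ m : M, ∃ n : ℕ, 0 < n ∧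
    n • (u • m - m) ∈ Submodule.span ℤ (Set.range P.root)}
  refine Set.Finite.of_finite_image (f := fun u : P.Aut => fun i : ι => u • i)
    (Set.toFinite _) ?_
  intro u hu v hv huv
  have hstab : ∀ (g : P.Aut) (x : M), x ∈ Submodule.span ℤ (Set.range P.root) →
      g • x ∈ Submodule.span ℤ (Set.range P.root) := by
    intro g x hx
    induction hx using Submodule.span_induction with
    | mem x hx =>
      obtain ⟨i, rfl⟩ := hx
      rw [← RootSys.root_smul]
      exact Submodule.subset_span (Set.mem_range_self _)
    | zero => simp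
    | add x y _ _ hx hy => rw [smul_add]; exact add_mem hx hy
    | smul a x _ hx => rw [RootSys.smul_smul']; exact Submodule.smul_mem _ a hx
  refine (inv_mul_eq_one.mp (RootSys.aut_eq_one_of_fix (u⁻¹ * v) (fun m => ?_) fun i => ?_))
  · obtain ⟨n, hn, hum⟩ := hu m
    obtain ⟨n', hn', hvm⟩ := hv m
    refine ⟨n * n', Nat.mul_pos hn hn', ?_⟩
    have : (u⁻¹ * v) • m - m = u⁻¹ • (v • m - m) - u⁻¹ • (u • m - m) := by
      rw [RootSys.smul_sub', RootSys.smul_sub', inv_smul_smul, mul_smul]; abel
    rw [this, smul_sub]
    refine sub_mem ?_ ?_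
    · rw [mul_smul]
      refine Submodule.smul_of_tower_mem _ n ?_
      rw [smul_comm n' u⁻¹]
      exact hstab _ _ hvm
    · rw [mul_comm n, mul_smul]
      refine Submodule.smul_of_tower_mem _ n' ?_
      rw [smul_comm n u⁻¹]
      exact hstab _ _ hum
  · have h' : u • i = v • i := congrFun huv i
    rw [mul_smul, ← h', inv_smul_smul]

end Groth.Agent.S5478
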