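import Groth.Statements.S5479
import Groth.Agent.RootSys.Weyl

set_option autoImplicit false
open RootPairing
open scoped Pointwise
open RootD

namespace Groth.Agent.S5479

/-- Aut(R) is the semidirect product of the Weyl group by the stabiliser E_Δ of a system of simple
roots: every automorphism is uniquely w · e with w ∈ W and e(Δ) = Δ. -/
theorem result {ι M N : Type*} [AddCommGroup M] [AddCommGroup N]
    (P : RootPairing ι ℤ M N) [Finite ι] (Δ : Set ι) (hΔ : RootD.IsSimpleSys P Δ) (u : P.Aut) :
    ∃! w : P.weylGroup, (fun i : ι => ((w : P.Aut)⁻¹ * u) • i) '' Δ = Δ := by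
  have hu := RootSys.isSimpleSys_smul u hΔ
  obtain ⟨w, hw, huniq⟩ := RootSys.existsUnique_weyl_simple hΔ hu
  simp only at hw huniq
  refine ⟨w, ?_, fun v hv => huniq v ?_⟩
  · simp only
    rw [RootSys.image_mul, ← hw, RootSys.image_inv_image]
  · simp only at hv
    conv_lhs => rw [← hv]
    rw [← RootSys.image_mul, mul_inv_cancel_left]

end Groth.Agent.S5479
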