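import Groth.Statements.S5480
import Groth.Agent.RootSys.Exists
import Groth.Agent.RootSys.Rho

set_option autoImplicit false
open RootD

namespace Groth.Agent.S5480

/-- For a p-morphism of reduced root data with root bijection u and radicial exponents q: (a) for all
roots α, β one has q(s_α(β)) = q(β) and u(s_α(β)) = s_{u(α)}(u(β)); (b) the exponents are invariant
under the Weyl group, q(w(α)) = q(α); (c) there is an isomorphism ū from the Weyl group of the first
datum to that of the second with ū(s_α) = s_{u(α)} and u(w(α)) = ū(w)(u(α)) for every Weyl group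
element w and every root α. -/
theorem result {ι M N ι' M' N' : Type*} [AddCommGroup M] [AddCommGroup N] [AddCommGroup M'] [AddCommGroup N']
    (P : RootPairing ι ℤ M N) (P' : RootPairing ι' ℤ M' N') [Finite ι] [Finite ι'] [P.IsReduced] [P'.IsReduced]
    (p : ℕ) (hp : 0 < p) (f : M' →ₗ[ℤ] M) (g : N →ₗ[ℤ] N')
    (hfg : ∀ (m' : M') (n : N), P.toLinearMap (f m') n = P'.toLinearMap m' (g n))
    (u : ι ≃ ι') (q : ι → ℕ) (hq : ∀ i, ∃ e : ℕ, q i = p ^ e)
    (hroot : ∀ i : ι, f (P'.root (u i)) = (q i : ℤ) • P.root i)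
    (hcoroot : ∀ i : ι, g (P.coroot i) = (q i : ℤ) • P'.coroot (u i)) :
    (∀ i j : ι, q (P.reflectionPerm i j) = q j ∧ u (P.reflectionPerm i j) = P'.reflectionPerm (u i) (u j)) ∧
      (∀ w ∈ P.weylGroup, ∀ i : ι, q (w • i) = q i) ∧
      ∃ ubar : P.weylGroup ≃* P'.weylGroup,
        (∀ i : ι, ubar (RootPairing.weylGroup.ofIdx P i) = RootPairing.weylGroup.ofIdx P' (u i)) ∧
        ∀ (w : P.weylGroup) (i : ι), u ((w : P.Aut) • i) = ((ubar w : P'.weylGroup) : P'.Aut) • u i := by
  classical
  have := RootSys.isAddTorsionFree_weight P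
  have hq0 : ∀ i, 0 < q i := fun i => by obtain ⟨e, he⟩ := hq i; rw [he]; exact pow_pos hp e
  have hpair : ∀ a b : ι, (q b : ℤ) * P.pairing b a = (q a : ℤ) * P'.pairing (u b) (u a) := by
    intro a b
    have h := hfg (P'.root (u b)) (P.coroot a)
    rw [hroot, hcoroot, map_zsmul, map_zsmul, LinearMap.smul_apply] at h
    simpa [smul_eq_mul] using h
  have ha : ∀ i j : ι, q (P.reflectionPerm i j) = q j ∧
      u (P.reflectionPerm i j) = P'.reflectionPerm (u i) (u j) := by
    intro i j
    obtain ⟨j', hj'⟩ := u.surjective (P'.reflectionPerm (u i) (u j))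
    have h1 : f (P'.root (P'.reflectionPerm (u i) (u j))) =
        (q j : ℤ) • P.root (P.reflectionPerm i j) := by
      rw [P'.root_reflectionPerm, RootPairing.reflection_apply_root, map_sub, map_zsmul, hroot,
        hroot, P.root_reflectionPerm, RootPairing.reflection_apply_root, smul_sub, smul_smul,
        smul_smul, hpair i j, mul_comm]
    rw [← hj', hroot] at h1
    have hqj : (q j' : ℤ) ≠ 0 := by exact_mod_cast (hq0 j').ne'
    obtain ⟨c, hc, hcj, hce⟩ := RootSys.indiv_proportional (RootSys.isIndiv_of_isReduced _) hqj h1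
    have h0j : (0 : ℤ) < q j := by exact_mod_cast hq0 j
    have h0j' : (0 : ℤ) < q j' := by exact_mod_cast hq0 j'
    have hc1 : c = 1 := by
      rcases hc with rfl | rfl | rfl | rfl
      · rfl
      · omega
      · exact absurd hcj.symm
          (RootSys.isIndiv_iff.mp (RootSys.isIndiv_of_isReduced (P := P) j') _)
      · omega
    rw [hc1, one_smul] at hcj
    obtain rfl := P.root.injective hcj
    refine ⟨?_, hj'⟩
    rw [hc1, mul_one] at hce
    exact_mod_cast hce.symm
  have hb : ∀ w ∈ P.weylGroup, ∀ i : ι, q (w • i) = q i := by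
    intro w hw
    induction hw using RootPairing.weylGroup.induction with
    | mem i => intro j; exact (ha i j).1
    | one => intro j; rw [one_smul]
    | mul x y _ _ hx hy => intro j; rw [mul_smul, hx, hy]
  refine ⟨ha, hb, ?_⟩
  let conj : (ι ≃ ι) ≃* (ι' ≃ ι') := u.permCongrHom
  have hconj : ∀ i, conj (P.reflectionPerm i) = P'.reflectionPerm (u i) := by
    intro i
    ext x
    simp only [conj, Equiv.permCongrHom_coe, Equiv.permCongr_apply]
    rw [(ha i _).2, Equiv.apply_symm_apply]
  have hrange : P.weylGroupToPerm.range.map conj.toMonoidHom = P'.weylGroupToPerm.range := by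
    rw [P.range_weylGroupToPerm, P'.range_weylGroupToPerm, MonoidHom.map_closure]
    congr 1
    ext x
    constructor
    · rintro ⟨_, ⟨i, rfl⟩, rfl⟩; exact ⟨u i, (hconj i).symm⟩
    · rintro ⟨i', rfl⟩
      exact ⟨_, ⟨u.symm i', rfl⟩, (hconj _).trans (by rw [Equiv.apply_symm_apply])⟩
  let e1 : P.weylGroup ≃* P.weylGroupToPerm.range :=
    MonoidHom.ofInjective RootSys.weylGroupToPerm_inj
  let e2 : P.weylGroupToPerm.range ≃* P'.weylGroupToPerm.range :=
    (conj.subgroupMap _).trans (MulEquiv.subgroupCongr hrange)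
  let e3 : P'.weylGroup ≃* P'.weylGroupToPerm.range :=
    MonoidHom.ofInjective RootSys.weylGroupToPerm_inj
  let ubar := e1.trans (e2.trans e3.symm)
  have hval : ∀ w : P.weylGroup, P'.weylGroupToPerm (ubar w) = conj (P.weylGroupToPerm w) := by
    intro w
    have h1 : e3 (ubar w) = e2 (e1 w) := e3.apply_symm_apply _
    exact congrArg Subtype.val h1
  refine ⟨ubar, fun i => RootSys.weylGroupToPerm_inj ?_, fun w i => ?_⟩
  · rw [hval]
    exact hconj i
  · have h1 := congrArg (fun g : ι' ≃ ι' => g (u i)) (hval w)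
    simp only [conj, Equiv.permCongrHom_coe, Equiv.permCongr_apply, Equiv.symm_apply_apply] at h1
    exact h1.symm

end Groth.Agent.S5480
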