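import Groth.Statements.S5481
import Groth.Agent.RootSys.Functional
import Groth.Agent.RootSys.Rho

set_option autoImplicit false
open RootD

namespace Groth.Agent.S5481

/-- The root bijection u of a p-morphism of reduced root data carries systems of simple roots onto
systems of simple roots and systems of positive roots onto systems of positive roots, bijectively. -/
theorem result {ι M N ι' M' N' : Type*} [AddCommGroup M] [AddCommGroup N] [AddCommGroup M'] [AddCommGroup N']
    (P : RootPairing ι ℤ M N) (P' : RootPairing ι' ℤ M' N') [Finite ι] [Finite ι'] [P.IsReduced] [P'.IsReduced]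
    (p : ℕ) (hp : 0 < p) (f : M' →ₗ[ℤ] M) (g : N →ₗ[ℤ] N')
    (hfg : ∀ (m' : M') (n : N), P.toLinearMap (f m') n = P'.toLinearMap m' (g n))
    (u : ι ≃ ι') (q : ι → ℕ) (hq : ∀ i, ∃ e : ℕ, q i = p ^ e)
    (hroot : ∀ i : ι, f (P'.root (u i)) = (q i : ℤ) • P.root i)
    (hcoroot : ∀ i : ι, g (P.coroot i) = (q i : ℤ) • P'.coroot (u i)) (Δ : Set ι) :
    (RootD.IsSimpleSys P Δ ↔ RootD.IsSimpleSys P' (u '' Δ)) ∧
      (RootD.IsPosSys P Δ ↔ RootD.IsPosSys P' (u '' Δ)) := by
  classical
  have := Fintype.ofFinite ι
  have := Fintype.ofFinite ι'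
  have tf := RootSys.isAddTorsionFree_weight P
  have tf' := RootSys.isAddTorsionFree_weight P'
  have hq0 : ∀ i, 0 < q i := fun i => by obtain ⟨e, he⟩ := hq i; rw [he]; exact pow_pos hp e
  have hqz : ∀ i, (0 : ℤ) < q i := fun i => by exact_mod_cast hq0 i
  have hfinj : ∀ x ∈ Submodule.span ℤ (Set.range P'.root), f x = 0 → x = 0 := by
    intro x hx h0
    refine RootSys.eq_zero_of_forall_coroot'_eq_zero (P := P') hx fun i' => ?_
    obtain ⟨i, rfl⟩ := u.surjective i'
    have h := hfg x (P.coroot i)
    rw [h0, map_zero, LinearMap.zero_apply, hcoroot, map_zsmul, smul_eq_mul] at h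
    exact (mul_eq_zero.mp h.symm).resolve_left (hqz i).ne'
  have hneg : ∀ i, u (P.reflectionPerm i i) = P'.reflectionPerm (u i) (u i) := by
    intro i
    obtain ⟨i', hi'⟩ := u.surjective (P'.reflectionPerm (u i) (u i))
    have h1 : (q i' : ℤ) • P.root i' = (-(q i : ℤ)) • P.root i := by
      rw [← hroot, hi', RootSys.root_neg, map_neg, hroot, neg_smul]
    obtain ⟨c, hc, hcj, hce⟩ :=
      RootSys.indiv_proportional (RootSys.isIndiv_of_isReduced (P := P) i) (hqz i').ne' h1
    have := hqz i
    have := hqz i'
    rcases hc with rfl | rfl | rfl | rfl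
    · omega
    · rw [← hi', show P.reflectionPerm i i = i' from
        (RootSys.eq_neg_of_root_eq_neg (by rw [hcj, neg_one_smul])).symm]
    · omega
    · refine absurd ?_ (RootSys.isIndiv_iff.mp (RootSys.isIndiv_of_isReduced (P := P) i') (P.reflectionPerm i i))
      rw [RootSys.root_neg, hcj]; module
  have hrev : ∀ (c : ι →₀ ℤ) (k : ι), Finsupp.linearCombination ℤ P.root c = P.root k →
      ((∏ x : ι, (q x : ℤ))) • P'.root (u k) = ∑ l ∈ c.support,
        (c l * (q k : ℤ) * ∏ x ∈ Finset.univ.erase l, (q x : ℤ)) • P'.root (u l) := by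
    intro c k h
    refine sub_eq_zero.mp (hfinj _ (sub_mem ?_ (Submodule.sum_mem _ fun l _ => ?_)) ?_)
    · exact Submodule.smul_mem _ _ (Submodule.subset_span (Set.mem_range_self _))
    · exact Submodule.smul_mem _ _ (Submodule.subset_span (Set.mem_range_self _))
    · rw [map_sub, map_zsmul, map_sum, hroot, ← h, Finsupp.linearCombination_apply, Finsupp.sum,
        sub_eq_zero, Finset.smul_sum, Finset.smul_sum]
      refine Finset.sum_congr rfl fun l _ => ?_
      rw [map_zsmul, hroot, smul_smul, smul_smul, smul_smul,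
        ← Finset.mul_prod_erase Finset.univ (fun x => (q x : ℤ)) (Finset.mem_univ l)]
      congr 1
      ring
  have hprod : 0 < ∏ x : ι, (q x : ℤ) := Finset.prod_pos fun x _ => hqz x
  have herase : ∀ l, 0 < ∏ x ∈ Finset.univ.erase l, (q x : ℤ) :=
    fun l => Finset.prod_pos fun x _ => hqz x
  have hnat : ∀ (A : Set ι) (x : M'), x ∈ RootD.natSpan P' (u '' A) → f x ∈ RootD.natSpan P A := by
    intro A x hx
    induction hx using AddSubmonoid.closure_induction with
    | mem y hy =>
      obtain ⟨_, ⟨l, hl, rfl⟩, rfl⟩ := hy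
      rw [hroot, natCast_zsmul]
      exact AddSubmonoid.nsmul_mem _ (AddSubmonoid.subset_closure (Set.mem_image_of_mem _ hl)) _
    | zero => rw [map_zero]; exact zero_mem _
    | add a b _ _ ha hb => rw [map_add]; exact add_mem ha hb
  have hnat' : ∀ (A : Set ι) (k : ι), P.root k ∈ RootD.natSpan P A →
      ∃ n : ℕ, 0 < n ∧ n • P'.root (u k) ∈ RootD.natSpan P' (u '' A) := by
    intro A k hk
    obtain ⟨c, hc1, hc2, hc3⟩ := RootSys.mem_natSpan_iff.mp hk
    refine ⟨(∏ x : ι, (q x : ℤ)).toNat, by omega, ?_⟩
    rw [← natCast_zsmul, Int.toNat_of_nonneg hprod.le, hrev c k hc3]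
    refine AddSubmonoid.sum_mem _ fun l hl => ?_
    obtain ⟨n, hn⟩ := Int.eq_ofNat_of_zero_le
      (mul_nonneg (mul_nonneg (hc2 l) (hqz k).le) (herase l).le)
    rw [hn, natCast_zsmul]
    exact AddSubmonoid.nsmul_mem _
      (AddSubmonoid.subset_closure (Set.mem_image_of_mem _ (Set.mem_image_of_mem _ (hc1 hl)))) _
  have hSimple : RootD.IsSimpleSys P Δ ↔ RootD.IsSimpleSys P' (u '' Δ) := by
    constructor
    · intro hΔ
      refine RootSys.isSimpleSys_of_cone (fun i' _ => RootSys.isIndiv_of_isReduced i') ?_ fun k' => ?_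
      · rw [linearIndepOn_iff]
        intro c hc h0
        rw [Finsupp.mem_supported] at hc
        have h1 := congrArg f h0
        rw [map_zero, Finsupp.linearCombination_apply, map_finsuppSum] at h1
        let d : ι →₀ ℤ := Finsupp.onFinset (c.support.image u.symm)
          (fun i => c (u i) * q i) fun i hi => Finset.mem_image.mpr
            ⟨u i, Finsupp.mem_support_iff.mpr (left_ne_zero_of_mul hi), u.symm_apply_apply i⟩
        have hd : d = 0 := by
          refine linearIndepOn_iff.mp (RootSys.linInd_int hΔ) d ?_ ?_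
          · rw [Finsupp.mem_supported]
            intro i hi
            obtain ⟨i', hi', rfl⟩ := Finset.mem_image.mp (Finsupp.support_onFinset_subset hi)
            obtain ⟨a, ha, rfl⟩ := hc hi'
            rwa [u.symm_apply_apply]
          · rw [Finsupp.linearCombination_apply,
              Finsupp.sum_of_support_subset d Finsupp.support_onFinset_subset (fun i a => a • P.root i) (fun _ _ => zero_smul _ _),
              Finset.sum_image u.symm.injective.injOn, ← h1, Finsupp.sum]
            refine Finset.sum_congr rfl fun i' _ => ?_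
            obtain ⟨a, rfl⟩ := u.surjective i'
            simp only [d, Finsupp.onFinset_apply, u.symm_apply_apply, map_zsmul, hroot, smul_smul]
        ext i'
        obtain ⟨a, rfl⟩ := u.surjective i'
        have := congrArg (fun g : ι →₀ ℤ => g a) hd
        simpa [d, (hq0 a).ne'] using this
      · obtain ⟨k, rfl⟩ := u.surjective k'
        rcases hΔ.mem_or_neg_mem k with h | h
        · obtain ⟨n, hn, h'⟩ := hnat' Δ k h
          exact ⟨n, hn, Or.inl h'⟩
        · rw [← RootSys.root_neg] at h
          obtain ⟨n, hn, h'⟩ := hnat' Δ _ h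
          rw [hneg, RootSys.root_neg] at h'
          exact ⟨n, hn, Or.inr h'⟩
    · intro hΔ'
      refine RootSys.isSimpleSys_of_cone (fun i _ => RootSys.isIndiv_of_isReduced i) ?_ fun k => ?_
      · rw [linearIndepOn_iff]
        intro c hc h0
        rw [Finsupp.mem_supported] at hc
        let d : ι' →₀ ℤ := Finsupp.onFinset (c.support.image u)
          (fun i' => c (u.symm i') * ∏ x ∈ Finset.univ.erase (u.symm i'), (q x : ℤ))
          fun i' hi => Finset.mem_image.mpr ⟨u.symm i',
            Finsupp.mem_support_iff.mpr (left_ne_zero_of_mul hi), u.apply_symm_apply i'⟩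
        have hd : d = 0 := by
          refine linearIndepOn_iff.mp (RootSys.linInd_int hΔ') d ?_ ?_
          · rw [Finsupp.mem_supported]
            intro i' hi
            obtain ⟨a, ha, rfl⟩ := Finset.mem_image.mp (Finsupp.support_onFinset_subset hi)
            exact Set.mem_image_of_mem _ (hc ha)
          · rw [Finsupp.linearCombination_apply,
              Finsupp.sum_of_support_subset d Finsupp.support_onFinset_subset (fun i a => a • P'.root i) (fun _ _ => zero_smul _ _),
              Finset.sum_image u.injective.injOn]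
            refine hfinj _ (Submodule.sum_mem _ fun l _ =>
              Submodule.smul_mem _ _ (Submodule.subset_span (Set.mem_range_self _))) ?_
            rw [map_sum]
            calc ∑ a ∈ c.support, f (d (u a) • P'.root (u a))
                = ∑ a ∈ c.support, (∏ x : ι, (q x : ℤ)) • (c a • P.root a) := by
                  refine Finset.sum_congr rfl fun a _ => ?_
                  simp only [d, Finsupp.onFinset_apply, u.symm_apply_apply, map_zsmul, hroot,
                    smul_smul]
                  rw [← Finset.mul_prod_erase Finset.univ (fun x => (q x : ℤ)) (Finset.mem_univ a)]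
                  congr 1
                  ring
              _ = 0 := by
                  rw [← Finset.smul_sum]
                  rw [Finsupp.linearCombination_apply, Finsupp.sum] at h0
                  rw [h0, smul_zero]
        ext a
        have := congrArg (fun g : ι' →₀ ℤ => g (u a)) hd
        simpa [d, (herase a).ne'] using this
      · refine ⟨q k, hq0 k, ?_⟩
        rw [← natCast_zsmul, ← natCast_zsmul, smul_neg, ← hroot, ← map_neg]
        exact (hΔ'.mem_or_neg_mem (u k)).imp (hnat Δ _) (hnat Δ _)
  refine ⟨hSimple, ?_⟩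
  rw [RootSys.isPosSys_iff, RootSys.isPosSys_iff]
  have hmem : ∀ i, u i ∈ u '' Δ ↔ i ∈ Δ := fun i => u.injective.mem_set_image
  constructor
  · rintro ⟨h1, h2, h3⟩
    have hps : RootD.IsPosSys P Δ := RootSys.isPosSys_iff.mpr ⟨h1, h2, h3⟩
    refine ⟨fun i' hi' => ?_, fun i' => ?_, fun a b k ha hb hk => ?_⟩
    · obtain ⟨i, hi, rfl⟩ := hi'
      rw [← hneg, hmem]; exact h1 i hi
    · obtain ⟨i, rfl⟩ := u.surjective i'
      rw [← hneg, hmem, hmem]; exact h2 i
    · obtain ⟨a, ha, rfl⟩ := ha
      obtain ⟨b, hb, rfl⟩ := hb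
      obtain ⟨k, rfl⟩ := u.surjective k
      rw [hmem]
      have := congrArg f hk
      rw [map_add, hroot, hroot, hroot, natCast_zsmul, natCast_zsmul, natCast_zsmul] at this
      refine hps.sat (q k) (hq0 k) ?_
      rw [this]
      exact AddSubmonoid.add_mem _
        (AddSubmonoid.nsmul_mem _ (AddSubmonoid.subset_closure (Set.mem_image_of_mem _ ha)) _)
        (AddSubmonoid.nsmul_mem _ (AddSubmonoid.subset_closure (Set.mem_image_of_mem _ hb)) _)
  · rintro ⟨h1, h2, h3⟩
    have hps : RootD.IsPosSys P' (u '' Δ) := RootSys.isPosSys_iff.mpr ⟨h1, h2, h3⟩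
    refine ⟨fun i hi hi' => ?_, fun i => ?_, fun a b k ha hb hk => ?_⟩
    · exact h1 _ ((hmem i).mpr hi) (hneg i ▸ (hmem _).mpr hi')
    · rw [← hmem, ← hmem (P.reflectionPerm i i), hneg]; exact h2 _
    · rw [← hmem]
      obtain ⟨n, hn, h⟩ := hnat' Δ k (by
        rw [hk]
        exact AddSubmonoid.add_mem _ (AddSubmonoid.subset_closure (Set.mem_image_of_mem _ ha))
          (AddSubmonoid.subset_closure (Set.mem_image_of_mem _ hb)))
      exact hps.sat n hn h

end Groth.Agent.S5481
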