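import Groth.Statements.S5482
import Groth.Agent.RootSys.Criterion

set_option autoImplicit false
open RootD

namespace Groth.Agent.S5482

/-- If the roots are partitioned into two closed symmetric subsets R', R'', then with Δ' = Δ ∩ R', Δ'' =
Δ ∩ R'' for a system of simple roots Δ one has R' = R_{Δ'}, R'' = R_{Δ''}, and Δ' is orthogonal to
Δ''. -/
theorem result {ι M N : Type*} [AddCommGroup M] [AddCommGroup N]
    (P : RootPairing ι ℤ M N) [Finite ι] (Δ : Set ι) (hΔ : RootD.IsSimpleSys P Δ) (R' : Set ι)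
    (hc : RootD.IsClosedSub P R') (hs : RootD.IsSymmSub P R') (hc' : RootD.IsClosedSub P R'ᶜ)
    (hs' : RootD.IsSymmSub P R'ᶜ) :
    R' = RootD.inSpan P (Δ ∩ R') ∧ R'ᶜ = RootD.inSpan P (Δ \ R') ∧
      ∀ i ∈ Δ ∩ R', ∀ j ∈ Δ \ R', P.IsOrthogonal i j := by
  have hpos : ∀ k ∈ RootD.posOf P Δ,
      (k ∈ R' → ∀ l, RootSys.coef hΔ k l ≠ 0 → l ∈ Δ ∩ R') ∧
      (k ∉ R' → ∀ l, RootSys.coef hΔ k l ≠ 0 → l ∈ Δ \ R') := by
    intro k hk
    refine RootSys.pos_induction hΔ (p := fun k =>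
      (k ∈ R' → ∀ l, RootSys.coef hΔ k l ≠ 0 → l ∈ Δ ∩ R') ∧
      (k ∉ R' → ∀ l, RootSys.coef hΔ k l ≠ 0 → l ∈ Δ \ R')) ?_ ?_ hk
    · intro i hi
      constructor <;> intro h l hl <;>
      · have : l = i := by
          by_contra hne
          exact hl (by rw [RootSys.coef_simple hΔ hi, Finsupp.single_eq_of_ne hne])
        exact this ▸ ⟨hi, h⟩
    · intro i j k hi _ he ih
      have hsplit : ∀ l, RootSys.coef hΔ k l ≠ 0 → RootSys.coef hΔ j l ≠ 0 ∨ l = i := by
        intro l hl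
        by_contra! hh
        exact hl (by rw [RootSys.coef_add hΔ he, Finsupp.add_apply, hh.1, RootSys.coef_simple hΔ hi,
          Finsupp.single_eq_of_ne hh.2, add_zero])
      constructor <;> intro h l hl <;>
        rcases RootSys.partition_add hc hs hc' hs' he with ⟨h1, h2, h3⟩ | ⟨h1, h2, h3⟩
      · rcases hsplit l hl with hl | rfl
        exacts [ih.1 h1 l hl, ⟨hi, h2⟩]
      · exact absurd h h3
      · exact absurd h3 h
      · rcases hsplit l hl with hl | rfl
        exacts [ih.2 h1 l hl, ⟨hi, h2⟩]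
  have hneg : ∀ k, P.reflectionPerm k k ∈ R' ↔ k ∈ R' := fun k =>
    ⟨fun h => RootSys.neg_neg_index (P := P) k ▸ hs h, fun h => hs h⟩
  have hall : ∀ k : ι, (k ∈ R' → k ∈ RootD.inSpan P (Δ ∩ R')) ∧
      (k ∉ R' → k ∈ RootD.inSpan P (Δ \ R')) := by
    intro k
    rcases RootSys.pos_or_neg hΔ k with h | h <;>
    · refine ⟨fun hk => (RootSys.mem_inSpan_iff hΔ Set.inter_subset_left).mpr fun l hl => ?_,
        fun hk => (RootSys.mem_inSpan_iff hΔ Set.sdiff_subset).mpr fun l hl => ?_⟩ <;>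
        by_contra hne <;> refine hl ?_
      · first
          | exact (hpos _ h).1 hk l hne
          | exact (hpos _ h).1 ((hneg k).mpr hk) l (by simpa [RootSys.coef_neg] using hne)
      · first
          | exact (hpos _ h).2 hk l hne
          | exact (hpos _ h).2 (fun hh => hk ((hneg k).mp hh)) l
              (by simpa [RootSys.coef_neg] using hne)
  have hdisj : ∀ k, k ∈ RootD.inSpan P (Δ ∩ R') → k ∈ RootD.inSpan P (Δ \ R') → False := by
    intro k h1 h2
    refine RootSys.coef_ne_zero hΔ k (Finsupp.ext fun l => ?_)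
    by_cases hl : l ∈ R'
    · exact (RootSys.mem_inSpan_iff hΔ Set.sdiff_subset).mp h2 l fun h => h.2 hl
    · exact (RootSys.mem_inSpan_iff hΔ Set.inter_subset_left).mp h1 l fun h => hl h.2
  refine ⟨Set.ext fun k => ⟨(hall k).1, fun h => ?_⟩, Set.ext fun k => ⟨(hall k).2, fun h hk => ?_⟩,
    fun i hi j hj => ?_⟩
  · by_contra hk; exact hdisj k h ((hall k).2 hk)
  · exact hdisj k ((hall k).1 hk) h
  · by_contra h
    exact hj.2 (RootSys.partition_mem_of_not_orthogonal hc hs hc' hs' hi.2 h)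

end Groth.Agent.S5482
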