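import Groth.Statements.S5483
import Groth.Agent.RootSys.Criterion

set_option autoImplicit false
open RootD

namespace Groth.Agent.S5483

/-- If a system of simple roots Δ is the disjoint union of two mutually orthogonal subsets Δ', Δ'', then
R_{Δ'} and R_{Δ''} partition the set of roots. -/
theorem result {ι M N : Type*} [AddCommGroup M] [AddCommGroup N]
    (P : RootPairing ι ℤ M N) [Finite ι] (Δ Δ' : Set ι) (hΔ : RootD.IsSimpleSys P Δ)
    (hsub : Δ' ⊆ Δ) (horth : ∀ i ∈ Δ', ∀ j ∈ Δ \ Δ', P.IsOrthogonal i j) (k : ι) :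
    (k ∈ RootD.inSpan P Δ' ∨ k ∈ RootD.inSpan P (Δ \ Δ')) ∧
      ¬ (k ∈ RootD.inSpan P Δ' ∧ k ∈ RootD.inSpan P (Δ \ Δ')) := by
  have hpos : ∀ k ∈ RootD.posOf P Δ,
      (∀ l ∉ Δ', RootSys.coef hΔ k l = 0) ∨ (∀ l ∉ Δ \ Δ', RootSys.coef hΔ k l = 0) := by
    intro k hk
    refine RootSys.pos_induction hΔ (p := fun k => (∀ l ∉ Δ', RootSys.coef hΔ k l = 0) ∨
      (∀ l ∉ Δ \ Δ', RootSys.coef hΔ k l = 0)) ?_ ?_ hk
    · intro i hi
      by_cases hi' : i ∈ Δ'
      · exact Or.inl fun l hl => by
          rw [RootSys.coef_simple hΔ hi, Finsupp.single_eq_of_ne fun h => hl (by rwa [h])]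
      · exact Or.inr fun l hl => by
          rw [RootSys.coef_simple hΔ hi, Finsupp.single_eq_of_ne fun h => hl (by rw [h]; exact ⟨hi, hi'⟩)]
    · intro i j k hi hj he ih
      have hk' : ∀ A : Set ι, i ∈ A → (∀ l ∉ A, RootSys.coef hΔ j l = 0) →
          ∀ l ∉ A, RootSys.coef hΔ k l = 0 := by
        intro A hiA h l hl
        rw [RootSys.coef_add hΔ he, Finsupp.add_apply, h l hl, RootSys.coef_simple hΔ hi,
          Finsupp.single_eq_of_ne fun h' => hl (by rwa [h']), add_zero]
      -- a mixed sum is impossible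
      have mixed : ∀ A : Set ι, A ⊆ Δ → i ∉ A → (∀ a ∈ A, P.IsOrthogonal a i) →
          (∀ l ∉ A, RootSys.coef hΔ j l = 0) → False := by
        intro A hA hiA horth h
        have hjpair : P.pairing j i = 0 := by
          have := congrArg (P.coroot' i) (RootSys.coef_lc hΔ j)
          rw [Finsupp.linearCombination_apply, map_finsuppSum] at this
          rw [← RootPairing.root_coroot'_eq_pairing, ← this]
          refine Finset.sum_eq_zero fun l hl => ?_
          have hlA : l ∈ A := by
            by_contra hlA; exact Finsupp.mem_support_iff.mp hl (h l hlA)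
          simp only [map_zsmul, RootPairing.root_coroot'_eq_pairing, (horth l hlA).1, smul_zero]
        have hsub : P.root (P.reflectionPerm i k) = P.root j - P.root i := by
          rw [P.root_reflectionPerm, he, map_add, RootPairing.reflection_apply_root, hjpair,
            RootPairing.reflection_apply_self, zero_smul, sub_zero, sub_eq_add_neg]
        have hc := RootSys.coef_add hΔ (i := P.reflectionPerm i k) (j := i) (k := j)
          (by rw [hsub, sub_add_cancel])
        obtain ⟨l, hl⟩ : ∃ l, RootSys.coef hΔ j l ≠ 0 := by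
          by_contra! hh; exact RootSys.coef_ne_zero hΔ j (Finsupp.ext hh)
        have hlA : l ∈ A := by by_contra hlA; exact hl (h l hlA)
        have hli : l ≠ i := fun h' => hiA (h' ▸ hlA)
        have h1 := congrArg (fun f : ι →₀ ℤ => f l) hc
        have h2 := congrArg (fun f : ι →₀ ℤ => f i) hc
        simp [RootSys.coef_simple hΔ hi, Finsupp.single_eq_of_ne hli, h i hiA] at h1 h2
        have h3 := (RootSys.mem_posOf_iff hΔ).mp hj l
        rcases RootSys.pos_or_neg hΔ (P.reflectionPerm i k) with hp | hp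
        · have := (RootSys.mem_posOf_iff hΔ).mp hp i
          omega
        · have := (RootSys.mem_posOf_iff hΔ).mp hp l
          rw [RootSys.coef_neg, Finsupp.neg_apply] at this
          omega
      rcases ih with ih | ih
      · by_cases hi' : i ∈ Δ'
        · exact Or.inl (hk' _ hi' ih)
        · exact (mixed _ hsub hi' (fun a ha => horth a ha i ⟨hi, hi'⟩) ih).elim
      · by_cases hi' : i ∈ Δ'
        · exact (mixed _ Set.sdiff_subset (fun h => h.2 hi')
            (fun a ha => (horth i hi' a ha).symm) ih).elim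
        · exact Or.inr (hk' _ ⟨hi, hi'⟩ ih)
  rw [RootSys.mem_inSpan_iff hΔ hsub, RootSys.mem_inSpan_iff hΔ Set.sdiff_subset]
  refine ⟨?_, fun ⟨h1, h2⟩ => RootSys.coef_ne_zero hΔ k (Finsupp.ext fun l => ?_)⟩
  · rcases RootSys.pos_or_neg hΔ k with h | h
    · exact hpos k h
    · exact (hpos _ h).imp (fun h l hl => by simpa [RootSys.coef_neg] using h l hl)
        (fun h l hl => by simpa [RootSys.coef_neg] using h l hl)
  · by_cases hl : l ∈ Δ'
    · exact h2 l fun h => h.2 hl
    · exact h1 l hl

end Groth.Agent.S5483
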