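import Groth.Statements.S5484
import Groth.Agent.RootSys.Functional

set_option autoImplicit false
open RootD

namespace Groth.Agent.S5484

open Classical in
/-- Every principal minor of the Cartan matrix (a_{α,β} = (α^v, β), α, β simple) is strictly positive. -/
theorem result {ι M N : Type*} [AddCommGroup M] [AddCommGroup N]
    (P : RootPairing ι ℤ M N) [Finite ι] (Δ : Finset ι) (hΔ : RootD.IsSimpleSys P (↑Δ : Set ι))
    (Δ' : Finset ι) (hsub : Δ' ⊆ Δ) :
    0 < Matrix.det (Matrix.of fun (a b : ↥Δ') => P.pairing (b : ι) (a : ι)) := by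
  classical
  have := Fintype.ofFinite ι
  have hli : LinearIndepOn ℤ P.root (↑Δ' : Set ι) := hΔ.linInd.mono (Finset.coe_subset.mpr hsub)
  have hG := RootSys.gram_det_pos hli
  have hscale : (2 : ℤ) • RootSys.gram P Δ' =
      Matrix.diagonal (fun a : ↥Δ' => P.RootForm (P.root a) (P.root a)) *
        (Matrix.of fun (a b : ↥Δ') => P.pairing (b : ι) (a : ι)) := by
    ext a b
    rw [Matrix.diagonal_mul, Matrix.smul_apply, smul_eq_mul]
    change 2 * P.RootForm (P.root a) (P.root b) = _
    rw [show P.RootForm (P.root a) (P.root b) = P.RootForm (P.root b) (P.root a) from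
      P.rootForm_symmetric.eq _ _]
    exact (P.toInvariantForm.two_mul_apply_root_root b a).trans (mul_comm _ _)
  have hdet := congrArg Matrix.det hscale
  rw [Matrix.det_smul, Matrix.det_mul, Matrix.det_diagonal] at hdet
  have hprod : 0 < ∏ a : ↥Δ', P.RootForm (P.root a) (P.root a) :=
    Finset.prod_pos fun a _ => RootSys.rootForm_root_pos _
  refine pos_of_mul_pos_right ?_ hprod.le
  rw [← hdet]
  exact mul_pos (pow_pos two_pos _) hG

end Groth.Agent.S5484
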