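import Groth.Statements.S5486
import Groth.Agent.RootSys.Basic

set_option autoImplicit false
open RootD

namespace Groth.Agent.S5486

/-- For orthogonal roots α, β, the sum α + β is a root if and only if the difference α - β is. -/
theorem result {ι M N : Type*} [AddCommGroup M] [AddCommGroup N]
    (P : RootPairing ι ℤ M N) [Finite ι] (i j : ι) (h : P.IsOrthogonal i j) :
    P.root i + P.root j ∈ Set.range P.root ↔ P.root i - P.root j ∈ Set.range P.root := by
  have hp := RootSys.root_refl (P := P) j i
  have hp' := RootSys.root_refl (P := P) i j
  have h0 : ∀ x ∈ Set.range P.root, P.reflection j x ∈ Set.range P.root := by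
    rintro x ⟨k, rfl⟩
    exact ⟨P.reflectionPerm j k, P.root_reflectionPerm j k⟩
  have e1 : P.reflection j (P.root i) = P.root i := by
    rw [RootPairing.reflection_apply_root, h.1, zero_smul, sub_zero]
  have e2 : P.reflection j (P.root j) = -P.root j := P.reflection_apply_self j
  constructor <;> intro hh <;> have := h0 _ hh
  · rwa [map_add, e1, e2, ← sub_eq_add_neg] at this
  · rwa [map_sub, e1, e2, sub_neg_eq_add] at this

end Groth.Agent.S5486
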