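import Groth.Statements.S5488
import Groth.Agent.RootSys.Basic

set_option autoImplicit false
open RootPairing
open scoped Pointwise
open RootD

namespace Groth.Agent.S5488

/-- The reduced datum of indivisible roots has the same Weyl group: the reflections in indivisible roots
generate W. -/
theorem result {ι M N : Type*} [AddCommGroup M] [AddCommGroup N]
    (P : RootPairing ι ℤ M N) [Finite ι] :
    Subgroup.closure ((fun i : ι => Equiv.reflection P i) '' {i : ι | RootD.IsIndiv P i}) = P.weylGroup := by
  refine le_antisymm (Subgroup.closure_mono (Set.image_subset_range _ _))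
    ((Subgroup.closure_le _).mpr ?_)
  rintro _ ⟨k, rfl⟩
  obtain ⟨j, hj, _, he⟩ := RootSys.exists_indiv_reflection (P := P) k
  exact Subgroup.subset_closure ⟨j, hj, he.symm⟩

end Groth.Agent.S5488
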