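import Groth.Statements.S5489
import Groth.Agent.RootSys.Exists

set_option autoImplicit false
open RootD

namespace Groth.Agent.S5489

/-- If a root α, distinct from roots α_1, ..., α_n, is a non-negative rational combination of them, then
some α_l with non-zero coefficient has (α^v, α_l) > 0 and α - α_l a root. -/
theorem result {ι M N : Type*} [AddCommGroup M] [AddCommGroup N]
    (P : RootPairing ι ℤ M N) [Finite ι] {n : ℕ} (a : Fin n → ι) (m : Fin n → ℕ)
    (k : ι) (hne : ∀ l, a l ≠ k) (c : ℕ) (hc : 0 < c) (hk : c • P.root k = ∑ l, m l • P.root (a l)) :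
    ∃ l : Fin n, m l ≠ 0 ∧ 0 < P.pairing (a l) k ∧ P.root k - P.root (a l) ∈ Set.range P.root := by
  obtain ⟨l, hl, hp⟩ : ∃ l, m l ≠ 0 ∧ 0 < P.pairing (a l) k := by
    by_contra! H
    have h0 := congrArg (P.coroot' k) hk
    simp only [map_sum, map_nsmul, RootPairing.root_coroot'_eq_pairing,
      RootPairing.pairing_same, nsmul_eq_mul] at h0
    have : ∑ l, (m l : ℤ) * P.pairing (a l) k ≤ 0 := Finset.sum_nonpos fun l _ => by
      by_cases h : m l = 0
      · simp [h]
      · exact mul_nonpos_of_nonneg_of_nonpos (by positivity) (H l h)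
    have : (0 : ℤ) < (c : ℤ) * 2 := by positivity
    omega
  refine ⟨l, hl, hp, ?_⟩
  exact P.root_sub_root_mem_of_pairingIn_pos
    ((P.zero_lt_pairingIn_iff' ℤ).mp (by rwa [RootSys.pairingIn_int])) (hne l).symm

end Groth.Agent.S5489
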