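import Groth.Statements.S5491
import Groth.Agent.RootSys.Exists
import Groth.Agent.RootSys.Rho

set_option autoImplicit false
open RootD

namespace Groth.Agent.S5491

open Classical in
/-- With ρ^v the half-sum of the positive coroots, the order (height) of any root α relative to the
simple system equals (ρ^v, α); equivalently 2·height(α) = Σ_{β > 0} (β^v, α). -/
theorem result {ι M N : Type*} [AddCommGroup M] [AddCommGroup N]
    (P : RootPairing ι ℤ M N) [Finite ι] [Fintype ι] [P.IsReduced] (b : P.Base) (i : ι) :
    2 * b.height i = ∑ j, if b.IsPos j then P.pairing i j else 0 := by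
  have h := RootSys.two_mul_ht (RootSys.base_isSimpleSys b) i
  rw [← RootSys.base_height_eq] at h
  rw [h]
  refine Finset.sum_congr rfl fun j _ => ?_
  simp only [RootSys.pairingIn_int, RootSys.base_isPos_iff]

end Groth.Agent.S5491
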