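import Groth.Statements.S5492
import Groth.Agent.RootSys.Exists

set_option autoImplicit false
open RootD

namespace Groth.Agent.S5492

/-- Off-diagonal entries of the Cartan matrix of a system of simple roots are non-positive: (α^v, β) ≤ 0
for distinct simple roots α, β. -/
theorem result {ι M N : Type*} [AddCommGroup M] [AddCommGroup N]
    (P : RootPairing ι ℤ M N) [Finite ι] (Δ : Set ι) (hΔ : RootD.IsSimpleSys P Δ) (i j : ι)
    (hi : i ∈ Δ) (hj : j ∈ Δ) (hij : i ≠ j) : P.pairing j i ≤ 0 := by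
  by_contra! hpos
  have h : 0 < P.pairingIn ℤ j i := by rwa [RootSys.pairingIn_int]
  obtain ⟨k, hk⟩ := P.root_sub_root_mem_of_pairingIn_pos h (Ne.symm hij)
  rcases RootSys.pos_or_neg hΔ k with hp | hp
  · refine (RootSys.mem_simple_iff_not_sum hΔ (RootSys.simple_pos hΔ hj)).mp hj
      ⟨i, k, RootSys.simple_pos hΔ hi, hp, ?_⟩
    rw [hk]; abel
  · refine (RootSys.mem_simple_iff_not_sum hΔ (RootSys.simple_pos hΔ hi)).mp hi
      ⟨j, _, RootSys.simple_pos hΔ hj, hp, ?_⟩
    rw [RootSys.root_neg, hk]; abel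

end Groth.Agent.S5492
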