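import Groth.Statements.S5494
import Groth.Agent.RootSys.Criterion

set_option autoImplicit false
open RootD

namespace Groth.Agent.S5494

/-- If a system of simple roots has no partition into two non-empty orthogonal subsets, then any two
roots are linked by a chain of roots with consecutive members non-orthogonal. -/
theorem result {ι M N : Type*} [AddCommGroup M] [AddCommGroup N]
    (P : RootPairing ι ℤ M N) [Finite ι] (Δ : Set ι) (hΔ : RootD.IsSimpleSys P Δ)
    (hconn : ∀ Δ' : Set ι, Δ' ⊆ Δ → (∀ i ∈ Δ', ∀ j ∈ Δ \ Δ', P.IsOrthogonal i j) → Δ' = ∅ ∨ Δ' = Δ)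
    (i j : ι) : Relation.ReflTransGen (fun a b : ι => ¬ P.IsOrthogonal a b) i j := by
  set Rel := fun a b : ι => ¬ P.IsOrthogonal a b
  have symm : ∀ a b, Rel a b → Rel b a :=
    fun a b h h' => h h'.symm
  have hsymm : ∀ a b, Relation.ReflTransGen Rel a b → Relation.ReflTransGen Rel b a :=
    fun a b h => by
      induction h with
      | refl => exact Relation.ReflTransGen.refl
      | tail _ hbc ih => exact ih.head (symm _ _ hbc)
  have hsimple : ∀ a : ι, ∃ d ∈ Δ, Rel a d := by
    intro a
    have nz : ∀ b d, 0 < P.pairingIn ℤ b d → Rel b d := fun b d h h' => by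
      have := h'.1
      rw [RootSys.pairing_eq_cast] at this
      simp at this
      omega
    rcases RootSys.pos_or_neg hΔ a with h | h
    · obtain ⟨d, hd, _, _, hp⟩ := RootSys.exists_simple_pairing_pos hΔ h
      exact ⟨d, hd, nz a d hp⟩
    · obtain ⟨d, hd, _, _, hp⟩ := RootSys.exists_simple_pairing_pos hΔ h
      refine ⟨d, hd, fun h' => nz _ d hp ⟨?_, ?_⟩⟩
      · rw [RootPairing.pairing_reflectionPerm_self_left, h'.1, neg_zero]
      · rw [RootPairing.pairing_reflectionPerm_self_right, h'.2, neg_zero]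
  obtain ⟨a, ha, hia⟩ := hsimple i
  obtain ⟨b, hb, hjb⟩ := hsimple j
  have hab : Relation.ReflTransGen Rel a b := by
    rcases hconn {d | d ∈ Δ ∧ Relation.ReflTransGen Rel a d} (fun d hd => hd.1)
      (fun c hc d hd => by
        by_contra h
        exact hd.2 ⟨hd.1, hc.2.tail h⟩) with h | h
    · exact absurd (show a ∈ ({d | d ∈ Δ ∧ Relation.ReflTransGen Rel a d} : Set ι) from
        ⟨ha, Relation.ReflTransGen.refl⟩) (by rw [h]; simp)
    · exact (show b ∈ ({d | d ∈ Δ ∧ Relation.ReflTransGen Rel a d} : Set ι) by rw [h]; exact hb).2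
  exact (hab.head hia).tail (symm _ _ hjb)

end Groth.Agent.S5494
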