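import Groth.Statements.S5495
import Groth.Agent.RootSys.Basic

set_option autoImplicit false
open RootD

namespace Groth.Agent.S5495

/-- If α is an indivisible root and kα is a root for a rational k, then k is an integer. -/
theorem result {ι M N : Type*} [AddCommGroup M] [AddCommGroup N]
    (P : RootPairing ι ℤ M N) [Finite ι] (i j : ι) (hind : RootD.IsIndiv P i) (a b : ℤ) (hb : b ≠ 0)
    (h : b • P.root j = a • P.root i) : b ∣ a := by
  obtain ⟨c, _, _, hc⟩ := RootSys.indiv_proportional hind hb h
  exact ⟨c, hc⟩

end Groth.Agent.S5495
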