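-- statement RootD.GrothFrozen.S5496 (Groth/Statements/S5496.lean; the theorem RootD.card_closure_pair_reflection_eq);
import Groth.Statements.S5496
import Groth.Agent.RootSys.Basic

set_option autoImplicit false
open RootPairing
open scoped Pointwise
open RootD

namespace Groth.Agent.S5496

/-- For non-proportional roots α, β let n be the least integer n > 0 with (s_α s_β)^n(α) = α and (s_α
s_β)^n(β) = β. Then the subgroup W_{α,β} generated by s_α and s_β is presented by s_α² = s_β² = (s_α
s_β)^n = 1; equivalently it has exactly 2n elements. -/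
theorem result {ι M N : Type*} [AddCommGroup M] [AddCommGroup N]
    (P : RootPairing ι ℤ M N) [Finite ι] (i j : ι) (hli : LinearIndependent ℤ ![P.root i, P.root j])
    (n : ℕ) (hn : IsLeast {m : ℕ | 0 < m ∧ ((Equiv.reflection P i * Equiv.reflection P j) ^ m) • i = i ∧
      ((Equiv.reflection P i * Equiv.reflection P j) ^ m) • j = j} n) :
    Nat.card (Subgroup.closure ({Equiv.reflection P i, Equiv.reflection P j} : Set P.Aut)) = 2 * n := by
  classical
  have htf := RootSys.isTorsionFree_weight P
  set a := Equiv.reflection P i with ha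
  set b := Equiv.reflection P j with hb
  have haa : a * a = 1 := RootSys.reflection_mul_self i
  have hbb : b * b = 1 := RootSys.reflection_mul_self j
  have hai : a⁻¹ = a := inv_eq_of_mul_eq_one_right haa
  have hbi : b⁻¹ = b := inv_eq_of_mul_eq_one_right hbb
  have hrefl : ∀ (l : ι) (m : M), Equiv.reflection P l • m = m - P.coroot' l m • P.root l :=
    fun l m => rfl
  have hne : ∀ l : ι, Equiv.reflection P l ≠ 1 := fun l h => by
    have h1 : P.root (Equiv.reflection P l • l) = P.root ((1 : P.Aut) • l) := by rw [h]
    rw [RootSys.root_smul, RootSys.root_smul, one_smul, hrefl, RootPairing.root_coroot'_eq_pairing,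
      RootPairing.pairing_same, sub_eq_iff_eq_add, left_eq_add, smul_eq_zero] at h1
    have := RootSys.isTorsionFree_weight P
    exact h1.elim (by norm_num) (P.ne_zero l)
  -- kernel vectors are fixed
  have hker : ∀ (m : ℕ) (y : M), P.coroot' i y = 0 → P.coroot' j y = 0 → (a * b) ^ m • y = y := by
    intro m y h1 h2
    induction m with
    | zero => rw [pow_zero, one_smul]
    | succ m ih => rw [pow_succ, mul_smul, mul_smul, hb, hrefl j, h2, zero_smul, sub_zero, ha, hrefl i, h1, zero_smul, sub_zero, ← ha, ← hb, ih]
  have hD : 4 - P.pairing i j * P.pairing j i ≠ 0 := by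
    have := RootSys.isAddTorsionFree_weight P
    have h4 := P.coxeterWeight_ne_four_of_linearIndependent hli
    rw [RootPairing.coxeterWeight] at h4
    exact sub_ne_zero.mpr (Ne.symm h4)
  have hfix : ∀ m : ℕ, (a * b) ^ m • i = i → (a * b) ^ m • j = j → (a * b) ^ m = 1 := by
    intro m hi hj
    refine RootSys.aut_ext fun x => ?_
    rw [one_smul]
    obtain ⟨y, hy⟩ : ∃ y, y = (4 - P.pairing i j * P.pairing j i) • x
        - (2 * P.coroot' i x - P.pairing j i * P.coroot' j x) • P.root i
        - (2 * P.coroot' j x - P.pairing i j * P.coroot' i x) • P.root j := ⟨_, rfl⟩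
    have h1 : P.coroot' i y = 0 := by
      rw [hy, map_sub, map_sub, map_smul, map_smul, map_smul, RootPairing.root_coroot'_eq_pairing,
        RootPairing.root_coroot'_eq_pairing, RootPairing.pairing_same]
      simp only [smul_eq_mul]
      ring
    have h2 : P.coroot' j y = 0 := by
      rw [hy, map_sub, map_sub, map_smul, map_smul, map_smul, RootPairing.root_coroot'_eq_pairing,
        RootPairing.root_coroot'_eq_pairing, RootPairing.pairing_same]
      simp only [smul_eq_mul]
      ring
    have h3 := hker m y h1 h2
    rw [hy, RootSys.smul_sub', RootSys.smul_sub', RootSys.smul_smul', RootSys.smul_smul',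
      RootSys.smul_smul', ← RootSys.root_smul, ← RootSys.root_smul, hi, hj, sub_left_inj,
      sub_left_inj] at h3
    have := RootSys.isTorsionFree_weight P
    exact smul_right_injective M hD h3
  have hcn : (a * b) ^ n = 1 := hfix n hn.1.2.1 hn.1.2.2
  have hord : orderOf (a * b) = n := by
    rw [orderOf_eq_iff hn.1.1]
    exact ⟨hcn, fun m hm hm0 h => absurd (hn.2 ⟨hm0, by rw [h, one_smul], by rw [h, one_smul]⟩) (by omega)⟩
  set H := Subgroup.zpowers (a * b) with hH
  have hconj : ∀ h ∈ H, a * h * a = h⁻¹ := by
    intro h hh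
    obtain ⟨z, rfl⟩ := Subgroup.mem_zpowers_iff.mp hh
    have e : a * (a * b) * a⁻¹ = (a * b)⁻¹ := by
      rw [mul_inv_rev, hai, hbi, ← mul_assoc a a b, haa, one_mul]
    have e2 := conj_zpow (a := a) (b := a * b) (i := z)
    rw [e, inv_zpow, hai] at e2
    exact e2.symm
  have haH : a ∉ H := by
    intro h
    have h1 := hconj a h
    rw [haa, one_mul] at h1
    have h2 : b * a = a * b := by
      have := hconj _ (Subgroup.mem_zpowers (a * b))
      rw [mul_inv_rev, hai, hbi, ← mul_assoc a a b, haa, one_mul] at this
      obtain ⟨z, hz⟩ := Subgroup.mem_zpowers_iff.mp h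
      have hc : Commute a (a * b) := by
        have h4 := (Commute.refl (a * b)).zpow_left z
        rwa [hz] at h4
      have h3 : a * (a * b) = a * b * a := hc.eq
      rw [← mul_assoc, haa, one_mul] at h3
      calc b * a = a * b * a * a := by rw [← h3]
        _ = a * b := by rw [mul_assoc, haa, mul_one]
    have hsq : (a * b) ^ 2 = 1 := by
      rw [pow_two]
      calc a * b * (a * b) = a * (b * a) * b := by simp [mul_assoc]
        _ = a * (a * b) * b := by rw [h2]
        _ = (a * a) * (b * b) := by simp [mul_assoc]
        _ = 1 := by rw [haa, hbb, one_mul]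
    obtain ⟨z, hz⟩ := Subgroup.mem_zpowers_iff.mp h
    rcases Int.even_or_odd' z with ⟨w, rfl | rfl⟩
    · rw [zpow_mul, zpow_ofNat, hsq, one_zpow] at hz
      exact hne i hz.symm
    · rw [zpow_add, zpow_mul, zpow_ofNat, hsq, one_zpow, one_mul, zpow_one] at hz
      exact hne j (mul_eq_left.mp hz)
  set G := Subgroup.closure ({a, b} : Set P.Aut) with hG
  have haG : a ∈ G := Subgroup.subset_closure (by simp)
  have hbG : b ∈ G := Subgroup.subset_closure (by simp)
  have hHG : H ≤ G := (Subgroup.zpowers_le (g := a * b) (H := G)).mpr (mul_mem haG hbG)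
  have hcover : ∀ g ∈ G, g ∈ H ∨ a * g ∈ H := by
    intro g hg
    induction hg using Subgroup.closure_induction with
    | mem x hx =>
      rcases hx with rfl | rfl
      · exact Or.inr (haa ▸ one_mem H)
      · exact Or.inr (Subgroup.mem_zpowers _)
    | one => exact Or.inl (one_mem H)
    | mul x y _ _ hx hy =>
      rcases hx with hx | hx <;> rcases hy with hy | hy
      · exact Or.inl (mul_mem hx hy)
      · refine Or.inr ?_
        have : a * (x * y) = (a * x * a) * (a * y) := by simp only [mul_assoc]; rw [← mul_assoc a a, haa, one_mul]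
        rw [this, hconj x hx]
        exact mul_mem (inv_mem hx) hy
      · exact Or.inr (by rw [← mul_assoc]; exact mul_mem hx hy)
      · refine Or.inl ?_
        have : x * y = (a * (a * x) * a) * (a * y) := by
          simp only [mul_assoc]; rw [← mul_assoc a a, haa, one_mul, ← mul_assoc a a, haa, one_mul]
        rw [this, hconj _ hx]
        exact mul_mem (inv_mem hx) hy
    | inv x _ hx =>
      rcases hx with hx | hx
      · exact Or.inl (inv_mem hx)
      · refine Or.inr ?_
        have : a * x⁻¹ = a * (a * x)⁻¹ * a := by rw [mul_inv_rev, hai, mul_assoc, mul_assoc, haa, mul_one]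
        rw [this, hconj _ (inv_mem hx), inv_inv]
        exact hx
  let f : Bool × H → G := fun p =>
    if p.1 then ⟨a * p.2.1, mul_mem haG (hHG p.2.2)⟩ else ⟨p.2.1, hHG p.2.2⟩
  have hf : Function.Bijective f := by
    constructor
    · rintro ⟨e₁, x⟩ ⟨e₂, y⟩ he
      have he' := congrArg Subtype.val he
      cases e₁ <;> cases e₂
      · exact Prod.ext rfl (Subtype.ext he')
      · change x.1 = a * y.1 at he'
        exact absurd ((eq_mul_inv_of_mul_eq he'.symm) ▸ mul_mem x.2 (inv_mem y.2)) haH
      · change a * x.1 = y.1 at he'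
        exact absurd ((eq_mul_inv_of_mul_eq he') ▸ mul_mem y.2 (inv_mem x.2)) haH
      · exact Prod.ext rfl (Subtype.ext (mul_left_cancel (a := a) he'))
    · rintro ⟨g, hg⟩
      rcases hcover g hg with h | h
      · exact ⟨(false, ⟨g, h⟩), rfl⟩
      · exact ⟨(true, ⟨a * g, h⟩), Subtype.ext (show a * (a * g) = g by rw [← mul_assoc, haa, one_mul])⟩
  rw [← Nat.card_eq_of_bijective f hf, Nat.card_prod, Nat.card_eq_fintype_card (α := Bool),
    Fintype.card_bool, hH, Nat.card_zpowers, hord]

end Groth.Agent.S5496
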