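import Groth.Statements.S5499
import Groth.Agent.RootSys.Irred
import Groth.Agent.S5465

set_option autoImplicit false
open RootD

namespace Groth.Agent.S5499

/-- For an irreducible datum, where long(α) = ℓ(α)/ℓ(α₀) with ℓ(α₀) minimal: there is a unique
homomorphism u : Γ_0(R) → M^v with u(α) = long(α) α^v for every root α. -/
theorem result {ι M N : Type*} [AddCommGroup M] [AddCommGroup N]
    (P : RootPairing ι ℤ M N) [Finite ι] [Fintype ι]
    (hirr : ∀ R' : Set ι, RootD.IsClosedSub P R' → RootD.IsSymmSub P R' → RootD.IsClosedSub P R'ᶜ →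
      RootD.IsSymmSub P R'ᶜ → R' = ∅ ∨ R' = Set.univ)
    (i₀ : ι) (hmin : ∀ i : ι, P.RootForm (P.root i₀) (P.root i₀) ≤ P.RootForm (P.root i) (P.root i)) :
    ∃! u : Submodule.span ℤ (Set.range P.root) →+ N, ∀ i : ι,
      u ⟨P.root i, Submodule.subset_span (Set.mem_range_self i)⟩ =
        (P.RootForm (P.root i) (P.root i) / P.RootForm (P.root i₀) (P.root i₀)) • P.coroot i := by
  have pos := RootSys.rootForm_root_pos (P := P)
  have inj : ∀ (z : ℤ) (a b : N), z ≠ 0 → z • a = z • b → a = b := by
    intro z a b hz h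
    apply P.flip.toPerfPair.injective
    have h' := congrArg P.flip.toPerfPair h
    simp only [map_smul] at h'
    exact smul_right_injective _ hz h'
  have hf : ∀ i : ι, P.RootForm (P.root i₀) (P.root i₀) •
      ((P.RootForm (P.root i) (P.root i) / P.RootForm (P.root i₀) (P.root i₀)) • P.coroot i) =
      2 • P.Polarization (P.root i) := by
    intro i
    rw [smul_smul, Int.mul_ediv_cancel' (RootSys.min_dvd hirr hmin i),
      P.rootForm_self_smul_coroot]
  refine S5465.result P _ (fun i => ?_) (fun i j k h => ?_)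
  · apply inj _ _ _ (pos i₀).ne'
    rw [smul_neg, hf, hf, RootSys.root_neg, map_neg, smul_neg]
  · apply inj _ _ _ (pos i₀).ne'
    rw [smul_add, hf, hf, hf, h, map_add, smul_add]

end Groth.Agent.S5499
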