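import Groth.Statements.S5500
import Groth.Agent.RootSys.Irred

set_option autoImplicit false
open RootD

namespace Groth.Agent.S5500

/-- For a p-morphism between irreducible reduced root data there is a rational constant k with k ·
long(u(α)) = q(α)² · long(α) for every root α; stated as the proportionality q(α)² ℓ(α) ℓ'(u β) =
q(β)² ℓ(β) ℓ'(u α) of the canonical quadratic forms. -/
theorem result {ι M N ι' M' N' : Type*} [AddCommGroup M] [AddCommGroup N] [AddCommGroup M'] [AddCommGroup N']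
    (P : RootPairing ι ℤ M N) (P' : RootPairing ι' ℤ M' N') [Finite ι] [Finite ι'] [Fintype ι] [Fintype ι'] [P.IsReduced] [P'.IsReduced]
    (hirr : ∀ R₁ : Set ι, RootD.IsClosedSub P R₁ → RootD.IsSymmSub P R₁ → RootD.IsClosedSub P R₁ᶜ →
      RootD.IsSymmSub P R₁ᶜ → R₁ = ∅ ∨ R₁ = Set.univ)
    (hirr' : ∀ R₁ : Set ι', RootD.IsClosedSub P' R₁ → RootD.IsSymmSub P' R₁ → RootD.IsClosedSub P' R₁ᶜ →
      RootD.IsSymmSub P' R₁ᶜ → R₁ = ∅ ∨ R₁ = Set.univ)
    (p : ℕ) (hp : 0 < p) (f : M' →ₗ[ℤ] M) (g : N →ₗ[ℤ] N')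
    (hfg : ∀ (m' : M') (n : N), P.toLinearMap (f m') n = P'.toLinearMap m' (g n))
    (u : ι ≃ ι') (q : ι → ℕ) (hq : ∀ i, ∃ e : ℕ, q i = p ^ e)
    (hroot : ∀ i : ι, f (P'.root (u i)) = (q i : ℤ) • P.root i)
    (hcoroot : ∀ i : ι, g (P.coroot i) = (q i : ℤ) • P'.coroot (u i)) (i j : ι) :
    ((q i : ℤ) ^ 2 * P.RootForm (P.root i) (P.root i)) * P'.RootForm (P'.root (u j)) (P'.root (u j)) =
      ((q j : ℤ) ^ 2 * P.RootForm (P.root j) (P.root j)) * P'.RootForm (P'.root (u i)) (P'.root (u i)) := by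
  have pos := RootSys.rootForm_root_pos (P := P')
  have hrel : ∀ a b : ι, (q a : ℤ) * P.pairing a b = (q b : ℤ) * P'.pairing (u a) (u b) := by
    intro a b
    have h := hfg (P'.root (u a)) (P.coroot b)
    rw [hroot, hcoroot, map_smul, LinearMap.smul_apply, map_smul, smul_eq_mul, smul_eq_mul,
      P.root_coroot_eq_pairing, P'.root_coroot_eq_pairing] at h
    exact h
  induction RootSys.component_eq_univ hirr i j with
  | refl => rfl
  | @tail a b _ hab ih =>
    have e1 := hrel a b
    have e2 := hrel b a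
    have h1 := P.toInvariantForm.pairing_mul_eq_pairing_mul_swap a b
    have h2 := P'.toInvariantForm.pairing_mul_eq_pairing_mul_swap (u a) (u b)
    simp only [RootPairing.toInvariantForm_form] at h1 h2
    have h0 : P.pairing a b ≠ 0 := fun h => hab ⟨h, P.pairing_eq_zero_iff'.mp h⟩
    have hb : ((q a : ℤ) ^ 2 * P.RootForm (P.root a) (P.root a)) *
          P'.RootForm (P'.root (u b)) (P'.root (u b)) =
        ((q b : ℤ) ^ 2 * P.RootForm (P.root b) (P.root b)) *
          P'.RootForm (P'.root (u a)) (P'.root (u a)) := by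
      apply mul_left_cancel₀ h0
      linear_combination ((q a : ℤ) * P.RootForm (P.root a) (P.root a) *
          P'.RootForm (P'.root (u b)) (P'.root (u b))) * e1 -
        ((q b : ℤ) * P.RootForm (P.root a) (P.root a) *
          P'.RootForm (P'.root (u a)) (P'.root (u a))) * e2 -
        ((q a : ℤ) * (q b : ℤ) * P.RootForm (P.root a) (P.root a)) * h2 +
        ((q b : ℤ) ^ 2 * P'.RootForm (P'.root (u a)) (P'.root (u a))) * h1
    apply mul_left_cancel₀ (pos (u a)).ne'
    linear_combination (P'.RootForm (P'.root (u b)) (P'.root (u b))) * ih +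
      (P'.RootForm (P'.root (u i)) (P'.root (u i))) * hb

end Groth.Agent.S5500
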