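import Groth.Statements.S5501
import Groth.Agent.RootSys.Basic
import Mathlib.GroupTheory.FiniteAbelian.Basic

set_option autoImplicit false
universe u v w
open RootD

namespace Groth.Agent.S5501

/-- Adjoint case; the simply connected case is dual: a semisimple root datum R is adjoint if and only if
every isogeny R' → R is an isomorphism. -/
theorem result {ι : Type u} {M : Type v} {N : Type w} [AddCommGroup M] [AddCommGroup N]
    (P : RootPairing ι ℤ M N) [Finite ι] [Module.Finite ℤ M] [Module.Finite ℤ N]
    (hss : Module.finrank ℤ (Submodule.span ℤ (Set.range P.root)) = Module.finrank ℤ M) :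
    Submodule.span ℤ (Set.range P.root) = ⊤ ↔
      ∀ (ι' : Type u) (M' N' : Type v) [AddCommGroup M'] [AddCommGroup N'] [Finite ι']
        [Module.Finite ℤ M'] [Module.Finite ℤ N'] (P' : RootPairing ι' ℤ M' N') (f : RootPairing.Hom P' P),
        Function.Injective f.weightMap → Finite (M ⧸ LinearMap.range f.weightMap) →
          Function.Bijective f.weightMap := by
  have tf := RootSys.isAddTorsionFree_weight P
  constructor
  · intro had ι' M' N' _ _ _ _ _ P' f hf _
    refine ⟨hf, fun x => ?_⟩
    have hsub : Submodule.span ℤ (Set.range P.root) ≤ LinearMap.range f.weightMap := by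
      refine Submodule.span_le.mpr ?_
      rintro _ ⟨i, rfl⟩
      exact ⟨P'.root (f.indexEquiv.symm i), by
        rw [RootPairing.Hom.root_weightMap_apply, Equiv.apply_symm_apply]⟩
    exact hsub (by rw [had]; trivial)
  · intro h
    set S := Submodule.span ℤ (Set.range P.root) with hS
    have := Module.free_of_finite_type_torsion_free' (R := ℤ) (M := S)
    have : Module.IsReflexive ℤ S := inferInstance
    have hmem : ∀ i, P.root i ∈ S := fun i => Submodule.subset_span (Set.mem_range_self i)
    let r : ι ↪ S := ⟨fun i => ⟨P.root i, hmem i⟩,
      fun a b hab => P.root.injective (congrArg Subtype.val hab)⟩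
    let φ : N →ₗ[ℤ] Module.Dual ℤ S := S.subtype.dualMap ∘ₗ P.toLinearMap.flip
    have hφ : ∀ n (x : S), φ n x = P.toLinearMap x n := fun n x => rfl
    let c : ι ↪ Module.Dual ℤ S := ⟨fun i => φ (P.coroot i), fun a b hab => by
      refine P.coroot.injective (sub_eq_zero.mp ?_)
      refine RootSys.eq_zero_of_forall_coroot'_eq_zero (P := P.flip)
        (sub_mem (Submodule.subset_span (Set.mem_range_self a))
          (Submodule.subset_span (Set.mem_range_self b))) fun j => ?_
      rw [map_sub, sub_eq_zero]
      exact congrArg (fun F : Module.Dual ℤ S => F ⟨P.root j, hmem j⟩) hab⟩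
    let P' : RootPairing ι ℤ S (Module.Dual ℤ S) :=
      { toLinearMap := Module.Dual.eval ℤ S
        root := r
        coroot := c
        root_coroot_two := fun i => P.root_coroot_two i
        reflectionPerm := P.reflectionPerm
        reflectionPerm_root := fun i j => Subtype.ext (P.reflectionPerm_root i j)
        reflectionPerm_coroot := fun i j => by
          change φ (P.coroot j) - P.toLinearMap (P.root i) (P.coroot j) • φ (P.coroot i) = _
          rw [← map_smul, ← map_sub, P.reflectionPerm_coroot]
          rfl }
    let f : RootPairing.Hom P' P :=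
      { weightMap := S.subtype
        coweightMap := φ
        indexEquiv := Equiv.refl ι
        weight_coweight_transpose := by ext n x; rfl
        root_weightMap := rfl
        coroot_coweightMap := rfl }
    have hfin : Finite (M ⧸ LinearMap.range f.weightMap) := by
      refine Module.finite_of_fg_torsion _ fun q => ?_
      induction q using Submodule.Quotient.induction_on with
      | H x =>
        have h0 : Module.finrank ℤ (M ⧸ S) = 0 := by
          have := S.finrank_quotient_add_finrank
          omega
        obtain ⟨a, ha, hax⟩ := Module.finrank_eq_zero_iff.mp h0 (Submodule.Quotient.mk x)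
        refine ⟨⟨a, mem_nonZeroDivisors_of_ne_zero ha⟩, ?_⟩
        rw [Submonoid.mk_smul, ← Submodule.Quotient.mk_smul, Submodule.Quotient.mk_eq_zero]
        rw [← Submodule.Quotient.mk_smul, Submodule.Quotient.mk_eq_zero] at hax
        exact ⟨⟨_, hax⟩, rfl⟩
    obtain ⟨-, hsur⟩ := h ι S (Module.Dual ℤ S) P' f S.injective_subtype hfin
    rw [eq_top_iff]
    intro x _
    obtain ⟨y, rfl⟩ := hsur x
    exact y.2

end Groth.Agent.S5501
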