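import Groth.Statements.S5502
import Groth.Agent.RootSys.Sub

set_option autoImplicit false
open RootD

namespace Groth.Agent.S5502

/-- If β = Σ_{α ∈ Δ} a_α α along a system of simple roots Δ, then ℓ(β) divides 2 a_α ℓ(α), and 2ℓ(β)
divides it when α^v is indivisible (ℓ the canonical quadratic form). -/
theorem result {ι M N : Type*} [AddCommGroup M] [AddCommGroup N]
    (P : RootPairing ι ℤ M N) [Finite ι] [Fintype ι] (Δ : Set ι) (hΔ : RootD.IsSimpleSys P Δ)
    (k : ι) (c : ι →₀ ℤ) (hc : ↑c.support ⊆ Δ) (hck : Finsupp.linearCombination ℤ P.root c = P.root k)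
    (i : ι) (hi : i ∈ Δ) :
    P.RootForm (P.root k) (P.root k) ∣ 2 * c i * P.RootForm (P.root i) (P.root i) ∧
      (RootD.IsIndiv P.flip i → 2 * P.RootForm (P.root k) (P.root k) ∣ 2 * c i * P.RootForm (P.root i) (P.root i)) := by
  classical
  obtain ⟨Δ', hΔ', hE⟩ := RootSys.exists_simple_coroot hΔ
  obtain rfl := RootSys.coef_eq hΔ hc hck
  have hex : ∀ l ∈ Δ, ∃ e ∈ Δ', ∃ t : ℤ, (t = 1 ∨ t = 2) ∧ P.coroot l = t • P.coroot e ∧
      (RootD.IsIndiv P.flip l → t = 1) := by
    intro l hl
    by_cases hind : RootD.IsIndiv P.flip l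
    · refine ⟨l, ?_, 1, Or.inl rfl, (one_smul _ _).symm, fun _ => rfl⟩
      rw [hE]
      exact ⟨l, hl, Or.inl ⟨rfl, hind⟩⟩
    · obtain ⟨j, hj⟩ : ∃ j, (2 : ℤ) • P.coroot j = P.coroot l := by
        by_contra! hh
        exact hind (RootSys.isIndiv_iff.mpr hh)
      refine ⟨j, ?_, 2, Or.inr rfl, hj.symm, fun h => absurd h hind⟩
      rw [hE]
      exact ⟨l, hl, Or.inr hj⟩
  choose! e heE t ht he htind using hex
  have hexp : P.RootForm (P.root k) (P.root k) • P.flip.root k =
      ∑ l ∈ (RootSys.coef hΔ k).support,
        (RootSys.coef hΔ k l * P.RootForm (P.root l) (P.root l) * t l) • P.flip.root (e l) := by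
    refine (RootSys.coroot_expansion hΔ k).trans (Finset.sum_congr rfl fun l hl => ?_)
    rw [mul_smul _ (t l), he l (RootSys.coef_support hΔ k hl)]
    rfl
  have hinj : ∀ a ∈ Δ, ∀ b ∈ Δ, e a = e b → a = b := by
    intro a ha b hb hab
    have h1 : t b • P.coroot a = t a • P.coroot b := by
      rw [he a ha, he b hb, hab, smul_comm]
    have h2 : ¬ (a ≠ b) := fun hne => by
      have h3 := P.rootForm_self_smul_coroot a
      have h4 := P.rootForm_self_smul_coroot b
      have hlin : (2 * t b * P.RootForm (P.root b) (P.root b)) • P.root a -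
          (2 * t a * P.RootForm (P.root a) (P.root a)) • P.root b = 0 := by
        refine P.eq_zero_of_mem_rootSpan_of_rootForm_self_eq_zero
          (sub_mem (Submodule.smul_mem _ _ (Submodule.subset_span (Set.mem_range_self _)))
            (Submodule.smul_mem _ _ (Submodule.subset_span (Set.mem_range_self _)))) ?_
        rw [← P.toLinearMap_apply_apply_Polarization]
        have : P.Polarization ((2 * t b * P.RootForm (P.root b) (P.root b)) • P.root a -
            (2 * t a * P.RootForm (P.root a) (P.root a)) • P.root b) = 0 := by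
          set la := P.RootForm (P.root a) (P.root a)
          set lb := P.RootForm (P.root b) (P.root b)
          rw [map_sub, map_zsmul, map_zsmul]
          have e1 : (2 * t b * lb) • P.Polarization (P.root a) = (t b * lb * la) • P.coroot a := by
            rw [mul_smul (t b * lb) la, h3, ← natCast_zsmul, smul_smul]
            congr 1; push_cast; ring
          have e2 : (2 * t a * la) • P.Polarization (P.root b) = (t a * la * lb) • P.coroot b := by
            rw [mul_smul (t a * la) lb, h4, ← natCast_zsmul, smul_smul]
            congr 1; push_cast; ring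
          rw [e1, e2, sub_eq_zero,
            show t b * lb * la = (lb * la) * t b by ring, show t a * la * lb = (lb * la) * t a by ring,
            mul_smul (lb * la), mul_smul (lb * la), h1]
        rw [this, map_zero]
      have hco := RootSys.rep_unique hΔ (c := Finsupp.single a (2 * t b * P.RootForm (P.root b) (P.root b)))
        (d := Finsupp.single b (2 * t a * P.RootForm (P.root a) (P.root a)))
        (fun l hl => Finset.mem_singleton.mp (Finsupp.support_single_subset hl) ▸ ha)
        (fun l hl => Finset.mem_singleton.mp (Finsupp.support_single_subset hl) ▸ hb)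
        (by rw [Finsupp.linearCombination_single, Finsupp.linearCombination_single]; exact sub_eq_zero.mp hlin)
      have := congrArg (fun g : ι →₀ ℤ => g a) hco
      simp only [Finsupp.single_eq_same, Finsupp.single_eq_of_ne hne] at this
      rcases ht b hb with h | h <;> rw [h] at this <;>
        linarith [RootSys.rootForm_root_pos (P := P) b]
    exact not_not.mp h2
  have hmain : P.RootForm (P.root k) (P.root k) ∣
      RootSys.coef hΔ k i * P.RootForm (P.root i) (P.root i) * t i := by
    by_cases hci : RootSys.coef hΔ k i = 0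
    · simp [hci]
    refine ⟨RootSys.coef hΔ' k (e i), ?_⟩
    have h0 := congrArg (fun g : ι →₀ ℤ => g (e i))
      (RootSys.coef_sum_lc hΔ' (RootSys.coef hΔ k).support e _ hexp)
    simp only [Finsupp.smul_apply, smul_eq_mul, Finsupp.finsetSum_apply] at h0
    rw [h0, Finset.sum_eq_single i]
    · rw [RootSys.coef_simple hΔ' (heE i hi), Finsupp.single_eq_same, mul_one]
    · intro l hl hne
      rw [RootSys.coef_simple hΔ' (heE l (RootSys.coef_support hΔ k hl)), Finsupp.single_eq_of_ne
        (fun h => hne (hinj l (RootSys.coef_support hΔ k hl) i hi h.symm) : e i ≠ e l), mul_zero]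
    · exact fun h => absurd (Finsupp.mem_support_iff.mpr hci) h
  refine ⟨?_, fun hind => ?_⟩
  · rcases ht i hi with h | h
    · rw [h, mul_one] at hmain
      exact hmain.trans ⟨2, by ring⟩
    · rw [h] at hmain
      exact hmain.trans ⟨1, by ring⟩
  · rw [htind i hi hind, mul_one] at hmain
    rw [mul_assoc (2 : ℤ)]
    exact mul_dvd_mul_left 2 hmain

end Groth.Agent.S5502
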