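import Groth.Statements.S5506
import Groth.Agent.RootSys.Criterion

set_option autoImplicit false
open RootD

namespace Groth.Agent.S5506

/-- The class of a root under 'joined by a chain of pairwise non-orthogonal roots' is closed and
symmetric, and so is its complement; these classes are the irreducible components. -/
theorem result {ι M N : Type*} [AddCommGroup M] [AddCommGroup N]
    (P : RootPairing ι ℤ M N) [Finite ι] (i : ι) :
    RootD.IsClosedSub P {j : ι | Relation.ReflTransGen (fun a b : ι => ¬ P.IsOrthogonal a b) i j} ∧
      RootD.IsSymmSub P {j : ι | Relation.ReflTransGen (fun a b : ι => ¬ P.IsOrthogonal a b) i j} ∧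
      RootD.IsClosedSub P {j : ι | Relation.ReflTransGen (fun a b : ι => ¬ P.IsOrthogonal a b) i j}ᶜ ∧
      RootD.IsSymmSub P {j : ι | Relation.ReflTransGen (fun a b : ι => ¬ P.IsOrthogonal a b) i j}ᶜ := by
  set C := {j : ι | Relation.ReflTransGen (fun a b : ι => ¬ P.IsOrthogonal a b) i j}
  have step : ∀ a b, a ∈ C → ¬ P.IsOrthogonal a b → b ∈ C := fun a b ha hab => ha.tail hab
  have symm : ∀ a b, ¬ P.IsOrthogonal a b → ¬ P.IsOrthogonal b a :=
    fun a b h h' => h h'.symm
  have key : ∀ a b k, P.root k = P.root a + P.root b →
      ¬ P.IsOrthogonal a k ∨ ¬ P.IsOrthogonal b k := by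
    intro a b k h
    by_contra! hh
    have := P.pairing_eq_add_of_root_eq_add (l := k) h
    rw [hh.1.1, hh.2.1, RootPairing.pairing_same] at this
    simp at this
  have kneg : ∀ a : ι, ¬ P.IsOrthogonal a (P.reflectionPerm a a) := by
    intro a h
    have := h.2
    rw [RootPairing.pairing_reflectionPerm_self_left, RootPairing.pairing_same] at this
    simp at this
  refine ⟨fun a b k ha hb h => ?_, fun a ha => step a _ ha (kneg a), fun a b k ha hb h hk => ?_,
    fun a ha hk => ha (step _ _ hk (symm _ _ (kneg a)))⟩
  · rcases key a b k h with h' | h'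
    exacts [step a k ha h', step b k hb h']
  · rcases key a b k h with h' | h'
    exacts [ha (step k a hk (symm _ _ h')), hb (step k b hk (symm _ _ h'))]

end Groth.Agent.S5506
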