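import Groth.Statements.S5507
import Groth.Agent.RootSys.Functional

set_option autoImplicit false
open RootD

namespace Groth.Agent.S5507

/-- For a system of simple roots Δ there are positive integers m_α (the lengths) such that the matrix
(m_α a_{α,β}) with a_{α,β} = (α^v, β) is symmetric and positive definite. -/
theorem result {ι M N : Type*} [AddCommGroup M] [AddCommGroup N]
    (P : RootPairing ι ℤ M N) [Finite ι] (Δ : Finset ι) (hΔ : RootD.IsSimpleSys P (↑Δ : Set ι)) :
    ∃ m : ↥Δ → ℤ, (∀ a, 0 < m a) ∧
      (Matrix.of fun (a b : ↥Δ) => m a * P.pairing (b : ι) (a : ι)).IsSymm ∧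
      (Matrix.of fun (a b : ↥Δ) => m a * P.pairing (b : ι) (a : ι)).PosDef := by
  classical
  have := Fintype.ofFinite ι
  have hG := RootSys.gram_posDef (P := P) (s := Δ) hΔ.linInd
  have hscale : (Matrix.of fun (a b : ↥Δ) => P.RootForm (P.root a) (P.root a) *
      P.pairing (b : ι) (a : ι)) = (2 : ℤ) • RootSys.gram P Δ := by
    ext a b
    rw [Matrix.smul_apply, smul_eq_mul]
    change _ = 2 * P.RootForm (P.root a) (P.root b)
    rw [show P.RootForm (P.root a) (P.root b) = P.RootForm (P.root b) (P.root a) from
      P.rootForm_symmetric.eq _ _]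
    exact (mul_comm _ _).trans (P.toInvariantForm.two_mul_apply_root_root b a).symm
  refine ⟨fun a => P.RootForm (P.root a) (P.root a), fun a => RootSys.rootForm_root_pos _, ?_, ?_⟩
  · rw [hscale]; exact (RootSys.gram_isSymm Δ).smul 2
  · rw [hscale]
    refine Matrix.PosDef.of_dotProduct_mulVec_pos ?_ fun x hx => ?_
    · exact (Matrix.conjTranspose_eq_transpose_of_trivial _).trans
        ((RootSys.gram_isSymm Δ).smul 2).eq
    · rw [Matrix.smul_mulVec, dotProduct_smul, smul_eq_mul]
      exact mul_pos two_pos (hG.dotProduct_mulVec_pos hx)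

end Groth.Agent.S5507
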