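import Groth.Statements.S5588
import Groth.Agent.QCTopos.Presented
import Groth.Agent.QCTopos.Algebraic

set_option autoImplicit false
open CategoryTheory CategoryTheory.Limits Opposite
universe u
open ToposFin

namespace Groth.Agent.S5588

/-- (ii) implies (i), for the topos of sheaves of sets on a small site: let S be an isomorphism-closed
generating set of quasi-compact objects, stable under finite colimits and under fibre products. Then
S is the set of all coherent objects (so the topos is locally coherent), and every object X for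
which Hom(X, -) commutes with small filtered colimits is coherent. -/
theorem result {C : Type u} [SmallCategory C]
    {J : GrothendieckTopology C} (S : Set (ToposFin.Sh J)) (hqc : ∀ K ∈ S, ToposFin.IsQC K)
    (hiso : ∀ ⦃K L : ToposFin.Sh J⦄, K ∈ S → Nonempty (K ≅ L) → L ∈ S)
    (hgen : ToposFin.IsGenerating S) (hpb : ToposFin.ClosedUnderPullbacks S)
    (hcolim : ∀ (K : Type) [SmallCategory K] [FinCategory K] (D : K ⥤ ToposFin.Sh J),
      (∀ k, D.obj k ∈ S) → colimit D ∈ S) :
    (∀ X : ToposFin.Sh J, X ∈ S ↔ ToposFin.IsCoherent X) ∧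
    (∀ X : ToposFin.Sh J, ToposFin.IsFP X → ToposFin.IsCoherent X) := by
  have hcoh : ∀ K ∈ S, ToposFin.IsCoherent K := fun K hK => Groth.Agent.QCTopos.coherent_member hgen hqc hpb hK
  have hmem := Groth.Agent.QCTopos.mem_iff_coherent hqc hiso (Groth.Agent.QCTopos.gen_of_isGenerating hgen) hcoh hcolim
  refine ⟨hmem, ?_⟩
  have hE : ToposFin.HasCoherentGenerators J := fun X => by
    obtain ⟨ι, F, π, hF, hπ⟩ := hgen X
    exact ⟨ι, F, π, fun i => hcoh _ (hF i), (Groth.Agent.QCTopos.epi_desc_iff π).2 hπ⟩
  refine (Groth.Agent.QCTopos.coherent_coequalizer_iff hE).1 (fun X₀ X₁ a b h₀ h₁ => (hmem _).1 ?_)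
  refine hcolim CategoryTheory.Limits.WalkingParallelPair _ (fun k => ?_)
  cases k
  · exact (hmem X₁).2 h₁
  · exact (hmem X₀).2 h₀

end Groth.Agent.S5588
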