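import Groth.Statements.S5592
import Groth.Agent.EtShSet.SepClosed

set_option autoImplicit false
open CategoryTheory CategoryTheory.Limits AlgebraicGeometry Opposite
universe u
open EtDesc

namespace Groth.Agent.S5592

/-- Let k' be a separably closed extension field of a separably closed field k and u : Spec k' -> Spec k
the canonical morphism. Then the inverse image functor u^* from etale sheaves of sets on Spec k to
etale sheaves of sets on Spec k' is an equivalence of categories. -/
theorem result (k k' : Type u) [Field k] [IsSepClosed k]
    [Field k'] [IsSepClosed k'] [Algebra k k'] :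
    (EtDesc.pullSh (Spec.map (CommRingCat.ofHom (algebraMap k k')))).IsEquivalence := by
  let f : Spec (CommRingCat.of k') ⟶ Spec (CommRingCat.of k) := Spec.map (CommRingCat.ofHom (algebraMap k k'))
  haveI : Subsingleton (Spec (CommRingCat.of k) : Scheme.{u}) := inferInstanceAs (Subsingleton (PrimeSpectrum k))
  haveI : Subsingleton (Spec (CommRingCat.of k') : Scheme.{u}) := inferInstanceAs (Subsingleton (PrimeSpectrum k'))
  haveI : IsSepClosed (IsLocalRing.ResidueField k) :=
    IsSepClosed.of_exists_root _ fun p hp hirr hsep => by
      let e : k ≃+* IsLocalRing.ResidueField k := RingEquiv.ofBijective (IsLocalRing.residue k)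
        ⟨(IsLocalRing.residue k).injective, Ideal.Quotient.mk_surjective⟩
      have hr := IsSepClosed.exists_root (p.map e.symm.toRingHom) (by rw [Polynomial.degree_map]; exact hirr.degree_pos.ne') ((Polynomial.separable_map _).2 hsep)
      obtain ⟨z, hz⟩ := hr
      refine ⟨e z, ?_⟩
      have := hz.map (f := e.toRingHom)
      simpa [Polynomial.map_map] using this
  haveI : IsSepClosed (IsLocalRing.ResidueField k') :=
    IsSepClosed.of_exists_root _ fun p hp hirr hsep => by
      let e : k' ≃+* IsLocalRing.ResidueField k' := RingEquiv.ofBijective (IsLocalRing.residue k')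
        ⟨(IsLocalRing.residue k').injective, Ideal.Quotient.mk_surjective⟩
      have hr := IsSepClosed.exists_root (p.map e.symm.toRingHom) (by rw [Polynomial.degree_map]; exact hirr.degree_pos.ne') ((Polynomial.separable_map _).2 hsep)
      obtain ⟨z, hz⟩ := hr
      refine ⟨e z, ?_⟩
      have := hz.map (f := e.toRingHom)
      simpa [Polynomial.map_map] using this
  haveI h1 := Groth.Agent.EtShSet.sections_isEquivalence k (fun x => Subsingleton.elim _ _)
  haveI h2 := Groth.Agent.EtShSet.sections_isEquivalence k' (fun x => Subsingleton.elim _ _)
  let e : EtDesc.pushSh f ⋙ (sheafSections (Spec (CommRingCat.of k)).smallEtaleTopology (Type (u + 1))).obj (op (EtCoh.top _)) ≅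
      (sheafSections (Spec (CommRingCat.of k')).smallEtaleTopology (Type (u + 1))).obj (op (EtCoh.top _)) :=
    NatIso.ofComponents (fun G => G.obj.mapIso (EtCore.bcTopIso f).symm.op) (fun {G G'} a => (a.hom.naturality _).symm)
  haveI : (EtDesc.pushSh f ⋙ (sheafSections (Spec (CommRingCat.of k)).smallEtaleTopology (Type (u + 1))).obj (op (EtCoh.top _))).IsEquivalence :=
    Functor.isEquivalence_of_iso e.symm
  haveI : (EtDesc.pushSh f).IsEquivalence := Functor.isEquivalence_of_comp_right _
    ((sheafSections (Spec (CommRingCat.of k)).smallEtaleTopology (Type (u + 1))).obj (op (EtCoh.top _)))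
  exact (EtDesc.adjSh f).isEquivalence_left_of_isEquivalence_right

end Groth.Agent.S5592
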