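import Groth.Statements.S5602
import Mathlib.Algebra.Homology.Augment
import Mathlib.Algebra.Homology.ShortComplex.HomologicalComplex
import Mathlib.Algebra.Homology.ShortComplex.Exact

set_option autoImplicit false
universe w v u
open CategoryTheory CategoryTheory.Limits
open PCoh

namespace Groth.Agent.S5602

/-- Let C be an abelian category and C₀ a class of objects, closed under isomorphisms and quasi-stable
under kernels of epimorphisms. If E is strictly n-pseudo-coherent (bounded above, terms in C₀ from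
degree n on) and H^i(E) = 0 for i > n, then H^n(E) is of C₀-finite type. -/
theorem result {C : Type u} [Category.{v} C] [Abelian C]
    (P : ObjectProperty C) [P.IsClosedUnderIsomorphisms] (hqs : PCoh.IsQuasiStableUnderKernels P)
    (n : ℤ) (E : CochainComplex C ℤ) (hE : PCoh.IsStrictPC P n E)
    (hac : ∀ i : ℤ, n < i → IsZero (E.homology i)) :
    PCoh.IsOfFiniteType P (E.homology n) := by
  obtain ⟨⟨b, hb⟩, hP⟩ := hE
  let T : CochainComplex C ℕ := CochainComplex.of (fun j : ℕ => E.X (n + j))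
    (fun j => E.d (n + j) (n + (j + 1 : ℕ))) (fun j => E.d_comp_d _ _ _)
  have hT : ∀ j : ℕ, T.d j (j + 1) = E.d (n + j) (n + (j + 1 : ℕ)) := fun j => by
    simp [T, CochainComplex.of_d]
  let ι : E.cycles n ⟶ E.X (n + (0 : ℕ)) := E.iCycles n ≫ eqToHom (by simp)
  have hn : ∀ m (h : n = m) (k : ℤ), (E.iCycles n ≫ eqToHom (by rw [h]) : E.cycles n ⟶ E.X m) ≫ E.d m k = 0 := by
    rintro m rfl k; simp
  let K := CochainComplex.augment T ι (by rw [hT]; exact hn _ (by simp) _)
  have hex : ∀ i : ℕ, K.ExactAt i := by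
    intro i
    rcases i with _ | _ | j
    · rw [HomologicalComplex.exactAt_iff' K 0 0 1 (by simp) (by simp)]
      refine (ShortComplex.exact_iff_mono _ (K.shape 0 0 (by simp))).2 ?_
      show Mono (E.iCycles n ≫ eqToHom _)
      infer_instance
    · rw [HomologicalComplex.exactAt_iff' K 0 1 2 (by simp) (by simp)]
      refine ShortComplex.exact_of_f_is_kernel _ ?_
      have key : ∀ m (h : n = m) (k : ℤ), m + 1 = k →
          Nonempty (IsLimit (KernelFork.ofι (f := E.d m k) (E.iCycles n ≫ eqToHom (by rw [h]) : E.cycles n ⟶ E.X m)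
            (hn m h k))) := by
        rintro m rfl k hk
        exact ⟨IsLimit.ofIsoLimit (E.cyclesIsKernel n k (by simp [CochainComplex.next, hk]))
          (Fork.ext (Iso.refl _) (by simp))⟩
      have hk := (key (n + (0 : ℕ)) (by simp) (n + (0 + 1 : ℕ)) (by simp)).some
      exact KernelFork.isLimitOfIsLimitOfIff' hk _ (fun W φ => by rw [← hT 0]; rfl)
    · rw [HomologicalComplex.exactAt_iff' K (j + 1) (j + 2) (j + 3) (by simp) (by simp)]
      have h2 : E.ExactAt (n + (j + 1 : ℕ)) := (E.exactAt_iff_isZero_homology _).2 (hac _ (by omega))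
      rw [HomologicalComplex.exactAt_iff' E (n + j) (n + (j + 1 : ℕ)) (n + (j + 1 + 1 : ℕ))
        (by simp [CochainComplex.prev]; omega) (by simp [CochainComplex.next]; omega)] at h2
      refine (ShortComplex.exact_iff_of_iso (ShortComplex.isoMk (Iso.refl _) (Iso.refl _) (Iso.refl _) ?_ ?_ :
        K.sc' (j + 1) (j + 2) (j + 3) ≅ E.sc' (n + j) (n + (j + 1 : ℕ)) (n + (j + 1 + 1 : ℕ)))).2 h2
      · exact ((Category.id_comp _).trans ((hT j).symm.trans (Category.comp_id _).symm))
      · exact ((Category.id_comp _).trans ((hT (j + 1)).symm.trans (Category.comp_id _).symm))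
  have hbd : ∀ i : ℕ, (b - n).toNat + 1 < i → IsZero (K.X i) := fun i hi => by
    obtain ⟨j, rfl⟩ : ∃ j, i = j + 1 := ⟨i - 1, by omega⟩
    exact hb _ (by omega)
  have hPK : ∀ i : ℕ, 1 ≤ i → P (K.X i) := fun i hi => by
    obtain ⟨j, rfl⟩ : ∃ j, i = j + 1 := ⟨i - 1, by omega⟩
    exact hP _ (by omega)
  obtain ⟨F, π, hF, hπ⟩ := hqs K hex ⟨_, hbd⟩ hPK
  exact ⟨F, (π : F ⟶ E.cycles n) ≫ E.homologyπ n, hF, @epi_comp _ _ _ _ _ _ hπ _ (inferInstanceAs (Epi (E.sc n).homologyπ))⟩

end Groth.Agent.S5602
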