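import Groth.Statements.S5612
import Groth.Agent.DRingTorAmp.TorDim

set_option autoImplicit false
universe u
open CategoryTheory CategoryTheory.Limits
attribute [local instance] HasDerivedCategory.standard
open DRing

namespace Groth.Agent.S5612
def ftdProp (A : Type u) [CommRing A] : ObjectProperty (Dual.D A) := fun K => DRing.HasFiniteTorDimCx A K

instance (A : Type u) [CommRing A] : (ftdProp A).IsClosedUnderIsomorphisms :=
  ⟨fun {_ _} e ⟨a, b, E, hE, hF, ⟨e'⟩⟩ => ⟨a, b, E, hE, hF, ⟨e' ≪≫ e⟩⟩⟩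



/-- Let A be a commutative ring all of whose modules have finite tor dimension (for instance A of finite
global dimension) and K ∈ D(A). (i) K has finite tor dimension if and only if K has bounded
cohomology. (ii) K is perfect if and only if K has bounded cohomology and is pseudo-coherent. -/
theorem result {A : Type u} [CommRing A]
    (hA : ∀ (M : Type u) [AddCommGroup M] [Module A M], DRing.HasFiniteTorDim A M) (K : Dual.D A) :
    (DRing.HasFiniteTorDimCx A K ↔ ∃ a b : ℤ, ∀ i : ℤ, i < a ∨ b < i → Subsingleton (Dual.HD A K i)) ∧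
      (DRing.IsPerfect A K ↔
        (∃ a b : ℤ, ∀ i : ℤ, i < a ∨ b < i → Subsingleton (Dual.HD A K i)) ∧ DRing.IsPseudoCoherent' A K) := by
  have h1 : ∀ L : Dual.D A, (∃ a b : ℤ, ∀ i : ℤ, i < a ∨ b < i → Subsingleton (Dual.HD A L i)) →
      DRing.HasFiniteTorDimCx A L := by
    rintro L ⟨a, b, h⟩
    obtain ⟨hge, hle⟩ := DRingTorAmp.isGE_isLE_of_bounded h
    refine DerCat.prop_of_single (ftdProp A) (fun Z hZ => ⟨0, 0, DRingTorAmp.torAmp_of_isZero hZ 0 0⟩)
      (fun T hT h₁ h₃ => ?_) L a b fun i _ _ => ?_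
    · obtain ⟨a₁, b₁, h₁⟩ := h₁
      obtain ⟨a₃, b₃, h₃⟩ := h₃
      exact ⟨min a₁ a₃, max b₁ b₃, DRingTorAmp.torAmp_obj₂ T hT
        (DRingTorAmp.hasTorAmplitudeIn_mono h₁ (min_le_left _ _) (le_max_left _ _))
        (DRingTorAmp.hasTorAmplitudeIn_mono h₃ (min_le_right _ _) (le_max_right _ _))⟩
    · obtain ⟨n, hn⟩ := hA (Dual.HD A L i)
      exact ⟨i - n, i, DRingTorAmp.hasTorAmplitudeIn_single (M := Dual.HD A L i)
        (DRingTorAmp.hasTorAmplitudeIn_mono ((DRingTorAmp.hasTorDimLE_iff (Dual.HD A L i) n).1 hn) (by omega) (by omega))⟩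
  have h2 : DRing.HasFiniteTorDimCx A K → ∃ a b : ℤ, ∀ i : ℤ, i < a ∨ b < i → Subsingleton (Dual.HD A K i) := by
    rintro ⟨a, b, E, hE, -, ⟨e⟩⟩
    refine ⟨a, b, fun i hi => (DRingTorAmp.subsingleton_HD_congr e i).1 ((DRingTorAmp.subsingleton_HD_iff E i).2 ?_)⟩
    exact ShortComplex.exact_of_isZero_X₂ _ (hE i hi)
  refine ⟨⟨h2, h1 K⟩, ?_⟩
  rw [DRingTorAmp.isPerfect_iff]
  exact ⟨fun h => ⟨h2 h.2, h.1⟩, fun h => ⟨h.2, h1 K h.1⟩⟩

end Groth.Agent.S5612
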