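import Groth.Statements.S5614


set_option autoImplicit false
universe v u
open CategoryTheory CategoryTheory.Limits CategoryTheory.Pretriangulated
open KZero

namespace Groth.Agent.S5614

/-- Let C be a pretriangulated category and S a dense set of objects, meaning that every set of objects
which contains S and which contains the third vertex of a distinguished triangle as soon as it
contains the other two is all of C. Then K₀(C) is generated by the classes of the objects of S. -/
theorem result {C : Type u} [Category.{v} C] [Preadditive C] [HasZeroObject C]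
    [HasShift C ℤ] [∀ n : ℤ, (shiftFunctor C n).Additive] [Pretriangulated C]
    (S : Set C)
    (hdense : ∀ T : Set C, S ⊆ T →
      (∀ tr : Triangle C, tr ∈ distinguishedTriangles →
        (tr.obj₁ ∈ T → tr.obj₂ ∈ T → tr.obj₃ ∈ T) ∧ (tr.obj₁ ∈ T → tr.obj₃ ∈ T → tr.obj₂ ∈ T) ∧
          (tr.obj₂ ∈ T → tr.obj₃ ∈ T → tr.obj₁ ∈ T)) → T = Set.univ) :
    AddSubgroup.closure (KZero.clTri '' S) = (⊤ : AddSubgroup (KZero.K0tri C)) := by
  have h := hdense {X | KZero.clTri X ∈ AddSubgroup.closure (KZero.clTri '' S)}
    (fun X hX => AddSubgroup.subset_closure ⟨X, hX, rfl⟩) (fun tr htr => ?_)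
  · rw [eq_top_iff]
    intro x hx
    clear hx
    induction x using QuotientAddGroup.induction_on with
    | H z =>
      induction z using FreeAbelianGroup.induction_on with
      | zero => exact AddSubgroup.zero_mem _
      | of X => exact (Set.eq_univ_iff_forall.1 h X.1 :)
      | neg X ih => exact AddSubgroup.neg_mem _ ih
      | add a b iha ihb => exact AddSubgroup.add_mem _ iha ihb
  · have e : KZero.clTri tr.obj₂ = KZero.clTri tr.obj₁ + KZero.clTri tr.obj₃ := by
      rw [← sub_eq_zero, ← sub_sub]
      exact (QuotientAddGroup.eq_zero_iff _).2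
        (AddSubgroup.subset_closure ⟨tr, trivial, trivial, trivial, htr, rfl⟩)
    simp only [Set.mem_setOf_eq]
    refine ⟨fun h1 h2 => ?_, fun h1 h3 => e ▸ AddSubgroup.add_mem _ h1 h3, fun h2 h3 => ?_⟩
    · rw [e] at h2
      exact (AddSubgroup.add_mem_cancel_left _ h1).1 h2
    · rw [e] at h2
      exact (AddSubgroup.add_mem_cancel_right _ h3).1 h2

end Groth.Agent.S5614
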