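import Groth.Statements.S5615


set_option autoImplicit false
universe v u
open CategoryTheory CategoryTheory.Limits
open KZero

namespace Groth.Agent.S5615

/-- Let A be an abelian category and S a dense set of objects, meaning that every set of objects which
contains S and which contains the third term of a short exact sequence as soon as it contains the
other two is all of A. Then K₀(A) is generated by the classes of the objects of S. -/
theorem result {A : Type u} [Category.{v} A] [Abelian A] (S : Set A)
    (hdense : ∀ T : Set A, S ⊆ T →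
      (∀ X : ShortComplex A, X.ShortExact →
        (X.X₁ ∈ T → X.X₂ ∈ T → X.X₃ ∈ T) ∧ (X.X₁ ∈ T → X.X₃ ∈ T → X.X₂ ∈ T) ∧
          (X.X₂ ∈ T → X.X₃ ∈ T → X.X₁ ∈ T)) → T = Set.univ) :
    AddSubgroup.closure (KZero.cl '' S) = (⊤ : AddSubgroup (KZero.K0 A)) := by
  have h := hdense {X | KZero.cl X ∈ AddSubgroup.closure (KZero.cl '' S)}
    (fun X hX => AddSubgroup.subset_closure ⟨X, hX, rfl⟩) (fun Y hY => ?_)
  · rw [eq_top_iff]
    intro x hx
    clear hx
    induction x using QuotientAddGroup.induction_on with
    | H z =>
      induction z using FreeAbelianGroup.induction_on with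
      | zero => exact AddSubgroup.zero_mem _
      | of X => exact (Set.eq_univ_iff_forall.1 h X :)
      | neg X ih => exact AddSubgroup.neg_mem _ ih
      | add a b iha ihb => exact AddSubgroup.add_mem _ iha ihb
  · have e : KZero.cl Y.X₂ = KZero.cl Y.X₁ + KZero.cl Y.X₃ := by
      rw [← sub_eq_zero, ← sub_sub]
      exact (QuotientAddGroup.eq_zero_iff _).2 (AddSubgroup.subset_closure ⟨Y, hY, rfl⟩)
    simp only [Set.mem_setOf_eq]
    refine ⟨fun h1 h2 => ?_, fun h1 h3 => e ▸ AddSubgroup.add_mem _ h1 h3, fun h2 h3 => ?_⟩
    · rw [e] at h2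
      exact (AddSubgroup.add_mem_cancel_left _ h1).1 h2
    · rw [e] at h2
      exact (AddSubgroup.add_mem_cancel_right _ h3).1 h2

end Groth.Agent.S5615
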