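import Groth.Statements.S5616
import Groth.Agent.DerCat.Efface

set_option autoImplicit false
universe w w' v v' u u'
open CategoryTheory CategoryTheory.Limits
open CohDer

open Groth.Agent

namespace Groth.Agent.S5616

set_option backward.isDefEq.respectTransparency false
set_option backward.defeqAttrib.useBackward true

/-- Let φ : A ⥤ B be an exact functor of abelian categories and M an object of A. The following are
equivalent: (i) for every L in A and every n, the map Ext^n_A(L, M) → Ext^n_B(φ L, φ M) induced by φ
is bijective; (ii) for every L the map Hom_A(L, M) → Hom_B(φ L, φ M) is bijective, and for every L,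
every n ≥ 1 and every x ∈ Ext^n_B(φ L, φ M) there is an epimorphism L' ⟶ L of A such that x
precomposed with its image under φ vanishes. -/
theorem result
    {A : Type u} [Category.{v} A] [Abelian A] [HasExt.{w} A]
    {B : Type u'} [Category.{v'} B] [Abelian B] [HasExt.{w'} B]
    (φ : A ⥤ B) [φ.Additive] [PreservesFiniteLimits φ] [PreservesFiniteColimits φ] (M : A) :
    (∀ (L : A) (n : ℕ), Function.Bijective (fun f : Abelian.Ext.{w} L M n => Abelian.Ext.mapExactFunctor φ f)) ↔
      ((∀ L : A, Function.Bijective (fun f : L ⟶ M => φ.map f)) ∧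
        ∀ (L : A) (n : ℕ), 1 ≤ n → ∀ x : Abelian.Ext.{w'} (φ.obj L) (φ.obj M) n,
          ∃ (L' : A) (p : L' ⟶ L), Epi p ∧ (Abelian.Ext.mk₀ (φ.map p)).comp x (zero_add n) = 0) := by
  constructor
  · intro h
    refine ⟨fun L => ?_, fun L n hn x => ?_⟩
    · have h0 := h L 0
      change Function.Bijective (Abelian.Ext.mapExactFunctor φ) at h0
      rw [Abelian.Ext.mapExactFunctor₀, Function.Bijective.of_comp_iff' (Equiv.bijective _),
        Function.Bijective.of_comp_iff _ (Equiv.bijective _)] at h0
      exact h0
    · obtain ⟨y, rfl⟩ := (h L n).2 x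
      obtain ⟨L', p, hp, hy⟩ := DerCat.exists_epi_mk₀_comp_eq_zero L M n (by omega) y
      refine ⟨L', p, hp, ?_⟩
      change (Abelian.Ext.mk₀ (φ.map p)).comp (Abelian.Ext.mapExactFunctor φ y) (zero_add n) = 0
      rw [← Abelian.Ext.mapExactFunctor_mk₀ φ p, ← Abelian.Ext.mapExactFunctor_comp, hy, Abelian.Ext.mapExactFunctor_zero]
  · rintro ⟨h0, heff⟩ L n
    induction n generalizing L with
    | zero =>
      change Function.Bijective (Abelian.Ext.mapExactFunctor φ)
      rw [Abelian.Ext.mapExactFunctor₀, Function.Bijective.of_comp_iff' (Equiv.bijective _),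
        Function.Bijective.of_comp_iff _ (Equiv.bijective _)]
      exact h0 L
    | succ n ih =>
      have hs : ∀ {L' L : A} (p : L' ⟶ L) [Epi p],
          (ShortComplex.mk (kernel.ι p) p (kernel.condition p)).ShortExact := fun p _ =>
        { exact := ShortComplex.exact_of_f_is_kernel _ (kernelIsKernel p) }
      constructor
      · refine (injective_iff_map_eq_zero (φ.mapExtAddHom L M (n + 1))).2 fun y hy => ?_
        obtain ⟨L', p, hp, hy'⟩ := DerCat.exists_epi_mk₀_comp_eq_zero L M (n + 1) (by omega) y
        obtain ⟨z, rfl⟩ := Abelian.Ext.contravariant_sequence_exact₃ (hs p) M y hy' (n₀ := n) (by omega)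
        change Abelian.Ext.mapExactFunctor φ _ = 0 at hy
        rw [Abelian.Ext.mapExactFunctor_comp, Abelian.Ext.mapExactFunctor_extClass] at hy
        obtain ⟨w, hw⟩ := Abelian.Ext.contravariant_sequence_exact₁ ((hs p).map_of_exact φ) (φ.obj M)
          (Abelian.Ext.mapExactFunctor φ z) (by omega) hy
        obtain ⟨w', rfl⟩ := (ih L').2 w
        have : z = (Abelian.Ext.mk₀ (kernel.ι p)).comp w' (zero_add n) := by
          refine (ih (kernel p)).1 ?_
          change Abelian.Ext.mapExactFunctor φ z = Abelian.Ext.mapExactFunctor φ _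
          rw [Abelian.Ext.mapExactFunctor_comp, Abelian.Ext.mapExactFunctor_mk₀]
          exact hw.symm
        rw [this]
        exact (hs p).extClass_comp_assoc w'
      · intro x
        obtain ⟨L', p, hp, hx⟩ := heff L (n + 1) (by omega) x
        obtain ⟨z, rfl⟩ := Abelian.Ext.contravariant_sequence_exact₃ ((hs p).map_of_exact φ) (φ.obj M) x hx (n₀ := n) (by omega)
        obtain ⟨z', rfl⟩ := (ih (kernel p)).2 z
        refine ⟨(hs p).extClass.comp z' (by omega), ?_⟩
        change Abelian.Ext.mapExactFunctor φ _ = _
        rw [Abelian.Ext.mapExactFunctor_comp, Abelian.Ext.mapExactFunctor_extClass]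

end Groth.Agent.S5616
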