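import Groth.Statements.S5623
import Mathlib.Algebra.Homology.ShortComplex.Exact
import Mathlib.CategoryTheory.Abelian.Basic

set_option autoImplicit false
universe v u
open CategoryTheory CategoryTheory.Limits
open PCoh

namespace Groth.Agent.S5623

/-- Punctual site: let C be an abelian category and C₀ a strictly full additive subcategory,
quasi-liftable in C. For an exact sequence 0 → F → G → H with G of C₀-finite type and H precoherent
relative to C₀ (every morphism from a C₀-object into H has kernel of C₀-finite type), F is of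
C₀-finite type. -/
theorem result {C : Type u} [Category.{v} C] [Abelian C]
    (P : ObjectProperty C) [P.IsClosedUnderIsomorphisms] [P.ContainsZero] (hsum : ∀ X Y : C, P X → P Y → P (X ⨯ Y))
    (hql : PCoh.IsQuasiLiftable P)
    (S : ShortComplex C) (hS : S.Exact) (hf : Mono S.f)
    (hG : PCoh.IsOfFiniteType P S.X₂) (hH : (∀ (E : C) (u : E ⟶ S.X₃), P E → PCoh.IsOfFiniteType P (kernel u))) :
    PCoh.IsOfFiniteType P S.X₁ := by
  obtain ⟨E, π, hE, hπ⟩ := hG
  obtain ⟨F, ρ, hF, hρ⟩ := hH E (π ≫ S.g) hE
  have hk : IsLimit (KernelFork.ofι S.f S.zero) := hS.fIsKernel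
  let v : kernel (π ≫ S.g) ⟶ S.X₁ := hk.lift (KernelFork.ofι (kernel.ι _ ≫ π) (by simp))
  have hv : v ≫ S.f = kernel.ι _ ≫ π := hk.fac _ WalkingParallelPair.zero
  have hpb : IsPullback v (kernel.ι (π ≫ S.g)) S.f π :=
    IsPullback.of_isLimit' ⟨hv⟩ (PullbackCone.IsLimit.mk _
      (fun s => kernel.lift _ s.snd (by rw [← Category.assoc, ← s.condition, Category.assoc, S.zero, comp_zero]))
      (fun s => by rw [← cancel_mono S.f, Category.assoc, hv, kernel.lift_ι_assoc, s.condition])
      (fun s => kernel.lift_ι _ _ _)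
      (fun s m _ hm => by rw [← cancel_mono (kernel.ι (π ≫ S.g)), kernel.lift_ι]; exact hm))
  haveI : Epi v := Abelian.epi_fst_of_isLimit S.f π hpb.isLimit
  exact ⟨F, ρ ≫ v, hF, epi_comp _ _⟩

end Groth.Agent.S5623
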