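import Groth.Statements.S5624
import Mathlib.Algebra.Homology.ShortComplex.ShortExact
import Mathlib.CategoryTheory.Abelian.Basic

set_option autoImplicit false
universe v u
open CategoryTheory CategoryTheory.Limits
open PCoh

namespace Groth.Agent.S5624

/-- Punctual site: let C be an abelian category and C₀ a strictly full additive subcategory,
quasi-liftable in C, and let 0 → F → G → H → 0 be a short exact sequence. If F and H are precoherent
relative to C₀ then G is precoherent; if F and H are of C₀-finite type then G is of C₀-finite type. -/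
theorem result {C : Type u} [Category.{v} C] [Abelian C]
    (P : ObjectProperty C) [P.IsClosedUnderIsomorphisms] [P.ContainsZero] (hsum : ∀ X Y : C, P X → P Y → P (X ⨯ Y))
    (hql : PCoh.IsQuasiLiftable P)
    (S : ShortComplex C) (hS : S.ShortExact) :
    ((∀ (E : C) (u : E ⟶ S.X₁), P E → PCoh.IsOfFiniteType P (kernel u)) → (∀ (E : C) (u : E ⟶ S.X₃), P E → PCoh.IsOfFiniteType P (kernel u)) →
        (∀ (E : C) (u : E ⟶ S.X₂), P E → PCoh.IsOfFiniteType P (kernel u))) ∧
      (PCoh.IsOfFiniteType P S.X₁ → PCoh.IsOfFiniteType P S.X₃ → PCoh.IsOfFiniteType P S.X₂) := by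
  haveI := hS.mono_f
  haveI := hS.epi_g
  refine ⟨fun h₁ h₃ E u hE => ?_, fun hF hH => ?_⟩
  · obtain ⟨E₁, ρ, hE₁, hρ⟩ := h₃ E (u ≫ S.g) hE
    have hw : (ρ ≫ kernel.ι (u ≫ S.g) ≫ u) ≫ S.g = 0 := by simp
    let w : E₁ ⟶ S.X₁ := hS.exact.lift _ hw
    have hwf : w ≫ S.f = ρ ≫ kernel.ι (u ≫ S.g) ≫ u := hS.exact.lift_f _ hw
    obtain ⟨E₂, σ, hE₂, hσ⟩ := h₁ E₁ w hE₁
    let v : kernel w ⟶ kernel u := kernel.lift u (kernel.ι w ≫ ρ ≫ kernel.ι (u ≫ S.g))
      (by simp only [Category.assoc, ← hwf, kernel.condition_assoc, zero_comp])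
    let j : kernel u ⟶ kernel (u ≫ S.g) := kernel.lift _ (kernel.ι u) (by simp)
    have hsq : v ≫ j = kernel.ι w ≫ ρ := by
      rw [← cancel_mono (kernel.ι (u ≫ S.g))]; simp [v, j]
    have hpb : IsPullback v (kernel.ι w) j ρ :=
      IsPullback.of_isLimit' ⟨hsq⟩ (PullbackCone.IsLimit.mk _
        (fun s => kernel.lift w s.snd (by
          rw [← cancel_mono S.f, Category.assoc, hwf, ← Category.assoc s.snd ρ, ← s.condition]
          simp [j]))
        (fun s => by
          rw [← cancel_mono (kernel.ι u)]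
          simp only [Category.assoc, v, kernel.lift_ι, kernel.lift_ι_assoc]
          rw [← Category.assoc s.snd ρ, ← s.condition, Category.assoc, kernel.lift_ι])
        (fun s => kernel.lift_ι _ _ _)
        (fun s m _ hm => by rw [← cancel_mono (kernel.ι w), kernel.lift_ι]; exact hm))
    haveI : Epi v := Abelian.epi_fst_of_isLimit j ρ hpb.isLimit
    exact ⟨E₂, σ ≫ v, hE₂, epi_comp _ _⟩
  · obtain ⟨E₁, π₁, hE₁, hπ₁⟩ := hF
    obtain ⟨E₃, π₃, hE₃, hπ₃⟩ := hH
    obtain ⟨F', v, hF', hv⟩ := hql _ E₃ (pullback.snd S.g π₃) inferInstance hE₃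
    haveI : Epi (v ≫ pullback.snd S.g π₃) := hv
    refine ⟨E₁ ⨯ F', prod.fst ≫ π₁ ≫ S.f + prod.snd ≫ v ≫ pullback.fst S.g π₃, hsum _ _ hE₁ hF', ?_⟩
    refine Preadditive.epi_of_cancel_zero _ fun {Z} h hh => ?_
    have h1 : π₁ ≫ S.f ≫ h = 0 := by
      have := congrArg (prod.lift (𝟙 E₁) 0 ≫ ·) hh
      simpa [Preadditive.add_comp, Preadditive.comp_add, prod.lift_fst_assoc, prod.lift_snd_assoc] using this
    have h2 : v ≫ pullback.fst S.g π₃ ≫ h = 0 := by
      have := congrArg (prod.lift 0 (𝟙 F') ≫ ·) hh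
      simpa [Preadditive.add_comp, Preadditive.comp_add, prod.lift_fst_assoc, prod.lift_snd_assoc] using this
    have hf0 : S.f ≫ h = 0 := by rw [← cancel_epi π₁, h1, comp_zero]
    let h' : S.X₃ ⟶ Z := hS.exact.desc h hf0
    have hh' : S.g ≫ h' = h := hS.exact.g_desc h hf0
    rw [← hh', pullback.condition_assoc, ← Category.assoc v] at h2
    have h3 : π₃ ≫ h' = 0 := by rw [← cancel_epi (v ≫ pullback.snd S.g π₃), h2, comp_zero]
    rw [← hh', (cancel_epi π₃).1 (h3.trans comp_zero.symm), comp_zero]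

end Groth.Agent.S5624
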