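import Groth.Statements.S5643
import Groth.Agent.KZeroDb.Coherent
import Groth.Agent.Devissage.SerreClass

set_option autoImplicit false
set_option linter.style.haveILetI false
universe u
open CategoryTheory CategoryTheory.Limits AlgebraicGeometry
open Classical
open SGA6

namespace Groth.Agent.S5643

/-- Let X be a Noetherian scheme and K the Grothendieck group of coherent O_X-modules. For every n, the
subgroup of K generated by the classes of coherent modules whose support has dimension ≤ n coincides
with the subgroup generated by the classes [O_Z] of the structure sheaves (as O_X-modules) of the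
integral closed subschemes Z ⊆ X of dimension ≤ n, Z running over the reduced closures of points of
X. -/
theorem result (X : Scheme.{u}) [IsNoetherian X] (n : ℕ) :
    AddSubgroup.closure {c : KZero.K0sub (fun M : X.Modules => Coh.IsCoh M) |
        ∃ G : X.Modules, Coh.IsCoh G ∧ topologicalKrullDim ↥(CohB1.support G) ≤ n ∧ c = KZero.clSub (fun M : X.Modules => Coh.IsCoh M) G} =
      AddSubgroup.closure {c : KZero.K0sub (fun M : X.Modules => Coh.IsCoh M) |
        ∃ x : ↥X, topologicalKrullDim ↥(closure ({x} : Set ↥X)) ≤ n ∧ c = KZero.clSub (fun M : X.Modules => Coh.IsCoh M) (Cyc.closureStructureSheaf x)} := by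
  haveI : IsLocallyNoetherian X := IsNoetherian.toIsLocallyNoetherian
  let Q : ObjectProperty X.Modules := fun M => Coh.IsCoh M
  have hQ := Groth.Agent.KZeroDb.good_coh (X := X)
  have hmono : ∀ {s t : Set X}, s ⊆ t → topologicalKrullDim s ≤ topologicalKrullDim t := fun h =>
    (Topology.IsEmbedding.inclusion h).isInducing.topologicalKrullDim_le
  have hgenpt : ∀ x : X, ∃ h : IsIntegral (IntMult.ptIdeal x).subscheme,
      Set.range (IntMult.ptIdeal x).subschemeι = closure ({x} : Set X) ∧
      (haveI := h; (IntMult.ptIdeal x).subschemeι (genericPoint (IntMult.ptIdeal x).subscheme) = x) := fun x => by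
    haveI : IsReduced (IntMult.ptIdeal x).subscheme :=
      Groth.Agent.FpqcDescent.isReduced_subscheme_vanishingIdeal (X := X) ⟨closure {x}, isClosed_closure⟩
    have hr : Set.range (IntMult.ptIdeal x).subschemeι = closure ({x} : Set X) := by
      rw [Scheme.IdealSheafData.range_subschemeι, IntMult.ptIdeal, Scheme.IdealSheafData.coe_support_vanishingIdeal]
      rfl
    haveI : IrreducibleSpace (IntMult.ptIdeal x).subscheme := by
      let hh := (IntMult.ptIdeal x).subschemeι.isClosedEmbedding.isEmbedding.toHomeomorph
      haveI : IrreducibleSpace (Set.range (IntMult.ptIdeal x).subschemeι) :=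
        Subtype.irreducibleSpace (hr ▸ isIrreducible_singleton.closure)
      exact hh.symm.surjective.irreducibleSpace hh.symm.continuous
    have hint : IsIntegral (IntMult.ptIdeal x).subscheme := isIntegral_of_irreducibleSpace_of_isReduced _
    refine ⟨hint, hr, ?_⟩
    have h := (Groth.Agent.Devissage.range_eq_closure (IntMult.ptIdeal x).subschemeι).symm.trans hr
    exact ((specializes_iff_mem_closure.2 (h ▸ subset_closure (Set.mem_singleton _))).antisymm
      (specializes_iff_mem_closure.2 (h ▸ subset_closure (Set.mem_singleton _)))).eq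
  have hO : ∀ x : X, Coh.IsCoh (Cyc.closureStructureSheaf x) ∧
      CohB1.support (Cyc.closureStructureSheaf x) = closure ({x} : Set X) := fun x => by
    haveI : IsLocallyNoetherian (IntMult.ptIdeal x).subscheme :=
      LocallyOfFiniteType.isLocallyNoetherian (IntMult.ptIdeal x).subschemeι
    exact ⟨Groth.Agent.QCohBase.isCoh_pushforward_of_isFinite _ (Groth.Agent.Devissage.isCoh_structureModule _),
      (Groth.Agent.Devissage.support_push_structure _).trans (hgenpt x).2.1⟩
  refine le_antisymm ((AddSubgroup.closure_le _).2 ?_) ((AddSubgroup.closure_le _).2 ?_)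
  · rintro c ⟨G, hG, hdim, rfl⟩
    let H := AddSubgroup.closure {c : KZero.K0sub Q |
      ∃ x : ↥X, topologicalKrullDim ↥(closure ({x} : Set ↥X)) ≤ n ∧ c = KZero.clSub Q (Cyc.closureStructureSheaf x)}
    let R : X.Modules → Prop := fun M => Coh.IsCoh M → KZero.clSub Q M ∈ H
    haveI : Q.IsClosedUnderIsomorphisms :=
      inferInstanceAs (ObjectProperty.IsClosedUnderIsomorphisms (fun M : X.Modules => Coh.IsCoh M))
    have h2 : Groth.Agent.Devissage.Two R (CohB1.support G) := by
      refine ⟨fun M N ⟨e⟩ hM hN => ?_, fun M hM _ => ?_, fun S hS h₁ h₂ h₃ _ => ?_⟩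
      · have hMQ : Q M := Q.prop_of_iso e.symm hN
        have hz := Limits.isZero_cokernel_of_epi e.hom
        have := Groth.Agent.KZeroDb.cl_ses (P := Q) _ (Groth.Agent.Devissage.ses e.hom) hMQ hN (hQ.zero hz)
        dsimp only at this
        rw [this, hQ.cl_zero hz, add_zero]
        exact hM hMQ
      · rw [hQ.cl_zero hM]
        exact H.zero_mem
      · have e := Groth.Agent.KZeroDb.cl_ses (P := Q) S hS h₁ h₂ h₃
        refine ⟨fun a b _ => ?_, fun a b _ => ?_, fun b c _ => ?_⟩
        · have := b h₂
          rw [e] at this
          exact (AddSubgroup.add_mem_cancel_left _ (a h₁)).1 this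
        · rw [e]
          exact H.add_mem (a h₁) (b h₃)
        · have := b h₂
          rw [e] at this
          exact (AddSubgroup.add_mem_cancel_right _ (c h₃)).1 this
    have hcl := Groth.Agent.QCohBase.isClosed_support G hG.2
    refine Groth.Agent.Devissage.two_induction (P := R) hcl h2 (fun ξ hξ small N hN hNs => ?_) G hG subset_rfl hG
    have hT : closure ({ξ} : Set X) ⊆ CohB1.support G := closure_minimal (Set.singleton_subset_iff.2 hξ) hcl
    have hT2 : Groth.Agent.Devissage.Two R (closure {ξ}) :=
      ⟨h2.iso, h2.zero, fun S hS a b c hs => h2.two S hS a b c (hs.trans hT)⟩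
    obtain ⟨hint, -, hgp⟩ := hgenpt ξ
    haveI := hint
    exact hT2.of_structure isClosed_closure rfl small (IntMult.ptIdeal ξ).subschemeι hgp
      (fun _ => AddSubgroup.subset_closure ⟨ξ, (hmono hT).trans hdim, rfl⟩) N hN hNs
  · rintro c ⟨x, hx, rfl⟩
    exact AddSubgroup.subset_closure ⟨_, (hO x).1, by rw [(hO x).2]; exact hx, rfl⟩

end Groth.Agent.S5643
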