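import Mathlib
import Groth.Statements.S5657
-- import your own Groth.Agent.* helpers here

set_option autoImplicit false
set_option backward.isDefEq.respectTransparency false
set_option backward.isDefEq.respectTransparency.types false
universe u
open TensorProduct
open W4sga6xxiii

namespace Groth.Agent.S5657

/-- Let A be a commutative ring, I an ideal of A with I^{m+1} = 0, and P ⊆ Aˣ the subgroup of units of
the form 1 + y with y ∈ I. Then the map P → A ⊗_ℤ ℚ, x ↦ x ⊗ 1, is a polynomial map of degree ≤ m on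
the abelian group P (written additively): along every finite sequence x_1, …, x_r in P one has
x_1^{n_1}⋯x_r^{n_r} ⊗ 1 = Σ_k Π_i C(n_i, k_i) y_k with y_k = 0 whenever k_1 + ⋯ + k_r > m. -/
theorem result (A : Type u) [CommRing A] (I : Ideal A) (m : ℕ) (hI : I ^ (m + 1) = ⊥)
    (P : Subgroup Aˣ) (hP : ∀ u : Aˣ, u ∈ P ↔ (u : A) - 1 ∈ I) :
    W4sga6xxiii.IsPolyMapLE (fun u : Additive P => (((Additive.toMul u : P) : Aˣ) : A) ⊗ₜ[ℤ] (1 : ℚ)) m := by
  intro r x
  let u : Fin r → Aˣ := fun i => ((Additive.toMul (x i) : P) : Aˣ)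
  let y : Fin r → A := fun i => (u i : A) - 1
  have hy : ∀ i, y i ∈ I := fun i => (hP (u i)).1 (Additive.toMul (x i) : P).2
  have hym : ∀ i, y i ^ (m + 1) = 0 := fun i => by
    have := Ideal.pow_mem_pow (hy i) (m + 1); rwa [hI, Ideal.mem_bot] at this
  let G : Fin r → ℤ → A := fun i n => ∑ j ∈ Finset.range (m + 1), (Ring.choose n j : ℤ) • y i ^ j
  have hstep : ∀ i n, G i (n + 1) = G i n * (u i : A) := by
    intro i n
    have hu : (u i : A) = 1 + y i := by simp [y]
    simp only [G]
    rw [hu, mul_add, mul_one, Finset.sum_range_succ' (fun j => (Ring.choose (n+1) j : ℤ) • y i ^ j),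
      Finset.sum_range_succ' (fun j => (Ring.choose n j : ℤ) • y i ^ j), add_mul, Finset.sum_mul]
    simp only [Ring.choose_succ_succ, add_smul, Finset.sum_add_distrib, Ring.choose_zero_right, one_smul,
      pow_zero, smul_mul_assoc, ← pow_succ, one_mul]
    have h0 : ∑ j ∈ Finset.range m, (Ring.choose n j : ℤ) • y i ^ (j + 1) =
        ∑ j ∈ Finset.range m, (Ring.choose n (j + 1) : ℤ) • y i ^ (j + 1 + 1) + y i := by
      have h1 : ∑ j ∈ Finset.range (m + 1), (Ring.choose n j : ℤ) • y i ^ (j + 1) =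
          ∑ j ∈ Finset.range m, (Ring.choose n j : ℤ) • y i ^ (j + 1) := by
        rw [Finset.sum_range_succ, hym i, smul_zero, add_zero]
      rw [← h1, Finset.sum_range_succ' (fun j => (Ring.choose n j : ℤ) • y i ^ (j + 1))]
      simp
    rw [h0]
    abel
  have hG : ∀ i n, G i n = ((u i ^ n : Aˣ) : A) := by
    intro i n
    induction n using Int.induction_on with
    | zero =>
      simp only [G, zpow_zero, Units.val_one]
      rw [Finset.sum_range_succ', Finset.sum_eq_zero] <;> simp [Ring.choose_zero_succ]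
    | succ n ih => rw [hstep, ih, zpow_add_one, Units.val_mul]
    | pred n ih =>
      apply (u i).isUnit.mul_right_cancel
      rw [← hstep, sub_add_cancel, ih, ← Units.val_mul, ← zpow_add_one, sub_add_cancel]
  refine ⟨fun k => (∏ i, y i ^ (k i : ℕ)) ⊗ₜ[ℤ] (1 : ℚ), fun k hk => ?_, fun n => ?_⟩
  · have h1 : ∏ i, y i ^ (k i : ℕ) ∈ I ^ (∑ i, (k i : ℕ)) := by
      rw [← Finset.prod_pow_eq_pow_sum]
      exact Ideal.prod_mem_prod fun i _ => Ideal.pow_mem_pow (hy i) _
    have h2 := Ideal.pow_le_pow_right (I := I) hk h1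
    rw [hI, Ideal.mem_bot] at h2
    show (∏ i, y i ^ (k i : ℕ)) ⊗ₜ[ℤ] (1 : ℚ) = 0
    rw [h2, TensorProduct.zero_tmul]
  · have h1 : ((((Additive.toMul (∑ i, n i • x i)) : P) : Aˣ) : A) = ∏ i, G i (n i) := by
      simp only [hG, toMul_sum, toMul_zsmul, Subgroup.val_finsetProd, SubgroupClass.coe_zpow, Units.coe_prod]
      rfl
    show ((((Additive.toMul (∑ i, n i • x i)) : P) : Aˣ) : A) ⊗ₜ[ℤ] (1 : ℚ) = _
    rw [h1]
    simp only [G]
    simp only [Finset.sum_range]
    rw [Fintype.prod_sum, TensorProduct.sum_tmul]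
    refine Finset.sum_congr rfl fun k _ => ?_
    erw [TensorProduct.smul_tmul']
    congr 1
    simp [Finset.prod_mul_distrib, zsmul_eq_mul]

end Groth.Agent.S5657
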