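import Groth.Statements.S5658
import Mathlib
import Groth.Agent.CAlgH.ElemGen

set_option autoImplicit false
universe u
open CAlg

namespace Groth.Agent.S5658

open Groth.Agent.CAlgH.ElemGen
open scoped commutatorElement

theorem map_commutator {G G' : Type u} [Group G] [Group G'] (φ : G →* G') {g : G}
    (hg : g ∈ commutator G) : φ g ∈ commutator G' := by
  rw [← Abelianization.ker_of] at *
  have h : commutator G ≤ (Abelianization.of.comp φ).ker := Abelianization.commutator_subset_ker _
  exact h (by rwa [← Abelianization.ker_of])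

theorem det_of_mem_commutator {B : Type u} [CommRing B] {n : ℕ} {g : GL (Fin n) B}
    (hg : g ∈ commutator (GL (Fin n) B)) : Matrix.GeneralLinearGroup.det g = 1 :=
  have h : commutator (GL (Fin n) B) ≤ (Matrix.GeneralLinearGroup.det).ker :=
    Abelianization.commutator_subset_ker _
  h hg

theorem mem_commutator_local {B : Type u} [CommRing B] [IsLocalRing B] {n : ℕ} (t : Bˣ)
    (ht : IsUnit ((t : B) - 1)) (g : GL (Fin n) B) (hg : Matrix.GeneralLinearGroup.det g = 1) :
    g ∈ commutator (GL (Fin n) B) := by
  classical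
  have htr : ∀ i j h c, tGL i j h c ∈ commutator (GL (Fin n) B) := by
    intro i j hij c
    let d : GL (Fin n) B := dGL (Pi.mulSingle i t)
    let y : B := c * ((ht.unit⁻¹ : Bˣ) : B)
    have key : d * tGL i j hij y = tGL i j hij c * tGL i j hij y * d := by
      refine Units.ext ?_
      show Matrix.diagonal (fun a => ((Pi.mulSingle i t : Fin n → Bˣ) a : B)) *
          Matrix.transvection i j y = Matrix.transvection i j c * Matrix.transvection i j y *
        Matrix.diagonal (fun a => ((Pi.mulSingle i t : Fin n → Bˣ) a : B))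
      rw [Matrix.transvection_mul_transvection_same _ _ hij]
      ext a b
      simp only [Matrix.diagonal_mul, Matrix.mul_diagonal, Matrix.transvection, Matrix.add_apply]
      by_cases hab : a = b
      · subst hab
        have : ¬ (i = a ∧ j = a) := fun ⟨x, y⟩ => hij (x.trans y.symm)
        simp [Matrix.single_apply, this]
      · by_cases hab2 : i = a ∧ j = b
        · obtain ⟨rfl, rfl⟩ := hab2
          simp [hij, Ne.symm hij]
          have : ((t : B) - 1) * y = c := by
            calc ((t : B) - 1) * y = c * (((ht.unit⁻¹ : Bˣ) : B) * ((t : B) - 1)) := by simp only [y]; ring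
              _ = c := by rw [IsUnit.val_inv_mul, mul_one]
          linear_combination this
        · simp [Matrix.single_apply, hab, hab2]
    rw [← Abelianization.ker_of, MonoidHom.mem_ker]
    have h := congrArg Abelianization.of key
    rw [map_mul, map_mul, map_mul, mul_comm (Abelianization.of d), mul_assoc] at h
    exact (mul_eq_right.mp h.symm)
  obtain ⟨d, h, hh, rfl⟩ := exists_mul_dGL _ htr g
  refine mul_mem hh ?_
  rw [map_mul, det_of_mem_commutator hh, one_mul, det_dGL] at hg
  rcases Nat.eq_zero_or_pos n with rfl | hn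
  · rw [Subsingleton.elim (dGL d) 1]; exact one_mem _
  · rw [← Abelianization.ker_of, MonoidHom.mem_ker, map_dGL _ ⟨0, hn⟩, hg]
    simp

variable {B : Type u} [CommRing B] {n : ℕ} (q : Ideal B) [q.IsPrime]

/-- the map from a basic localization to the local ring -/
noncomputable def toLocal (f : B) (hf : f ∉ q) : Localization.Away f →+* Localization.AtPrime q :=
  IsLocalization.Away.lift f (g := algebraMap B (Localization.AtPrime q))
    (IsLocalization.map_units _ (⟨f, hf⟩ : q.primeCompl))

theorem toLocal_comp (f g : B) (hf : f ∉ q) (hfg : f * g ∉ q) :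
    (toLocal q (f * g) hfg).comp
      (IsLocalization.Away.awayToAwayRight (S := Localization.Away f) f g) = toLocal q f hf := by
  refine IsLocalization.ringHom_ext (Submonoid.powers f) (RingHom.ext fun a => ?_)
  simp [toLocal, IsLocalization.Away.awayToAwayRight_eq]

theorem exists_eq_at (f : B) (hf : f ∉ q) (x y : Localization.Away f)
    (h : toLocal q f hf x = toLocal q f hf y) : ∃ c, c ∉ q ∧ ∀ c', c ∣ c' →
      IsLocalization.Away.awayToAwayRight (S := Localization.Away f) (P := Localization.Away (f * c')) f c' x =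
      IsLocalization.Away.awayToAwayRight (S := Localization.Away f) (P := Localization.Away (f * c')) f c' y := by
  obtain ⟨k, a, ha⟩ := IsLocalization.Away.surj f x
  obtain ⟨l, b, hb⟩ := IsLocalization.Away.surj f y
  have e : algebraMap B (Localization.AtPrime q) (f ^ l * a) =
      algebraMap B (Localization.AtPrime q) (f ^ k * b) := by
    have ea := congrArg (toLocal q f hf) ha
    have eb := congrArg (toLocal q f hf) hb
    simp only [toLocal, map_mul, map_pow, IsLocalization.Away.lift_eq] at ea eb h
    rw [map_mul, map_mul, ← ea, ← eb, h, map_pow, map_pow]; ring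
  obtain ⟨c, hc⟩ := (IsLocalization.eq_iff_exists q.primeCompl _).mp e
  refine ⟨c, c.2, fun c' hcc => ?_⟩
  let ψ := IsLocalization.Away.awayToAwayRight (S := Localization.Away f)
    (P := Localization.Away (f * c')) f c'
  let ι := algebraMap B (Localization.Away (f * c'))
  have hu : IsUnit (ι (f * c')) := IsLocalization.Away.algebraMap_isUnit _
  have hfu : IsUnit (ι f) := isUnit_of_dvd_unit ((map_dvd ι) (dvd_mul_right f c')) hu
  have hcu : IsUnit (ι c) := isUnit_of_dvd_unit ((map_dvd ι) (hcc.trans (dvd_mul_left c' f))) hu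
  have e2 := congrArg ι hc
  simp only [map_mul, map_pow] at e2
  have e3 := hcu.mul_left_cancel e2
  have ea := congrArg ψ ha
  have eb := congrArg ψ hb
  simp only [ψ, map_mul, map_pow, IsLocalization.Away.awayToAwayRight_eq] at ea eb
  refine ((hfu.pow (k + l)).mul_left_inj).mp ?_
  show ψ x * ι f ^ (k + l) = ψ y * ι f ^ (k + l)
  calc ψ x * ι f ^ (k + l) = (ψ x * ι f ^ k) * ι f ^ l := by ring
    _ = ι a * ι f ^ l := by rw [ea]
    _ = ι b * ι f ^ k := by linear_combination e3
    _ = (ψ y * ι f ^ l) * ι f ^ k := by rw [eb]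
    _ = ψ y * ι f ^ (k + l) := by ring

theorem exists_lift (a : GL (Fin n) (Localization.AtPrime q)) : ∃ (f : B) (hf : f ∉ q)
    (a' : GL (Fin n) (Localization.Away f)),
    Matrix.GeneralLinearGroup.map (toLocal q f hf) a' = a := by
  classical
  obtain ⟨c, hc⟩ := IsLocalization.exist_integer_multiples_of_finite q.primeCompl
    (fun p : Fin n × Fin n => (a : Matrix (Fin n) (Fin n) (Localization.AtPrime q)) p.1 p.2)
  choose N hN using hc
  let M : Matrix (Fin n) (Fin n) B := Matrix.of fun i j => N (i, j)
  have hM : (algebraMap B (Localization.AtPrime q)).mapMatrix M =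
      algebraMap B (Localization.AtPrime q) c • (a : Matrix (Fin n) (Fin n) (Localization.AtPrime q)) := by
    ext i j
    simp only [RingHom.mapMatrix_apply, Matrix.map_apply, M, Matrix.of_apply, Matrix.smul_apply]
    rw [hN, Algebra.smul_def, smul_eq_mul]
  have hdet : M.det ∉ q := by
    have : IsUnit (algebraMap B (Localization.AtPrime q) M.det) := by
      rw [RingHom.map_det, hM, Matrix.det_smul]
      exact ((IsLocalization.map_units _ c).pow _).mul (Matrix.isUnits_det_units a)
    exact (IsLocalization.AtPrime.isUnit_to_map_iff _ q M.det).mp this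
  have hf : (c : B) * M.det ∉ q := fun h => ((Ideal.IsPrime.mem_or_mem ‹_› h).elim c.2 hdet).elim
  let ι := algebraMap B (Localization.Away ((c : B) * M.det))
  have hu : IsUnit (ι ((c : B) * M.det)) := IsLocalization.Away.algebraMap_isUnit _
  rw [map_mul, IsUnit.mul_iff] at hu
  let A' : Matrix (Fin n) (Fin n) (Localization.Away ((c : B) * M.det)) :=
    ((hu.1.unit⁻¹ : (Localization.Away ((c : B) * M.det))ˣ) : Localization.Away ((c : B) * M.det)) •
      ι.mapMatrix M
  have hA : IsUnit A' := by
    rw [Matrix.isUnit_iff_isUnit_det, Matrix.det_smul, ← RingHom.map_det]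
    exact ((Units.isUnit _).pow _).mul hu.2
  refine ⟨_, hf, hA.unit, Units.ext ?_⟩
  ext i j
  show toLocal q _ hf (A' i j) = _
  apply (IsLocalization.map_units (Localization.AtPrime q) c).mul_left_cancel
  rw [← IsLocalization.Away.lift_eq (S := Localization.Away ((c : B) * M.det)) ((c : B) * M.det)
    (g := algebraMap B (Localization.AtPrime q)) (IsLocalization.map_units _ (⟨_, hf⟩ : q.primeCompl))]
  change toLocal q _ hf (ι c) * toLocal q _ hf (A' i j) = toLocal q _ hf (ι c) * _
  rw [← map_mul]
  simp only [A', Matrix.smul_apply, smul_eq_mul, ← mul_assoc, IsUnit.mul_val_inv, one_mul]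
  simp only [RingHom.mapMatrix_apply, Matrix.map_apply, ι, toLocal, IsLocalization.Away.lift_eq,
    M, Matrix.of_apply, hN, Algebra.smul_def]

theorem raise (f g : B) (hf : f ∉ q) (hfg : f * g ∉ q) (h : GL (Fin n) (Localization.Away f)) :
    Matrix.GeneralLinearGroup.map (toLocal q (f * g) hfg) (Matrix.GeneralLinearGroup.map
      (IsLocalization.Away.awayToAwayRight (S := Localization.Away f) f g) h) =
      Matrix.GeneralLinearGroup.map (toLocal q f hf) h := by
  refine Units.ext ?_
  ext i j
  exact RingHom.congr_fun (toLocal_comp q f g hf hfg) _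

theorem exists_lift_commutator (g : GL (Fin n) (Localization.AtPrime q))
    (hg : g ∈ commutator (GL (Fin n) (Localization.AtPrime q))) :
    ∃ (f : B) (hf : f ∉ q), ∃ h ∈ commutator (GL (Fin n) (Localization.Away f)),
      Matrix.GeneralLinearGroup.map (toLocal q f hf) h = g := by
  have hmul : ∀ {f f' : B}, f ∉ q → f' ∉ q → f * f' ∉ q := fun h h' hm =>
    ((Ideal.IsPrime.mem_or_mem ‹_› hm).elim h h').elim
  rw [commutator_eq_closure] at hg
  induction hg using Subgroup.closure_induction with
  | mem x hx =>
    obtain ⟨a, b, rfl⟩ := hx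
    obtain ⟨f, hf, a', rfl⟩ := exists_lift q a
    obtain ⟨f', hf', b', rfl⟩ := exists_lift q b
    obtain ⟨g, hg, rfl⟩ : ∃ g, g ∉ q ∧ g = f' * f := ⟨f' * f, hmul hf' hf, rfl⟩
    refine ⟨f * f', hmul hf hf', ⁅Matrix.GeneralLinearGroup.map
      (IsLocalization.Away.awayToAwayRight (S := Localization.Away f) f f') a',
      Matrix.GeneralLinearGroup.map
      (IsLocalization.Away.awayToAwayLeft (S := Localization.Away f') f' f) b'⁆,
      Subgroup.commutator_mem_commutator (Subgroup.mem_top _) (Subgroup.mem_top _), ?_⟩
    rw [map_commutatorElement]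
    congr 1
    · exact raise q f f' hf _ a'
    · refine Units.ext ?_
      ext i j
      refine RingHom.congr_fun (?_ : (toLocal q (f * f') (hmul hf hf')).comp
        (IsLocalization.Away.awayToAwayLeft (S := Localization.Away f') f' f) = toLocal q f' hf') _
      refine IsLocalization.ringHom_ext (Submonoid.powers f') (RingHom.ext fun a => ?_)
      simp [toLocal, IsLocalization.Away.awayToAwayLeft_eq]
  | one => exact ⟨1, fun h => ‹q.IsPrime›.ne_top ((Ideal.eq_top_iff_one _).mpr h), 1, one_mem _, map_one _⟩
  | mul x y _ _ hx hy =>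
    obtain ⟨f, hf, h, hh, rfl⟩ := hx
    obtain ⟨f', hf', h', hh', rfl⟩ := hy
    refine ⟨f * f', hmul hf hf', Matrix.GeneralLinearGroup.map
      (IsLocalization.Away.awayToAwayRight (S := Localization.Away f) f f') h *
      Matrix.GeneralLinearGroup.map
      (IsLocalization.Away.awayToAwayLeft (S := Localization.Away f') f' f) h',
      mul_mem (map_commutator _ hh) (map_commutator _ hh'), ?_⟩
    rw [map_mul]
    congr 1
    · exact raise q f f' hf _ h
    · refine Units.ext ?_
      ext i j
      refine RingHom.congr_fun (?_ : (toLocal q (f * f') (hmul hf hf')).comp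
        (IsLocalization.Away.awayToAwayLeft (S := Localization.Away f') f' f) = toLocal q f' hf') _
      refine IsLocalization.ringHom_ext (Submonoid.powers f') (RingHom.ext fun a => ?_)
      simp [toLocal, IsLocalization.Away.awayToAwayLeft_eq]
  | inv x _ hx =>
    obtain ⟨f, hf, h, hh, rfl⟩ := hx
    exact ⟨f, hf, h⁻¹, inv_mem hh, map_inv _ _⟩

open Polynomial in
/-- `X² - X + c`, with the discriminant inverted -/
noncomputable def quadPair (A : Type u) [CommRing A] (c : A) : StandardEtalePair A where
  f := X ^ 2 - X + C c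
  monic_f := by monicity!
  g := C (1 - 4 * c)
  cond := ⟨2 * X - 1, -4, 1, by
    simp [derivative_pow, map_ofNat]
    ring⟩

open Polynomial in
theorem quad_hasMap (A : Type u) [CommRing A] (p : Ideal A) [p.IsPrime] (c : A) (hD : 1 - 4 * c ∉ p) :
    ∃ x : AlgebraicClosure p.ResidueField, (quadPair A c).HasMap x := by
  let K := AlgebraicClosure p.ResidueField
  have : Nontrivial A := (Ideal.Quotient.mk p).domain_nontrivial
  obtain ⟨x, hx⟩ := IsAlgClosed.exists_root
    (Polynomial.map (algebraMap A K) (X ^ 2 - X + C c)) (by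
      have hm : (X ^ 2 - X + C c : A[X]).Monic := by monicity!
      refine (Polynomial.natDegree_pos_iff_degree_pos.mp ?_).ne'
      rw [hm.natDegree_map, show (X ^ 2 - X + C c : A[X]).natDegree = 2 from
        by compute_degree!]
      exact Nat.succ_pos 1)
  refine ⟨x, ?_, ?_⟩
  · rw [aeval_def, ← eval_map]; exact hx
  · show IsUnit (aeval x (C (1 - 4 * c)))
    rw [aeval_C, IsScalarTower.algebraMap_apply A p.ResidueField K]
    refine (Ne.isUnit ?_).map _
    exact fun h => hD (Ideal.algebraMap_residueField_eq_zero.mp h)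

/-- On the big étale site of a scheme the sheaf of commutator subgroups of Gl(n) is Sl(n) = Ker(det).
Concretely: let A be a commutative ring, n ≥ 0, s ∈ SL_n(A) and p a prime ideal of A. Then there are
an étale A-algebra A' with a prime ideal lying over p such that the image of s in GL_n(A') lies in
the commutator subgroup of GL_n(A'). (The inclusion of commutators in SL_n being clear, this is the
content of the statement.) -/
theorem result (A : Type u) [CommRing A] (n : ℕ)
    (s : Matrix.SpecialLinearGroup (Fin n) A) (p : PrimeSpectrum A) :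
    ∃ (A' : Type u) (_ : CommRing A') (_ : Algebra A A'), Algebra.Etale A A' ∧
      (∃ q : PrimeSpectrum A', q.asIdeal.comap (algebraMap A A') = p.asIdeal) ∧
      (Matrix.GeneralLinearGroup.map (algebraMap A A')) (Matrix.SpecialLinearGroup.toGL s) ∈
        commutator (Matrix.GeneralLinearGroup (Fin n) A') := by
  classical
  obtain ⟨c, hc, hD⟩ : ∃ c : A, IsUnit c ∧ 1 - 4 * c ∉ p.asIdeal := by
    by_cases h3 : (1 : A) - 4 * 1 ∈ p.asIdeal
    · refine ⟨-1, isUnit_one.neg, fun h5 => p.2.ne_top ((Ideal.eq_top_iff_one _).mpr ?_)⟩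
      have : (1 : A) = (-2) * (1 - 4 * 1) - (1 - 4 * (-1)) := by ring
      rw [this]
      exact sub_mem (Ideal.mul_mem_left _ _ h3) h5
    · exact ⟨1, isUnit_one, h3⟩
  let P := quadPair A c
  obtain ⟨x, hx⟩ := quad_hasMap A p.asIdeal c hD
  let φ : P.Ring →ₐ[A] AlgebraicClosure p.asIdeal.ResidueField := P.lift x hx
  let q : Ideal P.Ring := RingHom.ker φ.toRingHom
  have : q.IsPrime := RingHom.ker_isPrime _
  have hq : q.comap (algebraMap A P.Ring) = p.asIdeal := by
    ext a
    rw [Ideal.mem_comap, RingHom.mem_ker]
    show φ (algebraMap A P.Ring a) = 0 ↔ _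
    rw [φ.commutes, IsScalarTower.algebraMap_apply A p.asIdeal.ResidueField (AlgebraicClosure _),
      map_eq_zero_iff _ (algebraMap p.asIdeal.ResidueField (AlgebraicClosure _)).injective]
    exact Ideal.algebraMap_residueField_eq_zero
  let ι := algebraMap P.Ring (Localization.AtPrime q)
  have hX : P.X * (1 - P.X) = algebraMap A P.Ring c := by
    have h : Polynomial.aeval P.X (Polynomial.X ^ 2 - Polynomial.X + Polynomial.C c) = 0 :=
      P.hasMap_X.1
    rw [map_add, map_sub, map_pow, Polynomial.aeval_X, Polynomial.aeval_C] at h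
    linear_combination -h
  have hu : IsUnit (P.X * (1 - P.X)) := hX ▸ hc.map _
  rw [IsUnit.mul_iff] at hu
  let s' : GL (Fin n) P.Ring :=
    Matrix.GeneralLinearGroup.map (algebraMap A P.Ring) (Matrix.SpecialLinearGroup.toGL s)
  have hs : Matrix.GeneralLinearGroup.det (Matrix.GeneralLinearGroup.map ι s') = 1 := by
    refine Units.ext ?_
    show ((ι.mapMatrix ((algebraMap A P.Ring).mapMatrix (s : Matrix (Fin n) (Fin n) A)))).det = 1
    rw [← RingHom.map_det, ← RingHom.map_det, s.2, map_one, map_one]
  obtain ⟨f, hf, h, hh, he⟩ := exists_lift_commutator q _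
    (mem_commutator_local (hu.1.map ι).unit (by
      rw [IsUnit.unit_spec, ← neg_sub, IsUnit.neg_iff, ← map_one ι, ← map_sub]
      exact hu.2.map ι) _ hs)
  have hent : ∀ ij : Fin n × Fin n, ∃ c, c ∉ q ∧ ∀ c', c ∣ c' →
      IsLocalization.Away.awayToAwayRight (S := Localization.Away f) (P := Localization.Away (f * c')) f c'
        ((h : Matrix (Fin n) (Fin n) (Localization.Away f)) ij.1 ij.2) =
      IsLocalization.Away.awayToAwayRight (S := Localization.Away f) (P := Localization.Away (f * c')) f c'
        (algebraMap P.Ring (Localization.Away f) ((s' : Matrix (Fin n) (Fin n) P.Ring) ij.1 ij.2)) := by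
    intro ij
    refine exists_eq_at q f hf _ _ ?_
    rw [show toLocal q f hf (algebraMap P.Ring _ ((s' : Matrix (Fin n) (Fin n) P.Ring) ij.1 ij.2)) = ι _ from
      IsLocalization.Away.lift_eq _ _ _]
    exact congrArg (fun z : GL (Fin n) (Localization.AtPrime q) =>
      (z : Matrix (Fin n) (Fin n) (Localization.AtPrime q)) ij.1 ij.2) he
  choose d hdq hd using hent
  let c' : P.Ring := ∏ ij, d ij
  have hc' : f * c' ∉ q := fun hm => by
    rcases Ideal.IsPrime.mem_or_mem ‹_› hm with hm | hm
    · exact hf hm
    · obtain ⟨ij, -, hij⟩ := (Ideal.IsPrime.prod_mem_iff).mp hm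
      exact hdq ij hij
  refine ⟨Localization.Away (f * c'), inferInstance, inferInstance, ?_, ?_, ?_⟩
  · have : Algebra.Etale P.Ring (Localization.Away (f * c')) := Algebra.Etale.of_isLocalizationAway (f * c')
    exact Algebra.Etale.comp A P.Ring _
  · let Q : Ideal (Localization.Away (f * c')) :=
      q.map (algebraMap P.Ring (Localization.Away (f * c')))
    have hdisj : Disjoint (Submonoid.powers (f * c') : Set P.Ring) q := by
      rw [Set.disjoint_left]
      rintro _ ⟨k, rfl⟩ hk
      exact hc' (Ideal.IsPrime.mem_of_pow_mem ‹_› k hk)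
    refine ⟨⟨Q, IsLocalization.isPrime_of_isPrime_disjoint _ _ q ‹_› hdisj⟩, ?_⟩
    rw [IsScalarTower.algebraMap_eq A P.Ring (Localization.Away (f * c')), ← Ideal.comap_comap]
    show Ideal.comap _ (Ideal.comap _ Q) = _
    rw [show Ideal.comap _ Q = q from IsLocalization.under_map_of_isPrime_disjoint _ _ ‹_› hdisj, hq]
  · have := map_commutator (Matrix.GeneralLinearGroup.map
      (IsLocalization.Away.awayToAwayRight (S := Localization.Away f) (P := Localization.Away (f * c')) f c')) hh
    convert this using 1
    refine Units.ext ?_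
    ext i j
    show algebraMap A _ ((s : Matrix (Fin n) (Fin n) A) i j) = IsLocalization.Away.awayToAwayRight f c' _
    rw [hd (i, j) c' (Finset.dvd_prod_of_mem _ (Finset.mem_univ _)),
      IsLocalization.Away.awayToAwayRight_eq, IsScalarTower.algebraMap_apply A P.Ring]
    rfl

end Groth.Agent.S5658
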