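import Groth.Statements.S5659
import Mathlib
import Groth.Agent.CAlgH.ElemGen

set_option autoImplicit false
universe u
open CAlg

namespace Groth.Agent.S5659

open Groth.Agent.CAlgH.ElemGen

theorem idem_trivial (R : Type u) [CommRing R] [ConnectedSpace (PrimeSpectrum R)] {e : R}
    (he : IsIdempotentElem e) : e = 0 ∨ e = 1 := by
  have hc : IsClopen (PrimeSpectrum.basicOpen e : Set (PrimeSpectrum R)) :=
    PrimeSpectrum.isClopen_iff.mpr ⟨e, he, rfl⟩
  rcases isClopen_iff.mp hc with h | h
  · exact Or.inl (PrimeSpectrum.basicOpen_injOn_isIdempotentElem he IsIdempotentElem.zero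
      (SetLike.coe_injective (by simp [h])))
  · exact Or.inr (PrimeSpectrum.basicOpen_injOn_isIdempotentElem he IsIdempotentElem.one
      (SetLike.coe_injective (by simp [h])))

open Polynomial in
theorem aeval_coeff (R : Type u) [CommRing R] (p : R[X]) (k : ℕ) :
    (aeval (LaurentPolynomial.C (X : R[X]) * LaurentPolynomial.T 1) p).coeff (k : ℤ) =
      monomial k (p.coeff k) := by
  induction p using Polynomial.induction_on' with
  | add f g hf hg => simp [hf, hg]
  | monomial l a =>
    have h : (aeval (LaurentPolynomial.C (X : R[X]) * LaurentPolynomial.T 1)) (monomial l a) =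
        AddMonoidAlgebra.single (l : ℤ) (monomial l a) := by
      rw [aeval_monomial, mul_pow, ← map_pow, LaurentPolynomial.T_pow, ← mul_assoc,
        LaurentPolynomial.single_eq_C_mul_T, ← C_mul_X_pow_eq_monomial, map_mul, mul_one]
      rfl
    rw [h, AddMonoidAlgebra.coeff_single_apply, coeff_monomial]
    by_cases hlk : l = k <;> simp [hlk]

/-- evaluation of Laurent polynomials at a unit -/
noncomputable def evA (R : Type u) [CommRing R] {B : Type u} [CommRing B] [Algebra R B] (d : Bˣ) :
    LaurentPolynomial R →ₐ[R] B :=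
  { LaurentPolynomial.eval₂ (algebraMap R B) d with
    commutes' := fun r => by
      show LaurentPolynomial.eval₂ (algebraMap R B) d (algebraMap R (LaurentPolynomial R) r) = _
      rw [← LaurentPolynomial.eval₂_C (algebraMap R B) d r]
      rfl }

theorem evA_T (R : Type u) [CommRing R] {B : Type u} [CommRing B] [Algebra R B] (d : Bˣ) (i : ℤ) :
    evA R d (LaurentPolynomial.T i) = (d ^ i : Bˣ) :=
  LaurentPolynomial.eval₂_T _ _ _

/-- the unit `T` -/
noncomputable def Tu (R : Type u) [CommRing R] : (LaurentPolynomial R)ˣ :=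
  ⟨LaurentPolynomial.T 1, LaurentPolynomial.T (-1), by rw [← LaurentPolynomial.T_add]; simp,
    by rw [← LaurentPolynomial.T_add]; simp⟩

theorem Tu_zpow (R : Type u) [CommRing R] (i : ℤ) :
    ((Tu R ^ i : (LaurentPolynomial R)ˣ) : LaurentPolynomial R) = LaurentPolynomial.T i := by
  induction i with
  | zero => simp
  | succ k ih => rw [zpow_add_one, Units.val_mul, ih, LaurentPolynomial.T_add]; rfl
  | pred k ih => rw [zpow_sub_one, Units.val_mul, ih, sub_eq_add_neg, LaurentPolynomial.T_add]; rfl

theorem gm_char (R : Type u) [CommRing R] [ConnectedSpace (PrimeSpectrum R)]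
    (φ : ∀ (B : Type u) [CommRing B] [Algebra R B], Bˣ →* Bˣ)
    (hφ : ∀ (B C : Type u) [CommRing B] [Algebra R B] [CommRing C] [Algebra R C] (f : B →ₐ[R] C)
      (d : Bˣ), φ C (Units.map (f : B →* C) d) = Units.map (f : B →* C) (φ B d)) :
    ∃ m : ℤ, ∀ (B : Type u) [CommRing B] [Algebra R B] (d : Bˣ), φ B d = d ^ m := by
  classical
  have : Nontrivial R := by
    obtain ⟨p⟩ := (inferInstance : Nonempty (PrimeSpectrum R))
    exact nontrivial_of_ne 0 1 fun h => p.2.ne_top ((Ideal.eq_top_iff_one _).mpr (h ▸ zero_mem _))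
  let L := LaurentPolynomial R
  let u : L := ((φ L (Tu R) : Lˣ) : L)
  have hev : ∀ (B : Type u) [CommRing B] [Algebra R B] (d : Bˣ),
      (φ B d : B) = evA R d u := by
    intro B _ _ d
    have h : Units.map (evA R d : L →* B) (Tu R) = d :=
      Units.ext ((evA_T R d 1).trans (by rw [zpow_one]))
    conv_lhs => rw [← h, hφ]
    rfl
  let L2 := LaurentPolynomial L
  let s : L2ˣ := Units.map (LaurentPolynomial.C : L →+* L2).toMonoidHom (Tu R)
  let t : L2ˣ := Tu L
  have hmul := congrArg Units.val ((φ L2).map_mul s t)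
  rw [Units.val_mul, hev, hev, hev] at hmul
  have hcoeff : ∀ (p : L) (j : ℤ),
      (evA R (s * t) p).coeff j = AddMonoidAlgebra.single j (p.coeff j) ∧
      (evA R s p) = LaurentPolynomial.C p ∧
      (evA R t p).coeff j = LaurentPolynomial.C (p.coeff j) := by
    intro p
    induction p using LaurentPolynomial.induction_on' with
    | add f g hf hg =>
      intro j
      obtain ⟨f1, f2, f3⟩ := hf j
      obtain ⟨g1, g2, g3⟩ := hg j
      refine ⟨?_, ?_, ?_⟩
      · erw [map_add, AddMonoidAlgebra.coeff_add, Finsupp.add_apply, f1, g1, AddMonoidAlgebra.coeff_add, Finsupp.add_apply, AddMonoidAlgebra.single_add]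
      · simp [f2, g2]
      · erw [map_add, AddMonoidAlgebra.coeff_add, Finsupp.add_apply, f3, g3, AddMonoidAlgebra.coeff_add, Finsupp.add_apply, map_add]
    | C_mul_T i a =>
      intro j
      have hC : ∀ d : L2ˣ, evA R d (LaurentPolynomial.C a) =
          LaurentPolynomial.C (LaurentPolynomial.C a) := fun d =>
        (evA R d).commutes a
      have hs : ((s ^ i : L2ˣ) : L2) = LaurentPolynomial.C (LaurentPolynomial.T i) := by
        rw [← map_zpow, Units.coe_map, Tu_zpow]; rfl
      refine ⟨?_, ?_, ?_⟩
      · rw [map_mul, hC, evA_T, show (s * t) ^ i = s ^ i * t ^ i from mul_zpow s t i, Units.val_mul, hs, Tu_zpow, ← mul_assoc, ← map_mul,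
          ← LaurentPolynomial.single_eq_C_mul_T, ← LaurentPolynomial.single_eq_C_mul_T,
          AddMonoidAlgebra.coeff_single_apply, AddMonoidAlgebra.coeff_single_apply]
        by_cases hij : i = j <;> simp [hij]
      · rw [map_mul, hC, evA_T, hs, ← map_mul]
      · rw [map_mul, hC, evA_T, Tu_zpow,
          ← LaurentPolynomial.single_eq_C_mul_T, ← LaurentPolynomial.single_eq_C_mul_T,
          AddMonoidAlgebra.coeff_single_apply, AddMonoidAlgebra.coeff_single_apply]
        by_cases hij : i = j <;> simp [hij]
  have hij : ∀ i j : ℤ, u.coeff i * u.coeff j = if i = j then u.coeff j else 0 := by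
    intro i j
    have h1 := congrArg (fun q : L2 => (q.coeff j).coeff i) hmul
    simp only [(hcoeff u j).1, (hcoeff u j).2.1] at h1
    rw [AddMonoidAlgebra.coeff_single_apply] at h1
    have h2 : ((LaurentPolynomial.C u : L2) * evA R t u).coeff j = u * LaurentPolynomial.C (u.coeff j) := by
      rw [show (LaurentPolynomial.C u : L2) = AddMonoidAlgebra.single 0 u from rfl,
        AddMonoidAlgebra.coeff_single_zero_mul, (hcoeff u j).2.2]
    rw [h2, mul_comm u, show (LaurentPolynomial.C (u.coeff j) : L) =
      AddMonoidAlgebra.single 0 (u.coeff j) from rfl, AddMonoidAlgebra.coeff_single_zero_mul] at h1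
    rw [mul_comm, ← h1]
    simp [eq_comm]
  obtain ⟨j, hj⟩ : ∃ j, u.coeff j ≠ 0 := by
    by_contra h
    push Not at h
    exact (φ L (Tu R)).isUnit.ne_zero (AddMonoidAlgebra.ext (Finsupp.ext fun j => by simpa using h j))
  have hj1 : u.coeff j = 1 := (idem_trivial R (by simpa [IsIdempotentElem] using hij j j)).resolve_left hj
  have hu : u = LaurentPolynomial.T j := by
    refine AddMonoidAlgebra.ext (Finsupp.ext fun i => ?_)
    rw [LaurentPolynomial.T, AddMonoidAlgebra.coeff_single_apply]
    by_cases h : i = j
    · subst h; simpa using hj1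
    · have := hij i j
      rw [hj1, mul_one, if_neg h] at this
      rw [this, if_neg (Ne.symm h)]
  refine ⟨j, fun B _ _ d => Units.ext ?_⟩
  rw [hev, hu, evA_T]

theorem eq_one_of_locally (B : Type u) [CommRing B] (x : B)
    (h : ∀ (p : Ideal B) [p.IsMaximal], algebraMap B (Localization.AtPrime p) x = 1) : x = 1 := by
  by_contra hx
  let I : Ideal B := Submodule.colon (⊥ : Ideal B) {x - 1}
  have hI : I ≠ ⊤ := fun hI => hx <| sub_eq_zero.mp <| by
    have := Submodule.mem_colon_singleton.mp (show (1 : B) ∈ I by rw [hI]; trivial)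
    simpa using this
  obtain ⟨p, hp, hle⟩ := Ideal.exists_le_maximal I hI
  have h0 : algebraMap B (Localization.AtPrime p) (x - 1) = 0 := by simp [h p]
  obtain ⟨c, hc⟩ := (IsLocalization.map_eq_zero_iff p.primeCompl _ _).mp h0
  exact c.2 (hle (Submodule.mem_colon_singleton.mpr (by simpa using hc)))

theorem gl_char (R : Type u) [CommRing R] [ConnectedSpace (PrimeSpectrum R)] (n : ℕ) (hn : 0 < n)
    (β : ∀ (B : Type u) [CommRing B] [Algebra R B], GL (Fin n) B →* Bˣ)
    (hβ : ∀ (B C : Type u) [CommRing B] [Algebra R B] [CommRing C] [Algebra R C] (f : B →ₐ[R] C)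
      (g : GL (Fin n) B),
      β C (Matrix.GeneralLinearGroup.map f.toRingHom g) = Units.map (f.toRingHom : B →* C) (β B g)) :
    ∃ m : ℤ, ∀ (B : Type u) [CommRing B] [Algebra R B] (g : GL (Fin n) B),
      β B g = Matrix.GeneralLinearGroup.det g ^ m := by
  classical
  let i₀ : Fin n := ⟨0, hn⟩
  have htr : ∀ (B : Type u) [CommRing B] [Algebra R B] (i j : Fin n) (h : i ≠ j) (c : B),
      β B (tGL i j h c) = 1 := by
    intro B _ _ i j hij c
    open Polynomial in
    let p : R[X] := ((β R[X] (tGL i j hij X) : (R[X])ˣ) : R[X])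
    have hp : ∀ (C : Type u) [CommRing C] [Algebra R C] (y : C),
        (β C (tGL i j hij y) : C) = Polynomial.aeval y p := by
      intro C _ _ y
      have h1 := congrArg Units.val (hβ _ C (Polynomial.aeval y) (tGL i j hij Polynomial.X))
      rw [map_tGL] at h1
      simpa [p] using h1
    let d : GL (Fin n) (LaurentPolynomial (Polynomial R)) := dGL (Pi.mulSingle i (Tu (Polynomial R)))
    let x : (LaurentPolynomial (Polynomial R)) := LaurentPolynomial.C Polynomial.X
    have key : d * tGL i j hij x = tGL i j hij (x * LaurentPolynomial.T 1) * d := by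
      refine Units.ext ?_
      show Matrix.diagonal (fun a => ((Pi.mulSingle i (Tu (Polynomial R)) : Fin n → (LaurentPolynomial (Polynomial R))ˣ) a : (LaurentPolynomial (Polynomial R)))) *
          Matrix.transvection i j x = Matrix.transvection i j (x * LaurentPolynomial.T 1) *
        Matrix.diagonal (fun a => ((Pi.mulSingle i (Tu (Polynomial R)) : Fin n → (LaurentPolynomial (Polynomial R))ˣ) a : (LaurentPolynomial (Polynomial R))))
      ext a b
      simp only [Matrix.diagonal_mul, Matrix.mul_diagonal, Matrix.transvection, Matrix.add_apply]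
      by_cases hab : a = b
      · subst hab
        have : ¬ (i = a ∧ j = a) := fun ⟨x, y⟩ => hij (x.trans y.symm)
        simp [Matrix.single_apply, this]
      · by_cases hab2 : i = a ∧ j = b
        · obtain ⟨rfl, rfl⟩ := hab2
          simp [Matrix.single_apply, hij, Ne.symm hij, Tu]
        · simp [Matrix.single_apply, hab, hab2]
    have h2 := congrArg (β (LaurentPolynomial (Polynomial R))) key
    rw [map_mul, map_mul] at h2
    have h3 : (β (LaurentPolynomial (Polynomial R)) (tGL i j hij x) : LaurentPolynomial (Polynomial R)) =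
        (β (LaurentPolynomial (Polynomial R)) (tGL i j hij (x * LaurentPolynomial.T 1)) :
          LaurentPolynomial (Polynomial R)) := by
      refine congrArg Units.val (?_ : β _ (tGL i j hij x) = β _ _)
      rw [mul_comm (β _ d)] at h2
      exact mul_right_cancel h2
    rw [hp, hp] at h3
    have hC : Polynomial.aeval x p = LaurentPolynomial.C p := by
      have h := Polynomial.aeval_algHom_apply
        (IsScalarTower.toAlgHom R (Polynomial R) (LaurentPolynomial (Polynomial R))) Polynomial.X p
      simpa [x, Polynomial.aeval_X_left_apply] using h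
    have hzero : ∀ k : ℕ, k ≠ 0 → p.coeff k = 0 := by
      intro k hk
      have h4 := congrArg (fun q : (LaurentPolynomial (Polynomial R)) => (q.coeff (k : ℤ)).coeff k) h3
      simp only [hC, x, aeval_coeff, Polynomial.coeff_monomial_same] at h4
      rw [show (LaurentPolynomial.C p : (LaurentPolynomial (Polynomial R))) = AddMonoidAlgebra.single 0 p from rfl,
        AddMonoidAlgebra.coeff_single_apply, if_neg (by omega), Polynomial.coeff_zero] at h4
      exact h4.symm
    have hp0 : p = Polynomial.C (p.coeff 0) := Polynomial.ext fun k => by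
      rcases eq_or_ne k 0 with rfl | hk
      · simp
      · simp [hzero k hk, Polynomial.coeff_C, hk]
    have h1 : p.coeff 0 = 1 := by
      have h0 : tGL i j hij (0 : R) = 1 := Units.ext (Matrix.transvection_zero i j)
      have := hp R 0
      rw [h0, map_one, Units.val_one, hp0] at this
      simpa using this.symm
    refine Units.ext ?_
    rw [hp, hp0, h1]
    simp
  have hkill : ∀ (B : Type u) [CommRing B] [Algebra R B] (g : GL (Fin n) B),
      Matrix.GeneralLinearGroup.det g = 1 → β B g = 1 := by
    intro B _ _ g hg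
    refine Units.ext (eq_one_of_locally B _ fun q _ => ?_)
    let f : B →ₐ[R] Localization.AtPrime q := IsScalarTower.toAlgHom R B _
    let g' := Matrix.GeneralLinearGroup.map f.toRingHom g
    have hg' : Matrix.GeneralLinearGroup.det g' = 1 := by
      refine Units.ext ?_
      have := congrArg (fun z : Bˣ => f.toRingHom (z : B)) hg
      simpa [g', Matrix.GeneralLinearGroup.val_det_apply, RingHom.map_det] using this
    obtain ⟨e, h, hh, hgh⟩ := exists_mul_dGL
      ((β (Localization.AtPrime q)).ker ⊓ Matrix.GeneralLinearGroup.det.ker)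
      (fun i j hij c => ⟨htr _ i j hij c, det_tGL i j hij c⟩) g'
    have hprod : ∏ a, e a = 1 := by
      have := hg'
      rw [hgh, map_mul, show Matrix.GeneralLinearGroup.det h = 1 from hh.2, one_mul, det_dGL] at this
      exact this
    have hb : β (Localization.AtPrime q) g' = 1 := by
      rw [hgh, map_mul, show β _ h = 1 from hh.1, one_mul, map_dGL _ i₀, hprod]
      simp
    rw [hβ] at hb
    exact congrArg Units.val hb
  obtain ⟨m, hm⟩ := gm_char R
    (fun B _ _ => (β B).comp (dGL.comp (MonoidHom.mulSingle (fun _ : Fin n => Bˣ) i₀)))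
    (fun B C _ _ _ _ f d => by
      have h := hβ B C f (dGL (Pi.mulSingle i₀ d))
      rw [map_dGL_map] at h
      simp only [MonoidHom.comp_apply, MonoidHom.mulSingle_apply]
      rw [show (Pi.mulSingle i₀ (Units.map (f : B →* C) d) : Fin n → Cˣ) =
        fun a => Units.map (f.toRingHom : B →* C) ((Pi.mulSingle i₀ d : Fin n → Bˣ) a) from
        funext fun a => by by_cases ha : a = i₀
                           · subst ha; simp
                           · simp [ha]]
      exact h)
  refine ⟨m, fun B _ _ g => ?_⟩
  let D : GL (Fin n) B := dGL (Pi.mulSingle i₀ (Matrix.GeneralLinearGroup.det g))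
  have hD : Matrix.GeneralLinearGroup.det (g * D⁻¹) = 1 := by
    rw [map_mul, map_inv, det_dGL, Fintype.prod_pi_mulSingle', mul_inv_cancel]
  have := hkill B _ hD
  rw [map_mul, map_inv, mul_inv_eq_one] at this
  exact this.trans (hm B _)

/-- Every homomorphism of group sheaves Gl(n_1) × ⋯ × Gl(n_r) → G_m is (s_1, …, s_r) ↦ det(s_1)^{m_1} ⋯
det(s_r)^{m_r} with locally constant integers m_i uniquely determined by it. Concretely, over a
commutative ring R whose prime spectrum is connected and for ranks n_i ≥ 1: every family of group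
homomorphisms α_B : GL_{n_1}(B) × ⋯ × GL_{n_r}(B) → Bˣ, one for each commutative R-algebra B and
natural in B, is given by α_B(s) = Π_i det(s_i)^{m_i} for a unique m ∈ ℤ^r. (The published statement
allows ranks n_i ≥ 0; uniqueness of m_i needs n_i ≥ 1, since Gl(0) is trivial.) -/
theorem result (R : Type u) [CommRing R] [ConnectedSpace (PrimeSpectrum R)]
    (r : ℕ) (n : Fin r → ℕ) (hn : ∀ i, 0 < n i)
    (α : ∀ (B : Type u) [CommRing B] [Algebra R B], (∀ i, Matrix.GeneralLinearGroup (Fin (n i)) B) →* Bˣ)
    (hα : ∀ (B C : Type u) [CommRing B] [Algebra R B] [CommRing C] [Algebra R C] (φ : B →ₐ[R] C)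
      (s : ∀ i, Matrix.GeneralLinearGroup (Fin (n i)) B),
      α C (fun i => Matrix.GeneralLinearGroup.map φ.toRingHom (s i)) = Units.map (φ.toRingHom : B →* C) (α B s)) :
    ∃! m : Fin r → ℤ, ∀ (B : Type u) [CommRing B] [Algebra R B] (s : ∀ i, Matrix.GeneralLinearGroup (Fin (n i)) B),
      α B s = ∏ i, Matrix.GeneralLinearGroup.det (s i) ^ (m i) := by
  classical
  let β : ∀ i (B : Type u) [CommRing B] [Algebra R B], GL (Fin (n i)) B →* Bˣ := fun i B _ _ =>
    (α B).comp (MonoidHom.mulSingle (fun k => GL (Fin (n k)) B) i)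
  have hβ : ∀ i (B C : Type u) [CommRing B] [Algebra R B] [CommRing C] [Algebra R C] (f : B →ₐ[R] C)
      (g : GL (Fin (n i)) B),
      β i C (Matrix.GeneralLinearGroup.map f.toRingHom g) =
        Units.map (f.toRingHom : B →* C) (β i B g) := by
    intro i B C _ _ _ _ f g
    refine Eq.trans (congrArg (α C) (funext fun k => ?_)) (hα B C f (Pi.mulSingle i g))
    exact (Pi.apply_mulSingle (fun k (z : GL (Fin (n k)) B) =>
      Matrix.GeneralLinearGroup.map f.toRingHom z) (fun k => map_one _) i g k).symm
  choose m hm using fun i => gl_char R (n i) (hn i) (β i) (hβ i)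
  refine ⟨m, fun B _ _ s => ?_, fun m' hm' => funext fun i => ?_⟩
  · let ψ : (∀ i, GL (Fin (n i)) B) →* Bˣ := ∏ i, ((zpowGroupHom (m i)).comp
      Matrix.GeneralLinearGroup.det).comp (Pi.evalMonoidHom _ i)
    have : α B = ψ := by
      refine MonoidHom.ext fun s => ?_
      have : s ∈ (MonoidHom.eqLocusM (α B) ψ) := by
        refine Submonoid.pi_mem_of_mulSingle_mem s fun i => ?_
        show α B (Pi.mulSingle i (s i)) = ψ (Pi.mulSingle i (s i))
        rw [show α B (Pi.mulSingle i (s i)) = β i B (s i) from rfl, hm i B (s i)]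
        simp only [ψ, MonoidHom.finsetProd_apply]
        rw [Finset.prod_eq_single i]
        · simp
        · intro k _ hk; simp [hk]
        · simp
      exact this
    rw [this]
    simp [ψ]
  · have : Nontrivial R := by
      obtain ⟨p⟩ := (inferInstance : Nonempty (PrimeSpectrum R))
      exact nontrivial_of_ne 0 1 fun h => p.2.ne_top ((Ideal.eq_top_iff_one _).mpr (h ▸ zero_mem _))
    let g : GL (Fin (n i)) (LaurentPolynomial R) :=
      Groth.Agent.CAlgH.ElemGen.dGL (Pi.mulSingle ⟨0, hn i⟩ (Tu R))
    have h1 := hm' (LaurentPolynomial R) (Pi.mulSingle i g)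
    have h2 : α (LaurentPolynomial R) (Pi.mulSingle i g) =
        Matrix.GeneralLinearGroup.det g ^ (m i) := hm i _ g
    rw [h2, Finset.prod_eq_single i (fun k _ hk => by simp [hk]) (by simp), Pi.mulSingle_eq_same,
      Groth.Agent.CAlgH.ElemGen.det_dGL, Fintype.prod_pi_mulSingle'] at h1
    have h3 := congrArg (fun z : (LaurentPolynomial R)ˣ => ((z : LaurentPolynomial R)).coeff (m i)) h1
    simp only [Tu_zpow, LaurentPolynomial.T, AddMonoidAlgebra.coeff_single_apply] at h3
    by_contra hne
    simp [hne] at h3

end Groth.Agent.S5659
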