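import Groth.Statements.S5671
import Groth.Agent.Depth.Change
import Groth.Agent.CAlgReg.AusBuch

set_option autoImplicit false
universe u
open CategoryTheory
open Dual

namespace Groth.Agent.S5671

/-- First assertion, in the local-algebra form to which its proof reduces it: let `A` be a regular local
ring of dimension `n`, `p ≥ 0`, and `M` a finite `A`-module whose support has dimension at most `n -
p`. Then `Ext^i_A(M, A) = 0` for every `i < p`. (The geometric statement: on a nonsingular
`n`-dimensional variety the sheaves `Ext^i(F, L)` vanish for `i < p` when `F` is coherent with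
support of dimension `≤ n - p` and `L` is locally free.) -/
theorem result (A : Type u) [CommRing A] [IsRegularLocalRing A] (M : Type u) [AddCommGroup M] [Module A M] [Module.Finite A M] (p : ℕ) (hdim : Module.supportDim A M + p ≤ ringKrullDim A) (i : ℕ) (hi : i < p) : Subsingleton (Abelian.Ext (ModuleCat.of A M) (ModuleCat.of A A) i) := by
  obtain ⟨n, hn⟩ : ∃ n : ℕ, ringKrullDim A = n := ⟨_, (IsRegularLocalRing.iff_finrank_cotangentSpace A).mp inferInstance |>.symm⟩
  have hdep := CAlgReg.depth_self_eq_dim hn
  rcases subsingleton_or_nontrivial M with hM | hM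
  · refine subsingleton_of_forall_eq 0 fun x => ?_
    rw [← Abelian.Ext.mk₀_id_comp x,
      (ModuleCat.isZero_of_subsingleton (ModuleCat.of A M)).eq_of_src (𝟙 _) 0, Abelian.Ext.mk₀_zero,
      Abelian.Ext.zero_comp]
  · obtain ⟨D, hD⟩ : ∃ D : ℕ∞, Module.supportDim A M = D := by
      cases h : Module.supportDim A M with
      | bot => exact absurd h (Module.supportDim_ne_bot_of_nontrivial A M)
      | coe D => exact ⟨D, rfl⟩
    rw [hD, hn] at hdim
    induction D using ENat.recTopCoe with
    | top =>
      rw [show ((n : ℕ) : WithBot ℕ∞) = ((n : ℕ∞) : WithBot ℕ∞) from rfl, show ((p : ℕ) : WithBot ℕ∞) = ((p : ℕ∞) : WithBot ℕ∞) from rfl, ← WithBot.coe_add, top_add, WithBot.coe_le_coe, top_le_iff] at hdim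
      exact absurd hdim (ENat.natCast_ne_top n)
    | coe d =>
      norm_cast at hdim
      refine Depth.subsingleton_ext_of_add_supportDim_lt_depth A d M hD.le i ?_
      rw [hdep]
      exact_mod_cast (show i + d < n by omega)

end Groth.Agent.S5671
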