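import Groth.Statements.S5690
import Groth.Agent.GrpdQ.GlobalProps

set_option autoImplicit false
universe u
open CategoryTheory CategoryTheory.Limits AlgebraicGeometry
open FGA

namespace Groth.Agent.S5690

/-- Let (U, R, s, t, c) be a groupoid scheme over a scheme S whose source morphism s : R ⟶ U is finite
locally free (finite, flat and locally of finite presentation), and suppose every equivalence class
t(s⁻¹(x)), x a point of U, is contained in some affine open of U. Then there are a scheme Y and a
morphism q : U ⟶ Y with s ≫ q = t ≫ q which is a coequalizer of s and t in the category of schemes,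
affine, integral and surjective, whose fibres are the equivalence classes; and if (t, s) : R ⟶ U ×_S
U is a monomorphism then q is moreover finite, flat and locally of finite presentation and (t, s) :
R ⟶ U ×_Y U is an isomorphism. Only the sufficiency of the affine-class condition is stated (the
published statement is an equivalence: the quotient with these properties exists if and only if
every class lies in an affine open). -/
theorem result {S : Scheme.{u}} (G : Grpd.GroupoidScheme S)
    [IsFinite G.s] [Flat G.s] [LocallyOfFinitePresentation G.s]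
    (haff : ∀ x : ↥G.U, ∃ V : G.U.Opens, IsAffineOpen V ∧ G.t.base '' (G.s.base ⁻¹' {x}) ⊆ (V : Set ↥G.U)) :
    ∃ (Y : Scheme.{u}) (q : G.U ⟶ Y) (w : G.s ≫ q = G.t ≫ q),
      Nonempty (IsColimit (Cofork.ofπ q w)) ∧ IsAffineHom q ∧ IsIntegralHom q ∧ Surjective q ∧
      (∀ x x' : ↥G.U, q.base x = q.base x' ↔ ∃ r : ↥G.R, G.s.base r = x ∧ G.t.base r = x') ∧
      (Mono G.j → IsFinite q ∧ Flat q ∧ LocallyOfFinitePresentation q ∧
        IsIso (pullback.lift G.t G.s w.symm : G.R ⟶ pullback q q)) := by
  have hb : GrpdQ.OrbitAffine G := haff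
  obtain ⟨p, hp⟩ := GrpdQ.exists_proj (G := G) hb
  have hint : IsIntegralHom p := GrpdQ.of_pieces hb hp @IsIntegralHom fun W => (GrpdQ.piece G W).integral
  have w : G.t ≫ p = G.s ≫ p := GrpdQ.proj_w hb hp
  obtain ⟨hc⟩ := GrpdQ.nonempty_isColimit hb hp
  refine ⟨_, p, w.symm, ⟨Cofork.IsColimit.mk _ (fun c => hc.desc (Cofork.ofπ c.π c.condition.symm))
    (fun c => hc.fac (Cofork.ofπ c.π c.condition.symm) WalkingParallelPair.one)
    (fun c m hm => Cofork.IsColimit.hom_ext hc (hm.trans
      (hc.fac (Cofork.ofπ c.π c.condition.symm) WalkingParallelPair.one).symm))⟩,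
    inferInstance, hint, ⟨GrpdQ.proj_surjective hb hp⟩,
    fun x x' => (GrpdQ.proj_eq_iff hb hp x x').trans ⟨?_, ?_⟩, fun hj => ?_⟩
  · intro h
    obtain ⟨r, h1, h2⟩ := h
    obtain ⟨r', h1', h2'⟩ := (GrpdQ.proj_eq_iff hb hp x' x).1 ((GrpdQ.proj_eq_iff hb hp x x').2 ⟨r, h1, h2⟩).symm
    exact ⟨r', h2', h1'⟩
  · rintro ⟨r, h1, h2⟩
    exact (GrpdQ.proj_eq_iff hb hp x x').1 ((GrpdQ.proj_eq_iff hb hp x' x).2 ⟨r, h2, h1⟩).symm
  · haveI : Mono G.j := hj
    have h := GrpdQ.finLocFree_proj hb hp
    have hP := GrpdQ.isPullback_proj hb hp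
    refine ⟨h.1, h.2.1, h.2.2, ?_⟩
    have e : pullback.lift G.t G.s w.symm.symm = hP.isoPullback.hom := by
      apply pullback.hom_ext
      · exact (pullback.lift_fst _ _ _).trans hP.isoPullback_hom_fst.symm
      · exact (pullback.lift_snd _ _ _).trans hP.isoPullback_hom_snd.symm
    rw [e]; infer_instance

end Groth.Agent.S5690
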