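import Groth.Statements.S5710
import Groth.Agent.CSA.EtaleExists

set_option autoImplicit false
universe u v
open TensorProduct
open Dix

namespace Groth.Agent.S5710

/-- Over a local base where the open neighbourhood is the whole scheme. Let R be a local ring with
residue field k and A an Azumaya algebra over R whose rank as a (free) R-module is r². Then A has a
maximal étale subalgebra: there are a commutative R-algebra E, finite étale and free of rank r over
R, and an R-algebra homomorphism u : E → A which is injective on the special fibre, k ⊗_R E → k ⊗_R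
A. -/
theorem result (R : Type u) [CommRing R] [IsLocalRing R] (A : Type u) [Ring A] [Algebra R A] [IsAzumaya R A] (r : ℕ) (hA : Module.finrank R A = r ^ 2) : ∃ (E : Type u) (_ : CommRing E) (_ : Algebra R E), Algebra.Etale R E ∧ Module.Finite R E ∧ Module.Free R E ∧ Module.finrank R E = r ∧ ∃ u : E →ₐ[R] A, Function.Injective (u.toLinearMap.lTensor (IsLocalRing.ResidueField R)) := by
  let k := IsLocalRing.ResidueField R
  haveI : Module.Free R A := Module.free_of_flat_of_isLocalRing
  haveI := CSA.isAzumaya_baseChange R k A
  haveI := CSA.isCentral k (k ⊗[R] A)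
  haveI : IsSimpleRing (k ⊗[R] A) := CSA.isSimpleRing_tensor' R A k
  obtain ⟨x, hs, hdeg⟩ := CSA.exists_regular_element k (k ⊗[R] A) r (by rw [Module.finrank_baseChange, hA])
  obtain ⟨a, rfl⟩ : ∃ a : A, (1 : k) ⊗ₜ[R] a = x :=
    TensorProduct.mk_surjective R A k IsLocalRing.residue_surjective x
  obtain ⟨-, P, hPm, hPd, hPa, hPs⟩ := CSA.regular_lift R A r hA a hs hdeg
  exact ⟨AdjoinRoot P, inferInstance, inferInstance,
    CSA.etale_adjoinRoot hPm (CSA.isCoprime_derivative_of_map hPm hPs),
    hPm.finite_adjoinRoot, hPm.free_adjoinRoot,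
    (CSA.finrank_adjoinRoot P hPm).trans hPd, CSA.rootHom P a hPa,
    CSA.rootHom_residual_injective P hPm a hPa (hdeg.trans hPd.symm)⟩

end Groth.Agent.S5710
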