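import Groth.Statements.S5722
import Groth.Agent.SymAlgRel.VACrit
import Groth.Agent.SymAlgRel.RLmain
import Groth.Agent.GenLocus.PullTensor

set_option autoImplicit false
universe u
open CategoryTheory CategoryTheory.Limits AlgebraicGeometry TopologicalSpace Opposite
open scoped HomogeneousIdeal
open EGA2

namespace Groth.Agent.S5722

/-- Let f : X → Y be a quasi-compact morphism, E a quasi-coherent O_Y-module, 𝒮 its graded symmetric
algebra, p : P → Y the projective bundle P(E) = Proj(𝒮) with its charts over affine opens, and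
O_P(1) its fundamental sheaf, given with its chart identifications. If g : X → P is a Y-morphism (g
≫ p = f) whose underlying map is a homeomorphism of X onto a subspace of P, then the inverse image
g^*O_P(1) is ample relative to f. -/
theorem result {X Y : Scheme.{u}} (f : X ⟶ Y) [QuasiCompact f]
    (E : Y.Modules) (hE : Coh.IsQCoh E) (𝒮 : RelProj.QCGrAlg Y) (j : E ⟶ 𝒮.toModule)
    (hj : RelProj.IsGrSymAlg E 𝒮 j) (P : Scheme.{u}) (p : P ⟶ Y)
    (chart : ∀ (U : Y.Opens) (hU : IsAffineOpen U), ((p ⁻¹ᵁ U : P.Opens) : Scheme.{u}) ≅ Proj (𝒮.deg U hU))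
    (hP : RelProj.IsRelProj 𝒮 p chart) (O1 : P.Modules)
    (lam : ∀ (U : Y.Opens) (hU : IsAffineOpen U),
      O1 ⟶ (Scheme.Modules.pushforward (RelProj.emb p chart U hU)).obj (GrTwist.twist (𝒮.deg U hU) 1))
    (hO1 : RelProj.IsRelTwist 𝒮 p chart 1 O1 lam)
    (g : X ⟶ P) (hg : g ≫ p = f) (hemb : Topology.IsEmbedding g.base) :
    RelAmple.IsRelAmple f ((Scheme.Modules.pullback g).obj O1) := by
  subst hg
  let L := (Scheme.Modules.pullback g).obj O1
  have hL : PicF.IsInvertible L :=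
    GenLocus.isInvertible_pullback g (SymAlgRel.isInvertible_relTwist (SymAlgRel.grSymAlg_isGenDegOne hE hj) hO1)
  have hLq := TensorMod.isQCoh_of_isInvertible hL
  obtain ⟨𝒮L, jL, hjL⟩ := SymAlgRel.exists_isGrSymAlg L hLq
  obtain ⟨PL, pL, chartL, hPL⟩ := SymAlgRel.exists_isRelProj 𝒮L
  obtain ⟨φ, hφ⟩ := SymAlgRel.exists_canMap (lam := lam) hP hj hO1
  obtain ⟨u, hu⟩ := SymAlgRel.exists_bundle_hom hE hj φ hjL g (Iso.refl L)
  obtain ⟨r, hr, -⟩ := EGA2Misc.existsUnique_projQMapOn u hP hPL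
  have hxs := SymAlgRel.xs_eq_preimage hE hj hP hO1 φ hφ hjL hLq hL g (Iso.refl L) u hu hPL
  have htop : RelProj.domQ u pL chartL = ⊤ := SymAlgRel.domQ_eq_top_of_forall u hjL hLq hL hPL fun x => by
    obtain ⟨_, ⟨U, hU, rfl⟩, hxU, -⟩ :=
      Y.isBasis_affineOpens.exists_subset_of_mem_open (Set.mem_univ (p (g x))) isOpen_univ
    obtain ⟨w, hw⟩ : g x ∈ (RelProj.emb p chart U hU).opensRange := by
      rw [EGA2Misc.opensRange_emb]
      exact hxU
    obtain ⟨e, he⟩ := SymAlgRel.exists_gen_notMem hE hj U hU w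
    refine ⟨U, hU, 1, one_pos, _, SymAlgRel.tgen_mem hj hU e, ?_⟩
    rw [hxs U hU one_pos _ (SymAlgRel.tgen_mem hj hU e)]
    exact ⟨w, he, hw⟩
  haveI := SymAlgRel.isIso_pL hjL hLq hPL hL
  haveI : IsIso (RelProj.domQ u pL chartL).ι := by rw [htop]; exact inferInstanceAs (IsIso PL.topIso.hom)
  refine SymAlgRel.isRelAmple_of_isEmbedding u hjL hLq hL hP hPL hr htop ?_
  have hcomp : r ≫ p = (RelProj.domQ u pL chartL).ι ≫ pL ≫ g ≫ p := EGA2Misc.projQMapOn_comp u hP hPL r hr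
  let τ := (RelProj.domQ u pL chartL).ι ≫ pL
  have hτ : Topology.IsEmbedding τ.base := τ.isOpenEmbedding.isEmbedding
  have key : ∀ z, r z = g (τ z) := fun z => by
    have hpz : p (r z) = p (g (τ z)) :=
      congrArg (fun m : ((RelProj.domQ u pL chartL : PL.Opens) : Scheme.{u}) ⟶ Y => m z) hcomp
    refine Inseparable.eq (inseparable_iff_forall_isOpen.2 fun O hO => ?_)
    obtain ⟨_, ⟨U, hU, rfl⟩, hxU, -⟩ :=
      Y.isBasis_affineOpens.exists_subset_of_mem_open (Set.mem_univ (p (r z))) isOpen_univ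
    have hiff : ∀ (d : ℕ) (_ : 0 < d) (f : 𝒮.presheaf.obj (op U)), f ∈ 𝒮.deg U hU d →
        (r z ∈ RelProj.emb p chart U hU ''ᵁ Proj.basicOpen (𝒮.deg U hU) f ↔
          g (τ z) ∈ RelProj.emb p chart U hU ''ᵁ Proj.basicOpen (𝒮.deg U hU) f) := fun d hd f hf =>
      (SymAlgRel.mem_preimage_iff u hjL hLq hL hP hPL hr U hU hd f hf z).trans
        ((SymAlgRel.mem_xs u).symm.trans (SetLike.ext_iff.1 (hxs U hU hd f hf) _))
    constructor
    · intro hz
      obtain ⟨w, hw⟩ : r z ∈ (RelProj.emb p chart U hU).opensRange := by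
        rw [EGA2Misc.opensRange_emb]
        exact hxU
      obtain ⟨d, f, hd, hf, hwf, hle⟩ := SymAlgRel.exists_mem_basicOpen_le
        (W := RelProj.emb p chart U hU ⁻¹ᵁ ⟨O, hO⟩) (w := w) (show RelProj.emb p chart U hU w ∈ O from hw.symm ▸ hz)
      obtain ⟨v, hv, hve⟩ := (hiff d hd f hf).1 ⟨w, hwf, hw⟩
      exact hve ▸ hle hv
    · intro hz
      obtain ⟨w, hw⟩ : g (τ z) ∈ (RelProj.emb p chart U hU).opensRange := by
        rw [EGA2Misc.opensRange_emb]
        show p (g (τ z)) ∈ U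
        exact hpz ▸ hxU
      obtain ⟨d, f, hd, hf, hwf, hle⟩ := SymAlgRel.exists_mem_basicOpen_le
        (W := RelProj.emb p chart U hU ⁻¹ᵁ ⟨O, hO⟩) (w := w) (show RelProj.emb p chart U hU w ∈ O from hw.symm ▸ hz)
      obtain ⟨v, hv, hve⟩ := (hiff d hd f hf).2 ⟨w, hwf, hw⟩
      exact hve ▸ hle hv
  rw [show (r.base : _ → P) = g.base ∘ τ.base from funext key]
  exact hemb.comp hτ

end Groth.Agent.S5722
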