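import Groth.Statements.S5725
import Groth.Agent.SymAlgRel.BundleImm
import Groth.Agent.RelTildeEx.Basic

set_option autoImplicit false
universe u
open CategoryTheory CategoryTheory.Limits AlgebraicGeometry TopologicalSpace Opposite
open scoped HomogeneousIdeal
open EGA2

namespace Groth.Agent.S5725
open Groth.Agent.QCohBase Groth.Agent.GenLocus

/-- Let q : X → Y be a quasi-compact morphism and L an invertible O_X-module. If L is very ample
relative to q (isomorphic to i^*O_{P(E)}(1) for a Y-immersion i : X → P(E) into the projective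
bundle of a quasi-coherent O_Y-module E), then the canonical morphism q^*(q_*L) → L, the counit of
the adjunction between inverse and direct image, is an epimorphism. (The published statement also
records that q_*L is quasi-coherent, which holds because q is then quasi-compact and separated, and
lists a further property, that the morphism into the projective bundle of q_*L attached to this
epimorphism is an immersion; with that property the converse holds. Those parts are not stated
here.) -/
theorem result {X Y : Scheme.{u}} (q : X ⟶ Y) [QuasiCompact q] (L : X.Modules)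
    (hL : PicF.IsInvertible L) (h : RelProj.IsRelVeryAmple q L) :
    Epi ((Scheme.Modules.pullbackPushforwardAdjunction q).counit.app L) := by
  obtain ⟨E, hE, 𝒯, j, hj, P, p, chart, hP, O1, lam, hO1, i, hi, hcomp, ⟨g⟩⟩ := h
  subst hcomp
  obtain ⟨φ, hφ⟩ := SymAlgRel.exists_canMap (lam := lam) hP hj hO1
  let adj := Scheme.Modules.pullbackPushforwardAdjunction (i ≫ p)
  have htri : ∀ (U : Y.Opens) (s : Γ((Scheme.Modules.pushforward (i ≫ p)).obj L, U)),
      (adj.counit.app L).app ((i ≫ p) ⁻¹ᵁ U) (pullSec (i ≫ p) _ U s) = s := fun U s =>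
    congr($(congrArg (fun f => Scheme.Modules.Hom.app f U) (adj.right_triangle_components L)) s)
  refine RelTildeEx.epi_of_local _ fun V s x => ?_
  obtain ⟨_, ⟨U, hU, rfl⟩, hxU, -⟩ :=
    Y.isBasis_affineOpens.exists_subset_of_mem_open (Set.mem_univ ((i ≫ p) x.1)) isOpen_univ
  obtain ⟨w, hw⟩ : i x.1 ∈ (RelProj.emb p chart U hU).opensRange := by
    rw [EGA2Misc.opensRange_emb]
    exact hxU
  obtain ⟨e₀, he₀⟩ := SymAlgRel.exists_gen_notMem hE hj U hU w
  let W₀ := i ⁻¹ᵁ SymAlgRel.T₀ j chart U hU e₀
  have hWU : W₀ ≤ (i ≫ p) ⁻¹ᵁ U := i.preimage_mono (SymAlgRel.T₀_le U hU e₀)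
  let l := SymAlgRel.genSec φ i g.symm e₀
  have hfr : IsFrame L (mres L hWU l) := SymAlgRel.isFrame_l₀ hj hO1 φ hφ i g.symm U hU e₀
  obtain ⟨c, hc⟩ := (hfr (V ⊓ W₀) inf_le_right).2 (mres L inf_le_left s)
  refine ⟨V ⊓ W₀, inf_le_left, ⟨x.2, w, he₀, hw⟩,
    c • mres _ ((inf_le_right : V ⊓ W₀ ≤ W₀).trans hWU) (pullSec (i ≫ p) _ U
      (show Γ((Scheme.Modules.pushforward (i ≫ p)).obj L, U) from l)), ?_⟩
  refine (Scheme.Modules.Hom.app_smul _ c _).trans ?_
  refine Eq.trans ?_ hc
  refine congrArg (c • ·) ?_
  refine ((app_mres (adj.counit.app L) ((inf_le_right : V ⊓ W₀ ≤ W₀).trans hWU) _).symm.trans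
    (congrArg _ (htri U _))).trans ?_
  exact (mres_mres L hWU inf_le_right l).symm

end Groth.Agent.S5725
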