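import Groth.Statements.S5728
import Groth.Agent.SymAlgRel.ProjModel

set_option autoImplicit false
universe u
open CategoryTheory CategoryTheory.Limits AlgebraicGeometry TopologicalSpace Opposite
open scoped HomogeneousIdeal
open EGA2

namespace Groth.Agent.S5728

/-- Let f : X → Y be a proper morphism and L an invertible O_X-module which is very ample relative to f
and whose direct image f_*L (a quasi-coherent O_Y-module) is of finite type. Then f is projective: X
is isomorphic over Y to the relative homogeneous spectrum of a quasi-coherent graded O_Y-algebra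
generated by its degree-one part, with that part of finite type. -/
theorem result {X Y : Scheme.{u}} (f : X ⟶ Y) [IsProper f]
    (L : X.Modules) (hL : PicF.IsInvertible L) (hva : RelProj.IsRelVeryAmple f L)
    (hft : CohB1.IsFT ((Scheme.Modules.pushforward f).obj L)) : RelProj.IsProjective f := by
  obtain ⟨𝒮L, jL, hjL⟩ := SymAlgRel.exists_isGrSymAlg L (TensorMod.isQCoh_of_isInvertible hL)
  obtain ⟨PL, pL, chartL, hPL⟩ := SymAlgRel.exists_isRelProj 𝒮L
  haveI : L.IsQuasicoherent := TensorMod.isQCoh_of_isInvertible hL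
  have hFq : Coh.IsQCoh ((Scheme.Modules.pushforward f).obj L) := QCohBase.isQuasicoherent_pushforward L f
  obtain ⟨𝒯, jF, hF⟩ := SymAlgRel.exists_isGrSymAlg _ hFq
  obtain ⟨v, hv⟩ := SymAlgRel.exists_qGrHom_sigma (q := f) hFq hF hjL (𝟙 _)
  obtain ⟨E₀, hE₀, 𝒯₀, j₀, hj₀, P₀, p₀, chart₀, hP₀, u₀, σ₀, r₀, hu₀, hr₀, htop₀, himm₀, hgood₀⟩ :=
    SymAlgRel.exists_of_isRelVeryAmple hva hjL (TensorMod.isQCoh_of_isInvertible hL) hL hPL
  exact SymAlgRel.isProjective_of_good hL hjL hPL hFq hft hF v (SymAlgRel.good_of_sub hF v hE₀ hj₀ u₀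
    (fun U hU x => ⟨SymAlgRel.tgen jF (σ₀.app U x), (hv U hU _).trans (hu₀ U hU x).symm⟩)
    fun x => by
      obtain ⟨U, hU, hxU, -⟩ := TopologicalSpace.Opens.isBasis_iff_nbhd.1 Y.isBasis_affineOpens (U := ⊤)
        (TopologicalSpace.Opens.mem_top (f x))
      obtain ⟨d, hd, g, hg, h1⟩ := hgood₀ x U hU hxU
      exact ⟨U, hU, d, hd, g, hg, h1⟩)

end Groth.Agent.S5728
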