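import Groth.Statements.S5739
import Groth.Agent.ClPush.NearLevels

set_option autoImplicit false
universe u
open FCompl

namespace Groth.Agent.S5739

open AlgebraicGeometry CategoryTheory in
/-- Isomorphism case (completions presented by the closed subschemes of the powers of an ideal sheaf on
the base and of its inverse image ideals; the compatibility hypothesis hc always holds and is
carried as data for the completed morphism). Let Z be a locally Noetherian scheme, g : X → Z and h :
Y → Z proper morphisms, f : X → Y a morphism with f ≫ h = g, and 𝓙 an ideal sheaf on Z. Then every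
level of the completed morphism X̂ → Ŷ between the completions along the inverse image ideals of 𝓙
is an isomorphism if and only if there is an open subset U of Z containing the support of 𝓙 such
that the restriction g⁻¹(U) → h⁻¹(U) of f is an isomorphism. -/
theorem result {X Y Z : Scheme.{u}} [IsLocallyNoetherian Z]
    (g : X ⟶ Z) (h : Y ⟶ Z) [IsProper g] [IsProper h] (f : X ⟶ Y) (w : f ≫ h = g)
    (𝓙 : Z.IdealSheafData) (hc : FSch.PowCompat f (𝓙.comap g) (𝓙.comap h)) :
    (∀ n : ℕ, IsIso ((FSch.completionMap f (𝓙.comap g) (𝓙.comap h) hc : FSch.Hom _ _).app n)) ↔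
      ∃ U : Z.Opens, (𝓙.support : Set Z) ⊆ U ∧ IsIso (f ∣_ h ⁻¹ᵁ U) := by
  obtain rfl : g = f ≫ h := w.symm
  revert hc
  rw [Scheme.IdealSheafData.comap_comp 𝓙 f h]
  intro hc
  haveI : IsLocallyNoetherian Y := LocallyOfFiniteType.isLocallyNoetherian h
  constructor
  · intro H
    haveI := H 0
    refine Groth.Agent.ClPush.exists_open_of_local (P := MorphismProperty.isomorphisms _) f h _ fun y hy => ?_
    have hy' : y ∈ ((𝓙.comap h).support : Set Y) := by
      rw [Scheme.IdealSheafData.support_comap]; exact hy
    obtain ⟨W, hyW, hW⟩ :=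
      Groth.Agent.ClPush.levels_near_of_forall_closedImmersion (f ≫ h) h f rfl (𝓙.comap h) hc hy'
    haveI := hW
    exact @Groth.Agent.ClPush.exists_isIso_of_levels _ _ _ f (𝓙.comap h) W _ _
      (fun n => FSch.completionToX X ((𝓙.comap h).comap f) n)
      (fun n => (FSch.completionMap f ((𝓙.comap h).comap f) (𝓙.comap h) hc : FSch.Hom _ _).app n)
      (fun n => ((Groth.Agent.S3862.result f (𝓙.comap h) hc).1 n).w) H y hyW hy'
  · rintro ⟨U, hU, hP⟩ n
    refine Groth.Agent.ClPush.of_restrict_of_range_subset (P := MorphismProperty.isomorphisms _)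
      ((Groth.Agent.S3862.result f (𝓙.comap h) hc).1 n) (h ⁻¹ᵁ U) ?_ hP
    show Set.range ((𝓙.comap h) ^ (n + 1)).subschemeι ⊆ _
    rw [Scheme.IdealSheafData.range_subschemeι, Scheme.IdealSheafData.support_pow_succ,
      Scheme.IdealSheafData.support_comap]
    exact fun y hy => hU hy

end Groth.Agent.S5739
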