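import Groth.Statements.S5740
import Groth.Agent.ClPush.NearLevels

set_option autoImplicit false
universe u
open FCompl

namespace Groth.Agent.S5740

open AlgebraicGeometry CategoryTheory in
/-- Closed-immersion case (completions presented by the closed subschemes of the powers of an ideal
sheaf on the base and of its inverse image ideals, so that a closed immersion of completions is read
as a completed morphism all of whose levels are closed immersions; the compatibility hypothesis hc
always holds and is carried as data). Let Z be a locally Noetherian scheme, g : X → Z and h : Y → Z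
proper morphisms, f : X → Y a morphism with f ≫ h = g, and 𝓙 an ideal sheaf on Z. Then every level
of the completed morphism X̂ → Ŷ is a closed immersion if and only if there is an open subset U of Z
containing the support of 𝓙 such that the restriction g⁻¹(U) → h⁻¹(U) of f is a closed immersion. -/
theorem result {X Y Z : Scheme.{u}} [IsLocallyNoetherian Z]
    (g : X ⟶ Z) (h : Y ⟶ Z) [IsProper g] [IsProper h] (f : X ⟶ Y) (w : f ≫ h = g)
    (𝓙 : Z.IdealSheafData) (hc : FSch.PowCompat f (𝓙.comap g) (𝓙.comap h)) :
    (∀ n : ℕ, IsClosedImmersion
        ((FSch.completionMap f (𝓙.comap g) (𝓙.comap h) hc : FSch.Hom _ _).app n)) ↔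
      ∃ U : Z.Opens, (𝓙.support : Set Z) ⊆ U ∧ IsClosedImmersion (f ∣_ h ⁻¹ᵁ U) := by
  obtain rfl : g = f ≫ h := w.symm
  revert hc
  rw [Scheme.IdealSheafData.comap_comp 𝓙 f h]
  intro hc
  haveI : IsLocallyNoetherian Y := LocallyOfFiniteType.isLocallyNoetherian h
  constructor
  · intro H
    haveI := H 0
    exact Groth.Agent.ClPush.exists_open_of_local (P := @IsClosedImmersion) f h _ fun y hy =>
      Groth.Agent.ClPush.levels_near_of_forall_closedImmersion (f ≫ h) h f rfl (𝓙.comap h) hc
        (by rw [Scheme.IdealSheafData.support_comap]; exact hy)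
  · rintro ⟨U, hU, hP⟩ n
    refine Groth.Agent.ClPush.of_restrict_of_range_subset (P := @IsClosedImmersion)
      ((Groth.Agent.S3862.result f (𝓙.comap h) hc).1 n) (h ⁻¹ᵁ U) ?_ hP
    show Set.range ((𝓙.comap h) ^ (n + 1)).subschemeι ⊆ _
    rw [Scheme.IdealSheafData.range_subschemeι, Scheme.IdealSheafData.support_pow_succ,
      Scheme.IdealSheafData.support_comap]
    exact fun y hy => hU hy

end Groth.Agent.S5740
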