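import Groth.Statements.S5742
import Groth.Agent.ClPush.ProperAdic
import Mathlib.AlgebraicGeometry.Morphisms.Immersion
import Mathlib.RingTheory.AdicCompletion.Basic

set_option autoImplicit false
universe u
open Coherent

namespace Groth.Agent.S5742

open AlgebraicGeometry CategoryTheory CategoryTheory.Limits in
/-- Let A be a Noetherian ring separated and complete for the I-adic topology, X proper over Spec A and
Y locally of finite type over Spec A; write X_n = X ×_A Spec(A/I^(n+1)). Two A-morphisms φ, ψ : X →
Y whose restrictions to X_n coincide for every n are equal. (The published statement takes Y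
separated and of finite type over A, which the surjectivity half needs; injectivity uses neither
separatedness nor quasi-compactness of Y. Together with the existence of an A-morphism inducing any
compatible system of morphisms X_n → Y_n, this is the bijectivity of f ↦ f̂ from A-morphisms X → Y
to morphisms of the completions.) -/
theorem result (A : Type u) [CommRing A] [IsNoetherianRing A]
    (I : Ideal A) [IsAdicComplete I A] {X Y : Scheme.{u}} (f : X ⟶ Spec (CommRingCat.of A))
    (h : Y ⟶ Spec (CommRingCat.of A)) [IsProper f] [LocallyOfFiniteType h] (φ ψ : X ⟶ Y)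
    (hφ : φ ≫ h = f) (hψ : ψ ≫ h = f)
    (e : ∀ n : ℕ, CohB1.thickι f I n ≫ φ = CohB1.thickι f I n ≫ ψ) : φ = ψ := by
  have hI : I ≤ (⊥ : Ideal A).jacobson := IsAdicComplete.le_jacobson_bot I
  haveI : IsLocallyNoetherian X := LocallyOfFiniteType.isLocallyNoetherian f
  let q : X ⟶ pullback h h := pullback.lift φ ψ (by rw [hφ, hψ])
  let i := pullback.fst q (pullback.diagonal h)
  haveI : IsImmersion i := inferInstance
  have hi : i ≫ φ = i ≫ ψ := by
    have h1 := pullback.condition (f := q) (g := pullback.diagonal h)
    have ha := congrArg (· ≫ pullback.fst h h) h1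
    have hb := congrArg (· ≫ pullback.snd h h) h1
    simp only [Category.assoc, q, pullback.lift_fst, pullback.lift_snd, pullback.diagonal_fst,
      pullback.diagonal_snd, Category.comp_id] at ha hb
    exact ha.trans hb.symm
  have hfac : ∀ n, ∃ l, l ≫ i = CohB1.thickι f I n := fun n =>
    ⟨pullback.lift (CohB1.thickι f I n) (CohB1.thickι f I n ≫ φ) (pullback.hom_ext
      ((Category.assoc _ _ _).trans ((congrArg (CohB1.thickι f I n ≫ ·) (pullback.lift_fst _ _ _)).trans (by simp))) ((Category.assoc _ _ _).trans ((congrArg (CohB1.thickι f I n ≫ ·) (pullback.lift_snd _ _ _)).trans (by simp [e n])))), pullback.lift_fst _ _ _⟩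
  have hU : i.coborderRange = ⊤ := Groth.Agent.ClPush.eq_top_of_zeroLocus_le f hI _ fun x hx => by
    have hxr : x ∈ Set.range (CohB1.thickι f I 0) := by
      rw [Groth.Agent.ClPush.range_thickι_zero]; exact hx
    obtain ⟨l, hl⟩ := hfac 0
    obtain ⟨y, rfl⟩ := hxr
    exact subset_coborder ⟨l y, by rw [← Scheme.Hom.comp_apply, hl]⟩
  haveI : IsIso i.coborderRange.ι := by
    rw [hU]
    exact (inferInstance : IsIso X.topIso.hom)
  haveI : IsClosedImmersion i := by
    rw [← i.liftCoborder_ι]
    infer_instance
  have hk : i.ker = ⊥ := Groth.Agent.ClPush.eq_bot_of_le_ker_thickι f hI _ fun n => by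
    obtain ⟨l, hl⟩ := hfac n
    rw [← hl]
    exact l.le_ker_comp i
  haveI : IsIso i := IsClosedImmersion.isIso_iff_ker_eq_bot.2 hk
  rwa [← cancel_epi i]

end Groth.Agent.S5742
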