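import Groth.Statements.S5744
import Groth.Agent.BCModel.Model
import Groth.Agent.QCohBase.Criteria
import Groth.Agent.QCohBase.Qcqs

set_option backward.isDefEq.respectTransparency.types false
set_option linter.style.haveILetI false

set_option autoImplicit false
universe u
open Coherent

namespace Groth.Agent.S5744

open AlgebraicGeometry CategoryTheory CategoryTheory.Limits in
lemma isQuasicoherent_pi {X : Scheme.{u}} {J : Type u} [Finite J] (M : J → X.Modules)
    (hM : ∀ j, (M j).IsQuasicoherent) : (∏ᶜ M).IsQuasicoherent := by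
  classical
  haveI : HasFiniteBiproducts X.Modules := Abelian.hasFiniteBiproducts
  exact (SheafOfModules.isQuasicoherent X.ringCatSheaf).prop_of_iso
    ((biproduct.isoCoproduct M).symm ≪≫ biproduct.isoProduct M)
    (Groth.Agent.QCohBase.isQuasicoherent_colimit (Discrete.functor M) fun j => hM j.as)

open AlgebraicGeometry CategoryTheory in
/-- For the Čech complex of sheaves indexed by all ordered tuples with products as terms; over a finite
index type these terms are finite direct sums. Let X be a separated scheme, (U_i)_{i ∈ ι} a finite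
family of affine opens covering X, and F a quasi-coherent O_X-module. Then for every p the degree-p
term of the Čech complex of sheaves 𝔠(𝒰, F), the product over ordered (p+1)-tuples of the direct
images (j_{i_0…i_p})_*(F|_{U_{i_0…i_p}}), is a quasi-coherent O_X-module. -/
theorem result {X : Scheme.{u}} [X.IsSeparated] {ι : Type u}
    [Finite ι] (𝒰 : ι → X.Opens) (h𝒰 : ∀ i, IsAffineOpen (𝒰 i)) (hcov : ⨆ i, 𝒰 i = ⊤)
    (F : X.Modules) [Coh.IsQCoh F] (p : ℕ) :
    Coh.IsQCoh (((CechOX.cechSh 𝒰).obj F).X p) := by
  refine isQuasicoherent_pi (X := X) (J := Fin (p + 1) → ι) _ fun i => ?_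
  let W : X.Opens := ∏ᶜ (𝒰 ∘ i)
  have e : W = Groth.Agent.QCohBase.inter 𝒰 i :=
    le_antisymm (le_iInf fun a => leOfHom (Limits.Pi.π (𝒰 ∘ i) a))
      (leOfHom (Limits.Pi.lift fun a => homOfLE (iInf_le (fun a => 𝒰 (i a)) a)))
  have hW : IsAffineOpen W := e ▸ Groth.Agent.BCModel.isAffineOpen_inter h𝒰 p i
  haveI : IsAffine W.toScheme := hW
  haveI : QuasiCompact W.ι := inferInstance
  exact Groth.Agent.QCohBase.isQuasicoherent_pushforward (F.restrict W.ι) W.ι

end Groth.Agent.S5744
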