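import Groth.Statements.S5747
import Groth.Agent.GrModLib.FiniteSect
import Groth.Agent.SymAlgRel.TwistQCoh

set_option backward.isDefEq.respectTransparency.types false

set_option autoImplicit false
universe u
open CategoryTheory CategoryTheory.Limits AlgebraicGeometry Opposite TopologicalSpace
open scoped HomogeneousIdeal
noncomputable section
open Coherent

namespace Groth.Agent.S5747

open AlgebraicGeometry CategoryTheory Opposite in
lemma finite_of_chart {X Y : Scheme.{u}} (f : X ⟶ Y) [IsOpenImmersion f] {M : Y.Modules} {N : X.Modules}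
    (φ : M ⟶ (Scheme.Modules.pushforward f).obj N) {W : Y.Opens} (hW : W ≤ f.opensRange)
    (hφ : Function.Bijective (φ.app W)) (h : Module.Finite Γ(X, f ⁻¹ᵁ W) Γ(N, f ⁻¹ᵁ W)) :
    Module.Finite Γ(Y, W) Γ(M, W) := by
  classical
  obtain ⟨s, hs⟩ := h.fg_top
  obtain ⟨t, ht⟩ : ∃ t : Γ(N, f ⁻¹ᵁ W) → Γ(M, W), ∀ z, φ.app W (t z) = z :=
    ⟨Function.surjInv hφ.2, Function.surjInv_eq hφ.2⟩
  refine ⟨⟨s.image fun z => t z, eq_top_iff.2 fun x _ => ?_⟩⟩
  have key : ∀ z : Γ(N, f ⁻¹ᵁ W), t z ∈ Submodule.span Γ(Y, W) ((s.image fun z => t z : Finset Γ(M, W)) : Set Γ(M, W)) := by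
    intro z
    have hz : z ∈ Submodule.span Γ(X, f ⁻¹ᵁ W) (s : Set Γ(N, f ⁻¹ᵁ W)) := hs ▸ trivial
    induction hz using Submodule.span_induction with
    | mem z hz => exact Submodule.subset_span (Finset.mem_coe.2 (Finset.mem_image_of_mem _ hz))
    | zero =>
      rw [show t 0 = 0 from hφ.1 ((ht 0).trans (map_zero (φ.app W).hom).symm)]
      exact zero_mem _
    | add a b _ _ ha hb =>
      rw [show t (a + b) = t a + t b from hφ.1 ((ht _).trans ((map_add (φ.app W).hom _ _).trans (congrArg₂ (fun u v : Γ(N, f ⁻¹ᵁ W) => u + v) (ht a) (ht b))).symm)]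
      exact add_mem ha hb
    | smul r a _ ha =>
      haveI : IsIso (f.app W) := f.isIso_app W hW
      obtain ⟨r', rfl⟩ := (ConcreteCategory.bijective_of_isIso (f.app W)).2 r
      rw [show t (f.app W r' • a) = r' • t a from hφ.1 ((ht _).trans ((φ.app_smul r' (t a)).trans (congrArg (fun u : Γ(N, f ⁻¹ᵁ W) => (f.app W r' : Γ(X, f ⁻¹ᵁ W)) • u) (ht a))).symm)]
      exact Submodule.smul_mem _ _ ha
  rw [show x = t (φ.app W x) from hφ.1 (ht _).symm]
  exact key _

/-- Let Y be a Noetherian scheme, 𝒮 a quasi-coherent positively graded O_Y-algebra of finite type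
(generators of any positive degrees), p : X = Proj(𝒮) → Y its relative homogeneous spectrum with its
charts over the affine opens, and n any integer. Then the homogeneous component O_X(n), given
through its chartwise identifications with the twisting modules O(n) on the Proj 𝒮(U), is a coherent
O_X-module (quasi-coherent of finite type; X is locally Noetherian). -/
theorem result {Y X : Scheme.{u}} [AlgebraicGeometry.IsNoetherian Y]
    (𝒮 : RelProj.QCGrAlg Y)
    (hft : ∀ (U : Y.Opens) (hU : IsAffineOpen U), (𝒮.str.app (op U)).hom.FiniteType)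
    (p : X ⟶ Y)
    (chart : ∀ (U : Y.Opens) (hU : IsAffineOpen U), (((p ⁻¹ᵁ U : X.Opens) : Scheme.{u}) ≅ Proj (𝒮.deg U hU)))
    (hP : RelProj.IsRelProj 𝒮 p chart) (n : ℤ) (L : X.Modules)
    (lam : ∀ (U : Y.Opens) (hU : IsAffineOpen U),
      L ⟶ (Scheme.Modules.pushforward (RelProj.emb p chart U hU)).obj (GrTwist.twist (𝒮.deg U hU) n))
    (hL : RelProj.IsRelTwist 𝒮 p chart n L lam) : Coh.IsCoh L := by
  have hq : Coh.IsQCoh L := Groth.Agent.SymAlgRel.isQCoh_of_relCharts L _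
    (fun U hU => Groth.Agent.GrModLib.isQuasicoherent_twist (𝒮.deg U hU) n) lam hL.bijective
  haveI := hq
  refine ⟨hq, Groth.Agent.QCohBase.isFiniteType_of_finite L fun x => ?_⟩
  obtain ⟨⟨U, hU⟩, hxU⟩ := TopologicalSpace.Opens.mem_iSup.1
    ((AlgebraicGeometry.iSup_affineOpens_eq_top Y).ge (Set.mem_univ (p.base x)))
  letI A := 𝒮.presheaf.obj (op U)
  haveI : IsNoetherianRing Γ(Y, U) := IsLocallyNoetherian.component_noetherian ⟨U, hU⟩
  letI : Algebra Γ(Y, U) (𝒮.presheaf.obj (op U)) := (𝒮.str.app (op U)).hom.toAlgebra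
  haveI : Algebra.FiniteType Γ(Y, U) (𝒮.presheaf.obj (op U)) := hft U hU
  haveI : IsNoetherianRing (𝒮.presheaf.obj (op U)) := Algebra.FiniteType.isNoetherianRing Γ(Y, U) _
  let e := RelProj.emb p chart U hU
  have hr : e.opensRange = p ⁻¹ᵁ U := Groth.Agent.EGA2Misc.opensRange_emb p chart U hU
  obtain ⟨z, hz⟩ : x ∈ e.opensRange := hr ▸ hxU
  obtain ⟨d, f, hd, hf, hpf⟩ : ∃ (d : ℕ) (f : _), 0 < d ∧ f ∈ 𝒮.deg U hU d ∧ f ∉ z.asHomogeneousIdeal := by
    by_contra hne
    push Not at hne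
    refine z.not_irrelevant_le ?_
    rw [HomogeneousIdeal.irrelevant_le]
    exact fun i hi b hb ↦ hne i b hi hb
  let D := Proj.basicOpen (𝒮.deg U hU) f
  have hD : IsAffineOpen D := Proj.isAffineOpen_basicOpen _ f hf hd
  have hle : e ''ᵁ D ≤ e.opensRange := e.image_le_opensRange D
  refine ⟨e ''ᵁ D, hD.image_of_isOpenImmersion e, hz ▸ ⟨z, hpf, rfl⟩, ?_⟩
  refine finite_of_chart e (lam U hU) hle (hL.bijective U hU _ (hle.trans hr.le)) ?_
  rw [e.preimage_image_eq D]
  haveI := Groth.Agent.GrModLib.finite_sections_tilde (𝒮.deg U hU) n hd hf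
  let ψ := inv (Groth.Agent.GrModLib.twistToTilde (𝒮.deg U hU) n)
  exact Module.Finite.of_surjective
    ({ toFun := fun w => ψ.app D w, map_add' := map_add (ψ.app D).hom, map_smul' := fun r w => ψ.app_smul r w } :
      Γ(GrMod.tilde (𝒮.deg U hU) (𝒮.deg U hU) n, D) →ₗ[Γ(Proj (𝒮.deg U hU), D)] Γ(GrTwist.twist (𝒮.deg U hU) n, D))
    (ConcreteCategory.bijective_of_isIso (ψ.app D)).2

end Groth.Agent.S5747
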