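import Groth.Statements.S5752
import Groth.Agent.CMAux.Basic
import Mathlib

set_option autoImplicit false
universe u
open EGA41

namespace Groth.Agent.S5752

/-- Let A be a Noetherian local ring with maximal ideal m and M a finitely generated A-module. Then M
has depth 0 if and only if m is an associated prime of M, i.e. if and only if M contains a copy of
the residue field. (For M = 0 the depth is ⊤ and there are no associated primes.) -/
theorem result (A : Type u) [CommRing A] [IsLocalRing A]
    [IsNoetherianRing A] (M : Type u) [AddCommGroup M] [Module A M] [Module.Finite A M] :
    LocCoh.depth A M = 0 ↔ IsLocalRing.maximalIdeal A ∈ associatedPrimes A M := by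
  rcases subsingleton_or_nontrivial M with hM | hM
  · rw [LocCoh.depth, Groth.Agent.Depth.idealDepth_of_subsingleton]
    refine iff_of_false ENat.top_ne_zero fun h => ?_
    exact Set.notMem_empty _ (associatedPrimes.eq_empty_of_subsingleton (R := A) (M := M) ▸ h)
  · exact Groth.Agent.Depth.depth_eq_zero_iff

end Groth.Agent.S5752
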