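import Groth.Statements.S5753
import Groth.Agent.CMAux.Basic
import Mathlib

set_option autoImplicit false
universe u
open EGA41

namespace Groth.Agent.S5753

/-- Let A be a Noetherian local ring with maximal ideal m and residue field k, and N a finitely
generated A-module. Then no element of m is N-regular (multiplication by it injective) if and only
if Hom_A(k, N) is nonzero. Applied to N = M/(x_1 M + ... + x_n M) for an M-regular sequence (x_i) in
m, this says that the sequence cannot be extended by an element of m if and only if Hom_A(k, M/(x_1
M + ... + x_n M)) ≠ 0. (The published statement allows an arbitrary module; for the direct sum N of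
the quotients of a two-dimensional regular local ring by all its height-one primes no element of m
is N-regular while Hom_A(k, N) = 0, and the published proof uses finiteness of the set of associated
primes, so N is taken finitely generated here.) -/
theorem result (A : Type u) [CommRing A]
    [IsLocalRing A] [IsNoetherianRing A] (N : Type u) [AddCommGroup N] [Module A N] [Module.Finite A N] :
    (∀ x ∈ IsLocalRing.maximalIdeal A, ¬ IsSMulRegular N x) ↔
      Nontrivial (IsLocalRing.ResidueField A →ₗ[A] N) := by
  constructor
  · intro h
    rcases subsingleton_or_nontrivial N with hN | hN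
    · exact absurd (fun a b _ => Subsingleton.elim a b) (h 0 (zero_mem _))
    have hne : IsLocalRing.maximalIdeal A • (⊤ : Submodule A N) ≠ ⊤ := Groth.Agent.Depth.maximalIdeal_smul_top_ne_top
    have h0 : LocCoh.idealDepth (IsLocalRing.maximalIdeal A) N = 0 := by
      by_contra h0
      rw [← Ne, ← Order.one_le_iff_ne_zero, Groth.Agent.Depth.one_le_idealDepth_iff hne] at h0
      obtain ⟨r, hr, hreg⟩ := h0
      exact h r hr hreg
    obtain ⟨hprime, x, hx⟩ := (isAssociatedPrime_iff_exists_injective_linearMap (IsLocalRing.maximalIdeal A) N).1
      ((Groth.Agent.Depth.depth_eq_zero_iff.1 h0))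
    exact ⟨⟨x, 0, fun h => one_ne_zero (α := A ⧸ IsLocalRing.maximalIdeal A)
      (hx ((LinearMap.congr_fun h 1).trans (map_zero x).symm))⟩⟩
  · intro h x hx hreg
    obtain ⟨f, hf⟩ := exists_ne (0 : IsLocalRing.ResidueField A →ₗ[A] N)
    refine hf (LinearMap.ext fun z => hreg ?_)
    show x • f z = x • (0 : N)
    rw [smul_zero, ← map_smul]
    obtain ⟨a, rfl⟩ := IsLocalRing.residue_surjective z
    rw [show x • IsLocalRing.residue A a = IsLocalRing.residue A (x * a) from rfl,
      (IsLocalRing.residue_eq_zero_iff _).2 (Ideal.mul_mem_right _ _ hx), map_zero]

end Groth.Agent.S5753
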