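import Groth.Statements.S5754
import Mathlib

set_option autoImplicit false
universe u
open EGA41

namespace Groth.Agent.S5754

/-- Let A be a Noetherian ring, M a finitely generated A-module and t an element of A which is
M-regular. For every associated prime p of M, every prime ideal minimal among those containing p +
tA is an associated prime of M/tM. -/
theorem result (A : Type u) [CommRing A]
    [IsNoetherianRing A] (M : Type u) [AddCommGroup M] [Module A M] [Module.Finite A M] (t : A)
    (ht : IsSMulRegular M t) (p : Ideal A) (hp : p ∈ associatedPrimes A M) (q : Ideal A)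
    (hq : q ∈ (p ⊔ Ideal.span {t}).minimalPrimes) : q ∈ associatedPrimes A (QuotSMulTop t M) := by
  obtain ⟨-, x, hx⟩ := isAssociatedPrime_iff.mp (AssociatedPrimes.mem_iff.mp hp)
  let N : Submodule A M :=
    { carrier := {y | ∀ a ∈ p, a • y = 0}
      add_mem' := fun {a b} ha hb r hr => by rw [smul_add, ha r hr, hb r hr, add_zero]
      zero_mem' := fun r _ => smul_zero r
      smul_mem' := fun c y hy r hr => by rw [smul_comm, hy r hr, smul_zero] }
  have hxN : x ∈ N := fun r hr => by
    rw [hx, Submodule.mem_colon_singleton, Submodule.mem_bot] at hr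
    exact hr
  have hann : Module.annihilator A N = p := by
    refine le_antisymm (fun r hr => ?_) (fun r hr => Module.mem_annihilator.2 fun y => Subtype.ext (y.2 r hr))
    rw [hx, Submodule.mem_colon_singleton, Submodule.mem_bot]
    exact congrArg Subtype.val (Module.mem_annihilator.1 hr ⟨x, hxN⟩)
  have hinj : Function.Injective (QuotSMulTop.map t N.subtype) := by
    rw [injective_iff_map_eq_zero]
    intro z hz
    obtain ⟨⟨y, hy⟩, rfl⟩ := Submodule.Quotient.mk_surjective _ z
    change Submodule.Quotient.mk y = 0 at hz
    obtain ⟨w, -, hw⟩ := (Submodule.mem_smul_pointwise_iff_exists _ _ _).1 ((Submodule.Quotient.mk_eq_zero _).1 hz)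
    have hwN : w ∈ N := fun r hr => ht (by
      show t • (r • w) = t • 0
      rw [smul_comm, hw, hy r hr, smul_zero])
    exact (Submodule.Quotient.mk_eq_zero _).2
      ((Submodule.mem_smul_pointwise_iff_exists _ _ _).2 ⟨⟨w, hwN⟩, trivial, Subtype.ext hw⟩)
  refine associatedPrimes.subset_of_injective hinj ?_
  haveI : Module.Finite A N := Module.Finite.of_fg (IsNoetherian.noetherian N)
  refine Module.associatedPrimes.minimalPrimes_annihilator_subset_associatedPrimes A _ ?_
  have hrad : (Module.annihilator A (QuotSMulTop t N)).radical = (p ⊔ Ideal.span {t}).radical := by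
    rw [← PrimeSpectrum.zeroLocus_eq_iff, ← Module.support_eq_zeroLocus, Module.support_quotSMulTop,
      Module.support_eq_zeroLocus, hann, PrimeSpectrum.zeroLocus_sup, PrimeSpectrum.zeroLocus_span]
  rw [← Ideal.radical_minimalPrimes, hrad, Ideal.radical_minimalPrimes]
  exact hq

end Groth.Agent.S5754
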