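import Groth.Statements.S5755
import Mathlib
import Groth.Agent.Depth.Basic

set_option autoImplicit false
universe u
open EGA41

namespace Groth.Agent.S5755

/-- A reduced Noetherian local ring A has depth 0 if and only if A is a field. -/
theorem result (A : Type u) [CommRing A] [IsLocalRing A]
    [IsNoetherianRing A] [IsReduced A] : LocCoh.depth A A = 0 ↔ IsField A := by
  refine ⟨fun h => ?_, fun h => ?_⟩
  · rw [Depth.depth_eq_zero_iff, AssociatedPrimes.mem_iff, isAssociatedPrime_iff] at h
    obtain ⟨-, x, hx⟩ := h
    rw [IsLocalRing.isField_iff_maximalIdeal_eq]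
    by_contra hm
    have hmul : ∀ r ∈ IsLocalRing.maximalIdeal A, r * x = 0 := fun r hr => by
      rw [hx, Submodule.mem_colon_singleton, Submodule.mem_bot] at hr
      exact hr
    have hx0 : x ≠ 0 := fun h0 => (IsLocalRing.maximalIdeal.isMaximal A).ne_top <| by
      rw [Ideal.eq_top_iff_one, hx, Submodule.mem_colon_singleton, h0, smul_zero]
      exact zero_mem _
    have hxm : x ∈ IsLocalRing.maximalIdeal A := by
      by_contra hu
      obtain ⟨r, hr, hr0⟩ := Submodule.exists_mem_ne_zero_of_ne_bot hm
      refine hr0 ((IsUnit.mul_left_eq_zero ?_).1 (hmul r hr))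
      simpa using hu
    exact hx0 (IsReduced.eq_zero x ⟨2, by rw [pow_two]; exact hmul x hxm⟩)
  · have hle := Depth.depth_le_ringKrullDim (R := A) (M := A)
    rw [ringKrullDim_eq_zero_of_isField h] at hle
    exact nonpos_iff_eq_zero.1 (WithBot.coe_le_coe.1 hle)

end Groth.Agent.S5755
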