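import Groth.Statements.S5756
import Mathlib
import Groth.Agent.Depth.Change
import Groth.Agent.CMAux.FiniteOverBase

set_option autoImplicit false
universe u
open EGA41

namespace Groth.Agent.S5756

/-- Suppose A and B are Noetherian local rings and ρ : A → B is a local homomorphism. Given a B-module M
that, viewed as an A-module through ρ, is finitely generated, the depth of M over A coincides with
the depth of M over B. -/
theorem result (A B : Type u) [CommRing A] [CommRing B] [IsLocalRing A]
    [IsLocalRing B] [IsNoetherianRing A] [IsNoetherianRing B] [Algebra A B] [IsLocalHom (algebraMap A B)]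
    (M : Type u) [AddCommGroup M] [Module B M] [Module A M] [IsScalarTower A B M] [Module.Finite A M] :
    LocCoh.depth A M = LocCoh.depth B M := by
  rcases subsingleton_or_nontrivial M with hM | hM
  · rw [LocCoh.depth, LocCoh.depth, Depth.idealDepth_of_subsingleton, Depth.idealDepth_of_subsingleton]
  haveI := Module.Finite.of_restrictScalars_finite A B M
  haveI := CMAux.finite_quotient_annihilator A B M
  let J := Module.annihilator B M
  have hJ : J ≠ ⊤ := fun h => not_subsingleton M (Module.annihilator_eq_top_iff.1 h)
  haveI : Nontrivial (B ⧸ J) := Ideal.Quotient.nontrivial_iff.2 hJ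
  haveI : IsLocalRing (B ⧸ J) := IsLocalRing.of_surjective' (Ideal.Quotient.mk J) Ideal.Quotient.mk_surjective
  letI : Module (B ⧸ J) M := (Module.isTorsionBySet_annihilator B M).module
  haveI : IsScalarTower B (B ⧸ J) M := (Module.isTorsionBySet_annihilator B M).isScalarTower
  haveI : IsScalarTower A (B ⧸ J) M := IsScalarTower.of_algebraMap_smul fun a x => by
    show (algebraMap A B a) • x = _
    rw [algebraMap_smul]
  haveI : Module.Finite (B ⧸ J) M := Module.Finite.of_restrictScalars_finite B (B ⧸ J) M
  haveI : IsLocalHom (algebraMap B (B ⧸ J)) :=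
    IsLocalHom.of_surjective (algebraMap B (B ⧸ J)) Ideal.Quotient.mk_surjective
  haveI : IsLocalHom (algebraMap A (B ⧸ J)) := by
    rw [IsScalarTower.algebraMap_eq A B (B ⧸ J)]
    exact RingHom.isLocalHom_comp _ _
  rw [← Depth.depth_eq_of_surjective (R := B) (S := B ⧸ J) (M := M) Ideal.Quotient.mk_surjective,
    LocCoh.depth, LocCoh.depth, ← Depth.idealDepth_map_eq (R := A) (S := B ⧸ J) (M := M)]
  refine Depth.idealDepth_eq_of_radical_eq ?_ M
  rw [(IsLocalRing.maximalIdeal.isMaximal (B ⧸ J)).isPrime.radical]
  refine le_antisymm ((Ideal.IsPrime.radical_le_iff inferInstance).2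
    (((IsLocalRing.local_hom_TFAE (algebraMap A (B ⧸ J))).out 0 2 rfl rfl).1 inferInstance)) ?_
  rw [Ideal.radical_eq_sInf]
  refine le_sInf fun P ⟨hP, hPp⟩ => ?_
  haveI := hPp
  have hmax : (P.under A).IsMaximal := by
    rw [← (IsLocalRing.maximalIdeal.isMaximal A).eq_of_le Ideal.IsPrime.ne_top'
      (show IsLocalRing.maximalIdeal A ≤ P.under A from Ideal.map_le_iff_le_comap.1 hP)]
    infer_instance
  haveI : P.IsMaximal := Ideal.isMaximal_of_isIntegral_of_isMaximal_comap P hmax
  exact (IsLocalRing.eq_maximalIdeal (I := P) inferInstance).ge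

end Groth.Agent.S5756
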