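import Groth.Statements.S5758
import Groth.Agent.CMAux.Basic
import Mathlib

set_option autoImplicit false
universe u
open EGA41

namespace Groth.Agent.S5758

open RingTheory.Sequence in
theorem supportDim_le_add {A : Type u} [CommRing A] [IsLocalRing A] [IsNoetherianRing A] : ∀ (xs : List A)
    (M : Type u) [AddCommGroup M] [Module A M] [Module.Finite A M], (∀ x ∈ xs, x ∈ IsLocalRing.maximalIdeal A) →
    Module.supportDim A M ≤ Module.supportDim A (M ⧸ (Ideal.ofList xs • (⊤ : Submodule A M))) + xs.length := by
  intro xs
  induction xs with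
  | nil =>
    intro M _ _ _ _
    rw [Module.supportDim_eq_of_equiv (Submodule.quotEquivOfEqBot (Ideal.ofList ([] : List A) • (⊤ : Submodule A M))
      (by rw [Ideal.ofList_nil, Submodule.bot_smul]))]
    simp
  | cons r rs ih =>
    intro M _ _ _ hmem
    rw [Module.supportDim_eq_of_equiv (Submodule.quotOfListConsSMulTopEquivQuotSMulTopInner M r rs), List.length_cons,
      Nat.cast_add, Nat.cast_one, ← add_assoc]
    exact (Module.supportDim_le_supportDim_quotSMulTop_succ (hmem r List.mem_cons_self)).trans
      (add_le_add (ih (QuotSMulTop r M) fun x hx => hmem x (List.mem_cons_of_mem _ hx)) le_rfl)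

open RingTheory.Sequence in
theorem isWeaklyRegular_of_supportDim {A : Type u} [CommRing A] [IsLocalRing A] [IsNoetherianRing A] :
    ∀ (xs : List A) (M : Type u) [AddCommGroup M] [Module A M] [Module.Finite A M],
    LocCoh.IsCohenMacaulayModule A M → (∀ x ∈ xs, x ∈ IsLocalRing.maximalIdeal A) →
    Module.supportDim A (M ⧸ (Ideal.ofList xs • (⊤ : Submodule A M))) + xs.length = Module.supportDim A M →
    IsWeaklyRegular M xs := by
  intro xs
  induction xs with
  | nil => exact fun M _ _ _ _ _ _ => .nil A M
  | cons r rs ih =>
    intro M _ _ _ hM hmem h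
    have hr := hmem r List.mem_cons_self
    have hrs := fun x hx => hmem x (List.mem_cons_of_mem r hx)
    rw [Module.supportDim_eq_of_equiv (Submodule.quotOfListConsSMulTopEquivQuotSMulTopInner M r rs), List.length_cons,
      Nat.cast_add, Nat.cast_one, ← add_assoc] at h
    have h1 := Module.supportDim_le_supportDim_quotSMulTop_succ (M := M) hr
    have h2 := add_le_add (supportDim_le_add rs (QuotSMulTop r M) hrs) (le_refl (1 : WithBot ℕ∞))
    rw [h] at h2
    have heq : Module.supportDim A (QuotSMulTop r M) + 1 = Module.supportDim A M := le_antisymm h2 h1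
    have hreg : IsSMulRegular M r := by
      by_contra hnot
      have : r ∈ ⋃ q ∈ associatedPrimes A M, (q : Set A) := by
        rw [biUnion_associatedPrimes_eq_compl_regular]; exact hnot
      obtain ⟨q, hq, hrq⟩ := Set.mem_iUnion₂.1 this
      have hle : ringKrullDim (A ⧸ q) ≤ Module.supportDim A (QuotSMulTop r M) := by
        refine Groth.Agent.Depth.ringKrullDim_quotient_le_supportDim (p := ⟨q, hq.isPrime⟩) ?_
        rw [Module.support_quotSMulTop]
        exact ⟨Groth.Agent.Depth.mem_support_of_mem_associatedPrimes hq, by simpa using hrq⟩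
      rw [Groth.Agent.Depth.ringKrullDim_quotient_eq_of_mem_associatedPrimes hM hq, ← heq] at hle
      have := Groth.Agent.Depth.nontrivial_of_isCohenMacaulayModule hM
      have := nontrivial_quotSMulTop_of_mem_maximalIdeal M hr
      obtain ⟨e, he⟩ := Groth.Agent.Depth.exists_natCast_eq_supportDim (R := A) (M := QuotSMulTop r M)
      rw [he] at hle
      have h5 : e + 1 ≤ e := by exact_mod_cast hle
      omega
    refine (isWeaklyRegular_cons_iff M r rs).2 ⟨hreg, ih _
      ((Groth.Agent.Depth.isCohenMacaulayModule_quotSMulTop_iff hr hreg).2 hM) hrs ?_⟩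
    refine Groth.Agent.Depth.withBot_add_one_cancel ?_
    rw [h, heq]

/-- Let A be a Noetherian local ring, M a nonzero finitely generated Cohen-Macaulay A-module and x_1,
..., x_r elements of the maximal ideal. The sequence (x_i) is M-regular if and only if dim(M/(x_1 M
+ ... + x_r M)) = dim(M) - r, i.e. if and only if the x_i are part of a system of parameters for M;
and when this holds the quotient M/(x_1 M + ... + x_r M) is again a Cohen-Macaulay module. -/
theorem result (A : Type u) [CommRing A]
    [IsLocalRing A] [IsNoetherianRing A] (M : Type u) [AddCommGroup M] [Module A M] [Module.Finite A M]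
    (hM : LocCoh.IsCohenMacaulayModule A M) (xs : List A) (hxs : ∀ x ∈ xs, x ∈ IsLocalRing.maximalIdeal A) :
    (RingTheory.Sequence.IsWeaklyRegular M xs ↔
        Module.supportDim A (M ⧸ (Ideal.ofList xs • (⊤ : Submodule A M))) + xs.length =
          Module.supportDim A M) ∧
      (RingTheory.Sequence.IsWeaklyRegular M xs →
        LocCoh.IsCohenMacaulayModule A (M ⧸ (Ideal.ofList xs • (⊤ : Submodule A M)))) := by
  refine ⟨⟨fun h => (Groth.Agent.CMAux.quot_ofList xs M hM hxs h).2, fun h => ?_⟩,
    fun h => (Groth.Agent.CMAux.quot_ofList xs M hM hxs h).1⟩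
  exact isWeaklyRegular_of_supportDim xs M hM hxs h

end Groth.Agent.S5758
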