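import Groth.Statements.S5759
import Mathlib
import Groth.Agent.Depth.CM

set_option autoImplicit false
universe u
open EGA41

namespace Groth.Agent.S5759

/-- Let A be a Noetherian local ring and M a nonzero finitely generated A-module. Suppose that for every
sequence x_1, ..., x_r of elements of the maximal ideal which is part of a system of parameters for
M (i.e. dim(M/(x_1 M + ... + x_r M)) = dim(M) - r), every associated prime p of N = M/(x_1 M + ... +
x_r M) satisfies dim(A/p) = dim(N). Then M is a Cohen-Macaulay module. (The published convention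
also counts the zero module as Cohen-Macaulay; this row assumes M nonzero.) -/
theorem result (A : Type u) [CommRing A]
    [IsLocalRing A] [IsNoetherianRing A] (M : Type u) [AddCommGroup M] [Module A M] [Module.Finite A M]
    [Nontrivial M]
    (h : ∀ xs : List A, (∀ x ∈ xs, x ∈ IsLocalRing.maximalIdeal A) →
      Module.supportDim A (M ⧸ (Ideal.ofList xs • (⊤ : Submodule A M))) + xs.length = Module.supportDim A M →
        ∀ p ∈ associatedPrimes A (M ⧸ (Ideal.ofList xs • (⊤ : Submodule A M))),
          ringKrullDim (A ⧸ p) = Module.supportDim A (M ⧸ (Ideal.ofList xs • (⊤ : Submodule A M)))) :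
    LocCoh.IsCohenMacaulayModule A M := by
  obtain ⟨d, hd⟩ := Depth.exists_natCast_eq_supportDim (R := A) (M := M)
  have key : ∀ k ≤ d, ∃ xs : List A, xs.length = k ∧ (∀ x ∈ xs, x ∈ IsLocalRing.maximalIdeal A) ∧
      RingTheory.Sequence.IsWeaklyRegular M xs := by
    intro k
    induction k with
    | zero => exact fun _ => ⟨[], rfl, by simp, .nil A M⟩
    | succ k ih =>
      intro hk
      obtain ⟨xs, hl, hm, hreg⟩ := ih (by omega)
      have hreg' := (IsLocalRing.isRegular_iff_isWeaklyRegular_of_subset_maximalIdeal hm).2 hreg
      have hdim := Module.supportDim_add_length_eq_supportDim_of_isRegular xs hreg'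
      haveI := hreg'.quot_ofList_smul_nontrivial ⊤
      have h' := h xs hm hdim
      obtain ⟨e, he⟩ := Depth.exists_natCast_eq_supportDim (R := A)
        (M := M ⧸ (Ideal.ofList xs • (⊤ : Submodule A M)))
      rw [he, hd, hl] at hdim
      norm_cast at hdim
      have hdepth : LocCoh.depth A (M ⧸ (Ideal.ofList xs • (⊤ : Submodule A M))) ≠ 0 := by
        rw [Ne, Depth.depth_eq_zero_iff]
        intro hmem
        have h0 := h' _ hmem
        rw [ringKrullDim_eq_zero_of_isField
          ((Ideal.Quotient.maximal_ideal_iff_isField_quotient _).1 (IsLocalRing.maximalIdeal.isMaximal A)), he] at h0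
        norm_cast at h0
        omega
      rw [← Order.one_le_iff_ne_zero] at hdepth
      obtain ⟨r, hr, hrreg⟩ := (Depth.one_le_idealDepth_iff Depth.maximalIdeal_smul_top_ne_top).1 hdepth
      refine ⟨xs ++ [r], by simp [hl], ?_, ?_⟩
      · intro x hx
        rcases List.mem_append.1 hx with hx | hx
        · exact hm x hx
        · rw [List.mem_singleton.1 hx]; exact hr
      · rw [RingTheory.Sequence.isWeaklyRegular_append_iff, RingTheory.Sequence.isWeaklyRegular_singleton_iff]
        exact ⟨hreg, hrreg⟩
  obtain ⟨xs, hl, hm, hreg⟩ := key d le_rfl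
  have hle := Depth.depth_le_supportDim (R := A) (M := M)
  have hge : (d : ℕ∞) ≤ LocCoh.depth A M := hl ▸ Depth.le_idealDepth_of_isWeaklyRegular hreg hm
  rw [hd] at hle
  rw [LocCoh.IsCohenMacaulayModule, hd]
  exact le_antisymm (WithBot.coe_le_coe.2 hge) hle

end Groth.Agent.S5759
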