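import Groth.Statements.S5765
import Mathlib

set_option autoImplicit false
universe u
open EGA41

namespace Groth.Agent.S5765

/-- Let A be a ring, M a finitely generated A-module and p a prime ideal of A. Then dim_{A_p}(M_p) +
dim_A(M/pM) ≤ dim_A(M). -/
theorem result (A : Type u) [CommRing A] (M : Type u)
    [AddCommGroup M] [Module A M] [Module.Finite A M] (p : Ideal A) [p.IsPrime] :
    Module.supportDim (Localization.AtPrime p) (LocalizedModule p.primeCompl M) +
        Module.supportDim A (M ⧸ (p • (⊤ : Submodule A M))) ≤ Module.supportDim A M := by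
  let Mp := LocalizedModule p.primeCompl M
  have hcomap : ∀ q ∈ Module.support (Localization.AtPrime p) Mp,
      PrimeSpectrum.comap (algebraMap A (Localization.AtPrime p)) q ∈ Module.support A M := by
    intro q hq
    obtain ⟨x, hx⟩ := Module.mem_support_iff_exists_annihilator.1 hq
    obtain ⟨⟨m, s⟩, rfl⟩ := IsLocalizedModule.mk'_surjective p.primeCompl (LocalizedModule.mkLinearMap p.primeCompl M) x
    refine Module.mem_support_iff_exists_annihilator.2 ⟨m, fun a ha => hx ?_⟩
    rw [Submodule.mem_annihilator_span_singleton] at ha ⊢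
    rw [algebraMap_smul]
    simp only [Function.uncurry_apply_pair]
    rw [← IsLocalizedModule.mk'_smul, ha, IsLocalizedModule.mk'_zero]
  have hle : ∀ q : PrimeSpectrum (Localization.AtPrime p),
      (PrimeSpectrum.comap (algebraMap A (Localization.AtPrime p)) q).asIdeal ≤ p := fun q => by
    have h := IsLocalization.AtPrime.comap_maximalIdeal (Localization.AtPrime p) p
    calc _ = q.asIdeal.comap (algebraMap A (Localization.AtPrime p)) := rfl
      _ ≤ (IsLocalRing.maximalIdeal _).comap (algebraMap A (Localization.AtPrime p)) :=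
          Ideal.comap_mono (IsLocalRing.le_maximalIdeal q.isPrime.ne_top)
      _ = p := h
  by_cases hp : (⟨p, inferInstance⟩ : PrimeSpectrum A) ∈ Module.support A M
  · let P : Module.support A M := ⟨⟨p, inferInstance⟩, hp⟩
    have h1 : Module.supportDim (Localization.AtPrime p) Mp ≤ ((Order.height P : ℕ∞) : WithBot ℕ∞) := by
      rw [Order.height_eq_krullDim_Iic]
      refine Order.krullDim_le_of_strictMono (fun q => ⟨⟨_, hcomap q.1 q.2⟩, hle q.1⟩) ?_
      exact fun a b hab => (IsLocalization.orderEmbedding p.primeCompl (Localization.AtPrime p)).strictMono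
        (show a.1.asIdeal < b.1.asIdeal from hab)
    have hsupp : ∀ q ∈ Module.support A (M ⧸ (p • (⊤ : Submodule A M))), q ∈ Module.support A M ∧ p ≤ q.asIdeal := by
      intro q hq
      rw [Module.support_quotient, Set.mem_inter_iff, PrimeSpectrum.mem_zeroLocus] at hq
      exact hq
    have h2 : Module.supportDim A (M ⧸ (p • (⊤ : Submodule A M))) ≤ ((Order.coheight P : ℕ∞) : WithBot ℕ∞) := by
      rw [Order.coheight_eq_krullDim_Ici]
      exact Order.krullDim_le_of_strictMono (fun q => ⟨⟨q.1, (hsupp q.1 q.2).1⟩, (hsupp q.1 q.2).2⟩) fun a b hab => hab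
    refine (add_le_add h1 h2).trans ?_
    haveI : Nonempty (Module.support A M) := ⟨P⟩
    rw [Module.supportDim, Order.krullDim_eq_iSup_height_add_coheight_of_nonempty, ← WithBot.coe_add]
    exact WithBot.coe_le_coe.2 (le_iSup (fun a => Order.height a + Order.coheight a) P)
  · rw [Module.notMem_support_iff] at hp
    rw [Module.supportDim_eq_bot_of_subsingleton (R := Localization.AtPrime p) (M := Mp), WithBot.bot_add]
    exact bot_le

end Groth.Agent.S5765
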