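import Groth.Statements.S5766
import Mathlib
import Groth.Agent.DimTheory.Algebra
import Groth.Agent.CMAux.FiniteOverBase

set_option autoImplicit false
universe u
open EGA41

namespace Groth.Agent.S5766

/-- Let A be a Noetherian ring, ρ : A → B a ring homomorphism and M a B-module which is finitely
generated as an A-module via ρ. Then the dimension of M as an A-module equals its dimension as a
B-module. -/
theorem result (A B : Type u) [CommRing A] [CommRing B] [IsNoetherianRing A]
    [Algebra A B] (M : Type u) [AddCommGroup M] [Module B M] [Module A M] [IsScalarTower A B M]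
    [Module.Finite A M] : Module.supportDim A M = Module.supportDim B M := by
  haveI := Module.Finite.of_restrictScalars_finite A B M
  haveI := CMAux.finite_quotient_annihilator A B M
  let I := Module.annihilator A M
  let J := Module.annihilator B M
  have hIJ : I = J.comap (algebraMap A B) := by
    ext a
    simp [I, J, Module.mem_annihilator]
  letI : Algebra (A ⧸ I) (B ⧸ J) := Ideal.Quotient.algebraQuotientOfLEComap hIJ.le
  haveI : IsScalarTower A (A ⧸ I) (B ⧸ J) := IsScalarTower.of_algebraMap_eq' rfl
  haveI : Module.Finite (A ⧸ I) (B ⧸ J) := Module.Finite.of_restrictScalars_finite A (A ⧸ I) (B ⧸ J)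
  haveI : FaithfulSMul (A ⧸ I) (B ⧸ J) := (faithfulSMul_iff_algebraMap_injective _ _).2
    (Ideal.quotientMap_injective' hIJ.ge)
  rw [Module.supportDim_eq_ringKrullDim_quotient_annihilator,
    Module.supportDim_eq_ringKrullDim_quotient_annihilator]
  exact (DimTheory.ringKrullDim_eq_of_integral (A ⧸ I) (B ⧸ J)).symm

end Groth.Agent.S5766
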