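import Groth.Statements.S5767
import Mathlib
import Groth.Agent.CMAux.SemiLocalDim

set_option autoImplicit false
universe u
open EGA41

namespace Groth.Agent.S5767

open scoped Pointwise

/-- Let A be a semi-local Noetherian ring, M a finitely generated A-module and x an element of the
Jacobson radical of A. One always has dim(M/xM) ≥ dim(M) - 1; equality dim(M/xM) = dim(M) - 1 holds
if and only if x belongs to none of the prime ideals p of Supp(M) with dim(A/p) = dim(M). Stated as:
dim(M/xM) + 1 = dim(M) iff x avoids those primes. -/
theorem result (A : Type u) [CommRing A] [IsNoetherianRing A]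
    [Finite (MaximalSpectrum A)] (M : Type u) [AddCommGroup M] [Module A M] [Module.Finite A M] (x : A)
    (hx : x ∈ Ring.jacobson A) :
    Module.supportDim A (QuotSMulTop x M) + 1 = Module.supportDim A M ↔
      ∀ p : PrimeSpectrum A, p ∈ Module.support A M →
        ringKrullDim (A ⧸ p.asIdeal) = Module.supportDim A M → x ∉ p.asIdeal := by
  rcases subsingleton_or_nontrivial M with hM | hM
  · refine iff_of_true ?_ fun p hp => ?_
    · rw [Module.supportDim_eq_bot_of_subsingleton A M, Module.supportDim_eq_bot_of_subsingleton A (QuotSMulTop x M), WithBot.bot_add]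
    · simp [Module.support_eq_empty] at hp
  obtain ⟨d, hd⟩ := Groth.Agent.CMAux.SemiLocalDim.exists_nat_supportDim (A := A) (M := M)
  have hsupp : ∀ q : PrimeSpectrum A, q ∈ Module.support A (QuotSMulTop x M) ↔ q ∈ Module.support A M ∧ x ∈ q.asIdeal := by
    intro q
    simp [Module.support_quotSMulTop]
  constructor
  · intro h p hp htop hxp
    have h1 : ringKrullDim (A ⧸ p.asIdeal) ≤ Module.supportDim A (QuotSMulTop x M) := by
      rw [ringKrullDim_quotient]
      refine Order.krullDim_le_of_strictMono (fun q => ⟨q.1, (hsupp q.1).mpr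
        ⟨Module.mem_support_mono (show p ≤ q.1 from q.2) hp, (show p ≤ q.1 from q.2) hxp⟩⟩) ?_
      exact fun a b hab => hab
    rw [htop] at h1
    rw [hd] at h h1
    have h2 : Module.supportDim A (QuotSMulTop x M) + 1 ≤ Module.supportDim A (QuotSMulTop x M) := by
      rw [h]; exact h1
    obtain ⟨e, he⟩ := WithBot.ne_bot_iff_exists.mp (show Module.supportDim A (QuotSMulTop x M) ≠ ⊥ from fun hb => by
      rw [hb, WithBot.bot_add] at h; exact WithBot.natCast_ne_bot d h.symm)
    rw [← he] at h h2
    have h3 : e + 1 = (d : ℕ∞) := by exact_mod_cast h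
    have h4 : e + 1 ≤ e := by exact_mod_cast h2
    lift e to ℕ using (fun ht => by simp [ht] at h3)
    norm_cast at h4
    omega
  · intro h
    refine le_antisymm ?_ ?_
    · have hle := Module.supportDim_le_of_surjective (Submodule.mkQ (x • (⊤ : Submodule A M))) (Submodule.mkQ_surjective _)
      rcases subsingleton_or_nontrivial (QuotSMulTop x M) with hQ | hQ
      · rw [Module.supportDim_eq_bot_of_subsingleton A (QuotSMulTop x M), WithBot.bot_add]; exact bot_le
      obtain ⟨e, he⟩ := Groth.Agent.CMAux.SemiLocalDim.exists_nat_supportDim (A := A) (M := QuotSMulTop x M)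
      rw [he, hd] at hle
      have hed : e ≤ d := by exact_mod_cast hle
      rcases lt_or_eq_of_le hed with hlt | rfl
      · rw [he, hd]; exact_mod_cast Nat.succ_le_of_lt hlt
      · exfalso
        haveI : Nonempty (Module.support A (QuotSMulTop x M)) :=
          (Module.nonempty_support_of_nontrivial (R := A)).to_subtype
        have hl : ((e : ℕ∞) : WithBot ℕ∞) ≤ Order.krullDim (Module.support A (QuotSMulTop x M)) := he.ge
        obtain ⟨l, hl'⟩ := Order.le_krullDim_iff.mp hl
        obtain ⟨hq, hxq⟩ := (hsupp l.head.1).mp l.head.2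
        refine h l.head.1 hq (le_antisymm ?_ ?_) hxq
        · rw [ringKrullDim_quotient]
          exact Order.krullDim_le_of_strictMono (fun q => ⟨q.1, Module.mem_support_mono
            (show l.head.1 ≤ q.1 from q.2) hq⟩) fun a b hab => hab
        · rw [hd, ringKrullDim_quotient, ← hl']
          exact Order.LTSeries.length_le_krullDim
            (LTSeries.mk l.length (fun i => (⟨(l i).1, show l.head.1 ≤ (l i).1 from
              Subtype.coe_le_coe.mpr (l.monotone (Fin.zero_le i))⟩ : PrimeSpectrum.zeroLocus (l.head.1.asIdeal : Set A)))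
              fun i j hij => show (l i).1 < (l j).1 from l.strictMono hij)
    · refine (Groth.Agent.CMAux.SemiLocalDim.supportDim_le_quot_add (M := M) [x] (by simpa using hx)).trans (le_of_eq ?_)
      rw [Module.supportDim_eq_of_equiv (Submodule.quotEquivOfEq _ _ (show Ideal.ofList [x] • (⊤ : Submodule A M) = x • ⊤ by
        rw [Ideal.ofList_singleton, Submodule.ideal_span_singleton_smul]))]
      simp

end Groth.Agent.S5767
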