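import Groth.Statements.S5768
import Mathlib
import Groth.Agent.CMAux.SemiLocalDim

set_option autoImplicit false
universe u
open EGA41

namespace Groth.Agent.S5768

/-- Let A be a semi-local Noetherian ring with Jacobson radical r, M a nonzero finitely generated
A-module and x_1, ..., x_k elements of r. One always has dim(M/(x_1 M + ... + x_k M)) ≥ dim(M) - k,
and equality holds if and only if there exist further elements of r which together with the x_i form
a system of parameters for M (dim(M) elements of r modulo which M has finite length). -/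
theorem result (A : Type u) [CommRing A]
    [IsNoetherianRing A] [Finite (MaximalSpectrum A)] (M : Type u) [AddCommGroup M] [Module A M]
    [Module.Finite A M] [Nontrivial M] (xs : List A) (hxs : ∀ x ∈ xs, x ∈ Ring.jacobson A) :
    Module.supportDim A (M ⧸ (Ideal.ofList xs • (⊤ : Submodule A M))) + xs.length = Module.supportDim A M ↔
      ∃ ys : List A, (∀ y ∈ ys, y ∈ Ring.jacobson A) ∧
        ((xs ++ ys).length : WithBot ℕ∞) = Module.supportDim A M ∧
        IsFiniteLength A (M ⧸ (Ideal.ofList (xs ++ ys) • (⊤ : Submodule A M))) := by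
  have hge := Groth.Agent.CMAux.SemiLocalDim.supportDim_le_quot_add (M := M) xs hxs
  refine ⟨fun h => ?_, ?_⟩
  · haveI : Nontrivial (M ⧸ (Ideal.ofList xs • (⊤ : Submodule A M))) := by
      by_contra hc
      rw [not_nontrivial_iff_subsingleton] at hc
      rw [Module.supportDim_eq_bot_of_subsingleton A (M ⧸ (Ideal.ofList xs • (⊤ : Submodule A M))), WithBot.bot_add] at h
      exact Module.supportDim_ne_bot_of_nontrivial (R := A) (M := M) h.symm
    obtain ⟨e, he⟩ := Groth.Agent.CMAux.SemiLocalDim.exists_nat_supportDim (A := A)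
      (M := M ⧸ (Ideal.ofList xs • (⊤ : Submodule A M)))
    obtain ⟨ys, hl, hys, hfin⟩ := Groth.Agent.CMAux.SemiLocalDim.exists_parameters'
      (M := M ⧸ (Ideal.ofList xs • (⊤ : Submodule A M))) e he.le
    refine ⟨ys, hys, ?_, (Groth.Agent.CMAux.SemiLocalDim.quotAppend xs ys).isFiniteLength hfin⟩
    rw [← h, he, List.length_append, hl, add_comm]
    push_cast
    rfl
  · rintro ⟨ys, hys, hlen, hfin⟩
    have h2 := Groth.Agent.CMAux.SemiLocalDim.supportDim_le_length (M := M ⧸ (Ideal.ofList xs • (⊤ : Submodule A M))) ys hys
      ((Groth.Agent.CMAux.SemiLocalDim.quotAppend xs ys).symm.isFiniteLength hfin)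
    refine le_antisymm ?_ hge
    rw [← hlen, List.length_append, Nat.cast_add, add_comm ((xs.length : ℕ) : WithBot ℕ∞)]
    exact add_le_add h2 le_rfl

end Groth.Agent.S5768
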