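import Groth.Statements.S5771
import Groth.Agent.S5769
import Groth.Agent.CAlgReg.Basic
import Mathlib

set_option autoImplicit false
universe u
open EGA41

namespace Groth.Agent.S5771

/-- Let φ : A → B be a local homomorphism of Noetherian local rings, m the maximal ideal of A, and
suppose mB is an ideal of definition of B (equivalently dim(B/mB) = 0). Then dim(B) ≤ dim(A); if
moreover A is an integral domain and dim(A) = dim(B), then φ is injective. -/
theorem result (A B : Type u) [CommRing A] [CommRing B]
    [IsLocalRing A] [IsLocalRing B] [IsNoetherianRing A] [IsNoetherianRing B] [Algebra A B]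
    [IsLocalHom (algebraMap A B)]
    (hdef : ringKrullDim (B ⧸ (IsLocalRing.maximalIdeal A).map (algebraMap A B)) = 0) :
    ringKrullDim B ≤ ringKrullDim A ∧
      (IsDomain A → ringKrullDim A = ringKrullDim B → Function.Injective (algebraMap A B)) := by
  have h1 := Groth.Agent.S5769.result A B
  rw [hdef, add_zero] at h1
  refine ⟨h1, fun hdom heq => (injective_iff_map_eq_zero _).2 fun x hx => ?_⟩
  by_contra hx0
  have h2 := ringKrullDim_quotient_succ_le_of_nonZeroDivisor (mem_nonZeroDivisors_of_ne_zero hx0)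
  let g : A ⧸ Ideal.span {x} →+* B := Ideal.Quotient.lift _ (algebraMap A B) fun a ha => by
    obtain ⟨c, rfl⟩ := Ideal.mem_span_singleton.1 ha
    rw [map_mul, hx, zero_mul]
  haveI : Nontrivial (A ⧸ Ideal.span {x}) := g.domain_nontrivial
  haveI : IsLocalRing (A ⧸ Ideal.span {x}) := .of_surjective' _ Ideal.Quotient.mk_surjective
  letI := g.toAlgebra
  haveI : IsLocalHom (algebraMap (A ⧸ Ideal.span {x}) B) := ⟨fun y hy => by
    obtain ⟨a, rfl⟩ := Ideal.Quotient.mk_surjective y
    exact (IsUnit.of_map (algebraMap A B) a hy).map _⟩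
  have h3 := Groth.Agent.S5769.result (A ⧸ Ideal.span {x}) B
  have hm : (IsLocalRing.maximalIdeal (A ⧸ Ideal.span {x})).map (algebraMap (A ⧸ Ideal.span {x}) B) =
      (IsLocalRing.maximalIdeal A).map (algebraMap A B) := by
    rw [← IsLocalRing.map_maximalIdeal_of_surjective _ (Ideal.Quotient.mk_surjective (I := Ideal.span {x})), Ideal.map_map]
    rfl
  rw [hm, hdef, add_zero, ← heq] at h3
  obtain ⟨d, hd⟩ := Groth.Agent.CAlgReg.exists_dim (R := A)
  obtain ⟨e, he⟩ := Groth.Agent.CAlgReg.exists_dim (R := A ⧸ Ideal.span {x})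
  rw [hd, he] at h2 h3
  have h4 : e + 1 ≤ d := by exact_mod_cast h2
  have h5 : d ≤ e := by exact_mod_cast h3
  omega

end Groth.Agent.S5771
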