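import Groth.Statements.S5772
import Groth.Agent.CMAux.Basic
import Mathlib

set_option autoImplicit false
universe u
open scoped Pointwise
open EGA41

namespace Groth.Agent.S5772

/-- Let A be a Noetherian ring, M a finitely generated A-module and f an element of A. Then f is
M-regular (multiplication by f on M is injective) if and only if f is M-quasi-regular, i.e. the
canonical surjection (M/fM)[T] → gr(M) for the (f)-adic filtration is bijective, which amounts to:
for every k ≥ 0 and x ∈ M, f^k x ∈ f^(k+1) M implies x ∈ fM. -/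
theorem result (A : Type u) [CommRing A] [IsNoetherianRing A] (M : Type u)
    [AddCommGroup M] [Module A M] [Module.Finite A M] (f : A) :
    IsSMulRegular M f ↔
      ∀ (k : ℕ) (x : M), f ^ k • x ∈ f ^ (k + 1) • (⊤ : Submodule A M) → x ∈ f • (⊤ : Submodule A M) := by
  refine ⟨fun hf k x hx => ?_, fun h => ?_⟩
  · obtain ⟨y, -, hy⟩ := hx
    change f ^ (k + 1) • y = f ^ k • x at hy
    rw [pow_succ, mul_smul] at hy
    rw [← (hf.pow k) hy]
    exact Submodule.smul_mem_pointwise_smul y f ⊤ trivial
  · rw [isSMulRegular_iff_right_eq_zero_of_smul]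
    intro x hx
    have hall : ∀ n : ℕ, ∃ y : M, f ^ n • y = x := by
      intro n
      induction n with
      | zero => exact ⟨x, by simp⟩
      | succ n ih =>
        obtain ⟨y, rfl⟩ := ih
        have hy0 : f ^ (n + 1) • y = 0 := by rw [pow_succ', mul_smul, hx]
        obtain ⟨z, -, hz⟩ := h (n + 1) y (by rw [hy0]; exact zero_mem _)
        exact ⟨z, by rw [pow_succ, mul_smul]; exact congrArg (f ^ n • ·) hz⟩
    have hmem : x ∈ (⨅ i : ℕ, (Ideal.span {f}) ^ i • ⊤ : Submodule A M) := (Submodule.mem_iInf _).2 fun i => by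
      obtain ⟨y, rfl⟩ := hall i
      exact Submodule.smul_mem_smul (Ideal.pow_mem_pow (Ideal.mem_span_singleton_self f) i) trivial
    obtain ⟨⟨r, hr⟩, hrx⟩ := (Ideal.mem_iInf_smul_pow_eq_bot_iff (Ideal.span {f}) x).1 hmem
    obtain ⟨a, rfl⟩ := Ideal.mem_span_singleton'.1 hr
    rw [← hrx]
    show (a * f) • x = 0
    rw [mul_smul, hx, smul_zero]

end Groth.Agent.S5772
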