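import Groth.Statements.S5774
import Mathlib
import Groth.Agent.FlatLocalDepth.Basic
import Groth.Agent.CMAux.FibreEquiv

set_option autoImplicit false
universe u
open EGA41

namespace Groth.Agent.S5774

/-- Let A → B be a local homomorphism of Noetherian local rings, m the maximal ideal of A and k = A/m, M
a finitely generated B-module which is flat over A, and f_1, ..., f_n elements of B whose images g_i
in B ⊗_A k form an (M ⊗_A k)-regular sequence. Then (f_i) is an M-regular sequence and the quotients
M/(f_1 M + ... + f_i M), 0 ≤ i ≤ n, are flat over A. (The f_i are not required to lie in the maximal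
ideal of B.) -/
theorem result (A B : Type u) [CommRing A] [CommRing B]
    [IsLocalRing A] [IsLocalRing B] [IsNoetherianRing A] [IsNoetherianRing B] [Algebra A B]
    [IsLocalHom (algebraMap A B)] (M : Type u) [AddCommGroup M] [Module B M] [Module A M]
    [IsScalarTower A B M] [Module.Finite B M] [Module.Flat A M] (fs : List B)
    (hreg : RingTheory.Sequence.IsWeaklyRegular
      (M ⧸ ((IsLocalRing.maximalIdeal A).map (algebraMap A B) • (⊤ : Submodule B M))) fs) :
    RingTheory.Sequence.IsWeaklyRegular M fs ∧
      ∀ i ≤ fs.length, Module.Flat A (M ⧸ (Ideal.ofList (fs.take i) • (⊤ : Submodule B M))) := by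
  obtain ⟨e⟩ := CMAux.nonempty_fibreEquiv A B M
  have hS : (IsLocalRing.maximalIdeal A).map (algebraMap A B) ≤ Ideal.jacobson ⊥ := by
    rw [IsLocalRing.jacobson_eq_maximalIdeal _ bot_ne_top]
    exact ((IsLocalRing.local_hom_TFAE (algebraMap A B)).out 0 2 rfl rfl).1 inferInstance
  have h := (LinearEquiv.isWeaklyRegular_congr e fs).mpr hreg
  refine ⟨(FlatLocalDepth.regular_and_flat_quot A hS fs M h).1, fun i _ => ?_⟩
  have h' : RingTheory.Sequence.IsWeaklyRegular (TensorProduct A M (IsLocalRing.ResidueField A)) (fs.take i) := by
    rw [← List.take_append_drop i fs, RingTheory.Sequence.isWeaklyRegular_append_iff] at h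
    exact h.1
  exact (FlatLocalDepth.regular_and_flat_quot A hS (fs.take i) M h').2

end Groth.Agent.S5774
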