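import Groth.Statements.S5775
import Mathlib
import Groth.Agent.FlatLocalDepth.Basic
import Groth.Agent.CMAux.FibreEquiv
import Groth.Agent.CMAux.PureQuot

set_option autoImplicit false
universe u
open EGA41

namespace Groth.Agent.S5775

/-- Let A → B be a local homomorphism of Noetherian local rings, m the maximal ideal of A, M a finitely
generated B-module flat over A and R a B-submodule of M such that M/R is flat over A. Let f_1, ...,
f_n be elements of the maximal ideal of B such that (i) f_i M ⊆ R for all i, (ii) the images of the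
f_i form an (M/mM)-regular sequence, and (iii) the submodule f_1 (M/mM) + ... + f_n (M/mM) is the
image of R in M/mM. Then (f_i) is an M-regular sequence and R = f_1 M + ... + f_n M. -/
theorem result (A B : Type u) [CommRing A] [CommRing B] [IsLocalRing A]
    [IsLocalRing B] [IsNoetherianRing A] [IsNoetherianRing B] [Algebra A B] [IsLocalHom (algebraMap A B)]
    (M : Type u) [AddCommGroup M] [Module B M] [Module A M] [IsScalarTower A B M] [Module.Finite B M]
    [Module.Flat A M] (R : Submodule B M) (hR : Module.Flat A (M ⧸ R)) (fs : List B)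
    (hfs : ∀ f ∈ fs, f ∈ IsLocalRing.maximalIdeal B) (h1 : Ideal.ofList fs • (⊤ : Submodule B M) ≤ R)
    (h2 : RingTheory.Sequence.IsWeaklyRegular
      (M ⧸ ((IsLocalRing.maximalIdeal A).map (algebraMap A B) • (⊤ : Submodule B M))) fs)
    (h3 : Ideal.ofList fs • (⊤ : Submodule B
        (M ⧸ ((IsLocalRing.maximalIdeal A).map (algebraMap A B) • (⊤ : Submodule B M)))) =
      R.map ((IsLocalRing.maximalIdeal A).map (algebraMap A B) • (⊤ : Submodule B M)).mkQ) :
    RingTheory.Sequence.IsWeaklyRegular M fs ∧ R = Ideal.ofList fs • (⊤ : Submodule B M) := by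
  let e := (CMAux.nonempty_fibreEquiv A B M).some
  have hS : (IsLocalRing.maximalIdeal A).map (algebraMap A B) ≤ IsLocalRing.maximalIdeal B :=
    ((IsLocalRing.local_hom_TFAE (algebraMap A B)).out 0 2 rfl rfl).1 inferInstance
  have hS' : (IsLocalRing.maximalIdeal A).map (algebraMap A B) ≤ Ideal.jacobson ⊥ := by
    rw [IsLocalRing.jacobson_eq_maximalIdeal _ bot_ne_top]
    exact hS
  refine ⟨(FlatLocalDepth.regular_and_flat_quot A hS' fs M ((LinearEquiv.isWeaklyRegular_congr e fs).mpr h2)).1,
    le_antisymm ?_ h1⟩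
  set m := IsLocalRing.maximalIdeal A with hm
  have hinj : Function.Injective ((R.restrictScalars A).subtype.lTensor (A ⧸ m)) :=
    CMAux.lTensor_subtype_injective A M R (A ⧸ m)
  refine Submodule.le_of_le_smul_of_le_jacobson_bot (I := m.map (algebraMap A B)) (IsNoetherian.noetherian R) hS' ?_
  intro x hx
  have hxm : Submodule.Quotient.mk x ∈ R.map (m.map (algebraMap A B) • (⊤ : Submodule B M)).mkQ := ⟨x, hx, rfl⟩
  rw [← h3] at hxm
  rw [← Submodule.range_mkQ (m.map (algebraMap A B) • (⊤ : Submodule B M)), ← Submodule.map_top,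
    ← Submodule.map_smul''] at hxm
  obtain ⟨y, hy, hxy⟩ := hxm
  have hz : x - y ∈ m • (⊤ : Submodule A M) := by
    rw [← Submodule.restrictScalars_top A B M, ← Ideal.smul_restrictScalars, Submodule.restrictScalars_mem]
    exact (Submodule.Quotient.eq _).1 hxy.symm
  let r : R.restrictScalars A := ⟨x - y, sub_mem hx (h1 hy)⟩
  have h0 : ((1 : A ⧸ m) ⊗ₜ[A] r) = 0 := hinj (by
    rw [map_zero, LinearMap.lTensor_tmul]
    apply (TensorProduct.quotTensorEquivQuotSMul M m).injective
    rw [map_zero, TensorProduct.quotTensorEquivQuotSMul_mk_one_tmul, Submodule.Quotient.mk_eq_zero]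
    exact hz)
  have h0' : r ∈ m • (⊤ : Submodule A (R.restrictScalars A)) := by
    rw [← Submodule.Quotient.mk_eq_zero, ← TensorProduct.quotTensorEquivQuotSMul_mk_one_tmul, h0, map_zero]
  have h4 : x - y ∈ m.map (algebraMap A B) • R := by
    have h5 : (x - y) ∈ (m • (⊤ : Submodule A (R.restrictScalars A))).map (R.restrictScalars A).subtype := ⟨r, h0', rfl⟩
    rw [Submodule.map_smul'', Submodule.map_top, Submodule.range_subtype] at h5
    rw [← Submodule.restrictScalars_mem A, Ideal.smul_restrictScalars]
    exact h5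
  exact (add_sub_cancel y x) ▸ Submodule.add_mem_sup hy h4

end Groth.Agent.S5775
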