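import Groth.Statements.S5777
import Mathlib
import Groth.Agent.NormFlat.RegularFlat

set_option autoImplicit false
universe u
open EGA41

namespace Groth.Agent.S5777

/-- Let φ : A → B be a local homomorphism of Noetherian local rings, M a finitely generated B-module and
(f_i)_{1 ≤ i ≤ n} an A-regular sequence of elements of the maximal ideal of A, generating the ideal
J. Then M is flat over A if and only if M/JM is flat over A/J and (f_i) is an M-regular sequence. -/
theorem result (A B : Type u) [CommRing A] [CommRing B]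
    [IsLocalRing A] [IsLocalRing B] [IsNoetherianRing A] [IsNoetherianRing B] [Algebra A B]
    [IsLocalHom (algebraMap A B)] (M : Type u) [AddCommGroup M] [Module B M] [Module A M]
    [IsScalarTower A B M] [Module.Finite B M] (fs : List A) (hfs : ∀ f ∈ fs, f ∈ IsLocalRing.maximalIdeal A)
    (hA : RingTheory.Sequence.IsWeaklyRegular A fs) :
    Module.Flat A M ↔
      Module.Flat (A ⧸ Ideal.ofList fs) (M ⧸ (Ideal.ofList fs • (⊤ : Submodule A M))) ∧
        RingTheory.Sequence.IsWeaklyRegular M fs := by
  let J := Ideal.ofList fs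
  let e : TensorProduct A (A ⧸ J) M ≃ₗ[A] M ⧸ (J • (⊤ : Submodule A M)) := TensorProduct.quotTensorEquivQuotSMul M J
  let e' := e.extendScalarsOfSurjective (R := A) (S := A ⧸ J) Ideal.Quotient.mk_surjective
  refine ⟨fun _ => ⟨Module.Flat.of_linearEquiv e'.symm, NormFlat.isWeaklyRegular_of_flat fs hA⟩,
    fun ⟨hflat, hreg⟩ => ?_⟩
  haveI : Module.Flat (A ⧸ J) (TensorProduct A (A ⧸ J) M) := Module.Flat.of_linearEquiv e'
  refine FlatCrit.flat_of_le_jacobson (S := B) (I := J) ?_
    ((FlatCrit.torZero_quotient_iff J).mp (NormFlat.torZero_ofList fs hreg))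
  rw [IsLocalRing.jacobson_eq_maximalIdeal _ bot_ne_top]
  exact (Ideal.map_mono (Ideal.span_le.mpr hfs)).trans
    (((IsLocalRing.local_hom_TFAE (algebraMap A B)).out 0 2 rfl rfl).1 inferInstance)

end Groth.Agent.S5777
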