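import Groth.Statements.S5778
import Mathlib
import Groth.Agent.HilbSam.Degree
import Groth.Agent.QRegLib.Basic
import Groth.Agent.CAlgReg.GlobalDim

set_option autoImplicit false
universe u
open EGA41

namespace Groth.Agent.S5778

theorem length_succ {A : Type u} [CommRing A] [IsLocalRing A] {r : ℕ} (f : Fin r → A)
    (hf : Ideal.span (Set.range f) = IsLocalRing.maximalIdeal A) (hq : CAlgX.IsQuasiRegular f) (k : ℕ) :
    Module.length A (A ⧸ IsLocalRing.maximalIdeal A ^ (k + 1)) =
      (((r + k - 1).choose k : ℕ) : ℕ∞) + Module.length A (A ⧸ IsLocalRing.maximalIdeal A ^ k) := by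
  classical
  let m := IsLocalRing.maximalIdeal A
  let T := (Finset.univ : Finset (Fin r)).finsuppAntidiag k
  let φ : (T → A) →ₗ[A] A ⧸ m ^ (k + 1) :=
    Fintype.linearCombination A fun d : T => Ideal.Quotient.mk (m ^ (k + 1)) (∏ i, f i ^ (d : Fin r →₀ ℕ) i)
  have hdeg : ∀ d : T, Finsupp.degree (d : Fin r →₀ ℕ) = k := fun d => by
    rw [Finsupp.degree_eq_sum]
    exact (Finset.mem_finsuppAntidiag.1 d.2).1
  have hφ : ∀ c : T → A, φ c = Ideal.Quotient.mk (m ^ (k + 1))
      (MvPolynomial.eval f (∑ d : T, MvPolynomial.monomial (d : Fin r →₀ ℕ) (c d))) := fun c => by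
    rw [map_sum, map_sum, Fintype.linearCombination_apply]
    refine Finset.sum_congr rfl fun d _ => ?_
    rw [MvPolynomial.eval_monomial, Finsupp.prod_fintype _ _ (fun i => pow_zero _), Algebra.smul_def, map_mul]
    rfl
  let π : (T → A) →ₗ[A] (T → IsLocalRing.ResidueField A) :=
    LinearMap.pi fun d => (Algebra.linearMap A (IsLocalRing.ResidueField A)) ∘ₗ LinearMap.proj d
  have hπ : Function.Surjective π := fun c => ⟨fun d => Function.surjInv IsLocalRing.residue_surjective (c d),
    funext fun d => Function.surjInv_eq IsLocalRing.residue_surjective (c d)⟩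
  have hker : LinearMap.ker φ = LinearMap.ker π := by
    ext c
    rw [LinearMap.mem_ker, LinearMap.mem_ker, hφ, Ideal.Quotient.eq_zero_iff_mem]
    have hcoeff : ∀ d : T, MvPolynomial.coeff (d : Fin r →₀ ℕ)
        (∑ e : T, MvPolynomial.monomial (e : Fin r →₀ ℕ) (c e)) = c d := fun d => by
      rw [MvPolynomial.coeff_sum, Finset.sum_eq_single d]
      · simp
      · intro e _ hne
        simp [MvPolynomial.coeff_monomial, Subtype.coe_ne_coe.2 hne]
      · simp
    have hH : (∑ e : T, MvPolynomial.monomial (e : Fin r →₀ ℕ) (c e)).IsHomogeneous k :=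
      MvPolynomial.IsHomogeneous.sum _ _ _ fun e _ => MvPolynomial.isHomogeneous_monomial _ (hdeg e)
    constructor
    · intro h
      funext d
      refine (IsLocalRing.residue_eq_zero_iff _).2 ?_
      have := hq k _ hH (by rw [hf]; exact h) d
      rwa [hcoeff, hf] at this
    · intro h
      rw [map_sum, pow_succ']
      refine Ideal.sum_mem _ fun d _ => ?_
      rw [MvPolynomial.eval_monomial]
      refine Ideal.mul_mem_mul ((IsLocalRing.residue_eq_zero_iff _).1 (congrFun h d)) ?_
      show _ ∈ IsLocalRing.maximalIdeal A ^ k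
      rw [← hf, Ideal.mem_span_pow_iff_exists_isHomogeneous]
      exact ⟨MvPolynomial.monomial (d : Fin r →₀ ℕ) 1, MvPolynomial.isHomogeneous_monomial _ (hdeg d),
        by rw [MvPolynomial.eval_monomial, one_mul]⟩
  have hrange : LinearMap.range φ = Submodule.map (Submodule.mkQ (m ^ (k + 1))) (m ^ k) := by
    refine le_antisymm ?_ ?_
    · rintro _ ⟨c, rfl⟩
      rw [hφ]
      refine Submodule.mem_map_of_mem ?_
      rw [map_sum]
      refine Ideal.sum_mem _ fun d _ => ?_
      show _ ∈ IsLocalRing.maximalIdeal A ^ k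
      rw [← hf, Ideal.mem_span_pow_iff_exists_isHomogeneous]
      exact ⟨_, MvPolynomial.isHomogeneous_monomial _ (hdeg d), rfl⟩
    · rintro _ ⟨x, hx, rfl⟩
      have hx' : x ∈ Ideal.span (Set.range f) ^ k := by rw [hf]; exact hx
      obtain ⟨p, hp, rfl⟩ := (Ideal.mem_span_pow_iff_exists_isHomogeneous f x).1 hx'
      refine ⟨fun d => MvPolynomial.coeff (d : Fin r →₀ ℕ) p, ?_⟩
      rw [hφ]
      show Ideal.Quotient.mk _ _ = Ideal.Quotient.mk _ _
      congr 2
      rw [Finset.sum_coe_sort T (fun d => MvPolynomial.monomial d (MvPolynomial.coeff d p))]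
      conv_rhs => rw [p.as_sum]
      refine (Finset.sum_subset (fun d hd => ?_) fun d _ hd => ?_).symm
      · rw [Finset.mem_finsuppAntidiag]
        refine ⟨?_, Finset.subset_univ _⟩
        rw [← Finsupp.degree_eq_sum]
        by_contra hne
        exact MvPolynomial.mem_support_iff.1 hd (hp.coeff_eq_zero hne)
      · rw [MvPolynomial.notMem_support_iff.1 hd, map_zero]
  rw [Module.length_eq_add_of_exact (LinearMap.range φ).subtype
    (Submodule.factor (Ideal.pow_le_pow_right k.le_succ : m ^ (k + 1) ≤ m ^ k)) (Submodule.subtype_injective _)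
    (Submodule.factor_surjective _) ?_]
  · congr 1
    rw [(φ.quotKerEquivRange.symm.trans ((Submodule.quotEquivOfEq _ _ hker).trans
      (π.quotKerEquivOfSurjective hπ))).length_eq, Module.length_pi_of_fintype]
    haveI : IsSimpleModule A (IsLocalRing.ResidueField A) :=
      isSimpleModule_iff_quot_maximal.2 ⟨_, IsLocalRing.maximalIdeal.isMaximal A, ⟨LinearEquiv.refl A _⟩⟩
    simp only [Module.length_eq_one, Finset.sum_const, Finset.card_univ, nsmul_eq_mul, mul_one]
    congr 1
    rw [Fintype.card_coe, Finset.card_finsuppAntidiag_nat_eq_choose, Finset.card_univ, Fintype.card_fin]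
  · rw [LinearMap.exact_iff, Submodule.range_subtype, hrange]
    ext y
    obtain ⟨y, rfl⟩ := Submodule.Quotient.mk_surjective _ y
    rw [LinearMap.mem_ker]
    constructor
    · intro h
      exact ⟨y, (Submodule.Quotient.mk_eq_zero _).1 h, rfl⟩
    · rintro ⟨x, hx, hxy⟩
      rw [← hxy]
      exact (Submodule.Quotient.mk_eq_zero _).2 hx

theorem length_of_regular {A : Type u} [CommRing A] [IsRegularLocalRing A] (s : ℕ) :
    Module.length A (A ⧸ IsLocalRing.maximalIdeal A ^ (s + 1)) =
      ((s + Module.finrank (IsLocalRing.ResidueField A) (IsLocalRing.CotangentSpace A)).choose s : ℕ∞) := by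
  classical
  obtain ⟨t, htc, ht⟩ := Submodule.FG.exists_span_finset_card_eq_spanFinrank
    (IsLocalRing.maximalIdeal A).fg_of_isNoetherianRing
  rw [IsLocalRing.spanFinrank_maximalIdeal_eq_finrank_cotangentSpace] at htc
  let f : Fin t.card → A := fun i => (t.equivFin.symm i : A)
  have hr : Set.range f = (t : Set A) := by
    ext x
    exact ⟨fun ⟨i, hi⟩ => hi ▸ (t.equivFin.symm i).2, fun hx => ⟨t.equivFin ⟨x, hx⟩, by simp [f]⟩⟩
  have hf : Ideal.span (Set.range f) = IsLocalRing.maximalIdeal A := by rw [hr]; exact ht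
  have hdim : ringKrullDim A = t.card := by
    rw [Groth.Agent.CAlgReg.dim_eq_spanFinrank, IsLocalRing.spanFinrank_maximalIdeal_eq_finrank_cotangentSpace, htc]
  have hq : CAlgX.IsQuasiRegular f := Groth.Agent.QRegLib.isQuasiRegular_of_isWeaklyRegular t.card f
    (Groth.Agent.CAlgReg.isRegular_generators hdim _ (by simp) (by
      rw [← hf, Ideal.ofList]
      congr 1
      ext x
      simp [List.mem_ofFn])).toIsWeaklyRegular
  rw [← htc]
  induction s with
  | zero => rw [length_succ f hf hq 0]; simp
  | succ s ih =>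
    rw [length_succ f hf hq (s + 1), ih, ← Nat.cast_add]
    congr 1
    rw [show t.card + (s + 1) - 1 = s + t.card by omega, show s + 1 + t.card = (s + t.card) + 1 by omega,
      Nat.choose_succ_succ' (s + t.card) s, add_comm]


/-- Let A be a Noetherian local ring with maximal ideal m, residue field k, and let r be the dimension
of the k-vector space m/m². Then A is regular if and only if the canonical surjection of graded
k-algebras from the symmetric algebra of m/m² onto the associated graded ring of A for the m-adic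
filtration is bijective. Since that surjection is bijective exactly when source and target have the
same length in every degree, the condition is expressed here as: length_A(A/m^(s+1)) equals the
binomial coefficient C(s+r, r) for every s ≥ 0. -/
theorem result (A : Type u) [CommRing A] [IsLocalRing A]
    [IsNoetherianRing A] :
    IsRegularLocalRing A ↔
      ∀ s : ℕ, Module.length A (A ⧸ IsLocalRing.maximalIdeal A ^ (s + 1)) =
        ((s + Module.finrank (IsLocalRing.ResidueField A) (IsLocalRing.CotangentSpace A)).choose s : ℕ∞) := by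
  classical
  set r := Module.finrank (IsLocalRing.ResidueField A) (IsLocalRing.CotangentSpace A) with hr
  refine ⟨fun hreg => length_of_regular, fun h => ?_⟩
  haveI : IsArtinianRing (A ⧸ IsLocalRing.maximalIdeal A) :=
    inferInstanceAs (IsArtinianRing (IsLocalRing.ResidueField A))
  obtain ⟨P, ⟨N, hP⟩, hdeg⟩ := Groth.Agent.HilbSam.exists_polynomial_natDegree_eq (M := A) (IsLocalRing.maximalIdeal A)
    (IsLocalRing.maximalIdeal_le_jacobson _)
  rw [Module.supportDim_self_eq_ringKrullDim] at hdeg
  have hle : (Polynomial.X ^ r : Polynomial ℚ).natDegree ≤ P.natDegree := by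
    refine Groth.Agent.HilbSam.natDegree_le_of_le (N := N + 1)
      (C := r.factorial * ⌈∑ i ∈ Finset.range (P.natDegree + 1), |P.coeff i|⌉₊) fun n hn => ?_
    rw [Polynomial.eval_pow, Polynomial.eval_X]
    refine ⟨by positivity, ?_⟩
    obtain ⟨s, rfl⟩ : ∃ s, n = s + 1 := ⟨n - 1, by omega⟩
    have h1 : Groth.Agent.HilbSam.hs A (IsLocalRing.maximalIdeal A) (s + 1) = (s + r).choose s := by
      have h2 : Module.length A (A ⧸ (IsLocalRing.maximalIdeal A ^ (s + 1) • ⊤ : Submodule A A)) = ((s + r).choose s : ℕ∞) := by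
        rw [show (IsLocalRing.maximalIdeal A ^ (s + 1) • ⊤ : Submodule A A) = IsLocalRing.maximalIdeal A ^ (s + 1) by simp]
        exact h s
      show (Module.length A (A ⧸ (IsLocalRing.maximalIdeal A ^ (s + 1) • ⊤ : Submodule A A))).toNat = _
      rw [h2, ENat.toNat_natCast]
    have h3 : (s + 1) ^ r ≤ r.factorial * (s + r).choose s := by
      refine (Nat.pow_succ_le_ascFactorial _ r).trans (le_of_eq ?_)
      rw [Nat.ascFactorial_eq_factorial_mul_choose, ← Nat.choose_symm_add]
    have h4 : (((s + 1) ^ r : ℕ) : ℚ) ≤ (r.factorial : ℚ) * P.eval ((s + 1 : ℕ) : ℚ) := by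
      rw [← hP (s + 1) (by omega), h1]
      exact_mod_cast h3
    push_cast at h4 ⊢
    refine h4.trans ?_
    rw [mul_assoc]
    refine mul_le_mul_of_nonneg_left ?_ (by positivity)
    have := Groth.Agent.HilbSam.eval_le_growth P (s + 1)
    push_cast at this
    exact this
  rw [Polynomial.natDegree_X_pow] at hle
  refine IsRegularLocalRing.of_spanFinrank_maximalIdeal_le _ ?_
  rw [IsLocalRing.spanFinrank_maximalIdeal_eq_finrank_cotangentSpace, ← hdeg]
  exact_mod_cast hle

end Groth.Agent.S5778
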