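import Groth.Statements.S5780
import Groth.Agent.CMAux.Basic
import Mathlib

set_option autoImplicit false
universe u
open EGA41

namespace Groth.Agent.S5780

/-- Let A be a Noetherian local ring with maximal ideal m. If every element of m which is not in m² is a
zero divisor in A, then there is a nonzero c in A with c m = 0, i.e. m is an associated prime of A. -/
theorem result (A : Type u) [CommRing A]
    [IsLocalRing A] [IsNoetherianRing A]
    (h : ∀ a ∈ IsLocalRing.maximalIdeal A, a ∉ IsLocalRing.maximalIdeal A ^ 2 → ¬ IsSMulRegular A a) :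
    IsLocalRing.maximalIdeal A ∈ associatedPrimes A A := by
  classical
  by_contra hm
  have hfin := associatedPrimes.finite A A
  have hsub : ((IsLocalRing.maximalIdeal A : Ideal A) : Set A) ⊆
      ⋃ q ∈ insert (IsLocalRing.maximalIdeal A ^ 2) (associatedPrimes A A), (q : Set A) := by
    intro a ha
    by_cases h2 : a ∈ IsLocalRing.maximalIdeal A ^ 2
    · exact Set.mem_biUnion (Set.mem_insert _ _) h2
    · have : a ∈ ⋃ q ∈ associatedPrimes A A, (q : Set A) := by
        rw [biUnion_associatedPrimes_eq_compl_regular]
        exact h a ha h2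
      obtain ⟨q, hq, haq⟩ := Set.mem_iUnion₂.1 this
      exact Set.mem_biUnion (Set.mem_insert_of_mem _ hq) haq
  obtain ⟨q, hq, hle⟩ := (Ideal.subset_union_prime_finite (hfin.insert _) (IsLocalRing.maximalIdeal A ^ 2)
    (IsLocalRing.maximalIdeal A ^ 2) (fun p hp hne _ => ((Set.mem_insert_iff.1 hp).resolve_left hne).isPrime)).1 hsub
  rcases Set.mem_insert_iff.1 hq with rfl | hq
  · -- the maximal ideal equals its square, hence vanishes
    have hbot : IsLocalRing.maximalIdeal A = ⊥ :=
      Submodule.eq_bot_of_le_smul_of_le_jacobson_bot (IsLocalRing.maximalIdeal A) _ (IsNoetherian.noetherian _)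
        (by rwa [smul_eq_mul, ← sq]) (IsLocalRing.jacobson_eq_maximalIdeal ⊥ bot_ne_top).ge
    obtain ⟨p, hp⟩ := associatedPrimes.nonempty A A
    refine hm ?_
    rw [← le_antisymm (IsLocalRing.le_maximalIdeal hp.isPrime.ne_top) (hbot ▸ bot_le)]
    exact hp
  · exact hm (le_antisymm hle (IsLocalRing.le_maximalIdeal hq.isPrime.ne_top) ▸ hq)

end Groth.Agent.S5780
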