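import Groth.Statements.S5781
import Mathlib

set_option autoImplicit false
universe u
open EGA41

namespace Groth.Agent.S5781

open scoped Pointwise

/-- Suppose A is a Noetherian local ring whose maximal ideal is m, and take a ∈ m with a ∉ m². Then the
quotient m/am contains a direct summand isomorphic to m/Aa: concretely, one can find A-linear maps f
: m/Aa → m/am and g : m/am → m/Aa such that g ∘ f is the identity. -/
theorem result (A : Type u) [CommRing A] [IsLocalRing A]
    [IsNoetherianRing A] (a : A) (ha : a ∈ IsLocalRing.maximalIdeal A) (ha2 : a ∉ IsLocalRing.maximalIdeal A ^ 2) :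
    ∃ (f : (↥(IsLocalRing.maximalIdeal A) ⧸ Submodule.span A {(⟨a, ha⟩ : ↥(IsLocalRing.maximalIdeal A))}) →ₗ[A]
          QuotSMulTop a ↥(IsLocalRing.maximalIdeal A))
      (g : QuotSMulTop a ↥(IsLocalRing.maximalIdeal A) →ₗ[A]
          (↥(IsLocalRing.maximalIdeal A) ⧸ Submodule.span A {(⟨a, ha⟩ : ↥(IsLocalRing.maximalIdeal A))})),
      g.comp f = LinearMap.id := by
  let 𝔪 := IsLocalRing.maximalIdeal A
  have hv : (IsLocalRing.maximalIdeal A).toCotangent ⟨a, ha⟩ ≠ 0 := fun h => ha2 (Ideal.toCotangent_eq_zero _ _ |>.mp h)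
  obtain ⟨φ, hφ⟩ := Module.Projective.exists_dual_ne_zero (IsLocalRing.ResidueField A) hv
  let c := φ ((IsLocalRing.maximalIdeal A).toCotangent ⟨a, ha⟩)
  let ψ : ↥(IsLocalRing.maximalIdeal A) →ₗ[A] IsLocalRing.ResidueField A :=
    ((c⁻¹ • φ).restrictScalars A).comp (IsLocalRing.maximalIdeal A).toCotangent
  have hψ : ψ ⟨a, ha⟩ = 1 := inv_mul_cancel₀ hφ
  let ea : A →ₗ[A] QuotSMulTop a ↥(IsLocalRing.maximalIdeal A) :=
    LinearMap.toSpanSingleton A _ (Submodule.Quotient.mk (⟨a, ha⟩ : ↥(IsLocalRing.maximalIdeal A)))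
  have hea : IsLocalRing.maximalIdeal A ≤ LinearMap.ker ea := fun c hc => by
    rw [LinearMap.mem_ker, LinearMap.toSpanSingleton_apply, ← Submodule.Quotient.mk_smul,
      Submodule.Quotient.mk_eq_zero, Submodule.mem_smul_pointwise_iff_exists]
    exact ⟨⟨c, hc⟩, trivial, Subtype.ext (by simp [mul_comm])⟩
  let h : IsLocalRing.ResidueField A →ₗ[A] QuotSMulTop a ↥(IsLocalRing.maximalIdeal A) :=
    Submodule.liftQ _ ea hea
  have h1 : h 1 = Submodule.Quotient.mk (⟨a, ha⟩ : ↥(IsLocalRing.maximalIdeal A)) := by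
    show ea 1 = _
    rw [LinearMap.toSpanSingleton_apply, one_smul]
  refine ⟨Submodule.liftQ _ (Submodule.mkQ _ - h.comp ψ) ?_, Submodule.liftQ _ (Submodule.mkQ _) ?_, ?_⟩
  · rw [Submodule.span_singleton_le_iff_mem, LinearMap.mem_ker, LinearMap.sub_apply, LinearMap.comp_apply,
      hψ, h1, Submodule.mkQ_apply, sub_self]
  · intro x hx
    obtain ⟨y, -, rfl⟩ := (Submodule.mem_smul_pointwise_iff_exists _ _ _).mp hx
    rw [LinearMap.mem_ker, Submodule.mkQ_apply, Submodule.Quotient.mk_eq_zero, Submodule.mem_span_singleton]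
    exact ⟨y, Subtype.ext (by simp [mul_comm])⟩
  · refine Submodule.linearMap_qext _ (LinearMap.ext fun x => ?_)
    obtain ⟨c', hc'⟩ := IsLocalRing.residue_surjective (ψ x)
    have hh : h (ψ x) = Submodule.Quotient.mk (c' • (⟨a, ha⟩ : ↥(IsLocalRing.maximalIdeal A))) := by
      rw [← hc']
      show ea c' = _
      rw [LinearMap.toSpanSingleton_apply, Submodule.Quotient.mk_smul]
    simp only [LinearMap.comp_apply, Submodule.mkQ_apply, Submodule.liftQ_apply, LinearMap.sub_apply, hh,
      map_sub, LinearMap.id_apply]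
    rw [sub_eq_self, Submodule.Quotient.mk_eq_zero]
    exact Submodule.smul_mem _ _ (Submodule.mem_span_singleton_self _)

end Groth.Agent.S5781
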