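import Groth.Statements.S5782
import Mathlib
import Groth.Agent.CAlgReg.Serre

set_option autoImplicit false
universe u
open CategoryTheory
open EGA41

namespace Groth.Agent.S5782

/-- Let A be a Noetherian local ring with maximal ideal m, E a finitely generated A-module of finite
projective dimension, and a ∈ m an element which is A-regular and E-regular. Then E/aE, as a module
over A/aA, has finite projective dimension at most the projective dimension of E over A. -/
theorem result (A : Type u) [CommRing A] [IsLocalRing A]
    [IsNoetherianRing A] (E : Type u) [AddCommGroup E] [Module A E] [Module.Finite A E]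
    (hfin : projectiveDimension (ModuleCat.of A E) ≠ ⊤) (a : A) (ha : a ∈ IsLocalRing.maximalIdeal A)
    (hA : IsSMulRegular A a) (hE : IsSMulRegular E a) :
    projectiveDimension (ModuleCat.of (A ⧸ Ideal.span {a}) (E ⧸ (Ideal.span {a} • (⊤ : Submodule A E)))) ≤
      projectiveDimension (ModuleCat.of A E) := by
  rcases subsingleton_or_nontrivial E with hE' | hE'
  · refine le_of_eq_of_le ?_ bot_le
    rw [projectiveDimension_eq_bot_iff]
    exact ModuleCat.isZero_of_subsingleton _
  rw [projectiveDimension_ne_top_iff] at hfin
  obtain ⟨N, hN⟩ := hfin
  refine le_of_forall_ge fun c hc => ?_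
  induction c using WithBot.recBotCoe with
  | bot =>
    rw [le_bot_iff, projectiveDimension_eq_bot_iff] at hc
    exact absurd (ModuleCat.subsingleton_of_isZero hc) (not_subsingleton E)
  | coe c =>
    induction c using ENat.recTopCoe with
    | top => exact le_top
    | coe m =>
      have h1 : CAlgReg.PdLT A E (m + 1) := (projectiveDimension_le_iff _ m).1 hc
      have h2 := CAlgReg.pdLT_quotSMulTop hA m E hE h1
      refine (projectiveDimension_le_iff _ m).2 ?_
      refine CAlgReg.pdLT_congr ?_ h2
      exact ((Submodule.quotEquivOfEq _ _ (Submodule.ideal_span_singleton_smul a (⊤ : Submodule A E)).symm).extendScalarsOfSurjective Ideal.Quotient.mk_surjective)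

end Groth.Agent.S5782
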