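import Groth.Statements.S5783
import Groth.Agent.WildQuotGal.FreeReg
import Mathlib

set_option autoImplicit false
universe u
open EGA41

namespace Groth.Agent.S5783

/-- Let A be a regular local ring, B a local ring and ρ : A → B a local homomorphism making B a finitely
generated A-module. Then B is a free A-module if and only if B is a Cohen-Macaulay ring and ρ is
injective (the latter being equivalent to dim(B) = dim(A)). -/
theorem result (A B : Type u) [CommRing A] [CommRing B]
    [IsRegularLocalRing A] [IsLocalRing B] [Algebra A B] [IsLocalHom (algebraMap A B)] [Module.Finite A B] :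
    Module.Free A B ↔ LocCoh.IsCohenMacaulayLocalRing B ∧ Function.Injective (algebraMap A B) := by
  classical
  haveI : IsNoetherianRing B := IsNoetherianRing.of_finite A B
  obtain ⟨d, hd⟩ := Groth.Agent.CAlgReg.exists_dim (R := A)
  obtain ⟨s, hcard, hs⟩ := Submodule.FG.exists_span_finset_card_eq_spanFinrank
    (IsLocalRing.maximalIdeal A).fg_of_isNoetherianRing
  have hl : Ideal.ofList s.toList = IsLocalRing.maximalIdeal A := by
    rw [← hs, Ideal.ofList]; simp
  have hlen : s.toList.length = d := by
    rw [Finset.length_toList, hcard, Groth.Agent.CAlgReg.spanFinrank_eq_of_dim hd]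
  have hmem : ∀ x ∈ s.toList.map (algebraMap A B), x ∈ IsLocalRing.maximalIdeal B := by
    intro x hx
    obtain ⟨y, hy, rfl⟩ := List.mem_map.1 hx
    exact map_nonunit _ y (hl ▸ Ideal.subset_span hy)
  have hrad : (Ideal.ofList (s.toList.map (algebraMap A B))).radical = (IsLocalRing.maximalIdeal B).radical := by
    rw [← Ideal.map_ofList, hl, (IsLocalRing.maximalIdeal.isMaximal B).isPrime.radical]
    refine le_antisymm ((Ideal.IsPrime.radical_le_iff inferInstance).2 (IsLocalRing.map_maximalIdeal_le _)) ?_
    rw [Ideal.radical_eq_sInf]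
    refine le_sInf fun P ⟨hP, hPp⟩ => ?_
    haveI := hPp
    have hmax : (P.under A).IsMaximal := by
      have : IsLocalRing.maximalIdeal A ≤ P.under A := Ideal.map_le_iff_le_comap.1 hP
      rw [← (IsLocalRing.maximalIdeal.isMaximal A).eq_of_le Ideal.IsPrime.ne_top' this]
      infer_instance
    haveI : P.IsMaximal := Ideal.isMaximal_of_isIntegral_of_isMaximal_comap P hmax
    exact (IsLocalRing.eq_maximalIdeal this).ge
  constructor
  · intro hfree
    have hinj : Function.Injective (algebraMap A B) := by
      let b := Module.Free.chooseBasis A B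
      haveI : Nonempty (Module.Free.ChooseBasisIndex A B) := b.index_nonempty
      obtain ⟨i⟩ := ‹Nonempty (Module.Free.ChooseBasisIndex A B)›
      refine (injective_iff_map_eq_zero _).2 fun a ha => ?_
      have := congrArg (fun z => b.repr z i) (show a • b i = 0 by rw [Algebra.smul_def, ha, zero_mul])
      simpa using this
    refine ⟨Groth.Agent.Depth.isCohenMacaulayLocalRing_iff.2 (le_antisymm ?_ Groth.Agent.Depth.depth_le_ringKrullDim), hinj⟩
    haveI : FaithfulSMul A B := (faithfulSMul_iff_algebraMap_injective A B).2 hinj
    rw [Groth.Agent.DimTheory.ringKrullDim_eq_of_integral A B, hd]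
    have hreg : RingTheory.Sequence.IsRegular A s.toList := Groth.Agent.CAlgReg.isRegular_generators hd s.toList hlen hl
    have h2 := Groth.Agent.Depth.le_idealDepth_of_isWeaklyRegular (M := B) (hreg.toIsWeaklyRegular.of_flat (S := B)) hmem
    rw [List.length_map, hlen] at h2
    exact WithBot.coe_le_coe.2 h2
  · rintro ⟨hCM, hinj⟩
    haveI : FaithfulSMul A B := (faithfulSMul_iff_algebraMap_injective A B).2 hinj
    have h1 := Groth.Agent.Depth.ringKrullDim_eq_depth (R := B)
    rw [Groth.Agent.DimTheory.ringKrullDim_eq_of_integral A B, hd] at h1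
    refine Groth.Agent.WildQuotGal.free_of_isWeaklyRegular d A B s.toList hlen hl ?_
    rw [← RingTheory.Sequence.isWeaklyRegular_map_algebraMap_iff B B s.toList]
    refine (Groth.Agent.Depth.idealDepth_ofList_eq_length_iff _ hmem).1 ?_
    rw [Groth.Agent.Depth.idealDepth_eq_of_radical_eq hrad B, List.length_map, hlen]
    exact (WithBot.coe_injective h1).symm

end Groth.Agent.S5783
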