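import Groth.Statements.S5785
import Groth.Agent.RegLocus.Basic
import Groth.Agent.AdicNoeth.Basic
import Groth.Agent.FSAdic.Transfer

set_option autoImplicit false
universe u
open EGA41

namespace Groth.Agent.S5785

/-- Let A be a regular ring and J an ideal of A. Then the separated completion of A for the J-adic
topology is a regular ring. -/
theorem result (A : Type u) [CommRing A] [IsRegularRing A] (J : Ideal A) :
    IsRegularRing (AdicCompletion J A) := by
  haveI : IsNoetherianRing A := inferInstance
  haveI : IsNoetherianRing (AdicCompletion J A) := Groth.Agent.AdicNoeth.isNoetherianRing_adicCompletion J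
  refine isRegularRing_iff.2 fun P hP => ?_
  obtain ⟨M, hM, hPM⟩ := Ideal.exists_le_maximal P hP.ne_top
  refine Groth.Agent.RegLocus.regular_of_le M P hPM ?_
  refine Groth.Agent.RegLocus.regular_ascend A (AdicCompletion J A) M ((isRegularRing_iff.1 ‹IsRegularRing A›) _) ?_
  haveI : IsAdicComplete J (AdicCompletion J A) := AdicCompletion.isAdicComplete (IsNoetherian.noetherian J)
  haveI : IsAdicComplete (J.map (algebraMap A (AdicCompletion J A))) (AdicCompletion J A) :=
    (IsAdicComplete.map_algebraMap_iff J (AdicCompletion J A)).2 inferInstance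
  have hJM : J.map (algebraMap A (AdicCompletion J A)) ≤ M :=
    (IsAdicComplete.le_jacobson_bot _).trans (Ideal.jacobson_mono bot_le |>.trans
      (Ideal.jacobson_eq_self_of_isMaximal (H := hM)).le)
  have hMq : (M.comap (algebraMap A (AdicCompletion J A))).map (algebraMap A (AdicCompletion J A)) = M := by
    refine le_antisymm Ideal.map_comap_le fun x hx => ?_
    obtain ⟨a, ha⟩ := Ideal.Quotient.mk_surjective (AdicCompletion.evalₐ J 1 x)
    have h1 : x - algebraMap A (AdicCompletion J A) a ∈ J.map (algebraMap A (AdicCompletion J A)) := by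
      rw [← pow_one (J.map (algebraMap A (AdicCompletion J A))),
        ← Groth.Agent.FSAdic.ker_evalₐ J (IsNoetherian.noetherian _), RingHom.mem_ker, map_sub, sub_eq_zero]
      exact ha.symm.trans (AlgHom.commutes _ a).symm
    have h2 : algebraMap A (AdicCompletion J A) a ∈ M := by
      simpa using sub_mem hx (hJM h1)
    rw [← sub_add_cancel x (algebraMap A (AdicCompletion J A) a)]
    refine add_mem (Ideal.map_mono (fun j hj => ?_) h1) (Ideal.mem_map_of_mem _ (Ideal.mem_comap.2 h2))
    exact Ideal.mem_comap.2 (hJM (Ideal.mem_map_of_mem _ hj))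
  have hI : (M.comap (algebraMap A (AdicCompletion J A))).map (algebraMap A (Localization.AtPrime M)) =
      IsLocalRing.maximalIdeal (Localization.AtPrime M) := by
    rw [IsScalarTower.algebraMap_eq A (AdicCompletion J A) (Localization.AtPrime M), ← Ideal.map_map, hMq,
      Localization.AtPrime.map_eq_maximalIdeal]
  haveI : IsRegularLocalRing (IsLocalRing.ResidueField (Localization.AtPrime M)) := inferInstance
  exact IsRegularLocalRing.of_ringEquiv (R := IsLocalRing.ResidueField (Localization.AtPrime M)) (Ideal.quotEquivOfEq hI.symm)

end Groth.Agent.S5785
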