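import Groth.Statements.S5787
import Mathlib

set_option autoImplicit false
universe u
open CategoryTheory
open EGA41

namespace Groth.Agent.S5787

open CategoryTheory Abelian Pointwise RingTheory.Sequence in
theorem rees_ext {A : Type u} [CommRing A] (N : ModuleCat.{u} A) (xs : List A) :
    ∀ (M : Type u) [AddCommGroup M] [Module A M], (∀ x ∈ xs, x ∈ Module.annihilator A N) →
      IsWeaklyRegular M xs →
      (∀ i < xs.length, Subsingleton (Ext N (ModuleCat.of A M) i)) ∧
      Nonempty ((N →ₗ[A] (M ⧸ (Ideal.ofList xs • (⊤ : Submodule A M)))) ≃+ Ext N (ModuleCat.of A M) xs.length) := by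
  induction xs with
  | nil =>
    intro M _ _ _ _
    refine ⟨fun i hi => absurd hi (Nat.not_lt_zero i), ⟨?_⟩⟩
    exact ((LinearEquiv.congrRight (R := A) (Submodule.quotEquivOfEqBot _
      (by rw [Ideal.ofList_nil, Submodule.bot_smul]))).toAddEquiv.trans
      (ModuleCat.homAddEquiv (M := N) (N := ModuleCat.of A M)).symm).trans Ext.addEquiv₀.symm
  | cons x xs ih =>
    intro M _ _ hann hreg
    rw [isWeaklyRegular_cons_iff] at hreg
    simp only [List.mem_cons, forall_eq_or_imp] at hann
    obtain ⟨hv, ⟨e⟩⟩ := ih (QuotSMulTop x M) hann.2 hreg.2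
    let S := (ModuleCat.of A M).smulShortComplex x
    have hS : S.ShortExact := IsSMulRegular.smulShortComplex_shortExact (M := ModuleCat.of A M) hreg.1
    have hzero : ∀ (i : ℕ) (y : Ext N S.X₁ i), y.comp (Ext.mk₀ S.f) (add_zero i) = 0 := fun i y => by
      have := ConcreteCategory.congr_hom (Ext.postcomp_smul_id_eq_zero_of_mem_annihilator (M := ModuleCat.of A M) hann.1 i) y
      exact this
    have hlow : ∀ i < xs.length + 1, Subsingleton (Ext N (ModuleCat.of A M) i) := by
      intro i hi
      refine subsingleton_of_forall_eq 0 fun y => ?_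
      cases i with
      | zero =>
        obtain ⟨φ, rfl⟩ := Ext.addEquiv₀.symm.surjective y
        rw [show φ = 0 from ?_, map_zero]
        ext n
        refine hreg.1 ?_
        show x • φ.hom n = x • (0 : M)
        rw [← map_smul, Module.mem_annihilator.mp hann.1 n, map_zero, smul_zero]
      | succ j =>
        obtain ⟨x₃, rfl⟩ := Ext.covariant_sequence_exact₁ N hS y (hzero _ y) rfl
        rw [@Subsingleton.elim _ (hv j (by omega)) x₃ 0]
        exact Ext.zero_comp ..
    refine ⟨hlow, ⟨?_⟩⟩
    let δ : Ext N S.X₃ xs.length →+ Ext N S.X₁ (xs.length + 1) := hS.extClass.postcomp N rfl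
    have hδ : Function.Bijective δ := by
      refine ⟨(injective_iff_map_eq_zero δ).mpr fun x₃ h3 => ?_, fun y => ?_⟩
      · obtain ⟨x₂, rfl⟩ := Ext.covariant_sequence_exact₃ N hS x₃ rfl h3
        rw [@Subsingleton.elim _ (hlow xs.length (Nat.lt_succ_self _)) x₂ 0]
        exact Ext.zero_comp ..
      · exact Ext.covariant_sequence_exact₁ N hS y (hzero _ y) rfl
    exact (LinearEquiv.congrRight (R := A)
      (Submodule.quotOfListConsSMulTopEquivQuotSMulTopInner M x xs)).toAddEquiv.trans
      (e.trans (AddEquiv.ofBijective δ hδ))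


/-- Let A be a Noetherian local ring with maximal ideal m and residue field k, M an A-module and
(x_i)_{1 ≤ i ≤ n} an M-regular sequence of elements of m. Then Hom_A(k, M/(x_1 M + ... + x_n M)) and
Ext^n_A(k, M) are isomorphic (existence of an isomorphism; stated for the underlying abelian
groups). -/
theorem result (A : Type u) [CommRing A] [IsLocalRing A]
    [IsNoetherianRing A] (M : Type u) [AddCommGroup M] [Module A M] (xs : List A)
    (hxs : ∀ x ∈ xs, x ∈ IsLocalRing.maximalIdeal A) (hreg : RingTheory.Sequence.IsWeaklyRegular M xs) :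
    Nonempty ((IsLocalRing.ResidueField A →ₗ[A] (M ⧸ (Ideal.ofList xs • (⊤ : Submodule A M)))) ≃+
      Abelian.Ext (ModuleCat.of A (IsLocalRing.ResidueField A)) (ModuleCat.of A M) xs.length) := by
  exact (rees_ext (ModuleCat.of A (IsLocalRing.ResidueField A)) xs M (fun x hx => by
    rw [Module.mem_annihilator]
    intro z
    rw [Algebra.smul_def, show algebraMap A (IsLocalRing.ResidueField A) x = 0 from
      (IsLocalRing.residue_eq_zero_iff x).mpr (hxs x hx), zero_mul]) hreg).2

end Groth.Agent.S5787
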