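import Groth.Statements.S5790
import Mathlib
import Groth.Agent.LocDuality.GorenGlobal

set_option autoImplicit false
universe u
open CategoryTheory
open EGA41

namespace Groth.Agent.S5790

/-- Suppose A is a Noetherian ring and consider any A-module M. Taking the supremum, over all prime
ideals p, of the injective dimension of M_p as an A_p-module yields the injective dimension of M;
put differently, for each n, the injective dimension of M is at most n exactly when, for every prime
p, the injective dimension of M_p over A_p is at most n. -/
theorem result (A : Type u) [CommRing A] [IsNoetherianRing A]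
    (M : Type u) [AddCommGroup M] [Module A M] (n : ℕ) :
    HasInjectiveDimensionLT (ModuleCat.of A M) (n + 1) ↔
      ∀ p : PrimeSpectrum A, HasInjectiveDimensionLT
        (ModuleCat.of (Localization.AtPrime p.asIdeal) (LocalizedModule p.asIdeal.primeCompl M)) (n + 1) := by
  refine ⟨fun h p => ?_, fun h => LocDuality.hasInjectiveDimensionLT_of_localized (n + 1) _ fun P hP => h ⟨P, hP.isPrime⟩⟩
  haveI := h
  exact LocDuality.hasInjectiveDimensionLT_localized p.asIdeal.primeCompl (n + 1) (ModuleCat.of A M)

end Groth.Agent.S5790
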