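import Groth.Statements.S5793
import Groth.Agent.TopDimLib.Basic

set_option autoImplicit false
universe u
open TopDim

namespace Groth.Agent.S5793

/-- Let X be a Noetherian Kolmogoroff space. Then dim(X) = sup dim_x(X), the supremum being over the
closed points x of X only. -/
theorem result (X : Type u) [TopologicalSpace X]
    [TopologicalSpace.NoetherianSpace X] [T0Space X] :
    topologicalKrullDim X = ⨆ x ∈ {x : X | IsClosed ({x} : Set X)}, FlatMor.localDim X x := by
  open Groth.Agent.TopDimLib in
  refine le_antisymm (dim_le fun p => ?_) (iSup₂_le fun x _ => localDim_le_dim x)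
  obtain ⟨x, hx, hcl⟩ := exists_closedPoint_mem p.head.isClosed p.head.isIrreducible.nonempty
  exact (length_le_localDim p hx).trans (le_iSup₂_of_le x hcl le_rfl)

end Groth.Agent.S5793
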