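import Groth.Statements.S5795
import Groth.Agent.TopDimLib.Basic

set_option autoImplicit false
universe u
open TopDim

namespace Groth.Agent.S5795

/-- Let X be a Noetherian Kolmogoroff space and x a point of X. Then x is isolated in X if and only if
dim_x(X) = 0. -/
theorem result (X : Type u) [TopologicalSpace X]
    [TopologicalSpace.NoetherianSpace X] [T0Space X] (x : X) :
    IsOpen ({x} : Set X) ↔ FlatMor.localDim X x = 0 := by
  open Groth.Agent.TopDimLib in
  obtain ⟨U, hxU, hU⟩ := exists_localDim_eq x
  constructor
  · intro hx
    refine le_antisymm ((localDim_le (U := ⟨{x}, hx⟩) (x := x) rfl).trans ?_) ?_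
    · have : DiscreteTopology ↥({x} : Set X) := discreteTopology_iff_forall_isOpen.2 fun s => by
        rcases Set.Subsingleton.eq_empty_or_singleton (s := s) (fun a _ b _ => Subtype.ext (a.2.trans b.2.symm)) with rfl | ⟨a, rfl⟩
        · exact isOpen_empty
        · convert isOpen_univ
          exact Set.eq_univ_of_forall fun b => Subtype.ext (b.2.trans a.2.symm)
      exact topologicalKrullDim_zero_of_discreteTopology _
    · rw [← hU]
      have : Nonempty (TopologicalSpace.IrreducibleCloseds (U : Set X)) :=
        ⟨⟨closure {⟨x, hxU⟩}, isIrreducible_singleton.closure, isClosed_closure⟩⟩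
      exact Order.krullDim_nonneg
  · intro h
    obtain ⟨_, hd⟩ := finite_discrete_of_forall_length_zero (X := (U : Set X))
      (length_zero_of_dim_lt_one ((hU.trans h).trans_lt zero_lt_one))
    have := U.isOpen.isOpenMap_subtype_val _ (isOpen_discrete ({⟨x, hxU⟩} : Set (U : Set X)))
    simpa using this

end Groth.Agent.S5795
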