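import Groth.Statements.S5799
import Groth.Agent.TopDimLib.Basic

set_option autoImplicit false
universe u
open TopDim

namespace Groth.Agent.S5799

/-- If (X_i) is a locally finite covering of a topological space X by closed subsets, then dim(X) =
sup_i dim(X_i). -/
theorem result (X : Type u) [TopologicalSpace X]
    (ι : Type u) (Y : ι → Set X) (hY : ∀ i, IsClosed (Y i)) (hlf : LocallyFinite Y) (hcov : ⋃ i, Y i = Set.univ) :
    topologicalKrullDim X = ⨆ i, topologicalKrullDim (Y i) := by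
  open Groth.Agent.TopDimLib in
  refine le_antisymm (dim_le fun p => ?_) (iSup_le fun i => topologicalKrullDim_subspace_le X _)
  obtain ⟨x, hx⟩ := p.last.isIrreducible.nonempty
  obtain ⟨V, hV, hfin⟩ := hlf x
  obtain ⟨W, hWV, hW, hxW⟩ := mem_nhds_iff.1 hV
  have hd : (p.last : Set X) ⊆ ⋃ i : {i | (Y i ∩ V).Nonempty}, Y i := by
    have hcl : IsClosed (⋃ i : {i | (Y i ∩ V).Nonempty}, Y i) := by
      have := hfin.to_subtype
      exact isClosed_iUnion_of_finite fun i => hY i
    refine fun z hz => hcl.closure_subset (mem_closure_iff.2 fun O hO hzO => ?_)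
    obtain ⟨w, hw, hwO, hwW⟩ := p.last.isIrreducible.2 O W hO hW ⟨z, hz, hzO⟩ ⟨x, hx, hxW⟩
    obtain ⟨i, hi⟩ := Set.mem_iUnion.1 (hcov ▸ Set.mem_univ w)
    exact ⟨w, hwO, Set.mem_iUnion.2 ⟨⟨i, w, hi, hWV hwW⟩, hi⟩⟩
  have := hfin.to_subtype
  obtain ⟨i, hi⟩ := exists_subset_of_subset_iUnion (fun i : {i | (Y i ∩ V).Nonempty} => hY i) p.last.isIrreducible hd
  exact (length_le_of_last_subset p hi).trans (le_iSup (fun i => topologicalKrullDim (Y i)) i.1)

end Groth.Agent.S5799
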