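import Groth.Statements.S5800
import Groth.Agent.TopDimLib.Basic

set_option autoImplicit false
universe u
open TopDim

namespace Groth.Agent.S5800

/-- Let X be a topological space, x a point of X and (Y_i) a finite family of closed subsets each
containing x whose union is X. Then dim_x(X) = sup_i dim_x(Y_i). (The published statement lets the
Y_i be closed subsets of a neighbourhood U of x covering U; this row is the case U = X.) -/
theorem result (X : Type u) [TopologicalSpace X] (x : X)
    (ι : Type u) [Finite ι] (Y : ι → Set X) (hY : ∀ i, IsClosed (Y i)) (hx : ∀ i, x ∈ Y i)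
    (hcov : ⋃ i, Y i = Set.univ) :
    FlatMor.localDim X x = ⨆ i, FlatMor.localDim (Y i) ⟨x, hx i⟩ := by
  open Groth.Agent.TopDimLib in
  refine le_antisymm ?_ (iSup_le fun i => ?_)
  · choose V hxV hV using fun i => exists_localDim_eq (X := Y i) ⟨x, hx i⟩
    choose W hW hWeq using fun i => isOpen_induced_iff.1 (V i).isOpen
    let U : TopologicalSpace.Opens X := ⟨⋂ i, W i, isOpen_iInter_of_finite hW⟩
    have hxU : x ∈ U := Set.mem_iInter.2 fun i => by
      have : (⟨x, hx i⟩ : Y i) ∈ Subtype.val ⁻¹' W i := (hWeq i).symm ▸ hxV i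
      exact this
    refine (localDim_le hxU).trans ((dim_le_iSup_of_finite_closed_cover (X := (U : Set X))
      (Y := fun i => Subtype.val ⁻¹' Y i) (fun i => (hY i).preimage continuous_subtype_val)
      (by rw [← Set.preimage_iUnion, hcov, Set.preimage_univ])).trans (iSup_mono fun i => ?_))
    rw [← hV i]
    let f : ↥((Subtype.val : ↥(U : Set X) → X) ⁻¹' Y i) → (V i : Set (Y i)) := fun z =>
      ⟨⟨z.1.1, z.2⟩, (hWeq i).subset (Set.mem_iInter.1 z.1.2 i)⟩
    have : Topology.IsInducing f :=
      ((Topology.IsInducing.subtypeVal.comp Topology.IsInducing.subtypeVal).of_comp_iff (f := f)).1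
        ((Topology.IsInducing.subtypeVal (t := (U : Set X))).comp
          (Topology.IsInducing.subtypeVal (t := (Subtype.val : ↥(U : Set X) → X) ⁻¹' Y i)))
    exact this.topologicalKrullDim_le
  · obtain ⟨U, hxU, hU⟩ := exists_localDim_eq x
    refine ((localDim_le (U := ⟨Subtype.val ⁻¹' (U : Set X), U.isOpen.preimage continuous_subtype_val⟩) (x := (⟨x, hx i⟩ : Y i)) hxU).trans ?_).trans_eq hU
    let f : ↥((Subtype.val : Y i → X) ⁻¹' (U : Set X)) → (U : Set X) := fun z => ⟨z.1.1, z.2⟩
    have : Topology.IsInducing f :=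
      (Topology.IsInducing.subtypeVal.of_comp_iff (f := f)).1
        ((Topology.IsInducing.subtypeVal (t := Y i)).comp
          (Topology.IsInducing.subtypeVal (t := (Subtype.val : ↥(Y i) → X) ⁻¹' (U : Set X))))
    exact this.topologicalKrullDim_le

end Groth.Agent.S5800
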