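import Groth.Statements.S5805
import Mathlib
import Groth.Agent.CAlgReg.Serre
import Groth.Agent.CAlgReg.GlobalDim

set_option autoImplicit false
universe u
open CategoryTheory
open EGA41

namespace Groth.Agent.S5805

/-- Let A be a Noetherian local ring with residue field k and n ≥ 0. Then the global dimension of A is
at most n as soon as the projective dimension of the A-module k is at most n: every A-module then
has projective dimension at most n. (The published statement phrases the criterion through the
vanishing of Tor^A_{n+1}(k, k), to which dim.proj_A(k) ≤ n is equivalent for finitely generated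
modules over a Noetherian local ring; this row states the projective-dimension form that the
published proof establishes.) -/
theorem result (A : Type u) [CommRing A] [IsLocalRing A]
    [IsNoetherianRing A] (n : ℕ)
    (hk : HasProjectiveDimensionLT (ModuleCat.of A (IsLocalRing.ResidueField A)) (n + 1)) (M : Type u)
    [AddCommGroup M] [Module A M] : HasProjectiveDimensionLT (ModuleCat.of A M) (n + 1) := by
  haveI hreg := Groth.Agent.CAlgReg.isRegularLocalRing_of_pdLT (R := A) hk
  have h2 := (Groth.Agent.CAlgReg.serre_aux (n + 1) A hk).2
  obtain ⟨d, hd⟩ := Groth.Agent.CAlgReg.exists_dim (R := A)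
  have h3 : d ≤ n := by
    have h4 := Groth.Agent.CAlgReg.spanFinrank_eq_of_dim hd
    have h5 := IsLocalRing.spanFinrank_maximalIdeal_eq_finrank_cotangentSpace (R := A)
    omega
  exact Groth.Agent.CAlgReg.pdLT_mono (Nat.succ_le_succ h3) (Groth.Agent.CAlgReg.pdLT_of_isRegularLocalRing hd M)

end Groth.Agent.S5805
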