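import Groth.Statements.S5806
import Mathlib
import Groth.Agent.FlatCrit.Basic

set_option autoImplicit false
universe u
open EGA41

namespace Groth.Agent.S5806

open scoped Pointwise in
open TensorProduct in
/-- Let A be a ring, B a commutative A-algebra, (f_i)_{1 ≤ i ≤ n} elements of B and M a B-module.
Suppose (f_i) is M-regular and each of the A-modules M/(f_1 M + ... + f_i M), 0 ≤ i ≤ n, is flat.
Then for every ring homomorphism A → A', writing M' = M ⊗_A A' and f'_i = f_i ⊗ 1, the sequence
(f'_i) is M'-regular and the A'-modules M'/(f'_1 M' + ... + f'_{i-1} M') are flat: concretely,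
identifying M'/(f'_1 M' + ... + f'_{i-1} M') with A' ⊗_A (M/(f_1 M + ... + f_{i-1} M)),
multiplication by f_i on the latter is injective and the latter is A'-flat, for 1 ≤ i ≤ n. (The
published hypothesis lists only the flatness of M/(f_1 M + ... + f_{i-1} M) for 1 ≤ i ≤ n, omitting
M/(f_1 M + ... + f_n M); with that omission the case n = 1, A = B = k[t], M = k[t], f_1 = t, A' =
k[t]/(t) fails, since t acts as zero on k ⊗_A M = k, and the published proof uses the flatness of
M/(f_1 M + ... + f_i M) for every i ≤ n; so flatness of all these quotients is assumed here.) -/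
theorem result (A B : Type u) [CommRing A]
    [CommRing B] [Algebra A B] (M : Type u) [AddCommGroup M] [Module B M] [Module A M] [IsScalarTower A B M]
    (fs : List B) (hreg : RingTheory.Sequence.IsWeaklyRegular M fs)
    (hflat : ∀ i : ℕ, i ≤ fs.length → Module.Flat A (M ⧸ (Ideal.ofList (fs.take i) • (⊤ : Submodule B M))))
    (A' : Type u) [CommRing A'] [Algebra A A'] (i : Fin fs.length) :
    Function.Injective (LinearMap.lTensor A'
        (((LinearMap.lsmul B (M ⧸ (Ideal.ofList (fs.take i) • (⊤ : Submodule B M)))) (fs.get i)).restrictScalars A)) ∧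
      Module.Flat A' (A' ⊗[A] (M ⧸ (Ideal.ofList (fs.take i) • (⊤ : Submodule B M)))) := by
  obtain ⟨i, hi⟩ := i
  simp only [List.get_eq_getElem]
  haveI := hflat i hi.le
  refine ⟨?_, inferInstance⟩
  set f := fs[i] with hf
  let P : Submodule B M := Ideal.ofList (fs.take i) • ⊤
  let P' : Submodule B M := Ideal.ofList (fs.take (i + 1)) • ⊤
  have heq : P' = P ⊔ f • ⊤ := by
    show Ideal.ofList (fs.take (i + 1)) • (⊤ : Submodule B M) = _
    rw [List.take_succ_eq_append_getElem hi, Ideal.ofList_append, Ideal.ofList_singleton, Submodule.sup_smul,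
      Submodule.ideal_span_singleton_smul]
  let u : (M ⧸ P) →ₗ[A] M ⧸ P := ((LinearMap.lsmul B (M ⧸ P)) f).restrictScalars A
  let g : (M ⧸ P) →ₗ[A] M ⧸ P' :=
    (Submodule.mapQ P P' LinearMap.id (fun x hx => by rw [Submodule.mem_comap, heq]; exact Submodule.mem_sup_left hx)).restrictScalars A
  have hu : Function.Injective u :=
    (RingTheory.Sequence.IsWeaklyRegular.regular_mod_prev hreg i hi)
  haveI : Module.Flat A (M ⧸ P') := hflat (i + 1) hi
  refine (FlatCrit.TorZero.of_flat (M := A') (Q := M ⧸ P')).lTensor_injective hu (g := g) ?_ ?_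
  · intro z
    obtain ⟨x, rfl⟩ := Submodule.Quotient.mk_surjective _ z
    change Submodule.Quotient.mk x = 0 ↔ _
    rw [Submodule.Quotient.mk_eq_zero, heq, Submodule.mem_sup]
    constructor
    · rintro ⟨p, hp, q, hq, rfl⟩
      obtain ⟨y, -, rfl⟩ := (Submodule.mem_smul_pointwise_iff_exists _ _ _).1 hq
      refine ⟨Submodule.Quotient.mk y, (Submodule.Quotient.eq P).2 ?_⟩
      show f • y - (p + f • y) ∈ P
      rw [sub_add_cancel_right]
      exact neg_mem hp
    · rintro ⟨w, hw⟩
      obtain ⟨y, rfl⟩ := Submodule.Quotient.mk_surjective _ w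
      have := (Submodule.Quotient.eq P).1 hw
      exact ⟨x - f • y, by simpa using neg_mem this, f • y, (Submodule.mem_smul_pointwise_iff_exists _ _ _).2 ⟨y, trivial, rfl⟩, sub_add_cancel _ _⟩
  · intro z
    obtain ⟨x, rfl⟩ := Submodule.Quotient.mk_surjective _ z
    exact ⟨Submodule.Quotient.mk x, rfl⟩

end Groth.Agent.S5806
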