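import Groth.Statements.S5807
import Mathlib
import Groth.Agent.SymGr.RegLoc

set_option autoImplicit false
universe u
open EGA41

namespace Groth.Agent.S5807

/-- Let A be a Noetherian ring which is a quotient of a regular ring B, and C an A-algebra of finite
type. Then every ring of fractions of C is a quotient of a regular ring. -/
theorem result (B A C : Type u) [CommRing B]
    [IsRegularRing B] [CommRing A] (π : B →+* A) (hπ : Function.Surjective π) [CommRing C] [Algebra A C]
    [Algebra.FiniteType A C] (S : Submonoid C) :
    ∃ (R : Type u) (_ : CommRing R) (_ : IsRegularRing R) (f : R →+* Localization S),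
      Function.Surjective f := by
  obtain ⟨n, f, hf⟩ := Algebra.FiniteType.iff_quotient_mvPolynomial''.mp ‹Algebra.FiniteType A C›
  let φ : MvPolynomial (Fin n) B →+* C := f.toRingHom.comp (MvPolynomial.map π)
  have hφ : Function.Surjective φ := hf.comp (MvPolynomial.map_surjective _ hπ)
  let T := S.comap φ
  let R := Localization T
  refine ⟨R, inferInstance, Groth.Agent.SymGr.isRegularRing_of_isLocalization (R := MvPolynomial (Fin n) B) T,
    IsLocalization.map (T := S) (Localization S) φ (fun x hx => hx), fun z => ?_⟩
  obtain ⟨c, s, rfl⟩ := IsLocalization.exists_mk'_eq S z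
  obtain ⟨p, rfl⟩ := hφ c
  obtain ⟨t, ht⟩ := hφ s
  refine ⟨IsLocalization.mk' R p (⟨t, show φ t ∈ S from ht.symm ▸ s.2⟩ : T), ?_⟩
  rw [IsLocalization.map_mk']
  congr 1
  exact Subtype.ext ht

end Groth.Agent.S5807
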