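import Groth.Statements.S5808
import Mathlib
import Groth.Agent.CMAux.SemiLocalDim
import Groth.Agent.S5767
import Groth.Agent.S5768

set_option autoImplicit false
universe u
open EGA41

namespace Groth.Agent.S5808

open scoped Pointwise

/-- Let A be a semi-local Noetherian ring with spectrum X and Jacobson radical r, and a an ideal of A
distinct from A with codim(V(a), X) = h > 0 (h is the height of a). Then there exist h elements x_1,
..., x_h of a which are part of a system of parameters of A (so lie in r and can be completed by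
elements of r to dim(A) elements generating an ideal modulo which A has finite length) and such that
codim(V(a), V(x_1 A + ... + x_h A)) = 0, i.e. the image of a in A/(x_1 A + ... + x_h A) has height
0. -/
theorem result (A : Type u) [CommRing A] [IsNoetherianRing A]
    [Finite (MaximalSpectrum A)] (a : Ideal A) (ha : a ≠ ⊤) (h : ℕ) (hh : a.height = h) (hpos : 0 < h) :
    ∃ x : Fin h → A, (∀ i, x i ∈ a) ∧ (∀ i, x i ∈ Ring.jacobson A) ∧
      (∃ ys : List A, (∀ y ∈ ys, y ∈ Ring.jacobson A) ∧
        (((h + ys.length : ℕ) : ℕ∞) : WithBot ℕ∞) = ringKrullDim A ∧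
        IsFiniteLength A (A ⧸ (Ideal.span (Set.range x) ⊔ Ideal.ofList ys))) ∧
      (a.map (Ideal.Quotient.mk (Ideal.span (Set.range x)))).height = 0 := by
  classical
  obtain ⟨p, hp, hap, hpht⟩ := Ideal.exists_isPrime_height_eq hh
  have hdimA : ((h : ℕ∞) : WithBot ℕ∞) ≤ ringKrullDim A := by
    rw [← hpht]; exact Ideal.height_le_ringKrullDim_of_isPrime
  haveI : Nontrivial A := ⟨0, 1, fun h01 => ha ((Ideal.eq_top_iff_one a).mpr (h01 ▸ a.zero_mem))⟩
  let r := Ring.jacobson A
  have key : ∀ i : ℕ, i ≤ h → ∃ xs : List A, xs.length = i ∧ (∀ x ∈ xs, x ∈ a ⊓ r) ∧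
      Module.supportDim A (A ⧸ (Ideal.ofList xs • (⊤ : Submodule A A))) + i = Module.supportDim A A ∧
      (∀ q : Ideal A, q.IsPrime → Ideal.ofList xs ≤ q → q ≤ p → (i : ℕ∞) ≤ q.height) := by
    intro i
    induction i with
    | zero =>
      intro _
      refine ⟨[], rfl, by simp, ?_, fun q _ _ _ => bot_le⟩
      rw [Module.supportDim_eq_of_equiv (Submodule.quotEquivOfEqBot (Ideal.ofList ([] : List A) • (⊤ : Submodule A A))
        (by rw [Ideal.ofList_nil, Submodule.bot_smul]))]
      simp
    | succ i ih =>
      intro hi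
      obtain ⟨xs, hl, hxs, hdim, hht⟩ := ih (Nat.le_of_succ_le hi)
      set J := Ideal.ofList xs with hJ
      have hJ' : (J • (⊤ : Submodule A A)) = J := by rw [smul_eq_mul, Ideal.mul_top]
      have hfin : {x | x ∈ xs}.Finite := xs.finite_toSet
      have hcard : ∀ q ∈ J.minimalPrimes, q.height ≤ (i : ℕ∞) := fun q hq => by
        refine (Ideal.height_le_card_of_mem_minimalPrimes_span hfin hq).trans ?_
        rw [← hl]
        have : {x | x ∈ xs} = (xs.toFinset : Set A) := by ext; simp
        rw [this, Set.ncard_coe_finset]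
        exact_mod_cast xs.toFinset_card_le
      let bad : Finset (Ideal A) := (J.finite_minimalPrimes_of_isNoetherianRing A).toFinset.filter (fun q => ¬ a ⊓ r ≤ q)
      obtain ⟨x, hx, hxq⟩ : ∃ x ∈ a ⊓ r, ∀ q ∈ bad, x ∉ q := by
        by_contra! hc
        have : ((a ⊓ r : Ideal A) : Set A) ⊆ ⋃ q ∈ (bad : Set (Ideal A)), (id q : Ideal A) := fun x hx => by
          obtain ⟨q, hq, hxq⟩ := hc x hx
          exact Set.mem_biUnion hq hxq
        obtain ⟨q, hq, hle⟩ := (Ideal.subset_union_prime ⊥ ⊥ fun q hq _ _ =>
          ((Set.Finite.mem_toFinset _).mp (Finset.mem_filter.mp hq).1).1.1).mp this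
        exact (Finset.mem_filter.mp hq).2 hle
      have havoid : ∀ q ∈ J.minimalPrimes, ¬ a ⊓ r ≤ q → x ∉ q := fun q hq hle =>
        hxq q (Finset.mem_filter.mpr ⟨(Set.Finite.mem_toFinset _).mpr hq, hle⟩)
      refine ⟨xs ++ [x], by simp [hl], ?_, ?_, ?_⟩
      · intro y hy
        rcases List.mem_append.mp hy with hy | hy
        · exact hxs y hy
        · rwa [List.mem_singleton.mp hy]
      · rw [← Module.supportDim_eq_of_equiv (Groth.Agent.CMAux.SemiLocalDim.quotAppend (M := A) xs [x])]
        rw [Module.supportDim_eq_of_equiv (Submodule.quotEquivOfEq _ _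
          (show Ideal.ofList [x] • (⊤ : Submodule A (A ⧸ (J • (⊤ : Submodule A A)))) = x • ⊤ by
            rw [Ideal.ofList_singleton, Submodule.ideal_span_singleton_smul]))]
        rw [← hdim, Nat.cast_succ, add_comm (i : WithBot ℕ∞) 1, ← add_assoc]
        congr 1
        refine (Groth.Agent.S5767.result A _ x hx.2).mpr fun q hq htop hxq' => ?_
        rw [hJ', Module.supportDim_quotient_eq_ringKrullDim] at hdim
        rw [hJ', Module.supportDim_quotient_eq_ringKrullDim] at htop
        have hJq : J ≤ q.asIdeal := by
          rw [hJ', Module.support_eq_zeroLocus, Ideal.annihilator_quotient] at hq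
          exact hq
        obtain ⟨q', hq', hq'q⟩ := Ideal.exists_minimalPrimes_le hJq
        have hq'p := hq'.1.1
        have hdimA' : Module.supportDim A A = ringKrullDim A := Module.supportDim_self_eq_ringKrullDim A
        obtain ⟨d, hd⟩ := Groth.Agent.CMAux.SemiLocalDim.exists_nat_supportDim (A := A) (M := A)
        obtain ⟨e, he⟩ : ∃ e : ℕ, ringKrullDim (A ⧸ q.asIdeal) = e := by
          rw [htop]
          obtain ⟨e, he⟩ := WithBot.ne_bot_iff_exists.mp (show ringKrullDim (A ⧸ J) ≠ ⊥ from fun hb => by
            rw [hb, WithBot.bot_add, hd] at hdim; exact WithBot.natCast_ne_bot d hdim.symm)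
          rw [← he, hd] at hdim
          have h3 : e + i = (d : ℕ∞) := by exact_mod_cast hdim
          lift e to ℕ using (fun ht => by simp [ht] at h3)
          exact ⟨e, he.symm⟩
        have hqeq : q' = q.asIdeal := by
          by_contra hne
          have hlt : (⟨q', hq'p⟩ : PrimeSpectrum A) < q := lt_of_le_of_ne hq'q fun hh' => hne (congrArg PrimeSpectrum.asIdeal hh')
          have h1 : ringKrullDim (A ⧸ q.asIdeal) + 1 ≤ ringKrullDim (A ⧸ J) := by
            rw [ringKrullDim_quotient, ringKrullDim_quotient]
            haveI : Nonempty (PrimeSpectrum.zeroLocus (q.asIdeal : Set A)) := ⟨⟨q, fun _ hh => hh⟩⟩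
            obtain ⟨l, hl'⟩ : ∃ l : LTSeries (PrimeSpectrum.zeroLocus (q.asIdeal : Set A)), l.length = e :=
              Order.le_krullDim_iff.mp (by rw [← ringKrullDim_quotient, he])
            rw [← ringKrullDim_quotient, he]
            let l' : LTSeries (PrimeSpectrum.zeroLocus (J : Set A)) :=
              RelSeries.cons (LTSeries.mk l.length (fun k => (⟨(l k).1, hJq.trans (l k).2⟩ : PrimeSpectrum.zeroLocus (J : Set A)))
                fun k m hkm => show (l k).1 < (l m).1 from l.strictMono hkm) ⟨⟨q', hq'p⟩, hq'.1.2⟩
                (show (⟨q', hq'p⟩ : PrimeSpectrum A) < (l 0).1 from lt_of_lt_of_le hlt (show q ≤ (l 0).1 from (l 0).2))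
            have := Order.LTSeries.length_le_krullDim l'
            rw [← hl']
            simpa [l'] using this
          rw [← htop, he] at h1
          have : e + 1 ≤ e := by exact_mod_cast h1
          omega
        subst hqeq
        refine havoid _ hq' (fun hle => ?_) hxq'
        rcases q.isPrime.mul_le.mp (Ideal.mul_le_inf.trans hle) with hle | hle
        · have h1 := (Ideal.height_mono hle).trans (hcard _ hq')
          rw [hh] at h1
          have : h ≤ i := by exact_mod_cast h1
          omega
        · have hmax : q.asIdeal.IsMaximal := by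
            haveI := Groth.Agent.HilbSam.isArtinianRing_quotient_jacobson (A := A)
            exact Groth.Agent.HilbSam.isMaximal_of_le (I := Ring.jacobson A) hle
          letI := Ideal.Quotient.field q.asIdeal
          have h0 : ringKrullDim (A ⧸ q.asIdeal) = 0 := ringKrullDim_eq_zero_of_field _
          rw [← htop, h0, zero_add, hdimA'] at hdim
          rw [← hdim] at hdimA
          have : h ≤ i := by exact_mod_cast hdimA
          omega
      · intro q hq hle hqp
        have hJq : J ≤ q := (le_sup_left.trans_eq (Ideal.ofList_append xs [x]).symm).trans hle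
        have hxq' : x ∈ q := hle (Ideal.subset_span (by simp))
        obtain ⟨q', hq', hq'q⟩ := Ideal.exists_minimalPrimes_le hJq
        have := hq'.1.1
        have h1 := hht q' this hq'.1.2 (hq'q.trans hqp)
        rcases hq'q.lt_or_eq with hlt | rfl
        · push_cast
          exact le_trans (add_le_add h1 le_rfl) (Ideal.height_add_one_le_of_lt_of_isPrime hlt)
        · exfalso
          have h2 := hcard _ hq'
          refine havoid _ hq' (fun hle' => ?_) hxq'
          rcases hq.mul_le.mp (Ideal.mul_le_inf.trans hle') with hle' | hle'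
          · have h3 := (Ideal.height_mono hle').trans h2
            rw [hh] at h3
            have : h ≤ i := by exact_mod_cast h3
            omega
          · have hmax : q'.IsMaximal := by
              haveI := Groth.Agent.HilbSam.isArtinianRing_quotient_jacobson (A := A)
              exact Groth.Agent.HilbSam.isMaximal_of_le (I := Ring.jacobson A) hle'
            have := hmax.eq_of_le hp.ne_top hqp
            rw [this, hpht] at h2
            have : h ≤ i := by exact_mod_cast h2
            omega
  obtain ⟨xs, hl, hxs, hdim, hht⟩ := key h le_rfl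
  obtain ⟨ys, hys, hlen, hfin⟩ := (Groth.Agent.S5768.result A A xs fun x hx => (hxs x hx).2).mp (by rw [hl]; exact hdim)
  subst hl
  have he : Ideal.ofList xs = Ideal.span (Set.range xs.get) := by
    unfold Ideal.ofList; congr 1; ext; simp [List.mem_iff_get]
  refine ⟨xs.get, fun i => (hxs _ (List.get_mem _ _)).1, fun i => (hxs _ (List.get_mem _ _)).2, ⟨ys, hys, ?_, ?_⟩, ?_⟩
  · rw [← Module.supportDim_self_eq_ringKrullDim A, ← hlen, List.length_append]; rfl
  · have e1 : Ideal.ofList (xs ++ ys) • (⊤ : Submodule A A) = Ideal.span (Set.range xs.get) ⊔ Ideal.ofList ys := by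
      rw [smul_eq_mul, Ideal.mul_top, Ideal.ofList_append, he]
    exact (Submodule.quotEquivOfEq _ _ e1).isFiniteLength hfin
  · set J := Ideal.span (Set.range xs.get) with hJ
    have hJp : J ≤ p := by
      rw [hJ, Ideal.span_le]; rintro _ ⟨i, rfl⟩; exact hap (hxs _ (List.get_mem _ _)).1
    haveI : (p.map (Ideal.Quotient.mk J)).IsPrime := Ideal.map_isPrime_of_surjective Ideal.Quotient.mk_surjective (by rwa [Ideal.mk_ker])
    refine le_antisymm ((Ideal.height_mono (Ideal.map_mono hap)).trans (le_of_eq ?_)) bot_le
    rw [Ideal.height_eq_zero_iff]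
    refine ⟨⟨inferInstance, bot_le⟩, fun q hq hqle => ?_⟩
    have := hq.1
    have hc : q.comap (Ideal.Quotient.mk J) ≤ p := by
      refine (Ideal.comap_mono hqle).trans (le_of_eq ?_)
      rw [Ideal.comap_map_of_surjective _ Ideal.Quotient.mk_surjective, ← RingHom.ker_eq_comap_bot, Ideal.mk_ker, sup_eq_left.mpr hJp]
    have hJc : J ≤ q.comap (Ideal.Quotient.mk J) := fun z hz => by
      rw [Ideal.mem_comap, Ideal.Quotient.eq_zero_iff_mem.mpr hz]; exact zero_mem _
    have hht' := hht _ inferInstance (he.le.trans hJc) hc
    rw [← hpht] at hht'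
    have heq : q.comap (Ideal.Quotient.mk J) = p := Ideal.eq_of_le_of_height_le (h := hc) (h_height := hht')
    rw [← heq, Ideal.map_comap_of_surjective _ Ideal.Quotient.mk_surjective]

end Groth.Agent.S5808
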