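import Groth.Statements.S5810
import Mathlib
import Groth.Agent.CMAux.FlatDepth
import Groth.Agent.AdicNoeth.Basic

set_option autoImplicit false
universe u
open EGA41

namespace Groth.Agent.S5810

/-- Let A be a Noetherian local ring with maximal ideal m and M a finitely generated A-module; write Â
and M̂ for the m-adic completions. Then prof_A(M) = prof_Â(M̂). -/
theorem result (A : Type u) [CommRing A] [IsLocalRing A] [IsNoetherianRing A] (M : Type u)
    [AddCommGroup M] [Module A M] [Module.Finite A M] :
    LocCoh.depth (AdicCompletion (IsLocalRing.maximalIdeal A) A) (AdicCompletion (IsLocalRing.maximalIdeal A) M) =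
      LocCoh.depth A M := by
  let m := IsLocalRing.maximalIdeal A
  let B := AdicCompletion m A
  haveI : IsNoetherianRing B := AdicNoeth.isNoetherianRing_adicCompletion _
  haveI : IsLocalHom (algebraMap A B) := inferInstance
  haveI : Module.FaithfullyFlat A B := Module.FaithfullyFlat.of_flat_of_isLocalHom
  rw [← Depth.depth_congr (AdicCompletion.ofTensorProductEquivOfFiniteNoetherian m M)]
  exact CMAux.depth_baseChange_eq A B AdicCompletion.maximalIdeal_eq_map.symm M

end Groth.Agent.S5810
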