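import Groth.Statements.S5831
import Mathlib

set_option autoImplicit false
universe u
open EGA41

namespace Groth.Agent.S5831

/-- Discrete case. Let B be an A-algebra which is a projective A-module (A and B in one universe). If
for every B-module L in that universe every A-bilinear symmetric Hochschild 2-cocycle B × B → L is a
coboundary, then B is formally smooth over A. (The published statement assumes B formally projective
as a topological A-module; for discrete rings this is projectivity.) -/
theorem result {A B : Type u} [CommRing A]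
    [CommRing B] [Algebra A B] [Module.Projective A B]
    (h : ∀ (L : Type u) [AddCommGroup L] [Module B L] [Module A L] [IsScalarTower A B L]
      (f : B →ₗ[A] B →ₗ[A] L), (∀ x y : B, f x y = f y x) →
        (∀ x y z : B, f (x * y) z + z • f x y = x • f y z + f x (y * z)) →
          ∃ g : B →ₗ[A] L, ∀ x y : B, f x y = x • g y - g (x * y) + y • g x) :
    Algebra.FormallySmooth A B := by
  classical
  refine Algebra.FormallySmooth.of_comp_surjective fun C _ _ J hJ ψ => ?_
  obtain ⟨l, hl⟩ := Module.projective_lifting_property (Ideal.Quotient.mkₐ A J).toLinearMap ψ.toLinearMap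
    Ideal.Quotient.mk_surjective
  have hlm : ∀ x, Ideal.Quotient.mk J (l x) = ψ x := fun x => LinearMap.congr_fun hl x
  letI : Module (C ⧸ J) J := Module.IsTorsionBySet.module (I := J) (fun {x} r => Subtype.ext (by
    have : (r : C) * (x : C) ∈ (⊥ : Ideal C) := hJ ▸ (sq J).symm ▸ Ideal.mul_mem_mul r.2 x.2
    simpa using this))
  letI : Module B J := Module.compHom J ψ.toRingHom
  have hsmul : ∀ (b : B) (j : J), ((b • j : J) : C) = l b * (j : C) := fun b j => by
    show ((ψ b • j : J) : C) = _
    rw [← hlm]
    rfl
  haveI : IsScalarTower A B J := IsScalarTower.of_algebraMap_smul fun a j => Subtype.ext (by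
    show ((ψ (algebraMap A B a) • j : J) : C) = _
    rw [ψ.commutes, ← Ideal.Quotient.mk_algebraMap]
    show algebraMap A C a * (j : C) = _
    rw [← Algebra.smul_def]
    rfl)
  have hmem : ∀ x y, l (x * y) - l x * l y ∈ J := fun x y => by
    rw [← Ideal.Quotient.eq_zero_iff_mem, map_sub, map_mul (Ideal.Quotient.mk J), hlm, hlm, hlm, map_mul ψ, sub_self]
  let f : B →ₗ[A] B →ₗ[A] J := LinearMap.mk₂ A (fun x y => ⟨_, hmem x y⟩)
    (fun x y z => Subtype.ext (by
      show _ = (l (x * z) - l x * l z) + (l (y * z) - l y * l z)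
      simp only [add_mul, map_add]; ring))
    (fun a x y => Subtype.ext (by
      show _ = a • (l (x * y) - l x * l y)
      simp only [smul_mul_assoc, map_smul, smul_sub]))
    (fun x y z => Subtype.ext (by
      show _ = (l (x * y) - l x * l y) + (l (x * z) - l x * l z)
      simp only [mul_add, map_add]; ring))
    (fun a x y => Subtype.ext (by
      show _ = a • (l (x * y) - l x * l y)
      simp only [mul_smul_comm, map_smul, smul_sub]))
  have hf : ∀ x y, ((f x y : J) : C) = l (x * y) - l x * l y := fun x y => rfl
  obtain ⟨g, hg⟩ := h J f (fun x y => Subtype.ext (by rw [hf, hf, mul_comm x y, mul_comm (l x)]))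
    (fun x y z => Subtype.ext (by
      simp only [Submodule.coe_add, hsmul, hf, mul_assoc x y z]
      ring))
  let φ : B →ₗ[A] C := l + (J.subtype.restrictScalars A).comp g
  have hφ : ∀ x, φ x = l x + (g x : C) := fun x => rfl
  have hgg : ∀ x y, (g x : C) * (g y : C) = 0 := fun x y => by
    have : (g x : C) * (g y : C) ∈ (⊥ : Ideal C) := hJ ▸ (sq J).symm ▸ Ideal.mul_mem_mul (g x).2 (g y).2
    simpa using this
  have hmul : ∀ x y, φ (x * y) = φ x * φ y := fun x y => by
    have h1 := congrArg Subtype.val (hg x y)
    simp only [hf, Submodule.coe_add, Submodule.coe_sub, hsmul] at h1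
    rw [hφ, hφ, hφ]
    linear_combination h1 - hgg x y
  have hφm : ∀ x, Ideal.Quotient.mk J (φ x) = ψ x := fun x => by
    rw [hφ, map_add, Ideal.Quotient.eq_zero_iff_mem.2 (g x).2, add_zero, hlm]
  have hu : IsUnit (φ 1) := by
    have hn : IsNilpotent (φ 1 - 1) := ⟨2, by
      have : (φ 1 - 1) ^ 2 ∈ (⊥ : Ideal C) := hJ ▸ Ideal.pow_mem_pow (by
        rw [← Ideal.Quotient.eq_zero_iff_mem, map_sub, hφm, map_one, map_one, sub_self]) 2
      simpa using this⟩
    simpa using hn.isUnit_one_add
  have h1 : φ 1 = 1 := hu.mul_left_cancel (by rw [← hmul, mul_one, mul_one])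
  exact ⟨AlgHom.ofLinearMap φ h1 hmul, AlgHom.ext hφm⟩

end Groth.Agent.S5831
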