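import Groth.Statements.S5835
import Groth.Agent.PBasis.Derivations

set_option autoImplicit false
universe v w
open scoped TensorProduct
open EGA41

namespace Groth.Agent.S5835

/-- For fields k₀ ⊆ k ⊆ K ⊆ L, the map of imperfection modules Υ_{L/K/k₀} → Υ_{L/K/k} induced by
Ω_{K/k₀} → Ω_{K/k} is injective (k is k₀-admissible for the extension L of K) in each of the
following cases: L is separable over k; L is separable over K; k lies in k₀(K^p), p the
characteristic exponent. Separable means geometrically reduced (not necessarily algebraic). -/
theorem result {k : Type v} {k₀ K L : Type w}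
    [Field k₀] [Field k] [Field K] [Field L] [Algebra k₀ k] [Algebra k₀ K] [Algebra k₀ L] [Algebra k K]
    [Algebra k L] [Algebra K L] [IsScalarTower k₀ k K] [IsScalarTower k₀ k L] [IsScalarTower k₀ K L]
    [IsScalarTower k K L] (p : ℕ) [ExpChar K p]
    (h : Algebra.IsGeometricallyReduced k L ∨ Algebra.IsGeometricallyReduced K L ∨
      ∀ x : k, algebraMap k K x ∈ EGA41.pPowerSubalgebra p k₀ K) :
    ∀ z : L ⊗[K] Ω[K⁄k₀], z ∈ EGA41.imperfection k₀ K L →
      (KaehlerDifferential.map k₀ k K K).baseChange L z = 0 → z = 0 := by
  intro z hz h0
  have hfin : Algebra.IsGeometricallyReduced k L → z = 0 := fun hkL => by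
    haveI := hkL
    haveI := Groth.Agent.PBasis.formallySmooth_of_isGeometricallyReduced' (k := k) (L := L)
    have hex : Function.Exact (KaehlerDifferential.mapBaseChange k₀ k K)
        (KaehlerDifferential.map k₀ k K K) := KaehlerDifferential.exact_mapBaseChange_map k₀ k K
    have hex' := lTensor_exact L (f := KaehlerDifferential.mapBaseChange k₀ k K)
      (g := KaehlerDifferential.map k₀ k K K) hex
      (KaehlerDifferential.map_surjective_of_surjective k₀ k K K Function.surjective_id)
    obtain ⟨w, rfl⟩ := (hex' z).1 h0
    have hcomm : ∀ w, KaehlerDifferential.mapBaseChange k₀ K L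
        ((KaehlerDifferential.mapBaseChange k₀ k K).lTensor L w) =
        KaehlerDifferential.mapBaseChange k₀ k L
          (TensorProduct.AlgebraTensorModule.cancelBaseChange k K L L (Ω[k⁄k₀]) w) := fun w => by
      induction w using TensorProduct.induction_on with
      | zero => simp
      | add u v hu hv => simp [hu, hv]
      | tmul l y =>
        induction y using TensorProduct.induction_on with
        | zero => simp
        | add u v hu hv => simp only [TensorProduct.tmul_add, map_add, hu, hv]
        | tmul c ω =>
          rw [TensorProduct.AlgebraTensorModule.cancelBaseChange_tmul, LinearMap.lTensor_tmul,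
            KaehlerDifferential.mapBaseChange_tmul, KaehlerDifferential.mapBaseChange_tmul,
            KaehlerDifferential.mapBaseChange_tmul, map_smul, Algebra.smul_def c l,
            ← algebraMap_smul L c (KaehlerDifferential.map k₀ k₀ K L _), smul_smul, mul_comm]
          congr 1
          have hω : ω ∈ Submodule.span k (Set.range (KaehlerDifferential.D k₀ k)) := by
            rw [KaehlerDifferential.span_range_derivation]; trivial
          induction hω using Submodule.span_induction with
          | mem _ h =>
            obtain ⟨a, rfl⟩ := h
            simp only [KaehlerDifferential.map_D, ← IsScalarTower.algebraMap_apply]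
          | zero => simp
          | add _ _ _ _ h1 h2 => simp [h1, h2]
          | smul a η _ h =>
            simp only [map_smul, LinearMap.map_smul_of_tower, h]
    have hz' : KaehlerDifferential.mapBaseChange k₀ K L
        ((KaehlerDifferential.mapBaseChange k₀ k K).lTensor L w) = 0 := hz
    rw [hcomm] at hz'
    have := (TensorProduct.AlgebraTensorModule.cancelBaseChange k K L L (Ω[k⁄k₀])).injective
      ((Groth.Agent.PBasis.injective_mapBaseChange_of_formallySmooth (R := k₀) (S := k) (T := L))
        (hz'.trans (map_zero _).symm) |>.trans (map_zero _).symm)
    rw [this, map_zero]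
  rcases h with h | h | h
  · exact hfin h
  · haveI := h
    exact Groth.Agent.PBasis.injective_mapBaseChange_of_isGeometricallyReduced (R := k₀) (k := K) (K := L)
      ((LinearMap.mem_ker.1 hz).trans (map_zero _).symm)
  · cases ‹ExpChar K p› with
    | zero =>
      haveI : CharZero k := (algebraMap k K).charZero
      exact hfin (by
        rw [Algebra.isGeometricallyReduced_field_iff]
        exact Groth.Agent.GeomRed.isReduced_baseChange_algebraic L (AlgebraicClosure k))
    | prime hp =>
      haveI : Fact p.Prime := ⟨hp⟩
      have hD : ∀ b ∈ EGA41.pPowerSubalgebra p k₀ K, KaehlerDifferential.D k₀ K b = 0 :=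
          fun b hb => by
        induction hb using Algebra.adjoin_induction with
        | mem _ hb =>
          obtain ⟨c, rfl⟩ := hb
          rw [Derivation.leibniz_pow, ← Nat.cast_smul_eq_nsmul K, CharP.cast_eq_zero, zero_smul]
        | algebraMap a => simp
        | add _ _ _ _ h1 h2 => simp [h1, h2]
        | mul _ _ _ _ h1 h2 => simp [h1, h2]
      let d : Derivation k K (Ω[K⁄k₀]) := Derivation.mk'
        { toFun := fun b => KaehlerDifferential.D k₀ K b
          map_add' := fun a b => by simp
          map_smul' := fun a b => by
            show KaehlerDifferential.D k₀ K (a • b) = a • KaehlerDifferential.D k₀ K b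
            rw [Algebra.smul_def, Derivation.leibniz, hD _ (h a), smul_zero, add_zero, algebraMap_smul] }
        (fun a b => by simp)
      have h1 : d.liftKaehlerDifferential ∘ₗ KaehlerDifferential.map k₀ k K K = LinearMap.id := by
        refine LinearMap.ext_on_range (KaehlerDifferential.span_range_derivation k₀ K) fun b => ?_
        rw [LinearMap.comp_apply, KaehlerDifferential.map_D, Algebra.algebraMap_self, RingHom.id_apply,
          Derivation.liftKaehlerDifferential_comp_D]
        rfl
      have := congrArg (d.liftKaehlerDifferential.baseChange L) h0
      rw [map_zero, ← LinearMap.comp_apply, ← LinearMap.baseChange_comp, h1, LinearMap.baseChange_id,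
        LinearMap.id_apply] at this
      exact this

end Groth.Agent.S5835
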