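import Groth.Statements.S5836
import Mathlib

set_option autoImplicit false
universe u u' u'' w
open scoped TensorProduct
open EGA41

namespace Groth.Agent.S5836

theorem naturality {R : Type*} {R' : Type*} {B C : Type w} [CommRing R] [CommRing R'] [CommRing B] [CommRing C]
    [Algebra R R'] [Algebra R B] [Algebra R' B] [IsScalarTower R R' B] [Algebra B C] [Algebra R C] [Algebra R' C]
    [IsScalarTower R B C] [IsScalarTower R' B C] [IsScalarTower R R' C] (z : C ⊗[B] Ω[B⁄R]) :
    KaehlerDifferential.mapBaseChange R' B C ((KaehlerDifferential.map R R' B B).baseChange C z) =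
      KaehlerDifferential.map R R' C C (KaehlerDifferential.mapBaseChange R B C z) := by
  induction z using TensorProduct.induction_on with
  | zero => simp
  | tmul c ω =>
    rw [LinearMap.baseChange_tmul, KaehlerDifferential.mapBaseChange_tmul, KaehlerDifferential.mapBaseChange_tmul, map_smul]
    congr 1
    have h : (KaehlerDifferential.map R' R' B C).comp (KaehlerDifferential.map R R' B B) =
        ((KaehlerDifferential.map R R' C C).restrictScalars B).comp (KaehlerDifferential.map R R B C) := by
      refine LinearMap.ext_on_range (KaehlerDifferential.span_range_derivation R B) fun b => ?_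
      simp
    exact LinearMap.congr_fun h ω
  | add a b ha hb => simp [ha, hb]

theorem map_comp_map {R : Type*} {R' : Type*} {R'' : Type*} {B : Type w} [CommRing R] [CommRing R'] [CommRing R'']
    [CommRing B] [Algebra R R'] [Algebra R R''] [Algebra R' R''] [Algebra R B] [Algebra R' B] [Algebra R'' B]
    [IsScalarTower R R' B] [IsScalarTower R R'' B] [IsScalarTower R' R'' B] :
    (KaehlerDifferential.map R' R'' B B).comp (KaehlerDifferential.map R R' B B) = KaehlerDifferential.map R R'' B B := by
  refine LinearMap.ext_on_range (KaehlerDifferential.span_range_derivation R B) fun b => ?_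
  simp

theorem rank_aux {F' : Type w} [Field F'] {V W : Type w} [AddCommGroup V] [Module F' V] [AddCommGroup W] [Module F' W]
    (F : V →ₗ[F'] W) (S : Submodule F' V) (T : Submodule F' W) (hF : ∀ x ∈ S, F x ∈ T)
    (hsurj : ∀ y ∈ T, ∃ x ∈ S, F x = y) :
    Module.rank F' ↥S = Module.rank F' ↥T + Module.rank F' ↥(S ⊓ LinearMap.ker F) := by
  let f : S →ₗ[F'] T := (F.domRestrict S).codRestrict T fun t => hF t t.2
  have hf : Function.Surjective f := fun y => by
    obtain ⟨x, hx, hxy⟩ := hsurj y y.2
    exact ⟨⟨x, hx⟩, Subtype.ext hxy⟩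
  have hk : LinearMap.ker f = (S ⊓ LinearMap.ker F).comap S.subtype := by
    ext t
    simp only [LinearMap.mem_ker, Submodule.mem_comap, Submodule.subtype_apply, Submodule.mem_inf]
    exact ⟨fun h => ⟨t.2, congrArg Subtype.val h⟩, fun h => Subtype.ext h.2⟩
  have h := LinearMap.rank_range_add_rank_ker f
  rw [LinearMap.range_eq_top.2 hf, rank_top, hk, (Submodule.comapSubtypeEquivOfLe inf_le_left).rank_eq] at h
  exact h.symm

/-- For fields k ⊆ k' ⊆ k'' ⊆ K ⊆ L put Δ(L/K, a/b) = ker(Υ_{L/K/b} → Υ_{L/K/a}) ⊆ L ⊗_K Ω_{K/b}. Then 0
→ Δ(L/K, k'/k) → Δ(L/K, k''/k) → Δ(L/K, k''/k') → 0 is exact: stated as the surjectivity of the map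
induced by L ⊗_K Ω_{K/k} → L ⊗_K Ω_{K/k'} (exactness on the left and in the middle hold by
construction), together with the resulting identity of ranks d(L/K, k''/k) = d(L/K, k''/k') + d(L/K,
k'/k). -/
theorem result {k : Type u} {k' : Type u'} {k'' : Type u''} {K L : Type w}
    [Field k] [Field k'] [Field k''] [Field K] [Field L]
    [Algebra k k'] [Algebra k k''] [Algebra k' k''] [IsScalarTower k k' k'']
    [Algebra k K] [Algebra k' K] [Algebra k'' K] [IsScalarTower k k' K] [IsScalarTower k' k'' K]
    [IsScalarTower k k'' K] [Algebra K L] [Algebra k L] [Algebra k' L] [Algebra k'' L]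
    [IsScalarTower k K L] [IsScalarTower k' K L] [IsScalarTower k'' K L] :
    (∀ w : L ⊗[K] Ω[K⁄k'], w ∈ EGA41.imperfection k' K L →
        (KaehlerDifferential.map k' k'' K K).baseChange L w = 0 →
          ∃ z : L ⊗[K] Ω[K⁄k], z ∈ EGA41.imperfection k K L ∧
            (KaehlerDifferential.map k k'' K K).baseChange L z = 0 ∧
              (KaehlerDifferential.map k k' K K).baseChange L z = w) ∧
      Module.rank L ↥(EGA41.imperfection k K L ⊓
            LinearMap.ker ((KaehlerDifferential.map k k'' K K).baseChange L)) =
        Module.rank L ↥(EGA41.imperfection k' K L ⊓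
              LinearMap.ker ((KaehlerDifferential.map k' k'' K K).baseChange L)) +
          Module.rank L ↥(EGA41.imperfection k K L ⊓
              LinearMap.ker ((KaehlerDifferential.map k k' K K).baseChange L)) := by
  classical
  haveI : IsScalarTower k k' L := IsScalarTower.of_algebraMap_eq fun r => by
    rw [IsScalarTower.algebraMap_apply k K L, IsScalarTower.algebraMap_apply k k' K, ← IsScalarTower.algebraMap_apply k' K L]
  have key : ∀ w : L ⊗[K] Ω[K⁄k'], w ∈ EGA41.imperfection k' K L →
      (KaehlerDifferential.map k' k'' K K).baseChange L w = 0 →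
        ∃ z : L ⊗[K] Ω[K⁄k], z ∈ EGA41.imperfection k K L ∧
          (KaehlerDifferential.map k k'' K K).baseChange L z = 0 ∧
            (KaehlerDifferential.map k k' K K).baseChange L z = w := by
    intro w hw hw''
    obtain ⟨z, rfl⟩ := LinearMap.lTensor_surjective L (KaehlerDifferential.map_surjective k k' K) w
    have hz' : KaehlerDifferential.map k k' L L (KaehlerDifferential.mapBaseChange k K L z) = 0 := by
      rw [← naturality]; exact hw
    obtain ⟨η, hη⟩ := (KaehlerDifferential.exact_mapBaseChange_map k k' L _).1 hz'
    let ζ0 : Ω[k'⁄k] →ₗ[k'] L ⊗[K] Ω[K⁄k] :=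
      ((TensorProduct.mk K L Ω[K⁄k] 1).restrictScalars k').comp (KaehlerDifferential.map k k k' K)
    let ζ : L ⊗[k'] Ω[k'⁄k] →ₗ[L] L ⊗[K] Ω[K⁄k] := ζ0.liftBaseChange L
    have h1 : ∀ η, KaehlerDifferential.mapBaseChange k K L (ζ η) = KaehlerDifferential.mapBaseChange k k' L η := by
      intro η
      induction η using TensorProduct.induction_on with
      | zero => simp
      | tmul c ω =>
        simp only [ζ, ζ0, LinearMap.liftBaseChange_tmul, map_smul, LinearMap.coe_comp, LinearMap.coe_restrictScalars,
          Function.comp_apply, TensorProduct.mk_apply, KaehlerDifferential.mapBaseChange_tmul, one_smul]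
        congr 1
        have h : ((KaehlerDifferential.map k k K L).restrictScalars k').comp (KaehlerDifferential.map k k k' K) = KaehlerDifferential.map k k k' L := by
          refine LinearMap.ext_on_range (KaehlerDifferential.span_range_derivation k k') fun b => ?_
          simp [← IsScalarTower.algebraMap_apply]
        exact LinearMap.congr_fun h ω
      | add a b ha hb => simp [ha, hb]
    have h2 : ∀ η, (KaehlerDifferential.map k k' K K).baseChange L (ζ η) = 0 := by
      intro η
      induction η using TensorProduct.induction_on with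
      | zero => simp
      | tmul c ω =>
        simp only [ζ, ζ0, LinearMap.liftBaseChange_tmul, map_smul, LinearMap.coe_comp, LinearMap.coe_restrictScalars,
          Function.comp_apply, TensorProduct.mk_apply, LinearMap.baseChange_tmul]
        have h : ((KaehlerDifferential.map k k' K K).restrictScalars k').comp (KaehlerDifferential.map k k k' K) = 0 := by
          refine LinearMap.ext_on_range (KaehlerDifferential.span_range_derivation k k') fun b => ?_
          simp
        rw [show KaehlerDifferential.map k k' K K (KaehlerDifferential.map k k k' K ω) = 0 from LinearMap.congr_fun h ω,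
          TensorProduct.tmul_zero, smul_zero]
      | add a b ha hb => simp [ha, hb]
    have hcomp : ∀ t, (KaehlerDifferential.map k k'' K K).baseChange L t =
        (KaehlerDifferential.map k' k'' K K).baseChange L ((KaehlerDifferential.map k k' K K).baseChange L t) := fun t => by
      rw [← LinearMap.comp_apply, ← LinearMap.baseChange_comp, map_comp_map]
    refine ⟨z - ζ η, ?_, ?_, ?_⟩
    · rw [EGA41.imperfection, LinearMap.mem_ker, map_sub, h1, hη, sub_self]
    · rw [hcomp, map_sub, h2, sub_zero]
      exact hw''
    · rw [map_sub, h2, sub_zero]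
      rfl
  refine ⟨key, ?_⟩
  let S := EGA41.imperfection k K L ⊓ LinearMap.ker ((KaehlerDifferential.map k k'' K K).baseChange L)
  let T := EGA41.imperfection k' K L ⊓ LinearMap.ker ((KaehlerDifferential.map k' k'' K K).baseChange L)
  let F := (KaehlerDifferential.map k k' K K).baseChange L
  have hcomp : ∀ t, (KaehlerDifferential.map k k'' K K).baseChange L t =
      (KaehlerDifferential.map k' k'' K K).baseChange L (F t) := fun t => by
    rw [← LinearMap.comp_apply, ← LinearMap.baseChange_comp, map_comp_map]
  have hF : ∀ t ∈ S, F t ∈ T := by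
    intro t ht
    rw [Submodule.mem_inf, LinearMap.mem_ker] at ht
    refine Submodule.mem_inf.2 ⟨?_, ?_⟩
    · rw [EGA41.imperfection, LinearMap.mem_ker, naturality, show KaehlerDifferential.mapBaseChange k K L t = 0 from ht.1, map_zero]
    · rw [LinearMap.mem_ker, ← hcomp]; exact ht.2
  have hker : S ⊓ LinearMap.ker F = EGA41.imperfection k K L ⊓ LinearMap.ker F := by
    refine le_antisymm (inf_le_inf_right _ inf_le_left) fun t ht => ?_
    rw [Submodule.mem_inf, LinearMap.mem_ker] at ht
    exact Submodule.mem_inf.2 ⟨Submodule.mem_inf.2 ⟨ht.1, by rw [LinearMap.mem_ker, hcomp, ht.2, map_zero]⟩, LinearMap.mem_ker.2 ht.2⟩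
  have h := rank_aux F S T hF fun w hw => by
    obtain ⟨z, hz1, hz2, hz3⟩ := key w (Submodule.mem_inf.1 hw).1 (Submodule.mem_inf.1 hw).2
    exact ⟨z, Submodule.mem_inf.2 ⟨hz1, hz2⟩, hz3⟩
  rw [hker] at h
  exact h

end Groth.Agent.S5836
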