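import Groth.Statements.S5837
import Mathlib

set_option autoImplicit false
universe u u' w
open scoped TensorProduct
open EGA41

namespace Groth.Agent.S5837

theorem exact_baseChange {R : Type*} {S : Type*} {V W : Type*} [CommRing R] [CommRing S] [Algebra R S] [Module.Flat R S]
    [AddCommGroup V] [Module R V] [AddCommGroup W] [Module R W] (g : V →ₗ[R] W) (P : Submodule R V)
    (hP : LinearMap.ker g = P) :
    Function.Exact (P.subtype.baseChange S) (g.baseChange S) ∧ Function.Injective (P.subtype.baseChange S) := by
  subst hP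
  rw [LinearMap.baseChange_eq_ltensor, LinearMap.baseChange_eq_ltensor]
  exact ⟨Module.Flat.lTensor_exact S g.exact_subtype_ker_map,
    Module.Flat.lTensor_preserves_injective_linearMap _ (LinearMap.ker g).injective_subtype⟩

theorem rank_baseChange_submodule {R S V : Type w} [Field R] [Field S] [Algebra R S] [AddCommGroup V] [Module R V]
    (P : Submodule R V) : Module.rank S (S ⊗[R] P) = Module.rank R P := by
  rw [Module.rank_baseChange, Cardinal.lift_id]

/-- Rank form. For fields k₀ ⊆ k ⊆ K ⊆ L ⊆ M, with Δ(F/E, k/k₀) = ker(Υ_{F/E/k₀} → Υ_{F/E/k}) and d its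
rank, one has d(M/K, k/k₀) = d(M/L, k/k₀) + d(L/K, k/k₀) (cardinal ranks; the published statement
gives the short exact sequence 0 → Δ(L/K, k/k₀) ⊗_L M → Δ(M/K, k/k₀) → Δ(M/L, k/k₀) → 0, of which
this row states the rank identity). -/
theorem result {k₀ : Type u} {k : Type u'} {K L M : Type w}
    [Field k₀] [Field k] [Field K] [Field L] [Field M] [Algebra k₀ k]
    [Algebra k₀ K] [Algebra k K] [IsScalarTower k₀ k K] [Algebra k₀ L] [Algebra k L] [IsScalarTower k₀ k L]
    [Algebra K L] [Algebra K M] [Algebra L M] [IsScalarTower K L M]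
    [Algebra k₀ M] [Algebra k M] [IsScalarTower k₀ K L] [IsScalarTower k K L]
    [IsScalarTower k₀ K M] [IsScalarTower k K M] [IsScalarTower k₀ L M] [IsScalarTower k L M] :
    Module.rank M ↥(EGA41.imperfection k₀ K M ⊓
          LinearMap.ker ((KaehlerDifferential.map k₀ k K K).baseChange M)) =
      Module.rank M ↥(EGA41.imperfection k₀ L M ⊓
            LinearMap.ker ((KaehlerDifferential.map k₀ k L L).baseChange M)) +
        Module.rank L ↥(EGA41.imperfection k₀ K L ⊓
            LinearMap.ker ((KaehlerDifferential.map k₀ k K K).baseChange L)) := by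
  classical
  let e : M ⊗[L] (L ⊗[K] Ω[K⁄k₀]) ≃ₗ[M] M ⊗[K] Ω[K⁄k₀] :=
    TensorProduct.AlgebraTensorModule.cancelBaseChange K L M M (Ω[K⁄k₀])
  let a : M ⊗[K] Ω[K⁄k₀] →ₗ[M] M ⊗[L] Ω[L⁄k₀] :=
    (KaehlerDifferential.mapBaseChange k₀ K L).baseChange M ∘ₗ e.symm.toLinearMap
  let uK := (KaehlerDifferential.map k₀ k K K).baseChange M
  let uK' := (KaehlerDifferential.map k₀ k K K).baseChange L
  let uL := (KaehlerDifferential.map k₀ k L L).baseChange M
  have he : ∀ (m : M) (w : Ω[K⁄k₀]), e.symm (m ⊗ₜ w) = m ⊗ₜ ((1 : L) ⊗ₜ w) := fun m w => rfl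
  have ha : ∀ (m : M) (x : K), a (m ⊗ₜ KaehlerDifferential.D k₀ K x) =
      m ⊗ₜ KaehlerDifferential.D k₀ L (algebraMap K L x) := fun m x => by
    simp [a, he]
  have hba : ∀ z, KaehlerDifferential.mapBaseChange k₀ L M (a z) = KaehlerDifferential.mapBaseChange k₀ K M z := by
    intro z
    induction z using TensorProduct.induction_on with
    | zero => simp only [map_zero]
    | add x y hx hy => simp only [map_add, hx, hy]
    | tmul m w =>
      have hw : w ∈ Submodule.span K (Set.range (KaehlerDifferential.D k₀ K)) := by
        rw [KaehlerDifferential.span_range_derivation]; trivial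
      induction hw using Submodule.span_induction generalizing m with
      | mem x hx =>
        obtain ⟨c, rfl⟩ := hx
        simp [ha, ← IsScalarTower.algebraMap_apply]
      | zero => simp only [TensorProduct.tmul_zero, map_zero]
      | add x y _ _ hx hy => simp only [TensorProduct.tmul_add, map_add, hx, hy]
      | smul c x _ hx => rw [← TensorProduct.smul_tmul]; exact hx _
  have hsq : ∀ z, uL (a z) = ((KaehlerDifferential.mapBaseChange k K L).baseChange M)
      ((TensorProduct.AlgebraTensorModule.cancelBaseChange K L M M (Ω[K⁄k])).symm (uK z)) := by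
    intro z
    induction z using TensorProduct.induction_on with
    | zero => simp only [map_zero]
    | add x y hx hy => simp only [map_add, hx, hy]
    | tmul m w =>
      have hw : w ∈ Submodule.span K (Set.range (KaehlerDifferential.D k₀ K)) := by
        rw [KaehlerDifferential.span_range_derivation]; trivial
      induction hw using Submodule.span_induction generalizing m with
      | mem x hx =>
        obtain ⟨c, rfl⟩ := hx
        simp [uL, uK, ha, KaehlerDifferential.map_D]
      | zero => simp only [TensorProduct.tmul_zero, map_zero]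
      | add x y _ _ hx hy => simp only [TensorProduct.tmul_add, map_add, hx, hy]
      | smul c x _ hx => rw [← TensorProduct.smul_tmul]; exact hx _
  let ΔMK := EGA41.imperfection k₀ K M ⊓ LinearMap.ker uK
  let ΔML := EGA41.imperfection k₀ L M ⊓ LinearMap.ker uL
  let ΔLK := EGA41.imperfection k₀ K L ⊓ LinearMap.ker uK'
  have hmem : ∀ z ∈ ΔMK, a z ∈ ΔML := fun z hz => ⟨(hba z).trans hz.1, by
    show uL (a z) = 0
    rw [hsq, show uK z = 0 from hz.2, map_zero, map_zero]⟩
  let f : ΔMK →ₗ[M] ΔML := a.restrict hmem
  have hlift : ∀ v : M ⊗[L] (L ⊗[k] Ω[k⁄k₀]), ∃ z, uK z = 0 ∧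
      a z = (KaehlerDifferential.mapBaseChange k₀ k L).baseChange M v := by
    intro v
    induction v using TensorProduct.induction_on with
    | zero => exact ⟨0, map_zero _, by rw [map_zero, map_zero]⟩
    | add x y hx hy =>
      obtain ⟨z, hz, hz'⟩ := hx
      obtain ⟨w, hw, hw'⟩ := hy
      exact ⟨z + w, by rw [map_add, hz, hw, add_zero], by rw [map_add, map_add, hz', hw']⟩
    | tmul m t =>
      induction t using TensorProduct.induction_on generalizing m with
      | zero => exact ⟨0, map_zero _, by simp only [TensorProduct.tmul_zero, map_zero]⟩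
      | add x y hx hy =>
        obtain ⟨z, hz, hz'⟩ := hx m
        obtain ⟨w, hw, hw'⟩ := hy m
        exact ⟨z + w, by rw [map_add, hz, hw, add_zero], by
          rw [map_add, hz', hw', TensorProduct.tmul_add, map_add]⟩
      | tmul l w =>
        have hw : w ∈ Submodule.span k (Set.range (KaehlerDifferential.D k₀ k)) := by
          rw [KaehlerDifferential.span_range_derivation]; trivial
        induction hw using Submodule.span_induction generalizing l with
        | mem x hx =>
          obtain ⟨c, rfl⟩ := hx
          refine ⟨(l • m) ⊗ₜ KaehlerDifferential.D k₀ K (algebraMap k K c), ?_, ?_⟩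
          · show (KaehlerDifferential.map k₀ k K K).baseChange M _ = 0
            rw [LinearMap.baseChange_tmul, KaehlerDifferential.map_D, Algebra.algebraMap_self, RingHom.id_apply,
              Derivation.map_algebraMap, TensorProduct.tmul_zero]
          · rw [ha, ← IsScalarTower.algebraMap_apply, TensorProduct.smul_tmul, LinearMap.baseChange_tmul,
              KaehlerDifferential.mapBaseChange_tmul, KaehlerDifferential.map_D]
        | zero => exact ⟨0, map_zero _, by simp only [TensorProduct.tmul_zero, map_zero]⟩
        | add x y _ _ hx hy =>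
          obtain ⟨z, hz, hz'⟩ := hx l
          obtain ⟨w, hw, hw'⟩ := hy l
          exact ⟨z + w, by rw [map_add, hz, hw, add_zero], by
            rw [map_add, hz', hw', TensorProduct.tmul_add, TensorProduct.tmul_add, map_add]⟩
        | smul c x _ hx => rw [← TensorProduct.smul_tmul]; exact hx _
  have hsurj : Function.Surjective f := by
    rintro ⟨y, hy1, hy2⟩
    obtain ⟨v, hv⟩ := ((lTensor_exact M (KaehlerDifferential.exact_mapBaseChange_map k₀ k L)
      (KaehlerDifferential.map_surjective k₀ k L)) y).1 hy2
    obtain ⟨z, hz, hz'⟩ := hlift v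
    have hzy : a z = y := hz'.trans hv
    refine ⟨⟨z, ?_, hz⟩, Subtype.ext hzy⟩
    show KaehlerDifferential.mapBaseChange k₀ K M z = 0
    rw [← hba, hzy]; exact hy1
  let pr := (KaehlerDifferential.mapBaseChange k₀ K L).prod uK'
  have hker : LinearMap.ker pr = ΔLK := LinearMap.ker_prod _ _
  obtain ⟨hflat, hinjι⟩ := exact_baseChange (S := M) pr ΔLK hker
  let ι : M ⊗[L] ΔLK →ₗ[M] M ⊗[K] Ω[K⁄k₀] := e.toLinearMap ∘ₗ ΔLK.subtype.baseChange M
  have hι : Function.Injective ι := e.injective.comp hinjι
  have hrange : LinearMap.range ι = (LinearMap.ker f).map ΔMK.subtype := by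
    have huK : ∀ v, uK (e v) = (TensorProduct.AlgebraTensorModule.cancelBaseChange K L M M (Ω[K⁄k]))
        (uK'.baseChange M v) := fun v => by
      induction v using TensorProduct.induction_on with
      | zero => simp only [map_zero]
      | add x y hx hy => simp only [map_add, hx, hy]
      | tmul m t =>
        induction t using TensorProduct.induction_on generalizing m with
        | zero => simp only [TensorProduct.tmul_zero, map_zero]
        | add x y hx hy => simp only [TensorProduct.tmul_add, map_add, hx, hy]
        | tmul l w => simp [uK, uK', e]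
    have hpr : ∀ v, pr.baseChange M v = 0 ↔ a (e v) = 0 ∧ uK (e v) = 0 := fun v => by
      have h1 : (LinearMap.fst L _ _).baseChange M (pr.baseChange M v) = a (e v) := by
        rw [← LinearMap.comp_apply, ← LinearMap.baseChange_comp, LinearMap.fst_prod]
        simp [a]
      have h2 : (LinearMap.snd L _ _).baseChange M (pr.baseChange M v) = uK'.baseChange M v := by
        rw [← LinearMap.comp_apply, ← LinearMap.baseChange_comp, LinearMap.snd_prod]
      rw [huK, LinearEquiv.map_eq_zero_iff, ← h1, ← h2]
      refine ⟨fun h => ⟨by rw [h, map_zero], by rw [h, map_zero]⟩, fun h => ?_⟩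
      have hinj : Function.Injective (TensorProduct.prodRight L M M (Ω[L⁄k₀]) (L ⊗[K] Ω[K⁄k])) :=
        LinearEquiv.injective _
      refine hinj ?_
      rw [map_zero]
      have key : ∀ z, TensorProduct.prodRight L M M (Ω[L⁄k₀]) (L ⊗[K] Ω[K⁄k]) z =
          ((LinearMap.fst L _ _).baseChange M z, (LinearMap.snd L _ _).baseChange M z) := fun z => by
        induction z using TensorProduct.induction_on with
        | zero => simp only [map_zero]; rfl
        | add x y hx hy => simp only [map_add, hx, hy]; rfl
        | tmul m t => rfl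
      rw [key, h.1, h.2]
      rfl
    ext z
    constructor
    · rintro ⟨v, rfl⟩
      have h := (hpr _).1 ((hflat _).2 ⟨v, rfl⟩)
      have hzmem : ι v ∈ ΔMK := ⟨by
        show KaehlerDifferential.mapBaseChange k₀ K M (ι v) = 0
        rw [← hba]; exact (congrArg _ h.1).trans (map_zero _), h.2⟩
      exact ⟨⟨ι v, hzmem⟩, Subtype.ext h.1, rfl⟩
    · rintro ⟨w, hw, rfl⟩
      obtain ⟨v, hv⟩ := (hflat (e.symm w)).1 ((hpr _).2 ⟨by
        rw [e.apply_symm_apply]; exact congrArg Subtype.val hw, by rw [e.apply_symm_apply]; exact w.2.2⟩)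
      exact ⟨v, by
        show e (ΔLK.subtype.baseChange M v) = w
        rw [hv, e.apply_symm_apply]⟩
  have h1 := LinearMap.rank_range_add_rank_ker (M := ↥ΔMK) (M₁ := ↥ΔML) f
  rw [LinearMap.range_eq_top.2 hsurj, rank_top,
    ← ((LinearMap.ker f).equivMapOfInjective _ ΔMK.injective_subtype).symm.rank_eq, ← hrange,
    rank_range_of_injective ι hι, rank_baseChange_submodule ΔLK] at h1
  exact h1.symm

end Groth.Agent.S5837
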