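import Groth.Statements.S5844
import Groth.Agent.ZClosLib.Basic

set_option autoImplicit false
universe u
open ZClos

namespace Groth.Agent.S5844

open CategoryTheory CategoryTheory.Limits AlgebraicGeometry in
/-- a) ⇔ b'), injective case: for a locally Noetherian scheme X, a subset Z of X stable under
specialization and an arbitrary O_X-module F, F is Z-pure if and only if for every closed subset T
of X contained in Z and every quasi-compact (that is, Noetherian) open subset V of X, the
restriction map Γ(V, F) → Γ(V ∩ (X ∖ T), F) is injective. -/
theorem result (X : Scheme.{u}) [IsLocallyNoetherian X] (Z : Set X)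
    (hZ : StableUnderSpecialization Z) (F : X.Modules) :
    ZClos.IsZPure Z F ↔ ∀ (T : ZClos.Cl Z) (V : X.Opens), IsCompact (V : Set X) →
      Function.Injective (F.presheaf.map (homOfLE (inf_le_left : V ⊓ T.U ≤ V)).op) := by
  rw [Groth.Agent.ZClosLib.isZPure_iff]
  refine ⟨fun h T V _ => ?_, fun h T => Groth.Agent.ZClosLib.mono_of_app_injective _ fun V hV => ?_⟩
  · haveI := h T
    exact (Groth.Agent.ZClosLib.injective_toDiagram_app_iff Z F T V).1
      (Groth.Agent.ZClosLib.app_injective_of_mono _ V)
  · exact (Groth.Agent.ZClosLib.injective_toDiagram_app_iff Z F T V).2 (h T V hV)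

end Groth.Agent.S5844
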