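import Groth.Statements.S5848
import Groth.Agent.ZClosLib.Basic

set_option autoImplicit false
universe u
open ZClos

namespace Groth.Agent.S5848

open CategoryTheory CategoryTheory.Limits AlgebraicGeometry in
/-- For a locally Noetherian scheme X, subsets Z' ⊆ Z of X both stable under specialization and an
O_X-module F: if F is Z-pure then F is Z'-pure, and if F is Z-closed then F is Z'-closed. -/
theorem result (X : Scheme.{u}) [IsLocallyNoetherian X] (Z Z' : Set X)
    (hZ : StableUnderSpecialization Z) (hZ' : StableUnderSpecialization Z') (h : Z' ⊆ Z) (F : X.Modules) :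
    (ZClos.IsZPure Z F → ZClos.IsZPure Z' F) ∧ (ZClos.IsZClosed Z F → ZClos.IsZClosed Z' F) := by
  constructor
  · intro hp
    rw [Groth.Agent.ZClosLib.isZPure_iff] at hp ⊢
    exact fun T => hp ⟨T.1, T.2.trans h⟩
  · intro hc
    rw [Groth.Agent.ZClosLib.isZClosed_iff] at hc ⊢
    exact fun T => hc ⟨T.1, T.2.trans h⟩

end Groth.Agent.S5848
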