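import Groth.Agent.RadPtLib.Tower
import Groth.Statements.S5862
-- import your own Groth.Agent.* helpers here

set_option autoImplicit false
set_option backward.isDefEq.respectTransparency false
set_option backward.isDefEq.respectTransparency.types false
universe u
open RadPt

namespace Groth.Agent.S5862

open CategoryTheory AlgebraicGeometry in
/-- Let f : X → Y and g : Y → Z be morphisms of schemes and y a point of Y. If f is radicial at y (fibre
with at most one point, purely inseparable residue field extension) and g is radicial at g(y), then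
g ∘ f is radicial at g(y). Conversely, if f is surjective and g ∘ f is radicial at g(y), then f is
radicial at y and g is radicial at g(y). -/
theorem result {X Y Z : Scheme.{u}} (f : X ⟶ Y) (g : Y ⟶ Z) (y : Y) :
    (RadPt.IsRadicialAt f y → RadPt.IsRadicialAt g (g y) → RadPt.IsRadicialAt (f ≫ g) (g y)) ∧
      (Surjective f → RadPt.IsRadicialAt (f ≫ g) (g y) →
        RadPt.IsRadicialAt f y ∧ RadPt.IsRadicialAt g (g y)) := by
  refine ⟨fun ⟨hf1, hf2⟩ ⟨hg1, hg2⟩ => ⟨fun x x' hx hx' => ?_, fun x hx => ?_⟩, fun hs ⟨h1, h2⟩ => ?_⟩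
  · rw [Scheme.Hom.comp_apply] at hx hx'
    have a := hg1 _ _ hx rfl
    have b := hg1 _ _ hx' rfl
    exact hf1 _ _ a b
  · rw [Scheme.Hom.comp_apply] at hx
    have hxy : f x = y := hg1 _ _ hx rfl
    have e1 := hf2 x hxy
    have e2 := hg2 (f x) hx
    rw [Scheme.residueFieldMap_comp, CommRingCat.hom_comp]
    exact RadPtLib.trans e2 e1
  · obtain ⟨x, hx⟩ := hs.surj y
    have hxz : (f ≫ g) x = g y := by rw [Scheme.Hom.comp_apply, hx]
    refine ⟨⟨fun a b ha hb => h1 a b (by rw [Scheme.Hom.comp_apply, ha]) (by rw [Scheme.Hom.comp_apply, hb]),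
      fun a ha => ?_⟩, ⟨fun a b ha hb => ?_, fun a ha => ?_⟩⟩
    · have h := h2 a (by rw [Scheme.Hom.comp_apply, ha])
      rw [Scheme.residueFieldMap_comp, CommRingCat.hom_comp] at h
      exact RadPtLib.of_comp_left h
    · obtain ⟨a', rfl⟩ := hs.surj a
      obtain ⟨b', rfl⟩ := hs.surj b
      exact congrArg f (h1 a' b' (by rw [Scheme.Hom.comp_apply, ha]) (by rw [Scheme.Hom.comp_apply, hb]))
    · obtain ⟨a', rfl⟩ := hs.surj a
      have h := h2 a' (by rw [Scheme.Hom.comp_apply, ha])
      rw [Scheme.residueFieldMap_comp, CommRingCat.hom_comp] at h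
      exact RadPtLib.of_comp_right h

end Groth.Agent.S5862
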