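import Groth.Statements.S5864
import Mathlib.AlgebraicGeometry.Morphisms.UniversallyOpen
import Mathlib.AlgebraicGeometry.Fiber


set_option autoImplicit false
set_option backward.isDefEq.respectTransparency false
set_option backward.isDefEq.respectTransparency.types false
universe u
open RadPt

namespace Groth.Agent.S5864

section
open CategoryTheory CategoryTheory.Limits AlgebraicGeometry Topology

lemma eq_of_spec_max {X : Scheme.{u}} {x z : X} (hx : x ∈ genericPoints X) (h : z ⤳ x) : z = x := by
  have h2 : closure ({z} : Set X) ⊆ closure {x} := hx.2 isIrreducible_singleton.closure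
    (closure_minimal (Set.singleton_subset_iff.2 h.mem_closure) isClosed_closure)
  exact (h.antisymm (specializes_iff_mem_closure.2 (h2 (subset_closure rfl)))).eq

lemma mem_genericPoints_of_max {X : Scheme.{u}} {x : X} (h : ∀ z, z ⤳ x → z = x) :
    x ∈ genericPoints X := by
  have hg := genericPoints.ofComponent ⟨irreducibleComponent x, irreducibleComponent_mem_irreducibleComponents x⟩
  obtain ⟨z, hz⟩ := QuasiSober.sober (isIrreducible_irreducibleComponent (x := x))
    isClosed_irreducibleComponent
  have := h z (hz.specializes mem_irreducibleComponent)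
  subst this
  show closure {z} ∈ irreducibleComponents ↥X
  rw [hz.def]
  exact irreducibleComponent_mem_irreducibleComponents z

lemma mapsTo_of_flat {X Y : Scheme.{u}} (g : X ⟶ Y) [Flat g] {x : X} (hx : x ∈ genericPoints X) :
    g x ∈ genericPoints Y :=
  mem_genericPoints_of_max fun z hz => by
    obtain ⟨w, hw, rfl⟩ := Flat.generalizingMap g hz
    rw [eq_of_spec_max hx hw]

lemma residueFieldMap_bij_of_surj {X Y : Scheme.{u}} (f : X ⟶ Y) (x : X)
    (h : Function.Surjective (f.residueFieldMap x).hom) : Function.Bijective (f.residueFieldMap x).hom :=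
  ⟨RingHom.injective _, h⟩

/-- Over a point with one-point fibre and trivial residue extension the pullback projection is an
immersion of fibres. -/
lemma fibre_key {X Y X' Y' : Scheme.{u}} {f : X ⟶ Y} {g : Y' ⟶ Y} {f' : X' ⟶ Y'} {g' : X' ⟶ X}
    (sq : IsPullback g' f' f g) (x : X) (hb : Function.Bijective (f.residueFieldMap x).hom) :
    IsPreimmersion (g'.fiberι x ≫ f') ∧ Set.range (g'.fiberι x ≫ f') = g ⁻¹' {f x} := by
  haveI : IsIso (f.residueFieldMap x) := (ConcreteCategory.isIso_iff_bijective _).2 hb
  let e := Spec.map (f.residueFieldMap x)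
  have he : e ≫ Y.fromSpecResidueField (f x) = X.fromSpecResidueField x ≫ f :=
    f.SpecMap_residueFieldMap_fromSpecResidueField x
  have h1 : IsPullback (g'.fiberι x) (g'.fiberToSpecResidueField x) g' (X.fromSpecResidueField x) :=
    IsPullback.of_hasPullback _ _
  have h2 : IsPullback (g'.fiberι x ≫ f') (g'.fiberToSpecResidueField x) g
      (X.fromSpecResidueField x ≫ f) := h1.paste_horiz sq.flip
  have h3 : IsPullback (g'.fiberι x ≫ f') (g'.fiberToSpecResidueField x ≫ e) g
      (Y.fromSpecResidueField (f x)) := by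
    refine h2.of_iso (Iso.refl _) (Iso.refl _) (asIso e) (Iso.refl _) ?_ ?_ ?_ ?_ <;> simp [he, e]
  have hfac : g'.fiberι x ≫ f' = h3.isoPullback.hom ≫ g.fiberι (f x) := h3.isoPullback_hom_fst.symm
  refine ⟨by rw [hfac]; infer_instance, ?_⟩
  rw [hfac, Scheme.Hom.comp_base, TopCat.coe_comp, Set.range_comp, Set.range_eq_univ.2
    h3.isoPullback.hom.surjective, Set.image_univ]
  exact Scheme.Hom.range_fiberι g (f x)

end

open CategoryTheory AlgebraicGeometry in
/-- Let f : X → Y be a morphism of schemes whose induced morphism of reduced schemes is birational (f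
maps the maximal points of X bijectively onto those of Y, with one-point fibres and trivial residue
field extensions over the maximal points of Y), g : Y' → Y a flat morphism and f' : X ×_Y Y' → Y'
the base change (any cartesian square). Then the morphism of reduced schemes induced by f' is
birational in the same sense. -/
theorem result {X Y X' Y' : Scheme.{u}} {f : X ⟶ Y} {g : Y' ⟶ Y} [Flat g] {f' : X' ⟶ Y'} {g' : X' ⟶ X}
    (sq : IsPullback g' f' f g) (hf : RadPt.IsBirational f) : RadPt.IsBirational f' := by
  haveI : Flat g' := MorphismProperty.of_isPullback sq.flip inferInstance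
  obtain ⟨⟨hmaps, hinj, hsurj⟩, hfib⟩ := hf
  have hkey : ∀ y' ∈ genericPoints Y', ∃ x' ∈ genericPoints X', f' x' = y' ∧
      (∀ z, f' z = y' → z = x') ∧ Function.Bijective (f'.residueFieldMap x').hom := by
    intro y' hy'
    obtain ⟨x, hx, hfx⟩ := hsurj (mapsTo_of_flat g hy')
    have hy := mapsTo_of_flat g hy'
    obtain ⟨hone, hres⟩ := hfib _ hy
    obtain ⟨hpre, hrange⟩ := fibre_key sq x (hres x hfx)
    obtain ⟨a, ha⟩ : y' ∈ Set.range (g'.fiberι x ≫ f') := by rw [hrange]; exact hfx.symm
    have huniq : ∀ z, f' z = y' → z = g'.fiberι x a := by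
      intro z hz
      have hgz : g' z = x := hone _ _ (by
        rw [← Scheme.Hom.comp_apply, sq.w, Scheme.Hom.comp_apply, hz]) hfx
      obtain ⟨b, hb⟩ : z ∈ Set.range (g'.fiberι x) := by rw [Scheme.Hom.range_fiberι]; exact hgz
      rw [← hb]
      congr 1
      apply (g'.fiberι x ≫ f').isEmbedding.injective
      rw [ha, Scheme.Hom.comp_apply, hb, hz]
    refine ⟨g'.fiberι x a, mem_genericPoints_of_max fun z hz => huniq z ?_,
      (Scheme.Hom.comp_apply _ _ _).symm.trans ha, huniq, residueFieldMap_bij_of_surj _ _ ?_⟩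
    · refine eq_of_spec_max hy' ?_
      have := hz.map f'.continuous
      rwa [← Scheme.Hom.comp_apply, ha] at this
    · have hs : Function.Surjective ((g'.fiberι x ≫ f').residueFieldMap a).hom := by
        intro t
        obtain ⟨t, rfl⟩ := (g'.fiber x).residue_surjective a t
        obtain ⟨r, rfl⟩ := (g'.fiberι x ≫ f').stalkMap_surjective a t
        exact ⟨Y'.residue _ r, ConcreteCategory.congr_hom (Scheme.residue_residueFieldMap _ a) r⟩
      rw [Scheme.residueFieldMap_comp] at hs
      intro t
      obtain ⟨s, hs'⟩ := hs ((g'.fiberι x).residueFieldMap a t)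
      exact ⟨s, RingHom.injective ((g'.fiberι x).residueFieldMap a).hom hs'⟩
  have hmaps' : ∀ x' ∈ genericPoints X', f' x' ∈ genericPoints Y' := by
    intro x' hx'
    have hx := mapsTo_of_flat g' hx'
    have hy := hmaps hx
    obtain ⟨-, hres⟩ := hfib _ hy
    obtain ⟨hpre, hrange⟩ := fibre_key sq (g' x') (hres _ rfl)
    refine mem_genericPoints_of_max fun w hw => ?_
    have hgw : g w = f (g' x') := by
      refine eq_of_spec_max hy ?_
      have := hw.map g.continuous
      rwa [← Scheme.Hom.comp_apply f' g, ← sq.w, Scheme.Hom.comp_apply] at this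
    obtain ⟨b, rfl⟩ : w ∈ Set.range (g'.fiberι (g' x') ≫ f') := by rw [hrange]; exact hgw
    obtain ⟨a, ha⟩ : x' ∈ Set.range (g'.fiberι (g' x')) := by rw [Scheme.Hom.range_fiberι]; rfl
    have hba : b ⤳ a := (g'.fiberι (g' x') ≫ f').isEmbedding.isInducing.specializes_iff.1 (by
      rwa [Scheme.Hom.comp_apply (g'.fiberι (g' x')) f' a, ha])
    have := hba.map (g'.fiberι (g' x')).continuous
    rw [ha] at this
    rw [Scheme.Hom.comp_apply, eq_of_spec_max hx' this]
  refine ⟨⟨hmaps', fun a ha b hb hab => ?_, fun y' hy' => ?_⟩, fun y' hy' => ?_⟩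
  · obtain ⟨c, -, -, hu, -⟩ := hkey _ (hmaps' a ha)
    rw [hu a rfl, hu b hab.symm]
  · obtain ⟨c, hc, hc', -⟩ := hkey y' hy'
    exact ⟨c, hc, hc'⟩
  · obtain ⟨c, -, -, hu, hbij⟩ := hkey y' hy'
    exact ⟨fun a b ha hb => (hu a ha).trans (hu b hb).symm, fun a ha => by rw [hu a ha]; exact hbij⟩

end Groth.Agent.S5864
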