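import Groth.Statements.S5865
import Groth.Agent.Branch.BirationalScheme

set_option autoImplicit false
universe u
open RadPt

namespace Groth.Agent.S5865

open CategoryTheory AlgebraicGeometry in
/-- Let f : X → Y be a morphism of schemes which is integral and whose induced morphism of reduced
schemes is birational (hence f is surjective), and let y be a point of Y. Then Y is geometrically
unibranch at y (the local ring O_{Y,y} is geometrically unibranch) if and only if f is radicial at y
and X is geometrically unibranch at the point of X over y. -/
theorem result {X Y : Scheme.{u}} (f : X ⟶ Y) [IsIntegralHom f] (hf : RadPt.IsBirational f) (y : Y) :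
    CAlg2.IsGeomUnibranch (Y.presheaf.stalk y) ↔
      (RadPt.IsRadicialAt f y ∧ ∀ x : X, f x = y → CAlg2.IsGeomUnibranch (X.presheaf.stalk x)) := by
  constructor
  · intro hy
    refine ⟨⟨fun x x' hx hx' => ?_, fun x hx => ?_⟩, fun x hx => ?_⟩
    · subst hx'
      exact (Branch.isGeomUnibranch_of_apply f hf x' hy).2.2 x hx
    · subst hx
      exact (Branch.isGeomUnibranch_of_apply f hf x hy).2.1
    · subst hx
      exact (Branch.isGeomUnibranch_of_apply f hf x hy).1
  · rintro ⟨⟨h1, h2⟩, h3⟩
    obtain ⟨ξ, x, rfl, -, -⟩ := Branch.exists_over_specializes f hf (y := y) (w := y) specializes_rfl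
    exact Branch.isGeomUnibranch_apply_of_radicial f hf x (fun x' hx' => h1 x' x hx' rfl) (h2 x rfl) (h3 x rfl)

end Groth.Agent.S5865
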