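import Groth.Statements.S5866
import Groth.Agent.Branch.BirationalScheme

set_option autoImplicit false
universe u
open RadPt

namespace Groth.Agent.S5866

open CategoryTheory AlgebraicGeometry in
/-- Let f : X → Y be a morphism of schemes which is integral and whose induced morphism of reduced
schemes is birational. Then Y is geometrically unibranch (at every point) if and only if X is
geometrically unibranch and f is radicial (universally injective). -/
theorem result {X Y : Scheme.{u}} (f : X ⟶ Y) [IsIntegralHom f] (hf : RadPt.IsBirational f) :
    (∀ y : Y, CAlg2.IsGeomUnibranch (Y.presheaf.stalk y)) ↔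
      ((∀ x : X, CAlg2.IsGeomUnibranch (X.presheaf.stalk x)) ∧ UniversallyInjective f) := by
  have H := (AlgebraicGeometry.tfae_universallyInjective f).out 0 2 (a := AlgebraicGeometry.UniversallyInjective f)
    (b := Function.Injective f ∧ ∀ x, (f.residueFieldMap x).hom.IsPurelyInseparable) rfl rfl
  constructor
  · intro hY
    refine ⟨fun x => (Branch.isGeomUnibranch_of_apply f hf x (hY _)).1,
      H.2 ⟨fun x x' h => (Branch.isGeomUnibranch_of_apply f hf x' (hY _)).2.2 x h,
        fun x => (Branch.isGeomUnibranch_of_apply f hf x (hY _)).2.1⟩⟩
  · rintro ⟨hX, hu⟩ y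
    obtain ⟨hinj, hres⟩ := H.1 hu
    obtain ⟨ξ, x, rfl, -, -⟩ := Branch.exists_over_specializes f hf (y := y) (w := y) specializes_rfl
    exact Branch.isGeomUnibranch_apply_of_radicial f hf x (fun x' hx' => hinj hx') (hres x) (hX x)

end Groth.Agent.S5866
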