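import Groth.Statements.S5868
import Groth.Agent.ZClosLib.HullSections
import Groth.Agent.ZClosLib.HullHeight
import Groth.Agent.S2666

set_option autoImplicit false
universe u
open ZClos

namespace Groth.Agent.S5868

open CategoryTheory CategoryTheory.Limits AlgebraicGeometry in
/-- d) ⇒ a), second sufficient condition: let X be a locally Noetherian scheme, Z a subset of X stable
under specialization and F a coherent O_X-module none of whose associated points lies in Z. Assume
that for every affine open V of X with ring A and every associated point x of F in V, with prime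
ideal p ⊂ A, the domain A/p is universally catenary and N-1 (its integral closure is a finite
module); that is, the reduced closed subschemes on the closures of the associated points of F are
universally catenary with finite normalization. If, for a directed family of closed subsets T of X
contained in Z and covering Z, each direct image i_*(F|X∖T) is coherent, then H⁰_{X/Z}(F) is
coherent. (The published statement also allows, in place of the condition on the closures of the
associated points, that X be locally immersible in a regular scheme; this row omits that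
alternative.) -/
theorem result (X : Scheme.{u}) [IsLocallyNoetherian X] (Z : Set X)
    (hZ : StableUnderSpecialization Z) (F : X.Modules) (hF : Coh.IsCoh F)
    (hass : ∀ x ∈ AssSch.Ass F, x ∉ Z)
    (hX : ∀ (V : X.Opens) (hV : IsAffineOpen V) (x : X) (hxV : x ∈ V), x ∈ AssSch.Ass F →
        CAlg.IsUniversallyCatenary (Γ(X, V) ⧸ (hV.primeIdealOf ⟨x, hxV⟩).asIdeal) ∧
          CAlg.IsN1 (Γ(X, V) ⧸ (hV.primeIdealOf ⟨x, hxV⟩).asIdeal))
    (𝒯 : Set (ZClos.Cl Z)) (hdir : DirectedOn (· ≤ ·) 𝒯) (hcov : ∀ z ∈ Z, ∃ T ∈ 𝒯, z ∈ (T.1 : Set X))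
    (hd : ∀ T ∈ 𝒯, Coh.IsCoh ((ZClos.resPush T.U).obj F)) :
    Coh.IsCoh ((ZClos.H0 Z).obj F) := by
  classical
  haveI := hF.1
  refine (Groth.Agent.QCohBase.isCoh_iff _).2 ⟨Groth.Agent.ZClosLib.isQuasicoherent_H0 Z F, fun W hW => ?_⟩
  haveI := Groth.Agent.QCohBase.isNoetherianRing_sections hW
  refine Groth.Agent.ZClosLib.finite_sections Z F hW hF hZ fun p _ hp => ?_
  obtain ⟨x, hxW, hxp⟩ := Groth.Agent.AssPts.exists_point hW p
  obtain ⟨hP, z, hz⟩ := isAssociatedPrime_iff.1 hp
  have hxA : x ∈ AssSch.Ass F := (Groth.Agent.AssPts.mem_ass_iff F hW x hxW).2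
    (hxp ▸ Groth.Agent.WeakAss.mem_ass_iff.2 ⟨hP, z, fun a => by
      rw [hz, Submodule.mem_colon_singleton, Submodule.mem_bot]⟩)
  have hxZ := hass x hxA
  subst hxp
  obtain ⟨hcat, hN1⟩ := hX W hW x hxW hxA
  refine Or.inr ⟨?_, Groth.Agent.S2666.result _ hcat hN1, ?_⟩
  · rintro ⟨x', hx', hZ', e⟩
    have e' := congrArg hW.fromSpec (PrimeSpectrum.ext e :
      hW.primeIdealOf ⟨x', hx'⟩ = hW.primeIdealOf ⟨x, hxW⟩)
    rw [hW.fromSpec_primeIdealOf, hW.fromSpec_primeIdealOf] at e'
    exact hxZ ((show x' = x from e') ▸ hZ')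
  rintro q ⟨y, hyW, hyZ, e⟩ hle
  rw [← e] at hle ⊢
  have hxy : x ⤳ y := (Groth.Agent.AssPts.specializes_iff hW y hyW hxW).2 hle
  obtain ⟨T, hT, hyT⟩ := hcov y hyZ
  let T' : ZClos.Cl (T.1 : Set X) := ⟨T.1, subset_rfl⟩
  haveI : IsIso (colimit.ι ((ZClos.diagram (T.1 : Set X)).obj F) T') :=
    isIso_ι_of_isTerminal (IsTerminal.ofUniqueHom (fun S => homOfLE S.2) (fun _ _ => Subsingleton.elim _ _)) _
  let i : (ZClos.resPush T.U).obj F ⟶ (ZClos.H0 (T.1 : Set X)).obj F :=
    colimit.ι ((ZClos.diagram (T.1 : Set X)).obj F) T'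
  haveI : IsIso i := ‹IsIso (colimit.ι ((ZClos.diagram (T.1 : Set X)).obj F) T')›
  have hH : Coh.IsCoh ((ZClos.H0 (T.1 : Set X)).obj F) :=
    Groth.Agent.QCohBase.isCoh_of_epi i (hd T hT) (Groth.Agent.ZClosLib.isQuasicoherent_H0 _ F)
  have h2 := (Groth.Agent.ZClosLib.two_le_dim_quot _ F T.1.2.stableUnderSpecialization hH x hxA
    (fun hx => hxZ (T.2 hx)) y hyT hxy).trans
    (Groth.Agent.ZClosLib.ringKrullDim_quot_le_height hW hxW hyW hxy)
  exact WithBot.coe_le_coe.1 h2

end Groth.Agent.S5868
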