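import Groth.Statements.S5869
import Groth.Agent.ZClosLib.HullAffine
import Groth.Agent.ZClosLib.HullConverse

set_option autoImplicit false
universe u
open ZClos

namespace Groth.Agent.S5869

open CategoryTheory CategoryTheory.Limits AlgebraicGeometry in
/-- a) ⇔ b): for a Noetherian ring A with (Spec R) = Spec A, the following are equivalent: a) for every prime
ideal q of A, writing B = A/q, the ring B^(1) (intersection of the localizations of B at its
height-one primes) is a finite B-algebra; b) for every finite A-module M and every subset Z of (Spec R)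
stable under specialization such that, for every associated prime p of M not in Z and every prime p'
∈ Z containing p, the image of p' in A/p has height at least 2, the Z-closure H⁰_{X/Z} of the module
M~ is coherent. -/
theorem result (A : Type u) [CommRing A] [IsNoetherianRing A] :
    (∀ (q : Ideal A) [q.IsPrime], EGA4.HeightOneHullFinite (A ⧸ q)) ↔
      ∀ (M : Type u) [AddCommGroup M] [Module A M] [Module.Finite A M]
        (Z : Set (PrimeSpectrum A)), StableUnderSpecialization Z →
        (∀ x : PrimeSpectrum A, x.asIdeal ∈ associatedPrimes A M → x ∉ Z →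
          ∀ y ∈ Z, x.asIdeal ≤ y.asIdeal → (2 : ℕ∞) ≤ (y.asIdeal.map (Ideal.Quotient.mk x.asIdeal)).height) →
        Coh.IsCoh ((ZClos.H0 (X := Spec (CommRingCat.of A)) Z).obj (EGA4.tildeOf A M)) := by
  constructor
  · intro h M _ _ _ Z hZ hht
    exact Groth.Agent.ZClosLib.isCoh_H0_of_good A M Z hZ (fun p _ hp => h p) hht
  intro h q _
  let B := A ⧸ q
  let Z : Set (PrimeSpectrum A) :=
    {y | q ≤ y.asIdeal ∧ (2 : ℕ∞) ≤ (y.asIdeal.map (Ideal.Quotient.mk q)).height}
  have hZ : StableUnderSpecialization Z := fun y y' hyy' hy => by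
    have hle : y.asIdeal ≤ y'.asIdeal := (PrimeSpectrum.le_iff_specializes y y').2 hyy'
    exact ⟨hy.1.trans hle, hy.2.trans (Ideal.height_mono (Ideal.map_mono hle))⟩
  have hH := h B Z hZ (fun x hx _ y hy hle => by
    obtain ⟨-, z, hz⟩ := isAssociatedPrime_iff.1 hx
    have hxq : x.asIdeal = q := by
      have hz0 : z ≠ 0 := fun h0 => x.isPrime.ne_top (by
        rw [hz, h0, Ideal.eq_top_iff_one]
        simp)
      ext a
      rw [hz, Submodule.mem_colon_singleton, Submodule.mem_bot, Algebra.smul_def, mul_eq_zero,
        or_iff_left hz0, Ideal.Quotient.algebraMap_eq, Ideal.Quotient.eq_zero_iff_mem]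
    rw [hxq]
    exact hy.2)
  exact Groth.Agent.ZClosLib.heightOneHullFinite_of_isCoh (R := CommRingCat.of A) q Z rfl hZ hH
end Groth.Agent.S5869
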