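import Groth.Statements.S9777
import Groth.Agent.FieldExtDim.Basic

set_option autoImplicit false
universe u
open FlatMor

namespace Groth.Agent.S9777

open AlgebraicGeometry CategoryTheory Limits in
/-- For a finite-type morphism f : X ⟶ Y and its pullback f' : X' ⟶ Y' along any g : Y' ⟶ Y, the Krull
dimension of the fibre of f' over a point y' equals that of the fibre of f over g y'; fibre
dimension commutes with base change. -/
theorem result {X Y X' Y' : Scheme.{u}} (f : X ⟶ Y) [QuasiCompact f] [LocallyOfFiniteType f]
    (g : Y' ⟶ Y) (f' : X' ⟶ Y') (g' : X' ⟶ X) (hc : IsPullback g' f' f g) (y' : Y') :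
    topologicalKrullDim ↑(f'.fiber y') = topologicalKrullDim ↑(f.fiber (g y')) := by
  let φ := g.residueFieldMap y'
  letI : Algebra (Y.residueField (g y')) (Y'.residueField y') := φ.hom.toAlgebra
  have : LocallyOfFiniteType (f.fiberToSpecResidueField (g y')) := MorphismProperty.pullback_snd _ _ inferInstance
  have h := isPullback_fiberToSpecResidueField_of_isPullback hc y'
  rw [← Groth.Agent.FieldExtDim.dim_pullback_field (k := Y.residueField (g y')) (K := Y'.residueField y') (f.fiberToSpecResidueField (g y'))]
  exact IsHomeomorph.topologicalKrullDim_eq _ h.isoPullback.hom.homeomorph.isHomeomorph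

end Groth.Agent.S9777
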