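import Groth.Statements.S5888
import Groth.Agent.S1333
import Groth.Agent.S9777
import Groth.Agent.ConsProp.Cases
set_option linter.style.haveILetI false
-- import your own Groth.Agent.* helpers here

set_option autoImplicit false
universe u
open CategoryTheory AlgebraicGeometry
open ConsProp

namespace Groth.Agent.S5888

/-- For a given set Φ of values (natural numbers, with −∞ = ⊥ the dimension of the empty scheme), the
property of an algebraic k-scheme X that the dimension of X belongs to Φ is a constructible property
of algebraic schemes. The dimension is the Krull dimension of the underlying topological space,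
valued in WithBot ℕ∞. -/
theorem result (Φ : Set (WithBot ℕ∞)) :
    ConsProp.IsCons (fun Y T g => topologicalKrullDim ↥Y ∈ Φ) := by
  have hdim : ∀ {Y T : Scheme} (g : Y ⟶ T) (t : T), g ⁻¹' {t} = Set.univ →
      topologicalKrullDim ↥(g.fiber t) = topologicalKrullDim ↥Y := fun {Y T} g t h =>
    (((g.fiberHomeo t).trans (Homeomorph.setCongr h)).trans (Homeomorph.Set.univ Y)).isHomeomorph.topologicalKrullDim_eq _
  refine ⟨fun Y Y' T T' g g' e h _ _ _ _ _ _ sq => ?_, fun X S u _ _ _ _ => ?_⟩
  · obtain ⟨t'⟩ : Nonempty T' := inferInstance
    have hT : ∀ {A : Type _} {B : Type _} [Subsingleton B] (f : A → B) (b : B), f ⁻¹' {b} = Set.univ :=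
      fun {A B} _ f b => Set.eq_univ_of_forall fun a => Subsingleton.elim (f a) b
    show topologicalKrullDim ↥Y ∈ Φ ↔ topologicalKrullDim ↥Y' ∈ Φ
    rw [← hdim g (h t') (hT _ _), ← hdim g' t' (hT _ _), S9777.result g h g' e sq t']
  · haveI : LocallyOfFinitePresentation u := inferInstance
    haveI : QuasiSeparated u := by
      haveI : IsLocallyNoetherian X := LocallyOfFiniteType.isLocallyNoetherian u
      exact QuasiSeparated.of_comp u (Limits.terminal.from S)
    let E := {s : S | topologicalKrullDim ↥(u.fiber s) = topologicalKrullDim ↥(u.fiber (genericPoint S))}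
    have hE : (interior E).Nonempty :=
      ⟨_, (ProConsLib.mem_interior_iff (ProConsLib.isInd_of_isLocallyConstructible (S1333.result u _))).mpr
        fun x hx => by
          rw [show x = genericPoint S from (hx.antisymm (genericPoint_specializes x)).eq]
          rfl⟩
    by_cases hΦ : topologicalKrullDim ↥(u.fiber (genericPoint S)) ∈ Φ
    · exact Or.inl (hE.mono (interior_mono fun s hs => by
        show topologicalKrullDim ↥(u.fiber s) ∈ Φ
        rw [show topologicalKrullDim ↥(u.fiber s) = _ from hs]
        exact hΦ))
    · exact Or.inr (hE.mono (interior_mono fun s hs (h : topologicalKrullDim ↥(u.fiber s) ∈ Φ) => hΦ (by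
        rw [← show topologicalKrullDim ↥(u.fiber s) = _ from hs]
        exact h)))

end Groth.Agent.S5888
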