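import Groth.Statements.S5903
import Groth.Agent.ConsProp.ExistsPair
import Groth.Agent.ConstrFib.Descend
-- import your own Groth.Agent.* helpers here

set_option autoImplicit false
universe u
open CategoryTheory AlgebraicGeometry
open ConsPropPair

namespace Groth.Agent.S5903

theorem descends_qf : Groth.Agent.LimSch.Descends.{u}
    ((@LocallyOfFiniteType : MorphismProperty Scheme.{u}) ⊓ ((@QuasiCompact : MorphismProperty Scheme.{u}) ⊓
      (@LocallyQuasiFinite : MorphismProperty Scheme.{u})))
    @LocallyOfFinitePresentation := fun D c hc _ i _ _ f₀ _ _ h _ q f hsq hf => by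
  obtain ⟨j, φ, hj⟩ := Groth.Agent.ConstrFib.descends_locallyQuasiFinite D c hc i f₀ h q f hsq hf.2.2
  haveI : LocallyOfFinitePresentation f₀ := h
  exact ⟨j, φ, inferInstanceAs (LocallyOfFiniteType _), inferInstanceAs (QuasiCompact _), hj⟩

/-- Case of the property of being quasi-finite: let P(X, Y, k) be the relation between a field k and two
algebraic k-schemes X, Y: there are an extension field k′ of k (a one-point integral scheme T′ over
T = Spec k) and a k′-morphism g : X_(k′) ⟶ Y_(k′) between the base changes (cartesian squares over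
T′ ⟶ T) which is quasi-finite (locally of finite type, quasi-compact, with discrete fibres). Then P
is an ind-constructible property of pairs of algebraic schemes. -/
theorem result :
    ConsPropPair.IsIndConsPair
      (fun X Y T gX gY => ∃ (T' X' Y' : Scheme.{u}) (h : T' ⟶ T) (gX' : X' ⟶ T') (gY' : Y' ⟶ T')
        (eX : X' ⟶ X) (eY : Y' ⟶ Y), IsIntegral T' ∧ Subsingleton ↥T' ∧
          IsPullback eX gX' gX h ∧ IsPullback eY gY' gY h ∧
            ∃ g : X' ⟶ Y', g ≫ gY' = gX' ∧ (AlgebraicGeometry.LocallyOfFiniteType g ∧ AlgebraicGeometry.QuasiCompact g ∧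
              AlgebraicGeometry.LocallyQuasiFinite g)) := by
  exact Groth.Agent.ConsProp.isIndConsPair_existsRel
    (Q := (@LocallyOfFiniteType : MorphismProperty Scheme.{u}) ⊓ ((@QuasiCompact : MorphismProperty Scheme.{u}) ⊓
      (@LocallyQuasiFinite : MorphismProperty Scheme.{u}))) descends_qf

end Groth.Agent.S5903
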