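import Groth.Statements.S5909
import Mathlib
import Groth.Agent.DCohBridge.StalkPull

set_option autoImplicit false
universe u
open CategoryTheory AlgebraicGeometry
open EGA43

namespace Groth.Agent.S5909

open TensorProduct
theorem sep_stalk {X : Scheme.{u}} {F : X.Modules} {ι : Type u} [Finite ι] {G : ι → X.Modules} (u : ∀ i, F ⟶ G i)
    (h : ∀ (V : X.Opens) (t : Γ(F, V)), (∀ i, (u i).app V t = 0) → t = 0) (x : X) (s : F.presheaf.stalk x)
    (hs : ∀ i, (DerSch.stalkFunctor X x).map (u i) s = 0) : s = 0 := by
  classical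
  cases nonempty_fintype ι
  obtain ⟨V, hx, t, rfl⟩ := TopCat.Presheaf.exists_germ_eq F.presheaf s
  have h' : ∀ i, ∃ (W : X.Opens) (_ : x ∈ W) (hWV : W ≤ V), (G i).presheaf.map (homOfLE hWV).op ((u i).app V t) = 0 := by
    intro i
    have h1 : (G i).presheaf.germ V x hx ((u i).app V t) = (G i).presheaf.germ V x hx 0 := by
      rw [map_zero]
      exact (DerSch.stalkFunctor_map_germ x (u i) V hx t).symm.trans (hs i)
    obtain ⟨W, hW, i₁, i₂, e⟩ := TopCat.Presheaf.germ_eq (G i).presheaf x hx hx _ _ h1
    exact ⟨W, hW, i₁.le, by rw [Subsingleton.elim (homOfLE i₁.le) i₁, e, map_zero]⟩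
  choose W hW hWV e using h'
  let O : X.Opens := ⟨(⋂ i, (W i : Set X)) ∩ V, (isOpen_iInter_of_finite fun i => (W i).2).inter V.2⟩
  have hxO : x ∈ O := ⟨Set.mem_iInter.2 hW, hx⟩
  have hle : O ≤ V := fun y hy => hy.2
  have h0 : F.presheaf.map (homOfLE hle).op t = 0 := by
    refine h O _ fun i => ?_
    have hOW : O ≤ W i := fun y hy => Set.mem_iInter.1 hy.1 i
    have hn : (u i).app O (F.presheaf.map (homOfLE hle).op t) = (G i).presheaf.map (homOfLE hle).op ((u i).app V t) :=
      ConcreteCategory.congr_hom ((u i).mapPresheaf.naturality (homOfLE hle).op) t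
    rw [hn, show (homOfLE hle).op = (homOfLE (hWV i)).op ≫ (homOfLE hOW).op from rfl, Functor.map_comp,
      ConcreteCategory.comp_apply, e i, map_zero]
  rw [← TopCat.Presheaf.germ_res_apply F.presheaf (homOfLE hle) x hxO t]
  exact (congrArg _ h0).trans (map_zero _)

/-- Case Z_λ = X: let X be a scheme, (u_i : F ⟶ G_i) a finite family (finite index set) of homomorphisms
of quasi-coherent O_X-modules which is separating (a section of F over an open subset killed by
every u_i is zero), and g : X' ⟶ X a flat morphism. Then the family (g^*u_i : g^*F ⟶ g^*G_i) is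
separating. (The published statement allows a finite family of homomorphisms into direct images
(f_λ)_*G_λ along quasi-compact morphisms f_λ; this row is the case Z_λ = X, to which the general
case reduces.) -/
theorem result {X X' : Scheme.{u}} (F : X.Modules) [Coh.IsQCoh F] {ι : Type u} [Finite ι]
    (G : ι → X.Modules) [∀ i, Coh.IsQCoh (G i)] (u : ∀ i, F ⟶ G i) (g : X' ⟶ X) [Flat g]
    (h : ∀ (V : (X).Opens) (t : ↑((F).presheaf.obj (Opposite.op V))), (∀ i, (Scheme.Modules.Hom.mapPresheaf (u i)).app (Opposite.op V) t = 0) → t = 0) :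
    ∀ (V : (X').Opens) (t : ↑(((Scheme.Modules.pullback g).obj F).presheaf.obj (Opposite.op V))), (∀ i, (Scheme.Modules.Hom.mapPresheaf ((Scheme.Modules.pullback g).map (u i))).app (Opposite.op V) t = 0) → t = 0 := by
  classical
  cases nonempty_fintype ι
  intro V t ht
  refine TopCat.Presheaf.section_ext (F := (Coh.toAb ((Scheme.Modules.pullback g).obj F) : TopCat.Sheaf AddCommGrpCat.{u} X'.toTopCat))
    V t 0 fun x hx => ?_
  let P := Scheme.Modules.pullback g
  let z : (P.obj F).presheaf.stalk x := (P.obj F).presheaf.germ V x hx t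
  refine Eq.trans ?_ (map_zero _).symm
  show z = 0
  have hz : ∀ i, (DerSch.stalkFunctor X' x).map (P.map (u i)) z = 0 := fun i => by
    refine (DerSch.stalkFunctor_map_germ x (P.map (u i)) V hx t).trans ?_
    exact (congrArg _ (ht i)).trans (map_zero _)
  let e := DCohBridge.stalkPullIso g x
  have hflat : (DCohBridge.stφ g x).Flat := Flat.stalkMap g x
  let O := X.presheaf.stalk (g.base x)
  let O' := X'.presheaf.stalk x
  letI : Algebra O O' := (DCohBridge.stφ g x).toAlgebra
  haveI : Module.Flat O O' := hflat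
  let Fx : Type u := F.presheaf.stalk (g.base x)
  let Gx : ι → Type u := fun i => (G i).presheaf.stalk (g.base x)
  let φ : ∀ i, Fx →ₗ[O] Gx i := fun i => ((DerSch.stalkFunctor X (g.base x)).map (u i)).hom
  let ψ : Fx →ₗ[O] ∀ i, Gx i := LinearMap.pi φ
  have hψ : Function.Injective ψ := (injective_iff_map_eq_zero ψ).2 fun s hs =>
    sep_stalk u h (g.base x) s fun i => congrFun hs i
  let w : O' ⊗[O] Fx := (e.app F).hom z
  have hw : ψ.lTensor O' w = 0 := by
    apply (TensorProduct.piRight O O O' Gx).injective
    rw [map_zero]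
    funext i
    rw [TensorProduct.piRight_apply, Pi.zero_apply]
    have h1 : ∀ v : O' ⊗[O] Fx, TensorProduct.piRightHom O O O' Gx (ψ.lTensor O' v) i =
        (φ i).lTensor O' v := by
      intro v
      induction v with
      | zero => simp
      | add a b ha hb => simp only [map_add, Pi.add_apply, ha, hb]
      | tmul a b => simp [ψ]
    rw [h1]
    have h2 := ConcreteCategory.congr_hom (e.hom.naturality (u i)) z
    rw [ConcreteCategory.comp_apply, ConcreteCategory.comp_apply] at h2
    refine Eq.trans h2.symm ?_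
    rw [show ((P ⋙ DerSch.stalkFunctor X' x).map (u i)) z = 0 from hz i]
    exact map_zero _
  have hw0 : w = 0 := Module.Flat.lTensor_preserves_injective_linearMap ψ hψ (hw.trans (map_zero _).symm)
  exact (e.app F).toLinearEquiv.injective (hw0.trans (map_zero _).symm)

end Groth.Agent.S5909
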