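import Groth.Statements.S5911
import Mathlib
import Groth.Agent.FlatCrit.Basic

set_option autoImplicit false
universe u
open TensorProduct
open EGA43

namespace Groth.Agent.S5911

open TensorProduct LinearMap Function

section
variable {A : Type u} [CommRing A] {M : Type u} [AddCommGroup M] [Module A M]
  {r : ℕ} (p : Fin r → Ideal A) [∀ i, (p i).IsPrime]

/-- Elements of `M ⊗ Q` killed outside every `p i` vanish. -/
def Good (M : Type u) [AddCommGroup M] [Module A M] (Q : Type u) [AddCommGroup Q] [Module A Q] : Prop :=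
  ∀ y : M ⊗[A] Q, (∀ i, ∃ s ∉ p i, s • y = 0) → y = 0

theorem exists_smul_eq_zero [∀ i, Module.Flat A (LocalizedModule (p i).primeCompl M)]
    {Q' Q : Type u} [AddCommGroup Q'] [Module A Q'] [AddCommGroup Q] [Module A Q] (ι : Q' →ₗ[A] Q)
    (hι : Injective ι) (z : M ⊗[A] Q') (hz : ι.lTensor M z = 0) (i : Fin r) : ∃ s ∉ p i, s • z = 0 := by
  let g := LocalizedModule.mkLinearMap (p i).primeCompl M
  have h0 : TensorProduct.AlgebraTensorModule.rTensor A Q' g z = 0 := by
    apply Module.Flat.lTensor_preserves_injective_linearMap (M := LocalizedModule (p i).primeCompl M) ι hι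
    show ι.lTensor _ (g.rTensor Q' z) = ι.lTensor _ 0
    rw [map_zero, ← LinearMap.comp_apply, LinearMap.lTensor_comp_rTensor, ← LinearMap.rTensor_comp_lTensor,
      LinearMap.comp_apply, hz, map_zero]
  obtain ⟨s, hs⟩ := (IsLocalizedModule.eq_zero_iff (p i).primeCompl _).1 h0
  exact ⟨s, s.2, hs⟩

theorem good_of_exact [∀ i, Module.Flat A (LocalizedModule (p i).primeCompl M)]
    {Q : Type u} [AddCommGroup Q] [Module A Q] (Q' : Submodule A Q)
    (h1 : Good p M Q') (h2 : Good p M (Q ⧸ Q')) : Good p M Q := by
  intro y hy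
  have h3 : Q'.mkQ.lTensor M y = 0 := h2 _ fun i => by
    obtain ⟨s, hs, hsy⟩ := hy i
    exact ⟨s, hs, by rw [← map_smul, hsy, map_zero]⟩
  obtain ⟨z, rfl⟩ := (_root_.lTensor_exact M (LinearMap.exact_subtype_mkQ Q') (Submodule.mkQ_surjective _) y).1 h3
  rw [h1 z fun i => ?_, map_zero]
  obtain ⟨s, hs, hsy⟩ := hy i
  obtain ⟨t, ht, htz⟩ := exists_smul_eq_zero p Q'.subtype Subtype.val_injective (s • z) (by rw [map_smul, hsy]) i
  exact ⟨t * s, (p i).primeCompl.mul_mem ht hs, by rw [mul_smul, htz]⟩

/-- Modules embedded in modules over the local rings at the `p i`, killed by powers of the maximal ideals, are good. -/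
theorem good_of_embedding [∀ i, Module.Flat A (LocalizedModule (p i).primeCompl M)]
    (J : Ideal A) (hp : ∀ i, J ≤ p i) [Module.Flat (A ⧸ J) ((A ⧸ J) ⊗[A] M)] (m : ℕ) :
    ∀ (V : Fin r → Type u) [∀ i, AddCommGroup (V i)] [∀ i, Module A (V i)],
      (∀ i, ∀ s ∉ p i, Bijective fun v : V i => s • v) →
      (∀ i, (p i) ^ m • (⊤ : Submodule A (V i)) = ⊥) →
      ∀ (Q : Type u) [AddCommGroup Q] [Module A Q] (φ : Q →ₗ[A] ∀ i, V i), Injective φ → Good p M Q := by
  induction m with
  | zero =>
    intro V _ _ _ hk Q _ _ φ hφ y _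
    have h0 : ∀ q : Q, q = 0 := fun q => hφ (funext fun i => by
      rw [map_zero, Pi.zero_apply, ← Submodule.mem_bot A, ← hk i, pow_zero, Ideal.one_eq_top, Submodule.top_smul]
      exact Submodule.mem_top)
    haveI : Subsingleton Q := ⟨fun a b => (h0 a).trans (h0 b).symm⟩
    exact Subsingleton.elim _ _
  | succ m ih =>
    intro V _ _ hu hk Q _ _ φ hφ
    classical
    let T : ∀ i, Submodule A (V i) := fun i => Submodule.torsionBySet A (V i) (p i : Set A)
    let π : (∀ i, V i) →ₗ[A] (∀ i, V i ⧸ T i) := LinearMap.pi fun i => (T i).mkQ ∘ₗ LinearMap.proj i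
    let Q' := LinearMap.ker (π ∘ₗ φ)
    have huT : ∀ i, ∀ s ∉ p i, ∀ v : V i, s • v ∈ T i → v ∈ T i := by
      intro i s hs v hv
      rw [Submodule.mem_torsionBySet_iff] at hv ⊢
      rintro ⟨a, ha⟩
      apply (hu i s hs).1
      show s • (a • v) = s • (0 : V i)
      rw [smul_zero, smul_comm]
      exact hv ⟨a, ha⟩
    refine good_of_exact p Q' ?_ ?_
    · -- the socle
      intro y hy
      let φ' : Q' →ₗ[A] ∀ i, T i := LinearMap.pi fun i => LinearMap.codRestrict (T i)
        (LinearMap.proj i ∘ₗ φ ∘ₗ Q'.subtype) fun q => (Submodule.Quotient.mk_eq_zero _).1 (congrFun q.2 i)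
      have hφ' : Injective φ' := fun a b hab => Subtype.ext (hφ (funext fun i => congrArg Subtype.val (congrFun hab i)))
      have hkQ : Module.IsTorsionBySet A Q' (J : Set A) := by
        intro q ⟨a, ha⟩
        apply hφ'
        rw [map_zero, map_smul]
        funext i
        exact Subtype.ext ((Submodule.mem_torsionBySet_iff _ _).1 (φ' q i).2 ⟨a, hp i ha⟩)
      have hkT : Module.IsTorsionBySet A (∀ i, T i) (J : Set A) := by
        intro v ⟨a, ha⟩
        funext i
        exact Subtype.ext ((Submodule.mem_torsionBySet_iff _ _).1 (v i).2 ⟨a, hp i ha⟩)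
      letI : Module (A ⧸ J) Q' := hkQ.module
      letI : Module (A ⧸ J) (∀ i, T i) := hkT.module
      haveI : IsScalarTower A (A ⧸ J) Q' := hkQ.isScalarTower
      haveI : IsScalarTower A (A ⧸ J) (∀ i, T i) := hkT.isScalarTower
      let φk : Q' →ₗ[A ⧸ J] ∀ i, T i := φ'.extendScalarsOfSurjective Ideal.Quotient.mk_surjective
      apply FlatCrit.lTensor_injective_of_flat_baseChange (R := A) (M := M) (A ⧸ J) φk hφ'
      rw [map_zero]
      show φ'.lTensor M y = 0
      have hdec : ∀ w : M ⊗[A] (∀ i, T i), w = ∑ i,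
          (LinearMap.single A (fun i => T i) i ∘ₗ LinearMap.proj i).lTensor M w := by
        intro w
        induction w with
        | zero => simp
        | add a b ha hb =>
          conv_lhs => rw [ha, hb]
          simp only [map_add, Finset.sum_add_distrib]
        | tmul a v =>
          simp only [LinearMap.lTensor_tmul, LinearMap.comp_apply, ← TensorProduct.tmul_sum]
          congr 1
          exact (Finset.univ_sum_single v).symm
      rw [hdec (φ'.lTensor M y)]
      refine Finset.sum_eq_zero fun i _ => ?_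
      obtain ⟨s, hs, hsy⟩ := hy i
      have hb : Bijective fun v : T i => s • v :=
        ⟨fun a b hab => Subtype.ext ((hu i s hs).1 (congrArg Subtype.val hab)), fun v => by
          obtain ⟨w, hw⟩ := (hu i s hs).2 v.1
          exact ⟨⟨w, huT i s hs w (show s • w ∈ T i from (show s • w = v.1 from hw) ▸ v.2)⟩, Subtype.ext hw⟩⟩
      let e : T i ≃ₗ[A] T i := LinearEquiv.ofBijective (s • LinearMap.id) hb
      have h1 : (LinearMap.proj i).lTensor M (φ'.lTensor M y) = 0 := by
        apply (e.lTensor M).injective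
        have he : ∀ w, e.lTensor M w = s • w := by
          intro w
          induction w with
          | zero => simp
          | add a b ha hb => simp [ha, hb]
          | tmul a b =>
            show a ⊗ₜ[A] (s • b) = s • (a ⊗ₜ[A] b)
            rw [TensorProduct.tmul_smul]
        rw [map_zero, he, ← map_smul, ← map_smul, hsy, map_zero, map_zero]
      rw [LinearMap.lTensor_comp, LinearMap.comp_apply, h1, map_zero]
    · refine ih (fun i => V i ⧸ T i) (fun i s hs => ⟨?_, ?_⟩) (fun i => ?_) _
        (Q'.liftQ (π ∘ₗ φ) le_rfl) (LinearMap.ker_eq_bot.1 (by rw [Submodule.ker_liftQ]; simp [Q', Submodule.mkQ_map_self]))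
      · intro a b hab
        obtain ⟨a, rfl⟩ := Submodule.Quotient.mk_surjective _ a
        obtain ⟨b, rfl⟩ := Submodule.Quotient.mk_surjective _ b
        rw [Submodule.Quotient.eq]
        refine huT i s hs _ ?_
        rw [smul_sub]
        exact (Submodule.Quotient.eq _).1 hab
      · intro b
        obtain ⟨b, rfl⟩ := Submodule.Quotient.mk_surjective _ b
        obtain ⟨c, hc⟩ := (hu i s hs).2 b
        exact ⟨Submodule.Quotient.mk c, by rw [← hc]; rfl⟩
      · rw [← Submodule.range_mkQ (T i), ← Submodule.map_top, ← Submodule.map_smul'', eq_bot_iff, Submodule.map_le_iff_le_comap,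
          Submodule.comap_bot, Submodule.ker_mkQ]
        intro v hv
        rw [Submodule.mem_torsionBySet_iff]
        rintro ⟨a, ha⟩
        rw [← Submodule.mem_bot A, ← hk i, pow_succ', ← smul_eq_mul, Submodule.smul_assoc]
        exact Submodule.smul_mem_smul ha hv

end

/-- Let A be a Noetherian ring, J an ideal of A and M an A-module which is ideally separated for the
J-adic topology (for every ideal a of A the module a ⊗_A M is J-adically separated). Let (p_i) be a
finite family of prime ideals of A containing J, let J_n be the intersection of the symbolic powers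
p_i^{(n)} (preimages in A of the n-th powers of the maximal ideals of the local rings A_{p_i}), and
assume every power J^n contains some J_m. Then M is flat if and only if (A/J) ⊗_A M is flat over A/J
and M_{p_i} is flat over A_{p_i} for every i. -/
theorem result {A : Type u} [CommRing A] [IsNoetherianRing A]
    (J : Ideal A) (M : Type u) [AddCommGroup M] [Module A M]
    (hsep : ∀ a : Ideal A, IsHausdorff J (↥a ⊗[A] M))
    {r : ℕ} (p : Fin r → Ideal A) [∀ i, (p i).IsPrime] (hp : ∀ i, J ≤ p i)
    (htop : ∀ n : ℕ, ∃ m : ℕ,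
      ⨅ i, Ideal.comap (algebraMap A (Localization.AtPrime (p i))) (IsLocalRing.maximalIdeal (Localization.AtPrime (p i)) ^ m) ≤ J ^ n) :
    Module.Flat A M ↔
      Module.Flat (A ⧸ J) ((A ⧸ J) ⊗[A] M) ∧
        ∀ i, Module.Flat (Localization.AtPrime (p i)) (LocalizedModule (p i).primeCompl M) := by
  classical
  constructor
  · intro h
    exact ⟨inferInstance, fun i => inferInstance⟩
  rintro ⟨hJ, hloc⟩
  haveI := hJ
  haveI : ∀ i, Module.Flat A (LocalizedModule (p i).primeCompl M) := fun i =>
    haveI := hloc i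
    Module.Flat.trans A (Localization.AtPrime (p i)) _
  refine Module.Flat.iff_lTensor_injective'.mpr fun a => ?_
  rw [injective_iff_map_eq_zero]
  intro z hz
  have hkill := exists_smul_eq_zero p a.subtype Subtype.val_injective z hz
  haveI := hsep a
  apply (TensorProduct.comm A M a).injective
  rw [map_zero]
  refine IsHausdorff.haus inferInstance (I := J) _ fun n => ?_
  rw [SModEq.zero]
  obtain ⟨k, hk⟩ := Ideal.exists_pow_inf_eq_pow_smul J (a : Submodule A A)
  obtain ⟨m, hm⟩ := htop (n + k)
  let I : ∀ i, Ideal (Localization.AtPrime (p i)) := fun i =>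
    IsLocalRing.maximalIdeal (Localization.AtPrime (p i)) ^ m
  let V : Fin r → Type u := fun i => Localization.AtPrime (p i) ⧸ I i
  let ψ : a →ₗ[A] ∀ i, V i := LinearMap.pi fun i =>
    (IsScalarTower.toAlgHom A (Localization.AtPrime (p i)) (V i)).toLinearMap ∘ₗ
      (Algebra.linearMap A (Localization.AtPrime (p i))) ∘ₗ a.subtype
  have hu : ∀ i, ∀ s ∉ p i, Function.Bijective fun v : V i => s • v := by
    intro i s hs
    have h := IsUnit.smul_bijective (β := V i)
      (IsLocalization.map_units (Localization.AtPrime (p i)) (⟨s, hs⟩ : (p i).primeCompl))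
    simpa only [algebraMap_smul] using h
  have hk' : ∀ i, (p i) ^ m • (⊤ : Submodule A (V i)) = ⊥ := by
    intro i
    refine eq_bot_iff.2 (Submodule.smul_le.2 fun c hc v _ => ?_)
    obtain ⟨v, rfl⟩ := Ideal.Quotient.mk_surjective v
    rw [Submodule.mem_bot, Algebra.smul_def, IsScalarTower.algebraMap_apply A (Localization.AtPrime (p i)) (V i),
      Ideal.Quotient.algebraMap_eq, ← map_mul, Ideal.Quotient.eq_zero_iff_mem]
    refine Ideal.mul_mem_right _ _ ?_
    have := Ideal.mem_map_of_mem (algebraMap A (Localization.AtPrime (p i))) hc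
    rwa [Ideal.map_pow, Localization.AtPrime.map_eq_maximalIdeal] at this
  let K := LinearMap.ker ψ
  have hgood := good_of_embedding p J hp m V hu hk' (a ⧸ K) (K.liftQ ψ le_rfl)
    (LinearMap.ker_eq_bot.1 (by rw [Submodule.ker_liftQ]; simp [K, Submodule.mkQ_map_self])) (K.mkQ.lTensor M z)
    fun i => by
      obtain ⟨s, hs, hsz⟩ := hkill i
      exact ⟨s, hs, by rw [← map_smul, hsz, map_zero]⟩
  obtain ⟨w, rfl⟩ := (_root_.lTensor_exact M (LinearMap.exact_subtype_mkQ K) (Submodule.mkQ_surjective _) z).1 hgood
  clear hgood hkill hz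
  have hK : ∀ x : K, (x : a) ∈ J ^ n • (⊤ : Submodule A a) := by
    intro x
    have h1 : ((x : a) : A) ∈ J ^ (n + k) := hm <| by
      rw [Submodule.mem_iInf]
      intro i
      exact Ideal.mem_comap.2 (Ideal.Quotient.eq_zero_iff_mem.1 (congrFun (LinearMap.mem_ker.1 x.2) i))
    have h2 : ((x : a) : A) ∈ J ^ (n + k) • (⊤ : Submodule A A) ⊓ a := ⟨by simpa using h1, (x : a).2⟩
    rw [hk (n + k) (by omega), Nat.add_sub_cancel] at h2
    have h3 : ((x : a) : A) ∈ (J ^ n • (⊤ : Submodule A a)).map a.subtype := by
      rw [Submodule.map_smul'', Submodule.map_top, Submodule.range_subtype]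
      exact Submodule.smul_mono le_rfl inf_le_right h2
    obtain ⟨y, hy, hyx⟩ := h3
    exact (Subtype.ext hyx : y = (x : a)) ▸ hy
  induction w using TensorProduct.induction_on with
  | zero => simp
  | add b c hb hc => simp only [map_add]; exact Submodule.add_mem _ hb hc
  | tmul b x =>
    rw [LinearMap.lTensor_tmul, TensorProduct.comm_tmul]
    have := Submodule.mem_map_of_mem (f := (TensorProduct.mk A a M).flip b) (hK x)
    rw [Submodule.map_smul''] at this
    exact Submodule.smul_mono le_rfl le_top this

end Groth.Agent.S5911
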