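import Groth.Statements.S5913
import Groth.Agent.NoethPts.Jacobson

set_option autoImplicit false
universe u
open CategoryTheory AlgebraicGeometry
open EGA43

namespace Groth.Agent.S5913

/-- In the locally Noetherian form: a locally Noetherian scheme X is Jacobson if and only if it has no
subscheme isomorphic to the spectrum of a semi-local integral domain of dimension 1, i.e. there is
no immersion Spec R ⟶ X with R an integral domain having finitely many maximal ideals and Krull
dimension 1. -/
theorem result (X : Scheme.{u}) [IsLocallyNoetherian X] :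
    JacobsonSpace X ↔
      ∀ (R : CommRingCat.{u}) [IsDomain R] (i : Spec R ⟶ X) [IsImmersion i],
        ¬ (Finite (MaximalSpectrum R) ∧ ringKrullDim R = 1) := by
  constructor
  · intro h R _ i _ hR
    haveI : JacobsonSpace (Spec R) := LocallyOfFiniteType.jacobsonSpace i
    haveI : IsJacobsonRing R := PrimeSpectrum.isJacobsonRing_iff_jacobsonSpace.2
      (inferInstanceAs (JacobsonSpace (Spec R)))
    exact NoethPts.not_semilocal_dim_one hR.1 hR.2
  · intro h
    by_contra hJ
    obtain ⟨x, hx, hxc⟩ := NoethPts.exists_point_of_not_jacobsonSpace hJ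
    obtain ⟨y, hy, hne⟩ : ∃ y ∈ closure ({x} : Set X), y ∉ ({x} : Set X) := by
      by_contra h'
      push Not at h'
      exact hxc (closure_eq_iff_isClosed.1 (subset_antisymm h' subset_closure))
    obtain ⟨_, ⟨W, hW, rfl⟩, hyW, -⟩ :=
      X.isBasis_affineOpens.exists_subset_of_mem_open (Set.mem_univ y) isOpen_univ
    have hxy : x ⤳ y := specializes_iff_mem_closure.2 hy
    have hr : Set.range hW.fromSpec = (W : Set X) := hW.range_fromSpec
    have : IsNoetherianRing Γ(X, W) := IsLocallyNoetherian.component_noetherian ⟨W, hW⟩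
    have hF : Topology.IsOpenEmbedding hW.fromSpec := hW.fromSpec.isOpenEmbedding
    obtain ⟨x', rfl⟩ : x ∈ Set.range hW.fromSpec := hr.symm ▸ hxy.mem_open W.isOpen hyW
    obtain ⟨y', rfl⟩ : y ∈ Set.range hW.fromSpec := hr.symm ▸ hyW
    have hx' : IsLocallyClosed ({x'} : Set (PrimeSpectrum Γ(X, W))) := by
      have := hx.preimage hF.continuous
      rwa [← Set.image_singleton, Set.preimage_image_eq _ hF.injective] at this
    rw [hF.isInducing.specializes_iff] at hxy
    have hle : x'.asIdeal ≤ y'.asIdeal := (PrimeSpectrum.le_iff_specializes x' y').2 hxy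
    have hm : ¬ x'.asIdeal.IsMaximal := fun hm => hne
      (congrArg hW.fromSpec (PrimeSpectrum.ext (hm.eq_of_le y'.isPrime.ne_top hle)).symm)
    obtain ⟨g, hg, hiso⟩ := NoethPts.exists_notMem_of_isLocallyClosed hx'
    let q : Γ(X, W) ⟶ CommRingCat.of (Γ(X, W) ⧸ x'.asIdeal) := CommRingCat.ofHom (Ideal.Quotient.mk _)
    haveI : IsClosedImmersion (Spec.map q) := IsClosedImmersion.spec_of_surjective q Ideal.Quotient.mk_surjective
    haveI : IsDomain (CommRingCat.of (Γ(X, W) ⧸ x'.asIdeal)) := Ideal.Quotient.isDomain x'.asIdeal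
    exact h (CommRingCat.of (Γ(X, W) ⧸ x'.asIdeal)) (Spec.map q ≫ hW.fromSpec)
      (NoethPts.semilocal_dim_one_of_isolated
      (fun e => hg (Ideal.Quotient.eq_zero_iff_mem.1 e)) (NoethPts.isField_away_quotient hg hiso)
      (fun hF => hm (Ideal.Quotient.maximal_of_isField _ hF)))

end Groth.Agent.S5913
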