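import Groth.Statements.S5915
import Mathlib
import Groth.Agent.FlatFamily.Scheme
import Groth.Agent.FlatFamily.Maximals

set_option autoImplicit false
universe u
open CategoryTheory AlgebraicGeometry
open EGA43

namespace Groth.Agent.S5915

open CategoryTheory.Limits in
/-- Let Y be locally Noetherian, f : X ⟶ Y locally of finite type, F a coherent O_X-module, x a point of
X and y = f x. Let φ : O_{Y,y} ⟶ A' be an injective ring homomorphism which is finite (A' finitely
generated as an O_{Y,y}-module), Y' = Spec A' ⟶ Y the induced Y-scheme, X' = X ×_Y Y' and F' the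
pullback of F to X'. Then F is f-flat at x if and only if F' is flat over Y' at every point of X'
lying over x and over a closed point of Y'. (The published statement treats more generally a Zariski
ring A' whose radical pulls back to the maximal ideal and whose map on completions is injective;
this row is the case of a finite algebra with injective structure map, in which those conditions
hold.) -/
theorem result {X Y : Scheme.{u}} [IsLocallyNoetherian Y]
    (f : X ⟶ Y) [LocallyOfFiniteType f] (F : X.Modules) (hF : Coh.IsCoh F) (x : X)
    (A' : CommRingCat.{u}) (φ : Y.presheaf.stalk (f.base x) ⟶ A') (hfin : φ.hom.Finite)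
    (hinj : Function.Injective φ.hom) :
    FlatMod.IsFlatOverAt f F x ↔
      ∀ x' : ↥(pullback f (Spec.map φ ≫ Y.fromSpecStalk (f.base x))), pullback.fst f (Spec.map φ ≫ Y.fromSpecStalk (f.base x)) x' = x →
        IsClosed ({pullback.snd f (Spec.map φ ≫ Y.fromSpecStalk (f.base x)) x'} : Set ↥(Spec A')) →
          FlatMod.IsFlatOverAt (pullback.snd f (Spec.map φ ≫ Y.fromSpecStalk (f.base x))) ((Scheme.Modules.pullback (pullback.fst f (Spec.map φ ≫ Y.fromSpecStalk (f.base x)))).obj F) x' := by
  refine ⟨fun h x' hx' _ => ?_, fun h => ?_⟩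
  · exact Groth.Agent.FlatOverBC.isFlatOverAt_baseChange (IsPullback.of_hasPullback f _) F x' (by rwa [hx'])
  letI : Algebra (Y.presheaf.stalk (f x)) A' := φ.hom.toAlgebra
  haveI : Module.Finite (Y.presheaf.stalk (f x)) A' := hfin
  let u : ∀ M : MaximalSpectrum A', Y.presheaf.stalk (f x) ⟶ CommRingCat.of (Localization.AtPrime M.asIdeal) :=
    fun M => φ ≫ CommRingCat.ofHom (algebraMap A' (Localization.AtPrime M.asIdeal))
  refine Groth.Agent.FlatFamily.isFlatOverAt_of_families_stalk f F hF x
    (fun M : MaximalSpectrum A' => CommRingCat.of (Localization.AtPrime M.asIdeal)) u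
    (Groth.Agent.FlatFamily.hsep_maximals (S := (A' : Type u)) (Groth.Agent.FlatFamily.exists_comap_le_of_finite_injective hinj))
    fun M x' h1 h2 => ?_
  refine Groth.Agent.FlatFamily.isFlatOverAt_pullback_of_comp f (Spec.map φ ≫ Y.fromSpecStalk (f x))
    (Spec.map (CommRingCat.ofHom (algebraMap A' (Localization.AtPrime M.asIdeal)))) _
    (by rw [← Category.assoc, ← Spec.map_comp]) F x' fun y hy1 hy2 => ?_
  refine h y (hy1.trans h1) ?_
  rw [hy2, h2]
  haveI := M.isMaximal
  refine (PrimeSpectrum.isClosed_singleton_iff_isMaximal _).2 ?_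
  show ((IsLocalRing.maximalIdeal (Localization.AtPrime M.asIdeal)).comap (algebraMap A' (Localization.AtPrime M.asIdeal))).IsMaximal
  convert M.isMaximal using 1
  exact IsLocalization.AtPrime.comap_maximalIdeal (Localization.AtPrime M.asIdeal) M.asIdeal

end Groth.Agent.S5915
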