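import Groth.Statements.S5918
import Mathlib
import Groth.Agent.FlatFamily.Scheme

set_option autoImplicit false
universe u
open CategoryTheory AlgebraicGeometry
open EGA43

namespace Groth.Agent.S5918

open CategoryTheory.Limits in
/-- Let A be an Artinian local ring, f : X ⟶ Spec A locally of finite type, F a coherent O_X-module and
x a point of X. Let (g_i : Y_i ⟶ Spec A) be a family of A-schemes such that an element of A whose
image in every Γ(Y_i, O_{Y_i}) is zero is itself zero. If, for every i, the pullback of F to X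
×_{Spec A} Y_i is flat over Y_i at every point lying over x, then F is f-flat at x. -/
theorem result {A : Type u} [CommRing A]
    [IsArtinianRing A] [IsLocalRing A] {X : Scheme.{u}} (f : X ⟶ Spec (CommRingCat.of A))
    [LocallyOfFiniteType f] (F : X.Modules) (hF : Coh.IsCoh F) (x : X)
    {ι : Type u} (Y : ι → Scheme.{u}) (g : ∀ i, Y i ⟶ Spec (CommRingCat.of A))
    (hg : ∀ a : A, (∀ i, (g i).appTop ((Scheme.ΓSpecIso (CommRingCat.of A)).inv a) = 0) → a = 0)
    (hflat : ∀ (i : ι) (x' : ↥(pullback f (g i))), pullback.fst f (g i) x' = x →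
      FlatMod.IsFlatOverAt (pullback.snd f (g i)) ((Scheme.Modules.pullback (pullback.fst f (g i))).obj F) x') :
    FlatMod.IsFlatOverAt f F x := by
  let A₀ := CommRingCat.of A
  let v : ∀ p : Σ i, (Y i : Type u), A₀ ⟶ (Y p.1).presheaf.stalk p.2 := fun p =>
    (Scheme.ΓSpecIso A₀).inv ≫ (g p.1).appTop ≫ (Y p.1).presheaf.germ ⊤ p.2 trivial
  have hv : ∀ p, (Y p.1).fromSpecStalk p.2 ≫ g p.1 = Spec.map (v p) := fun p => by
    rw [← cancel_mono (Spec A₀).toSpecΓ, Category.assoc, Scheme.toSpecΓ_naturality,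
      Scheme.fromSpecStalk_toSpecΓ_assoc, ← SpecMap_ΓSpecIso_hom, ← Spec.map_comp, ← Spec.map_comp,
      Iso.hom_inv_id_assoc]
  refine Groth.Agent.FlatFamily.isFlatOverAt_of_families f F hF x (Groth.Agent.FlatFamily.eq_closedPoint _)
    (fun p : Σ i, (Y i : Type u) => (Y p.1).presheaf.stalk p.2) v
    (Groth.Agent.FlatFamily.hsep_artinian _ (fun p => (v p).hom) fun a ha => ?_) fun p x' h1 h2 => ?_
  · refine hg a fun i => ?_
    refine TopCat.Presheaf.section_ext (Y i).sheaf ⊤ _ _ fun y hy => ?_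
    exact (ha ⟨i, y⟩).trans (map_zero ((Y i).presheaf.germ ⊤ y hy).hom).symm
  · exact Groth.Agent.FlatFamily.isFlatOverAt_pullback_of_comp f (g p.1) ((Y p.1).fromSpecStalk p.2) _ (hv p) F x'
      fun y hy _ => hflat p.1 y (hy.trans h1)

end Groth.Agent.S5918
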