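import Groth.Statements.S5922
import Mathlib
import Groth.Agent.RectDepth.CodepthBC
import Groth.Agent.S0386

set_option autoImplicit false
open CategoryTheory AlgebraicGeometry
universe u
open EGA43

namespace Groth.Agent.S5922

/-- Let f : X ⟶ Y be a morphism locally of finite presentation and n a natural number. The set of points
x of X such that f is flat at x and the local ring at x of the fibre of f through x has codepth at
most n, i.e. its Krull dimension is at most its depth plus n, is open in X. -/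
theorem result {X Y : Scheme.{u}} (f : X ⟶ Y) [LocallyOfFinitePresentation f]
    (n : ℕ) :
    IsOpen {x : X | (f.stalkMap x).hom.Flat ∧
      ringKrullDim ((f.fiber (f.base x)).presheaf.stalk (f.asFiber x)) ≤
        ((LocCoh.depth ((f.fiber (f.base x)).presheaf.stalk (f.asFiber x)) ((f.fiber (f.base x)).presheaf.stalk (f.asFiber x)) : ℕ∞) : WithBot ℕ∞) + n} := by
  let U : X.Opens := ⟨{z | (f.stalkMap z).hom.Flat}, Groth.Agent.S0386.result f⟩
  haveI : Flat (U.ι ≫ f) := by
    rw [Flat.iff_flat_stalkMap]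
    intro z
    rw [Scheme.Hom.stalkMap_comp]
    exact RingHom.Flat.comp (show (f.stalkMap (U.ι z)).hom.Flat from z.2)
      (RingHom.Flat.of_bijective (ConcreteCategory.bijective_of_isIso (U.ι.stalkMap z)))
  have h := U.ι.isOpenEmbedding.isOpenMap _ (RectDepth.isOpen_rCodepthLE (U.ι ≫ f) n)
  refine (congrArg IsOpen ?_).mp h
  ext x
  constructor
  · rintro ⟨z, hz, rfl⟩
    exact ⟨z.2, (RectDepth.rCodepthLE_iff f n _).1 ((RectDepth.rCodepthLE_comp_iff U.ι f z n).1 hz)⟩
  · rintro ⟨h1, h2⟩
    exact ⟨⟨x, h1⟩, (RectDepth.rCodepthLE_comp_iff U.ι f ⟨x, h1⟩ n).2 ((RectDepth.rCodepthLE_iff f n x).2 h2), rfl⟩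

end Groth.Agent.S5922
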