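import Groth.Statements.S5924
import Mathlib
import Groth.Agent.EquidimChart.Basic

set_option autoImplicit false
open CategoryTheory AlgebraicGeometry
universe u
open EGA43

namespace Groth.Agent.S5924

/-- Let Y be an irreducible locally Noetherian scheme, f : X ⟶ Y a morphism locally of finite type which
is equidimensional at the point x, and suppose that x is not a maximal point of its fibre f⁻¹(f x),
i.e. some point of the fibre other than x specializes to x. Then there exist an affine open
neighbourhood U of x and a section g of O_X over U such that g vanishes at x (x is not in the basic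
open set of g) while every maximal point of f⁻¹(f x) lying in U is in the basic open set of g. -/
theorem result {X Y : Scheme.{u}} [IrreducibleSpace Y]
    [IsLocallyNoetherian Y] (f : X ⟶ Y) [LocallyOfFiniteType f] (x : X) (hf : EGA43.IsEquidimAt f x)
    (hx : ∃ x' : X, f.base x' = f.base x ∧ x' ≠ x ∧ x ∈ closure ({x'} : Set X)) :
    ∃ U : X.Opens, IsAffineOpen U ∧ x ∈ U ∧ ∃ g : Γ(X, U), x ∉ X.basicOpen g ∧
      ∀ z : X, f.base z = f.base x → (∀ z' : X, f.base z' = f.base x → z ∈ closure ({z'} : Set X) → z' = z) →
        z ∈ U → z ∈ X.basicOpen g := by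
  classical
  haveI : IsLocallyNoetherian X := LocallyOfFiniteType.isLocallyNoetherian f
  obtain ⟨U, hU, hxU, -⟩ := exists_isAffineOpen_mem_and_subset (x := x) (U := (⊤ : X.Opens)) trivial
  haveI : IsNoetherianRing Γ(X, U) := IsLocallyNoetherian.component_noetherian ⟨U, hU⟩
  let A := Γ(X, U)
  let F : Set (PrimeSpectrum A) := {q | f (hU.fromSpec q) = f x ∧
    ∀ q' : PrimeSpectrum A, f (hU.fromSpec q') = f x → q' ⤳ q → q' = q}
  -- finitely many maximal points
  have hfin : F.Finite := by
    let g : PrimeSpectrum A → Y := fun q => f (hU.fromSpec q)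
    let T := {q : PrimeSpectrum A // g q = f x}
    have hgen : ∀ q ∈ F, ∀ hq : g q = f x, closure {(⟨q, hq⟩ : T)} ∈ irreducibleComponents T := by
      intro q hq hqT
      refine ⟨isIrreducible_singleton.closure, fun C hC hle => ?_⟩
      intro z hz
      -- the generic point of the closure of `C` in the spectrum lies in the fibre
      have hqC : (⟨q, hqT⟩ : T) ∈ C := hle (subset_closure rfl)
      let D := closure (Subtype.val '' C)
      have hD : IsIrreducible D := (hC.image _ continuous_subtype_val.continuousOn).closure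
      have hg := hD.isGenericPoint_genericPoint isClosed_closure
      have hη1 : hD.genericPoint ⤳ q := hg.specializes (subset_closure ⟨_, hqC, rfl⟩)
      have hgc : Continuous g := f.continuous.comp hU.fromSpec.continuous
      have hη2 : g hD.genericPoint = f x := by
        have h1 : g hD.genericPoint ⤳ f x := hqT ▸ hη1.map hgc
        have hclo : D ⊆ g ⁻¹' closure {f x} := by
          refine closure_minimal ?_ (isClosed_closure.preimage hgc)
          rintro _ ⟨a, _, rfl⟩
          exact subset_closure a.2
        exact (h1.antisymm (specializes_iff_mem_closure.2 (hclo hg.mem))).eq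
      have hηq := hq.2 _ hη2 hη1
      have hzq : q ⤳ z.1 := hηq ▸ hg.specializes (subset_closure ⟨z, hz, rfl⟩)
      exact specializes_iff_mem_closure.1 ((subtype_specializes_iff _ _).2 hzq)
    haveI : TopologicalSpace.NoetherianSpace T := Topology.IsInducing.noetherianSpace Topology.IsEmbedding.subtypeVal.isInducing
    have hcomp : (irreducibleComponents T).Finite := TopologicalSpace.NoetherianSpace.finite_irreducibleComponents
    refine Set.Finite.of_finite_image (f := fun q => Subtype.val '' (if hq : g q = f x then closure {(⟨q, hq⟩ : T)} else ∅))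
      ((hcomp.image (fun C => Subtype.val '' C)).subset ?_) ?_
    · rintro _ ⟨q, hq, rfl⟩
      refine ⟨_, hgen q hq hq.1, ?_⟩
      simp only [dif_pos (show g q = f x from hq.1)]
    · intro a ha b hb hab
      simp only [dif_pos (show g a = f x from ha.1), dif_pos (show g b = f x from hb.1)] at hab
      have h1 := Set.image_injective.2 Subtype.val_injective hab
      have h2 : (⟨b, hb.1⟩ : T) ⤳ ⟨a, ha.1⟩ := specializes_iff_mem_closure.2 (h1 ▸ subset_closure rfl)
      exact (ha.2 b hb.1 ((subtype_specializes_iff _ _).1 h2)).symm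
  let p := hU.primeIdealOf ⟨x, hxU⟩
  have hpx : hU.fromSpec p = x := hU.fromSpec_primeIdealOf _
  have hnle : ∀ q ∈ hfin.toFinset, ¬ p.asIdeal ≤ q.asIdeal := by
    intro q hq hle
    rw [Set.Finite.mem_toFinset] at hq
    have h1 := hq.2 p (by rw [hpx]) ((PrimeSpectrum.le_iff_specializes p q).1 hle)
    obtain ⟨x', hfx', hne, hx'⟩ := hx
    have hsp : x' ⤳ x := specializes_iff_mem_closure.2 hx'
    obtain ⟨q', hq'⟩ := hU.range_fromSpec.ge (hsp.mem_open U.2 hxU)
    subst h1
    refine hne ?_
    rw [← hq', ← hpx]
    congr 1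
    exact hq.2 q' (by rw [hq']; exact hfx') (hU.fromSpec.isOpenEmbedding.isInducing.specializes_iff.1 (by rw [hq', hpx]; exact hsp))
  obtain ⟨a, hap, ha⟩ : ∃ a ∈ p.asIdeal, ∀ q ∈ hfin.toFinset, a ∉ q.asIdeal := by
    by_contra hcon
    simp only [not_exists, not_and, not_forall, not_not] at hcon
    obtain ⟨q, hq, hle⟩ := (Ideal.subset_union_prime (f := fun q : PrimeSpectrum A => q.asIdeal) p p
      (fun q _ _ _ => q.2)).1 (show (p.asIdeal : Set A) ⊆ ⋃ q ∈ (hfin.toFinset : Set (PrimeSpectrum A)), (q.asIdeal : Set A) from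
        fun a ha => by
          obtain ⟨q, hq, hmem⟩ := hcon a ha
          exact Set.mem_biUnion (Finset.mem_coe.2 hq) hmem)
    exact hnle q hq hle
  have hbo : ∀ q : PrimeSpectrum A, hU.fromSpec q ∈ X.basicOpen a ↔ a ∉ q.asIdeal := by
    intro q
    show q ∈ hU.fromSpec ⁻¹ᵁ X.basicOpen a ↔ _
    rw [hU.fromSpec_preimage_basicOpen]
    exact Iff.rfl
  refine ⟨U, hU, hxU, a, fun h => (hbo p).1 (by rw [hpx]; exact h) hap, fun z hz hmax hzU => ?_⟩
  obtain ⟨q, rfl⟩ := hU.range_fromSpec.ge hzU
  refine (hbo q).2 (ha q (hfin.mem_toFinset.2 ⟨hz, fun q' hq' hsp => ?_⟩))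
  exact hU.fromSpec.isOpenEmbedding.injective
    (hmax _ hq' (specializes_iff_mem_closure.1 (hsp.map hU.fromSpec.continuous)))

end Groth.Agent.S5924
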