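import Groth.Statements.S5925
import Mathlib
import Groth.Agent.RectDepth.EquidimCodim
import Groth.Agent.EquidimChart.Comp
import Groth.Agent.FibreDimChart.Mono

set_option autoImplicit false
open CategoryTheory AlgebraicGeometry
universe u
open EGA43

namespace Groth.Agent.S5925

/-- Let Y be an irreducible locally Noetherian scheme, f : X ⟶ Y a morphism locally of finite type which
is equidimensional at the point x, y = f x and e = dim_x(f⁻¹(y)). Let g be a global section of O_X
vanishing at x whose zero set X' contains no maximal point of f⁻¹(y). Then X', with its reduced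
closed subscheme structure, is equidimensional over Y at x; dim_x(X' ∩ f⁻¹(y)) = e − 1; and every
irreducible component of X' containing x has codimension 1 in X, i.e. the local ring of X at its
generic point has Krull dimension 1. (Stated for a global section; the published statement takes g
on an affine open neighbourhood of x, to which this applies after restriction, and its codimension
assertion codim(X', X) = 1 is read for the components of X' through x: a component of the zero set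
not passing through x can be a whole irreducible component of X disjoint from the fibre, of
codimension 0.) -/
theorem result {X Y : Scheme.{u}} [IrreducibleSpace Y]
    [IsLocallyNoetherian Y] (f : X ⟶ Y) [LocallyOfFiniteType f] (x : X) (hf : EGA43.IsEquidimAt f x)
    (g : Γ(X, ⊤)) (hgx : x ∈ X.zeroLocus ({g} : Set Γ(X, ⊤)))
    (hmax : ∀ z : X, f.base z = f.base x → (∀ z' : X, f.base z' = f.base x → z ∈ closure ({z'} : Set X) → z' = z) →
      z ∉ X.zeroLocus ({g} : Set Γ(X, ⊤))) :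
    (∀ w : ↥(Scheme.IdealSheafData.vanishingIdeal ⟨X.zeroLocus ({g} : Set Γ(X, ⊤)), X.zeroLocus_isClosed _⟩).subscheme,
        (Scheme.IdealSheafData.vanishingIdeal ⟨X.zeroLocus ({g} : Set Γ(X, ⊤)), X.zeroLocus_isClosed _⟩).subschemeι.base w = x →
        EGA43.IsEquidimAt ((Scheme.IdealSheafData.vanishingIdeal ⟨X.zeroLocus ({g} : Set Γ(X, ⊤)), X.zeroLocus_isClosed _⟩).subschemeι ≫ f) w) ∧
      FlatMor.localDim ↥(X.zeroLocus ({g} : Set Γ(X, ⊤)) ∩ f.base ⁻¹' {f.base x}) ⟨x, ⟨hgx, rfl⟩⟩ + 1 = FlatMor.fibreDimAt f x ∧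
      ∀ Z ∈ irreducibleComponents ↥(X.zeroLocus ({g} : Set Γ(X, ⊤))), (⟨x, hgx⟩ : ↥(X.zeroLocus ({g} : Set Γ(X, ⊤)))) ∈ Z →
        ∀ ξ : ↥(X.zeroLocus ({g} : Set Γ(X, ⊤))), closure ({ξ} : Set ↥(X.zeroLocus ({g} : Set Γ(X, ⊤)))) = Z →
          ringKrullDim (X.presheaf.stalk (ξ : X)) = 1 := by
  classical
  obtain ⟨e, U, hxU, hcomp, -, hF⟩ := Groth.Agent.EquidimChart.data_of_isEquidimAt f hf
  let W : TopologicalSpace.Closeds X := ⟨X.zeroLocus ({g} : Set Γ(X, ⊤)), X.zeroLocus_isClosed _⟩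
  let I := Scheme.IdealSheafData.vanishingIdeal W
  let ι := I.subschemeι
  let g' := ι ≫ f
  have hι : Set.range ι = X.zeroLocus ({g} : Set Γ(X, ⊤)) := Groth.Agent.EquidimChart.range_subschemeι_vanishingIdeal W
  haveI : IsLocallyNoetherian X := LocallyOfFiniteType.isLocallyNoetherian f
  haveI : IsLocallyNoetherian I.subscheme := LocallyOfFiniteType.isLocallyNoetherian g'
  obtain ⟨w₀, hw₀⟩ : x ∈ Set.range ι := hι.symm ▸ hgx
  obtain ⟨zf, b, hzf, hzfmax, hzb, hb⟩ := Groth.Agent.EquidimChart.exists_fibreMax' g' w₀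
  -- the fibre of the zero locus is smaller
  have hbe : b + 1 ≤ e := by
    let z := ι (g'.fiberι (g' w₀) zf)
    have hzx : z ⤳ x := by
      have h1 := (hzf.map (g'.fiberι (g' w₀)).continuous).map ι.continuous
      rwa [Scheme.Hom.fiberι_asFiber, hw₀] at h1
    have hfz : f z = f x :=
      ((Scheme.Hom.range_fiberι g' (g' w₀)).le ⟨zf, rfl⟩ : _).trans (congrArg f hw₀)
    have hzU : z ∈ U := hzx.mem_open U.2 hxU
    have hzb' : Groth.Agent.DimTheory.mapTrdeg f z = b := by
      rw [← hzb, Groth.Agent.EquidimChart.mapTrdeg_component]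
    obtain ⟨b', hb1, hb'⟩ := Groth.Agent.EquidimChart.height_asFiber f z
    obtain rfl : b = b' := Nat.cast_injective (R := Cardinal.{u}) (hzb'.symm.trans hb1)
    have hadd := Groth.Agent.RectDepth.fibreDimAt_eq_add f z
    obtain ⟨ee⟩ := Groth.Agent.FlatLocalDepth.nonempty_asFiber_stalk_equiv f z
    let e' : (X.presheaf.stalk z ⧸ Groth.Agent.RectDepth.baseIdeal f z) ≃+* (f.fiber (f z)).presheaf.stalk (f.asFiber z) := ee
    rw [ringKrullDim_eq_of_ringEquiv e', ringKrullDim_stalk_eq_coheight, hF z hzU, hb',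
      ← WithBot.coe_add, ← WithBot.coe_natCast, WithBot.coe_inj] at hadd
    obtain ⟨c, hc⟩ := ENat.ne_top_iff_exists.1 (show Order.coheight (f.asFiber z) ≠ ⊤ from fun h => by
      rw [h, top_add] at hadd; exact ENat.natCast_ne_top e hadd)
    rw [← hc] at hadd
    have hcb : e = c + b := by exact_mod_cast hadd
    by_contra hlt
    have hc0 : Order.coheight (f.asFiber z) = 0 := by
      rw [← hc, show c = 0 by omega]; rfl
    have hfm := (Groth.Agent.EquidimChart.asFiber_max_iff f z).1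
      (fun w hw => ((Order.coheight_eq_zero.1 hc0 hw : w ≤ f.asFiber z) |> fun h => (hw.antisymm h).eq))
    refine hmax z hfz (fun z' hfz' hcl => hfm z' (specializes_iff_mem_closure.2 hcl) (hfz'.trans hfz.symm)) ?_
    exact hι.le ⟨_, rfl⟩
  -- maximal points of the zero locus through `x`
  have key : ∀ ξ : I.subscheme, ξ ⤳ w₀ → (∀ z, z ⤳ ξ → z = ξ) →
      Groth.Agent.DimTheory.mapTrdeg g' ξ = b ∧ b + 1 = e ∧ Order.coheight (ι ξ) = 1 ∧
        (∀ w : Y, w ⤳ g' ξ → w = g' ξ) := by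
    intro ξ hξ hξmax
    have hξx : ι ξ ⤳ x := hw₀ ▸ hξ.map ι.continuous
    have hξU : ι ξ ∈ U := hξx.mem_open U.2 hxU
    obtain ⟨a, ha, -⟩ := Groth.Agent.EquidimChart.height_asFiber g' ξ
    have hab : a ≤ b := Groth.Agent.EquidimChart.le_of_specializes g' hξ
      (fun z hz _ => hξmax z hz) ha (le_of_eq hb)
    have ha' : Groth.Agent.DimTheory.mapTrdeg f (ι ξ) = a := by
      rw [← ha, Groth.Agent.EquidimChart.mapTrdeg_component]
    have hco : Order.coheight (ι ξ) ≤ 1 := by
      refine Groth.Agent.RectDepth.coheight_le_one_of_zeroLocus g (hι.le ⟨ξ, rfl⟩) fun z hz hzg => ?_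
      obtain ⟨z₁, rfl⟩ := hι.ge hzg
      rw [hξmax z₁ (ι.isEmbedding.isInducing.specializes_iff.1 hz)]
    obtain ⟨h1, h2, h3⟩ := Groth.Agent.RectDepth.codim_data f (n := 1) (hF _ hξU)
      (fun ζ hζ hm => (hcomp ζ (hζ.mem_open U.2 hξU) hm).1) hco ha' (by omega)
    obtain rfl : a = b := by omega
    exact ⟨ha, h2, h1, h3⟩
  obtain ⟨ξ₀, hξ₀, hξ₀max⟩ := Groth.Agent.FlatMorLib.exists_maximal_generization w₀
  have hbeq : b + 1 = e := (key ξ₀ hξ₀ hξ₀max).2.1
  refine ⟨fun w hw => ?_, ?_, ?_⟩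
  · obtain rfl : w = w₀ := ι.isEmbedding.injective (hw.trans hw₀.symm)
    let O : I.subscheme.Opens := ⟨_, FibreDimChart.isOpen_fibreDimAt_le g' b⟩
    obtain ⟨U', hwU', hU'le, hU'⟩ := Groth.Agent.EquidimChart.exists_nbhd_max_specializes (U := O) (show w ∈ O from le_of_eq hb)
    refine Groth.Agent.EquidimChart.isEquidimAt_of_data g' w b U' hwU' (fun ξ hξU hξ => ?_) (fun y hy hymax => ?_)
    · refine ⟨(key ξ (hU' ξ hξU hξ) hξ).2.2.2, (hU' ξ hξU hξ).map g'.continuous⟩
    · obtain ⟨m, hm, -⟩ := Groth.Agent.EquidimChart.height_asFiber g' y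
      obtain ⟨ξ, hξy, hξmax⟩ := Groth.Agent.FlatMorLib.exists_maximal_generization y
      have hξU : ξ ∈ U' := hξy.mem_open U'.2 hy
      have hFy := Groth.Agent.EquidimChart.fibreDimAt_of_fibreMax g' hymax hm
      have h1 : b ≤ m := Groth.Agent.EquidimChart.le_of_specializes g' hξy (fun z hz _ => hξmax z hz)
        (key ξ (hU' ξ hξU hξmax) hξmax).1 (le_of_eq hFy)
      have h2 : FlatMor.fibreDimAt g' y ≤ (b : WithBot ℕ∞) := hU'le hy
      rw [hFy, Nat.cast_le] at h2
      rw [hm, show m = b by omega]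
  · refine (congrArg (· + 1) (Groth.Agent.EquidimChart.localDim_inter f W w₀ hw₀ rfl _)).trans ?_
    rw [hb, hF x hxU]
    exact_mod_cast hbeq
  · intro Z hZ hxZ ξ hξ
    obtain ⟨ξ₁, hξ₁⟩ : (ξ : X) ∈ Set.range ι := hι.symm ▸ ξ.2
    have hsp : ξ₁ ⤳ w₀ := by
      refine ι.isEmbedding.isInducing.specializes_iff.1 ?_
      rw [hξ₁, hw₀]
      exact subtype_specializes_iff _ _ |>.1 (specializes_iff_mem_closure.2 (hξ ▸ hxZ))
    have hmax₁ : ∀ z, z ⤳ ξ₁ → z = ξ₁ := by
      intro z hz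
      let z' : ↥(X.zeroLocus ({g} : Set Γ(X, ⊤))) := ⟨ι z, hι.le ⟨z, rfl⟩⟩
      have hz' : z' ⤳ ξ := (subtype_specializes_iff _ _).2 (hξ₁ ▸ hz.map ι.continuous)
      subst hξ
      have h2 := hZ.2 isIrreducible_singleton.closure hz'.closure_subset (subset_closure rfl)
      have h3 : ξ ⤳ z' := specializes_iff_mem_closure.2 h2
      refine (hz.antisymm (ι.isEmbedding.isInducing.specializes_iff.1 ?_)).eq
      rw [hξ₁]
      exact (subtype_specializes_iff _ _).1 h3
    rw [ringKrullDim_stalk_eq_coheight, ← hξ₁, (key ξ₁ hsp hmax₁).2.2.1]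
    rfl

end Groth.Agent.S5925
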