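import Groth.Statements.S5927
import Groth.Agent.Chevalley.SectionConst
import Mathlib

set_option autoImplicit false
open CategoryTheory AlgebraicGeometry
universe u
open EGA43

set_option backward.isDefEq.respectTransparency.types false
namespace Groth.Agent.S5927

open Groth.Agent


/-- Let Y be a locally Noetherian scheme, f : X ⟶ Y a morphism locally of finite type with a section g :
Y ⟶ X, X_y^0 the connected component of f⁻¹(y) containing g y, every X_y^0 geometrically irreducible
over κ(y), and y₀ a point of Y such that f is universally open at the generic point of X_{y₀}^0.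
Suppose moreover that either (α) the fibre f⁻¹(y₀) is geometrically reduced at g y₀, or (β) dim
f⁻¹(y') = dim X_{y'}^0 for the generic point y' of every irreducible component of Y containing y₀.
Then y ↦ dim X_y^0 is constant on a neighbourhood of y₀. -/
theorem result {X Y : Scheme.{u}} [IsLocallyNoetherian Y] (f : X ⟶ Y)
    [LocallyOfFiniteType f] (g : Y ⟶ X) (hg : g ≫ f = 𝟙 Y)
    (hirr : ∀ y : Y, (∀ (K : Type u) [Field K] [Algebra (IsLocalRing.ResidueField (Y.presheaf.stalk y)) K],
        IsIrreducible ((FBase.bcπ (f.fiberToSpecResidueField y) K ≫ f.fiberι y).base ⁻¹' connectedComponentIn (f.base ⁻¹' {y}) (g.base y))))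
    (y₀ : Y) (hopen : ∀ ξ ∈ connectedComponentIn (f.base ⁻¹' {y₀}) (g.base y₀), connectedComponentIn (f.base ⁻¹' {y₀}) (g.base y₀) ⊆ closure {ξ} → EGA43.IsUnivOpenAt f ξ)
    (hαβ : FBase.IsGeomReducedAt (f.fiberToSpecResidueField (f.base (g.base y₀))) (f.asFiber (g.base y₀)) ∨
      (∀ y' : Y, y₀ ∈ closure {y'} → closure {y'} ∈ irreducibleComponents (Y : Type u) →
        topologicalKrullDim ↥(f.fiber y') = topologicalKrullDim ↥(connectedComponentIn (f.base ⁻¹' {y'}) (g.base y')))) :
    (∃ V ∈ nhds y₀, ∀ z ∈ V, topologicalKrullDim ↥(connectedComponentIn (f.base ⁻¹' {z}) (g.base z)) = topologicalKrullDim ↥(connectedComponentIn (f.base ⁻¹' {y₀}) (g.base y₀))) := by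
  have hirr' : ∀ z : Y, IsIrreducible (connectedComponentIn (f.base ⁻¹' {z}) (g.base z)) := fun z =>
    Chevalley.isIrreducible_of_geom f (connectedComponentIn_subset _ _) (hirr z)
  refine Chevalley.eventually_dim_eq f g hg hirr' y₀ fun y' hy => ?_
  rcases hαβ with hα | hβ
  · exact Chevalley.dim_component_le_generization f g hg hirr hopen
      (Chevalley.redAlong_of_isGeomReducedAt f g (by rw [← Scheme.Hom.comp_apply, hg]; rfl) hα) hy
  · obtain ⟨y'', hy'', hmax⟩ := FlatMorLib.exists_maximal_generization y'
    refine ((Chevalley.dim_component_le_fibre f g hg (hirr' y₀) hopen (hy''.trans hy)).trans_eq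
      (hβ y'' (specializes_iff_mem_closure.1 (hy''.trans hy))
        (FlatDim.closure_mem_irreducibleComponents fun w hw => hmax w hw))).trans ?_
    exact (Chevalley.dim_component_le_of_irreducible f g hg hirr' hy'').1

end Groth.Agent.S5927
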