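import Groth.Statements.S5929
import Mathlib
import Groth.Agent.FlatFibrePD.Basic

set_option autoImplicit false
universe u
open TensorProduct CategoryTheory
open EGA43

namespace Groth.Agent.S5929

open Groth.Agent.FlatFibrePD CategoryTheory

section
variable (A : Type u) {B : Type u} [CommRing A] [CommRing B] [Algebra A B]

/-- finitely presented and flat over the base -/
def Good (N : ModuleCat.{u} B) : Prop :=
  Module.FinitePresentation B N ∧ ∀ [Module A N] [IsScalarTower A B N], Module.Flat A N

theorem flat_unique (X : Type u) [AddCommGroup X] [Module B X] {iX : Module A X}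
    (hflat : @Module.Flat A X _ _ iX) (hX : letI := iX; IsScalarTower A B X) (i : Module A X)
    (h : ∀ (a : A) (x : X), ((a • (1 : B)) • x : X) = i.toSMul.smul a ((1 : B) • x)) :
    @Module.Flat A X _ _ i := by
  have he : i = iX := Module.ext' _ _ fun a x => by
    have h1 := h a x
    rw [one_smul] at h1
    refine h1.symm.trans ?_
    have h2 := hX.smul_assoc a (1 : B) x
    rw [one_smul] at h2
    exact h2
  rw [he]
  exact hflat

theorem exists_cover [Algebra.FinitePresentation A B] [Module.Flat A B] (N : ModuleCat.{u} B) :
    ∃ (r : ℕ) (π : (Fin r → B) →ₗ[B] N), Good A N → Function.Surjective π ∧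
      Good A (ModuleCat.of B (LinearMap.ker π)) := by
  by_cases h : Good A N
  · let : Module A N := Module.compHom N (algebraMap A B)
    have : IsScalarTower A B N := IsScalarTower.of_compHom A B N
    have := h.1
    have : Module.Flat A N := @h.2 _ _
    obtain ⟨r, π, hπ, hfp, hfl⟩ := exists_step A B (M := N)
    have ht : IsScalarTower A B (LinearMap.ker π) := inferInstance
    refine ⟨r, π, fun _ => ⟨hπ, hfp, @fun i1 i2 => ?_⟩⟩
    exact flat_unique A (B := B) (LinearMap.ker π) hfl ht i1 fun a x => i2.smul_assoc a 1 x
  · exact ⟨0, 0, fun h' => absurd h' h⟩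

variable [Algebra.FinitePresentation A B] [Module.Flat A B]

/-- rank of the chosen cover -/
noncomputable def rk (N : ModuleCat.{u} B) : ℕ := (exists_cover A N).choose

/-- chosen cover -/
noncomputable def cov (N : ModuleCat.{u} B) : (Fin (rk A N) → B) →ₗ[B] N :=
  (exists_cover A N).choose_spec.choose

/-- syzygies -/
noncomputable def syz (M : ModuleCat.{u} B) : ℕ → ModuleCat.{u} B
  | 0 => M
  | n + 1 => ModuleCat.of B (LinearMap.ker (cov A (syz M n)))

theorem syz_good (M : ModuleCat.{u} B) (hM : Good A M) : ∀ n, Good A (syz A M n)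
  | 0 => hM
  | n + 1 => ((exists_cover A (syz A M n)).choose_spec.choose_spec (syz_good M hM n)).2

theorem cov_surjective (M : ModuleCat.{u} B) (hM : Good A M) (n : ℕ) :
    Function.Surjective (cov A (syz A M n)) :=
  ((exists_cover A (syz A M n)).choose_spec.choose_spec (syz_good A M hM n)).1

/-- the differential -/
noncomputable def dd (M : ModuleCat.{u} B) (n : ℕ) :
    ModuleCat.of B (Fin (rk A (syz A M (n + 1))) → B) ⟶ ModuleCat.of B (Fin (rk A (syz A M n)) → B) :=
  ModuleCat.ofHom ((LinearMap.ker (cov A (syz A M n))).subtype ∘ₗ cov A (syz A M (n + 1)))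

theorem exact_dd (M : ModuleCat.{u} B) (hM : Good A M) (n : ℕ) :
    Function.Exact (dd A M (n + 1)).hom (dd A M n).hom := by
  intro x
  constructor
  · intro hx
    have hx' : cov A (syz A M (n + 1)) x = 0 := Subtype.ext hx
    obtain ⟨y, hy⟩ := cov_surjective A M hM (n + 2) ⟨x, hx'⟩
    exact ⟨y, congrArg Subtype.val hy⟩
  · rintro ⟨y, rfl⟩
    have : cov A (syz A M (n + 1)) ((dd A M (n + 1)).hom y) = 0 :=
      (cov A (syz A M (n + 2)) y).2
    exact congrArg Subtype.val this

theorem dd_comp (M : ModuleCat.{u} B) (n : ℕ) : dd A M (n + 1) ≫ dd A M n = 0 := by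
  refine ModuleCat.hom_ext (LinearMap.ext fun y => ?_)
  have : cov A (syz A M (n + 1)) ((dd A M (n + 1)).hom y) = 0 :=
    (cov A (syz A M (n + 2)) y).2
  exact congrArg Subtype.val this

end

/-- Let A be a commutative ring, B a finitely presented A-algebra which is flat as an A-module, and M a
finitely presented B-module which is flat as an A-module. Then M admits a left resolution by free
B-modules of finite type: there is a projective resolution of M in the category of B-modules (a
chain complex of projective modules with a quasi-isomorphism to M in degree 0) every term of which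
is a finitely generated free B-module. -/
theorem result (A B M : Type u) [CommRing A] [CommRing B] [Algebra A B]
    [Algebra.FinitePresentation A B] [Module.Flat A B] [AddCommGroup M] [Module B M] [Module A M]
    [IsScalarTower A B M] [Module.FinitePresentation B M] [Module.Flat A M] :
    ∃ P : ProjectiveResolution (ModuleCat.of B M),
      ∀ n : ℕ, Module.Finite B (P.complex.X n) ∧ Module.Free B (P.complex.X n) := by
  let M' := ModuleCat.of B M
  have hfl : Module.Flat A M := inferInstance
  have ht : IsScalarTower A B M := inferInstance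
  have hM : Good A M' := ⟨inferInstanceAs (Module.FinitePresentation B M), @fun i1 i2 =>
    flat_unique A (B := B) M hfl ht i1 fun a x => i2.smul_assoc a 1 x⟩
  let C := ChainComplex.of (fun n => ModuleCat.of B (Fin (rk A (syz A M' n)) → B)) (dd A M') (dd_comp A M')
  have hproj : ∀ n, Projective (C.X n) := fun n =>
    (IsProjective.iff_projective (R := B) (Fin (rk A (syz A M' n)) → B)).1 inferInstance
  have hcov : C.d 1 0 ≫ ModuleCat.ofHom (cov A (syz A M' 0)) = 0 := by
    rw [show C.d 1 0 = dd A M' 0 from ChainComplex.of_d (fun n => ModuleCat.of B (Fin (rk A (syz A M' n)) → B)) (dd A M') 0]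
    refine ModuleCat.hom_ext (LinearMap.ext fun y => ?_)
    exact (cov A (syz A M' 1) y).2
  refine ⟨{ complex := C
            projective := hproj
            π := (ChainComplex.toSingle₀Equiv _ _).symm ⟨ModuleCat.ofHom (cov A (syz A M' 0)), hcov⟩
            quasiIso := ⟨fun n => ?_⟩ }, fun n =>
    ⟨(inferInstance : Module.Finite B (Fin (rk A (syz A M' n)) → B)),
      (inferInstance : Module.Free B (Fin (rk A (syz A M' n)) → B))⟩⟩
  cases n
  · rw [ChainComplex.quasiIsoAt₀_iff, ShortComplex.quasiIso_iff_of_zeros']
    · have hex : (ShortComplex.mk (C.d 1 0) (ModuleCat.ofHom (cov A (syz A M' 0))) hcov).Exact ∧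
          Epi (ModuleCat.ofHom (cov A (syz A M' 0))) := by
        refine ⟨(ShortComplex.ShortExact.moduleCat_exact_iff_function_exact _).2 ?_,
          (ModuleCat.epi_iff_surjective _).2 (cov_surjective A M' hM 0)⟩
        show Function.Exact (C.d 1 0).hom (cov A (syz A M' 0))
        rw [show C.d 1 0 = dd A M' 0 from ChainComplex.of_d (fun n => ModuleCat.of B (Fin (rk A (syz A M' n)) → B)) (dd A M') 0]
        intro x
        refine ⟨fun hx => ?_, ?_⟩
        · obtain ⟨y, hy⟩ := cov_surjective A M' hM 1 ⟨x, hx⟩
          exact ⟨y, congrArg Subtype.val hy⟩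
        · rintro ⟨y, rfl⟩
          exact (cov A (syz A M' 1) y).2
      refine (ShortComplex.exact_and_epi_g_iff_of_iso ?_).2 hex
      exact ShortComplex.isoMk (Iso.refl _) (Iso.refl _) (Iso.refl _) ((Category.id_comp _).trans (Category.comp_id _).symm) ((Category.id_comp _).trans (Category.comp_id _).symm)
    all_goals rfl
  · rename_i n
    rw [quasiIsoAt_iff_exactAt']
    · rw [HomologicalComplex.exactAt_iff' _ (n + 1 + 1) (n + 1) n (by simp) (by simp),
        ShortComplex.ShortExact.moduleCat_exact_iff_function_exact]
      show Function.Exact (C.d (n + 1 + 1) (n + 1)).hom (C.d (n + 1) n).hom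
      rw [show C.d (n + 1 + 1) (n + 1) = dd A M' (n + 1) from ChainComplex.of_d (fun n => ModuleCat.of B (Fin (rk A (syz A M' n)) → B)) (dd A M') (n + 1),
        show C.d (n + 1) n = dd A M' n from ChainComplex.of_d (fun n => ModuleCat.of B (Fin (rk A (syz A M' n)) → B)) (dd A M') n]
      exact exact_dd A M' hM n
    · apply ChainComplex.exactAt_succ_single_obj

end Groth.Agent.S5929
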