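import Groth.Statements.S5934
import Mathlib
import Groth.Agent.SmoothPt.Basic

set_option autoImplicit false
open CategoryTheory AlgebraicGeometry
universe u
open EGA43

namespace Groth.Agent.S5934

open Groth.Agent
set_option backward.isDefEq.respectTransparency.types false

/-- Let f : X ⟶ Y be a proper, flat morphism of finite presentation. The set of points y of Y whose
fibre X_y is geometrically regular, i.e. smooth over the residue field κ(y), is open in Y. -/
theorem result {X Y : Scheme.{u}} (f : X ⟶ Y) [IsProper f] [Flat f]
    [LocallyOfFinitePresentation f] :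
    IsOpen {y : Y | Smooth (f.fiberToSpecResidueField y)} := by
  haveI hl : ∀ y, LocallyOfFinitePresentation (f.fiberToSpecResidueField y) := fun y =>
    inferInstanceAs (LocallyOfFinitePresentation (Limits.pullback.snd f _))
  have key : ∀ y : Y, Smooth (f.fiberToSpecResidueField y) ↔ ∀ x : X, f x = y → x ∈ f.smoothLocus := by
    intro y
    rw [← Scheme.Hom.smoothLocus_eq_top_iff]
    constructor
    · intro h x hx
      subst hx
      exact (SmoothPt.mem_smoothLocus_iff f).2 ⟨Flat.stalkMap f x, by rw [h]; trivial⟩
    · intro h
      refine top_unique fun w _ => ?_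
      have hw : f (f.fiberι y w) = y := (Scheme.Hom.range_fiberι f y).le ⟨w, rfl⟩
      have h1 := ((SmoothPt.mem_smoothLocus_iff f).1 (h _ hw)).2
      have aux : ∀ (y' : Y) (_ : y' = y) (x : X) (hx : f x = y'), f.fiberι y w = x →
          f.asFiber x ∈ (f.fiberToSpecResidueField (f x)).smoothLocus → w ∈ (f.fiberToSpecResidueField y).smoothLocus := by
        intro y' hy' x hx hwx hmem
        subst hy'
        subst hx
        have : w = f.asFiber x := (f.fiberι (f x)).isEmbedding.injective (by rw [hwx, f.fiberι_asFiber])
        rw [this]
        exact hmem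
      exact aux _ hw _ rfl rfl h1
  have hc : IsClosed (f '' (f.smoothLocus : Set X)ᶜ) := f.isClosedMap _ f.smoothLocus.isOpen.isClosed_compl
  convert hc.isOpen_compl using 1
  ext y
  rw [Set.mem_setOf_eq, key, Set.mem_compl_iff, Set.mem_image]
  constructor
  · rintro h ⟨x, hx, hxy⟩
    exact hx (h x hxy)
  · intro h x hxy
    by_contra hc
    exact h ⟨x, hc, hxy⟩

end Groth.Agent.S5934
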