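import Groth.Statements.S5939
import Mathlib.AlgebraicGeometry.Morphisms.QuasiSeparated


set_option autoImplicit false
universe u
open CategoryTheory AlgebraicGeometry
open Unram17

namespace Groth.Agent.S5939

/-- Let f : X ⟶ Y be faithfully flat, locally of finite presentation and quasi-compact, and let g : Y ⟶
Z be a morphism such that f ≫ g is of finite presentation (locally of finite presentation,
quasi-compact and quasi-separated). Then g is quasi-compact and quasi-separated; together with the
descent of local finite presentation along f this says that g is of finite presentation. This is the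
case f quasi-compact. -/
theorem result {X Y Z : Scheme.{u}} (f : X ⟶ Y) (g : Y ⟶ Z)
    [Surjective f] [Flat f] [LocallyOfFinitePresentation f] [QuasiCompact f]
    [LocallyOfFinitePresentation (f ≫ g)] [QuasiCompact (f ≫ g)] [QuasiSeparated (f ≫ g)] :
    QuasiCompact g ∧ QuasiSeparated g := by
  have key : ∀ {A B C : Scheme.{u}} (a : A ⟶ B) (b : B ⟶ C), Function.Surjective a → QuasiCompact (a ≫ b) → QuasiCompact b := by
    intro A B C a b ha hab
    refine ⟨fun U hU hU' => ?_⟩
    have h : b ⁻¹' U = a '' ((a ≫ b) ⁻¹' U) := by
      rw [Scheme.Hom.comp_base, TopCat.coe_comp, Set.preimage_comp, Set.image_preimage_eq _ ha]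
    rw [h]
    exact (hab.isCompact_preimage U hU hU').image a.continuous
  have hf : Function.Surjective f := f.surjective
  refine ⟨key f g hf inferInstance, ⟨key f _ hf ?_⟩⟩
  let m : Limits.pullback (f ≫ g) (f ≫ g) ⟶ Limits.pullback g g :=
    Limits.pullback.map _ _ _ _ f f (𝟙 Z) (by simp) (by simp)
  have h : f ≫ Limits.pullback.diagonal g = Limits.pullback.diagonal (f ≫ g) ≫ m := by
    apply Limits.pullback.hom_ext <;> (simp only [m, Limits.pullback.map, Limits.pullback.diagonal, Category.assoc, Limits.pullback.lift_fst, Limits.pullback.lift_snd, Limits.pullback.lift_fst_assoc, Limits.pullback.lift_snd_assoc, Category.comp_id, Category.id_comp])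
  have hm : QuasiCompact m :=
    MorphismProperty.pullbackMap (P := @QuasiCompact) (f' := g) (g' := g) inferInstance inferInstance rfl rfl
  rw [h]
  have := hm
  have : QuasiCompact (Limits.pullback.diagonal (f ≫ g)) := QuasiSeparated.quasiCompact_diagonal
  infer_instance

end Groth.Agent.S5939
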