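import Groth.Statements.S5950
import Groth.Agent.S5949


set_option autoImplicit false
set_option backward.isDefEq.respectTransparency false
universe u
open CategoryTheory AlgebraicGeometry
open Unram17

namespace Groth.Agent.S5950
section Pre
open Groth.Agent

variable {X : Scheme.{u}} [IsIntegral X] [QuasiCompact (X.fromSpecStalk (genericPoint ↥X))]
  [QuasiSeparated (X.fromSpecStalk (genericPoint ↥X))]

theorem isIso_restrict_of_normal (V : X.Opens) (hV : ∀ x ∈ V, IsIntegrallyClosed (X.presheaf.stalk x)) :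
    IsIso (Curv2.normalizationι X ∣_ V) := by
  let ν := Curv2.normalizationι X
  have hVn : Pi1.IsNormalScheme (V : Scheme.{u}) := fun z => by
    let r := (V.stalkIso z).commRingCatIsoToRingEquiv
    haveI := hV z.1 z.2
    exact ⟨MulEquiv.isDomain _ r.toMulEquiv, IsIntegrallyClosed.of_equiv r.symm⟩
  have hVg : S9690.Good V.ι := fun z =>
    ⟨(hVn z).1, (ConcreteCategory.bijective_of_isIso (V.ι.stalkMap z)).injective⟩
  obtain ⟨s, hs⟩ := S9690.exists_lift V.ι hVg hVn
  have hr : Set.range s ⊆ Set.range (ν ⁻¹ᵁ V).ι := by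
    rintro _ ⟨z, rfl⟩
    rw [Scheme.Opens.range_ι]
    show (s ≫ ν) z ∈ V
    rw [hs]
    exact z.2
  let s' := IsOpenImmersion.lift (ν ⁻¹ᵁ V).ι s hr
  have hs' : s' ≫ (ν ⁻¹ᵁ V).ι = s := IsOpenImmersion.lift_fac _ _ _
  haveI := NormDim1.instIsIntegral X
  have hνg : S9690.Good ν := S5949.good_of_irreducible S5949.isNormal_normalization
    (EGA2Curve.fromNormalization_genericPoint (NormDim1.hg X))
  refine ⟨s', ?_, ?_⟩
  · rw [← cancel_mono (ν ⁻¹ᵁ V).ι, Category.assoc, hs', Category.id_comp]
    exact S9690.lift_unique (hνg.comp (ν ⁻¹ᵁ V).ι) _ _ (by rw [Category.assoc, hs, morphismRestrict_ι]) rfl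
  · rw [← cancel_mono V.ι, Category.assoc, morphismRestrict_ι, ← Category.assoc, hs', Category.id_comp]
    exact hs

end Pre

/-- Let X be an integral scheme which has a nonempty (hence dense) open subset at whose points the local
rings are integrally closed, let X' ⟶ X be its normalization, and let f : Y ⟶ X be a morphism of
schemes. Then there is an isomorphism Y ≅ X' over X if and only if: every local ring of Y is an
integrally closed domain, f is an integral morphism, and there is a dense open subset U of X whose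
preimage is dense in Y and such that the restriction f⁻¹(U) ⟶ U of f is an isomorphism. (The
published statement allows X reduced with locally finitely many irreducible components and a dense
normal open subset; this row states the case of an integral X. The quasi-compactness and
quasi-separatedness binders on the generic point always hold and only serve to form the
normalization.) -/
theorem result (X : Scheme.{u}) [IsIntegral X]
    [QuasiCompact (X.fromSpecStalk (genericPoint X))] [QuasiSeparated (X.fromSpecStalk (genericPoint X))]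
    (hV : ∃ V : X.Opens, (V : Set ↥X).Nonempty ∧ ∀ x ∈ V, IsIntegrallyClosed (X.presheaf.stalk x))
    {Y : Scheme.{u}} (f : Y ⟶ X) :
    (∃ e : Y ≅ Curv2.normalization X, e.hom ≫ Curv2.normalizationι X = f) ↔
      Pi1.IsNormalScheme Y ∧ IsIntegralHom f ∧
        ∃ U : X.Opens, Dense (U : Set ↥X) ∧ Dense ((f ⁻¹ᵁ U : Y.Opens) : Set ↥Y) ∧ IsIso (f ∣_ U) := by
  constructor
  · rintro ⟨e, he⟩
    obtain ⟨hY, hint, hirr, hp, -⟩ := (Groth.Agent.S5949.result X f).1 ⟨e, he⟩
    obtain ⟨V, hVne, hV⟩ := hV
    refine ⟨hY, hint, V, V.2.dense hVne, ?_, ?_⟩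
    · refine (f ⁻¹ᵁ V).2.dense ⟨genericPoint Y, ?_⟩
      show f (genericPoint Y) ∈ V
      rw [show f (genericPoint Y) = genericPoint X from (Set.ext_iff.1 hp (genericPoint Y)).2 rfl]
      exact ((genericPoint_spec X).mem_open_set_iff V.2).2 (by rwa [Set.univ_inter])
    · haveI := isIso_restrict_of_normal V hV
      rw [← he, morphismRestrict_comp]
      infer_instance
  · rintro ⟨hY, hint, U, hU, hU', hiso⟩
    refine (Groth.Agent.S5949.result X f).2 ⟨hY, hint, ?_⟩
    have hηU : genericPoint X ∈ U := ((genericPoint_spec X).mem_open_set_iff U.2).2 (by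
      rw [Set.univ_inter]; exact hU.nonempty)
    haveI : Nonempty U := ⟨⟨_, hηU⟩⟩
    haveI : Nonempty (f ⁻¹ᵁ U) := ⟨(inv (f ∣_ U)) ⟨genericPoint X, hηU⟩⟩
    haveI : IsIntegral (f ⁻¹ᵁ U : Scheme.{u}) := isIntegral_of_isOpenImmersion (f ∣_ U)
    have hirr : IsIrreducible (Set.univ : Set Y) := by
      have h := ((IrreducibleSpace.isIrreducible_univ ↥(f ⁻¹ᵁ U : Scheme.{u})).image (f ⁻¹ᵁ U).ι
        (f ⁻¹ᵁ U).ι.continuous.continuousOn).closure
      rw [Set.image_univ, Scheme.Opens.range_ι, hU'.closure_eq] at h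
      exact h
    haveI : IrreducibleSpace Y := (irreducibleSpace_def Y).mpr hirr
    obtain ⟨y0, hy0⟩ : ∃ y0 : (f ⁻¹ᵁ U : Scheme.{u}), (f ∣_ U) y0 = ⟨genericPoint X, hηU⟩ :=
      ⟨(inv (f ∣_ U)) ⟨genericPoint X, hηU⟩, by rw [← Scheme.Hom.comp_apply, IsIso.inv_hom_id]; rfl⟩
    have hfy0 : f y0.1 = genericPoint X := by
      rw [← morphismRestrict_base_coe, hy0]
    have hgen : f (genericPoint Y) = genericPoint X := Groth.Agent.FlatDim.eq_genericPoint fun w hw => by
      have h1 : f (genericPoint Y) ⤳ genericPoint X := hfy0 ▸ (genericPoint_specializes y0.1).map f.continuous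
      exact (hw.antisymm (h1.trans (genericPoint_specializes w))).eq
    have hmem : ∀ y, f y = genericPoint X → y ∈ f ⁻¹ᵁ U := fun y hy => show f y ∈ U by rw [hy]; exact hηU
    refine ⟨inferInstance, ?_, ?_⟩
    · ext y
      refine ⟨fun hy => ?_, fun hy => hy ▸ hgen⟩
      have h2 : (f ∣_ U) ⟨y, hmem y hy⟩ = (f ∣_ U) ⟨genericPoint Y, hmem _ hgen⟩ := Subtype.ext (by
        rw [morphismRestrict_base_coe, morphismRestrict_base_coe]; exact hy.trans hgen.symm)
      exact congrArg Subtype.val ((f ∣_ U).isOpenEmbedding.injective h2)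
    · exact ((MorphismProperty.isomorphisms CommRingCat).arrow_iso_iff
        (morphismRestrictStalkMap f U ⟨genericPoint Y, hmem _ hgen⟩)).1 (show IsIso ((f ∣_ U).stalkMap _) from inferInstance)

end Groth.Agent.S5950
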