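import Groth.Statements.S5993
import Groth.Agent.CTensorLib.Flat
import Groth.Agent.CplFin.Basic
import Groth.Agent.FlatLocalDepth.Basic


set_option autoImplicit false
set_option backward.isDefEq.respectTransparency false
universe u
open scoped TensorProduct
open EGA418

namespace Groth.Agent.S5993

section Pre

open IsLocalRing TensorProduct Polynomial

theorem exists_idem_lift {C : Type u} [CommRing C] (J : Ideal C) [HenselianRing C J] (b : C)
    (hb : b * b - b ∈ J) : ∃ e : C, IsIdempotentElem e ∧ e - b ∈ J := by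
  have hmk : Ideal.Quotient.mk J (b * b - b) = 0 := Ideal.Quotient.eq_zero_iff_mem.2 hb
  obtain ⟨e, he, heb⟩ := HenselianRing.is_henselian (R := C) (I := J) (X ^ 2 - X)
    (monic_X_pow_sub (degree_X_le.trans_lt (by norm_num))) b
    (by simpa [pow_two] using hb)
    (by
      refine IsUnit.of_mul_eq_one (Ideal.Quotient.mk J (2 * b - 1)) ?_
      simp only [derivative_sub, derivative_X_pow, derivative_X, eval_sub, eval_mul, eval_C, eval_pow, eval_X,
        eval_one, Nat.cast_ofNat, Nat.add_one_sub_one, pow_one]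
      rw [← map_mul, show (2 * b - 1) * (2 * b - 1) = 4 * (b * b - b) + 1 by ring, map_add, map_mul, hmk,
        mul_zero, zero_add, map_one])
  refine ⟨e, ?_, heb⟩
  have : e ^ 2 - e = 0 := by simpa [IsRoot] using he
  rwa [pow_two, sub_eq_zero] at this

theorem exists_idem_artinian {Q : Type u} [CommRing Q] [IsArtinianRing Q] (M : Ideal Q) [hM : M.IsMaximal] :
    ∃ e : Q, IsIdempotentElem e ∧ e ∉ M ∧ ∀ N : Ideal Q, N.IsMaximal → N ≠ M → e ∈ N := by
  classical
  let s : Finset (Ideal Q) := (IsArtinianRing.setOfPred_isMaximal_finite Q).toFinset.erase M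
  obtain ⟨x, hx, hxM⟩ := SetLike.not_le_iff_exists.1 (fun h : s.inf id ≤ M => by
    obtain ⟨N, hN, hNM⟩ := (Ideal.IsPrime.inf_le' hM.isPrime).1 h
    obtain ⟨hne, hN⟩ := Finset.mem_erase.1 hN
    have hNmax : N.IsMaximal := (Set.Finite.mem_toFinset _).1 hN
    exact hne (hNmax.eq_of_le hM.ne_top hNM))
  obtain ⟨n, y, hy⟩ := IsArtinian.exists_pow_succ_smul_dvd (R := Q) x (1 : Q)
  have hy' : x ^ (n + 1) * y = x ^ n := by simpa using hy
  have hk : ∀ j, x ^ (n + j) * y ^ j = x ^ n := by
    intro j
    induction j with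
    | zero => simp
    | succ j ih => rw [show n + (j + 1) = (n + 1) + j by omega, pow_add, pow_succ y,
        show x ^ (n + 1) * x ^ j * (y ^ j * y) = (x ^ (n + 1) * y) * (x ^ j * y ^ j) by ring, hy', ← mul_assoc,
        ← pow_add, ih]
  obtain ⟨j, hj⟩ : ∃ j, j = n + 1 := ⟨n + 1, rfl⟩
  refine ⟨x ^ j * y ^ j, ?_, ?_, fun N hN hne => ?_⟩
  · show x ^ j * y ^ j * (x ^ j * y ^ j) = x ^ j * y ^ j
    subst hj
    calc x ^ (n + 1) * y ^ (n + 1) * (x ^ (n + 1) * y ^ (n + 1))
        = (x ^ (n + (n + 1)) * y ^ (n + 1)) * (x * y ^ (n + 1)) := by ring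
      _ = x ^ (n + 1) * y ^ (n + 1) := by rw [hk]; ring
  · intro he
    have h1 : x ^ n * (x ^ j * y ^ j) = x ^ n := by rw [← mul_assoc, ← pow_add, hk]
    exact hxM (hM.isPrime.mem_of_pow_mem n (h1 ▸ M.mul_mem_left _ he))
  · refine N.mul_mem_right _ (N.pow_mem_of_mem ?_ j (by omega))
    exact (Finset.inf_le (Finset.mem_erase.2 ⟨hne, (Set.Finite.mem_toFinset _).2 hN⟩) : s.inf id ≤ N) hx

/-- Local rings of a complete Noetherian semilocal ring. -/
theorem localization_complete {C : Type u} [CommRing C] [IsNoetherianRing C] (J : Ideal C) [IsAdicComplete J C]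
    [IsArtinianRing (C ⧸ J)] (M : Ideal C) [hM : M.IsMaximal] :
    Function.Surjective (algebraMap C (Localization.AtPrime M)) ∧
      IsAdicComplete (maximalIdeal (Localization.AtPrime M)) (Localization.AtPrime M) := by
  have hJ : ∀ N : Ideal C, N.IsMaximal → J ≤ N := fun N hN =>
    (IsAdicComplete.le_jacobson_bot J).trans (sInf_le ⟨bot_le, hN⟩)
  have hmk : ∀ N : Ideal C, N.IsMaximal → (N.map (Ideal.Quotient.mk J)).IsMaximal ∧
      (N.map (Ideal.Quotient.mk J)).comap (Ideal.Quotient.mk J) = N := fun N hN =>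
    ⟨Ideal.IsMaximal.map_of_surjective_of_ker_le Ideal.Quotient.mk_surjective (by rw [Ideal.mk_ker]; exact hJ N hN),
      by rw [Ideal.comap_map_quotientMk, sup_eq_right.2 (hJ N hN)]⟩
  haveI := (hmk M hM).1
  obtain ⟨e₀, he₀, he₀M, he₀N⟩ := exists_idem_artinian (M.map (Ideal.Quotient.mk J))
  obtain ⟨b, rfl⟩ := Ideal.Quotient.mk_surjective e₀
  obtain ⟨e, he, heb⟩ := exists_idem_lift J b (Ideal.Quotient.eq.1 ((map_mul _ _ _).trans he₀))
  have heq : Ideal.Quotient.mk J e = Ideal.Quotient.mk J b := Ideal.Quotient.eq.2 heb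
  have heM : e ∉ M := fun h => he₀M (heq ▸ Ideal.mem_map_of_mem _ h)
  have heN : ∀ N : Ideal C, N.IsMaximal → N ≠ M → e ∈ N := fun N hN hne => by
    have := he₀N _ (hmk N hN).1 fun h => hne (by rw [← (hmk N hN).2, h, (hmk M hM).2])
    rw [← (hmk N hN).2, Ideal.mem_comap, heq]
    exact this
  let L := Localization.AtPrime M
  have hunit : ∀ s ∈ M.primeCompl, IsUnit (Ideal.Quotient.mk (Ideal.span {1 - e}) s) := by
    intro s hs
    have htop : Ideal.span {s} ⊔ Ideal.span {1 - e} = ⊤ := by
      by_contra h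
      obtain ⟨N, hN, hle⟩ := Ideal.exists_le_maximal _ h
      have h1 : 1 - e ∈ N := hle (Ideal.mem_sup_right (Ideal.mem_span_singleton_self _))
      have hNM : N = M := by
        by_contra hne
        exact hN.ne_top ((Ideal.eq_top_iff_one _).2 (by simpa using add_mem h1 (heN N hN hne)))
      exact hs (hNM ▸ hle (Ideal.mem_sup_left (Ideal.mem_span_singleton_self _)))
    obtain ⟨u, hu, v, hv, huv⟩ := Submodule.mem_sup.1 (htop.symm ▸ Submodule.mem_top : (1 : C) ∈ Ideal.span {s} ⊔ Ideal.span {1 - e})
    obtain ⟨a, rfl⟩ := Ideal.mem_span_singleton.1 hu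
    refine IsUnit.of_mul_eq_one (Ideal.Quotient.mk _ a) ?_
    have h := congrArg (Ideal.Quotient.mk (Ideal.span {1 - e})) huv
    rw [map_add, Ideal.Quotient.eq_zero_iff_mem.2 hv, add_zero, map_mul, map_one] at h
    exact h
  have hsurj : Function.Surjective (algebraMap C L) := by
    intro z
    obtain ⟨x, ⟨s, hs⟩, rfl⟩ := IsLocalization.exists_mk'_eq M.primeCompl z
    obtain ⟨t, ht⟩ := Ideal.Quotient.mk_surjective ((hunit s hs).unit⁻¹ : (C ⧸ Ideal.span {1 - e})ˣ).1
    refine ⟨x * t, ?_⟩
    rw [IsLocalization.eq_mk'_iff_mul_eq, ← map_mul, IsLocalization.eq_iff_exists M.primeCompl]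
    refine ⟨⟨e, heM⟩, ?_⟩
    have h1 : Ideal.Quotient.mk (Ideal.span {1 - e}) (t * s) = Ideal.Quotient.mk _ 1 := by
      rw [map_mul, ht, map_one]
      exact (hunit s hs).val_inv_mul
    obtain ⟨w, hw⟩ := Ideal.mem_span_singleton.1 (Ideal.Quotient.eq.1 h1)
    show e * (x * t * s) = e * x
    have : e * (1 - e) = 0 := by rw [mul_sub, mul_one, he.eq, sub_self]
    linear_combination (e * x) * hw + (x * w) * this
  refine ⟨hsurj, ?_⟩
  haveI : IsAdicComplete J L := by
    haveI : Module.Finite C L := Module.Finite.of_surjective (Algebra.linearMap C L) hsurj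
    exact Groth.Agent.CplFin.isAdicComplete_of_finite C J L
  haveI : IsAdicComplete (J.map (algebraMap C L)) L := (IsAdicComplete.map_algebraMap_iff _ _).2 inferInstance
  have hrad : maximalIdeal L ≤ (J.map (algebraMap C L)).radical := by
    rw [Ideal.radical_eq_sInf]
    refine le_sInf fun P ⟨hP, hPp⟩ => ?_
    haveI := hPp
    haveI : IsArtinianRing (L ⧸ J.map (algebraMap C L)) := by
      refine Function.Surjective.isArtinianRing (f := Ideal.quotientMap (J.map (algebraMap C L)) (algebraMap C L) Ideal.le_comap_map) ?_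
      exact Ideal.quotientMap_surjective hsurj
    haveI : (P.map (Ideal.Quotient.mk (J.map (algebraMap C L)))).IsPrime :=
      Ideal.map_isPrime_of_surjective Ideal.Quotient.mk_surjective (by rw [Ideal.mk_ker]; exact hP)
    have hmax := (inferInstance : (P.map (Ideal.Quotient.mk (J.map (algebraMap C L)))).IsMaximal)
    have := Ideal.comap_isMaximal_of_surjective (Ideal.Quotient.mk (J.map (algebraMap C L))) Ideal.Quotient.mk_surjective (K := P.map (Ideal.Quotient.mk (J.map (algebraMap C L))))
    rw [Ideal.comap_map_quotientMk, sup_eq_right.2 hP] at this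
    exact (IsLocalRing.eq_maximalIdeal this).ge
  obtain ⟨k, hk⟩ := Ideal.exists_pow_le_of_le_radical_of_fg hrad (IsNoetherian.noetherian _)
  refine Groth.Agent.CplFin.isAdicComplete_of_le_of_pow_le L _ _ ?_ (k + 1) (by omega)
    ((Ideal.pow_le_pow_right k.le_succ).trans hk)
  rw [Ideal.map_le_iff_le_comap]
  intro z hz
  rw [Ideal.mem_comap, IsLocalization.AtPrime.to_map_mem_maximal_iff L M]
  exact hJ M hM hz

theorem main (k A k' : Type u) [Field k]
    [CommRing A] [IsNoetherianRing A] [IsLocalRing A] [Algebra k A]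
    [IsAdicComplete (maximalIdeal A) A] [Module.Finite k (ResidueField A)]
    [Field k'] [Algebra k k'] :
    IsNoetherianRing (EGA4.CTensor k A k') ∧
      Finite (MaximalSpectrum (EGA4.CTensor k A k')) ∧
      IsAdicComplete ((maximalIdeal A).map (algebraMap A (EGA4.CTensor k A k'))) (EGA4.CTensor k A k') ∧
      ∀ M : MaximalSpectrum (EGA4.CTensor k A k'),
        IsAdicComplete (maximalIdeal (Localization.AtPrime M.asIdeal)) (Localization.AtPrime M.asIdeal) ∧
          Module.FaithfullyFlat A (Localization.AtPrime M.asIdeal) ∧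
          ringKrullDim (Localization.AtPrime M.asIdeal) = ringKrullDim A ∧
          (((Ideal.Quotient.mk M.asIdeal).comp (algebraMap (A ⊗[k] k') (EGA4.CTensor k A k'))).comp
              Algebra.TensorProduct.includeRight.toRingHom).Finite := by
  letI := @Algebra.TensorProduct.rightAlgebra k A k' _ _ _ _ _
  haveI : IsAdicComplete (maximalIdeal k') k' := by
    rw [IsLocalRing.maximalIdeal_eq_bot]; infer_instance
  let C := EGA4.CTensor k A k'
  haveI := Groth.Agent.CTensorLib.isNoetherianRing_cTensor k A k'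
  haveI := Groth.Agent.CTensorLib.flat_left k A k'
  let JC := (EGA4.cTensorIdeal k A k').map (algebraMap (A ⊗[k] k') C)
  haveI : IsAdicComplete JC C := Groth.Agent.CTensorLib.isAdicComplete_compl _ (Groth.Agent.CTensorLib.fg_cTensorIdeal k A k')
  have hJC : JC = (maximalIdeal A).map (algebraMap A C) := by
    refine le_antisymm ?_ (Groth.Agent.CTensorLib.map_maximalIdeal_le k A k')
    have h0 : EGA4.cTensorIdeal k A k' = (maximalIdeal A).map (algebraMap A (A ⊗[k] k')) := by
      show _ ⊔ _ = _
      rw [IsLocalRing.maximalIdeal_eq_bot (R := k'), Ideal.map_bot, sup_bot_eq]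
      rfl
    refine Ideal.map_le_iff_le_comap.2 (h0.le.trans ?_)
    rw [Ideal.map_le_iff_le_comap, Ideal.comap_comap, ← IsScalarTower.algebraMap_eq]
    exact Ideal.le_comap_map
  haveI : Module.Finite k' (C ⧸ JC) := Groth.Agent.CTensorLib.finite_right_quot k A k'
  haveI : IsArtinianRing (C ⧸ JC) := IsArtinianRing.of_finite k' _
  have hJM : ∀ M : Ideal C, M.IsMaximal → JC ≤ M := fun M hM =>
    (IsAdicComplete.le_jacobson_bot JC).trans (sInf_le ⟨bot_le, hM⟩)
  refine ⟨inferInstance, ?_, hJC ▸ inferInstance, fun M => ?_⟩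
  · let F : MaximalSpectrum C → {I : Ideal (C ⧸ JC) // I.IsMaximal} :=
      fun M => ⟨M.asIdeal.map (Ideal.Quotient.mk JC), by
        haveI := M.isMaximal
        exact Ideal.IsMaximal.map_of_surjective_of_ker_le Ideal.Quotient.mk_surjective
          (by rw [Ideal.mk_ker]; exact hJM _ M.isMaximal)⟩
    haveI : Finite {I : Ideal (C ⧸ JC) // I.IsMaximal} :=
      (IsArtinianRing.setOfPred_isMaximal_finite (C ⧸ JC)).to_subtype
    refine Finite.of_injective F fun M N h => ?_
    have h'' := congrArg (Ideal.comap (Ideal.Quotient.mk JC)) (congrArg Subtype.val h)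
    simp only [F, Ideal.comap_map_quotientMk, sup_eq_right.2 (hJM _ M.isMaximal),
      sup_eq_right.2 (hJM _ N.isMaximal)] at h''
    exact MaximalSpectrum.ext h''
  · haveI := M.isMaximal
    obtain ⟨hsurj, hcomp⟩ := localization_complete JC M.asIdeal
    let L := Localization.AtPrime M.asIdeal
    haveI : Module.Flat C L := IsLocalization.flat L M.asIdeal.primeCompl
    haveI : Module.Flat A L := Module.Flat.trans A C L
    have hle : (maximalIdeal A).map (algebraMap A L) ≤ maximalIdeal L := by
      rw [IsScalarTower.algebraMap_eq A C L, ← Ideal.map_map, Ideal.map_le_iff_le_comap]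
      intro z hz
      rw [Ideal.mem_comap, IsLocalization.AtPrime.to_map_mem_maximal_iff L M.asIdeal]
      exact hJM _ M.isMaximal (hJC ▸ hz)
    haveI : IsLocalHom (algebraMap A L) := ((IsLocalRing.local_hom_TFAE _).out 0 2 rfl rfl).2 hle
    haveI : IsNoetherianRing L := IsLocalization.isNoetherianRing M.asIdeal.primeCompl L inferInstance
    refine ⟨hcomp, Module.FaithfullyFlat.of_flat_of_isLocalHom, ?_, ?_⟩
    · rw [Groth.Agent.FlatLocalDepth.ringKrullDim_eq_add (R := A) (S := L)]
      haveI : IsArtinianRing (L ⧸ (maximalIdeal A).map (algebraMap A L)) := by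
        refine Function.Surjective.isArtinianRing (f := Ideal.quotientMap (I := JC) ((maximalIdeal A).map (algebraMap A L)) (algebraMap C L) ?_) ?_
        · rw [hJC, ← Ideal.map_le_iff_le_comap, Ideal.map_map, ← IsScalarTower.algebraMap_eq]
        · exact Ideal.quotientMap_surjective hsurj
      haveI : Nontrivial (L ⧸ (maximalIdeal A).map (algebraMap A L)) :=
        Ideal.Quotient.nontrivial_iff.2 fun h => (maximalIdeal.isMaximal L).ne_top (top_le_iff.1 (h ▸ hle))
      rw [le_antisymm (Ring.krullDimLE_iff.1 (inferInstance : Ring.KrullDimLE 0 (L ⧸ (maximalIdeal A).map (algebraMap A L)))) ringKrullDim_nonneg_of_nontrivial, Nat.cast_zero, add_zero]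
    · show (algebraMap k' (C ⧸ M.asIdeal)).Finite
      rw [RingHom.finite_algebraMap]
      exact Module.Finite.of_surjective
        ({ toFun := Ideal.Quotient.factor (hJM _ M.isMaximal), map_add' := (Ideal.Quotient.factor (hJM _ M.isMaximal)).map_add,
           map_smul' := fun b x => by
            obtain ⟨x, rfl⟩ := Ideal.Quotient.mk_surjective x
            rfl } : (C ⧸ JC) →ₗ[k'] C ⧸ M.asIdeal)
        (Ideal.Quotient.factor_surjective (hJM _ M.isMaximal))

end Pre

/-- Let k be a field, A a complete Noetherian local k-algebra with maximal ideal m whose residue field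
is a finite extension of k, k' an extension field of k, I the ideal of A ⊗_k k' generated by m, and
A' the completed tensor product of A and k' over k, namely the I-adic completion of A ⊗_k k'. Then
A' is a Noetherian ring with finitely many maximal ideals, complete and separated for the ideal
generated by m, and for every maximal ideal M of A' the local ring A'_M is complete, faithfully flat
over A, of the same dimension as A, and has residue field finite over k'. -/
theorem result (k A k' : Type u) [Field k]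
    [CommRing A] [IsNoetherianRing A] [IsLocalRing A] [Algebra k A]
    [IsAdicComplete (IsLocalRing.maximalIdeal A) A] [Module.Finite k (IsLocalRing.ResidueField A)]
    [Field k'] [Algebra k k'] (I : Ideal (A ⊗[k] k'))
    (hI : I = (IsLocalRing.maximalIdeal A).map (algebraMap A (A ⊗[k] k'))) :
    IsNoetherianRing (AdicCompletion I (A ⊗[k] k')) ∧
      Finite (MaximalSpectrum (AdicCompletion I (A ⊗[k] k'))) ∧
      IsAdicComplete ((IsLocalRing.maximalIdeal A).map (algebraMap A (AdicCompletion I (A ⊗[k] k'))))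
        (AdicCompletion I (A ⊗[k] k')) ∧
      ∀ M : MaximalSpectrum (AdicCompletion I (A ⊗[k] k')),
        IsAdicComplete (IsLocalRing.maximalIdeal (Localization.AtPrime M.asIdeal))
            (Localization.AtPrime M.asIdeal) ∧
          Module.FaithfullyFlat A (Localization.AtPrime M.asIdeal) ∧
          ringKrullDim (Localization.AtPrime M.asIdeal) = ringKrullDim A ∧
          (((Ideal.Quotient.mk M.asIdeal).comp (algebraMap (A ⊗[k] k') (AdicCompletion I (A ⊗[k] k')))).comp
              Algebra.TensorProduct.includeRight.toRingHom).Finite := by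
  have h : I = EGA4.cTensorIdeal k A k' := by
    show I = _ ⊔ _
    rw [IsLocalRing.maximalIdeal_eq_bot (R := k'), Ideal.map_bot, sup_bot_eq, hI]
    rfl
  subst h
  exact main k A k'

end Groth.Agent.S5993
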