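import Groth.Statements.S6003
import Groth.Agent.TorsorDesc.Basic
import Groth.Agent.MultHopf.HomLocus

set_option autoImplicit false
universe u
open CategoryTheory AlgebraicGeometry
open SGA1

namespace Groth.Agent.S6003

/-- Let G be an S-group scheme which is flat and quasi-compact over S and let G act on the S-scheme X.
Then X is a principal homogeneous bundle under G (a pseudo-torsor which acquires sections on the
members of some fpqc covering family of S) if and only if X is formally principal homogeneous (a
pseudo-torsor) and the structure morphism X → S is faithfully flat and quasi-compact. -/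
theorem result {S : Scheme.{u}}
    (G X : Over S) [GrpObj G] [Flat G.hom] [QuasiCompact G.hom] (a : AlgGrp.Action G X) :
    NonAbH1.IsTorsorFor Scheme.fpqcPrecoverage a ↔
      (NonAbH1.IsPseudoTorsorSch a ∧ Surjective X.hom ∧ Flat X.hom ∧ QuasiCompact X.hom) := by
  haveI hS : Surjective G.hom := by
    let e : MonoidalCategoryStruct.tensorUnit (Over S) ⟶ G := MonObj.one
    refine ⟨fun s => ⟨(show S ⟶ G.left from e.left) s, ?_⟩⟩
    exact congr($(Over.w e) s)
  refine ⟨fun h => ⟨h.1, TorsorDesc.of_isTorsorFor @Surjective a h ‹_›,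
    TorsorDesc.of_isTorsorFor @Flat a h ‹_›, TorsorDesc.of_isTorsorFor @QuasiCompact a h ‹_›⟩, ?_⟩
  rintro ⟨hps, hs, hf, hq⟩
  refine ⟨hps, Presieve.singleton X.hom, Scheme.Hom.singleton_mem_fpqcPrecoverage X.hom, ?_⟩
  rintro S' f ⟨⟩
  exact ⟨𝟙 _, Category.id_comp _⟩

end Groth.Agent.S6003
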