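import Groth.Statements.S6020
import Groth.Agent.LocCohZLib.Sheaf

set_option autoImplicit false
universe u
open CategoryTheory CategoryTheory.Limits TopologicalSpace
open LocCohZ

namespace Groth.Agent.S6020

/-- Consider a topological space X carrying a sheaf F of abelian groups, an open subset U whose
complement is the closed set Z, and a natural number N. The local cohomology sheaves ℋ^i_Z(F) are
zero for all i ≤ N exactly when, for each open V of X, restricting H^i(V, F) → H^i(V ∩ U, F) gives a
bijection whenever i < N and an injection when i = N. -/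
theorem result {X : TopCat.{u}} (F : CohTop.Ab X) (U : Opens X) (N : ℕ) :
    (∀ i : ℕ, i ≤ N → IsZero ((LocCohZ.HZsh U i).obj F)) ↔
      ∀ V : Opens X, (∀ i : ℕ, i < N → Function.Bijective (CohTop.res F i (inf_le_left : V ⊓ U ≤ V))) ∧
        Function.Injective (CohTop.res F N (inf_le_left : V ⊓ U ≤ V)) := by
  have hiff := LocCohZLib.isZero_HZsh_iff_subsingleton U F (N + 1)
  constructor
  · intro h V
    have hs : ∀ i ≤ N, Subsingleton (LocCohZ.HZ F i (inf_le_left : V ⊓ U ≤ V)) := fun i hi =>
      hiff.1 (fun j hj => h j (Nat.lt_succ_iff.1 hj)) V i (Nat.lt_succ_of_le hi)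
    have hinj : ∀ i ≤ N, Function.Injective (CohTop.res F i (inf_le_left : V ⊓ U ≤ V)) := fun i hi => by
      cases i with
      | zero => 
        exact (LocCohZLib.res_zero_injective_iff _ F).2
          ((LocCohZLib.subsingleton_HZ_zero_iff _ F).1 (hs 0 hi))
      | succ m => 
        exact ((LocCohZLib.subsingleton_HZ_iff _ F m).1 (hs (m + 1) hi)).2
    exact ⟨fun i hi => ⟨hinj i hi.le, ((LocCohZLib.subsingleton_HZ_iff _ F i).1 (hs (i + 1) hi)).1⟩,
      hinj N le_rfl⟩
  · intro h i hi
    refine hiff.2 (fun V j hj => ?_) i (Nat.lt_succ_of_le hi)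
    have hinj : ∀ k ≤ N, Function.Injective (CohTop.res F k (inf_le_left : V ⊓ U ≤ V)) := fun k hk =>
      (lt_or_eq_of_le hk).elim (fun hlt => ((h V).1 k hlt).1) (fun e => e ▸ (h V).2)
    cases j with
    | zero => 
      exact (LocCohZLib.subsingleton_HZ_zero_iff _ F).2
        ((LocCohZLib.res_zero_injective_iff _ F).1 (hinj 0 (Nat.zero_le _)))
    | succ m => 
      exact (LocCohZLib.subsingleton_HZ_iff _ F m).2
        ⟨((h V).1 m (Nat.lt_of_succ_lt_succ hj)).2, hinj (m + 1) (Nat.lt_succ_iff.1 hj)⟩

end Groth.Agent.S6020
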