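import Groth.Statements.S6021
import Groth.Agent.LocCohZLib.Sheaf

set_option autoImplicit false
universe u
open CategoryTheory CategoryTheory.Limits TopologicalSpace
open LocCohZ

namespace Groth.Agent.S6021

/-- Consider a topological space X carrying an abelian sheaf F, a closed subset Z whose open complement
is U, and a natural number N > 0. Assume that, for each open V of X and each i < N, restricting
H^i(V, F) → H^i(V ∩ U, F) gives a bijection. Then ℋ^i_Z(F), the local cohomology sheaves, are zero
for every i ≤ N (no separate injectivity hypothesis in degree N is needed, since it follows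
automatically). -/
theorem result {X : TopCat.{u}} (F : CohTop.Ab X) (U : Opens X) (N : ℕ) (hN : 0 < N)
    (h : ∀ (V : Opens X) (i : ℕ), i < N → Function.Bijective (CohTop.res F i (inf_le_left : V ⊓ U ≤ V))) :
    ∀ i : ℕ, i ≤ N → IsZero ((LocCohZ.HZsh U i).obj F) := by
  have hlow : ∀ (V : Opens X) (i : ℕ), i < N →
      Subsingleton (LocCohZ.HZ F i (inf_le_left : V ⊓ U ≤ V)) := by
    intro V i hi
    cases i with
    | zero => 
      exact (LocCohZLib.subsingleton_HZ_zero_iff _ F).2
        ((LocCohZLib.res_zero_injective_iff _ F).1 (h V 0 hi).1)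
    | succ m => 
      exact (LocCohZLib.subsingleton_HZ_iff _ F m).2
        ⟨(h V m (Nat.lt_of_succ_lt hi)).2, (h V (m + 1) hi).1⟩
  intro i hi
  refine LocCohZLib.isZero_HZsh_of_locally U i F (fun V k hk => hlow V k (lt_of_lt_of_le hk hi))
    fun V ξ x hx => ?_
  rcases lt_or_eq_of_le hi with hlt | rfl
  · exact ⟨V, le_rfl, hx, by rw [(hlow V i hlt).elim ξ 0, map_zero]⟩
  · obtain ⟨M, rfl⟩ := Nat.exists_eq_add_of_le' hN
    obtain ⟨V', hV, hxV, hz⟩ := CohTopLib.exists_cover_res_eq_zero F V M
      (LocCohZ.toHU F (M + 1) (inf_le_left : V ⊓ U ≤ V) ξ) x hx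
    refine ⟨V', hV, hxV,
      LocCohZLib.toHU_injective_of_surjective _ F M (h V' M (Nat.lt_succ_self M)).2 ?_⟩
    exact ((LocCohZLib.toHU_resZ _ _ _ _ F (M + 1) ξ).trans hz).trans (map_zero _).symm

end Groth.Agent.S6021
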