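import Groth.Statements.S6024
import Groth.Agent.LocCohZLib.Sheaf

set_option autoImplicit false
universe u
open CategoryTheory CategoryTheory.Limits TopologicalSpace
open LocCohZ

namespace Groth.Agent.S6024

/-- Consider a topological space X carrying a sheaf of abelian groups F, and assume that H^1_Z(X, F)
vanishes for each closed subset Z of X (writing Z = X − U with U open). Under this assumption, F is
flasque. -/
theorem result {X : TopCat.{u}} (F : CohTop.Ab X)
    (h : ∀ U : Opens X, Subsingleton (LocCohZ.HZc F 1 U)) : TopCat.Sheaf.IsFlasque F := by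
  refine ⟨fun {V W} i => (AddCommGrpCat.epi_iff_surjective _).2 fun t => ?_⟩
  have hs := (LocCohZLib.res_zero_surjective_iff _ F).1
    ((LocCohZLib.subsingleton_HZ_iff (le_top : W.unop ≤ ⊤) F 0).1 (h W.unop)).1
  obtain ⟨s, hs⟩ := hs t
  refine ⟨QCohBase.res F.obj (le_top : V.unop ≤ ⊤) s, ?_⟩
  exact (QCohBase.res_res F.obj (le_top : V.unop ≤ ⊤) i.unop.le s).trans hs

end Groth.Agent.S6024
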