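import Groth.Statements.S6041
import Groth.Agent.AlgSpLoc.Cover


set_option autoImplicit false
open CategoryTheory CategoryTheory.Limits AlgebraicGeometry MonoidalCategory
universe u
open GrpQ

namespace Groth.Agent.S6041

open CategoryTheory CategoryTheory.Limits CartesianMonoidalCategory Opposite AlgebraicGeometry

noncomputable def evalRep {S : Scheme.{u}} (V : Over S) (F : QuotSh.Sh Scheme.fppfPrecoverage.{u} S) :
    (QuotSh.rep Scheme.fppfPrecoverage.{u} V ⟶ F) ≃ F.obj.obj (op V) :=
  ((sheafificationAdjunction _ _).homEquiv (yoneda.obj V ⋙ uliftFunctor.{u + 1, u}) F).trans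
    uliftYonedaEquiv.{u + 1}

theorem evalRep_comp {S : Scheme.{u}} {V W : Over S} (g : V ⟶ W) (F : QuotSh.Sh Scheme.fppfPrecoverage.{u} S)
    (σ : QuotSh.rep Scheme.fppfPrecoverage.{u} W ⟶ F) :
    evalRep V F (QuotSh.repMap Scheme.fppfPrecoverage.{u} g ≫ σ) = F.obj.map g.op (evalRep W F σ) := by
  simp only [evalRep, Equiv.trans_apply, QuotSh.repMap, Adjunction.homEquiv_naturality_left]
  exact (uliftYonedaEquiv_naturality.{u + 1} (X := op W) (Y := op V)
    ((sheafificationAdjunction _ _).homEquiv _ F σ) g.op).symm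


open CartesianMonoidalCategory in
/-- For schemes and the fppf topology, easy direction: let `s, t : R ⇉ U` be a pair of morphisms of
schemes over `S` (in the source an equivalence relation), `T` a scheme over `S` and `i : Z ⟶ U ×_S
T` such that `Z ⟶ T` is flat, surjective and locally of finite presentation and any two points of
`Z` over the same point of `T` have `R`-related images in `U`. Then the composite `h_Z ⟶ h_U ⟶ U/R`
descends to exactly one section of the fppf quotient sheaf `U/R` over `T`. -/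
theorem result {S : Scheme.{u}} {R U : Over S} (s t : R ⟶ U)
    (T Z : Over S) (i : Z ⟶ U ⊗ T)
    [Flat (i ≫ snd U T).left] [Surjective (i ≫ snd U T).left] [LocallyOfFinitePresentation (i ≫ snd U T).left]
    (hZZ : ∀ (T' : Over S) (z₁ z₂ : T' ⟶ Z), z₁ ≫ i ≫ snd U T = z₂ ≫ i ≫ snd U T →
      ∃ r : T' ⟶ R, r ≫ s = z₁ ≫ i ≫ fst U T ∧ r ≫ t = z₂ ≫ i ≫ fst U T) :
    ∃! σ : QuotSh.rep Scheme.fppfPrecoverage T ⟶ QuotSh.quot Scheme.fppfPrecoverage s t,
      QuotSh.repMap Scheme.fppfPrecoverage (i ≫ fst U T) ≫ QuotSh.quotπ Scheme.fppfPrecoverage s t =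
        QuotSh.repMap Scheme.fppfPrecoverage (i ≫ snd U T) ≫ σ := by
  haveI : Flat (i ≫ snd U T).left := inferInstance
  let F := QuotSh.quot Scheme.fppfPrecoverage.{u} s t
  let x := evalRep Z F (QuotSh.repMap Scheme.fppfPrecoverage.{u} (i ≫ fst U T) ≫ QuotSh.quotπ Scheme.fppfPrecoverage.{u} s t)
  have hsh : Presieve.IsSheafFor F.obj (Presieve.singleton (i ≫ snd U T)) :=
    (Presieve.isSheafFor_iff_generate _).mpr
      (((isSheaf_iff_isSheaf_of_type _ _).1 F.property) _ (Groth.Agent.AlgSpLoc.generate_singleton_mem_J _))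
  have hrm : ∀ {A B C : Over S} (f : A ⟶ B) (g : B ⟶ C), QuotSh.repMap Scheme.fppfPrecoverage.{u} (f ≫ g) =
      QuotSh.repMap Scheme.fppfPrecoverage.{u} f ≫ QuotSh.repMap Scheme.fppfPrecoverage.{u} g := by
    intro A B C f g
    simp only [QuotSh.repMap, Functor.map_comp, Functor.whiskerRight_comp]
  obtain ⟨y, hy, huniq⟩ := (Presieve.isSheafFor_singleton.1 hsh) x fun {T'} z₁ z₂ hz => by
    obtain ⟨r, hr₁, hr₂⟩ := hZZ T' z₁ z₂ hz
    simp only [x]
    rw [← evalRep_comp, ← evalRep_comp, ← Category.assoc, ← Category.assoc, ← hrm, ← hrm, ← hr₁, ← hr₂, hrm, hrm,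
      Category.assoc, Category.assoc, QuotSh.quot_condition]
  refine ⟨(evalRep T F).symm y, ?_, fun σ hσ => ?_⟩
  · apply (evalRep Z F).injective
    rw [evalRep_comp (i ≫ snd U T), Equiv.apply_symm_apply]
    exact hy.symm
  · rw [Equiv.eq_symm_apply]
    apply huniq
    rw [← evalRep_comp]
    exact congrArg (evalRep Z F) hσ.symm

end Groth.Agent.S6041
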