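import Groth.Statements.S6048
import Groth.Agent.SiteBase.SubQuot
import Mathlib.CategoryTheory.Sites.CartesianMonoidal
-- import your own Groth.Agent.* helpers here

set_option autoImplicit false
open CategoryTheory CategoryTheory.Limits MonoidalCategory
universe w v₁ u₁
open ShfCat

set_option backward.isDefEq.respectTransparency false

namespace Groth.Agent.S6048

open CartesianMonoidalCategory SemiCartesianMonoidalCategory in
/-- For sheaves of sets on a site with sheafification: let `p₁, p₂ : R ⇉ X` be an equivalence relation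
of sheaves with universally effective quotient `π : X ⟶ X/R` and `Y` a sheaf. (a) A subsheaf `Z ⊆ X
× Y` stable under `R × Y`, covering `Y`, and any two of whose points over the same point of `Y` are
`R`-related, is the pullback of `π` along exactly one `f : Y ⟶ X/R`; (b) every `f : Y ⟶ X/R` arises
in this way. -/
theorem result {C : Type u₁} [Category.{v₁} C]
    (J : GrothendieckTopology C) [HasSheafify J (Type w)]
    {R X : Sheaf J (Type w)} {p₁ p₂ : R ⟶ X}
    (e : UniversallyEffectiveEquivalenceRelation p₁ p₂) (Y : Sheaf J (Type w)) :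
    (∀ (Z : Sheaf J (Type w)) (ι : Z ⟶ X ⊗ Y), Mono ι →
      (∀ (W : Sheaf J (Type w)) (r : W ⟶ R) (y : W ⟶ Y),
        (∃ z : W ⟶ Z, z ≫ ι = lift (r ≫ p₁) y) ↔ (∃ z : W ⟶ Z, z ≫ ι = lift (r ≫ p₂) y)) →
      Epi (ι ≫ snd X Y) →
      (∀ (W : Sheaf J (Type w)) (z₁ z₂ : W ⟶ Z), z₁ ≫ ι ≫ snd X Y = z₂ ≫ ι ≫ snd X Y →
        ∃ r : W ⟶ R, r ≫ p₁ = z₁ ≫ ι ≫ fst X Y ∧ r ≫ p₂ = z₂ ≫ ι ≫ fst X Y) →
      ∃! f : Y ⟶ e.B, IsPullback (ι ≫ fst X Y) (ι ≫ snd X Y) e.π f) ∧
    (∀ f : Y ⟶ e.B, ∃ (Z : Sheaf J (Type w)) (ι : Z ⟶ X ⊗ Y), Mono ι ∧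
      (∀ (W : Sheaf J (Type w)) (r : W ⟶ R) (y : W ⟶ Y),
        (∃ z : W ⟶ Z, z ≫ ι = lift (r ≫ p₁) y) ↔ (∃ z : W ⟶ Z, z ≫ ι = lift (r ≫ p₂) y)) ∧
      Epi (ι ≫ snd X Y) ∧
      (∀ (W : Sheaf J (Type w)) (z₁ z₂ : W ⟶ Z), z₁ ≫ ι ≫ snd X Y = z₂ ≫ ι ≫ snd X Y →
        ∃ r : W ⟶ R, r ≫ p₁ = z₁ ≫ ι ≫ fst X Y ∧ r ≫ p₂ = z₂ ≫ ι ≫ fst X Y) ∧
      IsPullback (ι ≫ fst X Y) (ι ≫ snd X Y) e.π f) := by
  have hk := e.isKernelPair
  haveI : Epi e.π := by
    have := e.universally_effectiveEpi_π _ _ _ (IsPullback.of_id_fst (f := e.π)).flip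
    infer_instance
  refine ⟨fun Z ι hι hstab hq hrel => ?_, fun f => ?_⟩
  · haveI := hι
    haveI := hq
    haveI : EffectiveEpi (ι ≫ snd X Y) :=
      SiteBase.sheaf_universally_effectiveEpi (ι ≫ snd X Y) _ _ _ (IsPullback.of_id_fst (f := ι ≫ snd X Y)).flip
    let f : Y ⟶ e.B := EffectiveEpi.desc (ι ≫ snd X Y) (ι ≫ fst X Y ≫ e.π) (fun {W} g₁ g₂ hg => by
      obtain ⟨r, h1, h2⟩ := hrel W g₁ g₂ hg
      rw [← reassoc_of% h1, ← reassoc_of% h2, hk.w])
    have hf : (ι ≫ snd X Y) ≫ f = ι ≫ fst X Y ≫ e.π := EffectiveEpi.fac _ _ _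
    refine ⟨f, ?_, fun f' hf' => ?_⟩
    · have key : ∀ s : PullbackCone e.π f, (Subobject.mk ι).Factors (lift s.fst s.snd) := by
        intro s
        haveI := SiteBase.sheaf_epi_pullback_fst s.snd (ι ≫ snd X Y)
        let r := pullback.fst s.snd (ι ≫ snd X Y)
        let z := pullback.snd s.snd (ι ≫ snd X Y)
        have hz : z ≫ ι ≫ snd X Y = r ≫ s.snd := pullback.condition.symm
        let ρ := hk.lift (z ≫ ι ≫ fst X Y) (r ≫ s.fst) (by
          simp only [Category.assoc]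
          rw [← hf, s.condition]
          simp only [Category.assoc]
          rw [reassoc_of% hz])
        refine SiteBase.factors_of_epi _ r _ ((Subobject.mk_factors_iff _ _).2 ?_)
        obtain ⟨w, hw⟩ := (hstab _ ρ (r ≫ s.snd)).1 ⟨z, by
          apply CartesianMonoidalCategory.hom_ext
          · rw [lift_fst, hk.lift_fst, Category.assoc]
          · rw [lift_snd, Category.assoc, hz]⟩
        exact ⟨w, hw.trans (by rw [hk.lift_snd, comp_lift])⟩
      choose w hw using fun s => (Subobject.mk_factors_iff _ _).1 (key s)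
      have hw' : ∀ s : PullbackCone e.π f, w s ≫ ι = lift s.fst s.snd := hw
      refine IsPullback.of_isLimit' ⟨by rw [Category.assoc, hf]⟩ (PullbackCone.IsLimit.mk _ w
        (fun s => ?_) (fun s => ?_) (fun s m h1 h2 => ?_))
      · rw [← Category.assoc, hw', lift_fst]
      · rw [← Category.assoc, hw', lift_snd]
      · rw [← cancel_mono ι, hw']
        apply CartesianMonoidalCategory.hom_ext
        · rw [lift_fst, Category.assoc]; exact h1
        · rw [lift_snd, Category.assoc]; exact h2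
    · rw [← cancel_epi (ι ≫ snd X Y), hf, ← hf'.w, Category.assoc]
  · let ι := lift (pullback.fst e.π f) (pullback.snd e.π f)
    have e1 : ι ≫ fst X Y = pullback.fst e.π f := lift_fst _ _
    have e2 : ι ≫ snd X Y = pullback.snd e.π f := lift_snd _ _
    have hiff : ∀ {W : Sheaf J (Type w)} (x : W ⟶ X) (y : W ⟶ Y),
        (∃ z : W ⟶ pullback e.π f, z ≫ ι = lift x y) ↔ x ≫ e.π = y ≫ f := by
      intro W x y
      constructor
      · rintro ⟨z, hz⟩
        have h1 : z ≫ pullback.fst e.π f = x := by rw [← e1, ← Category.assoc, hz, lift_fst]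
        have h2 : z ≫ pullback.snd e.π f = y := by rw [← e2, ← Category.assoc, hz, lift_snd]
        rw [← h1, ← h2, Category.assoc, Category.assoc, pullback.condition]
      · exact fun h => ⟨pullback.lift x y h, by simp [ι, comp_lift]⟩
    refine ⟨_, ι, ⟨fun {W} a b hab => ?_⟩, fun W r y => ?_, ?_, fun W z₁ z₂ hz => ?_, ?_⟩
    · apply pullback.hom_ext
      · rw [← e1, ← Category.assoc, hab, Category.assoc]
      · rw [← e2, ← Category.assoc, hab, Category.assoc]
    · rw [hiff, hiff, Category.assoc, Category.assoc, hk.w]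
    · rw [e2]
      haveI := SiteBase.sheaf_epi_pullback_fst f e.π
      rw [← pullbackSymmetry_hom_comp_fst]
      exact epi_comp _ _
    · rw [e2] at hz
      refine ⟨hk.lift (z₁ ≫ ι ≫ fst X Y) (z₂ ≫ ι ≫ fst X Y) ?_, hk.lift_fst _ _ _, hk.lift_snd _ _ _⟩
      simp only [Category.assoc]
      rw [reassoc_of% e1, pullback.condition, reassoc_of% hz]
    · rw [e1, e2]
      exact IsPullback.of_hasPullback _ _

end Groth.Agent.S6048
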