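import Groth.Statements.S6050
import Groth.Agent.ShfGrp.SubCorr
-- import your own Groth.Agent.* helpers here

set_option autoImplicit false
open CategoryTheory CategoryTheory.Limits MonoidalCategory
universe w v₁ u₁
open ShfCat

set_option backward.isDefEq.respectTransparency false

namespace Groth.Agent.S6050

open MonObj CartesianMonoidalCategory SemiCartesianMonoidalCategory in
/-- Let `u : H ⟶ G` be a normal subgroup sheaf of a sheaf of groups `G` on a site, `G' = G/H` the
quotient sheaf with its group structure making `π : G ⟶ G'` a homomorphism. Then `K' ↦ K' ×_{G'} G`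
is a bijection from the subgroup sheaves of `G'` onto the subgroup sheaves of `G` containing `H`
(its inverse is `K ↦ K/H`), and normal subgroup sheaves correspond to normal subgroup sheaves.
Stated for sheaves of sets in `Type w` with sheafification; a subgroup sheaf is a subobject
admitting a group structure for which its inclusion is a homomorphism. -/
theorem result {C : Type u₁} [Category.{v₁} C]
    (J : GrothendieckTopology C) [HasSheafify J (Type w)]
    {H G : Sheaf J (Type w)} [hH : GrpObj H] [hG : GrpObj G] (u : H ⟶ G) [Mono u]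
    (hu : @IsMonHom (Sheaf J (Type w)) _ _ H G hH.toMonObj hG.toMonObj u)
    (hn : ∀ (Y : Sheaf J (Type w)) (g : Y ⟶ G) (h : Y ⟶ H), ∃ h' : Y ⟶ H, g * (h ≫ u) * g⁻¹ = h' ≫ u)
    [hQ : GrpObj (coequalizer (fst G H) ((G ◁ u) ≫ hG.mul))]
    (hπ : @IsMonHom (Sheaf J (Type w)) _ _ G (coequalizer (fst G H) ((G ◁ u) ≫ hG.mul)) hG.toMonObj hQ.toMonObj
      (coequalizer.π (fst G H) ((G ◁ u) ≫ hG.mul))) :
    Set.BijOn (Subobject.pullback (coequalizer.π (fst G H) ((G ◁ u) ≫ hG.mul))).obj
      {K' : Subobject (coequalizer (fst G H) ((G ◁ u) ≫ hG.mul)) |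
        ∃ str : GrpObj (K' : Sheaf J (Type w)),
          @IsMonHom (Sheaf J (Type w)) _ _ _ _ str.toMonObj hQ.toMonObj K'.arrow}
      {K : Subobject G | Subobject.mk u ≤ K ∧
        ∃ str : GrpObj (K : Sheaf J (Type w)),
          @IsMonHom (Sheaf J (Type w)) _ _ _ _ str.toMonObj hG.toMonObj K.arrow} ∧
    ∀ (K' : Subobject (coequalizer (fst G H) ((G ◁ u) ≫ hG.mul)))
      (str' : GrpObj (K' : Sheaf J (Type w)))
      (str : GrpObj ((Subobject.pullback (coequalizer.π (fst G H) ((G ◁ u) ≫ hG.mul))).obj K' : Sheaf J (Type w))),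
      @IsMonHom (Sheaf J (Type w)) _ _ _ _ str'.toMonObj hQ.toMonObj K'.arrow →
      @IsMonHom (Sheaf J (Type w)) _ _ _ _ str.toMonObj hG.toMonObj
        ((Subobject.pullback (coequalizer.π (fst G H) ((G ◁ u) ≫ hG.mul))).obj K').arrow →
      ((∀ (Y : Sheaf J (Type w)) (g : Y ⟶ coequalizer (fst G H) ((G ◁ u) ≫ hG.mul))
          (k : Y ⟶ (K' : Sheaf J (Type w))),
          ∃ k' : Y ⟶ (K' : Sheaf J (Type w)), g * (k ≫ K'.arrow) * g⁻¹ = k' ≫ K'.arrow) ↔
        (∀ (Y : Sheaf J (Type w)) (g : Y ⟶ G)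
          (k : Y ⟶ ((Subobject.pullback (coequalizer.π (fst G H) ((G ◁ u) ≫ hG.mul))).obj K' : Sheaf J (Type w))),
          ∃ k' : Y ⟶ ((Subobject.pullback (coequalizer.π (fst G H) ((G ◁ u) ≫ hG.mul))).obj K' : Sheaf J (Type w)),
            g * (k ≫ ((Subobject.pullback (coequalizer.π (fst G H) ((G ◁ u) ≫ hG.mul))).obj K').arrow) * g⁻¹ =
              k' ≫ ((Subobject.pullback (coequalizer.π (fst G H) ((G ◁ u) ≫ hG.mul))).obj K').arrow)) := by
  haveI := hu
  haveI := hπ
  have hk := ShfGrp.isKernelPair_quotient u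
  have hπu : ∀ {T : Sheaf J (Type w)} (h : T ⟶ H),
      (h ≫ u) ≫ coequalizer.π (fst G H) ((G ◁ u) ≫ hG.mul) = 1 := by
    intro T h
    have := congrArg (lift (1 : T ⟶ G) h ≫ ·) (coequalizer.condition (fst G H) ((G ◁ u) ≫ hG.mul))
    simp only [lift_fst_assoc] at this
    rw [← Category.assoc (lift _ _), ShfGrp.lift_act, _root_.one_mul, MonObj.one_comp] at this
    exact this.symm
  refine ⟨⟨fun K' hK' => ⟨?_, ?_⟩, (SiteBase.subobject_pullback_injective _).injOn, fun K hK => ?_⟩,
    fun K' str' str _ _ => ShfGrp.normal_iff_pullback _ K'⟩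
  · have hs := (ShfGrp.isSubgrp_iff K').2 hK'
    refine Subobject.mk_le_of_comm (Subobject.factorThru _ u ?_) (Subobject.factorThru_arrow _ _ _)
    have := hπu (𝟙 H)
    rw [Category.id_comp] at this
    rw [SiteBase.pullback_factors_iff, this]
    exact hs.one H
  · exact (ShfGrp.isSubgrp_iff _).1 (ShfGrp.isSubgrp_pullback _ ((ShfGrp.isSubgrp_iff K').2 hK'))
  · obtain ⟨hle, hstr⟩ := hK
    have hs := (ShfGrp.isSubgrp_iff K).2 hstr
    have hH : ∀ {T : Sheaf J (Type w)} (h : T ⟶ H), K.Factors (h ≫ u) := fun h =>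
      Subobject.factors_of_le _ hle ((Subobject.mk_factors_iff _ _).2 ⟨h, rfl⟩)
    obtain ⟨Z, hZ⟩ := SiteBase.exists_pullback_eq hk K (SiteBase.subobject_eq_of_factors fun T t => by
      rw [SiteBase.pullback_factors_iff, SiteBase.pullback_factors_iff, ShfGrp.point_act]
      refine ⟨fun h => hs.mul h (hH _), fun h => ?_⟩
      have := hs.mul h (hs.inv (hH (t ≫ snd G H)))
      rwa [mul_inv_cancel_right] at this)
    exact ⟨Z, (ShfGrp.isSubgrp_iff Z).1 (ShfGrp.isSubgrp_of_pullback _ (hZ ▸ hs)), hZ⟩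

end Groth.Agent.S6050
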