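import Groth.Statements.S6054
import Groth.Agent.ShfGrp.SubCorr
-- import your own Groth.Agent.* helpers here

set_option autoImplicit false
open CategoryTheory CategoryTheory.Limits MonoidalCategory
universe w v₁ u₁
open ShfCat

set_option backward.isDefEq.respectTransparency false

namespace Groth.Agent.S6054

open MonObj CartesianMonoidalCategory SemiCartesianMonoidalCategory in
/-- Let `G` be a sheaf of groups on a site, `K ⊆ G` a subgroup sheaf and `H ⊆ K` a subgroup sheaf normal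
in `K`. With `G/H`, `K/H`, `G/K` the quotient sheaves, the right action of `K/H` on `G/H` induced by
multiplication is free, and the canonical map `G/H ⟶ G/K` identifies `G/K` with the quotient
`(G/H)/(K/H)` (it is a coequalizer of the projection and the action). Sheaves of sets in `Type w`
with sheafification; the action and the map `G/H ⟶ G/K` are pinned by their compatibility with `G ×
K ⟶ G ⟶ G/H` and with `G ⟶ G/K`. (The published statement adds that for `K` normal in `G` the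
identification respects the group structures; that clause is not stated.) -/
theorem result {C : Type u₁} [Category.{v₁} C]
    (J : GrothendieckTopology C) [HasSheafify J (Type w)]
    {H K G : Sheaf J (Type w)} [hH : GrpObj H] [hK : GrpObj K] [hG : GrpObj G]
    (h : H ⟶ K) (k : K ⟶ G) [Mono h] [Mono k]
    (hh : @IsMonHom (Sheaf J (Type w)) _ _ H K hH.toMonObj hK.toMonObj h)
    (hk : @IsMonHom (Sheaf J (Type w)) _ _ K G hK.toMonObj hG.toMonObj k)
    (hn : ∀ (Y : Sheaf J (Type w)) (x : Y ⟶ K) (y : Y ⟶ H), ∃ y' : Y ⟶ H, x * (y ≫ h) * x⁻¹ = y' ≫ h)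
    (act : coequalizer (fst G H) ((G ◁ (h ≫ k)) ≫ hG.mul) ⊗ coequalizer (fst K H) ((K ◁ h) ≫ hK.mul) ⟶
      coequalizer (fst G H) ((G ◁ (h ≫ k)) ≫ hG.mul))
    (hact : (coequalizer.π (fst G H) ((G ◁ (h ≫ k)) ≫ hG.mul) ⊗ₘ coequalizer.π (fst K H) ((K ◁ h) ≫ hK.mul)) ≫ act =
      (G ◁ k) ≫ hG.mul ≫ coequalizer.π (fst G H) ((G ◁ (h ≫ k)) ≫ hG.mul))
    (qbar : coequalizer (fst G H) ((G ◁ (h ≫ k)) ≫ hG.mul) ⟶ coequalizer (fst G K) ((G ◁ k) ≫ hG.mul))
    (hq : coequalizer.π (fst G H) ((G ◁ (h ≫ k)) ≫ hG.mul) ≫ qbar = coequalizer.π (fst G K) ((G ◁ k) ≫ hG.mul)) :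
    Mono (lift act (fst _ _)) ∧
    ∃ wq : fst _ _ ≫ qbar = act ≫ qbar, Nonempty (IsColimit (Cofork.ofπ qbar wq)) := by
  haveI := hh
  haveI := hk
  haveI : Mono (h ≫ k) := mono_comp _ _
  haveI : IsMonHom (h ≫ k) := inferInstance
  let π := coequalizer.π (fst G H) ((G ◁ (h ≫ k)) ≫ hG.mul)
  let π' := coequalizer.π (fst K H) ((K ◁ h) ≫ hK.mul)
  let πK := coequalizer.π (fst G K) ((G ◁ k) ≫ hG.mul)
  have hker := ShfGrp.isKernelPair_quotient (h ≫ k)
  have hpt : ∀ {T : Sheaf J (Type w)} (g : T ⟶ G) (x : T ⟶ K),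
      lift (g ≫ π) (x ≫ π') ≫ act = (g * (x ≫ k)) ≫ π := by
    intro T g x
    rw [← lift_map, Category.assoc, hact, ← ShfGrp.lift_act, Category.assoc, Category.assoc]
  have hπK : ∀ {T : Sheaf J (Type w)} (g : T ⟶ G) (x : T ⟶ K), (g * (x ≫ k)) ≫ πK = g ≫ πK := by
    intro T g x
    rw [← ShfGrp.lift_act, Category.assoc]
    have := congrArg (lift g x ≫ ·) (coequalizer.condition (fst G K) ((G ◁ k) ≫ hG.mul))
    simp only [lift_fst_assoc] at this
    exact this.symm
  have hlift : ∀ {T : Sheaf J (Type w)} (a : T ⟶ coequalizer (fst G H) ((G ◁ (h ≫ k)) ≫ hG.mul) ⊗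
      coequalizer (fst K H) ((K ◁ h) ≫ hK.mul)),
      ∃ (T' : Sheaf J (Type w)) (q : T' ⟶ T) (g : T' ⟶ G) (x : T' ⟶ K),
        Epi q ∧ q ≫ a = lift (g ≫ π) (x ≫ π') := by
    intro T a
    haveI := SiteBase.sheaf_epi_pullback_fst (a ≫ fst _ _) π
    haveI := SiteBase.sheaf_epi_pullback_fst (pullback.fst (a ≫ fst _ _) π ≫ a ≫ snd _ _) π'
    refine ⟨_, pullback.fst (pullback.fst (a ≫ fst _ _) π ≫ a ≫ snd _ _) π' ≫ pullback.fst (a ≫ fst _ _) π,
      pullback.fst _ π' ≫ pullback.snd (a ≫ fst _ _) π, pullback.snd _ π', epi_comp _ _, ?_⟩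
    apply CartesianMonoidalCategory.hom_ext
    · simp only [Category.assoc, lift_fst]
      rw [pullback.condition]
    · simp only [Category.assoc, lift_snd]
      rw [pullback.condition]
  refine ⟨⟨fun {T} a b hab => ?_⟩, ?_⟩
  · have h1 : a ≫ act = b ≫ act := by simpa using hab =≫ fst _ _
    have h2 : a ≫ fst _ _ = b ≫ fst _ _ := by simpa using hab =≫ snd _ _
    obtain ⟨T₁, q, g, x, hq, hx⟩ := hlift a
    haveI := SiteBase.sheaf_epi_pullback_fst (q ≫ b ≫ snd _ _) π'
    let r := pullback.fst (q ≫ b ≫ snd _ _) π'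
    let y := pullback.snd (q ≫ b ≫ snd _ _) π'
    have : Epi (r ≫ q) := epi_comp _ _
    rw [← cancel_epi (r ≫ q)]
    have ha : (r ≫ q) ≫ a = lift ((r ≫ g) ≫ π) ((r ≫ x) ≫ π') := by
      rw [Category.assoc, hx, comp_lift, Category.assoc, Category.assoc]
    have hb : (r ≫ q) ≫ b = lift ((r ≫ g) ≫ π) (y ≫ π') := by
      apply CartesianMonoidalCategory.hom_ext
      · rw [lift_fst]
        have h3 : q ≫ a ≫ fst _ _ = g ≫ π := by rw [← Category.assoc, hx, lift_fst]
        simp only [Category.assoc]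
        rw [← h2, h3]
      · rw [lift_snd]
        simp only [Category.assoc, r, y]
        rw [pullback.condition]
    have he : ((r ≫ g) * ((r ≫ x) ≫ k)) ≫ π = ((r ≫ g) * (y ≫ k)) ≫ π := by
      rw [← hpt, ← hpt, ← ha, ← hb]
      simp only [Category.assoc, h1]
    have hl := hker.lift_snd _ _ he
    rw [ShfGrp.point_act, hker.lift_fst, _root_.mul_assoc, mul_left_cancel_iff, ← Category.assoc _ h k,
      ← MonObj.mul_comp] at hl
    have hy := (cancel_mono k).1 hl
    rw [ha, hb, ← hy, ← ShfGrp.lift_act, Category.assoc]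
    have := congrArg (lift (r ≫ x) (hker.lift _ _ he ≫ snd G H) ≫ ·)
      (coequalizer.condition (fst K H) ((K ◁ h) ≫ hK.mul))
    simp only [lift_fst_assoc] at this
    exact congrArg (lift _) this
  · have hwq : fst _ _ ≫ qbar = act ≫ qbar := by
      obtain ⟨T', q, g, x, hq', hx⟩ := hlift (𝟙 _)
      rw [Category.comp_id] at hx
      rw [← cancel_epi q, hx, lift_fst_assoc, ← Category.assoc, hpt, Category.assoc, Category.assoc, hq, hπK]
    refine ⟨hwq, ⟨Cofork.IsColimit.mk _ (fun s => coequalizer.desc (π ≫ s.π) ?_) (fun s => ?_) (fun s m hm => ?_)⟩⟩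
    · have hc := congrArg (lift (fst G K ≫ π) (snd G K ≫ π') ≫ ·) s.condition
      simp only [lift_fst_assoc, Category.assoc] at hc
      rw [hc, ← Category.assoc, hpt, ← ShfGrp.lift_act]
      simp [π]
    · rw [← cancel_epi π]
      show π ≫ qbar ≫ _ = _
      rw [← Category.assoc, hq, coequalizer.π_desc]
    · show (m : coequalizer (fst G K) ((G ◁ k) ≫ hG.mul) ⟶ _) = _
      refine coequalizer.hom_ext (f := fst G K) (g := (G ◁ k) ≫ hG.mul) ?_
      rw [coequalizer.π_desc, ← hq, Category.assoc]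
      exact congrArg (π ≫ ·) hm

end Groth.Agent.S6054
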