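import Groth.Statements.S6055
import Groth.Agent.ShfGrp.KernelPair
-- import your own Groth.Agent.* helpers here

set_option autoImplicit false
open CategoryTheory CategoryTheory.Limits MonoidalCategory
universe w v₁ u₁
open ShfCat

set_option backward.isDefEq.respectTransparency false

namespace Groth.Agent.S6055

open MonObj CartesianMonoidalCategory SemiCartesianMonoidalCategory in
/-- Let `G` be a sheaf of groups on a site, `H, L ⊆ G` subgroup sheaves and `π : G ⟶ G/H` the quotient
sheaf map. Then the pair `L × (H ∩ L) ⇉ L` (projection, right multiplication) is the kernel pair of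
`L ⟶ G ⟶ G/H`, so that the image of `L` in `G/H` is the quotient sheaf `L/(H ∩ L)`. Sheaves of sets
in `Type w` with sheafification; `H ∩ L` is the fibre product `H ×_G L`. (The published statement
assumes `H` normal and also identifies this image with `(L·H)/H`; normality is not needed for the
part stated here.) -/
theorem result {C : Type u₁} [Category.{v₁} C]
    (J : GrothendieckTopology C) [HasSheafify J (Type w)]
    {H L G : Sheaf J (Type w)} [hH : GrpObj H] [hL : GrpObj L] [hG : GrpObj G]
    (u : H ⟶ G) (l : L ⟶ G) [Mono u] [Mono l]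
    (hu : @IsMonHom (Sheaf J (Type w)) _ _ H G hH.toMonObj hG.toMonObj u)
    (hl : @IsMonHom (Sheaf J (Type w)) _ _ L G hL.toMonObj hG.toMonObj l) :
    IsKernelPair (l ≫ coequalizer.π (fst G H) ((G ◁ u) ≫ hG.mul))
      (fst L (pullback u l)) ((L ◁ pullback.snd u l) ≫ hL.mul) := by
  haveI := hu
  haveI := hl
  have hk := ShfGrp.isKernelPair_quotient u
  let π := coequalizer.π (fst G H) ((G ◁ u) ≫ hG.mul)
  have hact : ∀ {Y : Sheaf J (Type w)} (x : Y ⟶ L) (p : Y ⟶ pullback u l),
      lift x p ≫ (L ◁ pullback.snd u l) ≫ hL.mul = x * (p ≫ pullback.snd u l) := fun x p =>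
    ShfGrp.lift_act (H := pullback u l) (pullback.snd u l) x p
  refine IsPullback.of_isLimit' ⟨?_⟩ (PullbackCone.IsLimit.mk _
    (fun s => lift s.fst (pullback.lift
      (hk.lift (s.fst ≫ l) (s.snd ≫ l) (by simpa using s.condition) ≫ snd G H) (s.fst⁻¹ * s.snd) ?_))
    (fun s => lift_fst _ _) (fun s => ?_) (fun s m h1 h2 => ?_))
  · have key : ∀ {Y : Sheaf J (Type w)} (x : Y ⟶ L) (p : Y ⟶ pullback u l),
        x ≫ l ≫ π = (x * (p ≫ pullback.snd u l)) ≫ l ≫ π := by
      intro Y x p
      have hp : (p ≫ pullback.snd u l) ≫ l = (p ≫ pullback.fst u l) ≫ u := by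
        rw [Category.assoc, ← pullback.condition, ← Category.assoc]
      have hc : (x ≫ l) ≫ π = lift (x ≫ l) ((p ≫ pullback.fst u l) ≫ u) ≫ hG.mul ≫ π := by
        have hc0 := congrArg (lift (x ≫ l) (p ≫ pullback.fst u l) ≫ ·)
          (coequalizer.condition (fst G H) ((G ◁ u) ≫ hG.mul))
        simp only [lift_fst_assoc, lift_whiskerLeft_assoc, Category.assoc] at hc0 ⊢
        exact hc0
      rw [← Category.assoc x, ← Category.assoc (x * _), MonObj.mul_comp, hp, Hom.mul_def]
      exact hc.trans (Category.assoc _ _ _).symm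
    have := key (fst L (pullback u l)) (snd L (pullback u l))
    rw [← hact, lift_fst_snd, Category.id_comp] at this
    exact this
  · rw [MonObj.mul_comp, GrpObj.inv_comp]
    have h := hk.lift_snd (s.fst ≫ l) (s.snd ≫ l) (by simpa using s.condition)
    rw [ShfGrp.point_act, hk.lift_fst] at h
    exact eq_inv_mul_of_mul_eq h
  · rw [hact, pullback.lift_snd, mul_inv_cancel_left]
  · apply CartesianMonoidalCategory.hom_ext
    · rw [lift_fst]; exact h1
    · rw [lift_snd]
      have h2' : lift (m ≫ fst L _) (m ≫ snd L _) ≫ (L ◁ pullback.snd u l) ≫ hL.mul = s.snd := by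
        rw [← comp_lift, lift_fst_snd, Category.comp_id]; exact h2
      rw [hact, h1] at h2'
      apply (cancel_mono (pullback.snd u l)).1
      rw [pullback.lift_snd, ← h2', inv_mul_cancel_left]

end Groth.Agent.S6055
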