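import Groth.Statements.S6056
import Groth.Agent.GrpSch.Desc
import Groth.Agent.GrpSch.FlatPoint
import Groth.Agent.GenFlat.FppfSource

set_option autoImplicit false
open CategoryTheory CategoryTheory.Limits AlgebraicGeometry MonoidalCategory
universe u
open RedSub

namespace Groth.Agent.S6056

open MonObj CartesianMonoidalCategory SemiCartesianMonoidalCategory in
/-- For group schemes and fppf quotients: let `K ⊆ G` be a subgroup scheme and `H ⊆ K` a subgroup scheme
normal in `K`; suppose `G/H` is represented by `q_H : G ⟶ Q_H` and `K/H` by a homomorphism `K ⟶ K'`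
of group schemes, and let `act : Q_H ×_S K' ⟶ Q_H` be the right action induced by the multiplication
of `G`. Then: (i) if `G/K` is represented by `q_K : G ⟶ Q_K`, the map `Q_H ⟶ Q_K` under `G` is an
fppf covering whose kernel pair is `Q_H ×_S K' ⇉ Q_H` (projection, action), i.e. `Q_K =
(G/H)/(K/H)`; (ii) conversely, if `p : Q_H ⟶ Y` is an fppf covering with that kernel pair, then `q_H
≫ p` represents `G/K`. -/
theorem result {S : Scheme.{u}} {H K G QH Kb : Over S}
    [hH : GrpObj H] [hK : GrpObj K] [hG : GrpObj G] [hKb : GrpObj Kb]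
    (h : H ⟶ K) (k : K ⟶ G) [Mono h] [Mono k] [IsMonHom h] [IsMonHom k]
    (hn : AlgGrp.IsNormalHom h)
    (qH : G ⟶ QH) (hqH : RedSub.IsQuotient (h ≫ k) qH)
    (qKb : K ⟶ Kb) [IsMonHom qKb] (hqKb : RedSub.IsQuotient h qKb)
    (act : QH ⊗ Kb ⟶ QH) (hact : (qH ⊗ₘ qKb) ≫ act = (G ◁ k) ≫ μ[G] ≫ qH) :
    (∀ (QK : Over S) (qK : G ⟶ QK), RedSub.IsQuotient k qK →
      ∀ qbar : QH ⟶ QK, qH ≫ qbar = qK →
        Surjective qbar.left ∧ Flat qbar.left ∧ LocallyOfFinitePresentation qbar.left ∧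
          IsPullback (fst QH Kb) act qbar qbar) ∧
    (∀ (Y : Over S) (p : QH ⟶ Y),
      Surjective p.left → Flat p.left → LocallyOfFinitePresentation p.left →
      IsPullback (fst QH Kb) act p p → RedSub.IsQuotient k (qH ≫ p)) := by
  obtain ⟨hs₁, hf₁, hl₁, hp₁⟩ := hqH
  obtain ⟨hs₂, hf₂, hl₂, hp₂⟩ := hqKb
  have hG : (G ◁ k) ≫ μ[G] = fst G K * (snd G K ≫ k) := by rw [Hom.mul_def]; congr 1
  have hGH : (G ◁ (h ≫ k)) ≫ μ[G] = fst G H * (snd G H ≫ h ≫ k) := by rw [Hom.mul_def]; congr 1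
  have hKH : (K ◁ h) ≫ μ[K] = fst K H * (snd K H ≫ h) := by rw [Hom.mul_def]; congr 1
  -- values on points
  have hval : ∀ {T : Over S} (g : T ⟶ G) (κ : T ⟶ K),
      lift (g ≫ qH) (κ ≫ qKb) ≫ act = (g * (κ ≫ k)) ≫ qH := by
    intro T g κ
    have := congrArg (fun r => lift g κ ≫ r) hact
    rwa [← Category.assoc, lift_map, ← Category.assoc (G ◁ k), hG, ← Category.assoc, MonObj.comp_mul,
      lift_fst, lift_snd_assoc] at this
  have hrelH : ∀ {T : Over S} (g g' : T ⟶ G), g ≫ qH = g' ≫ qH → ∃ x : T ⟶ H, g * (x ≫ h ≫ k) = g' := by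
    intro T g g' e
    obtain ⟨l, hl, hl'⟩ := hp₁.exists_lift g g' e
    refine ⟨l ≫ snd G H, ?_⟩
    rwa [hGH, MonObj.comp_mul, hl, ← Category.assoc] at hl'
  have hrelK : ∀ {T : Over S} (κ : T ⟶ K) (x : T ⟶ H), (κ * (x ≫ h)) ≫ qKb = κ ≫ qKb := by
    intro T κ x
    have := congrArg (fun r => lift κ x ≫ r) hp₂.w
    rw [hKH, ← Category.assoc, ← Category.assoc, lift_fst, MonObj.comp_mul, lift_fst, lift_snd_assoc] at this
    exact this.symm
  -- covers
  have hcov : ∀ {A B T : Over S} (f : A ⟶ B), Surjective f.left → Flat f.left →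
      LocallyOfFinitePresentation f.left → ∀ x : T ⟶ B, ∃ (T' : Over S) (c : T' ⟶ T) (a : T' ⟶ A),
        Surjective c.left ∧ Flat c.left ∧ LocallyOfFinitePresentation c.left ∧ a ≫ f = c ≫ x := by
    intro A B T f h₁ h₂ h₃ x
    have hP : IsPullback (Limits.pullback.fst x f) (Limits.pullback.snd x f) x f := IsPullback.of_hasPullback x f
    exact ⟨_, Limits.pullback.fst x f, Limits.pullback.snd x f,
      MorphismProperty.of_isPullback (Groth.Agent.GrpSch.isPullback_left hP).flip h₁,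
      MorphismProperty.of_isPullback (Groth.Agent.GrpSch.isPullback_left hP).flip h₂,
      MorphismProperty.of_isPullback (Groth.Agent.GrpSch.isPullback_left hP).flip h₃, hP.w.symm⟩
  have hepi : ∀ {T' T : Over S} (c : T' ⟶ T), Surjective c.left → Flat c.left →
      LocallyOfFinitePresentation c.left → EffectiveEpi c.left ∧ Epi c := by
    intro T' T c h₁ h₂ h₃
    haveI := h₁; haveI := h₂; haveI := h₃
    exact ⟨inferInstance, Groth.Agent.GrpSch.Desc.epi_of_effectiveEpi_left c⟩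
  -- the action is free
  have hfree : ∀ {T : Over S} (x : T ⟶ QH) (a b : T ⟶ Kb),
      lift x a ≫ act = lift x b ≫ act → a = b := by
    intro T x a b hab
    obtain ⟨T₁, c₁, g, e1, e2, e3, hg⟩ := hcov qH hs₁ hf₁ hl₁ x
    obtain ⟨T₂, c₂, κ, e4, e5, e6, hκ⟩ := hcov qKb hs₂ hf₂ hl₂ (c₁ ≫ a)
    obtain ⟨T₃, c₃, κ', e7, e8, e9, hκ'⟩ := hcov qKb hs₂ hf₂ hl₂ (c₂ ≫ c₁ ≫ b)
    haveI := (hepi c₁ e1 e2 e3).2; haveI := (hepi c₂ e4 e5 e6).2; haveI := (hepi c₃ e7 e8 e9).2
    rw [← cancel_epi c₁, ← cancel_epi c₂, ← cancel_epi c₃]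
    have h₁ : (c₃ ≫ c₂ ≫ g) ≫ qH = c₃ ≫ c₂ ≫ c₁ ≫ x := by
      rw [Category.assoc, Category.assoc, hg]
    have h₂ : ((c₃ ≫ c₂ ≫ g) * ((c₃ ≫ κ) ≫ k)) ≫ qH = ((c₃ ≫ c₂ ≫ g) * (κ' ≫ k)) ≫ qH := by
      rw [← hval, ← hval, h₁, Category.assoc c₃ κ, hκ, hκ']
      have := congrArg (fun r => c₃ ≫ c₂ ≫ c₁ ≫ r) hab
      simpa only [comp_lift_assoc, Category.assoc] using this
    obtain ⟨m, hm⟩ := hrelH _ _ h₂
    rw [_root_.mul_assoc, mul_left_cancel_iff, ← Category.assoc m, ← MonObj.mul_comp, cancel_mono] at hm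
    rw [← hκ', ← hm, hrelK, Category.assoc, hκ]
  constructor
  · rintro QK qK ⟨hs₃, hf₃, hl₃, hp₃⟩ qbar hq
    have hinv : act ≫ qbar = fst QH Kb ≫ qbar := by
      obtain ⟨T₁, c₁, g, e1, e2, e3, hg⟩ := hcov qH hs₁ hf₁ hl₁ (fst QH Kb)
      obtain ⟨T₂, c₂, κ, e4, e5, e6, hκ⟩ := hcov qKb hs₂ hf₂ hl₂ (c₁ ≫ snd QH Kb)
      haveI := (hepi c₁ e1 e2 e3).2; haveI := (hepi c₂ e4 e5 e6).2
      rw [← cancel_epi c₁, ← cancel_epi c₂]
      have hl : lift ((c₂ ≫ g) ≫ qH) (κ ≫ qKb) = c₂ ≫ c₁ := by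
        apply CartesianMonoidalCategory.hom_ext
        · simp [hg]
        · simp [hκ]
      calc c₂ ≫ c₁ ≫ act ≫ qbar = ((c₂ ≫ g) * (κ ≫ k)) ≫ qK := by
            rw [← hq, ← Category.assoc _ qH, ← hval, hl, Category.assoc, Category.assoc]
        _ = (c₂ ≫ g) ≫ qK := by
            have := congrArg (fun r => lift (c₂ ≫ g) κ ≫ r) hp₃.w
            rw [hG, ← Category.assoc, ← Category.assoc, lift_fst, MonObj.comp_mul, lift_fst, lift_snd_assoc] at this
            exact this.symm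
        _ = c₂ ≫ c₁ ≫ fst QH Kb ≫ qbar := by
            rw [← hq, Category.assoc, ← Category.assoc g, hg, Category.assoc]
    have hex : ∀ {T : Over S} (x y : T ⟶ QH), x ≫ qbar = y ≫ qbar → ∃ a : T ⟶ Kb, lift x a ≫ act = y := by
      intro T x y hxy
      obtain ⟨T₁, c₁, g, e1, e2, e3, hg⟩ := hcov qH hs₁ hf₁ hl₁ x
      obtain ⟨T₂, c₂, g', e4, e5, e6, hg'⟩ := hcov qH hs₁ hf₁ hl₁ (c₁ ≫ y)
      haveI := e1; haveI := e2; haveI := e3; haveI := e4; haveI := e5; haveI := e6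
      haveI : EffectiveEpi (c₂ ≫ c₁).left := (hepi (c₂ ≫ c₁)
        (by rw [Over.comp_left]; infer_instance) (by rw [Over.comp_left]; infer_instance)
        (by rw [Over.comp_left]; infer_instance)).1
      obtain ⟨l, hl, hl'⟩ := hp₃.exists_lift (c₂ ≫ g) g' (by
        rw [← hq, Category.assoc, ← Category.assoc g, hg, ← Category.assoc g', hg', Category.assoc, Category.assoc,
          Category.assoc, hxy])
      rw [hG, MonObj.comp_mul, hl, ← Category.assoc] at hl'
      have hy : lift ((c₂ ≫ c₁) ≫ x) ((l ≫ snd G K) ≫ qKb) ≫ act = (c₂ ≫ c₁) ≫ y := by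
        rw [Category.assoc, ← hg, ← Category.assoc, hval, hl', hg', Category.assoc]
      obtain ⟨a, ha, -⟩ := Groth.Agent.GrpSch.Desc.exists_desc (c₂ ≫ c₁) ((l ≫ snd G K) ≫ qKb)
        (fun T' p q hpq => by
          refine hfree (p ≫ (c₂ ≫ c₁) ≫ x) _ _ ?_
          have h1 := congrArg (fun r => p ≫ r) hy
          have h2 := congrArg (fun r => q ≫ r) hy
          simp only [comp_lift_assoc] at h1 h2
          rw [← Category.assoc q (c₂ ≫ c₁) x, ← hpq, Category.assoc p, ← Category.assoc q (c₂ ≫ c₁) y, ← hpq,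
            Category.assoc p] at h2
          rw [h1, h2])
      refine ⟨a, ?_⟩
      haveI := Groth.Agent.GrpSch.Desc.epi_of_effectiveEpi_left (c₂ ≫ c₁)
      rw [← cancel_epi (c₂ ≫ c₁), comp_lift_assoc, ha, hy]
    haveI := hs₁; haveI := hf₁; haveI := hl₁; haveI := hs₃; haveI := hf₃; haveI := hl₃
    have hql : qH.left ≫ qbar.left = qK.left := by rw [← Over.comp_left, hq]
    refine ⟨⟨fun x => ?_⟩, (Flat.iff_flat_stalkMap _).2 fun x => ?_, ?_, ?_⟩
    · obtain ⟨g, hg⟩ := qK.left.surjective x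
      exact ⟨qH.left g, by rw [← Scheme.Hom.comp_apply, hql, hg]⟩
    · obtain ⟨g, rfl⟩ := qH.left.surjective x
      refine Groth.Agent.GrpSch.flat_stalkMap_of_comp qH.left qbar.left g ((Flat.iff_flat_stalkMap _).1 hf₁ g) ?_
      rw [hql]
      exact (Flat.iff_flat_stalkMap _).1 hf₃ g
    · haveI : LocallyOfFinitePresentation (qH.left ≫ qbar.left) := by rw [hql]; exact hl₃
      exact Groth.Agent.GenFlat.locallyOfFinitePresentation_of_fppf_comp qH.left qbar.left
    · choose a ha using fun (T : Over S) (x y : T ⟶ QH) (e : x ≫ qbar = y ≫ qbar) => hex x y e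
      refine IsPullback.of_isLimit' ⟨hinv.symm⟩ (Limits.PullbackCone.IsLimit.mk _
        (fun s => lift s.fst (a _ s.fst s.snd s.condition)) (fun s => lift_fst _ _)
        (fun s => ha _ _ _ s.condition) (fun s m h1 h2 => ?_))
      apply CartesianMonoidalCategory.hom_ext
      · rw [lift_fst, h1]
      · rw [lift_snd]
        refine hfree s.fst _ _ ?_
        rw [ha, ← h1, ← h2, ← comp_lift_assoc, lift_fst_snd, Category.id_comp]
  · intro Y p hs hf hl hpb
    haveI := hs₁; haveI := hf₁; haveI := hl₁; haveI := hs; haveI := hf; haveI := hl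
    refine ⟨by rw [Over.comp_left]; infer_instance, by rw [Over.comp_left]; infer_instance,
      by rw [Over.comp_left]; infer_instance, ?_⟩
    have hw : fst G K ≫ qH ≫ p = ((G ◁ k) ≫ μ[G]) ≫ qH ≫ p := by
      have h1 := hval (fst G K) (snd G K)
      rw [← hG] at h1
      rw [← Category.assoc ((G ◁ k) ≫ μ[G]), ← h1, Category.assoc, ← hpb.w, lift_fst_assoc, Category.assoc]
    have hex : ∀ {T : Over S} (g g' : T ⟶ G), g ≫ qH ≫ p = g' ≫ qH ≫ p → ∃ z : T ⟶ K, g * (z ≫ k) = g' := by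
      intro T g g' e
      obtain ⟨l, hl₀, hl'⟩ := hpb.exists_lift (g ≫ qH) (g' ≫ qH) (by simpa only [Category.assoc] using e)
      obtain ⟨T₁, c, κ, e1, e2, e3, hκ⟩ := hcov qKb hs₂ hf₂ hl₂ (l ≫ snd QH Kb)
      haveI : EffectiveEpi c.left := (hepi c e1 e2 e3).1
      haveI := (hepi c e1 e2 e3).2
      have h1 : ((c ≫ g) * (κ ≫ k)) ≫ qH = (c ≫ g') ≫ qH := by
        rw [← hval, hκ, Category.assoc, ← hl₀, Category.assoc, ← hl']
        simp only [← comp_lift_assoc, lift_fst_snd, Category.id_comp]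
      obtain ⟨x, hx⟩ := hrelH _ _ h1
      rw [_root_.mul_assoc, ← Category.assoc x, ← MonObj.mul_comp] at hx
      have hz : (κ * (x ≫ h)) ≫ k = c ≫ (g⁻¹ * g') := by
        rw [MonObj.comp_mul, GrpObj.comp_inv, ← hx, inv_mul_cancel_left]
      obtain ⟨z, hz', -⟩ := Groth.Agent.GrpSch.Desc.exists_desc c (κ * (x ≫ h)) (fun T' p' q' hpq => by
        rw [← cancel_mono k, Category.assoc, Category.assoc, hz, ← Category.assoc, hpq, Category.assoc])
      refine ⟨z, ?_⟩
      have : z ≫ k = g⁻¹ * g' := by rw [← cancel_epi c, ← Category.assoc, hz', hz]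
      rw [this, mul_inv_cancel_left]
    choose z hz using fun (T : Over S) (g g' : T ⟶ G) (e : g ≫ qH ≫ p = g' ≫ qH ≫ p) => hex g g' e
    refine IsPullback.of_isLimit' ⟨hw⟩ (Limits.PullbackCone.IsLimit.mk _
      (fun s => lift s.fst (z _ s.fst s.snd s.condition)) (fun s => lift_fst _ _) (fun s => ?_)
      (fun s m h1 h2 => ?_))
    · rw [hG, MonObj.comp_mul, lift_fst, lift_snd_assoc, hz]
    · apply CartesianMonoidalCategory.hom_ext
      · rw [lift_fst, h1]
      · rw [lift_snd, ← cancel_mono k]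
        rw [hG, MonObj.comp_mul, h1, ← hz _ s.fst s.snd s.condition, mul_left_cancel_iff, ← Category.assoc] at h2
        exact h2

end Groth.Agent.S6056
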