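import Groth.Statements.S6057
import Mathlib.CategoryTheory.Sites.Over
import Mathlib.CategoryTheory.Sites.IsSheafFor

set_option autoImplicit false
open CategoryTheory
universe v₁ u₁
open ShfCat Opposite

namespace Groth.Agent.S6057

/-- Let `S` be an object whose representable presheaf is a sheaf for `J` and `φ : F ⟶ h_S` a morphism of
presheaves of sets. The relative presheaf on `C/S` (sections of `F` over `T` lying over the given `T
⟶ S`) is separated (resp. a sheaf) for the induced topology on `C/S` if and only if `F` is separated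
(resp. a sheaf). -/
theorem result {C : Type u₁} [Category.{v₁} C] (J : GrothendieckTopology C)
    {S : C} (hS : Presieve.IsSheaf J (yoneda.obj S)) {F : Cᵒᵖ ⥤ Type v₁} (φ : F ⟶ yoneda.obj S) :
    (Presieve.IsSeparated (J.over S) (ShfCat.relPsh φ) ↔ Presieve.IsSeparated J F) ∧
    (Presieve.IsSheaf (J.over S) (ShfCat.relPsh φ) ↔ Presieve.IsSheaf J F) := by
  -- uniqueness of maps into `S` on a cover
  have hsep : ∀ {X : C} {R : Sieve X}, R ∈ J X → ∀ a b : X ⟶ S,
      (∀ ⦃Y : C⦄ (f : Y ⟶ X), R f → f ≫ a = f ≫ b) → a = b := by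
    intro X R hR a b h
    exact (hS R hR).isSeparatedFor.ext fun Y f hf => h f hf
  have hval : ∀ {X : C} (g : X ⟶ S) {Y : C} (f : Y ⟶ X) (x : F.obj (op X)),
      φ.app (op X) x = g → φ.app (op Y) (F.map f.op x) = f ≫ g := by
    intro X g Y f x hx
    rw [NatTrans.naturality_apply φ f.op x, hx]
    rfl
  have relSep : Presieve.IsSeparated J F → Presieve.IsSeparated (J.over S) (relPsh φ) := by
    intro h T R hR x a b ha hb
    refine Subtype.ext ((h _ ((J.mem_over_iff R).1 hR)).ext fun Y f hf => ?_)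
    rw [Sieve.overEquiv_iff] at hf
    exact congrArg Subtype.val ((ha _ hf).trans (hb _ hf).symm)
  have sepRel : Presieve.IsSeparated (J.over S) (relPsh φ) → Presieve.IsSeparated J F := by
    intro h X R hR x a b ha hb
    have hab : φ.app (op X) a = φ.app (op X) b := hsep hR _ _ fun Y f hf => by
      rw [← hval _ f a rfl, ← hval _ f b rfl, ha f hf, hb f hf]
    have h' := (h _ (J.overEquiv_symm_mem_over (Over.mk (φ.app (op X) a)) R hR)).ext
      (t₁ := (⟨a, rfl⟩ : RelSections φ (Over.mk (φ.app (op X) a)))) (t₂ := ⟨b, hab.symm⟩)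
      fun V g hg => Subtype.ext ((ha g.left hg).trans (hb g.left hg).symm)
    exact congrArg Subtype.val h'
  refine ⟨⟨sepRel, relSep⟩, fun h => ?_, fun h => ?_⟩
  · intro X R hR
    refine (Presieve.isSeparatedFor_and_exists_isAmalgamation_iff_isSheafFor (R := (R : Presieve X))).1
      ⟨sepRel h.isSeparated R hR, fun x hx => ?_⟩
    let y : Presieve.FamilyOfElements (yoneda.obj S) (R : Presieve X) := fun Y f hf => φ.app (op Y) (x f hf)
    have hy : y.Compatible := fun Y₁ Y₂ Z g₁ g₂ f₁ f₂ h₁ h₂ e => by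
      simp only [y]
      rw [← NatTrans.naturality_apply φ, ← NatTrans.naturality_apply φ, hx g₁ g₂ h₁ h₂ e]
    obtain ⟨t, ht, -⟩ := hS R hR y hy
    let T : Over S := Over.mk t
    let x' : Presieve.FamilyOfElements (relPsh φ) ((Sieve.overEquiv T).symm R : Presieve T) := fun V g hg =>
      ⟨x g.left hg, ((ht g.left hg).symm.trans (Over.w g))⟩
    have hx' : x'.Compatible := fun V₁ V₂ W g₁ g₂ f₁ f₂ h₁ h₂ e =>
      Subtype.ext (hx g₁.left g₂.left h₁ h₂ (congrArg CommaMorphism.left e))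
    obtain ⟨a, ha, -⟩ := h _ (J.overEquiv_symm_mem_over T R hR) x' hx'
    refine ⟨a.1, fun Y f hf => ?_⟩
    exact congrArg Subtype.val (ha (Over.homMk f : Over.mk (f ≫ t) ⟶ T) hf)
  · intro T R hR
    refine (Presieve.isSeparatedFor_and_exists_isAmalgamation_iff_isSheafFor (R := (R : Presieve T))).1
      ⟨relSep h.isSeparated R hR, fun x hx => ?_⟩
    have hE := (J.mem_over_iff R).1 hR
    let y : Presieve.FamilyOfElements F ((Sieve.overEquiv T R : Sieve T.left) : Presieve T.left) := fun Y f hf =>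
      (x (Over.homMk f : Over.mk (f ≫ T.hom) ⟶ T) ((Sieve.overEquiv_iff R f).1 hf)).1
    have hy : y.Compatible := fun Y₁ Y₂ Z g₁ g₂ f₁ f₂ h₁ h₂ e => by
      let W : Over S := Over.mk ((g₁ ≫ f₁) ≫ T.hom)
      let k₁ : W ⟶ Over.mk (f₁ ≫ T.hom) := Over.homMk g₁ (Category.assoc g₁ f₁ T.hom).symm
      let k₂ : W ⟶ Over.mk (f₂ ≫ T.hom) := Over.homMk g₂ ((Category.assoc g₂ f₂ T.hom).symm.trans
        (congrArg (· ≫ T.hom) e.symm))
      exact congrArg Subtype.val (hx k₁ k₂ ((Sieve.overEquiv_iff R f₁).1 h₁)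
        ((Sieve.overEquiv_iff R f₂).1 h₂) (Over.OverMorphism.ext e))
    obtain ⟨a, ha, -⟩ := h _ hE y hy
    refine ⟨⟨a, hsep hE _ _ fun Y f hf => ?_⟩, fun V g hg => ?_⟩
    · rw [← hval _ f a rfl, ha f hf]
      exact (x _ ((Sieve.overEquiv_iff R f).1 hf)).2
    · have hgl : Sieve.overEquiv T R g.left := ⟨V, g, 𝟙 _, hg, (Category.id_comp _).symm⟩
      refine Subtype.ext ((ha g.left hgl).trans ?_)
      have e : (Over.homMk (U := Over.mk (g.left ≫ T.hom)) (𝟙 V.left) (by simp) : Over.mk (g.left ≫ T.hom) ⟶ V) ≫ g =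
          𝟙 _ ≫ (Over.homMk g.left : Over.mk (g.left ≫ T.hom) ⟶ T) := Over.OverMorphism.ext (by simp)
      have := congrArg Subtype.val (hx _ _ hg ((Sieve.overEquiv_iff R g.left).1 hgl) e)
      simpa [relPsh_map_val, y] using this.symm

end Groth.Agent.S6057
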