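import Groth.Statements.S6059
import Groth.Agent.MultHopf.KerIdeal
import Mathlib.AlgebraicGeometry.AffineScheme
-- import your own Groth.Agent.* helpers here

set_option autoImplicit false
open CategoryTheory MonoidalCategory CartesianMonoidalCategory MonObj GrpObj AlgebraicGeometry
universe u
open SGA3x

namespace Groth.Agent.S6059

set_option backward.isDefEq.respectTransparency.types false
open Groth.Agent.MultHopf
open CategoryTheory.Limits
open scoped TensorProduct
open WithConv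

/-- Let u : H ⟶ G be a homomorphism of S-groups, with H of multiplicative type and of finite type and G
separated over S, and suppose S locally Noetherian or G locally of finite presentation over S. If s
∈ S is a point such that u_s : H_s ⟶ G_s is a monomorphism, then there is an open neighbourhood U of
s such that the homomorphism H|_U ⟶ G|_U induced above U is a monomorphism. -/
theorem result {S : Scheme.{u}} (H G : Over S) [GrpObj H] [GrpObj G]
    (hH : SGA3x.IsMultTypeFT H) [IsSeparated G.hom] (hG : IsLocallyNoetherian S ∨ LocallyOfFinitePresentation G.hom)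
    (u : H ⟶ G) [IsMonHom u] (s : S)
    (hs : Mono ((Over.pullback (S.fromSpecResidueField s)).map u).left) :
    ∃ U : S.Opens, s ∈ U ∧ Mono ((Over.pullback U.ι).map u).left := by
  classical
  obtain ⟨V, hV, hsV, -⟩ := exists_isAffineOpen_mem_and_subset (x := s) (U := ⊤) trivial
  let R₀ : Type u := Γ(S, V)
  let j₀ : Spec (CommRingCat.of R₀) ⟶ S := hV.fromSpec
  have : IsAffineHom H.hom := isAffineHom_of_isMultTypeFT H hH
  have : LocallyOfFiniteType H.hom := Groth.Agent.MultTypeMono.locallyOfFiniteType_of_isMultTypeFT H hH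
  have : IsAffineHom (Red.bc j₀ H).hom := MorphismProperty.pullback_snd (P := @IsAffineHom) _ _ inferInstance
  have : LocallyOfFiniteType (Red.bc j₀ H).hom := MorphismProperty.pullback_snd (P := @LocallyOfFiniteType) _ _ inferInstance
  have : IsSeparated (Red.bc j₀ G).hom := MorphismProperty.pullback_snd (P := @IsSeparated) _ _ inferInstance
  obtain ⟨A₀, _, _, ⟨eA⟩⟩ := exists_hopf R₀ (Red.bc j₀ H)
  have : Algebra.FiniteType R₀ A₀ := by
    let g : hspec R₀ A₀ ⟶ Red.bc j₀ H := eA.inv.hom.hom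
    have : IsIso g := ⟨eA.hom.hom.hom, congrArg (fun z => z.hom.hom) eA.inv_hom_id, congrArg (fun z => z.hom.hom) eA.hom_inv_id⟩
    have : IsIso g.left := inferInstanceAs (IsIso ((Over.forget _).map g))
    have h1 : LocallyOfFiniteType (Spec.map (CommRingCat.ofHom (algebraMap R₀ A₀))) := by
      rw [show Spec.map (CommRingCat.ofHom (algebraMap R₀ A₀)) = g.left ≫ (Red.bc j₀ H).hom from (Over.w g).symm]
      exact (MorphismProperty.cancel_left_of_respectsIso (P := @LocallyOfFiniteType) g.left (Red.bc j₀ H).hom).2 inferInstance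
    exact RingHom.finiteType_algebraMap.1 ((HasRingHomProperty.Spec_iff (P := @LocallyOfFiniteType)).1 h1)
  let Fu : Grp.mk (Red.bc j₀ H) ⟶ Grp.mk (Red.bc j₀ G) :=
    (Over.pullback j₀).mapGrp.map (Grp.homMk'' u : Grp.mk H ⟶ Grp.mk G)
  let u₀ : hspec R₀ A₀ ⟶ Red.bc j₀ G := (eA.inv ≫ Fu).hom.hom
  have : IsMonHom u₀ := (eA.inv ≫ Fu).hom.isMonHom_hom
  obtain ⟨J, hJ, -, hiff⟩ := exists_ker_ideal u₀
  -- points of `H` as points of `A₀`
  have hpt : ∀ (C : Type u) [CommRing C] [Algebra R₀ C]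
      (y : (Over.map j₀).obj ((Spec (CommRingCat.of C)).asOver (Spec (CommRingCat.of R₀))) ⟶ H),
      ∃ φ : WithConv (A₀ →ₐ[R₀] C), (φ = 1 ↔ y = 1) ∧ ((∀ a ∈ J, φ.ofConv a = 0) ↔ y ≫ u = 1) := by
    intro C _ _ y
    let z := adjMulEquiv j₀ _ H y
    have : IsMonHom eA.hom.hom.hom := eA.hom.hom.isMonHom_hom
    refine ⟨Spec.mapMulEquiv.symm (z ≫ eA.hom.hom.hom), ?_, ?_⟩
    · rw [MulEquiv.symm_apply_eq, map_one]
      constructor
      · intro h
        apply (adjMulEquiv j₀ _ H).injective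
        rw [map_one]
        show z = 1
        calc z = (z ≫ eA.hom.hom.hom) ≫ eA.inv.hom.hom := by
              rw [Category.assoc, show eA.hom.hom.hom ≫ eA.inv.hom.hom = 𝟙 _ from
                congrArg (fun z => z.hom.hom) eA.hom_inv_id, Category.comp_id]
          _ = 1 := by
              have : IsMonHom eA.inv.hom.hom := eA.inv.hom.isMonHom_hom
              rw [h, MonObj.one_comp]
      · rintro rfl
        simp only [z, map_one, MonObj.one_comp]
    · rw [← hiff, MulEquiv.apply_symm_apply]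
      have e : (z ≫ eA.hom.hom.hom) ≫ u₀ = adjMulEquiv j₀ _ G (y ≫ u) := by
        rw [adjMulEquiv_comp]
        show (z ≫ eA.hom.hom.hom) ≫ eA.inv.hom.hom ≫ (Over.pullback j₀).map u = _
        rw [Category.assoc, ← Category.assoc eA.hom.hom.hom, show eA.hom.hom.hom ≫ eA.inv.hom.hom = 𝟙 _ from
          congrArg (fun z => z.hom.hom) eA.hom_inv_id, Category.id_comp]
      rw [e, MulEquiv.map_eq_one_iff]
  -- the local ring at `s`
  let R : Type u := S.presheaf.stalk s
  let γ : R₀ →+* R := (S.presheaf.germ V s hsV).hom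
  let : Algebra R₀ R := γ.toAlgebra
  have : IsLocalization.AtPrime R (hV.primeIdealOf ⟨s, hsV⟩).asIdeal := hV.isLocalization_stalk ⟨s, hsV⟩
  let g : Spec (CommRingCat.of R) ⟶ Spec (CommRingCat.of R₀) := Spec.map (CommRingCat.ofHom (algebraMap R₀ R))
  have hg : g ≫ j₀ = S.fromSpecStalk s := hV.fromSpecStalk_eq_fromSpecStalk hsV
  have hMT : SGA3b.IsMultType R (R ⊗[R₀] A₀) :=
    isMultType_of_isMultTypeFT H hH (g ≫ j₀) s (Iso.refl _) (by rw [hg]; exact ((congrArg (· ≫ _) (Spec.map_id _)).trans (Category.id_comp _)).symm)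
      (bcComp g j₀ H ≪≫ bcIso g eA ≪≫ bcSpec R₀ R A₀)
  let iA : A₀ →ₐ[R₀] (R ⊗[R₀] A₀) := Algebra.TensorProduct.includeRight
  let J' : Ideal (R ⊗[R₀] A₀) := J.map iA
  let q : A₀ →ₐ[R₀] A₀ ⧸ J := Ideal.Quotient.mkₐ R₀ J
  let Q : (R ⊗[R₀] A₀) →ₐ[R] R ⊗[R₀] (A₀ ⧸ J) := Algebra.TensorProduct.map (AlgHom.id R R) q
  have hQ : ∀ a ∈ J', Q a = 0 := by
    intro a ha
    suffices J' ≤ RingHom.ker Q from this ha
    rw [Ideal.map_le_iff_le_comap]
    intro a ha
    show (1 : R) ⊗ₜ[R₀] q a = 0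
    rw [show q a = 0 from Ideal.Quotient.eq_zero_iff_mem.2 ha, TensorProduct.tmul_zero]
  let πA : (R ⊗[R₀] A₀) →+* (R ⊗[R₀] A₀) ⧸ J' := Ideal.Quotient.mk J'
  have : J'.IsHopfIdeal R := by
    have hmem : ∀ a ∈ J, iA a ∈ J' := fun a ha => Ideal.mem_map_of_mem _ ha
    let π : (R ⊗[R₀] A₀) →ₐ[R] (R ⊗[R₀] A₀) ⧸ J' := Ideal.Quotient.mkₐ R J'
    refine @Ideal.IsHopfIdeal.mk R (R ⊗[R₀] A₀) _ _ _ J' ⟨fun x hx => ?_, fun x hx => ?_⟩ (fun x hx => ?_)
    · have h : J' ≤ RingHom.ker (Bialgebra.counitAlgHom R (R ⊗[R₀] A₀)) := by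
        rw [Ideal.map_le_iff_le_comap]
        intro a ha
        show Coalgebra.counit (R := R) ((1 : R) ⊗ₜ[R₀] a) = 0
        simp [Submodule.IsCoideal.counit_eq_zero (I := J.restrictScalars R₀) ha]
      exact h hx
    · let ψ : (R ⊗[R₀] A₀) →ₐ[R] ((R ⊗[R₀] A₀) ⧸ J') ⊗[R] ((R ⊗[R₀] A₀) ⧸ J') :=
        (Algebra.TensorProduct.map π π).comp (Bialgebra.comulAlgHom R (R ⊗[R₀] A₀))
      have h : J' ≤ RingHom.ker ψ := by
        rw [Ideal.map_le_iff_le_comap]
        intro a ha
        let q' : A₀ ⧸ J.restrictScalars R₀ →ₗ[R₀] (R ⊗[R₀] A₀) ⧸ J' :=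
          Submodule.liftQ _ ((π.restrictScalars R₀).comp iA).toLinearMap
            (fun b hb => Ideal.Quotient.eq_zero_iff_mem.2 (hmem b hb))
        let Φ : (A₀ ⧸ J.restrictScalars R₀) ⊗[R₀] (A₀ ⧸ J.restrictScalars R₀) →ₗ[R₀]
            ((R ⊗[R₀] A₀) ⧸ J') ⊗[R] ((R ⊗[R₀] A₀) ⧸ J') :=
          TensorProduct.lift (((TensorProduct.mk R ((R ⊗[R₀] A₀) ⧸ J') ((R ⊗[R₀] A₀) ⧸ J')).restrictScalars₁₂ R₀ R₀).compl₁₂ q' q')
        have h0 : Φ (TensorProduct.map (J.restrictScalars R₀).mkQ (J.restrictScalars R₀).mkQ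
            (Coalgebra.comul (R := R₀) a)) = 0 := by
          rw [Submodule.IsCoideal.map_mkQ_comul_eq_zero (I := J.restrictScalars R₀) ha, map_zero]
        show ψ ((1 : R) ⊗ₜ[R₀] a) = 0
        rw [← h0]
        simp only [ψ, AlgHom.comp_apply, Bialgebra.comulAlgHom_apply, TensorProduct.comul_tmul,
          CommSemiring.comul_apply]
        induction Coalgebra.comul (R := R₀) a using TensorProduct.induction_on with
        | zero => simp only [TensorProduct.tmul_zero, map_zero]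
        | add x y hx hy => simp only [TensorProduct.tmul_add, map_add, hx, hy]
        | tmul x y =>
          simp only [TensorProduct.AlgebraTensorModule.tensorTensorTensorComm_tmul]
          rfl
      have h1 : ψ x = 0 := h hx
      let e1 : (R ⊗[R₀] A₀) ⧸ J' →ₗ[R] (R ⊗[R₀] A₀) ⧸ J'.restrictScalars R := LinearMap.id
      have key : TensorProduct.map (J'.restrictScalars R).mkQ (J'.restrictScalars R).mkQ (Coalgebra.comul (R := R) x) =
          TensorProduct.map e1 e1 (ψ x) := by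
        simp only [ψ, AlgHom.comp_apply, Bialgebra.comulAlgHom_apply]
        induction Coalgebra.comul (R := R) x using TensorProduct.induction_on with
        | zero => simp only [TensorProduct.tmul_zero, map_zero]
        | add x y hx hy => simp only [map_add, hx, hy]
        | tmul x y => rfl
      rw [key, h1, map_zero]
    · have h : J' ≤ RingHom.ker (π.comp (HopfAlgebra.antipodeAlgHom R (R ⊗[R₀] A₀))) := by
        rw [Ideal.map_le_iff_le_comap]
        intro a ha
        show π (HopfAlgebra.antipode R ((1 : R) ⊗ₜ[R₀] a)) = 0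
        refine Ideal.Quotient.eq_zero_iff_mem.2 ?_
        have : HopfAlgebra.antipode R ((1 : R) ⊗ₜ[R₀] a) = iA (HopfAlgebra.antipode R₀ a) := by
          simp [iA, TensorProduct.antipode_def]
        rw [this]
        exact hmem _ (Ideal.IsHopfIdeal.antipode_mem ha)
      exact Ideal.Quotient.eq_zero_iff_mem.1 (h hx)
  -- the fibre at `s` of the kernel is trivial
  have hfib : RingHom.ker (Bialgebra.counitAlgHom R (R ⊗[R₀] A₀)) ≤
      J' ⊔ (IsLocalRing.maximalIdeal R).map (algebraMap R (R ⊗[R₀] A₀)) := by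
    let J'' := J' ⊔ (IsLocalRing.maximalIdeal R).map (algebraMap R (R ⊗[R₀] A₀))
    let C : Type u := (R ⊗[R₀] A₀) ⧸ J''
    let T := (Over.map j₀).obj ((Spec (CommRingCat.of C)).asOver (Spec (CommRingCat.of R₀)))
    let κ : S.residueField s →+* C := Ideal.Quotient.lift (IsLocalRing.maximalIdeal R) (algebraMap R C)
      fun r hr => Ideal.Quotient.eq_zero_iff_mem.2 (Ideal.mem_sup_right (Ideal.mem_map_of_mem _ hr))
    let b : T.left ⟶ Spec (S.residueField s) := Spec.map (CommRingCat.ofHom κ)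
    have hb : b ≫ S.fromSpecResidueField s = T.hom := by
      show b ≫ Spec.map (S.residue s) ≫ S.fromSpecStalk s = Spec.map (CommRingCat.ofHom (algebraMap R₀ C)) ≫ j₀
      rw [← hg]
      simp only [b, g, ← Spec.map_comp_assoc]
      refine (Category.assoc _ _ _).symm.trans (congrArg (· ≫ j₀) ((Spec.map_comp _ _).symm.trans (congrArg Spec.map ?_)))
      rfl
    let φ₀ : WithConv (A₀ →ₐ[R₀] C) := toConv ((Ideal.Quotient.mkₐ R₀ J'').comp iA)
    obtain ⟨y, hy⟩ : ∃ y : T ⟶ H, Spec.mapMulEquiv φ₀ = adjMulEquiv j₀ _ H y ≫ eA.hom.hom.hom := by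
      obtain ⟨y, hy⟩ := (adjMulEquiv j₀ _ H).surjective (Spec.mapMulEquiv φ₀ ≫ eA.inv.hom.hom)
      refine ⟨y, ?_⟩
      rw [hy, Category.assoc, show eA.inv.hom.hom ≫ eA.hom.hom.hom = 𝟙 _ from
        congrArg (fun z => z.hom.hom) eA.inv_hom_id, Category.comp_id]
    have hu₀ : y ≫ u = 1 := by
      apply (adjMulEquiv j₀ _ G).injective
      rw [map_one, adjMulEquiv_comp, ← (hiff C φ₀).2 (fun a ha => Ideal.Quotient.eq_zero_iff_mem.2
        (Ideal.mem_sup_left (Ideal.mem_map_of_mem _ ha))), hy]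
      show _ = (_ ≫ eA.hom.hom.hom) ≫ eA.inv.hom.hom ≫ (Over.pullback j₀).map u
      rw [Category.assoc, ← Category.assoc eA.hom.hom.hom, show eA.hom.hom.hom ≫ eA.inv.hom.hom = 𝟙 _ from
        congrArg (fun z => z.hom.hom) eA.hom_inv_id, Category.id_comp]
    have hy1 := eq_one_of_mono (S.fromSpecResidueField s) u hs b hb y hu₀
    have : IsMonHom eA.hom.hom.hom := eA.hom.hom.isMonHom_hom
    rw [hy1, map_one, MonObj.one_comp, ← map_one (Spec.mapMulEquiv (R := R₀) (S := A₀) (T := C))] at hy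
    have hφ : φ₀ = 1 := Spec.mapMulEquiv.injective hy
    let w : (R ⊗[R₀] A₀) →ₐ[R] C := Ideal.Quotient.mkₐ R J''
    have hw : w = (Algebra.ofId R C).comp (Bialgebra.counitAlgHom R (R ⊗[R₀] A₀)) := by
      apply Algebra.TensorProduct.ext'
      intro r a
      have ha : w ((1 : R) ⊗ₜ[R₀] a) = algebraMap R₀ C (Coalgebra.counit (R := R₀) a) :=
        DFunLike.congr_fun (congrArg WithConv.ofConv hφ) a
      have : (r ⊗ₜ[R₀] a : (R ⊗[R₀] A₀)) = r • ((1 : R) ⊗ₜ[R₀] a) := by rw [TensorProduct.smul_tmul', smul_eq_mul, _root_.mul_one]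
      rw [this, map_smul, map_smul, ha]
      congr 1
      simp [IsScalarTower.algebraMap_apply R₀ R C, Algebra.ofId_apply, Algebra.smul_def]
    intro a ha
    have := DFunLike.congr_fun hw a
    rw [AlgHom.comp_apply, RingHom.mem_ker.1 ha, map_zero] at this
    exact Ideal.Quotient.eq_zero_iff_mem.1 this
  have hloc := ker_counit_le_of_local' hMT J' inferInstance hfib
  -- spreading out
  obtain ⟨t, ht⟩ := (inferInstance : Algebra.FiniteType R₀ A₀).out
  let p := (hV.primeIdealOf ⟨s, hsV⟩).asIdeal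
  have hkill : ∀ a : A₀, ∃ f ∉ p, f • (a - algebraMap R₀ A₀ (Coalgebra.counit (R := R₀) a)) ∈ J := by
    intro a
    let d := a - algebraMap R₀ A₀ (Coalgebra.counit (R := R₀) a)
    have h1 : iA d ∈ RingHom.ker (Bialgebra.counitAlgHom R (R ⊗[R₀] A₀)) := by
      show Coalgebra.counit (R := R) ((1 : R) ⊗ₜ[R₀] d) = 0
      simp [d]
    have h2 : (TensorProduct.mk R₀ R (A₀ ⧸ J) 1) (q d) = 0 := hQ _ (hloc h1)
    have : IsLocalizedModule p.primeCompl (TensorProduct.mk R₀ R (A₀ ⧸ J) 1) :=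
      (isLocalizedModule_iff_isBaseChange p.primeCompl R _).2 (TensorProduct.isBaseChange _ _ _)
    obtain ⟨⟨f, hf⟩, hfd⟩ := (IsLocalizedModule.eq_zero_iff p.primeCompl (TensorProduct.mk R₀ R (A₀ ⧸ J) 1)).1 h2
    refine ⟨f, hf, Ideal.Quotient.eq_zero_iff_mem.1 ?_⟩
    rw [← Ideal.Quotient.mkₐ_eq_mk R₀, map_smul]
    exact hfd
  choose f hf hfJ using hkill
  let f₀ := ∏ a ∈ t, f a
  have hf₀ : f₀ ∉ p := fun h => by
    obtain ⟨a, -, ha⟩ := (Ideal.IsPrime.prod_mem_iff).1 h
    exact hf a ha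
  refine ⟨S.basicOpen f₀, ?_, ?_⟩
  · rw [Scheme.mem_basicOpen _ f₀ s hsV]
    exact (IsLocalization.AtPrime.isUnit_to_map_iff R p f₀).2 hf₀
  apply mono_of_eq_one
  intro T b hb y hy
  have hall : ∀ i, (T.left.affineOpenCover.f i ≫ y.left : _ ⟶ H.left) = T.left.affineOpenCover.f i ≫ (1 : T ⟶ H).left := by
    intro i
    let C : CommRingCat.{u} := T.left.affineOpenCover.X i
    let ρ : Spec C ⟶ T.left := T.left.affineOpenCover.f i
    have hle : S.basicOpen f₀ ≤ V := S.basicOpen_le f₀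
    let c : Spec C ⟶ Spec (CommRingCat.of R₀) := ρ ≫ b ≫ S.homOfLE hle ≫ hV.isoSpec.hom
    have hc : c ≫ j₀ = ρ ≫ T.hom := by
      simp only [c, j₀, Category.assoc, ← hb, IsAffineOpen.fromSpec]
      simp
    let : Algebra R₀ C := (Spec.preimage c).hom.toAlgebra
    have hc' : Spec.map (CommRingCat.ofHom (algebraMap R₀ C)) = c := Spec.map_preimage c
    have hunit : IsUnit (algebraMap R₀ C f₀) := by
      rw [← not_not (a := IsUnit _)]
      intro hn
      obtain ⟨m, hm, hm'⟩ := exists_max_ideal_of_mem_nonunits hn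
      let x : Spec C := ⟨m, hm.isPrime⟩
      have h1 : (Spec.map (CommRingCat.ofHom (algebraMap R₀ C)) ≫ j₀) x ∈ S.basicOpen f₀ := by
        rw [hc', hc, ← hb, ← Category.assoc, Scheme.Hom.comp_apply]
        exact Subtype.mem _
      rw [Scheme.Hom.comp_apply] at h1
      have h2 : Spec.map (CommRingCat.ofHom (algebraMap R₀ C)) x ∈ PrimeSpectrum.basicOpen f₀ := by
        have h3 := hV.fromSpec_preimage_basicOpen f₀
        exact h3 ▸ h1
      exact h2 hm'
    let T' := (Over.map j₀).obj ((Spec C).asOver (Spec (CommRingCat.of R₀)))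
    let ρ' : T' ⟶ T := Over.homMk ρ ((hc.symm.trans (congrArg (· ≫ j₀) hc'.symm)).trans rfl)
    suffices ρ' ≫ y = 1 by
      have := congrArg (fun z => z.left) (this.trans (MonObj.comp_one ρ').symm)
      exact this
    obtain ⟨φ, hφ1, hφJ⟩ := @hpt C _ (Spec.preimage c).hom.toAlgebra (ρ' ≫ y)
    rw [← hφ1]
    have hJ0 := hφJ.2 (by rw [Category.assoc, hy, MonObj.comp_one])
    apply WithConv.ofConv_injective
    apply AlgHom.ext_of_adjoin_eq_top ht
    intro a ha
    show φ.ofConv a = algebraMap R₀ C (Coalgebra.counit (R := R₀) a)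
    have h1 := hJ0 _ (hfJ a)
    rw [map_smul, Algebra.smul_def, map_sub, AlgHom.commutes] at h1
    have hu1 : IsUnit (algebraMap R₀ C (f a)) :=
      isUnit_of_dvd_unit ((algebraMap R₀ C).map_dvd (Finset.dvd_prod_of_mem f ha)) hunit
    exact sub_eq_zero.1 ((hu1.mul_right_eq_zero).1 h1)
  exact Over.OverMorphism.ext (Scheme.Cover.hom_ext T.left.affineOpenCover.openCover _ _ hall)

end Groth.Agent.S6059
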