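import Groth.Statements.S6070
import Groth.Agent.MultHopf.HspecLoc
import Groth.Agent.MultHopf.PointApply
import Groth.Agent.MultHopf.ProjChart
import Groth.Agent.MultHopf.KerGrp
-- import your own Groth.Agent.* helpers here

set_option autoImplicit false
open CategoryTheory MonoidalCategory CartesianMonoidalCategory MonObj GrpObj AlgebraicGeometry
universe u
open SGA3x

namespace Groth.Agent.S6070

open Limits Groth.Agent.MultHopf
set_option backward.isDefEq.respectTransparency.types false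

/-- In lifting form: what formal smoothness of the morphism H ↦ ₙH of the functor of multiplicative
subgroups means. Let S = Spec R be affine, J a nilpotent ideal of R, S₀ = Spec (R/J), n a natural
number and G an S-group which is smooth over S. Let j₀ : H₀ ⟶ G₀ = G ×_S S₀ be a sub-group-scheme (a
homomorphism which is an immersion) of multiplicative type (fpqc-locally isomorphic, as a group, to
diagonalisable groups D(M), M allowed to vary and taken in Type 0), and l : L ⟶ G a sub-group-scheme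
of multiplicative type whose base change to S₀ is the n-torsion of H₀ inside G₀: a point of G₀
factors through L ×_S S₀ if and only if it is j₀(h) for a point h of H₀ with h^n = 1. Then there is
a sub-group-scheme j : H ⟶ G of multiplicative type whose base change to S₀ coincides with H₀ as a
subgroup of G₀ (an isomorphism compatible with the maps to G₀) and whose n-torsion is L: a point of
G factors through L if and only if it is j(h) for a point h of H with h^n = 1. -/
theorem result {R : Type u} [CommRing R] (J : Ideal R) (hJ : IsNilpotent J) (n : ℕ)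
    (G : Over (Spec (CommRingCat.of R))) [GrpObj G] (hG : Smooth G.hom)
    (H₀ : Over (Spec (CommRingCat.of (R ⧸ J)))) [GrpObj H₀]
    (hH₀ : TwC.Locally (Spec (CommRingCat.of (R ⧸ J))) TwC.Topology.fpqc (fun S' f => ∃ (M : Type) (_ : AddCommGroup M), Nonempty (Grp.mk (Red.bc f H₀) ≅ Grp.mk (Red.DS S' M))))
    (j₀ : H₀ ⟶ Red.bc (Spec.map (CommRingCat.ofHom (Ideal.Quotient.mk J))) G) [IsMonHom j₀] [IsImmersion j₀.left]
    (L : Over (Spec (CommRingCat.of R))) [GrpObj L] (hL : TwC.Locally (Spec (CommRingCat.of R)) TwC.Topology.fpqc (fun S' f => ∃ (M : Type) (_ : AddCommGroup M), Nonempty (Grp.mk (Red.bc f L) ≅ Grp.mk (Red.DS S' M))))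
    (l : L ⟶ G) [IsMonHom l] [IsImmersion l.left]
    (hL0 : ∀ (X : Over (Spec (CommRingCat.of (R ⧸ J)))) (g : X ⟶ Red.bc (Spec.map (CommRingCat.ofHom (Ideal.Quotient.mk J))) G),
      (∃ y : X ⟶ Red.bc (Spec.map (CommRingCat.ofHom (Ideal.Quotient.mk J))) L, y ≫ (Over.pullback (Spec.map (CommRingCat.ofHom (Ideal.Quotient.mk J)))).map l = g) ↔
        ∃ h : X ⟶ H₀, h ^ n = 1 ∧ h ≫ j₀ = g) :
    ∃ (H : Over (Spec (CommRingCat.of R))) (_ : GrpObj H) (j : H ⟶ G), IsMonHom j ∧ IsImmersion j.left ∧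
      TwC.Locally (Spec (CommRingCat.of R)) TwC.Topology.fpqc (fun S' f => ∃ (M : Type) (_ : AddCommGroup M), Nonempty (Grp.mk (Red.bc f H) ≅ Grp.mk (Red.DS S' M))) ∧
      (∃ φ : Red.bc (Spec.map (CommRingCat.ofHom (Ideal.Quotient.mk J))) H ≅ H₀, φ.hom ≫ j₀ = (Over.pullback (Spec.map (CommRingCat.ofHom (Ideal.Quotient.mk J)))).map j) ∧
      ∀ (X : Over (Spec (CommRingCat.of R))) (g : X ⟶ G),
        (∃ y : X ⟶ L, y ≫ l = g) ↔ ∃ h : X ⟶ H, h ^ n = 1 ∧ h ≫ j = g := by

  obtain ⟨H, _, j, hj, himm, hHft, φ, hφ⟩ := exists_lift_subgroup_ft J hJ G hG H₀ hH₀ j₀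
  have hH := isMultTypeLoc_of_ft hHft
  let q := jcl J
  let P := Over.pullback q
  have : P.PreservesMonomorphisms := Functor.preservesMonomorphisms_of_adjunction (Over.mapPullbackAdj q)
  have : Mono j₀ := Over.mono_of_mono_left j₀
  have : Mono l := Over.mono_of_mono_left l
  -- the reduction of `L` inside `H₀`
  obtain ⟨h₀, hh₀n, hh₀⟩ := (hL0 (Red.bc q L) (P.map l)).1 ⟨𝟙 _, Category.id_comp _⟩
  have : IsMonHom (h₀ ≫ j₀) := by rw [hh₀]; infer_instance
  have : IsMonHom h₀ := isMonHom_of_comp_mono h₀ j₀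
  have : IsMonHom (φ.hom ≫ j₀) := by rw [hφ]; infer_instance
  have : IsMonHom φ.hom := isMonHom_of_comp_mono φ.hom j₀
  obtain ⟨w, hw, hwr⟩ := exists_lift_hom_multTypeLoc hJ hL hH (h₀ ≫ φ.inv)
  have hwl : P.map (w ≫ j) = P.map l := by
    rw [Functor.map_comp, hwr, Category.assoc, ← hφ, Iso.inv_hom_id_assoc]
    exact hh₀
  -- conjugate the lift
  obtain ⟨g, hg, hg'⟩ := conj_lifts_mod_nilpotent J hJ hL hG (w ≫ j) l 1 fun X p h => by
    rw [MonObj.comp_one, _root_.one_mul, inv_one, _root_.mul_one]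
    exact (comp_eq_of_map_eq hwl p h).symm
  let j' : H ⟶ G := (toUnit H ≫ g) * j * (toUnit H ≫ g)⁻¹
  have hj' : IsMonHom j' := isMonHom_conj g j
  have hl : w ≫ j' = l := by
    rw [hg']
    simp only [j', MonObj.comp_mul, GrpObj.comp_inv, ← Category.assoc, comp_toUnit]
  have hj'r : P.map j' = P.map j := map_eq_of_comp_eq fun T p y => by
    rw [show y ≫ j' = _ from comp_conj g j y, toUnit_comp_eq g p, hg, MonObj.comp_one, _root_.one_mul, inv_one, _root_.mul_one]
  have himm' : IsImmersion j'.left := by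
    let c : (𝟙_ (Over (Spec (CommRingCat.of R))) ⟶ G) → (G ⟶ G) := fun g => (toUnit G ≫ g) * 𝟙 G * (toUnit G ≫ g)⁻¹
    have hc : ∀ g₁ g₂, g₂ * g₁ = 1 → c g₁ ≫ c g₂ = 𝟙 G := fun g₁ g₂ h12 => by
      rw [show c g₁ ≫ c g₂ = _ from comp_conj g₂ (𝟙 G) (c g₁), Category.comp_id]
      have ht : (toUnit G ≫ g₂) * (toUnit G ≫ g₁) = 1 := by rw [← MonObj.comp_mul, h12, MonObj.comp_one]
      calc (toUnit G ≫ g₂) * c g₁ * (toUnit G ≫ g₂)⁻¹
          = ((toUnit G ≫ g₂) * (toUnit G ≫ g₁)) * 𝟙 G * ((toUnit G ≫ g₂) * (toUnit G ≫ g₁))⁻¹ := by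
            simp only [c]; group
        _ = 𝟙 G := by rw [ht, _root_.one_mul, inv_one, _root_.mul_one]
    let e : G ≅ G := ⟨c g, c g⁻¹, hc g g⁻¹ (inv_mul_cancel g), hc g⁻¹ g (mul_inv_cancel g)⟩
    have hje : j ≫ e.hom = j' := by
      rw [show j ≫ e.hom = _ from comp_conj g (𝟙 G) j, Category.comp_id]
    have : IsIso e.hom.left := ((Over.forget _).mapIso e).isIso_hom
    rw [← hje]
    exact MorphismProperty.comp_mem @IsImmersion j.left e.hom.left himm inferInstance
  have : Mono j' := Over.mono_of_mono_left j'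
  -- the torsion of `H`
  have : IsCommMonObj H := isCommMonObj_of_isMultTypeLoc H hH
  let pn : H ⟶ H := (𝟙 H) ^ n
  have : IsMonHom pn :=
    { one_hom := by rw [MonObj.comp_pow, Category.comp_id, MonObj.one_eq_one, one_pow]
      mul_hom := by
        rw [MonObj.comp_pow, Category.comp_id, MonObj.mul_eq_mul, mul_pow, MonObj.comp_mul,
          tensorHom_fst, tensorHom_snd, MonObj.comp_pow, MonObj.comp_pow, Category.comp_id, Category.comp_id] }
  have hpn : ∀ {X : Over (Spec (CommRingCat.of R))} (h : X ⟶ H), h ≫ pn = h ^ n := fun h => by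
    rw [MonObj.comp_pow, Category.comp_id]
  have : IsSeparated H.hom := by
    have := isAffineHom_of_isMultTypeLoc H hH
    infer_instance
  have hlft : LocallyOfFiniteType H.hom := by
    have : IsImmersion j.left := himm
    rw [← Over.w j]; infer_instance
  have hK : IsMultTypeLoc (kerObj pn) := isMultTypeLoc_of_ft (isMultTypeFT_kerObj hHft (Or.inr hlft) pn)
  have hmap : ∀ {X : Over (Spec (CommRingCat.of R))} (x : X ⟶ H), P.map (x ^ n) = P.map x ^ n :=
    fun x => map_pow (Functor.homMonoidHom P) x n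
  have hwn : w ≫ pn = 1 := by
    have : IsMonHom (1 : L ⟶ H) :=
      { one_hom := by rw [MonObj.comp_one, MonObj.one_eq_one]
        mul_hom := by rw [MonObj.comp_one, MonObj.mul_eq_mul, MonObj.comp_mul, tensorHom_fst, tensorHom_snd, MonObj.comp_one, MonObj.comp_one, _root_.one_mul] }
    refine hom_ext_multTypeLoc hJ hL hH (w ≫ pn) 1 ?_
    rw [hpn, hmap, hwr, ← MonObj.pow_comp, hh₀n, MonObj.one_comp]
    exact (Functor.map_one P).symm
  let v : L ⟶ kerObj pn := kerLift pn w hwn
  have : IsMonHom (v ≫ kerι pn) := by rw [kerLift_ι]; infer_instance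
  have : IsMonHom v := isMonHom_of_comp_mono v (kerι pn)
  let k : kerObj pn ⟶ G := kerι pn ≫ j'
  have hvk : v ≫ k = l := by rw [← Category.assoc, kerLift_ι]; exact hl
  obtain ⟨y, hy⟩ := (hL0 (Red.bc q (kerObj pn)) (P.map k)).2
    ⟨P.map (kerι pn) ≫ φ.hom, by
      rw [← MonObj.pow_comp, ← hmap, ← hpn, kerι_comp, Functor.map_one P, MonObj.one_comp],
    by rw [Category.assoc, hφ, Functor.map_comp, hj'r]⟩
  let ψ : Red.bc q L ≅ Red.bc q (kerObj pn) :=
    ⟨P.map v, y, by
      rw [← cancel_mono (P.map l), Category.assoc, hy, ← Functor.map_comp, hvk, Category.id_comp], by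
      rw [← cancel_mono (P.map k), Category.assoc, ← Functor.map_comp, hvk, hy, Category.id_comp]⟩
  have : IsMonHom ψ.hom := inferInstanceAs (IsMonHom (P.map v))
  obtain ⟨Φ, hΦ, hΦr⟩ := exists_lift_iso_multTypeLoc hJ hL hK ψ
  have hΦv : Φ.hom = v := hom_ext_multTypeLoc hJ hL hK Φ.hom v hΦr
  refine ⟨H, inferInstance, j', hj', himm', hH, ⟨φ, hφ.trans hj'r.symm⟩, fun X x => ⟨?_, ?_⟩⟩
  · rintro ⟨z, rfl⟩
    exact ⟨z ≫ w, by rw [← hpn, Category.assoc, hwn, MonObj.comp_one], by rw [Category.assoc, hl]⟩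
  · rintro ⟨h, hn, rfl⟩
    refine ⟨kerLift pn h ((hpn h).trans hn) ≫ Φ.inv, ?_⟩
    rw [← hvk, ← hΦv, Category.assoc, Iso.inv_hom_id_assoc, ← Category.assoc, kerLift_ι]

end Groth.Agent.S6070
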