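import Groth.Statements.S6072
import Groth.Agent.MultHopf.IsoLift
-- import your own Groth.Agent.* helpers here

set_option autoImplicit false
universe u
open TensorProduct SGA3b
open SGA3b

namespace Groth.Agent.S6072

set_option backward.isDefEq.respectTransparency.types false

/-- Let R be a henselian local ring with residue field k and H₀ = Spec C₀ a k-group of multiplicative
type which is finite over k. Then H₀ lifts to R: there is an R-group H = Spec C of multiplicative
type, finite over R and isotrivial, together with an isomorphism of k-groups H ×_R k ≅ H₀, i.e. a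
bialgebra isomorphism k ⊗_R C ≅ C₀ (existence of an isomorphism; the lift is determined up to
isomorphism only). (Affine group schemes over an affine base are taken in Hopf-algebra form; base
change is the tensor product.) -/
theorem result (R : Type u) [CommRing R] [HenselianLocalRing R]
    (C₀ : Type u) [CommRing C₀] [HopfAlgebra (IsLocalRing.ResidueField R) C₀] [Module.Finite (IsLocalRing.ResidueField R) C₀]
    (h₀ : IsMultType (IsLocalRing.ResidueField R) C₀) :
    ∃ (C : Type u) (_ : CommRing C) (_ : HopfAlgebra R C), Module.Finite R C ∧ IsIsotrivial R C ∧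
      Nonempty ((IsLocalRing.ResidueField R ⊗[R] C) ≃ₐc[IsLocalRing.ResidueField R] C₀) := by
  obtain ⟨S₀, _, _, het, hfin, hff, M, _, hM, ⟨e⟩⟩ := Groth.Agent.MultHopf.exists_etale_split_field h₀
  have := hM
  let : Algebra (R ⧸ IsLocalRing.maximalIdeal R) S₀ := (inferInstance : Algebra (IsLocalRing.ResidueField R) S₀)
  let : HopfAlgebra (R ⧸ IsLocalRing.maximalIdeal R) C₀ := (inferInstance : HopfAlgebra (IsLocalRing.ResidueField R) C₀)
  have : Algebra.Etale (R ⧸ IsLocalRing.maximalIdeal R) S₀ := het
  have : Module.Finite (R ⧸ IsLocalRing.maximalIdeal R) S₀ := hfin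
  have : Module.FaithfullyFlat (R ⧸ IsLocalRing.maximalIdeal R) S₀ := hff
  obtain ⟨A, _, _, S, _, _, het', hfin', hff', ⟨e'⟩, h⟩ :=
    Groth.Agent.MultHopf.exists_lift_isotrivial (IsLocalRing.maximalIdeal R) (A₀ := C₀) e
  have := hfin'
  have := hff'
  have : Module.Finite S (TensorProduct R S A) :=
    Module.Finite.equiv (e' : TensorProduct R S A ≃ₐc[S] MonoidAlgebra S M).toLinearEquiv.symm
  exact ⟨A, inferInstance, inferInstance, Module.Finite.of_finite_tensorProduct_of_faithfullyFlat S,
    ⟨S, inferInstance, inferInstance, het', hfin', hff', M, inferInstance, ⟨e'⟩⟩, h⟩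

end Groth.Agent.S6072
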