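import Groth.Statements.S6075
import Mathlib
-- import your own Groth.Agent.* helpers here

set_option autoImplicit false
set_option backward.isDefEq.respectTransparency.types false
universe u
open CategoryTheory CategoryTheory.Limits MonoidalCategory CartesianMonoidalCategory MonObj GrpObj AlgebraicGeometry
open SGA3

namespace Groth.Agent.S6075

noncomputable def wd {K : Type u} [Field K] {G X T : Over (Spec (CommRingCat.of K))} [GrpObj G] (f : X ⟶ G)
    (L : List ((T ⟶ X) × Bool)) : T ⟶ G :=
  (L.map fun c => if c.2 then c.1 ≫ f else (c.1 ≫ f)⁻¹).prod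

theorem comp_wd {K : Type u} [Field K] {G X T T' : Over (Spec (CommRingCat.of K))} [GrpObj G] (f : X ⟶ G)
    (φ : T' ⟶ T) (L : List ((T ⟶ X) × Bool)) : φ ≫ wd f L = wd f (L.map fun c => (φ ≫ c.1, c.2)) := by
  induction L with
  | nil => exact MonObj.comp_one φ
  | cons c L ih =>
    obtain ⟨y, b⟩ := c
    show φ ≫ ((if b then y ≫ f else (y ≫ f)⁻¹) * wd f L) = _
    rw [MonObj.comp_mul, ih]
    cases b <;> simp [wd, GrpObj.comp_inv]

theorem exists_universal {K : Type u} [Field K] {X : Over (Spec (CommRingCat.of K))} [LocallyOfFiniteType X.hom]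
    {T : Over (Spec (CommRingCat.of K))} (L : List ((T ⟶ X) × Bool)) :
    ∃ (P : Over (Spec (CommRingCat.of K))) (_ : LocallyOfFiniteType P.hom) (φ : T ⟶ P) (L' : List ((P ⟶ X) × Bool)),
      (L'.map fun c => (φ ≫ c.1, c.2)) = L := by
  induction L with
  | nil => exact ⟨𝟙_ _, inferInstanceAs (LocallyOfFiniteType (𝟙 _)), toUnit T, [], rfl⟩
  | cons c L ih =>
    obtain ⟨P, hP, φ, L', hL'⟩ := ih
    refine ⟨X ⊗ P, ?_, lift c.1 φ, (fst X P, c.2) :: L'.map (fun d => (snd X P ≫ d.1, d.2)), ?_⟩
    · show LocallyOfFiniteType (Limits.pullback.fst X.hom P.hom ≫ X.hom)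
      infer_instance
    · simp [← hL', Function.comp_def]

theorem exists_list {K : Type u} [Field K] {G X T : Over (Spec (CommRingCat.of K))} [GrpObj G] (f : X ⟶ G)
    (L : List ((T ⟶ X) × Bool)) :
    ∃ (n : ℕ) (x : Fin n → (T ⟶ X)) (ε : Fin n → Bool),
      (List.ofFn fun j : Fin n => if ε j then x j ≫ f else (x j ≫ f)⁻¹).prod = wd f L := by
  refine ⟨L.length, fun j => (L.get j).1, fun j => (L.get j).2, ?_⟩
  conv_rhs => rw [wd, ← List.ofFn_get L, List.map_ofFn]
  rfl

/-- Let k be an algebraically closed field, G a group scheme locally of finite type over k, X a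
geometrically reduced k-scheme locally of finite type, and f : X → G a k-morphism. Consider the
k-points g of G whose underlying point lies under a word in f: there are a k-scheme T, a point p of
T, n ≥ 0, T-valued points x_1, …, x_n of X and signs such that the T-valued point f(x_1)^{±1} ⋯
f(x_n)^{±1} of G maps p to the point of g. These k-points form exactly the subgroup of G(k)
generated by the k-points of G whose underlying point lies in the image of f. (Words of length zero
are allowed here, so that the unit is on both sides when X is empty; for nonempty X this changes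
nothing, while the published statement, with words of positive length only, fails for empty X.) -/
theorem result (k : Type u) [Field k] [IsAlgClosed k]
    (G X : Over (Spec (CommRingCat.of k))) [GrpObj G] [LocallyOfFiniteType G.hom]
    [LocallyOfFiniteType X.hom] [GeometricallyReduced X.hom] (f : X ⟶ G) :
    {g : 𝟙_ (Over (Spec (CommRingCat.of k))) ⟶ G | ∃ (n : ℕ) (T : Over (Spec (CommRingCat.of k))) (p : T.left) (p₀ : (𝟙_ (Over (Spec (CommRingCat.of k)))).left)
        (x : Fin n → (T ⟶ X)) (ε : Fin n → Bool), ((List.ofFn fun j : Fin n => if ε j then x j ≫ f else (x j ≫ f)⁻¹).prod : T ⟶ G).left.base p = g.left.base p₀} =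
      ((Subgroup.closure {g : 𝟙_ (Over (Spec (CommRingCat.of k))) ⟶ G | ∃ p₀ : (𝟙_ (Over (Spec (CommRingCat.of k)))).left, g.left.base p₀ ∈ Set.range f.left.base} :
        Subgroup (𝟙_ (Over (Spec (CommRingCat.of k))) ⟶ G)) : Set (𝟙_ (Over (Spec (CommRingCat.of k))) ⟶ G)) := by
  haveI : JacobsonSpace X.left := LocallyOfFiniteType.jacobsonSpace X.hom
  have ext_pt : ∀ {Y : Over (Spec (CommRingCat.of k))} [LocallyOfFiniteType Y.hom]
      (a b : 𝟙_ (Over (Spec (CommRingCat.of k))) ⟶ Y),
      a.left (IsLocalRing.closedPoint k) = b.left (IsLocalRing.closedPoint k) → a = b := by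
    intro Y _ a b h
    exact Over.OverMorphism.ext (ext_of_apply_closedPoint_eq Y.hom (Over.w a) (Over.w b) h)
  have sub : ∀ (q : (𝟙_ (Over (Spec (CommRingCat.of k)))).left), q = IsLocalRing.closedPoint k :=
    fun q => Subsingleton.elim (α := PrimeSpectrum k) _ _
  have isclosed : ∀ (g : 𝟙_ (Over (Spec (CommRingCat.of k))) ⟶ G), IsClosed ({g.left (IsLocalRing.closedPoint k)} : Set G.left) :=
    fun g => ((pointEquivClosedPoint G.hom) ⟨g.left, Over.w g⟩).2
  -- a `k`-point in a fibre over the image of a `k`-point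
  have key : ∀ {Y : Over (Spec (CommRingCat.of k))} [LocallyOfFiniteType Y.hom] (w : Y ⟶ G)
      (g : 𝟙_ (Over (Spec (CommRingCat.of k))) ⟶ G) (y : Y.left), w.left y = g.left (IsLocalRing.closedPoint k) →
      ∃ σ : 𝟙_ (Over (Spec (CommRingCat.of k))) ⟶ Y, σ ≫ w = g := by
    intro Y _ w g y hy
    haveI : JacobsonSpace Y.left := LocallyOfFiniteType.jacobsonSpace Y.hom
    obtain ⟨z, hz, hzc⟩ := nonempty_inter_closedPoints (Z := w.left ⁻¹' {g.left (IsLocalRing.closedPoint k)}) ⟨y, hy⟩
      ((isclosed g).preimage w.left.continuous).isLocallyClosed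
    let p := (pointEquivClosedPoint Y.hom).symm ⟨z, hzc⟩
    refine ⟨Over.homMk p.1 p.2, ext_pt _ _ ?_⟩
    show (p.1 ≫ w.left) (IsLocalRing.closedPoint k) = _
    rw [Scheme.Hom.comp_apply, show p.1 (IsLocalRing.closedPoint k) = z from
      congrArg Subtype.val ((pointEquivClosedPoint Y.hom).apply_symm_apply ⟨z, hzc⟩)]
    exact hz
  set gens := {g : 𝟙_ (Over (Spec (CommRingCat.of k))) ⟶ G | ∃ p₀ : (𝟙_ (Over (Spec (CommRingCat.of k)))).left, g.left.base p₀ ∈ Set.range f.left.base}
  ext g
  constructor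
  · rintro ⟨n, T, p, p₀, x, ε, h⟩
    obtain rfl := sub p₀
    obtain ⟨P, hP, φ, L', hL'⟩ := exists_universal (List.ofFn fun j : Fin n => (x j, ε j))
    have e1 : φ ≫ wd f L' = (List.ofFn fun j : Fin n => if ε j then x j ≫ f else (x j ≫ f)⁻¹).prod := by
      rw [comp_wd, hL', wd, List.map_ofFn]; rfl
    haveI := hP
    obtain ⟨σ, rfl⟩ := key (wd f L') g (φ.left p) (by rw [← e1] at h; exact h)
    rw [comp_wd, SetLike.mem_coe, wd, List.map_map]
    refine Subgroup.list_prod_mem _ fun a ha => ?_
    obtain ⟨c, -, rfl⟩ := List.mem_map.1 ha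
    have hm : (σ ≫ c.1) ≫ f ∈ Subgroup.closure gens := Subgroup.subset_closure
      ⟨IsLocalRing.closedPoint k, (σ ≫ c.1).left (IsLocalRing.closedPoint k), rfl⟩
    simp only [Function.comp_apply]
    cases c.2 with
    | true => exact hm
    | false => exact inv_mem hm
  · intro hg
    suffices ∃ L : List ((𝟙_ (Over (Spec (CommRingCat.of k))) ⟶ X) × Bool), wd f L = g by
      obtain ⟨L, rfl⟩ := this
      obtain ⟨n, x, ε, e⟩ := exists_list f L
      exact ⟨n, 𝟙_ _, IsLocalRing.closedPoint k, IsLocalRing.closedPoint k, x, ε, by rw [e]⟩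
    induction hg using Subgroup.closure_induction with
    | mem h hh =>
      obtain ⟨p₀, y, hy⟩ := hh
      obtain rfl := sub p₀
      obtain ⟨σ, rfl⟩ := key f h y hy
      exact ⟨[(σ, true)], by simp [wd]⟩
    | one => exact ⟨[], rfl⟩
    | mul a b _ _ ha hb =>
      obtain ⟨L, rfl⟩ := ha
      obtain ⟨L', rfl⟩ := hb
      exact ⟨L ++ L', by simp [wd]⟩
    | inv a _ ha =>
      obtain ⟨L, rfl⟩ := ha
      refine ⟨(L.map fun c => (c.1, !c.2)).reverse, ?_⟩
      simp only [wd, List.prod_inv_reverse, List.map_reverse, List.map_map]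
      congr 2
      refine List.map_congr_left fun c _ => ?_
      obtain ⟨y, b⟩ := c
      cases b <;> simp

end Groth.Agent.S6075
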