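import Groth.Statements.S6120
import Mathlib.CategoryTheory.Limits.Shapes.Equalizers
import Mathlib.CategoryTheory.Limits.Shapes.Products
import Mathlib.CategoryTheory.Limits.Shapes.BinaryProducts

set_option autoImplicit false
open CategoryTheory CategoryTheory.Limits Opposite
universe w v₁ v₂ u₁ u₂
open SGA4

namespace Groth.Agent.S6120

/-- Let `I` be a category with a family of objects `i α` (`α : A`) such that every binary product `i α ⨯
i β` exists in `I` and every object of `I` admits a morphism to some `i α`. Let `F : Iᵒᵖ ⥤ C` be a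
functor, and assume that `C` has equalizers and that the products `∏ F (i α)` and `∏ F (i α ⨯ i β)`
exist in `C`. Then the limit of `F` exists, the canonical map `lim F ⟶ ∏ F (i α)` is a monomorphism,
and a map `t : T ⟶ ∏ F (i α)` factors through `lim F` exactly when its composites with the two maps
`∏ F (i α) ⇉ ∏ F (i α ⨯ i β)` induced by the two projections agree: `lim F` is the equalizer of that
pair. (The published statement assumes that `C` has all limits of the size of `A`; only equalizers
and the two products named are assumed here, which is what the equalizer construction uses.) -/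
theorem result
    {I : Type u₁} [Category.{v₁} I] {C : Type u₂} [Category.{v₂} C] {A : Type w} (i : A → I)
    [∀ α β, HasBinaryProduct (i α) (i β)]
    (hcov : ∀ j : I, ∃ α, Nonempty (j ⟶ i α))
    (F : Iᵒᵖ ⥤ C) [HasEqualizers C]
    [HasProduct (fun α => F.obj (op (i α)))]
    [HasProduct (fun p : A × A => F.obj (op (i p.1 ⨯ i p.2)))] :
    HasLimit F ∧ ∀ [HasLimit F],
      Mono (Pi.lift (fun α => limit.π F (op (i α)))) ∧
      ∀ (T : C) (t : T ⟶ ∏ᶜ (fun α => F.obj (op (i α)))),
        (∃ s : T ⟶ limit F, s ≫ Pi.lift (fun α => limit.π F (op (i α))) = t) ↔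
        t ≫ Pi.lift (fun p : A × A =>
            Pi.π (fun α => F.obj (op (i α))) p.1 ≫ F.map (prod.fst : i p.1 ⨯ i p.2 ⟶ i p.1).op) =
        t ≫ Pi.lift (fun p : A × A =>
            Pi.π (fun α => F.obj (op (i α))) p.2 ≫ F.map (prod.snd : i p.1 ⨯ i p.2 ⟶ i p.2).op) := by
  choose a ha using hcov
  let f : ∀ j : I, j ⟶ i (a j) := fun j => (ha j).some
  set p₁ : (∏ᶜ fun α => F.obj (op (i α))) ⟶ ∏ᶜ fun p : A × A => F.obj (op (i p.1 ⨯ i p.2)) :=
    Pi.lift (fun p : A × A =>
      Pi.π (fun α => F.obj (op (i α))) p.1 ≫ F.map (prod.fst : i p.1 ⨯ i p.2 ⟶ i p.1).op) with hp₁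
  set p₂ : (∏ᶜ fun α => F.obj (op (i α))) ⟶ ∏ᶜ fun p : A × A => F.obj (op (i p.1 ⨯ i p.2)) :=
    Pi.lift (fun p : A × A =>
      Pi.π (fun α => F.obj (op (i α))) p.2 ≫ F.map (prod.snd : i p.1 ⨯ i p.2 ⟶ i p.2).op) with hp₂
  -- a compatible family restricts the same way along all maps
  have key : ∀ {T : C} (t : T ⟶ ∏ᶜ fun α => F.obj (op (i α))), t ≫ p₁ = t ≫ p₂ →
      ∀ {j : I} {α β : A} (g : j ⟶ i α) (h : j ⟶ i β),
        t ≫ Pi.π (fun α => F.obj (op (i α))) α ≫ F.map g.op =
          t ≫ Pi.π (fun α => F.obj (op (i α))) β ≫ F.map h.op := by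
    intro T t ht j α β g h
    have := congrArg (fun s => s ≫ Pi.π (fun p : A × A => F.obj (op (i p.1 ⨯ i p.2))) (α, β) ≫
      F.map (prod.lift g h).op) ht
    simp only [hp₁, hp₂, Category.assoc, Pi.lift_π_assoc, ← Functor.map_comp, ← op_comp,
      prod.lift_fst, prod.lift_snd] at this
    exact this
  let cone : Cone F :=
    { pt := equalizer p₁ p₂
      π :=
        { app := fun j => equalizer.ι p₁ p₂ ≫ Pi.π (fun α => F.obj (op (i α))) (a j.unop) ≫ F.map (f j.unop).op
          naturality := fun j j' φ => by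
            dsimp
            rw [Category.id_comp, Category.assoc, Category.assoc, ← F.map_comp]
            exact key _ (equalizer.condition p₁ p₂) (f j'.unop) (φ.unop ≫ f j.unop) } }
  have hw : ∀ s : Cone F, Pi.lift (fun α => s.π.app (op (i α))) ≫ p₁ =
      Pi.lift (fun α => s.π.app (op (i α))) ≫ p₂ := by
    intro s
    refine Pi.hom_ext _ _ fun p => ?_
    simp only [hp₁, hp₂, Category.assoc, Pi.lift_π, Pi.lift_π_assoc, Cone.w]
  have hlim : IsLimit cone :=
    { lift := fun s => equalizer.lift (Pi.lift fun α => s.π.app (op (i α))) (hw s)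
      fac := fun s j => by
        simp only [cone, equalizer.lift_ι_assoc, Pi.lift_π_assoc]
        exact s.w (f j.unop).op
      uniq := fun s m hm => by
        refine equalizer.hom_ext ?_
        rw [equalizer.lift_ι]
        refine Pi.hom_ext _ _ fun α => ?_
        rw [Pi.lift_π, ← hm (op (i α)), Category.assoc]
        have := key _ (equalizer.condition p₁ p₂) (𝟙 (i α)) (f (i α))
        rw [op_id, CategoryTheory.Functor.map_id, Category.comp_id] at this
        exact congrArg (m ≫ ·) this }
  refine ⟨⟨⟨⟨cone, hlim⟩⟩⟩, ?_⟩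
  intro _
  refine ⟨⟨fun {Z} u v huv => limit.hom_ext fun j => ?_⟩, fun T t => ?_⟩
  · have := congrArg (fun s => s ≫ Pi.π (fun α => F.obj (op (i α))) (a j.unop) ≫ F.map (f j.unop).op) huv
    simp only [Category.assoc, Pi.lift_π_assoc, limit.w] at this
    exact this
  · constructor
    · rintro ⟨s, rfl⟩
      refine Pi.hom_ext _ _ fun p => ?_
      simp [hp₁, hp₂, Category.assoc, Pi.lift_π, Pi.lift_π_assoc, limit.w]
    · intro ht
      refine ⟨limit.lift F { pt := T, π :=
        { app := fun j => t ≫ Pi.π (fun α => F.obj (op (i α))) (a j.unop) ≫ F.map (f j.unop).op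
          naturality := fun j j' φ => by
            dsimp
            rw [Category.id_comp, Category.assoc, Category.assoc, ← F.map_comp]
            exact key t ht (f j'.unop) (φ.unop ≫ f j.unop) } }, ?_⟩
      refine Pi.hom_ext _ _ fun α => ?_
      rw [Category.assoc, Pi.lift_π, limit.lift_π]
      have := key t ht (𝟙 (i α)) (f (i α))
      rw [op_id, CategoryTheory.Functor.map_id, Category.comp_id] at this
      exact this.symm

end Groth.Agent.S6120
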