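import Groth.Statements.S6122

set_option autoImplicit false
open CategoryTheory
universe v₁ v₂ u₁ u₂
open SGA4

namespace Groth.Agent.S6122

/-- For a fibered functor `p : E ⥤ B` (every morphism of `B` has a cartesian lift with prescribed
codomain, and cartesian morphisms compose), `p` is faithful if and only if every fibre category of
`p` (objects over `b`, morphisms lying over the identity of `b`) has at most one morphism between
any two objects. -/
theorem result
    {B : Type u₁} [Category.{v₁} B] {E : Type u₂} [Category.{v₂} E] (p : E ⥤ B) [p.IsFibered] :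
    p.Faithful ↔ ∀ (b : B) (x y : p.Fiber b), Subsingleton (x ⟶ y) := by
  constructor
  · intro h b x y
    refine ⟨fun φ ψ => Subtype.ext (p.map_injective ?_)⟩
    have h1 := φ.2
    have h2 := ψ.2
    rw [IsHomLift.fac' p (𝟙 b) φ.1, IsHomLift.fac' p (𝟙 b) ψ.1]
  · intro h
    constructor
    intro x y f g hfg
    let ψ := Functor.IsPreFibered.pullbackMap (p := p) (rfl : p.obj y = p.obj y) (p.map f)
    haveI : p.IsHomLift (p.map f) g := hfg ▸ inferInstance
    let φ := Functor.IsCartesian.map p (p.map f) ψ f
    let φ' := Functor.IsCartesian.map p (p.map f) ψ g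
    have := Subsingleton.elim (α := Functor.Fiber.mk (IsHomLift.domain_eq p (𝟙 (p.obj x)) φ) ⟶
        Functor.Fiber.mk (IsHomLift.codomain_eq p (𝟙 (p.obj x)) φ))
      (Functor.Fiber.homMk p (p.obj x) φ) (Functor.Fiber.homMk p (p.obj x) φ')
    rw [← Functor.IsCartesian.fac p (p.map f) ψ f, ← Functor.IsCartesian.fac p (p.map f) ψ g]
    exact congrArg (· ≫ ψ) (congrArg Subtype.val this)

end Groth.Agent.S6122
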