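import Groth.Statements.S6123
import Mathlib.CategoryTheory.Limits.Shapes.Pullback.IsPullback.Basic

set_option autoImplicit false
open CategoryTheory CategoryTheory.Limits Opposite
universe w v₁ v₂ u₁ u₂
open SGA4

namespace Groth.Agent.S6123

/-- For a single functor. Let `E` have pullbacks and let `φ : E ⥤ F` preserve them. If every
monomorphism `u` of `E` with `φ u` invertible is invertible, then `φ` reflects all isomorphisms. -/
theorem result
    {E : Type u₁} [Category.{v₁} E] {F : Type u₂} [Category.{v₂} F] (φ : E ⥤ F)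
    [HasPullbacks E] [PreservesLimitsOfShape WalkingCospan φ]
    (h : ∀ ⦃X Y : E⦄ (u : X ⟶ Y), Mono u → IsIso (φ.map u) → IsIso u) :
    φ.ReflectsIsomorphisms := by
  constructor
  intro X Y u hu
  refine h u ?_ hu
  let δ : X ⟶ pullback u u := pullback.lift (𝟙 X) (𝟙 X) rfl
  haveI : Mono δ := mono_of_mono_fac (pullback.lift_fst _ _ _)
  haveI : IsIso (φ.map (pullback.fst u u)) := by
    exact ((IsPullback.of_hasPullback u u).map φ).isIso_fst_of_isIso
  haveI : IsIso (φ.map δ) := by
    refine @IsIso.of_isIso_comp_right _ _ _ _ _ (φ.map δ) (φ.map (pullback.fst u u)) _ ?_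
    rw [← φ.map_comp, pullback.lift_fst, φ.map_id]; infer_instance
  haveI : IsIso δ := h δ inferInstance inferInstance
  refine ⟨fun {Z} a b hab => ?_⟩
  have h2 : pullback.fst u u = pullback.snd u u := by
    rw [← cancel_epi δ, pullback.lift_fst, pullback.lift_snd]
  calc a = pullback.lift a b hab ≫ pullback.fst u u := (pullback.lift_fst _ _ _).symm
    _ = pullback.lift a b hab ≫ pullback.snd u u := by rw [h2]
    _ = b := pullback.lift_snd _ _ _

end Groth.Agent.S6123
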