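import Groth.Statements.S6124

set_option autoImplicit false
open CategoryTheory CategoryTheory.Limits Opposite
universe w v₁ v₂ u₁ u₂
open SGA4

namespace Groth.Agent.S6124

/-- Let `E` have pullbacks, let `P` be a detecting family of objects of `E` (a morphism `f` is
invertible as soon as every map out of an object of `P` factors uniquely through `f`), and let `φ i
: E ⥤ E' i` be functors preserving pullbacks. Then the `φ i` jointly reflect isomorphisms if and
only if, for every `X` with `P X` and every subobject `X'` of `X` other than `⊤`, some `φ i` takes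
the inclusion `X' ⟶ X` to a morphism that is not invertible. -/
theorem result
    {E : Type u₁} [Category.{v₁} E] [HasPullbacks E] (P : ObjectProperty E) (hP : P.IsDetecting)
    {κ : Type w} {E' : κ → Type u₂} [∀ k, Category.{v₂} (E' k)] (φ : ∀ k, E ⥤ E' k)
    [∀ k, PreservesLimitsOfShape WalkingCospan (φ k)] :
    (∀ ⦃X Y : E⦄ (f : X ⟶ Y), (∀ k, IsIso ((φ k).map f)) → IsIso f) ↔
      ∀ (X : E), P X → ∀ (X' : Subobject X), X' ≠ ⊤ → ∃ k, ¬ IsIso ((φ k).map X'.arrow) := by
  constructor
  · intro h X _ X' hX'
    by_contra hc
    push Not at hc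
    have := h X'.arrow hc
    exact hX' (Subobject.eq_top_of_isIso_arrow X')
  · intro h
    have hmono : ∀ ⦃A B : E⦄ (f : A ⟶ B), Mono f → (∀ k, IsIso ((φ k).map f)) → IsIso f := by
      intro A B f _ hf
      refine hP f fun X hX g => ?_
      have : IsIso (pullback.snd f g) := by
        by_contra hni
        have hne : Subobject.mk (pullback.snd f g) ≠ ⊤ := fun he =>
          hni ((Subobject.isIso_iff_mk_eq_top _).mpr he)
        obtain ⟨k, hk⟩ := h X hX _ hne
        refine hk ?_
        have := hf k
        have h1 : IsIso ((φ k).map (pullback.snd f g)) :=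
          ((IsPullback.of_hasPullback f g).map (φ k)).isIso_snd_of_isIso
        rw [← Subobject.underlyingIso_hom_comp_eq_mk, Functor.map_comp]
        infer_instance
      exact ⟨inv (pullback.snd f g) ≫ pullback.fst f g, by simp [pullback.condition], fun y hy => by
        rw [← cancel_mono f, hy]; simp [pullback.condition]⟩
    intro X Y u hu
    refine hmono u ?_ hu
    let δ : X ⟶ pullback u u := pullback.lift (𝟙 X) (𝟙 X) rfl
    have : IsIso δ := hmono δ (mono_of_mono_fac (pullback.lift_fst _ _ _)) fun k => by
      have := hu k
      have : IsIso ((φ k).map (pullback.fst u u)) :=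
        ((IsPullback.of_hasPullback u u).map (φ k)).isIso_fst_of_isIso
      refine @IsIso.of_isIso_comp_right _ _ _ _ _ ((φ k).map δ) ((φ k).map (pullback.fst u u)) _ ?_
      rw [← (φ k).map_comp, pullback.lift_fst, (φ k).map_id]; infer_instance
    refine ⟨fun {Z} a b hab => ?_⟩
    have h2 : pullback.fst u u = pullback.snd u u := by
      rw [← cancel_epi δ, pullback.lift_fst, pullback.lift_snd]
    calc a = pullback.lift a b hab ≫ pullback.fst u u := (pullback.lift_fst _ _ _).symm
      _ = pullback.lift a b hab ≫ pullback.snd u u := by rw [h2]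
      _ = b := pullback.lift_snd _ _ _

end Groth.Agent.S6124
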