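import Groth.Statements.S6126

set_option autoImplicit false
open CategoryTheory CategoryTheory.Limits
universe v₁ u₁
open SGA4

namespace Groth.Agent.S6126

/-- Let `E` be a category with `v₁`-small hom-sets admitting a separating family of objects `G t`
indexed by a `v₁`-small type, in which every object admits a monomorphism into an injective object.
Assume that each coproduct `G t ⨿ G t` exists and that every morphism out of `G t ⨿ G t` factors as
an effective epimorphism followed by a monomorphism. Then `E` admits a coseparating family of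
injective objects indexed by a `v₁`-small type. (The published statement moreover bounds the size of
this family in terms of the hom-sets `Hom (G t', G t ⨿ G t)`; only existence is stated here. The
published statement speaks of generating and cogenerating families; its proof uses and produces
joint faithfulness of maps out of, resp. into, the family, which is the sense taken here.) -/
theorem result
    {E : Type u₁} [Category.{v₁} E] {ι : Type v₁} (G : ι → E)
    (hG : (ObjectProperty.ofObj G).IsSeparating)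
    [EnoughInjectives E] [∀ t, HasBinaryCoproduct (G t) (G t)]
    (hfac : ∀ (t : ι) (X : E) (f : G t ⨿ G t ⟶ X),
      ∃ (Y : E) (e : G t ⨿ G t ⟶ Y) (m : Y ⟶ X), EffectiveEpi e ∧ Mono m ∧ e ≫ m = f) :
    ∃ (κ : Type v₁) (H : κ → E),
      (∀ k, Injective (H k)) ∧ (ObjectProperty.ofObj H).IsCoseparating := by
  classical
  let P := fun t => G t ⨿ G t
  let S := fun (t : ι) (Y : E) (e : P t ⟶ Y) =>
    {q : Σ s : ι, (G s ⟶ P t) × (G s ⟶ P t) | q.2.1 ≫ e = q.2.2 ≫ e}
  let K := {k : Σ t : ι, Set (Σ s : ι, (G s ⟶ P t) × (G s ⟶ P t)) //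
    ∃ (Y : E) (e : P k.1 ⟶ Y), EffectiveEpi e ∧ S k.1 Y e = k.2}
  let Y₀ := fun k : K => k.2.choose
  let e₀ : ∀ k : K, P k.1.1 ⟶ Y₀ k := fun k => k.2.choose_spec.choose
  refine ⟨K, fun k => Injective.under (Y₀ k), fun k => inferInstance, ?_⟩
  intro A X f g hfg
  refine hG f g fun T hT q => ?_
  obtain ⟨t⟩ := hT
  by_contra hne
  obtain ⟨Y, e, m, he, hm, hem⟩ := hfac t X (coprod.desc (q ≫ f) (q ≫ g))
  let k : K := ⟨⟨t, S t Y e⟩, Y, e, he, rfl⟩
  obtain ⟨he₀, hS⟩ := k.2.choose_spec.choose_spec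
  have hd : ∀ {W : E} (a b : W ⟶ P t), a ≫ e₀ k = b ≫ e₀ k → a ≫ e = b ≫ e := by
    intro W a b hab
    refine hG _ _ fun T hT p => ?_
    obtain ⟨s⟩ := hT
    have h1 : (⟨s, p ≫ a, p ≫ b⟩ : Σ s : ι, (G s ⟶ P t) × (G s ⟶ P t)) ∈ S t (Y₀ k) (e₀ k) := by
      simp [S, hab]
    rw [hS] at h1
    simpa [S, k] using h1
  have hd' : ∀ {W : E} (a b : W ⟶ P t), a ≫ e = b ≫ e → a ≫ e₀ k = b ≫ e₀ k := by
    intro W a b hab
    refine hG _ _ fun T hT p => ?_
    obtain ⟨s⟩ := hT
    have h1 : (⟨s, p ≫ a, p ≫ b⟩ : Σ s : ι, (G s ⟶ P t) × (G s ⟶ P t)) ∈ S t Y e := by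
      simp [S, hab]
    have h2 : (⟨s, p ≫ a, p ≫ b⟩ : Σ s : ι, (G s ⟶ P t) × (G s ⟶ P t)) ∈ S t (Y₀ k) (e₀ k) := hS.symm ▸ h1
    simpa [S] using h2
  let φ : Y ⟶ Y₀ k := EffectiveEpi.desc e (e₀ k) fun a b h => hd' a b h
  let ψ : Y₀ k ⟶ Y := haveI : EffectiveEpi (e₀ k) := he₀; EffectiveEpi.desc (e₀ k) e (fun a b h => hd a b h)
  have hφψ : φ ≫ ψ = 𝟙 Y := by
    haveI : EffectiveEpi (e₀ k) := he₀
    rw [← cancel_epi e, EffectiveEpi.fac_assoc, EffectiveEpi.fac, Category.comp_id]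
  have : Mono φ := mono_of_mono_fac hφψ
  obtain ⟨w, hw⟩ := Injective.factors (φ ≫ Injective.ι (Y₀ k)) m
  have h3 := congrArg (q ≫ ·) (hfg _ ⟨k⟩ w)
  simp only [← Category.assoc] at h3
  have hl : q ≫ f = (coprod.inl ≫ e) ≫ m := by rw [Category.assoc, hem, coprod.inl_desc]
  have hr : q ≫ g = (coprod.inr ≫ e) ≫ m := by rw [Category.assoc, hem, coprod.inr_desc]
  rw [hl, hr, Category.assoc _ m w, Category.assoc _ m w, hw] at h3
  exact hne (by rw [hl, hr, (cancel_mono (φ ≫ Injective.ι (Y₀ k))).mp h3])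

end Groth.Agent.S6126
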