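import Mathlib.CategoryTheory.Sites.LocallyBijective
import Groth.Statements.S6128

set_option autoImplicit false
open CategoryTheory
universe u
open SGA4

namespace Groth.Agent.S6128

/-- Let `u : C ⥤ C'` be a functor between small sites. If the right Kan extension along `u` of the
underlying presheaf of every sheaf of sets on `C` is a sheaf on `C'`, then `u` is cocontinuous: for
every object `Y` of `C` and every covering sieve `R` of `u Y`, the sieve of morphisms `g : Z ⟶ Y`
with `u g ∈ R` covers `Y`. -/
theorem result
    {C : Type u} [SmallCategory C] {C' : Type u} [SmallCategory C']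
    (J : GrothendieckTopology C) (J' : GrothendieckTopology C') (u : C ⥤ C')
    (h : ∀ G : Sheaf J (Type u), Presheaf.IsSheaf J' ((u.op.ran).obj G.obj)) :
    u.IsCocontinuous J J' := by
  constructor
  intro Y R hR
  let φ := ((Functor.whiskeringLeft Cᵒᵖ C'ᵒᵖ (Type u)).obj u.op).map R.functorInclusion
  have hW : J.W φ := by
    intro G hG
    have hsh := (isSheaf_iff_isSheaf_of_type _ _).mp (h ⟨G, hG⟩) R hR
    rw [Presieve.isSheafFor_iff_yonedaSheafCondition] at hsh
    have adj := u.op.ranAdjunction (Type u)
    constructor
    · intro a b hab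
      apply (adj.homEquiv _ _).injective
      obtain ⟨g, -, hg⟩ := hsh (R.functorInclusion ≫ adj.homEquiv _ _ b)
      rw [hg _ rfl, hg (adj.homEquiv _ _ a)]
      all_goals simp only [← adj.homEquiv_naturality_left]
      exact congrArg _ hab
    · intro b
      obtain ⟨g, hg, -⟩ := hsh (adj.homEquiv _ _ b)
      refine ⟨(adj.homEquiv _ _).symm g, ?_⟩
      show φ ≫ _ = _
      rw [← adj.homEquiv_naturality_left_symm, hg, Equiv.symm_apply_apply]
  have hls := ((J.W_iff_isLocallyBijective φ).mp hW).2
  refine J.superset_covering ?_ (Presheaf.imageSieve_mem J φ (U := Opposite.op Y) (𝟙 (u.obj Y)))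
  rintro V g ⟨⟨t, ht⟩, htg⟩
  show R (u.map g)
  have : t = u.map g := by simpa [φ] using htg
  exact this ▸ ht

end Groth.Agent.S6128
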