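import Mathlib.CategoryTheory.Sites.LocallyBijective
import Groth.Statements.S6131

set_option autoImplicit false
open CategoryTheory CategoryTheory.Limits
universe u
open SGA4

namespace Groth.Agent.S6131

/-- For a small site `(C, J)` and an object `X` of `C`, the sheaf associated to the presheaf represented
by `X` is an initial object of the category of sheaves of sets if and only if the empty sieve covers
`X`. -/
theorem result
    {C : Type u} [SmallCategory C] (J : GrothendieckTopology C) (X : C) :
    Nonempty (IsInitial ((presheafToSheaf J (Type u)).obj (yoneda.obj X))) ↔ (⊥ : Sieve X) ∈ J X := by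
  constructor
  · rintro ⟨h⟩
    let E : Cᵒᵖ ⥤ Type u := (Functor.const Cᵒᵖ).obj PEmpty
    let f := (sheafificationAdjunction J (Type u)).homEquiv _ _ (h.to ((presheafToSheaf J (Type u)).obj E))
    have hmem := Presheaf.imageSieve_mem J (toSheafify J E) (f.app (Opposite.op X) (𝟙 X))
    refine J.superset_covering ?_ hmem
    rintro V g ⟨t, -⟩
    exact PEmpty.elim t
  · intro hbot
    have huniq : ∀ G : Sheaf J (Type u), Unique ((presheafToSheaf J (Type u)).obj (yoneda.obj X) ⟶ G) := fun G =>
      haveI : Unique (((sheafToPresheaf J (Type u)).obj G).obj (Opposite.op X)) := Types.isTerminalEquivUnique _ (G.isTerminalOfBotCover X hbot)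
      (((sheafificationAdjunction J (Type u)).homEquiv _ _).trans yonedaEquiv).unique
    exact ⟨IsInitial.ofUnique (h := huniq) _⟩

end Groth.Agent.S6131
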