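import Groth.Statements.S6132
import Groth.Agent.SiteBase.SheafCofan

set_option autoImplicit false
open CategoryTheory CategoryTheory.Limits
universe u
open SGA4

namespace Groth.Agent.S6132

/-- Let `(C, J)` be a small site, `X` an object and `s i : Y i ⟶ X` a family of morphisms all of whose
base changes exist in `C`. If the family is covering, every `s i` is a monomorphism, and for `i ≠ j`
the fibre product `Y i ×_X Y j` is covered by the empty sieve, then the associated sheaf of `X`,
with the maps induced by the `s i`, is a coproduct of the associated sheaves of the `Y i` in the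
category of sheaves of sets. -/
theorem result
    {C : Type u} [SmallCategory C] (J : GrothendieckTopology C) {X : C} {ι : Type u}
    (Y : ι → C) (s : ∀ i, Y i ⟶ X) [∀ (i : ι) (Z : C) (g : Z ⟶ X), HasPullback (s i) g]
    (hcov : Sieve.ofArrows Y s ∈ J X) (hmono : ∀ i, Mono (s i))
    (hdisj : ∀ i j, i ≠ j → (⊥ : Sieve (pullback (s i) (s j))) ∈ J (pullback (s i) (s j))) :
    Nonempty (IsColimit (Cofan.mk ((presheafToSheaf J (Type u)).obj (yoneda.obj X))
      (fun i => (presheafToSheaf J (Type u)).map (yoneda.map (s i))))) := by
  rw [SiteBase.nonempty_isColimit_cofan_sheafify_iff]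
  intro G
  have hs : Presieve.IsSheafFor G.obj (Presieve.ofArrows Y s) :=
    (Presieve.isSheafFor_iff_generate _).mpr (((isSheaf_iff_isSheaf_of_type _ _).mp G.2) _ hcov)
  rw [Presieve.isSheafFor_arrows_iff] at hs
  have hsub : ∀ Z : C, (⊥ : Sieve Z) ∈ J Z → Subsingleton (G.obj.obj (Opposite.op Z)) := fun Z hZ =>
    ⟨fun a b => (((isSheaf_iff_isSheaf_of_type _ _).mp G.2).isSeparated _ hZ).ext fun W g hg => (hg : False).elim⟩
  have hcomp : ∀ x : (i : ι) → G.obj.obj (Opposite.op (Y i)), Presieve.Arrows.Compatible G.obj s x := by
    intro x i j Z gi gj hg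
    by_cases hij : i = j
    · subst hij
      rw [(cancel_mono (s i)).mp hg]
    · let l := pullback.lift gi gj hg
      have := hsub _ (hdisj i j hij)
      have h1 := Subsingleton.elim (G.obj.map (pullback.fst (s i) (s j)).op (x i)) (G.obj.map (pullback.snd (s i) (s j)).op (x j))
      have h2 := congrArg (G.obj.map l.op) h1
      simp only [← comp_apply, ← Functor.map_comp, ← op_comp, l] at h2
      rwa [pullback.lift_fst, pullback.lift_snd] at h2
  refine ⟨fun a b hab => ?_, fun x => ?_⟩
  · exact (hs _ (hcomp fun i => G.obj.map (s i).op a)).unique (fun i => rfl) (fun i => (congr_fun hab i).symm)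
  · exact ⟨_, funext (hs x (hcomp x)).exists.choose_spec⟩

end Groth.Agent.S6132
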