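import Groth.Statements.S6137
import Mathlib.CategoryTheory.Limits.Elements
import Mathlib.CategoryTheory.Limits.Constructions.WeaklyInitial
import Mathlib.CategoryTheory.Limits.Shapes.WideEqualizers
import Mathlib.CategoryTheory.Limits.Yoneda

set_option autoImplicit false
open CategoryTheory CategoryTheory.Limits
universe v u
open SGA4

namespace Groth.Agent.S6137

/-- Let `C` be a category with `v`-small hom-sets admitting all `v`-small limits, and `F : C ⥤ Type v` a
functor. Then `F` is corepresentable if and only if it is pro-representable (viewed as a presheaf on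
`Cᵒᵖ` it is an ind-object, i.e. a small filtered colimit of corepresentable functors) and preserves
all `v`-small limits. -/
theorem result
    {C : Type u} [Category.{v} C] [HasLimitsOfSize.{v, v} C] (F : C ⥤ Type v) :
    F.IsCorepresentable ↔
      IsIndObject (unopUnop C ⋙ F) ∧ PreservesLimitsOfSize.{v, v} F := by
  constructor
  · intro h
    refine ⟨?_, inferInstance⟩
    exact (isIndObject_yoneda (Opposite.op F.coreprX)).map (NatIso.ofComponents
      (fun X => ((opEquiv _ _).trans F.corepresentableBy.homEquiv : (X.unop ⟶ Opposite.op F.coreprX) ≃ F.obj X.unop.unop).toIso)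
      (fun {X Y} f => by
        ext a
        exact F.corepresentableBy.homEquiv_comp f.unop.unop a.unop)).hom
  · rintro ⟨hi, hl⟩
    obtain ⟨p⟩ := hi.nonempty_presentation
    have hlim : HasLimitsOfSize.{v, v} F.Elements := ⟨fun _ _ => inferInstance⟩
    let x : ∀ i : p.I, F.obj (p.F.obj i).unop := fun i => (p.ι.app i).app (Opposite.op (p.F.obj i)) (𝟙 _)
    have hw : ∀ A : F.Elements, ∃ i, Nonempty ((Functor.elementsMk F (p.F.obj i).unop (x i)) ⟶ A) := by
      intro A
      obtain ⟨i, g, hg⟩ := Types.jointly_surjective _ (isColimitOfPreserves
        ((evaluation _ _).obj (Opposite.op (Opposite.op A.1))) p.isColimit) A.2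
      refine ⟨i, ⟨g.unop, ?_⟩⟩
      have h1 := (NatTrans.naturality_apply (p.ι.app i) g.op (𝟙 (p.F.obj i))).symm
      refine h1.trans ?_
      refine Eq.trans ?_ hg
      simp
    have : HasProducts.{v} F.Elements := fun _ => inferInstance
    have : HasWideEqualizers.{v} F.Elements := fun _ => inferInstance
    obtain ⟨T, hT⟩ := has_weakly_initial_of_weakly_initial_set_and_hasProducts hw
    have := hasInitial_of_weakly_initial_and_hasWideEqualizers hT
    exact Functor.Elements.isCorepresentable_of_hasInitial F

end Groth.Agent.S6137
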