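import Groth.Statements.S6139
import Mathlib.CategoryTheory.Sites.Canonical

set_option autoImplicit false
open CategoryTheory CategoryTheory.Limits
universe v u
open SGA4

namespace Groth.Agent.S6139

/-- For an object `X` of a category `C`, the empty sieve on `X` is covering for the canonical topology
of `C` (the finest topology for which every representable presheaf is a sheaf) if and only if `X` is
a strict initial object: `X` is initial and every morphism with target `X` is an isomorphism. (The
source phrases the first condition as: for some topology coarser than the canonical one the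
associated sheaf of `h_X` is initial; that sheaf is initial exactly when the empty sieve covers `X`,
and coverage by the empty sieve passes to the finer canonical topology.) -/
theorem result
    {C : Type u} [Category.{v} C] (X : C) :
    (⊥ : Sieve X) ∈ Sheaf.canonicalTopology C X ↔
      (Nonempty (IsInitial X) ∧ ∀ (Y : C) (f : Y ⟶ X), IsIso f) := by
  constructor
  · intro h
    have key : ∀ (Y : C) (f : Y ⟶ X) (W : C), Nonempty (Unique (Y ⟶ W)) := by
      intro Y f W
      have hs := Sheaf.isSheaf_yoneda_obj W _ ((Sheaf.canonicalTopology C).pullback_stable f h)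
      obtain ⟨t, -, ht⟩ := hs (fun Z g hg => (hg : False).elim) (fun _ _ _ _ _ _ _ hg => (hg : False).elim)
      exact ⟨⟨⟨t⟩, fun a => ht a fun Z g hg => (hg : False).elim⟩⟩
    have hI : ∀ (Y : C) (f : Y ⟶ X), Nonempty (IsInitial Y) := fun Y f =>
      ⟨IsInitial.ofUnique (h := fun W => (key Y f W).some) Y⟩
    refine ⟨hI X (𝟙 X), fun Y f => ?_⟩
    obtain ⟨iY⟩ := hI Y f
    obtain ⟨iX⟩ := hI X (𝟙 X)
    exact ⟨iX.to Y, iY.hom_ext _ _, iX.hom_ext _ _⟩
  · rintro ⟨⟨hI⟩, hiso⟩
    apply Sheaf.mem_finestTopology_of_forall_isSheafFor
    rintro _ ⟨W, rfl⟩ Y f x -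
    have := hiso Y f
    have iY : IsInitial Y := hI.ofIso (asIso f).symm
    exact ⟨iY.to W, fun Z g hg => (hg : False).elim, fun y _ => iY.hom_ext _ _⟩

end Groth.Agent.S6139
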