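import Groth.Statements.S6142

set_option autoImplicit false
open CategoryTheory
universe u
open SGA4

namespace Groth.Agent.S6142

/-- Let `u : C ⥤ C'` be a continuous and cocontinuous functor between small sites whose topologies are
subcanonical. If the left adjoint `u_!` of the restriction functor `u^*` on sheaves of sets is full
and faithful, then `u` is full and faithful. -/
theorem result
    {C : Type u} [SmallCategory C] {C' : Type u} [SmallCategory C']
    (J : GrothendieckTopology C) (K : GrothendieckTopology C') [J.Subcanonical] [K.Subcanonical]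
    (u : C ⥤ C') [u.IsContinuous J K] [u.IsCocontinuous J K]
    (h : (u.sheafPullback (Type u) J K).Full ∧ (u.sheafPullback (Type u) J K).Faithful) :
    u.Full ∧ u.Faithful := by
  obtain ⟨hfull, hfaith⟩ := h
  let L := u.sheafPullback (Type u) J K
  let adj := u.sheafAdjunctionContinuous (Type u) J K
  let τ : J.yoneda ⋙ L ≅ u ⋙ K.yoneda :=
    Functor.isoWhiskerLeft J.yoneda (Functor.sheafPullbackConstruction.sheafPullbackIso u (Type u) J K) ≪≫
    Functor.isoWhiskerRight ((uliftYonedaIsoYoneda.{u} (C := C)).symm) (u.op.lan ⋙ presheafToSheaf K (Type u)) ≪≫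
    Functor.isoWhiskerRight (Presheaf.compULiftYonedaIsoULiftYonedaCompLan.{u} u).symm (presheafToSheaf K (Type u)) ≪≫
    Functor.isoWhiskerLeft u (Functor.isoWhiskerRight (uliftYonedaIsoYoneda.{u} (C := C')) (presheafToSheaf K (Type u))) ≪≫
    Functor.isoWhiskerLeft (u ⋙ K.yoneda) (asIso (sheafificationAdjunction K (Type u)).counit)
  let ff : (u ⋙ K.yoneda).FullyFaithful :=
    Functor.FullyFaithful.ofIso ((J.yonedaFullyFaithful).comp (Functor.FullyFaithful.ofFullyFaithful L)) τ
  exact ⟨⟨fun f => ⟨ff.preimage (K.yoneda.map f), K.yonedaFullyFaithful.map_injective (ff.map_preimage _)⟩⟩,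
    ⟨fun {X Y} a b h => ff.map_injective (congrArg K.yoneda.map h)⟩⟩

end Groth.Agent.S6142
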