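import Mathlib.Logic.Small.Set
import Groth.Statements.S6144

set_option autoImplicit false
open CategoryTheory CategoryTheory.Limits
universe w v u
open SGA4

namespace Groth.Agent.S6144

/-- Let `E` be a category with `v`-small hom-sets and pullbacks, admitting a detecting family of objects
indexed by a `v`-small type (maps out of the family jointly reflect isomorphisms). Then every
detecting family `Y : I → E`, indexed by an arbitrary type, contains a detecting subfamily indexed
by a `v`-small subset of `I`. -/
theorem result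
    {E : Type u} [Category.{v} E] [HasPullbacks E] {κ : Type v} (G : κ → E)
    (hG : (ObjectProperty.ofObj G).IsDetecting) {I : Type w} (Y : I → E)
    (hY : (ObjectProperty.ofObj Y).IsDetecting) :
    ∃ J : Set I, Small.{v} J ∧ (ObjectProperty.ofObj (fun j : J => Y j)).IsDetecting := by
  classical
  choose j hj using fun (p : Σ k : κ, {S : Subobject (G k) // S ≠ ⊤}) => (show ∃ i, ∃ t : Y i ⟶ G p.1,
      ¬ p.2.1.Factors t by
    by_contra hc
    push Not at hc
    refine p.2.2 (@Subobject.eq_top_of_isIso_arrow _ _ _ _ (hY _ ?_))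
    rintro _ ⟨i⟩ t
    exact ⟨Subobject.factorThru _ t (hc i t), Subobject.factorThru_arrow _ _ _, fun y hy =>
      (cancel_mono p.2.1.arrow).mp (by rw [hy, Subobject.factorThru_arrow])⟩)
  have : WellPowered.{v} E := by
    have : ObjectProperty.Small.{v} (ObjectProperty.ofObj G) := inferInstance
    exact wellPowered_of_isDetecting hG
  have : ∀ X : E, Small.{v} (Subobject X) := fun X => inferInstance
  refine ⟨Set.range j, small_range j, ?_⟩
  have hmono : ∀ {A B : E} (f : A ⟶ B) [Mono f],
      (∀ i : Set.range j, ∀ h : Y i ⟶ B, ∃ a, a ≫ f = h) → IsIso f := by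
    intro A B f _ hf
    refine hG f ?_
    rintro _ ⟨k⟩ g
    have : IsIso (pullback.snd f g) := by
      by_contra hni
      have hne : Subobject.mk (pullback.snd f g) ≠ ⊤ := fun he =>
        hni ((Subobject.isIso_iff_mk_eq_top _).mpr he)
      obtain ⟨t, ht⟩ := hj ⟨k, _, hne⟩
      obtain ⟨a, ha⟩ := hf ⟨_, ⟨_, rfl⟩⟩ (t ≫ g)
      exact ht ((Subobject.mk_factors_iff _ _).mpr ⟨pullback.lift a t ha, pullback.lift_snd _ _ _⟩)
    exact ⟨inv (pullback.snd f g) ≫ pullback.fst f g, by simp [pullback.condition], fun y hy => by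
      rw [← cancel_mono f, hy]; simp [pullback.condition]⟩
  intro A B f hf
  let δ : A ⟶ pullback f f := pullback.lift (𝟙 A) (𝟙 A) rfl
  have : Mono δ := mono_of_mono_fac (pullback.lift_fst _ _ _)
  have : IsIso δ := hmono δ fun i h => by
    obtain ⟨a, -, ha⟩ := hf _ ⟨i⟩ (h ≫ pullback.fst f f ≫ f)
    have h1 := ha (h ≫ pullback.fst f f) (Category.assoc _ _ _)
    have h2 := ha (h ≫ pullback.snd f f) ((Category.assoc _ _ _).trans (congrArg (h ≫ ·) pullback.condition.symm))
    exact ⟨h ≫ pullback.fst f f, pullback.hom_ext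
      (by rw [Category.assoc, pullback.lift_fst]; exact Category.comp_id _)
      (by rw [Category.assoc, pullback.lift_snd, h2, ← h1]; exact Category.comp_id _)⟩
  have : Mono f := by
    refine ⟨fun {Z} a b hab => ?_⟩
    have h2 : pullback.fst f f = pullback.snd f f := by
      rw [← cancel_epi δ, pullback.lift_fst, pullback.lift_snd]
    calc a = pullback.lift a b hab ≫ pullback.fst f f := (pullback.lift_fst _ _ _).symm
      _ = pullback.lift a b hab ≫ pullback.snd f f := by rw [h2]
      _ = b := pullback.lift_snd _ _ _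
  exact hmono f fun i h => (hf _ ⟨i⟩ h).exists

end Groth.Agent.S6144
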