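import Groth.Statements.S6149
import Groth.Agent.SiteBase.KFlat.Cycles

set_option autoImplicit false
universe u
open CategoryTheory
open ModSite

namespace Groth.Agent.S6149

open CategoryTheory.Limits in
/-- Ringed topos of sheaves on a small site with commutative structure sheaf O: let M be an acyclic
chain complex of flat O-modules with M_i = 0 for i below some bound. Then for every O-module F the
complex M (x)_O F (tensoring termwise with F) is acyclic. The instance binder on the tensor functor
(it preserves zero morphisms) always holds and is only needed to form the complex. -/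
theorem result {C : Type u} [SmallCategory C] {J : GrothendieckTopology C}
    (O : Sheaf J CommRingCat.{u}) (M : ChainComplex (ModSite.Mod O) ℤ) (F : ModSite.Mod O)
    [((ModSite.tensorBi O).flip.obj F).PreservesZeroMorphisms]
    (hb : ∃ i₀ : ℤ, ∀ i, i < i₀ → IsZero (M.X i)) (hM : ∀ i, ModSite.IsFlat (M.X i)) (hac : M.Acyclic) :
    ((((ModSite.tensorBi O).flip.obj F).mapHomologicalComplex (ComplexShape.down ℤ)).obj M).Acyclic := by
  obtain ⟨i₀, hi₀⟩ := hb
  let K : CochainComplex (ModSite.Mod O) ℤ :=
    { X := fun n => M.X (-n)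
      d := fun i j => M.d (-i) (-j)
      shape := fun i j h => M.shape _ _ fun h' => h (by simp at h' ⊢; omega)
      d_comp_d' := fun i j k _ _ => M.d_comp_d _ _ _ }
  have hac' : K.Acyclic := fun n => by
    rw [K.exactAt_iff' (n - 1) n (n + 1) (by simp) (by simp)]
    exact (M.exactAt_iff' (-(n - 1)) (-n) (-(n + 1)) (by simp; omega) (by simp; omega)).1 (hac (-n))
  have hK : ModSite.IsKFlat K := Groth.Agent.SiteBase.KFlat.isKFlat_of_bddAbove (fun n => hM (-n)) (-i₀)
    (fun q hq => hi₀ (-q) (by omega))
  intro i
  obtain ⟨n, rfl⟩ : ∃ n, i = -n := ⟨-i, (neg_neg i).symm⟩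
  rw [HomologicalComplex.exactAt_iff' _ (-(n - 1)) (-n) (-(n + 1)) (by simp; omega) (by simp; omega)]
  exact (HomologicalComplex.exactAt_iff' _ (n - 1) n (n + 1) (by simp) (by simp)).1
    (Groth.Agent.SiteBase.KFlat.acyclic_tensor_module hK hac' F n)

end Groth.Agent.S6149
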