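import Groth.Statements.S6160
import Groth.Agent.SiteBase.ModColimits

set_option autoImplicit false
universe u
open CategoryTheory
open ModSite

namespace Groth.Agent.S6160

open CategoryTheory.Limits in
/-- Ringed topos of sheaves on a small site; u : A -> B a morphism of sheaves of rings: the
restriction-of-scalars functor from B-Modules to A-Modules commutes with all u-small limits and
colimits and is conservative. -/
theorem result {C : Type u} [SmallCategory C]
    {J : GrothendieckTopology C} {A B : Sheaf J RingCat.{u}} (φ : A ⟶ B) :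
    PreservesLimitsOfSize.{u, u} (SheafOfModules.restrictScalars.{u} φ) ∧
    PreservesColimitsOfSize.{u, u} (SheafOfModules.restrictScalars.{u} φ) ∧
    (SheafOfModules.restrictScalars.{u} φ).ReflectsIsomorphisms := by
  have hlim : ∀ R : Sheaf J RingCat.{u}, PreservesLimitsOfSize.{u, u} (SheafOfModules.toSheaf.{u} R) := fun R =>
    have : PreservesLimitsOfSize.{u, u} (SheafOfModules.toSheaf.{u} R ⋙ sheafToPresheaf J _) :=
      inferInstanceAs (PreservesLimitsOfSize.{u, u} (SheafOfModules.forget.{u} R ⋙ PresheafOfModules.toPresheaf _))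
    preservesLimits_of_reflects_of_preserves _ (sheafToPresheaf J _)
  have hc : SheafOfModules.restrictScalars.{u} φ ⋙ SheafOfModules.toSheaf.{u} A =
      SheafOfModules.toSheaf.{u} B := rfl
  have : PreservesLimitsOfSize.{u, u} (SheafOfModules.restrictScalars.{u} φ ⋙ SheafOfModules.toSheaf.{u} A) := by
    rw [hc]; infer_instance
  have : PreservesColimitsOfSize.{u, u} (SheafOfModules.restrictScalars.{u} φ ⋙ SheafOfModules.toSheaf.{u} A) := by
    rw [hc]; infer_instance
  have : (SheafOfModules.restrictScalars.{u} φ ⋙ SheafOfModules.toSheaf.{u} A).ReflectsIsomorphisms := by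
    rw [hc]; infer_instance
  have : ReflectsLimitsOfSize.{u, u} (SheafOfModules.toSheaf.{u} A) :=
    reflectsLimits_of_reflectsIsomorphisms
  have : ReflectsColimitsOfSize.{u, u} (SheafOfModules.toSheaf.{u} A) :=
    reflectsColimits_of_reflectsIsomorphisms
  exact ⟨preservesLimits_of_reflects_of_preserves _ (SheafOfModules.toSheaf.{u} A),
    preservesColimits_of_reflects_of_preserves _ (SheafOfModules.toSheaf.{u} A),
    reflectsIsomorphisms_of_comp _ (SheafOfModules.toSheaf.{u} A)⟩

end Groth.Agent.S6160
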