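import Groth.Statements.S6167
import Groth.Agent.FlatRel.Factor

set_option autoImplicit false
universe u
open CategoryTheory
open ModSite

namespace Groth.Agent.S6167

/-- Ringed site (C, O), small, with commutative structure sheaf: a morphism from an O-module of finite
presentation (Mathlib's notion: over some family of objects covering every object, a cokernel of a
map of finite free modules) to a flat O-module factors, locally on the site, through a finite free
module: for every object X there is a covering family (Y_i -> X) and for each i a factorisation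
F|Y_i -> (O|Y_i)^n -> H|Y_i of the restricted morphism. -/
theorem result {C : Type u} [SmallCategory C] {J : GrothendieckTopology C}
    (O : Sheaf J CommRingCat.{u}) (F H : ModSite.Mod O) [F.IsFinitePresentation] (hH : ModSite.IsFlat H)
    (φ : F ⟶ H) (X : C) :
    ∃ (ι : Type u) (Y : ι → C) (g : ∀ i, Y i ⟶ X), Sieve.ofArrows Y g ∈ J X ∧
      ∀ i, ∃ (n : ℕ) (a : (ModSite.restr O (Y i)).obj F ⟶ SheafOfModules.free (ULift.{u} (Fin n)))
        (b : SheafOfModules.free (ULift.{u} (Fin n)) ⟶ (ModSite.restr O (Y i)).obj H),
        a ≫ b = (ModSite.restr O (Y i)).map φ := by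
  classical
  obtain ⟨q, hq⟩ := SheafOfModules.IsFinitePresentation.exists_quasicoherentData F
  have hrel := FlatRel.relTrivial_of_isFlat hH
  let Good : ∀ ⦃V : C⦄, (V ⟶ X) → Prop := fun V _ => ∃ (n : ℕ)
      (a : (ModSite.restr O V).obj F ⟶ SheafOfModules.free (ULift.{u} (Fin n)))
      (b : SheafOfModules.free (ULift.{u} (Fin n)) ⟶ (ModSite.restr O V).obj H),
        a ≫ b = (ModSite.restr O V).map φ
  have hloc : FlatRel.Locally J X fun V g => Good g := by
    refine (show FlatRel.Locally J X fun V _ => ∃ i, Nonempty (V ⟶ q.X i) from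
      ⟨_, q.coversTop X, fun V g hg => (Sieve.mem_ofObjects_iff ..).mp hg⟩).bind fun V g hg => ?_
    obtain ⟨i, ⟨f⟩⟩ := hg
    haveI := hq.isFinite_presentation i
    haveI : Finite (q.presentation i).generators.I := SheafOfModules.GeneratingSections.IsFiniteType.finite
    haveI : Finite (q.presentation i).relations.I := SheafOfModules.GeneratingSections.IsFiniteType.finite
    letI := Fintype.ofFinite (q.presentation i).generators.I
    letI := Fintype.ofFinite (q.presentation i).relations.I
    exact FlatRel.exists_factor φ (q.presentation i) hrel f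
  obtain ⟨S, hS, hg⟩ := hloc
  refine ⟨Σ Y : C, {g : Y ⟶ X // S g}, fun i => i.1, fun i => i.2.1, J.superset_covering ?_ hS,
    fun i => hg i.2.1 i.2.2⟩
  intro Y g h
  exact ⟨Y, 𝟙 Y, g, ⟨(⟨Y, g, h⟩ : Σ Y : C, {g : Y ⟶ X // S g})⟩, Category.id_comp g⟩

end Groth.Agent.S6167
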