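import Groth.Statements.S6173
import Mathlib.CategoryTheory.Sites.Point.Map
import Mathlib.CategoryTheory.Sites.Point.Conservative

set_option autoImplicit false
universe u
open CategoryTheory
open SGA4

namespace Groth.Agent.S6173

/-- Second assertion (topos of sheaves on a small site (C, J); E/X_i the induced topoi, modelled by the
sites (C/X_i, J/X_i); 'enough points' = a small conservative family of points, equivalently all
fibre functors together are conservative): if (X_i) is a family of objects covering the final object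
and every E/X_i has enough points, then E has enough points. (The first assertion, that E/X inherits
enough points from E, is Mathlib's instance.) -/
theorem result {C : Type u} [SmallCategory C] (J : GrothendieckTopology C) {ι : Type u}
    (X : ι → C) (hX : J.CoversTop X) (h : ∀ i, GrothendieckTopology.HasEnoughPoints.{u} (J.over (X i))) :
    GrothendieckTopology.HasEnoughPoints.{u} J := by
  classical
  choose P hPs hP using fun i => (h i).exists_objectProperty
  haveI : ∀ i, ObjectProperty.Small.{u} (P i) := hPs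
  haveI : ∀ i, Small.{u} (Subtype (P i)) := hPs
  let pts : (Σ i, Subtype (P i)) → GrothendieckTopology.Point.{u} J :=
    fun a => a.2.1.map (Over.forget (X a.1)) J
  refine ⟨⟨ObjectProperty.ofObj pts, inferInstance,
    ObjectProperty.IsConservativeFamilyOfPoints.mk' fun {Y} S hS => ?_⟩⟩
  refine J.transitive (hX Y) _ fun {W} g hg => ?_
  obtain ⟨i, ⟨a⟩⟩ := hg
  suffices (Sieve.overEquiv (Over.mk a)).symm (S.pullback g) ∈ J.over (X i) (Over.mk a) by
    rw [GrothendieckTopology.mem_over_iff, OrderIso.apply_symm_apply] at this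
    exact this
  obtain ⟨κ, Z, f, hf⟩ := ((Sieve.overEquiv (Over.mk a)).symm (S.pullback g)).exists_eq_ofArrows
  rw [hf, (hP i).jointly_reflect_ofArrows_mem_of_small]
  rintro ⟨Φ, hΦ⟩ x
  let Ψ : (ObjectProperty.ofObj pts).FullSubcategory := ⟨pts ⟨i, Φ, hΦ⟩, ⟨_⟩⟩
  let e : Φ.fiber.Elements := Functor.elementsMk Φ.fiber (Over.mk a) x
  obtain ⟨Y', h, hh, y', hy'⟩ := hS Ψ (GrothendieckTopology.Point.ofIsCofiltered.fiberMk
    (p := CategoryOfElements.π Φ.fiber ⋙ Over.forget (X i)) (U := e) g)
  obtain ⟨U, q, rfl⟩ := GrothendieckTopology.Point.ofIsCofiltered.fiberMk_jointly_surjective y'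
  have hy'' := (GrothendieckTopology.Point.ofIsCofiltered.fiber_map_fiberMk (f := q) (g := h)).symm.trans hy'
  haveI : IsCofiltered Φ.fiber.Elements := inferInstance
  let W₀ := IsCofiltered.min U e
  let u₁ : W₀ ⟶ U := IsCofiltered.minToLeft U e
  let u₂ : W₀ ⟶ e := IsCofiltered.minToRight U e
  obtain ⟨V, v, hv⟩ := GrothendieckTopology.Point.ofIsCofiltered.exists_of_fiberMk_eq_fiberMk
    (p := CategoryOfElements.π Φ.fiber ⋙ Over.forget (X i))
    (f₁ := (CategoryOfElements.π Φ.fiber ⋙ Over.forget (X i)).map u₁ ≫ q ≫ h)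
    (f₂ := (CategoryOfElements.π Φ.fiber ⋙ Over.forget (X i)).map u₂ ≫ g)
    ((GrothendieckTopology.Point.ofIsCofiltered.fiberMk_map_comp (p := CategoryOfElements.π Φ.fiber ⋙ Over.forget (X i)) (g := u₁) (f := q ≫ h)).trans
      (hy''.trans (GrothendieckTopology.Point.ofIsCofiltered.fiberMk_map_comp (p := CategoryOfElements.π Φ.fiber ⋙ Over.forget (X i)) (g := u₂) (f := g)).symm))
  let r : V ⟶ e := v ≫ u₂
  have hmem : ((Sieve.overEquiv (Over.mk a)).symm (S.pullback g)) r.1 := by
    show (Sieve.functorPullback (Over.forget (X i)) (S.pullback g)) r.1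
    show S (r.1.left ≫ g)
    have e1 : r.1.left ≫ g = (((CategoryOfElements.π Φ.fiber ⋙ Over.forget (X i)).map v ≫
        (CategoryOfElements.π Φ.fiber ⋙ Over.forget (X i)).map u₁) ≫ q) ≫ h := by
      refine Eq.trans ?_ (hv.symm.trans ?_)
      · simp [r]
        rfl
      · simp
    rw [e1]
    exact S.downward_closed hh _
  rw [hf, Sieve.mem_ofArrows_iff] at hmem
  obtain ⟨k, t, ht⟩ := hmem
  refine ⟨k, Φ.fiber.map t V.2, ?_⟩
  rw [← Functor.map_comp_apply, ← ht]
  exact r.2

end Groth.Agent.S6173
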