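import Groth.Statements.S6176
import Groth.Agent.Giraud.OpenClosed

set_option autoImplicit false
universe u
open CategoryTheory
open SGA4

namespace Groth.Agent.S6176

open CategoryTheory.Limits in
/-- The clause on products (topos of sheaves of sets on a small site; j : E/U -> E the open embedding
defined by an open U, i.e. a subobject of the final object, so that j_! is the forgetful functor
from objects over U): j_! commutes with products indexed by a nonempty u-small set. (Commutation
with fibre products and cofiltered limits, the other clauses, holds for the forgetful functor of any
slice.) -/
theorem result {C : Type u} [SmallCategory C] (J : GrothendieckTopology C)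
    (U : Sheaf J (Type u)) (hU : SGA4.IsOpen U) (I : Type u) [Nonempty I] :
    PreservesLimitsOfShape (Discrete I) (Over.forget U) := by
  refine ⟨fun {F} => preservesLimit_of_preserves_limit_cone (limit.isLimit F) ?_⟩
  have hs : ∀ {X : Sheaf J (Type u)} (a b : X ⟶ U), a = b := fun a b => Groth.Agent.Giraud.hom_subsingleton hU a b
  let i₀ : Discrete I := ⟨Classical.arbitrary I⟩
  refine
    { lift := fun s => ((limit.isLimit F).lift
        { pt := Over.mk (s.π.app i₀ ≫ (F.obj i₀).hom)
          π := { app := fun i => Over.homMk (s.π.app i) (hs _ _)
                 naturality := fun i j g => by
                   apply Over.OverMorphism.ext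
                   simpa using (s.w g).symm } }).left
      fac := fun s i => congrArg CommaMorphism.left ((limit.isLimit F).fac _ i)
      uniq := fun s m hm => ?_ }
  let m' : Over.mk (s.π.app i₀ ≫ (F.obj i₀).hom) ⟶ limit F := Over.homMk m (hs _ _)
  exact congrArg CommaMorphism.left ((limit.isLimit F).uniq
    { pt := Over.mk (s.π.app i₀ ≫ (F.obj i₀).hom)
      π := { app := fun i => Over.homMk (s.π.app i) (hs _ _)
             naturality := fun i j g => by
               apply Over.OverMorphism.ext
               simpa using (s.w g).symm } } m' (fun i => by
        apply Over.OverMorphism.ext
        exact hm i))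

end Groth.Agent.S6176
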