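import Groth.Statements.S6177
import Groth.Agent.Giraud.OpenClosed

set_option autoImplicit false
universe u
open CategoryTheory
open SGA4

namespace Groth.Agent.S6177

open CategoryTheory.Limits in
/-- Topos of sheaves of sets on a small site; U an open, i.e. a subobject of the final object; X_CU the
pushout of U <- U x X -> X along the two projections: (ii) <=> (iii): the canonical map X -> X_CU is
an isomorphism if and only if the projection U x X -> U is an isomorphism (X belongs to the closed
complement of U); and (i) => (iii): if X is isomorphic to Y_CU for some Y then X belongs to the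
closed complement of U ((iii) => (i) with Y = X is then immediate from (ii)). -/
theorem result {C : Type u} [SmallCategory C] (J : GrothendieckTopology C)
    (U : Sheaf J (Type u)) (hU : SGA4.IsOpen U) (X : Sheaf J (Type u)) :
    (SGA4.closedCompl U X ↔ IsIso (pushout.inr (prod.fst : U ⨯ X ⟶ U) (prod.snd : U ⨯ X ⟶ X))) ∧
    ((∃ Y : Sheaf J (Type u), Nonempty (X ≅ pushout (prod.fst : U ⨯ Y ⟶ U) (prod.snd : U ⨯ Y ⟶ Y))) →
      SGA4.closedCompl U X) := by
  refine ⟨⟨fun h => ?_, fun h => ?_⟩, ?_⟩
  · let a : pushout (prod.fst : U ⨯ X ⟶ U) (prod.snd : U ⨯ X ⟶ X) ⟶ X :=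
      pushout.desc (Groth.Agent.Giraud.fromU h) (𝟙 X) (by
        haveI : IsIso (prod.fst : U ⨯ X ⟶ U) := h
        simp [Groth.Agent.Giraud.fromU])
    have hP := Groth.Agent.Giraud.closed_pushout hU X
    exact ⟨a, pushout.inr_desc _ _ _, by
      apply pushout.hom_ext
      · exact (Groth.Agent.Giraud.fromU_unique hP _).trans (Groth.Agent.Giraud.fromU_unique hP _).symm
      · rw [pushout.inr_desc_assoc, Category.id_comp, Category.comp_id]⟩
  · have hP := (Groth.Agent.Giraud.closedCompl_iff hU _).1 (Groth.Agent.Giraud.closed_pushout hU X)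
    rw [Groth.Agent.Giraud.closedCompl_iff hU]
    intro c hc
    obtain ⟨hx⟩ := hP c hc
    exact ⟨(((sheafToPresheaf J (Type u)).mapIso (asIso (pushout.inr (prod.fst : U ⨯ X ⟶ U) (prod.snd : U ⨯ X ⟶ X)))).app (Opposite.op c)).toEquiv.uniqueCongr.symm hx⟩
  · rintro ⟨Y, ⟨e⟩⟩
    have hP := (Groth.Agent.Giraud.closedCompl_iff hU _).1 (Groth.Agent.Giraud.closed_pushout hU Y)
    rw [Groth.Agent.Giraud.closedCompl_iff hU]
    intro c hc
    obtain ⟨hx⟩ := hP c hc
    exact ⟨(((sheafToPresheaf J (Type u)).mapIso e).app (Opposite.op c)).toEquiv.uniqueCongr.symm hx⟩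

end Groth.Agent.S6177
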