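import Groth.Statements.S6182
import Groth.Agent.QCTopos.Algebraic
import Mathlib.CategoryTheory.Limits.Shapes.Pullback.HasPullback

set_option autoImplicit false
open CategoryTheory CategoryTheory.Limits Opposite
universe u
open ToposFin

namespace Groth.Agent.S6182

/-- Let (C, J) and (D, K) be small sites with fibre products in which every object is quasi-compact, and
G : C -> D a continuous functor whose inverse-image functor on sheaves of sets f^* (the sheaf
pullback along G, from sheaves on C to sheaves on D) preserves finite limits, so that G is a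
morphism of sites and f a morphism of topoi. Then f is coherent: f^* sends quasi-compact objects to
quasi-compact objects and quasi-separated objects to quasi-separated objects. -/
theorem result {C D : Type u} [SmallCategory C] [SmallCategory D]
    [HasPullbacks C] [HasPullbacks D] (J : GrothendieckTopology C) (K : GrothendieckTopology D)
    (hC : ∀ X : C, ToposFin.IsQCSite J X) (hD : ∀ Y : D, ToposFin.IsQCSite K Y)
    (G : C ⥤ D) [Functor.IsContinuous G J K] [PreservesFiniteLimits (G.sheafPullback (Type u) J K)] :
    (∀ X : ToposFin.Sh J, ToposFin.IsQC X → ToposFin.IsQC ((G.sheafPullback (Type u) J K).obj X)) ∧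
      (∀ X : ToposFin.Sh J, ToposFin.IsQS X → ToposFin.IsQS ((G.sheafPullback (Type u) J K).obj X)) := by
  let S : Set (ToposFin.Sh J) := Set.range (fun c => ToposFin.eps J c)
  have hgen : ToposFin.IsGenerating S := fun X =>
    ⟨Σ c, (ToposFin.eps J c ⟶ X), fun p => ToposFin.eps J p.1, fun p => p.2, fun p => ⟨p.1, rfl⟩,
      Groth.Agent.QCTopos.je_of_cov (Groth.Agent.Giraud.cov_free J X)⟩
  have hS : ∀ A ∈ S, ToposFin.IsCoherent ((G.sheafPullback (Type u) J K).obj A) := by
    rintro _ ⟨c, rfl⟩
    obtain ⟨e⟩ := Groth.Agent.QCTopos.nonempty_sheafPullback_free (J := J) K G c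
    exact ⟨Groth.Agent.QCTopos.isQC_of_iso e.symm (Groth.Agent.QCTopos.coherent_free hD (G.obj c)).1,
      Groth.Agent.QCTopos.isQS_of_qsHom (Groth.Agent.QCTopos.qsHom_of_mono e.hom)
        (Groth.Agent.QCTopos.coherent_free hD (G.obj c)).2⟩
  have hqc : ∀ A ∈ S, ToposFin.IsQC A := by
    rintro _ ⟨c, rfl⟩
    exact (Groth.Agent.QCTopos.coherent_free hC c).1
  exact ⟨fun X hX => Groth.Agent.QCTopos.map_qc (G.sheafAdjunctionContinuous (Type u) J K) hgen (fun A hA => (hS A hA).1) hX,
    fun X hX => Groth.Agent.QCTopos.map_qs (G.sheafAdjunctionContinuous (Type u) J K)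
      (Groth.Agent.QCTopos.hasQC_site hD) hqc hgen hS hX⟩

end Groth.Agent.S6182
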