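import Groth.Statements.S6187
import Groth.Agent.DRingTorAmp.Restrict
import Groth.Agent.ReflStalk.Chart

set_option autoImplicit false
universe u
open CategoryTheory CategoryTheory.Limits AlgebraicGeometry
attribute [local instance] HasDerivedCategory.standard
open KSix

namespace Groth.Agent.S6187

/-- Case of schemes: let f : X ⟶ Y and g : Y ⟶ Z be morphisms of schemes with composite h, let n be a
natural number such that g has tor dimension at most n (the structure sheaf of Y has tor amplitude
in [-n, 0] relative to g, stalkwise), and let F be a cochain complex of O_X-modules with tor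
amplitude in [a, b] relative to f (at every point x the complex of stalks F_x, over the local ring
of Y at f(x), is isomorphic in the derived category to a complex of flat modules placed in [a, b]).
Then F has tor amplitude in [a - n, b] relative to h. (The published statement is for a commutative
triangle of ringed topoi in which X has enough points; this row is the case of schemes, with tor
amplitude relative to a morphism in its stalkwise form.) -/
theorem result {X Y Z : Scheme.{u}} (f : X ⟶ Y) (g : Y ⟶ Z) (h : X ⟶ Z)
    (w : f ≫ g = h) (n : ℕ) (hg : DerSch.HasTorDimLE g n) (F : CochainComplex X.Modules ℤ) (a b : ℤ)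
    (hF : DerSch.HasTorAmplitude f a b F) :
    DerSch.HasTorAmplitude h (a - n) b F := by
  subst w
  intro x
  let ψ := (g.stalkMap (f.base x)).hom
  have hS : (letI := ψ.toAlgebra; DRing.HasTorAmplitudeIn (Z.presheaf.stalk (g.base (f.base x))) (-(n : ℤ)) 0
      (Dual.inD (Z.presheaf.stalk (g.base (f.base x))) (Y.presheaf.stalk (f.base x)))) := by
    letI := ψ.toAlgebra
    obtain ⟨C, hC, hCf, ⟨eC⟩⟩ := hg (f.base x)
    let ε : (DerSch.stalkOver g (f.base x)).obj (Coh.structureModule Y) ≅
        ModuleCat.of (Z.presheaf.stalk (g.base (f.base x))) (Y.presheaf.stalk (f.base x)) :=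
      (ModuleCat.restrictScalars ψ).mapIso (Groth.Agent.ReflStalk.eO (X := Y) (f.base x)).symm.toModuleIso ≪≫
        LinearEquiv.toModuleIso
          (({ AddEquiv.refl (Y.presheaf.stalk (f.base x)) with map_smul' := fun r a => rfl }) :
            ((ModuleCat.restrictScalars ψ).obj (ModuleCat.of (Y.presheaf.stalk (f.base x)) (Y.presheaf.stalk (f.base x)))) ≃ₗ[Z.presheaf.stalk (g.base (f.base x))] (Y.presheaf.stalk (f.base x)))
    exact ⟨C, hC, hCf, ⟨eC ≪≫ DerivedCategory.Q.mapIso
      ((HomologicalComplex.singleMapHomologicalComplex (DerSch.stalkOver g (f.base x)) (ComplexShape.up ℤ) 0).app _ ≪≫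
        (HomologicalComplex.single _ (ComplexShape.up ℤ) 0).mapIso ε) ≪≫ (Groth.Agent.DRingTorAmp.inDIso _).symm⟩⟩
  have key := Groth.Agent.DRingTorAmp.torAmp_restrict ψ hS (hF x)
  rw [← sub_eq_add_neg, add_zero] at key
  let e : (DRing.restrictCx ψ).obj ((DerSch.stalkCxOver f x).obj F) ≅ (DerSch.stalkCxOver (f ≫ g) x).obj F :=
    HomologicalComplex.Hom.isoOfComponents (fun i => ((ModuleCat.restrictScalarsComp' ψ (f.stalkMap x).hom
      ((f ≫ g).stalkMap x).hom (by rw [Scheme.Hom.stalkMap_comp]; rfl)).app
        ((DerSch.stalkFunctor X x).obj (F.X i))).symm)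
      (fun i j _ => by ext; rfl)
  obtain ⟨C, hC, hCf, ⟨eC⟩⟩ := key
  exact ⟨C, hC, hCf, ⟨eC ≪≫ Groth.Agent.DRingTorAmp.restrictQIso ψ _ ≪≫ DerivedCategory.Q.mapIso e⟩⟩

end Groth.Agent.S6187
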