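import Groth.Statements.S6191
import Groth.Agent.DRingTorAmp.Restrict
import Groth.Agent.DRingTorAmp.TorDim
import Groth.Agent.DCohBridge.PushStalk

set_option autoImplicit false
universe u
open CategoryTheory CategoryTheory.Limits AlgebraicGeometry
attribute [local instance] HasDerivedCategory.standard
open KSix

namespace Groth.Agent.S6191

/-- Let i : X ⟶ X' be a closed immersion, f' : X' ⟶ Y smooth, f = i ≫ f', and F a cochain complex of
O_X-modules whose termwise direct image i_* F has tor amplitude in [a, b] in the absolute sense on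
X' (it is isomorphic in D(O_X') to a complex of flat O_X'-modules placed in [a, b]). Then F has tor
amplitude in [a, b] relative to f (stalkwise flat models placed in [a, b] over the local rings of
Y). -/
theorem result {X X' Y : Scheme.{u}} (i : X ⟶ X') [IsClosedImmersion i]
    (f' : X' ⟶ Y) [Smooth f'] (F : CochainComplex X.Modules ℤ) (a b : ℤ)
    (hF : DCoh.HasFlatAmplitudeIn a b (DCoh.toD X' (((Scheme.Modules.pushforward i).mapHomologicalComplex (ComplexShape.up ℤ)).obj F))) :
    DerSch.HasTorAmplitude (i ≫ f') a b F := by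
  intro x
  let ψ := (f'.stalkMap (i.base x)).hom
  have hS : (letI := ψ.toAlgebra; DRing.HasTorAmplitudeIn (Y.presheaf.stalk (f'.base (i.base x))) 0 0
      (Dual.inD (Y.presheaf.stalk (f'.base (i.base x))) (X'.presheaf.stalk (i.base x)))) := by
    letI := ψ.toAlgebra
    haveI : Module.Flat (Y.presheaf.stalk (f'.base (i.base x))) (X'.presheaf.stalk (i.base x)) :=
      AlgebraicGeometry.Flat.stalkMap f' (i.base x)
    exact Groth.Agent.DRingTorAmp.torAmp_flat (R := Y.presheaf.stalk (f'.base (i.base x))) (X'.presheaf.stalk (i.base x))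
  obtain ⟨C, hC, hCf, ⟨eC⟩⟩ := hF
  let Fy := DerSch.stalkFunctor X' (i.base x)
  let P := ((Scheme.Modules.pushforward i).mapHomologicalComplex (ComplexShape.up ℤ)).obj F
  have hK : DRing.HasTorAmplitudeIn (X'.presheaf.stalk (i.base x)) a b
      (DRing.toD ((Fy.mapHomologicalComplex (ComplexShape.up ℤ)).obj P)) :=
    ⟨(Fy.mapHomologicalComplex (ComplexShape.up ℤ)).obj C, fun k hk => Fy.map_isZero (hC k hk),
      fun k => hCf k (i.base x),
      ⟨(Fy.mapDerivedCategoryFactors.app C).symm ≪≫ Fy.mapDerivedCategory.mapIso eC ≪≫ Fy.mapDerivedCategoryFactors.app P⟩⟩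
  have key := Groth.Agent.DRingTorAmp.torAmp_restrict ψ hS hK
  rw [add_zero, add_zero] at key
  let p : ∀ k, Fy.obj ((Scheme.Modules.pushforward i).obj (F.X k)) ≅
      (ModuleCat.restrictScalars (i.stalkMap x).hom).obj ((DerSch.stalkFunctor X x).obj (F.X k)) := fun k =>
    (LinearEquiv.ofBijective (Groth.Agent.DCohBridge.pushStalkHom i x (F.X k)).hom
      (Groth.Agent.DCohBridge.bijective_pushStalkHom i x (F.X k))).toModuleIso
  let e : (DRing.restrictCx ψ).obj ((Fy.mapHomologicalComplex (ComplexShape.up ℤ)).obj P) ≅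
      (DerSch.stalkCxOver (i ≫ f') x).obj F :=
    HomologicalComplex.Hom.isoOfComponents
      (fun k => (ModuleCat.restrictScalars ψ).mapIso (p k) ≪≫ ((ModuleCat.restrictScalarsComp' ψ (i.stalkMap x).hom
        ((i ≫ f').stalkMap x).hom (by rw [Scheme.Hom.stalkMap_comp]; rfl)).app
          ((DerSch.stalkFunctor X x).obj (F.X k))).symm)
      (fun k l _ => by
        ext z
        exact (ConcreteCategory.congr_hom (Groth.Agent.DCohBridge.pushStalkHom_natural i x (F.d k l)) z).symm)
  obtain ⟨D, hD, hDf, ⟨eD⟩⟩ := key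
  exact ⟨D, hD, hDf, ⟨eD ≪≫ Groth.Agent.DRingTorAmp.restrictQIso ψ _ ≪≫ DerivedCategory.Q.mapIso e⟩⟩

end Groth.Agent.S6191
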