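import Groth.Statements.S6199
import Groth.Agent.DCohBridge.Betti

set_option autoImplicit false
universe u
open CategoryTheory CategoryTheory.Limits AlgebraicGeometry
attribute [local instance] HasDerivedCategory.standard
open KSix

namespace Groth.Agent.S6199

/-- Let X be a scheme, p an integer and E ∈ D⁻(O_X) a (p-1)-pseudo-coherent object. Then, the derived
pullbacks to the points Spec κ(x) ⟶ X being assumed to exist, the function x ↦ dim_{κ(x)} H^p(E ⊗^L
κ(x)) is upper semicontinuous: for every n the set where it is < n is open. (The published statement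
also asserts that this function is constructible; that clause is not stated here.) -/
theorem result (X : Scheme.{u})
    [∀ x : X, DCoh.HasLpull (X.fromSpecResidueField x)] (E : DCoh.D X) (d : ℤ) [E.IsLE d] (p : ℤ)
    (hE : DCoh.IsPseudoCoherentD (p - 1) E) (n : ℕ) :
    IsOpen {x : X | PerfD.betti E x p < n} := by
  rw [isOpen_iff_forall_mem_open]
  intro x hx
  obtain ⟨U, hxU, g⟩ := ((Groth.Agent.DCohBridge.isPseudoCoherentD_iff (p - 1) E).1 hE x).exists_le
  obtain ⟨E₀, f, hE₀, -, hf⟩ := g U le_rfl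
  obtain ⟨R, j, _, p₀, M, a, b, rfl, hM, -, hb⟩ := Groth.Agent.DCohBridge.exists_chart U hxU hE₀ f
  replace hb := hb (p - 1) hf
  obtain ⟨U₁, hU₁, hp₁, h₁⟩ := Groth.Agent.DCohBridge.exists_nhds_coker_le M (fun i => (hM i).2) p₀ p
  obtain ⟨U₂, hU₂, hp₂, h₂⟩ := Groth.Agent.DCohBridge.exists_nhds_coker_le M (fun i => (hM i).2) p₀ (p + 1)
  refine ⟨j.base '' (U₁ ∩ U₂), ?_, j.isOpenEmbedding.isOpenMap _ (hU₁.inter hU₂), ⟨p₀, ⟨hp₁, hp₂⟩, rfl⟩⟩
  rintro _ ⟨q, ⟨q₁, q₂⟩, rfl⟩
  have e := hb q p (by lia)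
  have e₀ := hb p₀ p (by lia)
  have := h₁ q q₁
  have := h₂ q q₂
  simp only [Set.mem_setOf_eq] at hx ⊢
  omega

end Groth.Agent.S6199
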