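import Groth.Statements.S6200
import Groth.Agent.DCohBridge.TorAmp2
import Groth.Agent.DCohBridge.StalkKFlat
import Groth.Agent.DRingTorAmp.Criterion
import Groth.Agent.DRingKFlat.Api

set_option autoImplicit false
set_option backward.isDefEq.respectTransparency false
universe u
open CategoryTheory CategoryTheory.Limits AlgebraicGeometry
attribute [local instance] HasDerivedCategory.standard
open KSix

namespace Groth.Agent.S6200

/-- For the identity morphism of a scheme: let X be a scheme and E ∈ D⁻(O_X) be given by a cochain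
complex F. Then E has tor amplitude in [a, b] in the absolute sense (it is isomorphic in D(O_X) to a
complex of flat O_X-modules placed in [a, b]) if and only if at every point x the complex of stalks
F_x has tor amplitude in [a, b] over the local ring of X at x (tor amplitude relative to the
identity of X, stalkwise form). (The published statement is for a morphism of ringed topoi with
enough points and tor amplitude over the inverse image of the structure sheaf of the base; this row
is the case of the identity of a scheme.) -/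
theorem result {X : Scheme.{u}} (F : CochainComplex X.Modules ℤ) (d : ℤ)
    [(DCoh.toD X F).IsLE d] (a b : ℤ) :
    DCoh.HasFlatAmplitudeIn a b (DCoh.toD X F) ↔ DerSch.HasTorAmplitude (𝟙 X) a b F := by
  have hid : ∀ (G : CochainComplex X.Modules ℤ) (x : X), Nonempty ((DerSch.stalkCxOver (𝟙 X) x).obj G ≅
      (Groth.Agent.DCohBridge.stCx x).obj G) := fun G x =>
    ⟨HomologicalComplex.Hom.isoOfComponents
      (fun k => (ModuleCat.restrictScalarsId' ((Scheme.Hom.stalkMap (𝟙 X) x).hom) (by
        rw [Scheme.Hom.stalkMap_id]; rfl)).app ((DerSch.stalkFunctor X x).obj (G.X k)))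
      (fun k l _ => by ext; rfl)⟩
  constructor
  · rintro ⟨E, hv, hfl, ⟨e⟩⟩ x
    let S := DerSch.stalkFunctor X x
    obtain ⟨eE⟩ := hid E x
    obtain ⟨eF⟩ := hid F x
    exact ⟨(Groth.Agent.DCohBridge.stCx x).obj E, fun k hk => S.map_isZero (hv k hk), fun k => hfl k x,
      ⟨(S.mapDerivedCategoryFactors.app E).symm ≪≫ S.mapDerivedCategory.mapIso e ≪≫
        S.mapDerivedCategoryFactors.app F ≪≫ DerivedCategory.Q.mapIso eF.symm⟩⟩
  intro hF
  obtain ⟨N, q, hN, -, hq, -⟩ := SiteBase.KFlat.exists_resolution (O := X.sheaf) F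
  let eN : DCoh.toD X N ≅ DCoh.toD X F := @asIso _ _ _ _ (DerivedCategory.Q.map q) inferInstance
  have hst : ∀ (x : X) (M : ModuleCat.{u} (X.presheaf.stalk x)) (i : ℤ), i < a ∨ b < i →
      (DRing.tensorCx ((Groth.Agent.DCohBridge.stCx x).obj N) M).ExactAt i := fun x M i hi => by
    obtain ⟨eF⟩ := hid F x
    let S := DerSch.stalkFunctor X x
    exact Groth.Agent.DRingTorAmp.exactAt_of_hasTorAmplitudeIn (hF x)
      ((Groth.Agent.DRingKFlat.isKFl_iff _).2 (Groth.Agent.DCohBridge.isKFlat_stalk x hN))
      ((S.mapDerivedCategoryFactors.app N).symm ≪≫ S.mapDerivedCategory.mapIso eN ≪≫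
        S.mapDerivedCategoryFactors.app F ≪≫ DerivedCategory.Q.mapIso eF.symm) M i hi
  by_cases hab : a ≤ b
  · refine Groth.Agent.DCohBridge.hasFlatAmplitudeIn_of_tor hab fun G _ i hi => ?_
    let T := (Groth.Agent.DCohBridge.tensModCx G).obj N
    suffices hT : T.ExactAt i from ((Groth.Agent.DCohBridge.isZero_HD_iff T i).2 hT).of_iso
      (Groth.Agent.DCohBridge.HDTensorIso G hN eN i)
    rw [HomologicalComplex.exactAt_iff_isZero_homology]
    refine Groth.Agent.DCohBridge.isZero_of_stalk fun x => ?_
    let S := DerSch.stalkFunctor X x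
    let eT : (Groth.Agent.DCohBridge.stCx x).obj T ≅
        DRing.tensorCx ((Groth.Agent.DCohBridge.stCx x).obj N) (S.obj G) :=
      HomologicalComplex.Hom.isoOfComponents (fun k => Groth.Agent.DCohBridge.stalkTensorIso x (N.X k) G)
        (fun k l _ => by
          have h := Groth.Agent.DCohBridge.theta_natural x (N.d k l) (𝟙 G)
          rw [CategoryTheory.Functor.map_id, Category.comp_id, CategoryTheory.Functor.map_id,
            MonoidalCategory.tensorHom_id] at h
          exact h.symm)
    exact (((hst x (S.obj G) i hi).of_iso eT.symm).isZero_homology).of_iso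
      ((T.sc i).mapHomologyIso S).symm
  · obtain ⟨Z, hZ⟩ := HasZeroObject.zero (C := CochainComplex X.Modules ℤ)
    have hex : ∀ i, N.ExactAt i := fun i => by
      rw [HomologicalComplex.exactAt_iff_isZero_homology]
      refine Groth.Agent.DCohBridge.isZero_of_stalk fun x => ?_
      let S := DerSch.stalkFunctor X x
      have h0 : ((Groth.Agent.DCohBridge.stCx x).obj N).ExactAt i :=
        (Groth.Agent.DRingTorAmp.exactAt_tensor_unit_iff _ i).1 (hst x _ i (by omega))
      let N' : CochainComplex X.Modules ℤ := N
      exact h0.isZero_homology.of_iso ((N'.sc i).mapHomologyIso S).symm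
    have hexZ : ∀ i, Z.ExactAt i := fun i =>
      ShortComplex.exact_of_isZero_X₂ _ ((HomologicalComplex.eval _ _ i).map_isZero hZ)
    haveI : QuasiIso (0 : Z ⟶ N) := ⟨fun i => (quasiIsoAt_iff_exactAt (0 : Z ⟶ N) i (hexZ i)).2 (hex i)⟩
    haveI : IsIso (DerivedCategory.Q.map (0 : Z ⟶ N)) := inferInstance
    exact ⟨Z, fun i _ => (HomologicalComplex.eval _ _ i).map_isZero hZ,
      fun i => Groth.Agent.DCohBridge.isFlat_of_isZero ((HomologicalComplex.eval _ _ i).map_isZero hZ),
      ⟨asIso (DerivedCategory.Q.map (0 : Z ⟶ N)) ≪≫ eN⟩⟩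

end Groth.Agent.S6200
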