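import Groth.Statements.S6235
import Groth.Agent.DCohBridge.PushProjCx
import Groth.Agent.DCohBridge.PerfectQCoh
import Groth.Agent.QCohPull.Affine
import Groth.Agent.TensorMod.Invertible

set_option autoImplicit false
universe u
open CategoryTheory CategoryTheory.Limits AlgebraicGeometry
attribute [local instance] HasDerivedCategory.standard
open KSix

namespace Groth.Agent.S6235

/-- Let f : X ⟶ Y be a morphism of schemes and E an object of D(O_X) which is pseudo-coherent relative
to f (chart form, every degree; in particular f is locally of finite type). Then the cohomology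
sheaves of E are quasi-coherent. -/
theorem result {X Y : Scheme.{u}} (f : X ⟶ Y) (E : DCoh.D X)
    (hE : DerSch.IsPseudoCoherentRelAll f E) : DCoh.IsQCohD E := by
  intro j
  refine Groth.Agent.DCohBridge.isQCoh_of_local fun x => ?_
  obtain ⟨-, 𝒱, hcov, hV⟩ := hE (j - 1)
  have hx : f x ∈ (⨆ V ∈ 𝒱, (V : Y.Opens)) := by rw [hcov]; trivial
  simp only [TopologicalSpace.Opens.mem_iSup] at hx
  obtain ⟨V, hVm, hfx⟩ := hx
  obtain ⟨𝒰, h𝒰, hU⟩ := hV V hVm
  have hxU : x ∈ (⨆ U ∈ 𝒰, (U : X.Opens)) := by rw [h𝒰]; exact hfx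
  simp only [TopologicalSpace.Opens.mem_iSup] at hxU
  obtain ⟨U, hUm, hxU⟩ := hxU
  have hle : (U : X.Opens) ≤ f ⁻¹ᵁ (V : Y.Opens) := h𝒰 ▸ le_biSup (fun U : X.affineOpens => (U : X.Opens)) hUm
  obtain ⟨n, φ, hchart, hPC⟩ := hU U hUm hle
  haveI : IsAffine ((U : X.Opens) : Scheme.{u}) := U.2
  let i := DerSch.chartImm (U : X.Opens) φ
  haveI : IsClosedImmersion i := by
    haveI : IsClosedImmersion (Spec.map (CommRingCat.ofHom φ)) := IsClosedImmersion.spec_of_surjective _ hchart.1
    haveI : IsIso (U : X.Opens).toSpecΓ := by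
      rw [← U.2.isoSpec_hom]; infer_instance
    show IsClosedImmersion ((U : X.Opens).toSpecΓ ≫ _)
    infer_instance
  refine ⟨_, (U : X.Opens).ι, inferInstance, ⟨x, hxU⟩, rfl, ?_⟩
  let G := DerivedCategory.Q.objPreimage E
  let eG : DCoh.toD X G ≅ E := DerivedCategory.Q.objObjPreimageIso E
  let H := (DCoh.restrictCx (U : X.Opens)).obj G
  have hq : Coh.IsQCoh (DCoh.HD (DCoh.toD _ ((DerSch.pushCx i).obj H)) j) :=
    Groth.Agent.DCohBridge.isQCoh_HD_of_pc (hPC G ⟨eG⟩) (by omega)
  haveI := Groth.Agent.DCohBridge.preservesFiniteColimits_push i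
  haveI : PreservesFiniteLimits (Scheme.Modules.pushforward i) := inferInstance
  haveI : (Scheme.Modules.pushforward i).PreservesHomology := inferInstance
  haveI : (Scheme.Modules.restrictFunctor (U : X.Opens).ι).PreservesHomology := inferInstance
  let e₁ := (DerivedCategory.homologyFunctorFactors _ j).app ((DerSch.pushCx i).obj H) ≪≫
    ((H.sc j).mapHomologyIso (Scheme.Modules.pushforward i))
  let e₂ : (Scheme.Modules.restrictFunctor (U : X.Opens).ι).obj (DCoh.HD E j) ≅ H.homology j :=
    (Scheme.Modules.restrictFunctor (U : X.Opens).ι).mapIso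
      ((DerivedCategory.homologyFunctor _ j).mapIso eG.symm ≪≫ (DerivedCategory.homologyFunctorFactors _ j).app G) ≪≫
      ((G.sc j).mapHomologyIso (Scheme.Modules.restrictFunctor (U : X.Opens).ι)).symm
  have hq' : ((Scheme.Modules.pushforward i).obj (H.homology j)).IsQuasicoherent :=
    Groth.Agent.TensorMod.isQCoh_of_iso e₁ hq
  have h3 := @Groth.Agent.QCohPull.isQuasicoherent_pullback _ _ i _ hq'
  haveI := Groth.Agent.DCohBridge.isIso_counit_closed i (H.homology j)
  exact Groth.Agent.TensorMod.isQCoh_of_iso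
    (asIso ((Scheme.Modules.pullbackPushforwardAdjunction i).counit.app (H.homology j)) ≪≫ e₂.symm) h3

end Groth.Agent.S6235
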