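import Groth.Statements.S6236
import Groth.Agent.DCohBridge.PushProjCx
import Groth.Agent.DCohBridge.PerfectQCoh
import Groth.Agent.DCohBridge.StalkExact

set_option autoImplicit false
universe u
open CategoryTheory CategoryTheory.Limits AlgebraicGeometry
attribute [local instance] HasDerivedCategory.standard
open KSix

namespace Groth.Agent.S6236

/-- Let f : X ⟶ Y be a morphism of schemes with X quasi-compact, n an integer, and E an object of D(O_X)
which is n-pseudo-coherent relative to f (chart form; in particular f is locally of finite type).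
Then the cohomology of E is bounded above. (Without quasi-compactness of X the cohomology is only
locally bounded above.) -/
theorem result {X Y : Scheme.{u}} [CompactSpace X] (f : X ⟶ Y) (n : ℤ)
    (E : DCoh.D X) (hE : DerSch.IsPseudoCoherentRel f n E) : ∃ b : ℤ, E.IsLE b := by
  have hzero : ∀ {Z : Scheme.{u}} {M : Z.Modules}, IsZero M → ∀ W : Z.Opens, Subsingleton Γ(M, W) := fun {Z M} hM W => by
    refine ⟨fun s t => ?_⟩
    have h := congrArg (fun φ : M ⟶ M => φ.app W) ((IsZero.iff_id_eq_zero _).1 hM)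
    simp only [Scheme.Modules.Hom.id_app, Scheme.Modules.Hom.zero_app] at h
    exact (ConcreteCategory.congr_hom h s).trans (ConcreteCategory.congr_hom h t).symm
  suffices key : ∀ x : X, ∃ (W : X.Opens) (b : ℤ), x ∈ W ∧ ∀ i, b < i → ∀ x' : X, x' ∈ W →
      IsZero ((DerSch.stalkFunctor X x').obj (DCoh.HD E i)) by
    choose W b hxW hz using key
    obtain ⟨t, ht⟩ := isCompact_univ.elim_finite_subcover (fun x => (W x : Set X)) (fun x => (W x).isOpen)
      (fun y _ => Set.mem_iUnion.2 ⟨y, hxW y⟩)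
    obtain ⟨B, hB⟩ := (t.image b).bddAbove
    refine ⟨B, ?_⟩
    rw [DerivedCategory.isLE_iff]
    intro i hi
    refine Groth.Agent.DCohBridge.isZero_of_stalk fun y => ?_
    obtain ⟨x, hxt, hy⟩ := Set.mem_iUnion₂.1 (ht (Set.mem_univ y))
    exact hz x i (lt_of_le_of_lt (hB (Finset.mem_image_of_mem b hxt)) hi) y hy
  intro x
  obtain ⟨-, 𝒱, hcov, hV⟩ := hE
  have hx : f x ∈ (⨆ V ∈ 𝒱, (V : Y.Opens)) := by rw [hcov]; trivial
  simp only [TopologicalSpace.Opens.mem_iSup] at hx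
  obtain ⟨V, hVm, hfx⟩ := hx
  obtain ⟨𝒰, h𝒰, hU⟩ := hV V hVm
  have hxU : x ∈ (⨆ U ∈ 𝒰, (U : X.Opens)) := by rw [h𝒰]; exact hfx
  simp only [TopologicalSpace.Opens.mem_iSup] at hxU
  obtain ⟨U, hUm, hxU⟩ := hxU
  have hle : (U : X.Opens) ≤ f ⁻¹ᵁ (V : Y.Opens) := h𝒰 ▸ le_biSup (fun U : X.affineOpens => (U : X.Opens)) hUm
  obtain ⟨d, φ, hchart, hPC⟩ := hU U hUm hle
  haveI : IsAffine ((U : X.Opens) : Scheme.{u}) := U.2
  let c := DerSch.chartImm (U : X.Opens) φ
  haveI : IsClosedImmersion c := by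
    haveI : IsClosedImmersion (Spec.map (CommRingCat.ofHom φ)) := IsClosedImmersion.spec_of_surjective _ hchart.1
    haveI : IsIso (U : X.Opens).toSpecΓ := by
      rw [← U.2.isoSpec_hom]; infer_instance
    show IsClosedImmersion ((U : X.Opens).toSpecΓ ≫ _)
    infer_instance
  let G := DerivedCategory.Q.objPreimage E
  let eG : DCoh.toD X G ≅ E := DerivedCategory.Q.objObjPreimageIso E
  let H := (DCoh.restrictCx (U : X.Opens)).obj G
  obtain ⟨P, j, hj, v, S, α, hv, hS, hα⟩ := (Groth.Agent.DCohBridge.isPseudoCoherentD_iff n _).1 (hPC G ⟨eG⟩) (c.base ⟨x, hxU⟩)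
  obtain ⟨⟨a₀, b₀, hvan⟩, -⟩ := hS
  refine ⟨(U : X.Opens).ι ''ᵁ (c ⁻¹ᵁ j.opensRange), max n b₀, ⟨⟨x, hxU⟩, ⟨v, hv⟩, rfl⟩, fun i hi x' hx' => ?_⟩
  have hSz : IsZero (DCoh.HD (DCoh.toD P S) i) :=
    IsZero.of_iso (show S.ExactAt i from ShortComplex.exact_of_isZero_X₂ _ (hvan i (Or.inr ((le_max_right n b₀).trans_lt hi)))).isZero_homology
      ((DerivedCategory.homologyFunctorFactors _ i).app S)
  haveI := hα.1 i ((le_max_left n b₀).trans_lt hi)
  haveI := Groth.Agent.DCohBridge.preservesFiniteColimits_push c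
  haveI : PreservesFiniteLimits (Scheme.Modules.pushforward c) := inferInstance
  haveI : (Scheme.Modules.pushforward c).PreservesHomology := inferInstance
  haveI : (Scheme.Modules.restrictFunctor (U : X.Opens).ι).PreservesHomology := inferInstance
  let e₁ := (DerivedCategory.homologyFunctorFactors _ i).app ((DerSch.pushCx c).obj H) ≪≫
    ((H.sc i).mapHomologyIso (Scheme.Modules.pushforward c))
  let e₂ : (Scheme.Modules.restrictFunctor (U : X.Opens).ι).obj (DCoh.HD E i) ≅ H.homology i :=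
    (Scheme.Modules.restrictFunctor (U : X.Opens).ι).mapIso
      ((DerivedCategory.homologyFunctor _ i).mapIso eG.symm ≪≫ (DerivedCategory.homologyFunctorFactors _ i).app G) ≪≫
      ((G.sc i).mapHomologyIso (Scheme.Modules.restrictFunctor (U : X.Opens).ι)).symm
  have hres : IsZero ((Scheme.Modules.restrictFunctor j).obj ((Scheme.Modules.pushforward c).obj
      ((Scheme.Modules.restrictFunctor (U : X.Opens).ι).obj (DCoh.HD E i)))) :=
    (hSz.of_iso ((asIso ((DerivedCategory.homologyFunctor _ i).map α) ≪≫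
      (Groth.Agent.DCohBridge.nonempty_HD_restrictD j _ i).some).symm)).of_iso
      ((Scheme.Modules.restrictFunctor j).mapIso ((Scheme.Modules.pushforward c).mapIso e₂ ≪≫ e₁.symm))
  obtain ⟨y, hy, rfl⟩ := hx'
  suffices hs : Subsingleton ((DerSch.stalkFunctor X ((U : X.Opens).ι.base y)).obj (DCoh.HD E i)) from
    @ModuleCat.isZero_of_subsingleton _ _ _ hs
  refine subsingleton_of_forall_eq 0 fun m => ?_
  obtain ⟨O, hyO, s, rfl⟩ := TopCat.Presheaf.exists_germ_eq (C := AddCommGrpCat.{u}) (DCoh.HD E i).presheaf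
    (x := (U : X.Opens).ι.base y) m
  let O' := ((U : X.Opens).ι ⁻¹ᵁ O) ⊓ c ⁻¹ᵁ j.opensRange
  obtain ⟨T, hT, hTe⟩ := (c.isClosedEmbedding.isInducing).isOpen_iff.1 O'.isOpen
  let T' : (Spec (CommRingCat.of (MvPolynomial (Fin d) Γ(Y, (V : Y.Opens))))).Opens := ⟨T, hT⟩ ⊓ j.opensRange
  have hT' : j ''ᵁ (j ⁻¹ᵁ T') = T' := by
    rw [Scheme.Hom.image_preimage_eq_opensRange_inf]
    exact inf_eq_right.2 inf_le_right
  haveI h1 : Subsingleton Γ(DCoh.HD E i, (U : X.Opens).ι ''ᵁ (c ⁻¹ᵁ (j ''ᵁ (j ⁻¹ᵁ T')))) :=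
    hzero hres (j ⁻¹ᵁ T')
  have hle' : (U : X.Opens).ι ''ᵁ (c ⁻¹ᵁ (j ''ᵁ (j ⁻¹ᵁ T'))) ≤ O := by
    rw [hT']
    rintro _ ⟨z, hz, rfl⟩
    have hz' : z ∈ (O' : Set _) := by rw [← hTe]; exact hz.1
    exact hz'.1
  have hmem : (U : X.Opens).ι.base y ∈ (U : X.Opens).ι ''ᵁ (c ⁻¹ᵁ (j ''ᵁ (j ⁻¹ᵁ T'))) := by
    rw [hT']
    refine ⟨y, ⟨?_, hy⟩, rfl⟩
    show y ∈ c.base ⁻¹' T
    rw [hTe]
    exact ⟨hyO, hy⟩
  rw [← TopCat.Presheaf.germ_res_apply (C := AddCommGrpCat.{u}) (DCoh.HD E i).presheaf (homOfLE hle') _ hmem s,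
    Subsingleton.elim ((DCoh.HD E i).presheaf.map (homOfLE hle').op s) 0]
  exact map_zero _

end Groth.Agent.S6236
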