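import Groth.Statements.S6267
import Groth.Agent.CAlgML.UnivInj

set_option autoImplicit false
universe u
open CAlg

namespace Groth.Agent.S6267

/-- Let R be a ring and f : M → M' a map of R-modules with M' flat. Then f is universally injective
exactly when, for each finitely generated ideal I of R, the induced map M ⊗ R/I → M' ⊗ R/I (that is,
M/IM → M'/IM') is injective. -/
theorem result {R : Type u} [CommRing R] {M M' : Type u} [AddCommGroup M] [Module R M] [AddCommGroup M'] [Module R M'] [Module.Flat R M'] (f : M →ₗ[R] M') : CAlgX.UniversallyInjective R f ↔ ∀ I : Ideal R, I.FG → Function.Injective (f.rTensor (R ⧸ I)) := by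
  refine ⟨fun h I _ => h _, fun H => ?_⟩
  have hf : Function.Injective f := by
    have h0 := H ⊥ Submodule.fg_bot
    refine (injective_iff_map_eq_zero _).2 fun x hx => ?_
    let q := Submodule.quotEquivOfEqBot (⊥ : Ideal R) rfl
    let u : R ⧸ (⊥ : Ideal R) := q.symm 1
    have h1 : x ⊗ₜ[R] u = 0 := h0 (by simp [hx])
    have := congrArg (fun t => TensorProduct.rid R M (q.toLinearMap.lTensor M t)) h1
    simpa [u] using this
  haveI := CAlgML.flat_coker_of_injective_quotient f (LinearMap.range f).mkQ
    (LinearMap.exact_map_mkQ_range f) (Submodule.mkQ_surjective _) H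
  exact CAlgML.universallyInjective_of_flat_coker f (LinearMap.range f).mkQ hf
    (LinearMap.exact_map_mkQ_range f) (Submodule.mkQ_surjective _)

end Groth.Agent.S6267
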