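import Groth.Statements.S6268
import Groth.Agent.CAlgML.UnivInj

set_option autoImplicit false
universe u
open CAlg

namespace Groth.Agent.S6268

/-- Suppose the structure map R → S of an R-algebra S is universally injective as an R-linear map. Then
tensoring with S detects injectivity and surjectivity of R-linear maps (and hence reflects
isomorphisms): for an R-linear g : M → N, if S ⊗ g is injective then so is g, and if S ⊗ g is
surjective then so is g. -/
theorem result {R S : Type u} [CommRing R] [CommRing S] [Algebra R S] (hS : CAlgX.UniversallyInjective R (Algebra.linearMap R S)) {M N : Type u} [AddCommGroup M] [Module R M] [AddCommGroup N] [Module R N] (g : M →ₗ[R] N) : (Function.Injective (g.lTensor S) → Function.Injective g) ∧ (Function.Surjective (g.lTensor S) → Function.Surjective g) := by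
  refine ⟨fun h => (injective_iff_map_eq_zero _).2 fun m hm => ?_, fun h => ?_⟩
  · have h1 : (1 : S) ⊗ₜ[R] m = 0 := h (by simp [hm])
    have h2 : (1 : R) ⊗ₜ[R] m = 0 := hS M (by simpa using h1)
    simpa using congrArg (TensorProduct.lid R M) h2
  · intro n
    let q := (LinearMap.range g).mkQ
    refine (Submodule.Quotient.mk_eq_zero (LinearMap.range g)).1 ?_
    obtain ⟨t, ht⟩ := h ((1 : S) ⊗ₜ[R] n)
    have h1 : (1 : S) ⊗ₜ[R] q n = 0 := by
      rw [show (1 : S) ⊗ₜ[R] q n = q.lTensor S ((1 : S) ⊗ₜ[R] n) from rfl, ← ht,
        ← LinearMap.lTensor_comp_apply, (LinearMap.exact_map_mkQ_range g).linearMap_comp_eq_zero,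
        LinearMap.lTensor_zero, LinearMap.zero_apply]
    have h2 : (1 : R) ⊗ₜ[R] q n = 0 := hS _ (by simpa using h1)
    simpa [q] using congrArg (TensorProduct.lid R _) h2

end Groth.Agent.S6268
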