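import Groth.Statements.S6275
import Mathlib

set_option autoImplicit false
universe u
open CAlg

namespace Groth.Agent.S6275
open TensorProduct

/-- Let R be a Noetherian ring and p ⊆ R a prime. Then there is f ∈ R, f ∉ p, such that R_f → R_p is
injective; equivalently every x ∈ R mapping to zero in R_p maps to zero in R_f. (The cases of a
domain and of a reduced ring with finitely many minimal primes are not included here.) -/
theorem result {R : Type u} [CommRing R] [IsNoetherianRing R] (p : Ideal R) [p.IsPrime] : ∃ f : R, f ∉ p ∧ ∀ x : R, algebraMap R (Localization.AtPrime p) x = 0 → algebraMap R (Localization.Away f) x = 0 := by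
  classical
  obtain ⟨s, hs⟩ := Ideal.fg_of_isNoetherianRing (RingHom.ker (algebraMap R (Localization.AtPrime p)))
  have h : ∀ y : s, ∃ c : p.primeCompl, (c : R) * y.1 = 0 := fun y => by
    have : y.1 ∈ RingHom.ker (algebraMap R (Localization.AtPrime p)) := hs ▸ Ideal.subset_span y.2
    exact (IsLocalization.map_eq_zero_iff p.primeCompl _ _).1 this
  choose c hc using h
  refine ⟨∏ y, (c y : R), fun hf => ?_, fun x hx => ?_⟩
  · obtain ⟨y, -, hy⟩ := (Ideal.IsPrime.prod_mem_iff (hp := ‹p.IsPrime›)).1 hf
    exact (c y).2 hy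
  · have : RingHom.ker (algebraMap R (Localization.AtPrime p)) ≤ LinearMap.ker (LinearMap.mulLeft R (∏ y, (c y : R))) := by
      rw [← hs, Ideal.span_le]
      intro y hy
      obtain ⟨d, hd⟩ := Finset.dvd_prod_of_mem (fun y => (c y : R)) (Finset.mem_univ (⟨y, hy⟩ : s))
      simp only [SetLike.mem_coe, LinearMap.mem_ker, LinearMap.mulLeft_apply, hd]
      rw [mul_right_comm, hc ⟨y, hy⟩, zero_mul]
    exact (IsLocalization.map_eq_zero_iff (Submonoid.powers (∏ y, (c y : R))) (Localization.Away (∏ y, (c y : R))) x).2 ⟨⟨_, Submonoid.mem_powers _⟩, this hx⟩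

end Groth.Agent.S6275
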