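import Groth.Statements.S6277
import Mathlib

set_option autoImplicit false
universe u
open CAlg

namespace Groth.Agent.S6277
open TensorProduct

/-- Any surjective ring endomorphism of a Noetherian ring is an isomorphism (bijective). -/
theorem result {R : Type u} [CommRing R] [IsNoetherianRing R] (f : R →+* R) (hf : Function.Surjective f) : Function.Bijective f := by
  refine ⟨?_, hf⟩
  rw [RingHom.injective_iff_ker_eq_bot, eq_bot_iff]
  intro x hx
  have hmono : Monotone fun n : ℕ => RingHom.ker (f ^ n) := by
    refine monotone_nat_of_le_succ fun n y hy => ?_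
    rw [RingHom.mem_ker] at hy ⊢
    rw [pow_succ', RingHom.mul_def, RingHom.comp_apply, hy, map_zero]
  obtain ⟨N, hN⟩ := monotone_stabilizes_iff_noetherian.mpr (inferInstance : IsNoetherian R R)
    ⟨_, hmono⟩
  have hsurj : Function.Surjective (f ^ N : R →+* R) := by
    rw [RingHom.coe_pow]; exact hf.iterate N
  obtain ⟨y, rfl⟩ := hsurj x
  rw [RingHom.mem_ker] at hx
  have : y ∈ RingHom.ker (f ^ (N + 1)) := by
    rw [RingHom.mem_ker, pow_succ', RingHom.mul_def, RingHom.comp_apply, hx]
  have h := hN (N+1) (Nat.le_succ N)
  simp only [OrderHom.coe_mk] at h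
  rw [← h, RingHom.mem_ker] at this
  rw [Submodule.mem_bot, this]

end Groth.Agent.S6277
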