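import Groth.Statements.S6284
import Mathlib

set_option autoImplicit false
universe u
open scoped TensorProduct
open CAlg

namespace Groth.Agent.S6284
open TensorProduct

/-- Let R → R' be a ring map and M a finite R-module. Then the support of R' ⊗_R M is the inverse image
of the support of M under Spec(R') → Spec(R). -/
theorem result {R R' : Type u} [CommRing R] [CommRing R'] [Algebra R R'] (M : Type u) [AddCommGroup M] [Module R M] [Module.Finite R M] : Module.support R' (R' ⊗[R] M) = PrimeSpectrum.comap (algebraMap R R') ⁻¹' Module.support R M := by
  ext q
  have : q.asIdeal.LiesOver (PrimeSpectrum.comap (algebraMap R R') q).asIdeal := ⟨rfl⟩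
  rw [Set.mem_preimage, Module.mem_support_iff_nontrivial_residueField_tensorProduct,
    Module.mem_support_iff_nontrivial_residueField_tensorProduct]
  set p := (PrimeSpectrum.comap (algebraMap R R') q).asIdeal
  letI := (Ideal.ResidueField.mapₐ p q.asIdeal (Algebra.ofId R R') (q.asIdeal.over_def p)).toRingHom.toAlgebra
  haveI : IsScalarTower R p.ResidueField q.asIdeal.ResidueField :=
    IsScalarTower.of_algHom _
  rw [(AlgebraTensorModule.cancelBaseChange R R' q.asIdeal.ResidueField q.asIdeal.ResidueField M).nontrivial_congr,
    ← (AlgebraTensorModule.cancelBaseChange R p.ResidueField q.asIdeal.ResidueField q.asIdeal.ResidueField M).nontrivial_congr]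
  exact Module.FaithfullyFlat.nontrivial_tensorProduct_iff_right (p.ResidueField) (q.asIdeal.ResidueField)

end Groth.Agent.S6284
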