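import Groth.Statements.S6287
import Mathlib

set_option autoImplicit false
universe u
open CAlg

namespace Groth.Agent.S6287
open TensorProduct

/-- Let (A_i) be a directed system of valuation rings. Then the colimit A = colim A_i is a valuation
ring (in particular a domain). -/
theorem result {ι : Type u} [Preorder ι] [Nonempty ι] [IsDirected ι (· ≤ ·)] (G : ι → Type u) [∀ i, CommRing (G i)] [∀ i, IsDomain (G i)] [∀ i, ValuationRing (G i)] (f : ∀ i j, i ≤ j → G i →+* G j) [DirectedSystem G fun i j h => f i j h] : ∃ _ : IsDomain (Ring.DirectLimit G fun i j h => f i j h), ValuationRing (Ring.DirectLimit G fun i j h => f i j h) := by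
  set O := fun i => Ring.DirectLimit.of G (fun i j h => f i j h) i
  have hpair : ∀ a b : Ring.DirectLimit G fun i j h => f i j h, ∃ k x y, O k x = a ∧ O k y = b := by
    intro a b
    obtain ⟨i, x, rfl⟩ := Ring.DirectLimit.exists_of a
    obtain ⟨j, y, rfl⟩ := Ring.DirectLimit.exists_of b
    obtain ⟨k, hik, hjk⟩ := exists_ge_ge i j
    exact ⟨k, f i k hik x, f j k hjk y, Ring.DirectLimit.of_f hik x, Ring.DirectLimit.of_f hjk y⟩
  have : Nontrivial (Ring.DirectLimit G fun i j h => f i j h) := by
    obtain ⟨i⟩ := ‹Nonempty ι›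
    refine nontrivial_of_ne 0 1 fun h01 => ?_
    have h1 : O i 1 = 0 := by rw [map_one, h01]
    obtain ⟨l, hil, hl⟩ := Ring.DirectLimit.of.zero_exact (f' := f) h1
    rw [map_one] at hl
    exact one_ne_zero hl
  have : NoZeroDivisors (Ring.DirectLimit G fun i j h => f i j h) := by
    refine ⟨fun {a b} hab => ?_⟩
    obtain ⟨k, x, y, rfl, rfl⟩ := hpair a b
    rw [← map_mul] at hab
    obtain ⟨l, hkl, hl⟩ := Ring.DirectLimit.of.zero_exact (f' := f) hab
    rw [map_mul, mul_eq_zero] at hl
    rcases hl with h | h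
    · left; simp only [O]; rw [← Ring.DirectLimit.of_f (G := G) (f := fun i j h => f i j h) hkl x, h, map_zero]
    · right; simp only [O]; rw [← Ring.DirectLimit.of_f (G := G) (f := fun i j h => f i j h) hkl y, h, map_zero]
  have hd : IsDomain (Ring.DirectLimit G fun i j h => f i j h) := NoZeroDivisors.to_isDomain _
  refine ⟨hd, { cond' := ?_ }⟩
  intro a b
  obtain ⟨k, x, y, rfl, rfl⟩ := hpair a b
  obtain ⟨c, hc⟩ := ValuationRing.cond x y
  refine ⟨O k c, ?_⟩
  rcases hc with h | h
  · left; rw [← map_mul, h]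
  · right; rw [← map_mul, h]

end Groth.Agent.S6287
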