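import Groth.Statements.S6290
import Mathlib

set_option autoImplicit false
universe u
open CAlg

namespace Groth.Agent.S6290
open TensorProduct

/-- Let R be a Noetherian ring, I ⊆ R an ideal, M a finite R-module and N = ⋂ₙ IⁿM. Then for every prime
p ⊇ I there is f ∈ R, f ∉ p, with N_f = 0, i.e. every element of N is annihilated by some power of
f. -/
theorem result {R : Type u} [CommRing R] [IsNoetherianRing R] (I : Ideal R) (M : Type u) [AddCommGroup M] [Module R M] [Module.Finite R M] (p : Ideal R) [p.IsPrime] (hIp : I ≤ p) : ∃ f : R, f ∉ p ∧ ∀ x ∈ (⨅ n : ℕ, I ^ n • (⊤ : Submodule R M)), ∃ k : ℕ, f ^ k • x = 0 := by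
  set N := (⨅ n : ℕ, I ^ n • (⊤ : Submodule R M))
  have hN : N ≤ I • N := fun x hx => by
    have := (Ideal.mem_iInf_smul_pow_eq_bot_iff I x).1 hx
    obtain ⟨r, hr⟩ := this
    rw [← hr]
    exact Submodule.smul_mem_smul r.2 hx
  obtain ⟨r, hr, hr0⟩ := Submodule.exists_sub_one_mem_and_smul_eq_zero_of_fg_of_le_smul I N (IsNoetherian.noetherian N) hN
  refine ⟨r, fun h => (inferInstance : p.IsPrime).ne_top ?_, fun x hx => ⟨1, by rw [pow_one]; exact hr0 x hx⟩⟩
  rw [Ideal.eq_top_iff_one]
  simpa using p.sub_mem h (hIp hr)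

end Groth.Agent.S6290
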