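import Groth.Statements.S6291
import Mathlib

set_option autoImplicit false
universe u
open CAlg

namespace Groth.Agent.S6291
open TensorProduct

/-- Let R be a local ring with maximal ideal m and M an R-module of finite length. Then mⁿM = 0 for some
n. -/
theorem result {R : Type u} [CommRing R] [IsLocalRing R] (M : Type u) [AddCommGroup M] [Module R M] (hM : IsFiniteLength R M) : ∃ n : ℕ, (IsLocalRing.maximalIdeal R) ^ n • (⊤ : Submodule R M) = ⊥ := by
  obtain ⟨hn, ha⟩ := isFiniteLength_iff_isNoetherian_isArtinian.1 hM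
  have hmono : Antitone fun n : ℕ => (IsLocalRing.maximalIdeal R) ^ n • (⊤ : Submodule R M) := fun a b hab => Submodule.smul_mono_left (Ideal.pow_le_pow_right hab)
  obtain ⟨n, hn'⟩ := IsArtinian.monotone_stabilizes (R := R) (M := M) ⟨fun n => OrderDual.toDual ((IsLocalRing.maximalIdeal R) ^ n • (⊤ : Submodule R M)), fun a b h => hmono h⟩
  refine ⟨n, Submodule.eq_bot_of_le_smul_of_le_jacobson_bot (IsLocalRing.maximalIdeal R) _ (IsNoetherian.noetherian _) ?_ (IsLocalRing.maximalIdeal_le_jacobson _)⟩
  have h1 : _ = _ := hn' (n+1) (Nat.le_succ n)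
  rw [← Submodule.smul_assoc, Ideal.smul_eq_mul, ← pow_succ']
  exact le_of_eq h1

end Groth.Agent.S6291
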