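import Groth.Statements.S6292
import Mathlib

set_option autoImplicit false
universe u
open CAlg

namespace Groth.Agent.S6292
open TensorProduct

/-- Let R be a ring and m ⊆ R a finitely generated maximal ideal (for instance R Noetherian). If M is a
finite R-module with mⁿM = 0 for some n, then M has finite length. -/
theorem result {R : Type u} [CommRing R] (m : Ideal R) [m.IsMaximal] (hm : m.FG) (M : Type u) [AddCommGroup M] [Module R M] [Module.Finite R M] (n : ℕ) (hn : m ^ n • (⊤ : Submodule R M) = ⊥) : IsFiniteLength R M := by
  have key : ∀ k (N : Submodule R M), N.FG → m ^ k • N = ⊥ → IsFiniteLength R N := by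
    intro k
    induction k with
    | zero =>
      intro N _ h
      rw [pow_zero, Ideal.one_eq_top, Submodule.top_smul] at h
      subst h
      exact .of_subsingleton
    | succ k ih =>
      intro N hN h
      have h1 : (m • N).FG := Submodule.FG.smul hm hN
      have h2 : IsFiniteLength R ↥(m • N) := ih _ h1 (by rw [← Submodule.mul_smul, ← pow_succ, h])
      have : Module.Finite R N := Module.Finite.iff_fg.2 hN
      have h3 : IsFiniteLength R (N ⧸ (m • ⊤ : Submodule R N)) := by
        let V := N ⧸ (m • ⊤ : Submodule R N)
        letI : Field (R ⧸ m) := Ideal.Quotient.field m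
        have : Module.Finite (R ⧸ m) V := Module.Finite.of_restrictScalars_finite R (R ⧸ m) V
        rw [isFiniteLength_iff_isNoetherian_isArtinian]
        let l : V →ₛₗ[Ideal.Quotient.mk m] V := { toFun := id, map_add' := fun _ _ => rfl, map_smul' := fun r x => (IsScalarTower.algebraMap_smul (R ⧸ m) r x).symm }
        haveI : RingHomSurjective (Ideal.Quotient.mk m) := ⟨Ideal.Quotient.mk_surjective⟩
        exact ⟨(LinearMap.isNoetherian_iff_of_bijective l Function.bijective_id).2 inferInstance,
          (LinearMap.isArtinian_iff_of_bijective l Function.bijective_id).2 inferInstance⟩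
      have h4 : IsFiniteLength R (m • ⊤ : Submodule R N) :=
        h2.of_injective (f := (N.subtype ∘ₗ (m • ⊤ : Submodule R N).subtype).codRestrict (m • N) (fun x => by
          have : N.subtype x.1 ∈ (m • ⊤ : Submodule R N).map N.subtype := ⟨x.1, x.2, rfl⟩
          rwa [Submodule.map_smul'', Submodule.map_top, Submodule.range_subtype] at this)) (fun a b hab => by
          exact Subtype.ext (Subtype.ext (congrArg (fun z : (m • N : Submodule R M) => (z : M)) hab)))
      obtain ⟨_, _⟩ := isFiniteLength_iff_isNoetherian_isArtinian.1 h3
      obtain ⟨_, _⟩ := isFiniteLength_iff_isNoetherian_isArtinian.1 h4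
      exact isFiniteLength_iff_isNoetherian_isArtinian.2 ⟨(isNoetherian_iff_submodule_quotient (m • ⊤ : Submodule R N)).2 ⟨inferInstance, inferInstance⟩, (isArtinian_iff_submodule_quotient (m • ⊤ : Submodule R N)).2 ⟨inferInstance, inferInstance⟩⟩
  exact (key n ⊤ Module.Finite.fg_top hn).of_surjective (f := (⊤ : Submodule R M).subtype) (fun x => ⟨⟨x, trivial⟩, rfl⟩)

end Groth.Agent.S6292
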