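import Groth.Statements.S6295
import Groth.Agent.CAlgMisc.SmallA

set_option autoImplicit false
universe u
open CAlg

namespace Groth.Agent.S6295

/-- Let R be a reduced ring. Then every localization R_p at a minimal prime p is a field and the map R →
∏_{p minimal} R_p is injective (so R is a subring of a product of fields); moreover the set of
zerodivisors of R is the union of the minimal primes. -/
theorem result (R : Type u) [CommRing R] [IsReduced R] : (∀ p : PrimeSpectrum R, p.asIdeal ∈ minimalPrimes R → IsField (Localization.AtPrime p.asIdeal)) ∧ Function.Injective (algebraMap R (∀ p : {p : PrimeSpectrum R // p.asIdeal ∈ minimalPrimes R}, Localization.AtPrime p.1.asIdeal)) ∧ (∀ x : R, x ∉ nonZeroDivisors R ↔ ∃ p ∈ minimalPrimes R, x ∈ p) := by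
  refine ⟨fun p hp => CAlgMisc.isField_localization_minimalPrime p.asIdeal hp, ?_, fun x => ⟨fun hx => ?_, ?_⟩⟩
  · rw [injective_iff_map_eq_zero]
    intro x hx
    by_contra hne
    obtain ⟨p, hp, hxp⟩ := CAlgMisc.exists_notMem_minimalPrimes hne
    haveI := hp.1.1
    obtain ⟨s, hs⟩ := (IsLocalization.map_eq_zero_iff p.primeCompl (Localization.AtPrime p) x).1
      (congrFun hx ⟨⟨p, hp.1.1⟩, hp⟩)
    rcases hp.1.1.mem_or_mem (show (s : R) * x ∈ p by rw [hs]; exact zero_mem _) with h | h
    · exact s.2 h
    · exact hxp h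
  · rw [mem_nonZeroDivisors_iff] at hx
    by_contra h
    push Not at h
    refine hx ⟨fun y hy => ?_, fun y hy => ?_⟩
    all_goals
      by_contra hne
      obtain ⟨p, hp, hyp⟩ := CAlgMisc.exists_notMem_minimalPrimes hne
      have hmem : x * y ∈ p := by
        first
          | (rw [hy]; exact zero_mem _)
          | (rw [mul_comm, hy]; exact zero_mem _)
      exact (hp.1.1.mem_or_mem hmem).elim (h p hp) hyp
  · rintro ⟨p, hp, hxp⟩ hx
    exact Set.disjoint_left.1 (Ideal.disjoint_nonZeroDivisors_of_mem_minimalPrimes hp) hxp hx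

end Groth.Agent.S6295
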