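import Groth.Statements.S6298
import Mathlib

set_option autoImplicit false
universe u
open CAlg

namespace Groth.Agent.S6298
open TensorProduct

/-- Let R be a ring, x ∈ R, I ⊆ R an ideal and p₁, …, p_r prime ideals such that for each i the coset x
+ I is not contained in p_i. Then there is y ∈ I with x + y ∉ p_i for all i. -/
theorem result {R : Type u} [CommRing R] (x : R) (I : Ideal R) {r : ℕ} (p : Fin r → Ideal R) [∀ i, (p i).IsPrime] (h : ∀ i, ∃ y ∈ I, x + y ∉ p i) : ∃ y ∈ I, ∀ i, x + y ∉ p i := by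
  classical
  let M : Finset (Fin r) := Finset.univ.filter fun i => ∀ j, p i ≤ p j → p j ≤ p i
  have hmax : ∀ i, ∃ j ∈ M, p i ≤ p j := by
    intro i
    obtain ⟨q, hiq, hq⟩ := (Set.finite_range p).exists_le_maximal (Set.mem_range_self i)
    obtain ⟨j, rfl⟩ := hq.1
    exact ⟨j, Finset.mem_filter.2 ⟨Finset.mem_univ _, fun k hk => hq.2 (Set.mem_range_self k) hk⟩, hiq⟩
  let A := M.filter fun i => x ∈ p i
  let B := M.filter fun i => x ∉ p i
  have hJ : ∀ i ∈ A, ¬ (I * ∏ j ∈ B, p j) ≤ p i := by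
    intro i hi hle
    simp only [A, Finset.mem_filter] at hi
    rcases (Ideal.IsPrime.mul_le (inferInstance : (p i).IsPrime)).1 hle with h1 | h1
    · obtain ⟨y, hy, hy'⟩ := h i
      exact hy' ((p i).add_mem hi.2 (h1 hy))
    · obtain ⟨j, hj, hji⟩ := (Ideal.IsPrime.prod_le (inferInstance : (p i).IsPrime)).1 h1
      simp only [B, Finset.mem_filter] at hj
      have : p i ≤ p j := by
        have hh := hj.1
        simp only [M, Finset.mem_filter] at hh
        exact hh.2 i hji
      exact hj.2 (this hi.2)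
  obtain ⟨y, hy, hyA⟩ : ∃ y ∈ I * ∏ j ∈ B, p j, ∀ i ∈ A, y ∉ p i := by
    by_contra hcon
    push Not at hcon
    rcases A.eq_empty_or_nonempty with hA | ⟨a, ha⟩
    · obtain ⟨i, hi, -⟩ := hcon 0 (Ideal.zero_mem _)
      simp [hA] at hi
    · obtain ⟨i, hi, hi'⟩ := (Ideal.subset_union_prime (s := A) (f := p) a a (fun _ _ _ _ => inferInstance)).1
        (fun z hz => by
          obtain ⟨i, hi, hzi⟩ := hcon z hz
          exact Set.mem_biUnion hi hzi)
      exact hJ i hi hi'
  refine ⟨y, (Ideal.mul_le_inf hy).1, fun i hxy => ?_⟩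
  obtain ⟨j, hj, hij⟩ := hmax i
  by_cases hxj : x ∈ p j
  · refine hyA j (Finset.mem_filter.2 ⟨hj, hxj⟩) ?_
    simpa using (p j).sub_mem (hij hxy) hxj
  · have h1 : y ∈ B.inf p := Ideal.prod_le_inf (Ideal.mul_le_inf hy).2
    have : y ∈ p j := Finset.inf_le (f := p) (show j ∈ B from Finset.mem_filter.2 ⟨hj, hxj⟩) h1
    exact hxj (by simpa using (p j).sub_mem (hij hxy) this)

end Groth.Agent.S6298
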