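import Groth.Statements.S6303
import Mathlib

set_option autoImplicit false
universe u
open CAlg

namespace Groth.Agent.S6303
open TensorProduct

/-- Let R be a ring, I, J ⊆ R ideals and M a flat R-module. Then IM ∩ JM = (I ∩ J)M. -/
theorem result {R : Type u} [CommRing R] (I J : Ideal R) (M : Type u) [AddCommGroup M] [Module R M] [Module.Flat R M] : (I • (⊤ : Submodule R M)) ⊓ (J • ⊤) = (I ⊓ J) • (⊤ : Submodule R M) := by
  refine le_antisymm ?_ (le_inf (Submodule.smul_mono_left inf_le_left) (Submodule.smul_mono_left inf_le_right))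
  intro m hm
  let f : R →ₗ[R] (R ⧸ I) × (R ⧸ J) := (Submodule.mkQ I).prod (Submodule.mkQ J)
  have hex : Function.Exact (I ⊓ J).subtype f := by
    intro x
    simp [f, Prod.ext_iff, Ideal.Quotient.eq_zero_iff_mem]
  have hex' := Module.Flat.rTensor_exact M hex
  have hmem : ∀ (K : Ideal R), m ∈ K • (⊤ : Submodule R M) → (Submodule.mkQ K).rTensor M (1 ⊗ₜ m) = 0 := by
    intro K hK
    simp only [LinearMap.rTensor_tmul, Submodule.mkQ_apply]
    refine (TensorProduct.quotTensorEquivQuotSMul M K).injective ?_
    rw [map_zero]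
    have := TensorProduct.quotTensorEquivQuotSMul_mk_tmul (I := K) (1:R) m
    simpa using this.trans ((Submodule.Quotient.mk_eq_zero _).2 (by simpa using hK))
  have : f.rTensor M (1 ⊗ₜ m) = 0 := by
    apply (TensorProduct.prodLeft R R (R ⧸ I) (R ⧸ J) M).injective
    rw [map_zero]
    have e1 := hmem I hm.1
    have e2 := hmem J hm.2
    simp only [LinearMap.rTensor_tmul] at e1 e2 ⊢
    simp [f, TensorProduct.prodLeft_tmul, Prod.ext_iff]
    exact ⟨e1, e2⟩
  obtain ⟨z, hz⟩ := (hex' _).1 this
  have hm' : m = TensorProduct.lid R M ((I ⊓ J).subtype.rTensor M z) := by rw [hz]; simp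
  rw [hm']
  clear hz hm'
  induction z with
  | zero => simp
  | add a b ha hb => rw [map_add, map_add]; exact add_mem ha hb
  | tmul a b =>
    simp only [LinearMap.rTensor_tmul, Submodule.coe_subtype, TensorProduct.lid_tmul]
    exact Submodule.smul_mem_smul a.2 trivial

end Groth.Agent.S6303
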