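import Groth.Statements.S6306
import Mathlib

set_option autoImplicit false
universe u
open CAlg

namespace Groth.Agent.S6306
open TensorProduct

/-- Let R be a nonzero ring such that every nonzero prime ideal of R contains a non-zerodivisor. Then R
is a domain. -/
theorem result (R : Type u) [CommRing R] [Nontrivial R] (h : ∀ p : Ideal R, p.IsPrime → p ≠ ⊥ → ∃ x ∈ p, x ∈ nonZeroDivisors R) : IsDomain R := by
  have h2 : (⊥ : Ideal R).IsPrime := by
    obtain ⟨p, hp⟩ := Ideal.nonempty_minimalPrimes (bot_ne_top (α := Ideal R))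
    have := hp.1.1
    by_cases hp0 : p = ⊥
    · rw [← hp0]; exact this
    · obtain ⟨x, hx, hx'⟩ := h p this hp0
      exact absurd hx' (fun hx' => Ideal.disjoint_nonZeroDivisors_of_mem_minimalPrimes hp |>.ne_of_mem hx hx' rfl)
  exact ((isDomain_iff_noZeroDivisors_and_nontrivial R).2 ⟨⟨fun {a b} hab => by simpa using h2.mem_or_mem (x := a) (y := b) (by simpa using hab)⟩, inferInstance⟩ : IsDomain R)

end Groth.Agent.S6306
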