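import Groth.Statements.S6332
import Groth.Agent.GalCohLib.Descent

set_option autoImplicit false
universe u
open Fields

namespace Groth.Agent.S6332

open IntermediateField in
/-- Let L/K be a finite Galois extension of fields of characteristic p > 0 whose degree equals the prime
p (equivalently, the Galois group is cyclic of order p). Then there is an element z of L with z ^ p
- z in K which generates L over K. -/
theorem result {K L : Type u} [Field K] [Field L] [Algebra K L] (p : ℕ)
    [Fact p.Prime] [CharP K p] [FiniteDimensional K L] [IsGalois K L]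
    (hdeg : Module.finrank K L = p) :
    ∃ z : L, z ^ p - z ∈ Set.range (algebraMap K L) ∧ K⟮z⟯ = ⊤ := by
  haveI : CharP L p := charP_of_injective_algebraMap (algebraMap K L).injective p
  have hcard : Nat.card (L ≃ₐ[K] L) = p := by rw [IsGalois.card_aut_eq_finrank, hdeg]
  haveI : IsCyclic (L ≃ₐ[K] L) := isCyclic_of_prime_card hcard
  let e : Multiplicative (ZMod p) ≃* (L ≃ₐ[K] L) :=
    (MulEquiv.refl _).trans (zmodCyclicMulEquiv (G := L ≃ₐ[K] L) inferInstance |> fun f =>
      (AddEquiv.toMultiplicative (ZMod.ringEquivCongr hcard.symm).toAddEquiv).trans f)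
  let χ : (L ≃ₐ[K] L) → ZMod p := fun σ => (e.symm σ).toAdd
  obtain ⟨z, hz⟩ := Groth.Agent.GalCohLib.exists_sub_eq (fun σ => ((χ σ).val : L))
    (fun σ τ => by
      simp only [χ, map_mul, toAdd_mul, ZMod.natCast_val, ZMod.cast_add (n := p) (R := L) dvd_rfl]
      congr 1
      rw [← ZMod.natCast_val, map_natCast])
    (IsLocallyConstant.of_discrete _)
  refine ⟨z, ?_, ?_⟩
  · rw [IsGalois.mem_range_algebraMap_iff_fixed]
    intro σ
    have h : σ z = z + ((χ σ).val : L) := by rw [hz σ]; ring
    rw [map_sub, map_pow, h, add_pow_char, ← Nat.cast_pow]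
    have : ((((χ σ).val ^ p : ℕ)) : L) = ((χ σ).val : L) := by
      rw [CharP.natCast_eq_natCast L p, ← ZMod.natCast_eq_natCast_iff]
      simp
    rw [this]; ring
  · have hzK : K⟮z⟯ ≠ ⊥ := by
      intro h
      rw [IntermediateField.adjoin_simple_eq_bot_iff, IntermediateField.mem_bot] at h
      obtain ⟨c, hc⟩ := h
      have h1 := hz (e (Multiplicative.ofAdd 1))
      have h1' : (((1 : ZMod p).val : ℕ) : L) = 0 := by
        simpa [χ, ← hc] using h1
      rw [ZMod.val_one, Nat.cast_one] at h1'
      exact one_ne_zero h1'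
    haveI : Fact (Module.finrank K L).Prime := ⟨hdeg ▸ Fact.out⟩
    exact ((IntermediateField.isSimpleOrder_of_finrank_prime K L (hdeg ▸ Fact.out)).eq_bot_or_eq_top K⟮z⟯).resolve_left hzK

end Groth.Agent.S6332
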