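import Groth.Statements.S6334
import Mathlib

set_option autoImplicit false
universe u
open Fields

namespace Groth.Agent.S6334

open IntermediateField in
/-- Let E/F be a finite purely inseparable extension of fields of characteristic p > 0. Then there are
elements a_1, ..., a_n of E generating E over F such that for each i the p-th power of a_i lies in
F(a_1, ..., a_{i-1}) while a_i itself does not (so each step adjoins a p-th root and has degree p);
in particular [E : F] = p ^ n. -/
theorem result {F E : Type u} [Field F] [Field E] [Algebra F E] (p : ℕ)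
    [Fact p.Prime] [CharP F p] [FiniteDimensional F E] [IsPurelyInseparable F E] :
    ∃ (n : ℕ) (a : Fin n → E), adjoin F (Set.range a) = ⊤ ∧
      (∀ i : Fin n, a i ^ p ∈ adjoin F (a '' {j | j < i}) ∧ a i ∉ adjoin F (a '' {j | j < i})) ∧
      Module.finrank F E = p ^ n := by
  classical
  have hfr : ∀ (n : ℕ) (a : Fin n → E), (∀ i : Fin n, a i ^ p ∈ IntermediateField.adjoin F (a '' {j | j < i}) ∧ a i ∉ IntermediateField.adjoin F (a '' {j | j < i})) →
      Module.finrank F (IntermediateField.adjoin F (Set.range a)) = p ^ n := by
    intro n
    induction n with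
    | zero =>
      intro a _
      rw [show Set.range a = ∅ from Set.range_eq_empty _, IntermediateField.adjoin_empty, IntermediateField.finrank_bot, pow_zero]
    | succ n ih =>
      intro a ha
      have himg : a '' {j | j < Fin.last n} = Set.range (fun i : Fin n => a i.castSucc) := by
        ext x; constructor
        · rintro ⟨j, hj, rfl⟩; exact ⟨j.castPred (Fin.ne_of_lt hj), by simp⟩
        · rintro ⟨i, rfl⟩; exact ⟨_, Fin.castSucc_lt_last i, rfl⟩
      set M := IntermediateField.adjoin F (Set.range fun i : Fin n => a i.castSucc) with hM
      have hMn : Module.finrank F M = p ^ n := by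
        refine ih _ fun i => ?_
        have := ha i.castSucc
        have e : a '' {j | j < i.castSucc} = (fun i : Fin n => a i.castSucc) '' {j | j < i} := by
          ext x; constructor
          · rintro ⟨j, hj, rfl⟩
            have hne : j ≠ Fin.last n := fun h => absurd (h ▸ hj : Fin.last n < i.castSucc) (not_lt.2 (Fin.le_last _))
            exact ⟨j.castPred hne, by
              rw [Set.mem_setOf_eq, ← Fin.castSucc_lt_castSucc_iff, Fin.castSucc_castPred]; exact hj, by simp⟩
          · rintro ⟨j, hj, rfl⟩; exact ⟨_, Fin.castSucc_lt_castSucc_iff.2 hj, rfl⟩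
        rwa [e] at this
      obtain ⟨hp, hnot⟩ := ha (Fin.last n)
      rw [himg, ← hM] at hp hnot
      set x := a (Fin.last n)
      have htop : IntermediateField.adjoin F (Set.range a) = (IntermediateField.adjoin M {x}).restrictScalars F := by
        rw [hM, IntermediateField.adjoin_adjoin_left]
        congr 1
        ext y
        simp only [Set.mem_range, Set.mem_union, Set.mem_singleton_iff, Fin.exists_fin_succ']
        simp [x, eq_comm]
      rw [htop]
      change Module.finrank F (IntermediateField.adjoin M {x}) = _
      rw [← Module.finrank_mul_finrank F M (IntermediateField.adjoin M {x}), hMn, pow_succ]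
      congr 1
      haveI : CharP M p := charP_of_injective_algebraMap (algebraMap F M).injective p
      haveI : CharP E p := charP_of_injective_algebraMap (algebraMap F E).injective p
      have hirr : Irreducible (Polynomial.X ^ p - Polynomial.C (⟨x ^ p, hp⟩ : M)) := by
        refine X_pow_sub_C_irreducible_of_prime (Fact.out) fun b hb => hnot ?_
        have h2 : (b : E) ^ p = x ^ p := congrArg (fun z : M => (z : E)) hb
        have := frobenius_inj E p (by simpa [frobenius_def] using h2)
        rw [← this]; exact b.2
      rw [IntermediateField.adjoin.finrank (IsIntegral.of_finite M x),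
        ← minpoly.eq_of_irreducible_of_monic hirr ?_ (Polynomial.monic_X_pow_sub_C _ (Fact.out : p.Prime).ne_zero),
        Polynomial.natDegree_X_pow_sub_C]
      simp
  by_contra hcon
  push Not at hcon
  haveI : ExpChar F p := ExpChar.prime (Fact.out)
  have : ∀ n : ℕ, ∃ a : Fin n → E, ∀ i : Fin n, a i ^ p ∈ IntermediateField.adjoin F (a '' {j | j < i}) ∧ a i ∉ IntermediateField.adjoin F (a '' {j | j < i}) := by
    intro n
    induction n with
    | zero => exact ⟨Fin.elim0, fun i => i.elim0⟩
    | succ n ih =>
      obtain ⟨a, ha⟩ := ih
      set M := IntermediateField.adjoin F (Set.range a) with hM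
      have hne : M ≠ ⊤ := fun h => hcon n a h ha (by rw [← hfr n a ha, ← hM, h, IntermediateField.finrank_top'])
      obtain ⟨b, hb⟩ : ∃ b, b ∉ M := by
        by_contra hall
        push Not at hall
        exact hne (eq_top_iff.2 fun x _ => hall x)
      have hex : ∃ e : ℕ, b ^ p ^ e ∈ M := by
        obtain ⟨e, z, hz⟩ := IsPurelyInseparable.pow_mem F p b
        exact ⟨e, hz ▸ IntermediateField.algebraMap_mem M z⟩
      have hpos : Nat.find hex ≠ 0 := fun h => hb (by simpa [h] using Nat.find_spec hex)
      obtain ⟨e, he⟩ := Nat.exists_eq_succ_of_ne_zero hpos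
      refine ⟨Fin.snoc a (b ^ p ^ e), fun i => ?_⟩
      induction i using Fin.lastCases with
      | last =>
        have : (Fin.snoc a (b ^ p ^ e) : Fin (n + 1) → E) '' {j | j < Fin.last n} = Set.range a := by
          ext x; constructor
          · rintro ⟨j, hj, rfl⟩; exact ⟨j.castPred (Fin.ne_of_lt hj), by simp [Fin.snoc, show (j : ℕ) < n from hj]; rfl⟩
          · rintro ⟨i, rfl⟩; exact ⟨i.castSucc, Fin.castSucc_lt_last i, by simp⟩
        rw [this, ← hM, Fin.snoc_last]
        refine ⟨?_, Nat.find_min hex (by omega)⟩
        rw [← pow_mul, ← pow_succ, ← Nat.succ_eq_add_one, ← he]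
        exact Nat.find_spec hex
      | cast i =>
        have : (Fin.snoc a (b ^ p ^ e) : Fin (n + 1) → E) '' {j | j < i.castSucc} = a '' {j | j < i} := by
          ext x; constructor
          · rintro ⟨j, hj, rfl⟩
            have hj' : (j : ℕ) < n := lt_trans hj i.isLt
            exact ⟨⟨j, hj'⟩, hj, by simp [Fin.snoc, hj']; rfl⟩
          · rintro ⟨j, hj, rfl⟩; exact ⟨j.castSucc, Fin.castSucc_lt_castSucc_iff.2 hj, by simp⟩
        rw [this, Fin.snoc_castSucc]; exact ha i
  obtain ⟨a, ha⟩ := this (Module.finrank F E + 1)
  have h1 := hfr _ a ha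
  have h2 : Module.finrank F (IntermediateField.adjoin F (Set.range a)) ≤ Module.finrank F E :=
    Submodule.finrank_le (IntermediateField.adjoin F (Set.range a)).toSubmodule
  have h3 := Nat.lt_pow_self (n := Module.finrank F E + 1) (Fact.out : p.Prime).one_lt
  omega

end Groth.Agent.S6334
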