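import Groth.Statements.S6335
import Mathlib

set_option autoImplicit false
universe u
open Fields

namespace Groth.Agent.S6335

/-- Let K be a field of characteristic p > 0, L/K a separable algebraic extension and a an element of L.
If a is a root of a polynomial P over K which is separable (pairwise distinct roots in an algebraic
closure) and all of whose coefficients are p-th powers in K, then a is a p-th power in L. (Part (1),
the case where P is the minimal polynomial of a, is a special case.) -/
theorem result {K L : Type u} [Field K] [Field L] [Algebra K L]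
    (p : ℕ) [Fact p.Prime] [CharP K p] [Algebra.IsSeparable K L] (a : L) (P : Polynomial K)
    (hroot : Polynomial.aeval a P = 0) (hsep : P.Separable) (hcoeff : ∀ i : ℕ, ∃ b : K, b ^ p = P.coeff i) :
    ∃ c : L, c ^ p = a := by
  classical
  haveI : CharP L p := charP_of_injective_algebraMap (algebraMap K L).injective p
  let Ω := AlgebraicClosure L
  haveI : CharP Ω p := charP_of_injective_algebraMap (algebraMap L Ω).injective p
  choose b hb using hcoeff
  let Q : Polynomial K := ∑ i ∈ Finset.range (P.natDegree + 1), Polynomial.monomial i (b i)
  have hQ : Q.map (frobenius K p) = P := by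
    conv_rhs => rw [P.as_sum_range]
    simp [Q, Polynomial.map_sum, frobenius_def, hb]
  have hQsep : Q.Separable := by rw [← Polynomial.separable_map (frobenius K p), hQ]; exact hsep
  obtain ⟨c, hc⟩ := IsAlgClosed.exists_pow_nat_eq (algebraMap L Ω a) (Fact.out : p.Prime).pos
  have hQc : Polynomial.aeval c Q = 0 := by
    apply pow_eq_zero_iff (n := p) (Fact.out : p.Prime).ne_zero |>.1
    have h1 : Polynomial.aeval (c ^ p) P = 0 := by
      rw [hc, Polynomial.aeval_algebraMap_apply, hroot, map_zero]
    rw [← h1, ← hQ, Polynomial.aeval_def, Polynomial.aeval_def, Polynomial.eval₂_map,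
      ← frobenius_def (R := Ω) p, ← frobenius_def (R := Ω) p c, Polynomial.hom_eval₂]
    congr 1
    exact RingHom.ext fun x => (algebraMap K Ω).map_frobenius p x |>.symm
  have hcsep : IsSeparable K c := hQsep.of_dvd (minpoly.dvd K c hQc)
  have hmem : c ∈ IntermediateField.adjoin K {c ^ p} := by
    rw [← IntermediateField.adjoin_simple_eq_adjoin_pow_expChar_of_isSeparable K Ω hcsep p]
    exact IntermediateField.mem_adjoin_simple_self K c
  have hle : IntermediateField.adjoin K {c ^ p} ≤ (IsScalarTower.toAlgHom K L Ω).fieldRange := by
    rw [IntermediateField.adjoin_le_iff, Set.singleton_subset_iff, hc]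
    exact ⟨a, rfl⟩
  obtain ⟨d, hd⟩ := hle hmem
  exact ⟨d, (algebraMap L Ω).injective (by rw [map_pow, ← hc]; exact congrArg (· ^ p) hd)⟩

end Groth.Agent.S6335
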