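import Groth.Statements.S6336
import Mathlib

set_option autoImplicit false
universe u
open Fields

namespace Groth.Agent.S6336

open IntermediateField Polynomial in
/-- With an added hypothesis: let L/K be a finite extension of degree e generated by a single element a
whose e-th power lies in K, and assume that the polynomial X ^ e - 1 splits into linear factors over
K (so every e-th root of unity of any extension of K already lies in K; this holds when K contains a
primitive e-th root of unity, and when e is a power of the characteristic). Then every intermediate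
field of L/K is generated by a ^ d for some divisor d of e. (The published statement has no
hypothesis on roots of unity; for K the rationals and a a primitive 8-th root of unity, e = 4 and a
^ 4 = -1, the intermediate field generated by a + a⁻¹, a square root of 2, is none of K(a), K(a ^
2), K(a ^ 4); the published proof uses that the e-th roots of unity met are fixed by the
automorphisms it constructs, which the splitting hypothesis guarantees.) -/
theorem result {K L : Type u} [Field K] [Field L] [Algebra K L]
    [FiniteDimensional K L] (a : L) (ha : K⟮a⟯ = ⊤)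
    (hpow : a ^ Module.finrank K L ∈ Set.range (algebraMap K L))
    (hroots : (X ^ Module.finrank K L - 1 : K[X]).Splits) (L' : IntermediateField K L) :
    ∃ d : ℕ, d ∣ Module.finrank K L ∧ L' = K⟮a ^ d⟯ := by
  classical
  set e := Module.finrank K L with he
  have hepos : 0 < e := Module.finrank_pos
  by_cases ha0 : a = 0
  · refine ⟨1, one_dvd _, ?_⟩
    subst ha0
    rw [IntermediateField.adjoin_simple_eq_bot_iff.2 (IntermediateField.zero_mem ⊥)] at ha
    rw [pow_one, IntermediateField.adjoin_simple_eq_bot_iff.2 (IntermediateField.zero_mem ⊥)]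
    exact eq_bot_iff.2 (ha ▸ le_top)
  obtain ⟨c, hc⟩ := hpow
  set g := minpoly L' a with hg
  set m := g.natDegree
  have hint : IsIntegral L' a := IsIntegral.of_finite _ a
  have hdvd : g.map (algebraMap L' L) ∣ Polynomial.X ^ e - Polynomial.C (a ^ e) := by
    have : g ∣ Polynomial.X ^ e - Polynomial.C (algebraMap K L' c) :=
      minpoly.dvd _ _ (by simp [← IsScalarTower.algebraMap_apply, hc])
    have h2 := Polynomial.map_dvd (algebraMap L' L) this
    rwa [Polynomial.map_sub, Polynomial.map_pow, Polynomial.map_X, Polynomial.map_C,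
      ← IsScalarTower.algebraMap_apply, hc] at h2
  -- the splitting of `X^e - a^e`
  set s := (Polynomial.X ^ e - 1 : K[X]).roots
  have hsplit : (Polynomial.X ^ e - Polynomial.C (a ^ e) : L[X]) =
      (s.map fun ζ => Polynomial.X - Polynomial.C (algebraMap K L ζ * a)).prod := by
    have hmon : (Polynomial.X ^ e - 1 : K[X]).Monic := by
      simpa using Polynomial.monic_X_pow_sub_C (1 : K) hepos.ne'
    have h1 := congrArg (fun P : K[X] => (P.map (algebraMap K L)).comp (Polynomial.C a⁻¹ * Polynomial.X))
      (hroots.eq_prod_roots_of_monic hmon)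
    have hcard : Multiset.card s = e := by
      rw [← hroots.natDegree_eq_card_roots, ← Polynomial.C_1, Polynomial.natDegree_X_pow_sub_C]
    simp only [Polynomial.map_sub, Polynomial.map_pow, Polynomial.map_X, Polynomial.map_one, Polynomial.sub_comp,
      Polynomial.pow_comp, Polynomial.X_comp, Polynomial.one_comp, Polynomial.map_multiset_prod, Multiset.map_map,
      Polynomial.multiset_prod_comp, Function.comp_def, Polynomial.map_C, Polynomial.C_comp] at h1
    calc (Polynomial.X ^ e - Polynomial.C (a ^ e) : L[X])
        = Polynomial.C (a ^ e) * ((Polynomial.C a⁻¹ * Polynomial.X) ^ e - 1) := by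
          rw [mul_sub, mul_one, mul_pow, ← mul_assoc, ← map_pow, ← map_mul, inv_pow, mul_inv_cancel₀ (pow_ne_zero _ ha0), map_one, one_mul]
      _ = (s.map fun ζ => Polynomial.C a * (Polynomial.C a⁻¹ * Polynomial.X - Polynomial.C (algebraMap K L ζ))).prod := by
          rw [Multiset.prod_map_mul, Multiset.map_const', Multiset.prod_replicate, hcard, h1, map_pow]
      _ = _ := by
          refine congrArg Multiset.prod (Multiset.map_congr rfl fun ζ _ => ?_)
          rw [mul_sub, ← mul_assoc, ← map_mul, mul_inv_cancel₀ ha0, map_one, one_mul, ← map_mul, mul_comm a]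
  have hgmon : (g.map (algebraMap L' L)).Monic := (minpoly.monic hint).map _
  have hsp : (g.map (algebraMap L' L)).Splits := by
    refine Polynomial.Splits.of_dvd ?_ (Polynomial.X_pow_sub_C_ne_zero hepos _) hdvd
    rw [hsplit]
    exact Polynomial.Splits.multisetProd fun P hP => by
      obtain ⟨ζ, -, rfl⟩ := Multiset.mem_map.1 hP; exact Polynomial.Splits.X_sub_C _
  set R := (g.map (algebraMap L' L)).roots
  have hR : ∀ r ∈ R, ∃ ζ : K, ζ ≠ 0 ∧ r = algebraMap K L ζ * a := by
    intro r hr
    have hr0 : (Polynomial.X ^ e - Polynomial.C (a ^ e) : L[X]).IsRoot r :=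
      Polynomial.IsRoot.dvd (Polynomial.isRoot_of_mem_roots hr) hdvd
    have hre : r ^ e = a ^ e := by simpa [sub_eq_zero] using hr0
    have hmem : r ∈ (Polynomial.X ^ e - Polynomial.C (a ^ e) : L[X]).roots :=
      (Polynomial.mem_roots (Polynomial.X_pow_sub_C_ne_zero hepos _)).2 hr0
    rw [hsplit, show (s.map fun ζ => Polynomial.X - Polynomial.C (algebraMap K L ζ * a)) =
      (s.map fun ζ => algebraMap K L ζ * a).map (fun z => Polynomial.X - Polynomial.C z) from (Multiset.map_map (g := fun z => Polynomial.X - Polynomial.C z) (f := fun ζ => algebraMap K L ζ * a) s).symm,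
      Polynomial.roots_multiset_prod_X_sub_C] at hmem
    obtain ⟨ζ, -, rfl⟩ := Multiset.mem_map.1 hmem
    refine ⟨ζ, fun h => ha0 ?_, rfl⟩
    rw [h, map_zero, zero_mul, zero_pow hepos.ne'] at hre
    exact eq_zero_of_pow_eq_zero hre.symm
  have hprod : ∀ S : Multiset L, (∀ r ∈ S, ∃ ζ : K, ζ ≠ 0 ∧ r = algebraMap K L ζ * a) →
      ∃ ζ : K, ζ ≠ 0 ∧ S.prod = algebraMap K L ζ * a ^ Multiset.card S := by
    intro S
    induction S using Multiset.induction_on with
    | empty => intro _; exact ⟨1, one_ne_zero, by simp⟩
    | cons r S ih =>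
      intro h
      obtain ⟨ζ, h0, hζ⟩ := h r (Multiset.mem_cons_self _ _)
      obtain ⟨η, h0', hη⟩ := ih fun x hx => h x (Multiset.mem_cons_of_mem hx)
      exact ⟨ζ * η, mul_ne_zero h0 h0', by rw [Multiset.prod_cons, hζ, hη, Multiset.card_cons, map_mul, pow_succ]; ring⟩
  obtain ⟨ζ, hζ0, hζ⟩ := hprod R hR
  have hcardR : Multiset.card R = m := by
    rw [← hsp.natDegree_eq_card_roots, Polynomial.natDegree_map]
  have ham : a ^ m ∈ L' := by
    have hc0 : ((-1 : L) ^ m * (algebraMap K L ζ * a ^ m)) ∈ L' := by
      have h2 := hsp.coeff_zero_eq_prod_roots_of_monic hgmon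
      rw [Polynomial.coeff_map, Polynomial.natDegree_map] at h2
      rw [show (-1 : L) ^ m * (algebraMap K L ζ * a ^ m) = algebraMap L' L (g.coeff 0) by rw [h2]; congr 1; rw [← hcardR, ← hζ]]
      exact (g.coeff 0).2
    have h2 : a ^ m = (algebraMap K L ζ)⁻¹ * ((-1 : L) ^ m * ((-1 : L) ^ m * (algebraMap K L ζ * a ^ m))) := by
      have : (algebraMap K L ζ) ≠ 0 := by simpa using hζ0
      rw [← mul_assoc ((-1 : L) ^ m), ← mul_pow]; field_simp; simp
    rw [h2]
    exact L'.mul_mem (L'.inv_mem (L'.algebraMap_mem ζ)) (L'.mul_mem (pow_mem (neg_mem L'.one_mem) m) hc0)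
  have hm : Module.finrank L' L = m := by
    have h1 : IntermediateField.adjoin L' {a} = ⊤ := by
      apply IntermediateField.restrictScalars_injective K
      rw [IntermediateField.restrictScalars_top, eq_top_iff, ← ha, IntermediateField.adjoin_le_iff, Set.singleton_subset_iff]
      exact IntermediateField.mem_adjoin_simple_self L' a
    rw [← IntermediateField.finrank_top', ← h1, IntermediateField.adjoin.finrank hint]
  have hdiv : m ∣ e := ⟨Module.finrank K L', by rw [← hm, mul_comm, he, Module.finrank_mul_finrank]⟩
  refine ⟨m, hdiv, (IntermediateField.eq_of_le_of_finrank_le' (IntermediateField.adjoin_le_iff.2 (Set.singleton_subset_iff.2 ham)) ?_).symm⟩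
  set M := IntermediateField.adjoin K {a ^ m}
  have hintM : IsIntegral M a := IsIntegral.of_finite _ a
  have h1 : IntermediateField.adjoin M {a} = ⊤ := by
    apply IntermediateField.restrictScalars_injective K
    rw [IntermediateField.restrictScalars_top, eq_top_iff, ← ha, IntermediateField.adjoin_le_iff, Set.singleton_subset_iff]
    exact IntermediateField.mem_adjoin_simple_self M a
  rw [hm, ← IntermediateField.finrank_top', ← h1, IntermediateField.adjoin.finrank hintM]
  have hmpos : 0 < m := minpoly.natDegree_pos hint
  set am : M := ⟨a ^ m, IntermediateField.mem_adjoin_simple_self K _⟩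
  refine le_trans (Polynomial.natDegree_le_of_dvd (minpoly.dvd M a (p := Polynomial.X ^ m - Polynomial.C am) ?_)
    (Polynomial.X_pow_sub_C_ne_zero hmpos am)) ?_
  · simp [am]
  · rw [Polynomial.natDegree_X_pow_sub_C]

end Groth.Agent.S6336
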