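import Groth.Statements.S6338
import Groth.Agent.CAlgML.ML

set_option autoImplicit false
universe u
open CAlg

namespace Groth.Agent.S6338

/-- Let M₁ → M₂ be a universally injective map of modules over a commutative ring (equivalently the
first map of a universally exact short exact sequence). If M₂ is Mittag-Leffler then so is M₁. -/
theorem result (R : Type u) [CommRing R] {M₁ M₂ : Type u}
    [AddCommGroup M₁] [Module R M₁] [AddCommGroup M₂] [Module R M₂] (f : M₁ →ₗ[R] M₂)
    (hf : CAlgX.UniversallyInjective R f) (h₂ : CAlg.IsMittagLeffler R M₂) :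
    CAlg.IsMittagLeffler R M₁ := by
  intro ι Q _ _
  refine (injective_iff_map_eq_zero _).2 fun x hx => ?_
  apply hf _
  rw [map_zero]
  exact h₂ ι Q (funext fun i => by rw [CAlgML.piRightHom_rTensor, hx]; simp)

end Groth.Agent.S6338
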