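import Groth.Statements.S6354
import Mathlib

set_option autoImplicit false
universe u
open CAlg

namespace Groth.Agent.S6354
open TensorProduct

open PrimeSpectrum in
/-- For an ideal I of a commutative ring R these four conditions are equivalent: (1) I is finitely
generated and pure; (2) I = (e) for some idempotent e; (3) I is pure with V(I) open in Spec R; (4)
R/I is projective as an R-module. -/
theorem result (R : Type u) [CommRing R] (I : Ideal R) :
    List.TFAE [I.Pure ∧ I.FG, ∃ e : R, IsIdempotentElem e ∧ I = Ideal.span {e},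
      I.Pure ∧ IsOpen (zeroLocus (I : Set R)), Module.Projective R (R ⧸ I)] := by
  tfae_have 1 → 2
  | ⟨hp, hfg⟩ => (I.isIdempotentElem_iff_of_fg hfg).1 I.isIdempotentElem_of_pure
  tfae_have 2 → 4
  | ⟨e, he, h⟩ => by
    subst h
    refine Module.Projective.of_split ((Ideal.span {e}).liftQ (LinearMap.mulLeft R (1 - e)) ?_) (Submodule.mkQ _) ?_
    · rw [Submodule.span_singleton_le_iff_mem, LinearMap.mem_ker, LinearMap.mulLeft_apply, sub_mul, one_mul, he.eq, sub_self]
    · refine LinearMap.ext fun x => ?_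
      obtain ⟨x, rfl⟩ := Submodule.mkQ_surjective _ x
      simp only [LinearMap.comp_apply, Submodule.mkQ_apply, Submodule.liftQ_apply, LinearMap.mulLeft_apply, LinearMap.id_apply]
      rw [Submodule.Quotient.eq]
      exact Ideal.mem_span_singleton.2 ⟨-x, by ring⟩
  tfae_have 4 → 1
  | h => by
    refine ⟨inferInstanceAs (Module.Flat R (R ⧸ I)), ?_⟩
    obtain ⟨s, hs⟩ := Module.projective_lifting_property (Submodule.mkQ I) LinearMap.id (Submodule.mkQ_surjective I)
    refine ⟨{1 - s (Submodule.Quotient.mk 1)}, le_antisymm ?_ ?_⟩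
    · simp only [Finset.coe_singleton, Submodule.span_singleton_le_iff_mem]
      rw [← Submodule.Quotient.mk_eq_zero, Submodule.Quotient.mk_sub]
      have := LinearMap.congr_fun hs (Submodule.Quotient.mk 1)
      simp only [LinearMap.comp_apply, Submodule.mkQ_apply, LinearMap.id_apply] at this
      rw [this, sub_self]
    · intro x hx
      rw [Finset.coe_singleton, Submodule.mem_span_singleton]
      refine ⟨x, ?_⟩
      have h0 : x • s (Submodule.Quotient.mk 1) = 0 := by
        rw [← map_smul, ← Submodule.Quotient.mk_smul, smul_eq_mul, mul_one, (Submodule.Quotient.mk_eq_zero I).2 hx, map_zero]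
      rw [smul_sub, h0, smul_eq_mul, mul_one, sub_zero]
  tfae_have 2 → 3
  | ⟨e, he, h⟩ => by
    refine ⟨h ▸ Ideal.Pure.of_isIdempotentElem ⟨{e}, by simp⟩ ((Ideal.isIdempotentElem_iff_of_fg _ ⟨{e}, by simp⟩).2 ⟨e, he, rfl⟩), ?_⟩
    rw [h, PrimeSpectrum.zeroLocus_span, PrimeSpectrum.zeroLocus_eq_basicOpen_of_isIdempotentElem e he]
    exact (PrimeSpectrum.basicOpen _).2
  tfae_have 3 → 2
  | ⟨hp, ho⟩ => by
    obtain ⟨e, he, heq⟩ := PrimeSpectrum.isClopen_iff_zeroLocus.1 ⟨PrimeSpectrum.isClosed_zeroLocus _, ho⟩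
    haveI : (Ideal.span {e}).Pure := Ideal.Pure.of_isIdempotentElem ⟨{e}, by simp⟩ ((Ideal.isIdempotentElem_iff_of_fg _ ⟨{e}, by simp⟩).2 ⟨e, he, rfl⟩)
    refine ⟨e, he, Ideal.zeroLocus_inj_of_pure.1 ?_⟩
    rw [heq, PrimeSpectrum.zeroLocus_span]
  tfae_finish

end Groth.Agent.S6354
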