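import Groth.Statements.S6362
import Mathlib

set_option autoImplicit false
universe u
open scoped TensorProduct
open Fields

namespace Groth.Agent.S6362

/-- Let K/F be a finite separable extension and L/F an extension with L algebraically closed. Then the
L-algebra map K ⊗_F L → ∏_σ L, indexed by the F-algebra maps σ : K → L and sending a ⊗ b to (σ(a)
b)_σ, is an isomorphism; stated as bijectivity of that map. -/
theorem result {F K L : Type u} [Field F] [Field K] [Field L]
    [Algebra F K] [Algebra F L] [FiniteDimensional F K] [Algebra.IsSeparable F K] [IsAlgClosed L] :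
    Function.Bijective (fun x : K ⊗[F] L => fun σ : K →ₐ[F] L =>
      Algebra.TensorProduct.lift σ (AlgHom.id F L) (fun a b => Commute.all (σ a) b) x) := by
  classical
  let b := Module.Free.chooseBasis F K
  have hcard : Fintype.card (Module.Free.ChooseBasisIndex F K) = Fintype.card (K →ₐ[F] L) := by
    rw [← Module.finrank_eq_card_basis b, AlgHom.card]
  let e := Fintype.equivOfCardEq hcard
  have hdet : (Algebra.embeddingsMatrixReindex F L b e).det ≠ 0 := by
    intro h
    have h1 := Algebra.discr_eq_det_embeddingsMatrixReindex_pow_two F L b e
    rw [h, zero_pow two_ne_zero, map_eq_zero] at h1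
    exact Algebra.discr_not_zero_of_basis F b h1
  set A := (Algebra.embeddingsMatrixReindex F L b e).transpose with hA
  have hAu : IsUnit A := by
    rw [Matrix.isUnit_iff_isUnit_det, hA, Matrix.det_transpose]; exact hdet.isUnit
  let E := TensorProduct.equivFinsuppOfBasisLeft (N := L) b
  have key : ∀ (x : K ⊗[F] L) (i : Module.Free.ChooseBasisIndex F K),
      Algebra.TensorProduct.lift (e i) (AlgHom.id F L) (fun a c => Commute.all (e i a) c) x =
        (A.mulVec (E x)) i := by
    intro x i
    induction x with
    | zero => simp
    | tmul a c =>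
      simp only [Algebra.TensorProduct.lift_tmul, AlgHom.id_apply, Matrix.mulVec, dotProduct]
      change e i a * c = _
      conv_lhs => rw [← b.sum_repr a, map_sum, Finset.sum_mul]
      refine Finset.sum_congr rfl fun j _ => ?_
      simp [hA, E, Algebra.embeddingsMatrixReindex, Algebra.embeddingsMatrix, Matrix.reindex_apply, Algebra.smul_def]
      ring
    | add u v hu hv => simp [map_add, hu, hv, Matrix.mulVec_add]
  have hbij : Function.Bijective (fun x : K ⊗[F] L => A.mulVec (E x)) := by
    refine Function.Bijective.comp (f := fun x : K ⊗[F] L => ((E x : _ →₀ L) : _ → L)) (g := A.mulVec) ?_ ?_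
    · exact ⟨Matrix.mulVec_injective_iff_isUnit.2 hAu, Matrix.mulVec_surjective_iff_isUnit.2 hAu⟩
    · exact (E.toEquiv.trans Finsupp.equivFunOnFinite).bijective
  have := (Equiv.piCongrLeft (fun _ : K →ₐ[F] L => L) e).bijective.comp hbij
  convert this using 1
  funext x σ
  obtain ⟨i, rfl⟩ := e.surjective σ
  simp only [Function.comp_apply, Equiv.piCongrLeft_apply_apply]
  exact key x i

end Groth.Agent.S6362
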