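import Groth.Statements.S6363
import Mathlib

set_option autoImplicit false
universe u
open scoped TensorProduct
open Fields

namespace Groth.Agent.S6363

/-- For a finite field extension L/K and a normal closure M of L/K, some K-algebra homomorphism from the
n-fold tensor power L ⊗_K ⋯ ⊗_K L to M is surjective, where n = [L : K]_s is the separable degree
(so n ≤ [L : K]). -/
theorem result {K L M : Type u} [Field K] [Field L] [Field M]
    [Algebra K L] [Algebra K M] [Algebra L M] [IsScalarTower K L M] [FiniteDimensional K L]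
    [IsNormalClosure K L M] :
    ∃ f : (⨂[K] _ : Fin (Field.finSepDegree K L), L) →ₐ[K] M, Function.Surjective f := by
  classical
  haveI : Normal K M := IsNormalClosure.normal (F := K) (K := L)
  have hsplit : ∀ x : L, ((minpoly K x).map (algebraMap K M)).Splits := IsNormalClosure.splits
  have hcard : Field.finSepDegree K L = Nat.card (L →ₐ[K] M) := by
    rw [Field.finSepDegree_eq_of_isAlgClosed K L (AlgebraicClosure M)]
    exact (Nat.card_congr (Algebra.IsAlgebraic.algHomEquivAlgHomOfSplits (A := AlgebraicClosure M) M hsplit)).symm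
  haveI : Finite (L →ₐ[K] M) := inferInstance
  let e : Fin (Field.finSepDegree K L) ≃ (L →ₐ[K] M) := (finCongr hcard).trans (Finite.equivFin _).symm
  let f : MultilinearMap K (fun _ : Fin (Field.finSepDegree K L) => L) M :=
    (MultilinearMap.mkPiAlgebra K (Fin (Field.finSepDegree K L)) M).compLinearMap fun i => (e i).toLinearMap
  have h1 : f 1 = 1 := by simp [f]
  have h2 : ∀ x y, f (x * y) = f x * f y := fun x y => by simp [f, Finset.prod_mul_distrib]
  refine ⟨PiTensorProduct.liftAlgHom f h1 h2, fun y => ?_⟩
  set φ := PiTensorProduct.liftAlgHom f h1 h2 with hφ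
  have htop : (⊤ : IntermediateField K M) ≤ IntermediateField.adjoin K (⋃ σ : L →ₐ[K] M, Set.range σ) := by
    rw [← IsNormalClosure.adjoin_rootSet (F := K) (K := L) (L := M), ← Algebra.IsAlgebraic.normalClosure_eq_iSup_adjoin_of_splits hsplit]; unfold IntermediateField.normalClosure
    refine iSup_le fun σ => ?_
    intro z hz
    exact IntermediateField.subset_adjoin K _ (Set.mem_iUnion.2 ⟨σ, hz⟩)
  have halg := IntermediateField.adjoin_toSubalgebra_of_isAlgebraic (F := K) (S := ⋃ σ : L →ₐ[K] M, Set.range σ)
    (fun z _ => Algebra.IsAlgebraic.isAlgebraic z)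
  have hy : y ∈ Algebra.adjoin K (⋃ σ : L →ₐ[K] M, Set.range σ) := by
    rw [← halg]; exact htop trivial
  have hle : Algebra.adjoin K (⋃ σ : L →ₐ[K] M, Set.range σ) ≤ φ.range := by
    refine Algebra.adjoin_le ?_
    rintro z hz
    obtain ⟨σ, x, rfl⟩ := Set.mem_iUnion.1 hz
    obtain ⟨i, rfl⟩ := e.surjective σ
    refine ⟨PiTensorProduct.tprod K (Pi.mulSingle i x), ?_⟩
    simp [φ, PiTensorProduct.liftAlgHom, f]
    rw [Finset.prod_eq_single i]
    · simp
    · intro j _ hj; simp [hj]
    · simp
  exact hle hy

end Groth.Agent.S6363
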