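import Groth.Statements.S6364
import Mathlib

set_option autoImplicit false
universe u
open Fields

namespace Groth.Agent.S6364

open IntermediateField in
/-- Let L/K be a finite extension and a ∈ L with minimal polynomial P over K. Then P ^ e, with e = [L :
K(a)], is the characteristic polynomial of multiplication by a (the K-linear map x ↦ a x on L), and
e · deg P = [L : K]. -/
theorem result {K L : Type u} [Field K] [Field L] [Algebra K L] [FiniteDimensional K L]
    (a : L) :
    (Algebra.lmul K L a).charpoly = minpoly K a ^ Module.finrank K⟮a⟯ L ∧
      Module.finrank K⟮a⟯ L * (minpoly K a).natDegree = Module.finrank K L := by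
  classical
  have hint : IsIntegral K a := IsIntegral.of_finite K a
  let pb := IntermediateField.adjoin.powerBasis hint
  let c := Module.finBasis K⟮a⟯ L
  constructor
  · rw [← LinearMap.charpoly_toMatrix _ (pb.basis.smulTower c)]
    have : LinearMap.toMatrix (pb.basis.smulTower c) (pb.basis.smulTower c) (Algebra.lmul K L a) =
        Algebra.leftMulMatrix (pb.basis.smulTower c) (algebraMap K⟮a⟯ L pb.gen) := by
      rw [Algebra.leftMulMatrix_apply]
      simp [pb]
    rw [this, Algebra.smulTower_leftMulMatrix_algebraMap]
    have hb : ∀ {m o : Type} [Fintype m] [DecidableEq m] [Fintype o] [DecidableEq o]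
        (M : Matrix m m K), (Matrix.blockDiagonal fun _ : o => M).charpoly =
          M.charpoly ^ Fintype.card o := by
      intro m o _ _ _ _ M
      have : (Matrix.blockDiagonal fun _ : o => M).charmatrix =
          Matrix.blockDiagonal fun _ : o => M.charmatrix := by
        ext ⟨i, k⟩ ⟨j, l⟩
        by_cases hkl : k = l <;> by_cases hij : i = j <;>
          simp [Matrix.charmatrix_apply, Matrix.blockDiagonal_apply, Matrix.diagonal, hkl, hij]
      simp [Matrix.charpoly, this, Matrix.det_blockDiagonal]
    rw [hb, Fintype.card_fin, charpoly_leftMulMatrix, IntermediateField.adjoin.powerBasis_gen,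
      IntermediateField.minpoly_gen]
  · rw [← IntermediateField.adjoin.finrank hint, mul_comm, Module.finrank_mul_finrank]

end Groth.Agent.S6364
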