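import Groth.Statements.S6372
import Mathlib

set_option autoImplicit false
universe u
open CAlg

namespace Groth.Agent.S6372
open TensorProduct

/-- A faithfully flat epimorphism of rings is an isomorphism: if R → S is faithfully flat and an
epimorphism in the category of rings then it is bijective. -/
theorem result (R S : Type u) [CommRing R] [CommRing S] [Algebra R S]
    [Module.FaithfullyFlat R S] [Algebra.IsEpi R S] : Function.Bijective (algebraMap R S) := by
  have : Function.Bijective ((Algebra.linearMap R S).lTensor S) := by
    have hr : Function.Bijective (TensorProduct.rid R S) := (TensorProduct.rid R S).bijective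
    have key : ∀ x : S ⊗[R] R, (Algebra.linearMap R S).lTensor S x = (TensorProduct.rid R S x) ⊗ₜ 1 := by
      intro x
      induction x with
      | zero => simp
      | add a b ha hb => simp [ha, hb, add_tmul]
      | tmul s r =>
        simp only [LinearMap.lTensor_tmul, Algebra.linearMap_apply, TensorProduct.rid_tmul]
        rw [Algebra.algebraMap_eq_smul_one, tmul_smul, smul_tmul']
    constructor
    · intro x y hxy
      rw [key, key] at hxy
      apply hr.1
      simpa using congrArg (TensorProduct.lift (LinearMap.mul R S)) hxy
    · intro z
      refine ⟨(TensorProduct.rid R S).symm (TensorProduct.lift (LinearMap.mul R S) z), ?_⟩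
      rw [key, LinearEquiv.apply_symm_apply]
      apply Algebra.IsEpi.injective_lift_mul
      simp
  exact ⟨(Module.FaithfullyFlat.lTensor_injective_iff_injective R S _).1 this.1,
    (Module.FaithfullyFlat.lTensor_surjective_iff_surjective R S _).1 this.2⟩

end Groth.Agent.S6372
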