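import Groth.Statements.S6375
import Mathlib

set_option autoImplicit false
universe u
open CAlg

namespace Groth.Agent.S6375
open TensorProduct

/-- For an infinite source ring: if R → S is an epimorphism of rings with R infinite, then |S| ≤ |R| as
cardinals. (For finite R the published statement also asserts |S| ≤ |R|, but its proof only gives
that S is countable and omits the rest, so that case is not included.) -/
theorem result (R S : Type u) [CommRing R] [CommRing S] [Algebra R S] [Algebra.IsEpi R S]
    [Infinite R] : Cardinal.mk S ≤ Cardinal.mk R := by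
  classical
  let π : R × (S →₀ R) →ₗ[R] S := (Algebra.linearMap R S).coprod (Finsupp.linearCombination R id)
  have hπ : Function.Surjective π := fun s => ⟨(0, Finsupp.single s 1), by simp [π]⟩
  let D := Σ mn : ℕ × ℕ, (Fin mn.1 → Fin mn.2 → R) × (Fin mn.1 → R) × (Fin mn.2 → R)
  let Rel : S → D → Prop := fun s D => ∃ (t : Fin D.1.2 → S) (y : Fin D.1.1 → S),
    (∀ a, ∑ i, D.2.1 a i • t i = -algebraMap R S (D.2.2.1 a)) ∧
    (∀ i, ∑ a, D.2.1 a i • y a = algebraMap R S (D.2.2.2 i)) ∧
    ∑ a, D.2.2.1 a • y a = -s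
  have key : ∀ D s s', Rel s D → Rel s' D → s = s' := by
    rintro ⟨⟨m, n⟩, P, c, d⟩ s s' ⟨t, y, h1, h2, h3⟩ ⟨t', y', h1', h2', h3'⟩
    have e : ∀ (t : Fin n → S) (y : Fin m → S), (∀ a, ∑ i, P a i • t i = -algebraMap R S (c a)) →
        ∑ a, y a * ∑ i, P a i • t i = -∑ a, c a • y a := by
      intro t y h
      rw [← Finset.sum_neg_distrib]
      refine Finset.sum_congr rfl fun a _ => ?_
      rw [h a, Algebra.smul_def]; ring
    have g : ∀ (t : Fin n → S) (y : Fin m → S), (∀ i, ∑ a, P a i • y a = algebraMap R S (d i)) →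
        ∑ a, y a * ∑ i, P a i • t i = ∑ i, algebraMap R S (d i) * t i := by
      intro t y h
      simp only [Finset.mul_sum, ← h, Finset.sum_mul, Algebra.smul_def]
      rw [Finset.sum_comm]
      exact Finset.sum_congr rfl fun i _ => Finset.sum_congr rfl fun a _ => by ring
    calc s = -∑ a, c a • y a := by rw [h3, neg_neg]
      _ = ∑ a, y a * ∑ i, P a i • t' i := (e t' y h1').symm
      _ = ∑ i, algebraMap R S (d i) * t' i := g t' y h2
      _ = ∑ a, y' a * ∑ i, P a i • t' i := (g t' y' h2').symm
      _ = -∑ a, c a • y' a := e t' y' h1'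
      _ = s' := by rw [h3', neg_neg]
  have ex : ∀ s, ∃ D, Rel s D := by
    intro s
    let z : (R × (S →₀ R)) ⊗[R] S := (0, Finsupp.single s 1) ⊗ₜ 1 - (1, 0) ⊗ₜ s
    have hz : π.rTensor S z = 0 := by
      simp [z, π, (Algebra.isEpi_iff_forall_one_tmul_eq R S).1 inferInstance s]
    have hex : Function.Exact (LinearMap.ker π).subtype π := LinearMap.exact_subtype_ker_map π
    obtain ⟨w, hw⟩ := (@rTensor_exact R (LinearMap.ker π) (R × (S →₀ R)) S _ _ _ _ _ _ _ (LinearMap.ker π).subtype π S _ _ hex hπ z).1 hz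
    obtain ⟨W, rfl⟩ := TensorProduct.exists_finset w
    rw [map_sum, ← Finset.sum_coe_sort] at hw
    let eW := W.equivFin.symm
    let T : Finset S := insert s (Finset.univ.biUnion fun a : Fin W.card => ((eW a).1.1.1).2.support)
    let eT := T.equivFin.symm
    refine ⟨⟨(W.card, T.card), fun a i => ((eW a).1.1.1).2 (eT i).1, fun a => ((eW a).1.1.1).1,
      fun i => if (eT i).1 = s then 1 else 0⟩, fun i => (eT i).1, fun a => (eW a).1.2, ?_, ?_, ?_⟩
    · intro a
      have h0 : π ((eW a).1.1.1) = 0 := (eW a).1.1.2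
      simp only [π, LinearMap.coprod_apply, Algebra.linearMap_apply] at h0
      rw [eq_neg_iff_add_eq_zero, add_comm, ← h0, Finsupp.linearCombination_apply]
      congr 1
      rw [eT.sum_comp (fun i : T => ((eW a).1.1.1).2 i.1 • i.1), Finset.sum_coe_sort T (fun i => ((eW a).1.1.1).2 i • i),
        Finsupp.sum_of_support_subset _ (s := T) ?_ _ (by simp)]
      · rfl
      · exact fun x hx => Finset.mem_insert_of_mem (Finset.mem_biUnion.2 ⟨a, Finset.mem_univ _, hx⟩)
    · intro i
      have := congrArg (fun z => TensorProduct.lid R S (LinearMap.rTensor S ((Finsupp.lapply (eT i).1).comp (LinearMap.snd R R (S →₀ R))) z)) hw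
      simp only [map_sum, LinearMap.rTensor_tmul, z, map_sub, LinearMap.comp_apply, LinearMap.snd_apply, TensorProduct.lid_tmul, Submodule.subtype_apply, Finsupp.lapply_apply, Finsupp.single_apply, Finsupp.zero_apply, zero_smul, sub_zero] at this
      rw [eW.sum_comp (fun a : W => (a.1.1.1).2 (eT i).1 • a.1.2), this]
      simp only [eq_comm (a := s)]
      split <;> simp
    · have := congrArg (fun z => TensorProduct.lid R S (LinearMap.rTensor S (LinearMap.fst R R (S →₀ R)) z)) hw
      simp only [map_sum, LinearMap.rTensor_tmul, z, map_sub, LinearMap.fst_apply, TensorProduct.lid_tmul, Submodule.subtype_apply, zero_smul, zero_sub, one_smul] at this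
      rw [eW.sum_comp (fun a : W => (a.1.1.1).1 • a.1.2), this]
  choose F hF using ex
  have hinj : Function.Injective F := fun s s' h => key _ s s' (hF s) (h ▸ hF s')
  refine (Cardinal.mk_le_of_injective hinj).trans ?_
  have hR := Cardinal.aleph0_le_mk R
  rw [Cardinal.mk_sigma]
  refine (Cardinal.sum_le_lift_mk_mul_iSup _).trans ?_
  refine (mul_le_mul' ?_ (ciSup_le' fun mn => ?_)).trans (Cardinal.mul_eq_self hR).le
  · simpa using hR
  · simp only [Cardinal.mk_prod, Cardinal.lift_id]
    have hp : ∀ (k : ℕ) (X : Type u), Cardinal.mk X ≤ Cardinal.mk R → Cardinal.mk (Fin k → X) ≤ Cardinal.mk R := by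
      intro k X hX
      rw [Cardinal.mk_arrow]
      simp only [Cardinal.lift_id', Cardinal.mk_fin, Cardinal.lift_natCast, Cardinal.lift_uzero]
      exact (Cardinal.power_le_power_right hX).trans (Cardinal.power_nat_le hR)
    exact (mul_le_mul' (hp _ _ (hp _ _ le_rfl)) ((mul_le_mul' (hp _ _ le_rfl) (hp _ _ le_rfl)).trans (Cardinal.mul_eq_self hR).le)).trans (Cardinal.mul_eq_self hR).le

end Groth.Agent.S6375
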