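import Groth.Statements.S6381
import Mathlib
import Groth.Agent.CAlgResExt.FiniteFree

set_option autoImplicit false
universe u
open CAlg

namespace Groth.Agent.S6381

/-- Let R be a ring, p ⊆ R a prime and L a finite extension of the residue field κ(p). Then one can find
a ring map R → S, with S finite free over R, for which q = pS is a prime of S and the residue field
κ(q) is isomorphic to L over κ(p) (stated as a ring isomorphism κ(q) ≅ L compatible with the maps
from R, which determines compatibility with κ(p)). -/
theorem result (R : Type u) [CommRing R] (p : Ideal R) [p.IsPrime]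
    (L : Type u) [Field L] [Algebra p.ResidueField L] [FiniteDimensional p.ResidueField L]
    [Algebra R L] [IsScalarTower R p.ResidueField L] :
    ∃ (S : Type u) (_ : CommRing S) (_ : Algebra R S) (_ : Module.Finite R S) (_ : Module.Free R S)
      (_ : (p.map (algebraMap R S)).IsPrime)
      (e : (p.map (algebraMap R S)).ResidueField ≃+* L),
      ∀ r : R, e (algebraMap R (p.map (algebraMap R S)).ResidueField r) = algebraMap R L r := by
  classical
  let κ := p.ResidueField
  let χ := algebraMap R L
  have hrange : ∀ c : κ, algebraMap κ L c ∈ Subfield.closure (Set.range χ) := fun c => by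
    obtain ⟨a, b, -, rfl⟩ := IsFractionRing.div_surjective (R ⧸ p) c
    obtain ⟨a, rfl⟩ := Ideal.Quotient.mk_surjective a
    obtain ⟨b, rfl⟩ := Ideal.Quotient.mk_surjective b
    rw [map_div₀]
    have h : ∀ r : R, algebraMap κ L (algebraMap (R ⧸ p) κ (Ideal.Quotient.mk p r)) ∈
        Subfield.closure (Set.range χ) := fun r => by
      rw [← Ideal.Quotient.algebraMap_eq, ← IsScalarTower.algebraMap_apply R (R ⧸ p) κ,
        ← IsScalarTower.algebraMap_apply R κ L]
      exact Subfield.subset_closure ⟨r, rfl⟩
    exact div_mem (h a) (h b)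
  let bL := Module.finBasis κ L
  obtain ⟨S, _, _, _, _, ψ, hψ, hker, hs⟩ := CAlgResExt.exists_finite_free_adjoin χ
    (Finset.univ.image bL) (fun x _ => by
      obtain ⟨q, hq, hqx⟩ := (Algebra.IsIntegral.isIntegral (R := κ) x)
      refine ⟨q.map ((algebraMap κ L).codRestrict _ hrange), hq.map _, ?_⟩
      rw [Polynomial.eval₂_map]
      exact hqx)
  have hkerχ : RingHom.ker χ = p := by
    show RingHom.ker (algebraMap R L) = p
    rw [IsScalarTower.algebraMap_eq R κ L, RingHom.ker_comp_of_injective _ (algebraMap κ L).injective]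
    exact Ideal.ker_algebraMap_residueField p
  rw [hkerχ] at hker
  haveI hq : (p.map (algebraMap R S)).IsPrime := hker ▸ RingHom.ker_isPrime ψ
  let ι : (p.map (algebraMap R S)).ResidueField →+* L := Ideal.ResidueField.lift _ ψ hker.ge
    (fun x hx => isUnit_iff_ne_zero.2 fun h => hx (hker.le h))
  have hι : ∀ t, ι (algebraMap S _ t) = ψ t := fun t => Ideal.ResidueField.lift_algebraMap _ _ _ _ t
  have hsurj : Function.Surjective ι := by
    have hF : ∀ y ∈ Subfield.closure (Set.range ψ), y ∈ ι.fieldRange := fun y hy => by
      refine (Subfield.closure_le.2 ?_) hy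
      rintro _ ⟨t, rfl⟩
      exact ⟨_, hι t⟩
    intro y
    rw [← Set.mem_range, ← RingHom.coe_fieldRange]
    rw [← bL.sum_repr y]
    refine sum_mem fun i _ => ?_
    rw [Algebra.smul_def]
    refine mul_mem (hF _ (Subfield.closure_mono ?_ (hrange _))) (hF _ (hs _ (Finset.mem_image.2 ⟨i, Finset.mem_univ i, rfl⟩)))
    rintro _ ⟨r, rfl⟩
    exact ⟨algebraMap R S r, RingHom.congr_fun hψ r⟩
  refine ⟨S, inferInstance, inferInstance, inferInstance, inferInstance, hq,
    RingEquiv.ofBijective ι ⟨ι.injective, hsurj⟩, fun r => ?_⟩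
  show ι _ = _
  rw [IsScalarTower.algebraMap_apply R S (p.map (algebraMap R S)).ResidueField, hι, ← RingHom.comp_apply, hψ]

end Groth.Agent.S6381
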