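import Groth.Statements.S6382
import Groth.Agent.CAlgFlat.Square

set_option autoImplicit false
universe u
open CAlg

namespace Groth.Agent.S6382

/-- Consider a commutative square of local rings and local homomorphisms R → S, R → R', S → S', R' → S',
and a finite S-module M. Assume the maps R → R' and S → S' are flat, M is flat over R, the maximal
ideal of R generates the maximal ideal of R', and R', S' are Noetherian. Then M' = M ⊗_S S' (any
base change of M along S → S') is flat over R'. -/
theorem result (R S R' S' : Type u) [CommRing R] [CommRing S]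
    [CommRing R'] [CommRing S'] [IsLocalRing R] [IsLocalRing S] [IsLocalRing R'] [IsLocalRing S']
    [Algebra R S] [Algebra R R'] [Algebra S S'] [Algebra R' S'] [Algebra R S']
    [IsScalarTower R S S'] [IsScalarTower R R' S']
    [IsLocalHom (algebraMap R S)] [IsLocalHom (algebraMap R R')] [IsLocalHom (algebraMap S S')]
    [IsLocalHom (algebraMap R' S')] [Module.Flat R R'] [Module.Flat S S']
    [IsNoetherianRing R'] [IsNoetherianRing S']
    (hm : (IsLocalRing.maximalIdeal R).map (algebraMap R R') = IsLocalRing.maximalIdeal R')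
    (M : Type u) [AddCommGroup M] [Module S M] [Module R M] [IsScalarTower R S M] [Module.Finite S M]
    [Module.Flat R M]
    (M' : Type u) [AddCommGroup M'] [Module S' M'] [Module S M'] [IsScalarTower S S' M'] [Module R' M']
    [IsScalarTower R' S' M'] (j : M →ₗ[S] M') (hj : IsBaseChange S' j) :
    Module.Flat R' M' := by
  open TensorProduct in
  letI : Module R M' := Module.compHom M' (algebraMap R S')
  haveI : IsScalarTower R S' M' := IsScalarTower.of_compHom R S' M'
  haveI : IsScalarTower R S M' := ⟨fun r s x => by
    rw [← IsScalarTower.algebraMap_smul S' (r • s) x, Algebra.smul_def r s, map_mul, mul_smul,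
      ← IsScalarTower.algebraMap_apply, IsScalarTower.algebraMap_smul S' s x]
    rfl⟩
  haveI : IsScalarTower R R' M' := ⟨fun r a x => by
    rw [← IsScalarTower.algebraMap_smul S' (r • a) x, Algebra.smul_def r a, map_mul, mul_smul,
      ← IsScalarTower.algebraMap_apply, IsScalarTower.algebraMap_smul S' a x]
    rfl⟩
  haveI : Module.Flat R (S' ⊗[S] M) := Groth.Agent.CAlgFlat.flat_tensor R S S' M
  haveI : Module.Flat R M' := Module.Flat.of_linearEquiv (hj.equiv.restrictScalars R).symm
  haveI : Module.Finite S' M' := Module.Finite.equiv hj.equiv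
  let m := IsLocalRing.maximalIdeal R
  let m' := IsLocalRing.maximalIdeal R'
  let ι : m →ₗ[R] m' :=
    { toFun := fun x => ⟨algebraMap R R' x, by
        show algebraMap R R' x ∈ IsLocalRing.maximalIdeal R'
        rw [← hm]; exact Ideal.mem_map_of_mem _ x.2⟩
      map_add' := fun x y => Subtype.ext (map_add _ _ _)
      map_smul' := fun r x => Subtype.ext (by simp [Algebra.smul_def]) }
  let φ : M' ⊗[R] m →ₗ[R] M' ⊗[R'] m' :=
    TensorProduct.lift (LinearMap.mk₂ R (fun x a => x ⊗ₜ[R'] ι a) (fun x y a => TensorProduct.add_tmul x y _)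
      (fun c x a => by rw [TensorProduct.smul_tmul']) (fun x a b => by rw [map_add, TensorProduct.tmul_add])
      (fun c x a => by
        rw [LinearMap.map_smul, ← IsScalarTower.algebraMap_smul R' c (ι a), TensorProduct.tmul_smul,
          IsScalarTower.algebraMap_smul]))
  have hφ : Function.Surjective φ := fun y => by
    induction y using TensorProduct.induction_on with
    | zero => exact ⟨0, map_zero _⟩
    | tmul x a =>
      have key : ∀ a' : R', a' ∈ (IsLocalRing.maximalIdeal R).map (algebraMap R R') →
          ∃ h' : a' ∈ m', ∀ z : M', ∃ w, φ w = z ⊗ₜ[R'] (⟨a', h'⟩ : m') := by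
        intro a' ha
        induction ha using Submodule.span_induction with
        | mem b hb =>
          obtain ⟨c, hc, rfl⟩ := hb
          exact ⟨(ι ⟨c, hc⟩).2, fun z => ⟨z ⊗ₜ ⟨c, hc⟩, rfl⟩⟩
        | zero => exact ⟨zero_mem m', fun z => ⟨0, by
            rw [map_zero]; exact (TensorProduct.tmul_zero m' z).symm⟩⟩
        | add b c _ _ hb hc =>
          obtain ⟨hb', hb⟩ := hb
          obtain ⟨hc', hc⟩ := hc
          refine ⟨add_mem hb' hc', fun z => ?_⟩
          obtain ⟨u, hu⟩ := hb z
          obtain ⟨v, hv⟩ := hc z
          exact ⟨u + v, by rw [map_add, hu, hv, ← TensorProduct.tmul_add]; rfl⟩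
        | smul r b _ hb =>
          obtain ⟨hb', hb⟩ := hb
          refine ⟨m'.mul_mem_left r hb', fun z => ?_⟩
          obtain ⟨u, hu⟩ := hb (r • z)
          exact ⟨u, by rw [hu, TensorProduct.smul_tmul]; rfl⟩
      obtain ⟨h', hh⟩ := key a (hm ▸ a.2)
      exact hh x
    | add u v hu hv =>
      obtain ⟨a, rfl⟩ := hu
      obtain ⟨b, rfl⟩ := hv
      exact ⟨a + b, map_add _ _ _⟩
  have hcomm : ∀ w, TensorProduct.rid R' M' ((Submodule.subtype m').lTensor M' (φ w)) =
      TensorProduct.rid R M' ((Submodule.subtype m).lTensor M' w) := fun w => by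
    induction w using TensorProduct.induction_on with
    | zero => simp
    | tmul x a =>
      show algebraMap R R' (a : R) • x = (a : R) • x
      rw [IsScalarTower.algebraMap_smul]
    | add u v hu hv => simp only [map_add, hu, hv]
  have hinj : Function.Injective ((Submodule.subtype m).lTensor M') :=
    Module.Flat.lTensor_preserves_injective_linearMap _ (Submodule.subtype_injective m)
  have h1 : Function.Injective ((Submodule.subtype m').lTensor M') := fun a b hab => by
    obtain ⟨a, rfl⟩ := hφ a
    obtain ⟨b, rfl⟩ := hφ b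
    have h2 := congrArg (TensorProduct.rid R' M') hab
    rw [hcomm, hcomm] at h2
    rw [hinj ((TensorProduct.rid R M').injective h2)]
  haveI : Module.Flat (R' ⧸ m') ((R' ⧸ m') ⊗[R'] M') :=
    inferInstanceAs (Module.Flat (IsLocalRing.ResidueField R') (IsLocalRing.ResidueField R' ⊗[R'] M'))
  exact Groth.Agent.FlatCrit.flat_of_le_jacobson (S := S')
    ((show (IsLocalRing.maximalIdeal R').map (algebraMap R' S') ≤ IsLocalRing.maximalIdeal S' from
      Ideal.map_le_iff_le_comap.2 fun a ha hu => ha (isUnit_of_map_unit _ a hu)).trans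
      (IsLocalRing.maximalIdeal_le_jacobson _)) h1

end Groth.Agent.S6382
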