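import Groth.Statements.S6386
import Mathlib

set_option autoImplicit false
universe u
open CAlg

namespace Groth.Agent.S6386
open TensorProduct

/-- The key step of its proof: let A be a ring, κ = max(|A|, ℵ₀), and B a flat A-algebra. Then every
A-subalgebra E ⊆ B with at most κ elements lies inside a flat A-subalgebra B' ⊆ B with at most κ
elements. Consequently B is the filtered colimit (union) of its flat A-subalgebras of cardinality at
most κ. -/
theorem result (A B : Type u) [CommRing A] [CommRing B] [Algebra A B]
    [Module.Flat A B] (E : Subalgebra A B) (hE : Cardinal.mk E ≤ max (Cardinal.mk A) Cardinal.aleph0) :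
    ∃ B' : Subalgebra A B, E ≤ B' ∧ Module.Flat A B' ∧ Cardinal.mk B' ≤ max (Cardinal.mk A) Cardinal.aleph0 := by
  classical
  set κ := max (Cardinal.mk A) Cardinal.aleph0
  have hκ : Cardinal.aleph0 ≤ κ := le_max_right _ _
  let P (l : List (A × B)) : Prop := ∑ i : Fin l.length, l[i].1 • l[i].2 = 0
  have wit : ∀ l : List (A × B), P l → ∃ t : Finset B, ∀ C : Subalgebra A B, ↑t ⊆ (C : Set B) →
      ∃ (k : ℕ) (a : Fin l.length → Fin k → A) (y : Fin k → C),
        (∀ i, l[i].2 = ∑ j, a i j • (y j : B)) ∧ ∀ j, ∑ i, l[i].1 * a i j = 0 := by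
    intro l hl
    obtain ⟨k, a, y, h1, h2⟩ := Module.Flat.isTrivialRelation_of_sum_smul_eq_zero (R := A) (M := B) hl
    exact ⟨Finset.univ.image y, fun C hC => ⟨k, a, fun j => ⟨y j, hC (by simp)⟩, h1, h2⟩⟩
  let w : List (A × B) → Finset B := fun l => if h : P l then (wit l h).choose else ∅
  let step (C : Subalgebra A B) : Subalgebra A B :=
    Algebra.adjoin A ((C : Set B) ∪ ⋃ l : List (A × C), ↑(w (l.map fun p => (p.1, (p.2 : B)))))
  have hstep : ∀ C, C ≤ step C := fun C x hx => Algebra.subset_adjoin (Or.inl hx)
  have hcard : ∀ C : Subalgebra A B, Cardinal.mk C ≤ κ → Cardinal.mk (step C) ≤ κ := by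
    intro C hC
    have hs : Cardinal.mk ↥((C : Set B) ∪ ⋃ l : List (A × C), ↑(w (l.map fun p => (p.1, (p.2 : B))))) ≤ κ := by
      refine (Cardinal.mk_union_le _ _).trans ((Cardinal.add_le_max _ _).trans ?_)
      refine max_le (max_le hC ?_) hκ
      refine (Cardinal.mk_iUnion_le _).trans ?_
      have hl : Cardinal.mk (List (A × C)) ≤ κ := by
        refine (Cardinal.mk_list_le_max _).trans (max_le hκ ?_)
        rw [Cardinal.mk_prod, Cardinal.lift_id, Cardinal.lift_id]
        exact (mul_le_mul' (le_max_left _ _) hC).trans (Cardinal.mul_eq_self hκ).le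
      refine (mul_le_mul' hl ?_).trans (Cardinal.mul_eq_self hκ).le
      refine ciSup_le' fun l => ?_
      exact ((Finset.finite_toSet _).lt_aleph0).le.trans hκ
    set s := (C : Set B) ∪ ⋃ l : List (A × C), ↑(w (l.map fun p => (p.1, (p.2 : B))))
    have : Cardinal.mk (step C) ≤ Cardinal.mk (MvPolynomial s A) := by
      show Cardinal.mk ↥(Algebra.adjoin A s) ≤ _
      rw [Algebra.adjoin_eq_range]
      exact Cardinal.mk_le_of_surjective (AlgHom.rangeRestrict_surjective _)
    exact this.trans ((MvPolynomial.cardinalMk_le_max).trans (max_le (max_le (le_max_left _ _) hs) hκ))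
  let C : ℕ → Subalgebra A B := fun n => step^[n] E
  have hC : ∀ n, Cardinal.mk (C n) ≤ κ := by
    intro n
    induction n with
    | zero => simpa [C] using hE
    | succ n ih => simpa [C, Function.iterate_succ_apply'] using hcard _ ih
  have hmono : Monotone C := monotone_nat_of_le_succ fun n => by
    simpa [C, Function.iterate_succ_apply'] using hstep (C n)
  refine ⟨⨆ n, C n, le_iSup C 0, ?_, ?_⟩
  · rw [Module.Flat.iff_forall_isTrivialRelation]
    intro l f x hfx
    have hx : ∀ i, ∃ n, (x i : B) ∈ C n := fun i => by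
      have := (x i).2
      rw [← SetLike.mem_coe, Subalgebra.coe_iSup_of_directed hmono.directed_le, Set.mem_iUnion] at this
      exact this
    choose n hn using hx
    let N := Finset.univ.sup n
    have hN : ∀ i, (x i : B) ∈ C N := fun i => hmono (Finset.le_sup (Finset.mem_univ i)) (hn i)
    let L : List (A × C N) := List.ofFn fun i => (f i, (⟨x i, hN i⟩ : C N))
    let L' := L.map fun p => (p.1, (p.2 : B))
    have hlen : L'.length = l := by simp [L', L]
    have hP : P L' := by
      simp only [P]
      rw [← (finCongr hlen.symm).sum_comp]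
      have := congrArg Subtype.val hfx
      simpa [L', L] using this
    have hsub : (↑(w L') : Set B) ⊆ C (N + 1) := by
      intro z hz
      simp only [C, Function.iterate_succ_apply']
      exact Algebra.subset_adjoin (Or.inr (Set.mem_iUnion.2 ⟨L, hz⟩))
    have hw : w L' = (wit L' hP).choose := dif_pos hP
    obtain ⟨k, a, y, h1, h2⟩ := (wit L' hP).choose_spec _ (hw ▸ hsub)
    refine ⟨k, fun i j => a (Fin.cast hlen.symm i) j, fun j => ⟨y j, le_iSup C (N+1) (y j).2⟩, fun i => ?_, fun j => ?_⟩
    · apply Subtype.ext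
      have := h1 (Fin.cast hlen.symm i)
      simp only [L', L] at this
      simpa using this
    · have := h2 j
      rw [← (finCongr hlen.symm).sum_comp] at this
      simpa [L', L] using this
  · have : (((⨆ n, C n : Subalgebra A B)) : Set B) = ⋃ n, (C n : Set B) := Subalgebra.coe_iSup_of_directed hmono.directed_le
    show Cardinal.mk ↥((⨆ n, C n : Subalgebra A B) : Set B) ≤ κ
    rw [this]
    refine (Cardinal.mk_iUnion_le_lift (fun n => (C n : Set B))) |> fun h => ?_
    simp only [Cardinal.lift_uzero, Cardinal.mk_eq_aleph0, Cardinal.lift_aleph0] at h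
    refine h.trans ?_
    refine (mul_le_mul' hκ (ciSup_le' fun n => ?_)).trans (Cardinal.mul_eq_self hκ).le
    exact hC n

end Groth.Agent.S6386
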