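import Groth.Statements.S6387
import Groth.Agent.CAlgFlat.Complex

set_option autoImplicit false
universe u
open CategoryTheory
open CAlg

namespace Groth.Agent.S6387

/-- Let R and S be Noetherian local rings, R → S a local ring map, and m the maximal ideal of R. Take a
bounded complex F_e → … → F_1 → F_0 of finitely generated S-modules, zero to the left of F_e (a
chain complex C with C_j = 0 for j > e) such that every F_j is flat over R and the complex 0 →
F_e/mF_e → … → F_0/mF_0 (C tensored over S with S/mS) is exact at F_e, …, F_1. Then 0 → F_e → … →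
F_0 is exact at F_e, …, F_1 and the cokernel of F_1 → F_0 (the homology of C in degree 0) is flat
over R. -/
theorem result {R S : Type u} [CommRing R] [CommRing S]
    [IsLocalRing R] [IsLocalRing S] [IsNoetherianRing R] [IsNoetherianRing S] [Algebra R S]
    [IsLocalHom (algebraMap R S)] (C : ChainComplex (ModuleCat.{u} S) ℕ) (e : ℕ)
    (hzero : ∀ j, e < j → Limits.IsZero (C.X j)) (hfin : ∀ j, Module.Finite S (C.X j))
    (hflat : ∀ j, Module.Flat R ((ModuleCat.restrictScalars (algebraMap R S)).obj (C.X j)))
    (hex : ∀ j, 1 ≤ j → j ≤ e →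
      (((MonoidalCategory.tensorLeft
          (ModuleCat.of S (S ⧸ (IsLocalRing.maximalIdeal R).map (algebraMap R S)))).mapHomologicalComplex
          (ComplexShape.down ℕ)).obj C).ExactAt j) :
    (∀ j, 1 ≤ j → j ≤ e → C.ExactAt j) ∧
      Module.Flat R ((ModuleCat.restrictScalars (algebraMap R S)).obj (C.homology 0)) := by
  letI : ∀ j, Module R (C.X j) := fun j => Module.compHom (C.X j) (algebraMap R S)
  haveI : ∀ j, IsScalarTower R S (C.X j) := fun j => IsScalarTower.of_compHom R S (C.X j)
  haveI : ∀ j, Module.Flat R (C.X j) := fun j => hflat j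
  haveI : ∀ j, Module.Finite S (C.X j) := hfin
  have hS : (IsLocalRing.maximalIdeal R).map (algebraMap R S) ≤ Ideal.jacobson ⊥ :=
    (show (IsLocalRing.maximalIdeal R).map (algebraMap R S) ≤ IsLocalRing.maximalIdeal S from
      Ideal.map_le_iff_le_comap.2 fun a ha hu => ha (isUnit_of_map_unit _ a hu)).trans
      (IsLocalRing.maximalIdeal_le_jacobson _)
  have key := Groth.Agent.CAlgFlat.exact_and_flat hS (fun j => C.X j) (fun i j => (C.d i j).hom) (e := e)
    (fun j hj => ModuleCat.subsingleton_of_isZero (hzero j hj))
    (fun i j k x => by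
      show (C.d i j ≫ C.d j k).hom x = 0
      rw [C.d_comp_d]; rfl)
    (fun j hj => by
      have h := hex (j + 1) (by omega) hj
      rw [HomologicalComplex.exactAt_iff' _ (j + 2) (j + 1) j (by simp) (by simp),
        CategoryTheory.ShortComplex.moduleCat_exact_iff_range_eq_ker] at h
      exact LinearMap.exact_iff.2 h.symm)
  refine ⟨fun j hj1 hje => ?_, ?_⟩
  · obtain ⟨i, rfl⟩ : ∃ i, j = i + 1 := ⟨j - 1, by omega⟩
    rw [HomologicalComplex.exactAt_iff' _ (i + 2) (i + 1) i (by simp) (by simp),
      CategoryTheory.ShortComplex.moduleCat_exact_iff_range_eq_ker]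
    exact (LinearMap.exact_iff.1 (key e i (by omega)).2).symm
  · haveI := (key e 0 (by omega)).1
    have h1 := C.opcyclesIsCokernel 1 0 (by simp)
    have h2 := ModuleCat.cokernelIsColimit (C.d 1 0)
    let eI := C.isoHomologyι₀ ≪≫ h1.coconePointUniqueUpToIso h2
    let eL : (C.homology 0) ≃ₗ[S] (C.X 0 ⧸ LinearMap.range (C.d 1 0).hom) := eI.toLinearEquiv
    letI : Module R (C.homology 0) := Module.compHom (C.homology 0) (algebraMap R S)
    haveI : IsScalarTower R S (C.homology 0) := IsScalarTower.of_compHom R S (C.homology 0)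
    show Module.Flat R (C.homology 0)
    exact Module.Flat.of_linearEquiv (eL.restrictScalars R)

end Groth.Agent.S6387
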