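import Groth.Statements.S6391
import Mathlib
import Groth.Agent.IndEt.Basic
import Groth.Agent.Hensel.EtaleLift

set_option autoImplicit false
universe u
open CAlg

namespace Groth.Agent.S6391

open TensorProduct in
theorem existsUnique_hom {R S S' K : Type u} [CommRing R] [CommRing S] [CommRing S'] [Field K]
    [HenselianLocalRing S'] [Algebra R S] [Algebra R S'] [Algebra R K]
    (hS : EtPBC.IsIndEtale R S) (u : S →ₐ[R] K) (u' : S' →ₐ[R] K) (hu' : Function.Surjective u')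
    (hku' : RingHom.ker u'.toRingHom = IsLocalRing.maximalIdeal S') :
    ∃! τ : S →ₐ[R] S', u'.comp τ = u := by
  classical
  have hF := Groth.Agent.IndEt.etFactors_of_isIndEtale hS
  have lift1 : ∀ (E : Type u) [CommRing E] [Algebra R E] [Algebra.Etale R E] (v : E →ₐ[R] S),
      ∃! τ : E →ₐ[R] S', u'.comp τ = u.comp v := by
    intro E _ _ _ v
    let I := RingHom.ker u'.toRingHom
    let q : (S' ⧸ I) ≃ₐ[R] K := Ideal.quotientKerAlgEquivOfSurjective hu'
    have hI : Groth.Agent.Hensel.GabberRoot S' I := by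
      rw [show I = IsLocalRing.maximalIdeal S' from hku']
      exact Groth.Agent.Hensel.gabberRoot_of_henselianLocalRing
    obtain ⟨τ, hτ, huniq⟩ := Groth.Agent.Hensel.exists_algHom_lift_etale I hI E
      (q.symm.toAlgHom.comp (u.comp v))
    have hq : ∀ s, q (Ideal.Quotient.mk I s) = u' s := fun s => rfl
    refine ⟨τ, AlgHom.ext fun x => ?_, fun τ' hτ' => huniq τ' (AlgHom.ext fun x => ?_)⟩
    · have := congrArg q (AlgHom.congr_fun hτ x)
      simpa [hq] using this
    · apply q.injective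
      simpa [hq] using AlgHom.congr_fun hτ' x
  -- well-definedness
  have wd : ∀ (E₁ E₂ : Type u) [CommRing E₁] [CommRing E₂] [Algebra R E₁] [Algebra R E₂]
      [Algebra.Etale R E₁] [Algebra.Etale R E₂] (v₁ : E₁ →ₐ[R] S) (v₂ : E₂ →ₐ[R] S)
      (τ₁ : E₁ →ₐ[R] S') (τ₂ : E₂ →ₐ[R] S'), u'.comp τ₁ = u.comp v₁ → u'.comp τ₂ = u.comp v₂ →
      ∀ (x₁ : E₁) (x₂ : E₂), v₁ x₁ = v₂ x₂ → τ₁ x₁ = τ₂ x₂ := by
    intro E₁ E₂ _ _ _ _ _ _ v₁ v₂ τ₁ τ₂ h₁ h₂ x₁ x₂ hx
    have : Algebra.Etale R (E₁ ⊗[R] E₂) := Algebra.Etale.comp R E₁ (E₁ ⊗[R] E₂)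
    let J : Ideal (E₁ ⊗[R] E₂) := Ideal.span {x₁ ⊗ₜ 1 - 1 ⊗ₜ x₂}
    have : Algebra.FinitePresentation R ((E₁ ⊗[R] E₂) ⧸ J) :=
      Algebra.FinitePresentation.quotient ⟨{x₁ ⊗ₜ 1 - 1 ⊗ₜ x₂}, by simp [J]⟩
    let v := Algebra.TensorProduct.lift v₁ v₂ fun _ _ => .all _ _
    obtain ⟨E, _, _, _, w, vE, hw⟩ := hF ((E₁ ⊗[R] E₂) ⧸ J) (Ideal.Quotient.liftₐ J v fun a ha => by
      obtain ⟨c, rfl⟩ := Ideal.mem_span_singleton'.mp ha
      simp [v, hx])
    obtain ⟨τ, hτ, -⟩ := lift1 E vE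
    let w' := w.comp (Ideal.Quotient.mkₐ R J)
    have hw' : ∀ z, vE (w' z) = v z := fun z => AlgHom.congr_fun hw (Ideal.Quotient.mkₐ R J z)
    have e1 : (τ.comp w').comp Algebra.TensorProduct.includeLeft = τ₁ := by
      refine (lift1 E₁ v₁).unique (AlgHom.ext fun z => ?_) h₁
      have := AlgHom.congr_fun hτ (w' (z ⊗ₜ 1))
      simpa [hw', v] using this
    have e2 : (τ.comp w').comp Algebra.TensorProduct.includeRight = τ₂ := by
      refine (lift1 E₂ v₂).unique (AlgHom.ext fun z => ?_) h₂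
      have := AlgHom.congr_fun hτ (w' (1 ⊗ₜ z))
      simpa [hw', v] using this
    rw [← e1, ← e2]
    have h0 : Ideal.Quotient.mkₐ R J (x₁ ⊗ₜ 1) = Ideal.Quotient.mkₐ R J (1 ⊗ₜ x₂) :=
      Ideal.Quotient.eq.mpr (Ideal.mem_span_singleton_self _)
    simp only [AlgHom.comp_apply, Algebra.TensorProduct.includeLeft_apply,
      Algebra.TensorProduct.includeRight_apply, w', h0]
  have ex : ∀ {ι : Type u} [Finite ι] (b : ι → S), ∃ (E : Type u) (_ : CommRing E) (_ : Algebra R E)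
      (_ : Algebra.Etale R E) (v : E →ₐ[R] S) (τ : E →ₐ[R] S') (x : ι → E),
      u'.comp τ = u.comp v ∧ ∀ i, v (x i) = b i := by
    intro ι _ b
    obtain ⟨E, _, _, _, v, x, hx⟩ := hF.exists_lift b
    obtain ⟨τ, hτ, -⟩ := lift1 E v
    exact ⟨E, _, _, ‹_›, v, τ, x, hτ, hx⟩
  choose E i₁ i₂ i₃ v τ x hτ hx using fun s : S => ex (fun _ : PUnit.{u + 1} => s)
  have key : ∀ (F : Type u) [CommRing F] [Algebra R F] [Algebra.Etale R F] (w : F →ₐ[R] S)
      (σ : F →ₐ[R] S'), u'.comp σ = u.comp w → ∀ (y : F) (s : S), w y = s → τ s (x s ⟨⟩) = σ y :=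
    fun F _ _ _ w σ h y s hy => wd _ F _ w _ σ (hτ _) h _ y ((hx _ _).trans hy.symm)
  have bin : ∀ a b : S, ∃ (F : Type u) (_ : CommRing F) (_ : Algebra R F) (_ : Algebra.Etale R F)
      (w : F →ₐ[R] S) (σ : F →ₐ[R] S') (p q : F), u'.comp σ = u.comp w ∧ w p = a ∧ w q = b := by
    intro a b
    obtain ⟨F, _, _, _, w, σ, z, hσ, hz⟩ := ex (fun i : ULift.{u} Bool => if i.down then a else b)
    exact ⟨F, _, _, ‹_›, w, σ, z ⟨true⟩, z ⟨false⟩, hσ, by simpa using hz ⟨true⟩, by simpa using hz ⟨false⟩⟩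
  let T : S →ₐ[R] S' :=
    AlgHom.mk
      { toFun := fun s => τ s (x s ⟨⟩)
        map_one' := by
          obtain ⟨F, _, _, _, w, σ, p, q, hσ, hp, hq⟩ := bin 1 1
          exact (key F w σ hσ 1 1 (map_one w)).trans (map_one σ)
        map_zero' := by
          obtain ⟨F, _, _, _, w, σ, p, q, hσ, hp, hq⟩ := bin 1 1
          exact (key F w σ hσ 0 0 (map_zero w)).trans (map_zero σ)
        map_mul' := fun a b => by
          obtain ⟨F, _, _, _, w, σ, p, q, hσ, rfl, rfl⟩ := bin a b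
          rw [key F w σ hσ _ _ (map_mul w p q), key F w σ hσ p _ rfl, key F w σ hσ q _ rfl, map_mul]
        map_add' := fun a b => by
          obtain ⟨F, _, _, _, w, σ, p, q, hσ, rfl, rfl⟩ := bin a b
          rw [key F w σ hσ _ _ (map_add w p q), key F w σ hσ p _ rfl, key F w σ hσ q _ rfl, map_add] }
      (fun r => by
        obtain ⟨F, _, _, _, w, σ, p, q, hσ, hp, hq⟩ := bin 1 1
        exact (key F w σ hσ _ _ (w.commutes r)).trans (σ.commutes r))
  refine ⟨T, AlgHom.ext fun s => ?_, fun T' hT' => AlgHom.ext fun s => ?_⟩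
  · have := AlgHom.congr_fun (hτ s) (x s ⟨⟩)
    rwa [AlgHom.comp_apply, AlgHom.comp_apply, hx s] at this
  · have h := (lift1 (E s) (v s)).unique (y₁ := T'.comp (v s)) (y₂ := τ s)
      (by rw [← AlgHom.comp_assoc, hT']) (hτ s)
    have := AlgHom.congr_fun h (x s ⟨⟩)
    rwa [AlgHom.comp_apply, hx s] at this

/-- Let R be a ring, S and S' henselian local rings which are filtered colimits of étale R-algebras, and
K a field together with R-algebra maps S → K and S' → K identifying K with the residue field of each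
(surjective with kernel the maximal ideal). Then exactly one isomorphism of R-algebras S → S'
commutes with the two maps to K. -/
theorem result (R S S' K : Type u) [CommRing R]
    [CommRing S] [CommRing S'] [Field K] [HenselianLocalRing S] [HenselianLocalRing S']
    [Algebra R S] [Algebra R S'] [Algebra R K] (hS : EtPBC.IsIndEtale R S) (hS' : EtPBC.IsIndEtale R S')
    (u : S →ₐ[R] K) (u' : S' →ₐ[R] K) (hu : Function.Surjective u) (hu' : Function.Surjective u')
    (hku : RingHom.ker u.toRingHom = IsLocalRing.maximalIdeal S)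
    (hku' : RingHom.ker u'.toRingHom = IsLocalRing.maximalIdeal S') :
    ∃! e : S ≃ₐ[R] S', u'.comp (e : S →ₐ[R] S') = u := by
  obtain ⟨f, hf, -⟩ := existsUnique_hom hS u u' hu' hku'
  obtain ⟨g, hg, -⟩ := existsUnique_hom hS' u' u hu hku
  have h1 : f.comp g = AlgHom.id R S' := by
    refine (existsUnique_hom hS' u' u' hu' hku').unique ?_ (AlgHom.comp_id _)
    rw [← AlgHom.comp_assoc, hf, hg]
  have h2 : g.comp f = AlgHom.id R S := by
    refine (existsUnique_hom hS u u hu hku).unique ?_ (AlgHom.comp_id _)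
    rw [← AlgHom.comp_assoc, hg, hf]
  refine ⟨AlgEquiv.ofAlgHom f g h1 h2, hf, fun e he => AlgEquiv.ext fun s => ?_⟩
  exact AlgHom.congr_fun ((existsUnique_hom hS u u' hu' hku').unique he hf) s

end Groth.Agent.S6391
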