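import Groth.Statements.S6392
import Groth.Agent.CAlgML.Colimit
import Groth.Agent.S6357

set_option autoImplicit false
universe u
open CAlg

namespace Groth.Agent.S6392

/-- Suppose M is the colimit of finitely presented R-modules G_i along a directed system over a nonempty
directed index set (transition maps f_ij), and M is both Mittag-Leffler and countably generated.
Then some countable directed subset I' of the indices already computes M: the canonical map from the
colimit of the G_i with i ∈ I' to M is bijective. -/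
theorem result (R : Type u) [CommRing R]
    {ι : Type u} [Preorder ι] [IsDirected ι (· ≤ ·)] [Nonempty ι] [DecidableEq ι] (G : ι → Type u)
    [∀ i, AddCommGroup (G i)] [∀ i, Module R (G i)] [∀ i, Module.FinitePresentation R (G i)]
    (f : ∀ i j, i ≤ j → G i →ₗ[R] G j) [DirectedSystem G fun i j h => f i j h]
    (hML : CAlg.IsMittagLeffler R (Module.DirectLimit G f))
    (hc : CAlg.IsCountablyGenerated R (Module.DirectLimit G f)) :
    ∃ I' : Set ι, I'.Countable ∧ DirectedOn (· ≤ ·) I' ∧
      Function.Bijective (Module.DirectLimit.lift R I' (fun i : I' => G i.1)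
        (fun (i j : I') (h : i ≤ j) => f i.1 j.1 h)
        (fun i : I' => Module.DirectLimit.of R ι G f i.1)
        (fun (i j : I') (h : i ≤ j) (x : G i.1) => Module.DirectLimit.of_f)) := by
  classical
  have H := (Groth.Agent.S6357.result R G f).1 hML
  choose nx hnx hh using H
  obtain ⟨s, hs, hspan⟩ := hc
  choose is xs hxs using fun z : Module.DirectLimit G f => Module.DirectLimit.exists_of z
  choose ub hub₁ hub₂ using fun p : ι × ι => exists_ge_ge p.1 p.2
  let F : ℕ → Set ι := fun n => Nat.rec (is '' s ∪ {Classical.arbitrary ι})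
    (fun _ A => A ∪ nx '' A ∪ ub '' (A ×ˢ A)) n
  have hmono : Monotone F := monotone_nat_of_le_succ fun n x hx => Or.inl (Or.inl hx)
  let I' : Set ι := ⋃ n, F n
  have hdir : DirectedOn (· ≤ ·) I' := by
    rintro a ha b hb
    obtain ⟨m, hm⟩ := Set.mem_iUnion.1 ha
    obtain ⟨n, hn⟩ := Set.mem_iUnion.1 hb
    exact ⟨ub (a, b), Set.mem_iUnion.2 ⟨max m n + 1, Or.inr ⟨(a, b),
      ⟨hmono (le_max_left m n) hm, hmono (le_max_right m n) hn⟩, rfl⟩⟩, hub₁ (a, b), hub₂ (a, b)⟩
  have hcount : ∀ n, (F n).Countable := by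
    intro n
    induction n with
    | zero => exact (hs.image _).union (Set.countable_singleton _)
    | succ n ih => exact (ih.union (ih.image _)).union ((ih.prod ih).image _)
  haveI : IsDirectedOrder I' := ⟨fun a b => by
    obtain ⟨c, hc, h1, h2⟩ := hdir a a.2 b b.2
    exact ⟨⟨c, hc⟩, h1, h2⟩⟩
  haveI : DirectedSystem (fun i : I' => G i.1) (fun (i j : I') (h : i ≤ j) => f i.1 j.1 h) :=
    { map_self := fun i x => DirectedSystem.map_self' (f := f) x
      map_map := fun i j k h1 h2 x => DirectedSystem.map_map' (f := f) h1 h2 x }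
  haveI : Nonempty I' := ⟨⟨Classical.arbitrary ι, Set.mem_iUnion.2 ⟨0, Or.inr rfl⟩⟩⟩
  refine ⟨I', Set.countable_iUnion hcount, hdir, (injective_iff_map_eq_zero _).2 fun z hz => ?_, ?_⟩
  · obtain ⟨i, x, rfl⟩ := Module.DirectLimit.exists_of z
    rw [Module.DirectLimit.lift_of] at hz
    obtain ⟨k, hik, hk⟩ := Module.DirectLimit.of.zero_exact hz
    obtain ⟨n, hn⟩ := Set.mem_iUnion.1 i.2
    have hmem : nx i.1 ∈ I' := Set.mem_iUnion.2 ⟨n + 1, Or.inl (Or.inr ⟨i.1, hn, rfl⟩)⟩
    obtain ⟨h, hh⟩ := hh i.1 k hik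
    rw [← Module.DirectLimit.of_f (j := (⟨nx i.1, hmem⟩ : I')) (hij := hnx i.1),
      hh, LinearMap.comp_apply, hk, map_zero, map_zero]
  · rw [← LinearMap.range_eq_top, eq_top_iff, ← hspan, Submodule.span_le]
    intro z hz
    exact ⟨Module.DirectLimit.of R I' (fun i : I' => G i.1) (fun i j h => f i.1 j.1 h)
      ⟨is z, Set.mem_iUnion.2 ⟨0, Or.inl ⟨z, hz, rfl⟩⟩⟩ (xs z),
      by rw [Module.DirectLimit.lift_of, hxs]⟩

end Groth.Agent.S6392
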