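import Groth.Statements.S6393
import Groth.Agent.Fib.Basic

set_option autoImplicit false
open CategoryTheory
universe v₂ u₂ v u
open FibCat

namespace Groth.Agent.S6393

/-- Given `p : S ⥤ C`, saying that p is fibred in groupoids is equivalent to saying that p is a fibred
functor whose fibre category over every object of C is a groupoid. -/
theorem result {C : Type u} [Category.{v} C] {S : Type u₂} [Category.{v₂} S] (p : S ⥤ C) :
    FibCat.IsFibGrpd p ↔ (p.IsFibered ∧ ∀ U : C, IsGroupoid (p.Fiber U)) := by
  exact ⟨fun h => ⟨Fib.isFibered_of_isFibGrpd p h, Fib.isGroupoid_fiber p h⟩,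
    fun h => Fib.isFibGrpd_of_isFibered p h.1 h.2⟩

end Groth.Agent.S6393
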