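import Groth.Statements.S6406
import Groth.Agent.AlgStB.Classes

set_option autoImplicit false
open CategoryTheory
universe v u
open FibCat

namespace Groth.Agent.S6406

/-- A category fibred in setoids over `C` admits an equivalence over `C` to a category fibred in sets
over `C`. (The target is taken in the same universes as the slices `C/U`; its morphism sets are
essentially as small as those of `C`.) -/
theorem result {C : Type u} [Category.{v} C] {𝒳 : BasedCategory.{v, max u v} C} (h𝒳 : FibCat.IsFibSetoid 𝒳.p) :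
    ∃ (𝒴 : BasedCategory.{v, max u v} C) (F : 𝒳 ⥤ᵇ 𝒴), FibCat.IsFibSet 𝒴.p ∧ FibCat.IsEquivOver F := by
  refine ⟨Stk.ofPsh (AlgStB.classes h𝒳.1), AlgStB.toClasses h𝒳.1, ⟨Stk.isFibGrpd_ofPsh _, fun U => ?_⟩,
    AlgStB.isEquivOver_toClasses h𝒳⟩
  have hsub : ∀ {a b : (Stk.ofPsh (AlgStB.classes h𝒳.1)).p.Fiber U} (f g : a ⟶ b), f = g := by
    intro a b f g
    apply Functor.Fiber.hom_ext
    exact Stk.EltObj.hom_ext ((AlgStB.ofPsh_hom_eq_of_lift f.1 f.2).trans
      (AlgStB.ofPsh_hom_eq_of_lift g.1 g.2).symm)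
  exact { eq_of_hom := fun {a b} f => Subtype.ext (AlgStB.ofPsh_eq_of_isHomLift f.1 f.2), subsingleton := fun a b => ⟨hsub⟩ }

end Groth.Agent.S6406
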