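import Groth.Statements.S6417

set_option autoImplicit false
open CategoryTheory CategoryTheory.Limits
universe v₁ u₁ v₂ u₂
open FibCat

namespace Groth.Agent.S6417

/-- For `p : 𝒮 ⥤ C`, a strongly cartesian `φ : x ⟶ y`, any `ψ : z ⟶ y`, and a strongly cartesian `a : w
⟶ z` lying over the second projection of `p x ×_{p y} p z`, the object `w` is a fibre product `x ×_y
z`: there is `b : w ⟶ x` over the first projection with `(b, a)` a pullback square. -/
theorem result {𝒮 : Type u₁} [Category.{v₁} 𝒮] {C : Type u₂} [Category.{v₂} C] (p : 𝒮 ⥤ C) {x y z w : 𝒮} (φ : x ⟶ y) (ψ : z ⟶ y)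
    [p.IsStronglyCartesian (p.map φ) φ] [HasPullback (p.map φ) (p.map ψ)] (a : w ⟶ z)
    [p.IsStronglyCartesian (pullback.snd (p.map φ) (p.map ψ)) a] :
    ∃ b : w ⟶ x, p.IsHomLift (pullback.fst (p.map φ) (p.map ψ)) b ∧ IsPullback b a φ ψ := by
  haveI : p.IsHomLift (pullback.snd (p.map φ) (p.map ψ)) a := inferInstance
  haveI : p.IsHomLift (pullback.snd (p.map φ) (p.map ψ) ≫ p.map ψ) (a ≫ ψ) := inferInstance
  let b : w ⟶ x := Functor.IsStronglyCartesian.map p (p.map φ) φ (g := pullback.fst (p.map φ) (p.map ψ))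
    (f' := pullback.snd (p.map φ) (p.map ψ) ≫ p.map ψ) pullback.condition.symm (a ≫ ψ)
  have hb : b ≫ φ = a ≫ ψ := Functor.IsStronglyCartesian.fac p (p.map φ) φ pullback.condition.symm (a ≫ ψ)
  haveI hbl : p.IsHomLift (pullback.fst (p.map φ) (p.map ψ)) b := inferInstance
  have hw : p.obj w = pullback (p.map φ) (p.map ψ) := IsHomLift.domain_eq p (pullback.fst (p.map φ) (p.map ψ)) b
  have hbp : p.map b = eqToHom hw ≫ pullback.fst (p.map φ) (p.map ψ) := by
    simpa using IsHomLift.fac' p (pullback.fst (p.map φ) (p.map ψ)) b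
  have hap : p.map a = eqToHom hw ≫ pullback.snd (p.map φ) (p.map ψ) := by
    simpa using IsHomLift.fac' p (pullback.snd (p.map φ) (p.map ψ)) a
  refine ⟨b, hbl, ⟨⟨hb⟩, ⟨PullbackCone.IsLimit.mk hb (fun s => ?_) (fun s => ?_) (fun s => ?_) fun s m h₁ h₂ => ?_⟩⟩⟩
  · exact Functor.IsStronglyCartesian.map p (pullback.snd (p.map φ) (p.map ψ)) a
      (g := pullback.lift (p.map s.fst) (p.map s.snd) (by rw [← p.map_comp, ← p.map_comp, s.condition]))
      (f' := p.map s.snd) (pullback.lift_snd _ _ _).symm s.snd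
  · haveI : p.IsHomLift (p.map s.fst) s.fst := IsHomLift.map p _
    haveI : p.IsHomLift (p.map s.fst) (Functor.IsStronglyCartesian.map p (pullback.snd (p.map φ) (p.map ψ)) a
        (g := pullback.lift (p.map s.fst) (p.map s.snd) (by rw [← p.map_comp, ← p.map_comp, s.condition]))
        (f' := p.map s.snd) (pullback.lift_snd _ _ _).symm s.snd ≫ b) := by
      have hh : p.IsHomLift (pullback.lift (p.map s.fst) (p.map s.snd) (by rw [← p.map_comp, ← p.map_comp, s.condition]) ≫ pullback.fst (p.map φ) (p.map ψ)) (Functor.IsStronglyCartesian.map p (pullback.snd (p.map φ) (p.map ψ)) a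
        (g := pullback.lift (p.map s.fst) (p.map s.snd) (by rw [← p.map_comp, ← p.map_comp, s.condition]))
        (f' := p.map s.snd) (pullback.lift_snd _ _ _).symm s.snd ≫ b) := inferInstance
      simpa [pullback.lift_fst] using hh
    refine Functor.IsStronglyCartesian.ext p (p.map φ) φ (p.map s.fst) ?_
    rw [Category.assoc, hb, Functor.IsStronglyCartesian.fac_assoc, s.condition]
  · exact Functor.IsStronglyCartesian.fac p _ a _ _
  · haveI : p.IsHomLift (pullback.lift (p.map s.fst) (p.map s.snd) (by rw [← p.map_comp, ← p.map_comp, s.condition])) m := by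
      refine IsHomLift.of_fac' p _ _ rfl hw ?_
      rw [← cancel_mono (eqToHom hw)]
      apply pullback.hom_ext
      · simp only [Category.assoc, eqToHom_trans_assoc, eqToHom_refl, Category.id_comp]
        rw [pullback.lift_fst]
        simpa [hbp] using congrArg p.map h₁
      · simp only [Category.assoc, eqToHom_trans_assoc, eqToHom_refl, Category.id_comp]
        rw [pullback.lift_snd]
        simpa [hap] using congrArg p.map h₂
    exact Functor.IsStronglyCartesian.map_uniq p _ a _ _ m h₂

end Groth.Agent.S6417
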