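import Groth.Statements.S6424
import Groth.Agent.CatLimLib.Limits

set_option autoImplicit false
set_option backward.isDefEq.respectTransparency false
set_option backward.defeqAttrib.useBackward true
open CategoryTheory CategoryTheory.Limits
universe v u
open CatLim

namespace Groth.Agent.S6424

/-- (2) ⇒ (1): a category with products of pairs and equalizers has all finite nonempty limits. -/
theorem result {C : Type u} [Category.{v} C] [HasBinaryProducts C] [HasEqualizers C]
    (J : Type) [SmallCategory J] [FinCategory J] [Nonempty J] : HasLimitsOfShape J C := by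
  refine ⟨fun F ↦ ?_⟩
  obtain ⟨P⟩ := CatLimLib.exists_partial_univ (F := F) fun S _ hU P ↦ by
    obtain ⟨k, hk⟩ := (Set.ne_univ_iff_exists_notMem S).1 hU
    exact ⟨k, hk, CatLimLib.grow_prod P hk⟩
  exact CatLimLib.hasLimit_of_partial P

end Groth.Agent.S6424
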