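import Groth.Statements.S6425
import Mathlib.CategoryTheory.Limits.Shapes.FunctorToTypes
import Mathlib.CategoryTheory.Limits.Shapes.ConcreteCategory

set_option autoImplicit false
set_option backward.isDefEq.respectTransparency false
set_option backward.defeqAttrib.useBackward true
open CategoryTheory CategoryTheory.Limits
universe v
open CatLim

namespace Groth.Agent.S6425

/-- Over an index category in which any two objects map to a common object, the comparison map `colim (M
× N) → colim M × colim N` for diagrams of sets is surjective. -/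
theorem result {I : Type v} [SmallCategory I]
    (hI : ∀ x y : I, ∃ (z : I) (_ : x ⟶ z) (_ : y ⟶ z), True) (M N : I ⥤ Type v) :
    Function.Surjective (prodComparison (colim : (I ⥤ Type v) ⥤ Type v) M N) := by
  rintro p
  obtain ⟨i, x, hx⟩ := Types.jointly_surjective' (F := M) ((Limits.prod.fst :
    colim.obj M ⨯ colim.obj N ⟶ _) p)
  obtain ⟨j, y, hy⟩ := Types.jointly_surjective' (F := N) ((Limits.prod.snd :
    colim.obj M ⨯ colim.obj N ⟶ _) p)
  obtain ⟨z, f, g, -⟩ := hI i j
  let w : (M ⨯ N).obj z :=
    (FunctorToTypes.binaryProductIso M N).inv.app z (M.map f x, N.map g y)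
  refine ⟨colimit.ι (M ⨯ N) z w, (Concrete.prodEquiv (colim.obj M) (colim.obj N)).injective (Prod.ext ?_ ?_)⟩
  · rw [Concrete.prodEquiv_apply_fst, Concrete.prodEquiv_apply_fst, ← ConcreteCategory.comp_apply, prodComparison_fst, ← hx]
    change colim.map (Limits.prod.fst : M ⨯ N ⟶ M) (colimit.ι (M ⨯ N) z w) = _
    rw [Types.Colimit.ι_map_apply, FunctorToTypes.binaryProductIso_inv_comp_fst_apply,
      colimit.w_apply]
  · rw [Concrete.prodEquiv_apply_snd, Concrete.prodEquiv_apply_snd, ← ConcreteCategory.comp_apply, prodComparison_snd, ← hy]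
    change colim.map (Limits.prod.snd : M ⨯ N ⟶ N) (colimit.ι (M ⨯ N) z w) = _
    rw [Types.Colimit.ι_map_apply, FunctorToTypes.binaryProductIso_inv_comp_snd_apply,
      colimit.w_apply]

end Groth.Agent.S6425
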