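import Groth.Statements.S6426
import Mathlib.Algebra.Category.Grp.Colimits
import Mathlib.Algebra.Category.Grp.Preadditive
import Mathlib.GroupTheory.QuotientGroup.Basic

set_option autoImplicit false
set_option backward.isDefEq.respectTransparency false
set_option backward.defeqAttrib.useBackward true
open CategoryTheory CategoryTheory.Limits
universe v
open CatLim

namespace Groth.Agent.S6426

/-- Over a nonempty index category in which any two objects map to a common object, the set-theoretic
colimit of a diagram of abelian groups surjects onto its colimit in abelian groups. (The published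
statement does not require the index category to be nonempty; this row assumes it, because for the
empty index category the colimit of sets is empty while the colimit of abelian groups is the zero
group.) -/
theorem result {I : Type v} [SmallCategory I] [Nonempty I]
    (hI : ∀ x y : I, ∃ (z : I) (_ : x ⟶ z) (_ : y ⟶ z), True) (M : I ⥤ AddCommGrpCat.{v}) :
    Function.Surjective (colimit.post M (forget AddCommGrpCat.{v})) := by
  let q := colimit.post M (forget AddCommGrpCat.{v})
  have hι : ∀ (i : I) (x : M.obj i),
      q (colimit.ι (M ⋙ forget AddCommGrpCat.{v}) i x) = colimit.ι M i x := fun i x ↦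
    ConcreteCategory.congr_hom (colimit.ι_post M (forget AddCommGrpCat.{v}) i) x
  obtain ⟨i₀⟩ := ‹Nonempty I›
  let S : AddSubgroup (colimit M : AddCommGrpCat.{v}) :=
    { carrier := {z | ∃ i x, colimit.ι M i x = z}
      zero_mem' := ⟨i₀, 0, map_zero _⟩
      neg_mem' := by
        rintro _ ⟨i, x, rfl⟩
        exact ⟨i, -x, map_neg _ _⟩
      add_mem' := by
        rintro _ _ ⟨i, x, rfl⟩ ⟨j, y, rfl⟩
        obtain ⟨k, f, g, -⟩ := hI i j
        refine ⟨k, M.map f x + M.map g y, ?_⟩
        rw [map_add, ← ConcreteCategory.comp_apply, ← ConcreteCategory.comp_apply,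
          colimit.w, colimit.w] }
  have htop : S = ⊤ := by
    have h : AddCommGrpCat.ofHom (QuotientAddGroup.mk' S) = (0 : colimit M ⟶ _) := by
      refine colimit.hom_ext fun i ↦ ?_
      ext x
      simp only [comp_zero]
      exact (QuotientAddGroup.eq_zero_iff _).2 ⟨i, x, rfl⟩
    refine eq_top_iff.2 fun z _ ↦ (QuotientAddGroup.eq_zero_iff z).1 ?_
    exact ConcreteCategory.congr_hom h z
  intro z
  obtain ⟨i, x, hx⟩ : (z : (colimit M : AddCommGrpCat.{v})) ∈ S := htop ▸ trivial
  exact ⟨colimit.ι (M ⋙ forget AddCommGrpCat.{v}) i x, (hι i x).trans hx⟩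

end Groth.Agent.S6426
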