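import Groth.Statements.S6427
import Groth.Agent.CatLimLib.TypeColim

set_option autoImplicit false
set_option backward.isDefEq.respectTransparency false
set_option backward.defeqAttrib.useBackward true
open CategoryTheory CategoryTheory.Limits
universe v
open CatLim

namespace Groth.Agent.S6427

/-- Over an index category in which every pair of morphisms with common source can be completed to a
commutative square, colimits of sets preserve injective morphisms of diagrams. -/
theorem result {I : Type v} [SmallCategory I]
    (hI : ∀ ⦃x y z : I⦄ (f : x ⟶ y) (g : x ⟶ z), ∃ (w : I) (f' : y ⟶ w) (g' : z ⟶ w), f ≫ f' = g ≫ g')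
    {M N : I ⥤ Type v} (φ : M ⟶ N) (hφ : ∀ i, Function.Injective (φ.app i)) :
    Function.Injective (colimMap φ) := by
  intro a b hab
  obtain ⟨i, x, rfl⟩ := Types.jointly_surjective' a
  obtain ⟨j, y, rfl⟩ := Types.jointly_surjective' b
  have h : colimit.ι N i (φ.app i x) = colimit.ι N j (φ.app j y) := by
    simpa using hab
  obtain ⟨w, f, g, e⟩ := CatLimLib.exists_cospan_of_eq hI N h
  refine Types.colimit_sound' f g (hφ w ?_)
  rw [NatTrans.naturality_apply, NatTrans.naturality_apply, e]

end Groth.Agent.S6427
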