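import Groth.Statements.S6428
import Mathlib.CategoryTheory.Limits.Final

set_option autoImplicit false
set_option backward.isDefEq.respectTransparency false
set_option backward.defeqAttrib.useBackward true
open CategoryTheory CategoryTheory.Limits
universe v₁ u₁ v₂ u₂ v₃ u₃
open CatLim

namespace Groth.Agent.S6428

/-- If `F : I ⥤ I'` has connected fibre categories and is surjective on morphisms, then for every
diagram `M : I' ⥤ C` the colimit of `F ⋙ M` exists if and only if that of `M` does, and the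
canonical comparison between them is then an isomorphism. -/
theorem result {I : Type u₁} [Category.{v₁} I] {I' : Type u₂} [Category.{v₂} I'] {C : Type u₃} [Category.{v₃} C] (F : I ⥤ I')
    (h1 : ∀ x' : I', IsConnected (F.Fiber x'))
    (h2 : ∀ ⦃x' y' : I'⦄ (α' : x' ⟶ y'), ∃ (x y : I) (hx : F.obj x = x') (hy : F.obj y = y') (α : x ⟶ y), F.map α = eqToHom hx ≫ α' ≫ eqToHom hy.symm)
    (M : I' ⥤ C) :
    (HasColimit (F ⋙ M) ↔ HasColimit M) ∧ ∀ [HasColimit (F ⋙ M)] [HasColimit M], IsIso (colimit.pre M F) := by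
  suffices hF : F.Final from
    ⟨Functor.Final.hasColimit_comp_iff F, fun {_ _} ↦ inferInstance⟩
  refine ⟨fun x' ↦ ?_⟩
  let G : ∀ {y : I'} (_ : x' ⟶ y), F.Fiber y ⥤ StructuredArrow x' F := fun {y} α ↦
    { obj := fun a ↦ StructuredArrow.mk (α ≫ eqToHom a.2.symm : x' ⟶ F.obj a.1)
      map := fun {a b} φ ↦ StructuredArrow.homMk φ.1 (by
        haveI := φ.2
        simp [IsHomLift.fac' F (𝟙 y) φ.1])
      map_id := fun a ↦ by ext; rfl
      map_comp := fun f g ↦ by ext; rfl }
  obtain ⟨a₀⟩ : Nonempty (F.Fiber x') := (h1 x').is_nonempty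
  haveI : Nonempty (StructuredArrow x' F) := ⟨(G (𝟙 x')).obj a₀⟩
  have same : ∀ {y : I'} (α : x' ⟶ y) (a b : F.Fiber y), Zigzag ((G α).obj a) ((G α).obj b) := by
    intro y α a b
    haveI := h1 y
    exact zigzag_obj_of_zigzag (G α) (isPreconnected_zigzag a b)
  have key : ∀ X : StructuredArrow x' F, Zigzag X ((G (𝟙 x')).obj a₀) := by
    intro X
    obtain ⟨a, b, ha, hb, β, hβ⟩ := h2 X.hom
    have e₁ : X = (G X.hom).obj ⟨X.right, rfl⟩ := by
      conv_lhs => rw [StructuredArrow.eq_mk X]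
      simp [G]
    rw [e₁]
    refine (same X.hom ⟨X.right, rfl⟩ ⟨b, hb⟩).trans (Zigzag.trans ?_ (same (𝟙 x') ⟨a, ha⟩ a₀))
    exact Zigzag.symm (Relation.ReflTransGen.single (Zag.of_hom
      (StructuredArrow.homMk β (by simp [G, hβ]) :
        (G (𝟙 x')).obj ⟨a, ha⟩ ⟶ (G X.hom).obj ⟨b, hb⟩)))
  exact zigzag_isConnected fun X Y ↦ (key X).trans (key Y).symm

end Groth.Agent.S6428
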