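import Groth.Statements.S6434
import Groth.Agent.CatLimLib.Fractions
import Mathlib.Data.Fintype.Sigma

set_option autoImplicit false
set_option backward.isDefEq.respectTransparency false
set_option backward.defeqAttrib.useBackward true
open CategoryTheory
universe v u v' u'
open CatLoc

namespace Groth.Agent.S6434

/-- The localization functor at a left multiplicative system commutes with finite colimits. -/
theorem result {C : Type u} [Category.{v} C] {D : Type u'} [Category.{v'} D] (W : MorphismProperty C) (L : C ⥤ D) [L.IsLocalization W] [W.HasLeftCalculusOfFractions] :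
    Limits.PreservesFiniteColimits L := by
  refine ⟨fun J _ _ ↦ ⟨fun {F} ↦ ⟨fun {c} hc ↦ ?_⟩⟩⟩
  have hinv {Y Y' : C} (s : Y ⟶ Y') (hs : W s) : IsIso (L.map s) :=
    Localization.inverts L W s hs
  -- maps out of `L c.pt` into an object in the image are determined on the legs
  have uniq : ∀ (Y : C) (d₁ d₂ : L.obj c.pt ⟶ L.obj Y),
      (∀ j, L.map (c.ι.app j) ≫ d₁ = L.map (c.ι.app j) ≫ d₂) → d₁ = d₂ := by
    intro Y d₁ d₂ h
    obtain ⟨Y', s, hs, f, hf⟩ := CatLimLib.exists_common_denominator W L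
      (fun _ : Bool ↦ c.pt) Y (fun b ↦ bif b then d₁ else d₂)
    have h₁ : d₁ ≫ L.map s = L.map (f true) := hf true
    have h₂ : d₂ ≫ L.map s = L.map (f false) := hf false
    obtain ⟨Y'', t, ht, e⟩ := CatLimLib.exists_common_postcomp W L (fun j : J ↦ F.obj j) Y'
      (fun j ↦ c.ι.app j ≫ f true) (fun j ↦ c.ι.app j ≫ f false)
      (fun j ↦ by rw [L.map_comp, L.map_comp, ← h₁, ← h₂, reassoc_of% (h j)])
    have e' : f true ≫ t = f false ≫ t := hc.hom_ext fun j ↦ by simpa using e j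
    haveI := hinv s hs
    haveI := hinv t ht
    rw [← cancel_mono (L.map s), ← cancel_mono (L.map t), h₁, h₂, ← L.map_comp, ← L.map_comp, e']
  have exist : ∀ (Y : C) (g : ∀ j, L.obj (F.obj j) ⟶ L.obj Y),
      (∀ ⦃i j : J⦄ (a : i ⟶ j), L.map (F.map a) ≫ g j = g i) →
      ∃ d : L.obj c.pt ⟶ L.obj Y, ∀ j, L.map (c.ι.app j) ≫ d = g j := by
    intro Y g hg
    obtain ⟨Y', s, hs, f, hf⟩ :=
      CatLimLib.exists_common_denominator W L (fun j : J ↦ F.obj j) Y g
    obtain ⟨Y'', t, ht, e⟩ := CatLimLib.exists_common_postcomp W L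
      (fun a : Σ i j : J, (i ⟶ j) ↦ F.obj a.1) Y'
      (fun a ↦ F.map a.2.2 ≫ f a.2.1) (fun a ↦ f a.1)
      (fun a ↦ by rw [L.map_comp, ← hf, ← hf, reassoc_of% (hg a.2.2)])
    let d : Limits.Cocone F := ⟨Y'', ⟨fun j ↦ f j ≫ t, fun i j a ↦ by
      simpa using e ⟨i, j, a⟩⟩⟩
    haveI := hinv s hs
    haveI := hinv t ht
    refine ⟨L.map (hc.desc d) ≫ inv (L.map t) ≫ inv (L.map s), fun j ↦ ?_⟩
    rw [← L.map_comp_assoc, hc.fac]
    simp [d, ← hf]
  haveI := Localization.essSurj L W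
  have exist' : ∀ (d : Limits.Cocone (F ⋙ L)), ∃ m : L.obj c.pt ⟶ d.pt,
      ∀ j, L.map (c.ι.app j) ≫ m = d.ι.app j := by
    intro d
    obtain ⟨m, hm⟩ := exist (L.objPreimage d.pt)
      (fun j ↦ d.ι.app j ≫ (L.objObjPreimageIso d.pt).inv)
      (fun i j a ↦ (Category.assoc _ _ _).symm.trans (congrArg (· ≫ _) (d.w a)))
    exact ⟨m ≫ (L.objObjPreimageIso d.pt).hom, fun j ↦ by simp [reassoc_of% (hm j)]⟩
  choose m hm using exist'
  exact ⟨⟨m, fun d j ↦ hm d j, fun d m' hm' ↦ by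
    rw [← cancel_mono (L.objObjPreimageIso d.pt).inv]
    exact uniq _ _ _ fun j ↦ by
      rw [← Category.assoc, ← Category.assoc]
      exact congrArg (· ≫ _) ((hm' j).trans (hm d j).symm)⟩⟩

end Groth.Agent.S6434
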