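import Groth.Statements.S6437
import Groth.Agent.CatLimLib.TypeColim
import Groth.Agent.CatLimLib.Limits
import Mathlib.Data.Finset.Card
import Mathlib.CategoryTheory.Limits.Preserves.FunctorCategory

set_option autoImplicit false
set_option backward.isDefEq.respectTransparency false
set_option backward.defeqAttrib.useBackward true
open CategoryTheory CategoryTheory.Limits
universe v
open CatLim

namespace Groth.Agent.S6437

/-- Over an index category in which spans can be completed to commutative squares and parallel pairs can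
be coequalized (a disjoint union of filtered categories), colimits of sets commute with finite
connected limits. -/
theorem result {I : Type v} [SmallCategory I]
    (h1 : ∀ ⦃w x y : I⦄ (a : w ⟶ x) (b : w ⟶ y), ∃ (z : I) (c : x ⟶ z) (d : y ⟶ z), a ≫ c = b ≫ d)
    (h2 : ∀ ⦃x y : I⦄ (a b : x ⟶ y), ∃ (z : I) (c : y ⟶ z), a ≫ c = b ≫ c)
    (J : Type) [SmallCategory J] [FinCategory J] [IsConnected J] :
    PreservesLimitsOfShape J (colim : (I ⥤ Type v) ⥤ Type v) := by
  classical
  haveI : Nonempty J := IsConnected.is_nonempty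
  have hspan : ∀ ⦃x y z : I⦄ (f : x ⟶ y) (g : x ⟶ z), ∃ (w : I) (f' : y ⟶ w) (g' : z ⟶ w),
      f ≫ f' = g ≫ g' := fun _ _ _ f g ↦ h1 f g
  -- coequalize finitely many pairs
  have coeq : ∀ {ι : Type} [Finite ι] {x y : I} (a b : ι → (x ⟶ y)),
      ∃ (z : I) (c : y ⟶ z), ∀ k, a k ≫ c = b k ≫ c := by
    intro ι _ x y a b
    haveI := Fintype.ofFinite ι
    suffices h : ∀ A : Finset ι, ∃ (z : I) (c : y ⟶ z), ∀ k ∈ A, a k ≫ c = b k ≫ c by
      obtain ⟨z, c, h⟩ := h Finset.univ
      exact ⟨z, c, fun k ↦ h k (Finset.mem_univ k)⟩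
    intro A
    induction A using Finset.induction_on with
    | empty => exact ⟨y, 𝟙 y, by simp⟩
    | insert k A hk ih =>
      obtain ⟨z, c, h⟩ := ih
      obtain ⟨z', c', h'⟩ := h2 (a k ≫ c) (b k ≫ c)
      refine ⟨z', c ≫ c', fun l hl ↦ ?_⟩
      rcases Finset.mem_insert.1 hl with rfl | hl
      · simpa using h'
      · rw [reassoc_of% (h l hl)]
  -- finitely many equations in colimits become equations at one stage
  have eqs : ∀ {ι : Type} [Finite ι] [Nonempty ι] (G : ι → (I ⥤ Type v)) {i i' : I}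
      (x : ∀ k, (G k).obj i) (y : ∀ k, (G k).obj i'),
      (∀ k, colimit.ι (G k) i (x k) = colimit.ι (G k) i' (y k)) →
      ∃ (w : I) (f : i ⟶ w) (g : i' ⟶ w), ∀ k, (G k).map f (x k) = (G k).map g (y k) := by
    intro ι _ _ G i i' x y h
    haveI := Fintype.ofFinite ι
    suffices key : ∀ A : Finset ι, A.Nonempty → ∃ (w : I) (f : i ⟶ w) (g : i' ⟶ w),
        ∀ k ∈ A, (G k).map f (x k) = (G k).map g (y k) by
      obtain ⟨w, f, g, h⟩ := key Finset.univ Finset.univ_nonempty
      exact ⟨w, f, g, fun k ↦ h k (Finset.mem_univ k)⟩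
    intro A hA
    induction hA using Finset.Nonempty.cons_induction with
    | singleton k =>
      obtain ⟨w, f, g, e⟩ := CatLimLib.exists_cospan_of_eq hspan _ (h k)
      exact ⟨w, f, g, fun l hl ↦ by obtain rfl := Finset.mem_singleton.1 hl; exact e⟩
    | cons k A hk hA ih =>
      obtain ⟨w, f, g, hfg⟩ := ih
      obtain ⟨w', f', g', e⟩ := CatLimLib.exists_cospan_of_eq hspan _ (h k)
      obtain ⟨v, p, q, hpq⟩ := h1 f f'
      obtain ⟨v', c, hc⟩ := h2 (g ≫ p) (g' ≫ q)
      refine ⟨v', f ≫ p ≫ c, g ≫ p ≫ c, fun l hl ↦ ?_⟩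
      rcases Finset.mem_cons.1 hl with rfl | hl
      · simp only [← Category.assoc, hpq, hc]
        simp only [Category.assoc, FunctorToTypes.map_comp_apply, e]
      · simp only [FunctorToTypes.map_comp_apply, hfg l hl]
  refine ⟨fun {F} ↦ ⟨fun {c} hc ↦ ?_⟩⟩
  have hci : ∀ i, IsLimit (((evaluation I (Type v)).obj i).mapCone c) := fun i ↦
    isLimitOfPreserves _ hc
  refine (Types.isLimit_iff _).2 ?_
  intro u hu
  -- all components of a section are represented at a common stage
  have rep : ∀ S : Set J, ∀ n, Sᶜ.ncard = n →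
      (∃ (i : I) (x : ∀ j, j ∈ S → (F.obj j).obj i), ∀ j hj, colimit.ι (F.obj j) i (x j hj) = u j) →
      S.Nonempty → ∃ (i : I) (x : ∀ j, (F.obj j).obj i), ∀ j, colimit.ι (F.obj j) i (x j) = u j := by
    intro S n
    induction n using Nat.strong_induction_on generalizing S with
    | _ n ih =>
      rintro hn ⟨i, x, hx⟩ hS
      by_cases hU : S = Set.univ
      · subst hU
        exact ⟨i, fun j ↦ x j trivial, fun j ↦ hx j trivial⟩
      · obtain ⟨j, hj, k, hk, hjk⟩ := CatLimLib.exists_boundary_arrow hS hU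
        obtain ⟨i', y, hy⟩ := Types.jointly_surjective' (u k)
        have hcos : ∃ (w : I) (_ : i ⟶ w) (_ : i' ⟶ w), True := by
          rcases hjk with ⟨⟨a⟩⟩ | ⟨⟨a⟩⟩
          · have h : colimit.ι (F.obj k) i ((F.map a).app i (x j hj)) =
                colimit.ι (F.obj k) i' y := by
              rw [hy, ← hu a, ← hx j hj]
              exact (Types.Colimit.ι_map_apply (F.map a) i (x j hj)).symm
            obtain ⟨w, f, g, -⟩ := CatLimLib.exists_cospan_of_eq hspan _ h
            exact ⟨w, f, g, trivial⟩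
          · have h : colimit.ι (F.obj j) i (x j hj) =
                colimit.ι (F.obj j) i' ((F.map a).app i' y) := by
              rw [hx j hj, ← hu a, ← hy]
              exact Types.Colimit.ι_map_apply (F.map a) i' y
            obtain ⟨w, f, g, -⟩ := CatLimLib.exists_cospan_of_eq hspan _ h
            exact ⟨w, f, g, trivial⟩
        obtain ⟨w, f, g, -⟩ := hcos
        refine ih (insert k S)ᶜ.ncard ?_ (insert k S) rfl
          ⟨w, fun l hl ↦ if h : l ∈ S then (F.obj l).map f (x l h) else
            (eqToHom (by rw [hl.resolve_right h] : (F.obj k).obj w = (F.obj l).obj w) :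
              (F.obj k).obj w ⟶ _) ((F.obj k).map g y), fun l hl ↦ ?_⟩ (Set.insert_nonempty _ _)
        · rw [← hn]
          exact Set.ncard_lt_ncard (compl_lt_compl_iff_lt.2 (Set.ssubset_insert hk)) (Set.toFinite _)
        · dsimp only
          by_cases h : l ∈ S
          · rw [dif_pos h, colimit.w_apply, hx]
          · obtain rfl := hl.resolve_right h
            rw [dif_neg h, eqToHom_refl, types_id_apply, colimit.w_apply, hy]
  obtain ⟨j₀⟩ := ‹Nonempty J›
  obtain ⟨i₀, y₀, hy₀⟩ := Types.jointly_surjective' (u j₀)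
  obtain ⟨i, x, hx⟩ := rep {j₀} _ rfl ⟨i₀, fun j hj ↦
    (eqToHom (by rw [Set.mem_singleton_iff.1 hj]) : (F.obj j₀).obj i₀ ⟶ _) y₀, fun j hj ↦ by
      obtain rfl := Set.mem_singleton_iff.1 hj
      simpa using hy₀⟩ ⟨j₀, rfl⟩
  -- make it a compatible family at a later stage
  haveI : Finite (Σ a b : J, a ⟶ b) := inferInstance
  haveI : Nonempty (Σ a b : J, a ⟶ b) := ⟨⟨j₀, j₀, 𝟙 _⟩⟩
  obtain ⟨w, f, g, hfg⟩ := eqs (fun a : Σ a b : J, a ⟶ b ↦ F.obj a.2.1)
    (fun a ↦ (F.map a.2.2).app i (x a.1)) (fun a ↦ x a.2.1)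
    (fun a ↦ by
      rw [hx, ← hu a.2.2, ← hx]
      exact (Types.Colimit.ι_map_apply (F.map a.2.2) i (x a.1)).symm)
  obtain ⟨z, e, he⟩ := h2 f g
  let s : ∀ j, (F.obj j).obj z := fun j ↦ (F.obj j).map (f ≫ e) (x j)
  have hs : ∀ ⦃a b : J⦄ (φ : a ⟶ b), (F.map φ).app z (s a) = s b := by
    intro a b φ
    have := congrArg ((F.obj b).map e) (hfg ⟨a, b, φ⟩)
    simp only [← FunctorToTypes.map_comp_apply] at this
    have n1 := ConcreteCategory.congr_hom ((F.map φ).naturality (f ≫ e)) (x a)
    simp only [types_comp_apply] at n1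
    simp only [s]
    rw [n1, this, he]
  obtain ⟨p, hp, -⟩ := (Types.isLimit_iff _).1 ⟨hci z⟩ s (fun {a b} φ ↦ hs φ)
  refine ⟨colimit.ι c.pt z p, fun j ↦ ?_, ?_⟩
  · refine (Types.Colimit.ι_map_apply (c.π.app j) z p).trans ?_
    rw [show (c.π.app j).app z p = s j from hp j]
    simp only [s, colimit.w_apply, hx]
  · intro q hq
    obtain ⟨i', y, rfl⟩ := Types.jointly_surjective' q
    obtain ⟨w', f', g', h'⟩ := eqs (fun j ↦ F.obj j) (fun j ↦ (c.π.app j).app i' y) s (fun j ↦ by
      rw [show colimit.ι (F.obj j) z (s j) = u j by simp only [s, colimit.w_apply, hx]]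
      refine Eq.trans ?_ (hq j)
      exact (Types.Colimit.ι_map_apply (c.π.app j) i' y).symm)
    refine Types.colimit_sound' f' g' ?_
    refine ((Types.isLimitEquivSections (hci w')).injective (Subtype.ext (funext fun j ↦ ?_)))
    change (c.π.app j).app w' (c.pt.map f' y) = (c.π.app j).app w' (c.pt.map g' p)
    rw [show (c.π.app j).app w' (c.pt.map f' y) = (F.obj j).map f' ((c.π.app j).app i' y) from
        ConcreteCategory.congr_hom ((c.π.app j).naturality f') y,
      show (c.π.app j).app w' (c.pt.map g' p) = (F.obj j).map g' ((c.π.app j).app z p) from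
        ConcreteCategory.congr_hom ((c.π.app j).naturality g') p, h' j]
    exact congrArg _ (hp j).symm

end Groth.Agent.S6437
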