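import Groth.Statements.S6438
import Groth.Agent.CatLimLib.Kron
import Mathlib.CategoryTheory.Limits.IsConnected
import Mathlib.Data.Fintype.EquivFin

set_option autoImplicit false
set_option backward.isDefEq.respectTransparency false
set_option backward.defeqAttrib.useBackward true
open CategoryTheory
universe v u
open CatLim

namespace Groth.Agent.S6438

/-- A category with finitely many objects whose morphisms are generated under composition by finitely
many of them receives a functor from a finite category which is both final and initial, the finite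
category being connected (resp. nonempty) exactly when the given one is. (The published statement
says that limits and colimits of every diagram are computed after restriction along the functor;
this is expressed here through finality and initiality.) -/
theorem result {I : Type u} [Category.{v} I] [Finite I]
    (gen : Finset (Σ x y : I, x ⟶ y))
    (hgen : ∀ P : MorphismProperty I, P.IsMultiplicative → (∀ a ∈ gen, P a.2.2) → P = ⊤) :
    ∃ (J : Type) (_ : SmallCategory J) (_ : FinCategory J) (F : J ⥤ I),
      F.Final ∧ F.Initial ∧ (IsConnected J ↔ IsConnected I) ∧ (Nonempty J ↔ Nonempty I) := by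
  obtain ⟨n, ⟨e⟩⟩ := Finite.exists_equiv_fin I
  let a : Fin gen.card → (Σ x y : I, x ⟶ y) := fun i ↦ (gen.equivFin.symm i).1
  let s : Fin gen.card → Fin n := fun i ↦ e (a i).1
  let t : Fin gen.card → Fin n := fun i ↦ e (a i).2.1
  let g : ∀ k, e.symm (s k) ⟶ e.symm (t k) := fun k ↦
    eqToHom (e.symm_apply_apply _) ≫ (a k).2.2 ≫ eqToHom (e.symm_apply_apply _).symm
  let F := CatLimLib.Kron.lift (fun i : Fin n ↦ e.symm i) g
  have hg : CatLimLib.Kron.Generates (fun i : Fin n ↦ e.symm i) g := by
    intro P hP h
    refine hgen P hP fun b hb ↦ ?_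
    obtain ⟨k, rfl⟩ : ∃ k, a k = b := ⟨gen.equivFin ⟨b, hb⟩, by simp [a]⟩
    have hk := h k
    have key : ∀ {u w u' w' : I} (hu : u' = u) (hw : w' = w) (c : u ⟶ w),
        P (eqToHom hu ≫ c ≫ eqToHom hw.symm) → P c := by
      rintro u w _ _ rfl rfl c hc
      simpa using hc
    exact key (e.symm_apply_apply _) (e.symm_apply_apply _) _ hk
  have hF : F.Final := CatLimLib.Kron.lift_final e.symm.bijective hg
  refine ⟨_, inferInstance, inferInstance, F, hF,
    CatLimLib.Kron.lift_initial e.symm.bijective hg, Functor.isConnected_iff_of_final F,
    fun ⟨p⟩ ↦ ⟨F.obj p⟩, fun ⟨x⟩ ↦ ⟨⟨e x, false⟩⟩⟩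

end Groth.Agent.S6438
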