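import Groth.Statements.S6442
import Mathlib.CategoryTheory.Sites.EpiMono
import Mathlib.CategoryTheory.Sites.Sheafification
import Mathlib.CategoryTheory.Sites.LocallySurjective
import Mathlib.CategoryTheory.Limits.Types.Products

set_option autoImplicit false
open CategoryTheory CategoryTheory.Limits Opposite
universe u
open SiteMisc

namespace Groth.Agent.S6442

/-- An object `U` of a site is weakly contractible, i.e. for every covering sieve `S` the sheafified map
`(∐_{V → U ∈ S} h_V)^# ⟶ h_U^#` has a section, if and only if taking sections over `U` turns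
epimorphisms of sheaves of sets into surjections. (Coverings are taken as covering sieves; the
coproduct is formed in presheaves and then sheafified.) -/
theorem result {C : Type u} [SmallCategory C] (J : GrothendieckTopology C) (U : C) :
    (∀ S : Sieve U, S ∈ J U →
      IsSplitEpi ((presheafToSheaf J (Type u)).map
        (Sigma.desc (fun i : (Σ V : C, {f : V ⟶ U // S f}) => yoneda.map i.2.1) :
          (∐ fun i : (Σ V : C, {f : V ⟶ U // S f}) => yoneda.obj i.1) ⟶ yoneda.obj U))) ↔
    ∀ (F G : Sheaf J (Type u)) (φ : F ⟶ G), Epi φ → Function.Surjective (φ.hom.app (op U)) := by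
  let adj := sheafificationAdjunction J (Type u)
  let π : ∀ S : Sieve U, ((∐ fun i : (Σ V : C, {f : V ⟶ U // S f}) => yoneda.obj i.1) ⟶ yoneda.obj U) :=
    fun S => Sigma.desc (fun i : (Σ V : C, {f : V ⟶ U // S f}) => yoneda.map i.2.1)
  constructor
  · intro h F G φ hφ t
    haveI : Sheaf.IsLocallySurjective φ := (Sheaf.isLocallySurjective_iff_epi' (Type u) φ).2 hφ
    let S := Presheaf.imageSieve φ.hom t
    have hS : S ∈ J U := Presheaf.imageSieve_mem J φ.hom t
    let α : (∐ fun i : (Σ V : C, {f : V ⟶ U // S f}) => yoneda.obj i.1) ⟶ F.obj :=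
      Sigma.desc fun i => yonedaEquiv.symm (Presheaf.localPreimage φ.hom t i.2.1 i.2.2)
    have hα : α ≫ φ.hom = π S ≫ yonedaEquiv.symm t := by
      refine Sigma.hom_ext _ _ fun i => ?_
      rw [Sigma.ι_desc_assoc, Sigma.ι_desc_assoc]
      apply yonedaEquiv.injective
      rw [yonedaEquiv_comp, Equiv.apply_symm_apply, Presheaf.app_localPreimage, ← yonedaEquiv_naturality,
        Equiv.apply_symm_apply]
    obtain ⟨⟨⟨s, hs⟩⟩⟩ := h S hS
    let β : yoneda.obj U ⟶ F.obj := adj.homEquiv _ _ (s ≫ (adj.homEquiv _ _).symm α)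
    refine ⟨yonedaEquiv β, ?_⟩
    have key : β ≫ φ.hom = yonedaEquiv.symm t := by
      show adj.homEquiv _ _ (s ≫ (adj.homEquiv _ _).symm α) ≫ (sheafToPresheaf J (Type u)).map φ = _
      rw [← Adjunction.homEquiv_naturality_right, Category.assoc, ← Adjunction.homEquiv_naturality_right_symm]
      show adj.homEquiv _ _ (s ≫ (adj.homEquiv _ _).symm (α ≫ φ.hom)) = _
      erw [hα, Adjunction.homEquiv_naturality_left_symm, ← Category.assoc, hs, Category.id_comp,
        Equiv.apply_symm_apply]
    rw [← yonedaEquiv_comp, key, Equiv.apply_symm_apply]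
  · intro h S hS
    haveI : Presheaf.IsLocallySurjective J (π S) := by
      refine ⟨fun {V} s => J.superset_covering ?_ (J.pullback_stable s hS)⟩
      intro W g hg
      refine ⟨(Sigma.ι (fun i : (Σ V : C, {f : V ⟶ U // S f}) => yoneda.obj i.1) ⟨W, g ≫ s, hg⟩).app (op W) (𝟙 W), ?_⟩
      have := ConcreteCategory.congr_hom (congr_app
        (Sigma.ι_desc (fun i : (Σ V : C, {f : V ⟶ U // S f}) => yoneda.map i.2.1) ⟨W, g ≫ s, hg⟩) (op W)) (𝟙 W)
      exact this.trans (Category.id_comp (g ≫ s))
    haveI : Sheaf.IsLocallySurjective ((presheafToSheaf J (Type u)).map (π S)) :=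
      (Presheaf.isLocallySurjective_presheafToSheaf_map_iff J (π S)).2 inferInstance
    obtain ⟨x, hx⟩ := h _ _ ((presheafToSheaf J (Type u)).map (π S)) inferInstance
      (yonedaEquiv (adj.homEquiv (yoneda.obj U) _ (𝟙 _)))
    refine ⟨⟨⟨(adj.homEquiv _ _).symm (yonedaEquiv.symm x), ?_⟩⟩⟩
    apply (adj.homEquiv _ _).injective
    rw [Adjunction.homEquiv_naturality_right, Equiv.apply_symm_apply]
    apply yonedaEquiv.injective
    rw [yonedaEquiv_comp, Equiv.apply_symm_apply]
    exact hx

end Groth.Agent.S6442
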