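import Groth.Statements.S6444
import Groth.Agent.CatLimLib.Fractions

set_option autoImplicit false
set_option backward.isDefEq.respectTransparency false
set_option backward.defeqAttrib.useBackward true
open CategoryTheory
universe v u v' u'
open CatLoc

namespace Groth.Agent.S6444

/-- For a left multiplicative system, a commutative square in the localization between the images of two
morphisms `f, f'` of `C` lifts to a commutative diagram `X → X'' ← X'`, `Y → Y'' ← Y'` in `C` over a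
third morphism `f''`, the backward arrows lying in `W`. -/
theorem result {C : Type u} [Category.{v} C] {D : Type u'} [Category.{v'} D] (W : MorphismProperty C) (L : C ⥤ D) [L.IsLocalization W] [W.HasLeftCalculusOfFractions]
    {X Y X' Y' : C} (f : X ⟶ Y) (f' : X' ⟶ Y') (a : L.obj X ⟶ L.obj X') (b : L.obj Y ⟶ L.obj Y') (w : L.map f ≫ b = a ≫ L.map f') :
    ∃ (X'' Y'' : C) (f'' : X'' ⟶ Y'') (g : X ⟶ X'') (h : Y ⟶ Y'') (s : X' ⟶ X'') (t : Y' ⟶ Y''),
      W s ∧ W t ∧ f ≫ h = g ≫ f'' ∧ f' ≫ t = s ≫ f'' ∧ L.map g = a ≫ L.map s ∧ L.map h = b ≫ L.map t := by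
  obtain ⟨φa, hφa⟩ := Localization.exists_leftFraction L W a
  obtain ⟨φb, hφb⟩ := Localization.exists_leftFraction L W b
  have ha : a ≫ L.map φa.s = L.map φa.f := by rw [hφa, φa.map_comp_map_s]
  have hb : b ≫ L.map φb.s = L.map φb.f := by rw [hφb, φb.map_comp_map_s]
  obtain ⟨ψ, hψ⟩ := MorphismProperty.RightFraction.exists_leftFraction
    (MorphismProperty.RightFraction.mk φa.s φa.hs (f' ≫ φb.s))
  dsimp at hψ
  have he : L.map (φa.f ≫ ψ.f) = L.map (f ≫ φb.f ≫ ψ.s) := by
    simp only [L.map_comp, ← ha, ← reassoc_of% hb, Category.assoc]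
    rw [← L.map_comp φa.s, ← hψ, L.map_comp, L.map_comp]
    simp only [Category.assoc, reassoc_of% w]
  obtain ⟨Z, t₂, ht₂, he'⟩ := (MorphismProperty.map_eq_iff_postcomp L W _ _).1 he
  refine ⟨φa.Y', Z, ψ.f ≫ t₂, φa.f, φb.f ≫ ψ.s ≫ t₂, φa.s, φb.s ≫ ψ.s ≫ t₂, φa.hs,
    W.comp_mem _ _ φb.hs (W.comp_mem _ _ ψ.hs ht₂), ?_, ?_, ha.symm, ?_⟩
  · simpa using he'.symm
  · simpa using congrArg (· ≫ t₂) hψ
  · simp only [L.map_comp, reassoc_of% hb]

end Groth.Agent.S6444
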