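import Groth.Statements.S6448


set_option autoImplicit false
set_option backward.isDefEq.respectTransparency false
set_option backward.defeqAttrib.useBackward true
open CategoryTheory
universe v u
open CatLim

namespace Groth.Agent.S6448

/-- In a category where spans complete to commutative squares and parallel pairs are coequalized by a
later arrow, every connected component is filtered (so the category is a disjoint union of filtered
categories). -/
theorem result {I : Type u} [Category.{v} I]
    (h1 : ∀ ⦃w x y : I⦄ (a : w ⟶ x) (b : w ⟶ y), ∃ (z : I) (c : x ⟶ z) (d : y ⟶ z), a ≫ c = b ≫ d)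
    (h2 : ∀ ⦃x y : I⦄ (a b : x ⟶ y), ∃ (z : I) (c : y ⟶ z), a ≫ c = b ≫ c)
    (j : ConnectedComponents I) : IsFiltered j.Component := by
  have key : ∀ {a b : I}, Zigzag a b → ∃ (z : I) (_ : a ⟶ z) (_ : b ⟶ z), True := by
    intro a b h
    induction h with
    | refl => exact ⟨a, 𝟙 a, 𝟙 a, trivial⟩
    | @tail b c _ hz ih =>
      obtain ⟨z, f, g, -⟩ := ih
      rcases hz with ⟨⟨e⟩⟩ | ⟨⟨e⟩⟩
      · obtain ⟨w, p, q, -⟩ := h1 g e
        exact ⟨w, f ≫ p, q, trivial⟩
      · exact ⟨z, f, e ≫ g, trivial⟩
  have hmem : ∀ {x z : I}, ConnectedComponents.objectProperty j x → (x ⟶ z) →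
      ConnectedComponents.objectProperty j z := by
    intro x z hx f
    exact (Quotient.sound (Relation.ReflTransGen.single (Zag.of_inv f)) :
      Quotient.mk (Zigzag.setoid I) z = Quotient.mk (Zigzag.setoid I) x).trans hx
  haveI : IsFilteredOrEmpty j.Component :=
    { cocone_objs := fun X Y ↦ by
        obtain ⟨z, f, g, -⟩ := key (Quotient.exact ((X.2 :).trans (Y.2 :).symm))
        exact ⟨⟨z, hmem X.2 f⟩, ObjectProperty.homMk f, ObjectProperty.homMk g, trivial⟩
      cocone_maps := fun X Y f g ↦ by
        obtain ⟨z, c, hc⟩ := h2 f.hom g.hom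
        exact ⟨⟨z, hmem Y.2 c⟩, ObjectProperty.homMk c, ObjectProperty.hom_ext _ hc⟩ }
  exact { }

end Groth.Agent.S6448
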