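import Groth.Statements.S6459
import Groth.Agent.CycLib.DimFun
import Mathlib.AlgebraicGeometry.FunctionField

set_option autoImplicit false
universe u
open CategoryTheory AlgebraicGeometry
open Cyc

namespace Groth.Agent.S6459

/-- (b) ⇔ (c): let X be integral with generic point η and Z ⊂ X an integral closed subscheme with
generic point ξ. Then Z has codimension 1 in X (the local ring O_{X,ξ} is one-dimensional; Z is a
prime divisor) if and only if dim_δ(Z) = dim_δ(X) − 1. Here a pair (X, δ) with Cyc.IsSetup plays the
role of a scheme locally of finite type over the base (S, δ) (X locally Noetherian with universally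
catenary local rings, δ a dimension function). -/
theorem result (X : Scheme.{u}) [IsIntegral X] (δ : X → ℤ) (hX : Cyc.IsSetup X δ) (ξ : X) : ringKrullDim ↑(X.presheaf.stalk ξ) = 1 ↔ δ ξ = δ (genericPoint X) - 1 := by
  have h : genericPoint X ⤳ ξ := genericPoint_specializes ξ
  have hk : RingHom.ker (Cyc.specMap ξ (genericPoint X) h) = ⊥ := by
    rw [← RingHom.injective_iff_ker_eq_bot]
    show Function.Injective (X.presheaf.stalkSpecializes h ≫ X.residue (genericPoint X))
    intro a b hab
    have hfield : IsField (X.presheaf.stalk (genericPoint X)) := Field.toIsField X.functionField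
    have hinj : Function.Injective (X.residue (genericPoint X)) :=
      (RingHom.injective_iff_ker_eq_bot _).2 (Ideal.mk_ker.trans (IsLocalRing.isField_iff_maximalIdeal_eq.1 hfield))
    exact IsFractionRing.injective (X.presheaf.stalk ξ) X.functionField (hinj hab)
  have e := Groth.Agent.CycLib.ringKrullDim_locQuot hX.2.2 h
  have hle := Groth.Agent.CycLib.delta_le hX.2.2 h
  rw [← ringKrullDim_eq_of_ringEquiv ((Ideal.quotEquivOfEq hk).trans (RingEquiv.quotientBot _)), e]
  constructor
  · intro h1
    have : (δ (genericPoint X) - δ ξ).toNat = 1 := by exact_mod_cast h1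
    omega
  · intro h1
    rw [show (δ (genericPoint X) - δ ξ).toNat = 1 by omega]
    rfl

end Groth.Agent.S6459
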