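import Groth.Statements.S6458
import Groth.Agent.S6459
import Mathlib.RingTheory.Ideal.KrullsHeightTheorem

set_option autoImplicit false
universe u
open CategoryTheory AlgebraicGeometry
open Cyc

namespace Groth.Agent.S6458

/-- Let X be integral with generic point η and ξ the generic point of an irreducible component of an
effective Cartier divisor on X; locally: g ∈ 𝔪_ξ ⊂ O_{X,ξ} is nonzero and O_{X,ξ}/(g) is
zero-dimensional. Then dim_δ of the closure of ξ is dim_δ(X) − 1, i.e. δ(ξ) = δ(η) − 1. Here a pair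
(X, δ) with Cyc.IsSetup plays the role of a scheme locally of finite type over the base (S, δ) (X
locally Noetherian with universally catenary local rings, δ a dimension function). -/
theorem result (X : Scheme.{u}) [IsIntegral X] (δ : X → ℤ) (hX : Cyc.IsSetup X δ) (ξ : X) (g : ↑(X.presheaf.stalk ξ)) (hg0 : g ≠ 0) (hgm : g ∈ IsLocalRing.maximalIdeal (X.presheaf.stalk ξ)) (hdim : ringKrullDim (↑(X.presheaf.stalk ξ) ⧸ Ideal.span {g}) = 0) : δ ξ = δ (genericPoint X) - 1 := by
  haveI := hX.1
  refine (Groth.Agent.S6459.result X δ hX ξ).1 ?_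
  haveI : Ring.KrullDimLE 0 (↑(X.presheaf.stalk ξ) ⧸ Ideal.span {g}) := by
    rw [Ring.krullDimLE_iff, hdim]
    exact le_rfl
  have hmin : IsLocalRing.maximalIdeal (X.presheaf.stalk ξ) ∈ (Ideal.span {g}).minimalPrimes := by
    refine ⟨⟨inferInstance, (Ideal.span_singleton_le_iff_mem _).2 hgm⟩, fun q hq hqle => ?_⟩
    haveI := hq.1
    haveI : (q.map (Ideal.Quotient.mk (Ideal.span {g}))).IsPrime :=
      Ideal.map_isPrime_of_surjective Ideal.Quotient.mk_surjective (by rw [Ideal.mk_ker]; exact hq.2)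
    have hmax := Ideal.isMaximal_of_isPrime (q.map (Ideal.Quotient.mk (Ideal.span {g})))
    have hqm : q.IsMaximal := by
      have := Ideal.comap_isMaximal_of_surjective _ Ideal.Quotient.mk_surjective (K := q.map (Ideal.Quotient.mk (Ideal.span {g})))
      rwa [Ideal.comap_map_of_surjective _ Ideal.Quotient.mk_surjective, ← RingHom.ker_eq_comap_bot, Ideal.mk_ker,
        sup_eq_left.2 hq.2] at this
    exact (IsLocalRing.eq_maximalIdeal hqm).ge
  have h1 := Ideal.height_le_one_of_isPrincipal_of_mem_minimalPrimes (Ideal.span {g}) _ hmin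
  have h0 : IsLocalRing.maximalIdeal (X.presheaf.stalk ξ) ≠ ⊥ := fun e => hg0 (by
    rw [e] at hgm
    exact Ideal.mem_bot.1 hgm)
  have h2 : (IsLocalRing.maximalIdeal (X.presheaf.stalk ξ)).height ≠ 0 :=
    Ideal.height_eq_zero_iff_eq_bot.not.2 h0
  rw [← IsLocalRing.maximalIdeal_height_eq_ringKrullDim,
    le_antisymm h1 (Order.one_le_iff_pos.2 (pos_iff_ne_zero.2 h2))]
  rfl

end Groth.Agent.S6458
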