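import Groth.Statements.S6460
import Groth.Agent.CycLib.DimFun
import Groth.Agent.VarLib.Noetherian

set_option autoImplicit false
universe u
open CategoryTheory AlgebraicGeometry
open Cyc

namespace Groth.Agent.S6460

/-- (3) ⇒ (1): suppose that for every x ∈ X there is an integer n_x with δ(ξ) = n_x for every generic
point ξ of an irreducible component of X containing x. Then X decomposes into open and closed
subschemes X_n (n ∈ ℤ) such that every irreducible component of X_n has δ-dimension n; stated as the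
existence of a locally constant c : X → ℤ with δ(ξ) = c(ξ) for every point ξ that is maximal under
specialization. (The converse implications are immediate and not stated.) Here a pair (X, δ) with
Cyc.IsSetup plays the role of a scheme locally of finite type over the base (S, δ) (X locally
Noetherian with universally catenary local rings, δ a dimension function). -/
theorem result (X : Scheme.{u}) (δ : X → ℤ) (hX : Cyc.IsSetup X δ) (h3 : ∀ x : X, ∃ n : ℤ, ∀ ξ : X, (∀ ξ' : X, ξ' ⤳ ξ → ξ' = ξ) → ξ ⤳ x → δ ξ = n) : ∃ c : X → ℤ, IsLocallyConstant c ∧ ∀ ξ : X, (∀ ξ' : X, ξ' ⤳ ξ → ξ' = ξ) → δ ξ = c ξ := by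
  haveI := hX.1
  choose c hc using h3
  have hex : ∀ y : X, ∃ ξ : X, (∀ ξ' : X, ξ' ⤳ ξ → ξ' = ξ) ∧ ξ ⤳ y := fun y => by
    refine ⟨_, fun ξ' h' => ?_, (genericPoints.isGenericPoint_ofComponent
      ⟨_, irreducibleComponent_mem_irreducibleComponents y⟩).specializes mem_irreducibleComponent⟩
    set g := genericPoints.ofComponent (⟨_, irreducibleComponent_mem_irreducibleComponents y⟩ : irreducibleComponents X)
    have : closure {ξ'} = closure {g.1} :=
      Maximal.eq_of_ge g.2 isIrreducible_singleton.closure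
        (closure_minimal (Set.singleton_subset_iff.2 (specializes_iff_mem_closure.1 h')) isClosed_closure)
    exact ((inseparable_iff_closure_eq.2 this).eq)
  refine ⟨c, ?_, fun ξ hξ => hc ξ ξ hξ specializes_rfl⟩
  refine (IsLocallyConstant.iff_exists_open c).2 fun x => ?_
  obtain ⟨V, hV, hxV, -⟩ := AlgebraicGeometry.exists_isAffineOpen_mem_and_subset (U := ⊤) (x := x) trivial
  haveI : TopologicalSpace.NoetherianSpace (V : Set X) := Groth.Agent.VarLib.noetherianSpace_of_isAffineOpen hV
  have hfin : {ξ : X | ξ ∈ V ∧ ∀ ξ' : X, ξ' ⤳ ξ → ξ' = ξ}.Finite := by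
    refine ((genericPoints.finite (α := (V : Set X)) TopologicalSpace.NoetherianSpace.finite_irreducibleComponents).image
      (fun z => z.1)).subset ?_
    rintro ξ ⟨hξV, hξ⟩
    refine ⟨⟨ξ, hξV⟩, ?_, rfl⟩
    haveI : QuasiSober (V : Set X) := V.2.isOpenEmbedding_subtypeVal.quasiSober
    refine ⟨isIrreducible_singleton.closure, fun T hT hle w hw => ?_⟩
    obtain ⟨η, hη⟩ := QuasiSober.sober hT.closure isClosed_closure
    have h1 : η ⤳ (⟨ξ, hξV⟩ : (V : Set X)) := hη.specializes (subset_closure (hle (subset_closure rfl)))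
    have h2 : η = ⟨ξ, hξV⟩ := Subtype.ext (hξ _ (h1.map continuous_subtype_val))
    rw [← h2]
    exact specializes_iff_mem_closure.1 (hη.specializes (subset_closure hw))
  let C : Set X := ⋃ ξ ∈ {ξ : X | ξ ∈ V ∧ ∀ ξ' : X, ξ' ⤳ ξ → ξ' = ξ} ∩ {ξ | ¬ ξ ⤳ x}, closure {ξ}
  have hC : IsClosed C := (hfin.inter_of_left _).isClosed_biUnion fun _ _ => isClosed_closure
  refine ⟨(V : Set X) \ C, V.2.sdiff hC, ⟨hxV, fun h => ?_⟩, fun y hy => ?_⟩
  · obtain ⟨ξ, ⟨-, hξ⟩, hx⟩ := Set.mem_iUnion₂.1 h
    exact hξ (specializes_iff_mem_closure.2 hx)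
  · obtain ⟨ξ, hξ, hξy⟩ := hex y
    have hξx : ξ ⤳ x := by
      by_contra hn
      exact hy.2 (Set.mem_biUnion ⟨⟨hξy.mem_open V.2 hy.1, hξ⟩, hn⟩ (specializes_iff_mem_closure.1 hξy))
    rw [← hc x ξ hξ hξx, ← hc y ξ hξ hξy]

end Groth.Agent.S6460
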