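import Groth.Statements.S6461
import Groth.Agent.CycLib.DimFun
import Groth.Agent.Depth.CM
import Groth.Agent.VarLib.Noetherian

set_option autoImplicit false
universe u
open CategoryTheory AlgebraicGeometry
open Cyc

namespace Groth.Agent.S6461

/-- If all local rings of X are Cohen–Macaulay then every x ∈ X has an open neighbourhood U and an
integer n with δ(ξ) = n for every generic point ξ of an irreducible component of U (every point of U
maximal under specialization). Here a pair (X, δ) with Cyc.IsSetup plays the role of a scheme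
locally of finite type over the base (S, δ) (X locally Noetherian with universally catenary local
rings, δ a dimension function). -/
theorem result (X : Scheme.{u}) (δ : X → ℤ) (hX : Cyc.IsSetup X δ) (hCM : ∀ x : X, LocCoh.IsCohenMacaulayLocalRing ↑(X.presheaf.stalk x)) (x : X) : ∃ (U : X.Opens) (n : ℤ), x ∈ U ∧ ∀ ξ : X, ξ ∈ U → (∀ ξ' : X, ξ' ⤳ ξ → ξ' = ξ) → δ ξ = n := by
  haveI := hX.1
  have hd : Cyc.IsDimFun X δ := hX.2.2
  obtain ⟨_, ⟨V, hV, rfl⟩, hxV, -⟩ := X.isBasis_affineOpens.exists_subset_of_mem_open (Set.mem_univ x) isOpen_univ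
  haveI : TopologicalSpace.NoetherianSpace ((V : X.Opens) : Set X) := Groth.Agent.VarLib.noetherianSpace_of_isAffineOpen hV
  let B : Set ((V : X.Opens) : Set X) := ⋃₀ {C ∈ irreducibleComponents ((V : X.Opens) : Set X) | (⟨x, hxV⟩ : ((V : X.Opens) : Set X)) ∉ C}
  have hB : IsClosed B := by
    rw [show B = ⋃ C ∈ {C ∈ irreducibleComponents ((V : X.Opens) : Set X) | (⟨x, hxV⟩ : ((V : X.Opens) : Set X)) ∉ C}, C from Set.sUnion_eq_biUnion]
    exact ((TopologicalSpace.NoetherianSpace.finite_irreducibleComponents).subset fun C hC => hC.1).isClosed_biUnion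
      fun C hC => isClosed_of_mem_irreducibleComponents C hC.1
  let U : X.Opens := ⟨Subtype.val '' Bᶜ, V.2.isOpenMap_subtype_val _ hB.isOpen_compl⟩
  obtain ⟨d, hd'⟩ : ∃ d : ℕ, ringKrullDim (X.presheaf.stalk x) = d := by
    haveI : Nontrivial (X.presheaf.stalk x) := inferInstance
    obtain ⟨d, hd'⟩ := Groth.Agent.Depth.exists_natCast_eq_supportDim (R := X.presheaf.stalk x) (M := X.presheaf.stalk x)
    exact ⟨d, (Module.supportDim_self_eq_ringKrullDim (R := X.presheaf.stalk x)).symm.trans hd'⟩
  refine ⟨U, δ x + d, ⟨⟨x, hxV⟩, ?_, rfl⟩, ?_⟩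
  · rintro ⟨C, hC, hxC⟩
    exact hC.2 hxC
  rintro ξ ⟨⟨ξ, hξV⟩, hξB, rfl⟩ hmax
  -- `ξ` specialises to `x`
  let C := irreducibleComponent (⟨ξ, hξV⟩ : ((V : X.Opens) : Set X))
  have hCx : (⟨x, hxV⟩ : ((V : X.Opens) : Set X)) ∈ C := by
    by_contra h
    exact hξB ⟨C, ⟨irreducibleComponent_mem_irreducibleComponents _, h⟩, mem_irreducibleComponent⟩
  have hCi : IsIrreducible (Subtype.val '' C) := isIrreducible_irreducibleComponent.image _ continuous_subtype_val.continuousOn
  obtain ⟨η, hη⟩ := QuasiSober.sober hCi.closure isClosed_closure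
  have hηξ : η = ξ := hmax η (hη.specializes (subset_closure ⟨_, mem_irreducibleComponent, rfl⟩))
  subst hηξ
  have hx : η ⤳ x := hη.specializes (subset_closure ⟨_, hCx, rfl⟩)
  -- the prime of `η` is minimal
  let P := Groth.Agent.CycLib.specPrime hx
  have hPmin : P.asIdeal ∈ minimalPrimes (X.presheaf.stalk x) := by
    rw [minimalPrimes_eq_minimals]
    refine ⟨P.2, fun Q hQ hQP => ?_⟩
    have hle : (⟨Q, hQ⟩ : PrimeSpectrum _) ≤ P := hQP
    have hsp := (Groth.Agent.CycLib.specializes_iff_le _ _).2 hle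
    have he := hmax _ (hsp.trans (specializes_of_eq (Groth.Agent.CycLib.fromSpecStalk_specPrime hx)))
    exact le_of_eq (congrArg PrimeSpectrum.asIdeal ((X.fromSpecStalk x).isEmbedding.injective
      (he.trans (Groth.Agent.CycLib.fromSpecStalk_specPrime hx).symm))).symm
  haveI := hCM x
  have hass : P.asIdeal ∈ associatedPrimes (X.presheaf.stalk x) (X.presheaf.stalk x) :=
    Module.associatedPrimes.minimalPrimes_annihilator_subset_associatedPrimes _ _ (by
      rw [Module.annihilator_eq_bot.2 inferInstance]; exact hPmin)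
  have hdim := Groth.Agent.Depth.ringKrullDim_quotient_eq_of_mem_associatedPrimes
    Groth.Agent.Depth.isCohenMacaulayModule_self hass
  rw [Module.supportDim_self_eq_ringKrullDim, hd'] at hdim
  have h2 : ringKrullDim (Cyc.LocQuot x η hx) = d := hdim
  rw [Groth.Agent.CycLib.ringKrullDim_locQuot hd hx] at h2
  have h3 : (δ η - δ x).toNat = d := by exact_mod_cast h2
  have := Groth.Agent.CycLib.delta_le hd hx
  show δ η = δ x + d
  omega


end Groth.Agent.S6461
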