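import Groth.Statements.S6462
import Groth.Agent.CycLib.DimFun
import Mathlib.Topology.JacobsonSpace
import Mathlib.Topology.Sober
import Mathlib.Topology.KrullDimension

set_option autoImplicit false
universe u
open CategoryTheory AlgebraicGeometry
open Cyc

namespace Groth.Agent.S6462

/-- Assume in addition that X is Jacobson and δ(x) = 0 for every closed point x. For a point ξ of X with
closure Z (an integral closed subscheme whose generic point is ξ) one then has δ(ξ) = dim Z = dim
O_{Z,z} for every closed point z of Z; here Z is the closure of ξ and O_{Z,z} = O_{X,z}/𝔭_ξ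
(Cyc.LocQuot). (The published statement takes X locally of finite type over a Jacobson base with δ
zero on the base's closed points; this row assumes instead that X is Jacobson and δ vanishes on the
closed points of X, which follows from the published hypotheses.) Here a pair (X, δ) with
Cyc.IsSetup plays the role of a scheme locally of finite type over the base (S, δ) (X locally
Noetherian with universally catenary local rings, δ a dimension function). -/
theorem result (X : Scheme.{u}) [JacobsonSpace X] (δ : X → ℤ) (hX : Cyc.IsSetup X δ) (h0 : ∀ x : X, IsClosed ({x} : Set X) → δ x = 0) (ξ : X) : (topologicalKrullDim ↥(closure ({ξ} : Set X)) = ((δ ξ).toNat : WithBot ℕ∞) ∧ 0 ≤ δ ξ) ∧ ∀ (z : X) (h : ξ ⤳ z), IsClosed ({z} : Set X) → ringKrullDim (Cyc.LocQuot z ξ h) = ((δ ξ).toNat : WithBot ℕ∞) := by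
  have hd : Cyc.IsDimFun X δ := hX.2.2
  obtain ⟨z₀, hz₀, hz₀c⟩ : ∃ z, ξ ⤳ z ∧ IsClosed ({z} : Set X) := by
    obtain ⟨z, hz⟩ := nonempty_inter_closedPoints (X := X) (Z := closure {ξ}) ⟨ξ, subset_closure rfl⟩ isClosed_closure.isLocallyClosed
    exact ⟨z, specializes_iff_mem_closure.2 hz.1, hz.2⟩
  have h0ξ : ∀ w, ξ ⤳ w → 0 ≤ δ w := fun w hw => by
    obtain ⟨z, hz⟩ := nonempty_inter_closedPoints (X := X) (Z := closure {w}) ⟨w, subset_closure rfl⟩ isClosed_closure.isLocallyClosed
    rw [← h0 z hz.2]
    exact Groth.Agent.CycLib.delta_le hd (specializes_iff_mem_closure.2 hz.1)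
  have hξ : 0 ≤ δ ξ := h0ξ ξ specializes_rfl
  have hloc : ∀ (z : X) (h : ξ ⤳ z), IsClosed ({z} : Set X) →
      ringKrullDim (Cyc.LocQuot z ξ h) = ((δ ξ).toNat : WithBot ℕ∞) := fun z h hz => by
    rw [Groth.Agent.CycLib.ringKrullDim_locQuot hd h, h0 z hz, sub_zero]
  refine ⟨⟨?_, hξ⟩, hloc⟩
  let Z : Set X := closure {ξ}
  haveI : QuasiSober Z := isClosed_closure.isClosedEmbedding_subtypeVal.quasiSober
  let pt : TopologicalSpace.IrreducibleCloseds Z → Z := fun C => C.2.genericPoint
  have hpt : ∀ C : TopologicalSpace.IrreducibleCloseds Z, closure ({pt C} : Set Z) = C := fun C => by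
    rw [C.2.genericPoint_closure_eq]
    exact C.3.closure_eq
  have hsp : ∀ C C' : TopologicalSpace.IrreducibleCloseds Z, C ≤ C' → (pt C' : X) ⤳ (pt C : X) := fun C C' h => by
    refine Topology.IsInducing.subtypeVal.specializes_iff.2 (specializes_iff_mem_closure.2 ?_)
    rw [hpt C']
    exact h ((hpt C).le (subset_closure rfl))
  refine le_antisymm ?_ ?_
  · refine iSup_le fun s => ?_
    have key : ∀ i : Fin (s.length + 1), δ (pt (s 0) : X) + (i : ℕ) ≤ δ (pt (s i) : X) := by
      intro i
      induction i using Fin.induction with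
      | zero => simp
      | succ i ih =>
        have hlt : s i.castSucc < s i.succ := s.step i
        have hne : ((pt (s i.succ) : Z) : X) ≠ (pt (s i.castSucc) : X) := fun e => hlt.ne (by
          refine SetLike.coe_injective ?_
          rw [← hpt, ← hpt (s i.succ), Subtype.ext e])
        have := (hd _ _ (hsp _ _ hlt.le) hne).1
        simp only [Fin.val_succ, Fin.val_castSucc] at ih ⊢
        push_cast
        omega
    have h1 := key (Fin.last s.length)
    have h2 := h0ξ _ (specializes_iff_mem_closure.2 (pt (s 0)).2)
    have h3 := Groth.Agent.CycLib.delta_le hd (specializes_iff_mem_closure.2 (pt (s (Fin.last s.length))).2 : ξ ⤳ _)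
    rw [Fin.val_last] at h1
    exact_mod_cast (show s.length ≤ (δ ξ).toNat by omega)
  · obtain ⟨s, hs, hs'⟩ := Groth.Agent.CycLib.exists_series hd (δ ξ).toNat ξ hz₀ (by rw [h0 z₀ hz₀c]; omega)
    let g : Fin (s.length + 1) → Z := fun i => ⟨X.fromSpecStalk z₀ (s i), specializes_iff_mem_closure.1 (by
      have hh := (Groth.Agent.CycLib.specializes_iff_le (Groth.Agent.CycLib.specPrime hz₀) (s i)).2 (hs' ▸ s.head_le i)
      rwa [Groth.Agent.CycLib.fromSpecStalk_specPrime hz₀] at hh)⟩
    let C : Fin (s.length + 1) → TopologicalSpace.IrreducibleCloseds Z := fun i =>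
      ⟨closure {g i}, isIrreducible_singleton.closure, isClosed_closure⟩
    have hC : ∀ i : Fin s.length, C i.succ < C i.castSucc := fun i => by
      have hlt : s i.castSucc < s i.succ := s.step i
      have h1 : g i.castSucc ⤳ g i.succ := Topology.IsInducing.subtypeVal.specializes_iff.1
        ((Groth.Agent.CycLib.specializes_iff_le _ _).2 hlt.le)
      refine lt_of_le_of_ne (specializes_iff_closure_subset.1 h1) fun e => hlt.ne ?_
      have h2 : g i.succ ⤳ g i.castSucc := specializes_iff_closure_subset.2 (le_of_eq (congrArg SetLike.coe e).symm)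
      exact le_antisymm hlt.le ((Groth.Agent.CycLib.specializes_iff_le (s i.succ) (s i.castSucc)).1
        ((Topology.IsInducing.subtypeVal.specializes_iff (x := g i.succ) (y := g i.castSucc)).2 h2))
    let t : LTSeries (TopologicalSpace.IrreducibleCloseds Z) :=
      { length := s.length
        toFun := fun i => C i.rev
        step := fun i => by
          show C (i.castSucc.rev) < C (i.succ.rev)
          rw [Fin.rev_castSucc, Fin.rev_succ]
          exact hC i.rev }
    exact le_trans (by rw [← hs]) (Order.LTSeries.length_le_krullDim t)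


end Groth.Agent.S6462
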