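import Groth.Statements.S6472
import Groth.Agent.DiagCodim.Basic

set_option autoImplicit false
universe u
open CategoryTheory CategoryTheory.Limits AlgebraicGeometry
open IntMult

namespace Groth.Agent.S6472

/-- Let X be a nonsingular variety of dimension n over the algebraically closed field K. Then Δ : X → X
×_K X, the diagonal, is regular of codimension n as an immersion (RegImm.IsRegularImmersionOfCodim
of kind regular: an immersion which, around every point, in an affine open where it is closed, is
cut out by a regular sequence of length n). Nonsingular variety: X → Spec K smooth, separated,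
quasi-compact, X integral; n = Krull dimension of X. -/
theorem result (K : Type u) [Field K] [IsAlgClosed K] (X : Scheme.{u}) (f : X ⟶ Spec (CommRingCat.of K)) [Smooth f] [IsSeparated f] [QuasiCompact f] [IsIntegral X] (n : ℕ) (hn : topologicalKrullDim X = n) : RegImm.IsRegularImmersionOfCodim RegImm.Kind.regular n (pullback.diagonal f) := by
  haveI : IsLocallyNoetherian X := LocallyOfFiniteType.isLocallyNoetherian f
  haveI : IsLocallyNoetherian (pullback f f) :=
    LocallyOfFiniteType.isLocallyNoetherian (pullback.fst f f ≫ f)
  haveI : JacobsonSpace ↥X := LocallyOfFiniteType.jacobsonSpace f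
  obtain ⟨hcl, hreg⟩ := PCHom.isRegularClosedImmersion_diagonal f
  haveI := hcl
  refine ⟨inferInstance, fun z => ?_⟩
  obtain ⟨U, hU, hzU, rs, hrs, hker⟩ := hreg z
  rw [Scheme.Hom.ker_apply] at hker
  refine ⟨⟨U, hU⟩, hzU, IsZariskiLocalAtTarget.restrict hcl U, rs, ?_, hrs, hker⟩
  obtain ⟨z', hz'U, hz'c⟩ := nonempty_inter_closedPoints (Z := ((pullback.diagonal f) ⁻¹ᵁ U : Set X))
    ⟨z, hzU⟩ ((pullback.diagonal f) ⁻¹ᵁ U).isOpen.isLocallyClosed
  have hp : IsClosed ({pullback.diagonal f z'} : Set ↥(pullback f f)) := by
    rw [← Set.image_singleton]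
    exact (pullback.diagonal f).isClosedEmbedding.isClosedMap _ hz'c
  have h := DiagCodim.dim_stalk_add_length (pullback.diagonal f) hU hrs hker z' hz'U
  rw [DiagCodim.dim_stalk_prod K f hn hp, ringKrullDim_stalk_eq_coheight] at h
  have h2 := DimTheory.height_add_coheight f z'
  have h0 : Order.height z' = 0 := Order.height_eq_zero.2 fun q hq => by
    rw [Set.mem_singleton_iff.1 ((show z' ⤳ q from hq).mem_closed hz'c rfl)]
  rw [h0, zero_add, hn] at h2
  rw [h2] at h
  have h3 : n + rs.length = n + n := by exact_mod_cast h
  omega

end Groth.Agent.S6472
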