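import Groth.Statements.S6473
import Groth.Agent.DiagCodim.InterDim

set_option autoImplicit false
universe u
open CategoryTheory CategoryTheory.Limits AlgebraicGeometry
open IntMult

namespace Groth.Agent.S6473

/-- Let f : X → Y be a morphism of varieties over K which is a regular immersion of codimension c, and Z
⊂ Y a closed subvariety of dimension d. Then each irreducible component T of f⁻¹(Z) = X ×_Y Z
satisfies dim T ≥ d − c; stated as d ≤ dim T + c. Varieties: integral, separated, of finite type
over the algebraically closed field K. (The published statement takes f to be a closed immersion,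
regular immersions being closed there; this row allows any immersion cut out, locally on Y where it
is closed, by a regular sequence of length c, the bound being local on Y. The published statement
also has a second part, for local complete intersection morphisms of a given relative dimension,
which this row does not state.) -/
theorem result (K : Type u) [Field K] [IsAlgClosed K] (X Y Z : Scheme.{u}) (gX : X ⟶ Spec (CommRingCat.of K)) (gY : Y ⟶ Spec (CommRingCat.of K)) [IsSeparated gX] [LocallyOfFiniteType gX] [QuasiCompact gX] [IsIntegral X] [IsSeparated gY] [LocallyOfFiniteType gY] [QuasiCompact gY] [IsIntegral Y] (f : X ⟶ Y) (hf : f ≫ gY = gX) (c : ℕ) (hreg : RegImm.IsRegularImmersionOfCodim RegImm.Kind.regular c f) (ι : Z ⟶ Y) [IsClosedImmersion ι] [IsIntegral Z] (d : ℕ) (hd : topologicalKrullDim Z = d) (T : Set ↥(pullback f ι)) (hT : T ∈ irreducibleComponents ↥(pullback f ι)) : ((d : ℕ) : WithBot ℕ∞) ≤ topologicalKrullDim ↥T + c := by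
  haveI : IsLocallyNoetherian Z := LocallyOfFiniteType.isLocallyNoetherian (ι ≫ gY)
  haveI := hreg.1
  haveI : IsImmersion (pullback.snd f ι) := MorphismProperty.pullback_snd _ _ inferInstance
  let t := hT.1.genericPoint
  let p := pullback.snd f ι t
  have hιp : ι p = f (pullback.fst f ι t) := by
    rw [← Scheme.Hom.comp_apply, ← Scheme.Hom.comp_apply, pullback.condition]
  obtain ⟨U, hxU, hc, rs, hlen, -, hker⟩ := hreg.2 (pullback.fst f ι t)
  haveI := hc
  have hco : Order.coheight p ≤ (rs.length : ℕ∞) :=
    DiagCodim.height_add_coheight_le ι f (pullback.snd f ι) U.2 hker t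
      (pullback.snd f ι).isEmbedding.isInducing (DimTheory.mem_component_isMax hT) (hιp ▸ hxU)
      (fun q hq => by rw [Scheme.Pullback.range_snd]; exact hq) ⟨_, hιp.symm⟩
  have h2 := DimTheory.height_add_coheight (ι ≫ gY) p
  rw [hd, DimTheory.height_immersion (ι ≫ gY) (pullback.snd f ι) t] at h2
  rw [← DimTheory.component_eq_closure hT, DimTheory.topologicalKrullDim_closure]
  have e3 : (d : ℕ∞) ≤ Order.height t + (c : ℕ∞) := by
    rw [← hlen, show (d : ℕ∞) = Order.height t + Order.coheight p by exact_mod_cast h2.symm]
    exact add_le_add le_rfl hco
  exact_mod_cast e3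

end Groth.Agent.S6473
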