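import Groth.Statements.S6476
import Groth.Agent.CycAlgLib.Herbrand

set_option autoImplicit false
universe u v
open CycAlg

namespace Groth.Agent.S6476

/-- Let A be a Noetherian local ring, M a finite A-module of dimension 1, and φ, ψ : M → M injective
with φ(ψ(M)) = ψ(φ(M)) (e.g. φ, ψ commute). Then length_A(M/φψM) is finite and (M/φψM, φ, ψ) is an
exact (2, 1)-periodic complex; here φ', ψ' denote the endomorphisms of M/φψM induced by φ and ψ, and
exactness says both cohomology modules (CycAlg.perH) are trivial. -/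
theorem result {A : Type u} [CommRing A] [IsNoetherianRing A] [IsLocalRing A] {M : Type v} [AddCommGroup M] [Module A M] [Module.Finite A M] (hdim : Module.supportDim A M = 1) (φ ψ : M →ₗ[A] M) (hφ : Function.Injective φ) (hψ : Function.Injective ψ) (hcomm : Submodule.map φ (LinearMap.range ψ) = Submodule.map ψ (LinearMap.range φ)) (φ' ψ' : (M ⧸ LinearMap.range (φ ∘ₗ ψ)) →ₗ[A] (M ⧸ LinearMap.range (φ ∘ₗ ψ))) (hφ' : φ' ∘ₗ (LinearMap.range (φ ∘ₗ ψ)).mkQ = (LinearMap.range (φ ∘ₗ ψ)).mkQ ∘ₗ φ) (hψ' : ψ' ∘ₗ (LinearMap.range (φ ∘ₗ ψ)).mkQ = (LinearMap.range (φ ∘ₗ ψ)).mkQ ∘ₗ ψ) : Module.length A (M ⧸ LinearMap.range (φ ∘ₗ ψ)) < ⊤ ∧ CycAlg.IsPeriodic φ' ψ' ∧ Subsingleton (CycAlg.perH φ' ψ') ∧ Subsingleton (CycAlg.perH ψ' φ') := by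
  have hR : LinearMap.range (φ ∘ₗ ψ) = LinearMap.range (ψ ∘ₗ φ) := by
    rw [LinearMap.range_comp, LinearMap.range_comp]; exact hcomm
  have hψ'' : ∀ m, ψ' ((LinearMap.range (φ ∘ₗ ψ)).mkQ m) = (LinearMap.range (φ ∘ₗ ψ)).mkQ (ψ m) := LinearMap.congr_fun hψ'
  have hφ'' : ∀ m, φ' ((LinearMap.range (φ ∘ₗ ψ)).mkQ m) = (LinearMap.range (φ ∘ₗ ψ)).mkQ (φ m) := LinearMap.congr_fun hφ'
  have hz : ∀ m, m ∈ LinearMap.range (φ ∘ₗ ψ) → (LinearMap.range (φ ∘ₗ ψ)).mkQ m = 0 := fun m hm =>
    (Submodule.Quotient.mk_eq_zero _).mpr hm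
  refine ⟨?_, ⟨?_, ?_⟩, ?_, ?_⟩
  · refine Groth.Agent.CycAlgLib.length_lt_top_of_support fun p hp => ?_
    by_contra hne
    have hpM : p ∈ Module.support A M :=
      Module.support_subset_of_surjective _ (Submodule.mkQ_surjective _) hp
    let S := p.asIdeal.primeCompl
    let Mp := LocalizedModule S M
    have hfl : Module.length (Localization S) Mp < ⊤ := by
      refine Groth.Agent.CycAlgLib.length_lt_top_of_support (R := Localization.AtPrime p.asIdeal) fun Q hQ => ?_
      let q : PrimeSpectrum A := ⟨Q.asIdeal.comap (algebraMap A (Localization.AtPrime p.asIdeal)), inferInstance⟩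
      have hqp : q.asIdeal ≤ p.asIdeal := by
        show _ ≤ _
        rw [← IsLocalization.AtPrime.comap_maximalIdeal (Localization.AtPrime p.asIdeal) p.asIdeal]
        exact Ideal.comap_mono (IsLocalRing.le_maximalIdeal Q.2.ne_top)
      have hqM : q ∈ Module.support A M := by
        rw [Module.mem_support_iff_of_finite]
        intro a ha
        refine Module.mem_support_iff_of_finite.1 hQ (Module.mem_annihilator.2 fun x => ?_)
        induction x using LocalizedModule.induction_on with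
        | h m s =>
          rw [algebraMap_smul, LocalizedModule.smul'_mk, Module.mem_annihilator.1 ha m, LocalizedModule.zero_mk]
      have hqe : q = p := by
        by_contra hqne
        have hlt : q < p := lt_of_le_of_ne hqp hqne
        have hpm : p.asIdeal < IsLocalRing.maximalIdeal A :=
          lt_of_le_of_ne (IsLocalRing.le_maximalIdeal p.2.ne_top) hne
        let m0 : Module.support A M := ⟨IsLocalRing.closedPoint A, Module.mem_support_mono hpm.le hpM⟩
        let l : LTSeries (Module.support A M) := LTSeries.mk 2 ![⟨q, hqM⟩, ⟨p, hpM⟩, m0]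
          (Fin.strictMono_iff_lt_succ.2 fun i => by
            fin_cases i
            · exact hlt
            · exact hpm)
        have := (Order.LTSeries.length_le_krullDim l).trans hdim.le
        simp [l] at this
      rw [← IsLocalization.map_comap S (Localization.AtPrime p.asIdeal) Q.asIdeal,
        show Q.asIdeal.under A = p.asIdeal from congrArg PrimeSpectrum.asIdeal hqe,
        Localization.AtPrime.map_eq_maximalIdeal]
    haveI : IsArtinian (Localization S) Mp :=
      (isFiniteLength_iff_isNoetherian_isArtinian.1 (Module.length_ne_top_iff.1 hfl.ne)).2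
    let χ := φ ∘ₗ ψ
    have hinj : Function.Injective (LocalizedModule.map S χ) :=
      LocalizedModule.map_injective S χ (hφ.comp hψ)
    have hsurj := IsArtinian.surjective_of_injective_endomorphism _ hinj
    rw [Module.mem_support_iff_exists_annihilator] at hp
    obtain ⟨m', hm'⟩ := hp
    obtain ⟨m, rfl⟩ := Submodule.Quotient.mk_surjective _ m'
    obtain ⟨y, hy⟩ := hsurj (LocalizedModule.mk m 1)
    induction y using LocalizedModule.induction_on with
    | h y s =>
      rw [LocalizedModule.map_mk, LocalizedModule.mk_eq] at hy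
      obtain ⟨t, ht⟩ := hy
      have : ((t : A) * (s : A)) ∈ (Submodule.span A {(Submodule.Quotient.mk m : M ⧸ LinearMap.range (φ ∘ₗ ψ))}).annihilator := by
        rw [Submodule.mem_annihilator_span_singleton, ← Submodule.Quotient.mk_smul, Submodule.Quotient.mk_eq_zero]
        refine ⟨(t : A) • y, ?_⟩
        have h2 : (t : A) • χ y = ((t : A) * (s : A)) • m := by
          simpa [Submonoid.smul_def, mul_smul] using ht
        rw [map_smul]; exact h2
      exact (mul_mem t.2 s.2 : (t : A) * (s : A) ∈ S) (hm' this)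
  · refine LinearMap.ext fun x => ?_
    obtain ⟨m, rfl⟩ := Submodule.mkQ_surjective _ x
    rw [LinearMap.comp_apply, hψ'', hφ'', LinearMap.zero_apply]
    exact hz _ ⟨m, rfl⟩
  · refine LinearMap.ext fun x => ?_
    obtain ⟨m, rfl⟩ := Submodule.mkQ_surjective _ x
    rw [LinearMap.comp_apply, hφ'', hψ'', LinearMap.zero_apply]
    exact hz _ (hR.symm ▸ ⟨m, rfl⟩)
  · refine ⟨fun a b => ?_⟩
    suffices ∀ a : CycAlg.perH φ' ψ', a = 0 by rw [this a, this b]
    intro a
    obtain ⟨⟨x, hx⟩, rfl⟩ := Submodule.Quotient.mk_surjective _ a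
    obtain ⟨m, rfl⟩ := Submodule.mkQ_surjective _ x
    rw [LinearMap.mem_ker, hφ''] at hx
    obtain ⟨y, hy⟩ := (Submodule.Quotient.mk_eq_zero _).mp hx
    refine (Submodule.Quotient.mk_eq_zero _).mpr ⟨(LinearMap.range (φ ∘ₗ ψ)).mkQ y, ?_⟩
    rw [hψ'']
    exact congrArg _ (hφ (show φ (ψ y) = φ m from hy))
  · refine ⟨fun a b => ?_⟩
    suffices ∀ a : CycAlg.perH ψ' φ', a = 0 by rw [this a, this b]
    intro a
    obtain ⟨⟨x, hx⟩, rfl⟩ := Submodule.Quotient.mk_surjective _ a
    obtain ⟨m, rfl⟩ := Submodule.mkQ_surjective _ x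
    rw [LinearMap.mem_ker, hψ''] at hx
    obtain ⟨y, hy⟩ : ψ m ∈ LinearMap.range (ψ ∘ₗ φ) := hR ▸ (Submodule.Quotient.mk_eq_zero _).mp hx
    refine (Submodule.Quotient.mk_eq_zero _).mpr ⟨(LinearMap.range (φ ∘ₗ ψ)).mkQ y, ?_⟩
    rw [hφ'']
    exact congrArg _ (hψ (show ψ (φ y) = ψ m from hy))

end Groth.Agent.S6476
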