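import Groth.Statements.S6482
import Mathlib.RingTheory.AlgebraicIndependent.Transcendental
import Mathlib.AlgebraicGeometry.AlgebraicCycle.Basic

set_option autoImplicit false
universe u
open CategoryTheory AlgebraicGeometry
open CategoryTheory.Limits
open Cyc

namespace Groth.Agent.S6482

/-- Let f : Y → X be an envelope. Then f_* : Z_k(Y) → Z_k(X) is surjective, hence so is f_* : CH_k(Y) →
CH_k(X). An envelope is a proper, completely decomposed morphism (every point of the target has a
point over it with trivial residue field extension; this prelude's Cyc.IsCompletelyDecomposed). Here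
a pair (X, δ) with Cyc.IsSetup plays the role of a scheme locally of finite type over the base (S,
δ) (X locally Noetherian with universally catenary local rings, δ a dimension function), and
Cyc.DeltaCompat records that the dimension function upstairs is the induced one. -/
theorem result (X Y : Scheme.{u}) (δ : X → ℤ) (δY : Y → ℤ) (hX : Cyc.IsSetup X δ) (hY : Cyc.IsSetup Y δY) (f : Y ⟶ X) [IsProper f] (hcd : Cyc.IsCompletelyDecomposed f) (hδ : Cyc.DeltaCompat f δY δ) (k : ℤ) (α : AlgebraicCycle X ℤ) (hα : α ∈ Cyc.Zk X δ k) : ∃ β : AlgebraicCycle Y ℤ, β ∈ Cyc.Zk Y δY k ∧ AlgebraicCycle.map f δY δ β = α := by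
  classical
  choose σ hσ hsurj using hcd
  have hd : ∀ x, δY (σ x) = δ x := fun x => by
    letI := (f.residueFieldMap (σ x)).hom.toAlgebra
    obtain ⟨n, hn, he⟩ := hδ (σ x)
    haveI : Module.Finite (X.residueField (f (σ x))) (Y.residueField (σ x)) :=
      Module.Finite.of_surjective (Algebra.linearMap _ _) (hsurj x)
    have : n = 0 := by
      have h0 : Algebra.trdeg (X.residueField (f (σ x))) (Y.residueField (σ x)) = 0 := trdeg_eq_zero
      rw [h0] at hn
      exact_mod_cast hn.symm
    rw [this, hσ x] at he
    simpa using he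
  have hdeg : ∀ x, f.residueDegree (σ x) = 1 := fun x => by
    letI := (f.residueFieldMap (σ x)).hom.toAlgebra
    refine Module.finrank_eq_of_rank_eq (n := 1) ?_
    rw [Nat.cast_one]
    exact (LinearEquiv.ofBijective (Algebra.linearMap (X.residueField (f (σ x))) (Y.residueField (σ x)))
      ⟨RingHom.injective _, hsurj x⟩).rank_eq.symm.trans (CommSemiring.rank_self _)
  let b : Y → ℤ := fun y => if σ (f y) = y then α (f y) else 0
  have hb : ∀ y, b y ≠ 0 → α (f y) ≠ 0 ∧ σ (f y) = y := fun y hy => by
    simp only [b, ne_eq, ite_eq_right_iff, not_forall] at hy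
    exact ⟨hy.2, hy.1⟩
  let β : AlgebraicCycle Y ℤ :=
    { toFun := b
      supportWithinDomain' := by simp
      supportLocallyFiniteWithinDomain' := fun y _ => by
        obtain ⟨V, hV⟩ := (PrespectralSpace.isTopologicalBasis (X := X)).exists_subset_of_mem_open
          (show f y ∈ (Set.univ : Set X) from trivial) isOpen_univ
        obtain ⟨W, hW⟩ := (PrespectralSpace.isTopologicalBasis (X := Y)).exists_subset_of_mem_open
          (show y ∈ f ⁻¹' V from hV.2.1) (hV.1.1.preimage f.continuous)
        refine ⟨W, hW.1.1.mem_nhds hW.2.1, ?_⟩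
        refine ((α.locallyFiniteSupport.finite_inter_support_of_isCompact hV.1.2).image σ).subset ?_
        rintro z ⟨hzW, hz⟩
        exact ⟨f z, ⟨hW.2.2 hzW, (hb z hz).1⟩, (hb z hz).2⟩ }
  refine ⟨β, fun y hy => ?_, Function.locallyFinsuppWithin.ext fun x => ?_⟩
  · by_contra hne
    obtain ⟨ha, hs⟩ := hb y hne
    exact hy (by rw [← hs, hd]; by_contra h; exact ha (hα _ h))
  · show (∑ᶠ y ∈ ((f : Y → X) ⁻¹' {x}), b y * (AlgebraicCycle.mapCoeff f δY δ y : ℤ)) = α x
    rw [finsum_mem_eq_sum_of_inter_support_eq (t := {σ x}) _ ?_]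
    · rw [Finset.sum_singleton]
      have hbσ : b (σ x) = α x := by simp [b, hσ]
      have hm : AlgebraicCycle.mapCoeff f δY δ (σ x) = 1 := by
        unfold AlgebraicCycle.mapCoeff
        rw [if_pos (by rw [hd, hσ]), hdeg]
      rw [hbσ, hm, Nat.cast_one, mul_one]
    · ext y
      simp only [Set.mem_inter_iff, Set.mem_preimage, Set.mem_singleton_iff, Function.mem_support,
        Finset.coe_singleton]
      refine ⟨fun h => ⟨?_, h.2⟩, fun h => ⟨by rw [h.1]; exact hσ x, h.2⟩⟩
      rw [← h.1]; exact ((hb y (left_ne_zero_of_mul h.2)).2).symm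


end Groth.Agent.S6482
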