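import Groth.Statements.S6484
import Mathlib

set_option autoImplicit false
universe u
open CategoryTheory AlgebraicGeometry
open CategoryTheory.Limits
open Cyc

namespace Groth.Agent.S6484

/-- If f : Y → X is completely decomposed (this prelude's Cyc.IsCompletelyDecomposed: over every point
of X lies a point of Y with trivial residue field extension) and g : X' → X is any morphism of
schemes, then the base change Y ×_X X' → X' is completely decomposed. Consequently the base change
of an envelope (a proper completely decomposed morphism) is an envelope, properness being preserved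
by base change. (The published envelope statement takes X′ → X between schemes locally of finite
type over a base; this row allows any g.) -/
theorem result (X X' Y : Scheme.{u}) (f : Y ⟶ X) (g : X' ⟶ X) (hcd : Cyc.IsCompletelyDecomposed f) : Cyc.IsCompletelyDecomposed (pullback.snd f g) := by
  intro x'
  obtain ⟨y, hy, hsurj⟩ := hcd (g x')
  have : IsIso (f.residueFieldMap y) :=
    (ConcreteCategory.isIso_iff_bijective _).2 ⟨(f.residueFieldMap y).hom.injective, hsurj⟩
  let φy : Y.residueField y ⟶ X'.residueField x' :=
    CategoryTheory.inv (f.residueFieldMap y) ≫ (X.residueFieldCongr hy).hom ≫ g.residueFieldMap x'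
  have hcomm : (Spec.map φy ≫ Y.fromSpecResidueField y) ≫ f = X'.fromSpecResidueField x' ≫ g := by
    rw [Category.assoc, ← Scheme.Hom.SpecMap_residueFieldMap_fromSpecResidueField, ← Spec.map_comp_assoc,
      ← Scheme.Hom.SpecMap_residueFieldMap_fromSpecResidueField]
    simp only [φy, IsIso.hom_inv_id_assoc]
    rw [Spec.map_comp, Category.assoc, Scheme.residueFieldCongr_fromSpecResidueField]
  let L : Spec (X'.residueField x') ⟶ CategoryTheory.Limits.pullback f g :=
    CategoryTheory.Limits.pullback.lift (Spec.map φy ≫ Y.fromSpecResidueField y) (X'.fromSpecResidueField x') hcomm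
  let E := (Scheme.SpecToEquivOfField (X'.residueField x') (CategoryTheory.Limits.pullback f g)) L
  have hL : Spec.map E.2 ≫ (CategoryTheory.Limits.pullback f g).fromSpecResidueField E.1 = L :=
    (Scheme.SpecToEquivOfField (X'.residueField x') _).symm_apply_apply L
  have hcomp : Spec.map ((CategoryTheory.Limits.pullback.snd f g).residueFieldMap E.1 ≫ E.2) ≫ X'.fromSpecResidueField _ =
      Spec.map (𝟙 (X'.residueField x')) ≫ X'.fromSpecResidueField x' := by
    rw [Spec.map_comp, Category.assoc, Scheme.Hom.SpecMap_residueFieldMap_fromSpecResidueField,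
      ← Category.assoc, hL, Spec.map_id, Category.id_comp]
    exact CategoryTheory.Limits.pullback.lift_snd _ _ _
  have h2 := (Scheme.SpecToEquivOfField (X'.residueField x') X').symm.injective
    (a₁ := ⟨_, (CategoryTheory.Limits.pullback.snd f g).residueFieldMap E.1 ≫ E.2⟩) (a₂ := ⟨x', 𝟙 _⟩) hcomp
  obtain ⟨e, he⟩ := Scheme.SpecToEquivOfField_eq_iff.1 h2
  refine ⟨E.1, e, fun c => ?_⟩
  refine ⟨(X'.residueFieldCongr e).inv (E.2 c), E.2.hom.injective ?_⟩
  have h3 := congr($he ((X'.residueFieldCongr e).inv (E.2 c)))
  simp only [CommRingCat.comp_apply] at h3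
  refine h3.trans ?_
  simp only [CommRingCat.id_apply]
  exact congr($((X'.residueFieldCongr e).inv_hom_id) (E.2 c))

end Groth.Agent.S6484
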