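import Groth.Statements.S6485
import Mathlib

set_option autoImplicit false
universe u
open IntMult

namespace Groth.Agent.S6485

open MvPolynomial in
private theorem prime_rename {R : Type u} [CommRing R] {σ τ : Type} (f : τ → σ)
    (hf : Function.Injective f) {p : MvPolynomial τ R} (hp : Prime p) : Prime (rename f p) := by
  have h1 : Prime (rename (Equiv.ofInjective f hf) p) :=
    (MulEquiv.prime_iff (renameEquiv R (Equiv.ofInjective f hf)).toMulEquiv).2 hp
  have h2 := (prime_rename_iff (Set.range f)).2 h1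
  rw [rename_rename] at h2
  exact h2

open MvPolynomial Matrix in
private theorem aux (k : Type u) [Field k] : ∀ n : ℕ,
    Irreducible (Matrix.mvPolynomialX (Fin (n + 1)) (Fin (n + 1)) k).det := by
  intro n
  induction n with
  | zero =>
    rw [Matrix.det_fin_one]
    exact irreducible_mul_X_add (1 : MvPolynomial (Fin 1 × Fin 1) k) 0 (0, 0) one_ne_zero (by simp) (by simp)
      isRelPrime_one_left |> (by simpa using ·)
  | succ n ih =>
    classical
    obtain ⟨φ, hφ⟩ : ∃ φ : Fin (n + 1 + 1) → (Fin (n + 1) × Fin (n + 1) → Fin (n + 1 + 1) × Fin (n + 1 + 1)),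
        φ = fun j x => (Fin.succ x.1, j.succAbove x.2) := ⟨_, rfl⟩
    have hminor : ∀ j, ((mvPolynomialX (Fin (n + 1 + 1)) (Fin (n + 1 + 1)) k).submatrix Fin.succ j.succAbove).det =
        rename (φ j) (mvPolynomialX (Fin (n + 1)) (Fin (n + 1)) k).det := by
      intro j
      rw [AlgHom.map_det]
      congr 1
      ext a b
      simp [hφ]
    have hvars : ∀ j, ((0 : Fin (n + 1 + 1)), (0 : Fin (n + 1 + 1))) ∉
        (rename (φ j) (mvPolynomialX (Fin (n + 1)) (Fin (n + 1)) k).det).vars := by
      intro j hj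
      have := vars_rename (φ j) _ hj
      rw [Finset.mem_image] at this
      obtain ⟨x, -, hx⟩ := this
      rw [hφ] at hx
      exact Fin.succ_ne_zero _ (congrArg Prod.fst hx)
    obtain ⟨f, hf⟩ : ∃ f, f = rename (φ 0) (mvPolynomialX (Fin (n + 1)) (Fin (n + 1)) k).det := ⟨_, rfl⟩
    obtain ⟨g, hg⟩ : ∃ g : MvPolynomial (Fin (n + 1 + 1) × Fin (n + 1 + 1)) k,
        g = ∑ j : Fin (n + 1), (-1) ^ ((j.succ : Fin (n + 1 + 1)) : ℕ) * X (0, j.succ) *
          rename (φ j.succ) (mvPolynomialX (Fin (n + 1)) (Fin (n + 1)) k).det := ⟨_, rfl⟩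
    have hdet : (mvPolynomialX (Fin (n + 1 + 1)) (Fin (n + 1 + 1)) k).det = f * X (0, 0) + g := by
      rw [det_succ_row_zero, Fin.sum_univ_succ, hf, hg]
      simp only [hminor, mvPolynomialX_apply, Fin.val_zero, pow_zero, one_mul]
      ring
    have hgv : ((0 : Fin (n + 1 + 1)), (0 : Fin (n + 1 + 1))) ∉ g.vars := by
      rw [hg]
      intro h
      obtain ⟨j, -, hj⟩ := Finset.mem_biUnion.1 (vars_sum_subset _ _ h)
      rcases Finset.mem_union.1 (vars_mul _ _ hj) with h1 | h1
      · rcases Finset.mem_union.1 (vars_mul _ _ h1) with h2 | h2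
        · have h3 : ((-1 : MvPolynomial (Fin (n + 1 + 1) × Fin (n + 1 + 1)) k) ^ ((j.succ : Fin (n + 1 + 1)) : ℕ)) =
              C ((-1 : k) ^ ((j.succ : Fin (n + 1 + 1)) : ℕ)) := by simp
          rw [h3, vars_C] at h2
          exact Finset.notMem_empty _ h2
        · rw [vars_X, Finset.mem_singleton, Prod.ext_iff] at h2
          exact Fin.succ_ne_zero _ h2.2.symm
      · exact hvars _ h1
    have hprime : Prime f := by
      rw [hf]
      refine prime_rename (φ 0) ?_ ih.prime
      rintro ⟨a, b⟩ ⟨c, d⟩ h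
      rw [hφ] at h
      simpa using h
    rw [hdet]
    refine irreducible_mul_X_add f g (0, 0) hprime.ne_zero (by rw [hf]; exact hvars 0) hgv ?_
    rw [hprime.irreducible.isRelPrime_iff_not_dvd]
    intro hdvd
    obtain ⟨P, hP⟩ : ∃ P : Matrix (Fin (n + 1 + 1)) (Fin (n + 1 + 1)) k,
        P = (Equiv.swap (0 : Fin (n + 1 + 1)) 1).permMatrix k := ⟨_, rfl⟩
    let ev : MvPolynomial (Fin (n + 1 + 1) × Fin (n + 1 + 1)) k →+* k := eval fun p => P p.1 p.2
    have e1 : ev f = 0 := by
      rw [hf, ← hminor, RingHom.map_det]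
      refine det_eq_zero_of_row_eq_zero 0 (fun b => ?_)
      simp [ev, hP, Equiv.Perm.permMatrix, PEquiv.toMatrix_apply, Fin.succ_ne_zero, eq_comm]
    have e2 : ev g = -1 := by
      have := congrArg ev hdet
      rw [RingHom.map_det, mvPolynomialX_mapMatrix_eval, hP, det_permutation, Equiv.Perm.sign_swap (by simp),
        map_add, map_mul, e1, zero_mul, zero_add] at this
      rw [← this]; simp
    obtain ⟨c, hc⟩ := hdvd
    rw [hc, map_mul, e1, zero_mul] at e2
    simp at e2



/-- Let k be a field and n ≥ 1. Then the determinant of the generic matrix (x_{ij})_{1 ≤ i, j ≤ n} is an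
irreducible element of the polynomial ring k[x_{ij}] (Mathlib's Matrix.mvPolynomialX is the generic
matrix over MvPolynomial (Fin n × Fin n) k). -/
theorem result (k : Type u) [Field k] (n : ℕ) (hn : 1 ≤ n) : Irreducible (Matrix.mvPolynomialX (Fin n) (Fin n) k).det := by
  obtain ⟨m, rfl⟩ : ∃ m, n = m + 1 := ⟨n - 1, by omega⟩
  exact aux k m

end Groth.Agent.S6485
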