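import Groth.Statements.S6493
import Groth.Agent.CycLib.DimFun
import Mathlib.RingTheory.HopkinsLevitzki
import Mathlib.AlgebraicGeometry.Morphisms.FiniteType

set_option autoImplicit false
universe u
open CategoryTheory AlgebraicGeometry
open Cyc

namespace Groth.Agent.S6493

/-- Suppose Z ⊂ X is a closed subscheme whose δ-dimension is at most k, and pick a point ξ of Z
satisfying δ(ξ) = k. In that case Z has an irreducible component whose generic point is ξ; and at
every generic point ξ' of an irreducible component of Z (every point of Z maximal under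
generalization) the length of O_{Z,ξ'} over O_{X,ξ'} (= its length over itself) is finite. Here a
pair (X, δ) with Cyc.IsSetup plays the role of a scheme locally of finite type over the base (S, δ)
(X locally Noetherian with universally catenary local rings, δ a dimension function). -/
theorem result (X Z : Scheme.{u}) (δ : X → ℤ) (hX : Cyc.IsSetup X δ) (i : Z ⟶ X) [IsClosedImmersion i] (k : ℤ) (hZ : ∀ z : Z, δ (i z) ≤ k) (ξ : Z) (hξ : δ (i ξ) = k) : (∀ z : Z, z ⤳ ξ → z = ξ) ∧ ∀ ξ' : Z, (∀ z : Z, z ⤳ ξ' → z = ξ') → Module.length ↑(Z.presheaf.stalk ξ') ↑(Z.presheaf.stalk ξ') < ⊤ := by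
  refine ⟨fun z hz => ?_, fun ξ' hξ' => ?_⟩
  · refine i.isEmbedding.injective ?_
    by_contra hne
    have := (hX.2.2 _ _ (hz.map i.continuous) hne).1
    linarith [hZ z]
  · haveI := hX.1
    haveI : IsLocallyNoetherian Z := LocallyOfFiniteType.isLocallyNoetherian i
    haveI : Ring.KrullDimLE 0 (Z.presheaf.stalk ξ') := by
      refine Ring.krullDimLE_zero_iff.2 fun p hp => ?_
      have e : Groth.Agent.CycLib.specPrime (specializes_rfl (x := ξ')) = ⟨p, hp⟩ := by
        apply (Z.fromSpecStalk ξ').isEmbedding.injective
        rw [Groth.Agent.CycLib.fromSpecStalk_specPrime,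
          hξ' _ (Groth.Agent.CycLib.fromSpecStalk_specializes (⟨p, hp⟩ : PrimeSpectrum _))]
      have h2 : p = RingHom.ker (Cyc.specMap ξ' ξ' specializes_rfl) := (congrArg PrimeSpectrum.asIdeal e).symm
      rw [h2]
      refine RingHom.ker_isMaximal_of_surjective _ ?_
      show Function.Surjective (Z.presheaf.stalkSpecializes (specializes_rfl (x := ξ')) ≫ Z.residue ξ')
      rw [TopCat.Presheaf.stalkSpecializes_refl, Category.id_comp]
      exact Z.residue_surjective ξ'
    haveI : IsArtinianRing (Z.presheaf.stalk ξ') := IsNoetherianRing.isArtinianRing_of_krullDimLE_zero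
    exact lt_top_iff_ne_top.2 (Module.length_ne_top_iff.2 (isFiniteLength_iff_isNoetherian_isArtinian.2 ⟨inferInstance, inferInstance⟩))

end Groth.Agent.S6493
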