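import Groth.Statements.S6495
import Groth.Agent.CycLimit.Basic

set_option autoImplicit false
universe u
open CategoryTheory AlgebraicGeometry
open Cyc

namespace Groth.Agent.S6495

/-- Surjectivity of colim Z_k(X_i) → Z_k(X'): every k-cycle α' on the limit X' is g_i^*α for some i and
some k-cycle α on X_i, where g_i : X' → X_i is the projection and g_i^* the shift-0 base-change
pullback on coefficient functions. Setting: a directed inverse system (X_i) of quasi-compact schemes
with affine flat transition morphisms and limit X' (a limit cone), each X_i and X' carrying a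
dimension function with Cyc.IsSetup, and every transition map and every projection X' → X_i shifting
the dimension functions by c = 0 at generic points of fibres, so that the base-change pullbacks g^*
are Cyc.pullFun with shift 0. (The published statement takes X_i and X′ to be the base changes of
one quasi-compact scheme of finite type over a base S along S_i → S and lim S_i → S; this row allows
any such inverse system.) -/
theorem result (I : Type u) [Preorder I] [IsDirected I (fun a b => a ≤ b)] [Nonempty I] (D : Iᵒᵖ ⥤ Scheme.{u}) (c : Limits.Cone D) (hc : Limits.IsLimit c) (haff : ∀ (i j : Iᵒᵖ) (f : i ⟶ j), IsAffineHom (D.map f)) (hflat : ∀ (i j : Iᵒᵖ) (f : i ⟶ j), Flat (D.map f)) (hqc : ∀ i, CompactSpace ↥(D.obj i)) (δ : (i : Iᵒᵖ) → ↥(D.obj i) → ℤ) (δ' : ↥c.pt → ℤ) (hset : ∀ i, Cyc.IsSetup (D.obj i) (δ i)) (hset' : Cyc.IsSetup c.pt δ') (hshift : ∀ (i j : Iᵒᵖ) (f : i ⟶ j) (x : ↥(D.obj i)), (∀ y, D.map f y = D.map f x → y ⤳ x → y = x) → δ i x = δ j (D.map f x)) (hflat' : ∀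 i, Flat (c.π.app i)) (hshift' : ∀ (i : Iᵒᵖ) (x : ↥c.pt), (∀ y, c.π.app i y = c.π.app i x → y ⤳ x → y = x) → δ' x = δ i (c.π.app i x)) (k : ℤ) (α' : AlgebraicCycle c.pt ℤ) (hα' : α' ∈ Cyc.Zk c.pt δ' k) : ∃ (i : Iᵒᵖ) (α : AlgebraicCycle (D.obj i) ℤ), α ∈ Cyc.Zk (D.obj i) (δ i) k ∧ Cyc.pullFun (c.π.app i) δ' (δ i) 0 ⇑α = ⇑α' := by
  classical
  haveI : IsFiltered I := isFiltered_of_directed_le_nonempty I
  haveI : IsCofiltered Iᵒᵖ := inferInstance
  haveI : ∀ (a b : Iᵒᵖ) (f : a ⟶ b), IsAffineHom (D.map f) := haff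
  haveI := hqc
  haveI : IsLocallyNoetherian c.pt := hset'.1
  haveI : CompactSpace ↥c.pt := Scheme.compactSpace_of_isLimit D c hc
  haveI : IsNoetherian c.pt := ⟨⟩
  have hfin : (Function.support ⇑α').Finite := by
    have h := LocallyFiniteSupport.finite_inter_support_of_isCompact
      (Function.locallyFinsupp.locallyFiniteSupport α') isCompact_univ
    rwa [Set.univ_inter] at h
  obtain ⟨i, hi⟩ := CycLimit.exists_isGood_finset hc hfin.toFinset
  have hgood : ∀ x, α' x ≠ 0 → CycLimit.IsGood c i x := fun x hx => hi x (hfin.mem_toFinset.2 hx)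
  have hmax : ∀ x, α' x ≠ 0 → FlatEquidim.IsFibreMax (c.π.app i) x := fun x hx z hz he => by
    have := (hgood x hx).1 z (by rw [he])
    exact (hz.antisymm this).eq
  have hd : ∀ a, FlatEquidim.IsFibreMax (c.π.app i) a → δ' a = δ i (c.π.app i a) :=
    fun a ha => hshift' i a fun y he hy => ha y hy he
  have hinj : ∀ x y, α' x ≠ 0 → α' y ≠ 0 → c.π.app i x = c.π.app i y → x = y := fun x y hx hy he =>
    (((hgood x hx).1 y (specializes_of_eq he)).antisymm ((hgood y hy).1 x (specializes_of_eq he.symm))).eq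
  let g : ↥(D.obj i) → ℤ := fun z =>
    if h : ∃ x, α' x ≠ 0 ∧ c.π.app i x = z then α' h.choose else 0
  have hg : ∀ x, α' x ≠ 0 → g (c.π.app i x) = α' x := fun x hx => by
    have h : ∃ x', α' x' ≠ 0 ∧ c.π.app i x' = c.π.app i x := ⟨x, hx, rfl⟩
    simp only [g, dif_pos h]
    rw [hinj _ _ h.choose_spec.1 hx h.choose_spec.2]
  have hg0 : ∀ z, g z ≠ 0 → ∃ x, α' x ≠ 0 ∧ c.π.app i x = z := fun z hz => by
    by_contra h
    exact hz (dif_neg h)
  have hgs : (Function.support g).Finite :=
    (hfin.image (c.π.app i)).subset fun z hz => by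
      obtain ⟨x, hx, rfl⟩ := hg0 z hz
      exact ⟨x, hx, rfl⟩
  let α : AlgebraicCycle (D.obj i) ℤ :=
    ⟨g, Set.subset_univ _, fun z _ => ⟨Set.univ, Filter.univ_mem, hgs.subset Set.inter_subset_right⟩⟩
  refine ⟨i, α, fun z hz => ?_, funext fun y => ?_⟩
  · show g z = 0
    by_contra hne
    obtain ⟨x, hx, rfl⟩ := hg0 z hne
    refine hz ?_
    rw [← hd x (hmax x hx)]
    by_contra hk
    exact hx (hα' x hk)
  · show Cyc.pullFun (c.π.app i) δ' (δ i) 0 g y = α' y
    rw [CycLimit.pullFun_eq _ _ _ hd]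
    by_cases hy : α' y ≠ 0
    · rw [hg y hy, CycLimit.eq_one_of_map_maximalIdeal_eq _ (hgood y hy).2, Nat.cast_one, mul_one]
    · rw [not_not] at hy
      rw [hy, mul_eq_zero]
      by_contra hc'
      push Not at hc'
      obtain ⟨x, hx, hxy⟩ := hg0 _ hc'.1
      have hsp := (hgood x hx).1 y (specializes_of_eq hxy)
      have := DimFunLift.isFibreMax_of_pullLen_ne_zero _ (Nat.cast_ne_zero.1 hc'.2) x hsp hxy
      exact hx (this ▸ hy)

end Groth.Agent.S6495
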