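import Groth.Statements.S6496
import Groth.Agent.CycLimit.Basic

set_option autoImplicit false
universe u
open CategoryTheory AlgebraicGeometry
open Cyc

namespace Groth.Agent.S6496

/-- Injectivity of colim Z_k(X_i) → Z_k(X'): if a k-cycle α on X_i pulls back to the zero cycle on X',
then it pulls back to zero on some stage X_j above X_i. Setting: a directed inverse system (X_i) of
quasi-compact schemes with affine flat transition morphisms and limit X' (a limit cone), each X_i
and X' carrying a dimension function with Cyc.IsSetup, and every transition map and every projection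
X' → X_i shifting the dimension functions by c = 0 at generic points of fibres, so that the
base-change pullbacks g^* are Cyc.pullFun with shift 0. (The published statement takes X_i and X′ to
be the base changes of one quasi-compact scheme of finite type over a base S along S_i → S and lim
S_i → S; this row allows any such inverse system.) -/
theorem result (I : Type u) [Preorder I] [IsDirected I (fun a b => a ≤ b)] [Nonempty I] (D : Iᵒᵖ ⥤ Scheme.{u}) (c : Limits.Cone D) (hc : Limits.IsLimit c) (haff : ∀ (i j : Iᵒᵖ) (f : i ⟶ j), IsAffineHom (D.map f)) (hflat : ∀ (i j : Iᵒᵖ) (f : i ⟶ j), Flat (D.map f)) (hqc : ∀ i, CompactSpace ↥(D.obj i)) (δ : (i : Iᵒᵖ) → ↥(D.obj i) → ℤ) (δ' : ↥c.pt → ℤ) (hset : ∀ i, Cyc.IsSetup (D.obj i) (δ i)) (hset' : Cyc.IsSetup c.pt δ') (hshift : ∀ (i j : Iᵒᵖ) (f : i ⟶ j) (x : ↥(D.obj i)), (∀ y, D.map f y = D.map f x → y ⤳ x → y = x) → δ i x = δ j (D.map f x)) (hflat' : ∀ i, Flat (c.π.app i)) (hshift' : ∀ (i : Iᵒᵖ) (x : ↥c.pt), (∀ y, c.π.app i y = c.π.app i x → y ⤳ x →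 y = x) → δ' x = δ i (c.π.app i x)) (k : ℤ) (i : Iᵒᵖ) (α : AlgebraicCycle (D.obj i) ℤ) (hα : α ∈ Cyc.Zk (D.obj i) (δ i) k) (h0 : Cyc.pullFun (c.π.app i) δ' (δ i) 0 ⇑α = 0) : ∃ (j : Iᵒᵖ) (f : j ⟶ i), Cyc.pullFun (D.map f) (δ j) (δ i) 0 ⇑α = 0 := by
  haveI : IsFiltered I := isFiltered_of_directed_le_nonempty I
  haveI : IsCofiltered Iᵒᵖ := inferInstance
  haveI : ∀ (a b : Iᵒᵖ) (f : a ⟶ b), IsAffineHom (D.map f) := haff
  haveI := hqc i
  haveI : IsLocallyNoetherian c.pt := hset'.1
  haveI : IsLocallyNoetherian (((Functor.const Iᵒᵖ).obj c.pt).obj i) := hset'.1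
  have hfin : (Function.support ⇑α).Finite := by
    have h := LocallyFiniteSupport.finite_inter_support_of_isCompact
      (Function.locallyFinsupp.locallyFiniteSupport α) isCompact_univ
    rwa [Set.univ_inter] at h
  have hno : ∀ x ∈ Function.support ⇑α, x ∉ Set.range (c.π.app i) := by
    intro x hx hr
    obtain ⟨z, rfl, hz⟩ := CycLimit.exists_fibreMax_eq (c.π.app i) hr
    have h := congrFun h0 z
    rw [CycLimit.pullFun_eq _ _ _ (fun a ha => hshift' i a fun y he hy => ha y hy he)] at h
    rcases mul_eq_zero.1 h with h | h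
    · exact hx h
    · exact CycLimit.pullLen_ne_zero _ hz (by exact_mod_cast h)
  obtain ⟨j, φ, hj⟩ := CycLimit.exists_notMem_range hc i hfin hno
  refine ⟨j, φ, funext fun y => ?_⟩
  have h : α (D.map φ y) = 0 := by
    by_contra hne
    exact hj _ hne ⟨y, rfl⟩
  unfold Cyc.pullFun
  rw [h]
  simp

end Groth.Agent.S6496
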