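import Groth.Statements.S6499
import Groth.Agent.QCohBase.CohProps
import Groth.Agent.QCohBase.Support

set_option autoImplicit false
universe u
open CategoryTheory AlgebraicGeometry
open Cyc

namespace Groth.Agent.S6499

/-- Suppose X and Y are schemes locally of finite type over the base, and π : X → Y is a morphism
between them that is finite. Then π_* sends Coh_{≤k}(X) into Coh_{≤k}(Y): for F coherent on X with
dim_δ Supp(F) ≤ k, the direct image π_*F is coherent with dim_δ Supp(π_*F) ≤ k (Cyc.CohLe).
(Exactness of π_* and the commutative diagram with the cycle maps are not restated; the latter is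
the existing compatibility of [−]_k with π_*.) Here a pair (X, δ) with Cyc.IsSetup plays the role of
a scheme locally of finite type over the base (S, δ) (X locally Noetherian with universally catenary
local rings, δ a dimension function), and Cyc.DeltaCompat records that the dimension function
upstairs is the induced one. -/
theorem result (X Y : Scheme.{u}) (δX : X → ℤ) (δY : Y → ℤ) (hX : Cyc.IsSetup X δX) (hY : Cyc.IsSetup Y δY) (π : X ⟶ Y) [IsFinite π] (hδ : Cyc.DeltaCompat π δX δY) (k : ℤ) (F : X.Modules) (hF : Cyc.CohLe δX k F) : Cyc.CohLe δY k ((Coh.push π).obj F) := by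
  haveI := hY.1
  refine ⟨QCohBase.isCoh_pushforward_of_isFinite π hF.1, fun y hy => ?_⟩
  have hS := QCohBase.isClosed_support F hF.1.2
  have hy' : y ∈ π '' (CohB1.support F) := by
    by_contra hy0
    refine not_subsingleton_iff_nontrivial.2 hy ⟨fun a b => ?_⟩
    let W : Y.Opens := ⟨(π '' (CohB1.support F))ᶜ, (π.isClosedMap _ hS).isOpen_compl⟩
    suffices h : ∀ c : ((Coh.push π).obj F).presheaf.stalk y, c = 0 by rw [h a, h b]
    intro c
    obtain ⟨V, hV, s, rfl⟩ := TopCat.Presheaf.exists_germ_eq ((Coh.push π).obj F).presheaf c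
    rw [← TopCat.Presheaf.germ_res_apply ((Coh.push π).obj F).presheaf (homOfLE (inf_le_left : V ⊓ W ≤ V)) y
      ⟨hV, hy0⟩ s]
    convert map_zero (((Coh.push π).obj F).presheaf.germ (V ⊓ W) y ⟨hV, hy0⟩).hom
    show F.presheaf.map _ s = 0
    refine TopCat.Presheaf.section_ext (⟨F.presheaf, F.isSheaf⟩ : TopCat.Sheaf Ab X) _ _ _ fun x hx => ?_
    haveI : Subsingleton (F.presheaf.stalk x) := not_not.1 fun h => hx.2 ⟨x, h, rfl⟩
    exact Subsingleton.elim (α := F.presheaf.stalk x) _ _
  obtain ⟨x, hx, rfl⟩ := hy'
  obtain ⟨n, -, hn⟩ := hδ x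
  have := hF.2 x (not_subsingleton_iff_nontrivial.1 hx)
  omega

end Groth.Agent.S6499
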