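import Groth.Statements.S6500
import Mathlib
import Groth.Agent.CAlgReg.GlobalDim
import Groth.Agent.GeomRegH.Basic
import Groth.Agent.FlatFibrePD.TorDimension

set_option autoImplicit false
universe u
open CategoryTheory CategoryTheory.Limits AlgebraicGeometry
attribute [local instance] HasDerivedCategory.standard
open IntMult

namespace Groth.Agent.S6500

/-- Let X be a nonsingular variety of dimension n and F, G coherent O_X-modules. The Tor sheaves
Tor_p^{O_X}(F, G), whose stalks are Tor_p^{O_{X,x}}(F_x, G_x), are nonzero only for p ∈ {0, …, n}: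
for every point x and every p > n, Tor_p^{O_{X,x}}(F_x, G_x) = 0. (Coherence of the Tor sheaves and
the support statement are not restated.) Nonsingular variety: X → Spec K smooth, separated,
quasi-compact, X integral, K algebraically closed; n = dim X. -/
theorem result (K : Type u) [Field K] [IsAlgClosed K] (X : Scheme.{u}) (f : X ⟶ Spec (CommRingCat.of K)) [Smooth f] [IsSeparated f] [QuasiCompact f] [IsIntegral X] (n : ℕ) (hn : topologicalKrullDim X = n) (F G : X.Modules) (hF : Coh.IsCoh F) (hG : Coh.IsCoh G) (x : X) (p : ℕ) (hp : n < p) : Subsingleton (DRing.Tor ↑(X.presheaf.stalk x) p ↑(F.presheaf.stalk x) ↑(G.presheaf.stalk x)) := by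
  have hdimle : ringKrullDim (X.presheaf.stalk x) ≤ n := by
    rw [ringKrullDim_stalk_eq_coheight x]
    refine le_trans (Order.coheight_le_krullDim x) ?_
    refine le_trans (le_of_eq ?_) hn.le
    exact (Order.krullDim_eq_of_orderIso irreducibleSetEquivPoints).symm
  obtain ⟨_, ⟨U, hU, rfl⟩, hxU, -⟩ :=
    X.isBasis_affineOpens.exists_subset_of_mem_open (Set.mem_univ x) isOpen_univ
  have hUle : U ≤ f ⁻¹ᵁ ⊤ := le_top
  have hsm : (f.appLE ⊤ U hUle).hom.Smooth := Smooth.smooth_appLE (f := f) (isAffineOpen_top _) hU hUle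
  let φ : K →+* Γ(X, U) := (f.appLE ⊤ U hUle).hom.comp
    (Scheme.ΓSpecIso (CommRingCat.of K)).inv.hom
  have hφ : φ.Smooth := RingHom.Smooth.comp (RingHom.Smooth.of_bijective
    (ConcreteCategory.bijective_of_isIso (Scheme.ΓSpecIso (CommRingCat.of K)).inv)) hsm
  letI : Algebra K Γ(X, U) := φ.toAlgebra
  haveI : Algebra.Smooth K Γ(X, U) := hφ
  haveI : IsRegularRing Γ(X, U) := GeomRegH.isRegularRing_of_smooth K _
  letI := TopCat.Presheaf.algebra_section_stalk X.presheaf (⟨x, hxU⟩ : U)
  have hloc := hU.isLocalization_stalk ⟨x, hxU⟩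
  haveI : IsRegularLocalRing (Localization.AtPrime (hU.primeIdealOf ⟨x, hxU⟩).asIdeal) :=
    IsRegularRing.isRegularLocalRing_localization _
  haveI : IsRegularLocalRing (X.presheaf.stalk x) :=
    IsRegularLocalRing.of_ringEquiv (IsLocalization.algEquiv (hU.primeIdealOf ⟨x, hxU⟩).asIdeal.primeCompl
      (Localization.AtPrime (hU.primeIdealOf ⟨x, hxU⟩).asIdeal) (X.presheaf.stalk x)).toRingEquiv
  obtain ⟨d, hd, hdn⟩ : ∃ d : ℕ, ringKrullDim (X.presheaf.stalk x) = d ∧ d ≤ n := by
    obtain ⟨d, hd⟩ : ∃ d : ℕ, ringKrullDim (X.presheaf.stalk x) = d :=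
      ⟨_, (isRegularLocalRing_iff _).1 inferInstance |>.symm⟩
    rw [hd] at hdimle
    exact ⟨d, hd, by exact_mod_cast hdimle⟩
  have key : ∀ (m : ℕ) (M : Type u) [AddCommGroup M] [Module (X.presheaf.stalk x) M],
      CAlgReg.PdLT (X.presheaf.stalk x) M (m + 1) →
      DRing.HasTorDimLE (X.presheaf.stalk x) m M := by
    intro m
    induction m with
    | zero =>
      intro M _ _ h
      haveI : Projective (ModuleCat.of (X.presheaf.stalk x) M) :=
        projective_iff_hasProjectiveDimensionLT_one.2 h
      haveI : Module.Projective (X.presheaf.stalk x) M := (IsProjective.iff_projective _).2 inferInstance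
      exact FlatFibrePD.hasTorDimLE_zero_of_flat
    | succ m ih =>
      intro M _ _ h
      let π := Finsupp.linearCombination (X.presheaf.stalk x) (id : M → M)
      have hπ : Function.Surjective π := Finsupp.linearCombination_id_surjective _ _
      have hS := LinearMap.shortExact_shortComplexKer hπ
      have hk := (hS.hasProjectiveDimensionLT_X₃_iff m
        ((IsProjective.iff_projective _).1 inferInstance)).1 h
      exact FlatFibrePD.hasTorDimLE_succ_of_exact Subtype.val_injective
        (LinearMap.exact_subtype_ker_map π) hπ (ih _ hk)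
  exact key d _ (CAlgReg.pdLT_of_isRegularLocalRing hd _) _ p (lt_of_le_of_lt hdn hp)

end Groth.Agent.S6500
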