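import Groth.Statements.S6512
import Groth.Agent.DCohBridge.MayerVietoris
set_option autoImplicit false
universe u
open CategoryTheory
attribute [local instance] HasDerivedCategory.standard
open DCoh

namespace Groth.Agent.S6512

set_option backward.isDefEq.respectTransparency false
set_option backward.defeqAttrib.useBackward true
open AlgebraicGeometry Limits DCohBridge in
lemma rgamma_iso {X : Scheme.{u}} [DCoh.HasRΓ X] (I : CochainComplex X.Modules ℤ) [I.IsKInjective] {E : DCoh.D X}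
    (e : DCoh.toD X I ≅ E) : Nonempty ((DCoh.RΓ X).obj E ≅
      DerivedCategory.Q.obj (((DCoh.gammaAb X).mapHomologicalComplex (ComplexShape.up ℤ)).obj I)) := by
  haveI := (Groth.Agent.S1032.result (exists_kInj X) (DCoh.gammaKh X)).2 I inferInstance
  exact ⟨(DCoh.RΓ X).mapIso e.symm ≪≫ (asIso (((DCoh.gammaKh X).totalRightDerivedUnit DerivedCategory.Qh
    (HomotopyCategory.quasiIso X.Modules (ComplexShape.up ℤ))).app ((HomotopyCategory.quotient _ _).obj I))).symm⟩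

open AlgebraicGeometry Limits DCohBridge in
lemma rgamma_restrict_iso {X : Scheme.{u}} (W : X.Opens) [DCoh.HasRΓ (W : Scheme.{u})] (I : CochainComplex X.Modules ℤ) [I.IsKInjective]
    {E : DCoh.D X} (e : DCoh.toD X I ≅ E) : Nonempty ((DCoh.RΓ (W : Scheme.{u})).obj ((DCoh.restrictD W.ι).obj E) ≅
      DerivedCategory.Q.obj (((DCoh.gammaAb X).mapHomologicalComplex (ComplexShape.up ℤ)).obj (gCxZ (𝟙 X) W I))) := by
  haveI : ((resCx W.ι).obj I).IsKInjective := isKInjective_resCx W.ι I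
  obtain ⟨e'⟩ := rgamma_iso ((resCx W.ι).obj I) ((restrictObjIso W.ι I).symm ≪≫ (DCoh.restrictD W.ι).mapIso e)
  exact ⟨e' ≪≫ DerivedCategory.Q.mapIso (HomologicalComplex.Hom.isoOfComponents (fun n => Iso.refl _)
    (fun a b _ => by dsimp; rw [CategoryTheory.Category.id_comp, CategoryTheory.Category.comp_id]; rfl))⟩


open AlgebraicGeometry CategoryTheory.Limits in
/-- If a scheme X is the union of two opens U and V, then for every E ∈ D(O_X) there is a distinguished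
triangle RΓ(X, E) → RΓ(U, E) ⊕ RΓ(V, E) → RΓ(U ∩ V, E) → RΓ(X, E)[1] in D(Ab), where RΓ(U, E) means
RΓ(U, E|_U). The objects are the stated ones; the morphisms are only asserted to exist (the long
exact cohomology sequence follows by applying the homological functor H^0). (The published statement
is for ringed spaces; this row is for schemes.) -/
theorem result {X : Scheme.{u}} (U V : X.Opens) (hUV : U ⊔ V = ⊤)
    [DCoh.HasRΓ X] [DCoh.HasRΓ (U : Scheme.{u})] [DCoh.HasRΓ (V : Scheme.{u})] [DCoh.HasRΓ (U ⊓ V : X.Opens)]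
    [PreservesFiniteLimits (Scheme.Modules.restrictFunctor U.ι)]
    [PreservesFiniteLimits (Scheme.Modules.restrictFunctor V.ι)]
    [PreservesFiniteLimits (Scheme.Modules.restrictFunctor (U ⊓ V).ι)] (E : DCoh.D X) :
    ∃ (a : (DCoh.RΓ X).obj E ⟶ ((DCoh.RΓ (U : Scheme.{u})).obj ((DCoh.restrictD U.ι).obj E) ⊞ (DCoh.RΓ (V : Scheme.{u})).obj ((DCoh.restrictD V.ι).obj E))) (b : ((DCoh.RΓ (U : Scheme.{u})).obj ((DCoh.restrictD U.ι).obj E) ⊞ (DCoh.RΓ (V : Scheme.{u})).obj ((DCoh.restrictD V.ι).obj E)) ⟶ (DCoh.RΓ (U ⊓ V : X.Opens)).obj ((DCoh.restrictD (U ⊓ V).ι).obj E)) (c : (DCoh.RΓ (U ⊓ V : X.Opens)).obj ((DCoh.restrictD (U ⊓ V).ι).obj E) ⟶ ((DCoh.RΓ X).obj E)⟦(1 : ℤ)⟧),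
      Pretriangulated.Triangle.mk a b c ∈ Pretriangulated.distinguishedTriangles := by
  obtain ⟨I, s, hI, hs, -, hinj⟩ := Groth.Agent.S0476.result (DerivedCategory.Q.objPreimage E)
  haveI := hs
  haveI := hI
  haveI := hinj
  let eE : DCoh.toD X I ≅ E := (asIso (DerivedCategory.Q.map s)).symm ≪≫ DerivedCategory.Q.objObjPreimageIso E
  obtain ⟨eA⟩ := rgamma_restrict_iso U I eE
  obtain ⟨eB⟩ := rgamma_restrict_iso V I eE
  obtain ⟨eC⟩ := rgamma_restrict_iso (U ⊓ V) I eE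
  obtain ⟨eX⟩ := rgamma_iso I eE
  obtain ⟨eT⟩ := DCohBridge.nonempty_gCxZ_top_iso (𝟙 X) (U ⊔ V) hUV I
  let G := (DCoh.gammaAb X).mapHomologicalComplex (ComplexShape.up ℤ)
  let S := ShortComplex.mk (biprod.lift (DCohBridge.gCxZMap (𝟙 X) (le_sup_left : U ≤ U ⊔ V) I) (DCohBridge.gCxZMap (𝟙 X) (le_sup_right : V ≤ U ⊔ V) I))
      (biprod.desc (DCohBridge.gCxZMap (𝟙 X) (inf_le_left : U ⊓ V ≤ U) I) (-DCohBridge.gCxZMap (𝟙 X) (inf_le_right : U ⊓ V ≤ V) I))
      (by simp [DCohBridge.gCxZMap_w])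
  have hS : S.ShortExact := DCohBridge.shortExact_mv (𝟙 X) U V I
  have hG : (S.map G).ShortExact := by
    refine HomologicalComplex.shortExact_of_degreewise_shortExact _ fun n => ?_
    have h := hS.map_of_exact (HomologicalComplex.eval X.Modules (ComplexShape.up ℤ) n)
    haveI hm : Mono (S.f.f n) := h.mono_f
    haveI := h.mono_f
    haveI hf : TopCat.Sheaf.IsFlasque (X := X.toTopCat) (Coh.toAb (I.X n)) :=
      @FlasqueAcyclic.isFlasque_toAb X _ inferInstance
    haveI : Mono ((S.map G).map (HomologicalComplex.eval AddCommGrpCat.{u} (ComplexShape.up ℤ) n)).f :=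
      (AddCommGrpCat.mono_iff_injective _).2 (QCohBase.app_injective_of_mono (S.f.f n) ⊤)
    haveI : Epi ((S.map G).map (HomologicalComplex.eval AddCommGrpCat.{u} (ComplexShape.up ℤ) n)).g := by
      refine (AddCommGrpCat.epi_iff_surjective _).2 fun z => ?_
      obtain ⟨y, hy⟩ := RPushQCoh.gMap_surjective (𝟙 X) (I.X n) (inf_le_left : U ⊓ V ≤ U) ⊤ z
      refine ⟨((biprod.inl : DCohBridge.gCxZ (𝟙 X) U I ⟶ _ ⊞ DCohBridge.gCxZ (𝟙 X) V I).f n).app ⊤ y, ?_⟩
      refine Eq.trans ?_ hy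
      have e : (biprod.inl : DCohBridge.gCxZ (𝟙 X) U I ⟶ _ ⊞ DCohBridge.gCxZ (𝟙 X) V I).f n ≫ S.g.f n =
          (DCohBridge.gCxZMap (𝟙 X) (inf_le_left : U ⊓ V ≤ U) I).f n := by
        rw [← HomologicalComplex.comp_f]; simp [S]
      exact congrArg (fun φ => AlgebraicGeometry.Scheme.Modules.Hom.app φ ⊤ y) e
    refine ShortComplex.ShortExact.mk ((ShortComplex.ab_exact_iff _).2 fun y hy => ?_)
    exact QCohBase.sections_exact_left h.exact y hy
  let T := DerivedCategory.triangleOfSES hG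
  let e₁ : (DCoh.RΓ X).obj E ≅ T.obj₁ := eX ≪≫ DerivedCategory.Q.mapIso (G.mapIso
    (eT ≪≫ ((NatIso.mapHomologicalComplex (AlgebraicGeometry.Scheme.Modules.pushforwardId X) (ComplexShape.up ℤ)).app I) ≪≫
      (Functor.mapHomologicalComplexIdIso X.Modules (ComplexShape.up ℤ)).app I).symm)
  haveI := preservesBinaryBiproducts_of_preservesBiproducts (G ⋙ DerivedCategory.Q)
  let e₂ := biprod.mapIso eA eB ≪≫ ((G ⋙ DerivedCategory.Q).mapBiprod _ _).symm
  refine ⟨e₁.hom ≫ T.mor₁ ≫ e₂.inv, e₂.hom ≫ T.mor₂ ≫ eC.inv, eC.hom ≫ T.mor₃ ≫ e₁.inv⟦(1 : ℤ)⟧',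
    Pretriangulated.isomorphic_distinguished _ (DerivedCategory.triangleOfSES_distinguished hG) _
      (Pretriangulated.Triangle.isoMk _ T e₁ e₂ eC ?_ ?_ ?_)⟩
  · simp
  · simp
  · simp [← Functor.map_comp]

end Groth.Agent.S6512
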