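import Groth.Statements.S6522
import Groth.Agent.CohTopRlim.Pointwise

set_option autoImplicit false
universe u
open CategoryTheory
open CohTop

namespace Groth.Agent.S6522

open TopologicalSpace CategoryTheory.Limits in
/-- Let E be an object of the derived category of abelian sheaves on a topological space X. Assume there
are an integer d ≥ 0 and a basis B for the topology such that H^p(U, H^q(E)) = 0 for U in B, p > d
and q < 0. Then E is a derived limit of the tower of its truncations τ_{≥ -n} E through the
canonical maps. The countable product of the truncations is assumed to exist. (The published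
statement is for D(O_X) of a ringed space; this row is for abelian sheaves on a topological space.) -/
theorem result {X : TopCat.{u}}
    [HasDerivedCategory.{u} (CohTop.Ab X)] (E : DerivedCategory (CohTop.Ab X))
    [HasProduct (CohCx.truncTower E)] (B : Set (Opens X)) (hB : Opens.IsBasis B) (d : ℕ)
    (h : ∀ U ∈ B, ∀ (p : ℕ) (q : ℤ), d < p → q < 0 → Subsingleton (CohTop.HU (CohCx.HD E q) p U)) :
    CohCx.IsRlimVia (CohCx.truncTower E) (CohCx.truncTowerMap E) E (CohCx.toTruncTower E) := by
  refine Groth.Agent.CohTopRlim.isRlimVia_truncTower_ab E fun x => ⟨fun _ => d, fun V hV => ?_⟩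
  obtain ⟨_, ⟨U, hU, rfl⟩, hxU, hUV⟩ := hB.exists_subset_of_mem_open (show x ∈ (V : Set X) from hV) V.isOpen
  exact ⟨U, hxU, hUV, fun m k hk hmk => h U hU k _ (Int.ofNat_lt.mp hk) hmk⟩

end Groth.Agent.S6522
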