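import Groth.Statements.S6528
import Groth.Agent.DCohBridge.Support

set_option autoImplicit false
universe u
open CategoryTheory
attribute [local instance] HasDerivedCategory.standard
open DCoh

open Groth.Agent.DCohBridge

namespace Groth.Agent.S6528

set_option backward.isDefEq.respectTransparency false
set_option backward.defeqAttrib.useBackward true

open AlgebraicGeometry CategoryTheory.Limits in
/-- Restricting an extension by zero gives back the object. -/
theorem nonempty_restrictD_extZeroD {U X : Scheme.{u}} (j : U ⟶ X) [IsOpenImmersion j] (F : DCoh.D U) :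
    Nonempty ((DCoh.restrictD j).obj ((CxOX.extZeroD j).obj F) ≅ F) :=
  let C := DerivedCategory.Q.objPreimage F
  let eC : DerivedCategory.Q.obj C ≅ F := DerivedCategory.Q.objObjPreimageIso F
  ⟨(DCoh.restrictD j).mapIso ((CxOX.extZeroD j).mapIso eC.symm ≪≫ (CxOX.extZero j).mapDerivedCategoryFactors.app C) ≪≫
    restrictObjIso j _ ≪≫ DerivedCategory.Q.mapIso (HomologicalComplex.Hom.isoOfComponents
      (fun n => ((asIso (CxOX.extZeroAdj j).unit).app (C.X n)).symm)
      (fun a b _ => ((asIso (CxOX.extZeroAdj j).unit).inv.naturality (C.d a b)).symm)) ≪≫ eC⟩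

open AlgebraicGeometry CategoryTheory.Limits in
/-- Cohomology commutes with extension by zero. -/
theorem nonempty_HD_extZeroD {U X : Scheme.{u}} (j : U ⟶ X) [IsOpenImmersion j] (F : DCoh.D U) (i : ℤ) :
    Nonempty (DCoh.HD ((CxOX.extZeroD j).obj F) i ≅ (CxOX.extZero j).obj (DCoh.HD F i)) :=
  let C := DerivedCategory.Q.objPreimage F
  let eC : DerivedCategory.Q.obj C ≅ F := DerivedCategory.Q.objObjPreimageIso F
  let T := CxOX.extZero j
  ⟨(DerivedCategory.homologyFunctor X.Modules i).mapIso ((CxOX.extZeroD j).mapIso eC.symm ≪≫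
      T.mapDerivedCategoryFactors.app C) ≪≫
    (DerivedCategory.homologyFunctorFactors X.Modules i).app ((T.mapHomologicalComplex _).obj C) ≪≫
    (C.sc i).mapHomologyIso T ≪≫ T.mapIso ((DerivedCategory.homologyFunctorFactors U.Modules i).symm.app C ≪≫
      (DerivedCategory.homologyFunctor U.Modules i).mapIso eC)⟩

open AlgebraicGeometry CategoryTheory.Limits in
/-- Let j : U → X be an open subscheme and T ⊆ U a subset which is closed in X. (1) If E ∈ D(O_X) has
cohomology sheaves supported on T, then E ≅ Rj_*(E|_U). (2) If F ∈ D(O_U) has cohomology sheaves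
supported on T, then j_!F ≅ Rj_*F. The published statement asserts that the canonical maps are
isomorphisms; this row asserts only that isomorphisms exist. (The published statement is for ringed
spaces; this row is for schemes.) -/
theorem result {X : Scheme.{u}} (U : X.Opens) [DCoh.HasRpush U.ι]
    [PreservesFiniteLimits (CxOX.extZero U.ι)] (T : Set X) (hT : IsClosed T) (hTU : T ⊆ (U : Set X)) :
    (∀ E : DCoh.D X, (∀ i : ℤ, CohB1.support (DCoh.HD E i) ⊆ T) →
      Nonempty (E ≅ (DCoh.Rpush U.ι).obj ((DCoh.restrictD U.ι).obj E))) ∧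
    (∀ F : DCoh.D (U : Scheme.{u}),
      (∀ i : ℤ, (fun x : (U : Scheme.{u}) => U.ι.base x) '' CohB1.support (DCoh.HD F i) ⊆ T) →
      Nonempty ((CxOX.extZeroD U.ι).obj F ≅ (DCoh.Rpush U.ι).obj F)) := by
  have hr : T ⊆ Set.range U.ι.base := fun x hx => ⟨⟨x, hTU hx⟩, rfl⟩
  refine ⟨fun E hE => nonempty_iso_Rpush_of_support U.ι T hT hr E hE, fun F hF => ?_⟩
  obtain ⟨e₀⟩ := nonempty_restrictD_extZeroD U.ι F
  obtain ⟨e₁⟩ := nonempty_iso_Rpush_of_support U.ι T hT hr ((CxOX.extZeroD U.ι).obj F) fun i x hx => by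
    have h1 : ¬ Subsingleton (((CxOX.extZero U.ι).obj (DCoh.HD F i)).presheaf.stalk x) := fun h =>
      hx ((subsingleton_stalk_congr (nonempty_HD_extZeroD U.ι F i).some x).2 h)
    by_cases hxU : x ∈ Set.range U.ι.base
    · obtain ⟨u, rfl⟩ := hxU
      refine hF i ⟨u, fun h => h1 ?_, rfl⟩
      exact (subsingleton_stalk_restrict_iff U.ι _ u).1
        ((subsingleton_stalk_congr ((asIso (CxOX.extZeroAdj U.ι).unit).app (DCoh.HD F i)) u).1 h)
    · exact absurd (ModuleCat.subsingleton_of_isZero (suppIn_extZero U.ι (DCoh.HD F i) x hxU)) h1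
  exact ⟨e₁ ≪≫ (DCoh.Rpush U.ι).mapIso e₀⟩

end Groth.Agent.S6528
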