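import Groth.Statements.S6532
import Groth.Agent.RelLift.Syzygy


set_option autoImplicit false
universe u
open LCI

namespace Groth.Agent.S6532

/-- Let R' → R be a surjection of Noetherian rings whose kernel is generated by a single element f and
has square zero; let I ⊆ R be the image of the annihilator of f. Let S = R[x_1, …, x_n]/(f_1, …,
f_m) and let ∑ r_j f_j = 0 be a relation in R[x_1, …, x_n] such that (1) every coefficient of every
r_j lies in I, and (2) there are lifts r'_j, f'_j in R'[x_1, …, x_n] and an element g with ∑ r'_j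
f'_j = f g, where g maps to a non-nilpotent element of S/IS. Under these hypotheses, the
Tor-dimension of S over R is infinite (so S fails to be a perfect R-algebra). -/
theorem result {R' R : Type u} [CommRing R'] [CommRing R]
    [IsNoetherianRing R'] [IsNoetherianRing R] (π : R' →+* R) (hπ : Function.Surjective π)
    (f : R') (hker : RingHom.ker π = Ideal.span {f}) (hf : f * f = 0)
    {n m : ℕ} (fs r : Fin m → MvPolynomial (Fin n) R) (hrel : ∑ j, r j * fs j = 0)
    (h1 : ∀ (j : Fin m) (d : Fin n →₀ ℕ),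
      MvPolynomial.coeff d (r j) ∈ ((Ideal.span {f}).annihilator).map π)
    (r' f' : Fin m → MvPolynomial (Fin n) R') (g : MvPolynomial (Fin n) R')
    (hr' : ∀ j, MvPolynomial.map π (r' j) = r j) (hf' : ∀ j, MvPolynomial.map π (f' j) = fs j)
    (hsum : ∑ j, r' j * f' j = MvPolynomial.C f * g)
    (hg : ¬ IsNilpotent (Ideal.Quotient.mk
      (Ideal.span (Set.range fs) ⊔ (((Ideal.span {f}).annihilator).map π).map MvPolynomial.C)
      (MvPolynomial.map π g))) :
    ¬ DRing.HasFiniteTorDim R (MvPolynomial (Fin n) R ⧸ Ideal.span (Set.range fs)) := by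
  classical
  rintro ⟨n₀, hS⟩
  let P := MvPolynomial (Fin n) R
  let ρ : MvPolynomial (Fin n) R' →+* P := MvPolynomial.map π
  let I : Ideal R := ((Ideal.span {f}).annihilator).map π
  let θ : P →+* P ⧸ I.map MvPolynomial.C := Ideal.Quotient.mk _
  have hker : ∀ x, ρ x = 0 → ∃ y, x = MvPolynomial.C f * y := by
    intro x hx
    have h : x ∈ (Ideal.span {f}).map MvPolynomial.C := by
      refine MvPolynomial.mem_map_C_iff.2 fun d => ?_
      rw [← hker, RingHom.mem_ker, ← MvPolynomial.coeff_map]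
      exact (congrArg (MvPolynomial.coeff d) hx).trans (MvPolynomial.coeff_zero d)
    rw [Ideal.map_span, Set.image_singleton, Ideal.mem_span_singleton] at h
    exact h
  have hf0 : ρ (MvPolynomial.C f) = 0 := by
    have : π f = 0 := RingHom.mem_ker.1 (‹RingHom.ker π = Ideal.span {f}› ▸ Ideal.mem_span_singleton_self f)
    exact (MvPolynomial.map_C π f).trans ((congrArg MvPolynomial.C this).trans (map_zero _))
  have hann : ∀ x, MvPolynomial.C f * x = 0 → θ (ρ x) = 0 := by
    intro x hx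
    refine Ideal.Quotient.eq_zero_iff_mem.2 (MvPolynomial.mem_map_C_iff.2 fun d => ?_)
    rw [MvPolynomial.coeff_map]
    refine Ideal.mem_map_of_mem _ (Submodule.mem_annihilator_span_singleton f _ |>.2 ?_)
    rw [smul_eq_mul, mul_comm]
    simpa [MvPolynomial.coeff_C_mul] using congrArg (MvPolynomial.coeff d) hx
  obtain ⟨M, c, u, hM, hcM, hcu, hMu⟩ := Groth.Agent.RelLift.exists_matrix f' r'
  rw [hsum] at hM
  obtain ⟨b, D, h₀, h₁, hD0, hD⟩ := Groth.Agent.RelLift.exists_resolution (Matrix.of fun (_ : Fin 1) j => fs j)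
  let e : (Fin (b 0) → P) →ₗ[R] (P ⧸ Ideal.span (Set.range fs)) :=
    (Ideal.Quotient.mkₐ R (Ideal.span (Set.range fs))).toLinearMap ∘ₗ LinearMap.proj (Fin.cast h₀.symm 0)
  have hi0 : ∀ i : Fin (b 0), i = Fin.cast h₀.symm 0 := fun i =>
    Fin.ext (by have := i.isLt; have := (Fin.cast h₀.symm 0).isLt; simp; omega)
  have hrow : ∀ (y : Fin (b 1) → P) i, Matrix.mulVec (D 0) y i = ∑ j, fs (Fin.cast h₁ j) * y j := fun y i => by
    simp [Matrix.mulVec, dotProduct, hD0]
  have hspan : ∀ x : P, x ∈ Ideal.span (Set.range fs) ↔ ∃ y, Matrix.mulVec (D 0) y = fun _ => x := by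
    intro x
    rw [Ideal.mem_span_range_iff_exists_fun]
    constructor
    · rintro ⟨z, rfl⟩
      refine ⟨fun j => z (Fin.cast h₁ j), funext fun i => ?_⟩
      rw [hrow]
      exact (Fintype.sum_equiv (finCongr h₁) _ (fun j => fs j * z j) fun j => rfl).trans
        (Finset.sum_congr rfl fun j _ => mul_comm _ _)
    · rintro ⟨y, hy⟩
      refine ⟨fun j => y (Fin.cast h₁.symm j), ?_⟩
      rw [← congrFun hy (Fin.cast h₀.symm 0), hrow]
      exact ((Fintype.sum_equiv (finCongr h₁) (fun j => fs (Fin.cast h₁ j) * y j)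
        (fun j => y (Fin.cast h₁.symm j) * fs j) fun j => mul_comm _ _)).symm
  have he : Function.Surjective e := fun z => by
    obtain ⟨a, rfl⟩ := Ideal.Quotient.mk_surjective z
    exact ⟨fun _ => a, rfl⟩
  have hex : Function.Exact (Groth.Agent.RelLift.dR R D 0) e := by
    intro v
    change Ideal.Quotient.mk _ (v _) = 0 ↔ _
    rw [Ideal.Quotient.eq_zero_iff_mem, hspan]
    have hv : v = fun _ => v (Fin.cast h₀.symm 0) := funext fun i => by rw [← hi0 i]
    exact ⟨fun ⟨y, hy⟩ => ⟨y, hy.trans hv.symm⟩, fun ⟨y, hy⟩ => ⟨y, (hy : Matrix.mulVec (D 0) y = v).trans hv⟩⟩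
  have hmaprng : ∀ t, ρ (Matrix.vecMul c M t) ∈ Ideal.span (Set.range fs) := fun t => by
    have h := Ideal.mem_map_of_mem ρ (hcM t)
    rw [Ideal.map_span, ← Set.range_comp] at h
    rwa [show (ρ : _ → _) ∘ f' = fs from funext hf'] at h
  have hMu' : ∀ t, θ (ρ (Matrix.mulVec M u t)) = 0 := fun t => by
    have h := Ideal.mem_map_of_mem (θ.comp ρ) (hMu t)
    rw [Ideal.map_span, ← Set.range_comp] at h
    have h0 : Ideal.span (Set.range ((θ.comp ρ : _ → _) ∘ r')) = ⊥ := Ideal.span_eq_bot.2 (by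
      rintro _ ⟨j, rfl⟩
      change θ (ρ (r' j)) = 0
      rw [show ρ (r' j) = r j from hr' j]
      exact Ideal.Quotient.eq_zero_iff_mem.2 (MvPolynomial.mem_map_C_iff.2 (h1 j)))
    rw [h0, Ideal.mem_bot] at h
    exact h
  obtain ⟨j, y, hy⟩ := Groth.Agent.RelLift.exists_pow_mem θ ρ (MvPolynomial.C f) Ideal.Quotient.mk_surjective
    (MvPolynomial.map_surjective π hπ) hker hf0 hann M c u g hM hcu hMu' b D h₀ hD
    (fun t => (hspan _).1 (hmaprng t)) n₀ fun x hx => by
      obtain ⟨y, hy, hyx⟩ := Groth.Agent.RelLift.exists_pure hD e he hex hS I n₀ (by omega) x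
        fun i => (Ideal.Quotient.eq_zero_iff_mem.1 (hx i) :)
      exact ⟨y, fun i => Ideal.Quotient.eq_zero_iff_mem.2 (hy i), hyx⟩
  refine hg ⟨j, ?_⟩
  rw [← map_pow, Ideal.Quotient.eq_zero_iff_mem]
  have h := hy (Fin.cast h₀.symm 0)
  rw [← map_pow] at h
  have hd : ρ g ^ j - Matrix.mulVec (D 0) y (Fin.cast h₀.symm 0) ∈ I.map MvPolynomial.C :=
    Ideal.Quotient.eq.1 h.symm
  have hm : Matrix.mulVec (D 0) y (Fin.cast h₀.symm 0) ∈ Ideal.span (Set.range fs) :=
    (hspan _).2 ⟨y, funext fun i => by rw [← hi0 i]⟩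
  have h2 := Submodule.add_mem_sup hm hd
  rw [add_sub_cancel] at h2
  exact h2

end Groth.Agent.S6532
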