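import Groth.Statements.S6534
import Mathlib.Data.Int.Interval
import Groth.Agent.SiteDer.KInjPush
import Groth.Agent.Resolve.Resolution

set_option autoImplicit false
universe w v u
open CategoryTheory
open CohDer


namespace Groth.Agent.S6534

set_option backward.isDefEq.respectTransparency false
set_option backward.defeqAttrib.useBackward true

noncomputable section

open CategoryTheory.Limits DerivedCategory

variable {A : Type u} [Category.{v} A] [Abelian A]

section
variable [HasDerivedCategory.{w} A]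

lemma Q_eq_of_homotopy {K L : CochainComplex A ℤ} {f g : K ⟶ L} (h : Homotopy f g) : Q.map f = Q.map g := by
  have e := HomotopyCategory.eq_of_homotopy _ _ h
  have hf := (quotientCompQhIso A).hom.naturality f
  have hg := (quotientCompQhIso A).hom.naturality g
  rw [Functor.comp_map, e] at hf
  rw [Functor.comp_map, hf, cancel_epi] at hg
  exact hg

lemma Q_eq_zero {K L : CochainComplex A ℤ} (h : Homotopy (𝟙 K) 0) (f : K ⟶ L) : Q.map f = 0 :=
  (Q_eq_of_homotopy ((Homotopy.ofEq (Category.id_comp f).symm).trans ((h.compRight f).trans (Homotopy.ofEq zero_comp)))).trans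
    (Q.map_zero _ _)

/-- Contractible summands are invisible. -/
lemma isIso_Q_fst (J P : CochainComplex A ℤ) (h : Homotopy (𝟙 P) 0) : IsIso (Q.map (biprod.fst : J ⊞ P ⟶ J)) := by
  refine ⟨Q.map biprod.inl, ?_, by rw [← Functor.map_comp, biprod.inl_fst, CategoryTheory.Functor.map_id]⟩
  conv_rhs => rw [← CategoryTheory.Functor.map_id, ← biprod.total, Functor.map_add]
  rw [← Functor.map_comp, Functor.map_comp Q biprod.snd, Q_eq_zero h biprod.inr, comp_zero, add_zero]

end

/-- The cone of the identity. -/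
abbrev cn (K : CochainComplex A ℤ) : CochainComplex A ℤ := HomologicalComplex.homotopyCofiber (𝟙 K)

/-- The inclusion into the cone. -/
abbrev inc (K : CochainComplex A ℤ) : K ⟶ cn K := HomologicalComplex.homotopyCofiber.inr (𝟙 K)

lemma contractible_pi {T : Type*} (K : T → CochainComplex A ℤ) [HasProduct fun t => cn (K t)] :
    Nonempty (Homotopy (𝟙 (∏ᶜ fun t => cn (K t))) 0) := by
  choose e he using fun t => DerCat.exists_extends_of_homotopy (Pi.π (fun t => cn (K t)) t)
    ((Homotopy.ofEq (Category.comp_id _).symm).trans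
      (((show Homotopy (𝟙 (cn (K t))) 0 from CochainComplex.mappingCone.homotopyToZeroOfId (K t)).compLeft _).trans
        (Homotopy.ofEq comp_zero)))
  exact DerCat.nullHomotopic_of_extends _ (Pi.lift e) (Pi.hom_ext _ _ fun t => by
    rw [Category.assoc, Pi.lift_π, he, Category.id_comp])

section Chain

variable {C : Type*} [Category C] (J : ℤ → C) (t : ∀ i, J (i + 1) ⟶ J i) (j : ℤ)

/-- Iterated transition maps. -/
def G : ∀ n : ℕ, ∀ i, i = j + (n : ℤ) → (J i ⟶ J j)
  | 0, i, h => eqToHom (congrArg J (h.trans (by simp)))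
  | n + 1, i, h => eqToHom (congrArg J (show i = (i - 1) + 1 by omega)) ≫ t (i - 1) ≫ G n (i - 1) (by omega)

lemma G_indep {n n' : ℕ} {i : ℤ} (h : i = j + (n : ℤ)) (h' : i = j + (n' : ℤ)) : G J t j n i h = G J t j n' i h' := by
  obtain rfl : n = n' := by omega
  rfl

lemma G_succ {n : ℕ} {i : ℤ} (h : i + 1 = j + ((n + 1 : ℕ) : ℤ)) (h' : i = j + (n : ℤ)) :
    G J t j (n + 1) (i + 1) h = t i ≫ G J t j n i h' := by
  have key : ∀ p (hp : p = i) (hq : p = j + (n : ℤ)),
      eqToHom (congrArg J (show i + 1 = p + 1 by omega)) ≫ t p ≫ G J t j n p hq = t i ≫ G J t j n i h' := by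
    rintro p rfl hq
    simp
  exact key _ (by omega) _

/-- The composite `J i ⟶ J j` for `j ≤ i`. -/
def T (i : ℤ) (h : j ≤ i) : J i ⟶ J j := G J t j (i - j).toNat i (by omega)

lemma T_self : T J t j j le_rfl = 𝟙 _ := by
  rw [T, G_indep J t j (n' := 0) _ (by simp)]
  simp [G]

lemma T_succ (i : ℤ) (h : j ≤ i) : T J t j (i + 1) (by omega) = t i ≫ T J t j i h := by
  rw [T, G_indep J t j (n' := (i - j).toNat + 1) _ (by omega)]
  exact G_succ J t j _ _

end Chain

section Build

variable (J : ℤ → CochainComplex A ℤ) (t : ∀ i, J (i + 1) ⟶ J i)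
  [∀ i : ℤ, HasProduct fun j : {j : ℤ // i < j} => cn (J j.1)] [HasProduct fun j : ℤ => cn (J j)]

/-- The auxiliary summand. -/
abbrev P (i : ℤ) : CochainComplex A ℤ := ∏ᶜ fun j : {j : ℤ // i < j} => cn (J j.1)

/-- Projections of the auxiliary summand. -/
def pr (i j : ℤ) : P J i ⟶ cn (J j) := if h : i < j then Pi.π (fun j : {j : ℤ // i < j} => cn (J j.1)) ⟨j, h⟩ else 0

/-- Components of the embedding. -/
def c (i j : ℤ) : J i ⟶ cn (J j) := if h : j ≤ i then T J t j i h ≫ inc (J j) else 0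

/-- The steps. -/
abbrev F (i : ℤ) : CochainComplex A ℤ := J i ⊞ P J i

/-- The second component of the transition. -/
def φP (i : ℤ) : F J (i + 1) ⟶ P J i :=
  Pi.lift fun j => if h : j.1 = i + 1 then biprod.fst ≫ inc (J (i + 1)) ≫ eqToHom (by rw [h])
    else biprod.snd ≫ pr J (i + 1) j.1

/-- The transition. -/
def φ (i : ℤ) : F J (i + 1) ⟶ F J i := biprod.lift (biprod.fst ≫ t i) (φP J i)

variable (I : CochainComplex A ℤ) (a : ∀ i, J i ⟶ I) (h : ∀ j, cn (J j) ⟶ I)

/-- The component to `I`. -/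
def ψI (i : ℤ) : F J i ⟶ I := biprod.fst ≫ a i + biprod.snd ≫ ∑ j ∈ Finset.Ioc i 0, pr J i j ≫ h j

/-- The component to the product. -/
def ψP (i : ℤ) : F J i ⟶ ∏ᶜ fun j : ℤ => cn (J j) :=
  Pi.lift fun j => biprod.fst ≫ c J t i j + biprod.snd ≫ pr J i j

/-- The embedding. -/
def ψ (i : ℤ) : F J i ⟶ I ⊞ ∏ᶜ fun j : ℤ => cn (J j) := biprod.lift (ψI J I a h i) (ψP J t i)

lemma φP_pr_eq (i : ℤ) : φP J i ≫ pr J i (i + 1) = biprod.fst ≫ inc (J (i + 1)) := by
  rw [pr, dif_pos (by omega), φP, Pi.lift_π, dif_pos rfl, eqToHom_refl, Category.comp_id]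

lemma φP_pr_of_lt (i j : ℤ) (hj : i + 1 < j) : φP J i ≫ pr J i j = biprod.snd ≫ pr J (i + 1) j := by
  rw [pr, dif_pos (show i < j by omega), φP, Pi.lift_π]
  exact dif_neg (show ¬ j = i + 1 by omega)

lemma φ_ψP (i : ℤ) : φ J t i ≫ ψP J t i = ψP J t (i + 1) := by
  refine Pi.hom_ext _ _ fun j => ?_
  rw [Category.assoc, ψP, ψP, Pi.lift_π, Pi.lift_π, Preadditive.comp_add, φ, biprod.lift_fst_assoc, biprod.lift_snd_assoc,
    Category.assoc]
  rcases lt_trichotomy j (i + 1) with hj | rfl | hj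
  · have e1 : pr J i j = 0 := dif_neg (by omega)
    have e2 : pr J (i + 1) j = 0 := dif_neg (by omega)
    rw [e1, e2, comp_zero, comp_zero, add_zero, add_zero, c, c, dif_pos (show j ≤ i by omega), dif_pos (show j ≤ i + 1 by omega),
      T_succ J t j i (by omega), Category.assoc]
  · have e1 : c J t i (i + 1) = 0 := dif_neg (by omega)
    have e2 : pr J (i + 1) (i + 1) = 0 := dif_neg (by omega)
    rw [e1, e2, comp_zero, comp_zero, comp_zero, zero_add, add_zero, φP_pr_eq, c, dif_pos le_rfl, T_self,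
      Category.id_comp]
  · have e1 : c J t i j = 0 := dif_neg (by omega)
    have e2 : c J t (i + 1) j = 0 := dif_neg (by omega)
    simp only [e1, e2, comp_zero, zero_add, φP_pr_of_lt J i j hj]

variable (hstep : ∀ i : ℤ, i + 1 ≤ 0 → t i ≫ a i + inc (J (i + 1)) ≫ h (i + 1) = a (i + 1))
  (hpos : ∀ i : ℤ, 0 ≤ i → t i ≫ a i = a (i + 1))

include hstep hpos in
lemma φ_ψI (i : ℤ) : φ J t i ≫ ψI J I a h i = ψI J I a h (i + 1) := by
  rw [ψI, ψI, Preadditive.comp_add, φ, biprod.lift_fst_assoc, biprod.lift_snd_assoc, Category.assoc]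
  rcases le_or_gt (i + 1) 0 with hi | hi
  · rw [show Finset.Ioc i 0 = insert (i + 1) (Finset.Ioc (i + 1) 0) from by
      ext x; simp only [Finset.mem_insert, Finset.mem_Ioc]; omega]
    rw [Finset.sum_insert (by simp), Preadditive.comp_add, ← Category.assoc (φP J i), φP_pr_eq, Category.assoc,
      ← add_assoc, ← Preadditive.comp_add, hstep i hi, Preadditive.comp_sum, Preadditive.comp_sum]
    congr 1
    refine Finset.sum_congr rfl fun j hj => ?_
    rw [← Category.assoc, φP_pr_of_lt J i j (Finset.mem_Ioc.1 hj).1, Category.assoc]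
  · rw [Finset.Ioc_eq_empty (by omega), Finset.Ioc_eq_empty (by omega)]
    simp [hpos i (by omega)]

include hstep hpos in
lemma φ_ψ (i : ℤ) : φ J t i ≫ ψ J t I a h i = ψ J t I a h (i + 1) := by
  apply biprod.hom_ext
  · rw [ψ, ψ, Category.assoc, biprod.lift_fst, biprod.lift_fst, φ_ψI J t I a h hstep hpos]
  · rw [ψ, ψ, Category.assoc, biprod.lift_snd, biprod.lift_snd, φ_ψP]

lemma mono_ψ (i : ℤ) : Mono (ψ J t I a h i) := by
  haveI : ∀ j, Mono (inc (J j)) := fun j => Resolve.mono_inr_id (J j)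
  refine Preadditive.mono_of_cancel_zero _ fun {W} x hx => ?_
  have h1 : ∀ j, x ≫ biprod.fst ≫ c J t i j + x ≫ biprod.snd ≫ pr J i j = 0 := fun j => by
    have e := congrArg (fun y => y ≫ biprod.snd ≫ Pi.π (fun j : ℤ => cn (J j)) j) hx
    simpa [ψ, ψP, Preadditive.comp_add] using e
  have h2 : x ≫ biprod.fst = 0 := by
    have e := h1 i
    rw [c, dif_pos le_rfl, T_self, Category.id_comp, pr, dif_neg (lt_irrefl i), comp_zero, comp_zero, add_zero] at e
    exact (cancel_mono (inc (J i))).1 ((Category.assoc _ _ _).trans (e.trans zero_comp.symm))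
  apply biprod.hom_ext
  · rw [h2, zero_comp]
  · refine Pi.hom_ext _ _ fun j => ?_
    have e := h1 j.1
    rw [c, dif_neg (show ¬ j.1 ≤ i by have := j.2; omega), comp_zero, comp_zero, zero_add, pr, dif_pos j.2] at e
    rw [Category.assoc, zero_comp, zero_comp]
    exact e

include hstep hpos in
lemma exists_filCx [HasDerivedCategory.{w} A] : ∃ (K : SpSeq.FilCx A) (p : K.obj ⟶ I) (pi : ∀ i, K.step i ⟶ J i),
    IsIso (Q.map p) ∧ (∀ i, IsIso (Q.map (pi i))) ∧
      (∀ i, Q.map ((K.fil i).arrow ≫ p) = Q.map (pi i ≫ a i)) ∧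
      (∀ i, K.stepLE (le_of_lt (Int.lt_succ_self i)) ≫ pi i = pi (i + 1) ≫ t i) := by
  haveI := mono_ψ J t I a h
  let fl : ℤ → Subobject (I ⊞ ∏ᶜ fun j : ℤ => cn (J j)) := fun i => Subobject.mk (ψ J t I a h i)
  have anti : Antitone fl := antitone_int_of_succ_le fun i =>
    Subobject.mk_le_mk_of_comm (φ J t i) (φ_ψ J t I a h hstep hpos i)
  let K : SpSeq.FilCx A := ⟨_, fl, anti⟩
  obtain ⟨hP⟩ := contractible_pi J
  refine ⟨K, biprod.fst, fun i => (Subobject.underlyingIso (ψ J t I a h i)).hom ≫ biprod.fst,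
    isIso_Q_fst _ _ hP, fun i => ?_, fun i => ?_, fun i => ?_⟩
  · obtain ⟨hPi⟩ := contractible_pi (fun j : {j : ℤ // i < j} => J j.1)
    haveI := isIso_Q_fst (J i) (P J i) hPi
    rw [Functor.map_comp]
    exact IsIso.comp_isIso
  · change Q.map ((Subobject.mk (ψ J t I a h i)).arrow ≫ biprod.fst) = _
    rw [← Subobject.underlyingIso_hom_comp_eq_mk, Category.assoc, Category.assoc]
    rw [Functor.map_comp, Functor.map_comp Q (Subobject.underlyingIso (ψ J t I a h i)).hom (biprod.fst ≫ a i)]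
    refine congrArg _ ?_
    obtain ⟨hPi⟩ := contractible_pi (fun j : {j : ℤ // i < j} => J j.1)
    rw [ψ, biprod.lift_fst, ψI, Functor.map_add, Functor.map_comp Q biprod.snd,
      Q_eq_zero hPi (∑ j ∈ Finset.Ioc i 0, pr J i j ≫ h j), comp_zero, add_zero]
  · have e : K.stepLE (le_of_lt (Int.lt_succ_self i)) ≫ (Subobject.underlyingIso (ψ J t I a h i)).hom =
        (Subobject.underlyingIso (ψ J t I a h (i + 1))).hom ≫ φ J t i := by
      rw [← cancel_mono (ψ J t I a h i), Category.assoc, Category.assoc, φ_ψ J t I a h hstep hpos i,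
        Subobject.underlyingIso_hom_comp_eq_mk, Subobject.underlyingIso_hom_comp_eq_mk]
      exact Subobject.ofLE_arrow _
    rw [← Category.assoc, e, Category.assoc, Category.assoc, φ, biprod.lift_fst]

end Build

end

open CategoryTheory.Limits in
/-- Let A be a Grothendieck abelian category, E ∈ D(A), and … → E^{i+1} → E^i → … → E an inverse system
in D(A) over ℤ with compatible maps to E. Then there exists a filtered complex K of A such that K
represents E and F^iK represents E^i, compatibly: there are isomorphisms in D(A) from the images of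
K and of the subcomplexes F^iK to E and E^i under which the inclusions F^iK → K and F^{i+1}K → F^iK
correspond to the given maps E^i → E and E^{i+1} → E^i. -/
theorem result {A : Type u} [Category.{v} A] [Abelian A]
    [IsGrothendieckAbelian.{v} A] [HasDerivedCategory.{w} A]
    (E : DerivedCategory A) (Es : ℤ → DerivedCategory A) (t : ∀ i : ℤ, Es (i + 1) ⟶ Es i)
    (a : ∀ i : ℤ, Es i ⟶ E) (hat : ∀ i : ℤ, t i ≫ a i = a (i + 1)) :
    ∃ (K : SpSeq.FilCx A) (e : DerivedCategory.Q.obj K.obj ≅ E)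
      (ei : ∀ i : ℤ, DerivedCategory.Q.obj (K.step i) ≅ Es i),
      (∀ i : ℤ, DerivedCategory.Q.map (K.fil i).arrow ≫ e.hom = (ei i).hom ≫ a i) ∧
      (∀ i : ℤ, DerivedCategory.Q.map (K.stepLE (le_of_lt (Int.lt_succ_self i))) ≫ (ei i).hom =
        (ei (i + 1)).hom ≫ t i) := by
  haveI : HasLimitsOfSize.{0, 0} A := hasLimitsOfSizeShrink.{0, 0} A
  choose IE qE hIE hqE using fun K : CochainComplex A ℤ => SiteDer.exists_kInj K
  haveI := hIE
  haveI := hqE
  let L : DerivedCategory A → CochainComplex A ℤ := fun X => IE (DerivedCategory.Q.objPreimage X)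
  let eL : ∀ X, DerivedCategory.Q.obj (L X) ≅ X := fun X =>
    (asIso (DerivedCategory.Q.map (qE (DerivedCategory.Q.objPreimage X)))).symm ≪≫ DerivedCategory.Q.objObjPreimageIso X
  let J : ℤ → CochainComplex A ℤ := fun i => L (Es i)
  choose tc htc using fun i => DerCat.Q_map_surjective (K := J (i + 1)) (L := J i) ((eL _).hom ≫ t i ≫ (eL _).inv)
  choose a₀ ha₀ using fun i => DerCat.Q_map_surjective (K := J i) (L := L E) ((eL _).hom ≫ a i ≫ (eL _).inv)
  let aa : ∀ i, J i ⟶ L E := fun i => if hi : 0 ≤ i then T J tc 0 i hi ≫ a₀ 0 else a₀ i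
  have hQ : ∀ i, DerivedCategory.Q.map (tc i) ≫ DerivedCategory.Q.map (a₀ i) = DerivedCategory.Q.map (a₀ (i + 1)) := fun i => by
    rw [htc, ha₀, ha₀]
    simp [reassoc_of% hat i]
  have haa0 : aa 0 = a₀ 0 := by simp only [aa]; rw [dif_pos le_rfl, T_self, Category.id_comp]
  have hpos : ∀ i : ℤ, 0 ≤ i → tc i ≫ aa i = aa (i + 1) := fun i hi => by
    simp only [aa]
    rw [dif_pos hi, dif_pos (show (0 : ℤ) ≤ i + 1 by omega), T_succ J tc 0 i hi, Category.assoc]
  have hlow : ∀ i : ℤ, i ≤ 0 → aa i = a₀ i := fun i hi => by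
    rcases eq_or_lt_of_le hi with rfl | h'
    · exact haa0
    · exact dif_neg (by omega)
  have hE : ∀ j : ℤ, ∃ h : cn (J j) ⟶ L E, j ≤ 0 → ∀ p (hp : p + 1 = j),
      tc p ≫ aa p + inc (J (p + 1)) ≫ eqToHom (by rw [hp]) ≫ h = aa (p + 1) := by
    intro j
    by_cases hj : j ≤ 0
    · obtain ⟨p, rfl⟩ : ∃ p, p + 1 = j := ⟨j - 1, by omega⟩
      obtain ⟨hh⟩ := (DerCat.Q_map_eq_iff (aa (p + 1)) (tc p ≫ aa p)).1 (by
        rw [hlow _ hj, hlow _ (by omega), Functor.map_comp, hQ])
      obtain ⟨e, he⟩ := DerCat.exists_extends_of_homotopy _ hh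
      refine ⟨e, fun _ p' hp' => ?_⟩
      obtain rfl : p' = p := by omega
      rw [eqToHom_refl, Category.id_comp, he, add_sub_cancel]
    · exact ⟨0, fun h => absurd h hj⟩
  choose hh hhh using hE
  obtain ⟨K, p, pi, hp, hpi, h1, h2⟩ := exists_filCx J tc (L E) aa hh
    (fun i hi => by simpa using hhh (i + 1) hi i rfl) hpos
  haveI := hpi
  refine ⟨K, asIso (DerivedCategory.Q.map p) ≪≫ eL E, fun i => asIso (DerivedCategory.Q.map (pi i)) ≪≫ eL (Es i),
    fun i => ?_, fun i => ?_⟩
  · have e : DerivedCategory.Q.map (aa i) ≫ (eL E).hom = (eL (Es i)).hom ≫ a i := by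
      have hA : ∀ n : ℕ, DerivedCategory.Q.map (aa n) ≫ (eL E).hom = (eL (Es n)).hom ≫ a n := fun n => by
        induction n with
        | zero => rw [Nat.cast_zero, haa0, ha₀]; simp
        | succ m ih =>
          rw [Nat.cast_succ, ← hpos m (by omega), Functor.map_comp, Category.assoc, ih, ← Category.assoc, htc]
          simp [hat]
      rcases le_or_gt i 0 with hi | hi
      · rw [hlow i hi, ha₀]; simp
      · obtain ⟨n, rfl⟩ := Int.eq_ofNat_of_zero_le hi.le
        exact hA n
    simp only [Iso.trans_hom, asIso_hom]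
    rw [← Category.assoc, ← Functor.map_comp, h1, Functor.map_comp, Category.assoc, e, Category.assoc]
  · simp only [Iso.trans_hom, asIso_hom]
    rw [← Category.assoc, ← Functor.map_comp, h2, Functor.map_comp, Category.assoc, htc]
    simp

end Groth.Agent.S6534
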