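import Groth.Statements.S6564
import Mathlib
-- import your own Groth.Agent.* helpers here

set_option autoImplicit false
universe u
open CategoryTheory CategoryTheory.Limits AlgebraicGeometry
open Curves

namespace Groth.Agent.S6564

/-- Let X be proper over the field k of dimension at most 1. If X has a g^r_d (an invertible module L of
degree d with an ordered family of r + 1 global sections linearly independent over k), then X has a
g^s_d for every 0 ≤ s ≤ r. -/
theorem result (k : Type u) [Field k] (X : Scheme.{u}) [X.Over (Spec (CommRingCat.of k))] [IsProper (X ↘ (Spec (CommRingCat.of k)))] (hdim : topologicalKrullDim X ≤ 1)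
    (d r : ℕ) (L : X.Modules) (σ : Fin (r + 1) → LinSer.Sect X L) (hL : LinSer.IsLinSer k X L d r σ)
    (s : ℕ) (hs : s ≤ r) :
    ∃ (L' : X.Modules) (τ : Fin (s + 1) → LinSer.Sect X L'), LinSer.IsLinSer k X L' d s τ := by
  classical
  obtain ⟨h1, h2, h3⟩ := hL
  have hle : s + 1 ≤ r + 1 := Nat.succ_le_succ hs
  refine ⟨L, fun i => σ (Fin.castLE hle i), h1, h2, fun c hc => ?_⟩
  let c' : Fin (r + 1) → k := Function.extend (Fin.castLE hle) c 0
  have hinj := Fin.castLE_injective hle
  have hc' : c' = 0 := h3 c' (by
    rw [← hc]
    symm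
    refine Fintype.sum_of_injective (Fin.castLE hle) hinj _ _ (fun j hj => ?_) (fun i => ?_)
    · simp only [c', Function.extend_apply' _ _ _ (fun ⟨a, ha⟩ => hj ⟨a, ha⟩), Pi.zero_apply, map_zero, zero_smul]
    · simp only [c', hinj.extend_apply])
  funext i
  have := congrFun hc' (Fin.castLE hle i)
  simpa only [c', hinj.extend_apply, Pi.zero_apply] using this

end Groth.Agent.S6564
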