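import Groth.Statements.S6580
import Mathlib.Tactic.NoncommRing

set_option autoImplicit false
set_option backward.isDefEq.respectTransparency false
set_option backward.defeqAttrib.useBackward true
universe v u
open CategoryTheory CategoryTheory.Limits
open CohDer

namespace Groth.Agent.S6580

open CategoryTheory.Pretriangulated in
/-- Let (X, Y, Z, f, g, h) be a distinguished triangle of a pretriangulated category, and let a : X ⟶ X
and c : Z ⟶ Z be idempotents with h ≫ a⟦1⟧ = c ≫ h. Then there is an idempotent b : Y ⟶ Y such that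
(a, b, c) is an endomorphism of the triangle. -/
theorem result {D : Type u} [Category.{v} D] [Preadditive D] [HasZeroObject D] [HasShift D ℤ]
    [∀ n : ℤ, (shiftFunctor D n).Additive] [Pretriangulated D]
    (T : Triangle D) (hT : T ∈ distinguishedTriangles) (a : T.obj₁ ⟶ T.obj₁) (c : T.obj₃ ⟶ T.obj₃)
    (ha : a ≫ a = a) (hc : c ≫ c = c) (comm : T.mor₃ ≫ (shiftFunctor D (1 : ℤ)).map a = c ≫ T.mor₃) :
    ∃ b : T.obj₂ ⟶ T.obj₂, b ≫ b = b ∧ T.mor₁ ≫ b = a ≫ T.mor₁ ∧ T.mor₂ ≫ c = b ≫ T.mor₂ := by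
  obtain ⟨b, hb₁, hb₂⟩ := complete_distinguished_triangle_morphism₂ T T hT hT a c comm
  have h1 : T.mor₁ ≫ (b ≫ b - b) = 0 := by
    rw [Preadditive.comp_sub, reassoc_of% hb₁, hb₁, reassoc_of% ha, sub_self]
  have h2 : (b ≫ b - b) ≫ T.mor₂ = 0 := by
    rw [Preadditive.sub_comp, Category.assoc, ← hb₂, ← reassoc_of% hb₂, hc, sub_self]
  obtain ⟨x, hx⟩ := T.yoneda_exact₂ hT _ h1
  obtain ⟨y, hy⟩ := T.coyoneda_exact₂ hT _ h2
  have hh : (b ≫ b - b) ≫ (b ≫ b - b) = 0 := by
    nth_rw 1 [hy]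
    rw [Category.assoc, h1, comp_zero]
  have key : ∀ x : End T.obj₂, (x * x - x) * (x * x - x) = 0 →
      (x * x * 3 - x * x * x * 2) * (x * x * 3 - x * x * x * 2) = x * x * 3 - x * x * x * 2 := by
    intro x hx
    have : (x * x * 3 - x * x * x * 2) * (x * x * 3 - x * x * x * 2) -
        (x * x * 3 - x * x * x * 2) = (x * x - x) * (x * x - x) * (x * x * 4 - x * 4 - 3) := by
      noncomm_ring
    rwa [hx, zero_mul, sub_eq_zero] at this
  refine ⟨3 • (b ≫ b) - 2 • (b ≫ b ≫ b), ?_, ?_, ?_⟩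
  · have := key (End.of b) hh
    have e : (End.of b * End.of b * 3 - End.of b * End.of b * End.of b * 2 : End T.obj₂) =
        (3 • (b ≫ b) - 2 • (b ≫ b ≫ b) : T.obj₂ ⟶ T.obj₂) := by
      have h3 : ∀ (z : End T.obj₂), z * 3 = 3 • z := fun z => by noncomm_ring
      have h2 : ∀ (z : End T.obj₂), z * 2 = 2 • z := fun z => by noncomm_ring
      rw [h3, h2]
      rfl
    rw [e] at this
    exact this
  · simp only [Preadditive.comp_sub, Preadditive.comp_nsmul, reassoc_of% hb₁, hb₁, reassoc_of% ha, ha]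
    have : ∀ z : T.obj₁ ⟶ T.obj₂, 3 • z - 2 • z = z := fun z => by abel
    rw [this]
  · simp only [Preadditive.sub_comp, Preadditive.nsmul_comp, Category.assoc, ← hb₂, ← reassoc_of% hb₂, hc]
    have : ∀ z : T.obj₂ ⟶ T.obj₃, 3 • z - 2 • z = z := fun z => by abel
    rw [this]

end Groth.Agent.S6580
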