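import Groth.Statements.S6583


set_option autoImplicit false
set_option backward.isDefEq.respectTransparency false
set_option backward.defeqAttrib.useBackward true
universe v u v' u'
open CategoryTheory CategoryTheory.Limits
open CohDer

namespace Groth.Agent.S6583

open CategoryTheory.Pretriangulated in
/-- Let H : D ⥤ A be a homological functor from a pretriangulated category to an abelian category. The
full subcategory of D on the objects X with H(X⟦n⟧) = 0 for all n ≪ 0 is a strictly full
pretriangulated subcategory (zero object, stable under shifts and isomorphisms, closed under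
extensions) and is saturated: if X ⊞ Y belongs to it then so do X and Y. -/
theorem result {D : Type u} [Category.{v} D] [Preadditive D] [HasZeroObject D] [HasShift D ℤ]
    [∀ n : ℤ, (shiftFunctor D n).Additive] [Pretriangulated D]
    {A : Type u'} [Category.{v'} A] [Abelian A] (H : D ⥤ A) [H.IsHomological] :
    (ObjectProperty.IsTriangulated (fun X : D => ∃ N : ℤ, ∀ n : ℤ, n ≤ N → IsZero (H.obj ((shiftFunctor D n).obj X)))) ∧
    (ObjectProperty.IsClosedUnderIsomorphisms (fun X : D => ∃ N : ℤ, ∀ n : ℤ, n ≤ N → IsZero (H.obj ((shiftFunctor D n).obj X)))) ∧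
    (∀ X Y : D, (∃ N : ℤ, ∀ n : ℤ, n ≤ N → IsZero (H.obj ((shiftFunctor D n).obj (X ⊞ Y)))) →
      (∃ N : ℤ, ∀ n : ℤ, n ≤ N → IsZero (H.obj ((shiftFunctor D n).obj X))) ∧
      (∃ N : ℤ, ∀ n : ℤ, n ≤ N → IsZero (H.obj ((shiftFunctor D n).obj Y)))) := by
  open ZeroObject in
  refine ⟨?_, ⟨fun {X Y} e ⟨N, hN⟩ => ⟨N, fun n hn => (hN n hn).of_iso
    (H.mapIso ((shiftFunctor D n).mapIso e)).symm⟩⟩, fun X Y ⟨N, hN⟩ => ?_⟩
  · refine { exists_zero := ⟨0, isZero_zero D, 0, fun n _ => H.map_isZero ((shiftFunctor D n).map_isZero (isZero_zero D))⟩, isStableUnderShiftBy := ?_, ext₂' := ?_ }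
    · exact fun a => ⟨fun X ⟨N, hN⟩ => ⟨N - a, fun n hn => (hN (a + n) (by omega)).of_iso
        (H.mapIso ((shiftFunctorAdd' D a n (a + n) rfl).app X).symm)⟩⟩
    · rintro T hT ⟨N₁, h₁⟩ ⟨N₃, h₃⟩
      refine ObjectProperty.le_isoClosure _ _ ⟨min N₁ N₃, fun n hn => ?_⟩
      refine (H.map_distinguished_exact _ (Triangle.shift_distinguished T hT n)).isZero_X₂ ?_ ?_
      · exact (h₁ n (le_trans hn (min_le_left _ _))).eq_of_src _ _
      · exact (h₃ n (le_trans hn (min_le_right _ _))).eq_of_tgt _ _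
  · constructor
    · refine ⟨N, fun n hn => ?_⟩
      exact IsZero.of_mono (H.map ((shiftFunctor D n).map (biprod.inl : X ⟶ X ⊞ Y))) (hN n hn)
    · refine ⟨N, fun n hn => ?_⟩
      exact IsZero.of_mono (H.map ((shiftFunctor D n).map (biprod.inr : Y ⟶ X ⊞ Y))) (hN n hn)

end Groth.Agent.S6583
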