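import Groth.Statements.S6585
import Mathlib.CategoryTheory.Triangulated.Orthogonal
import Mathlib.CategoryTheory.Triangulated.Generators

set_option autoImplicit false
set_option backward.isDefEq.respectTransparency false
set_option backward.defeqAttrib.useBackward true
universe v u
open CategoryTheory CategoryTheory.Limits
open CohDer

namespace Groth.Agent.S6585

open CategoryTheory.Pretriangulated in
/-- Let D be a triangulated category and E, K objects of D. Then Hom(E, K⟦i⟧) = 0 for all integers i if
and only if Hom(E', K) = 0 for every E' in ⟨E⟩, the smallest strictly full saturated triangulated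
subcategory of D containing E (the objects obtained from E by shifts, finite direct sums, direct
summands and extensions). -/
theorem result {D : Type u} [Category.{v} D] [Preadditive D] [HasZeroObject D] [HasShift D ℤ]
    [∀ n : ℤ, (shiftFunctor D n).Additive] [Pretriangulated D] [IsTriangulated D]
    (E K : D) :
    (∀ (i : ℤ) (f : E ⟶ (shiftFunctor D i).obj K), f = 0) ↔
      ∀ (E' : D), (ObjectProperty.singleton E).triangEnvelope E' → ∀ f : E' ⟶ K, f = 0 := by
  constructor
  · intro h E' hE'
    let P' : ObjectProperty D := fun Y => ∀ (i : ℤ) (f : Y ⟶ (shiftFunctor D i).obj K), f = 0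
    let R : ObjectProperty D := fun Y => ∃ i : ℤ, Nonempty ((shiftFunctor D i).obj K ≅ Y)
    have : R.IsStableUnderShift ℤ := ⟨fun a => ⟨fun Y ⟨i, ⟨e⟩⟩ =>
      ⟨i + a, ⟨(shiftFunctorAdd' D i a (i + a) rfl).app K ≪≫ (shiftFunctor D a).mapIso e⟩⟩⟩⟩
    have hR : ∀ Y, R.leftOrthogonal Y ↔ P' Y := fun Y => ⟨fun hY i f => hY f ⟨i, ⟨Iso.refl _⟩⟩,
      fun hY Z f ⟨i, ⟨e⟩⟩ => by rw [← cancel_mono e.inv, hY i (f ≫ e.inv), zero_comp]⟩
    have : R.leftOrthogonal.IsStableUnderRetracts := ⟨fun {X Y} r hY Z f hZ => by
      have := hY (r.r ≫ f) hZ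
      simpa using r.i ≫= this⟩
    have hle : (ObjectProperty.singleton E).triangEnvelope ≤ R.leftOrthogonal := by
      rw [ObjectProperty.triangEnvelope_le_iff]
      intro Y hY
      rw [ObjectProperty.singleton_iff] at hY
      subst hY
      exact (hR _).2 h
    intro f
    have hz := (hR E').1 (hle E' hE') 0 (f ≫ (shiftFunctorZero D ℤ).inv.app K)
    simpa using hz
  · intro h i f
    obtain ⟨g, rfl⟩ := ((shiftEquiv D i).symm.toAdjunction.homEquiv E K).surjective f
    have : g = 0 := h _ ((ObjectProperty.singleton E).triangEnvelope.le_shift (-i) _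
      (ObjectProperty.le_triangEnvelope (ObjectProperty.singleton E) E (by simp))) g
    simp [this, Adjunction.homEquiv_unit]

end Groth.Agent.S6585
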