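import Groth.Statements.S6586
import Groth.Agent.DerCat.CompactSmall
import Mathlib
set_option autoImplicit false
universe v u
open CategoryTheory CategoryTheory.Limits
open CohDer


namespace Groth.Agent.S6586

set_option backward.isDefEq.respectTransparency false
set_option backward.defeqAttrib.useBackward true

/-- Fix a triangulated category D together with an object E in it. Suppose E classically generates D,
i.e. ⟨E⟩ = D; then E is a generator of D: an object K with Hom(E, K⟦n⟧) = 0 for all n is zero. -/
theorem result {D : Type u} [Category.{v} D] [Preadditive D] [HasZeroObject D] [HasShift D ℤ]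
    [∀ n : ℤ, (shiftFunctor D n).Additive] [Pretriangulated D] [IsTriangulated D]
    (E : D) (hE : (ObjectProperty.singleton E).IsClassicalTriangulatedGenerator) :
    CohDer.Generates (fun _ : PUnit.{1} => E) := by
  intro K hK
  let P : ObjectProperty D := (ObjectProperty.singleton K).shiftClosure ℤ
  have hE' : P.leftOrthogonal E := by
    rintro Y f ⟨Y', a, e, hY'⟩
    obtain rfl := (ObjectProperty.singleton_iff _ _).1 hY'
    rw [← cancel_mono e.hom, zero_comp]
    exact hK ⟨⟩ a _
  haveI : P.leftOrthogonal.IsStableUnderRetracts := ⟨fun {U V} r hV Y f hY => by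
    have := hV (r.r ≫ f) hY
    rw [← Category.id_comp f, ← r.retract, Category.assoc, this, comp_zero]⟩
  have hle : (ObjectProperty.singleton E).triangEnvelope ≤ P.leftOrthogonal :=
    (ObjectProperty.triangEnvelope_le_iff _).2 fun W hW => by
      obtain rfl := (ObjectProperty.singleton_iff _ _).1 hW
      exact hE'
  rw [hE] at hle
  exact (IsZero.iff_id_eq_zero _).2
    (hle K trivial (𝟙 K) ((ObjectProperty.singleton K).le_shiftClosure (A := ℤ) _ ((ObjectProperty.singleton_iff _ _).2 rfl)))

end Groth.Agent.S6586
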