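import Groth.Statements.S6591
import Groth.Agent.DerCat.RightResolution
set_option autoImplicit false
universe v u
open CategoryTheory
open CohDer


namespace Groth.Agent.S6591

set_option backward.isDefEq.respectTransparency false
set_option backward.defeqAttrib.useBackward true

/-- Let I be a class of objects in an abelian category containing a zero object and such that every
object is a subobject of an object in I. A cochain complex K with Hⁿ(K) = 0 for n < a admits a
quasi-isomorphism K ⟶ L where L has all terms in I and vanishes below degree a. -/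
theorem result {A : Type u} [Category.{v} A] [Abelian A] (I : A → Prop)
    (hI0 : ∃ Z : A, Limits.IsZero Z ∧ I Z) (hI : ∀ X : A, ∃ (Y : A) (ι : X ⟶ Y), I Y ∧ Mono ι)
    (K : CochainComplex A ℤ) (a : ℤ) (hK : ∀ n : ℤ, n < a → Limits.IsZero (K.homology n)) :
    ∃ (L : CochainComplex A ℤ) (α : K ⟶ L), L.IsStrictlyGE a ∧ (∀ n, I (L.X n)) ∧ QuasiIso α := by
  obtain ⟨Z, hZ, hIZ⟩ := hI0
  haveI : K.IsGE a := (CochainComplex.isGE_iff K a).2 fun n hn =>
    (HomologicalComplex.exactAt_iff_isZero_homology _ _).2 (hK n hn)
  obtain ⟨L, α, hL, hI', -, hα⟩ := DerCat.RightRes.exists_resolution I (K.truncGE a) hI a hZ hIZ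
  haveI : QuasiIso (K.πTruncGE a) := (K.quasiIso_πTruncGE_iff a).mpr inferInstance
  exact ⟨L, K.πTruncGE a ≫ α, hL, hI', inferInstance⟩

end Groth.Agent.S6591
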