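import Groth.Statements.S6592
import Mathlib

set_option autoImplicit false
universe v u
open CategoryTheory CategoryTheory.Limits
open DerLim

open Preadditive
noncomputable section

namespace Groth.Agent.S6592

set_option backward.isDefEq.respectTransparency false
set_option backward.defeqAttrib.useBackward true

section

variable {D : Type u} [Category.{v} D] [Preadditive D] (F : ℕ ⥤ D)

/-- Transition maps, extended by zero. -/
def u' (i j : ℕ) : F.obj i ⟶ F.obj j := if h : i ≤ j then F.map (homOfLE h) else 0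

lemma u'_eq {i j : ℕ} (h : i ≤ j) : u' F i j = F.map (homOfLE h) := dif_pos h

lemma u'_self (i : ℕ) : u' F i i = 𝟙 _ := by rw [u'_eq F le_rfl]; exact F.map_id _

lemma u'_comp {i j k : ℕ} (h : i ≤ j) (h' : j ≤ k) : u' F i j ≫ u' F j k = u' F i k := by
  rw [u'_eq F h, u'_eq F h', u'_eq F (h.trans h'), ← F.map_comp, homOfLE_comp]

lemma exists_primitive (n : ℕ → ℕ) (hn : StrictMono n) {T : D} (h : ∀ m, F.obj m ⟶ T)
    (k : ∀ i, F.obj (n i) ⟶ T)
    (hk : ∀ i, ∑ j ∈ Finset.Ico (n i) (n (i + 1)), u' F (n i) j ≫ h j =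
      k i - u' F (n i) (n (i + 1)) ≫ k (i + 1)) :
    ∃ x : ∀ m, F.obj m ⟶ T, ∀ m, x m - u' F m (m + 1) ≫ x (m + 1) = h m := by
  let X : ∀ (m i : ℕ), F.obj m ⟶ T := fun m i =>
    ∑ j ∈ Finset.Ico m (n i), u' F m j ≫ h j + u' F m (n i) ≫ k i
  have hX : ∀ m i, m ≤ n i → X m i = X m (i + 1) := fun m i hm => by
    have hle : n i ≤ n (i + 1) := hn.monotone (Nat.le_succ i)
    have e : ∑ j ∈ Finset.Ico (n i) (n (i + 1)), u' F m j ≫ h j =
        u' F m (n i) ≫ (k i - u' F (n i) (n (i + 1)) ≫ k (i + 1)) := by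
      rw [← hk, Preadditive.comp_sum]
      refine Finset.sum_congr rfl fun j hj => ?_
      rw [← Category.assoc, u'_comp F hm (Finset.mem_Ico.1 hj).1]
    simp only [X, ← Finset.sum_Ico_consecutive _ hm hle, e, Preadditive.comp_sub, ← Category.assoc,
      u'_comp F hm hle]
    abel
  refine ⟨fun m => X m m, fun m => ?_⟩
  dsimp only
  have hm : m + 1 ≤ n (m + 1) := hn.id_le _
  rw [hX m m (hn.id_le _)]
  simp only [X]
  rw [Finset.sum_eq_sum_Ico_succ_bot (show m < n (m + 1) by omega), u'_self, Category.id_comp,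
    Preadditive.comp_add, Preadditive.comp_sum, ← Category.assoc, u'_comp F (Nat.le_succ m) hm]
  have e : ∑ j ∈ Finset.Ico (m + 1) (n (m + 1)), u' F m (m + 1) ≫ u' F (m + 1) j ≫ h j =
      ∑ j ∈ Finset.Ico (m + 1) (n (m + 1)), u' F m j ≫ h j := by
    refine Finset.sum_congr rfl fun j hj => ?_
    rw [← Category.assoc, u'_comp F (Nat.le_succ m) (Finset.mem_Ico.1 hj).1]
  rw [e]
  abel

end

/-- Let D be a triangulated category, (K_m, f_m) a system of objects of D indexed by ℕ (given as a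
functor F : ℕ ⥤ D) and n₁ < n₂ < … a strictly increasing sequence. Assume ⨁ K_m and ⨁ K_{n_i} exist.
If L is a homotopy colimit of (K_m) and L' a homotopy colimit of the subsequence (K_{n_i}) (with the
composite transition maps), then there is an isomorphism L' ≅ L under which the structure map
K_{n_i} ⟶ L' corresponds to K_{n_i} ⟶ L for every i. -/
theorem result {D : Type u} [Category.{v} D] [Preadditive D] [HasZeroObject D] [HasShift D ℤ]
    [∀ n : ℤ, (shiftFunctor D n).Additive] [Pretriangulated D] [IsTriangulated D]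
    (F : ℕ ⥤ D) (n : ℕ → ℕ) (hn : StrictMono n)
    [HasCoproduct (fun m : ℕ => F.obj m)] [HasCoproduct (fun i : ℕ => F.obj (n i))]
    (L : D) (ι : ∀ m : ℕ, F.obj m ⟶ L)
    (hL : DerLim.IsHocolim (fun m : ℕ => F.obj m) (fun m : ℕ => F.map (homOfLE (Nat.le_succ m))) L ι)
    (L' : D) (ι' : ∀ i : ℕ, F.obj (n i) ⟶ L')
    (hL' : DerLim.IsHocolim (fun i : ℕ => F.obj (n i)) (fun i : ℕ => F.map (homOfLE (hn.monotone (Nat.le_succ i)))) L' ι') :
    ∃ e : L' ≅ L, ∀ i : ℕ, ι' i ≫ e.hom = ι (n i) := by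
  classical
  obtain ⟨c, hc⟩ := hL
  obtain ⟨c', hc'⟩ := hL'
  have hf : ∀ m, F.map (homOfLE (Nat.le_succ m)) = u' F m (m + 1) := fun m => (u'_eq F _).symm
  have hf' : ∀ i, F.map (homOfLE (hn.monotone (Nat.le_succ i))) = u' F (n i) (n (i + 1)) := fun i => (u'_eq F _).symm
  have hid : ∀ m, m ≤ n m := fun m => hn.id_le m
  let a : (∐ (fun i : ℕ => F.obj (n i))) ⟶ (∐ (fun m : ℕ => F.obj m)) := Sigma.desc fun i => ∑ j ∈ Finset.Ico (n i) (n (i + 1)), u' F (n i) j ≫ Sigma.ι (fun m : ℕ => F.obj m) j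
  let b : (∐ (fun i : ℕ => F.obj (n i))) ⟶ (∐ (fun m : ℕ => F.obj m)) := Sigma.desc fun i => Sigma.ι (fun m : ℕ => F.obj m) (n i)
  have hab : (𝟙 (∐ (fun i : ℕ => F.obj (n i))) - DerLim.shiftMap (fun i : ℕ => F.obj (n i)) (fun i : ℕ => F.map (homOfLE (hn.monotone (Nat.le_succ i))))) ≫ b = a ≫ (𝟙 (∐ (fun m : ℕ => F.obj m)) - DerLim.shiftMap (fun m : ℕ => F.obj m) (fun m : ℕ => F.map (homOfLE (Nat.le_succ m)))) := by
    refine Sigma.hom_ext _ _ fun i => ?_
    simp only [DerLim.shiftMap, Preadditive.sub_comp, Preadditive.comp_sub, Category.id_comp,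
      Category.comp_id, a, b, Sigma.ι_desc, Sigma.ι_desc_assoc, Category.assoc, Preadditive.sum_comp]
    rw [← Finset.sum_sub_distrib, hf', eq_comm, ← neg_inj, ← Finset.sum_neg_distrib, neg_sub]
    calc _ = ∑ j ∈ Finset.Ico (n i) (n (i + 1)),
          (u' F (n i) (j + 1) ≫ Sigma.ι (fun m : ℕ => F.obj m) (j + 1) - u' F (n i) j ≫ Sigma.ι (fun m : ℕ => F.obj m) j) :=
          Finset.sum_congr rfl fun j hj => by
            rw [neg_sub, hf, ← Category.assoc, u'_comp F (Finset.mem_Ico.1 hj).1 (Nat.le_succ j)]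
      _ = _ := by
        rw [Finset.sum_Ico_sub (fun j => u' F (n i) j ≫ Sigma.ι (fun m : ℕ => F.obj m) j) (hn.monotone (Nat.le_succ i)),
          u'_self, Category.id_comp]
  obtain ⟨φ, h1, h2⟩ := Pretriangulated.complete_distinguished_triangle_morphism _ _ hc' hc a b hab
  dsimp at φ h1 h2
  have hι : ∀ i, ι' i ≫ φ = ι (n i) := fun i => by
    simpa [b] using congrArg (Sigma.ι (fun i : ℕ => F.obj (n i)) i ≫ ·) h1
  have hιm : ∀ m, u' F m (m + 1) ≫ ι (m + 1) = ι m := fun m => by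
    have := congrArg (Sigma.ι (fun m : ℕ => F.obj m) m ≫ ·) (Pretriangulated.comp_distTriang_mor_zero₁₂ _ hc)
    simp [DerLim.shiftMap, Preadditive.sub_comp, sub_eq_zero] at this
    rw [u'_eq F (Nat.le_succ m)]
    exact this.symm
  have hιu : ∀ {m k : ℕ}, m ≤ k → u' F m k ≫ ι k = ι m := fun {m k} h => by
    induction k, h using Nat.le_induction with
    | base => rw [u'_self, Category.id_comp]
    | succ k hk ih => rw [← u'_comp F hk (Nat.le_succ k), Category.assoc, hιm, ih]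
  have hιm' : ∀ i, u' F (n i) (n (i + 1)) ≫ ι' (i + 1) = ι' i := fun i => by
    have := congrArg (Sigma.ι (fun i : ℕ => F.obj (n i)) i ≫ ·) (Pretriangulated.comp_distTriang_mor_zero₁₂ _ hc')
    simp [DerLim.shiftMap, Preadditive.sub_comp, sub_eq_zero] at this
    rw [u'_eq F (hn.monotone (Nat.le_succ i))]
    exact this.symm
  have hιu' : ∀ {m k : ℕ}, m ≤ k → u' F (n m) (n k) ≫ ι' k = ι' m := fun {m k} h => by
    induction k, h using Nat.le_induction with
    | base => rw [u'_self, Category.id_comp]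
    | succ k hk ih =>
      rw [← u'_comp F (hn.monotone hk) (hn.monotone (Nat.le_succ k)), Category.assoc, hιm', ih]
  -- injectivity
  have inj : ∀ {T : D} (g : L ⟶ T), φ ≫ g = 0 → g = 0 := fun {T} g hg => by
    have hg' : ∀ m, ι m ≫ g = 0 := fun m => by
      rw [← hιu (hid m), Category.assoc, ← hι, Category.assoc, hg, comp_zero, comp_zero]
    obtain ⟨h, hh⟩ := Pretriangulated.Triangle.yoneda_exact₃ _ hc g
      (Sigma.hom_ext _ _ fun m => by simp [hg'])
    dsimp at h hh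
    let e : (shiftFunctor D (1 : ℤ)).obj ((shiftFunctor D (-1 : ℤ)).obj T) ≅ T :=
      (shiftEquiv D (1 : ℤ)).counitIso.app T
    obtain ⟨h₀, hh₀⟩ := (shiftFunctor D (1 : ℤ)).map_surjective (h ≫ e.inv)
    have h0 : c' ≫ (shiftFunctor D (1 : ℤ)).map (a ≫ h₀) = 0 := by
      rw [Functor.map_comp, hh₀, reassoc_of% h2, ← Category.assoc c, ← hh, reassoc_of% hg, zero_comp]
    obtain ⟨k, hk⟩ := Pretriangulated.Triangle.yoneda_exact₃ _ (Pretriangulated.rot_of_distTriang _ hc')
      ((shiftFunctor D (1 : ℤ)).map (a ≫ h₀)) h0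
    dsimp at k hk
    obtain ⟨k₀, rfl⟩ := (shiftFunctor D (1 : ℤ)).map_surjective k
    rw [Preadditive.neg_comp, ← Functor.map_comp, ← Functor.map_neg] at hk
    have hk' := (shiftFunctor D (1 : ℤ)).map_injective hk
    obtain ⟨x, hx⟩ := exists_primitive F n hn (fun m => Sigma.ι (fun m : ℕ => F.obj m) m ≫ h₀) (fun i => -(Sigma.ι (fun i : ℕ => F.obj (n i)) i ≫ k₀))
      (fun i => by
        have := congrArg (Sigma.ι (fun i : ℕ => F.obj (n i)) i ≫ ·) hk'
        simp [a, DerLim.shiftMap, Preadditive.sub_comp, Preadditive.comp_sub, Preadditive.sum_comp] at this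
        rw [this, hf', Preadditive.comp_neg]
        abel)
    have hx' : h₀ = (𝟙 (∐ (fun m : ℕ => F.obj m)) - DerLim.shiftMap (fun m : ℕ => F.obj m) (fun m : ℕ => F.map (homOfLE (Nat.le_succ m)))) ≫ Sigma.desc x := Sigma.hom_ext _ _ fun m => by
      rw [← hx m, ← hf]
      simp [DerLim.shiftMap, Preadditive.sub_comp, Preadditive.comp_sub]
    rw [hh, ← cancel_mono e.inv, Category.assoc, ← hh₀, hx', Functor.map_comp, ← Category.assoc]
    have := Pretriangulated.comp_distTriang_mor_zero₃₁ _ hc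
    dsimp at this
    rw [this, zero_comp, zero_comp]
  -- surjectivity
  obtain ⟨g, hg⟩ : ∃ g : L ⟶ L', φ ≫ g = 𝟙 L' := by
    obtain ⟨g₀, hg₀⟩ := Pretriangulated.Triangle.yoneda_exact₂ _ hc
      (Sigma.desc fun m => u' F m (n m) ≫ ι' m)
      (Sigma.hom_ext _ _ fun m => by
        change Sigma.ι (fun m : ℕ => F.obj m) m ≫ (𝟙 (∐ (fun m : ℕ => F.obj m)) - DerLim.shiftMap (fun m : ℕ => F.obj m) (fun m : ℕ => F.map (homOfLE (Nat.le_succ m)))) ≫ _ = _
        simp only [DerLim.shiftMap, Preadditive.sub_comp, Preadditive.comp_sub, Category.id_comp,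
          Sigma.ι_desc, Sigma.ι_desc_assoc, Category.assoc, comp_zero, sub_eq_zero]
        rw [hf, ← hιu' (Nat.le_succ m), ← Category.assoc, ← Category.assoc,
          u'_comp F (Nat.le_succ m) (hid _), u'_comp F (hid m) (hn.monotone (Nat.le_succ m))])
    dsimp at g₀ hg₀
    have hg₁ : ∀ i, ι' i ≫ (φ ≫ g₀ - 𝟙 L') = 0 := fun i => by
      have := congrArg (Sigma.ι (fun m : ℕ => F.obj m) (n i) ≫ ·) hg₀
      simp at this
      rw [Preadditive.comp_sub, reassoc_of% hι, ← this, Category.comp_id,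
        ← hιu' (hid i), sub_self]
    obtain ⟨h', hh'⟩ := Pretriangulated.Triangle.yoneda_exact₃ _ hc' (φ ≫ g₀ - 𝟙 L')
      (Sigma.hom_ext _ _ fun i => by
        change Sigma.ι (fun i : ℕ => F.obj (n i)) i ≫ Sigma.desc ι' ≫ _ = Sigma.ι (fun i : ℕ => F.obj (n i)) i ≫ 0
        rw [Sigma.ι_desc_assoc, hg₁, comp_zero])
    dsimp at h' hh'
    let e : (shiftFunctor D (1 : ℤ)).obj ((shiftFunctor D (-1 : ℤ)).obj L') ≅ L' :=
      (shiftEquiv D (1 : ℤ)).counitIso.app L'
    obtain ⟨h₀', hh₀'⟩ := (shiftFunctor D (1 : ℤ)).map_surjective (h' ≫ e.inv)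
    let hfam : ∀ m, (fun m : ℕ => F.obj m) m ⟶ (shiftFunctor D (-1 : ℤ)).obj L' := fun m =>
      if hm : ∃ i, n i = m then eqToHom (congrArg F.obj hm.choose_spec.symm) ≫ Sigma.ι (fun i : ℕ => F.obj (n i)) hm.choose ≫ h₀' else 0
    have hh : a ≫ Sigma.desc hfam = h₀' := Sigma.hom_ext _ _ fun i => by
      have hi : n i ∈ Finset.Ico (n i) (n (i + 1)) := Finset.mem_Ico.2 ⟨le_rfl, hn (Nat.lt_succ_self i)⟩
      simp only [a, Sigma.ι_desc_assoc, Preadditive.sum_comp, Category.assoc, Sigma.ι_desc]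
      rw [Finset.sum_eq_single_of_mem (n i) hi, u'_self, Category.id_comp]
      · have hm : ∃ i', n i' = n i := ⟨i, rfl⟩
        simp only [hfam, dif_pos hm]
        have : hm.choose = i := hn.injective hm.choose_spec
        rw! [this]
        simp
      · intro j hj hne
        simp only [hfam]
        rw [dif_neg, comp_zero]
        rintro ⟨k, rfl⟩
        obtain ⟨h3, h4⟩ := Finset.mem_Ico.1 hj
        rw [hn.le_iff_le] at h3
        rw [hn.lt_iff_lt] at h4
        exact hne (congrArg n (by omega))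
    refine ⟨g₀ - c ≫ (shiftFunctor D (1 : ℤ)).map (Sigma.desc hfam) ≫ e.hom, ?_⟩
    rw [Preadditive.comp_sub, ← reassoc_of% h2, ← Functor.map_comp_assoc, hh, hh₀', Category.assoc,
      Iso.inv_hom_id, Category.comp_id, ← hh']
    abel
  refine ⟨⟨φ, g, hg, ?_⟩, hι⟩
  have := inj (g ≫ φ - 𝟙 L) (by rw [Preadditive.comp_sub, reassoc_of% hg, Category.comp_id, sub_self])
  exact sub_eq_zero.1 this

end Groth.Agent.S6592
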