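import Groth.Statements.S6593
import Groth.Agent.Triang.Basic

set_option autoImplicit false
set_option backward.isDefEq.respectTransparency false
set_option backward.defeqAttrib.useBackward true
universe w v u
open CategoryTheory CategoryTheory.Limits
open CohDer

namespace Groth.Agent.S6593

open CategoryTheory.Pretriangulated in
/-- Let D be a pretriangulated category and (X_i → Y_i → Z_i → X_i⟦1⟧)_{i ∈ I} a family of distinguished
triangles. If the direct sums ⨁ X_i, ⨁ Y_i, ⨁ Z_i exist, then ⨁ X_i → ⨁ Y_i → ⨁ Z_i → (⨁ X_i)⟦1⟧ is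
a distinguished triangle (the last map is induced by the composites Z_i → X_i⟦1⟧ → (⨁ X_i)⟦1⟧). -/
theorem result {D : Type u} [Category.{v} D] [Preadditive D] [HasZeroObject D] [HasShift D ℤ]
    [∀ n : ℤ, (shiftFunctor D n).Additive] [Pretriangulated D]
    {J : Type w} (T : J → Triangle D) (hT : ∀ j, T j ∈ distinguishedTriangles)
    [HasCoproduct (fun j => (T j).obj₁)] [HasCoproduct (fun j => (T j).obj₂)] [HasCoproduct (fun j => (T j).obj₃)] :
    Triangle.mk (Limits.Sigma.map (fun j => (T j).mor₁)) (Limits.Sigma.map (fun j => (T j).mor₂))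
      (Sigma.desc (fun j => (T j).mor₃ ≫ (shiftFunctor D (1 : ℤ)).map (Sigma.ι (fun j => (T j).obj₁) j))) ∈ distinguishedTriangles := by
  obtain ⟨Z, f₂, f₃, hS⟩ := distinguished_cocone_triangle (Limits.Sigma.map (fun j => (T j).mor₁))
  let p := fun j => completeDistinguishedTriangleMorphism _ _ (hT j) hS
    (Sigma.ι (fun j => (T j).obj₁) j) (Sigma.ι (fun j => (T j).obj₂) j) (by dsimp; rw [Limits.Sigma.ι_map])
  have p₂ : ∀ j, (T j).mor₂ ≫ (p j).hom₃ = Sigma.ι (fun j => (T j).obj₂) j ≫ f₂ :=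
    fun j => (p j).comm₂
  have p₃ : ∀ j, (T j).mor₃ ≫ (Sigma.ι (fun j => (T j).obj₁) j)⟦(1 : ℤ)⟧' = (p j).hom₃ ≫ f₃ :=
    fun j => (p j).comm₃
  let φ : Triangle.mk (Limits.Sigma.map (fun j => (T j).mor₁)) (Limits.Sigma.map (fun j => (T j).mor₂))
      (Sigma.desc (fun j => (T j).mor₃ ≫ (shiftFunctor D (1 : ℤ)).map (Sigma.ι (fun j => (T j).obj₁) j))) ⟶
      Triangle.mk (Limits.Sigma.map (fun j => (T j).mor₁)) f₂ f₃ :=
    { hom₁ := 𝟙 _
      hom₂ := 𝟙 _
      hom₃ := Sigma.desc fun j => (p j).hom₃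
      comm₁ := (Category.comp_id _).trans (Category.id_comp _).symm
      comm₂ := by
        dsimp
        ext j
        simp [p₂]
      comm₃ := by
        dsimp
        ext j
        simp [p₃] }
  have : IsIso φ.hom₁ := IsIso.id _
  have : IsIso φ.hom₂ := IsIso.id _
  refine Triang.distinguished_of_yoneda_exact _ _ hS φ ?_ ?_ ?_
  · dsimp
    ext j
    simp [comp_distTriang_mor_zero₁₂_assoc _ (hT j)]
  · intro A g hg
    dsimp at hg ⊢
    have h : ∀ j, ∃ a, Sigma.ι (fun j => (T j).obj₃) j ≫ g = (T j).mor₃ ≫ a := fun j =>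
      (T j).yoneda_exact₃ (hT j) _ (by simpa using Sigma.ι (fun j => (T j).obj₂) j ≫= hg)
    choose a ha using h
    let e := (shiftFunctorCompIsoId D (-1 : ℤ) 1 (by simp)).app A
    refine ⟨(Sigma.desc fun j => (shiftFunctor D (1 : ℤ)).preimage (a j ≫ e.inv))⟦(1 : ℤ)⟧' ≫ e.hom, ?_⟩
    ext j
    simp [ha, ← Functor.map_comp_assoc]
  · intro A g hg
    dsimp at hg ⊢
    let e := (shiftFunctorCompIsoId D (-1 : ℤ) 1 (by simp)).app A
    have h : ∀ j, ∃ a, (Sigma.ι (fun j => (T j).obj₁) j)⟦(1 : ℤ)⟧' ≫ g = (T j).mor₁⟦(1 : ℤ)⟧' ≫ a := by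
      intro j
      obtain ⟨a, ha⟩ := (T j).rotate.yoneda_exact₃ (rot_of_distTriang _ (hT j))
        ((Sigma.ι (fun j => (T j).obj₁) j)⟦(1 : ℤ)⟧' ≫ g) (by
          simpa using Sigma.ι (fun j => (T j).obj₃) j ≫= hg)
      exact ⟨-a, by simpa using ha⟩
    choose a ha using h
    refine ⟨(Sigma.desc fun j => (shiftFunctor D (1 : ℤ)).preimage (a j ≫ e.inv))⟦(1 : ℤ)⟧' ≫ e.hom, ?_⟩
    obtain ⟨g', hg'⟩ := (shiftFunctor D (1 : ℤ)).map_surjective (g ≫ e.inv)
    rw [← cancel_mono e.inv, Category.assoc, Category.assoc, e.hom_inv_id]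
    erw [Category.comp_id]
    rw [← hg', ← Functor.map_comp]
    congr 1
    dsimp
    refine Sigma.hom_ext _ _ fun j => ?_
    apply (shiftFunctor D (1 : ℤ)).map_injective
    simp [hg', ← reassoc_of% ha]

end Groth.Agent.S6593
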