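import Groth.Statements.S6594


set_option autoImplicit false
set_option backward.isDefEq.respectTransparency false
set_option backward.defeqAttrib.useBackward true
universe v u
open CategoryTheory CategoryTheory.Limits
open CohDer

namespace Groth.Agent.S6594

open CategoryTheory.Pretriangulated in
/-- (1) ⇔ (3): let D be a pretriangulated category and f : X ⟶ Y a morphism. Then f has a kernel if and
only if f is isomorphic to a composite K ⊞ Z → Z → Z ⊞ Q of a projection and a coprojection for some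
objects K, Z, Q. -/
theorem result {D : Type u} [Category.{v} D] [Preadditive D] [HasZeroObject D] [HasShift D ℤ]
    [∀ n : ℤ, (shiftFunctor D n).Additive] [Pretriangulated D]
    {X Y : D} (f : X ⟶ Y) :
    HasKernel f ↔ ∃ (K Z Q : D) (e₁ : X ≅ K ⊞ Z) (e₂ : Y ≅ Z ⊞ Q),
      f = e₁.hom ≫ biprod.snd ≫ biprod.inl ≫ e₂.inv := by
  constructor
  · intro _
    obtain ⟨Z, p, d, hT⟩ := distinguished_cocone_triangle (kernel.ι f)
    have hd : d = 0 := (Triangle.mor₃_eq_zero_iff_mono₁ _ hT).2 (inferInstanceAs (Mono (kernel.ι f)))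
    have : Epi p := (Triangle.mor₃_eq_zero_iff_epi₂ _ hT).1 hd
    obtain ⟨e₁, he₁, he₁'⟩ := exists_iso_binaryBiproduct_of_distTriang _ hT hd
    obtain ⟨f', hf'⟩ : ∃ f' : Z ⟶ Y, f = p ≫ f' :=
      Triangle.yoneda_exact₂ _ hT f (kernel.condition f)
    obtain ⟨s, hs⟩ : ∃ s : Z ⟶ X, s ≫ p = 𝟙 Z := by
      obtain ⟨s, hs⟩ := Triangle.coyoneda_exact₃ _ hT (𝟙 Z) (by
        show 𝟙 Z ≫ d = 0
        rw [hd, comp_zero])
      exact ⟨s, hs.symm⟩
    have : Mono f' := by
      refine Preadditive.mono_of_cancel_zero _ fun {P} z hz => ?_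
      have h : (z ≫ s) ≫ f = 0 := by
        calc (z ≫ s) ≫ f = (z ≫ s) ≫ (p ≫ f') := congrArg _ hf'
          _ = 0 := by rw [Category.assoc, reassoc_of% hs, hz]
      have : (z ≫ s) ≫ p = 0 := by
        rw [← kernel.lift_ι f (z ≫ s) h, Category.assoc,
          show kernel.ι f ≫ p = 0 from comp_distTriang_mor_zero₁₂ _ hT, comp_zero]
      rwa [Category.assoc, hs, Category.comp_id] at this
    obtain ⟨Q, g, d', hT'⟩ := distinguished_cocone_triangle f'
    have hd' : d' = 0 := (Triangle.mor₃_eq_zero_iff_mono₁ _ hT').2 ‹_›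
    obtain ⟨e₂, he₂, -⟩ := exists_iso_binaryBiproduct_of_distTriang _ hT' hd'
    exact ⟨kernel f, Z, Q, e₁, e₂, hf'.trans (by
      rw [show p = e₁.hom ≫ biprod.snd from he₁',
        show f' = biprod.inl ≫ e₂.inv from ((Iso.eq_comp_inv e₂).2 he₂)]
      exact Category.assoc _ _ _)⟩
  · rintro ⟨K, Z, Q, e₁, e₂, rfl⟩
    refine ⟨⟨⟨KernelFork.ofι (biprod.inl ≫ e₁.inv) (by simp),
      Fork.IsLimit.ofExistsUnique fun s => ⟨s.ι ≫ e₁.hom ≫ biprod.fst, ?_, fun y hy => ?_⟩⟩⟩⟩
    · have h := (KernelFork.condition s) =≫ (e₂.hom ≫ biprod.fst)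
      simp only [Category.assoc, Iso.inv_hom_id_assoc, biprod.inl_fst, zero_comp, Category.comp_id] at h
      simp only [KernelFork.ofι, Fork.ι_ofι]
      rw [← cancel_mono e₁.hom]
      ext <;> simp [h]
    · simp only [KernelFork.ofι, Fork.ι_ofι] at hy
      rw [← hy]
      simp

end Groth.Agent.S6594
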