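import Groth.Statements.S6596
import Groth.Agent.Postnikov.Basic
import Mathlib
set_option autoImplicit false
universe v u
open CategoryTheory CategoryTheory.Limits
open CohDer


namespace Groth.Agent.S6596

set_option backward.isDefEq.respectTransparency false
set_option backward.defeqAttrib.useBackward true

open CategoryTheory.Pretriangulated Groth.Agent.Postnikov

variable {D : Type u} [Category.{v} D] [Preadditive D] [HasZeroObject D] [HasShift D ℤ]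
    [∀ n : ℤ, (shiftFunctor D n).Additive] [Pretriangulated D]
    {X X' : ChainComplex D ℕ} (φ : X ⟶ X') (n : ℕ)
    {Y : ℕ → D} {a : ∀ k, Y k ⟶ X.X k} {b : ∀ k, X.X (k + 1) ⟶ Y k}
    {c : ∀ k, Y k ⟶ (shiftFunctor D (1 : ℤ)).obj (Y (k + 1))}
    {qY : ℕ → D} {qa : ∀ k, qY k ⟶ X'.X k} {qb : ∀ k, X'.X (k + 1) ⟶ qY k}
    {qc : ∀ k, qY k ⟶ (shiftFunctor D (1 : ℤ)).obj (qY (k + 1))}

lemma exists_next
    (hP : ∀ k, k < n → Triangle.mk (a (k + 1)) (b k) (c k) ∈ distinguishedTriangles ∧ b k ≫ a k = X.d (k + 1) k)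
    (qh0 : IsIso (qa 0))
    (qhP : ∀ k, k < n → Triangle.mk (qa (k + 1)) (qb k) (qc k) ∈ distinguishedTriangles ∧ qb k ≫ qa k = X'.d (k + 1) k)
    (hX : ∀ i j : ℕ, j + 1 < i → i ≤ n → ∀ ψ : (shiftFunctor D ((i : ℤ) - j - 1)).obj (X.X i) ⟶ X'.X j, ψ = 0)
    (k : ℕ) (y : Y k ⟶ qY k) :
    ∃ y' : Y (k + 1) ⟶ qY (k + 1), k < n → y ≫ qa k = a k ≫ φ.f k →
      y' ≫ qa (k + 1) = a (k + 1) ≫ φ.f (k + 1) ∧ b k ≫ y = φ.f (k + 1) ≫ qb k ∧
        c k ≫ (shiftFunctor D (1 : ℤ)).map y' = y ≫ qc k := by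
  by_cases hk : k < n
  swap
  · exact ⟨0, fun h => absurd h hk⟩
  by_cases hy : y ≫ qa k = a k ≫ φ.f k
  swap
  · exact ⟨0, fun _ h => absurd h hy⟩
  have hb : b k ≫ y = φ.f (k + 1) ≫ qb k := by
    rw [← sub_eq_zero]
    set δ := b k ≫ y - φ.f (k + 1) ≫ qb k with hδ
    have h0 : δ ≫ qa k = 0 := by
      rw [hδ, Preadditive.sub_comp, Category.assoc, hy, ← Category.assoc, (hP k hk).2, Category.assoc,
        (qhP k hk).2, φ.comm, sub_self]
    clear_value δ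
    cases k with
    | zero => exact (cancel_mono (qa 0)).1 (h0.trans zero_comp.symm)
    | succ j =>
      obtain ⟨η, hη⟩ := Triangle.coyoneda_exact₂ _ (inv_rot_of_distTriang _ (qhP j (by omega)).1) δ h0
      have hV : V (X.X (j + 1 + 1)) (qY j) (-1) := by
        refine IsPost.V_into (X := X') (n := n) ⟨qh0, fun k hk => (qhP k hk).1⟩ _ j (by omega) _ fun l hl => ?_
        exact V.of_left (((j + 1 + 1 : ℕ) : ℤ) - l - 1) (by push_cast; omega) (hX _ l (by omega) (by omega))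
      have hη0 : η = 0 := hV η
      rw [hη, hη0]
      exact zero_comp
  obtain ⟨y', h1, h2⟩ := complete_distinguished_triangle_morphism₁ _ _ (hP k hk).1 (qhP k hk).1
    (φ.f (k + 1)) y hb
  exact ⟨y', fun _ _ => ⟨h1.symm, hb, h2⟩⟩

open CategoryTheory.Pretriangulated in
/-- Let D be a triangulated category and φ : X ⟶ X' a morphism of chain complexes in D considered in
degrees ≤ n, where a Postnikov system for the complex X_n → … → X_0 consists of objects Y_k, an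
isomorphism Y_0 ⟶ X_0, and for 0 ≤ k < n distinguished triangles Y_{k+1} ⟶ X_{k+1} ⟶ Y_k ⟶
Y_{k+1}⟦1⟧ with X_{k+1} ⟶ Y_k ⟶ X_k the differential. Suppose X and X' carry Postnikov systems (Y,
a, b, c) and (Y', a', b', c'). If Hom(X_i⟦i - j - 1⟧, X'_j) = 0 for all j + 1 < i ≤ n, then φ
extends to a morphism of Postnikov systems: morphisms y_k : Y_k ⟶ Y'_k for k ≤ n forming, with the
φ_k, morphisms of the distinguished triangles and compatible with Y_0 ⟶ X_0 and Y'_0 ⟶ X'_0. -/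
theorem result {D : Type u} [Category.{v} D] [Preadditive D] [HasZeroObject D] [HasShift D ℤ]
    [∀ n : ℤ, (shiftFunctor D n).Additive] [Pretriangulated D] [IsTriangulated D]
    (X X' : ChainComplex D ℕ) (φ : X ⟶ X') (n : ℕ)
    (Y : ℕ → D) (a : ∀ k, Y k ⟶ X.X k) (b : ∀ k, X.X (k + 1) ⟶ Y k)
    (c : ∀ k, Y k ⟶ (shiftFunctor D (1 : ℤ)).obj (Y (k + 1)))
    (h0 : IsIso (a 0))
    (hP : ∀ k, k < n → Triangle.mk (a (k + 1)) (b k) (c k) ∈ distinguishedTriangles ∧ b k ≫ a k = X.d (k + 1) k)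
    (qY : ℕ → D) (qa : ∀ k, qY k ⟶ X'.X k) (qb : ∀ k, X'.X (k + 1) ⟶ qY k)
    (qc : ∀ k, qY k ⟶ (shiftFunctor D (1 : ℤ)).obj (qY (k + 1)))
    (qh0 : IsIso (qa 0))
    (qhP : ∀ k, k < n → Triangle.mk (qa (k + 1)) (qb k) (qc k) ∈ distinguishedTriangles ∧ qb k ≫ qa k = X'.d (k + 1) k)
    (hX : ∀ i j : ℕ, j + 1 < i → i ≤ n → ∀ ψ : (shiftFunctor D ((i : ℤ) - j - 1)).obj (X.X i) ⟶ X'.X j, ψ = 0) :
    ∃ y : ∀ k, Y k ⟶ qY k,
      (∀ k, k ≤ n → y k ≫ qa k = a k ≫ φ.f k) ∧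
      (∀ k, k < n → b k ≫ y k = φ.f (k + 1) ≫ qb k ∧ c k ≫ (shiftFunctor D (1 : ℤ)).map (y (k + 1)) = y k ≫ qc k) := by
  choose step hstep using exists_next φ n hP qh0 qhP hX
  haveI := qh0
  let y : ∀ k, Y k ⟶ qY k := fun k => Nat.rec (motive := fun k => Y k ⟶ qY k) (a 0 ≫ φ.f 0 ≫ inv (qa 0)) step k
  have h : ∀ k, k ≤ n → y k ≫ qa k = a k ≫ φ.f k := by
    intro k
    induction k with
    | zero => intro _; simp [y]
    | succ k ih => intro hk; exact (hstep k (y k) (by omega) (ih (by omega))).1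
  exact ⟨y, h, fun k hk => (hstep k (y k) hk (h k (by omega))).2⟩

end Groth.Agent.S6596
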