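import Groth.Statements.S6597
import Groth.Agent.Postnikov.Basic
import Mathlib
set_option autoImplicit false
universe v u
open CategoryTheory CategoryTheory.Limits
open CohDer


namespace Groth.Agent.S6597

set_option backward.isDefEq.respectTransparency false
set_option backward.defeqAttrib.useBackward true

open CategoryTheory.Pretriangulated Groth.Agent.Postnikov

open CategoryTheory.Pretriangulated in
/-- Let D be a triangulated category, φ : X ⟶ X' a morphism of chain complexes in D considered in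
degrees ≤ n, where a Postnikov system for the complex X_n → … → X_0 consists of objects Y_k, an
isomorphism Y_0 ⟶ X_0, and for 0 ≤ k < n distinguished triangles Y_{k+1} ⟶ X_{k+1} ⟶ Y_k ⟶
Y_{k+1}⟦1⟧ with X_{k+1} ⟶ Y_k ⟶ X_k the differential; let (Y, a, b, c) and (Y', a', b', c') be
Postnikov systems for X and X'. If Hom(X_i⟦i⟧, Y'_n⟦n⟧) = 0 for i = 1, …, n, then two morphisms of
Postnikov systems extending φ agree on Y_n. (The published statement says there is at most one
morphism of Postnikov systems; the argument, by induction along Y_0 → Y_1⟦1⟧ → … → Y_n⟦n⟧,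
determines the component in degree n, which is what is asserted here.) -/
theorem result {D : Type u} [Category.{v} D] [Preadditive D] [HasZeroObject D] [HasShift D ℤ]
    [∀ n : ℤ, (shiftFunctor D n).Additive] [Pretriangulated D] [IsTriangulated D]
    (X X' : ChainComplex D ℕ) (φ : X ⟶ X') (n : ℕ)
    (Y : ℕ → D) (a : ∀ k, Y k ⟶ X.X k) (b : ∀ k, X.X (k + 1) ⟶ Y k)
    (c : ∀ k, Y k ⟶ (shiftFunctor D (1 : ℤ)).obj (Y (k + 1)))
    (h0 : IsIso (a 0))
    (hP : ∀ k, k < n → Triangle.mk (a (k + 1)) (b k) (c k) ∈ distinguishedTriangles ∧ b k ≫ a k = X.d (k + 1) k)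
    (qY : ℕ → D) (qa : ∀ k, qY k ⟶ X'.X k) (qb : ∀ k, X'.X (k + 1) ⟶ qY k)
    (qc : ∀ k, qY k ⟶ (shiftFunctor D (1 : ℤ)).obj (qY (k + 1)))
    (qh0 : IsIso (qa 0))
    (qhP : ∀ k, k < n → Triangle.mk (qa (k + 1)) (qb k) (qc k) ∈ distinguishedTriangles ∧ qb k ≫ qa k = X'.d (k + 1) k)
    (hv : ∀ i : ℕ, 1 ≤ i → i ≤ n → ∀ ψ : (shiftFunctor D (i : ℤ)).obj (X.X i) ⟶ (shiftFunctor D (n : ℤ)).obj (qY n), ψ = 0)
    (y z : ∀ k, Y k ⟶ qY k)
    (hy : (∀ k, k ≤ n → y k ≫ qa k = a k ≫ φ.f k) ∧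
      (∀ k, k < n → b k ≫ y k = φ.f (k + 1) ≫ qb k ∧ c k ≫ (shiftFunctor D (1 : ℤ)).map (y (k + 1)) = y k ≫ qc k))
    (hz : (∀ k, k ≤ n → z k ≫ qa k = a k ≫ φ.f k) ∧
      (∀ k, k < n → b k ≫ z k = φ.f (k + 1) ≫ qb k ∧ c k ≫ (shiftFunctor D (1 : ℤ)).map (z (k + 1)) = z k ≫ qc k)) :
    y n = z n := by
  have hiso := qh0
  have key : ∀ k, k ≤ n → ∀ (m : ℤ), m = (n : ℤ) - k → ∀ h : qY k ⟶ (shiftFunctor D m).obj (qY n),
      (y k - z k) ≫ h = 0 := by
    intro k
    induction k with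
    | zero =>
      intro hk m _ h
      have e : y 0 - z 0 = 0 := (cancel_mono (qa 0)).1 (by
        rw [Preadditive.sub_comp, hy.1 0 hk, hz.1 0 hk, sub_self, zero_comp])
      rw [e, zero_comp]
    | succ k ih =>
      intro hk m hm h
      let g := (y (k + 1) - z (k + 1)) ≫ h
      have hc : c k ≫ (shiftFunctor D (1 : ℤ)).map g = 0 := by
        simp only [g, Functor.map_comp]
        rw [← Category.assoc, Functor.map_sub, Preadditive.comp_sub, (hy.2 k (by omega)).2,
          (hz.2 k (by omega)).2, ← Preadditive.sub_comp, Category.assoc]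
        have := ih (by omega) (m + 1) (by omega) (qc k ≫ (shiftFunctor D (1 : ℤ)).map h ≫
          (shiftFunctorAdd' D m 1 (m + 1) rfl).inv.app (qY n))
        rw [← cancel_mono ((shiftFunctorAdd' D m 1 (m + 1) rfl).inv.app (qY n)), zero_comp]
        simp only [Category.assoc]
        exact this
      obtain ⟨ξ, hξ⟩ := Triangle.yoneda_exact₃ _ (rot_of_distTriang _ (hP k (by omega)).1)
        ((shiftFunctor D (1 : ℤ)).map g) hc
      change (shiftFunctor D (1 : ℤ)).obj (X.X (k + 1)) ⟶ _ at ξ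
      change (shiftFunctor D (1 : ℤ)).map g = (-(shiftFunctor D (1 : ℤ)).map (a (k + 1))) ≫ ξ at hξ
      have hV : V (X.X (k + 1)) (qY n) m :=
        V.of_shift (((k + 1 : ℕ) : ℤ)) (n : ℤ) (by omega) (hv (k + 1) (by omega) hk)
      obtain ⟨ξ', rfl⟩ := (shiftFunctor D (1 : ℤ)).map_surjective ξ
      exact (shiftFunctor D (1 : ℤ)).map_injective (by
        rw [hξ, hV ξ', Functor.map_zero, comp_zero, Functor.map_zero])
  have := key n le_rfl 0 (by omega) ((shiftFunctorZero D ℤ).inv.app (qY n))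
  rw [← sub_eq_zero]
  exact (cancel_mono ((shiftFunctorZero D ℤ).inv.app (qY n))).1 (this.trans zero_comp.symm)

end Groth.Agent.S6597
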