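import Groth.Statements.S6600
import Mathlib.CategoryTheory.Triangulated.Orthogonal

set_option autoImplicit false
set_option backward.isDefEq.respectTransparency false
set_option backward.defeqAttrib.useBackward true
universe v u
open CategoryTheory CategoryTheory.Limits
open CohDer

namespace Groth.Agent.S6600

open CategoryTheory.Pretriangulated in
/-- Let D be a triangulated category, A ⊂ D a full subcategory invariant under all shifts, and X → Y → Z
→ X⟦1⟧ a distinguished triangle. Then Z lies in the right orthogonal A^⊥ if and only if Hom(A, X) →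
Hom(A, Y) is bijective for every object A of A. -/
theorem result {D : Type u} [Category.{v} D] [Preadditive D] [HasZeroObject D] [HasShift D ℤ]
    [∀ n : ℤ, (shiftFunctor D n).Additive] [Pretriangulated D] [IsTriangulated D]
    (P : ObjectProperty D) [P.IsStableUnderShift ℤ] (T : Triangle D) (hT : T ∈ distinguishedTriangles) :
    P.rightOrthogonal T.obj₃ ↔ ∀ A : D, P A → Function.Bijective (fun u : A ⟶ T.obj₁ => u ≫ T.mor₁) := by
  constructor
  · intro h A hA
    refine ⟨fun u₁ u₂ hu => ?_, fun g => ?_⟩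
    · rw [← sub_eq_zero]
      obtain ⟨v, hv⟩ := T.invRotate.coyoneda_exact₂ (inv_rot_of_distTriang _ hT) (u₁ - u₂)
        (by simpa [sub_eq_zero] using hu)
      rw [hv, P.rightOrthogonal.le_shift (-1 : ℤ) _ h v hA]
      simp
    · obtain ⟨u, hu⟩ := T.coyoneda_exact₂ hT g (h (g ≫ T.mor₂) hA)
      exact ⟨u, hu.symm⟩
  · intro h A g hA
    obtain ⟨e⟩ : Nonempty ((A⟦(-1 : ℤ)⟧)⟦(1 : ℤ)⟧ ≅ A) := ⟨(shiftFunctorCompIsoId D (-1 : ℤ) 1 (by simp)).app A⟩
    obtain ⟨k, hk⟩ := (shiftFunctor D (1 : ℤ)).map_surjective (e.hom ≫ g ≫ T.mor₃)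
    have hk0 : k = 0 := by
      apply (h _ (P.le_shift (-1 : ℤ) _ hA)).injective
      apply (shiftFunctor D (1 : ℤ)).map_injective
      simp [hk, comp_distTriang_mor_zero₃₁ _ hT]
    rw [hk0, Functor.map_zero] at hk
    obtain ⟨y, hy⟩ := T.coyoneda_exact₃ hT g (by rw [← cancel_epi e.hom, ← hk, comp_zero])
    obtain ⟨u, hu⟩ := (h A hA).surjective y
    rw [hy, ← hu]
    simp [comp_distTriang_mor_zero₁₂ _ hT]

end Groth.Agent.S6600
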