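import Groth.Statements.S6601
import Mathlib.CategoryTheory.Triangulated.Orthogonal

set_option autoImplicit false
set_option backward.isDefEq.respectTransparency false
set_option backward.defeqAttrib.useBackward true
universe v u
open CategoryTheory CategoryTheory.Limits
open CohDer

namespace Groth.Agent.S6601

open CategoryTheory.Pretriangulated in
/-- Let D be a triangulated category, B ⊂ D a full subcategory invariant under all shifts, and X → Y → Z
→ X⟦1⟧ a distinguished triangle. Then X lies in the left orthogonal ^⊥B if and only if Hom(Z, B) →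
Hom(Y, B) is bijective for every object B of B. -/
theorem result {D : Type u} [Category.{v} D] [Preadditive D] [HasZeroObject D] [HasShift D ℤ]
    [∀ n : ℤ, (shiftFunctor D n).Additive] [Pretriangulated D] [IsTriangulated D]
    (P : ObjectProperty D) [P.IsStableUnderShift ℤ] (T : Triangle D) (hT : T ∈ distinguishedTriangles) :
    P.leftOrthogonal T.obj₁ ↔ ∀ B : D, P B → Function.Bijective (fun u : T.obj₃ ⟶ B => T.mor₂ ≫ u) := by
  constructor
  · intro h B hB
    refine ⟨fun u₁ u₂ hu => ?_, fun g => ?_⟩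
    · rw [← sub_eq_zero]
      obtain ⟨v, hv⟩ := T.yoneda_exact₃ hT (u₁ - u₂) (by simpa [sub_eq_zero] using hu)
      rw [hv, P.leftOrthogonal.le_shift (1 : ℤ) _ h v hB, comp_zero]
    · obtain ⟨u, hu⟩ := T.yoneda_exact₂ hT g (h (T.mor₁ ≫ g) hB)
      exact ⟨u, hu.symm⟩
  · intro h B g hB
    have h0 : T.mor₃ ≫ g⟦(1 : ℤ)⟧' = 0 := by
      apply (h _ (P.le_shift (1 : ℤ) _ hB)).injective
      simp [comp_distTriang_mor_zero₂₃_assoc _ hT]
    obtain ⟨y, hy⟩ := T.rotate.yoneda_exact₃ (rot_of_distTriang _ hT) (g⟦(1 : ℤ)⟧') h0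
    obtain ⟨e⟩ : Nonempty ((B⟦(1 : ℤ)⟧) ≅ B⟦(1 : ℤ)⟧) := ⟨Iso.refl _⟩
    obtain ⟨y', hy'⟩ := (shiftFunctor D (1 : ℤ)).map_surjective (-y : T.obj₂⟦(1 : ℤ)⟧ ⟶ B⟦(1 : ℤ)⟧)
    have hg : g = T.mor₁ ≫ y' := by
      apply (shiftFunctor D (1 : ℤ)).map_injective
      rw [hy, Functor.map_comp, hy']
      simp
    obtain ⟨u, hu⟩ := (h B hB).surjective y'
    rw [hg, ← hu]
    simp [comp_distTriang_mor_zero₁₂_assoc _ hT]

end Groth.Agent.S6601
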