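import Groth.Statements.S6602
import Groth.Agent.S6601

set_option autoImplicit false
set_option backward.isDefEq.respectTransparency false
set_option backward.defeqAttrib.useBackward true
universe v u
open CategoryTheory CategoryTheory.Limits
open CohDer

namespace Groth.Agent.S6602

open CategoryTheory.Pretriangulated in
/-- (1) ⇔ (2): let D be a triangulated category and B a full triangulated subcategory. The inclusion
functor B → D has a left adjoint if and only if for every X in D there is a distinguished triangle A
→ X → B → A⟦1⟧ with B in B and A in the left orthogonal ^⊥B. (The published statement further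
asserts that B is then saturated and, when strictly full, equals the right orthogonal of its left
orthogonal; this row asserts only the equivalence.) -/
theorem result {D : Type u} [Category.{v} D] [Preadditive D] [HasZeroObject D] [HasShift D ℤ]
    [∀ n : ℤ, (shiftFunctor D n).Additive] [Pretriangulated D] [IsTriangulated D]
    (P : ObjectProperty D) [P.IsTriangulated] :
    P.ι.IsRightAdjoint ↔ ∀ X : D, ∃ (A B : D) (f : A ⟶ X) (g : X ⟶ B) (h : B ⟶ (shiftFunctor D (1 : ℤ)).obj A),
      Triangle.mk f g h ∈ distinguishedTriangles ∧ P B ∧ P.leftOrthogonal A := by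
  constructor
  · intro h X
    let L := P.ι.leftAdjoint
    let adj := Adjunction.ofIsRightAdjoint P.ι
    have hb : ∀ B : D, P B → Function.Bijective
        (fun u : (L.obj X).obj ⟶ B => adj.unit.app X ≫ u) := by
      intro B hB
      have := ((P.fullyFaithfulι.homEquiv (X := L.obj X) (Y := ⟨B, hB⟩)).symm.trans
        (adj.homEquiv X ⟨B, hB⟩)).bijective
      show Function.Bijective (fun u : P.ι.obj (L.obj X) ⟶ P.ι.obj ⟨B, hB⟩ =>
        (adj.unit.app X ≫ u : X ⟶ P.ι.obj ⟨B, hB⟩))
      convert this using 1
      funext u
      simp [Adjunction.homEquiv_unit]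
      rfl
    obtain ⟨A, f, h', hT⟩ := distinguished_cocone_triangle₁ (adj.unit.app X)
    exact ⟨A, (L.obj X).obj, f, adj.unit.app X, h', hT, (L.obj X).property,
      (S6601.result P (Triangle.mk f (adj.unit.app X) h') hT).2 hb⟩
  · intro h
    choose A B f g k hT hB hA using h
    have hbij : ∀ (X : D) (Y : P.FullSubcategory),
        Function.Bijective (fun u : (⟨B X, hB X⟩ : P.FullSubcategory) ⟶ Y => g X ≫ u.hom) := by
      intro X Y
      have := ((S6601.result P (Triangle.mk (f X) (g X) (k X)) (hT X)).1 (hA X)) Y.obj Y.property
      exact this.comp (P.fullyFaithfulι.homEquiv (X := ⟨B X, hB X⟩) (Y := Y)).bijective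
    let e : ∀ (X : D) (Y : P.FullSubcategory),
        ((⟨B X, hB X⟩ : P.FullSubcategory) ⟶ Y) ≃ (X ⟶ P.ι.obj Y) :=
      fun X Y => Equiv.ofBijective _ (hbij X Y)
    refine (Adjunction.adjunctionOfEquivLeft e fun X Y Y' v w => ?_).isRightAdjoint
    simp [e]

end Groth.Agent.S6602
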