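import Groth.Statements.S6603
import Groth.Agent.Triang.Quotient

set_option autoImplicit false
set_option backward.isDefEq.respectTransparency false
set_option backward.defeqAttrib.useBackward true
universe v u v' u'
open CategoryTheory CategoryTheory.Limits
open CohDer

namespace Groth.Agent.S6603

open CategoryTheory.Pretriangulated in
/-- (1) ⇔ (2) ⇔ (3) ⇔ (4): let D be a pretriangulated category, S a multiplicative system compatible
with the triangulated structure, and Q : D → S⁻¹D the localization functor. For an object Z of D the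
following are equivalent: (1) Q(Z) = 0; (2) 0 : Z ⟶ Z' is in S for some Z'; (3) 0 : Z' ⟶ Z is in S
for some Z'; (4) there are an object Z' and a distinguished triangle (X, Y, Z ⊞ Z', f, g, h) with f
∈ S. (The further equivalences (5)–(7) for saturated S are not asserted.) -/
theorem result {D : Type u} [Category.{v} D] [Preadditive D] [HasZeroObject D] [HasShift D ℤ]
    [∀ n : ℤ, (shiftFunctor D n).Additive] [Pretriangulated D]
    (S : MorphismProperty D) [S.HasLeftCalculusOfFractions] [S.HasRightCalculusOfFractions]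
    [S.IsCompatibleWithTriangulation]
    {E : Type u'} [Category.{v'} E] (Q : D ⥤ E) [Q.IsLocalization S] (Z : D) :
    (IsZero (Q.obj Z) ↔ ∃ Z' : D, S (0 : Z ⟶ Z')) ∧
    (IsZero (Q.obj Z) ↔ ∃ Z' : D, S (0 : Z' ⟶ Z)) ∧
    (IsZero (Q.obj Z) ↔ ∃ (Z' X Y : D) (f : X ⟶ Y) (g : Y ⟶ Z ⊞ Z') (h : Z ⊞ Z' ⟶ (shiftFunctor D (1 : ℤ)).obj X),
      Triangle.mk f g h ∈ distinguishedTriangles ∧ S f) := by
  have h1 : IsZero (Q.obj Z) → ∃ Z' : D, S (0 : Z ⟶ Z') := (Triang.isZero_obj_iff_postcomp Q S Z).1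
  refine ⟨Triang.isZero_obj_iff_postcomp Q S Z, Triang.isZero_obj_iff_precomp Q S Z, fun hz => ?_, ?_⟩
  · obtain ⟨Z', hs⟩ := h1 hz
    have hs' : S (0 : Z⟦(-1 : ℤ)⟧ ⟶ Z'⟦(-1 : ℤ)⟧) := by
      have := (MorphismProperty.IsCompatibleWithShift.iff S (0 : Z ⟶ Z') (-1 : ℤ)).2 hs
      rwa [Functor.map_zero] at this
    have hT := inv_rot_of_distTriang _ (binaryBiproductTriangle_distinguished (Z'⟦(-1 : ℤ)⟧) Z)
    obtain ⟨g, h, hT'⟩ : ∃ (g : Z'⟦(-1 : ℤ)⟧ ⟶ Z ⊞ Z'⟦(-1 : ℤ)⟧) (h : Z ⊞ Z'⟦(-1 : ℤ)⟧ ⟶ (Z⟦(-1 : ℤ)⟧)⟦(1 : ℤ)⟧),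
        Triangle.mk (0 : Z⟦(-1 : ℤ)⟧ ⟶ Z'⟦(-1 : ℤ)⟧) g h ∈ distinguishedTriangles :=
      ⟨biprod.inl ≫ (biprod.braiding _ _).inv,
        (biprod.braiding _ _).hom ≫ (binaryBiproductTriangle (Z'⟦(-1 : ℤ)⟧) Z).invRotate.mor₃,
        isomorphic_distinguished _ hT _ (Triangle.isoMk _ _ (Iso.refl _) (Iso.refl _)
          (biprod.braiding _ _) (by simp [binaryBiproductTriangle])
          (by simp [binaryBiproductTriangle]) (by simp))⟩
    exact ⟨_, _, _, _, g, h, hT', hs'⟩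
  · rintro ⟨Z', X, Y, f, g, h, hT, hf⟩
    have := Localization.inverts Q S f hf
    letI := Localization.preadditive Q S
    have := Localization.functor_additive Q S
    have hz : IsZero (Q.obj (Z ⊞ Z')) := (Triang.isIso_map_iff_isZero_cone S Q _ hT).1 ‹_›
    have : IsSplitMono (biprod.inl : Z ⟶ Z ⊞ Z') := inferInstance
    exact IsZero.of_mono (Q.map (biprod.inl : Z ⟶ Z ⊞ Z')) hz

end Groth.Agent.S6603
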