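import Groth.Statements.S6605
import Groth.Agent.FilDLib.Injective

set_option autoImplicit false
universe v u
open CategoryTheory CategoryTheory.Limits Opposite
open FilD

open Groth.Agent.FilDLib

namespace Groth.Agent.S6605

set_option backward.isDefEq.respectTransparency false
set_option backward.defeqAttrib.useBackward true

/-- Let A be an abelian category, u : A ⟶ B a strict monomorphism of finite filtered objects and f : A ⟶
I a morphism into a filtered injective object I of Fil^f(A). Then there is g : B ⟶ I with u ≫ g = f. -/
theorem result {A : Type u} [Category.{v} A] [Abelian A]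
    {X Y I : FilD.FilF A} (u : X ⟶ Y) [Mono u] (hu : FilD.IsStrict u) (hI : FilD.IsFilteredInjective I) (f : X ⟶ I) :
    ∃ g : Y ⟶ I, u ≫ g = f := by
  obtain ⟨g, hg⟩ := exists_extension u.hom (strictMonoHom_of_isStrict u hu) Y.property I.property hI f.hom
  exact ⟨ObjectProperty.homMk g, (FilD.IsFinFil A).ι.map_injective hg⟩

end Groth.Agent.S6605
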