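import Groth.Statements.S6608


set_option autoImplicit false
set_option backward.isDefEq.respectTransparency false
set_option backward.defeqAttrib.useBackward true
universe v u
open CategoryTheory CategoryTheory.Limits
open CohDer

namespace Groth.Agent.S6608

open CategoryTheory.Pretriangulated in
/-- Let D be a pretriangulated category and S a set of arrows of D containing the identities and
satisfying MS6 (compatibility with the triangulated structure; here together with stability under
shifts, MS5). Then every isomorphism of D lies in S. -/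
theorem result {D : Type u} [Category.{v} D] [Preadditive D] [HasZeroObject D] [HasShift D ℤ]
    [∀ n : ℤ, (shiftFunctor D n).Additive] [Pretriangulated D]
    (S : MorphismProperty D) [S.ContainsIdentities] [S.IsCompatibleWithTriangulation]
    {X Y : D} (f : X ⟶ Y) [IsIso f] : S f := by
  open ZeroObject in
  let T₁ := Triangle.mk (0 : (0 : D) ⟶ X) (𝟙 X) (0 : X ⟶ (0 : D)⟦(1 : ℤ)⟧)
  let T₂ := Triangle.mk (0 : (0 : D) ⟶ X) f (0 : Y ⟶ (0 : D)⟦(1 : ℤ)⟧)
  have hT₁ : T₁ ∈ distinguishedTriangles :=
    (Triangle.distinguished_iff_of_isZero₁ T₁ (isZero_zero D)).2 (IsIso.id _)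
  have hT₂ : T₂ ∈ distinguishedTriangles :=
    (Triangle.distinguished_iff_of_isZero₁ T₂ (isZero_zero D)).2 ‹_›
  obtain ⟨c, hc, h, -⟩ := MorphismProperty.compatible_with_triangulation T₁ T₂ hT₁ hT₂ (𝟙 _) (𝟙 _)
    (MorphismProperty.id_mem S _) (MorphismProperty.id_mem S _) (by simp [T₁, T₂])
  have : c = f := by simpa [T₁, T₂] using h
  exact this ▸ hc

end Groth.Agent.S6608
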