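import Groth.Statements.S6611
import Groth.Agent.DerCat.KInjLib

set_option autoImplicit false
set_option backward.isDefEq.respectTransparency false
set_option backward.defeqAttrib.useBackward true
universe v u
open CategoryTheory CategoryTheory.Limits
open CohDer

namespace Groth.Agent.S6611

/-- Let A be an abelian category, α : K ⟶ L a quasi-isomorphism of cochain complexes which is injective
in every degree, I a bounded below complex of injective objects and γ : K ⟶ I a morphism. Then there
is a morphism β : L ⟶ I with α ≫ β = γ. -/
theorem result {A : Type u} [Category.{v} A] [Abelian A]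
    (K L I : CochainComplex A ℤ) (α : K ⟶ L) [QuasiIso α] (hα : ∀ n : ℤ, Mono (α.f n))
    (a : ℤ) [I.IsStrictlyGE a] (hI : ∀ n : ℤ, Injective (I.X n)) (γ : K ⟶ I) :
    ∃ β : L ⟶ I, α ≫ β = γ := by
  haveI := hI
  haveI : I.IsKInjective := CochainComplex.isKInjective_of_injective I a
  haveI : Mono α := HomologicalComplex.mono_of_mono_f α hα
  exact DerCat.exists_extension_of_isKInjective I hI
    (ShortComplex.mk α (cokernel.π α) (cokernel.condition α))
    { exact := ShortComplex.exact_of_g_is_cokernel _ (cokernelIsCokernel α) }
    (DerCat.acyclic_cokernel_of_quasiIso α) γ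

end Groth.Agent.S6611
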