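import Groth.Statements.S6613
import Mathlib

set_option autoImplicit false
universe v u v' u'
open CategoryTheory CategoryTheory.Limits
open CohDer


namespace Groth.Agent.S6613

set_option backward.isDefEq.respectTransparency false
set_option backward.defeqAttrib.useBackward true

section

variable {D : Type u} [Category.{v} D] (P : ObjectProperty D) (S : MorphismProperty D)
    [S.HasRightCalculusOfFractions]
    (hP : ∀ X : D, ∃ (X' : D) (s : X' ⟶ X), P X' ∧ S s)

include hP in
lemma hasRightCalculus : (S.inverseImage P.ι).HasRightCalculusOfFractions where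
  exists_rightFraction {X Y} φ := by
    obtain ⟨ψ, hψ⟩ := (MorphismProperty.LeftFraction.mk (W := S) φ.f.hom φ.s.hom φ.hs).exists_rightFraction
    obtain ⟨X', s, hX', hs⟩ := hP ψ.X'
    refine ⟨MorphismProperty.RightFraction.mk (X' := ⟨X', hX'⟩) (ObjectProperty.homMk (s ≫ ψ.s))
      (S.comp_mem _ _ hs ψ.hs) (ObjectProperty.homMk (s ≫ ψ.f)), ?_⟩
    apply P.ι.map_injective
    change (s ≫ ψ.s) ≫ φ.f.hom = (s ≫ ψ.f) ≫ φ.s.hom
    simpa using congrArg (s ≫ ·) hψ
  ext {X Y Y'} f₁ f₂ t ht h := by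
    obtain ⟨Z, u, hu, e⟩ := MorphismProperty.HasRightCalculusOfFractions.ext f₁.hom f₂.hom t.hom ht
      (congrArg (fun q => q.hom) h)
    obtain ⟨X', s, hX', hs⟩ := hP Z
    refine ⟨⟨X', hX'⟩, ObjectProperty.homMk (s ≫ u), S.comp_mem _ _ hs hu, ?_⟩
    apply P.ι.map_injective
    change (s ≫ u) ≫ f₁.hom = (s ≫ u) ≫ f₂.hom
    simpa using congrArg (s ≫ ·) e

include hP in
lemma isLocalization_comp {E : Type u'} [Category.{v'} E] (Q : D ⥤ E) [Q.IsLocalization S] :
    (P.ι ⋙ Q).IsLocalization (S.inverseImage P.ι) := by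
  have := hasRightCalculus P S hP
  set S' := S.inverseImage P.ι with hS'
  have hinv : S'.IsInvertedBy (P.ι ⋙ Q) := fun _ _ f hf => Localization.inverts Q S _ hf
  let G := Localization.lift (P.ι ⋙ Q) hinv S'.Q
  let e : S'.Q ⋙ G ≅ P.ι ⋙ Q := Localization.fac _ hinv S'.Q
  have hobj : ∀ X : S'.Localization, ∃ X₀, S'.Q.obj X₀ = X := fun X =>
    (Localization.Construction.objEquiv S').surjective X
  have hf : G.Faithful := ⟨fun {X Y} a b hab => by
    obtain ⟨X, rfl⟩ := hobj X
    obtain ⟨Y, rfl⟩ := hobj Y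
    obtain ⟨ψ, rfl⟩ := Localization.exists_rightFraction S'.Q S' a
    have := Localization.inverts S'.Q S' _ ψ.hs
    rw [← cancel_epi (S'.Q.map ψ.s), MorphismProperty.RightFraction.map_s_comp_map]
    obtain ⟨χ, hχ⟩ := Localization.exists_rightFraction S'.Q S' (S'.Q.map ψ.s ≫ b)
    rw [hχ]
    have := Localization.inverts S'.Q S' _ χ.hs
    rw [← cancel_epi (S'.Q.map χ.s), MorphismProperty.RightFraction.map_s_comp_map, ← Functor.map_comp]
    have h1 : S'.Q.map χ.f = S'.Q.map χ.s ≫ S'.Q.map ψ.s ≫ b := by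
      rw [hχ, MorphismProperty.RightFraction.map_s_comp_map]
    have h2 : G.map (S'.Q.map (χ.s ≫ ψ.f)) = G.map (S'.Q.map χ.f) := by
      rw [h1, Functor.map_comp (G) (S'.Q.map χ.s), Functor.map_comp (G) (S'.Q.map ψ.s), ← hab,
        ← Functor.map_comp (G), MorphismProperty.RightFraction.map_s_comp_map, ← Functor.map_comp (G),
        ← Functor.map_comp]
    have h3 : Q.map (χ.s ≫ ψ.f).hom = Q.map χ.f.hom := by
      have n1 := e.hom.naturality (χ.s ≫ ψ.f)
      have n2 := e.hom.naturality χ.f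
      rw [Functor.comp_map, h2, ← Functor.comp_map, n2] at n1
      exact ((cancel_epi _).1 n1).symm
    obtain ⟨Z, u, hu, e'⟩ := (MorphismProperty.map_eq_iff_precomp Q S _ _).1 h3
    obtain ⟨X', s, hX', hs⟩ := hP Z
    let w : (⟨X', hX'⟩ : P.FullSubcategory) ⟶ χ.X' := ObjectProperty.homMk (s ≫ u)
    have hw : S' w := S.comp_mem _ _ hs hu
    have := Localization.inverts S'.Q S' _ hw
    rw [← cancel_epi (S'.Q.map w), ← Functor.map_comp, ← Functor.map_comp]
    congr 1
    apply P.ι.map_injective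
    change (s ≫ u) ≫ (χ.s ≫ ψ.f).hom = (s ≫ u) ≫ χ.f.hom
    simp only [Category.assoc, e']⟩
  have hfull : G.Full := ⟨fun {X Y} a => by
    obtain ⟨X, rfl⟩ := hobj X
    obtain ⟨Y, rfl⟩ := hobj Y
    obtain ⟨ψ, hψ⟩ := Localization.exists_rightFraction Q S (e.inv.app X ≫ a ≫ e.hom.app Y : Q.obj X.obj ⟶ Q.obj Y.obj)
    obtain ⟨X', s, hX', hs⟩ := hP ψ.X'
    let t : (⟨X', hX'⟩ : P.FullSubcategory) ⟶ X := ObjectProperty.homMk (s ≫ ψ.s)
    let f : (⟨X', hX'⟩ : P.FullSubcategory) ⟶ Y := ObjectProperty.homMk (s ≫ ψ.f)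
    have ht : S' t := S.comp_mem _ _ hs ψ.hs
    have := Localization.inverts S'.Q S' _ ht
    refine ⟨inv (S'.Q.map t) ≫ S'.Q.map f, ?_⟩
    rw [Functor.map_comp, Functor.map_inv, IsIso.inv_comp_eq, ← cancel_mono (e.hom.app Y)]
    have h1 : G.map (S'.Q.map f) ≫ e.hom.app Y = e.hom.app _ ≫ Q.map (s ≫ ψ.f) := e.hom.naturality f
    have h2 : G.map (S'.Q.map t) ≫ e.hom.app X = e.hom.app _ ≫ Q.map (s ≫ ψ.s) := e.hom.naturality t
    rw [h1, Category.assoc]
    have h3 : a ≫ e.hom.app Y = e.hom.app X ≫ ψ.map Q (Localization.inverts Q S) := by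
      rw [← hψ]; simp
    rw [h3, reassoc_of% h2, Functor.map_comp, Functor.map_comp, Category.assoc,
      MorphismProperty.RightFraction.map_s_comp_map]⟩
  have hes : G.EssSurj := ⟨fun Z => by
    have := Localization.essSurj Q S
    obtain ⟨X', s, hX', hs⟩ := hP (Q.objPreimage Z)
    have := Localization.inverts Q S _ hs
    exact ⟨S'.Q.obj ⟨X', hX'⟩, ⟨e.app _ ≪≫ asIso (Q.map s) ≪≫ Q.objObjPreimageIso Z⟩⟩⟩
  have : G.IsEquivalence := {}
  exact Functor.IsLocalization.of_equivalence_target S'.Q S' _ G.asEquivalence e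

end

/-- Let D be a pretriangulated category, D' ⊂ D a full pretriangulated subcategory, S a saturated
multiplicative system of D compatible with the triangulated structure and Q : D → S⁻¹D the
localization. Assume every X in D admits some s : X' ⟶ X in S with X' in D'. Then, with S' = S ∩
Arrows(D'), the functor (S')⁻¹D' → S⁻¹D is an equivalence; equivalently the composite D' → D → S⁻¹D
is a localization of D' at S'. (The published result additionally claims that the intersection S' =
S ∩ Arrows(D') forms a multiplicative system on D' which is saturated and respects the triangulated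
structure of D'; this row asserts only the localization property.) -/
theorem result {D : Type u} [Category.{v} D] [Preadditive D] [HasZeroObject D] [HasShift D ℤ]
    [∀ n : ℤ, (shiftFunctor D n).Additive] [Pretriangulated D]
    (P : ObjectProperty D) [P.IsTriangulated]
    (S : MorphismProperty D) [S.HasLeftCalculusOfFractions] [S.HasRightCalculusOfFractions] [S.IsCompatibleWithTriangulation]
    {E : Type u'} [Category.{v'} E] (Q : D ⥤ E) [Q.IsLocalization S]
    (hsat : ∀ {X Y : D} (f : X ⟶ Y), IsIso (Q.map f) → S f)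
    (hP : ∀ X : D, ∃ (X' : D) (s : X' ⟶ X), P X' ∧ S s) :
    (P.ι ⋙ Q).IsLocalization (S.inverseImage P.ι) := by
  exact isLocalization_comp P S hP Q

end Groth.Agent.S6613
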