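import Groth.Statements.S6614
import Groth.Agent.ProSys.Triangles
import Mathlib
set_option autoImplicit false
universe v u
open CategoryTheory CategoryTheory.Limits Opposite
open CohDer


namespace Groth.Agent.S6614

set_option backward.isDefEq.respectTransparency false
set_option backward.defeqAttrib.useBackward true

open CategoryTheory.Pretriangulated Groth.Agent.ProSys

variable {D : Type u} [Category.{v} D] [Preadditive D] [HasZeroObject D] [HasShift D ℤ]
    [∀ n : ℤ, (shiftFunctor D n).Additive] [Pretriangulated D]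

/-- A split mono is a direct summand inclusion. -/
lemma exists_summand {A X : D} (c : A ⟶ X) (s : X ⟶ A) (hs : c ≫ s = 𝟙 A) :
    ∃ (Z : D) (π : X ⟶ Z) (σ : Z ⟶ X), c ≫ π = 0 ∧ σ ≫ s = 0 ∧ σ ≫ π = 𝟙 Z ∧
      s ≫ c + π ≫ σ = 𝟙 X := by
  obtain ⟨Z, π, δ, hT⟩ := distinguished_cocone_triangle c
  have hcπ : c ≫ π = 0 := comp_distTriang_mor_zero₁₂ _ hT
  have hδ : δ = 0 := by
    have e : δ ≫ c⟦(1 : ℤ)⟧' = 0 := comp_distTriang_mor_zero₃₁ _ hT
    have e' := congrArg (· ≫ s⟦(1 : ℤ)⟧') e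
    simp only [Category.assoc, ← Functor.map_comp, hs, CategoryTheory.Functor.map_id, Category.comp_id,
      zero_comp] at e'
    exact e'
  obtain ⟨σ, hσ⟩ := Triangle.coyoneda_exact₃ _ hT (show Z ⟶ Z from 𝟙 Z)
    (show 𝟙 Z ≫ δ = 0 by rw [hδ, comp_zero])
  change Z ⟶ X at σ
  change 𝟙 Z = σ ≫ π at hσ
  let σ' := σ - σ ≫ s ≫ c
  have h1 : σ' ≫ s = 0 := by simp [σ', Preadditive.sub_comp, hs]
  have h2 : σ' ≫ π = 𝟙 Z := by simp [σ', Preadditive.sub_comp, hcπ, ← hσ]
  obtain ⟨d', hd⟩ := Triangle.yoneda_exact₂ _ hT (show X ⟶ X from 𝟙 X - s ≫ c - π ≫ σ') (by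
    change c ≫ (𝟙 X - s ≫ c - π ≫ σ') = 0
    simp [Preadditive.comp_sub, reassoc_of% hs, reassoc_of% hcπ])
  change 𝟙 X - s ≫ c - π ≫ σ' = π ≫ d' at hd
  have h3 : d' = 0 := by
    have e := σ' ≫= hd
    simp only [Preadditive.comp_sub, Category.comp_id, reassoc_of% h1, reassoc_of% h2, zero_comp,
      sub_zero, sub_self] at e
    exact e.symm
  rw [h3, comp_zero, sub_sub, sub_eq_zero] at hd
  exact ⟨Z, π, σ', hcπ, h1, h2, hd.symm⟩

/-- Let D be a triangulated category and (A_n) an ℕ-indexed inverse system of D which is essentially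
constant with value A relative to the cone c. Then there are an index i and direct sum
decompositions A_{i+j} ≅ A ⊞ Z_j (j ≥ 0) such that (a) c_{i+j} is the inclusion of the summand A and
the transition maps A_{i+k} → A_{i+j} are 𝟙_A ⊕ (Z_k → Z_j), and (b) for every j there is k ≥ j with
Z_k → Z_j zero. (The published statement is an equivalence whose converse is given without proof;
this row states only the forward implication.) -/
theorem result {D : Type u} [Category.{v} D] [Preadditive D] [HasZeroObject D] [HasShift D ℤ]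
    [∀ n : ℤ, (shiftFunctor D n).Additive] [Pretriangulated D] [IsTriangulated D]
    (X : ARSys.PS D) (A : D) (c : (Functor.const ℕᵒᵖ).obj A ⟶ X) (hX : DerCA.IsEssConstant X A c) :
    ∃ (i : ℕ) (Z : ℕ → D) (e : ∀ j : ℕ, X.obj (op (i + j)) ≅ A ⊞ Z j) (z : ∀ j k : ℕ, j ≤ k → (Z k ⟶ Z j)),
      (∀ j : ℕ, c.app (op (i + j)) ≫ (e j).hom = biprod.inl) ∧
      (∀ (j k : ℕ) (hjk : j ≤ k), (e k).inv ≫ ARSys.tr X (Nat.add_le_add_left hjk i) = biprod.map (𝟙 A) (z j k hjk) ≫ (e j).inv) ∧
      (∀ j : ℕ, ∃ (k : ℕ) (hjk : j ≤ k), z j k hjk = 0) := by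
  obtain ⟨i, s, hs, hk⟩ := hX
  have hc : ∀ {p q : ℕ} (h : p ≤ q), c.app (op q) ≫ ARSys.tr X h = c.app (op p) := fun {p q} h => by
    rw [← nat_tr]
    exact Category.id_comp _
  let s' : ∀ j : ℕ, X.obj (op (i + j)) ⟶ A := fun j => ARSys.tr X (Nat.le_add_right i j) ≫ s
  have hs' : ∀ j, c.app (op (i + j)) ≫ s' j = 𝟙 A := fun j => by
    rw [← Category.assoc, hc, hs]
  choose Z π σ h1 h2 h3 h4 using fun j => exists_summand (A := A) (c.app (op (i + j))) (s' j) (hs' j)
  let e : ∀ j, X.obj (op (i + j)) ≅ A ⊞ Z j := fun j =>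
    { hom := biprod.lift (s' j) (π j)
      inv := biprod.desc (c.app (op (i + j))) (σ j)
      hom_inv_id := by rw [biprod.lift_desc]; exact h4 j
      inv_hom_id := biprod.hom_ext' _ _ (biprod.hom_ext _ _ (by simpa using hs' j) (by simpa using h1 j))
        (biprod.hom_ext _ _ (by simpa using h2 j) (by simpa using h3 j)) }
  refine ⟨i, Z, e, fun j k hjk => σ k ≫ ARSys.tr X (Nat.add_le_add_left hjk i) ≫ π j, fun j => ?_,
    fun j k hjk => ?_, fun j => ?_⟩
  · exact biprod.hom_ext _ _ (by simpa [e] using hs' j) (by simpa [e] using h1 j)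
  · refine biprod.hom_ext' _ _ ?_ ?_
    · simp only [e, biprod.inl_desc_assoc, biprod.inl_map_assoc, biprod.inl_desc, Category.id_comp]
      exact hc _
    · simp only [e, biprod.inr_desc_assoc, biprod.inr_map_assoc, biprod.inr_desc, Category.assoc]
      have e1 : σ k ≫ ARSys.tr X (Nat.add_le_add_left hjk i) ≫ s' j = 0 := by
        simp only [s', tr_comp_assoc]
        exact h2 k
      calc σ k ≫ ARSys.tr X (Nat.add_le_add_left hjk i)
          = σ k ≫ ARSys.tr X (Nat.add_le_add_left hjk i) ≫ (s' j ≫ c.app (op (i + j)) + π j ≫ σ j) := by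
            rw [h4]; exact (congrArg (σ k ≫ ·) (Category.comp_id _)).symm
        _ = σ k ≫ ARSys.tr X (Nat.add_le_add_left hjk i) ≫ π j ≫ σ j := by
            rw [Preadditive.comp_add, Preadditive.comp_add, ← Category.assoc _ (s' j),
              ← Category.assoc (σ k) (_ ≫ s' j), e1]
            simp
  · obtain ⟨k, hik, hjk, ek⟩ := hk (i + j)
    refine ⟨k - i, by omega, ?_⟩
    have e2 := congrArg (ARSys.tr X (show k ≤ i + (k - i) by omega) ≫ ·) ek
    simp only [tr_comp_assoc, tr_comp] at e2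
    change σ (k - i) ≫ ARSys.tr X _ ≫ π j = 0
    rw [e2, Category.assoc, Category.assoc, h1 j, comp_zero, comp_zero, comp_zero]

end Groth.Agent.S6614
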