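import Groth.Statements.S6616
import Mathlib
import Groth.Agent.SpecialSys.Basic

set_option autoImplicit false
universe v u
open CategoryTheory CategoryTheory.Limits
open CohDer


namespace Groth.Agent.S6616

set_option backward.isDefEq.respectTransparency false
set_option backward.defeqAttrib.useBackward true

open CategoryTheory CategoryTheory.Limits Opposite Groth.Agent.DerCat.LeftRes HomologicalComplex

set_option backward.isDefEq.respectTransparency false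

section
variable {A : Type u} [Category.{v} A] [Abelian A]

def opMapC {K L : CochainComplex A ℤ} (α : K ⟶ L) : opC L ⟶ opC K where
  f n := (α.f (-n)).op
  comm' i j _ := by
    show (α.f (-i)).op ≫ (K.d (-j) (-i)).op = (L.d (-j) (-i)).op ≫ (α.f (-j)).op
    rw [← op_comp, ← op_comp, α.comm]

noncomputable def opBiprod (X Y : Aᵒᵖ) : op (X.unop ⊞ Y.unop) ≅ X ⊞ Y where
  hom := biprod.lift (biprod.inl : X.unop ⟶ X.unop ⊞ Y.unop).op (biprod.inr : Y.unop ⟶ X.unop ⊞ Y.unop).op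
  inv := biprod.desc (biprod.fst : X.unop ⊞ Y.unop ⟶ X.unop).op (biprod.snd : X.unop ⊞ Y.unop ⟶ Y.unop).op
  hom_inv_id := by rw [biprod.lift_desc, ← op_comp, ← op_comp, ← op_add, biprod.total, op_id]
  inv_hom_id := by
    apply biprod.hom_ext' <;> apply biprod.hom_ext <;> simp [← op_comp]

lemma step_right (I : ObjectProperty A) [I.IsClosedUnderIsomorphisms] {Z : A} (hZ : IsZero Z) (hIZ : I Z)
    (hprod : ∀ X Y : A, I X → I Y → I (X ⊞ Y)) (hI : ∀ X : A, ∃ (Y : A) (ι : X ⟶ Y), I Y ∧ Mono ι)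
    (Q T : CochainComplex A ℤ) (b : ℤ) [Q.IsStrictlyGE b] [T.IsStrictlyGE b] (hQ : ∀ i, I (Q.X i)) (α : T ⟶ Q) :
    ∃ (Q' : CochainComplex A ℤ) (p : Q' ⟶ Q) (π : T ⟶ Q'), Q'.IsStrictlyGE b ∧ (∀ i, I (Q'.X i)) ∧
      QuasiIso π ∧ (∀ i, Mono (π.f i)) ∧ π ≫ p = α ∧
      ∀ i, (∃ s, s ≫ p.f i = 𝟙 _) ∧ I (kernel (p.f i)) := by
  have : (opC Q).IsStrictlyLE (-b) := (CochainComplex.isStrictlyLE_iff _ _).2 fun n hn =>
    (Q.isZero_of_isStrictlyGE b (-n) (by omega)).op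
  have : (opC T).IsStrictlyLE (-b) := (CochainComplex.isStrictlyLE_iff _ _).2 fun n hn =>
    (T.isZero_of_isStrictlyGE b (-n) (by omega)).op
  obtain ⟨L, ι, π, h1, h2, h3, h4, h5, h6⟩ := SpecialSys.step I.op hZ.op hIZ
    (fun X Y hX hY => I.op.prop_of_iso (opBiprod X Y) (hprod _ _ hX hY))
    (fun X => by
      obtain ⟨Y, ι, hY, hι⟩ := hI X.unop
      exact ⟨op Y, ι.op, hY, inferInstanceAs (Epi ι.op)⟩)
    (opC Q) (opC T) (-b) (fun i => hQ (-i)) (opMapC α)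
  refine ⟨unopC L, unopMapC ι ≫ (unopOpIso Q).hom, (unopOpIso T).inv ≫ unopMapC π,
    (CochainComplex.isStrictlyGE_iff _ _).2 fun n hn => (L.isZero_of_isStrictlyLE (-b) (-n) (by omega)).unop,
    fun i => h2 (-i), ?_, fun i => ?_, ?_, fun i => ?_⟩
  · have := quasiIso_unopMapC π; infer_instance
  · have := h4 (-i)
    have : Mono ((unopMapC π).f i) := inferInstanceAs (Mono (π.f (-i)).unop)
    rw [comp_f]; infer_instance
  · ext i
    have h : (π.f (-i)).unop ≫ (ι.f (-i)).unop = α.f (- -i) :=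
      congrArg Quiver.Hom.unop (HomologicalComplex.congr_hom h5 (-i))
    show ((T.XIsoOfEq (neg_neg i)).inv ≫ (π.f (-i)).unop) ≫ (ι.f (-i)).unop ≫ (Q.XIsoOfEq (neg_neg i)).hom = α.f i
    rw [Category.assoc, reassoc_of% h, Iso.inv_comp_eq]
    exact HomologicalComplex.XIsoOfEq_hom_naturality α (neg_neg i)
  · obtain ⟨⟨r, hr⟩, hc⟩ := h6 (-i)
    have hs : r.unop ≫ (ι.f (-i)).unop = 𝟙 _ := by rw [← unop_comp, hr]; rfl
    refine ⟨⟨(Q.XIsoOfEq (neg_neg i)).inv ≫ r.unop, ?_⟩, ?_⟩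
    · show ((Q.XIsoOfEq (neg_neg i)).inv ≫ r.unop) ≫ (ι.f (-i)).unop ≫ (Q.XIsoOfEq (neg_neg i)).hom = 𝟙 _
      rw [Category.assoc, reassoc_of% hs]; exact (Q.XIsoOfEq (neg_neg i)).inv_hom_id
    · exact I.prop_of_iso (((kernelCompMono (ι.f (-i)).unop (Q.XIsoOfEq (neg_neg i)).hom).trans (kernelUnopUnop (ι.f (-i))))).symm hc

lemma exists_transition (K : CochainComplex A ℤ) (n m : ℤ) (h : n ≤ m) :
    ∃ t : K.truncGE n ⟶ K.truncGE m, K.πTruncGE n ≫ t = K.πTruncGE m := by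
  have : (K.truncGE m).IsStrictlyGE n := (K.truncGE m).isStrictlyGE_of_ge n m h
  exact ⟨CochainComplex.truncGEMap (K.πTruncGE m) n ≫ inv ((K.truncGE m).πTruncGE n), by
    rw [CochainComplex.πTruncGE_naturality_assoc, IsIso.hom_inv_id, Category.comp_id]⟩

lemma exists_right (I : ObjectProperty A) [I.IsClosedUnderIsomorphisms] {Z : A} (hZ : IsZero Z) (hIZ : I Z)
    (hI : ∀ X : A, ∃ (Y : A) (ι : X ⟶ Y), I Y ∧ Mono ι) (T : CochainComplex A ℤ) (b : ℤ) [T.IsStrictlyGE b] :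
    ∃ (Q : CochainComplex A ℤ) (π : T ⟶ Q), Q.IsStrictlyGE b ∧ (∀ i, I (Q.X i)) ∧ QuasiIso π ∧ ∀ i, Mono (π.f i) := by
  obtain ⟨L, β, h1, h2, h3, h4⟩ := Groth.Agent.DerCat.RightRes.exists_resolution I T hI b hZ hIZ
  exact ⟨L, β, h1, h2, h4, h3⟩

end

/-- Let I be a class of objects of an abelian category, closed under isomorphisms, containing 0, closed
under binary products, and such that every object is a subobject of an object of I. For any cochain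
complex K there are bounded below complexes Iₙ (n ≥ 0) with terms in I, termwise injective
quasi-isomorphisms πₙ : τ_{≥ -n}K ⟶ Iₙ and termwise split surjections pₙ : Iₙ₊₁ ⟶ Iₙ with termwise
kernels in I, such that K ⟶ τ_{≥ -(n+1)}K ⟶ Iₙ₊₁ ⟶ Iₙ equals K ⟶ τ_{≥ -n}K ⟶ Iₙ. (The published
system starts at τ_{≥ -1}K; this row starts at n = 0 with τ_{≥ 0}K. Closure of I under isomorphisms
is assumed so that closure under binary products has a meaning for a class of objects.) -/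
theorem result {A : Type u} [Category.{v} A] [Abelian A] (I : ObjectProperty A) [I.IsClosedUnderIsomorphisms]
    (hI0 : ∃ Z : A, IsZero Z ∧ I Z) (hIprod : ∀ X Y : A, I X → I Y → I (X ⊞ Y))
    (hI : ∀ X : A, ∃ (Y : A) (ι : X ⟶ Y), I Y ∧ Mono ι) (K : CochainComplex A ℤ) :
    ∃ (Q : ℕ → CochainComplex A ℤ) (p : ∀ n, Q (n + 1) ⟶ Q n) (π : ∀ n : ℕ, K.truncGE (-(n : ℤ)) ⟶ Q n),
      (∀ n, QuasiIso (π n) ∧ ∀ i, Mono ((π n).f i)) ∧
      (∀ n, ∃ a : ℤ, (Q n).IsStrictlyGE a) ∧ (∀ n i, I ((Q n).X i)) ∧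
      (∀ n i, (∃ s : (Q n).X i ⟶ (Q (n + 1)).X i, s ≫ (p n).f i = 𝟙 _) ∧ I (kernel ((p n).f i))) ∧
      (∀ n : ℕ, K.πTruncGE (-((n + 1 : ℕ) : ℤ)) ≫ π (n + 1) ≫ p n = K.πTruncGE (-(n : ℤ)) ≫ π n) := by
  obtain ⟨Z, hZ, hIZ⟩ := hI0
  let D : ℕ → Type (max u v) := fun n => {x : Σ Q : CochainComplex A ℤ, K.truncGE (-(n : ℤ)) ⟶ Q //
    x.1.IsStrictlyGE (-(n : ℤ)) ∧ (∀ i, I (x.1.X i)) ∧ QuasiIso x.2 ∧ ∀ i, Mono (x.2.f i)}
  have d0 : Nonempty (D 0) := by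
    obtain ⟨Q, π, h1, h2, h3, h4⟩ := exists_right I hZ hIZ hI (K.truncGE (-((0 : ℕ) : ℤ))) (-((0 : ℕ) : ℤ))
    exact ⟨⟨⟨Q, π⟩, h1, h2, h3, h4⟩⟩
  have ds : ∀ n (x : D n), ∃ (y : D (n + 1)) (p : y.1.1 ⟶ x.1.1),
      (∀ i, (∃ s, s ≫ p.f i = 𝟙 _) ∧ I (kernel (p.f i))) ∧
      K.πTruncGE (-((n + 1 : ℕ) : ℤ)) ≫ y.1.2 ≫ p = K.πTruncGE (-(n : ℤ)) ≫ x.1.2 := by
    rintro n ⟨⟨Q, π⟩, h1, h2, h3, h4⟩
    have : Q.IsStrictlyGE (-((n + 1 : ℕ) : ℤ)) := Q.isStrictlyGE_of_ge _ (-(n : ℤ)) (by omega)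
    obtain ⟨t, ht⟩ := exists_transition K (-((n + 1 : ℕ) : ℤ)) (-(n : ℤ)) (by omega)
    obtain ⟨Q', p, π', a1, a2, a3, a4, a5, a6⟩ := step_right I hZ hIZ hIprod hI Q (K.truncGE (-((n + 1 : ℕ) : ℤ))) (-((n + 1 : ℕ) : ℤ)) h2 (t ≫ π)
    exact ⟨⟨⟨Q', π'⟩, a1, a2, a3, a4⟩, p, a6, by rw [a5, reassoc_of% ht]⟩
  choose nx p hp hc using ds
  let q : ∀ n, D n := fun n => Nat.rec d0.some (fun n x => nx n x) n
  exact ⟨fun n => (q n).1.1, fun n => p n (q n), fun n => (q n).1.2, fun n => ⟨(q n).2.2.2.1, (q n).2.2.2.2⟩,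
    fun n => ⟨_, (q n).2.1⟩, fun n => (q n).2.2.1, fun n => hp n (q n), fun n => hc n (q n)⟩

end Groth.Agent.S6616
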