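import Groth.Statements.S6617
import Mathlib
import Groth.Agent.TermSplit.Basic

set_option autoImplicit false
universe v u
open CategoryTheory CategoryTheory.Limits
open CohDer


namespace Groth.Agent.S6617

set_option backward.isDefEq.respectTransparency false
set_option backward.defeqAttrib.useBackward true

noncomputable section

variable {V : Type u} [Category.{v} V] [Preadditive V] [HasBinaryBiproducts V]
  (X : ℕ → CochainComplex V ℤ) (a : ∀ i, X i ⟶ X (i + 1))

/-- The replaced sequence. -/
def seq : ∀ i : ℕ, Σ B : CochainComplex V ℤ, HomotopyEquiv B (X i)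
  | 0 => ⟨X 0, HomotopyEquiv.refl _⟩
  | i + 1 => ⟨TermSplit.mid ((seq i).2.hom ≫ a i), TermSplit.projEquiv _⟩

end

/-- Let A be an additive category and A₀ → A₁ → A₂ → … a sequence of composable morphisms of complexes.
There are complexes Bᵢ, homotopy equivalences Bᵢ ⟶ Aᵢ and termwise split injections Bᵢ ⟶ Bᵢ₊₁
forming a commutative ladder over the given sequence. Moreover if all Aᵢ are bounded below, resp.
bounded above, then the Bᵢ may be chosen bounded below, resp. bounded above. (The published
statement is for finite sequences A₁ → … → A_n; this row takes a sequence indexed by ℕ, built by the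
same step-by-step construction.) -/
theorem result {V : Type u} [Category.{v} V] [Preadditive V] [HasBinaryBiproducts V] [HasZeroObject V]
    (X : ℕ → CochainComplex V ℤ) (a : ∀ i, X i ⟶ X (i + 1)) :
    ∃ (B : ℕ → CochainComplex V ℤ) (b : ∀ i, B i ⟶ B (i + 1)) (e : ∀ i, HomotopyEquiv (B i) (X i)),
      (∀ i, b i ≫ (e (i + 1)).hom = (e i).hom ≫ a i) ∧
      (∀ (i : ℕ) (n : ℤ), ∃ (C : V) (ε : (B (i + 1)).X n ≅ (B i).X n ⊞ C), (b i).f n ≫ ε.hom = biprod.inl) ∧
      ((∀ i, ∃ m : ℤ, (X i).IsStrictlyGE m) → ∀ i, ∃ m : ℤ, (B i).IsStrictlyGE m) ∧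
      ((∀ i, ∃ m : ℤ, (X i).IsStrictlyLE m) → ∀ i, ∃ m : ℤ, (B i).IsStrictlyLE m) := by
  refine ⟨fun i => (seq X a i).1, fun i => TermSplit.incl ((seq X a i).2.hom ≫ a i), fun i => (seq X a i).2,
    fun i => TermSplit.incl_snd _, fun i n => ⟨_, TermSplit.splitIso _ n, TermSplit.incl_split _ n⟩, ?_, ?_⟩
  · intro h i
    induction i with
    | zero => exact h 0
    | succ i ih =>
      obtain ⟨m, hm⟩ := ih
      obtain ⟨m', hm'⟩ := h (i + 1)
      haveI : (seq X a i).1.IsStrictlyGE (min m m') := CochainComplex.isStrictlyGE_of_ge _ (min m m') m (min_le_left _ _)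
      haveI : (X (i + 1)).IsStrictlyGE (min m m') := CochainComplex.isStrictlyGE_of_ge _ (min m m') m' (min_le_right _ _)
      exact ⟨_, TermSplit.mid_ge ((seq X a i).2.hom ≫ a i) (min m m')⟩
  · intro h i
    induction i with
    | zero => exact h 0
    | succ i ih =>
      obtain ⟨m, hm⟩ := ih
      obtain ⟨m', hm'⟩ := h (i + 1)
      haveI : (seq X a i).1.IsStrictlyLE (max m m') := CochainComplex.isStrictlyLE_of_le _ m (max m m') (le_max_left _ _)
      haveI : (X (i + 1)).IsStrictlyLE (max m m') := CochainComplex.isStrictlyLE_of_le _ m' (max m m') (le_max_right _ _)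
      exact ⟨_, TermSplit.mid_le ((seq X a i).2.hom ≫ a i) (max m m')⟩

end Groth.Agent.S6617
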