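import Groth.Statements.S6618
import Groth.Agent.RDerLES.LES
set_option autoImplicit false
universe v v' u u'
open CategoryTheory CategoryTheory.Limits
open CohDer


namespace Groth.Agent.S6618

set_option backward.isDefEq.respectTransparency false
set_option backward.defeqAttrib.useBackward true

/-- Part (2): (3), in the case where A has enough injectives: let F : A ⥤ B be an additive functor
between abelian categories, A with enough injectives. Then R⁰F is left exact; moreover, F itself is
left exact exactly when the canonical comparison morphism from F to R⁰F is invertible. -/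
theorem result {A : Type u} [Category.{v} A] [Abelian A] [EnoughInjectives A]
    {B : Type u'} [Category.{v'} B] [Abelian B] (F : A ⥤ B) [F.Additive] :
    PreservesFiniteLimits (F.rightDerived 0) ∧ (IsIso F.toRightDerivedZero ↔ PreservesFiniteLimits F) := by
  haveI : HasInjectiveResolutions A := inferInstance
  have h0 : PreservesFiniteLimits (F.rightDerived 0) := by
    refine ((Functor.preservesFiniteLimits_tfae (F.rightDerived 0)).out 0 3 rfl rfl).1 fun S hS => ⟨(RDerLES.derivedLES F).exact₂ S hS 0, ?_⟩
    let T := (RDerLES.nonempty_sesRes hS).some
    haveI : Mono ((F.mapHomologicalComplex (ComplexShape.up ℕ)).map T.f) := (T.map_shortExact F).mono_f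
    haveI : Mono (HomologicalComplex.homologyMap ((F.mapHomologicalComplex (ComplexShape.up ℕ)).map T.f) 0) :=
      HomologicalComplex.mono_homologyMap_of_mono_of_not_rel _ 0 (by simp)
    have h := RDerLES.map_f_iso F T 0
    have e : (F.rightDerived 0).map S.f = (T.I₁.isoRightDerivedObj F 0).hom ≫
        HomologicalComplex.homologyMap ((F.mapHomologicalComplex _).map T.f) 0 ≫ (T.I₂.isoRightDerivedObj F 0).inv := by
      rw [← reassoc_of% h, Iso.hom_inv_id, Category.comp_id]
    rw [e]
    infer_instance
  refine ⟨h0, fun h => ?_, fun h => inferInstance⟩
  exact preservesFiniteLimits_of_natIso (asIso F.toRightDerivedZero).symm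

end Groth.Agent.S6618
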