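import Groth.Statements.S6619
import Groth.Agent.DerCat.PlusAcyclicUse
set_option autoImplicit false
universe v v' u u'
open CategoryTheory CategoryTheory.Limits
open CohDer


namespace Groth.Agent.S6619

set_option backward.isDefEq.respectTransparency false
set_option backward.defeqAttrib.useBackward true

/-- In the case where A has enough injectives (an object X is right acyclic for the left exact functor F
when RⁱF(X) = 0 for all i > 0): suppose A and B are abelian categories, A has enough injectives, F :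
A ⥤ B is left exact, and 0 → X₁ → X₂ → X₃ → 0 is a short exact sequence of A. (1) If X₁, X₃ are
right acyclic so is X₂; (2) if X₁, X₂ are right acyclic so is X₃; (3) if X₂, X₃ are right acyclic
and F(X₂) ⟶ F(X₃) is surjective then X₁ is right acyclic. In each of the three cases 0 → F(X₁) →
F(X₂) → F(X₃) → 0 is short exact. -/
theorem result {A : Type u} [Category.{v} A] [Abelian A] [EnoughInjectives A]
    {B : Type u'} [Category.{v'} B] [Abelian B] (F : A ⥤ B) [F.Additive] [PreservesFiniteLimits F]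
    (S : ShortComplex A) (hS : S.ShortExact) :
    ((∀ i : ℕ, 0 < i → IsZero ((F.rightDerived i).obj S.X₁)) → (∀ i : ℕ, 0 < i → IsZero ((F.rightDerived i).obj S.X₃)) →
      (∀ i : ℕ, 0 < i → IsZero ((F.rightDerived i).obj S.X₂)) ∧ (S.map F).ShortExact) ∧
    ((∀ i : ℕ, 0 < i → IsZero ((F.rightDerived i).obj S.X₁)) → (∀ i : ℕ, 0 < i → IsZero ((F.rightDerived i).obj S.X₂)) →
      (∀ i : ℕ, 0 < i → IsZero ((F.rightDerived i).obj S.X₃)) ∧ (S.map F).ShortExact) ∧
    ((∀ i : ℕ, 0 < i → IsZero ((F.rightDerived i).obj S.X₂)) → (∀ i : ℕ, 0 < i → IsZero ((F.rightDerived i).obj S.X₃)) →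
      Epi (F.map S.g) → (∀ i : ℕ, 0 < i → IsZero ((F.rightDerived i).obj S.X₁)) ∧ (S.map F).ShortExact) := by
  haveI : HasInjectiveResolutions A := inferInstance
  let L := RDerLES.derivedLES F
  refine ⟨fun h1 h3 => ?_, fun h1 h2 => DerCat.acyclicObj_ses F S hS h1 h2, fun h2 h3 he => ?_⟩
  · have h2 : ∀ i : ℕ, 0 < i → IsZero ((F.rightDerived i).obj S.X₂) := fun i hi =>
      (L.exact₂ S hS i).isZero_X₂ ((h1 i hi).eq_of_src _ _) ((h3 i hi).eq_of_tgt _ _)
    exact ⟨h2, (DerCat.acyclicObj_ses F S hS h1 h2).2⟩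
  · have h1 : ∀ i : ℕ, 0 < i → IsZero ((F.rightDerived i).obj S.X₁) := by
      intro i hi
      obtain ⟨j, rfl⟩ : ∃ j, i = j + 1 := ⟨i - 1, by omega⟩
      refine (L.exact₁ S hS j (j + 1) rfl).isZero_X₂ ?_ ((h2 (j + 1) hi).eq_of_tgt _ _)
      rcases Nat.eq_zero_or_pos j with rfl | hj
      · haveI : Epi ((F.rightDerived 0).map S.g) := by
          have e : (F.rightDerived 0).map S.g = inv (F.toRightDerivedZero.app S.X₂) ≫ F.map S.g ≫ F.toRightDerivedZero.app S.X₃ := by
            rw [F.toRightDerivedZero.naturality, IsIso.inv_hom_id_assoc]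
          rw [e]
          infer_instance
        rw [← cancel_epi ((F.rightDerived 0).map S.g), comp_zero]
        exact L.comp_δ S hS 0 1 rfl
      · exact (h3 j hj).eq_of_src _ _
    exact ⟨h1, (DerCat.acyclicObj_ses F S hS h1 h2).2⟩

end Groth.Agent.S6619
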