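import Groth.Statements.S6620
import Mathlib.Algebra.Homology.DerivedCategory.RightDerivedFunctorPlus
set_option autoImplicit false
universe w w' v v' u u'
open CategoryTheory CategoryTheory.Limits
open CohDer


namespace Groth.Agent.S6620

set_option backward.isDefEq.respectTransparency false
set_option backward.defeqAttrib.useBackward true

/-- Part (1): in the case where A has enough injectives (so that RF is defined on all of D⁺(A)): let F :
A ⥤ B be an additive functor between abelian categories, A with enough injectives, and K ∈ D⁺(A)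
with Hⁱ(K) = 0 for i < a. Then Hⁱ(RF(K)) = 0 for i < a. -/
theorem result {A : Type u} [Category.{v} A] [Abelian A] [HasDerivedCategory.{w} A] [EnoughInjectives A]
    {B : Type u'} [Category.{v'} B] [Abelian B] [HasDerivedCategory.{w'} B]
    (F : A ⥤ B) [F.Additive] (K : DerivedCategory.Plus A) (a : ℤ) [K.IsGE a] :
    (F.rightDerivedFunctorPlus.obj K).IsGE a := by
  obtain ⟨L, _, ⟨e⟩⟩ := DerivedCategory.Plus.exists_injective_nonempty_iso K a
  let q := HomotopyCategory.Plus.quotient A
  let L' := (InjectiveObject.ι A).mapCochainComplexPlus.obj L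
  haveI hu : IsIso (F.rightDerivedFunctorPlusUnit.app (q.obj L')) := inferInstanceAs (IsIso (F.rightDerivedFunctorPlusUnit.app
      ((HomotopyCategory.Plus.quotient A).obj ((InjectiveObject.ι A).mapCochainComplexPlus.obj L))))
  haveI hL : L'.obj.IsStrictlyGE a :=
    (CochainComplex.isStrictlyGE_mapHomologicalComplex_obj_iff L.obj (InjectiveObject.ι A) a).2 ‹_›
  let M : CochainComplex B ℤ := (F.mapHomologicalComplex (ComplexShape.up ℤ)).obj L'.obj
  haveI : M.IsStrictlyGE a := (CochainComplex.isStrictlyGE_iff _ _).2 fun n hn =>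
    F.map_isZero (L'.obj.isZero_of_isStrictlyGE a n hn)
  rw [← DerivedCategory.Plus.isGE_ι_obj_iff]
  have h : (DerivedCategory.Q.obj M).IsGE a := (DerivedCategory.isGE_Q_obj_iff M a).2 inferInstance
  exact DerivedCategory.TStructure.t.isGE_of_iso
    (((DerivedCategory.quotientCompQhIso B).app M).symm ≪≫
      DerivedCategory.Plus.ι.mapIso (asIso (F.rightDerivedFunctorPlusUnit.app (q.obj L')) ≪≫
        F.rightDerivedFunctorPlus.mapIso e)) a

end Groth.Agent.S6620
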