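import Groth.Statements.S6622
import Mathlib

set_option autoImplicit false
universe v u
open CategoryTheory CategoryTheory.Limits
open CohDer


namespace Groth.Agent.S6622

set_option backward.isDefEq.respectTransparency false
set_option backward.defeqAttrib.useBackward true

open Pretriangulated ZeroObject

variable {V : Type u} [Category.{v} V] [Preadditive V] [HasZeroObject V] [HasBinaryBiproducts V]

lemma key (P : ObjectProperty (HomotopyCategory V (ComplexShape.up ℤ)))
    (h0 : P ((HomotopyCategory.quotient V (ComplexShape.up ℤ)).obj 0))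
    (hs : ∀ (K : CochainComplex V ℤ) (n : ℤ), P ((HomotopyCategory.quotient _ _).obj K) →
      P ((HomotopyCategory.quotient _ _).obj (K⟦n⟧)))
    (hc : ∀ (K L : CochainComplex V ℤ) (f : K ⟶ L), P ((HomotopyCategory.quotient _ _).obj K) →
      P ((HomotopyCategory.quotient _ _).obj L) →
      P ((HomotopyCategory.quotient _ _).obj (CochainComplex.mappingCone f))) :
    P.IsTriangulated := by
  haveI : P.ContainsZero := ⟨_, Functor.map_isZero _ (isZero_zero _), h0⟩
  haveI : P.IsStableUnderShift ℤ := ⟨fun n => ⟨fun K hK => by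
    obtain ⟨K : CochainComplex _ _, rfl⟩ := K.quotient_obj_surjective
    rw [ObjectProperty.prop_shift_iff, HomotopyCategory.shift_quotient_obj]
    exact hs K n hK⟩⟩
  haveI : P.IsTriangulatedClosed₃ := ⟨fun T hT h₁ h₂ => by
    obtain ⟨f : T.obj₁.as ⟶ T.obj₂.as, hf⟩ := (HomotopyCategory.quotient _ _).map_surjective T.mor₁
    refine ⟨_, ?_, ⟨Triangle.π₃.mapIso (isoTriangleOfIso₁₂ T _ hT
      (HomotopyCategory.mappingCone_triangleh_distinguished f) (Iso.refl _) (Iso.refl _) ?_)⟩⟩
    · exact hc T.obj₁.as T.obj₂.as f h₁ h₂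
    · dsimp
      rw [Category.comp_id, Category.id_comp]
      exact hf.symm⟩
  exact { toIsTriangulatedClosed₂ := .of_isTriangulatedClosed₃ }

lemma cone_le {K L : CochainComplex V ℤ} (f : K ⟶ L) (a b : ℤ) (_ : K.IsStrictlyLE a) (_ : L.IsStrictlyLE b) :
    (CochainComplex.mappingCone f).IsStrictlyLE (max a b) := by
  rw [CochainComplex.isStrictlyLE_iff]
  intro i hi
  simp only [CochainComplex.mappingCone.isZero_X_iff]
  exact ⟨K.isZero_of_isStrictlyLE a _ (by omega), L.isZero_of_isStrictlyLE b _ (by omega)⟩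

lemma cone_ge {K L : CochainComplex V ℤ} (f : K ⟶ L) (a b : ℤ) (_ : K.IsStrictlyGE a) (_ : L.IsStrictlyGE b) :
    (CochainComplex.mappingCone f).IsStrictlyGE (min (a - 1) b) := by
  rw [CochainComplex.isStrictlyGE_iff]
  intro i hi
  simp only [CochainComplex.mappingCone.isZero_X_iff]
  exact ⟨K.isZero_of_isStrictlyGE a _ (by omega), L.isZero_of_isStrictlyGE b _ (by omega)⟩

/-- Let A be an additive category. The full subcategories K⁻(A) (complexes K with Kⁿ = 0 for n ≫ 0) and
Kᵇ(A) (Kⁿ = 0 for |n| ≫ 0) of the homotopy category K(A) are full triangulated subcategories. -/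
theorem result {V : Type u} [Category.{v} V] [Preadditive V] [HasZeroObject V] [HasBinaryBiproducts V] :
    (ObjectProperty.IsTriangulated (fun K : HomotopyCategory V (ComplexShape.up ℤ) => ∃ n : ℤ, CochainComplex.IsStrictlyLE K.as n)) ∧
    (ObjectProperty.IsTriangulated (fun K : HomotopyCategory V (ComplexShape.up ℤ) =>
      ∃ a b : ℤ, CochainComplex.IsStrictlyGE K.as a ∧ CochainComplex.IsStrictlyLE K.as b)) := by
  constructor
  · exact key _ ⟨0, inferInstanceAs ((0 : CochainComplex V ℤ).IsStrictlyLE 0)⟩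
      (fun K n ⟨a, (ha : K.IsStrictlyLE a)⟩ => ⟨a - n, K.isStrictlyLE_shift a n (a - n) (by omega)⟩)
      (fun K L f ⟨a, ha⟩ ⟨b, hb⟩ => ⟨_, cone_le f a b ha hb⟩)
  · exact key _ ⟨0, 0, inferInstanceAs ((0 : CochainComplex V ℤ).IsStrictlyGE 0),
        inferInstanceAs ((0 : CochainComplex V ℤ).IsStrictlyLE 0)⟩
      (fun K n ⟨a, b, (ha : K.IsStrictlyGE a), (hb : K.IsStrictlyLE b)⟩ =>
        ⟨a - n, b - n, K.isStrictlyGE_shift a n (a - n) (by omega), K.isStrictlyLE_shift b n (b - n) (by omega)⟩)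
      (fun K L f ⟨a, b, ha, hb⟩ ⟨a', b', ha', hb'⟩ => ⟨_, _, cone_ge f a a' ha ha', cone_le f b b' hb hb'⟩)

end Groth.Agent.S6622
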