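import Groth.Statements.S6623
import Groth.Agent.Postnikov.Basic
import Mathlib
set_option autoImplicit false
universe v u
open CategoryTheory CategoryTheory.Limits
open CohDer


namespace Groth.Agent.S6623

set_option backward.isDefEq.respectTransparency false
set_option backward.defeqAttrib.useBackward true

open CategoryTheory.Pretriangulated Groth.Agent.Postnikov

open CategoryTheory.Pretriangulated in
/-- Let D be a triangulated category, φ : X ⟶ X' a morphism of chain complexes in D considered in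
degrees ≤ n, where a Postnikov system for the complex X_n → … → X_0 consists of objects Y_k, an
isomorphism Y_0 ⟶ X_0, and for 0 ≤ k < n distinguished triangles Y_{k+1} ⟶ X_{k+1} ⟶ Y_k ⟶
Y_{k+1}⟦1⟧ with X_{k+1} ⟶ Y_k ⟶ X_k the differential; let (Y, a, b, c) and (Y', a', b', c') be
Postnikov systems for X and X'. If Hom(X_{j-i}⟦1-i⟧, X'_j) = 0 and Hom(X_j, X'_{j-i}⟦-i⟧) = 0 for
all 0 < i ≤ j ≤ n, then there is at most one morphism of Postnikov systems extending φ: two such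
morphisms agree on Y_k for every k ≤ n. -/
theorem result {D : Type u} [Category.{v} D] [Preadditive D] [HasZeroObject D] [HasShift D ℤ]
    [∀ n : ℤ, (shiftFunctor D n).Additive] [Pretriangulated D] [IsTriangulated D]
    (X X' : ChainComplex D ℕ) (φ : X ⟶ X') (n : ℕ)
    (Y : ℕ → D) (a : ∀ k, Y k ⟶ X.X k) (b : ∀ k, X.X (k + 1) ⟶ Y k)
    (c : ∀ k, Y k ⟶ (shiftFunctor D (1 : ℤ)).obj (Y (k + 1)))
    (h0 : IsIso (a 0))
    (hP : ∀ k, k < n → Triangle.mk (a (k + 1)) (b k) (c k) ∈ distinguishedTriangles ∧ b k ≫ a k = X.d (k + 1) k)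
    (qY : ℕ → D) (qa : ∀ k, qY k ⟶ X'.X k) (qb : ∀ k, X'.X (k + 1) ⟶ qY k)
    (qc : ∀ k, qY k ⟶ (shiftFunctor D (1 : ℤ)).obj (qY (k + 1)))
    (qh0 : IsIso (qa 0))
    (qhP : ∀ k, k < n → Triangle.mk (qa (k + 1)) (qb k) (qc k) ∈ distinguishedTriangles ∧ qb k ≫ qa k = X'.d (k + 1) k)
    (hv : ∀ i j : ℕ, 0 < i → i ≤ j → j ≤ n →
      (∀ ψ : (shiftFunctor D (1 - (i : ℤ))).obj (X.X (j - i)) ⟶ X'.X j, ψ = 0) ∧
      (∀ ψ : X.X j ⟶ (shiftFunctor D (-(i : ℤ))).obj (X'.X (j - i)), ψ = 0))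
    (y z : ∀ k, Y k ⟶ qY k)
    (hy : (∀ k, k ≤ n → y k ≫ qa k = a k ≫ φ.f k) ∧
      (∀ k, k < n → b k ≫ y k = φ.f (k + 1) ≫ qb k ∧ c k ≫ (shiftFunctor D (1 : ℤ)).map (y (k + 1)) = y k ≫ qc k))
    (hz : (∀ k, k ≤ n → z k ≫ qa k = a k ≫ φ.f k) ∧
      (∀ k, k < n → b k ≫ z k = φ.f (k + 1) ≫ qb k ∧ c k ≫ (shiftFunctor D (1 : ℤ)).map (z (k + 1)) = z k ≫ qc k))
    (k : ℕ) (hk : k ≤ n) :
    y k = z k := by
  have hiso := qh0
  induction k with
  | zero => exact (cancel_mono (qa 0)).1 (by rw [hy.1 0 hk, hz.1 0 hk])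
  | succ k ih =>
    have ih := ih (by omega)
    rw [← sub_eq_zero]
    set g := y (k + 1) - z (k + 1) with hg
    have hga : g ≫ qa (k + 1) = 0 := by
      rw [hg, Preadditive.sub_comp, hy.1 _ hk, hz.1 _ hk, sub_self]
    have hc : c k ≫ (shiftFunctor D (1 : ℤ)).map g = 0 := by
      rw [hg, Functor.map_sub, Preadditive.comp_sub, (hy.2 k (by omega)).2, (hz.2 k (by omega)).2, ih,
        sub_self]
    obtain ⟨ξ, hξ⟩ := Triangle.yoneda_exact₃ _ (rot_of_distTriang _ (hP k (by omega)).1)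
      ((shiftFunctor D (1 : ℤ)).map g) hc
    change (shiftFunctor D (1 : ℤ)).obj (X.X (k + 1)) ⟶ _ at ξ
    change (shiftFunctor D (1 : ℤ)).map g = (-(shiftFunctor D (1 : ℤ)).map (a (k + 1))) ≫ ξ at hξ
    obtain ⟨ξ', hξ'⟩ := (shiftFunctor D (1 : ℤ)).map_surjective (-ξ)
    have hgξ : g = a (k + 1) ≫ ξ' := (shiftFunctor D (1 : ℤ)).map_injective (by
      rw [hξ, Functor.map_comp, hξ', Preadditive.comp_neg, Preadditive.neg_comp])
    have hP' : IsPost X n Y a b c := ⟨h0, fun k hk => (hP k hk).1⟩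
    have hq' : IsPost X' n qY qa qb qc := ⟨qh0, fun k hk => (qhP k hk).1⟩
    obtain ⟨ν, hν⟩ := Triangle.yoneda_exact₂ _ (hP k (by omega)).1 (ξ' ≫ qa (k + 1)) (by
      change a (k + 1) ≫ ξ' ≫ qa (k + 1) = 0
      rw [← Category.assoc, ← hgξ, hga])
    change Y k ⟶ X'.X (k + 1) at ν
    have hν0 : ν = 0 := by
      refine V.zero (hP'.V_from (X'.X (k + 1)) k (by omega) 0 fun l hl => ?_) ν
      exact V.of_left (1 - ((k + 1 - l : ℕ) : ℤ)) (by omega) (by
        have h1 := (hv (k + 1 - l) (k + 1) (by omega) (by omega) (by omega)).1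
        rwa [show k + 1 - (k + 1 - l) = l by omega] at h1)
    rw [hν0, comp_zero] at hν
    obtain ⟨η, hη⟩ := Triangle.coyoneda_exact₂ _ (inv_rot_of_distTriang _ (qhP k (by omega)).1) ξ' hν
    have hη0 : η = 0 := by
      refine (hq'.V_into (X.X (k + 1)) k (by omega) (-1) fun l hl => ?_) η
      have h2 := (hv (k + 1 - l) (k + 1) (by omega) (by omega) (by omega)).2
      rw [show k + 1 - (k + 1 - l) = l by omega,
        show (-((k + 1 - l : ℕ) : ℤ)) = -1 + (l : ℤ) - k by omega] at h2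
      exact h2
    rw [hgξ, hη, hη0]
    exact (congrArg (a (k + 1) ≫ ·) zero_comp).trans comp_zero

end Groth.Agent.S6623
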