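import Groth.Statements.S6625
import Groth.Agent.DerCat.PlusAcyclicUse
set_option autoImplicit false
universe w w' v v' u u'
open CategoryTheory CategoryTheory.Limits
open CohDer


namespace Groth.Agent.S6625

set_option backward.isDefEq.respectTransparency false
set_option backward.defeqAttrib.useBackward true

/-- In the case where A has enough injectives: let F : A ⥤ B be an additive functor between abelian
categories, A with enough injectives, and I a class of objects of A such that (1) each object of A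
embeds by a monomorphism into some object of I, and (2) whenever 0 → P → Q → R → 0 is a short exact
sequence whose terms P and Q lie in I, the third term R also lies in I, and applying F to the
sequence yields a short exact sequence in B. Under these assumptions, each X belonging to I is right
acyclic for F, meaning the map F(X)[0] ⟶ RF(X[0]) is an isomorphism. -/
theorem result {A : Type u} [Category.{v} A] [Abelian A] [HasDerivedCategory.{w} A] [EnoughInjectives A]
    {B : Type u'} [Category.{v'} B] [Abelian B] [HasDerivedCategory.{w'} B]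
    (F : A ⥤ B) [F.Additive] (I : ObjectProperty A)
    (h1 : ∀ X : A, ∃ (Y : A) (ι : X ⟶ Y), I Y ∧ Mono ι)
    (h2 : ∀ S : ShortComplex A, S.ShortExact → I S.X₁ → I S.X₂ → I S.X₃ ∧ (S.map F).ShortExact)
    (X : A) (hX : I X) :
    IsIso (F.rightDerivedFunctorPlusUnit.app ((HomotopyCategory.Plus.singleFunctor A 0).obj X)) := by
  let P : ObjectProperty A := I.isoClosure
  have h2' : ∀ S : ShortComplex A, S.ShortExact → P S.X₁ → P S.X₂ → P S.X₃ ∧ (S.map F).ShortExact := by
    rintro S hS ⟨P₁, hP₁, ⟨e₁⟩⟩ ⟨P₂, hP₂, ⟨e₂⟩⟩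
    let S' : ShortComplex A := ShortComplex.mk (e₁.inv ≫ S.f ≫ e₂.hom) (e₂.inv ≫ S.g) (by simp)
    let e : S ≅ S' := ShortComplex.isoMk e₁ e₂ (Iso.refl _) (by simp [S']) (by simp [S'])
    obtain ⟨h3, h4⟩ := h2 S' (ShortComplex.shortExact_of_iso e hS) hP₁ hP₂
    exact ⟨⟨S.X₃, h3, ⟨Iso.refl _⟩⟩, ShortComplex.shortExact_of_iso (F.mapShortComplex.mapIso e).symm h4⟩
  have hI0 : ∀ Z : A, IsZero Z → I Z := by
    intro Z hZ
    haveI : Mono (𝟙 X) := inferInstance
    let S : ShortComplex A := ShortComplex.mk (𝟙 X) (0 : X ⟶ Z) (by simp)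
    haveI : Mono S.f := inferInstanceAs (Mono (𝟙 X))
    haveI : Epi S.g := ⟨fun _ _ _ => hZ.eq_of_src _ _⟩
    refine (h2 S (ShortComplex.ShortExact.mk (ShortComplex.exact_of_f_is_kernel _ ?_)) hX hX).1
    exact KernelFork.IsLimit.ofId _ rfl
  have hP0 : ∀ Z : A, IsZero Z → P Z := fun Z hZ => I.le_isoClosure Z (hI0 Z hZ)
  obtain ⟨Z, hZ⟩ : ∃ Z : A, IsZero Z := HasZeroObject.zero
  let K : CochainComplex.Plus A := ⟨(CochainComplex.singleFunctor A 0).obj X, 0, inferInstance⟩
  obtain ⟨L, i, hi, hL, hL'⟩ := DerCat.exists_injective_plus K.obj 0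
  let L' : CochainComplex.Plus A := ⟨L, 0, hL'⟩
  let s : K ⟶ L' := ObjectProperty.homMk i
  haveI : QuasiIso s.hom := hi
  refine (DerCat.isIso_unit_iff F s hL).2 ?_
  obtain ⟨M, β, hM, hIM, -, hβ⟩ := DerCat.RightRes.exists_resolution I L h1 0 hZ (hI0 Z hZ)
  haveI : (CochainComplex.mappingCone (i ≫ β)).IsStrictlyGE (-1) :=
    DerCat.isStrictlyGE_cone (K := K.obj) (i ≫ β) 0
  haveI hq : QuasiIso ((F.mapHomologicalComplex (ComplexShape.up ℤ)).map (i ≫ β)) := by
    refine DerCat.quasiIso_map F P hP0 h2' (i ≫ β) (-1) (fun n => ?_)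
    refine P.prop_of_iso (HomologicalComplex.homotopyCofiber.XIsoBiprod (i ≫ β) n (n + 1) rfl).symm ?_
    by_cases hn : n = -1
    · subst hn
      have hz : IsZero (M.X (-1)) := M.isZero_of_isStrictlyGE 0 (-1) (by omega)
      let j : K.obj.X (-1 + 1) ≅ X := HomologicalComplex.singleObjXSelf (ComplexShape.up ℤ) 0 X
      let e : K.obj.X (-1 + 1) ⊞ M.X (-1) ≅ X :=
        { hom := biprod.fst ≫ j.hom
          inv := j.inv ≫ biprod.inl
          hom_inv_id := by
            apply biprod.hom_ext'
            · simp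
            · exact hz.eq_of_src _ _
          inv_hom_id := by simp }
      exact P.prop_of_iso e.symm (I.le_isoClosure X hX)
    · have hz : IsZero (K.obj.X (n + 1)) := HomologicalComplex.isZero_single_obj_X _ _ _ _ (by omega)
      let e : K.obj.X (n + 1) ⊞ M.X n ≅ M.X n :=
        { hom := biprod.snd
          inv := biprod.inr
          hom_inv_id := by
            apply biprod.hom_ext'
            · exact hz.eq_of_src _ _
            · simp
          inv_hom_id := by simp }
      exact P.prop_of_iso e.symm (I.le_isoClosure _ (hIM n))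
  haveI : CochainComplex.IsKInjective L := CochainComplex.isKInjective_of_injective L 0
  haveI : IsIso (DerivedCategory.Q.map β) := (DerivedCategory.isIso_Q_map_iff_quasiIso _ β).2 hβ
  obtain ⟨r, hr⟩ := (CochainComplex.IsKInjective.Qh_map_bijective ((HomotopyCategory.quotient A _).obj M) L).2
    ((DerivedCategory.quotientCompQhIso A).hom.app M ≫ inv (DerivedCategory.Q.map β) ≫
      (DerivedCategory.quotientCompQhIso A).inv.app L)
  have hr' : (HomotopyCategory.quotient A _).map β ≫ r = 𝟙 _ := by
    refine (CochainComplex.IsKInjective.Qh_map_bijective _ L).1 ?_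
    rw [CategoryTheory.Functor.map_comp, hr, CategoryTheory.Functor.map_id, ← Functor.comp_map, ← Category.assoc,
      (DerivedCategory.quotientCompQhIso A).hom.naturality β, Category.assoc, IsIso.hom_inv_id_assoc,
      Iso.hom_inv_id_app]
    rfl
  let Φ := F.mapHomotopyCategory (ComplexShape.up ℤ) ⋙ DerivedCategory.Qh
  let qA := HomotopyCategory.quotient A (ComplexShape.up ℤ)
  have hc : IsIso (Φ.map (qA.map i) ≫ Φ.map (qA.map β)) := by
    rw [← CategoryTheory.Functor.map_comp, ← CategoryTheory.Functor.map_comp]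
    exact (NatIso.isIso_map_iff (DerivedCategory.quotientCompQhIso B) _).2
      ((DerivedCategory.isIso_Q_map_iff_quasiIso _ _).2 hq)
  have ha : IsIso (Φ.map (qA.map i)) := by
    have hbr : Φ.map (qA.map β) ≫ Φ.map r = 𝟙 _ := by rw [← CategoryTheory.Functor.map_comp, hr', CategoryTheory.Functor.map_id]
    have ha : Φ.map (qA.map i) = (Φ.map (qA.map i) ≫ Φ.map (qA.map β)) ≫ Φ.map r := by
      rw [Category.assoc, hbr, Category.comp_id]
    refine ⟨Φ.map (qA.map β) ≫ inv (Φ.map (qA.map i) ≫ Φ.map (qA.map β)), ?_, ?_⟩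
    · rw [← Category.assoc, IsIso.hom_inv_id]
    · have hrr : Φ.map r = inv (Φ.map (qA.map i) ≫ Φ.map (qA.map β)) ≫ Φ.map (qA.map i) := by
        rw [IsIso.eq_inv_comp, ← ha]
      rw [Category.assoc, ← hrr, hbr]
  exact (DerivedCategory.isIso_Q_map_iff_quasiIso _ _).1
    ((NatIso.isIso_map_iff (DerivedCategory.quotientCompQhIso B) _).1 ha)

end Groth.Agent.S6625
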