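import Groth.Statements.S6627
import Groth.Agent.Weighting.Nbhd
import Mathlib.AlgebraicGeometry.Morphisms.FlatMono

set_option autoImplicit false
open CategoryTheory CategoryTheory.Limits AlgebraicGeometry Opposite
universe u
open EtCore

namespace Groth.Agent.S6627

/-- A separated morphism of schemes that is locally quasi-finite (locally of finite type with discrete
fibres) satisfies condition (A): for every etale U ⟶ X and every point u of U there are an etale V ⟶
Y, an open and closed subscheme W of X ×_Y V and an X-morphism W ⟶ U whose image contains u.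
(Locally of finite type is part of the meaning of locally quasi-finite here and is carried as a
separate hypothesis.) -/
theorem result {X Y : Scheme.{u}} (f : X ⟶ Y) [IsSeparated f]
    [LocallyQuasiFinite f] [LocallyOfFiniteType f] : BigSite.PropA f := by
  intro U g _ u
  have : LocallyQuasiFinite g := by
    rw [HasRingHomProperty.iff_appLE (P := @LocallyQuasiFinite)]
    intro A B e
    have h : (g.appLE A.1 B.1 e).hom.Etale := HasRingHomProperty.appLE @Etale g ‹_› A B e
    algebraize [(g.appLE A.1 B.1 e).hom]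
    exact (inferInstance : Algebra.QuasiFinite Γ(X, A.1) Γ(U, B.1))
  obtain ⟨K, _, _, x, hx⟩ := Groth.Agent.Weighting.exists_geomPoint u
  obtain ⟨V₀, W, v₀, hv₀, j, q, hjq, hopen, hq, vl, x₁, hx₁, huniq⟩ :=
    Groth.Agent.Weighting.exists_pointed_nbhd (g ≫ f) x
  let P := pullback f v₀
  let sd : P ⟶ V₀ := pullback.snd f v₀
  have : IsSeparated sd := MorphismProperty.pullback_snd (P := @IsSeparated) f v₀ ‹_›
  have : Etale (pullback.fst f v₀) := MorphismProperty.pullback_fst (P := @Etale) f v₀ hv₀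
  let p : W ⟶ P := pullback.lift (j ≫ g) q (by rw [Category.assoc]; exact hjq)
  have hp1 : p ≫ sd = q := pullback.lift_snd _ _ _
  have hp2 : p ≫ pullback.fst f v₀ = j ≫ g := pullback.lift_fst _ _ _
  have : Etale j := by
    have : j = pullback.lift j q hjq ≫ pullback.fst (g ≫ f) v₀ := (pullback.lift_fst _ _ _).symm
    rw [this]
    have : Etale (pullback.fst (g ≫ f) v₀) := MorphismProperty.pullback_fst _ _ hv₀
    infer_instance
  have : Etale (p ≫ pullback.fst f v₀) := by rw [hp2]; infer_instance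
  have : Etale p := Etale.of_comp p (pullback.fst f v₀)
  have : IsFinite (p ≫ sd) := by rw [hp1]; exact hq
  have : IsFinite p := IsFinite.of_comp p sd
  let B : Set ↑(pullback p p) := (Set.range (pullback.diagonal p))ᶜ
  have hB : IsClosed B := (pullback.diagonal p).isOpenEmbedding.isOpen_range.isClosed_compl
  let r₂ : pullback p p ⟶ V₀ := pullback.fst p p ≫ q
  have : IsFinite (pullback.fst p p) := MorphismProperty.pullback_fst _ _ ‹_›
  have : IsFinite q := hq
  let O₀ : V₀.Opens := ⟨(r₂ '' B)ᶜ, (r₂.isClosedMap _ hB).isOpen_compl⟩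
  have hvO : Groth.Agent.Weighting.pt vl ∈ O₀ := by
    rintro ⟨z, hz, hzv⟩
    obtain ⟨a₂, ha₂⟩ := Groth.Agent.Weighting.exists_lift r₂ vl z hzv
    let a : Groth.Agent.Weighting.GPts q vl :=
      ⟨a₂.1 ≫ pullback.fst p p, by rw [Category.assoc]; exact a₂.2⟩
    let b : Groth.Agent.Weighting.GPts q vl := ⟨a₂.1 ≫ pullback.snd p p, by
      rw [← hp1, Category.assoc, ← pullback.condition_assoc, hp1]; exact a₂.2⟩
    have hab : a₂.1 ≫ pullback.fst p p = a₂.1 ≫ pullback.snd p p :=
      congrArg Subtype.val ((huniq a).trans (huniq b).symm)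
    have hd : a₂.1 = (a₂.1 ≫ pullback.fst p p) ≫ pullback.diagonal p :=
      pullback.hom_ext (by simp) (by simp [hab])
    apply hz
    rw [← ha₂]
    exact ⟨(a₂.1 ≫ pullback.fst p p) (IsLocalRing.closedPoint K), by
      show _ = a₂.1 (IsLocalRing.closedPoint K)
      rw [← Scheme.Hom.comp_apply, ← hd]⟩
  let W' : W.Opens := p ⁻¹ᵁ (sd ⁻¹ᵁ O₀)
  have : Mono (W'.ι ≫ p) := ⟨fun {S} a b h => by
    have h' : (a ≫ W'.ι) ≫ p = (b ≫ W'.ι) ≫ p := by simpa only [Category.assoc] using h
    let c : S ⟶ pullback p p := pullback.lift (a ≫ W'.ι) (b ≫ W'.ι) h'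
    have hr : Set.range c ⊆ Set.range (pullback.diagonal p) := by
      rintro _ ⟨y, rfl⟩
      by_contra hy
      have h1 : r₂ (c y) ∈ r₂ '' B := ⟨c y, hy, rfl⟩
      have h2 : r₂ (c y) = sd (p ((a y).1)) := by
        show (pullback.fst p p ≫ q) (c y) = _
        rw [← hp1, ← Scheme.Hom.comp_apply]
        have : c ≫ pullback.fst p p ≫ p ≫ sd = a ≫ W'.ι ≫ p ≫ sd := by
          rw [pullback.lift_fst_assoc, Category.assoc]
        rw [this]
        rfl
      exact (a y).2 (h2 ▸ h1)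
    let d := IsOpenImmersion.lift (pullback.diagonal p) c hr
    have hd : d ≫ pullback.diagonal p = c := IsOpenImmersion.lift_fac _ _ _
    rw [← cancel_mono W'.ι]
    have e1 := congrArg (fun k : S ⟶ pullback p p => k ≫ pullback.fst p p) hd
    have e2 := congrArg (fun k : S ⟶ pullback p p => k ≫ pullback.snd p p) hd
    simp only [c, Category.assoc, pullback.diagonal_fst, pullback.diagonal_snd, Category.comp_id,
      pullback.lift_fst, pullback.lift_snd] at e1 e2
    exact e1.symm.trans e2⟩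
  have : IsOpenImmersion (W'.ι ≫ p) := IsOpenImmersion.of_flat_of_mono _
  let v : (O₀ : Scheme.{u}) ⟶ Y := O₀.ι ≫ v₀
  let c : pullback f v ⟶ P := pullback.lift (pullback.fst f v) (pullback.snd f v ≫ O₀.ι)
    (by rw [Category.assoc]; exact pullback.condition)
  have hc1 : c ≫ pullback.fst f v₀ = pullback.fst f v := pullback.lift_fst _ _ _
  have hc : c ≫ sd = pullback.snd f v ≫ O₀.ι := pullback.lift_snd _ _ _
  have hcO : ∀ z, c z ∈ sd ⁻¹ᵁ O₀ := fun z => by
    show (c ≫ sd) z ∈ O₀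
    rw [hc]
    exact ((pullback.snd f v) z).2
  let D : (pullback f v).Opens := c ⁻¹ᵁ ⟨Set.range p, p.isOpenMap.isOpen_range⟩
  have hDc : IsClosed (D : Set ↥(pullback f v)) := p.isClosedMap.isClosed_range.preimage c.continuous
  have hra : Set.range (D.ι ≫ c) ⊆ Set.range (W'.ι ≫ p) := by
    rintro _ ⟨z, rfl⟩
    obtain ⟨w, hw⟩ := z.2
    exact ⟨⟨w, show p w ∈ sd ⁻¹ᵁ O₀ from (show p w = c z.1 from hw) ▸ hcO z.1⟩, hw⟩
  let l : (D : Scheme.{u}) ⟶ (W' : Scheme.{u}) := IsOpenImmersion.lift (W'.ι ≫ p) (D.ι ≫ c) hra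
  have hl : l ≫ W'.ι ≫ p = D.ι ≫ c := IsOpenImmersion.lift_fac _ _ _
  refine ⟨O₀, v, inferInstance, D, hDc, l ≫ W'.ι ≫ j, ?_, ?_⟩
  · rw [Category.assoc, Category.assoc, ← hp2, reassoc_of% hl, hc1]
  · let vo : Spec (CommRingCat.of K) ⟶ (O₀ : Scheme.{u}) := IsOpenImmersion.lift O₀.ι vl (by
      rw [Scheme.Opens.range_ι]
      rintro _ ⟨y, rfl⟩
      rw [Subsingleton.elim (α := PrimeSpectrum K) y (IsLocalRing.closedPoint K)]
      exact hvO)
    have hvo : vo ≫ O₀.ι = vl := IsOpenImmersion.lift_fac _ _ _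
    let zl : Spec (CommRingCat.of K) ⟶ pullback f v := pullback.lift (x₁.1 ≫ j ≫ g) vo (by
      show (x₁.1 ≫ j ≫ g) ≫ f = vo ≫ O₀.ι ≫ v₀
      rw [reassoc_of% hvo, Category.assoc, Category.assoc, hjq, ← Category.assoc]
      exact congrArg (· ≫ v₀) x₁.2)
    have hz : zl ≫ c = x₁.1 ≫ p := by
      apply pullback.hom_ext
      · rw [Category.assoc, Category.assoc, hc1, hp2]
        exact pullback.lift_fst _ _ _
      · show (zl ≫ c) ≫ sd = (x₁.1 ≫ p) ≫ sd
        rw [Category.assoc, Category.assoc, hc, hp1, x₁.2, ← Category.assoc, pullback.lift_snd, hvo]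
    let z₀ : ↥(pullback f v) := zl (IsLocalRing.closedPoint K)
    have hzp : c z₀ = p (x₁.1 (IsLocalRing.closedPoint K)) := congrArg (fun k : Spec (CommRingCat.of K) ⟶ P => k (IsLocalRing.closedPoint K)) hz
    have hzD : z₀ ∈ D := ⟨x₁.1 (IsLocalRing.closedPoint K), hzp.symm⟩
    refine ⟨⟨z₀, hzD⟩, ?_⟩
    have hw : x₁.1 (IsLocalRing.closedPoint K) ∈ W' :=
      show p _ ∈ sd ⁻¹ᵁ O₀ from hzp ▸ hcO z₀
    have e : l ⟨z₀, hzD⟩ = ⟨x₁.1 (IsLocalRing.closedPoint K), hw⟩ := (W'.ι ≫ p).isOpenEmbedding.injective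
      ((congrArg (fun k : (D : Scheme.{u}) ⟶ P => k ⟨z₀, hzD⟩) hl).trans hzp)
    show j (W'.ι (l ⟨z₀, hzD⟩)) = u
    rw [e]
    exact (congrArg (fun k : Spec (CommRingCat.of K) ⟶ U => k (IsLocalRing.closedPoint K)) hx₁).trans hx

end Groth.Agent.S6627
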