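import Groth.Statements.S6633
import Groth.Agent.EtSh.Point

set_option autoImplicit false
open CategoryTheory CategoryTheory.Limits AlgebraicGeometry Opposite
universe u
open EtCore

namespace Groth.Agent.S6633

/-- An integral morphism of schemes whose underlying continuous map is a homeomorphism onto a closed
subset (a closed topological embedding) satisfies condition (C): for every etale U ⟶ X there are an
etale V ⟶ Y and a surjective X-morphism X ×_Y V ⟶ U. -/
theorem result {X Y : Scheme.{u}} (f : X ⟶ Y) [IsIntegralHom f]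
    (hf : Topology.IsClosedEmbedding f.base) : BigSite.PropC f := by
  intro U g _
  choose V k z hz using fun u => EtSh.exists_bc_through f (MorphismProperty.Over.mk ⊤ g inferInstance : X.Etale) u
    (fun x hx => hf.injective hx)
  let W : U → Scheme.{u} := fun u => (V u).left
  let v : ∐ W ⟶ Y := Sigma.desc fun u => (V u).hom
  have hv : Etale v := IsZariskiLocalAtSource.sigmaDesc fun u => (V u).prop
  let q : pullback f v ⟶ ∐ W := pullback.snd f v
  let O : U → (pullback f v).Opens := fun u => q ⁻¹ᵁ (Sigma.ι W u).opensRange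
  have hd : ∀ a b, a ≠ b → Disjoint (O a) (O b) := fun a b hab => by
    rw [disjoint_iff_inf_le]
    rintro x ⟨h1, h2⟩
    exact (disjoint_opensRange_sigmaι W a b hab).le_bot ⟨h1, h2⟩
  have hs : ⨆ a, O a = ⊤ := eq_top_iff.2 fun x _ => by
    obtain ⟨i, y, hy⟩ := (sigmaOpenCover W).exists_eq (q.base x)
    exact TopologicalSpace.Opens.mem_iSup.2 ⟨i, ⟨y, hy⟩⟩
  have hl : ∀ a, Set.range ((O a).ι ≫ q).base ⊆ Set.range (Sigma.ι W a).base := by
    rintro a _ ⟨x, rfl⟩
    exact x.2
  let l : ∀ a, (O a : Scheme.{u}) ⟶ W a := fun a => IsOpenImmersion.lift (Sigma.ι W a) ((O a).ι ≫ q) (hl a)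
  have hlf : ∀ a, l a ≫ (V a).hom = ((O a).ι ≫ pullback.fst f v) ≫ f := fun a => by
    rw [Category.assoc, pullback.condition, ← Category.assoc]
    show l a ≫ _ = ((O a).ι ≫ q) ≫ v
    rw [← IsOpenImmersion.lift_fac (Sigma.ι W a) ((O a).ι ≫ q) (hl a), Category.assoc]
    exact congrArg (fun r => l a ≫ r) (Sigma.ι_desc (fun u => (V u).hom) a).symm
  let m : ∀ a, (O a : Scheme.{u}) ⟶ pullback (V a).hom f := fun a =>
    pullback.lift (l a) ((O a).ι ≫ pullback.fst f v) (hlf a)
  let k' : ∀ a, pullback (V a).hom f ⟶ U := fun a => (k a).left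
  obtain ⟨h, hh⟩ := EtSh.exists_hom_of_disjoint O hd hs fun a => m a ≫ k' a
  refine ⟨∐ W, v, hv, h, ?_, ⟨fun u => ?_⟩⟩
  · refine (Scheme.openCoverOfIsOpenCover (pullback f v) O hs).hom_ext _ _ fun a => ?_
    show (O a).ι ≫ h ≫ g = (O a).ι ≫ pullback.fst f v
    rw [← Category.assoc, hh a, Category.assoc]
    have : k' a ≫ g = pullback.snd (V a).hom f := MorphismProperty.Over.w (k a)
    rw [this]
    exact pullback.lift_snd _ _ _
  · let c : pullback (V u).hom f ⟶ pullback f v :=
      pullback.lift (pullback.snd (V u).hom f) (pullback.fst (V u).hom f ≫ Sigma.ι W u) (by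
        rw [Category.assoc, Sigma.ι_desc]
        exact pullback.condition.symm)
    have hc : c ≫ q = pullback.fst (V u).hom f ≫ Sigma.ι W u := pullback.lift_snd _ _ _
    have hmem : c.base (z u) ∈ O u :=
      ⟨_, (congrArg (fun r : pullback (V u).hom f ⟶ ∐ W => r.base (z u)) hc).symm⟩
    refine ⟨c.base (z u), ?_⟩
    have hr : Set.range c.base ⊆ Set.range (O u).ι.base := by
      rintro _ ⟨y, rfl⟩
      rw [Scheme.Opens.range_ι]
      exact ⟨_, (congrArg (fun r : pullback (V u).hom f ⟶ ∐ W => r.base y) hc).symm⟩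
    have hcm : IsOpenImmersion.lift (O u).ι c hr ≫ m u = 𝟙 _ := by
      apply pullback.hom_ext
      · rw [← cancel_mono (Sigma.ι W u), Category.assoc, Category.assoc, Category.id_comp]
        have h1 : (m u ≫ pullback.fst (V u).hom f) ≫ Sigma.ι W u = (O u).ι ≫ q := by
          rw [pullback.lift_fst]
          exact IsOpenImmersion.lift_fac _ _ _
        rw [← Category.assoc (m u), h1, ← Category.assoc, IsOpenImmersion.lift_fac, hc]
      · have h1 : m u ≫ pullback.snd (V u).hom f = (O u).ι ≫ pullback.fst f v := pullback.lift_snd _ _ _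
        rw [Category.assoc, h1, ← Category.assoc, IsOpenImmersion.lift_fac, Category.id_comp]
        exact pullback.lift_fst _ _ _
    have : c ≫ h = k' u := by
      rw [← IsOpenImmersion.lift_fac (O u).ι c hr, Category.assoc, hh u, ← Category.assoc, hcm,
        Category.id_comp]
    exact (congrArg (fun r : pullback (V u).hom f ⟶ U => r.base (z u)) this).trans (hz u)

end Groth.Agent.S6633
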