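import Groth.Statements.S6635
import Groth.Agent.BigClosed.Cocont

set_option autoImplicit false
open CategoryTheory CategoryTheory.Limits AlgebraicGeometry Opposite
universe u
open BigSite

namespace Groth.Agent.S6635

/-- For the etale and the smooth topologies: for a closed immersion of schemes f : X ⟶ Y the base change
functor V ↦ X ×_Y V from schemes over Y to schemes over X is almost cocontinuous between the big
sites: every covering sieve of X ×_Y V is answered by a covering sieve of V each of whose members
V_j either has X ×_Y V_j covered by the empty sieve or has X ×_Y V_j ⟶ X ×_Y V in the given sieve.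
(The published statement also covers the syntomic topology; this row treats the etale and smooth
topologies only.) -/
theorem result {X Y : Scheme.{u}} (f : X ⟶ Y) [IsClosedImmersion f]
    (K : Precoverage Scheme.{u}) (hK : K = Scheme.etalePrecoverage ∨ K = Scheme.precoverage @Smooth) :
    BigSite.IsAlmostCocontinuous (Over.pullback f) (QuotSh.J K Y) (QuotSh.J K X) := by
  have : MorphismProperty.IsStableUnderComposition (@AlgebraicGeometry.Etale : MorphismProperty Scheme.{u}) :=
    (inferInstance : MorphismProperty.IsMultiplicative _).toIsStableUnderComposition
  have : MorphismProperty.ContainsIdentities (@AlgebraicGeometry.Etale : MorphismProperty Scheme.{u}) :=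
    (inferInstance : MorphismProperty.IsMultiplicative _).toContainsIdentities
  have : MorphismProperty.ContainsIdentities (@Smooth : MorphismProperty Scheme.{u}) := ⟨fun X => show Smooth (𝟙 X) from inferInstance⟩
  rcases hK with rfl | rfl
  · exact Groth.Agent.BigClosed.isAlmostCocontinuous_pullback (P := @Etale) f (fun j => inferInstance) Groth.Agent.BigClosed.liftable_etale
  · exact Groth.Agent.BigClosed.isAlmostCocontinuous_pullback (P := @Smooth) f (fun j => inferInstance) Groth.Agent.BigClosed.liftable_smooth

end Groth.Agent.S6635
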