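import Groth.Statements.S6636
import Groth.Agent.BigClosed.Cocont
import Groth.Agent.BigClosed.Push
import Mathlib.CategoryTheory.Sites.EpiMono

set_option autoImplicit false
open CategoryTheory CategoryTheory.Limits AlgebraicGeometry Opposite
universe u
open BigSite

namespace Groth.Agent.S6636

/-- For the etale and the smooth topologies: for a closed immersion of schemes f : X ⟶ Y the big direct
image along f preserves coequalizers and pushouts of sheaves of sets, and preserves finite colimits
of abelian sheaves (so it is exact there, being a right adjoint). (The published statement also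
covers the syntomic topology; this row treats the etale and smooth topologies only.) -/
theorem result {X Y : Scheme.{u}} (f : X ⟶ Y) [IsClosedImmersion f]
    (K : Precoverage Scheme.{u}) (hK : K = Scheme.etalePrecoverage ∨ K = Scheme.precoverage @Smooth) :
    PreservesColimitsOfShape WalkingParallelPair (BigSite.pushBig K f (Type (u + 1))) ∧
      PreservesColimitsOfShape WalkingSpan (BigSite.pushBig K f (Type (u + 1))) ∧
      PreservesFiniteColimits (BigSite.pushBig K f AddCommGrpCat.{u + 1}) := by
  have : MorphismProperty.IsStableUnderComposition (@AlgebraicGeometry.Etale : MorphismProperty Scheme.{u}) :=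
    (inferInstance : MorphismProperty.IsMultiplicative _).toIsStableUnderComposition
  have : MorphismProperty.ContainsIdentities (@AlgebraicGeometry.Etale : MorphismProperty Scheme.{u}) :=
    (inferInstance : MorphismProperty.IsMultiplicative _).toContainsIdentities
  have : MorphismProperty.ContainsIdentities (@Smooth : MorphismProperty Scheme.{u}) := ⟨fun X => show Smooth (𝟙 X) from inferInstance⟩
  have hu : BigSite.IsAlmostCocontinuous (Over.pullback f) (QuotSh.J K Y) (QuotSh.J K X) := by
    rcases hK with rfl | rfl
    · exact Groth.Agent.BigClosed.isAlmostCocontinuous_pullback (P := @Etale) f (fun j => inferInstance) Groth.Agent.BigClosed.liftable_etale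
    · exact Groth.Agent.BigClosed.isAlmostCocontinuous_pullback (P := @Smooth) f (fun j => inferInstance) Groth.Agent.BigClosed.liftable_smooth
  refine ⟨Groth.Agent.BigClosed.preservesColimitsOfShape hu WalkingParallelPair,
    Groth.Agent.BigClosed.preservesColimitsOfShape hu WalkingSpan, ?_⟩
  have : (BigSite.pushBig K f AddCommGrpCat.{u + 1}).IsRightAdjoint := ⟨_, ⟨BigSite.bigAdj K f AddCommGrpCat.{u + 1}⟩⟩
  have : PreservesFiniteLimits (BigSite.pushBig K f AddCommGrpCat.{u + 1}) := inferInstance
  have : (BigSite.pushBig K f AddCommGrpCat.{u + 1}).PreservesEpimorphisms := ⟨fun φ hφ => by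
    have : Sheaf.IsLocallySurjective φ := (Sheaf.isLocallySurjective_iff_epi' AddCommGrpCat.{u + 1} φ).2 hφ
    exact (Sheaf.isLocallySurjective_iff_epi' AddCommGrpCat.{u + 1} _).1 (Groth.Agent.BigClosed.isLocallySurjective_map_ab hu φ)⟩
  have : (BigSite.pushBig K f AddCommGrpCat.{u + 1}).PreservesHomology :=
    Functor.preservesHomology_of_preservesEpis_and_kernels _
  exact Functor.preservesFiniteColimits_of_preservesHomology _

end Groth.Agent.S6636
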