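import Groth.Statements.S6640
import Groth.Agent.EtSh.StalkPts
import Groth.Agent.EtSh.ConstStalk
import Groth.Agent.EtSh.Recollement

set_option autoImplicit false
open CategoryTheory CategoryTheory.Limits AlgebraicGeometry Opposite
universe u
open EtCore

namespace Groth.Agent.S6640

open Groth.Agent.EtSh

theorem stalk_map_constGerm {X : Scheme.{u}} {Ω : Type u} [Field Ω] [IsSepClosed Ω]
    (ζ : Spec (CommRingCat.of Ω) ⟶ X) {M N : AddCommGrpCat.{u + 1}} (h : M ⟶ N) (m : M) :
    (EtCoh.stalk ζ).map ((constantSheaf X.smallEtaleTopology AddCommGrpCat.{u + 1}).map h) (constGerm ζ M m) =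
      constGerm ζ N (h m) := by
  rw [constGerm, ConcreteCategory.comp_apply, stalk_map_germ, constGerm, ConcreteCategory.comp_apply]
  exact congrArg (fun z => germ ζ _ (topLift ζ) z)
    (congrArg (fun r => r m) ((EtCore.constAdj X).unit.naturality h)).symm

theorem main {X : Scheme.{u}} [IrreducibleSpace ↥X]
    {Ω : Type u} [Field Ω] [IsSepClosed Ω] (ξ : Spec (CommRingCat.of Ω) ⟶ X)
    (hξ : ξ.base default = genericPoint ↥X)
    (A : Type) [AddCommGroup A] (A' : AddSubgroup A) (G : EtCoh.Ab X)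
    (a : EtCoh.const X ↥A' ⟶ G) (b : G ⟶ EtCoh.const X A) [Mono a] [Mono b]
    (hab : a ≫ b = (constantSheaf X.smallEtaleTopology AddCommGrpCat.{u + 1}).map
      (AddCommGrpCat.ofHom (AddEquiv.ulift.symm.toAddMonoidHom.comp (A'.subtype.comp AddEquiv.ulift.toAddMonoidHom))))
    (hst : IsIso ((EtCoh.stalk ξ).map a)) : IsIso a := by
  refine isIso_of_stalk_exists _ fun y => ?_
  obtain ⟨K, _, _, ζ, hζ⟩ := exists_geometric_point y
  refine ⟨K, inferInstance, inferInstance, ζ, Set.eq_of_mem_singleton (hζ.le ⟨default, rfl⟩), ?_⟩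
  have := stalk_preservesFiniteLimits ζ
  have hainj : Function.Injective ((EtCoh.stalk ζ).map a) :=
    (AddCommGrpCat.mono_iff_injective _).1 inferInstance
  have hbinj : Function.Injective ((EtCoh.stalk ζ).map b) :=
    (AddCommGrpCat.mono_iff_injective _).1 inferInstance
  refine (ConcreteCategory.isIso_iff_bijective _).2 ⟨hainj, fun p => ?_⟩
  obtain ⟨U, t, s, rfl⟩ := germ_surjective G p
  let C : EtCoh.Ab X := EtCoh.const X A
  let M : AddCommGrpCat.{u + 1} := AddCommGrpCat.of (ULift.{u + 1} A)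
  obtain ⟨α, hα⟩ := (bijective_constGerm ζ M).2 (germ ζ C t (b.hom.app (op U) s))
  let c : EtCoh.sect C U := C.obj.map (MorphismProperty.Over.homMk U.hom (Category.comp_id _) : U ⟶ EtCoh.top X).op
    ((EtCore.constAdj X).unit.app M α)
  have hc : ∀ {L : Type u} [Field L] [IsSepClosed L] (θ : Spec (CommRingCat.of L) ⟶ X) (v : Fib θ U),
      germ θ C v c = constGerm θ M α := fun θ v => by
    refine (germ_map C _ v _).trans ?_
    rw [constGerm, ConcreteCategory.comp_apply]
    exact congrArg (fun z => germ θ C z _) (subsingleton_fib_top θ _ _)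
  obtain ⟨W, g, w, hw, he⟩ := (germ_eq_iff C t (b.hom.app (op U) s) c).1 (hα.symm.trans (hc ζ t).symm)
  have : Etale W.hom := W.prop
  obtain ⟨w', hw'⟩ : genericPoint X ∈ Set.range W.hom :=
    ((genericPoint_spec X).mem_open_set_iff W.hom.isOpenMap.isOpen_range).2
      ⟨_, Set.mem_univ _, ⟨w, rfl⟩⟩
  obtain ⟨t', -⟩ := exists_fib (ξ := ξ) w' (hw'.trans hξ.symm)
  obtain ⟨α', hα'⟩ : ∃ α', (EtCoh.stalk ξ).map a (constGerm ξ _ α') = germ ξ G t' (G.obj.map g.op s) := by
    obtain ⟨q, hq⟩ := ((ConcreteCategory.isIso_iff_bijective _).1 hst).2 (germ ξ G t' (G.obj.map g.op s))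
    obtain ⟨α', rfl⟩ := (bijective_constGerm ξ (AddCommGrpCat.of (ULift.{u + 1} A'))).2 q
    exact ⟨α', hq⟩
  have h1 := congrArg ((EtCoh.stalk ξ).map b) hα'
  rw [stalk_map_germ, ← ConcreteCategory.comp_apply, ← Functor.map_comp, hab] at h1
  have h2 : b.hom.app (op W) (G.obj.map g.op s) = C.obj.map g.op c :=
    (NatTrans.naturality_apply b.hom g.op s).trans he
  rw [h2, germ_map, hc] at h1
  have h3 : (AddCommGrpCat.ofHom (AddEquiv.ulift.symm.toAddMonoidHom.comp
      (A'.subtype.comp AddEquiv.ulift.toAddMonoidHom)) : AddCommGrpCat.of (ULift.{u + 1} A') ⟶ M) α' = α :=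
    (bijective_constGerm ξ M).1 ((stalk_map_constGerm ξ _ α').symm.trans h1)
  refine ⟨constGerm ζ _ α', hbinj ?_⟩
  rw [stalk_map_germ, ← ConcreteCategory.comp_apply, ← Functor.map_comp, hab]
  exact ((stalk_map_constGerm ζ _ α').trans (by rw [h3])).trans hα

/-- Let X be an irreducible scheme, ξ a geometric point over its generic point, A' an additive subgroup
of an abelian group A, and G an abelian sheaf on the small etale site of X with monomorphisms a :
const A' ⟶ G and b : G ⟶ const A whose composite is the map of constant sheaves induced by the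
inclusion. If the stalk of a at ξ is an isomorphism, then a is an isomorphism. -/
theorem result {X : Scheme.{u}} [IrreducibleSpace ↥X]
    {Ω : Type u} [Field Ω] [IsSepClosed Ω] (ξ : Spec (CommRingCat.of Ω) ⟶ X)
    (hξ : ξ.base default = genericPoint ↥X)
    (A : Type) [AddCommGroup A] (A' : AddSubgroup A) (G : EtCoh.Ab X)
    (a : EtCoh.const X ↥A' ⟶ G) (b : G ⟶ EtCoh.const X A) [Mono a] [Mono b]
    (hab : a ≫ b = (constantSheaf X.smallEtaleTopology AddCommGrpCat.{u + 1}).map
      (AddCommGrpCat.ofHom (AddEquiv.ulift.symm.toAddMonoidHom.comp (A'.subtype.comp AddEquiv.ulift.toAddMonoidHom))))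
    (hst : IsIso ((EtCoh.stalk ξ).map a)) : IsIso a := by
  exact main ξ hξ A A' G a b hab hst

end Groth.Agent.S6640
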