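import Groth.Statements.S6648
import Groth.Agent.EtSh.Stalks
import Mathlib.AlgebraicGeometry.Morphisms.UniversallyOpen
import Mathlib.AlgebraicGeometry.Morphisms.Flat

set_option autoImplicit false
open CategoryTheory CategoryTheory.Limits AlgebraicGeometry Opposite
universe u
open EtCore

namespace Groth.Agent.S6648

/-- For a sheaf of (commutative) rings O on the small etale site of a scheme S, the set of points s of S
over which some geometric stalk of O is a nonzero ring is closed in S. (Rings are taken in the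
universe of the schemes, as for the structure presheaf of the prelude.) -/
theorem result {S : Scheme.{u}} (O : Sheaf S.smallEtaleTopology CommRingCat.{u}) :
    IsClosed {s : ↥S | ∃ (Ω : Type u) (_ : Field Ω) (_ : IsSepClosed Ω) (ξ : Spec (CommRingCat.of Ω) ⟶ S),
      ξ.base default = s ∧ Nontrivial ↑((Scheme.pointSmallEtale ξ).presheafFiber.obj O.obj)} := by
  rw [← isOpen_compl_iff, isOpen_iff_forall_mem_open]
  intro s hs
  obtain ⟨Ω, _, _, ξ, hξ⟩ := Groth.Agent.EtSh.exists_geometric_point s
  have hx : ξ.base default = s := Set.eq_of_mem_singleton (hξ.le ⟨default, rfl⟩)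
  obtain ⟨t₀, -⟩ := Groth.Agent.EtSh.exists_fib (ξ := ξ) (U := EtCoh.top S) (ξ.base default) rfl
  let P := Scheme.pointSmallEtale ξ
  have h01 : (P.toPresheafFiber (EtCoh.top S) t₀ O.obj 1 : ↑(P.presheafFiber.obj O.obj)) =
      P.toPresheafFiber (EtCoh.top S) t₀ O.obj 0 := by
    have : Subsingleton ↑(P.presheafFiber.obj O.obj) := not_nontrivial_iff_subsingleton.1 fun h =>
      hs ⟨Ω, inferInstance, inferInstance, ξ, hx, h⟩
    exact Subsingleton.elim _ _
  obtain ⟨U, g, t, ht, he⟩ := (P.toPresheafFiber_eq_iff' _ t₀ 1 0).1 h01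
  have : Etale U.hom := U.prop
  refine ⟨Set.range U.hom, ?_, U.hom.isOpenMap.isOpen_range,
    ⟨Groth.Agent.EtSh.fpt t, (Groth.Agent.EtSh.hom_fpt t).trans hx⟩⟩
  rintro _ ⟨w, rfl⟩ ⟨Ω', _, _, ξ', hξ', hnt⟩
  obtain ⟨t', -⟩ := Groth.Agent.EtSh.exists_fib (ξ := ξ') w hξ'.symm
  have h := congrArg ((Scheme.pointSmallEtale ξ').toPresheafFiber U t' O.obj) he
  simp only [map_one, map_zero] at h
  exact one_ne_zero h

end Groth.Agent.S6648
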