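import Groth.Statements.S6649
import Groth.Agent.DimTheory.Points
import Groth.Agent.TsenLang.Basic
import Groth.Agent.CSACentralizer.C1

set_option autoImplicit false
open CategoryTheory CategoryTheory.Limits AlgebraicGeometry Opposite
universe u
open Curves

namespace Groth.Agent.S6649

/-- For a curve C over an algebraically closed field k (C integral of dimension one, separated and of
finite type over k) the Brauer group of the function field of C is zero: every finite-dimensional
central division algebra over the function field has dimension one. -/
theorem result (k : Type u) [Field k] [IsAlgClosed k] (C : Scheme.{u})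
    (f : C ⟶ Spec (CommRingCat.of k)) [IsSeparated f] [LocallyOfFiniteType f] [QuasiCompact f] [IsIntegral C]
    (hdim : topologicalKrullDim ↥C = 1)
    (D : Type u) [DivisionRing D] [Algebra ↑C.functionField D] [Algebra.IsCentral ↑C.functionField D]
    [FiniteDimensional ↑C.functionField D] : Module.finrank ↑C.functionField D = 1 := by
  obtain ⟨n, hn, hd⟩ := DimTheory.exists_dim_eq_resTrdeg f
  rw [hdim] at hd
  have h1 : n = 1 := by exact_mod_cast hd.symm
  subst h1
  let _ : Algebra k (C.residueField (genericPoint C)) := (DimTheory.resHom f (genericPoint C)).toAlgebra
  have hL : Curves.IsCi (C.residueField (genericPoint C)) 1 := TsenLang.tsen_lang k _ 1 hn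
  let φ : ↑C.functionField →+* C.residueField (genericPoint C) := (C.residue (genericPoint C)).hom
  let e := RingEquiv.ofBijective φ ⟨φ.injective, C.residue_surjective (genericPoint C)⟩
  exact CSACentralizer.brauer_trivial_of_isCr_one _
    (TsenLang.isCr_one_of_isCi (TsenLang.isCi_ringEquiv hL e.symm)) D

end Groth.Agent.S6649
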