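import Groth.Statements.S6654
import Groth.Agent.EtSh.StalkPts
import Groth.Agent.EtSh.ConstStalk
import Groth.Agent.EtSh.Recollement
import Groth.Agent.EtModPull.Exact
import Mathlib.CategoryTheory.Sites.PreservesSheafification

set_option autoImplicit false
open CategoryTheory CategoryTheory.Limits AlgebraicGeometry Opposite
universe u
open EtModW

namespace Groth.Agent.S6654

set_option backward.isDefEq.respectTransparency.types false
open Groth.Agent.EtSh

local instance (Λ : Type (u + 1)) [CommRing Λ] : HasLimitsOfSize.{u, u} (ModuleCat.{u + 1} Λ) :=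
  hasLimitsOfSizeShrink.{u, u, u + 1, u + 1} _

local instance (Λ : Type (u + 1)) [CommRing Λ] : PreservesFilteredColimitsOfSize.{u, u}
    (forget₂ (ModuleCat.{u + 1} Λ) AddCommGrpCat.{u + 1}) where
  preserves_filtered_colimits _ := inferInstance

section
variable (Λ : Type (u + 1)) [CommRing Λ] (X : Scheme.{u})
theorem t1 : ∀ U : X.Etale, HasColimitsOfShape (X.smallEtaleTopology.Cover U)ᵒᵖ (ModuleCat.{u + 1} Λ) := fun _ => inferInstance
theorem t2 : ∀ U : X.Etale, PreservesColimitsOfShape (X.smallEtaleTopology.Cover U)ᵒᵖ (forget₂ (ModuleCat.{u + 1} Λ) AddCommGrpCat.{u + 1}) := fun _ => inferInstance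
theorem t3 : PreservesLimitsOfSize.{u+1, u+1} (forget₂ (ModuleCat.{u + 1} Λ) AddCommGrpCat.{u + 1}) := inferInstance
theorem t4 : ∀ U : X.Etale, PreservesColimitsOfShape (X.smallEtaleTopology.Cover U)ᵒᵖ (forget (ModuleCat.{u + 1} Λ)) := fun _ => inferInstance
theorem t5 : ∀ U : X.Etale, PreservesColimitsOfShape (X.smallEtaleTopology.Cover U)ᵒᵖ (forget (AddCommGrpCat.{u + 1})) := fun _ => inferInstance
set_option maxHeartbeats 400000 in
set_option synthInstance.maxHeartbeats 200000 in
theorem t6 : X.smallEtaleTopology.PreservesSheafification (forget₂ (ModuleCat.{u + 1} Λ) AddCommGrpCat.{u + 1}) := by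
  haveI := t1 Λ X
  haveI := t2 Λ X
  haveI := t3 (Λ := Λ)
  haveI := t4 Λ X
  haveI := t5 X
  haveI : PreservesLimitsOfSize.{u+1, u+1} (forget (ModuleCat.{u + 1} Λ)) := inferInstance
  haveI : PreservesLimitsOfSize.{u+1, u+1} (forget (AddCommGrpCat.{u + 1})) := inferInstance
  rw [GrothendieckTopology.preservesSheafification_iff_of_adjunctions_of_hasSheafCompose _ _
    (plusPlusAdjunction X.smallEtaleTopology (ModuleCat.{u + 1} Λ)) (plusPlusAdjunction X.smallEtaleTopology AddCommGrpCat.{u + 1})]
  infer_instance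
end

set_option maxHeartbeats 400000
set_option synthInstance.maxHeartbeats 60000
theorem stalk_map_constGerm {X : Scheme.{u}} {Ω : Type u} [Field Ω] [IsSepClosed Ω]
    (ζ : Spec (CommRingCat.of Ω) ⟶ X) {M N : AddCommGrpCat.{u + 1}} (h : M ⟶ N) (m : M) :
    (EtCoh.stalk ζ).map ((constantSheaf X.smallEtaleTopology AddCommGrpCat.{u + 1}).map h) (constGerm ζ M m) =
      constGerm ζ N (h m) := by
  rw [constGerm, ConcreteCategory.comp_apply, stalk_map_germ, constGerm, ConcreteCategory.comp_apply]
  exact congrArg (fun z => germ ζ _ (topLift ζ) z)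
    (congrArg (fun r => r m) ((EtCore.constAdj X).unit.naturality h)).symm

theorem main {X : Scheme.{u}} [IrreducibleSpace ↥X]
    {Ω : Type u} [Field Ω] [IsSepClosed Ω] (ξ : Spec (CommRingCat.of Ω) ⟶ X)
    (hξ : ξ.base default = genericPoint ↥X)
    {M' M : AddCommGrpCat.{u + 1}} (h : M' ⟶ M) (G : EtCoh.Ab X)
    (a : (constantSheaf X.smallEtaleTopology AddCommGrpCat.{u + 1}).obj M' ⟶ G)
    (b : G ⟶ (constantSheaf X.smallEtaleTopology AddCommGrpCat.{u + 1}).obj M) [Mono a] [Mono b]
    (hab : a ≫ b = (constantSheaf X.smallEtaleTopology AddCommGrpCat.{u + 1}).map h)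
    (hst : IsIso ((EtCoh.stalk ξ).map a)) : IsIso a := by
  refine isIso_of_stalk_exists _ fun y => ?_
  obtain ⟨K, _, _, ζ, hζ⟩ := exists_geometric_point y
  refine ⟨K, inferInstance, inferInstance, ζ, Set.eq_of_mem_singleton (hζ.le ⟨default, rfl⟩), ?_⟩
  have := stalk_preservesFiniteLimits ζ
  have hainj : Function.Injective ((EtCoh.stalk ζ).map a) :=
    (AddCommGrpCat.mono_iff_injective _).1 inferInstance
  have hbinj : Function.Injective ((EtCoh.stalk ζ).map b) :=
    (AddCommGrpCat.mono_iff_injective _).1 inferInstance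
  refine (ConcreteCategory.isIso_iff_bijective _).2 ⟨hainj, fun p => ?_⟩
  obtain ⟨U, t, s, rfl⟩ := germ_surjective G p
  let C : EtCoh.Ab X := (constantSheaf X.smallEtaleTopology AddCommGrpCat.{u + 1}).obj M
  obtain ⟨α, hα⟩ := (bijective_constGerm ζ M).2 (germ ζ C t (b.hom.app (op U) s))
  let c : EtCoh.sect C U := C.obj.map (MorphismProperty.Over.homMk U.hom (Category.comp_id _) : U ⟶ EtCoh.top X).op
    ((EtCore.constAdj X).unit.app M α)
  have hc : ∀ {L : Type u} [Field L] [IsSepClosed L] (θ : Spec (CommRingCat.of L) ⟶ X) (v : Fib θ U),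
      germ θ C v c = constGerm θ M α := fun θ v => by
    refine (germ_map C _ v _).trans ?_
    rw [constGerm, ConcreteCategory.comp_apply]
    exact congrArg (fun z => germ θ C z _) (subsingleton_fib_top θ _ _)
  obtain ⟨W, g, w, hw, he⟩ := (germ_eq_iff C t (b.hom.app (op U) s) c).1 (hα.symm.trans (hc ζ t).symm)
  have : Etale W.hom := W.prop
  obtain ⟨w', hw'⟩ : genericPoint X ∈ Set.range W.hom :=
    ((genericPoint_spec X).mem_open_set_iff W.hom.isOpenMap.isOpen_range).2
      ⟨_, Set.mem_univ _, ⟨w, rfl⟩⟩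
  obtain ⟨t', -⟩ := exists_fib (ξ := ξ) w' (hw'.trans hξ.symm)
  obtain ⟨α', hα'⟩ : ∃ α', (EtCoh.stalk ξ).map a (constGerm ξ _ α') = germ ξ G t' (G.obj.map g.op s) := by
    obtain ⟨q, hq⟩ := ((ConcreteCategory.isIso_iff_bijective _).1 hst).2 (germ ξ G t' (G.obj.map g.op s))
    obtain ⟨α', rfl⟩ := (bijective_constGerm ξ M').2 q
    exact ⟨α', hq⟩
  have h1 := congrArg ((EtCoh.stalk ξ).map b) hα'
  rw [stalk_map_germ, ← ConcreteCategory.comp_apply, ← Functor.map_comp, hab] at h1
  have h2 : b.hom.app (op W) (G.obj.map g.op s) = C.obj.map g.op c :=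
    (NatTrans.naturality_apply b.hom g.op s).trans he
  rw [h2, germ_map, hc] at h1
  have h3 : h α' = α :=
    (bijective_constGerm ξ M).1 ((stalk_map_constGerm ξ _ α').symm.trans h1)
  refine ⟨constGerm ζ _ α', hbinj ?_⟩
  rw [stalk_map_germ, ← ConcreteCategory.comp_apply, ← Functor.map_comp, hab]
  exact ((stalk_map_constGerm ζ _ α').trans (by rw [h3])).trans hα

/-- Let X be an irreducible scheme, ξ a geometric point over its generic point, Λ a commutative ring, M'
a submodule of a Λ-module M, and G a sheaf of Λ-modules on the small etale site of X with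
monomorphisms a : const M' ⟶ G and b : G ⟶ const M whose composite is the map of constant sheaves
induced by the inclusion. If the stalk of a at ξ is an isomorphism, then a is an isomorphism. -/
theorem result (Λ : Type (u + 1)) [CommRing Λ] {X : Scheme.{u}} [IrreducibleSpace ↥X]
    {Ω : Type u} [Field Ω] [IsSepClosed Ω] (ξ : Spec (CommRingCat.of Ω) ⟶ X)
    (hξ : ξ.base default = genericPoint ↥X)
    (M : Type (u + 1)) [AddCommGroup M] [Module Λ M] (M' : Submodule Λ M) (G : EtModW.Mod Λ X)
    (a : EtModW.constMod Λ X ↥M' ⟶ G) (b : G ⟶ EtModW.constMod Λ X M) [Mono a] [Mono b]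
    (hab : a ≫ b = (constantSheaf X.smallEtaleTopology (ModuleCat.{u + 1} Λ)).map (ModuleCat.ofHom M'.subtype))
    (hst : IsIso ((EtModW.stalk Λ ξ).map a)) : IsIso a := by
  let F₂ := forget₂ (ModuleCat.{u + 1} Λ) AddCommGrpCat.{u + 1}
  let U := Groth.Agent.EtModPull.U Λ X
  have hmono : ∀ {A B : EtModW.Mod Λ X} (α : A ⟶ B), Mono α → Mono (U.map α) := fun α _ => by
    have : ∀ V, Mono (((sheafToPresheaf X.smallEtaleTopology AddCommGrpCat.{u + 1}).map (U.map α)).app V) :=
      fun V => by
        change Mono (F₂.map (α.hom.app V))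
        have : Mono (α.hom.app V) :=
          inferInstanceAs (Mono (((sheafToPresheaf _ _).map α).app V))
        infer_instance
    have := NatTrans.mono_of_mono_app ((sheafToPresheaf X.smallEtaleTopology AddCommGrpCat.{u + 1}).map (U.map α))
    exact (sheafToPresheaf _ _).mono_of_mono_map this
  haveI := t6 Λ X
  let e := constantCommuteCompose X.smallEtaleTopology F₂
  let h := ModuleCat.ofHom M'.subtype
  have hnat := e.hom.naturality h
  haveI := hmono a inferInstance
  haveI := hmono b inferInstance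
  have h1 : IsIso ((EtCoh.stalk ξ).map (U.map a)) :=
    ((MorphismProperty.isomorphisms _).arrow_mk_iso_iff (((Functor.mapArrowFunctor _ _).mapIso
      ((Scheme.pointSmallEtale ξ).sheafFiberCompIso F₂)).app (Arrow.mk a))).2 (by
        haveI := hst; exact (inferInstance : IsIso (F₂.map ((EtModW.stalk Λ ξ).map a))))
  haveI : IsIso ((e.inv.app (ModuleCat.of Λ M')) ≫ U.map a) :=
    main ξ hξ (F₂.map h) (U.obj G) (e.inv.app (ModuleCat.of Λ M') ≫ U.map a) (U.map b ≫ e.hom.app (ModuleCat.of Λ M))
      (by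
        rw [Category.assoc, ← U.map_comp_assoc, hab]
        exact (congrArg (e.inv.app _ ≫ ·) hnat).trans (e.inv_hom_id_app_assoc _ _))
      (by rw [Functor.map_comp]; infer_instance)
  haveI : IsIso (U.map a) := IsIso.of_isIso_comp_left (e.inv.app _) (U.map a)
  exact isIso_of_reflects_iso a U

end Groth.Agent.S6654
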