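import Groth.Statements.S6658
import Groth.Agent.EtSh.ExtZeroOpen
import Groth.Agent.EtSh.Pull
import Groth.Agent.CompDerived.Basic
import Groth.Agent.S0648
import Groth.Agent.EtSh.OverSite

set_option autoImplicit false
universe u
open CategoryTheory CategoryTheory.Limits AlgebraicGeometry Opposite
open EtDual

namespace Groth.Agent.S6658

set_option backward.isDefEq.respectTransparency.types false

theorem swap {C : Type*} [Category C] [Abelian C] {A B K P Q : C} (a : A ⟶ K) (q : K ⟶ Q)
    (b : B ⟶ K) (p : K ⟶ P) (wa : a ≫ q = 0) (wb : b ≫ p = 0)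
    (ha : (ShortComplex.mk a q wa).Exact) [Epi q] (hb : (ShortComplex.mk b p wb).Exact) [Epi p] :
    Nonempty (cokernel (a ≫ p) ≅ cokernel (b ≫ q)) := by
  have : Epi (ShortComplex.mk a q wa).g := ‹Epi q›
  have : Epi (ShortComplex.mk b p wb).g := ‹Epi p›
  let s : Q ⟶ cokernel (a ≫ p) := ha.desc (p ≫ cokernel.π (a ≫ p)) (by
    show a ≫ p ≫ _ = 0
    rw [← Category.assoc, cokernel.condition])
  let t : P ⟶ cokernel (b ≫ q) := hb.desc (q ≫ cokernel.π (b ≫ q)) (by
    show b ≫ q ≫ _ = 0
    rw [← Category.assoc, cokernel.condition])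
  have hs : q ≫ s = p ≫ cokernel.π (a ≫ p) := ha.g_desc _ _
  have ht : p ≫ t = q ≫ cokernel.π (b ≫ q) := hb.g_desc _ _
  refine ⟨⟨cokernel.desc _ t (by rw [Category.assoc, ht, reassoc_of% wa, zero_comp]),
    cokernel.desc _ s (by rw [Category.assoc, hs, reassoc_of% wb, zero_comp]), ?_, ?_⟩⟩
  · rw [← cancel_epi (cokernel.π (a ≫ p)), cokernel.π_desc_assoc, ← cancel_epi p, reassoc_of% ht,
      cokernel.π_desc, hs, Category.comp_id]
  · rw [← cancel_epi (cokernel.π (b ≫ q)), cokernel.π_desc_assoc, ← cancel_epi q, reassoc_of% hs,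
      cokernel.π_desc, ht, Category.comp_id]

theorem cokernel_iso_of_exact {C : Type*} [Category C] [Abelian C] {A B D : C} (f : A ⟶ B) (π : B ⟶ D)
    (w : f ≫ π = 0) (h : (ShortComplex.mk f π w).Exact) [Epi π] : Nonempty (cokernel f ≅ D) := by
  have : Epi (ShortComplex.mk f π w).g := ‹Epi π›
  let t : D ⟶ cokernel f := h.desc (cokernel.π f) (cokernel.condition f)
  have ht : π ≫ t = cokernel.π f := h.g_desc _ _
  refine ⟨⟨cokernel.desc f π w, t, ?_, ?_⟩⟩
  · rw [← cancel_epi (cokernel.π f), cokernel.π_desc_assoc, ht, Category.comp_id]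
  · rw [← cancel_epi π, reassoc_of% ht, cokernel.π_desc, Category.comp_id]

variable {X U : Scheme.{u}} (j : U ⟶ X)

theorem secSupp_map_ι {F G : EtCoh.Ab X} (f : F ⟶ G) :
    (EtDual.secSupp j).map f ≫ kernel.ι (EtDual.unitApp j G) = kernel.ι (EtDual.unitApp j F) ≫ f :=
  kernel.lift_ι _ _ _

theorem mono_push_pull {F G : EtCoh.Ab X} (f : F ⟶ G) [Mono f] :
    Mono ((EtCoh.push j).map ((EtCoh.pull j).map f)) := by
  have := Groth.Agent.EtSh.pull_preservesMonomorphisms j
  have : Mono ((EtCoh.pull j).map f) := inferInstance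
  have : PreservesLimitsOfSize.{0, 0} (EtCoh.push j) := (EtCoh.pullPushAdj j).rightAdjoint_preservesLimits
  infer_instance

theorem secSupp_preservesFiniteLimits : PreservesFiniteLimits (EtDual.secSupp j) := by
  have h03 : (∀ (S : ShortComplex (EtCoh.Ab X)), S.ShortExact →
      (S.map (EtDual.secSupp j)).Exact ∧ Mono ((EtDual.secSupp j).map S.f)) ↔ PreservesFiniteLimits (EtDual.secSupp j) :=
    (Functor.preservesFiniteLimits_tfae (EtDual.secSupp j)).out 0 3
  refine h03.1 (by
    intro S hS'
    have hS := hS'.exact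
    have := hS'.mono_f
    have hm : Mono ((EtDual.secSupp j).map S.f) := by
      have : Mono ((EtDual.secSupp j).map S.f ≫ kernel.ι (EtDual.unitApp j S.X₂)) := by
        rw [secSupp_map_ι]
        infer_instance
      exact mono_of_mono _ (kernel.ι (EtDual.unitApp j S.X₂))
    have key : ∀ (W : EtCoh.Ab X) (k : W ⟶ (EtDual.secSupp j).obj S.X₂), k ≫ (EtDual.secSupp j).map S.g = 0 →
        { l : W ⟶ (EtDual.secSupp j).obj S.X₁ // l ≫ (EtDual.secSupp j).map S.f = k } := fun W k hk' => by
      have h1 : (k ≫ kernel.ι (EtDual.unitApp j S.X₂)) ≫ S.g = 0 := by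
        rw [Category.assoc, ← secSupp_map_ι, reassoc_of% hk', zero_comp]
      have h2 : hS.lift _ h1 ≫ EtDual.unitApp j S.X₁ = 0 := by
        have := mono_push_pull j S.f
        rw [← cancel_mono ((EtCoh.push j).map ((EtCoh.pull j).map S.f)), zero_comp, Category.assoc]
        rw [show EtDual.unitApp j S.X₁ ≫ (EtCoh.push j).map ((EtCoh.pull j).map S.f) =
          S.f ≫ EtDual.unitApp j S.X₂ from ((EtCoh.pullPushAdj j).unit.naturality S.f).symm]
        rw [hS.lift_f_assoc, Category.assoc, kernel.condition, comp_zero]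
      refine ⟨kernel.lift _ _ h2, ?_⟩
      rw [← cancel_mono (kernel.ι (EtDual.unitApp j S.X₂))]
      show (kernel.lift _ _ h2 ≫ (EtDual.secSupp j).map S.f) ≫ _ = _
      rw [Category.assoc, secSupp_map_ι, kernel.lift_ι_assoc, hS.lift_f]
    have : Mono (S.map (EtDual.secSupp j)).f := hm
    exact ⟨ShortComplex.exact_of_f_is_kernel _ (KernelFork.IsLimit.ofι' _ _ fun {W} k hk => key W k hk), hm⟩)

theorem isSplitEpi_restr_unit [Etale j] [EtShriek.JCont j] [IsOpenImmersion j] (I : EtCoh.Ab X) [Injective I] :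
    IsSplitEpi ((Groth.Agent.EtSh.restrPushAdj j).unit.app I) := by
  let R := EtShriek.restrAlong j
  let adj₁ := EtShriek.extZeroAdj j
  let adj₂ := Groth.Agent.EtSh.restrPushAdj j
  let G := (EtCoh.push j).obj (R.obj I)
  have : Mono (adj₁.counit.app G) := Groth.Agent.EtSh.mono_of_stalk _ fun Ω _ _ ξ => by
    by_cases h : ξ.base default ∈ Set.range j.base
    · obtain ⟨v, rfl⟩ := Groth.Agent.EtSh.exists_lift_of_isOpenImmersion j ξ h
      have := Groth.Agent.EtSh.isIso_restr_counit j G
      have := Groth.Agent.EtSh.isIso_stalk_map_of_restr j (adj₁.counit.app G) v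
      exact (AddCommGrpCat.mono_iff_injective _).1 inferInstance
    · have := Groth.Agent.EtSh.isEmpty_over' j ξ h
      have hz := Groth.Agent.EtSh.isZero_stalk_extZero j ξ this (R.obj G)
      exact (AddCommGrpCat.mono_iff_injective _).1 ⟨fun a b _ => hz.eq_of_tgt a b⟩
  let θ : R.obj G ⟶ R.obj I := adj₂.counit.app (R.obj I)
  let φ := (adj₁.homEquiv _ _).symm θ
  let ψ : G ⟶ I := Injective.factorThru φ (adj₁.counit.app G)
  have hθ : R.map ψ = θ := by
    have h := congrArg (adj₁.homEquiv _ _) (Injective.comp_factorThru φ (adj₁.counit.app G))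
    rw [Equiv.apply_symm_apply, Adjunction.homEquiv_unit, Functor.map_comp] at h
    exact (adj₁.right_triangle_components_assoc G (R.map ψ)).symm.trans h
  refine IsSplitEpi.mk' ⟨ψ, ?_⟩
  calc ψ ≫ adj₂.unit.app I = adj₂.unit.app G ≫ (EtCoh.push j).map (R.map ψ) := adj₂.unit.naturality ψ
    _ = 𝟙 _ := by rw [hθ]; exact adj₂.right_triangle_components _

theorem epi_unitApp [Etale j] [EtShriek.JCont j] [IsOpenImmersion j] (I : EtCoh.Ab X) [Injective I] :
    Epi (EtDual.unitApp j I) := by
  have := isSplitEpi_restr_unit j I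
  have h := Adjunction.unit_leftAdjointUniq_hom_app (EtCoh.pullPushAdj j) (Groth.Agent.EtSh.restrPushAdj j) I
  have : IsIso ((EtCoh.push j).map ((Adjunction.leftAdjointUniq (EtCoh.pullPushAdj j) (Groth.Agent.EtSh.restrPushAdj j)).hom.app I)) :=
    inferInstance
  have h' : EtDual.unitApp j I = (Groth.Agent.EtSh.restrPushAdj j).unit.app I ≫
      inv ((EtCoh.push j).map ((Adjunction.leftAdjointUniq (EtCoh.pullPushAdj j) (Groth.Agent.EtSh.restrPushAdj j)).hom.app I)) :=
    (IsIso.eq_comp_inv _).2 h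
  rw [h']
  exact epi_comp _ _

theorem injective_pull [Etale j] [EtShriek.JCont j] (I : EtCoh.Ab X) [Injective I] :
    Injective ((EtCoh.pull j).obj I) := by
  have := Groth.Agent.S0648.result j
  have : (EtShriek.extZero j).PreservesMonomorphisms := preservesMonomorphisms_of_preservesLimitsOfShape _
  have := Injective.injective_of_adjoint (EtShriek.extZeroAdj j) I
  exact Injective.of_iso ((Groth.Agent.EtSh.pullRestrIso j).app I).symm this

theorem main [Etale j] [EtShriek.JCont j] [IsOpenImmersion j] (F : EtCoh.Ab X) :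
    Nonempty (cokernel (EtDual.unitApp j F) ≅ (EtDual.locCoh j 1).obj F) ∧
      ∀ p : ℕ, 1 ≤ p →
        Nonempty ((EtCoh.Rpush j p).obj ((EtCoh.pull j).obj F) ≅ (EtDual.locCoh j (p + 1)).obj F) := by
  let Γ := EtDual.secSupp j
  let P := EtCoh.pull j
  let J := EtCoh.push j
  have := secSupp_preservesFiniteLimits j
  have : PreservesLimitsOfSize.{0, 0} J := (EtCoh.pullPushAdj j).rightAdjoint_preservesLimits
  have : PreservesFiniteLimits J := PreservesLimitsOfSize.preservesFiniteLimits.{0, 0} _
  have := Groth.Agent.EtSh.pull_preservesFiniteLimits j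
  have : PreservesFiniteColimits P :=
    have : PreservesColimitsOfSize.{0, 0} P := (EtCoh.pullPushAdj j).leftAdjoint_preservesColimits
    PreservesColimitsOfSize.preservesFiniteColimits.{0, 0} _
  let seq : ∀ F : EtCoh.Ab X, ShortComplex (EtCoh.Ab X) := fun F =>
    ShortComplex.mk (Injective.ι F) (cokernel.π (Injective.ι F)) (cokernel.condition _)
  have hseq : ∀ F, (seq F).ShortExact := fun F =>
    { exact := (seq F).exact_of_g_is_cokernel (cokernelIsCokernel _)
      mono_f := inferInstanceAs (Mono (Injective.ι F))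
      epi_g := inferInstanceAs (Epi (cokernel.π (Injective.ι F))) }
  have first : ∀ F, Nonempty (cokernel (EtDual.unitApp j F) ≅ (EtDual.locCoh j 1).obj F) := by
    intro F
    let S := seq F
    have hS := hseq F
    have : Injective S.X₂ := inferInstanceAs (Injective (Injective.under F))
    have := hS.mono_f
    have := hS.epi_g
    let u₁ := EtDual.unitApp j S.X₁
    let u₂ := EtDual.unitApp j S.X₂
    let u₃ := EtDual.unitApp j S.X₃
    have : Epi u₂ := epi_unitApp j S.X₂
    have n₁ : S.f ≫ u₂ = u₁ ≫ J.map (P.map S.f) := (EtCoh.pullPushAdj j).unit.naturality S.f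
    have n₂ : S.g ≫ u₃ = u₂ ≫ J.map (P.map S.g) := (EtCoh.pullPushAdj j).unit.naturality S.g
    let h := S.g ≫ u₃
    let T : ShortComplex (EtCoh.Ab X) := ShortComplex.mk (J.map (P.map S.f)) (J.map (P.map S.g))
      (by rw [← Functor.map_comp, ← Functor.map_comp, S.zero, Functor.map_zero, Functor.map_zero])
    have hJ : T.Exact ∧ Mono T.f := by
      have : PreservesFiniteLimits (P ⋙ J) := comp_preservesFiniteLimits _ _
      have h03 : (∀ (S : ShortComplex (EtCoh.Ab X)), S.ShortExact →
          (S.map (P ⋙ J)).Exact ∧ Mono ((P ⋙ J).map S.f)) ↔ PreservesFiniteLimits (P ⋙ J) :=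
        (Functor.preservesFiniteLimits_tfae (P ⋙ J)).out 0 3
      exact h03.2 this S hS
    have : Mono (J.map (P.map S.f)) := hJ.2
    let a : S.X₁ ⟶ kernel h := kernel.lift h S.f (by rw [S.zero_assoc, zero_comp])
    let b : Γ.obj S.X₂ ⟶ kernel h := kernel.lift h (kernel.ι u₂) (by
      show kernel.ι u₂ ≫ S.g ≫ u₃ = 0
      rw [n₂, kernel.condition_assoc, zero_comp])
    let q : kernel h ⟶ Γ.obj S.X₃ := kernel.lift u₃ (kernel.ι h ≫ S.g) (by rw [Category.assoc, kernel.condition])
    have hp : (kernel.ι h ≫ u₂) ≫ T.g = 0 := by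
      show (kernel.ι h ≫ u₂) ≫ J.map (P.map S.g) = 0
      rw [Category.assoc, ← n₂, kernel.condition]
    let p : kernel h ⟶ J.obj (P.obj S.X₁) := hJ.1.lift _ hp
    have pf : p ≫ J.map (P.map S.f) = kernel.ι h ≫ u₂ := hJ.1.lift_f _ _
    have hq : Epi q := by
      rw [epi_iff_surjective_up_to_refinements]
      intro A y
      obtain ⟨A', π, hπ, x, hx⟩ := surjective_up_to_refinements_of_epi S.g (y ≫ kernel.ι u₃)
      refine ⟨A', π, hπ, kernel.lift h x ?_, ?_⟩
      · show x ≫ S.g ≫ u₃ = 0
        rw [← reassoc_of% hx]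
        simp only [kernel.condition, comp_zero]
      · rw [← cancel_mono (kernel.ι u₃), Category.assoc, Category.assoc, kernel.lift_ι, kernel.lift_ι_assoc]
        exact hx
    have hp' : Epi p := by
      rw [epi_iff_surjective_up_to_refinements]
      intro A y
      obtain ⟨A', π, hπ, x, hx⟩ := surjective_up_to_refinements_of_epi u₂ (y ≫ J.map (P.map S.f))
      refine ⟨A', π, hπ, kernel.lift h x ?_, ?_⟩
      · show x ≫ S.g ≫ u₃ = 0
        rw [n₂, ← reassoc_of% hx]
        have z : J.map (P.map S.f) ≫ J.map (P.map S.g) = 0 := T.zero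
        rw [z, comp_zero, comp_zero]
      · have : Mono (J.map (P.map S.f)) := hJ.2
        rw [← cancel_mono (J.map (P.map S.f)), Category.assoc, Category.assoc, pf, kernel.lift_ι_assoc]
        exact hx
    have wa : a ≫ q = 0 := by
      rw [← cancel_mono (kernel.ι u₃), Category.assoc, kernel.lift_ι, kernel.lift_ι_assoc, S.zero, zero_comp]
    have wb : b ≫ p = 0 := by
      have : Mono (J.map (P.map S.f)) := hJ.2
      rw [← cancel_mono (J.map (P.map S.f)), Category.assoc, pf, kernel.lift_ι_assoc, kernel.condition, zero_comp]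
    have ha : (ShortComplex.mk a q wa).Exact := by
      have : Mono a := mono_of_mono_fac (kernel.lift_ι h S.f _)
      refine ShortComplex.exact_of_f_is_kernel _ (KernelFork.IsLimit.ofι' _ _ fun {W} k hk => ?_)
      have hk' : (k ≫ kernel.ι h) ≫ S.g = 0 := by
        have : (k ≫ q) ≫ kernel.ι u₃ = 0 := by rw [show k ≫ q = 0 from hk, zero_comp]
        rwa [Category.assoc, kernel.lift_ι, ← Category.assoc] at this
      exact ⟨hS.exact.lift _ hk', by rw [← cancel_mono (kernel.ι h), Category.assoc, kernel.lift_ι, hS.exact.lift_f]⟩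
    have hb : (ShortComplex.mk b p wb).Exact := by
      have : Mono b := mono_of_mono_fac (kernel.lift_ι h (kernel.ι u₂) _)
      refine ShortComplex.exact_of_f_is_kernel _ (KernelFork.IsLimit.ofι' _ _ fun {W} k hk => ?_)
      have hk' : (k ≫ kernel.ι h) ≫ u₂ = 0 := by
        rw [Category.assoc, ← pf, ← Category.assoc, show k ≫ p = 0 from hk, zero_comp]
      exact ⟨kernel.lift u₂ _ hk', by rw [← cancel_mono (kernel.ι h), Category.assoc, kernel.lift_ι, kernel.lift_ι]⟩
    have eap : a ≫ p = u₁ := by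
      have : Mono (J.map (P.map S.f)) := hJ.2
      rw [← cancel_mono (J.map (P.map S.f)), Category.assoc, pf, kernel.lift_ι_assoc, n₁]
    have ebq : b ≫ q = Γ.map S.g := by
      rw [← cancel_mono (kernel.ι u₃), Category.assoc, kernel.lift_ι, kernel.lift_ι_assoc, secSupp_map_ι]
    obtain ⟨e⟩ := swap a q b p wa wb ha hb
    obtain ⟨π, w, hπ, hex⟩ := CompDerived.exists_cokernel Γ hS (fun k => Γ.isZero_rightDerived_obj_injective_succ k S.X₂)
    obtain ⟨e'⟩ := cokernel_iso_of_exact _ π w hex
    exact ⟨cokernelIsoOfEq eap.symm ≪≫ e ≪≫ cokernelIsoOfEq ebq ≪≫ e'⟩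
  refine ⟨first F, fun p hp => ?_⟩
  obtain ⟨p, rfl⟩ : ∃ r, p = r + 1 := ⟨p - 1, by omega⟩
  clear hp
  induction p generalizing F with
  | zero =>
    let S := seq F
    have hS := hseq F
    have : Injective S.X₂ := inferInstanceAs (Injective (Injective.under F))
    have hT := hS.map_of_exact P
    have : Injective (S.map P).X₂ := injective_pull j S.X₂
    obtain ⟨π, w, hπ, hex⟩ := CompDerived.exists_cokernel J hT (fun k => J.isZero_rightDerived_obj_injective_succ k _)
    obtain ⟨e'⟩ := cokernel_iso_of_exact _ π w hex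
    obtain ⟨e1⟩ := first S.X₃
    obtain ⟨e2⟩ := CompDerived.nonempty_shiftIso Γ hS (fun k => Γ.isZero_rightDerived_obj_injective_succ k S.X₂) 0
    have := hS.epi_g
    have : Epi (EtDual.unitApp j S.X₂) := epi_unitApp j S.X₂
    have n₂ : S.g ≫ EtDual.unitApp j S.X₃ = EtDual.unitApp j S.X₂ ≫ J.map (P.map S.g) :=
      (EtCoh.pullPushAdj j).unit.naturality S.g
    exact ⟨e'.symm ≪≫ (cokernelEpiComp (EtDual.unitApp j S.X₂) (J.map (P.map S.g))).symm ≪≫ cokernelIsoOfEq n₂.symm ≪≫
      cokernelEpiComp S.g (EtDual.unitApp j S.X₃) ≪≫ e1 ≪≫ e2⟩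
  | succ p ih =>
    let S := seq F
    have hS := hseq F
    have : Injective S.X₂ := inferInstanceAs (Injective (Injective.under F))
    have hT := hS.map_of_exact P
    have : Injective (S.map P).X₂ := injective_pull j S.X₂
    obtain ⟨e1⟩ := ih S.X₃
    obtain ⟨e2⟩ := CompDerived.nonempty_shiftIso Γ hS (fun k => Γ.isZero_rightDerived_obj_injective_succ k S.X₂) (p + 1)
    obtain ⟨e3⟩ := CompDerived.nonempty_shiftIso J hT (fun k => J.isZero_rightDerived_obj_injective_succ k _) p
    exact ⟨e3.symm ≪≫ e1 ≪≫ e2⟩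

/-- The exact sequence and the isomorphisms: let j : U → X be an open immersion of schemes with closed
complement Z and F an abelian sheaf on the small etale site of X. Write H^q_Z(F) for the q-th local
cohomology sheaf of F with support in Z, kept as a sheaf on X (the q-th right derived functor of G ↦
ker(G → j_* j⁻¹ G)). Then the cokernel of the unit F → j_* j⁻¹ F is isomorphic to H^1_Z(F), and for
every p ≥ 1 the higher direct image R^p j_* (j⁻¹ F) is isomorphic to H^{p+1}_Z(F). (The published
statement also gives the distinguished triangle behind these isomorphisms and identifies them with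
its connecting maps; this row asserts only that isomorphisms exist.) -/
theorem result {X U : Scheme.{u}} (j : U ⟶ X) [IsOpenImmersion j]
    (F : EtCoh.Ab X) :
    Nonempty (cokernel (EtDual.unitApp j F) ≅ (EtDual.locCoh j 1).obj F) ∧
      ∀ p : ℕ, 1 ≤ p →
        Nonempty ((EtCoh.Rpush j p).obj ((EtCoh.pull j).obj F) ≅ (EtDual.locCoh j (p + 1)).obj F) := by
  let W : X.Etale := Scheme.Etale.mk j
  have : EtShriek.JCont j := Groth.Agent.EtSh.jCont_hom W
  exact main j F

end Groth.Agent.S6658
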