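import Groth.Statements.S6659
import Groth.Agent.EtSh.Recollement
import Groth.Agent.EtSh.Pull
import Groth.Agent.EtSh.IntegralStalk
import Groth.Agent.DerExactAdj.Basic

set_option autoImplicit false
universe u
open CategoryTheory CategoryTheory.Limits AlgebraicGeometry Opposite
attribute [local instance] HasDerivedCategory.standard
open EtDual

namespace Groth.Agent.S6659

set_option backward.isDefEq.respectTransparency.types false

theorem isZero_of_stalks {X : Scheme.{u}} (A : EtCoh.Ab X)
    (h : ∀ (Ω : Type u) [Field Ω] [IsSepClosed Ω] (ξ : Spec (CommRingCat.of Ω) ⟶ X), IsZero ((EtCoh.stalk ξ).obj A)) :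
    IsZero A := by
  have : IsIso (0 : A ⟶ A) := EtSh.isIso_of_stalk _ fun Ω _ _ ξ =>
    isIso_of_source_target_iso_zero _ (h Ω ξ).isoZero (h Ω ξ).isoZero
  exact (IsZero.iff_id_eq_zero A).2 (by rw [← IsIso.hom_inv_id (0 : A ⟶ A), zero_comp])

theorem isZero_pull_push {Z X U : Scheme.{u}} (i : Z ⟶ X) [IsClosedImmersion i] (j : U ⟶ X) [IsOpenImmersion j]
    (hZU : Set.range j = (Set.range i)ᶜ) (G : EtCoh.Ab Z) : IsZero ((EtCoh.pull j).obj ((EtCoh.push i).obj G)) :=
  isZero_of_stalks _ fun Ω _ _ u => by
    have h : (u ≫ j).base default ∉ Set.range i.base := by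
      have : j.base (u.base default) ∈ Set.range j.base := ⟨_, rfl⟩
      rw [hZU] at this
      exact this
    exact (EtSh.Integral.isZero_stalk_push i G (u ≫ j) h).of_iso ((EtSh.stalkPullIso j u).app _)

theorem isIso_unit_iff {Z X U : Scheme.{u}} (i : Z ⟶ X) [IsClosedImmersion i] (j : U ⟶ X) [IsOpenImmersion j]
    (hZU : Set.range j = (Set.range i)ᶜ) (F : EtCoh.Ab X) :
    IsIso ((EtCoh.pullPushAdj i).unit.app F) ↔ IsZero ((EtCoh.pull j).obj F) := by
  refine ⟨fun h => (isZero_pull_push i j hZU _).of_iso ((EtCoh.pull j).mapIso (asIso ((EtCoh.pullPushAdj i).unit.app F))),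
    fun h => EtSh.Integral.isIso_unit_of_supp i F ?_⟩
  rintro y ⟨Ω, _, _, ξ, hξ, hne⟩
  by_contra hy
  have hy' : ξ.base default ∉ Set.range i.base := by rwa [Set.eq_of_mem_singleton (hξ.le ⟨default, rfl⟩)]
  obtain ⟨ζ, hζ⟩ | ⟨⟨v, hv⟩, -⟩ := EtSh.point_cases i j hZU ξ
  · exact hy' ⟨ζ.base default, congrArg (fun k : Spec (CommRingCat.of Ω) ⟶ X => k.base default) hζ⟩
  · subst hv
    haveI := EtSh.stalk_preservesFiniteLimits v
    exact hne (((EtCoh.stalk v).map_isZero h).of_iso ((EtSh.stalkPullIso j v).app F).symm)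

/-- Let i : Z → X be a closed immersion of schemes with open complement j : U → X. The direct image i_*
of abelian etale sheaves is exact (its right exactness is carried as an instance hypothesis), and
the induced functor D(Z_et) → D(X_et) is fully faithful; an object K of D(X_et) lies in its
essential image if and only if every cohomology sheaf of K has zero restriction to U, i.e. K has
cohomology sheaves supported on Z. (The identification of the quasi-inverse with the derived functor
of sections supported on Z is not part of this row.) -/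
theorem result {Z X U : Scheme.{u}} (i : Z ⟶ X)
    [IsClosedImmersion i] (j : U ⟶ X) [IsOpenImmersion j] (hZU : Set.range j = (Set.range i)ᶜ)
    [PreservesFiniteColimits (EtCoh.push i)] :
    ((EtCoh.push i).mapDerivedCategory.Full ∧ (EtCoh.push i).mapDerivedCategory.Faithful) ∧
      ∀ K : DCoh.DEt X,
        (EtCoh.push i).mapDerivedCategory.essImage K ↔
          ∀ n : ℤ, IsZero ((EtCoh.pull j).obj (DCoh.HDEt K n)) := by
  haveI := EtSh.pull_preservesFiniteLimits i
  have hc : ∀ G, IsIso ((EtCoh.pullPushAdj i).counit.app G) := EtSh.Integral.isIso_counit i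
  haveI : PreservesLimitsOfSize.{0, 0} (EtCoh.push i) := (EtCoh.pullPushAdj i).rightAdjoint_preservesLimits
  haveI : PreservesFiniteLimits (EtCoh.push i) := PreservesLimitsOfSize.preservesFiniteLimits.{0, 0} _
  haveI : PreservesFiniteColimits (EtCoh.pull i) :=
    have : PreservesColimitsOfSize.{0, 0} (EtCoh.pull i) := (EtCoh.pullPushAdj i).leftAdjoint_preservesColimits
    PreservesColimitsOfSize.preservesFiniteColimits _
  haveI : (EtCoh.pull i).Additive := (EtCoh.pullPushAdj i).left_adjoint_additive
  refine ⟨DerExactAdj.full_faithful (EtCoh.pullPushAdj i) hc, fun K => ?_⟩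
  exact (DerExactAdj.essImage_iff (EtCoh.pullPushAdj i) hc K).trans
    (forall_congr' fun n => isIso_unit_iff i j hZU _)

end Groth.Agent.S6659
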