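import Groth.Statements.S6697
import Groth.Agent.BigEt.Exact
import Groth.Agent.DerCat.KInjLib

set_option autoImplicit false
universe u
open CategoryTheory CategoryTheory.Limits AlgebraicGeometry Opposite
open BigSite

namespace Groth.Agent.S6697

/-- Let S be a scheme, I a K-injective complex of abelian sheaves on the big etale site of S (every
morphism from an acyclic complex to I is null-homotopic) and f : T → S a scheme over S. Then (b) the
termwise restriction I|_{S_et} to the small etale site of S is K-injective, and (a) the termwise
restriction i_f⁻¹ I to the small etale site of T is K-injective. -/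
theorem result (S : Scheme.{u})
    (I : CochainComplex (BigSite.Ab Scheme.etalePrecoverage S) ℤ) [I.IsKInjective] {T : Scheme.{u}} (f : T ⟶ S) :
    CochainComplex.IsKInjective (((BigSite.resEt Scheme.etalePrecoverage S).mapHomologicalComplex (ComplexShape.up ℤ)).obj I) ∧
      CochainComplex.IsKInjective (((BigSite.resEtAlong Scheme.etalePrecoverage f).mapHomologicalComplex (ComplexShape.up ℤ)).obj I) := by
  have h : ∀ {T : Scheme.{u}} (I : CochainComplex (BigSite.Ab Scheme.etalePrecoverage T) ℤ) [I.IsKInjective],
      CochainComplex.IsKInjective (((BigSite.resEt Scheme.etalePrecoverage T).mapHomologicalComplex (ComplexShape.up ℤ)).obj I) :=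
    fun {T} I _ => DerCat.isKInjective_map_rightAdjoint (BigSite.piEtAdj Scheme.etalePrecoverage T) I
  refine ⟨h I, ?_⟩
  haveI := DerCat.isKInjective_map_rightAdjoint (BigSite.shriekAbAdj Scheme.etalePrecoverage f) I
  exact h (((BigSite.pullBig Scheme.etalePrecoverage f AddCommGrpCat.{u + 1}).mapHomologicalComplex (ComplexShape.up ℤ)).obj I)

end Groth.Agent.S6697
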