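import Groth.Statements.S6703
import Mathlib

set_option autoImplicit false
universe v v' u u'
open CategoryTheory
open DEquiv


namespace Groth.Agent.S6703

set_option backward.isDefEq.respectTransparency false
set_option backward.defeqAttrib.useBackward true

open CategoryTheory.Limits CategoryTheory.Pretriangulated

variable {D : Type u} [Category.{v} D] [Preadditive D] [HasZeroObject D] [HasShift D ℤ]
    [∀ n : ℤ, (shiftFunctor D n).Additive] [Pretriangulated D]
    {D' : Type u'} [Category.{v'} D'] [HasShift D' ℤ]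

lemma bij_of_iso (F : D ⥤ D') {A A' B B' : D} (a : A ≅ A') (b : B ≅ B')
    (h : Function.Bijective (fun f : A ⟶ B => F.map f)) : Function.Bijective (fun f : A' ⟶ B' => F.map f) := by
  constructor
  · intro f g hfg
    have : a.hom ≫ f ≫ b.inv = a.hom ≫ g ≫ b.inv := h.1 (by simp [show F.map f = F.map g from hfg])
    simpa using this
  · intro g
    obtain ⟨f, hf⟩ := h.2 (F.map a.hom ≫ g ≫ F.map b.inv)
    exact ⟨a.inv ≫ f ≫ b.hom, by simp [show F.map f = _ from hf]⟩

lemma bij_shift (F : D ⥤ D') [F.CommShift ℤ] {A B : D} (k : ℤ)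
    (h : Function.Bijective (fun f : A ⟶ B => F.map f)) :
    Function.Bijective (fun f : A⟦k⟧ ⟶ B⟦k⟧ => F.map f) := by
  have e : ∀ f : A ⟶ B, F.map (f⟦k⟧') =
      (F.commShiftIso k).hom.app A ≫ (F.map f)⟦k⟧' ≫ (F.commShiftIso k).inv.app B := fun f => by
    rw [← cancel_mono ((F.commShiftIso k).hom.app B)]
    simp [F.commShiftIso_hom_naturality]
  constructor
  · intro f g hfg
    obtain ⟨f, rfl⟩ := (shiftFunctor D k).map_surjective f
    obtain ⟨g, rfl⟩ := (shiftFunctor D k).map_surjective g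
    have hfg' : F.map (f⟦k⟧') = F.map (g⟦k⟧') := hfg
    rw [e, e, cancel_epi, cancel_mono] at hfg'
    exact congrArg _ (h.1 ((shiftFunctor D' k).map_injective hfg'))
  · intro g
    obtain ⟨g', hg'⟩ := (shiftFunctor D' k).map_surjective
      ((F.commShiftIso k).inv.app A ≫ g ≫ (F.commShiftIso k).hom.app B)
    obtain ⟨f, hf⟩ := h.2 g'
    exact ⟨f⟦k⟧', by simp [e, show F.map f = _ from hf, hg']⟩

open CategoryTheory.Limits CategoryTheory.Pretriangulated in
/-- Let F : D ⥤ D' be an exact functor of triangulated categories admitting both a left and a right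
adjoint, and let S be a set of objects of D such that an object K of D is zero as soon as Hom(E,
K⟦i⟧) = 0 for all E ∈ S and i ∈ ℤ, and also as soon as Hom(K, E⟦i⟧) = 0 for all E ∈ S and i ∈ ℤ. If
for all E, E' ∈ S and i ∈ ℤ the map Hom(E, E'⟦i⟧) → Hom(F E, F (E'⟦i⟧)) given by F is bijective,
then F is full and faithful. -/
theorem result
    {D : Type u} [Category.{v} D] [Preadditive D] [HasZeroObject D] [HasShift D ℤ]
    [∀ n : ℤ, (shiftFunctor D n).Additive] [Pretriangulated D] [IsTriangulated D]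
    {D' : Type u'} [Category.{v'} D'] [Preadditive D'] [HasZeroObject D'] [HasShift D' ℤ]
    [∀ n : ℤ, (shiftFunctor D' n).Additive] [Pretriangulated D'] [IsTriangulated D']
    (F : D ⥤ D') [F.CommShift ℤ] [F.IsTriangulated] [F.IsLeftAdjoint] [F.IsRightAdjoint]
    (S : Set D)
    (h2 : ∀ K : D, (∀ E ∈ S, ∀ (i : ℤ) (f : E ⟶ (shiftFunctor D i).obj K), f = 0) → IsZero K)
    (h3 : ∀ K : D, (∀ E ∈ S, ∀ (i : ℤ) (f : K ⟶ (shiftFunctor D i).obj E), f = 0) → IsZero K)
    (h4 : ∀ E ∈ S, ∀ E' ∈ S, ∀ i : ℤ,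
      Function.Bijective (fun f : E ⟶ (shiftFunctor D i).obj E' => F.map f)) :
    F.Full ∧ F.Faithful := by
  let S' : D → Prop := fun A => ∃ E ∈ S, ∃ k : ℤ, Nonempty (A ≅ E⟦k⟧)
  have hS' : ∀ A, S' A → ∀ n : ℤ, S' (A⟦n⟧) := fun A ⟨E, hE, k, ⟨e⟩⟩ n =>
    ⟨E, hE, k + n, ⟨(shiftFunctor D n).mapIso e ≪≫ ((shiftFunctorAdd D k n).app E).symm⟩⟩
  have h4' : ∀ A, S' A → ∀ B, S' B → Function.Bijective (fun f : A ⟶ B => F.map f) := by
    rintro A ⟨E, hE, k, ⟨a⟩⟩ B ⟨E', hE', i, ⟨b⟩⟩
    exact bij_of_iso F a.symm ((shiftFunctorAdd' D (i - k) k i (by omega)).symm.app E' ≪≫ b.symm)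
      (bij_shift F k (h4 E hE E' hE' (i - k)))
  have h2' : ∀ K : D, (∀ A, S' A → ∀ f : A ⟶ K, f = 0) → IsZero K := fun K hK => h2 K fun E hE i f => by
    refine (shiftFunctor D (-i)).map_injective ?_
    rw [← cancel_mono ((shiftFunctorCompIsoId D i (-i) (add_neg_cancel i)).hom.app K), Functor.map_zero, zero_comp]
    exact hK _ ⟨E, hE, -i, ⟨Iso.refl _⟩⟩ _
  have h3' : ∀ K : D, (∀ A, S' A → ∀ f : K ⟶ A, f = 0) → IsZero K := fun K hK => h3 K fun E hE i f =>
    hK _ ⟨E, hE, i, ⟨Iso.refl _⟩⟩ f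
  let adjL := Adjunction.ofIsRightAdjoint F
  let adjR := Adjunction.ofIsLeftAdjoint F
  have hε : ∀ A, S' A → IsIso (adjL.counit.app A) := fun A hA => by
    obtain ⟨C, g, h, hT⟩ := distinguished_cocone_triangle (adjL.counit.app A)
    refine (Triangle.isZero₃_iff_isIso₁ _ hT).1 (h3' C fun B hB f => ?_)
    have hb : Function.Bijective (fun u : A⟶ B => adjL.counit.app A ≫ u) := by
      have : (fun u : A⟶ B => adjL.counit.app A ≫ u) = (adjL.homEquiv _ _).symm ∘ (fun u => F.map u) := by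
        funext u; exact ((adjL.homEquiv_counit _ _ _).trans (adjL.counit_naturality u)).symm
      rw [this]; exact (Equiv.bijective _).comp (h4' A hA B hB)
    have hgf : g ≫ f = 0 := hb.1 (by
      change adjL.counit.app A ≫ g ≫ f = adjL.counit.app A ≫ 0
      rw [comp_zero, ← Category.assoc]
      exact (congrArg (· ≫ f) (comp_distTriang_mor_zero₁₂ _ hT)).trans zero_comp)
    obtain ⟨f', rfl⟩ := Triangle.yoneda_exact₃ _ hT f hgf
    obtain ⟨f'', hf''⟩ := (shiftFunctor D (1 : ℤ)).map_surjective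
      (f' ≫ ((shiftFunctorCompIsoId D (-1 : ℤ) 1 (neg_add_cancel 1)).app B).inv)
    have hb' : Function.Surjective (fun u : A ⟶ B⟦(-1 : ℤ)⟧ => adjL.counit.app A ≫ u) := by
      have : (fun u : A⟶ B⟦(-1 : ℤ)⟧ => adjL.counit.app A ≫ u) = (adjL.homEquiv _ _).symm ∘ (fun u => F.map u) := by
        funext u; exact ((adjL.homEquiv_counit _ _ _).trans (adjL.counit_naturality u)).symm
      rw [this]; exact ((Equiv.bijective _).comp (h4' A hA _ (hS' B hB _))).2
    obtain ⟨k, hk⟩ := hb' f''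
    rw [← cancel_mono ((shiftFunctorCompIsoId D (-1 : ℤ) 1 (neg_add_cancel 1)).app B).inv, zero_comp,
      Category.assoc]
    refine (congrArg (h ≫ ·) (hf''.symm.trans ((congrArg (shiftFunctor D (1 : ℤ)).map hk.symm).trans
      (Functor.map_comp _ _ _)))).trans ?_
    exact (Category.assoc _ _ _).symm.trans ((congrArg (· ≫ _) (comp_distTriang_mor_zero₃₁ _ hT)).trans zero_comp)
  have hη : ∀ X, IsIso (adjR.unit.app X) := fun X => by
    have hb : ∀ A, S' A → Function.Bijective (fun u : A ⟶ X => u ≫ adjR.unit.app X) := fun A hA => by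
      haveI := hε A hA
      have hF : Function.Bijective (fun u : A ⟶ X => F.map u) := by
        have : (fun u : A ⟶ X => F.map u) = (adjL.homEquiv _ _) ∘ (fun u => adjL.counit.app A ≫ u) := by
          funext u
          simp [Adjunction.homEquiv_unit]
        rw [this]
        exact (Equiv.bijective _).comp ((asIso (adjL.counit.app A)).homFromEquiv.symm.bijective)
      have : (fun u : A ⟶ X => u ≫ adjR.unit.app X) = (adjR.homEquiv _ _) ∘ (fun u => F.map u) := by
        funext u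
        simp [Adjunction.homEquiv_unit]
      rw [this]; exact (Equiv.bijective _).comp hF
    obtain ⟨C, g, h, hT⟩ := distinguished_cocone_triangle (adjR.unit.app X)
    refine (Triangle.isZero₃_iff_isIso₁ _ hT).1 (h2' C fun A hA f => ?_)
    let e := (shiftFunctorCompIsoId D (-1 : ℤ) 1 (neg_add_cancel 1)).app A
    obtain ⟨u, hu⟩ := (shiftFunctor D (1 : ℤ)).map_surjective (e.hom ≫ f ≫ h)
    have hu0 : u = 0 := (hb _ (hS' A hA _)).1 (by
      change u ≫ adjR.unit.app X = 0 ≫ adjR.unit.app X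
      rw [zero_comp]
      refine (shiftFunctor D (1 : ℤ)).map_injective ?_
      rw [Functor.map_comp, hu, Functor.map_zero, Category.assoc, Category.assoc]
      refine (congrArg (e.hom ≫ f ≫ ·) (comp_distTriang_mor_zero₃₁ _ hT)).trans ?_
      exact (congrArg (e.hom ≫ ·) comp_zero).trans comp_zero)
    rw [hu0, Functor.map_zero] at hu
    have hfh : f ≫ h = 0 := (cancel_epi e.hom).1 (hu.symm.trans comp_zero.symm)
    obtain ⟨g', rfl⟩ := Triangle.coyoneda_exact₃ _ hT f hfh
    obtain ⟨a, rfl⟩ := (hb A hA).2 g'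
    exact (Category.assoc _ _ _).trans ((congrArg (a ≫ ·) (comp_distTriang_mor_zero₁₂ _ hT)).trans comp_zero)
  haveI : IsIso adjR.unit := NatIso.isIso_of_isIso_app _
  exact ⟨adjR.fullyFaithfulLOfIsIsoUnit.full, adjR.fullyFaithfulLOfIsIsoUnit.faithful⟩

end Groth.Agent.S6703
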