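import Groth.Statements.S6707
import Mathlib

set_option autoImplicit false
universe w v u
open CategoryTheory
open DEquiv


namespace Groth.Agent.S6707

set_option backward.isDefEq.respectTransparency false
set_option backward.defeqAttrib.useBackward true

open CategoryTheory.Limits HomologicalComplex

variable {A : Type u} [Category.{v} A] [Abelian A] [HasDerivedCategory.{w} A]

lemma kill (b : ℤ) (M : A) (Y : DerivedCategory A) [Y.IsLE (b - 1)]
    (φ : DerivedCategory.Q.obj ((HomologicalComplex.single A (ComplexShape.up ℤ) b).obj M) ⟶ Y) :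
    ∃ (M' : A) (π : M' ⟶ M), Epi π ∧
      DerivedCategory.Q.map ((HomologicalComplex.single A (ComplexShape.up ℤ) b).map π) ≫ φ = 0 := by
  obtain ⟨K, hK, ⟨e⟩⟩ := Y.exists_iso_Q_obj_of_isLE (b - 1)
  obtain ⟨Y', g, s, hs, hf⟩ := DerivedCategory.left_fac (φ ≫ e.hom)
  have hex : Y'.ExactAt b := by
    rw [exactAt_iff_isZero_homology]
    refine IsZero.of_iso ?_ ((DerivedCategory.homologyFunctorFactors A b).symm.app Y' ≪≫
      (DerivedCategory.homologyFunctor A b).mapIso (asIso (DerivedCategory.Q.map s)).symm ≪≫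
      (DerivedCategory.homologyFunctorFactors A b).app K)
    exact (exactAt_iff_isZero_homology _ _).1 (ShortComplex.exact_of_isZero_X₂ _ (K.isZero_of_isStrictlyLE (b - 1) b (by omega)))
  rw [exactAt_iff' _ (b - 1) b (b + 1) (by simp) (by simp), ShortComplex.exact_iff_exact_up_to_refinements] at hex
  let x : M ⟶ Y'.X b := (singleObjXSelf (ComplexShape.up ℤ) b M).inv ≫ g.f b
  obtain ⟨M', π, hπ, (y : M' ⟶ Y'.X (b - 1)), hy⟩ := hex x (by
    change x ≫ Y'.d b (b + 1) = 0
    simp [x])
  refine ⟨M', π, hπ, ?_⟩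
  change π ≫ x = y ≫ Y'.d (b - 1) b at hy
  have h0 : Homotopy ((HomologicalComplex.single A (ComplexShape.up ℤ) b).map π ≫ g) 0 :=
    { hom := fun i j => if h : i = b ∧ j = b - 1 then
        eqToHom (by rw [h.1]) ≫ (singleObjXSelf (ComplexShape.up ℤ) b M').hom ≫ y ≫ eqToHom (by rw [h.2]) else 0
      zero := fun i j hij => dif_neg fun h => hij (by simp [h.1, h.2])
      comm := fun i => by
        by_cases hi : i = b
        · subst hi
          rw [dNext_eq _ (show (ComplexShape.up ℤ).Rel i (i + 1) from rfl),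
            prevD_eq _ (show (ComplexShape.up ℤ).Rel (i - 1) i by simp)]
          simp only [single_obj_d, zero_comp, zero_f, add_zero, zero_add, comp_f, single_map_f_self, Category.assoc,
            and_self, ↓reduceDIte, eqToHom_refl, Category.id_comp, Category.comp_id]
          exact congrArg ((singleObjXSelf (ComplexShape.up ℤ) i M').hom ≫ ·) hy
        · exact (isZero_single_obj_X (ComplexShape.up ℤ) b M' i hi).eq_of_src _ _ }
  have h1 : DerivedCategory.Q.map ((HomologicalComplex.single A (ComplexShape.up ℤ) b).map π ≫ g) = 0 := by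
    have h := HomotopyCategory.eq_of_homotopy _ _ h0
    rw [Functor.map_zero] at h
    rw [← cancel_epi ((DerivedCategory.quotientCompQhIso A).hom.app _)]
    exact ((DerivedCategory.quotientCompQhIso A).hom.naturality _).symm.trans
      (((congrArg (· ≫ _) ((congrArg DerivedCategory.Qh.map h).trans (Functor.map_zero _ _ _))).trans zero_comp).trans
        comp_zero.symm)
  rw [← cancel_mono e.hom, zero_comp, Category.assoc, hf, ← Category.assoc, ← Functor.map_comp, h1, zero_comp]

lemma epi_homology_single {b : ℤ} {M : A} {K : CochainComplex A ℤ} [K.IsStrictlyLE b]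
    (g : (HomologicalComplex.single A (ComplexShape.up ℤ) b).obj M ⟶ K) [Epi (g.f b)] :
    Epi (homologyMap g b) := by
  haveI := isIso_iCycles ((HomologicalComplex.single A (ComplexShape.up ℤ) b).obj M) b (b + 1) (by simp) (single_obj_d _ _ _ _ _)
  haveI := isIso_iCycles K b (b + 1) (by simp) ((K.isZero_of_isStrictlyLE b (b + 1) (by omega)).eq_of_tgt _ _)
  haveI : Epi (cyclesMap g b) := by
    have : cyclesMap g b = ((HomologicalComplex.single A (ComplexShape.up ℤ) b).obj M).iCycles b ≫ g.f b ≫ inv (K.iCycles b) := by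
      rw [← Category.assoc, IsIso.eq_comp_inv, cyclesMap_i]
    rw [this]; infer_instance
  exact epi_of_epi_fac (homologyπ_naturality g b)

open CategoryTheory.Limits in
/-- Let A be an abelian category in which every object X is the target of an epimorphism N ⟶ X with
Hom(X, N) = 0. Let f : X ⟶ X' be a morphism between bounded objects of D(A) and b an integer with
H^i(X) = 0 for i > b and H^i(X') = 0 for i ≥ b. Then there exist an object N of A and a morphism
N⟦-b⟧ ⟶ X (N placed in degree b) inducing an epimorphism N ⟶ H^b(X), with Hom(H^b(X), N) = 0, and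
whose composite with f is zero. -/
theorem result
    {A : Type u} [Category.{v} A] [Abelian A] [HasDerivedCategory.{w} A]
    (hneg : ∀ X : A, ∃ (N : A) (p : N ⟶ X), Epi p ∧ ∀ f : X ⟶ N, f = 0)
    (X X' : DerivedCategory A) (f : X ⟶ X') (a b a' : ℤ) [X.IsGE a] [X.IsLE b] [X'.IsGE a']
    [X'.IsLE (b - 1)] :
    ∃ (N : A) (g : (DerivedCategory.singleFunctor A b).obj N ⟶ X),
      Epi ((DerivedCategory.homologyFunctor A b).map g) ∧
        (∀ φ : (DerivedCategory.homologyFunctor A b).obj X ⟶ N, φ = 0) ∧ g ≫ f = 0 := by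
  obtain ⟨K, hK, ⟨e⟩⟩ := X.exists_iso_Q_obj_of_isLE b
  let S := HomologicalComplex.single A (ComplexShape.up ℤ) b
  let g₀ : S.obj (K.X b) ⟶ K := mkHomFromSingle (𝟙 _) (fun k hk => by
    simp only [ComplexShape.up_Rel] at hk
    exact (K.isZero_of_isStrictlyLE b k (by omega)).eq_of_tgt _ _)
  obtain ⟨M, π, hπ, hkill⟩ := kill b (K.X b) X' (DerivedCategory.Q.map g₀ ≫ e.inv ≫ f)
  obtain ⟨N, q, hq, hN⟩ := hneg (M ⊞ (DerivedCategory.homologyFunctor A b).obj X)
  let h : S.obj N ⟶ K := S.map ((q ≫ biprod.fst) ≫ π) ≫ g₀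
  haveI : Epi (h.f b) := by
    simp only [h, comp_f, S, single_map_f_self, g₀, mkHomFromSingle_f]
    infer_instance
  haveI := epi_homology_single h
  haveI : Epi ((DerivedCategory.homologyFunctor A b).map (DerivedCategory.Q.map h)) := by
    have := (DerivedCategory.homologyFunctorFactors A b).hom.naturality h
    rw [← IsIso.eq_comp_inv] at this
    change (DerivedCategory.homologyFunctor A b).map (DerivedCategory.Q.map h) =
      (_ ≫ homologyMap h b) ≫ inv _ at this
    rw [this]; infer_instance
  refine ⟨N, (DerivedCategory.singleFunctorIsoCompQ A b).hom.app N ≫ DerivedCategory.Q.map h ≫ e.inv, ?_, ?_, ?_⟩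
  · rw [Functor.map_comp, Functor.map_comp]
    infer_instance
  · intro φ
    have := hN (biprod.snd ≫ φ)
    rwa [← cancel_epi (biprod.snd : M ⊞ _ ⟶ _), comp_zero]
  · have hh : DerivedCategory.Q.map h ≫ e.inv ≫ f = 0 := by
      simp only [h, S, Functor.map_comp, Category.assoc] at hkill ⊢
      rw [hkill, comp_zero, comp_zero]
    refine (Category.assoc _ _ _).trans ((congrArg (_ ≫ ·) (Category.assoc _ _ _)).trans ?_)
    exact (congrArg (_ ≫ ·) hh).trans comp_zero

end Groth.Agent.S6707
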