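import Groth.Statements.S6708
import Mathlib.CategoryTheory.Triangulated.Subcategory
import Mathlib.CategoryTheory.Comma.StructuredArrow.Basic

set_option autoImplicit false
set_option backward.isDefEq.respectTransparency false
set_option backward.defeqAttrib.useBackward true
universe v u
open CategoryTheory
open DEquiv

namespace Groth.Agent.S6708

open CategoryTheory.Limits CategoryTheory.Pretriangulated in
/-- Let D be a pretriangulated category, D' ⊆ D a full triangulated subcategory (given as a property of
objects that is triangulated in Mathlib's sense) and X an object of D. Then the category of arrows E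
⟶ X with E in D' is filtered. -/
theorem result
    {D : Type u} [Category.{v} D] [Preadditive D] [HasZeroObject D] [HasShift D ℤ]
    [∀ n : ℤ, (shiftFunctor D n).Additive] [Pretriangulated D]
    (P : ObjectProperty D) [P.IsTriangulated] (X : D) :
    IsFiltered (CostructuredArrow P.ι X) := by
  haveI : IsFilteredOrEmpty (CostructuredArrow P.ι X) :=
    { cocone_objs := fun a b ↦ by
        obtain ⟨W, hW, ⟨e⟩⟩ := P.ext_of_isTriangulatedClosed₂' _
          (binaryBiproductTriangle_distinguished a.left.obj b.left.obj) a.left.2 b.left.2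
        dsimp [binaryBiproductTriangle] at e
        refine ⟨CostructuredArrow.mk (Y := (⟨W, hW⟩ : P.FullSubcategory))
            (e.inv ≫ biprod.desc a.hom b.hom : W ⟶ X),
          CostructuredArrow.homMk (ObjectProperty.homMk (biprod.inl ≫ e.hom)) ?_,
          CostructuredArrow.homMk (ObjectProperty.homMk (biprod.inr ≫ e.hom)) ?_, trivial⟩
        · simp
        · simp
      cocone_maps := fun a b φ ψ ↦ by
        obtain ⟨W', p, q, hT⟩ := distinguished_cocone_triangle (φ.left.hom - ψ.left.hom)
        obtain ⟨W, hW, ⟨e⟩⟩ := P.ext_of_isTriangulatedClosed₃' _ hT a.left.2 b.left.2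
        dsimp at e
        obtain ⟨h, hh⟩ := Triangle.yoneda_exact₂ _ hT (b.hom : b.left.obj ⟶ X) (by
          have h₁ := CostructuredArrow.w φ
          have h₂ := CostructuredArrow.w ψ
          dsimp at h₁ h₂ ⊢
          simp [Preadditive.sub_comp, h₁, h₂])
        dsimp at h hh
        refine ⟨CostructuredArrow.mk (Y := (⟨W, hW⟩ : P.FullSubcategory)) (e.inv ≫ h : W ⟶ X),
          CostructuredArrow.homMk (ObjectProperty.homMk (p ≫ e.hom)) (by simp [← hh]), ?_⟩
        apply CostructuredArrow.hom_ext
        apply ObjectProperty.hom_ext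
        have h0 : (φ.left.hom - ψ.left.hom) ≫ p = 0 := comp_distTriang_mor_zero₁₂ _ hT
        rw [Preadditive.sub_comp, sub_eq_zero] at h0
        simp [reassoc_of% h0] }
  obtain ⟨Z, hZ, hPZ⟩ := P.exists_prop_of_containsZero
  exact { nonempty := ⟨CostructuredArrow.mk (Y := (⟨Z, hPZ⟩ : P.FullSubcategory)) (hZ.to_ X)⟩ }

end Groth.Agent.S6708
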