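import Groth.Statements.S6710
import Mathlib.RingTheory.Finiteness.Ideal

set_option autoImplicit false
universe u v
open CategoryTheory
open FunMor

namespace Groth.Agent.S6710

/-- a nonzero fp module over any ring surjects onto some `R/J`, `J` finitely generated proper -/
theorem exists_cyclic_quotient (R : Type*) [CommRing R] (M : Type*) [AddCommGroup M] [Module R M]
    [Module.FinitePresentation R M] [Nontrivial M] :
    ∃ J : Ideal R, J.FG ∧ J ≠ ⊤ ∧ ∃ φ : M →ₗ[R] R ⧸ J, Function.Surjective φ := by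
  classical
  obtain ⟨n, f, hf⟩ := @Module.Finite.exists_fin R M _ _ _ _
  let P := fun k : ℕ => Submodule.span R (f '' {i | (i : ℕ) < k})
  have hex : ∃ k, P k = ⊤ := ⟨n, by
    have : {i : Fin n | (i : ℕ) < n} = Set.univ := Set.eq_univ_of_forall fun i => i.2
    simpa [P, this, Set.image_univ] using hf⟩
  let k := Nat.find hex
  have hk0 : k ≠ 0 := fun h => by
    have h0 := Nat.find_spec hex
    rw [show Nat.find hex = 0 from h] at h0
    simp [P] at h0
  have hlt : k - 1 < n := by
    have h1 : k ≤ n := Nat.find_le (by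
      have : {i : Fin n | (i : ℕ) < n} = Set.univ := Set.eq_univ_of_forall fun i => i.2
      simpa [P, this, Set.image_univ] using hf)
    omega
  let N := P (k - 1)
  have hN : N ≠ ⊤ := Nat.find_min hex (m := k - 1) (by omega)
  let x := f ⟨k - 1, hlt⟩
  have hx : N ⊔ Submodule.span R {x} = ⊤ := by
    rw [eq_top_iff, ← show P k = ⊤ from Nat.find_spec hex, Submodule.span_le]
    rintro _ ⟨i, hi, rfl⟩
    by_cases h : (i : ℕ) < k - 1
    · exact Submodule.mem_sup_left (Submodule.subset_span ⟨i, h, rfl⟩)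
    · have hi' : (i : ℕ) < k := hi
      have : i = ⟨k - 1, hlt⟩ := Fin.ext (by simp only; omega)
      exact Submodule.mem_sup_right (this ▸ Submodule.mem_span_singleton_self _)
  have hfp : Module.FinitePresentation R (M ⧸ N) :=
    Module.finitePresentation_of_surjective N.mkQ (Submodule.mkQ_surjective N)
      (by rw [Submodule.ker_mkQ]; exact Submodule.fg_span ((Set.toFinite _).image f))
  let e : R →ₗ[R] M ⧸ N := LinearMap.toSpanSingleton R _ (N.mkQ x)
  have he : Function.Surjective e := by
    intro q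
    obtain ⟨y, rfl⟩ := Submodule.mkQ_surjective N q
    obtain ⟨a, ha, b, hb, rfl⟩ := Submodule.mem_sup.mp (hx.ge (Submodule.mem_top : y ∈ ⊤))
    obtain ⟨c, rfl⟩ := Submodule.mem_span_singleton.mp hb
    exact ⟨c, by simp [e, (Submodule.Quotient.mk_eq_zero N).mpr ha]⟩
  refine ⟨LinearMap.ker e, Module.FinitePresentation.fg_ker e he, fun h => ?_, ?_⟩
  · haveI := Submodule.Quotient.nontrivial_iff.mpr hN
    obtain ⟨q, hq⟩ := exists_ne (0 : M ⧸ N)
    obtain ⟨c, rfl⟩ := he q
    exact hq (LinearMap.mem_ker.mp (h ▸ Submodule.mem_top))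
  · exact ⟨(LinearMap.quotKerEquivOfSurjective e he).symm.toLinearMap ∘ₗ N.mkQ,
      (LinearMap.quotKerEquivOfSurjective e he).symm.surjective.comp (Submodule.mkQ_surjective N)⟩

/-- The statement for an affine scheme written in terms of modules: let A be a commutative ring, M a
finitely presented A-module and N a nonzero A-module with Supp(N) ⊆ Supp(M). Then Hom_A(M, N) is
nonzero. -/
theorem result
    (A : Type u) [CommRing A] (M : Type v) [AddCommGroup M] [Module A M]
    [Module.FinitePresentation A M] (N : Type v) [AddCommGroup N] [Module A N] [Nontrivial N]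
    (h : Module.support A N ⊆ Module.support A M) : Nontrivial (M →ₗ[A] N) := by
  obtain ⟨n, hn⟩ := exists_ne (0 : N)
  have hne : Submodule.colon (⊥ : Submodule A N) {n} ≠ ⊤ := fun h => hn (by
    simpa [Submodule.mem_colon] using h.ge (Submodule.mem_top : (1 : A) ∈ ⊤))
  obtain ⟨q, hq, hle⟩ := Ideal.exists_le_maximal _ hne
  obtain ⟨p, hp, -⟩ := Ideal.exists_minimalPrimes_le (J := q) hle
  haveI := hp.1.1
  let Ap := Localization.AtPrime p
  let Np := LocalizedModule p.primeCompl N
  let Mp := LocalizedModule p.primeCompl M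
  let mN := LocalizedModule.mkLinearMap p.primeCompl N
  let mM := LocalizedModule.mkLinearMap p.primeCompl M
  have hn' : mN n ≠ 0 := fun h => by
    obtain ⟨⟨c, hc⟩, hc'⟩ := (IsLocalizedModule.eq_zero_iff p.primeCompl mN).mp h
    exact hc (hp.1.2 (by simpa [Submodule.mem_colon] using hc'))
  have hpN : (⟨p, inferInstance⟩ : PrimeSpectrum A) ∈ Module.support A N :=
    Module.mem_support_iff.mpr ⟨⟨mN n, 0, hn'⟩⟩
  haveI : Nontrivial Mp := Module.mem_support_iff.mp (h hpN)
  obtain ⟨J, hJfg, hJ, φ, hφ⟩ := exists_cyclic_quotient Ap Mp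
  -- elements of the maximal ideal act nilpotently on the germ of `n`
  have hnil : IsLocalRing.maximalIdeal Ap ≤ (Submodule.colon (⊥ : Submodule Ap Np) {mN n}).radical := by
    rw [Ideal.radical_eq_sInf]
    refine le_sInf ?_
    rintro Q ⟨hQ, hQp⟩
    haveI := hQp
    have h1 : Submodule.colon (⊥ : Submodule A N) {n} ≤ Q.comap (algebraMap A Ap) := fun a ha => by
      refine hQ ?_
      have ha' : a • n = 0 := by simpa [Submodule.mem_colon] using ha
      simp [Submodule.mem_colon, ← map_smul, ha']
    have h2 : Q.comap (algebraMap A Ap) ≤ p := by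
      conv_rhs => rw [← IsLocalization.AtPrime.comap_maximalIdeal Ap p]
      exact Ideal.comap_mono (IsLocalRing.le_maximalIdeal hQp.ne_top)
    have h3 := hp.2 ⟨Ideal.IsPrime.comap _, h1⟩ h2
    intro y hy
    obtain ⟨a, s, rfl⟩ := IsLocalization.exists_mk'_eq p.primeCompl y
    rw [IsLocalization.mk'_mem_iff]
    exact h3 ((IsLocalization.AtPrime.mk'_mem_maximal_iff Ap p a s).mp hy)
  obtain ⟨k, hk⟩ := Ideal.exists_pow_le_of_le_radical_of_fg
    ((IsLocalRing.le_maximalIdeal hJ).trans hnil) hJfg
  obtain ⟨m, hm, hJm⟩ : ∃ m : Np, m ≠ 0 ∧ ∀ j ∈ J, j • m = 0 := by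
    have key : ∀ k : ℕ, ∀ m : Np, m ≠ 0 → (∀ x ∈ J ^ k, x • m = 0) → ∃ m' : Np, m' ≠ 0 ∧ ∀ j ∈ J, j • m' = 0 := by
      intro k
      induction k with
      | zero => exact fun m hm h => absurd (by simpa using h 1 (by simp)) hm
      | succ k ih =>
        intro m hm h
        by_cases hx : ∀ x ∈ J ^ k, x • m = 0
        · exact ih m hm hx
        · push_neg at hx
          obtain ⟨x, hx, hxm⟩ := hx
          exact ⟨x • m, hxm, fun j hj => by
            rw [smul_smul]; exact h _ (by rw [pow_succ']; exact Ideal.mul_mem_mul hj hx)⟩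
    refine key k _ hn' fun x hx => ?_
    simpa [Submodule.mem_colon] using hk hx
  let ψ : Mp →ₗ[Ap] Np :=
    (Submodule.liftQ J (LinearMap.toSpanSingleton Ap Np m) fun j hj => by
      simpa using hJm j hj) ∘ₗ φ
  have hψ : ψ ≠ 0 := fun h0 => by
    obtain ⟨y, hy⟩ := hφ 1
    have := LinearMap.congr_fun h0 y
    rw [LinearMap.comp_apply, hy] at this
    rw [← map_one (Ideal.Quotient.mk J), ← Ideal.Quotient.mk_eq_mk, Submodule.liftQ_apply,
      LinearMap.toSpanSingleton_apply, one_smul] at this
    exact hm this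
  obtain ⟨g, s, hg⟩ := Module.FinitePresentation.exists_lift_of_isLocalizedModule p.primeCompl mN
    ((ψ.restrictScalars A) ∘ₗ mM)
  refine ⟨⟨g, 0, fun h0 => hψ ?_⟩⟩
  subst h0
  rw [LinearMap.comp_zero] at hg
  apply LinearMap.restrictScalars_injective A
  apply IsLocalizedModule.linearMap_ext p.primeCompl mM mN
  refine LinearMap.ext fun y => ?_
  have hy : (s : A) • ψ (mM y) = 0 := (LinearMap.congr_fun hg y).symm
  have := (Module.End.isUnit_iff _).mp (IsLocalizedModule.map_units mN s)
  exact this.1 (by simpa using hy)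

end Groth.Agent.S6710
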