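import Groth.Statements.S6712
import Groth.Agent.FlatMorLib.FibreIsoLocus
import Groth.Agent.EtLocalLib.StalkCrit

set_option autoImplicit false
universe u
open CategoryTheory AlgebraicGeometry
open DEquiv

namespace Groth.Agent.S6712

open CategoryTheory.Limits in
/-- Let S be a Noetherian scheme, s ∈ S, and p : X ⟶ Y a morphism over S where X ⟶ S and Y ⟶ S are
proper and X ⟶ S is flat. If the fibre X_s ⟶ Y_s of p is an isomorphism, then there is an open
neighbourhood U of s such that the base change X_U ⟶ Y_U of p is an isomorphism. -/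
theorem result
    {S X Y : Scheme.{u}} [IsNoetherian S] (s : S) (g : X ⟶ S) (h : Y ⟶ S) (p : X ⟶ Y)
    (w : p ≫ h = g) [IsProper g] [IsProper h] [Flat g]
    (hs : IsIso (pullback.map g (S.fromSpecResidueField s) h (S.fromSpecResidueField s) p (𝟙 _)
      (𝟙 _) ((Category.comp_id g).trans w.symm)
      ((Category.comp_id _).trans (Category.id_comp _).symm))) :
    ∃ U : S.Opens, s ∈ U ∧
      IsIso (pullback.map g U.ι h U.ι p (𝟙 _) (𝟙 _) ((Category.comp_id g).trans w.symm)
        ((Category.comp_id _).trans (Category.id_comp _).symm)) := by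
  subst w
  haveI : LocallyOfFinitePresentation h := Groth.Agent.EtLocalLib.locallyOfFinitePresentation_of_noetherian h
  haveI : LocallyOfFinitePresentation (p ≫ h) := Groth.Agent.EtLocalLib.locallyOfFinitePresentation_of_noetherian _
  obtain ⟨U, hU, hi⟩ := Groth.Agent.FlatMorLib.exists_fibreIso_locus h p
  refine ⟨U, (hU s).2 ⟨@asIso _ _ _ _ _ hs, pullback.lift_fst _ _ _⟩, ?_⟩
  let m := pullback.map (p ≫ h) U.ι h U.ι p (𝟙 _) (𝟙 _) (Category.comp_id _)
    ((Category.comp_id _).trans (Category.id_comp _).symm)
  have hsq : IsPullback (pullback.fst (p ≫ h) U.ι) m p (pullback.fst h U.ι) := by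
    refine IsPullback.of_bot ?_ (pullback.lift_fst _ _ _).symm (IsPullback.of_hasPullback h U.ι)
    rw [pullback.lift_snd, Category.comp_id]
    exact IsPullback.of_hasPullback (p ≫ h) U.ι
  have hr : (pullback.fst h U.ι).opensRange = h ⁻¹ᵁ U := by
    refine TopologicalSpace.Opens.ext ?_
    show Set.range (pullback.fst h U.ι) = _
    rw [Scheme.Pullback.range_fst, Scheme.Opens.range_ι]
    rfl
  have hi' : IsIso (p ∣_ (pullback.fst h U.ι).opensRange) := by rw [hr]; exact hi
  haveI : IsIso (pullback.snd p (pullback.fst h U.ι)) :=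
    ((MorphismProperty.isomorphisms Scheme).arrow_mk_iso_iff (morphismRestrictOpensRange p (pullback.fst h U.ι))).1 hi'
  show IsIso m
  rw [← hsq.isoPullback_hom_snd]
  infer_instance

end Groth.Agent.S6712
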