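import Groth.Statements.S6713
import Mathlib

set_option autoImplicit false
universe w v u
open CategoryTheory
open DEquiv


namespace Groth.Agent.S6713

set_option backward.isDefEq.respectTransparency false
set_option backward.defeqAttrib.useBackward true

open CategoryTheory.Limits

variable {A : Type u} [Category.{v} A] [Abelian A]

lemma hom_countable (hhom : ∀ X Y : A, Countable (X ⟶ Y)) (K L : CochainComplex A ℤ) (a b : ℤ)
    [K.IsStrictlyGE a] [K.IsStrictlyLE b] : Countable (K ⟶ L) := by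
  haveI := hhom
  haveI : Finite (Finset.Icc a b) := Finite.of_fintype _
  refine Function.Injective.countable (f := fun φ : K ⟶ L => fun i : Finset.Icc a b => φ.f i.1) fun φ ψ h => ?_
  ext i
  by_cases hi : a ≤ i ∧ i ≤ b
  · exact congr_fun h ⟨i, Finset.mem_Icc.2 hi⟩
  · refine IsZero.eq_of_src ?_ _ _
    rcases not_and_or.1 hi with h | h
    · exact K.isZero_of_isStrictlyGE a i (by omega)
    · exact K.isZero_of_isStrictlyLE b i (by omega)

lemma iso_countable (hhom : ∀ X Y : A, Countable (X ⟶ Y)) (e : ℕ → A) (he : ∀ X : A, ∃ n : ℕ, Nonempty (X ≅ e n))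
    (a b : ℤ) : ∃ (ι : Type v) (_ : Countable ι) (R : ι → CochainComplex A ℤ),
      (∀ i, (R i).IsStrictlyGE a ∧ (R i).IsStrictlyLE b) ∧
      ∀ K : CochainComplex A ℤ, K.IsStrictlyGE a → K.IsStrictlyLE b → ∃ i, Nonempty (K ≅ R i) := by
  haveI := hhom
  let I := Finset.Icc a b
  haveI : Finite I := Finite.of_fintype _
  let P : Type v := ULift.{v} (I → ℕ)
  let Code : Type v := Σ o : P, ∀ i j : I, e (o.down i) ⟶ e (o.down j)
  let Real : Code → CochainComplex A ℤ → Prop := fun c K => K.IsStrictlyGE a ∧ K.IsStrictlyLE b ∧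
    ∃ φ : ∀ i : I, K.X i ≅ e (c.1.down i), ∀ i j, c.2 i j = (φ i).inv ≫ K.d i j ≫ (φ j).hom
  haveI : Countable Code := inferInstanceAs (Countable (Σ o : P, ∀ i j : I, e (o.down i) ⟶ e (o.down j)))
  refine ⟨{c : Code // ∃ K, Real c K}, inferInstance, fun c => c.2.choose, fun c => ⟨c.2.choose_spec.1, c.2.choose_spec.2.1⟩,
    fun K hK hK' => ?_⟩
  choose o ho using fun i : I => he (K.X i)
  let φ : ∀ i : I, K.X i ≅ e (o i) := fun i => (ho i).some
  let c : Code := ⟨ULift.up o, fun i j => (φ i).inv ≫ K.d i j ≫ (φ j).hom⟩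
  refine ⟨⟨c, K, hK, hK', φ, fun _ _ => rfl⟩, ?_⟩
  have hex : ∃ K, Real c K := ⟨K, hK, hK', φ, fun _ _ => rfl⟩
  change Nonempty (K ≅ hex.choose)
  suffices key : ∀ L, Real c L → Nonempty (K ≅ L) from key _ hex.choose_spec
  rintro L ⟨hL, hL', ψ, hψ⟩
  have hz : ∀ i, ¬ (a ≤ i ∧ i ≤ b) → IsZero (K.X i) ∧ IsZero (L.X i) := fun i hi => by
    rcases not_and_or.1 hi with h | h
    · exact ⟨K.isZero_of_isStrictlyGE a i (by omega), L.isZero_of_isStrictlyGE a i (by omega)⟩
    · exact ⟨K.isZero_of_isStrictlyLE b i (by omega), L.isZero_of_isStrictlyLE b i (by omega)⟩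
  refine ⟨HomologicalComplex.Hom.isoOfComponents
    (fun i => if hi : a ≤ i ∧ i ≤ b then (φ ⟨i, Finset.mem_Icc.2 hi⟩ ≪≫ (ψ ⟨i, Finset.mem_Icc.2 hi⟩).symm)
      else (hz i hi).1.iso (hz i hi).2) (fun i j _ => ?_)⟩
  by_cases hi : a ≤ i ∧ i ≤ b
  · by_cases hj : a ≤ j ∧ j ≤ b
    · rw [dif_pos hi, dif_pos hj]
      have h := hψ ⟨i, Finset.mem_Icc.2 hi⟩ ⟨j, Finset.mem_Icc.2 hj⟩
      change (φ ⟨i, Finset.mem_Icc.2 hi⟩).inv ≫ K.d i j ≫ (φ ⟨j, Finset.mem_Icc.2 hj⟩).hom =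
        (ψ ⟨i, Finset.mem_Icc.2 hi⟩).inv ≫ L.d i j ≫ (ψ ⟨j, Finset.mem_Icc.2 hj⟩).hom at h
      rw [Iso.trans_hom, Iso.trans_hom, Iso.symm_hom, Iso.symm_hom, Category.assoc,
        ← cancel_mono (ψ ⟨j, Finset.mem_Icc.2 hj⟩).hom]
      simp only [Category.assoc, Iso.inv_hom_id, Category.comp_id]
      exact ((φ _).inv_comp_eq.1 h).symm
    · exact (hz j hj).2.eq_of_tgt _ _
  · exact (hz i hi).1.eq_of_src _ _

/-- Let A be an abelian category which is countable: Hom(X, Y) is countable for all objects X, Y and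
there are countably many isomorphism classes of objects. Then the bounded derived category D^b(A) is
countable in the same sense. -/
theorem result
    {A : Type u} [Category.{v} A] [Abelian A] [HasDerivedCategory.{w} A]
    (hhom : ∀ X Y : A, Countable (X ⟶ Y))
    (hiso : ∃ e : ℕ → A, ∀ X : A, ∃ n : ℕ, Nonempty (X ≅ e n)) :
    (∀ K L : DerivedCategory.Bounded A, Countable (K ⟶ L)) ∧
      ∃ e : ℕ → DerivedCategory.Bounded A, ∀ K : DerivedCategory.Bounded A,
        ∃ n : ℕ, Nonempty (K ≅ e n) := by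
  obtain ⟨e, he⟩ := hiso
  have hQ : ∀ (K L : CochainComplex A ℤ) (a b : ℤ) (_ : K.IsStrictlyGE a) (_ : K.IsStrictlyLE b) (_ : L.IsStrictlyGE a),
      Countable (DerivedCategory.Q.obj K ⟶ DerivedCategory.Q.obj L) := fun K L a b _ _ _ => by
    obtain ⟨ι, hι, R, hR, hall⟩ := iso_countable hhom e he a b
    let W := Σ i : ι, {s : R i ⟶ K // IsIso (DerivedCategory.Q.map s)} × (R i ⟶ L)
    haveI : Countable W := by
      haveI : ∀ i, Countable (R i ⟶ K) := fun i => by
        haveI := (hR i).1; haveI := (hR i).2; exact hom_countable hhom _ _ a b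
      haveI : ∀ i, Countable (R i ⟶ L) := fun i => by
        haveI := (hR i).1; haveI := (hR i).2; exact hom_countable hhom _ _ a b
      infer_instance
    refine Function.Surjective.countable (f := fun w : W =>
      haveI := w.2.1.2; inv (DerivedCategory.Q.map w.2.1.1) ≫ DerivedCategory.Q.map w.2.2) fun f => ?_
    obtain ⟨X', h1, h2, s, hs, g, rfl⟩ := DerivedCategory.right_fac_of_isStrictlyLE_of_isStrictlyGE a b f
    obtain ⟨i, ⟨φ⟩⟩ := hall X' h1 h2
    refine ⟨⟨i, ⟨φ.inv ≫ s, by rw [Functor.map_comp]; infer_instance⟩, φ.inv ≫ g⟩, ?_⟩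
    simp
  have hK : ∀ K : DerivedCategory.Bounded A, ∃ (a b : ℤ) (K' : CochainComplex A ℤ), K'.IsStrictlyGE a ∧
      K'.IsStrictlyLE b ∧ Nonempty (K.obj ≅ DerivedCategory.Q.obj K') := fun K => by
    obtain ⟨⟨a, ha⟩, ⟨b, hb⟩⟩ := K.property
    haveI : K.obj.IsGE a := ha
    haveI : K.obj.IsLE b := hb
    obtain ⟨K', h1, h2, h⟩ := DerivedCategory.exists_iso_Q_obj_of_isGE_of_isLE K.obj a b
    exact ⟨a, b, K', h1, h2, h⟩
  refine ⟨fun K L => ?_, ?_⟩
  · obtain ⟨a, b, K', h1, h2, ⟨φ⟩⟩ := hK K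
    obtain ⟨a', b', L', h1', h2', ⟨ψ⟩⟩ := hK L
    haveI : K'.IsStrictlyGE (min a a') := CochainComplex.isStrictlyGE_of_ge _ (min a a') a (min_le_left _ _)
    haveI : L'.IsStrictlyGE (min a a') := CochainComplex.isStrictlyGE_of_ge _ (min a a') a' (min_le_right _ _)
    haveI := hQ K' L' (min a a') b inferInstance h2 inferInstance
    exact Function.Injective.countable (f := fun f : K ⟶ L => φ.inv ≫ f.hom ≫ ψ.hom) fun f g h =>
      ObjectProperty.hom_ext _ (by simpa using h)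
  · choose ι hι R hR hall using iso_countable hhom e he
    haveI := hι
    let W := Σ ab : ℤ × ℤ, {i : ι ab.1 ab.2 // (DerivedCategory.TStructure.t (C := A)).bounded (DerivedCategory.Q.obj (R ab.1 ab.2 i))}
    let mk : W → DerivedCategory.Bounded A := fun w => ⟨DerivedCategory.Q.obj (R w.1.1 w.1.2 w.2.1), w.2.2⟩
    have hmem : ∀ K : DerivedCategory.Bounded A, ∃ w, Nonempty (K ≅ mk w) := fun K => by
      obtain ⟨a, b, K', h1, h2, ⟨φ⟩⟩ := hK K
      obtain ⟨i, ⟨ψ⟩⟩ := hall a b K' h1 h2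
      exact ⟨⟨(a, b), i, ObjectProperty.prop_of_iso _ (φ ≪≫ DerivedCategory.Q.mapIso ψ) K.property⟩,
        ⟨ObjectProperty.isoMk _ (φ ≪≫ DerivedCategory.Q.mapIso ψ)⟩⟩
    rcases isEmpty_or_nonempty W with hW | hW
    · obtain ⟨Z, hZ, hZP⟩ := ObjectProperty.ContainsZero.exists_zero (P := (DerivedCategory.TStructure.t (C := A)).bounded)
      exact isEmptyElim (hmem ⟨Z, hZP⟩).choose
    · haveI : Countable W := inferInstance
      obtain ⟨s, hs⟩ := exists_surjective_nat W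
      refine ⟨fun n => mk (s n), fun K => ?_⟩
      obtain ⟨w, hw⟩ := hmem K
      obtain ⟨n, rfl⟩ := hs w
      exact ⟨n, hw⟩

end Groth.Agent.S6713
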