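import Groth.Statements.S6718
import Mathlib

set_option autoImplicit false
universe w v u
open CategoryTheory
open DEquiv


namespace Groth.Agent.S6718

set_option backward.isDefEq.respectTransparency false
set_option backward.defeqAttrib.useBackward true

noncomputable section

variable {k : Type w} [Field k] {T : Type u} [Category.{v} T] [Preadditive T] [Linear k T]
    [∀ X Y : T, Module.Finite k (X ⟶ Y)]

/-- Transposition of a perfect pairing. -/
def swapPairing {V W : Type v} [AddCommGroup V] [Module k V] [Module.Finite k V] [AddCommGroup W] [Module k W]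
    (e : W ≃ₗ[k] Module.Dual k V) : V ≃ₗ[k] Module.Dual k W :=
  (Module.evalEquiv k V).trans e.dualMap

lemma swapPairing_apply {V W : Type v} [AddCommGroup V] [Module k V] [Module.Finite k V] [AddCommGroup W] [Module k W]
    (e : W ≃ₗ[k] Module.Dual k V) (v : V) (w : W) : swapPairing e v w = e w v := rfl

variable (SX : T → T) (e : ∀ X Y : T, (Y ⟶ SX X) ≃ₗ[k] Module.Dual k (X ⟶ Y))
  (he : ∀ (X Y Y' : T) (g : Y' ⟶ Y) (f : Y ⟶ SX X), e X Y' (g ≫ f) = (e X Y f) ∘ₗ Linear.rightComp k X g)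

/-- Action on morphisms. -/
def smap (X' X : T) : (X' ⟶ X) ≃ₗ[k] (SX X' ⟶ SX X) := (swapPairing (e X' X)).trans (e X (SX X')).symm

include he

lemma smap_spec {X' X Y : T} (a : X' ⟶ X) (g : Y ⟶ SX X') (h : X ⟶ Y) :
    e X Y (g ≫ smap SX e X' X a) h = e X' Y g (a ≫ h) := by
  rw [he, LinearMap.comp_apply, Linear.rightComp_apply, smap, LinearEquiv.trans_apply, LinearEquiv.apply_symm_apply,
    swapPairing_apply, he X' Y X h g]
  simp

/-- The Serre functor. -/
def sfun : T ⥤ T where
  obj := SX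
  map {X' X} a := smap SX e X' X a
  map_id X := by
    apply (e X (SX X)).injective
    ext h
    have := smap_spec SX e he (𝟙 X) (𝟙 (SX X)) h
    simpa using this
  map_comp {X Y Z} a b := by
    apply (e Z (SX X)).injective
    ext h
    have h1 := smap_spec SX e he b (smap SX e X Y a) h
    have h2 := smap_spec SX e he a (𝟙 (SX X)) (b ≫ h)
    have h3 := smap_spec SX e he (a ≫ b) (𝟙 (SX X)) h
    simp only [Category.id_comp, Category.assoc] at h2 h3
    rw [h1, h2, h3]

end

open CategoryTheory.Limits CategoryTheory.Pretriangulated in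
/-- Let k be a field and T a k-linear (pre)triangulated category with dim_k Hom(X, Y) < ∞ for all X, Y.
The following are equivalent: (1) there are a k-linear equivalence S : T ⥤ T and k-linear
isomorphisms c_{X,Y} : Hom(X, Y) ≅ Hom(Y, S X)^∨ natural in X and in Y; (2) for every object X the
functor Y ↦ Hom(X, Y)^∨ is representable and the functor Y ↦ Hom(Y, X)^∨ is corepresentable, by
k-linear isomorphisms natural in Y. (Here V^∨ is the k-linear dual.) -/
theorem result
    {k : Type w} [Field k]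
    {T : Type u} [Category.{v} T] [Preadditive T] [Linear k T] [HasZeroObject T] [HasShift T ℤ]
    [∀ n : ℤ, (shiftFunctor T n).Additive] [∀ n : ℤ, (shiftFunctor T n).Linear k] [Pretriangulated T]
    [∀ X Y : T, Module.Finite k (X ⟶ Y)] :
    (∃ (S : T ≌ T) (_ : S.functor.Additive) (_ : S.functor.Linear k)
        (c : ∀ X Y : T, (X ⟶ Y) ≃ₗ[k] Module.Dual k (Y ⟶ S.functor.obj X)),
        (∀ (X Y Y' : T) (f : X ⟶ Y) (g : Y ⟶ Y'),
          c X Y' (f ≫ g) = (c X Y f) ∘ₗ Linear.leftComp k (S.functor.obj X) g) ∧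
        (∀ (X' X Y : T) (a : X' ⟶ X) (f : X ⟶ Y),
          c X' Y (a ≫ f) = (c X Y f) ∘ₗ Linear.rightComp k Y (S.functor.map a))) ↔
    ((∀ X : T, ∃ (SX : T) (e : ∀ Y : T, (Y ⟶ SX) ≃ₗ[k] Module.Dual k (X ⟶ Y)),
        ∀ (Y Y' : T) (g : Y' ⟶ Y) (f : Y ⟶ SX),
          e Y' (g ≫ f) = (e Y f) ∘ₗ Linear.rightComp k X g) ∧
      (∀ X : T, ∃ (RX : T) (e : ∀ Y : T, (RX ⟶ Y) ≃ₗ[k] Module.Dual k (Y ⟶ X)),
        ∀ (Y Y' : T) (g : Y ⟶ Y') (f : RX ⟶ Y),
          e Y' (f ≫ g) = (e Y f) ∘ₗ Linear.leftComp k X g)) := by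
  constructor
  · rintro ⟨S, _, _, c, hc₁, hc₂⟩
    refine ⟨fun X => ⟨S.functor.obj X, fun Y => swapPairing (c X Y), fun Y Y' g f => ?_⟩,
      fun X => ⟨S.inverse.obj X, fun Y => (c (S.inverse.obj X) Y).trans
        (LinearEquiv.dualMap (Linear.homCongr k (Iso.refl Y) (S.counitIso.app X).symm)), fun Y Y' g f => ?_⟩⟩
    · ext h
      change c X Y' h (g ≫ f) = c X Y (h ≫ g) f
      exact (LinearMap.congr_fun (hc₁ X Y' Y h g) f).symm
    · ext h
      have := LinearMap.congr_fun (hc₁ (S.inverse.obj X) Y Y' f g) ((Linear.homCongr k (Iso.refl Y') (S.counitIso.app X).symm) h)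
      refine this.trans ?_
      simp [Linear.homCongr_apply]
  · rintro ⟨hS, hR⟩
    choose SX e he using hS
    choose RX eR heR using hR
    let F := sfun SX e he
    haveI : F.Faithful := ⟨fun {X Y} f g h => (smap SX e X Y).injective h⟩
    haveI : F.Full := ⟨fun {X Y} g => (smap SX e X Y).surjective g⟩
    haveI : F.EssSurj := ⟨fun X => by
      let θ : ∀ Y : T, (Y ⟶ X) ≃ₗ[k] (Y ⟶ SX (RX X)) := fun Y => (swapPairing (eR X Y)).trans (e (RX X) Y).symm
      have hθ : ∀ (Y Y' : T) (g : Y' ⟶ Y) (u : Y ⟶ X), θ Y' (g ≫ u) = g ≫ θ Y u := fun Y Y' g u => by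
        apply (e (RX X) Y').injective
        ext h
        rw [he]
        simp only [θ, LinearEquiv.trans_apply, LinearEquiv.apply_symm_apply, LinearMap.comp_apply,
          Linear.rightComp_apply, swapPairing_apply, heR X Y' Y g h, Linear.leftComp_apply]
      exact ⟨RX X, ⟨(Yoneda.ext X (SX (RX X)) (fun {Z} u => θ Z u) (fun {Z} u => (θ Z).symm u)
        (fun u => (θ _).symm_apply_apply u) (fun u => (θ _).apply_symm_apply u)
        (fun g u => hθ _ _ g u)).symm⟩⟩⟩
    haveI : F.IsEquivalence := { }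
    haveI hadd : F.Additive := ⟨fun {X Y} f g => (smap SX e X Y).map_add f g⟩
    haveI hlin : F.Linear k := ⟨fun {X Y} f r => (smap SX e X Y).map_smul r f⟩
    refine ⟨F.asEquivalence, hadd, hlin, fun X Y => swapPairing (e X Y), fun X Y Y' f g => ?_, fun X' X Y a f => ?_⟩
    · ext h
      exact (LinearMap.congr_fun (he X Y' Y g h) f).symm
    · ext h
      exact (smap_spec SX e he a h f).symm

end Groth.Agent.S6718
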