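import Groth.Statements.S6731
import Mathlib

set_option autoImplicit false
universe w v u
open CategoryTheory
open DEquiv


namespace Groth.Agent.S6731

set_option backward.isDefEq.respectTransparency false
set_option backward.defeqAttrib.useBackward true

variable {k : Type w} [Field k] {T : Type u} [Category.{v} T] [Preadditive T] [Linear k T]
    [∀ X Y : T, Module.Finite k (X ⟶ Y)]
    (S S' : T ⥤ T)
    (c : ∀ X Y : T, (X ⟶ Y) ≃ₗ[k] Module.Dual k (Y ⟶ S.obj X))
    (c' : ∀ X Y : T, (X ⟶ Y) ≃ₗ[k] Module.Dual k (Y ⟶ S'.obj X))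

/-- The comparison map between two Serre functors. -/
noncomputable def cmp (X : T) : S.obj X ⟶ S'.obj X :=
  (Module.evalEquiv k (S.obj X ⟶ S'.obj X)).symm
    (((Module.Dual.eval k (S.obj X ⟶ S.obj X) (𝟙 _)).comp (c X (S.obj X)).toLinearMap).comp
      (c' X (S.obj X)).symm.toLinearMap)

omit [∀ X Y : T, Module.Finite k (X ⟶ Y)] in
lemma sep {X Y : T} {u v : Y ⟶ S'.obj X} (h : ∀ f, c' X Y f u = c' X Y f v) : u = v := by
  rw [← sub_eq_zero, ← Module.forall_dual_apply_eq_zero_iff k]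
  intro φ
  obtain ⟨f, rfl⟩ := (c' X Y).surjective φ
  rw [map_sub, h, sub_self]

lemma cmp_spec
    (hc₁ : ∀ (X Y Y' : T) (f : X ⟶ Y) (g : Y ⟶ Y'), c X Y' (f ≫ g) = (c X Y f) ∘ₗ Linear.leftComp k (S.obj X) g)
    (hc'₁ : ∀ (X Y Y' : T) (f : X ⟶ Y) (g : Y ⟶ Y'), c' X Y' (f ≫ g) = (c' X Y f) ∘ₗ Linear.leftComp k (S'.obj X) g)
    (X Y : T) (f : X ⟶ Y) (g : Y ⟶ S.obj X) : c X Y f g = c' X Y f (g ≫ cmp S S' c c' X) := by
  have h : ∀ e, c' X (S.obj X) e (cmp S S' c c' X) = c X (S.obj X) e (𝟙 _) := fun e => by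
    rw [cmp, Module.apply_evalEquiv_symm_apply]
    simp
  have h1 := LinearMap.congr_fun (hc₁ X Y (S.obj X) f g) (𝟙 _)
  have h2 := LinearMap.congr_fun (hc'₁ X Y (S.obj X) f g) (cmp S S' c c' X)
  simp only [LinearMap.comp_apply, Linear.leftComp_apply, Category.comp_id] at h1 h2
  rw [← h2, h, h1]

open CategoryTheory.Limits CategoryTheory.Pretriangulated in
/-- Let k be a field and T a k-linear triangulated category with dim_k Hom(X, Y) < ∞ for all X, Y. Let
(S, c) and (S', c') be Serre functors: k-linear equivalences T ⥤ T with k-linear isomorphisms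
c_{X,Y} : Hom(X, Y) ≅ Hom(Y, S X)^∨ natural in X and Y (likewise c'). Then there is a unique
isomorphism of functors φ : S ≅ S' compatible with c and c', i.e. c_{X,Y}(f) is c'_{X,Y}(f) composed
with postcomposition by φ_X. -/
theorem result
    {k : Type w} [Field k]
    {T : Type u} [Category.{v} T] [Preadditive T] [Linear k T] [HasZeroObject T] [HasShift T ℤ]
    [∀ n : ℤ, (shiftFunctor T n).Additive] [∀ n : ℤ, (shiftFunctor T n).Linear k] [Pretriangulated T]
    [IsTriangulated T] [∀ X Y : T, Module.Finite k (X ⟶ Y)]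
    (S : T ≌ T) [S.functor.Additive] [S.functor.Linear k]
    (c : ∀ X Y : T, (X ⟶ Y) ≃ₗ[k] Module.Dual k (Y ⟶ S.functor.obj X))
    (hc₁ : ∀ (X Y Y' : T) (f : X ⟶ Y) (g : Y ⟶ Y'),
      c X Y' (f ≫ g) = (c X Y f) ∘ₗ Linear.leftComp k (S.functor.obj X) g)
    (hc₂ : ∀ (X' X Y : T) (a : X' ⟶ X) (f : X ⟶ Y),
      c X' Y (a ≫ f) = (c X Y f) ∘ₗ Linear.rightComp k Y (S.functor.map a))
    (S' : T ≌ T) [S'.functor.Additive] [S'.functor.Linear k]
    (c' : ∀ X Y : T, (X ⟶ Y) ≃ₗ[k] Module.Dual k (Y ⟶ S'.functor.obj X))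
    (hc'₁ : ∀ (X Y Y' : T) (f : X ⟶ Y) (g : Y ⟶ Y'),
      c' X Y' (f ≫ g) = (c' X Y f) ∘ₗ Linear.leftComp k (S'.functor.obj X) g)
    (hc'₂ : ∀ (X' X Y : T) (a : X' ⟶ X) (f : X ⟶ Y),
      c' X' Y (a ≫ f) = (c' X Y f) ∘ₗ Linear.rightComp k Y (S'.functor.map a)) :
    ∃! φ : S.functor ≅ S'.functor, ∀ (X Y : T) (f : X ⟶ Y),
      c X Y f = (c' X Y f) ∘ₗ Linear.rightComp k Y (φ.hom.app X) := by
  have hs := cmp_spec S.functor S'.functor c c' hc₁ hc'₁
  have hs' := cmp_spec S'.functor S.functor c' c hc'₁ hc₁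
  let φ : S.functor ≅ S'.functor := NatIso.ofComponents
    (fun X =>
      { hom := cmp S.functor S'.functor c c' X
        inv := cmp S'.functor S.functor c' c X
        hom_inv_id := sep S.functor c fun f => by rw [← hs', ← Category.id_comp (cmp S.functor S'.functor c c' X), ← hs]
        inv_hom_id := sep S'.functor c' fun f => by rw [← hs, ← Category.id_comp (cmp S'.functor S.functor c' c X), ← hs'] })
    (fun {X' X} a => sep S'.functor c' fun f => by
      rw [← hs]
      have h1 := LinearMap.congr_fun (hc₂ X' X _ a f) (𝟙 _)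
      have h2 := LinearMap.congr_fun (hc'₂ X' X _ a f) (cmp S.functor S'.functor c c' X')
      simp only [LinearMap.comp_apply, Linear.rightComp_apply, Category.id_comp] at h1 h2
      rw [← h2, ← h1, hs, Category.id_comp])
  refine ⟨φ, fun X Y f => LinearMap.ext fun g => hs X Y f g, fun ψ hψ => ?_⟩
  refine Iso.ext (NatTrans.ext (funext fun X => sep S'.functor c' fun f => ?_))
  have h1 := LinearMap.congr_fun (hψ X _ f) (𝟙 _)
  simp only [LinearMap.comp_apply, Linear.rightComp_apply, Category.id_comp] at h1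
  rw [← h1]
  exact (hs X _ f (𝟙 _)).trans (by rw [Category.id_comp]; rfl)

end Groth.Agent.S6731
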