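import Groth.Statements.S6775
import Mathlib.CategoryTheory.Abelian.CommSq

set_option autoImplicit false
set_option backward.isDefEq.respectTransparency false
set_option backward.defeqAttrib.useBackward true
open CategoryTheory CategoryTheory.Limits
universe v u
open CategoryTheory CategoryTheory.Abelian

namespace Groth.Agent.S6775

/-- In an abelian category a cartesian square whose bottom arrow `k` is an epimorphism is also
cocartesian, and the arrow `f` opposite to `k` is an epimorphism. -/
theorem result {A : Type u} [Category.{v} A] [Abelian A] {w x y z : A} (f : w ⟶ y) (g : w ⟶ x) (h : y ⟶ z) (k : x ⟶ z) (sq : IsPullback f g h k) [Epi k] : IsPushout f g h k ∧ Epi f := by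
  have : Mono sq.shortComplex'.f := sq.mono_shortComplex'_f
  let e : sq.shortComplex' ≅ sq.toCommSq.shortComplex :=
    ShortComplex.isoMk (Iso.refl _) (biprod.mapIso (Iso.refl _) (-Iso.refl _)) (Iso.refl _)
      (by apply biprod.hom_ext <;> simp [CommSq.shortComplex]) (by apply biprod.hom_ext' <;> simp [CommSq.shortComplex])
  have hex : sq.toCommSq.shortComplex.Exact :=
    (ShortComplex.exact_iff_of_iso e).1 sq.exact_shortComplex'
  haveI : Epi sq.toCommSq.shortComplex.g := by
    haveI : Epi (biprod.inr ≫ biprod.desc h k) := by simpa using ‹Epi k›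
    exact epi_of_epi biprod.inr (biprod.desc h k)
  refine ⟨⟨sq.toCommSq, ⟨sq.toCommSq.isColimitEquivIsColimitCokernelCofork.symm
    hex.gIsCokernel⟩⟩, ?_⟩
  exact epi_fst_of_isLimit h k sq.isLimit

end Groth.Agent.S6775
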