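import Groth.Statements.S6776
import Mathlib.CategoryTheory.Abelian.CommSq

set_option autoImplicit false
set_option backward.isDefEq.respectTransparency false
set_option backward.defeqAttrib.useBackward true
open CategoryTheory CategoryTheory.Limits
universe v u
open CategoryTheory CategoryTheory.Abelian

namespace Groth.Agent.S6776

/-- In an abelian category a cocartesian square whose left arrow `g` is a monomorphism is also
cartesian, and the arrow `h` opposite to `g` is a monomorphism. -/
theorem result {A : Type u} [Category.{v} A] [Abelian A] {w x y z : A} (f : w ⟶ y) (g : w ⟶ x) (h : y ⟶ z) (k : x ⟶ z) (sq : IsPushout f g h k) [Mono g] : IsPullback f g h k ∧ Mono h := by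
  have : Epi sq.shortComplex.g := sq.epi_shortComplex_g
  let e : sq.shortComplex ≅ sq.toCommSq.shortComplex' :=
    ShortComplex.isoMk (Iso.refl _) (biprod.mapIso (Iso.refl _) (-Iso.refl _)) (Iso.refl _)
      (by apply biprod.hom_ext <;> simp [CommSq.shortComplex]) (by apply biprod.hom_ext' <;> simp [CommSq.shortComplex])
  have hex : sq.toCommSq.shortComplex'.Exact :=
    (ShortComplex.exact_iff_of_iso e).1 sq.exact_shortComplex
  haveI : Mono sq.toCommSq.shortComplex'.f := by
    haveI : Mono (biprod.lift f g ≫ biprod.snd) := by simpa using ‹Mono g›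
    exact mono_of_mono (biprod.lift f g) biprod.snd
  refine ⟨⟨sq.toCommSq, ⟨sq.toCommSq.isLimitEquivIsLimitKernelFork.symm
    hex.fIsKernel⟩⟩, ?_⟩
  exact mono_inl_of_isColimit f g sq.isColimit

end Groth.Agent.S6776
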