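import Groth.Statements.S6779
import Mathlib


set_option autoImplicit false
open CategoryTheory
universe u
open SSet

namespace Groth.Agent.S6779

universe u₀
open CategoryTheory Simplicial Opposite

section

variable (X : SimplicialObject GrpCat.{u₀}) {n : ℕ}




private theorem fill (i : Fin (n + 3)) (f : ∀ j : Fin (n + 3), j ≠ i → X _⦋n + 1⦌)
    (hf : ∀ (a : Fin (n + 2)) (b : Fin (n + 2)), a ≤ b → ∀ (ha : a.castSucc ≠ i) (hb : b.succ ≠ i),
      X.δ b (f a.castSucc ha) = X.δ a (f b.succ hb)) :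
    ∃ y : X _⦋n + 2⦌, ∀ (j : Fin (n + 3)) (hj : j ≠ i), X.δ j y = f j hj := by
  let S : SSet.{u₀} := X ⋙ forget GrpCat
  have dd : ∀ {m : ℕ} (a b : Fin (m + 2)) (_ : a ≤ b) (x : X _⦋m + 2⦌),
      X.δ a (X.δ b.succ x) = X.δ b (X.δ a.castSucc x) :=
    fun a b h x => SSet.δ_comp_δ_apply (S := S) h x
  have ds0 : ∀ {m : ℕ} (a : Fin (m + 1)) (x : X _⦋m⦌), X.δ a.castSucc (X.σ a x) = x :=
    fun a x => SSet.δ_comp_σ_self_apply (S := S) a x
  have ds1 : ∀ {m : ℕ} (a : Fin (m + 1)) (x : X _⦋m⦌), X.δ a.succ (X.σ a x) = x :=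
    fun a x => SSet.δ_comp_σ_succ_apply (S := S) a x
  have dsle : ∀ {m : ℕ} (a : Fin (m + 2)) (b : Fin (m + 1)) (_ : a ≤ b.castSucc) (x : X _⦋m + 1⦌),
      X.δ a.castSucc (X.σ b.succ x) = X.σ b (X.δ a x) :=
    fun a b h x => SSet.δ_comp_σ_of_le_apply (S := S) h x
  have dsgt : ∀ {m : ℕ} (a : Fin (m + 2)) (b : Fin (m + 1)) (_ : b.castSucc < a) (x : X _⦋m + 1⦌),
      X.δ a.succ (X.σ b.castSucc x) = X.σ b (X.δ a x) :=
    fun a b h x => SSet.δ_comp_σ_of_gt_apply (S := S) h x
  -- first stage: the faces below `i`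
  have low : ∀ k : ℕ, k ≤ (i : ℕ) → ∃ y : X _⦋n + 2⦌, ∀ (j : Fin (n + 3)) (hj : j ≠ i),
      (j : ℕ) < k → X.δ j y = f j hj := by
    intro k
    induction k with
    | zero => exact fun _ => ⟨1, fun j _ h => absurd h (Nat.not_lt_zero _)⟩
    | succ k ih =>
      intro hk
      obtain ⟨y, hy⟩ := ih (by omega)
      have hi := i.isLt
      let a : Fin (n + 2) := ⟨k, by omega⟩
      have ha : a.castSucc ≠ i := fun h => by
        have := congrArg Fin.val h; simp [a] at this; omega
      refine ⟨X.σ a (f a.castSucc ha * (X.δ a.castSucc y)⁻¹) * y, fun j hj hjk => ?_⟩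
      rw [map_mul]
      rcases Nat.lt_or_ge (j : ℕ) k with h | h
      · obtain ⟨b, hb⟩ : ∃ b : Fin (n + 1), b.succ = a :=
          ⟨⟨k - 1, by omega⟩, Fin.ext (by simp [a]; omega)⟩
        obtain ⟨c, rfl⟩ : ∃ c : Fin (n + 2), c.castSucc = j :=
          ⟨⟨(j : ℕ), by omega⟩, Fin.ext rfl⟩
        have hcb : c ≤ b.castSucc := by
          have := congrArg Fin.val hb
          simp [a] at this h ⊢
          simp [Fin.le_def]
          omega
        have hab : b.castSucc.succ = a.castSucc := by rw [← hb, Fin.castSucc_succ]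
        have h1 : X.δ c (f a.castSucc ha * (X.δ a.castSucc y)⁻¹) = 1 := by
          have e1 := hf c b.castSucc hcb hj (by rw [hab]; exact ha)
          simp only [hab] at e1
          have e2 := dd c b.castSucc hcb y
          rw [hab] at e2
          rw [map_mul, map_inv, e2, hy _ hj h, e1, mul_inv_cancel]
        have hkey : ∀ z, X.δ c.castSucc (X.σ a z) = X.σ b (X.δ c z) := fun z => by
          rw [← hb]; exact dsle c b hcb z
        rw [hkey, h1, map_one, one_mul, hy _ hj h]
      · obtain rfl : j = a.castSucc := Fin.ext (by simp [a]; omega)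
        rw [ds0, inv_mul_cancel_right]
  -- second stage: the faces above `i`, downwards
  have high : ∀ k : ℕ, (i : ℕ) + k ≤ n + 2 → ∃ y : X _⦋n + 2⦌, ∀ (j : Fin (n + 3)) (hj : j ≠ i),
      ((j : ℕ) < (i : ℕ) ∨ n + 2 < (j : ℕ) + k) → X.δ j y = f j hj := by
    intro k
    induction k with
    | zero =>
      intro _
      obtain ⟨y, hy⟩ := low i le_rfl
      refine ⟨y, fun j hj h => hy j hj ?_⟩
      have := j.isLt
      omega
    | succ k ih =>
      intro hk
      obtain ⟨y, hy⟩ := ih (by omega)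
      let a : Fin (n + 2) := ⟨n + 1 - k, by omega⟩
      have ha : a.succ ≠ i := fun h => by
        have := congrArg Fin.val h; simp [a] at this; omega
      refine ⟨X.σ a (f a.succ ha * (X.δ a.succ y)⁻¹) * y, fun j hj hjk => ?_⟩
      rw [map_mul]
      rcases eq_or_ne j a.succ with rfl | hne
      · rw [ds1, inv_mul_cancel_right]
      · have hne' : (j : ℕ) ≠ n + 2 - k := fun h => hne (Fin.ext (by simp [a]; omega))
        have hcase : (j : ℕ) < (i : ℕ) ∨ n + 2 < (j : ℕ) + k := by
          rcases hjk with h | h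
          · exact Or.inl h
          · exact Or.inr (by omega)
        rcases hcase with h | h
        · obtain ⟨c, rfl⟩ : ∃ c : Fin (n + 2), c.castSucc = j :=
            ⟨⟨(j : ℕ), by omega⟩, Fin.ext rfl⟩
          simp at h hne'
          obtain ⟨b, hb⟩ : ∃ b : Fin (n + 1), b.succ = a :=
            ⟨⟨n - k, by omega⟩, Fin.ext (by simp [a]; omega)⟩
          have hbv : (b : ℕ) + 1 = n + 1 - k := by
            have := congrArg Fin.val hb; simpa [a] using this
          have hcb : c ≤ b.castSucc := by simp [Fin.le_def]; omega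
          have hca : c ≤ a := by simp [Fin.le_def, a]; omega
          have h1 : X.δ c (f a.succ ha * (X.δ a.succ y)⁻¹) = 1 := by
            rw [map_mul, map_inv, dd c a hca, hy _ hj (Or.inl (by simpa using h)), hf c a hca hj ha,
              mul_inv_cancel]
          have hkey : ∀ z, X.δ c.castSucc (X.σ a z) = X.σ b (X.δ c z) := fun z => by
            rw [← hb]; exact dsle c b hcb z
          rw [hkey, h1, map_one, one_mul, hy _ hj (Or.inl (by simpa using h))]
        · obtain ⟨c, rfl⟩ : ∃ c : Fin (n + 2), c.succ = j :=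
            ⟨⟨(j : ℕ) - 1, by omega⟩, Fin.ext (by simp; omega)⟩
          simp at h
          have hc := c.isLt
          obtain ⟨b, hb⟩ : ∃ b : Fin (n + 1), b.castSucc = a :=
            ⟨⟨n + 1 - k, by omega⟩, Fin.ext (by simp [a])⟩
          have hbv : (b : ℕ) = n + 1 - k := by
            have := congrArg Fin.val hb; simpa [a] using this
          have hlt : b.castSucc < c := by simp [Fin.lt_def]; omega
          obtain ⟨a', ha'⟩ : ∃ a' : Fin (n + 2), a'.castSucc = a.succ :=
            ⟨⟨n + 2 - k, by omega⟩, Fin.ext (by simp [a]; omega)⟩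
          have hac : a' ≤ c := by
            have := congrArg Fin.val ha'
            simp [a] at this
            show (a' : ℕ) ≤ (c : ℕ)
            omega
          have h1 : X.δ c (f a.succ ha * (X.δ a.succ y)⁻¹) = 1 := by
            have e1 := hf a' c hac (by rw [ha']; exact ha) hj
            simp only [ha'] at e1
            have e2 := dd a' c hac y
            rw [ha'] at e2
            rw [map_mul, map_inv, e1, ← e2, hy _ hj (Or.inr (by simp; omega)), mul_inv_cancel]
          have hkey : ∀ z, X.δ c.succ (X.σ a z) = X.σ b (X.δ c z) := fun z => by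
            rw [← hb]; exact dsgt c b hlt z
          rw [hkey, h1, map_one, one_mul, hy _ hj (Or.inr (by simp; omega))]
  obtain ⟨y, hy⟩ := high (n + 2 - i) (by have := i.isLt; omega)
  refine ⟨y, fun j hj => hy j hj ?_⟩
  have hne : (j : ℕ) ≠ (i : ℕ) := fun h => hj (Fin.ext h)
  have := i.isLt
  omega

end



/-- The underlying simplicial set of a simplicial group is a Kan complex. -/
theorem result (X : SimplicialObject GrpCat.{u}) : SSet.KanComplex (X ⋙ forget GrpCat.{u}) := by
  rw [SSet.KanComplex.iff]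
  intro n i f hf
  suffices ∃ y : (X ⋙ forget GrpCat) _⦋n + 1⦌, ∀ (j : Fin (n + 2)) (hj : j ≠ i),
      SimplicialObject.δ (X ⋙ forget GrpCat) j y = SSet.yonedaEquiv (f j hj) by
    obtain ⟨y, hy⟩ := this
    refine ⟨SSet.yonedaEquiv.symm y, fun j hj => ?_⟩
    rw [SSet.stdSimplex.δ_comp_yonedaEquiv_symm, hy, Equiv.symm_apply_apply]
  cases n with
  | zero =>
    refine ⟨SimplicialObject.σ (X ⋙ forget GrpCat) 0 (SSet.yonedaEquiv (f (if i = 0 then 1 else 0)
      (by split <;> grind))), fun j hj => ?_⟩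
    fin_cases i <;> fin_cases j <;> simp at hj ⊢
    · exact SSet.δ_comp_σ_succ_apply (S := X ⋙ forget GrpCat) (0 : Fin 1) _
    · exact SSet.δ_comp_σ_self_apply (S := X ⋙ forget GrpCat) (0 : Fin 1) _
  | succ n =>
    refine fill X i (fun j hj => SSet.yonedaEquiv (f j hj)) fun a b hab ha hb => ?_
    have h0 := (SSet.horn.isCompatible_iff f).1 hf a.castSucc b.succ ha hb
      (Fin.castSucc_lt_succ_iff.2 hab)
    simp only [Fin.pred_succ, Fin.castPred_castSucc] at h0
    have h := congrArg SSet.yonedaEquiv h0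
    rw [SSet.stdSimplex.yonedaEquiv_δ_comp, SSet.stdSimplex.yonedaEquiv_δ_comp] at h
    exact h

end Groth.Agent.S6779
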