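import Groth.Statements.S6782
import Groth.Agent.SSetLib.TrivFib

set_option autoImplicit false
open CategoryTheory Opposite
universe u
open SSet

open Simplicial Opposite Groth.Agent.Hypercov Groth.Agent.SSetLib

namespace Groth.Agent.S6782

set_option backward.isDefEq.respectTransparency false
set_option backward.defeqAttrib.useBackward true

/-- A map of `n`-coskeletal simplicial sets which is bijective on simplices of dimension `< n` and
surjective on `n`-simplices is a trivial Kan fibration. -/
theorem result {U V : SSet.{u}} (f : V ⟶ U) (n : ℕ) (h1 : ∀ i : ℕ, i < n → Function.Bijective (f.app (op (SimplexCategory.mk i)))) (h2 : Function.Surjective (f.app (op (SimplexCategory.mk n)))) [SimplicialObject.IsCoskeletal U n] [SimplicialObject.IsCoskeletal V n] : SSet.modelCategoryQuillen.I.rlp f := by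
  refine rlp_I f ?_ fun k y hy w hw => ?_
  · rcases Nat.eq_zero_or_pos n with rfl | hn
    · exact h2
    · exact (h1 0 hn).2
  · by_cases hk : n ≤ k
    · obtain ⟨v, hv⟩ := (trOf_bijective_of_isCoskeletal n V ⦋k + 1⦌).2 (bdryTr hk y hy)
      refine ⟨v, ?_, fun i => (trOf_bijective_of_isCoskeletal n V ⦋k⦌).1 (δ_trOf_of_trOf_eq hk hv i)⟩
      refine (trOf_bijective_of_isCoskeletal n U ⦋k + 1⦌).1 ?_
      have hz : IsBdry (X := U) (fun i => f.app (op ⦋k⦌) (y i)) := fun p a b i j h => by
        rw [← NatTrans.naturality_apply f, ← NatTrans.naturality_apply f, hy a b i j h]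
      rw [trOf_eq_bdryTr hk hz hw, ← trOf_natural f, hv]
      exact bdryTr_natural f hk hy hz fun i => rfl
    · have hs : Function.Surjective (f.app (op ⦋k + 1⦌)) := by
        rcases Nat.lt_or_ge (k + 1) n with h | h
        · exact (h1 _ h).2
        · obtain rfl : k + 1 = n := by omega
          exact h2
      obtain ⟨v, rfl⟩ := hs w
      refine ⟨v, rfl, fun i => (h1 k (by omega)).1 ?_⟩
      rw [← hw i]
      exact NatTrans.naturality_apply f (SimplexCategory.δ i).op v

end Groth.Agent.S6782
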