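import Groth.Statements.S6783
import Mathlib

set_option autoImplicit false
open CategoryTheory
universe u
open SSet


namespace Groth.Agent.S6783

set_option backward.isDefEq.respectTransparency false
set_option backward.defeqAttrib.useBackward true

open Simplicial Opposite CategoryTheory.Limits

variable {A B : Type u} (f : A ⟶ B)

lemma exists_elem (b : B) {k : SimplexCategoryᵒᵖ} (a : Fin (k.unop.len + 1) → A) (ha : ∀ i, f (a i) = b) :
    ∃ x : (Arrow.mk f).cechNerve.obj k, (WidePullback.base (B := (Arrow.mk f).right) (objs := fun _ : Fin (k.unop.len + 1) => (Arrow.mk f).left) (fun _ => (Arrow.mk f).hom)) x = b ∧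
      ∀ i, (WidePullback.π (fun _ : Fin (k.unop.len + 1) => (Arrow.mk f).hom) i) x = a i := by
  let l : PUnit.{u + 1} ⟶ widePullback (Arrow.mk f).right (fun _ : Fin (k.unop.len + 1) => (Arrow.mk f).left) (fun _ => (Arrow.mk f).hom) :=
    WidePullback.lift (TypeCat.ofHom fun _ => b) (fun i => TypeCat.ofHom fun _ => a i) (fun i => by ext; exact ha i)
  have h1 : l ≫ WidePullback.base (fun _ : Fin (k.unop.len + 1) => (Arrow.mk f).hom) = TypeCat.ofHom fun _ => b :=
    WidePullback.lift_base _ _ _ _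
  refine ⟨l PUnit.unit, ConcreteCategory.congr_hom h1 PUnit.unit, fun i => ?_⟩
  have h2 : l ≫ WidePullback.π (fun _ : Fin (k.unop.len + 1) => (Arrow.mk f).hom) i = TypeCat.ofHom fun _ => a i :=
    WidePullback.lift_π _ _ _ _ i
  exact ConcreteCategory.congr_hom h2 PUnit.unit

lemma elem_ext {k : SimplexCategoryᵒᵖ} {x y : (Arrow.mk f).cechNerve.obj k}
    (hb : (WidePullback.base (fun _ : Fin (k.unop.len + 1) => (Arrow.mk f).hom)) x = (WidePullback.base (fun _ : Fin (k.unop.len + 1) => (Arrow.mk f).hom)) y)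
    (hp : ∀ i, (WidePullback.π (fun _ : Fin (k.unop.len + 1) => (Arrow.mk f).hom) i) x = (WidePullback.π (fun _ : Fin (k.unop.len + 1) => (Arrow.mk f).hom) i) y) : x = y := by
  have h : (TypeCat.ofHom fun _ : PUnit.{u + 1} => x : PUnit ⟶ _) = TypeCat.ofHom fun _ => y :=
    WidePullback.hom_ext _ _ _ (fun i => by ext; exact hp i) (by ext; exact hb)
  exact ConcreteCategory.congr_hom h PUnit.unit

lemma π_map {k l : SimplexCategoryᵒᵖ} (g : k ⟶ l) (x : (Arrow.mk f).cechNerve.obj k) (j : Fin (l.unop.len + 1)) :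
    (WidePullback.π (fun _ : Fin (l.unop.len + 1) => (Arrow.mk f).hom) j) ((Arrow.mk f).cechNerve.map g x) =
      (WidePullback.π (fun _ : Fin (k.unop.len + 1) => (Arrow.mk f).hom) (g.unop.toOrderHom j)) x := by
  have h : (Arrow.mk f).cechNerve.map g ≫ WidePullback.π (fun _ : Fin (l.unop.len + 1) => (Arrow.mk f).hom) j =
      WidePullback.π (fun _ : Fin (k.unop.len + 1) => (Arrow.mk f).hom) (g.unop.toOrderHom j) := WidePullback.lift_π _ _ _ _ _
  exact ConcreteCategory.congr_hom h x

/-- For a surjective map of sets `f : A → B`, the augmentation from the Čech nerve of `f` (with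
`n`-simplices the `(n+1)`-fold fibre product of `A` over `B`) to the constant simplicial set `B` is
a trivial Kan fibration. -/
theorem result {A B : Type u} (f : A ⟶ B) (hf : Function.Surjective f) : SSet.modelCategoryQuillen.I.rlp (Arrow.mk f).augmentedCechNerve.hom := by
  intro U V i hi
  obtain ⟨n⟩ := hi
  refine ⟨fun {top bot} sq => ⟨?_⟩⟩
  let N := (Arrow.mk f).cechNerve
  let e : Δ[n].obj (op ⦋n⦌) := SSet.stdSimplex.objEquiv.symm (𝟙 _)
  let b : B := bot.app (op ⦋n⦌) e
  let v : Fin (n + 1) → Δ[n].obj (op ⦋0⦌) := fun j => SSet.stdSimplex.objEquiv.symm (SimplexCategory.const ⦋0⦌ ⦋n⦌ j)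
  have hbot : ∀ (k : SimplexCategoryᵒᵖ) (s : Δ[n].obj k), bot.app k s = b := fun k s => by
    have h := ConcreteCategory.congr_hom (bot.naturality (SSet.stdSimplex.objEquiv s).op) e
    have he : Δ[n].map (SSet.stdSimplex.objEquiv s).op e = s := (SSet.stdSimplex.map_objEquiv_symm _ _).trans (by simp)
    exact (congrArg (fun t => bot.app k t) he).symm.trans h
  have hbase : ∀ (k : SimplexCategoryᵒᵖ) (u : (∂Δ[n] : SSet.{u}).obj k),
      (WidePullback.base (fun _ : Fin (k.unop.len + 1) => (Arrow.mk f).hom)) (top.app k u) = b := fun k u =>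
    (ConcreteCategory.congr_hom (NatTrans.congr_app sq.w k) u).trans (hbot k _)
  obtain ⟨a, ha, hva⟩ : ∃ a : Fin (n + 1) → A, (∀ j, f (a j) = b) ∧ ∀ j (h : v j ∈ (∂Δ[n]).obj _),
      (WidePullback.π (fun _ : Fin ((op ⦋0⦌).unop.len + 1) => (Arrow.mk f).hom) 0) (top.app _ ⟨v j, h⟩) = a j := by
    classical
    refine ⟨fun j => if h : v j ∈ (∂Δ[n]).obj _ then
      (WidePullback.π (fun _ : Fin ((op ⦋0⦌).unop.len + 1) => (Arrow.mk f).hom) 0) (top.app _ ⟨v j, h⟩)
      else (hf b).choose, fun j => ?_, fun j h => by simp only []; rw [dif_pos h]⟩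
    change f (dite _ _ _) = b
    split_ifs with h
    · exact (ConcreteCategory.congr_hom (WidePullback.π_arrow _ _) _).trans (hbase _ ⟨v j, h⟩)
    · exact (hf b).choose_spec
  choose x hxb hxp using fun (k : SimplexCategoryᵒᵖ) (s : Δ[n].obj k) =>
    exists_elem f b (k := k) (fun j => a ((SSet.stdSimplex.objEquiv s).toOrderHom j)) (fun j => ha _)
  refine ⟨{ l := { app := fun k => TypeCat.ofHom (x k), naturality := fun k l g => ?_ }, fac_left := ?_, fac_right := ?_ }⟩
  · ext s
    refine elem_ext f ?_ fun j => ?_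
    · exact (hxb _ _).trans ((ConcreteCategory.congr_hom (WidePullback.lift_base _ _ _ _) _).trans (hxb _ _)).symm
    · refine (hxp _ _ j).trans ?_
      exact ((π_map f g _ j).trans (hxp k s _)).symm
  · ext k u
    refine elem_ext f ((hxb _ _).trans (hbase k u).symm) fun j => (hxp _ _ j).trans ?_
    have hmem : v ((SSet.stdSimplex.objEquiv u.1).toOrderHom j) ∈ (∂Δ[n]).obj _ :=
      (∂Δ[n]).map (SimplexCategory.const ⦋0⦌ k.unop j).op u.2
    refine (hva _ hmem).symm.trans ?_
    have hnat := ConcreteCategory.congr_hom (top.naturality (SimplexCategory.const ⦋0⦌ k.unop j).op) u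
    exact (congrArg (fun t => (WidePullback.π (fun _ : Fin ((op ⦋0⦌).unop.len + 1) => (Arrow.mk f).hom) 0) t) hnat).trans
      (π_map f (SimplexCategory.const ⦋0⦌ k.unop j).op _ (0 : Fin ((op ⦋0⦌).unop.len + 1)))
  · ext k s
    exact (hxb k s).trans (hbot k s).symm

end Groth.Agent.S6783
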