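import Groth.Statements.S6784
import Mathlib

set_option autoImplicit false
open CategoryTheory
universe u
open SSet


namespace Groth.Agent.S6784

set_option backward.isDefEq.respectTransparency false
set_option backward.defeqAttrib.useBackward true

open Opposite Simplicial

variable {n : ℕ}

/-- Evaluation of a simplex of the standard simplex at a vertex. -/
def ev {k : SimplexCategoryᵒᵖ} (x : (SSet.stdSimplex.{u}.obj ⦋n⦌).obj k) (i : Fin (k.unop.len + 1)) : Fin (n + 1) :=
  (SSet.stdSimplex.objEquiv x).toOrderHom i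

lemma ev_map {k l : SimplexCategoryᵒᵖ} (g : k ⟶ l) (x : (SSet.stdSimplex.{u}.obj ⦋n⦌).obj k)
    (i : Fin (l.unop.len + 1)) :
    ev ((SSet.stdSimplex.{u}.obj ⦋n⦌).map g x) i = ev x (g.unop.toOrderHom i) := rfl

lemma ev_ext {k : SimplexCategoryᵒᵖ} {x y : (SSet.stdSimplex.{u}.obj ⦋n⦌).obj k} (h : ∀ i, ev x i = ev y i) :
    x = y :=
  SSet.stdSimplex.objEquiv.injective (SimplexCategory.Hom.ext _ _ (OrderHom.ext _ _ (funext h)))

/-- The standard simplex `Δ[n]` is `1`-coskeletal, i.e. it is the right Kan extension of its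
`1`-truncation. -/
theorem result (n : ℕ) : SimplicialObject.IsCoskeletal (SSet.stdSimplex.{u}.obj (SimplexCategory.mk n)) 1 := by
  rw [SimplicialObject.isCoskeletal_iff]
  let L := (SimplexCategory.Truncated.inclusion 1).op
  let o0 : (SimplexCategory.Truncated 1)ᵒᵖ := op ⟨⦋0⦌, Nat.zero_le _⟩
  let o1 : (SimplexCategory.Truncated 1)ᵒᵖ := op ⟨⦋1⦌, le_rfl⟩
  refine ⟨⟨Limits.IsTerminal.ofUniqueHom (fun s => ?_) ?_⟩⟩
  · let G := s.left
    let β := s.hom
    let V : ∀ k : SimplexCategoryᵒᵖ, G.obj k → Fin (k.unop.len + 1) → Fin (n + 1) := fun k x i =>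
      ev (β.app o0 (G.map (SimplexCategory.const ⦋0⦌ k.unop i).op x)) 0
    have hβ : ∀ (j : (SimplexCategory.Truncated 1)ᵒᵖ) (x : G.obj (L.obj j)) (i : Fin (j.unop.obj.len + 1)),
        ev (β.app j x) i = V (L.obj j) x i := fun j x i => by
      have h := ConcreteCategory.congr_hom (β.naturality
        ((InducedCategory.homMk (SimplexCategory.const ⦋0⦌ j.unop.obj i) :
          (⟨⦋0⦌, Nat.zero_le _⟩ : SimplexCategory.Truncated 1) ⟶ j.unop).op : j ⟶ o0)) x
      exact (congrArg (fun y => ev y 0) h).symm
    have hmono : ∀ k x, Monotone (V k x) := fun k x i i' hle => by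
      let e : ⦋1⦌ ⟶ k.unop := SimplexCategory.mkOfLe i i' hle
      have key : ∀ a : Fin 2, V k x (e.toOrderHom a) = ev (β.app o1 (G.map e.op x)) a := fun a => by
        refine Eq.trans ?_ (hβ o1 (G.map e.op x) a).symm
        change ev (β.app o0 (G.map (SimplexCategory.const ⦋0⦌ k.unop (e.toOrderHom a)).op x)) 0 =
          ev (β.app o0 (G.map (SimplexCategory.const ⦋0⦌ ⦋1⦌ a).op (G.map e.op x))) 0
        rw [← SimplexCategory.const_comp, op_comp, Functor.map_comp]
        rfl
      exact ((key 0).le.trans ((SSet.stdSimplex.objEquiv (β.app o1 (G.map e.op x))).toOrderHom.monotone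
        (Fin.zero_le (1 : Fin 2)))).trans (key 1).ge
    refine CostructuredArrow.homMk
      { app := fun k => TypeCat.ofHom fun x => SSet.stdSimplex.objMk ⟨V k x, hmono k x⟩
        naturality := fun k l g => by
          ext x
          refine ev_ext fun i => ?_
          change ev (β.app o0 (G.map (SimplexCategory.const ⦋0⦌ l.unop i).op (G.map g x))) 0 =
            V k x (g.unop.toOrderHom i)
          have : g ≫ (SimplexCategory.const ⦋0⦌ l.unop i).op = (SimplexCategory.const ⦋0⦌ k.unop (g.unop.toOrderHom i)).op := by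
            apply Quiver.Hom.unop_inj
            exact SimplexCategory.const_comp _ _ _
          refine congrArg (fun y => ev (β.app o0 y) 0) ?_
          exact (ConcreteCategory.congr_hom (G.map_comp _ _).symm x).trans (by rw [this]) } ?_
    ext j x
    exact ev_ext fun i => (hβ j x i).symm
  · intro s g
    apply CostructuredArrow.hom_ext
    ext k x
    refine ev_ext fun i => ?_
    have h1 := ConcreteCategory.congr_hom (NatTrans.congr_app (CostructuredArrow.w g) o0)
      (s.left.map (SimplexCategory.const ⦋0⦌ k.unop i).op x)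
    have h2 := ConcreteCategory.congr_hom (g.left.naturality (SimplexCategory.const ⦋0⦌ k.unop i).op) x
    exact ((congrArg (fun y => ev y 0) h2).symm.trans (congrArg (fun y => ev y 0) h1))

end Groth.Agent.S6784
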