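import Groth.Statements.S6785
import Mathlib

set_option autoImplicit false
open CategoryTheory
universe u
open SSet


namespace Groth.Agent.S6785

set_option backward.isDefEq.respectTransparency false
set_option backward.defeqAttrib.useBackward true

open Simplicial MonoidalCategory CartesianMonoidalCategory Opposite

/-- Two copies of a simplicial set. -/
def dbl (X : SSet.{u}) : SSet.{u} where
  obj k := X.obj k ⊕ X.obj k
  map f := TypeCat.ofHom (Sum.map (X.map f) (X.map f))
  map_id k := by ext (x | x) <;> simp
  map_comp f g := by ext (x | x) <;> simp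

/-- Map out of two copies. -/
def dblDesc {X Y : SSet.{u}} (a b : X ⟶ Y) : dbl X ⟶ Y where
  app k := TypeCat.ofHom (Sum.elim (a.app k) (b.app k))
  naturality k l f := by
    ext (x | x)
    · exact ConcreteCategory.congr_hom (a.naturality f) x
    · exact ConcreteCategory.congr_hom (b.naturality f) x

lemma mono_ends (X : SSet.{u}) : Mono (dblDesc (SSet.ι₀ (X := X)) SSet.ι₁) := by
  haveI : ∀ k, Mono ((dblDesc (SSet.ι₀ (X := X)) SSet.ι₁).app k) := fun k => by
    rw [mono_iff_injective]
    rintro (x | x) (y | y) h
    · exact congrArg Sum.inl (congrArg Prod.fst h :)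
    · exfalso
      have h2 := congrArg (fun t => (SSet.stdSimplex.objEquiv t).toOrderHom 0) (congrArg Prod.snd h :)
      exact absurd (show (0 : Fin 2) = 1 from h2) (by decide)
    · exfalso
      have h2 := congrArg (fun t => (SSet.stdSimplex.objEquiv t).toOrderHom 0) (congrArg Prod.snd h :)
      exact absurd (show (1 : Fin 2) = 0 from h2) (by decide)
    · exact congrArg Sum.inr (congrArg Prod.fst h :)
  exact NatTrans.mono_of_mono_app _

/-- A trivial Kan fibration `f : X ⟶ Y` of simplicial sets is a homotopy equivalence; more precisely it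
has a section `g`, and `g ∘ f` is homotopic to the identity of `X` by a single homotopy in each
direction. (The published statement only asserts a homotopy equivalence; the section and the
one-step homotopies are what its proof constructs.) -/
theorem result {X Y : SSet.{u}} (f : X ⟶ Y) (hf : SSet.modelCategoryQuillen.I.rlp f) : ∃ g : Y ⟶ X, g ≫ f = 𝟙 Y ∧ Nonempty (SSet.Homotopy (𝟙 X) (f ≫ g)) ∧ Nonempty (SSet.Homotopy (f ≫ g) (𝟙 X)) := by
  have hm : (MorphismProperty.monomorphisms SSet.{u}).rlp f := by rw [SSet.rlp_monomorphisms]; exact hf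
  have sq : CommSq (SSet.Subcomplex.isInitialBot.to X) (⊥ : Y.Subcomplex).ι f (𝟙 Y) :=
    ⟨SSet.Subcomplex.isInitialBot.hom_ext _ _⟩
  haveI := hm _ (MorphismProperty.monomorphisms.infer_property (⊥ : Y.Subcomplex).ι)
  refine ⟨sq.lift, sq.fac_right, ?_⟩
  haveI := mono_ends X
  haveI := hm _ (MorphismProperty.monomorphisms.infer_property (dblDesc (SSet.ι₀ (X := X)) SSet.ι₁))
  have key : ∀ a b : X ⟶ X, a ≫ f = f → b ≫ f = f → Nonempty (SSet.Homotopy a b) := fun a b ha hb => by
    have sq' : CommSq (dblDesc a b) (dblDesc (SSet.ι₀ (X := X)) SSet.ι₁) f (fst X Δ[1] ≫ f) := ⟨by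
      ext k (x | x)
      · exact ConcreteCategory.congr_hom (NatTrans.congr_app ha k) x
      · exact ConcreteCategory.congr_hom (NatTrans.congr_app hb k) x⟩
    refine ⟨{ h := sq'.lift, h₀ := ?_, h₁ := ?_, rel := ?_ }⟩
    · ext k x
      exact ConcreteCategory.congr_hom (NatTrans.congr_app sq'.fac_left k) (Sum.inl x : (dbl X).obj k)
    · ext k x
      exact ConcreteCategory.congr_hom (NatTrans.congr_app sq'.fac_left k) (Sum.inr x : (dbl X).obj k)
    · ext k x
      exact x.1.2.elim
  exact ⟨key _ _ (Category.id_comp f) (by rw [Category.assoc, sq.fac_right, Category.comp_id]),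
    key _ _ (by rw [Category.assoc, sq.fac_right, Category.comp_id]) (Category.id_comp f)⟩

end Groth.Agent.S6785
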