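import Groth.Statements.S6787
import Groth.Agent.TowerLib.Basic
-- import your own Groth.Agent.* helpers here

set_option autoImplicit false
open CategoryTheory CategoryTheory.Limits
universe u
open HomAlg3

namespace Groth.Agent.S6787

/-- Take inverse systems `(A_i)`, `(B_i)`, `(C_i)` of abelian groups over `ℕ`, with morphisms of systems
`(A_i) ⟶ (B_i) ⟶ (C_i)` that give a short exact sequence at every index, and suppose `(C_i)` is
essentially constant. Then `(A_i)` is Mittag-Leffler if and only if `(B_i)` is. -/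
theorem result {A B C : ℕᵒᵖ ⥤ AddCommGrpCat.{u}} (a : A ⟶ B) (b : B ⟶ C) (ha : ∀ i, Function.Injective (a.app i).hom) (hb : ∀ i, Function.Surjective (b.app i).hom) (hex : ∀ i, (b.app i).hom.ker = (a.app i).hom.range) (hC : ∃ (C₀ : AddCommGrpCat.{u}) (c : (Functor.const ℕᵒᵖ).obj C₀ ⟶ C), DerCA.IsEssConstant C C₀ c) : (A ⋙ forget AddCommGrpCat).IsMittagLeffler ↔ (B ⋙ forget AddCommGrpCat).IsMittagLeffler := by
  have nat : ∀ {P Q : ℕᵒᵖ ⥤ AddCommGrpCat.{u}} (f : P ⟶ Q) {i j : ℕ} (h : i ≤ j) (x : P.obj (Opposite.op j)),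
      (f.app (Opposite.op i)).hom (TowerLib.tr P h x) = TowerLib.tr Q h ((f.app (Opposite.op j)).hom x) := fun f _ _ h x =>
    ConcreteCategory.congr_hom (f.naturality (homOfLE h).op) x
  obtain ⟨C₀, c, I, s, hs, hess⟩ := hC
  have hcnat : ∀ {i j : ℕ} (h : i ≤ j) (w : C₀), TowerLib.tr C h ((c.app (Opposite.op j)).hom w) = (c.app (Opposite.op i)).hom w :=
    fun h w => (ConcreteCategory.congr_hom (c.naturality (homOfLE h).op) w).symm
  have hess' : ∀ j : ℕ, ∃ (k : ℕ) (hi : I ≤ k) (hj : j ≤ k), ∀ z,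
      TowerLib.tr C hj z = (c.app (Opposite.op j)).hom (s.hom (TowerLib.tr C hi z)) := fun j => by
    obtain ⟨k, hi, hj, he⟩ := hess j
    exact ⟨k, hi, hj, fun z => ConcreteCategory.congr_hom he z⟩
  rw [TowerLib.isMittagLeffler_iff, TowerLib.isMittagLeffler_iff]
  constructor
  · intro hA i
    obtain ⟨i', hii', hi'⟩ := hA i
    obtain ⟨k, hIk, hk, hkz⟩ := hess' i'
    refine ⟨k, hii'.trans hk, fun l hl x => ?_⟩
    let w := s.hom (TowerLib.tr C hIk ((b.app (Opposite.op k)).hom x))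
    obtain ⟨xl, hxl⟩ := hb (Opposite.op l) ((c.app (Opposite.op l)).hom w)
    have hd : TowerLib.tr B hk x - TowerLib.tr B (hk.trans hl) xl ∈ (a.app (Opposite.op i')).hom.range := by
      rw [← hex, AddMonoidHom.mem_ker, map_sub, nat, nat, hxl, hcnat, hkz, sub_self]
    obtain ⟨α, hα⟩ := hd
    obtain ⟨v, hv⟩ := hi' l (hk.trans hl) α
    refine ⟨(a.app (Opposite.op l)).hom v + xl, ?_⟩
    rw [map_add, ← nat, hv, nat, hα, map_sub, TowerLib.tr_tr, TowerLib.tr_tr]
    abel
  · intro hB i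
    obtain ⟨j, hij, hj⟩ := hB (max i I)
    refine ⟨j, (le_max_left i I).trans hij, fun l hl x => ?_⟩
    obtain ⟨l', hIl', hll', hz⟩ := hess' l
    obtain ⟨y, hy⟩ := hj l' (hl.trans hll') ((a.app (Opposite.op j)).hom x)
    let m := max i I
    let w := s.hom (TowerLib.tr C hIl' ((b.app (Opposite.op l')).hom y))
    have h0 : (b.app (Opposite.op m)).hom (TowerLib.tr B (hij.trans (hl.trans hll')) y) = 0 := by
      rw [hy, ← nat, ← AddMonoidHom.mem_ker, hex]
      exact ⟨_, rfl⟩
    have hw : w = 0 := by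
      rw [nat, ← TowerLib.tr_tr C (hij.trans hl) hll', hz, hcnat] at h0
      have h1 := congrArg (fun e => s.hom (TowerLib.tr C (le_max_right i I) e)) h0
      simp only [hcnat, map_zero] at h1
      rwa [show s.hom ((c.app (Opposite.op I)).hom w) = w from ConcreteCategory.congr_hom hs w] at h1
    have hl0 : TowerLib.tr B hll' y ∈ (a.app (Opposite.op l)).hom.range := by
      rw [← hex, AddMonoidHom.mem_ker, nat, hz, show s.hom _ = w from rfl, hw, map_zero]
    obtain ⟨v, hv⟩ := hl0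
    refine ⟨v, ha (Opposite.op i) ?_⟩
    rw [nat, hv, TowerLib.tr_tr, nat, ← TowerLib.tr_tr B (le_max_left i I) (hij.trans (hl.trans hll')), hy,
      TowerLib.tr_tr]

end Groth.Agent.S6787
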