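import Groth.Statements.S6789
import Mathlib

set_option autoImplicit false
open CategoryTheory CategoryTheory.Limits
universe v u
open CategoryTheory CategoryTheory.SimplicialObject


namespace Groth.Agent.S6789

set_option backward.isDefEq.respectTransparency false
set_option backward.defeqAttrib.useBackward true

open Simplicial Opposite

namespace FinAux
lemma pv {n : ℕ} (p : Fin n) (i : Fin (n + 1)) : (p.predAbove i : ℕ) = if (p : ℕ) < i then (i : ℕ) - 1 else i := by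
  rcases lt_or_ge p.castSucc i with h | h
  · rw [Fin.predAbove_of_castSucc_lt p i h, Fin.val_pred, if_pos (by simpa [Fin.lt_def] using h)]
  · rw [Fin.predAbove_of_le_castSucc p i h, Fin.coe_castPred, if_neg (by simpa [Fin.le_def] using h)]
lemma sv {n : ℕ} (p : Fin (n + 1)) (i : Fin n) : (p.succAbove i : ℕ) = if (i : ℕ) < p then (i : ℕ) else i + 1 := by
  unfold Fin.succAbove; split_ifs <;> simp_all [Fin.lt_def]
variable {n : ℕ}
lemma cA (i : Fin (n + 2)) (j : Fin (n + 1)) (h : i ≤ j.castSucc) (m : Fin (n + 2)) :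
    j.succ.predAbove (i.castSucc.succAbove m) = i.succAbove (j.predAbove m) ∧ ((i.castSucc.succAbove m : ℕ) ≤ j.succ ↔ (m : ℕ) ≤ j) := by
  simp only [Fin.ext_iff, Fin.le_def, pv, sv, Fin.val_succ, Fin.val_castSucc] at *; split_ifs <;> omega
lemma cB (j : Fin (n + 1)) (m : Fin (n + 2)) :
    j.succ.predAbove (j.castSucc.succ.succAbove m) = j.castSucc.predAbove (j.castSucc.succ.succAbove m) ∧
    ((j.castSucc.succ.succAbove m : ℕ) ≤ j.succ ↔ (j.castSucc.succ.succAbove m : ℕ) ≤ j.castSucc) := by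
  simp only [Fin.ext_iff, Fin.le_def, pv, sv, Fin.val_succ, Fin.val_castSucc] at *; split_ifs <;> omega
lemma cC (i : Fin (n + 2)) (j : Fin (n + 1)) (h : j.castSucc < i) (m : Fin (n + 2)) :
    j.castSucc.predAbove (i.succ.succAbove m) = i.succAbove (j.predAbove m) ∧ ((i.succ.succAbove m : ℕ) ≤ j.castSucc ↔ (m : ℕ) ≤ j) := by
  simp only [Fin.ext_iff, Fin.lt_def, pv, sv, Fin.val_succ, Fin.val_castSucc] at *; split_ifs <;> omega
lemma cD (i j : Fin (n + 1)) (h : i ≤ j) (m : Fin (n + 3)) :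
    j.predAbove (i.castSucc.predAbove m) = i.predAbove (j.succ.predAbove m) ∧ ((i.castSucc.predAbove m : ℕ) ≤ j ↔ (m : ℕ) ≤ j.succ) := by
  simp only [Fin.ext_iff, Fin.le_def, pv, Fin.val_succ, Fin.val_castSucc] at *; split_ifs <;> omega
lemma cE (i j : Fin (n + 1)) (h : j ≤ i) (m : Fin (n + 3)) :
    j.predAbove (i.succ.predAbove m) = i.predAbove (j.castSucc.predAbove m) ∧ ((i.succ.predAbove m : ℕ) ≤ j ↔ (m : ℕ) ≤ j.castSucc) := by
  simp only [Fin.ext_iff, Fin.le_def, pv, Fin.val_succ, Fin.val_castSucc] at *; split_ifs <;> omega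
lemma hz (m : Fin (n + 1)) : (0 : Fin (n + 1)).predAbove ((0 : Fin (n + 2)).succAbove m) = m ∧ ¬ (((0 : Fin (n + 2)).succAbove m : ℕ) ≤ 0) := by
  exact ⟨by simp [Fin.succAbove_zero], by simp [Fin.succAbove_zero]⟩
lemma hl (m : Fin (n + 1)) : (Fin.last n).predAbove ((Fin.last (n + 1)).succAbove m) = m ∧ (((Fin.last (n+1)).succAbove m : ℕ) ≤ n) := by
  simp only [Fin.ext_iff, pv, sv, Fin.val_last] at *; split_ifs <;> omega
end FinAux

section
variable {C : Type u} [Category.{v} C] {Y X : C} (f : Y ⟶ X) [∀ n : ℕ, HasWidePullback (Arrow.mk f).right (fun _ : Fin (n + 1) => (Arrow.mk f).left) (fun _ => (Arrow.mk f).hom)]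

noncomputable abbrev pr (n : ℕ) (i : Fin (n + 1)) : (Arrow.mk f).cechNerve _⦋n⦌ ⟶ (Arrow.mk f).left :=
  WidePullback.π (fun _ : Fin (n + 1) => (Arrow.mk f).hom) i

noncomputable abbrev bs (n : ℕ) : (Arrow.mk f).cechNerve _⦋n⦌ ⟶ (Arrow.mk f).right :=
  WidePullback.base (fun _ : Fin (n + 1) => (Arrow.mk f).hom)

lemma ext' {n : ℕ} {W : C} {x y : W ⟶ (Arrow.mk f).cechNerve _⦋n⦌} (hb : x ≫ bs f n = y ≫ bs f n)
    (hp : ∀ i, x ≫ pr f n i = y ≫ pr f n i) : x = y :=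
  WidePullback.hom_ext _ _ _ hp hb

@[reassoc]
lemma δ_pr {n : ℕ} (i : Fin (n + 2)) (m : Fin (n + 1)) :
    (Arrow.mk f).cechNerve.δ i ≫ pr f n m = pr f (n + 1) (i.succAbove m) :=
  WidePullback.lift_π _ _ _ _ _

@[reassoc]
lemma δ_bs {n : ℕ} (i : Fin (n + 2)) : (Arrow.mk f).cechNerve.δ i ≫ bs f n = bs f (n + 1) :=
  WidePullback.lift_base _ _ _ _

@[reassoc]
lemma σ_pr {n : ℕ} (i : Fin (n + 1)) (m : Fin (n + 2)) :
    (Arrow.mk f).cechNerve.σ i ≫ pr f (n + 1) m = pr f n (i.predAbove m) :=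
  WidePullback.lift_π _ _ _ _ _

@[reassoc]
lemma σ_bs {n : ℕ} (i : Fin (n + 1)) : (Arrow.mk f).cechNerve.σ i ≫ bs f (n + 1) = bs f n :=
  WidePullback.lift_base _ _ _ _

lemma app_pr (φ : Arrow.mk f ⟶ Arrow.mk f) {n : ℕ} (m : Fin (n + 1)) :
    (Arrow.mapCechNerve φ).app (op ⦋n⦌) ≫ pr f n m = pr f n m ≫ φ.left :=
  WidePullback.lift_π _ _ _ _ _

lemma app_bs (φ : Arrow.mk f ⟶ Arrow.mk f) {n : ℕ} :
    (Arrow.mapCechNerve φ).app (op ⦋n⦌) ≫ bs f n = bs f n ≫ φ.right :=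
  WidePullback.lift_base _ _ _ _

variable (φ ψ : Arrow.mk f ⟶ Arrow.mk f) (hφ : φ.right = 𝟙 _) (hψ : ψ.right = 𝟙 _)

def e {n : ℕ} (i : Fin (n + 1)) (m : Fin (n + 2)) : (Arrow.mk f).left ⟶ (Arrow.mk f).left :=
  if m ≤ i.castSucc then φ.left else ψ.left

include hφ hψ in
lemma e_hom {n : ℕ} (i : Fin (n + 1)) (m : Fin (n + 2)) : e f φ ψ i m ≫ (Arrow.mk f).hom = (Arrow.mk f).hom := by
  unfold e
  split_ifs
  · have := φ.w; simpa [hφ] using this
  · have := ψ.w; simpa [hψ] using this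

noncomputable def hh {n : ℕ} (i : Fin (n + 1)) : (Arrow.mk f).cechNerve _⦋n⦌ ⟶ (Arrow.mk f).cechNerve _⦋n + 1⦌ :=
  WidePullback.lift (bs f n) (fun m : Fin (n + 2) => pr f n (i.predAbove m) ≫ e f φ ψ i m)
    (fun m => by rw [Category.assoc, e_hom f φ ψ hφ hψ]; exact WidePullback.π_arrow _ _)

@[reassoc]
lemma hh_pr {n : ℕ} (i : Fin (n + 1)) (m : Fin (n + 2)) :
    hh f φ ψ hφ hψ i ≫ pr f (n + 1) m = pr f n (i.predAbove m) ≫ e f φ ψ i m :=
  WidePullback.lift_π _ _ _ _ _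

@[reassoc]
lemma hh_bs {n : ℕ} (i : Fin (n + 1)) : hh f φ ψ hφ hψ i ≫ bs f (n + 1) = bs f n :=
  WidePullback.lift_base _ _ _ _

lemma e_congr {n k : ℕ} (i : Fin (n + 1)) (m : Fin (n + 2)) (i' : Fin (k + 1)) (m' : Fin (k + 2))
    (h : (m : ℕ) ≤ (i : ℕ) ↔ (m' : ℕ) ≤ (i' : ℕ)) : e f φ ψ i m = e f φ ψ i' m' := by
  simp only [e, Fin.le_iff_val_le_val, Fin.val_castSucc, h]

noncomputable def theHomotopy : SimplicialObject.Homotopy (Arrow.mapCechNerve φ) (Arrow.mapCechNerve ψ) where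
  h i := hh f φ ψ hφ hψ i
  h_zero_comp_δ_zero n := by
    refine ext' f ?_ fun m => ?_
    · rw [Category.assoc, δ_bs, hh_bs, app_bs, hψ]; exact (Category.comp_id _).symm
    · rw [Category.assoc, δ_pr, hh_pr, app_pr]
      rw [(FinAux.hz m).1, e, if_neg (show ¬ (Fin.succAbove 0 m ≤ Fin.castSucc 0) from (FinAux.hz m).2)]
  h_last_comp_δ_last n := by
    refine ext' f ?_ fun m => ?_
    · rw [Category.assoc, δ_bs, hh_bs, app_bs, hφ]; exact (Category.comp_id _).symm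
    · rw [Category.assoc, δ_pr, hh_pr, app_pr]
      rw [(FinAux.hl m).1, e, if_pos (show _ ≤ (Fin.last n).castSucc from (FinAux.hl m).2)]
  h_succ_comp_δ_castSucc_of_lt i j hij := by
    refine ext' f ?_ fun m => ?_
    · simp only [Category.assoc, δ_bs, hh_bs]
    · simp only [Category.assoc, δ_pr, hh_pr, δ_pr_assoc]
      rw [(FinAux.cA i j hij m).1, e_congr f φ ψ _ _ _ _ (FinAux.cA i j hij m).2]
  h_succ_comp_δ_castSucc_succ j := by
    refine ext' f ?_ fun m => ?_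
    · simp only [Category.assoc, δ_bs, hh_bs]
    · simp only [Category.assoc, δ_pr, hh_pr, δ_pr_assoc]
      rw [(FinAux.cB j m).1, e_congr f φ ψ _ _ _ _ (FinAux.cB j m).2]
  h_castSucc_comp_δ_succ_of_lt i j hij := by
    refine ext' f ?_ fun m => ?_
    · simp only [Category.assoc, δ_bs, hh_bs]
    · simp only [Category.assoc, δ_pr, hh_pr, δ_pr_assoc]
      rw [(FinAux.cC i j hij m).1, e_congr f φ ψ _ _ _ _ (FinAux.cC i j hij m).2]
  h_comp_σ_castSucc_of_le i j hij := by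
    refine ext' f ?_ fun m => ?_
    · simp only [Category.assoc, σ_bs, hh_bs]
    · simp only [Category.assoc, σ_pr, hh_pr, σ_pr_assoc]
      rw [(FinAux.cD i j hij m).1, e_congr f φ ψ _ _ _ _ (FinAux.cD i j hij m).2]
  h_comp_σ_succ_of_lt i j hij := by
    refine ext' f ?_ fun m => ?_
    · simp only [Category.assoc, σ_bs, hh_bs]
    · simp only [Category.assoc, σ_pr, hh_pr, σ_pr_assoc]
      rw [(FinAux.cE i j hij m).1, e_congr f φ ψ _ _ _ _ (FinAux.cE i j hij m).2]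

lemma map_id_eq : Arrow.mapCechNerve (𝟙 (Arrow.mk f)) = 𝟙 (Arrow.mk f).cechNerve := by
  ext ⟨n⟩
  refine ext' f (n := n.len) ?_ fun m => ?_
  · exact (app_bs f _).trans ((Category.comp_id _).trans (Category.id_comp _).symm)
  · exact (app_pr f _ _).trans ((Category.comp_id _).trans (Category.id_comp _).symm)

end

/-- For a morphism `f : Y ⟶ X` with a section `s`, the endomorphism of the Čech nerve of `f` (the
simplicial object of iterated fibre products of `Y` over `X`) that applies `s ∘ f` factorwise admits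
simplicial homotopies to and from the identity: the published formula gives one direction and its
mirror image (exchange the roles of the identity and `s ∘ f`) gives the other. -/
theorem result {C : Type u} [Category.{v} C] {Y X : C} (f : Y ⟶ X) (s : X ⟶ Y) (hs : s ≫ f = 𝟙 X) [∀ n : ℕ, HasWidePullback (Arrow.mk f).right (fun _ : Fin (n + 1) => (Arrow.mk f).left) (fun _ => (Arrow.mk f).hom)] (φ : Arrow.mk f ⟶ Arrow.mk f) (hφl : φ.left = f ≫ s) (hφr : φ.right = 𝟙 X) : Nonempty (SimplicialObject.Homotopy (𝟙 (Arrow.mk f).cechNerve) (Arrow.mapCechNerve φ)) ∧ Nonempty (SimplicialObject.Homotopy (Arrow.mapCechNerve φ) (𝟙 (Arrow.mk f).cechNerve)) := by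
  rw [← map_id_eq f]
  exact ⟨⟨theHomotopy f (𝟙 _) φ rfl hφr⟩, ⟨theHomotopy f φ (𝟙 _) hφr rfl⟩⟩

end Groth.Agent.S6789
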