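import Groth.Statements.S6790
import Mathlib.Tactic.CategoryTheory.Monoidal.Basic
import Mathlib.CategoryTheory.Idempotents.Basic

set_option autoImplicit false
set_option backward.isDefEq.respectTransparency false
set_option backward.defeqAttrib.useBackward true
open CategoryTheory CategoryTheory.Limits MonoidalCategory
universe v u
open CategoryTheory CategoryTheory.Monoidal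

namespace Groth.Agent.S6790
open CategoryTheory MonoidalCategory ExactPairing HasRightDual

/-- In an idempotent-complete additive monoidal category, a direct summand of an object admitting a dual
(with coevaluation `𝟙_ A ⟶ X ⊗ Y` and evaluation `Y ⊗ X ⟶ 𝟙_ A`) again admits such a dual. -/
theorem result {A : Type u} [Category.{v} A] [Preadditive A] [HasFiniteBiproducts A] [MonoidalCategory A] [MonoidalPreadditive A] [IsIdempotentComplete A] {X X₁ : A} (i : X₁ ⟶ X) (p : X ⟶ X₁) (hip : i ≫ p = 𝟙 X₁) [HasRightDual X] : Nonempty (HasRightDual X₁) := by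
  let e : X ⟶ X := p ≫ i
  have hee : e ≫ e = e := by simp [e, reassoc_of% hip]
  have he' : (eᘁ) ≫ (eᘁ) = (eᘁ) := by rw [← comp_rightAdjointMate, hee]
  obtain ⟨Y₁, j, q, hjq, hqj⟩ := IsIdempotentComplete.idempotents_split (Xᘁ) (eᘁ) he'
  have hη : η_ X (Xᘁ) ≫ X ◁ (q ≫ j) = η_ X (Xᘁ) ≫ (p ≫ i) ▷ (Xᘁ) := by
    rw [hqj]; exact coevaluation_comp_rightAdjointMate e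
  have hε : (q ≫ j) ▷ X ≫ ε_ X (Xᘁ) = (Xᘁ) ◁ (p ≫ i) ≫ ε_ X (Xᘁ) := by
    rw [hqj]; exact rightAdjointMate_comp_evaluation e
  refine ⟨{ rightDual := Y₁, exact :=
    { coevaluation' := η_ X (Xᘁ) ≫ p ▷ (Xᘁ) ≫ X₁ ◁ q
      evaluation' := j ▷ X₁ ≫ (Xᘁ) ◁ i ≫ ε_ X (Xᘁ)
      coevaluation_evaluation' := ?_
      evaluation_coevaluation' := ?_ } }⟩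
  · calc Y₁ ◁ (η_ X (Xᘁ) ≫ p ▷ (Xᘁ) ≫ X₁ ◁ q) ≫ (α_ Y₁ X₁ Y₁).inv ≫ (j ▷ X₁ ≫ (Xᘁ) ◁ i ≫ ε_ X (Xᘁ)) ▷ Y₁
      _ = 𝟙 _ ⊗≫ (Y₁ ◁ (η_ X (Xᘁ) ≫ p ▷ (Xᘁ)) ⊗≫ ((Y₁ ⊗ X₁) ◁ q ≫ (j ▷ X₁ ≫ (Xᘁ) ◁ i ≫ ε_ X (Xᘁ)) ▷ Y₁)) ⊗≫ 𝟙 _ := by
        monoidal
      _ = 𝟙 _ ⊗≫ (Y₁ ◁ (η_ X (Xᘁ) ≫ p ▷ (Xᘁ)) ⊗≫ ((j ▷ X₁ ≫ (Xᘁ) ◁ i ≫ ε_ X (Xᘁ)) ▷ (Xᘁ) ≫ (𝟙_ A) ◁ q)) ⊗≫ 𝟙 _ := by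
        rw [whisker_exchange]
      _ = 𝟙 _ ⊗≫ ((Y₁ ◁ (η_ X (Xᘁ) ≫ p ▷ (Xᘁ)) ≫ j ▷ (X₁ ⊗ (Xᘁ))) ⊗≫ (Xᘁ) ◁ i ▷ (Xᘁ) ⊗≫ ε_ X (Xᘁ) ▷ (Xᘁ)) ⊗≫ q ⊗≫ 𝟙 _ := by
        monoidal
      _ = 𝟙 _ ⊗≫ j ⊗≫ (Xᘁ) ◁ (η_ X (Xᘁ) ≫ (p ≫ i) ▷ (Xᘁ)) ⊗≫ ε_ X (Xᘁ) ▷ (Xᘁ) ⊗≫ q ⊗≫ 𝟙 _ := by
        rw [whisker_exchange]; monoidal
      _ = 𝟙 _ ⊗≫ j ⊗≫ (Xᘁ) ◁ η_ X (Xᘁ) ⊗≫ ((Xᘁ ⊗ X) ◁ (q ≫ j) ≫ ε_ X (Xᘁ) ▷ (Xᘁ)) ⊗≫ q ⊗≫ 𝟙 _ := by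
        rw [← hη]; monoidal
      _ = 𝟙 _ ⊗≫ j ⊗≫ ((Xᘁ) ◁ η_ X (Xᘁ) ⊗≫ ε_ X (Xᘁ) ▷ (Xᘁ)) ⊗≫ (q ≫ j) ⊗≫ q ⊗≫ 𝟙 _ := by
        rw [whisker_exchange]; monoidal
      _ = 𝟙 _ ⊗≫ ((j ≫ q) ≫ (j ≫ q)) ⊗≫ 𝟙 _ := by
        rw [coevaluation_evaluation'']; monoidal
      _ = _ := by
        rw [hjq]; monoidal
  · calc (η_ X (Xᘁ) ≫ p ▷ (Xᘁ) ≫ X₁ ◁ q) ▷ X₁ ≫ (α_ X₁ Y₁ X₁).hom ≫ X₁ ◁ (j ▷ X₁ ≫ (Xᘁ) ◁ i ≫ ε_ X (Xᘁ))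
      _ = 𝟙 _ ⊗≫ (η_ X (Xᘁ) ▷ X₁ ⊗≫ ((p ▷ (Xᘁ) ≫ X₁ ◁ q) ▷ X₁ ⊗≫ X₁ ◁ (j ▷ X₁ ≫ (Xᘁ) ◁ i ≫ ε_ X (Xᘁ)))) ⊗≫ 𝟙 _ := by
        monoidal
      _ = 𝟙 _ ⊗≫ (η_ X (Xᘁ) ▷ X₁ ⊗≫ (p ▷ ((Xᘁ) ⊗ X₁) ≫ X₁ ◁ (((q ≫ j) ▷ X₁ ≫ (Xᘁ) ◁ i) ≫ ε_ X (Xᘁ)))) ⊗≫ 𝟙 _ := by
        monoidal
      _ = 𝟙 _ ⊗≫ (η_ X (Xᘁ) ▷ X₁ ⊗≫ (X ◁ (((Xᘁ) ◁ i) ≫ ((q ≫ j) ▷ X ≫ ε_ X (Xᘁ))) ≫ p ▷ (𝟙_ A))) ⊗≫ 𝟙 _ := by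
        rw [← whisker_exchange, ← whisker_exchange (q ≫ j) i]; monoidal
      _ = 𝟙 _ ⊗≫ ((η_ X (Xᘁ) ▷ X₁ ≫ (X ⊗ (Xᘁ)) ◁ (i ≫ (p ≫ i))) ⊗≫ X ◁ ε_ X (Xᘁ)) ⊗≫ p ⊗≫ 𝟙 _ := by
        rw [hε]; monoidal
      _ = 𝟙 _ ⊗≫ (i ≫ (p ≫ i)) ⊗≫ (η_ X (Xᘁ) ▷ X ⊗≫ X ◁ ε_ X (Xᘁ)) ⊗≫ p ⊗≫ 𝟙 _ := by
        rw [← whisker_exchange]; monoidal
      _ = 𝟙 _ ⊗≫ ((i ≫ p) ≫ (i ≫ p)) ⊗≫ 𝟙 _ := by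
        rw [evaluation_coevaluation'']; monoidal
      _ = _ := by
        rw [hip]; monoidal

end Groth.Agent.S6790
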