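import Groth.Statements.S6791
import Groth.Agent.CatLimLib.Fractions
import Mathlib.CategoryTheory.Abelian.SerreClass.Localization
import Mathlib.CategoryTheory.Abelian.Images
import Mathlib.CategoryTheory.Abelian.Exact

set_option autoImplicit false
set_option backward.isDefEq.respectTransparency false
set_option backward.defeqAttrib.useBackward true
open CategoryTheory CategoryTheory.Limits
universe v u v' u' v'' u''
open CategoryTheory CategoryTheory.SerreClass

namespace Groth.Agent.S6791

/-- For an exact functor `F : A ⥤ B` of abelian categories and a Serre class `P` of `A` killed by `F`,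
with `L : A ⥤ Q` a model of the quotient `A/P` and `Fbar : Q ⥤ B` the induced functor, `P` is
exactly the kernel of `F` if and only if `Fbar` is faithful. -/
theorem result {A : Type u} [Category.{v} A] [Abelian A] {B : Type u'} [Category.{v'} B] [Abelian B] (F : A ⥤ B) [F.Additive] [PreservesFiniteLimits F] [PreservesFiniteColimits F] (P : ObjectProperty A) [P.IsSerreClass] (hP : ∀ X : A, P X → IsZero (F.obj X)) {Q : Type u''} [Category.{v''} Q] [Abelian Q] (L : A ⥤ Q) [L.IsLocalization P.isoModSerre] [L.Additive] [PreservesFiniteLimits L] [PreservesFiniteColimits L] (Fbar : Q ⥤ B) (e : L ⋙ Fbar ≅ F) : (∀ X : A, IsZero (F.obj X) → P X) ↔ Fbar.Faithful := by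
  constructor
  · intro hker
    refine ⟨?_⟩
    have key : ∀ {X Y : A} (a b : L.obj X ⟶ L.obj Y), Fbar.map a = Fbar.map b → a = b := by
      intro X Y a b hab
      obtain ⟨Y', s, hs, f, hf⟩ := CatLimLib.exists_common_denominator P.isoModSerre L
        (fun _ : Bool ↦ X) Y (fun c ↦ bif c then a else b)
      have ha : a ≫ L.map s = L.map (f true) := hf true
      have hb : b ≫ L.map s = L.map (f false) := hf false
      haveI : IsIso (L.map s) := Localization.inverts L P.isoModSerre s hs
      have hF : F.map (f true) = F.map (f false) := by
        rw [← cancel_epi (e.hom.app X), ← e.hom.naturality, ← e.hom.naturality]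
        simp [← ha, ← hb, hab]
      have h0 : F.map (f true - f false) = 0 := by rw [F.map_sub, hF, sub_self]
      have hP : P (Abelian.image (f true - f false)) := by
        apply hker
        let d := f true - f false
        haveI : Epi (F.map (Abelian.factorThruImage d)) := inferInstance
        haveI : Mono (F.map (Abelian.image.ι d)) := inferInstance
        have h1 : F.map (Abelian.factorThruImage d) ≫ F.map (Abelian.image.ι d) = 0 := by
          rw [← F.map_comp, Abelian.image.fac]; exact h0
        rw [IsZero.iff_id_eq_zero, ← cancel_epi (F.map (Abelian.factorThruImage d)),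
          Category.comp_id, comp_zero]
        exact zero_of_comp_mono _ h1
      have h2 : L.map (f true - f false) = 0 :=
        (ObjectProperty.SerreClassLocalization.map_eq_zero_iff L P _).2 hP
      rw [← cancel_mono (L.map s), ha, hb, ← sub_eq_zero, ← L.map_sub, h2]
    intro U V a b hab
    haveI := Localization.essSurj L P.isoModSerre
    have := key ((L.objObjPreimageIso U).hom ≫ a ≫ (L.objObjPreimageIso V).inv)
      ((L.objObjPreimageIso U).hom ≫ b ≫ (L.objObjPreimageIso V).inv) (by simp [hab])
    simpa using this
  · intro hf X hX
    rw [← ObjectProperty.SerreClassLocalization.isZero_obj_iff L P X, IsZero.iff_id_eq_zero]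
    exact Fbar.map_injective ((hX.of_iso (e.app X)).eq_of_src _ _)

end Groth.Agent.S6791
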