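import Groth.Statements.S6797


set_option autoImplicit false
set_option backward.isDefEq.respectTransparency false
set_option backward.defeqAttrib.useBackward true
open CategoryTheory CategoryTheory.Limits
universe v u
open CategoryTheory CategoryTheory.Preadditive

namespace Groth.Agent.S6797

/-- For an idempotent `f` with a kernel, the factorisation `p : x ⟶ Ker f` of `𝟙 - f` through the kernel
inclusion is a retraction of it and is a cokernel of `f`. -/
theorem result {A : Type u} [Category.{v} A] [Preadditive A] {x : A} (f : x ⟶ x) (hf : f ≫ f = f) [HasKernel f] (p : x ⟶ kernel f) (hp : p ≫ kernel.ι f = 𝟙 x - f) : kernel.ι f ≫ p = 𝟙 (kernel f) ∧ ∃ hc : f ≫ p = 0, Nonempty (IsColimit (CokernelCofork.ofπ p hc)) := by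
  refine ⟨?_, ?_, ⟨Cofork.IsColimit.ofExistsUnique fun s => ⟨kernel.ι f ≫ s.π, ?_, fun y hy => ?_⟩⟩⟩
  · rw [← cancel_mono (kernel.ι f)]
    simp [hp, Preadditive.comp_sub]
  · rw [← cancel_mono (kernel.ι f)]
    simp [hp, Preadditive.comp_sub, hf]
  · have h := CokernelCofork.condition s
    simp [reassoc_of% hp, Preadditive.sub_comp, h]
  · simp only at hy ⊢
    have h : kernel.ι f ≫ p = 𝟙 (kernel f) := by
      rw [← cancel_mono (kernel.ι f)]
      simp [hp, Preadditive.comp_sub]
    rw [← hy]
    simp [reassoc_of% h]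

end Groth.Agent.S6797
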