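import Groth.Statements.S6799
import Mathlib

set_option autoImplicit false
open CategoryTheory Opposite
universe u
open SSet

open Opposite MonoidalCategory Simplicial

namespace Groth.Agent.S6799

set_option backward.isDefEq.respectTransparency false
set_option backward.defeqAttrib.useBackward true

section

variable (n : ℕ)

lemma factor_or_id {p q : SimplexCategory} (g : q ⟶ p) (hp : p.len ≤ n) (hq : q.len ≤ n) :
    (∃ h : q = p, g = eqToHom h) ∨ ∃ (r : SimplexCategory) (a : q ⟶ r) (b : r ⟶ p), r.len < n ∧ g = a ≫ b := by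
  by_cases hp' : p.len < n
  · exact Or.inr ⟨p, g, 𝟙 p, hp', (Category.comp_id g).symm⟩
  by_cases hq' : q.len < n
  · exact Or.inr ⟨q, 𝟙 q, g, hq', (Category.id_comp g).symm⟩
  obtain ⟨a, rfl⟩ : ∃ a, p = SimplexCategory.mk a := ⟨p.len, (SimplexCategory.mk_len p).symm⟩
  obtain ⟨b, rfl⟩ : ∃ b, q = SimplexCategory.mk b := ⟨q.len, (SimplexCategory.mk_len q).symm⟩
  simp only [SimplexCategory.len_mk] at hp hq hp' hq'
  obtain rfl : a = n := by omega
  obtain rfl : b = a := by omega
  by_cases hs : Function.Surjective g.toOrderHom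
  · haveI : Epi g := SimplexCategory.epi_iff_surjective.2 hs
    exact Or.inl ⟨rfl, SimplexCategory.eq_id_of_epi g⟩
  · cases b with
    | zero =>
      exact absurd (fun y => ⟨0, Subsingleton.elim (α := Fin 1) _ _⟩) hs
    | succ m =>
      obtain ⟨i, c, hc⟩ := SimplexCategory.eq_comp_δ_of_not_surjective g hs
      exact Or.inr ⟨SimplexCategory.mk m, c, SimplexCategory.δ i, by simp, hc⟩

/-- Truncated maps extend to coskeletal objects. -/
lemma exists_extend {W Z : SSet.{u}} [SimplicialObject.IsCoskeletal Z n]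
    (τ : (SimplicialObject.truncation n).obj W ⟶ (SimplicialObject.truncation n).obj Z) :
    ∃ h : W ⟶ Z, (SimplicialObject.truncation n).map h = τ := by
  let adj := SimplicialObject.coskAdj (C := Type u) n
  refine ⟨adj.homEquiv _ _ τ ≫ inv (adj.unit.app Z), ?_⟩
  apply (adj.homEquiv _ _).injective
  rw [adj.homEquiv_unit _ _ ((SimplicialObject.truncation n).map _)]
  refine (adj.unit.naturality (adj.homEquiv _ _ τ ≫ inv (adj.unit.app Z))).symm.trans ?_
  simp

lemma hom_ext_of_trunc {W Z : SSet.{u}} [SimplicialObject.IsCoskeletal Z n] {a b : W ⟶ Z}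
    (h : (SimplicialObject.truncation n).map a = (SimplicialObject.truncation n).map b) : a = b := by
  let adj := SimplicialObject.coskAdj (C := Type u) n
  rw [← cancel_mono (adj.unit.app Z)]
  have h1 := adj.unit.naturality a
  have h2 := adj.unit.naturality b
  dsimp at h1 h2
  rw [h1, h2, h]

end

/-- Two maps between `n`-coskeletal simplicial sets which agree on simplices of dimension `< n` are
homotopic, by a single homotopy. -/
theorem result {U V : SSet.{u}} (f₀ f₁ : V ⟶ U) (n : ℕ) (h : ∀ i : ℕ, i < n → f₀.app (op (SimplexCategory.mk i)) = f₁.app (op (SimplexCategory.mk i))) [SimplicialObject.IsCoskeletal U n] [SimplicialObject.IsCoskeletal V n] : Nonempty (SSet.Homotopy f₀ f₁) := by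
  classical
  let isZ : ∀ p : SimplexCategoryᵒᵖ, (SSet.stdSimplex.{u}.obj (SimplexCategory.mk 1)).obj p → Prop := fun p s =>
    ∀ k, (SSet.stdSimplex.objEquiv s).toOrderHom k = 0
  let φ : ∀ p : SimplexCategoryᵒᵖ, (V ⊗ SSet.stdSimplex.{u}.obj (SimplexCategory.mk 1)).obj p → U.obj p :=
    fun p x => if isZ p x.2 then f₀.app p x.1 else f₁.app p x.1
  have hlow : ∀ (r : SimplexCategory), r.len < n → ∀ v : V.obj (op r), f₀.app (op r) v = f₁.app (op r) v := fun r hr v => by
    obtain ⟨a, rfl⟩ : ∃ a, r = SimplexCategory.mk a := ⟨r.len, (SimplexCategory.mk_len r).symm⟩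
    rw [h a hr]
  have hnat : ∀ (p q : SimplexCategory) (hp : p.len ≤ n) (hq : q.len ≤ n) (g : q ⟶ p)
      (x : (V ⊗ SSet.stdSimplex.{u}.obj (SimplexCategory.mk 1)).obj (op p)),
      φ (op q) ((V ⊗ SSet.stdSimplex.{u}.obj (SimplexCategory.mk 1)).map g.op x) = U.map g.op (φ (op p) x) := by
    intro p q hp hq g x
    rcases factor_or_id n g hp hq with ⟨e, rfl⟩ | ⟨r, a, b, hr, rfl⟩
    · subst e
      simp only [eqToHom_refl, op_id, CategoryTheory.Functor.map_id, id_apply]
    · have h1 : f₀.app (op q) (V.map (a ≫ b).op x.1) = f₁.app (op q) (V.map (a ≫ b).op x.1) := by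
        rw [op_comp, Functor.map_comp_apply, NatTrans.naturality_apply f₀, NatTrans.naturality_apply f₁, hlow r hr]
      have h2 : ∀ F : V ⟶ U, U.map (a ≫ b).op (F.app (op p) x.1) = F.app (op q) (V.map (a ≫ b).op x.1) :=
        fun F => (NatTrans.naturality_apply F (a ≫ b).op x.1).symm
      simp only [φ]
      split_ifs <;> (rw [h2]; first | (exact h1) | (exact h1.symm) | rfl)
  let τ : (SimplicialObject.truncation n).obj (V ⊗ SSet.stdSimplex.{u}.obj (SimplexCategory.mk 1)) ⟶
      (SimplicialObject.truncation n).obj U :=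
    { app := fun p => ↾fun x => φ (op p.unop.obj) x
      naturality := fun p q g => ConcreteCategory.hom_ext _ _ fun x =>
        hnat p.unop.obj q.unop.obj p.unop.property q.unop.property g.unop.hom x }
  obtain ⟨H, hH⟩ := exists_extend n τ
  have hHa : ∀ (p : (SimplexCategory.Truncated n)ᵒᵖ) (x : (V ⊗ SSet.stdSimplex.{u}.obj (SimplexCategory.mk 1)).obj (op p.unop.obj)),
      H.app (op p.unop.obj) x = φ _ x := fun p x => ConcreteCategory.congr_hom (NatTrans.congr_app hH p) x
  refine ⟨{ h := H, h₀ := hom_ext_of_trunc n ?_, h₁ := hom_ext_of_trunc n ?_, rel := (by ext m ⟨⟨x, hx⟩, s⟩; exact hx.elim) }⟩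
  · refine NatTrans.ext (funext fun p => ConcreteCategory.hom_ext _ _ fun v => ?_)
    refine (hHa p _).trans ?_
    simp only [φ]
    rw [if_pos]
    · rfl
    · exact fun k => rfl
  · refine NatTrans.ext (funext fun p => ConcreteCategory.hom_ext _ _ fun v => ?_)
    refine (hHa p _).trans ?_
    simp only [φ]
    rw [if_neg]
    · rfl
    · intro hk
      have := hk 0
      change (1 : Fin 2) = 0 at this
      exact absurd this (by decide)

end Groth.Agent.S6799
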