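import Groth.Statements.S6800
import Mathlib.CategoryTheory.FinCategory.Basic
import Mathlib.Data.Finite.Sigma

set_option autoImplicit false
open CategoryTheory CategoryTheory.Limits
universe v u
open CategoryTheory CategoryTheory.SimplicialObject CategoryTheory.SimplicialObject.Truncated

namespace Groth.Agent.S6800

/-- In a category with finite limits every truncated simplicial object has a pointwise right Kan
extension along the inclusion of the truncated simplex category, i.e. the coskeleton functors exist
and are given by the limit formula. -/
theorem result {C : Type u} [Category.{v} C] [HasFiniteLimits C] (m : ℕ) (U : (SimplexCategory.Truncated m)ᵒᵖ ⥤ C) : (SimplexCategory.Truncated.inclusion m).op.HasPointwiseRightKanExtension U := by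
  intro Y
  let L := (SimplexCategory.Truncated.inclusion m).op
  have : Finite (SimplexCategory.Truncated m) :=
    Finite.of_injective (fun X => (⟨X.obj.len, Nat.lt_succ_of_le X.property⟩ : Fin (m + 1)))
      fun a b h => by
        apply ObjectProperty.FullSubcategory.ext
        exact SimplexCategory.ext (congrArg Fin.val h)
  have : Finite (SimplexCategory.Truncated m)ᵒᵖ := Finite.of_equiv _ Opposite.equivToOpposite
  have : ∀ X, Finite (Y ⟶ L.obj X) := fun X =>
    Finite.of_injective (fun f => ⇑(SimplexCategory.Hom.toOrderHom f.unop))
      fun a b h => Quiver.Hom.unop_inj (SimplexCategory.Hom.ext _ _ (DFunLike.coe_injective h))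
  have : Finite (StructuredArrow Y L) :=
    Finite.of_injective (fun f => (⟨f.right, f.hom⟩ : Σ X, Y ⟶ L.obj X)) fun a b h => by
      rcases a with ⟨⟨⟨⟩⟩, a, f⟩; rcases b with ⟨⟨⟨⟩⟩, b, g⟩
      cases h; rfl
  have : ∀ a b : StructuredArrow Y L, Finite (a ⟶ b) := fun a b =>
    Finite.of_injective (fun f => ⇑(SimplexCategory.Hom.toOrderHom f.right.unop.hom)) fun x y h =>
      StructuredArrow.hom_ext _ _ (Quiver.Hom.unop_inj (InducedCategory.hom_ext (SimplexCategory.Hom.ext _ _ (DFunLike.coe_injective h))))
  let _ : FinCategory (StructuredArrow Y L) :=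
    { fintypeObj := Fintype.ofFinite _, fintypeHom := fun _ _ => Fintype.ofFinite _ }
  change HasLimit _
  infer_instance

end Groth.Agent.S6800
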