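import Groth.Statements.S6801
import Mathlib
import Groth.Agent.FilStrict.Basic

set_option autoImplicit false
open CategoryTheory
universe v u
open SpSeq SpSeq.FilObj


namespace Groth.Agent.S6801

set_option backward.isDefEq.respectTransparency false
set_option backward.defeqAttrib.useBackward true

/-- The composite of two strict morphisms of filtered objects is strict when the second one is a
monomorphism. (In general a composite of strict morphisms is not strict.) -/
theorem result {A : Type u} [Category.{v} A] [Abelian A] {K L M : SpSeq.FilObj A} (f : K ⟶ L) (g : L ⟶ M) (hf : SpSeq.FilObj.IsStrict f) (hg : SpSeq.FilObj.IsStrict g) [Mono g.hom] : SpSeq.FilObj.IsStrict (f ≫ g) := by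
  exact FilStrict.isStrict_comp_of_mono f g hf hg

end Groth.Agent.S6801
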