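import Groth.Statements.S6807
import Groth.Agent.TowerCx.Basic
-- import your own Groth.Agent.* helpers here

set_option autoImplicit false
open CategoryTheory CategoryTheory.Limits
universe u
open HomAlg3

namespace Groth.Agent.S6807

/-- For an inverse system of cochain complexes of abelian groups over `ℕ` whose terms in degrees `n-2`
and `n-1` form Mittag-Leffler systems and whose degree-`(n-1)` cohomologies form an essentially
constant system, the canonical map from the degree-`n` cohomology of the limit complex to the limit
of the degree-`n` cohomologies is an isomorphism. (The published statement is for four-term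
complexes in degrees `-2, …, 1`; only those four degrees of a longer complex enter.) -/
theorem result (K : ℕᵒᵖ ⥤ HomologicalComplex AddCommGrpCat.{u} (ComplexShape.up ℤ)) (n : ℤ) (h2 : ((K ⋙ HomologicalComplex.eval _ _ (n - 2)) ⋙ forget AddCommGrpCat).IsMittagLeffler) (h1 : ((K ⋙ HomologicalComplex.eval _ _ (n - 1)) ⋙ forget AddCommGrpCat).IsMittagLeffler) (hH : ∃ (C₀ : AddCommGrpCat.{u}) (c : (Functor.const ℕᵒᵖ).obj C₀ ⟶ K ⋙ HomologicalComplex.homologyFunctor _ _ (n - 1)), DerCA.IsEssConstant (K ⋙ HomologicalComplex.homologyFunctor _ _ (n - 1)) C₀ c) : IsIso (limit.post K (HomologicalComplex.homologyFunctor _ _ n)) := by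
  have hML : ((K ⋙ HomologicalComplex.homologyFunctor _ _ (n - 1)) ⋙ forget AddCommGrpCat).IsMittagLeffler := by
    obtain ⟨C₀, c, I, s, hs, hess⟩ := hH
    rw [Groth.Agent.TowerLib.isMittagLeffler_iff]
    intro j
    obtain ⟨k, hi, hj, he⟩ := hess j
    refine ⟨k, hj, fun l hl z => ⟨(c.app (Opposite.op l)).hom (s.hom (Groth.Agent.TowerLib.tr _ hi z)), ?_⟩⟩
    refine (ConcreteCategory.congr_hom (c.naturality (homOfLE (hj.trans hl)).op) _).symm.trans ?_
    exact (ConcreteCategory.congr_hom he z).symm
  have hb : Function.Bijective (limit.post K (HomologicalComplex.homologyFunctor _ _ n)).hom :=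
    ⟨Groth.Agent.TowerCx.injective_post K (r := n - 2) (p := n - 1) (by omega) (by omega)
      (fun y => Groth.Agent.TowerLib.exists_sub_tr_eq _ hML y) (fun y => Groth.Agent.TowerLib.exists_sub_tr_eq _ h2 y),
      Groth.Agent.TowerCx.surjective_post K (p := n - 1) (by omega) (fun y => Groth.Agent.TowerLib.exists_sub_tr_eq _ h1 y)⟩
  exact (ConcreteCategory.isIso_iff_bijective _).2 hb

end Groth.Agent.S6807
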