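import Groth.Statements.S6808
-- import your own Groth.Agent.* helpers here

set_option autoImplicit false
open CategoryTheory Opposite
universe u
open SSet

namespace Groth.Agent.S6808

/-- A map of simplicial sets preserving non-degeneracy of simplices and injective on non-degenerate
simplices is injective in every dimension. -/
theorem result {U V : SSet.{u}} (f : U ⟶ V) (ha : ∀ (n : ℕ) (x : U.obj (op (SimplexCategory.mk n))), x ∈ U.nonDegenerate n → f.app (op (SimplexCategory.mk n)) x ∈ V.nonDegenerate n) (hb : ∀ n : ℕ, Set.InjOn (f.app (op (SimplexCategory.mk n))) (U.nonDegenerate n)) (n : ℕ) : Function.Injective (f.app (op (SimplexCategory.mk n))) := by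
  have hnat : ∀ {a b : ℕ} (g : SimplexCategory.mk a ⟶ SimplexCategory.mk b) (y : U.obj (op (SimplexCategory.mk b))),
      f.app (op (SimplexCategory.mk a)) (U.map g.op y) = V.map g.op (f.app (op (SimplexCategory.mk b)) y) :=
    fun g y => NatTrans.naturality_apply f g.op y
  intro x x' h
  obtain ⟨m, g, hg, y, rfl⟩ := U.exists_nonDegenerate x
  obtain ⟨m', g', hg', y', rfl⟩ := U.exists_nonDegenerate x'
  rw [hnat, hnat] at h
  obtain rfl := V.unique_nonDegenerate_dim _ g ⟨_, ha _ _ y.2⟩ rfl g' ⟨_, ha _ _ y'.2⟩ h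
  have hy := V.unique_nonDegenerate_simplex _ g ⟨_, ha _ _ y.2⟩ rfl g' ⟨_, ha _ _ y'.2⟩ h
  have hgg := V.unique_nonDegenerate_map _ g ⟨_, ha _ _ y.2⟩ rfl g' ⟨_, ha _ _ y'.2⟩ h
  subst hgg
  rw [hb _ y.2 y'.2 (congrArg Subtype.val hy)]

end Groth.Agent.S6808
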