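import Groth.Statements.S6810
import Mathlib.CategoryTheory.FinCategory.Basic
import Mathlib.Data.Finite.Sigma

set_option autoImplicit false
open CategoryTheory CategoryTheory.Limits
universe v u
open CategoryTheory CategoryTheory.SimplicialObject CategoryTheory.SimplicialObject.Truncated

namespace Groth.Agent.S6810

/-- In a category with finite colimits every truncated simplicial object has a pointwise left Kan
extension along the inclusion of the truncated simplex category, i.e. the left adjoints `i_{m!}` of
truncation exist and are given by the colimit formula. -/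
theorem result {C : Type u} [Category.{v} C] [HasFiniteColimits C] (m : ℕ) (U : (SimplexCategory.Truncated m)ᵒᵖ ⥤ C) : (SimplexCategory.Truncated.inclusion m).op.HasPointwiseLeftKanExtension U := by
  intro Y
  let L := (SimplexCategory.Truncated.inclusion m).op
  have : Finite (SimplexCategory.Truncated m) :=
    Finite.of_injective (fun X => (⟨X.obj.len, Nat.lt_succ_of_le X.property⟩ : Fin (m + 1)))
      fun a b h => by
        apply ObjectProperty.FullSubcategory.ext
        exact SimplexCategory.ext (congrArg Fin.val h)
  have : Finite (SimplexCategory.Truncated m)ᵒᵖ := Finite.of_equiv _ Opposite.equivToOpposite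
  have : ∀ X, Finite (L.obj X ⟶ Y) := fun X =>
    Finite.of_injective (fun f => ⇑(SimplexCategory.Hom.toOrderHom f.unop))
      fun a b h => Quiver.Hom.unop_inj (SimplexCategory.Hom.ext _ _ (DFunLike.coe_injective h))
  have : Finite (CostructuredArrow L Y) :=
    Finite.of_injective (fun f => (⟨f.left, f.hom⟩ : Σ X, L.obj X ⟶ Y)) fun a b h => by
      rcases a with ⟨a, ⟨⟨⟩⟩, f⟩; rcases b with ⟨b, ⟨⟨⟩⟩, g⟩
      cases h; rfl
  have : ∀ a b : CostructuredArrow L Y, Finite (a ⟶ b) := fun a b =>
    Finite.of_injective (fun f => ⇑(SimplexCategory.Hom.toOrderHom f.left.unop.hom)) fun x y h =>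
      CostructuredArrow.hom_ext _ _ (Quiver.Hom.unop_inj (InducedCategory.hom_ext (SimplexCategory.Hom.ext _ _ (DFunLike.coe_injective h))))
  let _ : FinCategory (CostructuredArrow L Y) :=
    { fintypeObj := Fintype.ofFinite _, fintypeHom := fun _ _ => Fintype.ofFinite _ }
  change HasColimit _
  infer_instance

end Groth.Agent.S6810
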