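import Groth.Statements.S6811
import Mathlib
import Groth.Agent.S6800

set_option autoImplicit false
open CategoryTheory CategoryTheory.Limits
universe v u
open CategoryTheory CategoryTheory.SimplicialObject


namespace Groth.Agent.S6811

set_option backward.isDefEq.respectTransparency false
set_option backward.defeqAttrib.useBackward true

/-- In a category with finite limits, an `n`-coskeletal simplicial object is `m`-coskeletal for every `m
≥ n`. -/
theorem result {C : Type u} [Category.{v} C] [HasFiniteLimits C] (U : SimplicialObject C) {n m : ℕ} (h : n ≤ m) [U.IsCoskeletal n] : U.IsCoskeletal m := by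
  haveI : ∀ F : (SimplexCategory.Truncated n)ᵒᵖ ⥤ C, (SimplexCategory.Truncated.inclusion n).op.HasPointwiseRightKanExtension F :=
    fun F => Groth.Agent.S6800.result n F
  have hU := Functor.isPointwiseRightKanExtensionOfIsRightKanExtension U
    (𝟙 ((SimplexCategory.Truncated.inclusion n).op ⋙ U))
  have hext : ∀ (k : SimplexCategoryᵒᵖ) {T : C} (a b : T ⟶ U.obj k),
      (∀ (j : (SimplexCategory.Truncated n)ᵒᵖ) (f : k ⟶ (SimplexCategory.Truncated.inclusion n).op.obj j),
        a ≫ U.map f = b ≫ U.map f) → a = b := fun k T a b hab =>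
    (hU k).hom_ext fun s => by
      have hs := hab s.right s.hom
      simp only [Functor.RightExtension.coneAt, Functor.RightExtension.mk_left, Functor.RightExtension.mk_hom,
        NatTrans.id_app]
      simpa using hs
  let i := (SimplexCategory.Truncated.incl n m h).op
  have huniq : ∀ (G : SimplicialObject C) (g : G ⟶ U)
      (β : (SimplexCategory.Truncated.inclusion m).op ⋙ G ⟶ (SimplexCategory.Truncated.inclusion m).op ⋙ U),
      (∀ j, g.app ((SimplexCategory.Truncated.inclusion n).op.obj j) = β.app (i.obj j)) →
        ∀ k, g.app ((SimplexCategory.Truncated.inclusion m).op.obj k) = β.app k := fun G g β hg k => by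
    refine hext _ _ _ fun j f => ?_
    let f' : k ⟶ i.obj j := (InducedCategory.homMk f.unop : Opposite.unop (i.obj j) ⟶ k.unop).op
    calc g.app _ ≫ U.map f = G.map f ≫ g.app _ := (g.naturality f).symm
      _ = G.map f ≫ β.app (i.obj j) := by rw [hg]
      _ = β.app k ≫ U.map f := β.naturality f'
  rw [isCoskeletal_iff]
  let α : (SimplexCategory.Truncated.inclusion m).op ⋙ U ⟶ _ := 𝟙 _
  let w : ∀ s : Functor.RightExtension (SimplexCategory.Truncated.inclusion m).op
      ((SimplexCategory.Truncated.inclusion m).op ⋙ U),
      (SimplexCategory.Truncated.inclusion n).op ⋙ s.left ⟶ (SimplexCategory.Truncated.inclusion n).op ⋙ U :=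
    fun s => Functor.whiskerLeft i s.hom
  refine ⟨⟨Limits.IsTerminal.ofUniqueHom (fun s => CostructuredArrow.homMk
    (U.liftOfIsRightKanExtension (𝟙 ((SimplexCategory.Truncated.inclusion n).op ⋙ U)) s.left (w s)) ?_) ?_⟩⟩
  · ext k
    change (U.liftOfIsRightKanExtension _ s.left (w s)).app _ ≫ 𝟙 _ = s.hom.app k
    rw [Category.comp_id]
    refine huniq s.left _ s.hom (fun j => ?_) k
    have := U.liftOfIsRightKanExtension_fac_app (𝟙 ((SimplexCategory.Truncated.inclusion n).op ⋙ U)) s.left
      (w s) j
    exact (Category.comp_id _).symm.trans this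
  · intro s g
    apply CostructuredArrow.hom_ext
    refine U.hom_ext_of_isRightKanExtension (𝟙 ((SimplexCategory.Truncated.inclusion n).op ⋙ U)) _ _ ?_
    ext j
    have h1 := NatTrans.congr_app (CostructuredArrow.w g) (i.obj j)
    have h2 := U.liftOfIsRightKanExtension_fac_app (𝟙 ((SimplexCategory.Truncated.inclusion n).op ⋙ U)) s.left
      (w s) j
    exact h1.trans h2.symm

end Groth.Agent.S6811
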