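import Groth.Statements.S6813
import Mathlib
import Groth.Agent.S6800

set_option autoImplicit false
open CategoryTheory CategoryTheory.Limits
universe v u
open CategoryTheory CategoryTheory.SimplicialObject


namespace Groth.Agent.S6813

set_option backward.isDefEq.respectTransparency false
set_option backward.defeqAttrib.useBackward true

open Opposite Simplicial

lemma connected (k : ℕ) (hk : 1 ≤ k) (c : SimplexCategoryᵒᵖ) :
    IsConnected (StructuredArrow c (SimplexCategory.Truncated.inclusion k).op) := by
  let L := (SimplexCategory.Truncated.inclusion k).op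
  let ob : ∀ (a : ℕ) (_ : a ≤ k) (_ : ⦋a⦌ ⟶ c.unop), StructuredArrow c L := fun a h f =>
    StructuredArrow.mk (S := c) (T := L) (Y := op (⟨⦋a⦌, h⟩ : SimplexCategory.Truncated k)) f.op
  let v : Fin (c.unop.len + 1) → StructuredArrow c L := fun i =>
    ob 0 (Nat.zero_le _) (SimplexCategory.const ⦋0⦌ c.unop i)
  haveI : Nonempty (StructuredArrow c L) := ⟨v 0⟩
  have hv : ∀ (x : StructuredArrow c L) (i : Fin (x.right.unop.obj.len + 1)),
      Zigzag x (v (x.hom.unop.toOrderHom i)) := fun x i => by
    refine Zigzag.of_hom (StructuredArrow.homMk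
      (InducedCategory.homMk (SimplexCategory.const ⦋0⦌ x.right.unop.obj i) :
        (⟨⦋0⦌, Nat.zero_le _⟩ : SimplexCategory.Truncated k) ⟶ x.right.unop).op ?_)
    refine Quiver.Hom.unop_inj ?_
    change SimplexCategory.const ⦋0⦌ x.right.unop.obj i ≫ x.hom.unop = SimplexCategory.const ⦋0⦌ c.unop _
    exact SimplexCategory.const_comp _ _ _
  have he : ∀ i j, i ≤ j → Zigzag (v i) (v j) := fun i j h => by
    have h0 := hv (ob 1 hk (SimplexCategory.mkOfLe i j h)) 0
    have h1 := hv (ob 1 hk (SimplexCategory.mkOfLe i j h)) 1
    exact h0.symm.trans h1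
  refine zigzag_isConnected fun a b => (hv a 0).trans (Zigzag.trans ?_ (hv b 0).symm)
  rcases le_total (a.hom.unop.toOrderHom 0) (b.hom.unop.toOrderHom 0) with h | h
  · exact he _ _ h
  · exact (he _ _ h).symm

/-- For `k ≥ 1` the forgetful functor from the over category `C/X` to `C` (with `C` having finite
limits) commutes with `cosk_k`; stated as: a `k`-coskeletal simplicial object of `C/X` has
`k`-coskeletal underlying simplicial object in `C`. -/
theorem result {C : Type u} [Category.{v} C] [HasFiniteLimits C] (X : C) (k : ℕ) (hk : 1 ≤ k) (V : SimplicialObject (Over X)) [V.IsCoskeletal k] : SimplicialObject.IsCoskeletal (V ⋙ Over.forget X) k := by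
  haveI : ∀ F : (SimplexCategory.Truncated k)ᵒᵖ ⥤ Over X,
      (SimplexCategory.Truncated.inclusion k).op.HasPointwiseRightKanExtension F :=
    fun F => Groth.Agent.S6800.result k F
  have hV := Functor.isPointwiseRightKanExtensionOfIsRightKanExtension V
    (𝟙 ((SimplexCategory.Truncated.inclusion k).op ⋙ V))
  haveI := fun c => connected k hk c
  rw [isCoskeletal_iff]
  haveI : (Over.forget X).PreservesPointwiseRightKanExtension
      ((SimplexCategory.Truncated.inclusion k).op ⋙ V) (SimplexCategory.Truncated.inclusion k).op :=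
    fun c => inferInstance
  have h := (hV.postcompose (Over.forget X)).isRightKanExtension
  have h2 : (Functor.RightExtension.mk (V ⋙ Over.forget X)
      (𝟙 ((SimplexCategory.Truncated.inclusion k).op ⋙ V ⋙ Over.forget X))).IsPointwiseRightKanExtension :=
    fun c => Limits.IsLimit.ofIsoLimit ((hV.postcompose (Over.forget X)) c)
      (Limits.Cone.ext (Iso.refl _) (fun j => by simp))
  exact h2.isRightKanExtension

end Groth.Agent.S6813
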