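import Groth.Statements.S6816
-- (no helpers)

set_option autoImplicit false
open CategoryTheory CategoryTheory.Limits
universe v u
open CochainComplex

namespace Groth.Agent.S6816

/-- The boundary morphisms `C ⟶ A⟦1⟧` attached to two degreewise splittings of a degreewise split
sequence `A ⟶ B ⟶ C` of cochain complexes are homotopic. -/
theorem result {C : Type u} [Category.{v} C] [Preadditive C] [HasBinaryBiproducts C] (S : ShortComplex (CochainComplex C ℤ)) (σ σ' : ∀ n : ℤ, (S.map (HomologicalComplex.eval C (ComplexShape.up ℤ) n)).Splitting) : Nonempty (Homotopy (CochainComplex.homOfDegreewiseSplit S σ) (CochainComplex.homOfDegreewiseSplit S σ')) := by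
  let r : ∀ p, S.X₂.X p ⟶ S.X₁.X p := fun p => (σ p).r
  let r' : ∀ p, S.X₂.X p ⟶ S.X₁.X p := fun p => (σ' p).r
  let s : ∀ p, S.X₃.X p ⟶ S.X₂.X p := fun p => (σ p).s
  let s' : ∀ p, S.X₃.X p ⟶ S.X₂.X p := fun p => (σ' p).s
  have fr : ∀ p, S.f.f p ≫ r p = 𝟙 _ := fun p => (σ p).f_r
  have fr' : ∀ p, S.f.f p ≫ r' p = 𝟙 _ := fun p => (σ' p).f_r
  have sg : ∀ p, s p ≫ S.g.f p = 𝟙 _ := fun p => (σ p).s_g
  have hid : ∀ p, r p ≫ S.f.f p + S.g.f p ≫ s p = 𝟙 _ := fun p => (σ p).id
  have hid' : ∀ p, r' p ≫ S.f.f p + S.g.f p ≫ s' p = 𝟙 _ := fun p => (σ' p).id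
  let φ : CochainComplex.HomComplex.Cochain S.X₃ S.X₁ 0 :=
    CochainComplex.HomComplex.Cochain.ofHoms fun p => s p ≫ r' p
  have hr : ∀ p, r' p = r p + S.g.f p ≫ s p ≫ r' p := fun p => by
    have h := congrArg (fun t => t ≫ r' p) (hid p)
    simpa [Preadditive.add_comp, fr'] using h.symm
  have hs : ∀ p, s' p = s p - s p ≫ r' p ≫ S.f.f p := fun p => by
    have h := congrArg (fun t => s p ≫ t) (hid' p)
    simp only [Preadditive.comp_add, Category.comp_id, reassoc_of% sg] at h
    rw [eq_sub_iff_add_eq, add_comm]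
    exact h
  refine ⟨(CochainComplex.HomComplex.Cochain.equivHomotopy _ _).symm
    ⟨-(φ.rightShift 1 (-1) (by norm_num)), ?_⟩⟩
  have key : (CochainComplex.cocycleOfDegreewiseSplit S σ).1 =
      (CochainComplex.cocycleOfDegreewiseSplit S σ').1 + CochainComplex.HomComplex.δ 0 1 φ := by
    ext p q hpq
    obtain rfl : q = p + 1 := by omega
    rw [CochainComplex.HomComplex.Cochain.add_v,
      CochainComplex.HomComplex.δ_v 0 1 (by norm_num) φ p (p + 1) hpq p (p + 1) (by omega) (by omega)]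
    change s p ≫ S.X₂.d p (p + 1) ≫ r (p + 1) = s' p ≫ S.X₂.d p (p + 1) ≫ r' (p + 1) + _
    simp only [φ, CochainComplex.HomComplex.Cochain.ofHoms_v, Int.negOnePow_one, Units.neg_smul, one_smul]
    rw [hs p, Preadditive.sub_comp, Category.assoc, Category.assoc, S.f.comm_assoc, fr', Category.comp_id]
    rw [hr (p + 1), Preadditive.comp_add, Preadditive.comp_add, ← S.g.comm_assoc, reassoc_of% sg]
    simp only [← hr (p + 1), Category.assoc]
    abel
  simp only [CochainComplex.homOfDegreewiseSplit, CochainComplex.HomComplex.Cocycle.cochain_ofHom_homOf_eq_coe,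
    CochainComplex.HomComplex.δ_neg, CochainComplex.HomComplex.Cocycle.equivHom_symm_apply,
    CochainComplex.HomComplex.Cocycle.rightShift_coe,
    φ.δ_rightShift 1 (-1) 0 (by norm_num) 1 (by norm_num), key,
    CochainComplex.HomComplex.Cochain.rightShift_add, Int.negOnePow_one, Units.neg_smul, one_smul, neg_neg]
  exact add_comm _ _

end Groth.Agent.S6816
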