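import Groth.Statements.S6817
import Groth.Agent.SSetLib.AddGrp

set_option autoImplicit false
open CategoryTheory
universe u
open SSet


namespace Groth.Agent.S6817

set_option backward.isDefEq.respectTransparency false
set_option backward.defeqAttrib.useBackward true

noncomputable section

open Simplicial Opposite AlgebraicTopology Groth.Agent.SSetLib

variable {X Y : SimplicialObject AddCommGrpCat.{u}}

/-- Translate a map of underlying simplicial sets so that it preserves zero. -/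
def center (a : und X ⟶ und Y) : und X ⟶ und Y where
  app m := ↾fun x => (a.app m x : Y.obj m) - (a.app m (0 : X.obj m) : Y.obj m)
  naturality m m' e := ConcreteCategory.hom_ext _ _ fun x => by
    change (a.app m' ((X.map e).hom x) : Y.obj m') - (a.app m' (0 : X.obj m') : Y.obj m') =
      (Y.map e).hom ((a.app m x : Y.obj m) - (a.app m (0 : X.obj m) : Y.obj m))
    rw [map_sub]
    congr 1
    · exact NatTrans.naturality_apply a e x
    · exact (congrArg (a.app m') (map_zero (X.map e).hom).symm).trans (NatTrans.naturality_apply a e _)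

/-- Translate a homotopy. -/
def centerH {a b : und X ⟶ und Y} (H : SimplicialObject.Homotopy a b) :
    SimplicialObject.Homotopy (center a) (center b) where
  h {n} i := ↾fun x => (H.h i x : Y _⦋n + 1⦌) - (H.h i (0 : X _⦋n⦌) : Y _⦋n + 1⦌)
  h_zero_comp_δ_zero n := ConcreteCategory.hom_ext _ _ fun x => by
    change (Y.δ _).hom (_ - _) = _ - _
    rw [map_sub]
    exact congrArg₂ (· - ·) (ConcreteCategory.congr_hom (H.h_zero_comp_δ_zero n) x)
      (ConcreteCategory.congr_hom (H.h_zero_comp_δ_zero n) _)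
  h_last_comp_δ_last n := ConcreteCategory.hom_ext _ _ fun x => by
    change (Y.δ _).hom (_ - _) = _ - _
    rw [map_sub]
    exact congrArg₂ (· - ·) (ConcreteCategory.congr_hom (H.h_last_comp_δ_last n) x)
      (ConcreteCategory.congr_hom (H.h_last_comp_δ_last n) _)
  h_succ_comp_δ_castSucc_of_lt {n} i j hij := ConcreteCategory.hom_ext _ _ fun x => by
    change (Y.δ _).hom (_ - _) = _ - _
    rw [map_sub]
    exact congrArg₂ (· - ·) (ConcreteCategory.congr_hom (H.h_succ_comp_δ_castSucc_of_lt i j hij) x)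
      ((ConcreteCategory.congr_hom (H.h_succ_comp_δ_castSucc_of_lt i j hij) _).trans
        (congrArg (H.h j) (map_zero (X.δ i).hom)))
  h_succ_comp_δ_castSucc_succ {n} j := ConcreteCategory.hom_ext _ _ fun x => by
    change (Y.δ _).hom (_ - _) = (Y.δ _).hom (_ - _)
    rw [map_sub, map_sub]
    exact congrArg₂ (· - ·) (ConcreteCategory.congr_hom (H.h_succ_comp_δ_castSucc_succ j) x)
      (ConcreteCategory.congr_hom (H.h_succ_comp_δ_castSucc_succ j) _)
  h_castSucc_comp_δ_succ_of_lt {n} i j hij := ConcreteCategory.hom_ext _ _ fun x => by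
    change (Y.δ _).hom (_ - _) = _ - _
    rw [map_sub]
    exact congrArg₂ (· - ·) (ConcreteCategory.congr_hom (H.h_castSucc_comp_δ_succ_of_lt i j hij) x)
      ((ConcreteCategory.congr_hom (H.h_castSucc_comp_δ_succ_of_lt i j hij) _).trans
        (congrArg (H.h j) (map_zero (X.δ i).hom)))
  h_comp_σ_castSucc_of_le {n} i j hij := ConcreteCategory.hom_ext _ _ fun x => by
    change (Y.σ _).hom (_ - _) = _ - _
    rw [map_sub]
    exact congrArg₂ (· - ·) (ConcreteCategory.congr_hom (H.h_comp_σ_castSucc_of_le i j hij) x)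
      ((ConcreteCategory.congr_hom (H.h_comp_σ_castSucc_of_le i j hij) _).trans
        (congrArg (H.h j.succ) (map_zero (X.σ i).hom)))
  h_comp_σ_succ_of_lt {n} i j hij := ConcreteCategory.hom_ext _ _ fun x => by
    change (Y.σ _).hom (_ - _) = _ - _
    rw [map_sub]
    exact congrArg₂ (· - ·) (ConcreteCategory.congr_hom (H.h_comp_σ_succ_of_lt i j hij) x)
      ((ConcreteCategory.congr_hom (H.h_comp_σ_succ_of_lt i j hij) _).trans
        (congrArg (H.h j.castSucc) (map_zero (X.σ i).hom)))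

/-- Linearise a map of underlying simplicial sets. -/
def lin (a : und X ⟶ und Y) : (und X ⋙ AddCommGrpCat.free) ⟶ Y :=
  Functor.whiskerRight a AddCommGrpCat.free ≫ Functor.whiskerLeft Y AddCommGrpCat.adj.counit

lemma lin_of (a : und X ⟶ und Y) (m : SimplexCategoryᵒᵖ) (x : X.obj m) :
    ((lin a).app m).hom (FreeAbelianGroup.of x) = a.app m x := by
  change (AddCommGrpCat.adj.counit.app _).hom (FreeAbelianGroup.map _ (FreeAbelianGroup.of x)) = _
  rw [FreeAbelianGroup.map_of_apply]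
  exact FreeAbelianGroup.lift_apply_of _ _

lemma counit_of (G : AddCommGrpCat.{u}) (z : G) : (AddCommGrpCat.adj.counit.app G).hom (FreeAbelianGroup.of z) = z :=
  FreeAbelianGroup.lift_apply_of _ _

/-- The cycles with all faces zero. -/
def Cyc (W : SimplicialObject AddCommGrpCat.{u}) (n : ℕ) (x : W _⦋n⦌) : Prop :=
  ∀ (m : ℕ) (hm : n = m + 1) (i : Fin (m + 2)), (W.δ i).hom (hm ▸ x) = 0

lemma Cyc.map {a : und X ⟶ und Y} {n : ℕ} {x : X _⦋n⦌} (hx : Cyc X n x)
    (h0 : ∀ m, (a.app m (0 : X.obj m) : Y.obj m) = 0) : Cyc Y n (a.app _ x) := by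
  rintro m rfl i
  refine (NatTrans.naturality_apply a (SimplexCategory.δ i).op x).symm.trans ?_
  exact (congrArg (a.app _) (hx m rfl i)).trans (h0 _)

lemma center_zero (a : und X ⟶ und Y) (m : SimplexCategoryᵒᵖ) : ((center a).app m (0 : X.obj m) : Y.obj m) = 0 :=
  sub_self (G := Y.obj m) _

/-- The chain-level boundaries. -/
def Bdy (W : SimplicialObject AddCommGrpCat.{u}) (n : ℕ) (x : W _⦋n⦌) : Prop :=
  ∃ y : W _⦋n + 1⦌, (((alternatingFaceMapComplex AddCommGrpCat.{u}).obj W).d (n + 1) n).hom y = x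

set_option maxHeartbeats 1000000 in
lemma bdy_sub_of_homotopy {a b : und X ⟶ und Y} (H : SimplicialObject.Homotopy a b) (n : ℕ) (x : X _⦋n⦌)
    (hx : Cyc X n x) : Bdy Y n (((center a).app _ x : Y _⦋n⦌) - ((center b).app _ x : Y _⦋n⦌)) := by
  let K : Homotopy ((alternatingFaceMapComplex AddCommGrpCat.{u}).map (lin (center a)))
      ((alternatingFaceMapComplex AddCommGrpCat.{u}).map (lin (center b))) :=
    (((centerH H).whiskerRight AddCommGrpCat.free).postcomp
      (Functor.whiskerLeft Y AddCommGrpCat.adj.counit)).toChainHomotopy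
  have hc := ConcreteCategory.congr_hom (K.comm n) (FreeAbelianGroup.of x)
  change ((lin (center a)).app (op ⦋n⦌)).hom (FreeAbelianGroup.of x) = _ at hc
  rw [lin_of, prevD_eq K.hom (show (ComplexShape.down ℕ).Rel (n + 1) n by simp)] at hc
  refine ⟨(K.hom n (n + 1)).hom (FreeAbelianGroup.of x), ?_⟩
  have h0 : (dNext n K.hom).hom (FreeAbelianGroup.of x) = 0 := by
    cases n with
    | zero => rw [dNext_eq_zero _ _ (by simp)]; rfl
    | succ m =>
      rw [dNext_eq K.hom (show (ComplexShape.down ℕ).Rel (m + 1) m by simp), AddCommGrpCat.hom_comp,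
        AddMonoidHom.comp_apply]
      have hd : (((alternatingFaceMapComplex AddCommGrpCat.{u}).obj (und X ⋙ AddCommGrpCat.free)).d (m + 1) m).hom
          (FreeAbelianGroup.of x) = ((∑ i : Fin (m + 2), (-1 : ℤ) ^ (i : ℕ)) • FreeAbelianGroup.of (α := X _⦋m⦌) (0 : X _⦋m⦌) : FreeAbelianGroup (X _⦋m⦌)) := by
        simp only [alternatingFaceMapComplex_obj_d, AlternatingFaceMapComplex.objD]
        rw [homSum_apply, Finset.sum_smul]
        refine Finset.sum_congr rfl fun i _ => ?_
        change (-1 : ℤ) ^ (i : ℕ) • FreeAbelianGroup.map (fun y : X _⦋m + 1⦌ => (X.δ i).hom y) (FreeAbelianGroup.of x) = _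
        rw [FreeAbelianGroup.map_of_apply]
        exact congrArg _ (congrArg _ (hx m rfl i))
      rw [hd, map_zsmul]
      have hK : (K.hom m (m + 1)).hom (FreeAbelianGroup.of (0 : X _⦋m⦌)) = 0 := by
        simp only [K, SimplicialObject.Homotopy.toChainHomotopy, SimplicialObject.Homotopy.ToChainHomotopy.hom]
        rw [dif_pos trivial]
        simp only [eqToHom_refl, Category.comp_id]
        refine neg_eq_zero.2 ?_
        rw [homSum_apply]
        refine Finset.sum_eq_zero fun i _ => ?_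
        change (-1 : ℤ) ^ (i : ℕ) • (AddCommGrpCat.adj.counit.app (Y.obj (op ⦋m + 1⦌))).hom
          (FreeAbelianGroup.map (fun z : X _⦋m⦌ => ((centerH H).h i z : Y _⦋m + 1⦌)) (FreeAbelianGroup.of (0 : X _⦋m⦌))) = 0
        rw [FreeAbelianGroup.map_of_apply, counit_of]
        have h00 : ((centerH H).h i (0 : X _⦋m⦌) : Y _⦋m + 1⦌) = 0 := sub_self (G := Y _⦋m + 1⦌) _
        rw [h00, smul_zero]
      rw [hK, smul_zero]
  rw [AddCommGrpCat.hom_add_apply, AddCommGrpCat.hom_add_apply] at hc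
  change _ = @HAdd.hAdd (Y _⦋n⦌) (Y _⦋n⦌) (Y _⦋n⦌) _ (@HAdd.hAdd (Y _⦋n⦌) (Y _⦋n⦌) (Y _⦋n⦌) _ ((dNext n K.hom).hom _)
    ((((alternatingFaceMapComplex AddCommGrpCat.{u}).obj Y).d (n + 1) n).hom _))
    (((lin (center b)).app (op ⦋n⦌)).hom (FreeAbelianGroup.of x) : Y _⦋n⦌) at hc
  rw [h0, zero_add, lin_of] at hc
  rw [hc, add_sub_cancel_right]
  rfl

variable {W : SimplicialObject AddCommGrpCat.{u}}

lemma Bdy.add {n : ℕ} {x y : W _⦋n⦌} : Bdy W n x → Bdy W n y → Bdy W n (x + y) := by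
  rintro ⟨a, rfl⟩ ⟨b, rfl⟩
  exact ⟨a + b, map_add _ a b⟩

lemma Bdy.sub_comm {n : ℕ} {x y : W _⦋n⦌} : Bdy W n (x - y) → Bdy W n (y - x) := by
  rintro ⟨a, ha⟩
  exact ⟨-a, (map_neg _ a).trans ((congrArg Neg.neg ha).trans (neg_sub x y))⟩

/-- The differential of a simplex with vanishing higher faces. -/
lemma d_of_higher {k : ℕ} (y : W _⦋k + 1⦌) (hy : ∀ j : Fin (k + 1), (W.δ j.succ).hom y = 0) :
    (((alternatingFaceMapComplex AddCommGrpCat.{u}).obj W).d (k + 1) k).hom y = (W.δ (0 : Fin (k + 2))).hom y := by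
  simp only [alternatingFaceMapComplex_obj_d, AlternatingFaceMapComplex.objD]
  rw [homSum_apply, Fin.sum_univ_succ]
  refine (congrArg₂ (· + ·) ?_ (Finset.sum_eq_zero fun j _ => ?_)).trans (add_zero _)
  · simp
  · change (-1 : ℤ) ^ _ • (W.δ j.succ).hom y = 0
    rw [hy j, smul_zero]

lemma P_higher {k : ℕ} (y : W _⦋k + 1⦌) (j : Fin (k + 1)) :
    (W.δ j.succ).hom ((DoldKan.PInfty.f (k + 1) : W _⦋k + 1⦌ ⟶ W _⦋k + 1⦌).hom y) = 0 := by
  rw [DoldKan.PInfty_f]
  exact ConcreteCategory.congr_hom (DoldKan.HigherFacesVanish.of_P (k + 1) k j (by omega)) y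

/-- The normalization of a chain. -/
def pp (W : SimplicialObject AddCommGrpCat.{u}) (n : ℕ) (x : W _⦋n⦌) : W _⦋n⦌ :=
  (DoldKan.PInfty.f n : W _⦋n⦌ ⟶ W _⦋n⦌).hom x

lemma cyc_pp {n : ℕ} (x : W _⦋n⦌) (hx : (((alternatingFaceMapComplex AddCommGrpCat.{u}).obj W).d n
    ((ComplexShape.down ℕ).next n)).hom x = 0) : Cyc W n (pp W n x) := by
  rintro m rfl i
  rcases Fin.eq_zero_or_eq_succ i with rfl | ⟨j, rfl⟩
  · refine (d_of_higher _ (P_higher x)).symm.trans ?_
    refine (ConcreteCategory.congr_hom ((DoldKan.PInfty (X := W)).comm (m + 1) m) x).trans ?_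
    change (DoldKan.PInfty.f m : W _⦋m⦌ ⟶ W _⦋m⦌).hom ((((alternatingFaceMapComplex AddCommGrpCat.{u}).obj W).d (m + 1) m).hom x) = 0
    rw [ChainComplex.next_nat_succ] at hx
    exact (congrArg _ hx).trans (map_zero _)
  · exact P_higher x j

lemma bdy_sub_pp {n : ℕ} (x : W _⦋n⦌) (hx : (((alternatingFaceMapComplex AddCommGrpCat.{u}).obj W).d n
    ((ComplexShape.down ℕ).next n)).hom x = 0) : Bdy W n (x - pp W n x) := by
  let h := DoldKan.homotopyPInftyToId W
  have hc := ConcreteCategory.congr_hom (h.comm n) x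
  rw [prevD_eq h.hom (show (ComplexShape.down ℕ).Rel (n + 1) n by simp)] at hc
  refine ⟨-((h.hom n (n + 1)).hom x), ?_⟩
  change pp W n x = @HAdd.hAdd (W _⦋n⦌) (W _⦋n⦌) (W _⦋n⦌) _ (@HAdd.hAdd (W _⦋n⦌) (W _⦋n⦌) (W _⦋n⦌) _
    ((h.hom ((ComplexShape.down ℕ).next n) n).hom ((((alternatingFaceMapComplex AddCommGrpCat.{u}).obj W).d n
    ((ComplexShape.down ℕ).next n)).hom x))
    ((((alternatingFaceMapComplex AddCommGrpCat.{u}).obj W).d (n + 1) n).hom ((h.hom n (n + 1)).hom x))) x at hc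
  rw [hx, map_zero, zero_add] at hc
  rw [hc, map_neg, sub_add_cancel_right]

lemma d_cyc {n : ℕ} {x : W _⦋n⦌} (hx : Cyc W n x) :
    (((alternatingFaceMapComplex AddCommGrpCat.{u}).obj W).d n ((ComplexShape.down ℕ).next n)).hom x = 0 := by
  cases n with
  | zero => rw [HomologicalComplex.shape _ _ _ (by simp)]; rfl
  | succ m =>
    rw [ChainComplex.next_nat_succ]
    exact (d_of_higher x fun j => hx m rfl j.succ).trans (hx m rfl 0)

lemma pp_map (f : X ⟶ Y) (n : ℕ) (x : X _⦋n⦌) :
    pp Y n ((f.app (op ⦋n⦌)).hom x) = (f.app (op ⦋n⦌)).hom (pp X n x) :=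
  ConcreteCategory.congr_hom (DoldKan.PInfty_f_naturality n f) x

lemma pp_d (n : ℕ) (y : W _⦋n + 1⦌) :
    pp W n ((((alternatingFaceMapComplex AddCommGrpCat.{u}).obj W).d (n + 1) n).hom y) =
      (((alternatingFaceMapComplex AddCommGrpCat.{u}).obj W).d (n + 1) n).hom (pp W (n + 1) y) :=
  (ConcreteCategory.congr_hom ((DoldKan.PInfty (X := W)).comm (n + 1) n) y).symm

/-- A homomorphism of free abelian groups from a family of elements. -/
def pick (A : AddCommGrpCat.{u}) {B : AddCommGrpCat.{u}} (c : A → B) :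
    AddCommGrpCat.of (FreeAbelianGroup A) ⟶ B :=
  AddCommGrpCat.ofHom (FreeAbelianGroup.lift c)

instance (A : AddCommGrpCat.{u}) : Epi (pick A (id : A → A)) :=
  (AddCommGrpCat.epi_iff_surjective _).2 fun a => ⟨FreeAbelianGroup.of a, FreeAbelianGroup.lift_apply_of _ _⟩

lemma isIso_homologyMap {K L : ChainComplex AddCommGrpCat.{u} ℕ} (φ : K ⟶ L) (n : ℕ)
    (h1 : ∀ (x : K.X n) (y : L.X (n + 1)), (K.d n ((ComplexShape.down ℕ).next n)).hom x = 0 →
      (φ.f n).hom x = (L.d (n + 1) n).hom y → ∃ x₁ : K.X (n + 1), (K.d (n + 1) n).hom x₁ = x)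
    (h2 : ∀ z : L.X n, (L.d n ((ComplexShape.down ℕ).next n)).hom z = 0 →
      ∃ (x : K.X n) (y : L.X (n + 1)), (K.d n ((ComplexShape.down ℕ).next n)).hom x = 0 ∧
        z = (φ.f n).hom x + (L.d (n + 1) n).hom y) : IsIso (HomologicalComplex.homologyMap φ n) := by
  classical
  haveI : Mono (HomologicalComplex.homologyMap φ n) := by
    rw [HomologicalComplex.mono_homologyMap_iff_up_to_refinements φ (n + 1) n _ (by simp) rfl]
    intro A x₂ hx₂ y₁ hy
    choose c hc using fun a : A => h1 (x₂.hom a) (y₁.hom a) (ConcreteCategory.congr_hom hx₂ a)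
      (ConcreteCategory.congr_hom hy a)
    refine ⟨_, pick A id, inferInstance, pick A c, AddCommGrpCat.hom_ext (FreeAbelianGroup.lift_ext _ _ fun a => ?_)⟩
    change x₂.hom (FreeAbelianGroup.lift id (FreeAbelianGroup.of a)) = (K.d (n + 1) n).hom (FreeAbelianGroup.lift c (FreeAbelianGroup.of a))
    rw [FreeAbelianGroup.lift_apply_of, FreeAbelianGroup.lift_apply_of, hc]
    rfl
  haveI : Epi (HomologicalComplex.homologyMap φ n) := by
    rw [HomologicalComplex.epi_homologyMap_iff_up_to_refinements φ (n + 1) n _ (by simp) rfl]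
    intro A y₂ hy₂
    choose a b ha hb using fun a : A => h2 (y₂.hom a) (ConcreteCategory.congr_hom hy₂ a)
    refine ⟨_, pick A id, inferInstance, pick A a, AddCommGrpCat.hom_ext (FreeAbelianGroup.lift_ext _ _ fun t => ?_),
      pick A b, AddCommGrpCat.hom_ext (FreeAbelianGroup.lift_ext _ _ fun t => ?_)⟩
    · change (K.d n _).hom (FreeAbelianGroup.lift a (FreeAbelianGroup.of t)) = 0
      rw [FreeAbelianGroup.lift_apply_of, ha]
    · change y₂.hom (FreeAbelianGroup.lift id (FreeAbelianGroup.of t)) =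
        (φ.f n).hom (FreeAbelianGroup.lift a (FreeAbelianGroup.of t)) + (L.d (n + 1) n).hom (FreeAbelianGroup.lift b (FreeAbelianGroup.of t))
      rw [FreeAbelianGroup.lift_apply_of, FreeAbelianGroup.lift_apply_of, FreeAbelianGroup.lift_apply_of, ← hb]
      rfl
  exact isIso_of_mono_of_epi _

lemma bdy_of_or {a b : und X ⟶ und Y} (h : Nonempty (SSet.Homotopy a b) ∨ Nonempty (SSet.Homotopy b a))
    (n : ℕ) (x : X _⦋n⦌) (hx : Cyc X n x) :
    Bdy Y n (((center a).app _ x : Y _⦋n⦌) - ((center b).app _ x : Y _⦋n⦌)) := by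
  rcases h with ⟨⟨H⟩⟩ | ⟨⟨H⟩⟩
  · exact bdy_sub_of_homotopy H.toSimplicialObjectHomotopy n x hx
  · exact (bdy_sub_of_homotopy H.toSimplicialObjectHomotopy n x hx).sub_comm

lemma main {U V : SimplicialObject AddCommGrpCat.{u}} (f : U ⟶ V) (g : und V ⟶ und U)
    (hX : Nonempty (SSet.Homotopy (Functor.whiskerRight f (forget AddCommGrpCat.{u}) ≫ g) (𝟙 (und U))) ∨
      Nonempty (SSet.Homotopy (𝟙 (und U)) (Functor.whiskerRight f (forget AddCommGrpCat.{u}) ≫ g)))
    (hY : Nonempty (SSet.Homotopy (g ≫ Functor.whiskerRight f (forget AddCommGrpCat.{u})) (𝟙 (und V))) ∨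
      Nonempty (SSet.Homotopy (𝟙 (und V)) (g ≫ Functor.whiskerRight f (forget AddCommGrpCat.{u})))) :
    QuasiIso ((alternatingFaceMapComplex AddCommGrpCat.{u}).map f) := by
  rw [quasiIso_iff]
  intro n
  rw [quasiIsoAt_iff_isIso_homologyMap]
  refine isIso_homologyMap _ n (fun x y hx hy => ?_) (fun z hz => ?_)
  · change (f.app (op ⦋n⦌)).hom x = _ at hy
    have h1 : (f.app (op ⦋n⦌)).hom (pp U n x) =
        (((alternatingFaceMapComplex AddCommGrpCat.{u}).obj V).d (n + 1) n).hom (pp V (n + 1) y) := by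
      rw [← pp_map, hy]
      exact pp_d n y
    let w : U _⦋n + 1⦌ := (center g).app _ (pp V (n + 1) y)
    have hw : Bdy U n (((center g).app _ ((f.app (op ⦋n⦌)).hom (pp U n x)) : U _⦋n⦌)) := by
      refine ⟨w, (d_of_higher w fun j => ?_).trans ?_⟩
      · exact (NatTrans.naturality_apply (center g) (SimplexCategory.δ j.succ).op _).symm.trans
          ((congrArg ((center g).app _) (P_higher y j)).trans (center_zero g _))
      · refine (NatTrans.naturality_apply (center g) (SimplexCategory.δ (0 : Fin (n + 2))).op _).symm.trans ?_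
        exact congrArg ((center g).app _) (((d_of_higher _ (P_higher y)).symm).trans h1.symm)
    have h2 := bdy_of_or hX n _ (cyc_pp x hx)
    have e1 : ((center (Functor.whiskerRight f (forget AddCommGrpCat.{u}) ≫ g)).app _ (pp U n x) : U _⦋n⦌) =
        (center g).app _ ((f.app (op ⦋n⦌)).hom (pp U n x)) := by
      change @HSub.hSub (U _⦋n⦌) (U _⦋n⦌) (U _⦋n⦌) _ (g.app _ ((f.app _).hom (pp U n x)))
        (g.app _ ((f.app (op ⦋n⦌)).hom (0 : U _⦋n⦌))) = _
      rw [map_zero]
      rfl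
    have e2 : ((center (𝟙 (und U))).app _ (pp U n x) : U _⦋n⦌) = pp U n x := sub_zero (G := U _⦋n⦌) _
    rw [e1, e2] at h2
    have h3 := ((bdy_sub_pp x hx).add h2.sub_comm).add hw
    rw [sub_add_sub_cancel, sub_add_cancel] at h3
    exact h3
  · have h2 := (bdy_of_or hY n _ (cyc_pp z hz)).sub_comm
    have e1 : ((center (g ≫ Functor.whiskerRight f (forget AddCommGrpCat.{u}))).app _ (pp V n z) : V _⦋n⦌) =
        (f.app (op ⦋n⦌)).hom ((center g).app _ (pp V n z)) := by
      refine (map_sub (f.app (op ⦋n⦌)).hom _ _).symm.trans ?_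
      rfl
    have e2 : ((center (𝟙 (und V))).app _ (pp V n z) : V _⦋n⦌) = pp V n z := sub_zero (G := V _⦋n⦌) _
    rw [e1, e2] at h2
    obtain ⟨b, hb⟩ := (bdy_sub_pp z hz).add h2
    rw [sub_add_sub_cancel] at hb
    refine ⟨(center g).app _ (pp V n z), b, d_cyc (Cyc.map (a := center g) (cyc_pp z hz) (center_zero g)), ?_⟩
    rw [hb]
    exact (add_sub_cancel _ _).symm

end

/-- A homomorphism of simplicial abelian groups whose underlying map of simplicial sets is a homotopy
equivalence induces a quasi-isomorphism of associated chain complexes. (The published statement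
allows the composites with a homotopy inverse to be joined to the identities by chains of
homotopies; this row assumes single homotopies, in either direction.) -/
theorem result {X Y : SimplicialObject AddCommGrpCat.{u}} (f : X ⟶ Y) (g : (Y ⋙ forget AddCommGrpCat.{u} : SSet.{u}) ⟶ (X ⋙ forget AddCommGrpCat.{u} : SSet.{u})) (hX : Nonempty (SSet.Homotopy (Functor.whiskerRight f (forget AddCommGrpCat.{u}) ≫ g) (𝟙 _)) ∨ Nonempty (SSet.Homotopy (𝟙 _) (Functor.whiskerRight f (forget AddCommGrpCat.{u}) ≫ g))) (hY : Nonempty (SSet.Homotopy (g ≫ Functor.whiskerRight f (forget AddCommGrpCat.{u})) (𝟙 _)) ∨ Nonempty (SSet.Homotopy (𝟙 _) (g ≫ Functor.whiskerRight f (forget AddCommGrpCat.{u})))) : QuasiIso ((AlgebraicTopology.alternatingFaceMapComplex AddCommGrpCat.{u}).map f) := by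
  exact main f g hX hY

end Groth.Agent.S6817
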