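import Groth.Statements.S6818
import Groth.Agent.SSetLib.Skel

set_option autoImplicit false
open CategoryTheory CategoryTheory.Limits Opposite
universe v u
open CategoryTheory CategoryTheory.Abelian

open Groth.Agent.SSetLib Simplicial Opposite
open AlgebraicTopology

namespace Groth.Agent.S6818

set_option backward.isDefEq.respectTransparency false
set_option backward.defeqAttrib.useBackward true

/-- For a simplicial object `U` of an abelian category and `n ≥ 0`, the subobjects `U'_m ⊆ U_m`
generated by the images of all `U_i ⟶ U_m` induced by maps `[m] ⟶ [i]` with `i ≤ n` form a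
simplicial subobject equal to `U` in dimensions `≤ n` whose normalized part vanishes in dimensions
`> n`. Here the normalized subobject of `U_m` is the joint kernel of the faces `d_1, …, d_m`; the
published statement uses the faces `d_0, …, d_{m-1}`, the mirror-image convention, and both versions
hold. -/
theorem result {A : Type u} [Category.{v} A] [Abelian A] (U : SimplicialObject A) (n : ℕ) (U' : ∀ m : ℕ, Subobject (U.obj (op (SimplexCategory.mk m)))) (hU' : ∀ m : ℕ, IsLUB (Set.range (fun φ : Σ i : Fin (n + 1), (SimplexCategory.mk m ⟶ SimplexCategory.mk i) => imageSubobject (U.map φ.2.op))) (U' m)) : (∀ (m m' : ℕ) (ψ : SimplexCategory.mk m' ⟶ SimplexCategory.mk m), imageSubobject ((U' m).arrow ≫ U.map ψ.op) ≤ U' m') ∧ (∀ i : ℕ, i ≤ n → U' i = ⊤) ∧ (∀ m : ℕ, n < m → U' m ⊓ AlgebraicTopology.NormalizedMooreComplex.objX U m = ⊥) := by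
  refine ⟨fun m m' ψ => ?_, fun i hi => ?_, fun m hm => inf_normalized_eq_bot U m _ ?_⟩
  · have h0 : ((U' m).arrow ≫ U.map ψ.op) ≫ cokernel.π (U' m').arrow = 0 := by
      rw [Category.assoc]
      refine comp_eq_zero_of_isLUB _ _ (hU' m) _ fun φ => ?_
      rw [← Category.assoc, ← Functor.map_comp, ← op_comp]
      have hle : imageSubobject (U.map (ψ ≫ φ.2).op) ≤ U' m' := (hU' m').1 ⟨⟨φ.1, ψ ≫ φ.2⟩, rfl⟩
      rw [show U.map (ψ ≫ φ.2).op = (factorThruImageSubobject (U.map (ψ ≫ φ.2).op) ≫ Subobject.ofLE _ _ hle) ≫ (U' m').arrow by simp,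
        Category.assoc, cokernel.condition, comp_zero]
    exact imageSubobject_le _ (Abelian.monoLift _ _ h0) (Abelian.monoLift_comp _ _ h0)
  · have hle : imageSubobject (U.map (𝟙 (SimplexCategory.mk i)).op) ≤ U' i :=
      (hU' i).1 ⟨⟨⟨i, by omega⟩, 𝟙 _⟩, rfl⟩
    refine eq_top_iff.2 ((le_of_eq ?_).trans hle)
    have e : U.map (𝟙 (SimplexCategory.mk i)).op = 𝟙 _ := U.map_id _
    rw [e, imageSubobject_mono]
    exact ((Subobject.isIso_iff_mk_eq_top _).1 inferInstance).symm
  · exact comp_eq_zero_of_isLUB _ _ (hU' m) _ fun φ =>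
      DoldKan.degeneracy_comp_PInfty _ m φ.2 (not_mono_of_lt (by have := φ.1.isLt; omega) φ.2)

end Groth.Agent.S6818
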