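import Groth.Statements.S6820


set_option autoImplicit false
universe u
open Smoothing

namespace Groth.Agent.S6820

/-- Let A be a Noetherian ring, M a finite A-module, S a multiplicative subset of A and π an element of
A such that on the localised module S⁻¹M the kernels of multiplication by π and by π² agree. Then
there is an element s of S such that for every n > 0 the kernels of multiplication by sⁿπ and by
(sⁿπ)² on M agree. (Kernel equalities are written as implications, the reverse inclusions being
automatic.) -/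
theorem result {A : Type u} [CommRing A] [IsNoetherianRing A]
    (M : Type u) [AddCommGroup M] [Module A M] [Module.Finite A M] (S : Submonoid A) (π : A)
    (h : ∀ m : LocalizedModule S M, π ^ 2 • m = 0 → π • m = 0) :
    ∃ s ∈ S, ∀ n : ℕ, 0 < n → ∀ m : M, (s ^ n * π) ^ 2 • m = 0 → (s ^ n * π) • m = 0 := by
  classical
  let K := LinearMap.ker (LinearMap.lsmul A M (π ^ 2))
  obtain ⟨T, hT⟩ := (inferInstance : IsNoetherian A M).noetherian K
  have hex : ∀ m ∈ K, ∃ s ∈ S, s • π • m = 0 := by
    intro m hm
    have hm' : π ^ 2 • m = 0 := hm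
    have := h (LocalizedModule.mkLinearMap S M m) (by rw [← map_smul, hm', map_zero])
    rw [← map_smul] at this
    obtain ⟨⟨s, hs⟩, hs'⟩ := (IsLocalizedModule.eq_zero_iff S (LocalizedModule.mkLinearMap S M)).1 this
    exact ⟨s, hs, hs'⟩
  choose! f hfS hf using hex
  let s0 := ∏ m ∈ T, f m
  have hmemK : ∀ m ∈ T, m ∈ K := fun m hm => hT ▸ Submodule.subset_span hm
  have hs0 : s0 ∈ S := prod_mem fun m hm => hfS m (hmemK m hm)
  have hkill : ∀ m ∈ K, s0 • π • m = 0 := by
    have hle : K ≤ LinearMap.ker ((LinearMap.lsmul A M s0).comp (LinearMap.lsmul A M π)) := by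
      rw [← hT, Submodule.span_le]
      intro m hm
      show s0 • π • m = 0
      obtain ⟨c, hc⟩ := Finset.dvd_prod_of_mem f hm
      rw [show s0 = c * f m from hc.trans (mul_comm _ _), mul_smul, hf m (hmemK m hm), smul_zero]
    exact fun m hm => hle hm
  let g : ℕ →o Submodule A M := ⟨fun k => LinearMap.ker (LinearMap.lsmul A M (s0 ^ k)), fun a b hab m (hm : s0 ^ a • m = 0) => by
    show s0 ^ b • m = 0
    rw [← Nat.sub_add_cancel hab, pow_add, mul_smul, hm, smul_zero]⟩
  obtain ⟨N, hN⟩ := monotone_stabilizes_iff_noetherian.mpr (inferInstance : IsNoetherian A M) g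
  refine ⟨s0 ^ (N + 1), S.pow_mem hs0 _, fun n hn m hm => ?_⟩
  have h1 : (s0 ^ (2 * ((N + 1) * n))) • m ∈ K := by
    show π ^ 2 • s0 ^ (2 * ((N + 1) * n)) • m = 0
    rw [smul_smul, ← hm]
    congr 1
    ring
  have h2 := hkill _ h1
  have h3 : π • m ∈ g (2 * ((N + 1) * n) + 1) := by
    show s0 ^ _ • π • m = 0
    rw [← h2]
    simp only [smul_smul]
    congr 1
    ring
  have h4 : N ≤ 2 * ((N + 1) * n) + 1 := by nlinarith
  rw [← hN _ h4] at h3
  have h5 : s0 ^ N • π • m = 0 := h3
  have h6 : N ≤ (N + 1) * n := by nlinarith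
  rw [← pow_mul, mul_smul, ← Nat.sub_add_cancel h6, pow_add, mul_smul, h5, smul_zero]

end Groth.Agent.S6820
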