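import Groth.Statements.S6829
import Groth.Agent.Smoothing.BaseChange


set_option autoImplicit false
universe u
open Smoothing

namespace Groth.Agent.S6829

open TensorProduct in
/-- Let A be a finitely presented R-algebra, R → R' a ring map and a ∈ A. If a is elementary standard,
resp. strictly standard, in A over R, then a ⊗ 1 is elementary standard, resp. strictly standard, in
A ⊗_R R' over R' (written here as 1 ⊗ a in R' ⊗_R A). -/
theorem result {R A R' : Type u} [CommRing R] [CommRing A] [Algebra R A]
    [Algebra.FinitePresentation R A] [CommRing R'] [Algebra R R'] (a : A) :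
    (Smoothing.IsElementaryStandard R A a →
        Smoothing.IsElementaryStandard R' (R' ⊗[R] A) ((1 : R') ⊗ₜ[R] a)) ∧
      (Smoothing.IsStrictlyStandard R A a →
        Smoothing.IsStrictlyStandard R' (R' ⊗[R] A) ((1 : R') ⊗ₜ[R] a)) := by
  constructor
  · rintro ⟨P, ⟨a', ha'⟩, hk⟩
    refine ⟨Groth.Agent.Smoothing.baseChange R' P, ⟨(1 : R') ⊗ₜ[R] a', ?_⟩,
      Groth.Agent.Smoothing.killsTail_baseChange R' P a hk⟩
    refine Eq.trans ?_ (congrArg ((1 : R') ⊗ₜ[R] a' * ·)
      ((congrArg (Groth.Agent.Smoothing.baseChange R' P).hom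
        (Groth.Agent.Smoothing.map_jacobianMinor R' P _ _)).trans
          (Groth.Agent.Smoothing.baseChange_hom_map R' P _))).symm
    rw [Algebra.TensorProduct.tmul_mul_tmul, mul_one]
    exact congrArg _ ha'
  · rintro ⟨P, hspan, hk⟩
    refine ⟨Groth.Agent.Smoothing.baseChange R' P, ?_,
      Groth.Agent.Smoothing.killsTail_baseChange R' P a hk⟩
    have h := Ideal.mem_map_of_mem
      (Algebra.TensorProduct.includeRight : A →ₐ[R] R' ⊗[R] A).toRingHom hspan
    rw [Ideal.map_span, ← Set.range_comp] at h
    refine Ideal.span_mono ?_ h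
    rintro _ ⟨cols, rfl⟩
    refine ⟨cols, ?_⟩
    exact (congrArg (Groth.Agent.Smoothing.baseChange R' P).hom
        (Groth.Agent.Smoothing.map_jacobianMinor R' P _ _)).trans
          (Groth.Agent.Smoothing.baseChange_hom_map R' P _)

end Groth.Agent.S6829
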