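import Groth.Statements.S6853
import Groth.Agent.InvMod.Basic

set_option autoImplicit false
universe u
open CategoryTheory CategoryTheory.Limits TopologicalSpace
open ModSite

namespace Groth.Agent.S6853

/-- Let f : (X, O_X) → (Y, O_Y) be a morphism of ringed spaces and L an invertible O_Y-module, i.e. N ↦
L ⊗ N is an equivalence of Mod(O_Y). Then f^*L is an invertible O_X-module: M ↦ f^*L ⊗ M is an
equivalence of Mod(O_X). -/
theorem result {X Y : TopCat.{u}} (f : X ⟶ Y) (O_X : TopCat.Sheaf CommRingCat.{u} X)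
    (O_Y : TopCat.Sheaf CommRingCat.{u} Y)
    (c : O_Y ⟶ ((TopologicalSpace.Opens.map f).sheafPushforwardContinuous CommRingCat.{u}
      (Opens.grothendieckTopology Y) (Opens.grothendieckTopology X)).obj O_X)
    (L : ModSite.Mod O_Y) (hL : ((ModSite.tensorBi O_Y).obj L).IsEquivalence) :
    ((ModSite.tensorBi O_X).obj ((ModSite.RMor.ofFlat (TopologicalSpace.Opens.map f) c).pull.obj L)).IsEquivalence := by
  haveI : (TopologicalSpace.Opens.map f).Final := Functor.final_of_exists_of_isFiltered _
    (fun V => ⟨⊤, ⟨homOfLE le_top⟩⟩) (fun {V U} s s' => ⟨U, 𝟙 U, Subsingleton.elim _ _⟩)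
  haveI : (ModSite.RMor.ofFlat (TopologicalSpace.Opens.map f) c).fn.Final := inferInstanceAs (TopologicalSpace.Opens.map f).Final
  exact InvMod.isEquivalence_pull (ModSite.RMor.ofFlat (TopologicalSpace.Opens.map f) c) hL

end Groth.Agent.S6853
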