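import Groth.Statements.S6860
import Mathlib


set_option autoImplicit false
universe u
open Smoothing

namespace Groth.Agent.S6860

open MvPolynomial in
noncomputable def graphPres {A : Type u} [CommRing A] {k : ℕ} (v : Fin k → A) :
    Algebra.SubmersivePresentation A A (Fin k) (Fin k) := by
  classical
  let G : Algebra.Generators A A (Fin k) := Algebra.Generators.ofSurjective v (fun a => ⟨C a, by simp⟩)
  have hmem : ∀ p : MvPolynomial (Fin k) A, p - C (aeval v p) ∈ Ideal.span (Set.range fun i => X i - C (v i)) := by
    intro p
    induction p using MvPolynomial.induction_on with
    | C a => simp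
    | add p q hp hq => simpa [map_add, add_sub_add_comm] using add_mem hp hq
    | mul_X p i hp =>
      have h := add_mem (Ideal.mul_mem_right (X i) _ hp)
        (Ideal.mul_mem_left _ (C (aeval v p)) (Ideal.subset_span (α := MvPolynomial (Fin k) A) ⟨i, rfl⟩ :
          X i - C (v i) ∈ Ideal.span (Set.range fun i => X i - C (v i))))
      rw [map_mul, aeval_X, map_mul]
      convert h using 1
      ring
  let P : Algebra.PreSubmersivePresentation A A (Fin k) (Fin k) :=
    { toGenerators := G
      relation := fun i => X i - C (v i)
      span_range_relation_eq_ker := by
        refine le_antisymm (Ideal.span_le.2 ?_) fun p hp => ?_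
        · rintro _ ⟨i, rfl⟩
          rw [SetLike.mem_coe, Algebra.Generators.ker_eq_ker_aeval_val, RingHom.mem_ker]
          simp [G, Algebra.Generators.ofSurjective]
        · rw [Algebra.Generators.ker_eq_ker_aeval_val, RingHom.mem_ker] at hp
          have h := hmem p
          rwa [show aeval v p = 0 from hp, map_zero, sub_zero] at h
      map := id
      map_inj := Function.injective_id }
  exact
    { toPreSubmersivePresentation := P
      jacobian_isUnit := by
        rw [Algebra.PreSubmersivePresentation.jacobian_eq_jacobiMatrix_det]
        have h : P.jacobiMatrix = 1 := by
          ext i j : 1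
          rw [Algebra.PreSubmersivePresentation.jacobiMatrix_apply]
          simp [P, G, Matrix.one_apply, Pi.single_apply, eq_comm]
        rw [h, Matrix.det_one, map_one]
        exact isUnit_one }


/-- Let R → A be standard smooth and E ⊆ A a finite subset. Then A admits a standard smooth presentation
A = R[x₁, …, x_N]/(f₁, …, f_c) (a submersive presentation: finitely many generators and relations,
an injection from the relations to the variables picking the distinguished variables, and the
Jacobian of the relations with respect to the distinguished variables invertible in A) in which
every element of E is the class of a distinguished variable. (The published statement arranges E to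
be exactly the classes of the first n = |E| variables, all of them distinguished, with c ≥ n; this
row states that E is contained in the set of classes of the distinguished variables, which is what
that arrangement gives.) -/
theorem result {R A : Type u} [CommRing R] [CommRing A] [Algebra R A]
    [Algebra.IsStandardSmooth R A] (E : Finset A) :
    ∃ (ι σ : Type) (_ : Finite ι) (_ : Finite σ) (P : Algebra.SubmersivePresentation R A ι σ),
      (↑E : Set A) ⊆ Set.range (P.val ∘ P.map) := by
  obtain ⟨ι, σ, hσ, hι, ⟨P⟩⟩ := ‹Algebra.IsStandardSmooth R A›.out
  let v : Fin E.card → A := fun i => (E.equivFin.symm i : A)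
  refine ⟨Fin E.card ⊕ ι, Fin E.card ⊕ σ, inferInstance, inferInstance, (graphPres v).comp P, fun x hx => ?_⟩
  refine ⟨Sum.inl (E.equivFin ⟨x, hx⟩), ?_⟩
  show v (E.equivFin ⟨x, hx⟩) = x
  simp [v]

end Groth.Agent.S6860
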