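import Groth.Statements.S6864
import Mathlib

set_option autoImplicit false
universe u
open TensorProduct
open CAlg

namespace Groth.Agent.S6864
open TensorProduct

/-- Let `I` be an ideal of a commutative ring `R` contained in the Jacobson radical and let `φ : P → P'`
be an `R`-linear map between finite projective `R`-modules. If the induced map `P/IP → P'/IP'` is
bijective, then `φ` is bijective. -/
theorem result {R : Type u} [CommRing R] (I : Ideal R)
    (hI : I ≤ Ideal.jacobson (⊥ : Ideal R)) {P P' : Type u}
    [AddCommGroup P] [Module R P] [Module.Finite R P] [Module.Projective R P]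
    [AddCommGroup P'] [Module R P'] [Module.Finite R P'] [Module.Projective R P'] (φ : P →ₗ[R] P')
    (h : Function.Bijective (φ.baseChange (R ⧸ I))) : Function.Bijective φ := by
  have hsur : Function.Surjective φ := by
    refine LinearMap.surjective_of_surjective_comp_mkQ φ I hI ?_
    intro y
    obtain ⟨z, hz⟩ := h.2 ((TensorProduct.quotTensorEquivQuotSMul P' I).symm y)
    obtain ⟨x, rfl⟩ := TensorProduct.mk_surjective R P (R ⧸ I) Ideal.Quotient.mk_surjective z
    refine ⟨x, ?_⟩
    simp only [TensorProduct.mk_apply, LinearMap.baseChange_tmul] at hz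
    have := congrArg (TensorProduct.quotTensorEquivQuotSMul P' I) hz
    rw [LinearEquiv.apply_symm_apply] at this
    rw [← this]
    exact (TensorProduct.quotTensorEquivQuotSMul_mk_tmul (I := I) (1 : R) (φ x)).trans (by simp) |>.symm
  refine ⟨?_, hsur⟩
  obtain ⟨s, hs⟩ := Module.projective_lifting_property φ LinearMap.id hsur
  have hfg : (LinearMap.ker φ).FG := by
    have : LinearMap.ker φ = LinearMap.range (LinearMap.id - s ∘ₗ φ) := by
      refine le_antisymm (fun x hx => ⟨x, by simp [LinearMap.mem_ker.1 hx]⟩) ?_
      rintro _ ⟨x, rfl⟩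
      have := LinearMap.congr_fun hs (φ x)
      simp only [LinearMap.comp_apply, LinearMap.id_apply] at this
      simp [this]
    rw [this, LinearMap.range_eq_map]
    exact (Module.Finite.fg_top).map _
  rw [← LinearMap.ker_eq_bot]
  refine Submodule.eq_bot_of_le_smul_of_le_jacobson_bot I _ hfg ?_ hI
  intro x hx
  have : (1 : R ⧸ I) ⊗ₜ[R] x = 0 := h.1 (by simp [LinearMap.mem_ker.1 hx])
  have hxI : x ∈ I • (⊤ : Submodule R P) := by
    have h2 := congrArg (TensorProduct.quotTensorEquivQuotSMul P I) this
    rw [map_zero] at h2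
    have h3 := (TensorProduct.quotTensorEquivQuotSMul_mk_tmul (I := I) (1 : R) x).symm.trans h2
    simpa [Submodule.Quotient.mk_eq_zero] using h3
  let π : P →ₗ[R] P := LinearMap.id - s ∘ₗ φ
  have hp : π x = x := by simp [π, LinearMap.mem_ker.1 hx]
  rw [← hp]
  have h4 : π x ∈ (I • (⊤ : Submodule R P)).map π := ⟨x, hxI, rfl⟩
  rw [Submodule.map_smul''] at h4
  refine (Submodule.smul_mono (le_refl I) ?_) h4
  rintro _ ⟨y, -, rfl⟩
  have := LinearMap.congr_fun hs (φ y)
  simp only [LinearMap.comp_apply, LinearMap.id_apply] at this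
  simp [π, LinearMap.mem_ker, this]

end Groth.Agent.S6864
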