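import Groth.Statements.S6876
import Groth.Agent.CAlgReflexive.Normal

set_option autoImplicit false
universe u
open CAlg

namespace Groth.Agent.S6876

/-- Let `R` be a Noetherian local ring and `M, N` finite `R`-modules. If `N` has depth `≥ 1` then so
does `Hom_R(M, N)`; if `N` has depth `≥ 2` then so does `Hom_R(M, N)`. -/
theorem result (R : Type u) [CommRing R] [IsNoetherianRing R] [IsLocalRing R]
    (M N : Type u) [AddCommGroup M] [Module R M] [Module.Finite R M] [AddCommGroup N] [Module R N] [Module.Finite R N] :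
    (1 ≤ LocCoh.depth R N → 1 ≤ LocCoh.depth R (M →ₗ[R] N)) ∧
    (2 ≤ LocCoh.depth R N → 2 ≤ LocCoh.depth R (M →ₗ[R] N)) := by
  refine ⟨fun h => ?_, fun h => ?_⟩
  · exact_mod_cast CAlgReflexive.le_depth_hom (M := M) (k := 1) (by norm_num) (by exact_mod_cast h)
  · exact_mod_cast CAlgReflexive.le_depth_hom (M := M) (k := 2) le_rfl (by exact_mod_cast h)

end Groth.Agent.S6876
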