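import Groth.Statements.S6878
import Mathlib

set_option autoImplicit false
universe u
open CAlg

namespace Groth.Agent.S6878
open TensorProduct

/-- Let `R` be a Noetherian ring and `φ : M → N` a map of `R`-modules. Suppose that for every prime `𝔭`
of `R` either `M_𝔭 → N_𝔭` is injective or `𝔭` is not an associated prime of `M`. Then `φ` is
injective. -/
theorem result (R : Type u) [CommRing R]
    [IsNoetherianRing R] {M N : Type u} [AddCommGroup M] [Module R M] [AddCommGroup N] [Module R N] (φ : M →ₗ[R] N)
    (h : ∀ (p : Ideal R) [p.IsPrime],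
      Function.Injective (LocalizedModule.map p.primeCompl φ) ∨ p ∉ associatedPrimes R M) :
    Function.Injective φ := by
  rw [← LinearMap.ker_eq_bot]
  by_contra hne
  have : Nontrivial (LinearMap.ker φ) := Submodule.nontrivial_iff_ne_bot.2 hne
  obtain ⟨p, hp⟩ := associatedPrimes.nonempty R (LinearMap.ker φ)
  have hp' : p ∈ associatedPrimes R M := associatedPrimes.subset_of_injective (f := (LinearMap.ker φ).subtype) Subtype.val_injective hp
  haveI := hp.isPrime
  rcases h p with h | h
  · obtain ⟨hpp, x, hx⟩ := (isAssociatedPrime_iff_exists_injective_linearMap p (LinearMap.ker φ)).1 hp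
    set z := x (Submodule.Quotient.mk 1)
    have : LocalizedModule.mkLinearMap p.primeCompl M z.1 = 0 := by
      apply h
      rw [map_zero, LocalizedModule.mkLinearMap_apply, LocalizedModule.map_mk, LinearMap.mem_ker.1 z.2, LocalizedModule.zero_mk]
    obtain ⟨c, hc⟩ := (IsLocalizedModule.eq_zero_iff p.primeCompl (LocalizedModule.mkLinearMap p.primeCompl M)).1 this
    have h1 : x (Submodule.Quotient.mk (c : R)) = 0 := by
      have : (Submodule.Quotient.mk (c : R) : R ⧸ p) = (c : R) • Submodule.Quotient.mk 1 := by
        rw [← Submodule.Quotient.mk_smul, smul_eq_mul, mul_one]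
      rw [this, map_smul]
      exact Subtype.ext hc
    exact c.2 ((Submodule.Quotient.mk_eq_zero p).1 (hx (h1.trans (map_zero x).symm)))
  · exact h hp'

end Groth.Agent.S6878
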