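import Groth.Statements.S6886
import Groth.Agent.SplitCover.Basic

set_option autoImplicit false
universe u
open TensorProduct
open CAlg

namespace Groth.Agent.S6886

/-- Let `R → S` be a finite ring map. One can find an extension `R ⊆ R'` of rings, with `R'` finite and
free as an `R`-module, for which the ring `S ⊗_R R'` arises as a quotient of `R'[T_1, …,
T_n]/(P_1(T_1), …, P_n(T_n))` with each `P_i(T) = ∏_j (T - α_{ij})` a product of linear factors over
`R'`. -/
theorem result (R S : Type u) [CommRing R] [CommRing S] [Algebra R S]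
    [Module.Finite R S] :
    ∃ (R' : Type u) (_ : CommRing R') (_ : Algebra R R'), Module.Finite R R' ∧ Module.Free R R' ∧
      Function.Injective (algebraMap R R') ∧
      ∃ (n : ℕ) (d : Fin n → ℕ) (α : (i : Fin n) → Fin (d i) → R')
        (φ : MvPolynomial (Fin n) R' →ₐ[R'] R' ⊗[R] S), Function.Surjective φ ∧
          ∀ i, φ (∏ j, (MvPolynomial.X i - MvPolynomial.C (α i j))) = 0 := by
  classical
  obtain ⟨n, s, hs⟩ : ∃ (n : ℕ) (s : Fin n → S), Submodule.span R (Set.range s) = ⊤ :=
    Module.Finite.exists_fin
  have hint : ∀ i, IsIntegral R (s i) := fun i => IsIntegral.of_finite R (s i)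
  choose f hf hfe using hint
  obtain ⟨R', _, _, hfin, hfree, hff, r, hr⟩ := Groth.Agent.SplitCover.exists_split
    (∏ i, f i).natDegree R (∏ i, f i) (Polynomial.monic_prod_of_monic _ _ fun i _ => hf i) rfl
  let φ : MvPolynomial (Fin n) R' →ₐ[R'] R' ⊗[R] S :=
    MvPolynomial.aeval fun i => (1 : R') ⊗ₜ[R] s i
  refine ⟨R', inferInstance, inferInstance, hfin, hfree, FaithfulSMul.algebraMap_injective R R', n,
    fun _ => r.toList.length, fun _ j => r.toList.get j, φ, ?_, fun i => ?_⟩
  · intro z
    induction z using TensorProduct.induction_on with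
    | zero => exact ⟨0, map_zero _⟩
    | add x y hx hy =>
      obtain ⟨a, rfl⟩ := hx
      obtain ⟨b, rfl⟩ := hy
      exact ⟨a + b, map_add _ _ _⟩
    | tmul x y =>
      have hy : y ∈ Submodule.span R (Set.range s) := hs ▸ Submodule.mem_top
      induction hy using Submodule.span_induction generalizing x with
      | mem y hy =>
        obtain ⟨i, rfl⟩ := hy
        exact ⟨MvPolynomial.C x * MvPolynomial.X i, by simp [φ, Algebra.TensorProduct.algebraMap_apply]⟩
      | zero => exact ⟨0, by simp⟩
      | add y y' _ _ h h' =>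
        obtain ⟨a, ha⟩ := h x
        obtain ⟨b, hb⟩ := h' x
        exact ⟨a + b, by rw [map_add, ha, hb, TensorProduct.tmul_add]⟩
      | smul c y _ h =>
        obtain ⟨a, ha⟩ := h (c • x)
        exact ⟨a, by rw [ha, TensorProduct.smul_tmul]⟩
  · have h1 : Polynomial.aeval ((1 : R') ⊗ₜ[R] s i) ((∏ k, f k).map (algebraMap R R')) = 0 := by
      rw [Polynomial.aeval_map_algebraMap]
      have : Polynomial.aeval (s i) (∏ k, f k) = 0 := by
        rw [map_prod]
        exact Finset.prod_eq_zero (Finset.mem_univ i) (hfe i)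
      have h2 := Polynomial.aeval_algHom_apply
        (Algebra.TensorProduct.includeRight : S →ₐ[R] R' ⊗[R] S) (s i) (∏ k, f k)
      rw [this, map_zero] at h2
      exact h2
    rw [hr] at h1
    conv_lhs at h1 => rw [← Multiset.coe_toList r]
    rw [Multiset.map_coe, Multiset.prod_coe, map_list_prod, List.map_map] at h1
    rw [map_prod, ← h1, ← List.prod_ofFn]
    congr 1
    conv_rhs => rw [← List.ofFn_get r.toList, List.map_ofFn]
    congr 1
    funext j
    simp [φ, Algebra.TensorProduct.algebraMap_apply]

end Groth.Agent.S6886
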