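import Groth.Statements.S6894
import Groth.Agent.FittLib.Local
import Mathlib.RingTheory.LocalRing.ResidueField.Ideal
-- import your own Groth.Agent.* helpers here

set_option autoImplicit false
universe u
open TensorProduct
open Fitt

namespace Groth.Agent.S6894

/-- Let `M` be a finite `R`-module, `k ≥ 0` and `𝔭 ⊆ R` a prime. Then each of the following conditions
implies all the others: the Fitting ideal `Fit_k(M)` is not contained in `𝔭`; the fiber `M ⊗_R κ(𝔭)`
has dimension at most `k` over `κ(𝔭)`; some `k` elements span the localization `M_𝔭` over `R_𝔭`; and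
for some `f ∉ 𝔭`, the module `M_f` is spanned over `R_f` by `k` elements. -/
theorem result {R : Type u} [CommRing R] (M : Type u) [AddCommGroup M] [Module R M]
    [Module.Finite R M] (k : ℕ) (p : Ideal R) [p.IsPrime] :
    (¬ Fitt.ideal R M k ≤ p ↔ Module.finrank p.ResidueField (p.ResidueField ⊗[R] M) ≤ k) ∧
    (¬ Fitt.ideal R M k ≤ p ↔
      ∃ g : Fin k → LocalizedModule p.primeCompl M, Submodule.span (Localization.AtPrime p) (Set.range g) = ⊤) ∧
    (¬ Fitt.ideal R M k ≤ p ↔ ∃ f : R, f ∉ p ∧
      ∃ g : Fin k → LocalizedModule (Submonoid.powers f) M,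
        Submodule.span (Localization.Away f) (Set.range g) = ⊤) := by
  have h1 : ¬ Fitt.ideal R M k ≤ p ↔ Module.finrank p.ResidueField (p.ResidueField ⊗[R] M) ≤ k := by
    rw [← FittLib.eq_top_of_field, FittLib.baseChange]
    constructor
    · intro h
      obtain ⟨s, hs, hsp⟩ := SetLike.not_le_iff_exists.1 h
      exact Ideal.eq_top_of_isUnit_mem _ (Ideal.mem_map_of_mem _ hs)
        (isUnit_iff_ne_zero.2 fun h0 => hsp (Ideal.algebraMap_residueField_eq_zero.1 h0))
    · intro h hle
      have := eq_bot_iff.1 ((Ideal.map_eq_bot_iff_le_ker _).2 (hle.trans (Ideal.ker_algebraMap_residueField p).ge))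
      rw [h] at this
      exact bot_ne_top (le_antisymm bot_le this)
  have h2 : (∃ g : Fin k → LocalizedModule p.primeCompl M, Submodule.span (Localization.AtPrime p) (Set.range g) = ⊤) →
      ¬ Fitt.ideal R M k ≤ p := fun ⟨g, hg⟩ hle => by
    obtain ⟨s, hs, hsI⟩ := FittLib.exists_mem_of_localized_generators p.primeCompl g hg
    exact hs (hle hsI)
  have h3 : (∃ f : R, f ∉ p ∧ ∃ g : Fin k → LocalizedModule (Submonoid.powers f) M,
      Submodule.span (Localization.Away f) (Set.range g) = ⊤) → ¬ Fitt.ideal R M k ≤ p := fun ⟨f, hf, g, hg⟩ hle => by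
    obtain ⟨s, ⟨j, rfl⟩, hsI⟩ := FittLib.exists_mem_of_localized_generators (Submonoid.powers f) g hg
    exact hf (Ideal.IsPrime.mem_of_pow_mem ‹_› j (hle hsI))
  refine ⟨h1, ⟨fun hp => ?_, h2⟩, ⟨fun hp => FittLib.exists_away_generators p hp, h3⟩⟩
  obtain ⟨s, hs, hsp⟩ := SetLike.not_le_iff_exists.1 hp
  exact FittLib.exists_generators_of_eq_top ((FittLib.ideal_localized p.primeCompl k).trans
    (Ideal.eq_top_of_isUnit_mem _ (Ideal.mem_map_of_mem _ hs) (IsLocalization.map_units _ (⟨s, hsp⟩ : p.primeCompl))))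

end Groth.Agent.S6894
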