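import Groth.Statements.S6895
import Groth.Agent.FittLib.Local
import Mathlib.RingTheory.Ideal.Maximal
import Mathlib.Algebra.Module.Torsion.Basic
-- import your own Groth.Agent.* helpers here

set_option autoImplicit false
universe u
open Fitt

namespace Groth.Agent.S6895

/-- (1) ⇔ (3): let `M` be a finite `R`-module and `r ≥ 0`. Then `M` is finite locally free of rank `r`
(every prime has a basic open neighbourhood `D(f)` with `M_f` free of rank `r` over `R_f`) if and
only if `Fit_k(M) = 0` for `k < r` and `Fit_k(M) = R` for `k ≥ r`. -/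
theorem result {R : Type u} [CommRing R] (M : Type u) [AddCommGroup M] [Module R M]
    [Module.Finite R M] (r : ℕ) :
    (∀ (p : Ideal R) [p.IsPrime], ∃ f : R, f ∉ p ∧
      Module.Free (Localization.Away f) (LocalizedModule (Submonoid.powers f) M) ∧
        Module.finrank (Localization.Away f) (LocalizedModule (Submonoid.powers f) M) = r) ↔
    ((∀ k, k < r → Fitt.ideal R M k = ⊥) ∧ (∀ k, r ≤ k → Fitt.ideal R M k = ⊤)) := by
  classical
  have hnt : ∀ (q : Ideal R) [q.IsPrime] (f : R), f ∉ q → Nontrivial (Localization.Away f) := fun q _ f hf =>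
    not_subsingleton_iff_nontrivial.1 fun hs => by
      obtain ⟨j, hj⟩ := (IsLocalization.subsingleton_iff (S := Localization.Away f) (M := Submonoid.powers f)).1 hs
      exact hf (Ideal.IsPrime.mem_of_pow_mem ‹_› j (show f ^ j ∈ q by rw [show f ^ j = 0 from hj]; exact zero_mem _))
  constructor
  · intro h
    refine ⟨fun k hk => eq_bot_iff.2 fun a ha => ?_, fun k hk => ?_⟩
    · rw [Ideal.mem_bot]
      by_contra ha0
      obtain ⟨m, hm, hle⟩ := Ideal.exists_le_maximal (Ideal.torsionOf R R a) (by
        rw [Ne, Ideal.torsionOf_eq_top_iff]; exact ha0)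
      haveI := hm.isPrime
      obtain ⟨f, hf, hfree, hrank⟩ := h m
      haveI := hfree
      haveI := hnt _ f hf
      haveI : Module.Finite (Localization.Away f) (LocalizedModule (Submonoid.powers f) M) :=
        Module.Finite.of_isLocalizedModule (Submonoid.powers f) (LocalizedModule.mkLinearMap (Submonoid.powers f) M)
      let b := Module.finBasisOfFinrankEq (Localization.Away f) (LocalizedModule (Submonoid.powers f) M) hrank
      have h0 := FittLib.ideal_localized (M := M) (Submonoid.powers f) k
      rw [FittLib.ideal_eq_F b b.span_eq, FittLib.F_of_rel_eq_bot _ (FittLib.rel_eq_bot _ b.linearIndependent)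
        (by simpa using hk)] at h0
      have h1 : algebraMap R (Localization.Away f) a = 0 := by
        have := Ideal.mem_map_of_mem (algebraMap R (Localization (Submonoid.powers f))) ha
        rw [← h0] at this
        exact this
      obtain ⟨⟨_, j, rfl⟩, hj⟩ := (IsLocalization.map_eq_zero_iff (Submonoid.powers f) _ a).1 h1
      exact hf (Ideal.IsPrime.mem_of_pow_mem ‹_› j (hle ((Ideal.mem_torsionOf_iff a _).2 hj)))
    · by_contra hne
      obtain ⟨m, hm, hle⟩ := Ideal.exists_le_maximal _ hne
      haveI := hm.isPrime
      obtain ⟨f, hf, hfree, hrank⟩ := h m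
      haveI := hfree
      haveI := hnt _ f hf
      haveI : Module.Finite (Localization.Away f) (LocalizedModule (Submonoid.powers f) M) :=
        Module.Finite.of_isLocalizedModule (Submonoid.powers f) (LocalizedModule.mkLinearMap (Submonoid.powers f) M)
      let b := Module.finBasisOfFinrankEq (Localization.Away f) (LocalizedModule (Submonoid.powers f) M) hrank
      obtain ⟨s, ⟨j, rfl⟩, hsI⟩ := FittLib.exists_mem_of_localized_generators (Submonoid.powers f) b b.span_eq
      exact hf (Ideal.IsPrime.mem_of_pow_mem ‹_› j (hle (FittLib.mono_index hk hsI)))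
  · rintro ⟨hlt, hge⟩ p hp
    obtain ⟨f, hf, g, hg⟩ := FittLib.exists_away_generators (M := M) (k := r) p
      (by rw [hge r le_rfl]; exact fun h => hp.ne_top (top_le_iff.1 h))
    haveI := hnt _ f hf
    have hli : LinearIndependent (Localization.Away f) g := Fintype.linearIndependent_iff.2 fun w hw j => by
      have h0 := FittLib.ideal_localized (M := M) (Submonoid.powers f) (r - 1)
      rw [hlt (r - 1) (by have := j.2; omega), Ideal.map_bot, FittLib.ideal_eq_F g hg, FittLib.F, Fintype.card_fin,
        show r - (r - 1) = 1 by (have := j.2; omega)] at h0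
      have h1 := FittLib.det_mem_I (N := FittLib.rel (R := Localization.Away f) g) (fun _ : Fin 1 => w) (fun _ => j)
        (fun _ => (FittLib.mem_rel g).2 hw)
      rw [h0, Matrix.det_fin_one] at h1
      exact h1
    let b := Module.Basis.mk hli hg.ge
    exact ⟨f, hf, Module.Free.of_basis b, by rw [Module.finrank_eq_card_basis b, Fintype.card_fin]⟩

end Groth.Agent.S6895
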