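import Groth.Statements.S6897
import Groth.Agent.FittLib.ProjDim
import Groth.Agent.S6895
import Groth.Agent.CAlgReg.GlobalDim
import Mathlib.RingTheory.Flat.EquationalCriterion
import Mathlib.RingTheory.LocalProperties.FinitePresentation
-- import your own Groth.Agent.* helpers here

set_option autoImplicit false
universe u
open CategoryTheory
open Fitt

namespace Groth.Agent.S6897

/-- Let `M` be a finitely presented `R`-module and `k ≥ 0` such that `Fit_k(M) = (f)` for a
nonzerodivisor `f` and `Fit_{k-1}(M) = 0` (no condition when `k = 0`). Let `M' = Ker(f : M → M)`.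
Then: the projective dimension of `M` is at most `1`; `M'` coincides with the `f`-power torsion of
`M` and its projective dimension is at most `1`; every prime of `R` has a basic open neighbourhood
over which `M/M'` is free of rank `k`; and `M ≅ M/M' ⊕ M'` (existence of an isomorphism). -/
theorem result {R : Type u} [CommRing R] (M : Type u)
    [AddCommGroup M] [Module R M] [Module.FinitePresentation R M] (k : ℕ) (f : R) (hf0 : f ∈ nonZeroDivisors R)
    (hf : Fitt.ideal R M k = Ideal.span {f}) (hk : k = 0 ∨ Fitt.ideal R M (k - 1) = ⊥) :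
    HasProjectiveDimensionLT (ModuleCat.of R M) 2 ∧
    (∀ x : M, (∃ n : ℕ, f ^ n • x = 0) ↔ f • x = 0) ∧
    HasProjectiveDimensionLT (ModuleCat.of R ↥(LinearMap.ker (f • (LinearMap.id : M →ₗ[R] M)))) 2 ∧
    (∀ (p : Ideal R) [p.IsPrime], ∃ g : R, g ∉ p ∧
      Module.Free (Localization.Away g)
          (LocalizedModule (Submonoid.powers g) (M ⧸ LinearMap.ker (f • (LinearMap.id : M →ₗ[R] M)))) ∧
        Module.finrank (Localization.Away g)
          (LocalizedModule (Submonoid.powers g) (M ⧸ LinearMap.ker (f • (LinearMap.id : M →ₗ[R] M)))) = k) ∧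
    Nonempty (M ≃ₗ[R] (M ⧸ LinearMap.ker (f • (LinearMap.id : M →ₗ[R] M))) ×
      ↥(LinearMap.ker (f • (LinearMap.id : M →ₗ[R] M)))) := by
  classical
  let T : Submodule R M := LinearMap.ker (f • (LinearMap.id : M →ₗ[R] M))
  have hmT : ∀ m : M, m ∈ T ↔ f • m = 0 := fun m => by simp [T]
  have hlow : ∀ j < k, Fitt.ideal R M j = ⊥ := fun j hj => by
    rcases hk with rfl | hk
    · omega
    · exact eq_bot_iff.2 (hk ▸ FittLib.mono_index (by omega))
  have hnzd : ∀ x : R, f * x = 0 → x = 0 := fun x hx => (mul_left_mem_nonZeroDivisors_eq_zero_iff hf0).1 hx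
  have htop : ∀ j, k ≤ j → Fitt.ideal R (M ⧸ T) j = ⊤ := fun j hj =>
    top_le_iff.1 ((FittLib.quotient_eq_top hf T fun m hm => (hmT m).2 hm).ge.trans (FittLib.mono_index hj))
  have hbot : ∀ j, j < k → Fitt.ideal R (M ⧸ T) j = ⊥ := fun j hj =>
    FittLib.quotient_eq_bot hnzd (fun q hq _ x hx => ⟨1, fun h => hq.ne_top ((Ideal.eq_top_iff_one _).2 h), by
      rw [hlow j hj, Ideal.mem_bot] at hx
      rw [hx, mul_zero]⟩) T fun m hm => ⟨1, by rw [pow_one]; exact (hmT m).1 hm⟩
  have hlf := (S6895.result (M ⧸ T) k).2 ⟨hbot, htop⟩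
  let s : Set R := {g | Module.Free (Localization.Away g) (LocalizedModule (Submonoid.powers g) (M ⧸ T))}
  have hs : Ideal.span s = ⊤ := by
    by_contra hne
    obtain ⟨p, hp, hle⟩ := Ideal.exists_le_maximal _ hne
    haveI := hp.isPrime
    obtain ⟨g, hg, hfree, -⟩ := hlf p
    exact hg (hle (Ideal.subset_span hfree))
  haveI hfinloc : ∀ g : R, Module.Finite (Localization.Away g) (LocalizedModule (Submonoid.powers g) (M ⧸ T)) := fun g =>
    Module.Finite.of_isLocalizedModule (Submonoid.powers g) (LocalizedModule.mkLinearMap (Submonoid.powers g) (M ⧸ T))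
  haveI : Module.FinitePresentation R (M ⧸ T) := Module.FinitePresentation.of_localizationSpan s hs fun g => by
    haveI : Module.Free (Localization.Away g.1) (LocalizedModule (Submonoid.powers g.1) (M ⧸ T)) := g.2
    exact Module.finitePresentation_of_projective (Localization.Away g.1) (LocalizedModule (Submonoid.powers g.1) (M ⧸ T))
  haveI : Module.Flat R (M ⧸ T) := Module.flat_of_localized_span R (M ⧸ T) s hs fun g => by
    haveI : Module.Free (Localization.Away g.1) (LocalizedModule (Submonoid.powers g.1) (M ⧸ T)) := g.2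
    haveI : Module.Flat R (Localization.Away g.1) := IsLocalization.flat _ (Submonoid.powers g.1)
    exact Module.Flat.trans R (Localization.Away g.1) _
  haveI : Module.Projective R (M ⧸ T) := Module.Flat.projective_of_finitePresentation
  obtain ⟨sec, hsec⟩ := Module.projective_lifting_property T.mkQ LinearMap.id T.mkQ_surjective
  have hsec' : ∀ a, T.mkQ (sec a) = a := LinearMap.congr_fun hsec
  have hmem : ∀ m, m - sec (T.mkQ m) ∈ T := fun m => by
    rw [← Submodule.Quotient.mk_eq_zero, ← Submodule.mkQ_apply, map_sub, hsec', sub_self]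
  let pT : M →ₗ[R] T := (LinearMap.id - sec ∘ₗ T.mkQ).codRestrict T fun m => hmem m
  let e : M ≃ₗ[R] (M ⧸ T) × T := LinearEquiv.ofLinear (T.mkQ.prod pT) (sec.coprod T.subtype)
    (LinearMap.ext fun z => by
      obtain ⟨a, t⟩ := z
      have h0 : T.mkQ t.1 = 0 := (Submodule.Quotient.mk_eq_zero T).2 t.2
      have ha : T.mkQ (sec a + t.1) = a := by rw [map_add, hsec', h0, add_zero]
      exact Prod.ext ha (Subtype.ext (show sec a + t.1 - sec (T.mkQ (sec a + t.1)) = t.1 by rw [ha, add_sub_cancel_left])))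
    (LinearMap.ext fun m => show sec (T.mkQ m) + (m - sec (T.mkQ m)) = m by abel)
  haveI : Module.Finite R T := Module.Finite.of_surjective pT fun t => ⟨t.1, Subtype.ext (by
    show t.1 - sec (T.mkQ t.1) = t.1
    rw [show T.mkQ t.1 = 0 from (Submodule.Quotient.mk_eq_zero T).2 t.2, map_zero, sub_zero])⟩
  have hT0 : Fitt.ideal R T 0 = Ideal.span {f} := by
    rw [← hf, FittLib.ideal_congr e, FittLib.ideal_prod, Finset.sum_eq_single k (fun i hi hik => by
      rw [hbot i (by rw [Finset.mem_range] at hi; omega), Submodule.bot_mul]; rfl) (fun h => absurd (Finset.self_mem_range_succ k) h),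
      htop k le_rfl, Nat.sub_self]
    exact (Ideal.top_mul _).symm
  obtain ⟨n, x, hx⟩ := Module.Finite.exists_fin (R := R) (M := T)
  let π := Fintype.linearCombination R x
  have hπ : Function.Surjective π := by rw [← LinearMap.range_eq_top, Fintype.range_linearCombination, hx]
  haveI hK : Module.Projective R (LinearMap.ker π) := FittLib.projective_rel hf0 hT0 x hx
  have hpdT : HasProjectiveDimensionLT (ModuleCat.of R ↥T) 2 :=
    CAlgReg.pdLT_right (LinearMap.ker π).subtype π (LinearMap.ker π).subtype_injective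
      (LinearMap.exact_subtype_ker_map π) hπ (n := 0) (CAlgReg.pdLT_one (M := LinearMap.ker π))
  refine ⟨?_, fun m => ⟨fun ⟨j, hj⟩ => ?_, fun h => ⟨1, by rw [pow_one]; exact h⟩⟩, hpdT, hlf, ⟨e⟩⟩
  · let g : ((M ⧸ T) × (Fin n → R)) →ₗ[R] M := e.symm.toLinearMap ∘ₗ LinearMap.prodMap LinearMap.id π
    let i : ↥(LinearMap.ker π) →ₗ[R] (M ⧸ T) × (Fin n → R) :=
      LinearMap.inr R _ _ ∘ₗ (LinearMap.ker π).subtype
    refine CAlgReg.pdLT_right i g (fun a b h => Subtype.ext (congrArg Prod.snd h)) (fun z => ⟨fun hz => ?_, ?_⟩)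
      (fun m => ?_) (n := 0) CAlgReg.pdLT_one
    · have hz' : LinearMap.prodMap LinearMap.id π z = 0 := e.symm.injective (hz.trans (map_zero e.symm).symm)
      exact ⟨⟨z.2, congrArg Prod.snd hz'⟩, Prod.ext (congrArg Prod.fst hz').symm rfl⟩
    · rintro ⟨v, rfl⟩
      show e.symm (LinearMap.prodMap LinearMap.id π (0, v.1)) = 0
      rw [show LinearMap.prodMap LinearMap.id π ((0 : M ⧸ T), v.1) = 0 from Prod.ext rfl v.2, map_zero]
    · obtain ⟨v, hv⟩ := hπ (e m).2
      exact ⟨((e m).1, v), e.symm_apply_eq.2 (Prod.ext rfl hv)⟩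
  · have hreg : IsSMulRegular (M ⧸ T) (f ^ j) :=
      Module.Flat.isSMulRegular_of_nonZeroDivisors (pow_mem hf0 j)
    have : T.mkQ m = 0 := hreg (show f ^ j • T.mkQ m = f ^ j • (0 : M ⧸ T) by rw [smul_zero, ← map_smul, hj, map_zero])
    exact (hmT m).1 ((Submodule.Quotient.mk_eq_zero T).1 this)

end Groth.Agent.S6897
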