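import Groth.Statements.S6900
import Mathlib
import Groth.Agent.MilnorLib.Algebra

set_option autoImplicit false
universe u
open TensorProduct
open EtAlg

namespace Groth.Agent.S6900

set_option maxHeartbeats 1600000 in
theorem pushouts (B' B A' A : Type u) [CommRing B'] [CommRing B] [CommRing A'] [CommRing A]
    [Algebra B' B] [Algebra B' A'] [Algebra B A] [Algebra A' A] [Algebra B' A] [IsScalarTower B' B A] [IsScalarTower B' A' A]
    (hsq : EtMil.IsFibreSquare B' B A' A)
    (D' D C' C : Type u) [CommRing D'] [CommRing D] [CommRing C'] [CommRing C]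
    [Algebra D' D] [Algebra D' C'] [Algebra D C] [Algebra C' C] [Algebra D' C] [IsScalarTower D' D C] [IsScalarTower D' C' C]
    (hsq' : EtMil.IsFibreSquare D' D C' C)
    [Algebra B' D'] [Algebra B D] [Algebra A' C'] [Algebra A C]
    [Algebra B' D] [IsScalarTower B' B D] [IsScalarTower B' D' D]
    [Algebra B' C'] [IsScalarTower B' A' C'] [IsScalarTower B' D' C']
    [Algebra B C] [IsScalarTower B A C] [IsScalarTower B D C]
    [Algebra A' C] [IsScalarTower A' A C] [IsScalarTower A' C' C]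
    [Algebra.IsPushout B D A C] [Algebra.IsPushout A' C' A C] :
    ∃ φ : A ⊗[B] D ≃ₗ[A] A ⊗[A'] C', Nonempty (D' ≃ₗ[B'] ↥(EtMil.glue B' φ)) ∧
      Algebra.IsPushout B' B D' D ∧ Algebra.IsPushout B' A' D' C' := by
  haveI : Algebra.IsPushout B A D C := Algebra.IsPushout.symm inferInstance
  haveI : Algebra.IsPushout A' A C' C := Algebra.IsPushout.symm inferInstance
  let e1 := Algebra.IsPushout.equiv B A D C
  let e2 := Algebra.IsPushout.equiv A' A C' C
  let φ : A ⊗[B] D ≃ₗ[A] A ⊗[A'] C' := e1.toLinearEquiv ≪≫ₗ e2.symm.toLinearEquiv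
  have h1 : ∀ x : D, e1 ((1 : A) ⊗ₜ[B] x) = algebraMap D C x := fun x => by
    simp [e1, Algebra.IsPushout.equiv_tmul]
  have h2 : ∀ x : C', e2 ((1 : A) ⊗ₜ[A'] x) = algebraMap C' C x := fun x => by
    simp [e2, Algebra.IsPushout.equiv_tmul]
  have hmem : ∀ (x : D) (y : C'), φ ((1 : A) ⊗ₜ[B] x) = (1 : A) ⊗ₜ[A'] y ↔ algebraMap D C x = algebraMap C' C y := by
    intro x y
    show e2.symm (e1 ((1 : A) ⊗ₜ[B] x)) = _ ↔ _
    rw [h1, AlgEquiv.symm_apply_eq, h2]
  let ψ : D' →ₗ[B'] ↥(EtMil.glue B' φ) :=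
    LinearMap.codRestrict _ ((IsScalarTower.toAlgHom B' D' D).toLinearMap.prod
      (IsScalarTower.toAlgHom B' D' C').toLinearMap) fun d => (hmem _ _).2 (by
        show algebraMap D C (algebraMap D' D d) = algebraMap C' C (algebraMap D' C' d)
        rw [← IsScalarTower.algebraMap_apply, ← IsScalarTower.algebraMap_apply])
  have hψ : Function.Bijective ψ := by
    refine ⟨fun x y h => ?_, fun z => ?_⟩
    · have h' := congrArg Subtype.val h
      exact Groth.Agent.MilnorLib.eq_of_images hsq' (congrArg Prod.fst h') (congrArg Prod.snd h')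
    · obtain ⟨⟨a, b⟩, hab⟩ := z
      obtain ⟨d, ⟨hd1, hd2⟩, -⟩ := hsq'.2 a b ((hmem a b).1 hab)
      exact ⟨d, Subtype.ext (Prod.ext hd1 hd2)⟩
  let e := LinearEquiv.ofBijective ψ hψ
  refine ⟨φ, ⟨e⟩, ⟨?_⟩, ⟨?_⟩⟩
  · refine IsBaseChange.of_equiv ((LinearEquiv.baseChange B' B _ _ e) ≪≫ₗ
      LinearEquiv.ofBijective _ (Groth.Agent.MilnorLib.bijective_fst hsq φ)) fun x => ?_
    show ((EtMil.glueFst B' φ).liftBaseChange B) ((1 : B) ⊗ₜ[B'] ψ x) = _
    rw [LinearMap.liftBaseChange_tmul, one_smul]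
    rfl
  · refine IsBaseChange.of_equiv ((LinearEquiv.baseChange B' A' _ _ e) ≪≫ₗ
      LinearEquiv.ofBijective _ (Groth.Agent.MilnorLib.bijective_snd hsq φ)) fun x => ?_
    show ((EtMil.glueSnd B' φ).liftBaseChange A') ((1 : A') ⊗ₜ[B'] ψ x) = _
    rw [LinearMap.liftBaseChange_tmul, one_smul]
    rfl

/-- Let `B' = B ×_A A'` be a fibre square of rings with `A' → A` surjective. Let `D` be a `B`-algebra
and `C'` an `A'`-algebra with a common base change `C = D ⊗_B A = C' ⊗_{A'} A`, and let `D' = D ×_C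
C'` be the fibre product ring with its `B'`-algebra structure. Then `B' → D'` is of finite type
(resp. flat, resp. flat and of finite presentation, resp. smooth, resp. étale) if and only if `B →
D` and `A' → C'` both are. -/
theorem result (B' B A' A : Type u) [CommRing B'] [CommRing B] [CommRing A'] [CommRing A]
    [Algebra B' B] [Algebra B' A'] [Algebra B A] [Algebra A' A] [Algebra B' A] [IsScalarTower B' B A] [IsScalarTower B' A' A]
    (hsq : EtMil.IsFibreSquare B' B A' A)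
    (D' D C' C : Type u) [CommRing D'] [CommRing D] [CommRing C'] [CommRing C]
    [Algebra D' D] [Algebra D' C'] [Algebra D C] [Algebra C' C] [Algebra D' C] [IsScalarTower D' D C] [IsScalarTower D' C' C]
    (hsq' : EtMil.IsFibreSquare D' D C' C)
    [Algebra B' D'] [Algebra B D] [Algebra A' C'] [Algebra A C]
    [Algebra B' D] [IsScalarTower B' B D] [IsScalarTower B' D' D]
    [Algebra B' C'] [IsScalarTower B' A' C'] [IsScalarTower B' D' C']
    [Algebra B C] [IsScalarTower B A C] [IsScalarTower B D C]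
    [Algebra A' C] [IsScalarTower A' A C] [IsScalarTower A' C' C]
    [Algebra.IsPushout B D A C] [Algebra.IsPushout A' C' A C] :
    (Algebra.FiniteType B' D' ↔ Algebra.FiniteType B D ∧ Algebra.FiniteType A' C') ∧
    (Module.Flat B' D' ↔ Module.Flat B D ∧ Module.Flat A' C') ∧
    (Module.Flat B' D' ∧ Algebra.FinitePresentation B' D' ↔
      (Module.Flat B D ∧ Algebra.FinitePresentation B D) ∧ (Module.Flat A' C' ∧ Algebra.FinitePresentation A' C')) ∧
    (Algebra.Smooth B' D' ↔ Algebra.Smooth B D ∧ Algebra.Smooth A' C') ∧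
    (Algebra.Etale B' D' ↔ Algebra.Etale B D ∧ Algebra.Etale A' C') := by
  obtain ⟨φ, ⟨e⟩, hB, hA⟩ := pushouts B' B A' A hsq D' D C' C hsq'
  let eB : B ⊗[B'] D' ≃ₐ[B] D := Algebra.IsPushout.equiv B' B D' D
  let eA : A' ⊗[B'] D' ≃ₐ[A'] C' := Algebra.IsPushout.equiv B' A' D' C'
  have hflat : Module.Flat B' D' ↔ Module.Flat B D ∧ Module.Flat A' C' := by
    refine ⟨fun h => ⟨Module.Flat.of_linearEquiv eB.toLinearEquiv.symm, Module.Flat.of_linearEquiv eA.toLinearEquiv.symm⟩,
      fun ⟨h1, h2⟩ => ?_⟩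
    haveI := Groth.Agent.MilnorLib.flat_glue hsq φ
    exact Module.Flat.of_linearEquiv e
  refine ⟨?_, hflat, ?_, ?_, ?_⟩
  · refine ⟨fun h => ⟨Algebra.FiniteType.equiv inferInstance eB, Algebra.FiniteType.equiv inferInstance eA⟩,
      fun ⟨h1, h2⟩ => ?_⟩
    haveI := Algebra.FiniteType.equiv h1 eB.symm
    haveI := Algebra.FiniteType.equiv h2 eA.symm
    exact Groth.Agent.MilnorLib.finiteType_of_pair hsq D'
  · refine ⟨fun ⟨h1, h2⟩ => ⟨⟨(hflat.1 h1).1, Algebra.FinitePresentation.equiv eB⟩,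
      (hflat.1 h1).2, Algebra.FinitePresentation.equiv eA⟩, fun ⟨⟨h1, h2⟩, h3, h4⟩ => ?_⟩
    haveI := hflat.2 ⟨h1, h3⟩
    haveI := Algebra.FinitePresentation.equiv eB.symm
    haveI := Algebra.FinitePresentation.equiv eA.symm
    exact ⟨inferInstance, Groth.Agent.MilnorLib.finitePresentation_algebra_of_pair hsq D'⟩
  · refine ⟨fun h => ⟨Algebra.Smooth.of_equiv eB, Algebra.Smooth.of_equiv eA⟩, fun ⟨h1, h2⟩ => ?_⟩
    haveI := Algebra.Smooth.of_equiv eB.symm
    haveI := Algebra.Smooth.of_equiv eA.symm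
    exact Groth.Agent.MilnorLib.smooth_of_pair hsq D'
  · refine ⟨fun h => ⟨Algebra.Etale.of_equiv eB, Algebra.Etale.of_equiv eA⟩, fun ⟨h1, h2⟩ => ?_⟩
    haveI := Algebra.Etale.of_equiv eB.symm
    haveI := Algebra.Etale.of_equiv eA.symm
    exact Groth.Agent.MilnorLib.etale_of_pair hsq D'

end Groth.Agent.S6900
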