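import Groth.Statements.S6914
import Groth.Agent.FittLib.Local
-- import your own Groth.Agent.* helpers here

set_option autoImplicit false
universe u
open TensorProduct
open Fitt

namespace Groth.Agent.S6914

/-- Let `M` be a finite `R`-module, `k ≥ 0`, `I = Fit_k(M)` and `a ∈ I`; let `R₁ ≅ R[I/a]` be (a copy
of) the affine blow-up algebra and `M' = (M ⊗_R R₁)/(a-power torsion)` the strict transform. Then
`Fit_k(M') = R₁`. -/
theorem result {R : Type u} [CommRing R] (M : Type u) [AddCommGroup M] [Module R M]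
    [Module.Finite R M] (k : ℕ) (a : R) (ha : a ∈ Fitt.ideal R M k)
    (R₁ : Type u) [CommRing R₁] [Algebra R R₁] (e : R₁ ≃ₐ[R] ↥(BlowUp.affineAlgebra R (Fitt.ideal R M k) a)) :
    Fitt.ideal R₁ ((R₁ ⊗[R] M) ⧸ FlatCA.powTorsion R₁ (algebraMap R R₁ a) (R₁ ⊗[R] M)) k = ⊤ := by
  classical
  let M₁ := R₁ ⊗[R] M
  let a₁ := algebraMap R R₁ a
  let T := FlatCA.powTorsion R₁ a₁ M₁
  have hI : Fitt.ideal R₁ M₁ k = Ideal.span {a₁} := by
    rw [FittLib.baseChange]
    refine le_antisymm (Ideal.map_le_iff_le_comap.2 fun x hx => ?_) ((Ideal.span_singleton_le_iff_mem _).2 (Ideal.mem_map_of_mem _ ha))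
    refine Ideal.mem_span_singleton'.2 ⟨e.symm ⟨_, Algebra.subset_adjoin ⟨x, hx, rfl⟩⟩, e.injective (Subtype.ext ?_)⟩
    rw [map_mul, e.apply_symm_apply, e.commutes, e.commutes]
    exact IsLocalization.mk'_spec (Localization.Away a) x ⟨a, Submonoid.mem_powers a⟩
  exact FittLib.quotient_eq_top hI T fun m hm => Submodule.mem_iSup_of_mem 1
    ((Submodule.mem_torsionBy_iff _ _).2 (by rw [pow_one]; exact hm))

end Groth.Agent.S6914
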