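import Groth.Statements.S6915
import Groth.Agent.FittLib.Rank
import Groth.Agent.S6895
-- import your own Groth.Agent.* helpers here

set_option autoImplicit false
universe u
open TensorProduct
open Fitt

namespace Groth.Agent.S6915

/-- Let `M` be a finite `R`-module, `k ≥ 0` and `I = Fit_k(M)`, and assume `M_𝔭` is free of rank `k` for
every prime `𝔭` not containing `I`. Then for every `a ∈ I` and (a copy `R₁` of) the affine blow-up
algebra `R[I/a]`, the strict transform `M' = (M ⊗_R R₁)/(a-power torsion)` is finite locally free of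
rank `k`: every prime of `R₁` has a basic open neighbourhood over which `M'` is free of rank `k`. -/
theorem result {R : Type u} [CommRing R] (M : Type u) [AddCommGroup M]
    [Module R M] [Module.Finite R M] (k : ℕ)
    (hfree : ∀ (p : Ideal R) [p.IsPrime], ¬ Fitt.ideal R M k ≤ p →
      Module.Free (Localization.AtPrime p) (LocalizedModule p.primeCompl M) ∧
        Module.finrank (Localization.AtPrime p) (LocalizedModule p.primeCompl M) = k)
    (a : R) (ha : a ∈ Fitt.ideal R M k) (R₁ : Type u) [CommRing R₁] [Algebra R R₁] (e : R₁ ≃ₐ[R] ↥(BlowUp.affineAlgebra R (Fitt.ideal R M k) a)) :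
    ∀ (p' : Ideal R₁) [p'.IsPrime], ∃ g : R₁, g ∉ p' ∧
      Module.Free (Localization.Away g) (LocalizedModule (Submonoid.powers g) ((R₁ ⊗[R] M) ⧸ FlatCA.powTorsion R₁ (algebraMap R R₁ a) (R₁ ⊗[R] M))) ∧
      Module.finrank (Localization.Away g) (LocalizedModule (Submonoid.powers g) ((R₁ ⊗[R] M) ⧸ FlatCA.powTorsion R₁ (algebraMap R R₁ a) (R₁ ⊗[R] M))) = k := by
  classical
  let M₁ := R₁ ⊗[R] M
  let a₁ := algebraMap R R₁ a
  let T := FlatCA.powTorsion R₁ a₁ M₁
  have hI : Fitt.ideal R₁ M₁ k = Ideal.span {a₁} := by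
    rw [FittLib.baseChange]
    refine le_antisymm (Ideal.map_le_iff_le_comap.2 fun x hx => ?_) ((Ideal.span_singleton_le_iff_mem _).2 (Ideal.mem_map_of_mem _ ha))
    refine Ideal.mem_span_singleton'.2 ⟨e.symm ⟨_, Algebra.subset_adjoin ⟨x, hx, rfl⟩⟩, e.injective (Subtype.ext ?_)⟩
    rw [map_mul, e.apply_symm_apply, e.commutes, e.commutes]
    exact IsLocalization.mk'_spec (Localization.Away a) x ⟨a, Submonoid.mem_powers a⟩
  have hnzd : ∀ x : R₁, a₁ * x = 0 → x = 0 := fun x hx => e.injective (Subtype.ext (by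
    have h0 := congrArg Subtype.val (congrArg e hx)
    rw [map_mul, e.commutes, map_zero] at h0
    rw [map_zero]
    exact (IsLocalization.Away.algebraMap_isUnit (S := Localization.Away a) a).mul_right_eq_zero.1 h0))
  have hT : ∀ m ∈ T, ∃ n : ℕ, a₁ ^ n • m = 0 := fun m hm => by
    obtain ⟨n, hn⟩ := (Submodule.mem_iSup_of_directed _ (Monotone.directed_le fun i j hij =>
      Submodule.torsionBy_le_torsionBy_of_dvd _ _ (pow_dvd_pow a₁ hij))).1 hm
    exact ⟨n, (Submodule.mem_torsionBy_iff _ _).1 hn⟩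
  refine (S6895.result (M₁ ⧸ T) k).2 ⟨fun j hj => FittLib.quotient_eq_bot hnzd (fun q _ haq x hx => ?_) T hT,
    fun j hj => top_le_iff.1 (((FittLib.quotient_eq_top hI T fun m hm => Submodule.mem_iSup_of_mem 1
      ((Submodule.mem_torsionBy_iff _ _).2 (by rw [pow_one]; exact hm))).ge).trans (FittLib.mono_index hj))⟩
  let p := q.comap (algebraMap R R₁)
  have hp : ¬ Fitt.ideal R M k ≤ p := fun h => haq (h ha)
  obtain ⟨hf, hr⟩ := hfree p hp
  haveI := hf
  have hle : Fitt.ideal R₁ M₁ j ≤ RingHom.ker (algebraMap R₁ (Localization.AtPrime q)) := by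
    rw [FittLib.baseChange]
    refine Ideal.map_le_iff_le_comap.2 fun y hy => ?_
    obtain ⟨s, hs, hsy⟩ := FittLib.exists_mul_eq_zero_of_free p hr hj hy
    exact (IsLocalization.map_eq_zero_iff q.primeCompl _ _).2 ⟨⟨algebraMap R R₁ s, hs⟩, by
      show algebraMap R R₁ s * algebraMap R R₁ y = 0
      rw [← map_mul, hsy, map_zero]⟩
  obtain ⟨s, hs⟩ := (IsLocalization.map_eq_zero_iff q.primeCompl _ _).1 (hle hx)
  exact ⟨s.1, s.2, hs⟩

end Groth.Agent.S6915
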