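import Groth.Statements.S6917
import Mathlib
import Groth.Agent.MilnorLib.Algebra

set_option autoImplicit false
universe u
open CategoryTheory
open EtAlg

namespace Groth.Agent.S6917

theorem spec_glue (B' B A' A : Type u) [CommRing B'] [CommRing B] [CommRing A'] [CommRing A]
    [Algebra B' B] [Algebra B' A'] [Algebra B A] [Algebra A' A] [Algebra B' A] [IsScalarTower B' B A] [IsScalarTower B' A' A]
    (hsq : EtMil.IsFibreSquare B' B A' A) :
    (∀ x : PrimeSpectrum B', (∃ q, PrimeSpectrum.comap (algebraMap B' B) q = x) ∨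
      ∃ q, PrimeSpectrum.comap (algebraMap B' A') q = x) ∧
    Function.Injective (PrimeSpectrum.comap (algebraMap B' B)) ∧
    (∀ q q', PrimeSpectrum.comap (algebraMap B' B) q = PrimeSpectrum.comap (algebraMap B' A') q' →
      ∃ r, PrimeSpectrum.comap (algebraMap B A) r = q ∧ PrimeSpectrum.comap (algebraMap A' A) r = q') ∧
    (∀ q q', PrimeSpectrum.comap (algebraMap B' A') q = PrimeSpectrum.comap (algebraMap B' A') q' →
      q = q' ∨ ∃ r, PrimeSpectrum.comap (algebraMap A' A) r = q) ∧
    ∀ U : Set (PrimeSpectrum B'), IsOpen (PrimeSpectrum.comap (algebraMap B' B) ⁻¹' U) →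
      IsOpen (PrimeSpectrum.comap (algebraMap B' A') ⁻¹' U) → IsOpen U := by
  have hs := Groth.Agent.MilnorLib.surjective_algebraMap hsq
  have hover : ∀ x : PrimeSpectrum B', (∃ q, PrimeSpectrum.comap (algebraMap B' B) q = x) ∨
      ∃ q, PrimeSpectrum.comap (algebraMap B' A') q = x := fun x =>
    (Groth.Agent.MilnorLib.exists_prime_over' hsq x.asIdeal).imp
      (fun ⟨q, hq⟩ => ⟨q, PrimeSpectrum.ext hq⟩) (fun ⟨q, hq⟩ => ⟨q, PrimeSpectrum.ext hq⟩)
  have hinjB : Function.Injective (PrimeSpectrum.comap (algebraMap B' B)) :=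
    PrimeSpectrum.comap_injective_of_surjective _ hs
  have hcomm : ∀ r, PrimeSpectrum.comap (algebraMap B' B) (PrimeSpectrum.comap (algebraMap B A) r) =
      PrimeSpectrum.comap (algebraMap B' A') (PrimeSpectrum.comap (algebraMap A' A) r) := fun r =>
    PrimeSpectrum.ext (Ideal.ext fun x => by
      show algebraMap B A (algebraMap B' B x) ∈ r.asIdeal ↔ algebraMap A' A (algebraMap B' A' x) ∈ r.asIdeal
      rw [← IsScalarTower.algebraMap_apply, ← IsScalarTower.algebraMap_apply])
  have hlift : ∀ q' : PrimeSpectrum A', RingHom.ker (algebraMap B' B) ≤ q'.asIdeal.comap (algebraMap B' A') →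
      ∃ r, PrimeSpectrum.comap (algebraMap A' A) r = q' := fun q' h => by
    show q' ∈ Set.range (PrimeSpectrum.comap (algebraMap A' A))
    rw [range_comap_of_surjective _ _ hsq.1]
    intro i hi
    obtain ⟨j, hj, rfl⟩ := Groth.Agent.MilnorLib.exists_lift_ker hsq hi
    exact h hj
  have hJ : ∀ q : PrimeSpectrum B, RingHom.ker (algebraMap B' B) ≤ q.asIdeal.comap (algebraMap B' B) := fun q j hj => by
    show algebraMap B' B j ∈ q.asIdeal
    rw [RingHom.mem_ker.1 hj]; exact zero_mem _
  refine ⟨hover, hinjB, fun q q' h => ?_, fun q q' h => ?_, fun U hU hU' => ?_⟩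
  · obtain ⟨r, rfl⟩ := hlift q' (le_of_le_of_eq (hJ q) (congrArg PrimeSpectrum.asIdeal h))
    exact ⟨r, hinjB ((hcomm r).trans h.symm), rfl⟩
  · by_cases hq : RingHom.ker (algebraMap B' B) ≤ q.asIdeal.comap (algebraMap B' A')
    · exact Or.inr (hlift q hq)
    left
    obtain ⟨j, hj, hjq⟩ := SetLike.not_le_iff_exists.1 hq
    have hjq' : j ∉ q'.asIdeal.comap (algebraMap B' A') := fun h' =>
      hjq (by rw [show q.asIdeal.comap (algebraMap B' A') = q'.asIdeal.comap (algebraMap B' A') from
        congrArg PrimeSpectrum.asIdeal h]; exact h')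
    have key : ∀ (Q : PrimeSpectrum A'), j ∉ Q.asIdeal.comap (algebraMap B' A') → ∀ a : A',
        a ∈ Q.asIdeal ↔ Groth.Agent.MilnorLib.mu hsq j hj a ∈ Q.asIdeal.comap (algebraMap B' A') := by
      intro Q hQ a
      rw [Ideal.mem_comap, Groth.Agent.MilnorLib.map_mu]
      exact ⟨fun ha => Ideal.mul_mem_left _ _ ha, fun ha => (Q.isPrime.mem_or_mem ha).resolve_left hQ⟩
    refine PrimeSpectrum.ext (Ideal.ext fun a => ?_)
    rw [key q hjq, key q' hjq', show q.asIdeal.comap (algebraMap B' A') = q'.asIdeal.comap (algebraMap B' A') from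
      congrArg PrimeSpectrum.asIdeal h]
  rw [PrimeSpectrum.isTopologicalBasis_basic_opens.isOpen_iff]
  intro x hx
  by_cases hJx : RingHom.ker (algebraMap B' B) ≤ x.asIdeal
  · obtain ⟨q, rfl⟩ : x ∈ Set.range (PrimeSpectrum.comap (algebraMap B' B)) := by
      rw [range_comap_of_surjective _ _ hs]; exact hJx
    obtain ⟨_, ⟨b, rfl⟩, hqb, hb⟩ := PrimeSpectrum.isTopologicalBasis_basic_opens.isOpen_iff.1 hU q hx
    obtain ⟨a, ha⟩ := (PrimeSpectrum.isClosed_iff_zeroLocus_ideal _).1 hU'.isClosed_compl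
    have hrad : algebraMap B A b ∈ (a.map (algebraMap A' A)).radical := by
      rw [Ideal.radical_eq_sInf, Submodule.mem_sInf]
      rintro P ⟨haP, hP⟩
      by_contra hbP
      let r : PrimeSpectrum A := ⟨P, hP⟩
      have h1 : PrimeSpectrum.comap (algebraMap B' B) (PrimeSpectrum.comap (algebraMap B A) r) ∈ U := hb hbP
      have h2 : PrimeSpectrum.comap (algebraMap A' A) r ∈ PrimeSpectrum.zeroLocus (a : Set A') :=
        fun y hy => haP (Ideal.mem_map_of_mem _ hy)
      rw [← ha] at h2
      exact h2 (show PrimeSpectrum.comap (algebraMap B' A') _ ∈ U by rw [← hcomm r]; exact h1)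
    obtain ⟨n0, hn0⟩ := hrad
    have hn : algebraMap B A b ^ (n0 + 1) ∈ a.map (algebraMap A' A) := by
      rw [pow_succ]; exact Ideal.mul_mem_right _ _ hn0
    set n := n0 + 1 with hndef
    obtain ⟨α, hα, hαb⟩ := (Ideal.mem_map_iff_of_surjective _ hsq.1).1 hn
    obtain ⟨c, ⟨hc1, hc2⟩, -⟩ := hsq.2 (b ^ n) α (by rw [map_pow]; exact hαb.symm)
    refine ⟨_, ⟨c, rfl⟩, ?_, fun y hy => ?_⟩
    · show algebraMap B' B c ∉ q.asIdeal
      rw [hc1]
      exact fun h => hqb (q.isPrime.mem_of_pow_mem n h)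
    rcases hover y with ⟨p, rfl⟩ | ⟨p, rfl⟩
    · refine hb ?_
      have hy' : algebraMap B' B c ∉ p.asIdeal := hy
      rw [hc1] at hy'
      show b ∉ p.asIdeal
      intro hbp
      exact hy' (p.asIdeal.pow_mem_of_mem hbp n (Nat.succ_pos _))
    · by_contra hpU
      have hp : p ∈ PrimeSpectrum.zeroLocus (a : Set A') := ha ▸ hpU
      exact hy (show algebraMap B' A' c ∈ p.asIdeal by rw [hc2]; exact hp hα)
  · obtain ⟨j, hj, hjx⟩ := SetLike.not_le_iff_exists.1 hJx
    rcases hover x with ⟨q, rfl⟩ | ⟨q, rfl⟩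
    · exact absurd (hJ q) hJx
    obtain ⟨_, ⟨g, rfl⟩, hqg, hg⟩ := PrimeSpectrum.isTopologicalBasis_basic_opens.isOpen_iff.1 hU' q hx
    have hc := Groth.Agent.MilnorLib.map_mu hsq j hj g
    refine ⟨_, ⟨Groth.Agent.MilnorLib.mu hsq j hj g, rfl⟩, ?_, fun y hy => ?_⟩
    · show algebraMap B' A' _ ∉ q.asIdeal
      rw [hc]
      exact fun h => (q.isPrime.mem_or_mem h).elim hjx hqg
    rcases hover y with ⟨p, rfl⟩ | ⟨p, rfl⟩
    · exact absurd (hJ p (Groth.Agent.MilnorLib.mu_mem hsq j hj g)) hy
    · refine hg ?_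
      show g ∉ p.asIdeal
      intro hgp
      apply hy
      show algebraMap B' A' _ ∈ p.asIdeal
      rw [hc]
      exact Ideal.mul_mem_left _ _ hgp

/-- Let `B' = B ×_A A'` be a fibre square of rings with `A' → A` surjective. Then `Spec(B') = Spec(B)
⨿_{Spec(A)} Spec(A')`: the square of prime spectra is a pushout of topological spaces. -/
theorem result (B' B A' A : Type u) [CommRing B'] [CommRing B] [CommRing A'] [CommRing A]
    [Algebra B' B] [Algebra B' A'] [Algebra B A] [Algebra A' A] [Algebra B' A] [IsScalarTower B' B A] [IsScalarTower B' A' A]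
    (hsq : EtMil.IsFibreSquare B' B A' A) :
    IsPushout (TopCat.ofHom (ContinuousMap.mk (PrimeSpectrum.comap (algebraMap B A)) (PrimeSpectrum.continuous_comap _))) (TopCat.ofHom (ContinuousMap.mk (PrimeSpectrum.comap (algebraMap A' A)) (PrimeSpectrum.continuous_comap _)))
      (TopCat.ofHom (ContinuousMap.mk (PrimeSpectrum.comap (algebraMap B' B)) (PrimeSpectrum.continuous_comap _)))
      (TopCat.ofHom (ContinuousMap.mk (PrimeSpectrum.comap (algebraMap B' A')) (PrimeSpectrum.continuous_comap _))) := by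
  obtain ⟨hover, hinjB, hBA, hAA, hopen⟩ := spec_glue B' B A' A hsq
  classical
  have hcomm : ∀ r, PrimeSpectrum.comap (algebraMap B' B) (PrimeSpectrum.comap (algebraMap B A) r) =
      PrimeSpectrum.comap (algebraMap B' A') (PrimeSpectrum.comap (algebraMap A' A) r) := fun r =>
    PrimeSpectrum.ext (Ideal.ext fun x => by
      show algebraMap B A (algebraMap B' B x) ∈ r.asIdeal ↔ algebraMap A' A (algebraMap B' A' x) ∈ r.asIdeal
      rw [← IsScalarTower.algebraMap_apply, ← IsScalarTower.algebraMap_apply])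
  refine IsPushout.of_isColimit' ⟨TopCat.hom_ext (ContinuousMap.ext fun r => hcomm r)⟩ ?_
  refine Limits.PushoutCocone.IsColimit.mk _
    (fun s => TopCat.ofHom ⟨fun x =>
      if h : ∃ q, PrimeSpectrum.comap (algebraMap B' B) q = x then s.inl h.choose
      else s.inr ((hover x).resolve_left h).choose, ?_⟩) ?_ ?_ ?_
  pick_goal 4
  · intro s m h1 h2
    refine TopCat.hom_ext (ContinuousMap.ext fun x => ?_)
    show m x = dite _ _ _
    split_ifs with h
    · conv_lhs => rw [← h.choose_spec]
      exact congrArg (fun f => f h.choose) h1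
    · conv_lhs => rw [← ((hover x).resolve_left h).choose_spec]
      exact congrArg (fun f => f ((hover x).resolve_left h).choose) h2
  all_goals
    have hl : ∀ (s : (Limits.PushoutCocone (TopCat.ofHom (ContinuousMap.mk (PrimeSpectrum.comap (algebraMap B A)) (PrimeSpectrum.continuous_comap _))) (TopCat.ofHom (ContinuousMap.mk (PrimeSpectrum.comap (algebraMap A' A)) (PrimeSpectrum.continuous_comap _))))) (q : PrimeSpectrum B),
        (if h : ∃ q', PrimeSpectrum.comap (algebraMap B' B) q' = PrimeSpectrum.comap (algebraMap B' B) q then s.inl h.choose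
          else s.inr ((hover _).resolve_left h).choose) = s.inl q := fun s q => by
      rw [dif_pos ⟨q, rfl⟩]
      congr 1
      exact hinjB (⟨q, rfl⟩ : ∃ q', PrimeSpectrum.comap (algebraMap B' B) q' = PrimeSpectrum.comap (algebraMap B' B) q).choose_spec
    have hr : ∀ (s : (Limits.PushoutCocone (TopCat.ofHom (ContinuousMap.mk (PrimeSpectrum.comap (algebraMap B A)) (PrimeSpectrum.continuous_comap _))) (TopCat.ofHom (ContinuousMap.mk (PrimeSpectrum.comap (algebraMap A' A)) (PrimeSpectrum.continuous_comap _))))) (q : PrimeSpectrum A'),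
        (if h : ∃ q', PrimeSpectrum.comap (algebraMap B' B) q' = PrimeSpectrum.comap (algebraMap B' A') q then s.inl h.choose
          else s.inr ((hover _).resolve_left h).choose) = s.inr q := fun s q => by
      split_ifs with h
      · obtain ⟨r, hr1, hr2⟩ := hBA _ q h.choose_spec
        rw [← hr1, ← hr2]
        exact congrArg (fun f => f r) s.condition
      · congr 1
        rcases hAA _ q ((hover _).resolve_left h).choose_spec with e | ⟨r, hr⟩
        · exact e
        · exact absurd ⟨_, (hcomm r).trans (by rw [hr, ((hover _).resolve_left h).choose_spec])⟩ h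
  · refine ⟨fun U hU => hopen _ ?_ ?_⟩
    · convert hU.preimage s.inl.hom.continuous using 1
      ext q
      exact iff_of_eq (congrArg (· ∈ U) (hl s q))
    · convert hU.preimage s.inr.hom.continuous using 1
      ext q
      exact iff_of_eq (congrArg (· ∈ U) (hr s q))
  · exact fun s => TopCat.hom_ext (ContinuousMap.ext fun q => hl s q)
  · exact fun s => TopCat.hom_ext (ContinuousMap.ext fun q => hr s q)

end Groth.Agent.S6917
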