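import Groth.Statements.S6918
import Groth.Agent.FlatOverBC.Algebra
-- import your own Groth.Agent.* helpers here

set_option autoImplicit false
universe u
open FlatMor

namespace Groth.Agent.S6918

/-- Let `R → S` be a ring map, `J ⊆ S` an ideal, `M` an `S`-module, `I ⊆ R` an ideal, `R → R'` a ring
map and `I' ⊇ IR'`; put `S' = S ⊗_R R'`, `M' = M ⊗_R R'`. If `M_𝔮` is flat over `R` for all primes
`𝔮 ⊇ IS + J` of `S`, then `M'_{𝔮'}` is flat over `R'` for all primes `𝔮' ⊇ I'S' + JS'` of `S'`. (The
published statement passes from an arbitrary pair `(R', I')` over `R` to a further pair `(R'',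
I'')`; this row takes the first pair to be `(R, I)`.) -/
theorem result {R S R' S' : Type u} [CommRing R] [CommRing S] [CommRing R'] [CommRing S']
    [Algebra R S] [Algebra R R'] [Algebra S S'] [Algebra R' S'] [Algebra R S'] [IsScalarTower R S S']
    [IsScalarTower R R' S'] [Algebra.IsPushout R S R' S']
    (I : Ideal R) (I' : Ideal R') (hII' : I.map (algebraMap R R') ≤ I')
    {M M' : Type u} [AddCommGroup M] [Module S M] [Module R M] [IsScalarTower R S M]
    [AddCommGroup M'] [Module S' M'] [Module R' M'] [IsScalarTower R' S' M'] [Module S M'] [IsScalarTower S S' M']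
    (f : M →ₗ[S] M') (hf : IsBaseChange S' f) (J : Ideal S)
    (h : (∀ (q : Ideal S) [q.IsPrime], I.map (algebraMap R S) ⊔ J ≤ q → FlatCA.FlatAt R q M)) :
    (∀ (q : Ideal S') [q.IsPrime], I'.map (algebraMap R' S') ⊔ J.map (algebraMap S S') ≤ q → FlatCA.FlatAt R' q M') := by
  intro q' hq'p hle
  let q : Ideal S := q'.comap (algebraMap S S')
  have hq : I.map (algebraMap R S) ⊔ J ≤ q := by
    refine sup_le ?_ (Ideal.le_comap_map.trans (Ideal.comap_mono (le_sup_right.trans hle)))
    rw [Ideal.map_le_iff_le_comap, Ideal.comap_comap, ← IsScalarTower.algebraMap_eq R S S',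
      IsScalarTower.algebraMap_eq R R' S', ← Ideal.comap_comap, ← Ideal.map_le_iff_le_comap]
    exact hII'.trans (Ideal.le_comap_map.trans (Ideal.comap_mono (le_sup_left.trans hle)))
  haveI : Module.Flat R (LocalizedModule q.primeCompl M) := h q hq
  let C := Localization.AtPrime q'
  let L := LocalizedModule q.primeCompl M
  let O := LocalizedModule q'.primeCompl M'
  let ι : M →ₗ[S] L := LocalizedModule.mkLinearMap q.primeCompl M
  let g₀ : M' →ₗ[S'] O := LocalizedModule.mkLinearMap q'.primeCompl M'
  have hg₀ : IsBaseChange C g₀ := IsLocalizedModule.isBaseChange q'.primeCompl C g₀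
  let φ : M →ₗ[S] O := (g₀.restrictScalars S).comp f
  have hφ : IsBaseChange C φ := hf.comp hg₀
  have hu : ∀ (Q : Type u) [AddCommMonoid Q] [Module S Q] [Module C Q] [IsScalarTower S C Q]
      (x : q.primeCompl), IsUnit ((algebraMap S (Module.End S Q)) x) := by
    intro Q _ _ _ _ x
    have hx : IsUnit (algebraMap S C x) := by
      rw [IsScalarTower.algebraMap_apply S S' C]
      exact IsLocalization.map_units C (⟨algebraMap S S' x, x.2⟩ : q'.primeCompl)
    rw [Module.End.isUnit_iff]
    refine Function.bijective_iff_has_inverse.2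
      ⟨fun m => (↑hx.unit⁻¹ : C) • m, fun m => ?_, fun m => ?_⟩
    · simp only [Module.algebraMap_end_apply]
      rw [← algebraMap_smul C (x : S) m, smul_smul, IsUnit.val_inv_mul, one_smul]
    · simp only [Module.algebraMap_end_apply]
      rw [← algebraMap_smul C (x : S) ((↑hx.unit⁻¹ : C) • m), smul_smul, IsUnit.mul_val_inv, one_smul]
  let l : L →ₗ[S] O := IsLocalizedModule.lift q.primeCompl ι φ (hu O)
  have hl : l.comp ι = φ := IsLocalizedModule.lift_comp q.primeCompl ι φ (hu O)
  have hbc : IsBaseChange C l := by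
    refine IsBaseChange.of_lift_unique l ?_
    intro Q _ _ _ _ g
    refine ⟨hφ.lift (g.comp ι), ?_, fun g' e => ?_⟩
    · refine IsLocalizedModule.ext q.primeCompl ι (hu Q) ?_
      rw [LinearMap.comp_assoc, hl, hφ.lift_comp]
    · refine hφ.algHom_ext' _ _ ?_
      rw [hφ.lift_comp, ← e, LinearMap.comp_assoc, hl]
  let ψ : TensorProduct R S R' →+* C :=
    (algebraMap S' C).comp (Algebra.IsPushout.equiv R S R' S').toRingEquiv.toRingHom
  have hψ : ψ.Flat :=
    RingHom.Flat.comp (RingHom.Flat.of_bijective (Algebra.IsPushout.equiv R S R' S').bijective)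
      (RingHom.flat_algebraMap_iff.2 (IsLocalization.flat C q'.primeCompl))
  haveI : Module.Flat R' (TensorProduct S C L) :=
    Groth.Agent.FlatOverBC.flat_baseChange_over R S R' C L ψ hψ
      (fun a => by simp [ψ, Algebra.IsPushout.equiv_tmul, IsScalarTower.algebraMap_apply S S' C])
      (fun b => by simp [ψ, Algebra.IsPushout.equiv_tmul, IsScalarTower.algebraMap_apply R' S' C])
  exact Module.Flat.of_linearEquiv (hbc.equiv.restrictScalars R').symm

end Groth.Agent.S6918
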