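import Groth.Statements.S6920
import Mathlib.Algebra.Category.Ring.Epi
import Mathlib.Algebra.Homology.ShortComplex.PreservesHomology
import Mathlib.RingTheory.TensorProduct.Maps

set_option autoImplicit false
universe u
open CategoryTheory CategoryTheory.Limits MonoidalCategory
open DRing

namespace Groth.Agent.S6920

/-- For an epimorphism of rings `φ : R → S` and a complex `I•` of `S`-modules, if the underlying complex
of `R`-modules of `I•` is K-injective, then `I•` itself is K-injective over `S`. -/
theorem result (R S : Type u) [CommRing R] [CommRing S] (φ : R →+* S)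
    (hφ : Epi (CommRingCat.ofHom φ)) (I : DRing.Cx S)
    [CochainComplex.IsKInjective ((DRing.restrictCx φ).obj I)] : CochainComplex.IsKInjective I := by
  letI : Algebra R S := φ.toAlgebra
  have hepi : Algebra.IsEpi R S := CommRingCat.epi_iff_epi.mp hφ
  have key : ∀ (M N : ModuleCat.{u} S) (h : (ModuleCat.restrictScalars φ).obj M ⟶ (ModuleCat.restrictScalars φ).obj N)
      (s : S) (m : M), (h (s • m : M) : N) = s • (h m : N) := by
    intro M N h s m
    letI : Module R M := Module.compHom M φ
    letI : Module R N := Module.compHom N φ
    haveI : IsScalarTower R S M := ⟨fun r a x => by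
      show (φ r * a) • x = φ r • a • x
      rw [mul_smul]⟩
    haveI : IsScalarTower R S N := ⟨fun r a x => by
      show (φ r * a) • x = φ r • a • x
      rw [mul_smul]⟩
    let h' : M →ₗ[R] N :=
      { toFun := fun x => h x
        map_add' := fun x y => map_add h.hom x y
        map_smul' := fun r x => map_smul h.hom r x }
    let B : S →ₗ[R] S →ₗ[R] N := LinearMap.mk₂ R (fun a b => a • h' (b • m))
      (fun a a' b => add_smul a a' _) (fun r a b => smul_assoc r a _)
      (fun a b b' => by rw [add_smul, map_add, smul_add])
      (fun r a b => by rw [smul_assoc, map_smul, smul_comm])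
    have e := congrArg (TensorProduct.lift B) ((Algebra.isEpi_iff_forall_one_tmul_eq R S).mp hepi s)
    simp only [TensorProduct.lift.tmul, B, LinearMap.mk₂_apply, one_smul] at e
    exact e
  refine ⟨fun {K} f hK => ?_⟩
  have hK' : ((DRing.restrictCx φ).obj K).Acyclic := fun i =>
    (HomologicalComplex.exactAt_iff _ _).mpr
      (((HomologicalComplex.exactAt_iff _ _).mp (hK i)).map (ModuleCat.restrictScalars φ))
  obtain ⟨h⟩ := CochainComplex.IsKInjective.nonempty_homotopy_zero ((DRing.restrictCx φ).map f) hK'
  refine ⟨{ hom := fun i j => ModuleCat.ofHom
              { toFun := fun x => h.hom i j x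
                map_add' := fun x y => map_add (h.hom i j).hom x y
                map_smul' := fun s x => key (K.X i) (I.X j) (h.hom i j) s x }
            zero := fun i j hij => by
              ext x
              exact LinearMap.congr_fun (congrArg ModuleCat.Hom.hom (h.zero i j hij)) x
            comm := fun i => ?_ }⟩
  ext x
  have hc := LinearMap.congr_fun (congrArg ModuleCat.Hom.hom (h.comm i)) x
  simp only [dNext, prevD, AddMonoidHom.mk'_apply, HomologicalComplex.zero_f] at hc ⊢
  exact hc

end Groth.Agent.S6920
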