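import Groth.Statements.S6921
import Groth.Agent.MilnorLib.Basic

set_option autoImplicit false
universe u
open TensorProduct
open EtAlg

namespace Groth.Agent.S6921

/-- Let `B' = B ×_A A'` be a fibre square of rings with `A' → A` surjective, `B' → D'` a ring map, and
`D = D' ⊗_{B'} B`, `C' = D' ⊗_{B'} A'`, `C = D' ⊗_{B'} A`. Let `N` be a finite `D`-module, `M'` a
finite `C'`-module and `φ : N ⊗_D C ≅ M' ⊗_{C'} C` a `C`-linear isomorphism. Then the glued module
`N ×_φ M'` is a finite `D'`-module. -/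
theorem result (B' B A' A : Type u) [CommRing B'] [CommRing B] [CommRing A'] [CommRing A]
    [Algebra B' B] [Algebra B' A'] [Algebra B A] [Algebra A' A] [Algebra B' A] [IsScalarTower B' B A] [IsScalarTower B' A' A]
    (hsq : EtMil.IsFibreSquare B' B A' A)
    (D' D C' C : Type u) [CommRing D'] [CommRing D] [CommRing C'] [CommRing C]
    [Algebra B' D'] [Algebra B D] [Algebra A' C'] [Algebra A C]
    [Algebra D' D] [Algebra B' D] [IsScalarTower B' B D] [IsScalarTower B' D' D] [Algebra.IsPushout B' B D' D]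
    [Algebra D' C'] [Algebra B' C'] [IsScalarTower B' A' C'] [IsScalarTower B' D' C'] [Algebra.IsPushout B' A' D' C']
    [Algebra D' C] [Algebra B' C] [IsScalarTower B' A C] [IsScalarTower B' D' C] [Algebra.IsPushout B' A D' C]
    [Algebra D C] [IsScalarTower D' D C] [Algebra B C] [IsScalarTower B A C] [IsScalarTower B D C]
    [Algebra C' C] [IsScalarTower D' C' C] [Algebra A' C] [IsScalarTower A' A C] [IsScalarTower A' C' C]
    {N M' : Type u} [AddCommGroup N] [Module D N] [Module D' N] [IsScalarTower D' D N]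
    [AddCommGroup M'] [Module C' M'] [Module D' M'] [IsScalarTower D' C' M'] (φ : C ⊗[D] N ≃ₗ[C] C ⊗[C'] M')
    [Module.Finite D N] [Module.Finite C' M'] : Module.Finite D' ↥(EtMil.glue D' φ) := by
  classical
  -- surjectivity of C' → C and its kernel
  have hD : Function.Surjective (algebraMap D' D) := by
    intro d
    obtain ⟨z, rfl⟩ := (Algebra.IsPushout.equiv B' B D' D).surjective d
    induction z using TensorProduct.induction_on with
    | zero => exact ⟨0, by simp⟩
    | tmul b y =>
      obtain ⟨b', rfl⟩ := Groth.Agent.MilnorLib.surjective_algebraMap hsq b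
      refine ⟨algebraMap B' D' b' * y, ?_⟩
      rw [Algebra.IsPushout.equiv_tmul, map_mul, ← IsScalarTower.algebraMap_apply, ← IsScalarTower.algebraMap_apply]
    | add x y hx hy =>
      obtain ⟨a, ha⟩ := hx
      obtain ⟨b, hb⟩ := hy
      exact ⟨a + b, by rw [map_add, map_add, ha, hb]⟩
  let g : A' →ₗ[B'] A := (IsScalarTower.toAlgHom B' A' A).toLinearMap
  have hcomm : ∀ z : A' ⊗[B'] D', Algebra.IsPushout.equiv B' A D' C (g.rTensor D' z) =
      algebraMap C' C (Algebra.IsPushout.equiv B' A' D' C' z) := by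
    intro z
    induction z using TensorProduct.induction_on with
    | zero => simp
    | tmul a y =>
      rw [LinearMap.rTensor_tmul, Algebra.IsPushout.equiv_tmul, Algebra.IsPushout.equiv_tmul, map_mul,
        ← IsScalarTower.algebraMap_apply A' C' C, ← IsScalarTower.algebraMap_apply D' C' C,
        IsScalarTower.algebraMap_apply A' A C]
      rfl
    | add x y hx hy => simp only [map_add, hx, hy]
  have hC : Function.Surjective (algebraMap C' C) := by
    intro c
    obtain ⟨z, rfl⟩ := (Algebra.IsPushout.equiv B' A D' C).surjective c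
    obtain ⟨w, rfl⟩ := LinearMap.rTensor_surjective D' (show Function.Surjective g from hsq.1) z
    exact ⟨_, (hcomm w).symm⟩
  -- every element of the kernel of C' → C comes from J D'
  have hker : ∀ x : C', algebraMap C' C x = 0 → ∃ d : D', algebraMap D' D d = 0 ∧ algebraMap D' C' d = x := by
    intro x hx
    obtain ⟨z, rfl⟩ := (Algebra.IsPushout.equiv B' A' D' C').surjective x
    rw [← hcomm, EmbeddingLike.map_eq_zero_iff] at hx
    obtain ⟨w, rfl⟩ := (rTensor_exact D' (LinearMap.exact_subtype_ker_map g) hsq.1 z).1 hx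
    clear hx
    induction w using TensorProduct.induction_on with
    | zero => exact ⟨0, by simp⟩
    | tmul i y =>
      obtain ⟨j, hj, hji⟩ := Groth.Agent.MilnorLib.exists_lift_ker hsq (i := (i : A'))
        (RingHom.mem_ker.2 i.2)
      refine ⟨algebraMap B' D' j * y, ?_, ?_⟩
      · rw [map_mul, ← IsScalarTower.algebraMap_apply, IsScalarTower.algebraMap_apply B' B D,
          RingHom.mem_ker.1 hj, map_zero, zero_mul]
      · rw [LinearMap.rTensor_tmul, Algebra.IsPushout.equiv_tmul, map_mul, ← IsScalarTower.algebraMap_apply,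
          IsScalarTower.algebraMap_apply B' A' C', hji]
        rfl
    | add a b ha hb =>
      obtain ⟨d, hd, hd'⟩ := ha
      obtain ⟨e, he, he'⟩ := hb
      exact ⟨d + e, by rw [map_add, hd, he, add_zero], by rw [map_add, hd', he', map_add, map_add]⟩
  set I : Ideal C' := RingHom.ker (algebraMap C' C) with hI
  have hkerM : ∀ m : M', ((1 : C) ⊗ₜ[C'] m : C ⊗[C'] M') = 0 → m ∈ I • (⊤ : Submodule C' M') := by
    intro m h
    let f := Algebra.linearMap C' C
    obtain ⟨w, hw⟩ := (rTensor_exact M' (LinearMap.exact_subtype_ker_map f) hC ((1 : C') ⊗ₜ[C'] m)).1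
      (by rw [LinearMap.rTensor_tmul]; simpa [f] using h)
    have key : ∀ w : LinearMap.ker f ⊗[C'] M',
        TensorProduct.lid C' M' ((LinearMap.ker f).subtype.rTensor M' w) ∈ I • (⊤ : Submodule C' M') := by
      intro w
      induction w using TensorProduct.induction_on with
      | zero => simp
      | tmul i x =>
        rw [LinearMap.rTensor_tmul, TensorProduct.lid_tmul]
        exact Submodule.smul_mem_smul i.2 Submodule.mem_top
      | add x y hx hy => rw [map_add, map_add]; exact add_mem hx hy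
    simpa [hw] using key w
  have hzero : ∀ (i : C') (m : M'), i ∈ I → φ ((1 : C) ⊗ₜ[D] (0 : N)) = (1 : C) ⊗ₜ[C'] (i • m) := by
    intro i m hi
    rw [tmul_zero, map_zero, ← smul_tmul, Algebra.smul_def, RingHom.mem_ker.1 hi, zero_mul, zero_tmul]
  obtain ⟨sN, hsN⟩ := Module.Finite.fg_top (R := D) (M := N)
  obtain ⟨sM, hsM⟩ := Module.Finite.fg_top (R := C') (M := M')
  have hpart : ∀ x : sN, ∃ m : M', φ ((1 : C) ⊗ₜ[D] (x : N)) = (1 : C) ⊗ₜ[C'] m := fun x =>
    ⟨_, (TensorProduct.mk_surjective C' M' C hC _).choose_spec.symm⟩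
  choose mp hmp using hpart
  -- the C'-span of the partners, modulo I M'
  set P : Submodule C' M' := Submodule.span C' (Set.range mp) with hP
  have hcover : ∀ m : M', m ∈ P ⊔ I • (⊤ : Submodule C' M') := by
    intro m
    have hmem : ∀ z : C ⊗[D] N, ∃ p ∈ P, φ z = (1 : C) ⊗ₜ[C'] p := by
      intro z
      induction z using TensorProduct.induction_on with
      | zero => exact ⟨0, zero_mem _, by simp⟩
      | tmul c n =>
        have hn : n ∈ Submodule.span D (sN : Set N) := hsN ▸ Submodule.mem_top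
        induction hn using Submodule.span_induction generalizing c with
        | mem x hx =>
          obtain ⟨c', rfl⟩ := hC c
          refine ⟨c' • mp ⟨x, hx⟩, P.smul_mem _ (Submodule.subset_span ⟨_, rfl⟩), ?_⟩
          rw [show (algebraMap C' C c' ⊗ₜ[D] x : C ⊗[D] N) = algebraMap C' C c' • ((1 : C) ⊗ₜ[D] x) by
            rw [smul_tmul', smul_eq_mul, mul_one], map_smul, hmp ⟨x, hx⟩, smul_tmul', smul_eq_mul, mul_one,
            tmul_smul, smul_tmul', Algebra.smul_def, mul_one]
        | zero => exact ⟨0, zero_mem _, by simp⟩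
        | add a b _ _ ha hb =>
          obtain ⟨p, hp, hp'⟩ := ha c
          obtain ⟨q, hq, hq'⟩ := hb c
          exact ⟨p + q, add_mem hp hq, by rw [tmul_add, map_add, hp', hq', tmul_add]⟩
        | smul r a _ ha =>
          obtain ⟨p, hp, hp'⟩ := ha (r • c)
          exact ⟨p, hp, by rw [← smul_tmul, hp']⟩
      | add a b ha hb =>
        obtain ⟨p, hp, hp'⟩ := ha
        obtain ⟨q, hq, hq'⟩ := hb
        exact ⟨p + q, add_mem hp hq, by rw [map_add, hp', hq', tmul_add]⟩
    obtain ⟨p, hp, hp'⟩ := hmem (φ.symm ((1 : C) ⊗ₜ[C'] m))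
    rw [LinearEquiv.apply_symm_apply] at hp'
    rw [show m = p + (m - p) by abel]
    exact Submodule.add_mem_sup hp (hkerM _ (by rw [tmul_sub, hp', sub_self]))
  let T : Set M' := {z | ∃ i ∈ I, ∃ m : M', i • m = z}
  have hT : I • (⊤ : Submodule C' M') ≤ Submodule.span C' T :=
    Submodule.smul_le.2 fun i hi m _ => Submodule.subset_span ⟨i, hi, m, rfl⟩
  have hall : ∀ m : M', m ∈ Submodule.span C' (Set.range mp ∪ T) := fun m => by
    rw [Submodule.span_union]
    exact sup_le_sup_left hT _ (hcover m)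
  choose U hU hU' using fun y : sM => Submodule.mem_span_finite_of_mem_span (hall (y : M'))
  let F : Finset M' := Finset.univ.biUnion U
  have hF : Submodule.span C' (F : Set M') = ⊤ := by
    rw [eq_top_iff, ← hsM, Submodule.span_le]
    intro y hy
    exact Submodule.span_mono (Finset.coe_subset.2 (Finset.subset_biUnion_of_mem U (Finset.mem_univ (⟨y, hy⟩ : sM)))) (hU' ⟨y, hy⟩)
  let G : Set ↥(EtMil.glue D' φ) :=
    {p | (∃ x : sN, ((x : N), mp x) = (p : N × M')) ∨ ((p : N × M').1 = 0 ∧ (p : N × M').2 ∈ F)}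
  have hG : G.Finite := by
    refine Set.Finite.of_finite_image (f := fun p : ↥(EtMil.glue D' φ) => (p : N × M')) ?_
      Subtype.val_injective.injOn
    refine ((Set.finite_range fun x : sN => ((x : N), mp x)).union
      ((Set.finite_singleton (0 : N)).prod F.finite_toSet)).subset ?_
    rintro _ ⟨p, hp | ⟨h1, h2⟩, rfl⟩
    · exact Or.inl hp
    · exact Or.inr ⟨h1, h2⟩
  set X := Submodule.span D' G with hX
  have hgen : ∀ x : sN, ∃ p ∈ X, (p : N × M') = ((x : N), mp x) := fun x =>
    ⟨⟨((x : N), mp x), hmp x⟩, Submodule.subset_span (Or.inl ⟨x, rfl⟩), rfl⟩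
  have hsub : ∀ m : M', ∀ i ∈ I, ∃ p ∈ X, (p : N × M') = ((0 : N), i • m) := by
    intro m
    have hm : m ∈ Submodule.span C' (F : Set M') := hF ▸ Submodule.mem_top
    induction hm using Submodule.span_induction with
    | mem f hf =>
      intro i hi
      obtain ⟨d, hd, rfl⟩ := hker i (RingHom.mem_ker.1 hi)
      obtain ⟨y, -, hy⟩ := Finset.mem_biUnion.1 hf
      rcases hU y hy with ⟨x, rfl⟩ | ⟨j, hj, m', rfl⟩
      · obtain ⟨p, hp, hp'⟩ := hgen x
        refine ⟨d • p, X.smul_mem _ hp, ?_⟩
        rw [Submodule.coe_smul, hp', Prod.smul_mk]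
        refine Prod.ext ?_ ?_
        · change d • (x : N) = 0
          rw [← IsScalarTower.algebraMap_smul D d (x : N), hd, zero_smul]
        · exact (IsScalarTower.algebraMap_smul C' d _).symm
      · refine ⟨d • ⟨((0 : N), j • m'), hzero j m' hj⟩,
          X.smul_mem _ (Submodule.subset_span (Or.inr ⟨rfl, hf⟩)), ?_⟩
        rw [Submodule.coe_smul, Prod.smul_mk, smul_zero]
        exact Prod.ext rfl (IsScalarTower.algebraMap_smul C' d _).symm
    | zero => exact fun i _ => ⟨0, zero_mem _, by rw [smul_zero]; rfl⟩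
    | add a b _ _ ha hb =>
      intro i hi
      obtain ⟨p, hp, hp'⟩ := ha i hi
      obtain ⟨q, hq, hq'⟩ := hb i hi
      exact ⟨p + q, add_mem hp hq, by rw [Submodule.coe_add, hp', hq', Prod.mk_add_mk, add_zero, smul_add]⟩
    | smul c a _ ha =>
      intro i hi
      obtain ⟨p, hp, hp'⟩ := ha (i * c) (I.mul_mem_right c hi)
      exact ⟨p, hp, by rw [hp', mul_smul]⟩
  have hfst : ∀ n : N, ∃ p ∈ X, (p : N × M').1 = n := by
    intro n
    have hn : n ∈ Submodule.span D (sN : Set N) := hsN ▸ Submodule.mem_top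
    induction hn using Submodule.span_induction with
    | mem x hx =>
      obtain ⟨p, hp, hp'⟩ := hgen ⟨x, hx⟩
      exact ⟨p, hp, by rw [hp']⟩
    | zero => exact ⟨0, zero_mem _, rfl⟩
    | add a b _ _ ha hb =>
      obtain ⟨p, hp, rfl⟩ := ha
      obtain ⟨q, hq, rfl⟩ := hb
      exact ⟨p + q, add_mem hp hq, rfl⟩
    | smul r a _ ha =>
      obtain ⟨p, hp, rfl⟩ := ha
      obtain ⟨r', rfl⟩ := hD r
      exact ⟨r' • p, X.smul_mem _ hp, (IsScalarTower.algebraMap_smul D r' _).symm⟩
  refine ⟨⟨hG.toFinset, eq_top_iff.2 fun z _ => ?_⟩⟩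
  rw [Set.Finite.coe_toFinset]
  obtain ⟨q, hq, hq1⟩ := hfst (z : N × M').1
  suffices hzq : z - q ∈ X by simpa using add_mem hzq hq
  have hz1 : ((z - q : ↥(EtMil.glue D' φ)) : N × M').1 = 0 := by simp [hq1]
  have hz2 : ((z - q : ↥(EtMil.glue D' φ)) : N × M').2 ∈ I • (⊤ : Submodule C' M') := by
    refine hkerM _ ?_
    have := (z - q).2
    change φ ((1 : C) ⊗ₜ[D] ((z - q : ↥(EtMil.glue D' φ)) : N × M').1) = _ at this
    rw [hz1, tmul_zero, map_zero] at this
    exact this.symm
  have hall' : ∀ m ∈ I • (⊤ : Submodule C' M'), ∃ p ∈ X, (p : N × M') = ((0 : N), m) := by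
    intro m hm
    refine Submodule.smul_induction_on hm (fun i hi x _ => hsub x i hi) ?_
    rintro a b ⟨p, hp, hp'⟩ ⟨p2, hp2, hp2'⟩
    exact ⟨p + p2, add_mem hp hp2, by rw [Submodule.coe_add, hp', hp2', Prod.mk_add_mk, add_zero]⟩
  obtain ⟨p, hp, hp'⟩ := hall' _ hz2
  have : z - q = p := Subtype.ext (by rw [hp']; exact Prod.ext hz1 rfl)
  rw [this]
  exact hp

end Groth.Agent.S6921
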