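import Groth.Statements.S6922
import Mathlib
import Groth.Agent.MilnorLib.Criteria
import Groth.Agent.S6921

set_option autoImplicit false
universe u
open TensorProduct
open EtAlg

namespace Groth.Agent.S6922

section General

theorem injective_baseChange_ker {R S P PS : Type u} [CommRing R] [CommRing S] [CommRing P] [CommRing PS]
    [Algebra R S] [Algebra R P] [Algebra R PS] [Algebra S PS] [Algebra P PS] [IsScalarTower R S PS]
    [IsScalarTower R P PS] [Algebra.IsPushout R S P PS]
    {F L : Type u} [AddCommGroup F] [Module P F] [Module R F] [IsScalarTower R P F]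
    [AddCommGroup L] [Module P L] [Module R L] [IsScalarTower R P L] [Module.Flat R L]
    (p : F →ₗ[P] L) (hp : Function.Surjective p) :
    Function.Injective ((LinearMap.ker p).subtype.baseChange PS) := by
  have hinj : Function.Injective (((LinearMap.ker p).subtype.restrictScalars R).lTensor S) :=
    LinearMap.lTensor_injective_of_exact_of_flat (p.restrictScalars R) hp
      ((LinearMap.ker p).subtype.restrictScalars R) (LinearMap.ker p).subtype_injective
      (LinearMap.exact_subtype_ker_map p) S
  let c1 := Algebra.IsPushout.cancelBaseChange R S P PS ↥(LinearMap.ker p)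
  let c2 := Algebra.IsPushout.cancelBaseChange R S P PS F
  have key : ∀ w, (LinearMap.ker p).subtype.baseChange PS (c1.symm w) =
      c2.symm (((LinearMap.ker p).subtype.restrictScalars R).lTensor S w) := by
    intro w
    induction w using TensorProduct.induction_on with
    | zero => simp
    | tmul s k =>
      simp [c1, c2]
    | add x y hx hy => simp only [map_add, hx, hy]
  intro x y hxy
  obtain ⟨x, rfl⟩ := c1.symm.surjective x
  obtain ⟨y, rfl⟩ := c1.symm.surjective y
  rw [key, key] at hxy
  exact congrArg _ (hinj (c2.symm.injective hxy))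

theorem exists_finset_subsingleton {P PS : Type u} [CommRing P] [CommRing PS] [Algebra P PS]
    {K : Type u} [AddCommGroup K] [Module P K] (h : Module.Finite PS (PS ⊗[P] K)) :
    ∃ s : Finset K, ∀ K0 : Submodule P K, (s : Set K) ⊆ K0 → Subsingleton (PS ⊗[P] (K ⧸ K0)) := by
  classical
  have key : ∀ x : PS ⊗[P] K, ∃ s : Finset K, ∀ K0 : Submodule P K, (s : Set K) ⊆ K0 →
      K0.mkQ.baseChange PS x = 0 := by
    intro x
    induction x using TensorProduct.induction_on with
    | zero => exact ⟨∅, fun K0 _ => map_zero _⟩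
    | tmul c k => exact ⟨{k}, fun K0 hK => by
        rw [LinearMap.baseChange_tmul, Submodule.mkQ_apply,
          (Submodule.Quotient.mk_eq_zero _).2 (hK (by simp)), tmul_zero]⟩
    | add x y hx hy =>
      obtain ⟨s, hs⟩ := hx
      obtain ⟨t, ht⟩ := hy
      exact ⟨s ∪ t, fun K0 hK => by
        rw [map_add, hs K0 (subset_trans (by simp) hK), ht K0 (subset_trans (by simp) hK), add_zero]⟩
  choose s hs using key
  obtain ⟨t, ht⟩ := h.fg_top
  refine ⟨t.biUnion s, fun K0 hK => ⟨fun a b => ?_⟩⟩
  suffices ∀ z : PS ⊗[P] (K ⧸ K0), z = 0 by rw [this a, this b]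
  intro z
  obtain ⟨w, rfl⟩ := LinearMap.lTensor_surjective PS K0.mkQ_surjective z
  have hw : w ∈ Submodule.span PS (t : Set (PS ⊗[P] K)) := by rw [ht]; trivial
  show K0.mkQ.baseChange PS w = 0
  induction hw using Submodule.span_induction with
  | mem x hx => exact hs x K0 (subset_trans (Finset.coe_subset.2 (Finset.subset_biUnion_of_mem s hx)) hK)
  | zero => simp
  | add x y _ _ hx hy => rw [map_add, hx, hy, add_zero]
  | smul c x _ hx => rw [map_smul, hx, smul_zero]

theorem finite_baseChange_ker {R S P PS : Type u} [CommRing R] [CommRing S] [CommRing P] [CommRing PS]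
    [Algebra R S] [Algebra R P] [Algebra R PS] [Algebra S PS] [Algebra P PS] [IsScalarTower R S PS]
    [IsScalarTower R P PS] [Algebra.IsPushout R S P PS]
    {F L : Type u} [AddCommGroup F] [Module P F] [Module R F] [IsScalarTower R P F] [Module.Finite P F]
    [AddCommGroup L] [Module P L] [Module R L] [IsScalarTower R P L] [Module.Flat R L]
    [Module.FinitePresentation PS (PS ⊗[P] L)] (p : F →ₗ[P] L) (hp : Function.Surjective p) :
    Module.Finite PS (PS ⊗[P] ↥(LinearMap.ker p)) := by
  have hinj := injective_baseChange_ker (R := R) (S := S) (PS := PS) p hp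
  have hex : Function.Exact ((LinearMap.ker p).subtype.baseChange PS) (p.baseChange PS) :=
    lTensor_exact PS (LinearMap.exact_subtype_ker_map p) hp
  have hfg : (LinearMap.ker (p.baseChange PS)).FG :=
    Module.FinitePresentation.fg_ker (p.baseChange PS) (LinearMap.lTensor_surjective PS hp)
  rw [hex.linearMap_ker_eq] at hfg
  haveI := Module.Finite.iff_fg.2 hfg
  exact Module.Finite.equiv (LinearEquiv.ofInjective _ hinj).symm

theorem finitePresentation_of_pair' {B' B A' A : Type u} [CommRing B'] [CommRing B] [CommRing A'] [CommRing A]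
    [Algebra B' B] [Algebra B' A'] [Algebra B A] [Algebra A' A] [Algebra B' A] [IsScalarTower B' B A] [IsScalarTower B' A' A]
    (hsq : EtMil.IsFibreSquare B' B A' A)
    (P PB PA : Type u) [CommRing P] [CommRing PB] [CommRing PA] [Algebra B' P]
    [Algebra B' PB] [Algebra B PB] [Algebra P PB] [IsScalarTower B' B PB] [IsScalarTower B' P PB]
    [Algebra.IsPushout B' B P PB]
    [Algebra B' PA] [Algebra A' PA] [Algebra P PA] [IsScalarTower B' A' PA] [IsScalarTower B' P PA]
    [Algebra.IsPushout B' A' P PA]
    (L : Type u) [AddCommGroup L] [Module P L] [Module B' L] [IsScalarTower B' P L] [Module.Flat B' L]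
    [Module.Finite P L] [Module.FinitePresentation PB (PB ⊗[P] L)] [Module.FinitePresentation PA (PA ⊗[P] L)] :
    Module.FinitePresentation P L := by
  classical
  obtain ⟨n, p, hp⟩ := Module.Finite.exists_fin' P L
  obtain ⟨s₁, h₁⟩ := exists_finset_subsingleton (finite_baseChange_ker (R := B') (S := B) (PS := PB) p hp)
  obtain ⟨s₂, h₂⟩ := exists_finset_subsingleton (finite_baseChange_ker (R := B') (S := A') (PS := PA) p hp)
  let K0 : Submodule P ↥(LinearMap.ker p) := Submodule.span P ↑(s₁ ∪ s₂)
  haveI := h₁ K0 (fun x hx => Submodule.subset_span (by simp [Finset.mem_coe.1 hx]))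
  haveI := h₂ K0 (fun x hx => Submodule.subset_span (by simp [Finset.mem_coe.1 hx]))
  haveI : Subsingleton (B ⊗[B'] (↥(LinearMap.ker p) ⧸ K0)) :=
    (Algebra.IsPushout.cancelBaseChange B' B P PB (↥(LinearMap.ker p) ⧸ K0)).symm.subsingleton
  haveI : Subsingleton (A' ⊗[B'] (↥(LinearMap.ker p) ⧸ K0)) :=
    (Algebra.IsPushout.cancelBaseChange B' A' P PA (↥(LinearMap.ker p) ⧸ K0)).symm.subsingleton
  have := Groth.Agent.MilnorLib.subsingleton_of_pair hsq (L := ↥(LinearMap.ker p) ⧸ K0)
  refine Module.finitePresentation_of_surjective p hp (Module.Finite.iff_fg.1 ⟨?_⟩)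
  rw [← Submodule.Quotient.subsingleton_iff.1 this]
  exact ⟨s₁ ∪ s₂, rfl⟩

end General

/-- In the relative situation (`B' = B ×_A A'` with `A' → A` surjective, `B' → D'`, `D = D' ⊗_{B'} B`,
`C' = D' ⊗_{B'} A'`, `C = D' ⊗_{B'} A`), let `N` be a flat `B`-module that is finitely presented as
a `D`-module and `M'` a flat `A'`-module that is finitely presented as a `C'`-module, with a
`C`-isomorphism `φ : N ⊗_D C ≅ M' ⊗_{C'} C`, and suppose `B' → D'` is the composite of a flat ring
map `B' → D''` and a ring map `D'' → D'` of finite presentation. Then `N ×_φ M'` is finitely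
presented over `D'`. -/
theorem result (B' B A' A : Type u) [CommRing B'] [CommRing B] [CommRing A'] [CommRing A]
    [Algebra B' B] [Algebra B' A'] [Algebra B A] [Algebra A' A] [Algebra B' A] [IsScalarTower B' B A] [IsScalarTower B' A' A]
    (hsq : EtMil.IsFibreSquare B' B A' A)
    (D' D C' C : Type u) [CommRing D'] [CommRing D] [CommRing C'] [CommRing C]
    [Algebra B' D'] [Algebra B D] [Algebra A' C'] [Algebra A C]
    [Algebra D' D] [Algebra B' D] [IsScalarTower B' B D] [IsScalarTower B' D' D] [Algebra.IsPushout B' B D' D]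
    [Algebra D' C'] [Algebra B' C'] [IsScalarTower B' A' C'] [IsScalarTower B' D' C'] [Algebra.IsPushout B' A' D' C']
    [Algebra D' C] [Algebra B' C] [IsScalarTower B' A C] [IsScalarTower B' D' C] [Algebra.IsPushout B' A D' C]
    [Algebra D C] [IsScalarTower D' D C] [Algebra B C] [IsScalarTower B A C] [IsScalarTower B D C]
    [Algebra C' C] [IsScalarTower D' C' C] [Algebra A' C] [IsScalarTower A' A C] [IsScalarTower A' C' C]
    {N M' : Type u} [AddCommGroup N] [Module D N] [Module D' N] [IsScalarTower D' D N]
    [AddCommGroup M'] [Module C' M'] [Module D' M'] [IsScalarTower D' C' M'] (φ : C ⊗[D] N ≃ₗ[C] C ⊗[C'] M')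
    [Module B N] [IsScalarTower B D N] [Module A' M'] [IsScalarTower A' C' M']
    [Module.FinitePresentation D N] [Module.Flat B N] [Module.FinitePresentation C' M'] [Module.Flat A' M']
    (D'' : Type u) [CommRing D''] [Algebra B' D''] [Algebra D'' D'] [IsScalarTower B' D'' D'] [Module.Flat B' D'']
    [Algebra.FinitePresentation D'' D'] :
    Module.FinitePresentation D' ↥(EtMil.glue D' φ) := by
  haveI : Module.Finite D' ↥(EtMil.glue D' φ) :=
    Groth.Agent.S6921.result B' B A' A hsq D' D C' C φ
  haveI : IsScalarTower B' D C := IsScalarTower.of_algebraMap_eq fun r => by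
    rw [IsScalarTower.algebraMap_apply B' D' D, ← IsScalarTower.algebraMap_apply D' D C, ← IsScalarTower.algebraMap_apply]
  haveI : IsScalarTower B' C' C := IsScalarTower.of_algebraMap_eq fun r => by
    rw [IsScalarTower.algebraMap_apply B' D' C', ← IsScalarTower.algebraMap_apply D' C' C, ← IsScalarTower.algebraMap_apply]
  haveI : Algebra.IsPushout B A D C :=
    (Algebra.IsPushout.comp_iff (R := B') (S := B) (T := A) (R' := D') (S' := D) (T' := C)).1 inferInstance
  haveI : Algebra.IsPushout A' A C' C :=
    (Algebra.IsPushout.comp_iff (R := B') (S := A') (T := A) (R' := D') (S' := C') (T' := C)).1 inferInstance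
  letI : Module B' N := Module.compHom N (algebraMap B' B)
  haveI : IsScalarTower B' B N := IsScalarTower.of_algebraMap_smul fun r x => rfl
  letI : Module B' M' := Module.compHom M' (algebraMap B' A')
  haveI : IsScalarTower B' A' M' := IsScalarTower.of_algebraMap_smul fun r x => rfl
  haveI : IsScalarTower B' D' N := IsScalarTower.of_algebraMap_smul fun r x => by
    rw [← IsScalarTower.algebraMap_smul D (algebraMap B' D' r) x, ← IsScalarTower.algebraMap_apply,
      IsScalarTower.algebraMap_apply B' B D, IsScalarTower.algebraMap_smul]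
    rfl
  haveI : IsScalarTower B' D' M' := IsScalarTower.of_algebraMap_smul fun r x => by
    rw [← IsScalarTower.algebraMap_smul C' (algebraMap B' D' r) x, ← IsScalarTower.algebraMap_apply,
      IsScalarTower.algebraMap_apply B' A' C', IsScalarTower.algebraMap_smul]
    rfl
  let φ0 : A ⊗[B] N ≃ₗ[A] A ⊗[A'] M' := (Algebra.IsPushout.cancelBaseChange B A D C N).symm ≪≫ₗ
    φ.restrictScalars A ≪≫ₗ Algebra.IsPushout.cancelBaseChange A' A C' C M'
  have hmem : ∀ (x : N) (y : M'), φ0 ((1 : A) ⊗ₜ[B] x) = (1 : A) ⊗ₜ[A'] y ↔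
      φ ((1 : C) ⊗ₜ[D] x) = (1 : C) ⊗ₜ[C'] y := by
    intro x y
    show Algebra.IsPushout.cancelBaseChange A' A C' C M'
      (φ ((Algebra.IsPushout.cancelBaseChange B A D C N).symm ((1 : A) ⊗ₜ[B] x))) = _ ↔ _
    rw [Algebra.IsPushout.cancelBaseChange_symm_tmul, map_one,
      ← Algebra.IsPushout.cancelBaseChange_tmul A' A C' C M' y, EmbeddingLike.apply_eq_iff_eq]
  let e : ↥(EtMil.glue D' φ) ≃ₗ[B'] ↥(EtMil.glue B' φ0) :=
    { toFun := fun l => ⟨(l : N × M'), (hmem _ _).2 l.2⟩
      invFun := fun l => ⟨(l : N × M'), (hmem _ _).1 l.2⟩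
      left_inv := fun l => rfl
      right_inv := fun l => rfl
      map_add' := fun x y => rfl
      map_smul' := fun c x => rfl }
  haveI := Groth.Agent.MilnorLib.flat_glue hsq φ0
  haveI : Module.Flat B' ↥(EtMil.glue D' φ) := Module.Flat.of_linearEquiv e
  have hb : Function.Bijective ((EtMil.glueFst D' φ).liftBaseChange D) := by
    let c := Algebra.IsPushout.cancelBaseChange B' B D' D ↥(EtMil.glue D' φ)
    let E := LinearEquiv.baseChange B' B _ _ e ≪≫ₗ
      LinearEquiv.ofBijective _ (Groth.Agent.MilnorLib.bijective_fst hsq φ0)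
    have key : ∀ w, (EtMil.glueFst D' φ).liftBaseChange D (c.symm w) = E w := by
      intro w
      induction w using TensorProduct.induction_on with
      | zero => simp
      | tmul b l =>
        show _ = ((EtMil.glueFst B' φ0).liftBaseChange B) (b ⊗ₜ[B'] e l)
        rw [Algebra.IsPushout.cancelBaseChange_symm_tmul, LinearMap.liftBaseChange_tmul,
          LinearMap.liftBaseChange_tmul, IsScalarTower.algebraMap_smul]
        rfl
      | add x y hx hy => simp only [map_add, hx, hy]
    have : ((EtMil.glueFst D' φ).liftBaseChange D : D ⊗[D'] ↥(EtMil.glue D' φ) → N) = E ∘ c := by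
      funext z
      rw [Function.comp_apply, ← key, LinearEquiv.symm_apply_apply]
    rw [this]
    exact E.bijective.comp c.bijective
  have ha : Function.Bijective ((EtMil.glueSnd D' φ).liftBaseChange C') := by
    let c := Algebra.IsPushout.cancelBaseChange B' A' D' C' ↥(EtMil.glue D' φ)
    let E := LinearEquiv.baseChange B' A' _ _ e ≪≫ₗ
      LinearEquiv.ofBijective _ (Groth.Agent.MilnorLib.bijective_snd hsq φ0)
    have key : ∀ w, (EtMil.glueSnd D' φ).liftBaseChange C' (c.symm w) = E w := by
      intro w
      induction w using TensorProduct.induction_on with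
      | zero => simp
      | tmul b l =>
        show _ = ((EtMil.glueSnd B' φ0).liftBaseChange A') (b ⊗ₜ[B'] e l)
        rw [Algebra.IsPushout.cancelBaseChange_symm_tmul, LinearMap.liftBaseChange_tmul,
          LinearMap.liftBaseChange_tmul, IsScalarTower.algebraMap_smul]
        rfl
      | add x y hx hy => simp only [map_add, hx, hy]
    have : ((EtMil.glueSnd D' φ).liftBaseChange C' : C' ⊗[D'] ↥(EtMil.glue D' φ) → M') = E ∘ c := by
      funext z
      rw [Function.comp_apply, ← key, LinearEquiv.symm_apply_apply]
    rw [this]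
    exact E.bijective.comp c.bijective
  haveI := Module.FinitePresentation.of_equiv (LinearEquiv.ofBijective _ hb).symm
  haveI := Module.FinitePresentation.of_equiv (LinearEquiv.ofBijective _ ha).symm
  exact finitePresentation_of_pair' hsq D' D C' ↥(EtMil.glue D' φ)

end Groth.Agent.S6922
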