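import Groth.Statements.S6923
import Groth.Agent.Hensel.LimitProj

set_option autoImplicit false
universe u
open Hensel

namespace Groth.Agent.S6923

/-- Let `A = lim A_n` be the limit of an inverse system of rings `(A_n)_{n ≥ 0}` in which each map
`A_{n+1} → A_n` is onto and every element of its kernel is nilpotent. Let `M_n` be `A_n`-modules
with compatible maps `M_{n+1} → M_n` such that `M_0` is finite projective, every `M_n` is finite and
flat over `A_n`, and the maps induce isomorphisms `M_{n+1} ⊗_{A_{n+1}} A_n → M_n` (i.e. are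
surjective with kernel `Ker(A_{n+1} → A_n) M_{n+1}`). Then the inverse limit of the `M_n` is a
finitely generated projective `A`-module whose base change to each `A_n` maps onto `M_n`
isomorphically: there is a finite projective `A`-module `P` with compatible maps `P → M_n`, each
surjective with kernel `Ker(A → A_n) P`, through which `P` maps bijectively onto the compatible
sequences in `∏ M_n`. -/
theorem result (A : Type u) [CommRing A] (An : ℕ → Type u)
    [∀ n, CommRing (An n)] (t : ∀ n, An (n + 1) →+* An n) (π : ∀ n, A →+* An n)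
    (ht : ∀ n, Function.Surjective (t n)) (hnil : ∀ n (x : An (n + 1)), t n x = 0 → IsNilpotent x)
    (hA : FlatCA.IsRingLimit A An t π)
    (M : ℕ → Type u) [∀ n, AddCommGroup (M n)] [∀ n, Module (An n) (M n)] (u : ∀ n, M (n + 1) →ₛₗ[t n] M n)
    [Module.Projective (An 0) (M 0)] (hfin : ∀ n, Module.Finite (An n) (M n)) (hflat : ∀ n, Module.Flat (An n) (M n))
    (hu : ∀ n, Function.Surjective (u n) ∧ LinearMap.ker (u n) = RingHom.ker (t n) • (⊤ : Submodule (An (n + 1)) (M (n + 1)))) :
    ∃ (P : Type u) (_ : AddCommGroup P) (_ : Module A P) (p : ∀ n, P →ₛₗ[π n] M n),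
      Module.Finite A P ∧ Module.Projective A P ∧ (∀ n (x : P), u n (p (n + 1) x) = p n x) ∧
      (∀ n, Function.Surjective (p n) ∧ LinearMap.ker (p n) = RingHom.ker (π n) • (⊤ : Submodule A P)) ∧
      (∀ x : (∀ n, M n), (∀ n, u n (x (n + 1)) = x n) → ∃! q : P, ∀ n, p n q = x n) := by
  obtain ⟨hcomp, hsep, hex⟩ := hA
  haveI := fun n => hfin n
  haveI := fun n => hflat n
  have hnil' : ∀ n, ∀ x ∈ RingHom.ker (t n), IsNilpotent x := fun n x hx => hnil n x hx
  have hproj : ∀ n, Module.Projective (An n) (M n) := by
    intro n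
    induction n with
    | zero => infer_instance
    | succ n ih =>
      haveI := ih
      exact Groth.Agent.Hensel.LimitProj.projective_of_nil (t n) (ht n) (hnil n) (u n) (hu n).1 (hu n).2
  obtain ⟨k, g₀, hg₀⟩ := Module.Finite.exists_fin' (An 0) (M 0)
  let xs : ∀ n, Fin k → M n := fun n => Nat.rec (fun i => g₀ (Pi.single i 1))
    (fun m x i => ((hu m).1 (x i)).choose) n
  have hxs : ∀ n i, u n (xs (n + 1) i) = xs n i := fun n i => ((hu n).1 (xs n i)).choose_spec
  let f : ∀ n, (Fin k → An n) →ₗ[An n] M n := fun n => Fintype.linearCombination (An n) (xs n)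
  have hfu : ∀ n c, u n (f (n + 1) c) = f n (fun i => t n (c i)) := fun n c => by
    simp only [f, Fintype.linearCombination_apply, map_sum]
    exact Finset.sum_congr rfl fun i _ => by rw [LinearMap.map_smulₛₗ, hxs]
  have hf : ∀ n, Function.Surjective (f n) := by
    intro n
    induction n with
    | zero =>
      intro m
      obtain ⟨c, rfl⟩ := hg₀ m
      refine ⟨c, ?_⟩
      simp only [f, xs, Fintype.linearCombination_apply]
      conv_rhs => rw [pi_eq_sum_univ' c, map_sum]
      simp
    | succ n ih =>
      rw [← LinearMap.range_eq_top]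
      refine Groth.Agent.Hensel.LimitProj.eq_top_of_map (t n) (hnil n) (u n) (hu n).2 _ fun m => ?_
      obtain ⟨c, hc⟩ := ih (u n m)
      refine ⟨_, ⟨fun i => (ht n (c i)).choose, rfl⟩, ?_⟩
      rw [hfu, ← hc]
      exact congrArg (f n) (funext fun i => (ht n (c i)).choose_spec)
  have hstep : ∀ n (s : M n →ₗ[An n] (Fin k → An n)), (∀ m, f n (s m) = m) →
      ∃ s' : M (n + 1) →ₗ[An (n + 1)] (Fin k → An (n + 1)), (∀ m, f (n + 1) (s' m) = m) ∧
        ∀ m i, t n (s' m i) = s (u n m) i := by
    intro n s hs
    haveI := hproj (n + 1)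
    letI : Module (An (n + 1)) (Fin k → An n) := Module.compHom _ (t n)
    let q : (Fin k → An (n + 1)) →ₗ[An (n + 1)] (Fin k → An n) :=
      { toFun := fun c i => t n (c i)
        map_add' := fun c d => funext fun i => map_add _ _ _
        map_smul' := fun r c => funext fun i => map_mul _ _ _ }
    let h : M (n + 1) →ₗ[An (n + 1)] (Fin k → An n) :=
      { toFun := fun m => s (u n m)
        map_add' := fun a b => by simp only [map_add]
        map_smul' := fun r m => by
          rw [LinearMap.map_smulₛₗ, map_smul]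
          rfl }
    obtain ⟨s₁, hs₁⟩ := Module.projective_lifting_property q h
      (fun c => ⟨fun i => (ht n (c i)).choose, funext fun i => (ht n (c i)).choose_spec⟩)
    have hs₁' : ∀ m, (fun i => t n (s₁ m i)) = s (u n m) := fun m => LinearMap.congr_fun hs₁ m
    let φ : M (n + 1) →ₗ[An (n + 1)] M (n + 1) := (f (n + 1)).comp s₁
    have hφu : ∀ m, u n (φ m) = u n m := fun m => by
      change u n (f (n + 1) (s₁ m)) = _
      rw [hfu, hs₁', hs]
    have hφ : Function.Bijective φ := OrzechProperty.bijective_of_surjective_endomorphism φ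
      (LinearMap.range_eq_top.1 (Groth.Agent.Hensel.LimitProj.eq_top_of_map (t n) (hnil n) (u n) (hu n).2 _
        fun m => ⟨φ m, ⟨m, rfl⟩, hφu m⟩))
    let e := LinearEquiv.ofBijective φ hφ
    refine ⟨s₁.comp e.symm.toLinearMap, fun m => e.apply_symm_apply m, fun m i => ?_⟩
    refine (congrFun (hs₁' (e.symm m)) i).trans ?_
    rw [← hφu (e.symm m)]
    rw [show φ (e.symm m) = m from e.apply_symm_apply m]
  haveI := hproj 0
  obtain ⟨s₀, hs₀⟩ := Module.projective_lifting_property (f 0) LinearMap.id (hf 0)
  let sd : ∀ n, {s : M n →ₗ[An n] (Fin k → An n) // ∀ m, f n (s m) = m} := fun n =>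
    Nat.rec ⟨s₀, fun m => LinearMap.congr_fun hs₀ m⟩
      (fun j p => ⟨(hstep j p.1 p.2).choose, (hstep j p.1 p.2).choose_spec.1⟩) n
  have hsd : ∀ n m i, t n ((sd (n + 1)).1 m i) = (sd n).1 (u n m) i := fun n =>
    (hstep n (sd n).1 (sd n).2).choose_spec.2
  letI : ∀ n, Module A (M n) := fun n => Module.compHom (M n) (π n)
  have hπ : ∀ n a, t n (π (n + 1) a) = π n a := fun n a => RingHom.congr_fun (hcomp n) a
  let P : Submodule A (∀ n, M n) :=
    { carrier := {x | ∀ n, u n (x (n + 1)) = x n}
      add_mem' := fun {a b} ha hb n => by simp only [Pi.add_apply, map_add, ha n, hb n]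
      zero_mem' := fun n => by simp
      smul_mem' := fun a x hx n => by
        change u n (π (n + 1) a • x (n + 1)) = π n a • x n
        rw [LinearMap.map_smulₛₗ, hπ, hx n] }
  let F : (Fin k → A) →ₗ[A] P :=
    { toFun := fun c => ⟨fun n => f n (fun i => π n (c i)), fun n => by
        rw [hfu]; exact congrArg (f n) (funext fun i => hπ n (c i))⟩
      map_add' := fun c d => Subtype.ext (funext fun n => by
        change f n (fun i => π n ((c + d) i)) = f n (fun i => π n (c i)) + f n (fun i => π n (d i))
        rw [← map_add]; exact congrArg (f n) (funext fun i => map_add _ _ _))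
      map_smul' := fun a c => Subtype.ext (funext fun n => by
        change f n (fun i => π n ((a • c) i)) = π n a • f n (fun i => π n (c i))
        rw [← map_smul]; exact congrArg (f n) (funext fun i => map_mul _ _ _)) }
  have hS : ∀ (x : P) (i : Fin k), ∃ a : A, ∀ n, π n a = (sd n).1 (x.1 n) i := fun x i =>
    hex _ fun n => by rw [hsd, x.2 n]
  choose Sf hSf using hS
  let S : P →ₗ[A] (Fin k → A) :=
    { toFun := Sf
      map_add' := fun x y => funext fun i => hsep _ _ fun n => by
        simp only [Pi.add_apply, map_add, hSf, Submodule.coe_add]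
      map_smul' := fun a x => funext fun i => hsep _ _ fun n => by
        simp only [RingHom.id_apply, Pi.smul_apply, smul_eq_mul, map_mul, hSf, Submodule.coe_smul]
        change (sd n).1 (π n a • x.1 n) i = _
        rw [map_smul]; rfl }
  have hFS : ∀ x, F (S x) = x := fun x => Subtype.ext (funext fun n => by
    change f n (fun i => π n (Sf x i)) = x.1 n
    rw [show (fun i => π n (Sf x i)) = (sd n).1 (x.1 n) from funext fun i => hSf x i n]
    exact (sd n).2 _)
  haveI : Module.Finite A P := Module.Finite.of_surjective F fun x => ⟨S x, hFS x⟩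
  haveI : Module.Projective A P := Module.Projective.of_split S F (LinearMap.ext hFS)
  refine ⟨P, inferInstance, inferInstance,
    fun n => { toFun := fun x => x.1 n, map_add' := fun _ _ => rfl, map_smul' := fun _ _ => rfl },
    inferInstance, inferInstance, fun n x => x.2 n, fun n => ⟨?_, ?_⟩,
    fun x hx => ⟨⟨x, hx⟩, fun n => rfl, fun q hq => Subtype.ext (funext hq)⟩⟩
  · intro m
    have hπsurj : ∀ b, ∃ a, π n a = b := by
      intro b
      obtain ⟨y, hy, rfl⟩ := Groth.Agent.Hensel.LimitProj.exists_compatible n An (fun l => t l) ht b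
      obtain ⟨a, ha⟩ := hex y hy
      exact ⟨a, ha n⟩
    obtain ⟨c, hc⟩ := hf n m
    refine ⟨F fun i => (hπsurj (c i)).choose, ?_⟩
    change f n (fun i => π n (hπsurj (c i)).choose) = m
    rw [← hc]
    exact congrArg (f n) (funext fun i => (hπsurj (c i)).choose_spec)
  · refine le_antisymm (fun x hx => ?_) (Submodule.smul_le.2 fun a ha x _ => ?_)
    · rw [← hFS x, pi_eq_sum_univ' (S x), map_sum]
      refine Submodule.sum_mem _ fun i _ => ?_
      rw [map_smul]
      refine Submodule.smul_mem_smul ?_ trivial
      rw [RingHom.mem_ker]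
      change π n (Sf x i) = 0
      rw [hSf, show x.1 n = 0 from hx, map_zero]; rfl
    · change π n a • x.1 n = 0
      rw [show π n a = 0 from ha, zero_smul]

end Groth.Agent.S6923
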