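import Groth.Statements.S6924
import Groth.Agent.FittLib.Rank
import Groth.Agent.S6895
-- import your own Groth.Agent.* helpers here

set_option autoImplicit false
universe u
open TensorProduct
open Fitt

namespace Groth.Agent.S6924

/-- Let `M` be a finite `R`-module and `f ∈ R` such that every prime of `D(f)` has a basic open
neighbourhood `D(g) ⊆ D(f)` with `M_g` free of rank `r` (in other words `M_f` is, locally on `D(f)`,
free of rank `r`). Then there is a finitely generated ideal `I ⊆ R` with `V(I) = V(f)` such that for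
every `a ∈ I` and (a copy `R₁` of) the affine blow-up algebra `R[I/a]`, the strict transform `(M ⊗_R
R₁)/(a-power torsion)` is finite locally free of rank `r` over `R₁`. -/
theorem result {R : Type u} [CommRing R] (M : Type u) [AddCommGroup M]
    [Module R M] [Module.Finite R M] (f : R) (r : ℕ)
    (hf : ∀ (p : Ideal R) [p.IsPrime], f ∉ p → ∃ g : R, g ∉ p ∧ g ∈ (Ideal.span {f}).radical ∧
      Module.Free (Localization.Away g) (LocalizedModule (Submonoid.powers g) M) ∧
        Module.finrank (Localization.Away g) (LocalizedModule (Submonoid.powers g) M) = r) :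
    ∃ I : Ideal R, I.FG ∧ I.radical = (Ideal.span {f}).radical ∧ ∀ a ∈ I, ∀ (R₁ : Type u) [CommRing R₁] [Algebra R R₁] (e : R₁ ≃ₐ[R] ↥(BlowUp.affineAlgebra R I a)),
      ∀ (p' : Ideal R₁) [p'.IsPrime], ∃ g : R₁, g ∉ p' ∧
        Module.Free (Localization.Away g) (LocalizedModule (Submonoid.powers g) ((R₁ ⊗[R] M) ⧸ FlatCA.powTorsion R₁ (algebraMap R R₁ a) (R₁ ⊗[R] M))) ∧
        Module.finrank (Localization.Away g) (LocalizedModule (Submonoid.powers g) ((R₁ ⊗[R] M) ⧸ FlatCA.powTorsion R₁ (algebraMap R R₁ a) (R₁ ⊗[R] M))) = r := by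
  classical
  have hnt : ∀ (q : Ideal R) [q.IsPrime] (g : R), g ∉ q → Nontrivial (Localization.Away g) := fun q _ g hg =>
    not_subsingleton_iff_nontrivial.1 fun hs => by
      obtain ⟨j, hj⟩ := (IsLocalization.subsingleton_iff (S := Localization.Away g) (M := Submonoid.powers g)).1 hs
      exact hg (Ideal.IsPrime.mem_of_pow_mem ‹_› j (show g ^ j ∈ q by rw [show g ^ j = 0 from hj]; exact zero_mem _))
  have hrad : f ∈ (Fitt.ideal R M r).radical := by
    rw [Ideal.radical_eq_sInf, Submodule.mem_sInf]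
    rintro p ⟨hle, hp⟩
    by_contra hfp
    haveI := hp
    obtain ⟨g, hg, -, hfree, hrank⟩ := hf p hfp
    haveI := hfree
    haveI := hnt p g hg
    haveI : Module.Finite (Localization.Away g) (LocalizedModule (Submonoid.powers g) M) :=
      Module.Finite.of_isLocalizedModule (Submonoid.powers g) (LocalizedModule.mkLinearMap (Submonoid.powers g) M)
    let b := Module.finBasisOfFinrankEq (Localization.Away g) (LocalizedModule (Submonoid.powers g) M) hrank
    obtain ⟨_, ⟨j, rfl⟩, hsI⟩ := FittLib.exists_mem_of_localized_generators (Submonoid.powers g) b b.span_eq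
    exact hg (hp.mem_of_pow_mem j (hle hsI))
  obtain ⟨N, hN⟩ := hrad
  obtain ⟨n, K, π, hK, hπ, hfK⟩ := FittLib.exists_finitePresentation_cover hN
  haveI : Module.FinitePresentation R ((Fin n → R) ⧸ K) :=
    Module.finitePresentation_of_surjective K.mkQ K.mkQ_surjective (by rwa [Submodule.ker_mkQ])
  let J := Fitt.ideal R ((Fin n → R) ⧸ K) r
  refine ⟨Ideal.span {f} * J, (Submodule.fg_span_singleton f).mul (FittLib.fg_of_finitePresentation r), ?_, ?_⟩
  · rw [Ideal.radical_mul]
    refine inf_eq_left.2 (Ideal.radical_le_radical_iff.2 ((Ideal.span_singleton_le_iff_mem _).2 ⟨N, hfK⟩))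
  intro a ha R₁ _ _ e
  let M₀ := R₁ ⊗[R] ((Fin n → R) ⧸ K)
  let M₁ := R₁ ⊗[R] M
  let a₁ := algebraMap R R₁ a
  let f₁ := algebraMap R R₁ f
  let T := FlatCA.powTorsion R₁ a₁ M₁
  have hI : (Ideal.span {f} * J).map (algebraMap R R₁) = Ideal.span {a₁} := by
    refine le_antisymm (Ideal.map_le_iff_le_comap.2 fun x hx => ?_) ((Ideal.span_singleton_le_iff_mem _).2 (Ideal.mem_map_of_mem _ ha))
    refine Ideal.mem_span_singleton'.2 ⟨e.symm ⟨_, Algebra.subset_adjoin ⟨x, hx, rfl⟩⟩, e.injective (Subtype.ext ?_)⟩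
    rw [map_mul, e.apply_symm_apply, e.commutes, e.commutes]
    exact IsLocalization.mk'_spec (Localization.Away a) x ⟨a, Submonoid.mem_powers a⟩
  have hnzd : ∀ x : R₁, a₁ * x = 0 → x = 0 := fun x hx => e.injective (Subtype.ext (by
    have h0 := congrArg Subtype.val (congrArg e hx)
    rw [map_mul, e.commutes, map_zero] at h0
    rw [map_zero]
    exact (IsLocalization.Away.algebraMap_isUnit (S := Localization.Away a) a).mul_right_eq_zero.1 h0))
  rw [Ideal.map_mul, Ideal.map_span, Set.image_singleton] at hI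
  obtain ⟨y, hyJ, hy⟩ := Ideal.mem_span_singleton_mul.1 (hI.ge (Ideal.mem_span_singleton_self a₁))
  have hJ : Fitt.ideal R₁ M₀ r = Ideal.span {y} := by
    rw [FittLib.baseChange]
    refine le_antisymm (fun z hz => ?_) ((Ideal.span_singleton_le_iff_mem _).2 hyJ)
    obtain ⟨c, hc⟩ := Ideal.mem_span_singleton'.1 (hI.le (Ideal.mul_mem_mul (Ideal.mem_span_singleton_self f₁) hz))
    refine Ideal.mem_span_singleton'.2 ⟨c, sub_eq_zero.1 (hnzd _ ?_)⟩
    have h1 : f₁ * (c * y - z) = 0 := by rw [mul_sub, ← hc, ← hy]; ring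
    rw [← hy, mul_comm f₁ y, mul_assoc, h1, mul_zero]
  have hT : ∀ m ∈ T, ∃ n : ℕ, a₁ ^ n • m = 0 := fun m hm => by
    obtain ⟨n, hn⟩ := (Submodule.mem_iSup_of_directed _ (Monotone.directed_le fun i j hij =>
      Submodule.torsionBy_le_torsionBy_of_dvd _ _ (pow_dvd_pow a₁ hij))).1 hm
    exact ⟨n, (Submodule.mem_torsionBy_iff _ _).1 hn⟩
  let ρ : M₀ →ₗ[R₁] M₁ := LinearMap.baseChange R₁ π
  have hρ : Function.Surjective ρ := LinearMap.lTensor_surjective R₁ hπ
  let T₀ : Submodule R₁ M₀ := Submodule.torsionBy R₁ M₀ y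
  have htop : Fitt.ideal R₁ (M₁ ⧸ T) r = ⊤ := by
    rw [← top_le_iff, ← FittLib.quotient_eq_top hJ T₀ fun m hm => (Submodule.mem_torsionBy_iff _ _).2 hm]
    refine FittLib.ideal_le_of_surjective (T₀.liftQ (T.mkQ ∘ₗ ρ) fun m hm => ?_) (fun z => ?_) r
    · rw [LinearMap.mem_ker, LinearMap.comp_apply, Submodule.mkQ_apply, Submodule.Quotient.mk_eq_zero]
      refine Submodule.mem_iSup_of_mem 1 ((Submodule.mem_torsionBy_iff _ _).2 ?_)
      rw [pow_one, ← map_smul, ← hy, mul_smul, (Submodule.mem_torsionBy_iff _ _).1 hm, smul_zero, map_zero]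
    · obtain ⟨w, rfl⟩ := T.mkQ_surjective z
      obtain ⟨v, rfl⟩ := hρ w
      exact ⟨T₀.mkQ v, rfl⟩
  refine (S6895.result (M₁ ⧸ T) r).2 ⟨fun j hj => FittLib.quotient_eq_bot hnzd (fun q _ haq x hx => ?_) T hT,
    fun j hj => top_le_iff.1 (htop.ge.trans (FittLib.mono_index hj))⟩
  let p := q.comap (algebraMap R R₁)
  have hfp : f ∉ p := fun h => haq (Ideal.mul_le_left.trans ((Ideal.span_singleton_le_iff_mem p).2 h) ha)
  obtain ⟨g, hg, -, hfree, hrank⟩ := hf p hfp
  haveI := hfree
  haveI := hnt p g hg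
  have hle : Fitt.ideal R₁ M₁ j ≤ RingHom.ker (algebraMap R₁ (Localization.AtPrime q)) := by
    rw [FittLib.baseChange]
    refine Ideal.map_le_iff_le_comap.2 fun z hz => ?_
    have h := Ideal.mem_map_of_mem (algebraMap R (Localization.Away g)) hz
    rw [FittLib.map_eq_bot_of_free (Submonoid.powers g) hrank hj, Ideal.mem_bot] at h
    obtain ⟨⟨_, i, rfl⟩, hs⟩ := (IsLocalization.map_eq_zero_iff (Submonoid.powers g) _ _).1 h
    exact (IsLocalization.map_eq_zero_iff q.primeCompl _ _).2 ⟨⟨algebraMap R R₁ (g ^ i),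
        fun h => hg (Ideal.IsPrime.mem_of_pow_mem (Ideal.comap_isPrime _ q) i h)⟩, by
      show algebraMap R R₁ (g ^ i) * algebraMap R R₁ z = 0
      rw [← map_mul, show g ^ i * z = 0 from hs, map_zero]⟩
  obtain ⟨s, hs⟩ := (IsLocalization.map_eq_zero_iff q.primeCompl _ _).1 (hle hx)
  exact ⟨s.1, s.2, hs⟩

end Groth.Agent.S6924
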