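import Groth.Statements.S6929
import Mathlib

set_option autoImplicit false
universe u
open EtAlg

namespace Groth.Agent.S6929

/-- Let `R` be a Noetherian ring, `ι` a finite index type, and `φ_i : A_i → B_i`, `ψ_i : Q → B_i`
surjective `R`-algebra maps, where `Q` and all `A_i`, `B_i` are `R`-algebras of finite type. Then
the fibre product ring `P = Q ×_{∏ B_i} ∏ A_i` (pairs `(q, a)` with `ψ_i(q) = φ_i(a_i)` for all `i`)
is an `R`-algebra of finite type. -/
theorem result (R : Type u) [CommRing R] [IsNoetherianRing R] {ι : Type u} [Fintype ι]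
    (Q : Type u) [CommRing Q] [Algebra R Q] [Algebra.FiniteType R Q] (A B : ι → Type u) [∀ i, CommRing (A i)]
    [∀ i, CommRing (B i)] [∀ i, Algebra R (A i)] [∀ i, Algebra R (B i)] (hA : ∀ i, Algebra.FiniteType R (A i))
    (hB : ∀ i, Algebra.FiniteType R (B i)) (φ : ∀ i, A i →ₐ[R] B i) (ψ : ∀ i, Q →ₐ[R] B i)
    (hφ : ∀ i, Function.Surjective (φ i)) (hψ : ∀ i, Function.Surjective (ψ i)) :
    Algebra.FiniteType R ↥(AlgHom.equalizer ((AlgHom.pi ψ).comp (AlgHom.fst R Q (∀ i, A i)))
      ((AlgHom.pi fun i => (φ i).comp (Pi.evalAlgHom R A i)).comp (AlgHom.snd R Q (∀ i, A i)))) := by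
  classical
  set f := (AlgHom.pi ψ).comp (AlgHom.fst R Q (∀ i, A i))
  set g := (AlgHom.pi fun i => (φ i).comp (Pi.evalAlgHom R A i)).comp (AlgHom.snd R Q (∀ i, A i))
  let P := AlgHom.equalizer f g
  letI : Algebra P Q := ((AlgHom.fst R Q (∀ i, A i)).comp P.val).toRingHom.toAlgebra
  haveI : IsScalarTower R P Q := IsScalarTower.of_algebraMap_eq fun r => rfl
  letI (i : ι) : Algebra P (A i) :=
    ((Pi.evalAlgHom R A i).comp ((AlgHom.snd R Q (∀ i, A i)).comp P.val)).toRingHom.toAlgebra
  haveI : Module.Finite P Q := Module.Finite.of_surjective (Algebra.linearMap P Q) fun q => by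
    choose a ha using fun i => hφ i (ψ i q)
    exact ⟨⟨(q, a), funext fun i => (ha i).symm⟩, rfl⟩
  haveI (i : ι) : Module.Finite P (A i) := Module.Finite.of_surjective (Algebra.linearMap P (A i)) fun x => by
    obtain ⟨q, hq⟩ := hψ i (φ i x)
    choose a ha using fun j => hφ j (ψ j q)
    refine ⟨⟨(q, Function.update a i x), funext fun j => ?_⟩, Function.update_self i x a⟩
    show ψ j q = φ j (Function.update a i x j)
    by_cases hj : j = i
    · subst hj; rw [Function.update_self]; exact hq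
    · rw [Function.update_of_ne hj, ha]
  haveI : Module.Finite P (∀ i, A i) := Module.Finite.pi
  haveI : IsScalarTower R P (Q × (∀ i, A i)) := IsScalarTower.of_algebraMap_eq fun r => rfl
  have hfin : Module.Finite P (Q × (∀ i, A i)) := Module.Finite.prod
  haveI : Algebra.FiniteType R (∀ i, A i) := by
    choose s hs using fun i => (hA i).out
    refine ⟨Subalgebra.fg_def.mpr ⟨⋃ i, (Pi.single i '' (↑(s i) ∪ {1})), Set.finite_iUnion fun i =>
      (((s i).finite_toSet).union (Set.finite_singleton 1)).image _, ?_⟩⟩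
    rw [eq_top_iff]
    rintro x -
    rw [← Finset.univ_sum_single x]
    refine Subalgebra.sum_mem _ fun i _ => ?_
    have h1 : (Pi.single i 1 : ∀ i, A i) ∈ Algebra.adjoin R (⋃ i, (Pi.single i '' (↑(s i) ∪ {1})) : Set (∀ i, A i)) :=
      Algebra.subset_adjoin (Set.mem_iUnion.mpr ⟨i, 1, Or.inr rfl, rfl⟩)
    have hx : x i ∈ Algebra.adjoin R (↑(s i) : Set (A i)) := by rw [hs i]; trivial
    revert hx; generalize x i = y; intro hx
    induction hx using Algebra.adjoin_induction with
    | mem a ha => exact Algebra.subset_adjoin (Set.mem_iUnion.mpr ⟨i, a, Or.inl ha, rfl⟩)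
    | algebraMap r =>
      rw [Algebra.algebraMap_eq_smul_one, Pi.single_smul]
      exact Subalgebra.smul_mem _ h1 r
    | add a b _ _ ha hb => rw [Pi.single_add]; exact add_mem ha hb
    | mul a b _ _ ha hb => rw [Pi.single_mul]; exact mul_mem ha hb
  refine ⟨fg_of_fg_of_fg R P (Q × (∀ i, A i)) ?_ hfin.fg_top fun x y h => Subtype.ext h⟩
  exact (inferInstance : Algebra.FiniteType R (Q × (∀ i, A i))).out

end Groth.Agent.S6929
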