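import Groth.Statements.S6933
import Groth.Agent.InjHullBasic.Noetherian
-- import your own Groth.Agent.* helpers here

set_option autoImplicit false
universe u
open CategoryTheory
open InjHull

namespace Groth.Agent.S6933

/-- An abelian group `J` that is injective as an object of the category of abelian groups is divisible:
`n J = J` for every nonzero integer `n`. (The published statement is an equivalence; this row states
the implication from injective to divisible.) -/
theorem result (J : Type u) [AddCommGroup J] (hJ : Injective (AddCommGrpCat.of J))
    (n : ℤ) (hn : n ≠ 0) (x : J) : ∃ y : J, n • y = x := by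
  have : Injective (ModuleCat.of ℤ J) := (AddCommGrpCat.injective_as_module_iff J).mpr hJ
  have hB := Module.Baer.of_injective (Module.injective_module_of_injective_object ℤ J)
  obtain ⟨g', hg'⟩ := hB (ℤ ∙ n) ((LinearMap.toSpanSingleton ℤ J x) ∘ₗ
    (LinearEquiv.toSpanNonzeroSingleton ℤ ℤ n hn).symm.toLinearMap)
  refine ⟨g' 1, ?_⟩
  rw [← map_zsmul, smul_eq_mul, mul_one, hg' n (Submodule.mem_span_singleton_self n)]
  have : (LinearEquiv.toSpanNonzeroSingleton ℤ ℤ n hn).symm ⟨n, Submodule.mem_span_singleton_self n⟩ = 1 :=
    (LinearEquiv.symm_apply_eq _).mpr (Subtype.ext (by simp))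
  simp [this]

end Groth.Agent.S6933
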