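import Groth.Statements.S6934
import Mathlib

set_option autoImplicit false
universe u
open EtAlg

namespace Groth.Agent.S6934

/-- Let `s : B → R`, `t : R' → R` be ring maps and `B' = B ×_R R'` the fibre product ring, i.e. a ring
`B'` with maps `p : B' → B`, `q : B' → R'`, `s ∘ p = t ∘ q`, such that `(p, q)` is injective with
image the pairs `(b, r')` with `s(b) = t(r')`. Let `h ∈ B'` with images `g = p(h)`, `f = q(h)`. Then
the square of localizations `B'_h → B_g`, `B'_h → R'_f`, `B_g → R_{s(g)}`, `R'_f → R_{t(f)} =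
R_{s(g)}` (the induced maps) is cartesian as well: `B'_h = B_g ×_{R_{s(g)}} R'_f`. -/
theorem result {B R R' B' : Type u} [CommRing B] [CommRing R] [CommRing R'] [CommRing B']
    (s : B →+* R) (t : R' →+* R) (p : B' →+* B) (q : B' →+* R') (hc : s.comp p = t.comp q)
    (hinj : ∀ x y : B', p x = p y → q x = q y → x = y) (hsurj : ∀ (b : B) (r' : R'), s b = t r' → ∃ x : B', p x = b ∧ q x = r')
    (h : B') (Bh Bg Rf Rsg : Type u) [CommRing Bh] [CommRing Bg] [CommRing Rf] [CommRing Rsg]
    [Algebra B' Bh] [IsLocalization.Away h Bh] [Algebra B Bg] [IsLocalization.Away (p h) Bg]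
    [Algebra R' Rf] [IsLocalization.Away (q h) Rf] [Algebra R Rsg] [IsLocalization.Away (s (p h)) Rsg]
    (pL : Bh →+* Bg) (qL : Bh →+* Rf) (sL : Bg →+* Rsg) (tL : Rf →+* Rsg)
    (hp : pL.comp (algebraMap B' Bh) = (algebraMap B Bg).comp p) (hq : qL.comp (algebraMap B' Bh) = (algebraMap R' Rf).comp q)
    (hs : sL.comp (algebraMap B Bg) = (algebraMap R Rsg).comp s) (ht : tL.comp (algebraMap R' Rf) = (algebraMap R Rsg).comp t) :
    (∀ x y : Bh, pL x = pL y → qL x = qL y → x = y) ∧
    (∀ (b : Bg) (r : Rf), sL b = tL r → ∃ x : Bh, pL x = b ∧ qL x = r) := by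
  have hg : IsUnit (algebraMap B Bg (p h)) := IsLocalization.Away.algebraMap_isUnit _
  have hf : IsUnit (algebraMap R' Rf (q h)) := IsLocalization.Away.algebraMap_isUnit _
  have hh : IsUnit (algebraMap B' Bh h) := IsLocalization.Away.algebraMap_isUnit _
  have pLh : ∀ a, pL (algebraMap B' Bh a) = algebraMap B Bg (p a) := fun a => RingHom.congr_fun hp a
  have qLh : ∀ a, qL (algebraMap B' Bh a) = algebraMap R' Rf (q a) := fun a => RingHom.congr_fun hq a
  have sLh : ∀ a, sL (algebraMap B Bg a) = algebraMap R Rsg (s a) := fun a => RingHom.congr_fun hs a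
  have tLh : ∀ a, tL (algebraMap R' Rf a) = algebraMap R Rsg (t a) := fun a => RingHom.congr_fun ht a
  have hst : ∀ a, s (p a) = t (q a) := fun a => RingHom.congr_fun hc a
  refine ⟨fun x y h1 h2 => ?_, fun b r hbr => ?_⟩
  · obtain ⟨n, a, ha⟩ := IsLocalization.Away.surj h x
    obtain ⟨m, c, hc'⟩ := IsLocalization.Away.surj h y
    have pa := congrArg pL ha
    have pc := congrArg pL hc'
    have qa := congrArg qL ha
    have qc := congrArg qL hc'
    simp only [map_mul, map_pow, pLh] at pa pc
    simp only [map_mul, map_pow, qLh] at qa qc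
    have e1 : algebraMap B Bg (p (a * h ^ m)) = algebraMap B Bg (p (c * h ^ n)) := by
      simp only [map_mul, map_pow]
      rw [← pa, ← pc, h1]
      ring
    have e2 : algebraMap R' Rf (q (a * h ^ m)) = algebraMap R' Rf (q (c * h ^ n)) := by
      simp only [map_mul, map_pow]
      rw [← qa, ← qc, h2]
      ring
    obtain ⟨k, hk⟩ := IsLocalization.Away.exists_of_eq (p h) e1
    obtain ⟨l, hl⟩ := IsLocalization.Away.exists_of_eq (q h) e2
    have e3 : h ^ (k + l) * (a * h ^ m) = h ^ (k + l) * (c * h ^ n) := by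
      apply hinj
      · simp only [map_mul, map_pow, pow_add] at hk hl ⊢
        linear_combination (p h ^ l) * hk
      · simp only [map_mul, map_pow, pow_add] at hk hl ⊢
        linear_combination (q h ^ k) * hl
    have e4 := congrArg (algebraMap B' Bh) e3
    simp only [map_mul, map_pow, ← ha, ← hc'] at e4
    have e5 : IsUnit (algebraMap B' Bh h ^ (k + l) * (algebraMap B' Bh h ^ n * algebraMap B' Bh h ^ m)) :=
      (hh.pow _).mul ((hh.pow _).mul (hh.pow _))
    apply e5.mul_right_cancel
    linear_combination e4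
  · obtain ⟨n, β, hβ⟩ := IsLocalization.Away.surj (p h) b
    obtain ⟨m, ρ, hρ⟩ := IsLocalization.Away.surj (q h) r
    have sb := congrArg sL hβ
    have tr := congrArg tL hρ
    simp only [map_mul, map_pow, sLh] at sb
    simp only [map_mul, map_pow, tLh] at tr
    have e1 : algebraMap R Rsg (s (β * p h ^ m)) = algebraMap R Rsg (t (ρ * q h ^ n)) := by
      simp only [map_mul, map_pow]
      rw [← sb, ← tr, hbr, hst]
      ring
    obtain ⟨k, hk⟩ := IsLocalization.Away.exists_of_eq (s (p h)) e1
    obtain ⟨x, hx1, hx2⟩ := hsurj (p h ^ k * (β * p h ^ m)) (q h ^ k * (ρ * q h ^ n)) (by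
      rw [map_mul, map_pow, hk, hst]; simp only [map_mul, map_pow])
    obtain ⟨u, hu⟩ := (hh.pow (k + n + m)).exists_left_inv
    have hup := congrArg pL hu
    have huq := congrArg qL hu
    simp only [map_mul, map_pow, map_one, pLh] at hup
    simp only [map_mul, map_pow, map_one, qLh] at huq
    refine ⟨algebraMap B' Bh x * u, ?_, ?_⟩
    · rw [map_mul, pLh, hx1]
      simp only [map_mul, map_pow]
      rw [← hβ]
      linear_combination b * hup
    · rw [map_mul, qLh, hx2]
      simp only [map_mul, map_pow]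
      rw [← hρ]
      linear_combination r * huq

end Groth.Agent.S6934
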