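import Groth.Statements.S6943
import Groth.Agent.DRingAmp.Coherent

set_option autoImplicit false
universe u
open CategoryTheory CategoryTheory.Limits
attribute [local instance] HasDerivedCategory.standard
open DRing

namespace Groth.Agent.S6943

/-- Let R be a coherent commutative ring, i.e. every finitely generated ideal of R is finitely presented
as an R-module. Let K be an object of D(R) whose cohomology vanishes in large degrees and m an
integer. Then K is m-pseudo-coherent if and only if H^m(K) is finitely generated and H^i(K) is
finitely presented for every i > m. Consequently K is pseudo-coherent if and only if every H^i(K) is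
finitely presented. -/
theorem result (R : Type u) [CommRing R]
    (hR : ∀ I : Ideal R, I.FG → Module.FinitePresentation R I) (K : Dual.D R)
    (hb : ∃ b : ℤ, ∀ i : ℤ, b < i → Subsingleton (Dual.HD R K i)) (m : ℤ) :
    (DRing.IsPseudoCoherent R m K ↔
      Module.Finite R (Dual.HD R K m) ∧ ∀ i : ℤ, m < i → Module.FinitePresentation R (Dual.HD R K i)) ∧
      (DRing.IsPseudoCoherent' R K ↔ ∀ i : ℤ, Module.FinitePresentation R (Dual.HD R K i)) := by
  obtain ⟨b, hb⟩ := hb
  haveI : K.IsLE b := by
    rw [DerivedCategory.isLE_iff]
    intro i hi
    haveI := hb i hi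
    exact ModuleCat.isZero_of_subsingleton _
  have key : ∀ k : ℤ, DRing.IsPseudoCoherent R k K ↔
      Module.Finite R (Dual.HD R K k) ∧ ∀ i : ℤ, k < i → Module.FinitePresentation R (Dual.HD R K i) := by
    refine fun k => ⟨DRingAmp.finitePresentation_homology hR, fun h => ?_⟩
    refine DRingTorAmp.isPseudoCoherent_of_homology K b fun i => ?_
    rcases lt_trichotomy k i with hi | hi | hi
    · haveI := h.2 i hi
      exact DRingAmp.isPseudoCoherentModule_of_fp hR _ _
    · subst hi
      rw [sub_self]
      haveI := h.1
      exact DRingTorAmp.isPseudoCoherent_of_top _ (fun j hj => DRingTorAmp.vanishGE_inD _ j (by omega))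
        (Module.Finite.equiv (DRingTorAmp.h0InD (Dual.HD R K k)).symm)
    · exact DRingTorAmp.isPseudoCoherent_of_vanishGE fun j hj => DRingTorAmp.vanishGE_inD _ j (by omega)
  refine ⟨key m, ⟨fun h i => ((key (i - 1)).1 (DRingKProj.isPseudoCoherent_of_pseudoCoherent' h _)).2 i (by omega),
    fun h => DRingKProj.pseudoCoherent'_of_forall fun k => (key k).2 ⟨?_, fun i _ => h i⟩⟩⟩
  haveI := h k
  infer_instance

end Groth.Agent.S6943
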