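import Groth.Statements.S6959
import Groth.Agent.DRingAmp.TensorCx

set_option autoImplicit false
universe u
open CategoryTheory CategoryTheory.Limits
attribute [local instance] HasDerivedCategory.standard
open DRing

namespace Groth.Agent.S6959

/-- Let R be a commutative ring, K a perfect object of D(R) and L a cochain complex of R-modules
defining a perfect object of D(R); assume the derived tensor product - ⊗^L_R L exists on D(R). Then
K ⊗^L_R L is a perfect object of D(R). -/
theorem result (R : Type u) [CommRing R] (K : Dual.D R) (hK : DRing.IsPerfect R K)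
    (L : DRing.Cx R) (hL : DRing.IsPerfect R (DRing.toD L)) [DRing.HasLTensorCx R L] :
    DRing.IsPerfect R ((DRing.LTensorCx R L).obj K) := by
  obtain ⟨P, a, b, hPo, hPf, ⟨eP⟩⟩ := hK
  obtain ⟨Q, a', b', hQo, hQf, ⟨eQ⟩⟩ := hL
  have hPb : DRing.VanishesAbove P b := fun i hi => hPo i (Or.inr hi)
  have hQb : DRing.VanishesAbove Q b' := fun i hi => hQo i (Or.inr hi)
  haveI := DRingAmp.isKProjective_of_finiteProjective hPb hPf
  haveI := DRingAmp.isKProjective_of_finiteProjective hQb hQf
  obtain ⟨e⟩ := DRingAmp.exists_lTensorCx_iso_tot L eP eQ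
  refine ⟨DRingKFlat.tot P Q, a + a', b + b', fun n hn => DRingAmp.isZero_tot_X fun p q hpq => ?_,
    DRingAmp.termwiseFiniteProjective_tot hPb hQb hPf hQf, ⟨e.symm⟩⟩
  by_cases hp : p < a ∨ b < p
  · exact Or.inl (hPo p hp)
  · exact Or.inr (hQo q (by omega))

end Groth.Agent.S6959
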