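import Groth.Statements.S6970
import Groth.Agent.DRingLift.Free
import Groth.Agent.DRingAmp.Nilpotent

set_option autoImplicit false
set_option linter.style.haveILetI false
universe u
open CategoryTheory CategoryTheory.Limits
attribute [local instance] HasDerivedCategory.standard
open DRing

namespace Groth.Agent.S6970

/-- Let R be a commutative ring and I a nilpotent ideal of R such that the derived base change D(R) →
D(R/I) exists. Let K be an object of D(R) and E a bounded above cochain complex of projective
R/I-modules which is isomorphic in D(R/I) to K ⊗^L_R R/I. Then there is a bounded above cochain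
complex P of projective R-modules which is isomorphic to K in D(R) and whose termwise reduction P
⊗_R R/I is isomorphic to E as a complex of R/I-modules. -/
theorem result (R : Type u) [CommRing R] (I : Ideal R)
    (hI : IsNilpotent I) [DRing.HasLBaseChange (Ideal.Quotient.mk I)] (K : Dual.D R)
    (E : DRing.Cx (R ⧸ I)) (b : ℤ) (hEb : DRing.VanishesAbove E b)
    (hEp : ∀ i : ℤ, Module.Projective (R ⧸ I) (E.X i))
    (hE : Nonempty (DRing.toD E ≅ (DRing.LBaseChange (Ideal.Quotient.mk I)).obj K)) :
    ∃ (P : DRing.Cx R) (b' : ℤ), DRing.VanishesAbove P b' ∧ (∀ i : ℤ, Module.Projective R (P.X i)) ∧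
      Nonempty (DRing.toD P ≅ K) ∧ Nonempty ((((ModuleCat.extendScalars (Ideal.Quotient.mk I)).mapHomologicalComplex (ComplexShape.up ℤ)).obj P) ≅ E) := by
  have hs : Function.Surjective (Ideal.Quotient.mk I) := Ideal.Quotient.mk_surjective
  have hn : IsNilpotent (RingHom.ker (Ideal.Quotient.mk I)) := by rwa [Ideal.mk_ker]
  obtain ⟨P₀, hP₀, hflat, ⟨e₀⟩⟩ := Groth.Agent.DRingComplete.exists_flat_rep K
  obtain ⟨e'⟩ := Groth.Agent.DRingTorAmp.exists_lBaseChange_iso (Ideal.Quotient.mk I) hP₀
  obtain ⟨eE⟩ := id hE
  have hex := Groth.Agent.DRingAmp.exactAt_of_esc_exact hs hn hP₀ hflat (c := b) fun i hi =>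
    (Groth.Agent.DRingTorAmp.subsingleton_HD_iff _ i).1
      ((Groth.Agent.DRingTorAmp.subsingleton_HD_congr
        (eE ≪≫ (DRing.LBaseChange _).mapIso e₀.symm ≪≫ e') i).1
        ((Groth.Agent.DRingTorAmp.subsingleton_HD_iff E i).2 (by
          rw [E.exactAt_iff' (i - 1) i (i + 1) (by simp) (by simp)]
          exact ShortComplex.exact_of_isZero_X₂ _ (hEb i hi))))
  obtain ⟨Q, hQ, hQp, ⟨eQ⟩⟩ := Groth.Agent.DRingLift.exists_projective_rep K b fun i hi =>
    (Groth.Agent.DRingTorAmp.subsingleton_HD_congr e₀ i).1
      ((Groth.Agent.DRingTorAmp.subsingleton_HD_iff P₀ i).2 (hex i hi))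
  exact Groth.Agent.DRingLift.exists_lift_of_iso (Groth.Agent.DRingLift.allProj_liftClass hI) (fun X Y (hX : Module.Projective R X) (hY : Module.Projective R Y) =>
      (inferInstance : Module.Projective R (X × Y)))
    K hQ hQp eQ hEb (fun i => Groth.Agent.DRingLift.exists_red_projective hI (hEp i)) hE

end Groth.Agent.S6970
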