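import Groth.Statements.S6975
import Groth.Agent.DRingAmp.MaxIdeal

set_option autoImplicit false
universe u
open CategoryTheory CategoryTheory.Limits
attribute [local instance] HasDerivedCategory.standard
open DRing

namespace Groth.Agent.S6975

/-- Let R be a local commutative ring with residue field κ such that the derived base change D(R) → D(κ)
exists, and let K be a pseudo-coherent object of D(R). If there is an integer a with H^i(K ⊗^L_R κ)
= 0 for all i < a, then K is perfect. -/
theorem result (R : Type u) [CommRing R] [IsLocalRing R]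
    [DRing.HasLBaseChange (IsLocalRing.residue R)] (K : Dual.D R) (hK : DRing.IsPseudoCoherent' R K) (a : ℤ)
    (h : ∀ i : ℤ, i < a → Subsingleton (Dual.HD (IsLocalRing.ResidueField R)
      ((DRing.LBaseChange (IsLocalRing.residue R)).obj K) i)) :
    DRing.IsPerfect R K := by
  obtain ⟨E₀, c₀, hc₀, hE₀, ⟨e₀⟩⟩ := id hK
  refine (DRingAmp.isPerfect_of_maximal hK a (max c₀ a) fun E c hc hE e m hm i hi hic => ?_).1
  obtain rfl := IsLocalRing.eq_maximalIdeal hm
  refine DRingAmp.exactAt_esc_of_subsingleton (IsLocalRing.residue R) hc hE e ?_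
  rcases hi with hi | hi
  · exact h i hi
  · obtain ⟨e'⟩ := DRingTorAmp.exists_lBaseChange_iso (IsLocalRing.residue R)
      (DRingTorAmp.isKFl_of_flat hc₀ fun j => haveI := (hE₀ j).2; inferInstance : DRingKFlat.IsKFl E₀)
    refine (DRingTorAmp.subsingleton_HD_congr
      ((DRing.LBaseChange (IsLocalRing.residue R)).mapIso e₀.symm ≪≫ e') i).2
      ((DRingTorAmp.subsingleton_HD_iff _ i).2 ?_)
    exact ShortComplex.exact_of_isZero_X₂ _
      ((ModuleCat.extendScalars.{u, u, u} (IsLocalRing.residue R)).map_isZero (hc₀ i (by omega)))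

end Groth.Agent.S6975
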