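import Groth.Statements.S7010
import Groth.Agent.DRingTorAmp.Restrict

set_option autoImplicit false
universe u
open CategoryTheory CategoryTheory.Limits
attribute [local instance] HasDerivedCategory.standard
open DRing

namespace Groth.Agent.S7010

open CategoryTheory.Pretriangulated in
/-- The inclusion of the perfect objects in the subcategory generated by R: let R be a commutative ring
and P a property of objects of D(R) which is closed under isomorphisms, holds for R[0], is stable
under all shifts, is closed under extensions (if it holds for the outer terms of a distinguished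
triangle it holds for the middle term) and is closed under taking direct summands. Then P holds for
every perfect object of D(R). -/
theorem result (R : Type u) [CommRing R]
    (P : ObjectProperty (Dual.D R)) [P.IsClosedUnderIsomorphisms] (hR : P (Dual.inD R R))
    (hshift : ∀ (K : Dual.D R) (n : ℤ), P K → P ((shiftFunctor (Dual.D R) n).obj K))
    (hext : ∀ T : Triangle (Dual.D R), T ∈ distinguishedTriangles → P T.obj₁ → P T.obj₃ → P T.obj₂)
    (hsum : ∀ (X Y : Dual.D R) [HasBinaryBiproduct X Y], P (X ⊞ Y) → P X)
    (K : Dual.D R) (hK : DRing.IsPerfect R K) : P K := by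
  have hz : ∀ Z, Limits.IsZero Z → P Z := fun Z hZ => hsum Z (Dual.inD R R) (P.prop_of_iso (Limits.isoZeroBiprod hZ) hR)
  have hret : ∀ {L M : Dual.D R} (i : L ⟶ M) (r : M ⟶ L), i ≫ r = 𝟙 L → P M → P L := by
    intro L M i r hir hM
    obtain ⟨C, g, δ, hT⟩ := Pretriangulated.distinguished_cocone_triangle i
    haveI : Mono i := (SplitMono.mk r hir).mono
    obtain ⟨e, -, -⟩ := Pretriangulated.exists_iso_binaryBiproduct_of_distTriang _ hT
      ((Pretriangulated.Triangle.mk i g δ).mor₃_eq_zero_of_mono₁ hT ‹Mono i›)
    exact hsum L C (P.prop_of_iso e hM)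
  obtain ⟨E, a, b, hEo, hEf, ⟨e⟩⟩ := hK
  refine P.prop_of_iso e ?_
  refine DRingTorAmp.prop_of_terms P hz (fun T hT => hext T hT) (b + 1 - a).toNat E a
    (fun i hi => hEo i (by omega)) fun i => ?_
  haveI := (hEf i).1
  haveI := (hEf i).2
  have h0 := DRingTorAmp.prop_finiteProjective (RingHom.id R) P hz (fun T hT => hext T hT)
    (fun i r h hM => hret i r h hM) hR (E.X i)
  exact P.prop_of_iso (DerCat.singleShiftIso i (E.X i)) (hshift _ (-i)
    (P.prop_of_iso ((DerivedCategory.singleFunctor (ModuleCat.{u} R) 0).mapIso
      (ModuleCat.restrictScalarsId'App (RingHom.id R) rfl (E.X i))) h0))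

end Groth.Agent.S7010
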