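import Groth.Statements.S7015
import Mathlib.LinearAlgebra.TensorProduct.Finiteness
import Mathlib.Algebra.Module.Projective
import Mathlib.LinearAlgebra.FreeModule.Basic
import Mathlib.LinearAlgebra.StdBasis
import Mathlib.RingTheory.Finiteness.Basic

set_option autoImplicit false
universe u
open CategoryTheory MonoidalCategory
open DRing

namespace Groth.Agent.S7015

/-- Let R be a commutative ring and M, N R-modules such that N is a left dual of M for the tensor
product of R-modules, i.e. there are a coevaluation R → M ⊗ N and an evaluation N ⊗ M → R satisfying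
the triangle identities (an exact pairing). Then M and N are finitely generated projective
R-modules. -/
theorem result (R : Type u) [CommRing R] (M N : Type u) [AddCommGroup M]
    [Module R M] [AddCommGroup N] [Module R N] [ExactPairing (ModuleCat.of R M) (ModuleCat.of R N)] :
    Module.Finite R M ∧ Module.Projective R M ∧ Module.Finite R N ∧ Module.Projective R N := by
  classical
  let η := CategoryTheory.ExactPairing.coevaluation (ModuleCat.of R M) (ModuleCat.of R N)
  let ε := CategoryTheory.ExactPairing.evaluation (ModuleCat.of R M) (ModuleCat.of R N)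
  obtain ⟨T, hT⟩ := TensorProduct.exists_finset (R := R) (η.hom (1 : R) : TensorProduct R M N)
  let e : TensorProduct R N M →ₗ[R] R := ε.hom
  have hM : ∀ x : M, x = ∑ s ∈ T, e (s.2 ⊗ₜ[R] x) • s.1 := by
    intro x
    have h := LinearMap.congr_fun (congrArg ModuleCat.Hom.hom
      (CategoryTheory.ExactPairing.evaluation_coevaluation (ModuleCat.of R M) (ModuleCat.of R N)))
      ((1 : R) ⊗ₜ[R] x)
    replace h : ((ModuleCat.of R M) ◁ ε).hom ((α_ (ModuleCat.of R M) (ModuleCat.of R N) (ModuleCat.of R M)).hom.hom
        ((η.hom (1 : R) : TensorProduct R M N) ⊗ₜ[R] x)) = ((1 : R) • x) ⊗ₜ[R] (1 : R) := h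
    rw [hT, TensorProduct.sum_tmul, map_sum, map_sum, one_smul] at h
    replace h := congrArg (TensorProduct.rid R M) h
    rw [map_sum, TensorProduct.rid_tmul, one_smul] at h
    exact h.symm.trans (Finset.sum_congr rfl fun s _ => TensorProduct.rid_tmul s.1 _)
  have hN : ∀ y : N, y = ∑ s ∈ T, e (y ⊗ₜ[R] s.1) • s.2 := by
    intro y
    have h := LinearMap.congr_fun (congrArg ModuleCat.Hom.hom
      (CategoryTheory.ExactPairing.coevaluation_evaluation (ModuleCat.of R M) (ModuleCat.of R N)))
      (y ⊗ₜ[R] (1 : R))
    replace h : (ε ▷ (ModuleCat.of R N)).hom ((α_ (ModuleCat.of R N) (ModuleCat.of R M) (ModuleCat.of R N)).inv.hom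
        (y ⊗ₜ[R] (η.hom (1 : R) : TensorProduct R M N))) = (1 : R) ⊗ₜ[R] ((1 : R) • y) := h
    rw [hT, TensorProduct.tmul_sum, map_sum, map_sum, one_smul] at h
    replace h := congrArg (TensorProduct.lid R N) h
    rw [map_sum, TensorProduct.lid_tmul, one_smul] at h
    exact h.symm.trans (Finset.sum_congr rfl fun s _ => TensorProduct.lid_tmul s.2 _)
  have dual : ∀ (P : Type u) [AddCommGroup P] [Module R P] (v : M × N → P) (f : M × N → P →ₗ[R] R),
      (∀ z, z = ∑ s ∈ T, f s z • v s) → Module.Finite R P ∧ Module.Projective R P := by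
    intro P _ _ v f hz
    let i : P →ₗ[R] (T → R) := LinearMap.pi fun s => f s.1
    let q : (T → R) →ₗ[R] P := Fintype.linearCombination R fun s : T => v s.1
    have hqi : q.comp i = LinearMap.id := LinearMap.ext fun z => by
      show q (i z) = z
      conv_rhs => rw [hz z, ← Finset.sum_coe_sort]
      simp only [q, i, Fintype.linearCombination_apply, LinearMap.pi_apply]
    exact ⟨Module.Finite.of_surjective q fun z => ⟨i z, LinearMap.congr_fun hqi z⟩,
      Module.Projective.of_split i q hqi⟩
  obtain ⟨h1, h2⟩ := dual M Prod.fst (fun s => e ∘ₗ TensorProduct.mk R N M s.2) hM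
  obtain ⟨h3, h4⟩ := dual N Prod.snd (fun s => e ∘ₗ (TensorProduct.mk R N M).flip s.1) hN
  exact ⟨h1, h2, h3, h4⟩

end Groth.Agent.S7015
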