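import Groth.Statements.S7017
import Groth.Agent.DRingKProj.PCIff
import Groth.Agent.DRingKProj.Triangle

set_option autoImplicit false
universe u
open CategoryTheory CategoryTheory.Limits
attribute [local instance] HasDerivedCategory.standard
open DRing

namespace Groth.Agent.S7017

open CategoryTheory.Pretriangulated in
/-- Let R be a commutative ring and K → L → M → K[1] a distinguished triangle in D(R). Whenever two of
K, L, M are pseudo-coherent (isomorphic in D(R) to bounded above complexes of finite free modules),
the remaining one is as well. -/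
theorem result (R : Type u) [CommRing R] (T : Triangle (Dual.D R))
    (hT : T ∈ distinguishedTriangles) :
    (DRing.IsPseudoCoherent' R T.obj₁ → DRing.IsPseudoCoherent' R T.obj₂ → DRing.IsPseudoCoherent' R T.obj₃) ∧
      (DRing.IsPseudoCoherent' R T.obj₁ → DRing.IsPseudoCoherent' R T.obj₃ → DRing.IsPseudoCoherent' R T.obj₂) ∧
      (DRing.IsPseudoCoherent' R T.obj₂ → DRing.IsPseudoCoherent' R T.obj₃ → DRing.IsPseudoCoherent' R T.obj₁) := by
  have h : ∀ {K : Dual.D R}, DRing.IsPseudoCoherent' R K ↔ ∀ m, DRing.IsPseudoCoherent R m K :=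
    fun {K} => ⟨DRingKProj.isPseudoCoherent_of_pseudoCoherent', DRingKProj.pseudoCoherent'_of_forall⟩
  simp only [h]
  exact ⟨fun h1 h2 m => DRingKProj.isPseudoCoherent_obj₃ T hT m (h1 _) (h2 _),
    fun h1 h3 m => DRingKProj.isPseudoCoherent_obj₂ T hT m (h1 _) (h3 _),
    fun h2 h3 m => by
      have h := DRingKProj.isPseudoCoherent_obj₁ T hT (m - 1) (h2 _) (h3 _)
      rwa [sub_add_cancel] at h⟩

end Groth.Agent.S7017
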