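import Groth.Statements.S7018
import Groth.Agent.DRingTorAmp.Criterion

set_option autoImplicit false
universe u
open CategoryTheory CategoryTheory.Limits
attribute [local instance] HasDerivedCategory.standard
open DRing

namespace Groth.Agent.S7018

/-- Let R be a commutative ring such that the derived tensor product - ⊗^L_R M exists on D(R) for every
R-module M, let a, b be integers and K, L objects of D(R). Tor amplitude in [a, b] of the direct sum
K ⊕ L implies tor amplitude in [a, b] of each summand K and L. -/
theorem result (R : Type u) [CommRing R] [∀ M : ModuleCat.{u} R, DRing.HasLTensor R M]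
    (a b : ℤ) (K L : Dual.D R) [HasBinaryBiproduct K L] (h : DRing.HasTorAmplitudeIn R a b (K ⊞ L)) :
    DRing.HasTorAmplitudeIn R a b K ∧ DRing.HasTorAmplitudeIn R a b L := by
  rw [DRingTorAmp.hasTorAmplitudeIn_iff] at h ⊢
  rw [DRingTorAmp.hasTorAmplitudeIn_iff]
  refine ⟨fun M i hi => ?_, fun M i hi => ?_⟩
  · haveI := h M i hi
    let F := DRing.LTensor R M ⋙ DerivedCategory.homologyFunctor (ModuleCat.{u} R) i
    have h1 : Function.LeftInverse (F.map biprod.fst).hom
        (F.map (biprod.inl : K ⟶ K ⊞ L)).hom := fun x => by
      rw [← ModuleCat.comp_apply, ← F.map_comp, biprod.inl_fst, F.map_id]; rfl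
    haveI : Subsingleton (F.obj (K ⊞ L)) := h M i hi
    exact h1.injective.subsingleton
  · haveI := h M i hi
    let F := DRing.LTensor R M ⋙ DerivedCategory.homologyFunctor (ModuleCat.{u} R) i
    have h1 : Function.LeftInverse (F.map biprod.snd).hom
        (F.map (biprod.inr : L ⟶ K ⊞ L)).hom := fun x => by
      rw [← ModuleCat.comp_apply, ← F.map_comp, biprod.inr_snd, F.map_id]; rfl
    haveI : Subsingleton (F.obj (K ⊞ L)) := h M i hi
    exact h1.injective.subsingleton

end Groth.Agent.S7018
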