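import Groth.Statements.S7019
import Groth.Agent.DRingTorAmp.Retract

set_option autoImplicit false
universe u
open CategoryTheory CategoryTheory.Limits
attribute [local instance] HasDerivedCategory.standard
open DRing

namespace Groth.Agent.S7019

/-- Let R be a commutative ring such that the derived tensor product - ⊗^L_R M exists on D(R) for every
R-module M, and let K, L be objects of D(R). If K ⊕ L is perfect, then K and L are perfect. -/
theorem result (R : Type u) [CommRing R] [∀ M : ModuleCat.{u} R, DRing.HasLTensor R M]
    (K L : Dual.D R) [HasBinaryBiproduct K L] (h : DRing.IsPerfect R (K ⊞ L)) :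
    DRing.IsPerfect R K ∧ DRing.IsPerfect R L := by
  exact ⟨DRingTorAmp.isPerfect_of_retract biprod.inl biprod.fst biprod.inl_fst h,
    DRingTorAmp.isPerfect_of_retract biprod.inr biprod.snd biprod.inr_snd h⟩

end Groth.Agent.S7019
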