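import Groth.Statements.S7022
import Groth.Agent.DerCALib.RelPCMore
import Groth.Agent.DRingRetract.PseudoCoh

set_option autoImplicit false
universe u
open CategoryTheory CategoryTheory.Limits
attribute [local instance] HasDerivedCategory.standard
open DerCA

open Groth.Agent.DerCALib
open CategoryTheory.Limits

namespace Groth.Agent.S7022

set_option backward.isDefEq.respectTransparency false
set_option backward.defeqAttrib.useBackward true

theorem summands {R A : Type u} [CommRing R] [CommRing A] [Algebra R A] [Algebra.FiniteType R A] (m : ℤ)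
    (K L : Dual.D A) [Limits.HasBinaryBiproduct K L] (h : DerCA.IsRelPseudoCoherent R A m (K ⊞ L)) :
    DerCA.IsRelPseudoCoherent R A m K ∧ DerCA.IsRelPseudoCoherent R A m L := by
  obtain ⟨n, α, hα, h⟩ := h
  let F := DRing.restrictD (α : MvPolynomial (Fin n) R →+* A)
  exact ⟨⟨n, α, hα, DRingRetract.isPseudoCoherent_of_retract (F.map Limits.biprod.inl) (F.map Limits.biprod.fst)
      (by rw [← F.map_comp, Limits.biprod.inl_fst, F.map_id]) h⟩,
    ⟨n, α, hα, DRingRetract.isPseudoCoherent_of_retract (F.map Limits.biprod.inr) (F.map Limits.biprod.snd)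
      (by rw [← F.map_comp, Limits.biprod.inr_snd, F.map_id]) h⟩⟩

/-- Let R → A be a finite type homomorphism of commutative rings, m an integer and K, L objects of the
derived category D(A). Whenever the direct sum K ⊕ L is pseudo-coherent relative to R in degree m,
both summands K and L are too; likewise, relative pseudo-coherence of K ⊕ L (in every degree) passes
to K and to L. -/
theorem result {R A : Type u} [CommRing R] [CommRing A] [Algebra R A] [Algebra.FiniteType R A] (m : ℤ) (K L : Dual.D A) [HasBinaryBiproduct K L] :
    (DerCA.IsRelPseudoCoherent R A m (K ⊞ L) → DerCA.IsRelPseudoCoherent R A m K ∧ DerCA.IsRelPseudoCoherent R A m L) ∧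
      (DerCA.IsRelPseudoCoherentAll R A (K ⊞ L) →
        DerCA.IsRelPseudoCoherentAll R A K ∧ DerCA.IsRelPseudoCoherentAll R A L) := by
  exact ⟨summands m K L, fun h => ⟨fun j => (summands j K L (h j)).1, fun j => (summands j K L (h j)).2⟩⟩

end Groth.Agent.S7022
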