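import Groth.Statements.S7023
import Groth.Agent.DerCALib.RelPCMore

set_option autoImplicit false
universe u
open CategoryTheory CategoryTheory.Limits
attribute [local instance] HasDerivedCategory.standard
open DerCA

open Groth.Agent.DerCALib

namespace Groth.Agent.S7023

set_option backward.isDefEq.respectTransparency false
set_option backward.defeqAttrib.useBackward true

theorem termwise {R A : Type u} [CommRing R] [CommRing A] [Algebra R A] [Algebra.FiniteType R A] (m : ℤ)
    (K : DRing.Cx A) (b : ℤ) (hb : DRing.VanishesAbove K b)
    (h : ∀ i : ℤ, DerCA.IsRelPseudoCoherentModule R A (m - i) (K.X i)) :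
    DerCA.IsRelPseudoCoherent R A m (DRing.toD K) := by
  obtain ⟨n, α, hα⟩ := exists_presentation R A
  rw [relPC_iff α hα]
  refine (pc_congr (DRingTorAmp.restrictQIso (α : MvPolynomial (Fin n) R →+* A) K) m).2 ?_
  exact (Groth.Agent.S6938.result (MvPolynomial (Fin n) R) m
    ((DRing.restrictCx (α : MvPolynomial (Fin n) R →+* A)).obj K) b
    (fun i hi => (ModuleCat.restrictScalars _).map_isZero (hb i hi))).1 fun i =>
      (relModule_iff α hα (m - i) (K.X i)).1 (h i)

/-- Let R → A be a finite type homomorphism of commutative rings, m an integer and K a bounded above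
cochain complex of A-modules such that the module K^i is (m - i)-pseudo-coherent relative to R for
every i. Then K is m-pseudo-coherent relative to R. Moreover, K is pseudo-coherent over R as soon as
each of its terms K^i is so. -/
theorem result {R A : Type u} [CommRing R] [CommRing A] [Algebra R A] [Algebra.FiniteType R A] (m : ℤ) (K : DRing.Cx A) (b : ℤ)
    (hb : DRing.VanishesAbove K b) :
    ((∀ i : ℤ, DerCA.IsRelPseudoCoherentModule R A (m - i) (K.X i)) → DerCA.IsRelPseudoCoherent R A m (DRing.toD K)) ∧
      ((∀ i : ℤ, DerCA.IsRelPseudoCoherentModuleAll R A (K.X i)) →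
        DerCA.IsRelPseudoCoherentAll R A (DRing.toD K)) := by
  exact ⟨termwise m K b hb, fun h j => termwise j K b hb fun i => h i _⟩

end Groth.Agent.S7023
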