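import Groth.Statements.S7024
import Groth.Agent.DerCALib.RelPCMore
import Groth.Agent.DRingComplete.Closure

set_option autoImplicit false
universe u
open CategoryTheory CategoryTheory.Limits
attribute [local instance] HasDerivedCategory.standard
open DerCA

open Groth.Agent.DerCALib

namespace Groth.Agent.S7024

set_option backward.isDefEq.respectTransparency false
set_option backward.defeqAttrib.useBackward true

theorem homology {R A : Type u} [CommRing R] [CommRing A] [Algebra R A] [Algebra.FiniteType R A] (m : ℤ)
    (K : Dual.D A) (hb : ∃ b : ℤ, ∀ i : ℤ, b < i → Subsingleton (Dual.HD A K i))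
    (h : ∀ i : ℤ, DerCA.IsRelPseudoCoherentModule R A (m - i) (Dual.HD A K i)) :
    DerCA.IsRelPseudoCoherent R A m K := by
  obtain ⟨n, α, hα⟩ := exists_presentation R A
  rw [relPC_iff α hα]
  obtain ⟨b, hb⟩ := hb
  let g := (α : MvPolynomial (Fin n) R →+* A)
  refine (Groth.Agent.S6939.result (MvPolynomial (Fin n) R) m _ ⟨b, fun i hi => ?_⟩).1 fun i => ?_
  · haveI := hb i hi
    exact (DRingComplete.restrictHDIso g K i).toLinearEquiv.toEquiv.subsingleton_congr.2 (hb i hi)
  · exact (pc_congr ((DerivedCategory.singleFunctor _ 0).mapIso (DRingComplete.restrictHDIso g K i)) (m - i)).2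
      ((relModule_iff α hα (m - i) (Dual.HD A K i)).1 (h i))

/-- Let R → A be a finite type homomorphism of commutative rings, m an integer and K an object of D(A)
whose cohomology vanishes in large degrees. If the module H^i(K) is (m - i)-pseudo-coherent relative
to R for every i, then K is m-pseudo-coherent relative to R. Moreover, K is relatively
pseudo-coherent over R as soon as each cohomology module H^i(K) has this property over R. -/
theorem result {R A : Type u} [CommRing R] [CommRing A] [Algebra R A] [Algebra.FiniteType R A] (m : ℤ) (K : Dual.D A)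
    (hb : ∃ b : ℤ, ∀ i : ℤ, b < i → Subsingleton (Dual.HD A K i)) :
    ((∀ i : ℤ, DerCA.IsRelPseudoCoherentModule R A (m - i) (Dual.HD A K i)) → DerCA.IsRelPseudoCoherent R A m K) ∧
      ((∀ i : ℤ, DerCA.IsRelPseudoCoherentModuleAll R A (Dual.HD A K i)) → DerCA.IsRelPseudoCoherentAll R A K) := by
  exact ⟨homology m K hb, fun h j => homology j K hb fun i => h i _⟩

end Groth.Agent.S7024
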