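import Groth.Statements.S7026
import Groth.Agent.DerCALib.RelPCMore
import Groth.Agent.DRingComplete.Closure
import Groth.Agent.S6942

set_option autoImplicit false
universe u
open CategoryTheory CategoryTheory.Limits
attribute [local instance] HasDerivedCategory.standard
open DerCA

open Groth.Agent.DerCALib

namespace Groth.Agent.S7026

set_option backward.isDefEq.respectTransparency false
set_option backward.defeqAttrib.useBackward true

theorem criterion {R A : Type u} [CommRing R] [IsNoetherianRing R] [CommRing A] [Algebra R A]
    [Algebra.FiniteType R A] (m : ℤ) (K : Dual.D A) :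
    DerCA.IsRelPseudoCoherent R A m K ↔
      (∃ b : ℤ, ∀ i : ℤ, b < i → Subsingleton (Dual.HD A K i)) ∧ ∀ i : ℤ, m ≤ i → Module.Finite A (Dual.HD A K i) := by
  obtain ⟨n, α, hα⟩ := exists_presentation R A
  let g := (α : MvPolynomial (Fin n) R →+* A)
  rw [relPC_iff α hα, DerCA.IsRelPseudoCoherentVia,
    (Groth.Agent.S6942.result (MvPolynomial (Fin n) R) m _ (MvPolynomial (Fin n) R)).1]
  refine and_congr (exists_congr fun b => forall_congr' fun i => imp_congr_right fun _ => ?_)
    (forall_congr' fun i => imp_congr_right fun _ => ?_)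
  · exact (DRingComplete.restrictHDIso g K i).toLinearEquiv.toEquiv.subsingleton_congr
  · exact (Module.Finite.equiv_iff (DRingComplete.restrictHDIso g K i).toLinearEquiv).trans
      (finite_compHom_iff g hα (Dual.HD A K i))

/-- Let R be a Noetherian commutative ring, R → A a finite type ring homomorphism, m an integer, K an
object of D(A) and M an A-module. Then: m-pseudo-coherence of K relative to R is equivalent to
H^i(K) vanishing for all large i together with H^i(K) being a finitely generated A-module for each i
≥ m; pseudo-coherence of K relative to R (every degree) is equivalent to the same with H^i(K)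
finitely generated for every i; and the A-module M is pseudo-coherent relative to R exactly when M
is finitely generated. -/
theorem result {R A : Type u} [CommRing R]
    [IsNoetherianRing R] [CommRing A] [Algebra R A] [Algebra.FiniteType R A] (m : ℤ) (K : Dual.D A)
    (M : Type u) [AddCommGroup M] [Module A M] :
    (DerCA.IsRelPseudoCoherent R A m K ↔
      (∃ b : ℤ, ∀ i : ℤ, b < i → Subsingleton (Dual.HD A K i)) ∧ ∀ i : ℤ, m ≤ i → Module.Finite A (Dual.HD A K i)) ∧
    (DerCA.IsRelPseudoCoherentAll R A K ↔
      (∃ b : ℤ, ∀ i : ℤ, b < i → Subsingleton (Dual.HD A K i)) ∧ ∀ i : ℤ, Module.Finite A (Dual.HD A K i)) ∧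
    (DerCA.IsRelPseudoCoherentModuleAll R A M ↔ Module.Finite A M) := by
  refine ⟨criterion m K, ⟨fun h => ⟨((criterion 0 K).1 (h 0)).1, fun i => ((criterion i K).1 (h i)).2 i le_rfl⟩,
    fun h j => (criterion j K).2 ⟨h.1, fun i _ => h.2 i⟩⟩, ?_⟩
  obtain ⟨n, α, hα⟩ := exists_presentation R A
  letI : Module (MvPolynomial (Fin n) R) M := Module.compHom M α.toRingHom
  refine Iff.trans ?_ (((Groth.Agent.S6942.result (MvPolynomial (Fin n) R) m
    (Dual.inD (MvPolynomial (Fin n) R) M) M).2).trans (finite_compHom_iff α.toRingHom hα M))
  exact ⟨fun h => DRingKProj.pseudoCoherent'_of_forall fun j => (relModule_iff α hα j M).1 (h j),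
    fun h j => (relModule_iff α hα j M).2 (DRingKProj.isPseudoCoherent_of_pseudoCoherent' h j)⟩

end Groth.Agent.S7026
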