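import Groth.Statements.S7029
import Groth.Agent.DRingTorAmp.Devissage

set_option autoImplicit false
universe u
open CategoryTheory CategoryTheory.Limits
attribute [local instance] HasDerivedCategory.standard
open DRing

namespace Groth.Agent.S7029

/-- Let R be a commutative ring such that the derived tensor product - ⊗^L_R M exists on D(R) for every
R-module M, and let K be a bounded cochain complex of R-modules each term of which is a perfect
R-module. Then K is a perfect object of D(R). -/
theorem result (R : Type u) [CommRing R] [∀ M : ModuleCat.{u} R, DRing.HasLTensor R M] (K : DRing.Cx R)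
    (a b : ℤ) (hab : DRing.VanishesOutside K a b) (hK : ∀ i : ℤ, DRing.IsPerfectModule R (K.X i)) :
    DRing.IsPerfect R (DRing.toD K) := by
  exact DRingTorAmp.prop_of_terms DRingTorAmp.perfectProp (fun Z hZ => DRingTorAmp.isPerfect_of_isZero hZ)
    (fun T hT => DRingTorAmp.isPerfect_obj₂ T hT) (b + 1 - a).toNat K a (fun i hi => hab i (by omega))
    (fun i => DRingTorAmp.isPerfect_single (hK i) i)

end Groth.Agent.S7029
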