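import Groth.Statements.S7031
import Groth.Agent.DRingAmp.Regular
import Groth.Agent.DRingTorAmp.Devissage
import Groth.Agent.DRingTorAmp.PCModules

set_option autoImplicit false
set_option linter.style.haveILetI false
universe u
open CategoryTheory CategoryTheory.Limits
attribute [local instance] HasDerivedCategory.standard
open DRing

namespace Groth.Agent.S7031

/-- Let R be a regular commutative ring (Noetherian, with regular local rings at all primes) such that
the derived tensor product - ⊗^L_R M exists on D(R) for every R-module M, and let K be an object of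
D(R). Then K is perfect if and only if H^i(K) = 0 outside a bounded range of degrees and every
H^i(K) is a finitely generated R-module. -/
theorem result (R : Type u) [CommRing R] [IsNoetherianRing R]
    (hreg : ∀ p : PrimeSpectrum R, IsRegularLocalRing (Localization.AtPrime p.asIdeal)) [∀ M : ModuleCat.{u} R, DRing.HasLTensor R M] (K : Dual.D R) :
    DRing.IsPerfect R K ↔
      (∃ a b : ℤ, ∀ i : ℤ, (i < a ∨ b < i) → Subsingleton (Dual.HD R K i)) ∧ ∀ i : ℤ, Module.Finite R (Dual.HD R K i) := by
  constructor
  · intro hK
    refine ⟨?_, fun i => ?_⟩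
    · obtain ⟨E, a, b, hE, -, ⟨e⟩⟩ := hK
      exact ⟨a, b, fun i hi => (DRingTorAmp.subsingleton_HD_congr e i).1 ((DRingTorAmp.subsingleton_HD_iff E i).2
        (ShortComplex.exact_of_isZero_X₂ _ (hE i hi)))⟩
    · exact DRingTorAmp.finite_of_isPseudoCoherent
        (DRingKProj.isPseudoCoherent_of_pseudoCoherent' ((DRingTorAmp.isPerfect_iff K).1 hK).1 i) i le_rfl
  · rintro ⟨⟨c, d, hcd⟩, hfin⟩
    obtain ⟨_, _⟩ := DRingTorAmp.isGE_isLE_of_bounded hcd
    exact DerCat.prop_of_single DRingTorAmp.perfectProp (fun Z hZ => DRingTorAmp.isPerfect_of_isZero hZ)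
      (fun T hT => DRingTorAmp.isPerfect_obj₂ T hT) K c d
      (fun i _ _ => haveI := hfin i; DRingTorAmp.isPerfect_single (DRingAmp.isPerfectModule_of_regular hreg _) i)

end Groth.Agent.S7031
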