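import Groth.Statements.S7035
import Groth.Agent.DRingAmp.FlatFibres

set_option autoImplicit false
set_option linter.style.haveILetI false
universe u
open CategoryTheory CategoryTheory.Limits
attribute [local instance] HasDerivedCategory.standard
open DRing

namespace Groth.Agent.S7035

theorem aux {A B : Type u} [CommRing A] [CommRing B] (i : Algebra A B) [Module.Flat A B] (d : ℕ)
    (hgl : ∀ (p : PrimeSpectrum A) (M : Type u) [AddCommGroup M]
      [Module (TensorProduct A p.asIdeal.ResidueField B) M],
      HasProjectiveDimensionLT (ModuleCat.of (TensorProduct A p.asIdeal.ResidueField B) M) (d + 1))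
    (a b : ℤ) (K : Dual.D B) (hK : DRing.IsPseudoCoherent' B K)
    (hKa : DRing.HasTorAmplitudeIn A a b ((DRing.restrictD (algebraMap A B)).obj K)) :
    DRing.IsPerfect B K ∧ DRing.HasTorAmplitudeIn B (a - d) b K := by
  obtain ⟨φ, rfl⟩ := Groth.Agent.DRingTorAmp.exists_toAlgebra i
  refine Groth.Agent.DRingAmp.isPerfect_of_maximal hK (a - d) b fun E c hc hE e m hm i hi _ => ?_
  haveI := hm
  letI := Ideal.Quotient.field m
  let p : PrimeSpectrum A := ⟨m.comap φ, inferInstance⟩
  have hg₀ : Function.Injective (Ideal.quotientMap (I := p.asIdeal) m φ le_rfl) :=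
    Ideal.quotientMap_injective' le_rfl
  let g : p.asIdeal.ResidueField →+* B ⧸ m := IsFractionRing.lift hg₀
  have hg : g.comp (algebraMap A p.asIdeal.ResidueField) = (Ideal.Quotient.mk m).comp φ := RingHom.ext fun r => by
    show IsFractionRing.lift hg₀ (algebraMap A p.asIdeal.ResidueField r) = _
    rw [← Ideal.algebraMap_quotient_residueField_mk, IsFractionRing.lift_algebraMap]
    rfl
  exact Groth.Agent.DRingAmp.exactAt_closed_of_fibre' φ _ (Ideal.Quotient.mk m) g hg
    ‹_› d (hgl p) hc (fun j => haveI := (hE j).2; inferInstance)
    ((Groth.Agent.DRingTorAmp.torAmpProp a b).prop_of_iso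
      ((DRing.restrictD φ).mapIso e.symm ≪≫ Groth.Agent.DRingTorAmp.restrictQIso φ E) hKa) hi

/-- Let A → B be a flat homomorphism of commutative rings and d a natural number such that for every
prime p of A, with residue field κ(p), every module over κ(p) ⊗_A B has projective dimension at most
d; assume the derived tensor products - ⊗^L M exist on D(κ(p) ⊗_A B) for all p and the derived base
changes D(B) → D(B/m) exist for all ideals m of B. Let a, b be integers and K an object of D(B)
which is pseudo-coherent over B and, with scalars restricted to A, has tor amplitude in [a, b]. Then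
K is perfect over B and has tor amplitude in [a - d, b] over B. -/
theorem result {A B : Type u} [CommRing A] [CommRing B] [Algebra A B]
    [Module.Flat A B] (d : ℕ)
    (hgl : ∀ (p : PrimeSpectrum A) (M : Type u) [AddCommGroup M]
      [Module (TensorProduct A p.asIdeal.ResidueField B) M],
      HasProjectiveDimensionLT (ModuleCat.of (TensorProduct A p.asIdeal.ResidueField B) M) (d + 1))
    [∀ (p : PrimeSpectrum A) (M : ModuleCat.{u} (TensorProduct A p.asIdeal.ResidueField B)),
      DRing.HasLTensor (TensorProduct A p.asIdeal.ResidueField B) M]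
    [∀ m : Ideal B, DRing.HasLBaseChange (Ideal.Quotient.mk m)] (a b : ℤ) (K : Dual.D B)
    (hK : DRing.IsPseudoCoherent' B K)
    (hKa : DRing.HasTorAmplitudeIn A a b ((DRing.restrictD (algebraMap A B)).obj K)) :
    DRing.IsPerfect B K ∧ DRing.HasTorAmplitudeIn B (a - d) b K := by
  exact aux (A := A) (B := B) _ d hgl a b K hK hKa

end Groth.Agent.S7035
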