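import Groth.Statements.S7037
import Groth.Agent.DRingAmp.TensorCx

set_option autoImplicit false
universe u
open CategoryTheory CategoryTheory.Limits
attribute [local instance] HasDerivedCategory.standard
open DRing

namespace Groth.Agent.S7037

/-- Let R be a commutative ring, K a pseudo-coherent object of D(R), and L a cochain complex of
R-modules which is pseudo-coherent as an object of D(R); assume the derived tensor product - ⊗^L_R L
exists on D(R). Then K ⊗^L_R L is pseudo-coherent. -/
theorem result (R : Type u) [CommRing R] (K : Dual.D R) (hK : DRing.IsPseudoCoherent' R K)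
    (L : DRing.Cx R) (hL : DRing.IsPseudoCoherent' R (DRing.toD L)) [DRing.HasLTensorCx R L] :
    DRing.IsPseudoCoherent' R ((DRing.LTensorCx R L).obj K) := by
  obtain ⟨P, b, hPb, hPf, ⟨eP⟩⟩ := hK
  obtain ⟨Q, b', hQb, hQf, ⟨eQ⟩⟩ := hL
  have hPp := DRingKProj.termwiseFiniteProjective_of_free hPf
  have hQp := DRingKProj.termwiseFiniteProjective_of_free hQf
  haveI := DRingAmp.isKProjective_of_finiteProjective hPb hPp
  haveI := DRingAmp.isKProjective_of_finiteProjective hQb hQp
  obtain ⟨e⟩ := DRingAmp.exists_lTensorCx_iso_tot L eP eQ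
  have hb : DRing.VanishesAbove (DRingKFlat.tot P Q) (b + b') := fun n hn => DRingAmp.isZero_tot_X fun p q hpq => by
    by_cases hp : b < p
    · exact Or.inl (hPb p hp)
    · exact Or.inr (hQb q (by omega))
  obtain ⟨F, c, h1, h2, ⟨e'⟩⟩ := DRingKProj.pseudoCoherent'_of_projective hb
    (DRingAmp.termwiseFiniteProjective_tot hPb hQb hPp hQp)
  exact ⟨F, c, h1, h2, ⟨e' ≪≫ e.symm⟩⟩

end Groth.Agent.S7037
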