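import Groth.Statements.S7039
import Mathlib.RingTheory.Finiteness.Ideal
-- import your own Groth.Agent.* helpers here

set_option autoImplicit false
universe u
open LocCoh

namespace Groth.Agent.S7039

/-- For a finitely generated ideal I of a commutative ring R and any R-module M, the quotient of M by
its submodule of I-power torsion elements has no nonzero element annihilated by I. -/
theorem result {R : Type u} [CommRing R] (I : Ideal R) (hI : I.FG)
    (M : Type u) [AddCommGroup M] [Module R M] :
    LocCoh.torsionBy I (M ⧸ DRing.torsionSub I M) = ⊥ := by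
  refine (Submodule.eq_bot_iff _).mpr fun q hq => ?_
  obtain ⟨m, rfl⟩ := Submodule.Quotient.mk_surjective _ q
  obtain ⟨s, hs⟩ := hI
  have h1 : ∀ a ∈ I, a • m ∈ DRing.torsionSub I M := fun a ha => by
    rw [← Submodule.Quotient.mk_eq_zero, Submodule.Quotient.mk_smul]
    exact (Submodule.mem_torsionBySet_iff _ _).mp hq ⟨a, ha⟩
  have h2 : ∀ a : {x // x ∈ s}, ∃ n : ℕ, ∀ b ∈ I ^ n, b • (a : R) • m = 0 := fun a =>
    h1 a (hs.le (Submodule.subset_span a.2))
  choose n hn using h2
  refine (Submodule.Quotient.mk_eq_zero _).mpr ⟨Finset.univ.sum n + 1, fun c hc => ?_⟩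
  rw [pow_succ] at hc
  induction hc using Submodule.mul_induction_on' with
  | mem_mul_mem b hb a ha =>
    rw [mul_smul]
    rw [← hs] at ha
    induction ha using Submodule.span_induction with
    | mem x hx =>
      exact hn ⟨x, hx⟩ b (Ideal.pow_le_pow_right
        (Finset.single_le_sum (fun _ _ => Nat.zero_le _) (Finset.mem_univ _)) hb)
    | zero => rw [zero_smul, smul_zero]
    | add x y _ _ hx hy => rw [add_smul, smul_add, hx, hy, add_zero]
    | smul r x _ hx => rw [smul_eq_mul, mul_smul, smul_comm, hx, smul_zero]
  | add y _ z _ hy hz => rw [add_smul, hy, hz, add_zero]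

end Groth.Agent.S7039
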