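import Groth.Statements.S7040
import Mathlib.CategoryTheory.Abelian.SerreClass.Basic
import Mathlib.Algebra.Category.ModuleCat.EpiMono
import Mathlib.Algebra.Homology.ShortComplex.ModuleCat
-- import your own Groth.Agent.* helpers here

set_option autoImplicit false
universe u
open CategoryTheory
open LocCoh

namespace Groth.Agent.S7040

/-- For a finitely generated ideal I of a commutative ring R, the property of being an I-power torsion
module (every element killed by a power of I) is a Serre class in the category of R-modules: it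
holds for 0 and is closed under subobjects, quotients and extensions. -/
theorem result {R : Type u} [CommRing R] (I : Ideal R) (hI : I.FG) :
    ObjectProperty.IsSerreClass (C := ModuleCat.{u} R) (fun M => LocCoh.IsPowerTorsion I M) := by
  refine {
    exists_zero := ⟨ModuleCat.of R PUnit, ModuleCat.isZero_of_subsingleton _,
      fun m => ⟨0, fun a _ => Subsingleton.elim _ _⟩⟩,
    prop_of_mono := fun {X Y} f hf hY m => ?_,
    prop_of_epi := fun {X Y} f hf hX y => ?_,
    prop_X₂_of_shortExact := fun {S} hS h1 h3 m => ?_ }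
  · obtain ⟨n, hn⟩ := hY (f.hom m)
    exact ⟨n, fun a ha => (ModuleCat.mono_iff_injective f).1 hf (by rw [map_smul, map_zero, hn a ha])⟩
  · obtain ⟨x, rfl⟩ := (ModuleCat.epi_iff_surjective f).1 hf y
    obtain ⟨n, hn⟩ := hX x
    exact ⟨n, fun a ha => by rw [← map_smul, hn a ha, map_zero]⟩
  · obtain ⟨n, hn⟩ := h3 (S.g.hom m)
    suffices ∃ k, ∀ a ∈ I ^ n, ∀ b ∈ I ^ k, b • a • m = 0 by
      obtain ⟨k, hk⟩ := this
      refine ⟨k + n, fun c hc => ?_⟩
      rw [pow_add] at hc
      refine Submodule.mul_induction_on hc (fun b hb a ha => by rw [mul_smul]; exact hk a ha b hb) ?_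
      intro x y hx hy; rw [add_smul, hx, hy, add_zero]
    obtain ⟨G, hG⟩ := Ideal.FG.pow (n := n) hI
    have hex : ∀ a ∈ I ^ n, ∃ x, S.f.hom x = a • m := fun a ha =>
      (ShortComplex.moduleCat_exact_iff S).1 hS.exact _ (by rw [map_smul, hn a ha])
    let T : Submodule R S.X₂ := LinearMap.range S.f.hom
    have hk : ∀ a ∈ I ^ n, ∃ k, ∀ b ∈ I ^ k, b • a • m = 0 := fun a ha => by
      obtain ⟨x, hx⟩ := hex a ha
      obtain ⟨k, hk⟩ := h1 x
      exact ⟨k, fun b hb => by rw [← hx, ← map_smul, hk b hb, map_zero]⟩
    choose k hk using fun g : {g // g ∈ G} => hk g.1 (hG ▸ Submodule.subset_span g.2)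
    refine ⟨Finset.univ.sup k, fun a ha b hb => ?_⟩
    rw [← hG] at ha
    induction ha using Submodule.span_induction with
    | mem g hg => exact hk ⟨g, hg⟩ b (Ideal.pow_le_pow_right (Finset.le_sup (Finset.mem_univ _)) hb)
    | zero => simp
    | add x y _ _ hx hy => rw [add_smul, smul_add, hx, hy, add_zero]
    | smul r x _ hx => rw [smul_eq_mul, mul_smul, smul_comm b r, hx, smul_zero]

end Groth.Agent.S7040
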