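import Groth.Statements.S7041
-- import your own Groth.Agent.* helpers here

set_option autoImplicit false
universe u
open TensorProduct
open LocCoh

namespace Groth.Agent.S7041

/-- Let R → R' be a homomorphism of commutative rings and I an ideal of R such that the induced map
R/I^n → R'/I^n R' is bijective for every n > 0. Then for every R-module M in which every element is
killed by a power of I, the map M → R' ⊗_R M sending m to 1 ⊗ m is bijective. -/
theorem result {R R' : Type u} [CommRing R] [CommRing R'] [Algebra R R']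
    (I : Ideal R)
    (hq : ∀ n : ℕ, 0 < n → Function.Bijective
      (Ideal.quotientMap (Ideal.map (algebraMap R R') (I ^ n)) (algebraMap R R') Ideal.le_comap_map))
    (M : Type u) [AddCommGroup M] [Module R M] (hM : LocCoh.IsPowerTorsion I M) :
    Function.Bijective (fun m : M => (1 : R') ⊗ₜ[R] m) := by
  have hlift : ∀ (n : ℕ) (r' : R'), ∃ r : R, algebraMap R R' r - r' ∈ Ideal.map (algebraMap R R') (I ^ (n + 1)) := fun n r' => by
    obtain ⟨q, hq'⟩ := (hq (n + 1) n.succ_pos).2 (Ideal.Quotient.mk _ r')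
    obtain ⟨r, rfl⟩ := Ideal.Quotient.mk_surjective q
    exact ⟨r, (Ideal.Quotient.mk_eq_mk_iff_sub_mem _ _).1 (by simpa using hq')⟩
  choose L hL using hlift
  choose N hN using hM
  have hN' : ∀ (m : M) (n : ℕ), N m ≤ n → ∀ a ∈ I ^ n, a • m = 0 := fun m n h a ha => hN m a (Ideal.pow_le_pow_right h ha)
  have hinj : ∀ (n : ℕ) (r : R), algebraMap R R' r ∈ Ideal.map (algebraMap R R') (I ^ (n + 1)) → r ∈ I ^ (n + 1) := fun n r h => by
    have h0 : Ideal.quotientMap (Ideal.map (algebraMap R R') (I ^ (n + 1))) (algebraMap R R') Ideal.le_comap_map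
        (Ideal.Quotient.mk _ r) = 0 := by rw [Ideal.quotientMap_mk]; exact Ideal.Quotient.eq_zero_iff_mem.2 h
    exact Ideal.Quotient.eq_zero_iff_mem.1 ((hq (n + 1) n.succ_pos).1 (h0.trans (map_zero _).symm))
  let g : R' → M → M := fun r' m => L (N m) r' • m
  have hg : ∀ (r' : R') (m : M) (n : ℕ) (r : R), (∀ a ∈ I ^ (n + 1), a • m = 0) →
      algebraMap R R' r - r' ∈ Ideal.map (algebraMap R R') (I ^ (n + 1)) → g r' m = r • m := by
    intro r' m n r hm hr
    set n' := max n (N m)
    have key : ∀ (k : ℕ) (s : R), k ≤ n' → (∀ a ∈ I ^ (k + 1), a • m = 0) →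
        algebraMap R R' s - r' ∈ Ideal.map (algebraMap R R') (I ^ (k + 1)) → s • m = L n' r' • m := by
      intro k s hk hm' hs'
      refine sub_eq_zero.1 ?_
      rw [← sub_smul]
      refine hm' _ (hinj k _ ?_)
      rw [map_sub]
      simpa using sub_mem hs' (Ideal.map_mono (Ideal.pow_le_pow_right (Nat.succ_le_succ hk)) (hL n' r'))
    exact (key (N m) _ (le_max_right _ _) (fun a ha => hN' m _ (Nat.le_succ _) a ha) (hL (N m) r')).trans
      (key n r (le_max_left _ _) hm hr).symm
  have hone : ∀ m, g 1 m = m := fun m =>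
    (hg 1 m (N m) 1 (fun a ha => hN' m _ (Nat.le_succ _) a ha) (by simp)).trans (one_smul R m)
  let B : R' →ₗ[R] M →ₗ[R] M := LinearMap.mk₂ R g
    (fun a b m => by
      rw [hg (a + b) m (N m) (L (N m) a + L (N m) b) (fun c hc => hN' m _ (Nat.le_succ _) c hc) (by
        rw [map_add, add_sub_add_comm]; exact add_mem (hL _ _) (hL _ _)), add_smul])
    (fun c a m => by
      rw [hg (c • a) m (N m) (c * L (N m) a) (fun d hd => hN' m _ (Nat.le_succ _) d hd) (by
        rw [map_mul, Algebra.smul_def, ← mul_sub]; exact Ideal.mul_mem_left _ _ (hL _ _)), mul_smul])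
    (fun a m₁ m₂ => by
      obtain ⟨n, hn₁, hn₂⟩ : ∃ n, N m₁ ≤ n ∧ N m₂ ≤ n := ⟨max (N m₁) (N m₂), le_max_left _ _, le_max_right _ _⟩
      have h₁ : ∀ d ∈ I ^ (n + 1), d • m₁ = 0 := hN' m₁ _ (hn₁.trans (Nat.le_succ _))
      have h₂ : ∀ d ∈ I ^ (n + 1), d • m₂ = 0 := hN' m₂ _ (hn₂.trans (Nat.le_succ _))
      rw [hg a m₁ n _ h₁ (hL n a), hg a m₂ n _ h₂ (hL n a),
        hg a (m₁ + m₂) n _ (fun d hd => by rw [smul_add, h₁ d hd, h₂ d hd, add_zero]) (hL n a), smul_add])
    (fun c a m => by
      rw [hg a (c • m) (N m) _ (fun d hd => by rw [smul_comm, hN' m _ (Nat.le_succ _) d hd, smul_zero]) (hL (N m) a),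
        smul_comm])
  refine ⟨fun m₁ m₂ h => ?_, fun z => ?_⟩
  · have := congrArg (TensorProduct.lift B) h
    simpa [B, hone] using this
  · induction z using TensorProduct.induction_on with
    | zero => exact ⟨0, TensorProduct.tmul_zero _ _⟩
    | add a b ha hb =>
      obtain ⟨u, hu⟩ := ha; obtain ⟨v, hv⟩ := hb
      exact ⟨u + v, by simp only at hu hv ⊢; rw [TensorProduct.tmul_add, hu, hv]⟩
    | tmul r' m =>
      refine ⟨L (N m) r' • m, ?_⟩
      show (1 : R') ⊗ₜ[R] (L (N m) r' • m) = r' ⊗ₜ[R] m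
      rw [← TensorProduct.smul_tmul, Algebra.smul_def, mul_one, ← sub_eq_zero, ← TensorProduct.sub_tmul]
      have hd := hL (N m) r'
      generalize algebraMap R R' (L (N m) r') - r' = d at hd ⊢
      suffices ∀ e : R', (e * d) ⊗ₜ[R] m = 0 by simpa using this 1
      refine Submodule.span_induction (fun y hy e => ?_) (fun e => by simp)
        (fun y z _ _ hy hz e => by rw [mul_add, TensorProduct.add_tmul, hy, hz, add_zero])
        (fun c y _ hy e => by rw [smul_eq_mul, ← mul_assoc]; exact hy _) hd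
      obtain ⟨a, ha, rfl⟩ := hy
      rw [mul_comm, ← Algebra.smul_def, TensorProduct.smul_tmul, hN' m _ (Nat.le_succ _) a ha, TensorProduct.tmul_zero]

end Groth.Agent.S7041
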