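import Groth.Statements.S7042
import Groth.Agent.DRingComplete.Modules

set_option autoImplicit false
universe u
attribute [local instance] HasDerivedCategory.standard
open DRing

namespace Groth.Agent.S7042

/-- Let I be a finitely generated ideal of a commutative ring A and let M be an A-module which, placed
in degree 0, is derived complete with respect to I, and in which every element is killed by a power
of I. Then a single power of I kills M. -/
theorem result {A : Type u} [CommRing A]
    (I : Ideal A) (hI : I.FG) (M : Type u) [AddCommGroup M] [Module A M]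
    (hc : DRing.IsDerivedComplete I (Dual.inD A M)) (ht : LocCoh.IsPowerTorsion I M) :
    ∃ n : ℕ, I ^ n • (⊤ : Submodule A M) = ⊥ := by
  classical
  have hm := (Groth.Agent.DRingComplete.isDerivedComplete_inD_iff M I).1 hc
  have hf : ∀ f ∈ I, ∃ n, ∀ m : M, f ^ n • m = 0 := fun f hf =>
    Groth.Agent.DRingComplete.exists_pow_smul_eq_zero (hm f hf) fun m => by
      obtain ⟨n, hn⟩ := ht m
      exact ⟨n, hn _ (Ideal.pow_mem_pow hf n)⟩
  have hle : I ≤ (Submodule.annihilator (⊤ : Submodule A M)).radical := fun f hfI => by
    obtain ⟨n, hn⟩ := hf f hfI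
    exact ⟨n, Submodule.mem_annihilator.2 fun m _ => hn m⟩
  obtain ⟨N, hN⟩ := Ideal.exists_pow_le_of_le_radical_of_fg hle hI
  refine ⟨N, le_bot_iff.1 (Submodule.smul_le.2 fun a ha m hm => ?_)⟩
  rw [Submodule.mem_bot]
  exact Submodule.mem_annihilator.1 (hN ha) m hm

end Groth.Agent.S7042
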