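import Groth.Statements.S7046
import Groth.Agent.DRingComplete.Modules

set_option autoImplicit false
universe u
attribute [local instance] HasDerivedCategory.standard
open DRing

namespace Groth.Agent.S7046

/-- A reduced commutative ring A which, placed in degree 0 of D(A), is derived complete with respect to
a finitely generated ideal I is I-adically complete, i.e. separated and complete for the I-adic
topology. -/
theorem result {A : Type u} [CommRing A] [IsReduced A]
    (I : Ideal A) (hI : I.FG) (hc : DRing.IsDerivedComplete I (Dual.inD A A)) :
    IsAdicComplete I A := by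
  have hm := (Groth.Agent.DRingComplete.isDerivedComplete_inD_iff A I).1 hc
  obtain ⟨s, rfl⟩ := hI
  have e : {a : A | a ∈ s.toList} = ↑s := by ext; simp
  have hs : ∀ f ∈ s.toList, Function.Bijective (Groth.Agent.DRingComplete.tel f A) := fun f hf =>
    hm f (Submodule.subset_span (Finset.mem_toList.1 hf))
  have h := Groth.Agent.DRingComplete.iInf_pow_pow_eq_bot s.toList A hs
  rw [e, Algebra.algebraMap_self, Ideal.map_id] at h
  haveI := Groth.Agent.DRingComplete.isPrecomplete_of_bijective s.toList (by rw [e]) hs
  exact { haus' := fun x hx => by
            have hx' : x ∈ ⨅ n : ℕ, Ideal.span (↑s : Set A) ^ n := (Submodule.mem_iInf _).2 fun n => by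
              have := SModEq.zero.1 (hx n)
              rwa [smul_eq_mul, Ideal.mul_top] at this
            have h2 := Ideal.pow_mem_pow hx' (2 ^ s.toList.length)
            rw [h, Ideal.mem_bot] at h2
            exact IsReduced.eq_zero x ⟨_, h2⟩
          prec' := IsPrecomplete.prec' }

end Groth.Agent.S7046
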