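import Groth.Statements.S7052
import Groth.Agent.DRingComplete.Modules

set_option autoImplicit false
universe u
attribute [local instance] HasDerivedCategory.standard
open DRing

namespace Groth.Agent.S7052

/-- For a commutative ring A, an ideal I, an A-module M and a submodule M₁ such that both M₁ and M/M₁
(placed in degree 0) are derived complete with respect to I, the module M is derived complete with
respect to I. -/
theorem result {A : Type u} [CommRing A] (I : Ideal A)
    (M : Type u) [AddCommGroup M] [Module A M] (M₁ : Submodule A M)
    (h1 : DRing.IsDerivedComplete I (Dual.inD A M₁)) (h3 : DRing.IsDerivedComplete I (Dual.inD A (M ⧸ M₁))) :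
    DRing.IsDerivedComplete I (Dual.inD A M) := by
  have hm := (Groth.Agent.DRingComplete.isDerivedComplete_inD_iff M₁ I).1 h1
  have hn := (Groth.Agent.DRingComplete.isDerivedComplete_inD_iff _ I).1 h3
  exact (Groth.Agent.DRingComplete.isDerivedComplete_inD_iff M I).2 fun f hf =>
    Groth.Agent.DRingComplete.bijective_extension M₁ f (hm f hf) (hn f hf)

end Groth.Agent.S7052
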