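import Groth.Statements.S7063
import Mathlib
import Groth.Agent.BLTor.Basic
import Groth.Agent.CAlgH.TorBridge

set_option autoImplicit false
universe u
open EtGlue

namespace Groth.Agent.S7063

/-- For a glueing pair (R → R', f), the group Tor_1^R(R', R/R[f^∞]) vanishes, where R[f^∞] is the
submodule of elements of R killed by a power of f (Tor computed by resolving the second argument). -/
theorem result {R R' : Type u} [CommRing R] [CommRing R']
    [Algebra R R'] (f : R) (h : EtGlue.IsGlueingPair R R' f) :
    Subsingleton (DRing.Tor R 1 R' (R ⧸ DRing.torsionSub (Ideal.span ({f} : Set R)) R)) := by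
  refine ModuleCat.subsingleton_of_isZero
    ((CAlgH.TorBridge.isZero_tor_one_iff (ModuleCat.of R R') (ModuleCat.of R _)).mpr
      (BLTor.torZero_quot_torsion h _ fun r => ?_))
  show (∃ m : ℕ, ∀ a ∈ Ideal.span ({f} : Set R) ^ m, a • r = 0) ↔ _
  refine exists_congr fun m => ?_
  rw [Ideal.span_singleton_pow]
  exact ⟨fun h => h _ (Ideal.mem_span_singleton_self _), fun h a ha => by
    obtain ⟨c, rfl⟩ := Ideal.mem_span_singleton'.mp ha
    rw [smul_eq_mul, mul_assoc, h, mul_zero]⟩

end Groth.Agent.S7063
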