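import Groth.Statements.S7064
import Mathlib
import Groth.Agent.BLTor.Basic
import Groth.Agent.CAlgH.TorBridge

set_option autoImplicit false
universe u
open EtGlue

namespace Groth.Agent.S7064

/-- For a glueing pair (R → R', f) and any R-module M, the group Tor_1^R(R', Coker(M → M_f)) vanishes,
where M_f is the localization of M at the powers of f (Tor computed by resolving the second
argument). -/
theorem result {R R' : Type u} [CommRing R] [CommRing R']
    [Algebra R R'] (f : R) (h : EtGlue.IsGlueingPair R R' f) (M : Type u) [AddCommGroup M] [Module R M] :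
    Subsingleton (DRing.Tor R 1 R'
      (LocalizedModule (Submonoid.powers f) M ⧸
        LinearMap.range (LocalizedModule.mkLinearMap (Submonoid.powers f) M))) := by
  refine ModuleCat.subsingleton_of_isZero
    ((CAlgH.TorBridge.isZero_tor_one_iff (ModuleCat.of R R') (ModuleCat.of R _)).mpr
      (BLTor.torZero_of_torsion (f := f) h fun q => ?_))
  obtain ⟨y, rfl⟩ := Submodule.Quotient.mk_surjective _ q
  obtain ⟨⟨m, s⟩, rfl⟩ := IsLocalizedModule.mk'_surjective (Submonoid.powers f)
    (LocalizedModule.mkLinearMap (Submonoid.powers f) M) y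
  obtain ⟨n, hn⟩ := s.2
  refine ⟨n, ?_⟩
  rw [← Submodule.Quotient.mk_smul, Submodule.Quotient.mk_eq_zero]
  refine ⟨m, ?_⟩
  rw [show f ^ n = (s : R) from hn, Function.uncurry_apply_pair, ← Submonoid.smul_def,
    IsLocalizedModule.mk'_cancel']

end Groth.Agent.S7064
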