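import Groth.Statements.S7065
import Mathlib

set_option autoImplicit false
universe u
open EtGlue

namespace Groth.Agent.S7065

/-- Let R → R' be a homomorphism of commutative rings and f an element of R such that the induced map
R/fR → R'/fR' is bijective. Then Spec(R') ⊔ Spec(R_f) → Spec(R) is surjective: every prime of R is
the contraction of a prime of R' or of a prime of R_f. -/
theorem result {R R' : Type u} [CommRing R] [CommRing R']
    [Algebra R R'] (f : R)
    (hq : Function.Bijective
      (Ideal.quotientMap (Ideal.map (algebraMap R R') (Ideal.span {f})) (algebraMap R R') Ideal.le_comap_map))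
    (p : PrimeSpectrum R) :
    (∃ q : PrimeSpectrum R', PrimeSpectrum.comap (algebraMap R R') q = p) ∨
      ∃ q : PrimeSpectrum (Localization.Away f), PrimeSpectrum.comap (algebraMap R (Localization.Away f)) q = p := by
  by_cases hf : f ∈ p.asIdeal
  · left
    let J := Ideal.span {f}
    let e := RingEquiv.ofBijective _ hq
    have hJp : J ≤ p.asIdeal := (Ideal.span_singleton_le_iff_mem _).mpr hf
    haveI : (p.asIdeal.map (Ideal.Quotient.mk J)).IsPrime :=
      Ideal.map_isPrime_of_surjective Ideal.Quotient.mk_surjective (by rwa [Ideal.mk_ker])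
    refine ⟨⟨((p.asIdeal.map (Ideal.Quotient.mk J)).comap e.symm.toRingHom).comap (Ideal.Quotient.mk _), inferInstance⟩, PrimeSpectrum.ext ?_⟩
    ext x
    simp only [PrimeSpectrum.comap_asIdeal, Ideal.mem_comap]
    have h1 : e.symm.toRingHom (Ideal.Quotient.mk (J.map (algebraMap R R')) (algebraMap R R' x)) = Ideal.Quotient.mk J x := by
      apply e.injective
      rw [RingEquiv.toRingHom_eq_coe, RingEquiv.coe_toRingHom, RingEquiv.apply_symm_apply]
      rfl
    rw [h1, ← Ideal.mem_comap, Ideal.comap_map_of_surjective _ Ideal.Quotient.mk_surjective, ← RingHom.ker_eq_comap_bot,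
      Ideal.mk_ker, sup_eq_left.mpr hJp]
  · right
    have hd : Disjoint ((Submonoid.powers f : Submonoid R) : Set R) p.asIdeal := by
      rw [Set.disjoint_left]
      rintro _ ⟨n, rfl⟩ hx
      exact hf (p.isPrime.mem_of_pow_mem n hx)
    exact ⟨⟨p.asIdeal.map (algebraMap R (Localization.Away f)), IsLocalization.isPrime_of_isPrime_disjoint (Submonoid.powers f) _ _ p.isPrime hd⟩,
      PrimeSpectrum.ext (IsLocalization.comap_map_of_isPrime_disjoint (Submonoid.powers f) _ p.isPrime hd)⟩

end Groth.Agent.S7065
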