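import Groth.Statements.S7066
import Groth.Agent.PerfHom.Basic
import Groth.Agent.DRingTorAmp.Triangle


set_option autoImplicit false
universe u
attribute [local instance] HasDerivedCategory.standard
open MoreMor

namespace Groth.Agent.S7066

/-- A homomorphism of commutative rings A → B is perfect, i.e. pseudo-coherent with B of finite tor
dimension as an A-module, if and only if B is a quotient of a polynomial ring A[x_1, …, x_n] over
which B is a perfect module, i.e. B placed in degree 0 is isomorphic in the derived category of the
polynomial ring to a bounded complex of finite projective modules. -/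
theorem result (A B : Type u) [CommRing A] [CommRing B] [Algebra A B] :
    MoreMor.IsPerfectHom A B ↔
      ∃ (n : ℕ) (φ : MvPolynomial (Fin n) A →ₐ[A] B), Function.Surjective φ ∧
        letI := φ.toRingHom.toAlgebra
        DRing.IsPerfectModule (MvPolynomial (Fin n) A) B := by
  constructor
  · rintro ⟨⟨n, φ, hφ, hpc⟩, d, hd⟩
    letI := φ.toRingHom.toAlgebra
    haveI : IsScalarTower A (MvPolynomial (Fin n) A) B := IsScalarTower.of_algebraMap_eq' φ.comp_algebraMap.symm
    exact ⟨n, φ, hφ, Groth.Agent.PerfHom.isPerfectModule_of_torDim d B hpc hd⟩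
  · rintro ⟨n, φ, hφ, h⟩
    letI := φ.toRingHom.toAlgebra
    haveI : IsScalarTower A (MvPolynomial (Fin n) A) B := IsScalarTower.of_algebraMap_eq' φ.comp_algebraMap.symm
    exact ⟨⟨n, φ, hφ, ((Groth.Agent.DRingTorAmp.isPerfect_iff _).1 h).1⟩,
      Groth.Agent.PerfHom.hasFiniteTorDim_of_perfect (B := MvPolynomial (Fin n) A) h⟩

end Groth.Agent.S7066
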