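import Groth.Statements.S7069
import Groth.Agent.PerfHom.Basic
import Groth.Agent.DRingTorAmp.Triangle


set_option autoImplicit false
universe u
attribute [local instance] HasDerivedCategory.standard
open MoreMor

namespace Groth.Agent.S7069

/-- A finite type homomorphism of commutative rings A → B, where A is a regular ring of finite Krull
dimension, is perfect: pseudo-coherent with B of finite tor dimension as an A-module. -/
theorem result (A B : Type u) [CommRing A] [CommRing B] [Algebra A B]
    [IsRegularRing A] (hdim : ringKrullDim A < ⊤) [Algebra.FiniteType A B] : MoreMor.IsPerfectHom A B := by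
  obtain ⟨n, φ, hφ⟩ := Algebra.FiniteType.iff_quotient_mvPolynomial''.1 (inferInstance : Algebra.FiniteType A B)
  letI := φ.toRingHom.toAlgebra
  haveI : IsScalarTower A (MvPolynomial (Fin n) A) B := IsScalarTower.of_algebraMap_eq' φ.comp_algebraMap.symm
  haveI : Module.Finite (MvPolynomial (Fin n) A) B :=
    Module.Finite.of_surjective (Algebra.linearMap (MvPolynomial (Fin n) A) B) hφ
  have h : DRing.IsPerfectModule (MvPolynomial (Fin n) A) B :=
    Groth.Agent.DRingAmp.isPerfectModule_of_regular
      (fun p => IsRegularRing.isRegularLocalRing_localization p.asIdeal) B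
  exact ⟨⟨n, φ, hφ, ((Groth.Agent.DRingTorAmp.isPerfect_iff _).1 h).1⟩,
    Groth.Agent.PerfHom.hasFiniteTorDim_of_perfect (B := MvPolynomial (Fin n) A) h⟩

end Groth.Agent.S7069
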