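import Groth.Statements.S7082
import Groth.Agent.DRingTwoTerm.Crit

set_option autoImplicit false
universe u
attribute [local instance] HasDerivedCategory.standard
open CategoryTheory
open DRing

namespace Groth.Agent.S7082

/-- (1)⇔(3): let R be a commutative ring, I an ideal and K an object of D(R) whose cohomology vanishes
outside degrees -1 and 0. Then I annihilates Ext^1_R(K, N) = Hom_{D(R)}(K, N[1]) for every R-module
N if and only if, for every two-term complex E in degrees -1 and 0 with E^0 projective that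
represents K, and every a in I, multiplication by a on E^{-1} factors through the differential
E^{-1} → E^0. -/
theorem result {R : Type u} [CommRing R] (I : Ideal R) (K : Dual.D R)
    (hK : ∀ i : ℤ, i ≠ -1 → i ≠ 0 → Subsingleton (Dual.HD R K i)) :
    (∀ (N : Type u) [AddCommGroup N] [Module R N] (a : R), a ∈ I →
        ∀ ξ : K ⟶ (Dual.inD R N)⟦(1 : ℤ)⟧, a • ξ = 0) ↔
      ∀ (E : DRing.Cx R), DRing.VanishesOutside E (-1) 0 → Module.Projective R (E.X 0) →
        Nonempty (DRing.toD E ≅ K) → ∀ a : R, a ∈ I →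
          ∃ h : E.X 0 ⟶ E.X (-1), E.d (-1) 0 ≫ h = a • 𝟙 (E.X (-1)) := by
  constructor
  · intro H E hE hP ⟨e⟩ a ha
    haveI := hP
    obtain ⟨h, hh⟩ := (DRingTwoTerm.kills_iff hE a).1 (DRingTwoTerm.kills_of_iso e.symm fun N _ _ ξ => H N a ha ξ)
    exact ⟨ModuleCat.ofHom h, ModuleCat.hom_ext (LinearMap.ext fun x => hh x)⟩
  · intro H N _ _ a ha ξ
    obtain ⟨E, hE, hP, he, hiff⟩ := DRingTwoTerm.exists_rep_kills K hK
    obtain ⟨h, hh⟩ := H E hE hP he a ha
    exact (hiff a).2 ⟨h.hom, fun x => congrArg (fun t => t.hom x) hh⟩ N ξ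

end Groth.Agent.S7082
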