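import Groth.Statements.S7084
import Groth.Agent.DRingComplete.Nakayama
-- import your own Groth.Agent.* helpers here

set_option autoImplicit false
universe u
attribute [local instance] HasDerivedCategory.standard
open CategoryTheory
open LocCoh

namespace Groth.Agent.S7084

/-- Parts (1)–(2) in the case of a module killed by a power of the ideal: let R be a commutative ring, I
an ideal and K an object of D(R) such that K ⊗^L_R R/I has no cohomology in positive degrees. Then
for every R-module N annihilated by some power of I, K ⊗^L_R N has no cohomology in positive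
degrees. (The published statement allows any I-power torsion module N; this row takes N annihilated
by a single power of I, the case the published argument carries out in full, which contains the case
N = R/I^n.) The derived tensor products with modules are total left derived functors, assumed to
exist. -/
theorem result {R : Type u} [CommRing R] (I : Ideal R)
    [DRing.HasLTensor R (ModuleCat.of R (R ⧸ I))] (K : Dual.D R)
    (hK : ∀ i : ℤ, 0 < i → Subsingleton (Dual.HD R ((DRing.LTensor R (ModuleCat.of R (R ⧸ I))).obj K) i))
    (N : Type u) [AddCommGroup N] [Module R N] (n : ℕ) (hN : I ^ n • (⊤ : Submodule R N) = ⊥)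
    [DRing.HasLTensor R (ModuleCat.of R N)] (i : ℤ) (hi : 0 < i) :
    Subsingleton (Dual.HD R ((DRing.LTensor R (ModuleCat.of R N)).obj K) i) := by
  open DRingComplete DRingKFlat DRingTorAmp DRingKProj in
  obtain ⟨P, hP, hflat, ⟨e⟩⟩ := exists_flat_rep K
  have hq : ∀ j : ℤ, 0 < j → (DRing.tensorCx P (ModuleCat.of R (R ⧸ I))).ExactAt j :=
    fun j hj => (subsingleton_lTensor_iff _ hP e j).1 (hK j hj)
  suffices H : ∀ (m : ℕ) (V : ModuleCat.{u} R), I ^ m • (⊤ : Submodule R V) = ⊥ → ∀ j : ℤ, 0 < j →
      (DRing.tensorCx P V).ExactAt j from
    (subsingleton_lTensor_iff _ hP e i).2 (H n (ModuleCat.of R N) hN i hi)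
  intro m
  induction m with
  | zero =>
    intro V hV j hj
    rw [HomologicalComplex.exactAt_iff]
    refine ShortComplex.exact_of_isZero_X₂ _ ?_
    have hs : Subsingleton V := (Submodule.subsingleton_iff R).1 (subsingleton_of_bot_eq_top (by
      simpa using hV.symm))
    exact ModuleCat.isZero_of_iff_subsingleton.2 (subsingleton_of_forall_eq 0 fun z => by
      induction z with
      | zero => rfl
      | tmul x v => rw [hs.elim v 0, TensorProduct.tmul_zero]
      | add a b ha hb => rw [ha, hb, add_zero])
  | succ m ih =>
    intro V hV j hj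
    let W : Submodule R V := I ^ m • ⊤
    have hIW : I • W = ⊥ := by rw [← Submodule.mul_smul, ← pow_succ']; exact hV
    have hW : Module.IsTorsionBySet R W I := fun x a => Subtype.ext (by
      have : a.1 • x.1 ∈ I • W := Submodule.smul_mem_smul a.2 x.2
      rw [hIW] at this
      exact (Submodule.mem_bot R).1 this)
    have hQ : I ^ m • (⊤ : Submodule R (V ⧸ W)) = ⊥ := by
      rw [← Submodule.range_mkQ W, ← Submodule.map_top, ← Submodule.map_smul'', Submodule.mkQ_map_self]
    obtain ⟨h0, hS⟩ := DRingComplete.tenMap_shortExact hflat (N₁ := ModuleCat.of R W) (N₂ := V)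
      (N₃ := ModuleCat.of R (V ⧸ W)) (ModuleCat.ofHom W.subtype) (ModuleCat.ofHom W.mkQ)
      W.injective_subtype (LinearMap.exact_subtype_mkQ W) W.mkQ_surjective
    rw [HomologicalComplex.exactAt_iff_isZero_homology]
    exact (hS.homology_exact₂ j).isZero_of_both_zeros
      ((((HomologicalComplex.exactAt_iff_isZero_homology _ _).1
        (DRingComplete.exactAt_tensor_of_torsion I hP hq (ModuleCat.of R W) hW j hj))).eq_of_src _ _)
      ((((HomologicalComplex.exactAt_iff_isZero_homology _ _).1
        (ih (ModuleCat.of R (V ⧸ W)) hQ j hj))).eq_of_tgt _ _)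

end Groth.Agent.S7084
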