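import Groth.Statements.S7085
-- import your own Groth.Agent.* helpers here

set_option autoImplicit false
universe u
open LocCoh

namespace Groth.Agent.S7085

/-- Let R be a commutative ring, I an ideal generated by finitely many elements f_1, …, f_t, and M an
R-module. Then: M has no nonzero element killed by I if and only if it has no nonzero element killed
by I^n for every n ≥ 1; and M has no nonzero element killed by I if and only if an element of M
vanishing in every localization M_{f_i} is zero. -/
theorem result {R : Type u} [CommRing R] {t : ℕ} (f : Fin t → R)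
    (I : Ideal R) (hI : Ideal.span (Set.range f) = I) (M : Type u) [AddCommGroup M] [Module R M] :
    (LocCoh.torsionBy I M = ⊥ ↔ ∀ n : ℕ, 1 ≤ n → LocCoh.torsionBy (I ^ n) M = ⊥) ∧
    (LocCoh.torsionBy I M = ⊥ ↔
      ∀ m : M, (∀ i : Fin t, LocalizedModule.mkLinearMap (Submonoid.powers (f i)) M m = 0) → m = 0) := by
  have key : ∀ (J : Ideal R) (m : M), m ∈ LocCoh.torsionBy J M ↔ ∀ a ∈ J, a • m = 0 := fun J m => by
    rw [Submodule.mem_torsionBySet_iff]; exact ⟨fun h a ha => h ⟨a, ha⟩, fun h a => h a a.2⟩
  have h1 : LocCoh.torsionBy I M = ⊥ → ∀ n : ℕ, ∀ m : M, (∀ a ∈ I ^ n, a • m = 0) → m = 0 := by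
    intro h n
    induction n with
    | zero => intro m hm; rw [← one_smul R m]; exact hm 1 (by simp)
    | succ k ih =>
      intro m hm
      refine ih m fun a ha => ?_
      have : a • m ∈ LocCoh.torsionBy I M := (key I _).2 fun b hb => by
        rw [smul_smul]; exact hm _ (by rw [pow_succ']; exact Ideal.mul_mem_mul hb ha)
      rwa [h, Submodule.mem_bot] at this
  refine ⟨⟨fun h n _ => eq_bot_iff.2 fun m hm => (Submodule.mem_bot R).2 (h1 h n m ((key _ m).1 hm)),
    fun h => by simpa using h 1 le_rfl⟩, ⟨fun h m hm => ?_, fun h => ?_⟩⟩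
  · choose e he using fun i => (LocalizedModule.mem_ker_mkLinearMap_iff.1 (LinearMap.mem_ker.2 (hm i)))
    choose k hk using fun i => (he i).1
    let J : Ideal R := (Submodule.span R {m}).annihilator
    have hJ : I ≤ J.radical := by
      rw [← hI, Ideal.span_le]
      rintro _ ⟨i, rfl⟩
      refine ⟨k i, ?_⟩
      rw [Submodule.mem_annihilator_span_singleton]
      rw [show f i ^ k i = e i from hk i]
      exact (he i).2
    obtain ⟨N, hN⟩ := Ideal.exists_pow_le_of_le_radical_of_fg hJ (hI ▸ Submodule.fg_span (Set.finite_range f))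
    exact h1 h N m fun a ha => (Submodule.mem_annihilator_span_singleton _ _).1 (hN ha)
  · rw [eq_bot_iff]
    intro m hm
    refine (Submodule.mem_bot R).2 (h m fun i => LinearMap.mem_ker.1 (LocalizedModule.mem_ker_mkLinearMap_iff.2
      ⟨f i, Submonoid.mem_powers _, (key I m).1 hm _ (hI ▸ Ideal.subset_span ⟨i, rfl⟩)⟩))

end Groth.Agent.S7085
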