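import Groth.Statements.S7090
import Mathlib
import Groth.Agent.FlatGlue.Cech

set_option autoImplicit false
universe u
open TensorProduct
open EtAlg

namespace Groth.Agent.S7090

/-- Let R → S be a flat homomorphism of commutative rings and I = (f_1, …, f_t) a finitely generated
ideal such that R/I → S/IS is bijective. Then for every R-module M the glueing complex 0 → M → (S
⊗_R M) × ∏ M_{f_i} → ∏ (S ⊗_R M)_{f_i} × ∏ M_{f_i f_j} is exact. Concretely: an element of M with
zero image in S ⊗_R M and in every M_{f_i} is zero; and given x in S ⊗_R M and elements m_1, …, m_t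
of M and N ≥ 0 such that x and m_i / f_i^N have the same image in (S ⊗_R M)_{f_i} for each i, and
m_i / f_i^N, m_j / f_j^N have the same image in M_{f_i f_j} for all i, j, there is m in M with 1 ⊗ m
= x and m / 1 = m_i / f_i^N in M_{f_i} for every i. -/
theorem result {R S : Type u} [CommRing R] [CommRing S] [Algebra R S] [Module.Flat R S]
    {t : ℕ} (f : Fin t → R) (I : Ideal R) (hI : Ideal.span (Set.range f) = I)
    (hq : Function.Bijective
      (Ideal.quotientMap (Ideal.map (algebraMap R S) I) (algebraMap R S) Ideal.le_comap_map))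
    (M : Type u) [AddCommGroup M] [Module R M] :
    (∀ m : M, (1 : S) ⊗ₜ[R] m = 0 →
        (∀ i : Fin t, LocalizedModule.mkLinearMap (Submonoid.powers (f i)) M m = 0) → m = 0) ∧
    ∀ (x : S ⊗[R] M) (N : ℕ) (m : Fin t → M),
      (∀ i : Fin t, EtGlue.locOfTensor R S (f i) M x =
          EtGlue.tensorOfLoc R S (f i) M (LocalizedModule.mk (m i) ⟨f i ^ N, Submonoid.pow_mem _ (Submonoid.mem_powers (f i)) N⟩)) →
      (∀ i j : Fin t, ∃ e : ℕ, (f i * f j) ^ e • (f j ^ N • m i - f i ^ N • m j) = 0) →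
        ∃ μ : M, (1 : S) ⊗ₜ[R] μ = x ∧
          ∀ i : Fin t, LocalizedModule.mkLinearMap (Submonoid.powers (f i)) M μ =
            LocalizedModule.mk (m i) ⟨f i ^ N, Submonoid.pow_mem _ (Submonoid.mem_powers (f i)) N⟩ := by
  refine ⟨fun m h1 h2 => FlatGlue.eq_zero f hI hq h1 (funext h2), fun x N m hx hm => ?_⟩
  let c : Π i, FlatGlue.Lf f M i := fun i =>
    LocalizedModule.mk (m i) ⟨f i ^ N, Submonoid.pow_mem _ (Submonoid.mem_powers (f i)) N⟩
  have hci : ∀ i, f i ^ N • c i = FlatGlue.mk₁ f M i (m i) := fun i =>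
    (LocalizedModule.smul'_mk _ _ _).trans
      (LocalizedModule.mk_cancel (⟨f i ^ N, Submonoid.pow_mem _ (Submonoid.mem_powers (f i)) N⟩ : Submonoid.powers (f i)) (m i))
  have hc : FlatGlue.d₁ f M c = 0 := by
    refine funext fun p => sub_eq_zero.mpr ?_
    obtain ⟨i, j⟩ := p
    obtain ⟨e, he⟩ := hm i j
    have h1 : FlatGlue.mk₂ f M (i, j) (f j ^ N • m i) = FlatGlue.mk₂ f M (i, j) (f i ^ N • m j) :=
      (IsLocalizedModule.eq_iff_exists (Submonoid.powers (f i * f j)) _).mpr
        ⟨⟨_, e, rfl⟩, by rw [← sub_eq_zero, ← smul_sub]; exact he⟩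
    have hu : Function.Bijective (algebraMap R (Module.End R (FlatGlue.Lf₂ f M (i, j))) ((f i * f j) ^ N)) :=
      (Module.End.isUnit_iff _).mp (IsLocalizedModule.map_units (FlatGlue.mk₂ f M (i, j))
        (⟨_, N, rfl⟩ : Submonoid.powers (f i * f j)))
    apply hu.1
    show (f i * f j) ^ N • FlatGlue.resL f M (i, j) (c i) = (f i * f j) ^ N • FlatGlue.resR f M (i, j) (c j)
    have e1 : (f i * f j) ^ N • c i = FlatGlue.mk₁ f M i (f j ^ N • m i) := by
      rw [map_smul, ← hci, smul_smul, mul_pow, mul_comm (f j ^ N)]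
    have e2 : (f i * f j) ^ N • c j = FlatGlue.mk₁ f M j (f i ^ N • m j) := by
      rw [map_smul, ← hci, smul_smul, mul_pow]
    rw [← map_smul, ← map_smul, e1, e2]
    exact (FlatGlue.resL_mk f M (i, j) _).trans (h1.trans (FlatGlue.resR_mk f M (i, j) _).symm)
  obtain ⟨μ, h1, h2⟩ := FlatGlue.exists_eq f hI hq x c hc fun i => by
    let φ := IsLocalizedModule.linearEquiv (Submonoid.powers (f i))
      (LocalizedModule.mkLinearMap (Submonoid.powers (f i)) (S ⊗[R] M)) (FlatGlue.ell S f M i)
    have h3 : φ.toLinearMap ∘ₗ EtGlue.tensorOfLoc R S (f i) M = TensorProduct.mk R S (FlatGlue.Lf f M i) 1 := by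
      refine IsLocalizedModule.linearMap_ext (Submonoid.powers (f i)) (FlatGlue.mk₁ f M i) (FlatGlue.ell S f M i)
        (LinearMap.ext fun n => ?_)
      simp only [LinearMap.comp_apply, LinearEquiv.coe_coe, TensorProduct.mk_apply]
      rw [EtGlue.tensorOfLoc, IsLocalizedModule.map_apply, IsLocalizedModule.linearEquiv_apply]
      rfl
    rw [← IsLocalizedModule.linearEquiv_apply (Submonoid.powers (f i))
      (LocalizedModule.mkLinearMap (Submonoid.powers (f i)) (S ⊗[R] M)) (FlatGlue.ell S f M i) x]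
    exact (congrArg φ (hx i)).trans (LinearMap.congr_fun h3 (c i))
  exact ⟨μ, h1, congrFun h2⟩

end Groth.Agent.S7090
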