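import Groth.Statements.S7091
import Groth.Agent.DRingComplete.Completion

set_option autoImplicit false
set_option linter.style.haveILetI false
universe u
attribute [local instance] HasDerivedCategory.standard
open CategoryTheory
open DRing

namespace Groth.Agent.S7091

/-- Let A be a commutative ring, I a finitely generated ideal, and assume the derived completion functor
(left adjoint to the inclusion of derived complete objects) exists. If a morphism K → L in D(A)
induces isomorphisms on cohomology in degrees ≥ 1 and a surjection in degree 0, then so does the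
induced morphism between the derived completions. -/
theorem result {A : Type u} [CommRing A] (I : Ideal A) (hI : I.FG)
    [DRing.HasDerivedCompletion I] {K L : Dual.D A} (φ : K ⟶ L)
    (hiso : ∀ i : ℤ, 1 ≤ i → IsIso ((DerivedCategory.homologyFunctor (ModuleCat.{u} A) i).map φ))
    (hepi : Epi ((DerivedCategory.homologyFunctor (ModuleCat.{u} A) 0).map φ)) :
    (∀ i : ℤ, 1 ≤ i → IsIso ((DerivedCategory.homologyFunctor (ModuleCat.{u} A) i).map
        ((DRing.derivedCompletion I).map φ).hom)) ∧
      Epi ((DerivedCategory.homologyFunctor (ModuleCat.{u} A) 0).map ((DRing.derivedCompletion I).map φ).hom) := by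
  obtain ⟨s, hs⟩ := hI
  obtain ⟨C, C', a, b, a', b', hT, hT', hv⟩ := Groth.Agent.DRingComplete.exists_cone_vanish s hs φ
  have hC : ∀ i : ℤ, 0 ≤ i → Subsingleton (Dual.HD A C i) := fun i hi => by
    haveI h1 : Mono ((DerivedCategory.homologyFunctor (ModuleCat.{u} A) (i + 1)).map φ) := by
      haveI := hiso (i + 1) (by omega); infer_instance
    haveI h0 : Epi ((DerivedCategory.homologyFunctor (ModuleCat.{u} A) i).map φ) := by
      rcases eq_or_lt_of_le hi with rfl | h
      · exact hepi
      · haveI := hiso i (by omega); infer_instance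
    have ha0 := (DerivedCategory.HomologySequence.epi_homologyMap_mor₁_iff _ hT i).1 h0
    have hd0 := (DerivedCategory.HomologySequence.mono_homologyMap_mor₁_iff _ hT i (i + 1) rfl).1 h1
    haveI : Epi ((DerivedCategory.homologyFunctor (ModuleCat.{u} A) i).map a) :=
      (DerivedCategory.HomologySequence.epi_homologyMap_mor₂_iff _ hT i (i + 1) rfl).2 hd0
    exact ModuleCat.subsingleton_of_isZero
      (Limits.IsZero.of_epi_eq_zero ((DerivedCategory.homologyFunctor (ModuleCat.{u} A) i).map a) ha0)
  have hC' : ∀ i : ℤ, 0 ≤ i → Limits.IsZero ((DerivedCategory.homologyFunctor (ModuleCat.{u} A) i).obj C') :=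
    fun i hi => by
      haveI : Subsingleton ((DerivedCategory.homologyFunctor (ModuleCat.{u} A) i).obj C') :=
        hv i fun j h1 _ => hC j (by omega)
      exact ModuleCat.isZero_of_subsingleton _
  have hE : ∀ i : ℤ, 0 ≤ i → Epi ((DerivedCategory.homologyFunctor (ModuleCat.{u} A) i).map
      ((DRing.derivedCompletion I).map φ).hom) := fun i hi =>
    (DerivedCategory.HomologySequence.epi_homologyMap_mor₁_iff _ hT' i).2 ((hC' i hi).eq_of_tgt _ _)
  refine ⟨fun i hi => ?_, hE 0 le_rfl⟩
  haveI := hE i (by omega)
  haveI : Mono ((DerivedCategory.homologyFunctor (ModuleCat.{u} A) i).map ((DRing.derivedCompletion I).map φ).hom) :=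
    (DerivedCategory.HomologySequence.mono_homologyMap_mor₁_iff _ hT' (i - 1) i (by omega)).2
      ((hC' (i - 1) (by omega)).eq_of_src _ _)
  exact isIso_of_mono_of_epi _

end Groth.Agent.S7091
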