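import Groth.Statements.S7092
import Groth.Agent.DRingComplete.Completion

set_option autoImplicit false
set_option linter.style.haveILetI false
universe u
attribute [local instance] HasDerivedCategory.standard
open CategoryTheory
open DRing

namespace Groth.Agent.S7092

/-- Let A be a commutative ring, I an ideal generated by a finite set of r elements, and assume the
derived completion functor exists. If a morphism K → L in D(A) induces isomorphisms on cohomology in
degrees ≤ -1 and an injection in degree 0, then the induced morphism of derived completions induces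
isomorphisms on cohomology in degrees ≤ -r-1 and an injection in degree -r. -/
theorem result {A : Type u} [CommRing A] (I : Ideal A) (s : Finset A)
    (hs : Ideal.span (s : Set A) = I) [DRing.HasDerivedCompletion I] {K L : Dual.D A} (φ : K ⟶ L)
    (hiso : ∀ i : ℤ, i ≤ -1 → IsIso ((DerivedCategory.homologyFunctor (ModuleCat.{u} A) i).map φ))
    (hmono : Mono ((DerivedCategory.homologyFunctor (ModuleCat.{u} A) 0).map φ)) :
    (∀ i : ℤ, i ≤ -(s.card : ℤ) - 1 → IsIso ((DerivedCategory.homologyFunctor (ModuleCat.{u} A) i).map
        ((DRing.derivedCompletion I).map φ).hom)) ∧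
      Mono ((DerivedCategory.homologyFunctor (ModuleCat.{u} A) (-(s.card : ℤ))).map
        ((DRing.derivedCompletion I).map φ).hom) := by
  obtain ⟨C, C', a, b, a', b', hT, hT', hv⟩ := Groth.Agent.DRingComplete.exists_cone_vanish s hs φ
  have hC : ∀ i : ℤ, i ≤ -1 → Subsingleton (Dual.HD A C i) := fun i hi => by
    haveI h1 : Mono ((DerivedCategory.homologyFunctor (ModuleCat.{u} A) (i + 1)).map φ) := by
      rcases eq_or_lt_of_le hi with rfl | h
      · exact hmono
      · haveI := hiso (i + 1) (by omega); infer_instance
    haveI h0 : Epi ((DerivedCategory.homologyFunctor (ModuleCat.{u} A) i).map φ) := by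
      haveI := hiso i hi; infer_instance
    have ha0 := (DerivedCategory.HomologySequence.epi_homologyMap_mor₁_iff _ hT i).1 h0
    have hd0 := (DerivedCategory.HomologySequence.mono_homologyMap_mor₁_iff _ hT i (i + 1) rfl).1 h1
    haveI : Epi ((DerivedCategory.homologyFunctor (ModuleCat.{u} A) i).map a) :=
      (DerivedCategory.HomologySequence.epi_homologyMap_mor₂_iff _ hT i (i + 1) rfl).2 hd0
    exact ModuleCat.subsingleton_of_isZero
      (Limits.IsZero.of_epi_eq_zero ((DerivedCategory.homologyFunctor (ModuleCat.{u} A) i).map a) ha0)
  have hC' : ∀ i : ℤ, i + s.card ≤ -1 →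
      Limits.IsZero ((DerivedCategory.homologyFunctor (ModuleCat.{u} A) i).obj C') := fun i hi => by
      haveI : Subsingleton ((DerivedCategory.homologyFunctor (ModuleCat.{u} A) i).obj C') :=
        hv i fun j _ h2 => hC j (by omega)
      exact ModuleCat.isZero_of_subsingleton _
  have hM : ∀ i : ℤ, i ≤ -(s.card : ℤ) → Mono ((DerivedCategory.homologyFunctor (ModuleCat.{u} A) i).map
      ((DRing.derivedCompletion I).map φ).hom) := fun i hi =>
    (DerivedCategory.HomologySequence.mono_homologyMap_mor₁_iff _ hT' (i - 1) i (by omega)).2
      ((hC' (i - 1) (by omega)).eq_of_src _ _)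
  refine ⟨fun i hi => ?_, hM _ le_rfl⟩
  haveI := hM i (by omega)
  haveI : Epi ((DerivedCategory.homologyFunctor (ModuleCat.{u} A) i).map ((DRing.derivedCompletion I).map φ).hom) :=
    (DerivedCategory.HomologySequence.epi_homologyMap_mor₁_iff _ hT' i).2 ((hC' i (by omega)).eq_of_tgt _ _)
  exact isIso_of_mono_of_epi _

end Groth.Agent.S7092
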