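import Groth.Statements.S7098
import Groth.Agent.DRingComplete.Orth
import Groth.Agent.DerCat.Devissage

set_option autoImplicit false
universe u
attribute [local instance] HasDerivedCategory.standard
open DRing

namespace Groth.Agent.S7098

open CategoryTheory

/-- (1)⇔(2): let A be a commutative ring, f an element of A and K an object of D(A). Then every morphism
A_f[0] → K[n] vanishes for every integer n if and only if every morphism E → K vanishes for every
object E of D(A) obtained by restriction of scalars from D(A_f). -/
theorem result {A : Type u} [CommRing A] (f : A)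
    (K : Dual.D A) :
    (∀ n : ℤ, Subsingleton (Dual.inD A (Localization.Away f) ⟶ K⟦n⟧)) ↔
      ∀ E : Dual.D (Localization.Away f),
        Subsingleton ((DRing.restrictD (algebraMap A (Localization.Away f))).obj E ⟶ K) := by
  constructor
  · intro h E
    let φ := algebraMap A (Localization.Away f)
    let E₀ := DerivedCategory.Q.objPreimage E
    let C := (ModuleCat.restrictScalars.{u} φ).mapHomologicalComplex (ComplexShape.up ℤ) |>.obj E₀
    haveI : IsIso (f • 𝟙 (DRing.toD C)) := by
      refine DRingComplete.isIso_smul_toD f C fun i => ?_
      obtain ⟨v, hv⟩ := IsLocalization.Away.algebraMap_isUnit (S := Localization.Away f) f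
      show Function.Bijective fun x : E₀.X i => φ f • x
      rw [show φ f = (v : Localization.Away f) from hv.symm]
      exact MulAction.bijective v
    haveI := DRingComplete.isIso_smul_of_iso f (X := DRing.toD C) (Y := (DRing.restrictD φ).obj E)
      (((ModuleCat.restrictScalars.{u} φ).mapDerivedCategoryFactors.app E₀).symm ≪≫
        (DRing.restrictD φ).mapIso (DerivedCategory.Q.objObjPreimageIso E))
    exact DRingComplete.subsingleton_hom_of_isIso_smul f _ K ((DRingComplete.subsingleton_hom_away_iff f K).1 h)
  · intro h n
    let φ := algebraMap A (Localization.Away f)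
    let L := Localization.Away f
    have hm : Module.compHom L φ = (Algebra.toModule : Module A L) :=
      Module.ext (funext fun r => funext fun x => (Algebra.smul_def r x).symm)
    let e₀ : (ModuleCat.restrictScalars.{u} φ).obj (ModuleCat.of L L) ≅ ModuleCat.of A L :=
      eqToIso (congrArg (fun i => @ModuleCat.of A _ L _ i) hm)
    let e : (DRing.restrictD φ).obj ((Dual.inD L L)⟦-n⟧) ≅ (Dual.inD A L)⟦-n⟧ :=
      ((DRing.restrictD φ).commShiftIso (-n)).app (Dual.inD L L) ≪≫
        (shiftFunctor (Dual.D A) (-n)).mapIso
          (((ModuleCat.restrictScalars.{u} φ).mapDerivedCategorySingleFunctor 0).app (ModuleCat.of L L) ≪≫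
            (DerivedCategory.singleFunctor (ModuleCat.{u} A) 0).mapIso e₀)
    haveI := h ((Dual.inD L L)⟦-n⟧)
    have hsub : Subsingleton ((Dual.inD A (Localization.Away f))⟦-n⟧ ⟶ (𝟭 (Dual.D A)).obj K) := (Iso.homCongr e (Iso.refl K)).symm.subsingleton
    refine ⟨fun a b => (shiftFunctor (Dual.D A) (-n)).map_injective ?_⟩
    refine (cancel_mono ((shiftFunctorCompIsoId (Dual.D A) n (-n) (add_neg_cancel n)).hom.app K)).1 ?_
    refine @Subsingleton.elim _ ?_ _ _
    exact hsub

end Groth.Agent.S7098
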