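import Groth.Statements.S7106
import Groth.Agent.DRingTwoTerm.Crit

set_option autoImplicit false
universe u
attribute [local instance] HasDerivedCategory.standard
open CategoryTheory
open DRing

namespace Groth.Agent.S7106

/-- Let R be a commutative ring, M a cochain complex of R-modules with M^i = 0 for i > 0 and M^0
projective, K a cochain complex with K^i = 0 for i outside [-1, 0] and K^0 projective, and a : M → K
a chain map. Then precomposition with a is the zero map Ext^1_R(K, N) → Ext^1_R(M, N) (morphisms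
into N[1] in D(R)) for every R-module N if and only if there is a map h : M^0 → K^{-1} with a^{-1} +
h ∘ d_M^{-1} = 0. (The published statement composes h^0 with the differential K^{-1} → K^0 of K,
which is not defined; this row composes it with the differential M^{-1} → M^0 of M, as the homotopy
in the published proof does.) -/
theorem result {R : Type u} [CommRing R] (M K : DRing.Cx R)
    (hM : ∀ i : ℤ, 0 < i → Limits.IsZero (M.X i)) (hM0 : Module.Projective R (M.X 0))
    (hK : ∀ i : ℤ, i ≠ -1 → i ≠ 0 → Limits.IsZero (K.X i)) (hK0 : Module.Projective R (K.X 0))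
    (a : M ⟶ K) :
    (∀ (N : Type u) [AddCommGroup N] [Module R N] (ξ : DRing.toD K ⟶ (Dual.inD R N)⟦(1 : ℤ)⟧),
        DerivedCategory.Q.map a ≫ ξ = 0) ↔
      ∃ h : M.X 0 ⟶ K.X (-1), a.f (-1) + M.d (-1) 0 ≫ h = 0 := by
  haveI := hM0
  haveI := hK0
  have hKout : DRing.VanishesOutside K (-1) 0 := fun i hi => hK i (by omega) (by omega)
  constructor
  · intro H
    let ι := HomologicalComplex.singleObjXSelf (ComplexShape.up ℤ) (-1) (ModuleCat.of R (K.X (-1)))
    let b := DRingTwoTerm.univ (DRingTwoTerm.below_of_outside hKout)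
    have h := H (K.X (-1)) (DerivedCategory.Q.map b ≫ (DRingTwoTerm.shiftIso _).inv)
    have h' : DerivedCategory.Q.map (a ≫ b) = 0 := by
      rw [← cancel_mono (DRingTwoTerm.shiftIso _).inv, Functor.map_comp, Category.assoc, h, Limits.zero_comp]
    obtain ⟨k, hk⟩ := (DRingTwoTerm.null_sgl_iff _).1 (DRingTwoTerm.null_of_Q_map_eq_zero hM
      (fun i hi => DRingTwoTerm.isZero_sgl _ i (by omega)) _ h')
    refine ⟨ModuleCat.ofHom (-(ι.hom.hom ∘ₗ k)), ModuleCat.hom_ext (LinearMap.ext fun x => ?_)⟩
    show a.f (-1) x + -(ι.hom (k (M.d (-1) 0 x))) = 0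
    rw [← hk]
    show a.f (-1) x + -(ι.hom (b.f (-1) (a.f (-1) x))) = 0
    rw [DRingTwoTerm.univ_f, add_neg_cancel]
  · rintro ⟨h, hh⟩ N _ _ ξ
    obtain ⟨b, rfl⟩ := DRingTwoTerm.exists_Q_map_shift_eq (DRingTwoTerm.above_of_outside hKout) ξ
    rw [← Category.assoc, ← Functor.map_comp, DRingTwoTerm.Q_map_eq_zero_of_null hM
      (fun i hi => DRingTwoTerm.isZero_sgl N i (by omega)) _
      ((DRingTwoTerm.null_sgl_iff _).2 ⟨-((b.f (-1)).hom ∘ₗ h.hom), fun x => ?_⟩), Limits.zero_comp]
    show b.f (-1) (a.f (-1) x) = -(b.f (-1) (h (M.d (-1) 0 x)))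
    rw [← map_neg]
    exact congrArg (b.f (-1)) (eq_neg_of_add_eq_zero_left (congrArg (fun t => t.hom x) hh))

end Groth.Agent.S7106
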