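import Groth.Statements.S7113
import Mathlib
import Groth.Agent.SerreSplit.Basic
-- import your own Groth.Agent.* helpers here

set_option autoImplicit false
universe u
open CAlg

namespace Groth.Agent.S7113

/-- Let R be a ring whose set of maximal ideals, with the Zariski topology, is a Noetherian topological
space of Krull dimension at most d, and let M be an R-module of finite presentation whose
localization M_m at each maximal ideal m contains a free direct summand of rank d + 1. Then M is
isomorphic to R ⊕ M' for some M': there are s in M and a linear form φ on M with φ(s) = 1. (The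
published statement takes the dimension equal to d; a space of smaller dimension satisfies the
hypothesis for a smaller d, so the bound form is equivalent.) -/
theorem result (R : Type u) [CommRing R] (d : ℕ)
    [TopologicalSpace.NoetherianSpace (MaximalSpectrum R)]
    (hdim : topologicalKrullDim (MaximalSpectrum R) ≤ d)
    (M : Type u) [AddCommGroup M] [Module R M] [Module.FinitePresentation R M]
    (hM : ∀ (m : Ideal R) [m.IsMaximal],
      ∃ (f : (Fin (d + 1) → Localization.AtPrime m) →ₗ[Localization.AtPrime m] LocalizedModule m.primeCompl M)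
        (g : LocalizedModule m.primeCompl M →ₗ[Localization.AtPrime m] (Fin (d + 1) → Localization.AtPrime m)),
        g ∘ₗ f = LinearMap.id) :
    ∃ (s : M) (φ : M →ₗ[R] R), φ s = 1 := by
  classical
  have hdimV : ∀ x : MaximalSpectrum R,
      d + 1 ≤ Module.finrank (R ⧸ x.asIdeal) (SerreSplit.V M x) := by
    intro x
    haveI := x.isMaximal
    obtain ⟨f, g, hgf⟩ := hM x.asIdeal
    let ι : M →ₗ[R] LocalizedModule x.asIdeal.primeCompl M := LocalizedModule.mkLinearMap _ _
    let a : R →ₗ[R] Localization.AtPrime x.asIdeal := Algebra.linearMap R (Localization.AtPrime x.asIdeal)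
    have hlift : ∀ i : Fin (d + 1), ∃ (φ : M →ₗ[R] R) (u : x.asIdeal.primeCompl),
        ∀ m, algebraMap R (Localization.AtPrime x.asIdeal) (φ m) =
          algebraMap R (Localization.AtPrime x.asIdeal) u * g (ι m) i := by
      intro i
      obtain ⟨φ, u, hu⟩ := Module.FinitePresentation.exists_lift_of_isLocalizedModule
        x.asIdeal.primeCompl a (((LinearMap.proj i).comp g).restrictScalars R ∘ₗ ι)
      refine ⟨φ, u, fun m => ?_⟩
      have := LinearMap.congr_fun hu m
      simp only [LinearMap.comp_apply, LinearMap.smul_apply, Submonoid.smul_def] at this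
      rw [← Algebra.linearMap_apply, show (Algebra.linearMap R (Localization.AtPrime x.asIdeal)) (φ m) = a (φ m) from rfl,
        this, Algebra.smul_def]
      rfl
    choose φ u hu using hlift
    choose m hm using fun j : Fin (d + 1) =>
      IsLocalizedModule.surj x.asIdeal.primeCompl ι (f (Pi.single j 1))
    have hli : LinearIndependent (R ⧸ x.asIdeal) (fun j => SerreSplit.img x (m j).1) := by
      rw [SerreSplit.indep_iff_exists_det]
      refine ⟨φ, fun hdet => ?_⟩
      set A : Matrix (Fin (d + 1)) (Fin (d + 1)) R := Matrix.of fun i j => φ i (m j).1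
      have hA : A.map (algebraMap R (Localization.AtPrime x.asIdeal)) = Matrix.diagonal
          (fun i => algebraMap R (Localization.AtPrime x.asIdeal) ((u i : R) * ((m i).2 : R))) := by
        ext i j
        rw [Matrix.map_apply]
        show algebraMap R (Localization.AtPrime x.asIdeal) (φ i (m j).1) = _
        rw [hu, ← hm j, Submonoid.smul_def, ← IsScalarTower.algebraMap_smul (Localization.AtPrime x.asIdeal),
          map_smul]
        have h1 : g (f (Pi.single j 1)) = (Pi.single j 1 : Fin (d + 1) → Localization.AtPrime x.asIdeal) :=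
          LinearMap.congr_fun hgf _
        rw [h1, Pi.smul_apply, smul_eq_mul, Matrix.diagonal_apply, Pi.single_apply]
        split_ifs with hij
        · subst hij; rw [map_mul, mul_one]
        · rw [mul_zero, mul_zero]
      have h2 := congrArg Matrix.det hA
      rw [Matrix.det_diagonal, ← RingHom.mapMatrix_apply, ← RingHom.map_det, ← map_prod] at h2
      obtain ⟨c, hc⟩ := (IsLocalization.eq_iff_exists x.asIdeal.primeCompl _).1 h2
      have hmem : (c : R) * ∏ i, ((u i : R) * ((m i).2 : R)) ∈ x.asIdeal :=
        hc ▸ Ideal.mul_mem_left _ _ hdet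
      exact (x.asIdeal.primeCompl.mul_mem c.2
        (prod_mem fun i _ => x.asIdeal.primeCompl.mul_mem (u i).2 (m i).2.2)) hmem
    simpa using hli.fintype_card_le_finrank
  have hcond : ∀ x : MaximalSpectrum R,
      ¬ LinearIndependent (R ⧸ x.asIdeal) (fun i : Fin 0 => SerreSplit.img x ((Fin.elim0 : Fin 0 → M) i)) →
        x ∈ (∅ : Set (MaximalSpectrum R)) := fun x hx => absurd linearIndependent_empty_type hx
  obtain ⟨t, F', hF'c, -, hZ, hcod⟩ := SerreSplit.main (d + 1) 0 (Fin.elim0 : Fin 0 → M) ∅ isClosed_empty ∅
    (by simp) (fun _ => 0) (fun x => by simpa using hdimV x) hcond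
  have hne : ∀ x : MaximalSpectrum R, SerreSplit.img x t ≠ 0 := by
    intro x hx
    have hxF : x ∈ F' := by
      refine ((hZ x ?_).resolve_left (by simp))
      rw [linearIndependent_finSnoc]
      rintro ⟨-, hn⟩
      exact hn (hx ▸ zero_mem _)
    let Z : TopologicalSpace.IrreducibleCloseds (MaximalSpectrum R) :=
      ⟨{x}, isIrreducible_singleton, isClosed_singleton⟩
    have h1 := hcod Z (Set.singleton_subset_iff.2 hxF)
    have h2 : (Order.coheight Z : WithBot ℕ∞) ≤ Order.krullDim _ := Order.coheight_le_krullDim Z
    have h3 : ((d + 1 : ℕ) : WithBot ℕ∞) ≤ d := by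
      refine le_trans ?_ (h2.trans hdim)
      exact_mod_cast h1
    have h4 : d + 1 ≤ d := by exact_mod_cast h3
    omega
  let I : Ideal R := LinearMap.range (LinearMap.applyₗ t : (M →ₗ[R] R) →ₗ[R] R)
  have hI : (1 : R) ∈ I := by
    rw [← Ideal.eq_top_iff_one]
    by_contra hne'
    obtain ⟨m, hm, hle⟩ := Ideal.exists_le_maximal I hne'
    exact hne ⟨m, hm⟩ ((SerreSplit.img_eq_zero_iff _ _).2 fun φ => hle ⟨φ, rfl⟩)
  obtain ⟨φ, hφ⟩ := hI
  exact ⟨t, φ, hφ⟩

end Groth.Agent.S7113
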