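import Groth.Statements.S7114
import Mathlib
-- import your own Groth.Agent.* helpers here

set_option autoImplicit false
universe u
open CAlg

namespace Groth.Agent.S7114

/-- Let R be a Noetherian local ring of Krull dimension one and x an element of the maximal ideal lying
in no minimal prime of R. Then for every n the length of R/xⁿR is at most n times the length of
R/xR, and equality holds when x is a nonzerodivisor. -/
theorem result (R : Type u) [CommRing R] [IsNoetherianRing R] [IsLocalRing R]
    (hdim : ringKrullDim R = 1) (x : R) (hx : x ∈ IsLocalRing.maximalIdeal R)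
    (hmin : ∀ p ∈ minimalPrimes R, x ∉ p) (n : ℕ) :
    Module.length R (R ⧸ Ideal.span {x ^ n}) ≤ (n : ℕ∞) * Module.length R (R ⧸ Ideal.span {x}) ∧
      (x ∈ nonZeroDivisors R →
        Module.length R (R ⧸ Ideal.span {x ^ n}) = (n : ℕ∞) * Module.length R (R ⧸ Ideal.span {x})) := by
  refine ⟨?_, fun hxn => ?_⟩
  · induction n with
    | zero =>
      have : Subsingleton (R ⧸ Ideal.span ({x ^ 0} : Set R)) := by
        rw [pow_zero, Ideal.span_singleton_one]; infer_instance
      rw [Module.length_eq_zero]; exact zero_le
    | succ n ih =>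
      let f : (R ⧸ Ideal.span {x}) →ₗ[R] (R ⧸ Ideal.span {x ^ (n + 1)}) :=
        Submodule.liftQ _ (LinearMap.toSpanSingleton R _ (Ideal.Quotient.mk _ (x ^ n))) (by
          rw [Ideal.submodule_span_eq.symm, Submodule.span_le, Set.singleton_subset_iff]
          show x • Ideal.Quotient.mk (Ideal.span {x ^ (n + 1)}) (x ^ n) = 0
          rw [Algebra.smul_def, Ideal.Quotient.algebraMap_eq, ← map_mul, Ideal.Quotient.eq_zero_iff_mem, pow_succ']
          exact Ideal.mem_span_singleton_self _)
      have hle : (Ideal.span {x ^ (n + 1)} : Ideal R) ≤ Ideal.span {x ^ n} :=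
        Ideal.span_singleton_le_span_singleton.mpr (pow_dvd_pow x n.le_succ)
      let g : (R ⧸ Ideal.span {x ^ (n + 1)}) →ₗ[R] (R ⧸ Ideal.span {x ^ n}) := Submodule.factor hle
      have h1 := Module.length_eq_add_of_exact (LinearMap.ker g).subtype g
        (Submodule.subtype_injective _) (Submodule.factor_surjective hle) (LinearMap.exact_subtype_ker_map g)
      have h2 : LinearMap.ker g ≤ LinearMap.range f := by
        intro y hy
        obtain ⟨r, rfl⟩ := Ideal.Quotient.mk_surjective y
        obtain ⟨c, hc⟩ := Ideal.mem_span_singleton'.mp ((Submodule.Quotient.mk_eq_zero _).mp hy : r ∈ Ideal.span {x ^ n})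
        exact ⟨Submodule.Quotient.mk c, by
          show c • Ideal.Quotient.mk (Ideal.span {x ^ (n + 1)}) (x ^ n) = _
          rw [Algebra.smul_def, Ideal.Quotient.algebraMap_eq, ← map_mul, hc]⟩
      rw [h1, Nat.cast_succ, add_mul, one_mul]
      refine (add_le_add ?_ ih).trans_eq (add_comm _ _)
      exact (Module.length_le_of_injective (Submodule.inclusion h2) (Submodule.inclusion_injective h2)).trans
        (Module.length_le_of_surjective f.rangeRestrict f.surjective_rangeRestrict)
  · have h := Ring.ord_pow hxn n
    rw [nsmul_eq_mul] at h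
    exact h

end Groth.Agent.S7114
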