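import Groth.Statements.S7116
import Mathlib
import Groth.Agent.HilbSam.Degree
-- import your own Groth.Agent.* helpers here

set_option autoImplicit false
universe u
open CAlg

namespace Groth.Agent.S7116

theorem extend_sop (R : Type u) [CommRing R] [IsNoetherianRing R] [IsLocalRing R]
    (d : ℕ) (hd : ringKrullDim R = d) (h1 : 1 ≤ d) (f : R) (hf : f ∈ IsLocalRing.maximalIdeal R)
    (hmin : ∀ p ∈ minimalPrimes R, f ∉ p) (k : ℕ) :
    ∃ g : Fin (d - 1) → R, (∀ i, g i ∈ IsLocalRing.maximalIdeal R ^ k) ∧ (∀ i, g i ∈ IsLocalRing.maximalIdeal R) ∧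
      IsLocalRing.maximalIdeal R ≤ (Ideal.span (insert f (Set.range g))).radical := by
  classical
  haveI : IsArtinianRing (R ⧸ IsLocalRing.maximalIdeal R ^ (k + 1)) := by
    refine IsLocalRing.quotient_artinian_of_mem_minimalPrimes_of_isLocalRing _ ?_
    refine ⟨⟨inferInstance, Ideal.pow_le_self (by omega)⟩, fun q hq _ ↦ hq.1.le_of_pow_le hq.2⟩
  have hI : IsLocalRing.maximalIdeal R ^ (k + 1) ≤ Ideal.jacobson ⊥ :=
    (Ideal.pow_le_self (by omega)).trans (IsLocalRing.maximalIdeal_le_jacobson _)
  have hdim : ringKrullDim (R ⧸ Ideal.span {f}) + 1 ≤ d := by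
    rw [← hd]
    have hne : Ideal.span {f} ≠ ⊤ := fun h ↦ (IsLocalRing.maximalIdeal.isMaximal R).ne_top
      (top_le_iff.mp (h ▸ (Ideal.span_singleton_le_iff_mem _).mpr hf))
    have : Nonempty (PrimeSpectrum.zeroLocus (R := R) (Ideal.span {f})) := by
      rwa [Set.nonempty_coe_sort, Set.nonempty_iff_ne_empty, ne_eq,
        PrimeSpectrum.zeroLocus_empty_iff_eq_top]
    rw [ringKrullDim_quotient, Order.krullDim_eq_iSup_length, ringKrullDim,
      Order.krullDim_eq_iSup_length, ← WithBot.coe_one, ← WithBot.coe_add,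
      ENat.iSup_add, WithBot.coe_le_coe, iSup_le_iff]
    intro l
    obtain ⟨p, hp, hp'⟩ := Ideal.exists_minimalPrimes_le (J := l.head.1.asIdeal) bot_le
    let p' : PrimeSpectrum R := ⟨p, hp.1.1⟩
    have hp'' : p' < l.head := lt_of_le_of_ne hp' fun h ↦ hmin p hp (by
      have := l.head.2
      rw [← h] at this
      exact this (Ideal.mem_span_singleton_self f))
    refine le_trans ?_ (le_iSup _ ((l.map Subtype.val (fun _ _ ↦ id)).cons p' hp''))
    simp
  obtain ⟨e, rfl⟩ : ∃ e, d = e + 1 := ⟨d - 1, by omega⟩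
  have hsupp : Module.supportDim R (R ⧸ Ideal.span {f}) ≤ (e : ℕ) := by
    rw [Module.supportDim_quotient_eq_ringKrullDim]
    push_cast at hdim
    generalize ringKrullDim (R ⧸ Ideal.span {f}) = D at hdim ⊢
    induction D using WithBot.recBotCoe with
    | bot => exact bot_le
    | coe D =>
      rw [← WithBot.coe_one, ← WithBot.coe_natCast, ← WithBot.coe_add, ← WithBot.coe_add, WithBot.coe_le_coe] at hdim
      rw [← WithBot.coe_natCast, WithBot.coe_le_coe]
      exact (WithTop.add_le_add_iff_right (by exact ENat.one_ne_top)).mp hdim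
  obtain ⟨x, hx, hfin⟩ := Groth.Agent.HilbSam.exists_parameters _ hI e _ hsupp
  refine ⟨x, fun i ↦ Ideal.pow_le_pow_right (Nat.le_succ k) (hx i),
    fun i ↦ Ideal.pow_le_self (by omega) (hx i), ?_⟩
  set J := Ideal.span (insert f (Set.range x))
  let φ : R →ₗ[R] (R ⧸ Ideal.span {f}) ⧸ (Ideal.span (Set.range x) • ⊤ : Submodule R (R ⧸ Ideal.span {f})) :=
    Submodule.mkQ _ ∘ₗ Submodule.mkQ _
  have hφ : LinearMap.ker φ = J := by
    rw [LinearMap.ker_comp, Submodule.ker_mkQ]
    have h1 : (Ideal.span (Set.range x) • ⊤ : Submodule R (R ⧸ Ideal.span {f})) =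
        Submodule.map (Ideal.span {f}).mkQ (Ideal.span (Set.range x)) := by
      conv_rhs => rw [← Ideal.mul_top (Ideal.span (Set.range x))]
      rw [← smul_eq_mul, Submodule.map_smul'', Submodule.map_top, Submodule.range_mkQ]
    rw [h1, Submodule.comap_map_mkQ, ← Ideal.span_union]
    show Ideal.span _ = Ideal.span _
    rw [Set.insert_eq]
  let e' : (R ⧸ J) ≃ₗ[R] _ := (Submodule.quotEquivOfEq _ _ hφ.symm).trans
    (φ.quotKerEquivOfSurjective ((Submodule.mkQ_surjective _).comp (Submodule.mkQ_surjective _)))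
  have hfin' : IsFiniteLength R (R ⧸ J) := e'.symm.isFiniteLength hfin
  haveI : IsArtinian R (R ⧸ J) := (isFiniteLength_iff_isNoetherian_isArtinian.mp hfin').2
  haveI : IsArtinianRing (R ⧸ J) := isArtinian_of_tower R inferInstance
  rw [Ideal.radical_eq_sInf]
  refine le_sInf fun P hP ↦ ?_
  haveI := hP.2
  haveI : (P.map (Ideal.Quotient.mk J)).IsPrime :=
    Ideal.map_isPrime_of_surjective Ideal.Quotient.mk_surjective (by rw [Ideal.mk_ker]; exact hP.1)
  haveI : (P.map (Ideal.Quotient.mk J)).IsMaximal := IsArtinianRing.isMaximal_of_isPrime _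
  have := Ideal.comap_isMaximal_of_surjective (Ideal.Quotient.mk J) Ideal.Quotient.mk_surjective
    (K := P.map (Ideal.Quotient.mk J))
  rw [Ideal.comap_map_of_surjective _ Ideal.Quotient.mk_surjective, ← RingHom.ker_eq_comap_bot,
    Ideal.mk_ker, sup_eq_left.mpr hP.1] at this
  exact (IsLocalRing.eq_maximalIdeal this).ge

/-- Let R be a Noetherian local ring of Krull dimension d with maximal ideal m and let f be an element
of m contained in no minimal prime. Then there are g_1, ..., g_{d-1} in m and a natural number N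
such that f, g_1, ..., g_{d-1} is a system of parameters (these d elements of m generate an ideal
with radical m) and, for every h in m^N, the elements f + h, g_1, ..., g_{d-1} again form a system
of parameters and the lengths of R/(f, g_1, ..., g_{d-1}) and R/(f + h, g_1, ..., g_{d-1}) agree. -/
theorem result (R : Type u) [CommRing R] [IsNoetherianRing R] [IsLocalRing R]
    (d : ℕ) (hd : ringKrullDim R = d) (f : R) (hf : f ∈ IsLocalRing.maximalIdeal R)
    (hmin : ∀ p ∈ minimalPrimes R, f ∉ p) :
    ∃ (g : Fin (d - 1) → R) (N : ℕ), (∀ i, g i ∈ IsLocalRing.maximalIdeal R) ∧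
      IsLocalRing.maximalIdeal R ≤ (Ideal.span (insert f (Set.range g))).radical ∧
      ∀ h ∈ IsLocalRing.maximalIdeal R ^ N,
        IsLocalRing.maximalIdeal R ≤ (Ideal.span (insert (f + h) (Set.range g))).radical ∧
        Module.length R (R ⧸ Ideal.span (insert f (Set.range g))) =
          Module.length R (R ⧸ Ideal.span (insert (f + h) (Set.range g))) := by
  classical
  have hd1 : 1 ≤ d := by
    by_contra hlt
    obtain rfl : d = 0 := by omega
    haveI : Ring.KrullDimLE 0 R := Ring.krullDimLE_iff.mpr (le_of_eq hd)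
    obtain ⟨q, hq, -⟩ := Ideal.exists_minimalPrimes_le (J := IsLocalRing.maximalIdeal R) bot_le
    haveI := hq.1.1
    exact hmin q hq (Ring.KrullDimLE.eq_maximalIdeal_of_isPrime q ▸ hf)
  obtain ⟨g, -, hg, hrad⟩ := extend_sop R d hd hd1 f hf hmin 0
  obtain ⟨N, hN⟩ := Ideal.exists_pow_le_of_le_radical_of_fg hrad (IsNoetherian.noetherian _)
  refine ⟨g, N + 1, hg, hrad, fun h hh ↦ ?_⟩
  have hh' : h ∈ IsLocalRing.maximalIdeal R * Ideal.span (insert f (Set.range g)) := by
    rw [pow_succ'] at hh
    exact Ideal.mul_mono_right hN hh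
  rw [Set.insert_eq, Ideal.span_union, Ideal.mul_sup] at hh'
  obtain ⟨u, hu, v, hv, rfl⟩ := Submodule.mem_sup.mp hh'
  obtain ⟨a, ha, rfl⟩ := Ideal.mem_mul_span_singleton.mp hu
  have hv' : v ∈ Ideal.span (Set.range g) := Ideal.mul_le_right hv
  have hunit : IsUnit (1 + a) := by
    by_contra hn
    have := sub_mem ((IsLocalRing.mem_maximalIdeal _).mpr hn) ha
    rw [add_sub_cancel_right] at this
    exact (IsLocalRing.mem_maximalIdeal _).mp this isUnit_one
  have hspan : Ideal.span (insert (f + (a * f + v)) (Set.range g)) = Ideal.span (insert f (Set.range g)) := by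
    have hle : Ideal.span (Set.range g) ≤ Ideal.span (insert f (Set.range g)) := Ideal.span_mono (Set.subset_insert _ _)
    have hle' : Ideal.span (Set.range g) ≤ Ideal.span (insert (f + (a * f + v)) (Set.range g)) := Ideal.span_mono (Set.subset_insert _ _)
    refine le_antisymm (Ideal.span_le.mpr ?_) (Ideal.span_le.mpr ?_)
    · rintro _ (rfl | hx)
      · exact add_mem (Ideal.subset_span (Set.mem_insert _ _)) (add_mem (Ideal.mul_mem_left _ _ (Ideal.subset_span (Set.mem_insert _ _))) (hle hv'))
      · exact Ideal.subset_span (Set.mem_insert_of_mem _ hx)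
    · rintro z (hz | hx)
      · rw [hz]
        have := sub_mem (Ideal.subset_span (Set.mem_insert (f + (a * f + v)) (Set.range g))) (hle' hv')
        rw [show f + (a * f + v) - v = (1 + a) * f by ring] at this
        exact (Ideal.unit_mul_mem_iff_mem _ hunit).mp this
      · exact Ideal.subset_span (Set.mem_insert_of_mem _ hx)
  exact ⟨hspan.symm ▸ hrad, by rw [hspan]⟩

end Groth.Agent.S7116
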