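import Groth.Statements.S7117
import Groth.Agent.TopPrimes.Basic
import Mathlib
-- import your own Groth.Agent.* helpers here

set_option autoImplicit false
universe u
open CAlg

namespace Groth.Agent.S7117

/-- Let R be a Noetherian local ring of Krull dimension d with maximal ideal m, and suppose g_1, ...,
g_d in m form a system of parameters (they generate an ideal with radical m). Then the number of
minimal prime ideals p of R with R/p of Krull dimension d is at most the length of R/(g_1, ...,
g_d). -/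
theorem result (R : Type u) [CommRing R] [IsNoetherianRing R] [IsLocalRing R]
    (d : ℕ) (hd : ringKrullDim R = d) (g : Fin d → R) (hg : ∀ i, g i ∈ IsLocalRing.maximalIdeal R)
    (hsop : IsLocalRing.maximalIdeal R ≤ (Ideal.span (Set.range g)).radical) :
    (Set.ncard {p : Ideal R | p ∈ minimalPrimes R ∧ ringKrullDim (R ⧸ p) = d} : ℕ∞) ≤
      Module.length R (R ⧸ Ideal.span (Set.range g)) := by
  classical
  let T := ((⊥ : Ideal R).finite_minimalPrimes_of_isNoetherianRing R).toFinset.filter
    fun p => (d : WithBot ℕ∞) ≤ Groth.Agent.TopPrimes.dimV p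
  have hT : ∀ p ∈ T, p ∈ (⊥ : Ideal R).minimalPrimes ∧ (d : WithBot ℕ∞) ≤ Groth.Agent.TopPrimes.dimV p :=
    fun p hp => ⟨(Set.Finite.mem_toFinset _).1 (Finset.mem_filter.1 hp).1, (Finset.mem_filter.1 hp).2⟩
  have hbd := Groth.Agent.TopPrimes.sum_le d ⊥ g hg (by rwa [bot_sup_eq])
  have hle := hbd.2 T hT
  rw [bot_sup_eq] at hle
  refine le_trans ?_ hle
  have hset : {p : Ideal R | p ∈ minimalPrimes R ∧ ringKrullDim (R ⧸ p) = d} = (T : Set (Ideal R)) := by
    ext p
    simp only [Set.mem_ofPred_eq, T, Finset.coe_filter, Set.Finite.mem_toFinset]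
    refine and_congr_right fun hp => ⟨fun h => h.ge, fun h => le_antisymm (hbd.1 p hp.1.1 bot_le) h⟩
  rw [hset, Set.ncard_coe_finset, ← Finset.card_attach, Finset.card_eq_sum_ones]
  push_cast
  refine Finset.sum_le_sum fun p _ => ?_
  have := (hT _ p.2).1.1.1
  rw [Order.one_le_iff_ne_zero, Groth.Agent.AssSchLib.LengthIneq.L, ne_eq, Module.length_eq_zero_iff,
    not_subsingleton_iff_nontrivial]
  refine ⟨⟨LocalizedModule.mk (Submodule.Quotient.mk (1 : R)) (1 : p.1.primeCompl), 0, fun h => ?_⟩⟩
  rw [← LocalizedModule.zero_mk (1 : p.1.primeCompl), LocalizedModule.mk_eq] at h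
  obtain ⟨c, hc⟩ := h
  simp only [Submonoid.smul_def, Submonoid.coe_one, one_smul, smul_zero, ← Submodule.Quotient.mk_smul,
    Submodule.Quotient.mk_eq_zero, smul_eq_mul, mul_one, Submodule.mem_bot] at hc
  exact c.2 (hc ▸ p.1.zero_mem)

end Groth.Agent.S7117
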