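import Groth.Statements.S7120
import Mathlib.RingTheory.Finiteness.Basic
import Mathlib.RingTheory.PrincipalIdealDomain
import Mathlib.LinearAlgebra.FreeModule.Basic
import Mathlib.LinearAlgebra.Basis.Prod
import Mathlib.LinearAlgebra.Finsupp.Supported

set_option autoImplicit false
universe u
open CAlg

namespace Groth.Agent.S7120

/-- Over a Bézout domain, a finitely generated submodule of a free module is itself free of finite rank. -/
theorem result (R : Type u) [CommRing R] [IsDomain R] [IsBezout R]
    (F : Type u) [AddCommGroup F] [Module R F] [Module.Free R F] (N : Submodule R F) (hN : N.FG) :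
    Module.Free R N ∧ Module.Finite R N := by
  classical
  have key : ∀ (n : ℕ) (L : Submodule R (Fin n → R)), L.FG → Module.Free R L ∧ Module.Finite R L := by
    intro n
    induction n with
    | zero =>
      intro L hL
      haveI : Subsingleton L := ⟨fun a b => Subtype.ext (funext fun i => i.elim0)⟩
      exact ⟨Module.Free.of_subsingleton R L, Module.Finite.iff_fg.mpr hL⟩
    | succ n ih =>
      intro L hL
      haveI : Module.Finite R L := Module.Finite.iff_fg.mpr hL
      refine ⟨?_, inferInstance⟩
      let π : L →ₗ[R] R := (LinearMap.proj 0).comp L.subtype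
      let tail : L →ₗ[R] (Fin n → R) := (LinearMap.funLeft R R Fin.succ).comp L.subtype
      obtain ⟨d, hd⟩ := IsBezout.isPrincipal_of_FG (LinearMap.range π)
        (LinearMap.range_eq_map π ▸ Submodule.FG.map π Module.Finite.fg_top)
      by_cases hd0 : d = 0
      · subst hd0
        rw [Ideal.submodule_span_eq, Ideal.span_singleton_eq_bot.mpr rfl] at hd
        have hinj : Function.Injective tail := by
          intro a b h
          refine Subtype.ext (funext fun i => ?_)
          refine Fin.cases ?_ (fun j => congrFun h j) i
          exact (show π a = π b by rw [LinearMap.range_eq_bot.mp hd]; rfl)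
        haveI := (ih (LinearMap.range tail)
          (LinearMap.range_eq_map tail ▸ Submodule.FG.map tail Module.Finite.fg_top)).1
        exact Module.Free.of_equiv (LinearEquiv.ofInjective tail hinj).symm
      · obtain ⟨x₀, hx₀⟩ : d ∈ LinearMap.range π := by rw [hd]; exact Submodule.mem_span_singleton_self d
        let K : Submodule R L := LinearMap.ker π
        let e₀ : (K × R) →ₗ[R] L := K.subtype.coprod (LinearMap.toSpanSingleton R L x₀)
        have hinj : Function.Injective e₀ := by
          rw [injective_iff_map_eq_zero]
          rintro ⟨a, r⟩ h
          have h1 := congrArg π h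
          simp only [e₀, LinearMap.coprod_apply, Submodule.subtype_apply, LinearMap.toSpanSingleton_apply,
            map_add, map_smul, hx₀, LinearMap.mem_ker.mp a.2, zero_add, map_zero, smul_eq_mul] at h1
          have hr : r = 0 := (mul_eq_zero.mp h1).resolve_right hd0
          subst hr
          simpa [e₀] using h
        have hsurj : Function.Surjective e₀ := by
          intro y
          have hy : π y ∈ Submodule.span R {d} := hd ▸ LinearMap.mem_range_self π y
          obtain ⟨c, hc⟩ := Submodule.mem_span_singleton.mp hy
          refine ⟨(⟨y - c • x₀, ?_⟩, c), by simp [e₀]⟩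
          rw [LinearMap.mem_ker, map_sub, map_smul, hx₀, hc, sub_self]
        let e := LinearEquiv.ofBijective e₀ ⟨hinj, hsurj⟩
        haveI : Module.Finite R K := Module.Finite.of_surjective ((LinearMap.fst R K R).comp e.symm.toLinearMap)
          ((LinearMap.fst_surjective (R := R)).comp e.symm.surjective)
        have hKinj : Function.Injective (tail.comp K.subtype) := by
          intro a b h
          refine Subtype.ext (Subtype.ext (funext fun i => ?_))
          refine Fin.cases ?_ (fun j => congrFun h j) i
          exact (show π (a : L) = π (b : L) by rw [LinearMap.mem_ker.mp a.2, LinearMap.mem_ker.mp b.2])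
        haveI := (ih (LinearMap.range (tail.comp K.subtype))
          (LinearMap.range_eq_map (tail.comp K.subtype) ▸ Submodule.FG.map _ Module.Finite.fg_top)).1
        haveI : Module.Free R K := Module.Free.of_equiv (LinearEquiv.ofInjective _ hKinj).symm
        exact Module.Free.of_equiv e
  haveI : Module.Finite R N := Module.Finite.iff_fg.mpr hN
  refine ⟨?_, inferInstance⟩
  let b := Module.Free.chooseBasis R F
  obtain ⟨s, hs⟩ := hN
  let S := s.biUnion fun x => (b.repr x).support
  let g : N →ₗ[R] (Fin S.card → R) := LinearMap.pi fun i =>
    ((Finsupp.lapply (S.equivFin.symm i : Module.Free.ChooseBasisIndex R F)).comp b.repr.toLinearMap).comp N.subtype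
  have hsupp : ∀ x ∈ N, b.repr x ∈ Finsupp.supported R R (S : Set (Module.Free.ChooseBasisIndex R F)) := by
    intro x hx
    rw [← hs] at hx
    refine (Submodule.span_le (p := (Finsupp.supported R R _).comap b.repr.toLinearMap)).mpr ?_ hx
    intro y hy
    exact fun i hi => Finset.mem_biUnion.mpr ⟨y, hy, hi⟩
  have hinj : Function.Injective g := by
    rw [injective_iff_map_eq_zero]
    intro x hx
    refine Subtype.ext (b.repr.map_eq_zero_iff.mp (Finsupp.ext fun i => ?_))
    by_cases hi : i ∈ S
    · simpa [g] using congrFun hx (S.equivFin ⟨i, hi⟩)
    · exact Finsupp.notMem_support_iff.mp fun h => hi (hsupp x x.2 h)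
  haveI := (key _ (LinearMap.range g)
    (LinearMap.range_eq_map g ▸ Submodule.FG.map g Module.Finite.fg_top)).1
  exact Module.Free.of_equiv (LinearEquiv.ofInjective g hinj).symm


end Groth.Agent.S7120
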