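import Groth.Statements.S7121
import Mathlib
import Groth.Agent.BezoutFP.Basic
-- import your own Groth.Agent.* helpers here

set_option autoImplicit false
universe u
open CAlg

namespace Groth.Agent.S7121

/-- Over a Bézout domain R, a finitely presented module M splits as R^r ⊕ M_tors for some r, and its
torsion part M_tors is a retract (direct summand) of R/f_1R ⊕ … ⊕ R/f_nR for some nonzero f_1, …,
f_n. -/
theorem result (R : Type u) [CommRing R] [IsDomain R] [IsBezout R]
    (M : Type u) [AddCommGroup M] [Module R M] [Module.FinitePresentation R M] :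
    (∃ r : ℕ, Nonempty (M ≃ₗ[R] ((Fin r → R) × Submodule.torsion R M))) ∧
      ∃ (n : ℕ) (f : Fin n → R), (∀ j, f j ≠ 0) ∧
        ∃ (i : Submodule.torsion R M →ₗ[R] ((j : Fin n) → R ⧸ Ideal.span {f j}))
          (p : ((j : Fin n) → R ⧸ Ideal.span {f j}) →ₗ[R] Submodule.torsion R M),
          p ∘ₗ i = LinearMap.id := by
  classical
  let T := Submodule.torsion R M
  haveI : Module.IsTorsionFree R (M ⧸ T) := inferInstance
  haveI : Module.Free R (M ⧸ T) := Groth.Agent.BezoutFP.free_of_finite_torsionFree R (M ⧸ T)
  obtain ⟨s, hs⟩ := Module.projective_lifting_property T.mkQ LinearMap.id T.mkQ_surjective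
  let pT : M →ₗ[R] T := LinearMap.codRestrict T (LinearMap.id - s ∘ₗ T.mkQ) fun x => by
    rw [← Submodule.Quotient.mk_eq_zero]
    have h := LinearMap.congr_fun hs (T.mkQ x)
    simp only [LinearMap.comp_apply, LinearMap.id_apply, Submodule.mkQ_apply] at h
    simp [Submodule.Quotient.mk_sub, h]
  have hpT : ∀ t : T, pT t = t := fun t => Subtype.ext (by
    simp [pT, (Submodule.Quotient.mk_eq_zero T).2 t.2])
  let E : M ≃ₗ[R] (M ⧸ T) × T := LinearEquiv.ofBijective (T.mkQ.prod pT) (by
    constructor
    · rw [injective_iff_map_eq_zero]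
      intro x hx
      have h1 : T.mkQ x = 0 := congrArg Prod.fst hx
      have h2 : ((pT x : T) : M) = 0 := congrArg Subtype.val (congrArg Prod.snd hx)
      simpa [pT, show (Submodule.Quotient.mk x : M ⧸ T) = 0 from h1] using h2
    · rintro ⟨q, t⟩
      have h1 : T.mkQ (s q) = q := LinearMap.congr_fun hs q
      refine ⟨s q + t, Prod.ext ?_ ?_⟩
      · change T.mkQ (s q + (t : M)) = q
        rw [map_add, h1, (Submodule.Quotient.mk_eq_zero T).2 t.2 |> fun h => (show T.mkQ (t : M) = 0 from h), add_zero]
      · change pT (s q + (t : M)) = t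
        rw [map_add, hpT]
        have : pT (s q) = 0 := Subtype.ext (by
          simp [pT, show (Submodule.Quotient.mk (s q) : M ⧸ T) = q from h1])
        rw [this, zero_add])
  haveI : Module.FinitePresentation R T := by
    refine Module.finitePresentation_of_surjective pT (fun t => ⟨t, hpT t⟩) ?_
    have hk : LinearMap.ker pT = LinearMap.range s := by
      apply le_antisymm
      · intro x hx
        refine ⟨T.mkQ x, ?_⟩
        have h2 : ((pT x : T) : M) = 0 := congrArg Subtype.val (LinearMap.mem_ker.1 hx)
        simp [pT, sub_eq_zero] at h2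
        exact h2.symm
      · rintro _ ⟨q, rfl⟩
        exact Subtype.ext (by
          simp [pT, show (Submodule.Quotient.mk (s q) : M ⧸ T) = q from LinearMap.congr_fun hs q])
    rw [hk, LinearMap.range_eq_map]
    exact Module.Finite.fg_top.map s
  refine ⟨⟨_, ⟨E.trans ((Module.finBasis R (M ⧸ T)).equivFun.prodCongr (LinearEquiv.refl R T))⟩⟩, ?_⟩
  have htors : Module.IsTorsion R T := by
    intro t
    obtain ⟨a, ha⟩ := t.2
    exact ⟨a, Subtype.ext ha⟩
  obtain ⟨n, f, hf, i, p, hp⟩ := Groth.Agent.BezoutFP.factors_one R T htors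
  exact ⟨n, f, hf, i, p, by simpa using hp⟩

end Groth.Agent.S7121
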