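import Groth.Statements.S7122
import Mathlib
import Groth.Agent.BezoutFP.Basic
-- import your own Groth.Agent.* helpers here

set_option autoImplicit false
universe u
open CAlg

namespace Groth.Agent.S7122

/-- Let R be a Bézout domain, n ≥ 1, and f_1, ..., f_n elements generating the unit ideal. Then some
invertible n × n matrix over R has (f_1, ..., f_n) as its first row. -/
theorem result (R : Type u) [CommRing R] [IsDomain R] [IsBezout R]
    (n : ℕ) (f : Fin (n + 1) → R) (hf : Ideal.span (Set.range f) = ⊤) :
    ∃ A : Matrix (Fin (n + 1)) (Fin (n + 1)) R, IsUnit A.det ∧ A 0 = f := by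
  classical
  let φ : (Fin (n + 1) → R) →ₗ[R] R := Fintype.linearCombination R f
  have hφ : Function.Surjective φ := by
    rw [← LinearMap.range_eq_top, Fintype.range_linearCombination]
    exact hf
  obtain ⟨s, hs⟩ := Module.projective_lifting_property φ LinearMap.id hφ
  let proj : (Fin (n + 1) → R) →ₗ[R] LinearMap.ker φ :=
    LinearMap.codRestrict (LinearMap.ker φ) (LinearMap.id - s ∘ₗ φ) fun v => by
      rw [LinearMap.mem_ker, LinearMap.sub_apply, map_sub, LinearMap.id_apply, LinearMap.comp_apply]
      rw [show φ (s (φ v)) = φ v from LinearMap.congr_fun hs _, sub_self]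
  have hproj : Function.Surjective proj := fun v => ⟨v.1, Subtype.ext (by
    show v.1 - s (φ v.1) = v.1
    rw [show φ v.1 = 0 from v.2, map_zero, sub_zero])⟩
  haveI : Module.Finite R (LinearMap.ker φ) := Module.Finite.of_surjective proj hproj
  haveI : Module.Free R (LinearMap.ker φ) := Groth.Agent.BezoutFP.free_of_finite_torsionFree R _
  let e0 : (Fin (n + 1) → R) ≃ₗ[R] R × LinearMap.ker φ := LinearEquiv.ofBijective (φ.prod proj) ⟨fun v w h => by
      have h1 : φ v = φ w := congrArg Prod.fst h
      have h2 : v - s (φ v) = w - s (φ w) := congrArg Subtype.val (congrArg Prod.snd h)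
      rw [h1] at h2
      exact sub_left_inj.1 h2,
    fun ⟨r, v⟩ => ⟨s r + v.1, by
      have h1 : φ (s r + v.1) = r := by
        rw [map_add, show φ v.1 = 0 from v.2, add_zero]
        exact LinearMap.congr_fun hs r
      refine Prod.ext h1 (Subtype.ext ?_)
      show s r + v.1 - s (φ (s r + v.1)) = v.1
      rw [h1, add_sub_cancel_left]⟩⟩
  have hrank : Module.finrank R (LinearMap.ker φ) = n := by
    have h := e0.finrank_eq
    rw [Module.finrank_prod, Module.finrank_self, Module.finrank_fin_fun] at h
    omega
  let b := (Module.Free.chooseBasis R (LinearMap.ker φ))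
  let eN : LinearMap.ker φ ≃ₗ[R] (Fin n → R) := (Module.finBasisOfFinrankEq R _ hrank).equivFun
  let e1 : (R × (Fin n → R)) ≃ₗ[R] (Fin (n + 1) → R) := Fin.consLinearEquiv R fun _ => R
  let e : (Fin (n + 1) → R) ≃ₗ[R] (Fin (n + 1) → R) := (e0.trans ((LinearEquiv.refl R R).prodCongr eN)).trans e1
  refine ⟨LinearMap.toMatrix' e.toLinearMap, ?_, funext fun j => ?_⟩
  · rw [LinearMap.det_toMatrix']
    exact e.isUnit_det'
  · rw [LinearMap.toMatrix'_apply]
    show (Fin.cons (φ (Pi.single j 1)) (eN (proj (Pi.single j 1))) : Fin (n + 1) → R) 0 = _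
    rw [Fin.cons_zero]
    simp [φ, Fintype.linearCombination_apply, Pi.single_apply]
end Groth.Agent.S7122
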