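import Groth.Statements.S7123
import Mathlib
-- import your own Groth.Agent.* helpers here

set_option autoImplicit false
universe u
open CAlg

namespace Groth.Agent.S7123

open DirectSum in
/-- For a module P over a ring R these two conditions are equivalent: (1) P is a retract (direct
summand) of a direct sum of cyclic modules R/fR, f ranging over R; (2) for every surjection of
R-modules π : B → C whose kernel A satisfies fA = A ∩ fB for every f in R, each linear map P → C
lifts through π. -/
theorem result (R : Type u) [CommRing R] (P : Type u)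
    [AddCommGroup P] [Module R P] :
    (∃ (ι : Type u) (f : ι → R) (i : P →ₗ[R] (⨁ j, R ⧸ Ideal.span {f j}))
        (p : (⨁ j, R ⧸ Ideal.span {f j}) →ₗ[R] P), p ∘ₗ i = LinearMap.id) ↔
      ∀ (B C : Type u) [AddCommGroup B] [Module R B] [AddCommGroup C] [Module R C] (π : B →ₗ[R] C),
        Function.Surjective π →
        (∀ (f : R) (b : B), π (f • b) = 0 → ∃ a : B, π a = 0 ∧ f • a = f • b) →
        ∀ ψ : P →ₗ[R] C, ∃ φ : P →ₗ[R] B, π ∘ₗ φ = ψ := by
  classical
  constructor
  · rintro ⟨ι, f, i, p, hpi⟩ B C _ _ _ _ π hπ hpure ψ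
    let ψ' := ψ ∘ₗ p
    have hgen : ∀ j, ∃ b : B, π b = ψ' (DirectSum.lof R ι _ j (Submodule.Quotient.mk 1)) ∧ f j • b = 0 := by
      intro j
      obtain ⟨b, hb⟩ := hπ (ψ' (DirectSum.lof R ι (fun j => R ⧸ Ideal.span {f j}) j (Submodule.Quotient.mk 1)))
      have h0 : π (f j • b) = 0 := by
        rw [map_smul, hb, ← map_smul, ← map_smul, ← Submodule.Quotient.mk_smul,
          (Submodule.Quotient.mk_eq_zero _).2 (by rw [smul_eq_mul, mul_one]; exact Ideal.mem_span_singleton_self _), map_zero, map_zero]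
      obtain ⟨a, ha, hfa⟩ := hpure (f j) b h0
      exact ⟨b - a, by rw [map_sub, ha, sub_zero, hb], by rw [smul_sub, hfa, sub_self]⟩
    choose b hb hfb using hgen
    let F : (⨁ j, R ⧸ Ideal.span {f j}) →ₗ[R] B := DirectSum.toModule R ι B fun j =>
      Submodule.liftQ _ (LinearMap.toSpanSingleton R B (b j)) (by
        rw [Submodule.span_le, Set.singleton_subset_iff]
        exact hfb j)
    have hF : π ∘ₗ F = ψ' := by
      ext j
      simp only [LinearMap.comp_apply, F, DirectSum.toModule_lof, Submodule.mkQ_apply, Submodule.liftQ_apply,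
        LinearMap.toSpanSingleton_apply, one_smul, hb]
    exact ⟨F ∘ₗ i, by rw [← LinearMap.comp_assoc, hF, LinearMap.comp_assoc, hpi, LinearMap.comp_id]⟩
  · intro h
    let ι := {z : R × P // z.1 • z.2 = 0}
    let F : ι → Type u := fun j => R ⧸ Ideal.span {j.1.1}
    let π : (⨁ j : ι, R ⧸ Ideal.span {j.1.1}) →ₗ[R] P := DirectSum.toModule R ι P fun j =>
      Submodule.liftQ _ (LinearMap.toSpanSingleton R P j.1.2) (by
        rw [Submodule.span_le, Set.singleton_subset_iff]
        exact j.2)
    have hπ : ∀ j : ι, π (DirectSum.lof R ι (fun j : ι => R ⧸ Ideal.span {j.1.1}) j (Submodule.Quotient.mk 1)) = j.1.2 := fun j => by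
      simp only [π, DirectSum.toModule_lof, Submodule.liftQ_apply, LinearMap.toSpanSingleton_apply, one_smul]
    obtain ⟨φ, hφ⟩ := h _ _ π (fun x => ⟨_, hπ ⟨(0, x), zero_smul R x⟩⟩) (fun r b hb => by
      rw [map_smul] at hb
      refine ⟨b - DirectSum.lof R ι (fun j : ι => R ⧸ Ideal.span {j.1.1}) ⟨(r, π b), hb⟩ (Submodule.Quotient.mk 1), ?_, ?_⟩
      · rw [map_sub, hπ, sub_self]
      · rw [smul_sub, ← map_smul, ← Submodule.Quotient.mk_smul,
          (Submodule.Quotient.mk_eq_zero _).2 (by rw [smul_eq_mul, mul_one]; exact Ideal.mem_span_singleton_self _), map_zero, sub_zero])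
      LinearMap.id
    exact ⟨ι, fun j => j.1.1, φ, π, hφ⟩
end Groth.Agent.S7123
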