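import Groth.Statements.S7124
import Mathlib
-- import your own Groth.Agent.* helpers here

set_option autoImplicit false
universe u
open CAlg

namespace Groth.Agent.S7124

open IsLocalRing

variable (A B K L : Type u) [CommRing A] [IsDomain A]
    [ValuationRing A] [CommRing B] [IsDomain B] [ValuationRing B] [Field K] [Field L]
    [Algebra A K] [IsFractionRing A K] [Algebra B L] [IsFractionRing B L] [Algebra A B] [Algebra K L]
    [Algebra A L] [IsScalarTower A K L] [IsScalarTower A B L]

/-- Among finitely many elements, not all zero, one divides all others in a valuation ring. -/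
theorem exists_max (O F : Type u) [CommRing O] [IsDomain O] [ValuationRing O] [Field F] [Algebra O F]
    [IsFractionRing O F] {ι : Type*} (s : Finset ι) (a : ι → F) (h : ∃ i ∈ s, a i ≠ 0) :
    ∃ i ∈ s, a i ≠ 0 ∧ ∀ j ∈ s, ∃ c : O, algebraMap O F c * a i = a j := by
  classical
  induction s using Finset.induction_on with
  | empty => simp at h
  | @insert x t hx ih =>
    by_cases hx0 : a x = 0
    · obtain ⟨i, hi, hi0⟩ := h
      have hit : i ∈ t := (Finset.mem_insert.1 hi).resolve_left (fun e => hi0 (e ▸ hx0))
      obtain ⟨m, hm, hm0, hmall⟩ := ih ⟨i, hit, hi0⟩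
      refine ⟨m, Finset.mem_insert_of_mem hm, hm0, fun j hj => ?_⟩
      rcases Finset.mem_insert.1 hj with rfl | hj
      · exact ⟨0, by rw [hx0, map_zero, zero_mul]⟩
      · exact hmall j hj
    by_cases ht : ∃ i ∈ t, a i ≠ 0
    · obtain ⟨m, hm, hm0, hmall⟩ := ih ht
      rcases ValuationRing.isInteger_or_isInteger O (a x / a m) with ⟨c, hc⟩ | ⟨c, hc⟩
      · refine ⟨m, Finset.mem_insert_of_mem hm, hm0, fun j hj => ?_⟩
        rcases Finset.mem_insert.1 hj with rfl | hj
        · exact ⟨c, by rw [hc, div_mul_cancel₀ _ hm0]⟩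
        · exact hmall j hj
      · refine ⟨x, Finset.mem_insert_self _ _, hx0, fun j hj => ?_⟩
        rcases Finset.mem_insert.1 hj with rfl | hj
        · exact ⟨1, by rw [map_one, one_mul]⟩
        · obtain ⟨d, hd⟩ := hmall j hj
          refine ⟨d * c, ?_⟩
          rw [map_mul, hc, inv_div, mul_assoc, div_mul_cancel₀ _ hx0, hd]
    · push Not at ht
      refine ⟨x, Finset.mem_insert_self _ _, hx0, fun j hj => ?_⟩
      rcases Finset.mem_insert.1 hj with rfl | hj
      · exact ⟨1, by rw [map_one, one_mul]⟩
      · exact ⟨0, by rw [ht j hj, map_zero, zero_mul]⟩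

theorem card_mul_le (hinj : Function.Injective (algebraMap A B)) [IsLocalHom (algebraMap A B)]
    [FiniteDimensional K L] {ι κ : Type u} [Fintype ι] [Fintype κ] (b : κ → B)
    (hb : LinearIndependent (ResidueField A) (fun j => residue B (b j)))
    (t : ι → Lˣ)
    (ht : ∀ i i', (∃ (a : Kˣ) (w : Bˣ), (t i : L) = t i' * algebraMap K L a * algebraMap B L w) → i = i') :
    Fintype.card ι * Fintype.card κ ≤ Module.finrank K L := by
  classical
  rw [← Fintype.card_prod]
  refine LinearIndependent.fintype_card_le_finrank
    (b := fun p : ι × κ => (t p.1 : L) * algebraMap B L (b p.2)) ?_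
  rw [Fintype.linearIndependent_iff]
  intro g hg p
  by_contra hp
  -- per block
  let z : ι → L := fun i => ∑ j, algebraMap K L (g (i, j)) * algebraMap B L (b j)
  have hz : ∀ i, (∃ j, g (i, j) ≠ 0) →
      ∃ (a : Kˣ) (w : Bˣ), z i = algebraMap K L a * algebraMap B L w := by
    rintro i ⟨j₁, hj₁⟩
    obtain ⟨j₀, -, hj₀, hall⟩ :=
      exists_max A K Finset.univ (fun j => g (i, j)) ⟨j₁, Finset.mem_univ _, hj₁⟩
    choose c hc using fun j => hall j (Finset.mem_univ j)
    have hsum : IsUnit (∑ j, algebraMap A B (c j) * b j) := by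
      by_contra hnu
      have h0 : ∑ j, residue A (c j) • residue B (b j) = 0 := by
        rw [← (residue_eq_zero_iff _).2 ((mem_maximalIdeal _).2 hnu), map_sum]
        exact Finset.sum_congr rfl fun j _ => by rw [Algebra.smul_def, map_mul]; rfl
      have h1 := Fintype.linearIndependent_iff.1 hb _ h0 j₀
      have h2 : c j₀ = 1 := IsFractionRing.injective A K
        (mul_right_cancel₀ hj₀ (by rw [hc, map_one, one_mul]))
      rw [h2, map_one] at h1
      exact one_ne_zero h1
    obtain ⟨w, hw⟩ := hsum
    refine ⟨Units.mk0 _ hj₀, w, ?_⟩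
    rw [hw, map_sum, Finset.mul_sum]
    refine Finset.sum_congr rfl fun j _ => ?_
    rw [Units.val_mk0, ← hc j, map_mul, map_mul, ← IsScalarTower.algebraMap_apply A B L,
      ← IsScalarTower.algebraMap_apply A K L]
    ring
  let y : ι → L := fun i => (t i : L) * z i
  have hy0 : ∀ i, (∃ j, g (i, j) ≠ 0) → y i ≠ 0 := fun i hi => by
    obtain ⟨a, w, h⟩ := hz i hi
    simp only [y, h]
    exact mul_ne_zero (t i).ne_zero (mul_ne_zero ((map_ne_zero _).2 a.ne_zero)
      (fun h0 => w.ne_zero (IsFractionRing.injective B L (by rw [h0, map_zero]))))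
  have hy : ∑ i, y i = 0 := by
    rw [← hg, Fintype.sum_prod_type]
    refine Finset.sum_congr rfl fun i _ => ?_
    simp only [y, z, Finset.mul_sum, Algebra.smul_def]
    exact Finset.sum_congr rfl fun j _ => by ring
  obtain ⟨i₀, -, hi₀, hall⟩ := exists_max B L Finset.univ y
    ⟨p.1, Finset.mem_univ _, hy0 _ ⟨p.2, hp⟩⟩
  choose c hc using fun i => hall i (Finset.mem_univ i)
  have hne : ∀ i, i ≠ i₀ → c i ∈ maximalIdeal B := by
    intro i hi
    rw [mem_maximalIdeal]
    intro hu
    by_cases hgi : ∃ j, g (i, j) ≠ 0
    · have hgi₀ : ∃ j, g (i₀, j) ≠ 0 := by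
        by_contra h
        push Not at h
        apply hi₀
        simp [y, z, h]
      obtain ⟨a, w, h⟩ := hz i hgi
      obtain ⟨a₀, w₀, h₀⟩ := hz i₀ hgi₀
      obtain ⟨e, he⟩ := hu
      refine hi (ht i i₀ ⟨a₀ * a⁻¹, e * w₀ * w⁻¹, ?_⟩)
      have := hc i
      simp only [y, h, h₀, ← he] at this
      have haK : algebraMap K L (a : K) ≠ 0 := (map_ne_zero _).2 a.ne_zero
      have hwB : algebraMap B L (w : B) ≠ 0 := fun h0 =>
        w.ne_zero (IsFractionRing.injective B L (by rw [h0, map_zero]))
      rw [Units.val_mul, Units.val_mul, Units.val_mul, map_mul, map_mul, map_mul, map_units_inv,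
        map_units_inv]
      field_simp
      linear_combination -this
    · push Not at hgi
      have h0 : y i = 0 := by simp [y, z, hgi]
      have := hc i
      rw [h0, mul_eq_zero] at this
      rcases this with h | h
      · exact hu.ne_zero (IsFractionRing.injective B L (by rw [h, map_zero]))
      · exact hi₀ h
  have h1 : (∑ i, algebraMap B L (c i)) * y i₀ = 0 := by
    rw [Finset.sum_mul]
    rw [← hy]
    exact Finset.sum_congr rfl fun i _ => hc i
  have h2 : c i₀ = 1 := IsFractionRing.injective B L
    (mul_right_cancel₀ hi₀ (by rw [hc, map_one, one_mul]))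
  have h3 : ∑ i, c i = 0 := IsFractionRing.injective B L (by
    rw [map_sum, map_zero]; exact (mul_eq_zero.1 h1).resolve_right hi₀)
  rw [← Finset.sum_erase_add _ _ (Finset.mem_univ i₀), h2] at h3
  have h4 : (1 : B) ∈ maximalIdeal B := by
    rw [show (1 : B) = -∑ i ∈ Finset.univ.erase i₀, c i by linear_combination h3]
    exact neg_mem (sum_mem fun i hi => hne i (Finset.ne_of_mem_erase hi))
  exact (maximalIdeal.isMaximal B).ne_top ((Ideal.eq_top_iff_one _).2 h4)

theorem aux (hinj : Function.Injective (algebraMap A B))
    [IsLocalHom (algebraMap A B)] [FiniteDimensional K L] :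
    let UB : Subgroup Lˣ := (Units.map (algebraMap B L).toMonoidHom).range
    let ΓA : Subgroup (Lˣ ⧸ UB) := ((QuotientGroup.mk' UB).comp (Units.map (algebraMap K L).toMonoidHom)).range
    Module.Finite (IsLocalRing.ResidueField A) (IsLocalRing.ResidueField B) ∧ ΓA.index ≠ 0 ∧
      ΓA.index * Module.finrank (IsLocalRing.ResidueField A) (IsLocalRing.ResidueField B) ≤
        Module.finrank K L := by
  classical
  intro UB ΓA
  have hlift : ∀ r : ResidueField B, ∃ x, residue B x = r := residue_surjective
  choose lift hlift using hlift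
  haveI : ΓA.Normal := ⟨fun n hn g => by rwa [mul_comm g n, mul_inv_cancel_right]⟩
  have hcls : ∀ x y : Lˣ, (∃ (a : Kˣ) (w : Bˣ), (x : L) = y * algebraMap K L a * algebraMap B L w) ↔
      ((x : Lˣ ⧸ UB) / (y : Lˣ ⧸ UB)) ∈ ΓA := by
    intro x y
    constructor
    · rintro ⟨a, w, h⟩
      refine ⟨a, ?_⟩
      rw [← QuotientGroup.mk_div]
      refine (QuotientGroup.eq).2 ⟨w, Units.ext ?_⟩
      simp only [Units.coe_map, MonoidHom.coe_coe, RingHom.toMonoidHom_eq_coe, Units.val_mul,
        Units.val_div_eq_div_val, Units.val_inv_eq_inv_val, h]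
      field_simp
    · rintro ⟨a, ha⟩
      rw [← QuotientGroup.mk_div] at ha
      obtain ⟨w, hw⟩ := (QuotientGroup.eq).1 ha
      refine ⟨a, w, ?_⟩
      have := congrArg Units.val hw
      simp only [Units.coe_map, MonoidHom.coe_coe, RingHom.toMonoidHom_eq_coe, Units.val_mul,
        Units.val_div_eq_div_val, Units.val_inv_eq_inv_val] at this
      rw [this]
      have haK : algebraMap K L (a : K) ≠ 0 := (map_ne_zero _).2 a.ne_zero
      field_simp
  have hone : ∀ (κ : Type u) [Fintype κ] (r : κ → ResidueField B),
      LinearIndependent (ResidueField A) r → Fintype.card κ ≤ Module.finrank K L := by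
    intro κ _ r hr
    have := card_mul_le A B K L hinj (ι := PUnit.{u + 1}) (fun j => lift (r j))
      (by simpa [hlift] using hr) (fun _ => 1) (fun _ _ _ => rfl)
    simpa using this
  have hfin : Module.Finite (ResidueField A) (ResidueField B) := by
    refine Module.finite_of_rank_eq_nat (n := ?_) ?_
    · exact Cardinal.toNat (Module.rank (ResidueField A) (ResidueField B))
    · refine (Cardinal.cast_toNat_of_lt_aleph0 ?_).symm
      refine lt_of_le_of_lt (rank_le (n := Module.finrank K L) fun s hs => ?_) (Cardinal.natCast_lt_aleph0)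
      simpa using hone s (Subtype.val) hs
  let bas := Module.finBasis (ResidueField A) (ResidueField B)
  have hgen : ∀ S : Finset ((Lˣ ⧸ UB) ⧸ ΓA),
      S.card * Module.finrank (ResidueField A) (ResidueField B) ≤ Module.finrank K L := by
    intro S
    choose x hx using fun c : (Lˣ ⧸ UB) ⧸ ΓA => QuotientGroup.mk_surjective c
    choose t ht using fun c : Lˣ ⧸ UB => QuotientGroup.mk_surjective c
    have hbasis : LinearIndependent (ResidueField A)
        fun j : ULift.{u} (Fin (Module.finrank (ResidueField A) (ResidueField B))) =>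
          residue B (lift (bas j.down)) := by
      simp only [hlift]
      exact bas.linearIndependent.comp _ ULift.down_injective
    have := card_mul_le A B K L hinj (ι := S) _ hbasis (fun c => t (x c)) (fun c c' h => by
      rw [hcls, ht, ht, ← QuotientGroup.eq_one_iff, QuotientGroup.mk_div, hx, hx, div_eq_one] at h
      exact Subtype.ext h)
    simpa using this
  have hr0 : 0 < Module.finrank (ResidueField A) (ResidueField B) := Module.finrank_pos
  haveI : Finite ((Lˣ ⧸ UB) ⧸ ΓA) := by
    by_contra hinf
    rw [not_finite_iff_infinite] at hinf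
    obtain ⟨S, hS⟩ := Infinite.exists_subset_card_eq ((Lˣ ⧸ UB) ⧸ ΓA) (Module.finrank K L + 1)
    have := hgen S
    rw [hS] at this
    nlinarith
  haveI := Fintype.ofFinite ((Lˣ ⧸ UB) ⧸ ΓA)
  haveI : ΓA.FiniteIndex := Subgroup.finiteIndex_of_finite_quotient
  refine ⟨hfin, Subgroup.FiniteIndex.index_ne_zero, ?_⟩
  rw [Subgroup.index_eq_card, Nat.card_eq_fintype_card, ← Finset.card_univ]
  exact hgen Finset.univ

end Groth.Agent.S7124

namespace Groth.Agent.S7124

/-- Let A ⊆ B be an extension of valuation rings (both valuation domains, the inclusion injective and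
local) with fraction fields K ⊆ L such that L/K is finite. Then the residue field of B is finite
over that of A, the value group of A has finite index in the value group of B, and (index of value
groups) · (residue degree) ≤ [L : K]. Here the value group of B is written as Lˣ modulo the units of
B, and that of A as the image of Kˣ in it. -/
theorem result (A B K L : Type u) [CommRing A] [IsDomain A]
    [ValuationRing A] [CommRing B] [IsDomain B] [ValuationRing B] [Field K] [Field L]
    [Algebra A K] [IsFractionRing A K] [Algebra B L] [IsFractionRing B L] [Algebra A B] [Algebra K L]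
    [Algebra A L] [IsScalarTower A K L] [IsScalarTower A B L] (hinj : Function.Injective (algebraMap A B))
    [IsLocalHom (algebraMap A B)] [FiniteDimensional K L] :
    let UB : Subgroup Lˣ := (Units.map (algebraMap B L).toMonoidHom).range
    let ΓA : Subgroup (Lˣ ⧸ UB) := ((QuotientGroup.mk' UB).comp (Units.map (algebraMap K L).toMonoidHom)).range
    Module.Finite (IsLocalRing.ResidueField A) (IsLocalRing.ResidueField B) ∧ ΓA.index ≠ 0 ∧
      ΓA.index * Module.finrank (IsLocalRing.ResidueField A) (IsLocalRing.ResidueField B) ≤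
        Module.finrank K L := by
  exact aux A B K L hinj

end Groth.Agent.S7124
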