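import Groth.Statements.S7131
import Mathlib
import Groth.Agent.TorAscend.Basic
import Groth.Agent.WEtale.Basic

set_option autoImplicit false
universe u
open EtAlg

namespace Groth.Agent.S7131

lemma ascend (A B : Type u) [CommRing A] [CommRing B] [Algebra A B] [Algebra.WeaklyEtale A B]
    (d : ℕ) : ∀ (N : Type u) [AddCommGroup N] [Module A N] [Module B N] [IsScalarTower A B N],
      DRing.HasTorDimLE A d N → DRing.HasTorDimLE B d N := by
  induction d with
  | zero =>
    intro N _ _ _ _ h
    haveI : Module.Flat A N := TorShift.flat_of_hasTorDimLE_zero h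
    haveI : Module.Flat B N := WEtale.flat_of_flat_lmul' (A := A) (Algebra.WeaklyEtale.flat_lmul' A B)
    exact TorAscend.hasTorDimLE_of_flat N 0
  | succ d ih =>
    intro N _ _ _ _ h
    let π : (N →₀ B) →ₗ[B] N := Finsupp.linearCombination B id
    have hπ : Function.Surjective π := Finsupp.linearCombination_id_surjective B N
    let i : LinearMap.ker π →ₗ[B] (N →₀ B) := (LinearMap.ker π).subtype
    refine TorAscend.hasTorDimLE_succ_of_exact (R := B) (K := LinearMap.ker π) (F := (N →₀ B)) (M := N) (i := i) (π := π)
      (LinearMap.ker π).injective_subtype (LinearMap.exact_subtype_ker_map π) hπ ?_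
    haveI : Module.Flat A (N →₀ B) := Module.Flat.trans A B (N →₀ B)
    exact ih _ (TorShift.hasTorDimLE_of_exact (R := A) (K := LinearMap.ker π) (F := (N →₀ B)) (M := N) (i := i.restrictScalars A)
      (π := π.restrictScalars A) (LinearMap.ker π).injective_subtype (LinearMap.exact_subtype_ker_map π) hπ h)


/-- Suppose A → B is weakly étale and every A-module has tor dimension at most d. Then every B-module
has tor dimension at most d over B (weak dimension at most d ascends along weakly étale maps). -/
theorem result (A B : Type u) [CommRing A] [CommRing B] [Algebra A B]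
    [Algebra.WeaklyEtale A B] (d : ℕ)
    (hA : ∀ (M : Type u) [AddCommGroup M] [Module A M], DRing.HasTorDimLE A d M)
    (N : Type u) [AddCommGroup N] [Module B N] : DRing.HasTorDimLE B d N := by
  letI : Module A N := Module.compHom N (algebraMap A B)
  haveI : IsScalarTower A B N := IsScalarTower.of_algebraMap_smul fun _ _ => rfl
  exact ascend A B d N (hA N)

end Groth.Agent.S7131
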