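import Groth.Statements.S7132
import Mathlib
import Groth.Agent.S7124

set_option autoImplicit false
universe u
open EtAlg

namespace Groth.Agent.S7132

theorem ram_spec (A B : Type u) [CommRing A] [IsDomain A]
    [IsDiscreteValuationRing A] [CommRing B] [IsDomain B] [IsDiscreteValuationRing B] [Algebra A B]
    (hinj : Function.Injective (algebraMap A B)) {a : A} (ha : Irreducible a) {b : B} (hb : Irreducible b) :
    ∃ u : Bˣ, algebraMap A B a = u * b ^ Ideal.ramificationIdx' (IsLocalRing.maximalIdeal A) (IsLocalRing.maximalIdeal B) := by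
  obtain ⟨n, u, hu⟩ := IsDiscreteValuationRing.eq_unit_mul_pow_irreducible (x := algebraMap A B a)
    ((map_ne_zero_iff _ hinj).mpr ha.ne_zero) hb
  refine ⟨u, ?_⟩
  rw [hu]
  congr 2
  refine (Ideal.ramificationIdx'_spec ?_ ?_).symm
  · rw [ha.maximalIdeal_eq, Ideal.map_span, Set.image_singleton, hb.maximalIdeal_eq, Ideal.span_singleton_pow,
      Ideal.span_singleton_le_span_singleton, hu]
    exact dvd_mul_left _ _
  · rw [ha.maximalIdeal_eq, Ideal.map_span, Set.image_singleton, hb.maximalIdeal_eq, Ideal.span_singleton_pow,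
      Ideal.span_singleton_le_span_singleton, hu, Units.dvd_mul_left, pow_dvd_pow_iff hb.ne_zero hb.not_isUnit]
    omega


/-- For an injective local homomorphism A → B of discrete valuation rings whose fraction fields K ⊆ L
form a finite extension, the residue field of B is finite over that of A, and the ramification index
e times the residue degree f is at most [L : K]. -/
theorem result (A B K L : Type u) [CommRing A] [IsDomain A]
    [IsDiscreteValuationRing A] [CommRing B] [IsDomain B] [IsDiscreteValuationRing B] [Algebra A B]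
    (hinj : Function.Injective (algebraMap A B)) [IsLocalHom (algebraMap A B)]
    [Field K] [Field L] [Algebra A K] [IsFractionRing A K] [Algebra B L] [IsFractionRing B L]
    [Algebra K L] [Algebra A L] [IsScalarTower A K L] [IsScalarTower A B L] [FiniteDimensional K L] :
    Module.Finite (IsLocalRing.ResidueField A) (IsLocalRing.ResidueField B) ∧
      Ideal.ramificationIdx' (IsLocalRing.maximalIdeal A) (IsLocalRing.maximalIdeal B) *
          Module.finrank (IsLocalRing.ResidueField A) (IsLocalRing.ResidueField B) ≤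
        Module.finrank K L := by
  obtain ⟨hfin, -, hle⟩ := Groth.Agent.S7124.result A B K L hinj
  obtain ⟨a, ha⟩ := IsDiscreteValuationRing.exists_irreducible A
  obtain ⟨b, hb⟩ := IsDiscreteValuationRing.exists_irreducible B
  obtain ⟨u, hu⟩ := ram_spec A B hinj ha hb
  set e := Ideal.ramificationIdx' (IsLocalRing.maximalIdeal A) (IsLocalRing.maximalIdeal B)
  refine ⟨hfin, le_of_eq_of_le ?_ hle⟩
  congr 1
  set UB : Subgroup Lˣ := (Units.map (algebraMap B L).toMonoidHom).range with hUB
  let bL : Lˣ := Units.mk0 (algebraMap B L b) ((map_ne_zero_iff _ (IsFractionRing.injective B L)).mpr hb.ne_zero)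
  let f : Multiplicative ℤ →* Lˣ ⧸ UB := zpowersHom _ (QuotientGroup.mk' UB bL)
  have hfN : ∀ n : ℕ, f (Multiplicative.ofAdd (n : ℤ)) = QuotientGroup.mk' UB (bL ^ n) := fun n => by
    simp [f]
  have hrepr : ∀ (x : B) (hx : algebraMap B L x ≠ 0), ∃ n : ℕ, ∀ _ : x ≠ 0, QuotientGroup.mk' UB (Units.mk0 _ hx) = f (Multiplicative.ofAdd (n : ℤ)) := by
    intro x hx
    obtain ⟨n, v, rfl⟩ := IsDiscreteValuationRing.eq_unit_mul_pow_irreducible (show x ≠ 0 from fun h => hx (by rw [h, map_zero])) hb
    refine ⟨n, fun _ => ?_⟩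
    rw [hfN, QuotientGroup.mk'_eq_mk']
    refine ⟨Units.map (algebraMap B L).toMonoidHom v⁻¹, ⟨v⁻¹, rfl⟩, Units.ext ?_⟩
    show algebraMap B L (↑v * b ^ n) * algebraMap B L ↑v⁻¹ = algebraMap B L b ^ n
    rw [← map_mul, ← map_pow, mul_right_comm, Units.mul_inv, one_mul]
  have hsurj : Function.Surjective f := by
    intro z
    obtain ⟨x, rfl⟩ := QuotientGroup.mk'_surjective UB z
    obtain ⟨c, d, hd, hcd⟩ := IsFractionRing.div_surjective (A := B) (x : L)
    have hd' : algebraMap B L d ≠ 0 := (map_ne_zero_iff _ (IsFractionRing.injective B L)).mpr (nonZeroDivisors.ne_zero hd)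
    have hc' : algebraMap B L c ≠ 0 := fun h => x.ne_zero (by rw [← hcd, h, zero_div])
    obtain ⟨m, hm⟩ := hrepr c hc'
    obtain ⟨n, hn⟩ := hrepr d hd'
    refine ⟨Multiplicative.ofAdd (m : ℤ) * (Multiplicative.ofAdd (n : ℤ))⁻¹, ?_⟩
    rw [map_mul, map_inv, ← hm (fun h => hc' (by rw [h, map_zero])), ← hn (nonZeroDivisors.ne_zero hd), ← map_inv, ← map_mul]
    congr 1
    refine Units.ext ?_
    rw [Units.val_mul, Units.val_inv_eq_inv_val, ← hcd, div_eq_mul_inv]
    rfl
  have hnat : ∀ n : ℕ, bL ^ n ∈ UB → n = 0 := by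
    rintro n ⟨v, hv⟩
    have h := congrArg Units.val hv
    rw [Units.val_pow_eq_pow_val, Units.coe_map] at h
    have h' : (v : B) * b ^ 0 = ((1 : Bˣ) : B) * b ^ n := by
      rw [pow_zero, mul_one, Units.val_one, one_mul]
      apply IsFractionRing.injective B L
      rw [map_pow]
      exact h
    exact (IsDiscreteValuationRing.unit_mul_pow_congr_pow hb hb _ _ _ _ h').symm
  have hinjf : Function.Injective f := by
    rw [injective_iff_map_eq_one]
    intro n hn
    obtain ⟨z, rfl⟩ := Multiplicative.ofAdd.surjective n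
    obtain ⟨m, rfl | rfl⟩ := z.eq_nat_or_neg
    · rw [hfN, QuotientGroup.mk'_apply, QuotientGroup.eq_one_iff] at hn
      rw [hnat m hn]; rfl
    · rw [ofAdd_neg, map_inv, inv_eq_one, hfN, QuotientGroup.mk'_apply, QuotientGroup.eq_one_iff] at hn
      rw [hnat m hn]; rfl
  let F := MulEquiv.ofBijective f ⟨hinjf, hsurj⟩
  have hA : ((QuotientGroup.mk' UB).comp (Units.map (algebraMap K L).toMonoidHom)).range =
      (Subgroup.zpowers (Multiplicative.ofAdd (e : ℤ))).map (F : Multiplicative ℤ →* Lˣ ⧸ UB) := by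
    rw [MonoidHom.map_zpowers]
    have hnA : ∀ (x : A) (hx : algebraMap K L (algebraMap A K x) ≠ 0), QuotientGroup.mk' UB (Units.mk0 _ hx) ∈
        Subgroup.zpowers (f (Multiplicative.ofAdd (e : ℤ))) := by
      intro x hx
      obtain ⟨n, v, rfl⟩ := IsDiscreteValuationRing.eq_unit_mul_pow_irreducible (show x ≠ 0 from fun h => hx (by rw [h, map_zero, map_zero])) ha
      refine ⟨(n : ℤ), ?_⟩
      show f (Multiplicative.ofAdd (e : ℤ)) ^ (n : ℤ) = _
      rw [hfN, zpow_natCast, ← map_pow, ← pow_mul]
      symm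
      rw [QuotientGroup.mk'_eq_mk']
      refine ⟨Units.map (algebraMap B L).toMonoidHom (Units.map (algebraMap A B).toMonoidHom v * u ^ n)⁻¹, ⟨_, rfl⟩, Units.ext ?_⟩
      show algebraMap K L (algebraMap A K (↑v * a ^ n)) * algebraMap B L ↑(Units.map (algebraMap A B).toMonoidHom v * u ^ n)⁻¹ = algebraMap B L b ^ (e * n)
      rw [← IsScalarTower.algebraMap_apply A K L, IsScalarTower.algebraMap_apply A B L, ← map_mul, ← map_pow]
      congr 1
      rw [map_mul, map_pow, hu, mul_pow, ← pow_mul,
        show (algebraMap A B (v : A)) * ((u : B) ^ n * b ^ (e * n)) = ↑(Units.map (algebraMap A B).toMonoidHom v * u ^ n) * b ^ (e * n) by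
          rw [Units.val_mul, Units.coe_map, Units.val_pow_eq_pow_val, ← mul_assoc]; rfl,
        mul_right_comm, Units.mul_inv, one_mul]
    refine le_antisymm ?_ ?_
    · rintro _ ⟨x, rfl⟩
      obtain ⟨c, d, hd, hcd⟩ := IsFractionRing.div_surjective (A := A) (x : K)
      have hd' : algebraMap A K d ≠ 0 := (map_ne_zero_iff _ (IsFractionRing.injective A K)).mpr (nonZeroDivisors.ne_zero hd)
      have hc' : algebraMap A K c ≠ 0 := fun h => x.ne_zero (by rw [← hcd, h, zero_div])
      rw [MonoidHom.comp_apply, show Units.map (algebraMap K L).toMonoidHom x = Units.mk0 _ ((map_ne_zero (algebraMap K L)).mpr hc') * (Units.mk0 _ ((map_ne_zero (algebraMap K L)).mpr hd'))⁻¹ from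
        Units.ext (by rw [Units.val_mul, Units.val_inv_eq_inv_val, Units.coe_map, ← hcd]; simp [div_eq_mul_inv]), map_mul, map_inv]
      exact mul_mem (hnA c _) (inv_mem (hnA d _))
    · rw [Subgroup.zpowers_le]
      have ha' : algebraMap A K a ≠ 0 := (map_ne_zero_iff _ (IsFractionRing.injective A K)).mpr ha.ne_zero
      refine ⟨Units.mk0 _ ha', ?_⟩
      show QuotientGroup.mk' UB (Units.map (algebraMap K L).toMonoidHom (Units.mk0 _ ha')) = f (Multiplicative.ofAdd (e : ℤ))
      rw [hfN, QuotientGroup.mk'_eq_mk']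
      refine ⟨Units.map (algebraMap B L).toMonoidHom u⁻¹, ⟨_, rfl⟩, Units.ext ?_⟩
      show algebraMap K L (algebraMap A K a) * algebraMap B L ↑u⁻¹ = algebraMap B L b ^ e
      rw [← IsScalarTower.algebraMap_apply A K L, IsScalarTower.algebraMap_apply A B L, hu, ← map_mul, ← map_pow,
        mul_right_comm, Units.mul_inv, one_mul]
  show e = _
  rw [hA, Subgroup.index_map_equiv,
    show Subgroup.zpowers (Multiplicative.ofAdd (e : ℤ)) = AddSubgroup.toSubgroup (AddSubgroup.zmultiples (e : ℤ)) by ext x; rfl,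
    AddSubgroup.index_toSubgroup, Int.index_zmultiples, Int.natAbs_natCast]

end Groth.Agent.S7132
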