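import Groth.Statements.S7133
import Mathlib

set_option autoImplicit false
universe u
open EtAlg

namespace Groth.Agent.S7133

theorem ram_spec (A B : Type u) [CommRing A] [IsDomain A]
    [IsDiscreteValuationRing A] [CommRing B] [IsDomain B] [IsDiscreteValuationRing B] [Algebra A B]
    (hinj : Function.Injective (algebraMap A B)) {a : A} (ha : Irreducible a) {b : B} (hb : Irreducible b) :
    ∃ u : Bˣ, algebraMap A B a = u * b ^ Ideal.ramificationIdx' (IsLocalRing.maximalIdeal A) (IsLocalRing.maximalIdeal B) := by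
  obtain ⟨n, u, hu⟩ := IsDiscreteValuationRing.eq_unit_mul_pow_irreducible (x := algebraMap A B a)
    ((map_ne_zero_iff _ hinj).mpr ha.ne_zero) hb
  refine ⟨u, ?_⟩
  rw [hu]
  congr 2
  refine (Ideal.ramificationIdx'_spec ?_ ?_).symm
  · rw [ha.maximalIdeal_eq, Ideal.map_span, Set.image_singleton, hb.maximalIdeal_eq, Ideal.span_singleton_pow,
      Ideal.span_singleton_le_span_singleton, hu]
    exact dvd_mul_left _ _
  · rw [ha.maximalIdeal_eq, Ideal.map_span, Set.image_singleton, hb.maximalIdeal_eq, Ideal.span_singleton_pow,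
      Ideal.span_singleton_le_span_singleton, hu, Units.dvd_mul_left, pow_dvd_pow_iff hb.ne_zero hb.not_isUnit]
    omega


/-- For an injective local homomorphism A → B of discrete valuation rings whose fields of fractions are
K ⊆ L: if K has characteristic p > 0 and L/K is purely inseparable, then the ramification index of B
over A is a power of p. -/
theorem result (A B K L : Type u) [CommRing A] [IsDomain A]
    [IsDiscreteValuationRing A] [CommRing B] [IsDomain B] [IsDiscreteValuationRing B] [Algebra A B]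
    (hinj : Function.Injective (algebraMap A B)) [IsLocalHom (algebraMap A B)]
    [Field K] [Field L] [Algebra A K] [IsFractionRing A K] [Algebra B L] [IsFractionRing B L]
    [Algebra K L] [Algebra A L] [IsScalarTower A K L] [IsScalarTower A B L]
    (p : ℕ) (hp : p.Prime) [CharP K p] [IsPurelyInseparable K L] :
    ∃ k : ℕ, Ideal.ramificationIdx' (IsLocalRing.maximalIdeal A) (IsLocalRing.maximalIdeal B) =
      p ^ k := by
  obtain ⟨a, ha⟩ := IsDiscreteValuationRing.exists_irreducible A
  obtain ⟨b, hb⟩ := IsDiscreteValuationRing.exists_irreducible B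
  obtain ⟨u, hu⟩ := ram_spec A B hinj ha hb
  set e := Ideal.ramificationIdx' (IsLocalRing.maximalIdeal A) (IsLocalRing.maximalIdeal B)
  haveI := Fact.mk hp
  haveI : ExpChar K p := ExpChar.prime hp
  obtain ⟨k, y, hy⟩ := IsPurelyInseparable.pow_mem K p (algebraMap B L b)
  obtain ⟨c, ⟨d, hd⟩, rfl⟩ := IsLocalization.exists_mk'_eq (nonZeroDivisors A) y
  have h1 : algebraMap B L (algebraMap A B c) = algebraMap B L (algebraMap A B d * b ^ (p ^ k)) := by
    rw [map_mul, map_pow, ← hy, ← IsScalarTower.algebraMap_apply, ← IsScalarTower.algebraMap_apply,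
      IsScalarTower.algebraMap_apply A K L, IsScalarTower.algebraMap_apply A K L, ← map_mul, mul_comm,
      IsLocalization.mk'_spec K c ⟨d, hd⟩]
  have h2 := IsFractionRing.injective B L h1
  have hd0 : d ≠ 0 := nonZeroDivisors.ne_zero hd
  have hc0 : c ≠ 0 := fun h0 => by
    rw [h0, map_zero] at h2
    exact mul_ne_zero ((map_ne_zero_iff _ hinj).mpr hd0) (pow_ne_zero _ hb.ne_zero) h2.symm
  obtain ⟨nc, uc, rfl⟩ := IsDiscreteValuationRing.eq_unit_mul_pow_irreducible hc0 ha
  obtain ⟨nd, ud, rfl⟩ := IsDiscreteValuationRing.eq_unit_mul_pow_irreducible hd0 ha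
  have h3 : ((Units.map (algebraMap A B).toMonoidHom uc * u ^ nc : Bˣ) : B) * b ^ (e * nc) =
      ((Units.map (algebraMap A B).toMonoidHom ud * u ^ nd : Bˣ) : B) * b ^ (e * nd + p ^ k) := by
    simp only [map_mul, map_pow, hu, mul_pow, ← pow_mul] at h2
    simp only [Units.val_mul, Units.val_pow_eq_pow_val, Units.coe_map, pow_add]
    linear_combination h2
  have h4 := IsDiscreteValuationRing.unit_mul_pow_congr_pow hb hb _ _ _ _ h3
  obtain ⟨j, -, hj⟩ := (Nat.dvd_prime_pow hp).mp (⟨nc - nd, by rw [Nat.mul_sub]; omega⟩ : e ∣ p ^ k)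
  exact ⟨j, hj⟩

end Groth.Agent.S7133
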