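import Groth.Statements.S7134
import Groth.Agent.CAlgAndre.Flat

set_option autoImplicit false
universe u
open EtAlg

namespace Groth.Agent.S7134

/-- For an injective local homomorphism A → B of discrete valuation rings, A → B is formally smooth for
the adic topology of the maximal ideal of B if and only if A → B is weakly unramified and the
residue field of B is a separable (possibly transcendental, i.e. geometrically reduced) extension of
the residue field of A. -/
theorem result (A B : Type u) [CommRing A]
    [IsDomain A] [IsDiscreteValuationRing A] [CommRing B] [IsDomain B] [IsDiscreteValuationRing B] [Algebra A B]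
    (hinj : Function.Injective (algebraMap A B)) [IsLocalHom (algebraMap A B)] :
    CAlgX.IsAdicFormallySmooth A B (IsLocalRing.maximalIdeal B) ↔
      EtRam.IsWeaklyUnramified A B ∧
        Algebra.IsGeometricallyReduced (IsLocalRing.ResidueField A) (IsLocalRing.ResidueField B) := by
  haveI : Module.IsTorsionFree A B := Module.isTorsionFree_iff_algebraMap_injective.2 hinj
  constructor
  · intro h
    let I : Ideal B := (IsLocalRing.maximalIdeal A).map (algebraMap A B)
    haveI : IsLocalRing (B ⧸ I) := Groth.Agent.CAlgAndre.isLocalRing_quotient_map A B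
    have h1 := Groth.Agent.CAlgAndre.discrete_quotient (IsLocalRing.maximalIdeal A) h
    rw [IsLocalRing.map_maximalIdeal_of_surjective _ Ideal.Quotient.mk_surjective] at h1
    haveI : IsRegularLocalRing (B ⧸ I) := by
      letI : Field (A ⧸ IsLocalRing.maximalIdeal A) := Ideal.Quotient.field _
      exact (Groth.Agent.SymGr.isAdicFormallySmooth_field_iff_regular.1 h1).1
    haveI : IsDomain (B ⧸ I) := Groth.Agent.CAlgReg.isDomain
    have hI : I.IsPrime := (Ideal.Quotient.isDomain_iff_prime I).1 inferInstance
    have hI0 : I ≠ ⊥ := fun h0 => IsDiscreteValuationRing.not_a_field A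
      ((Ideal.map_eq_bot_iff_of_injective hinj).1 h0)
    have hmB : I = IsLocalRing.maximalIdeal B := IsLocalRing.eq_maximalIdeal (hI.isMaximal_of_ne_bot hI0)
    refine ⟨hmB, ?_⟩
    rw [← Groth.Agent.PBasis.formallySmooth_iff_isGeometricallyReduced]
    refine Algebra.FormallySmooth.iff_comp_surjective.2 fun C _ _ J hJ ψ => ?_
    let f : (B ⧸ I) ≃+* IsLocalRing.ResidueField B := Ideal.quotEquivOfEq hmB
    let e : (A ⧸ IsLocalRing.maximalIdeal A) ≃+* IsLocalRing.ResidueField A := RingEquiv.refl _
    have h2 := Groth.Agent.CAlgAndre.discrete_of_equiv (k := A ⧸ IsLocalRing.maximalIdeal A)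
      (k' := IsLocalRing.ResidueField A) (F' := IsLocalRing.ResidueField B) e f (fun c => by
        obtain ⟨c, rfl⟩ := Ideal.Quotient.mk_surjective c
        rfl) _ h1
    obtain ⟨χ, hχ⟩ := h2 C J hJ ψ ⟨1, fun x hx => by
      rw [pow_one] at hx
      have h3 : x ∈ (⊥ : Ideal (IsLocalRing.ResidueField B)) := by
        refine (Ideal.map_le_iff_le_comap.2 fun y hy => ?_) hx
        rw [Ideal.mem_comap, Ideal.mem_bot]
        obtain ⟨y, rfl⟩ := Ideal.Quotient.mk_surjective y
        have hy' : y ∈ IsLocalRing.maximalIdeal B := by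
          rw [← IsLocalRing.map_maximalIdeal_of_surjective (Ideal.Quotient.mk I) Ideal.Quotient.mk_surjective,
            Ideal.mem_map_iff_of_surjective _ Ideal.Quotient.mk_surjective] at hy
          obtain ⟨z, hz, hzy⟩ := hy
          have := Ideal.Quotient.eq.1 hzy
          rw [hmB] at this
          simpa using sub_mem hz this
        show f (Ideal.Quotient.mk I y) = 0
        exact Ideal.Quotient.eq_zero_iff_mem.2 hy'
      rw [Ideal.mem_bot.1 h3, map_zero]⟩
    exact ⟨χ, hχ⟩
  · rintro ⟨hw, hg⟩
    refine Groth.Agent.CAlgAndre.discrete_of_flat_of_fibre A B ?_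
    have hw' : (IsLocalRing.maximalIdeal A).map (algebraMap A B) = IsLocalRing.maximalIdeal B := hw
    haveI : Algebra.FormallySmooth (IsLocalRing.ResidueField A) (IsLocalRing.ResidueField B) :=
      (Groth.Agent.PBasis.formallySmooth_iff_isGeometricallyReduced).2 hg
    have h : CAlgX.IsAdicFormallySmooth (IsLocalRing.ResidueField A) (IsLocalRing.ResidueField B)
        (⊥ : Ideal (IsLocalRing.ResidueField B)) :=
      fun C _ _ J hJ ψ _ => Algebra.FormallySmooth.exists_lift J ⟨2, hJ⟩ ψ
    let e : IsLocalRing.ResidueField A ≃+* A ⧸ IsLocalRing.maximalIdeal A := RingEquiv.refl _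
    let f : IsLocalRing.ResidueField B ≃+* B ⧸ (IsLocalRing.maximalIdeal A).map (algebraMap A B) :=
      Ideal.quotEquivOfEq hw'.symm
    have h1 := Groth.Agent.CAlgAndre.discrete_of_equiv (k := IsLocalRing.ResidueField A)
      (F := IsLocalRing.ResidueField B) e f (fun c => by
        obtain ⟨c, rfl⟩ := IsLocalRing.residue_surjective c
        rfl) _ h
    rw [Ideal.map_bot] at h1
    have hbot : (IsLocalRing.maximalIdeal B).map (Ideal.Quotient.mk ((IsLocalRing.maximalIdeal A).map (algebraMap A B))) = ⊥ :=
      Ideal.map_eq_bot_iff_le_ker _ |>.2 (by rw [Ideal.mk_ker, hw'])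
    rw [hbot]
    exact h1

end Groth.Agent.S7134
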