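import Groth.Statements.S7135
import Mathlib
-- import your own Groth.Agent.* helpers here

set_option autoImplicit false
universe u
open CAlg

namespace Groth.Agent.S7135

theorem exists_approx {A : Type u} [CommRing A] [IsNoetherianRing A] (I : Ideal A)
    (M N : Type u) [AddCommGroup M] [Module A M] [Module.Finite A M] [AddCommGroup N] [Module A N]
    [Module.Finite A N] :
    ∃ c : ℕ, ∀ n, n = c + 1 → ∀ ψ : M →ₗ[A] N ⧸ (I ^ n • ⊤ : Submodule A N), ∃ f : M →ₗ[A] N,
      ∀ x y, (I ^ n • ⊤ : Submodule A N).mkQ y = ψ x → f x - y ∈ (I • ⊤ : Submodule A N) := by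
  classical
  obtain ⟨b, π, hπ⟩ := Module.Finite.exists_fin' A M
  obtain ⟨a, k, hk⟩ := Submodule.fg_iff_exists_fin_generating_family.1
    (IsNoetherian.noetherian (LinearMap.ker π))
  let T : (Fin b → N) →ₗ[A] (Fin a → N) :=
    LinearMap.pi fun i => ∑ j, k i j • LinearMap.proj (R := A) (φ := fun _ : Fin b => N) j
  obtain ⟨c, hc⟩ := I.exists_pow_inf_eq_pow_smul (LinearMap.range T)
  refine ⟨c, fun n hn ψ => ?_⟩
  choose y hy using fun j => Submodule.mkQ_surjective _ (ψ (π (Pi.single j 1)))
  have hpi : ∀ {m : ℕ} (v : Fin m → N), (∀ i, v i ∈ (I ^ n • ⊤ : Submodule A N)) →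
      v ∈ (I ^ n • ⊤ : Submodule A (Fin m → N)) := by
    intro m v hv
    rw [← Finset.univ_sum_single v]
    refine Submodule.sum_mem _ fun i _ => ?_
    refine Submodule.smul_induction_on (hv i) (fun r hr w _ => ?_) (fun u w hu hw => ?_)
    · rw [← LinearMap.single_apply (R := A), map_smul]
      exact Submodule.smul_mem_smul hr Submodule.mem_top
    · rw [Pi.single_add]; exact add_mem hu hw
  have hTy : T y ∈ (I ^ n • ⊤ : Submodule A (Fin a → N)) := by
    refine hpi _ fun i => ?_
    rw [← Submodule.Quotient.mk_eq_zero, ← Submodule.mkQ_apply]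
    have hki : π (k i) = 0 := LinearMap.mem_ker.1 (hk ▸ Submodule.subset_span ⟨i, rfl⟩)
    have h1 : ψ (π (∑ j, k i j • (Pi.single j 1 : Fin b → A))) = 0 := by
      rw [show ∑ j, k i j • (Pi.single j 1 : Fin b → A) = k i by
        funext l; simp [Finset.sum_apply, Pi.single_apply], hki, map_zero]
    rw [map_sum, map_sum] at h1
    rw [show T y i = ∑ j, k i j • y j by simp [T], map_sum, ← h1]
    refine Finset.sum_congr rfl fun j _ => ?_
    rw [map_smul, map_smul, map_smul, hy]
  have hmem : T y ∈ I ^ (n - c) • (LinearMap.range T) := by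
    have h1 : T y ∈ I ^ n • ⊤ ⊓ LinearMap.range T := ⟨hTy, ⟨y, rfl⟩⟩
    rw [hc n (by omega)] at h1
    exact Submodule.smul_mono le_rfl inf_le_right h1
  rw [LinearMap.range_eq_map, ← Submodule.map_smul'', show n - c = 1 by omega, pow_one] at hmem
  obtain ⟨z, hz, hTz⟩ := hmem
  have hzj : ∀ j, z j ∈ (I • ⊤ : Submodule A N) := fun j => by
    refine Submodule.smul_induction_on hz (fun r hr w _ => ?_) (fun u w hu hw => ?_)
    · exact Submodule.smul_mem_smul hr Submodule.mem_top
    · exact add_mem hu hw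
  let F : (Fin b → A) →ₗ[A] N := Fintype.linearCombination A (y - z)
  have hF : LinearMap.ker π ≤ LinearMap.ker F := by
    rw [← hk, Submodule.span_le]
    rintro _ ⟨i, rfl⟩
    show F (k i) = 0
    rw [Fintype.linearCombination_apply]
    have := congrFun (map_sub T y z) i
    rw [hTz, sub_self, Pi.zero_apply] at this
    rw [← this]
    simp [T]
  let f : M →ₗ[A] N := ((LinearMap.ker π).liftQ F hF).comp
    (π.quotKerEquivOfSurjective hπ).symm.toLinearMap
  refine ⟨f, fun x w hw => ?_⟩
  obtain ⟨v, rfl⟩ := hπ x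
  have hfv : f (π v) = F v := by
    show (LinearMap.ker π).liftQ F hF ((π.quotKerEquivOfSurjective hπ).symm (π v)) = _
    rw [show (π.quotKerEquivOfSurjective hπ).symm (π v) = Submodule.Quotient.mk v from
      (LinearEquiv.symm_apply_eq _).2 rfl]
    rfl
  have hsum : (I ^ n • ⊤ : Submodule A N).mkQ (∑ j, v j • y j) = ψ (π v) := by
    rw [map_sum]
    conv_rhs => rw [show v = ∑ j, v j • (Pi.single j 1 : Fin b → A) by
      funext l; simp [Finset.sum_apply, Pi.single_apply], map_sum, map_sum]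
    refine Finset.sum_congr rfl fun j _ => ?_
    rw [map_smul, map_smul, map_smul, hy]
  replace hw := hw.trans hsum.symm
  rw [Submodule.mkQ_apply, Submodule.mkQ_apply, Submodule.Quotient.eq] at hw
  rw [hfv, Fintype.linearCombination_apply]
  have h3 : ∑ j, v j • (y - z) j - w = -(w - ∑ j, v j • y j) - ∑ j, v j • z j := by
    simp only [Pi.sub_apply, smul_sub, Finset.sum_sub_distrib]
    abel
  rw [h3]
  refine sub_mem (neg_mem ?_) (Submodule.sum_mem _ fun j _ => Submodule.smul_mem _ _ (hzj j))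
  exact Submodule.smul_mono_left (Ideal.pow_le_self (by omega)) hw


/-- Let A be a Noetherian ring, I an ideal and M, N finite A-modules. If M/IⁿM and N/IⁿN are isomorphic
for every n, then the I-adic completions of M and N are isomorphic as modules over the I-adic
completion of A. -/
theorem result (A : Type u) [CommRing A] [IsNoetherianRing A] (I : Ideal A)
    (M N : Type u) [AddCommGroup M] [Module A M] [Module.Finite A M] [AddCommGroup N] [Module A N]
    [Module.Finite A N]
    (h : ∀ n : ℕ, Nonempty ((M ⧸ (I ^ n • ⊤ : Submodule A M)) ≃ₗ[A] (N ⧸ (I ^ n • ⊤ : Submodule A N)))) :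
    Nonempty (AdicCompletion I M ≃ₗ[AdicCompletion I A] AdicCompletion I N) := by
  classical
  have key : ∀ (P Q : Type u) [AddCommGroup P] [Module A P] [Module.Finite A P] [AddCommGroup Q]
      [Module A Q] [Module.Finite A Q],
      (∀ n : ℕ, Nonempty ((P ⧸ (I ^ n • ⊤ : Submodule A P)) ≃ₗ[A] (Q ⧸ (I ^ n • ⊤ : Submodule A Q)))) →
      ∃ g : AdicCompletion I P →ₗ[AdicCompletion I A] AdicCompletion I Q, Function.Surjective g := by
    intro P Q _ _ _ _ _ _ hPQ
    obtain ⟨c, hc⟩ := exists_approx I P Q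
    obtain ⟨e⟩ := hPQ (c + 1)
    obtain ⟨f, hf⟩ := hc (c + 1) rfl (e.toLinearMap ∘ₗ (I ^ (c + 1) • ⊤ : Submodule A P).mkQ)
    refine ⟨AdicCompletion.map I f, AdicCompletion.map_surjective_of_mkQ_comp_surjective fun q => ?_⟩
    obtain ⟨y, rfl⟩ := Submodule.mkQ_surjective _ q
    obtain ⟨x, hx⟩ := Submodule.mkQ_surjective _ (e.symm ((I ^ (c + 1) • ⊤ : Submodule A Q).mkQ y))
    refine ⟨x, ?_⟩
    show (I • ⊤ : Submodule A Q).mkQ (f x) = (I • ⊤ : Submodule A Q).mkQ y
    rw [Submodule.mkQ_apply, Submodule.mkQ_apply, Submodule.Quotient.eq]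
    refine hf x y ?_
    show _ = e ((I ^ (c + 1) • ⊤ : Submodule A P).mkQ x)
    rw [hx, LinearEquiv.apply_symm_apply]
  obtain ⟨g, hg⟩ := key M N h
  obtain ⟨g', hg'⟩ := key N M fun n => ⟨(h n).some.symm⟩
  haveI : Module.Finite (AdicCompletion I A) (AdicCompletion I M) :=
    Module.Finite.of_surjective (AdicCompletion.ofTensorProduct I M)
      (AdicCompletion.ofTensorProduct_surjective_of_finite I M)
  have hinj : Function.Injective (g' ∘ₗ g) :=
    OrzechProperty.injective_of_surjective_endomorphism (g' ∘ₗ g) (hg'.comp hg)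
  exact ⟨LinearEquiv.ofBijective g ⟨fun a b hab => hinj (congrArg g' hab), hg⟩⟩

end Groth.Agent.S7135
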