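import Groth.Statements.S7153
import Mathlib
-- import your own Groth.Agent.* helpers here

set_option autoImplicit false
universe u
open CAlg

namespace Groth.Agent.S7153

/-- Artin–Rees with truncated subtraction. -/
theorem artinRees (A : Type u) [CommRing A] [IsNoetherianRing A] (I : Ideal A) {L : Type u}
    [AddCommGroup L] [Module A L] [Module.Finite A L] (N : Submodule A L) :
    ∃ c : ℕ, ∀ n : ℕ, I ^ n • ⊤ ⊓ N ≤ I ^ (n - c) • N := by
  obtain ⟨c, hc⟩ := I.exists_pow_inf_eq_pow_smul N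
  refine ⟨c, fun n => ?_⟩
  rcases le_or_gt c n with h | h
  · rw [hc n h]; exact Submodule.smul_mono le_rfl inf_le_right
  · rw [Nat.sub_eq_zero_of_le h.le, pow_zero, Ideal.one_eq_top, Submodule.top_smul]
    exact inf_le_right

theorem aux (A : Type u) [CommRing A] [IsNoetherianRing A] (I : Ideal A) {K : Type u} (L M : Type u)
    [AddCommGroup K] [Module A K] [AddCommGroup L] [Module A L]
    [Module.Finite A L] [AddCommGroup M] [Module A M] [Module.Finite A M]
    (α : K →ₗ[A] L) (β : L →ₗ[A] M) :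
    ∃ c : ℕ, 0 < c ∧ ∀ n : ℕ,
      (∀ y ∈ (I ^ (n + c) • ⊤ : Submodule A M).comap β,
        ∃ z ∈ LinearMap.ker β, y - z ∈ LinearMap.range α ⊔ (I ^ n • ⊤ : Submodule A L)) ∧
      (∀ z ∈ LinearMap.ker β, z ∈ LinearMap.range α ⊔ (I ^ n • ⊤ : Submodule A L) →
        ∀ a ∈ I ^ c, a • z ∈ LinearMap.range α ⊔ I ^ n • LinearMap.ker β) ∧
      (∀ y ∈ (I ^ n • ⊤ : Submodule A M).comap β, ∀ a ∈ I ^ c,
        ∃ z ∈ LinearMap.ker β, a • y - z ∈ LinearMap.range α ⊔ (I ^ n • ⊤ : Submodule A L)) := by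
  obtain ⟨c₁, h₁⟩ := artinRees A I (LinearMap.range β)
  obtain ⟨c₂, h₂⟩ := artinRees A I ((LinearMap.ker β).map (LinearMap.range α).mkQ)
  have key : ∀ (k n : ℕ) (y : L), β y ∈ (I ^ k • LinearMap.range β : Submodule A M) → n ≤ k →
      ∃ z ∈ LinearMap.ker β, y - z ∈ (I ^ n • ⊤ : Submodule A L) := by
    intro k n y hy hnk
    rw [← Submodule.map_top, ← Submodule.map_smul''] at hy
    obtain ⟨w, hw, hwy⟩ := hy
    refine ⟨y - w, by rw [LinearMap.mem_ker, map_sub, hwy, sub_self], ?_⟩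
    rw [sub_sub_cancel]
    exact Submodule.smul_mono (Ideal.pow_le_pow_right hnk) le_rfl hw
  refine ⟨c₁ + c₂ + 1, by omega, fun n => ⟨?_, ?_, ?_⟩⟩
  · intro y hy
    obtain ⟨z, hz, hz'⟩ := key _ n y (h₁ _ ⟨hy, LinearMap.mem_range_self β y⟩) (by omega)
    exact ⟨z, hz, Submodule.mem_sup_right hz'⟩
  · intro z hz hz' a ha
    have hmk : ((LinearMap.range α).mkQ z : L ⧸ LinearMap.range α) ∈
        (I ^ n • ⊤ : Submodule A (L ⧸ LinearMap.range α)) := by
      obtain ⟨x, hx, w, hw, rfl⟩ := Submodule.mem_sup.1 hz'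
      rw [map_add, show (LinearMap.range α).mkQ x = 0 from (Submodule.Quotient.mk_eq_zero _).2 hx,
        zero_add]
      have := Submodule.mem_map_of_mem (f := (LinearMap.range α).mkQ) hw
      rwa [Submodule.map_smul'', Submodule.map_top, Submodule.range_mkQ] at this
    have h3 := h₂ n ⟨hmk, Submodule.mem_map_of_mem hz⟩
    rw [← Submodule.map_smul''] at h3
    obtain ⟨w, hw, hwz⟩ := h3
    have h4 : a • w ∈ I ^ n • LinearMap.ker β := by
      have h5 := Submodule.smul_mem_smul ha hw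
      rw [← smul_assoc, smul_eq_mul, ← pow_add] at h5
      exact Submodule.smul_mono (Ideal.pow_le_pow_right (by omega)) le_rfl h5
    refine Submodule.mem_sup.2 ⟨a • z - a • w, ?_, a • w, h4, sub_add_cancel _ _⟩
    rw [← smul_sub]
    refine Submodule.smul_mem _ _ ?_
    rw [← Submodule.Quotient.mk_eq_zero, Submodule.Quotient.mk_sub]
    exact sub_eq_zero.2 hwz.symm
  · intro y hy a ha
    have h3 := Submodule.smul_mem_smul ha (h₁ n ⟨hy, LinearMap.mem_range_self β y⟩)
    rw [← map_smul, ← smul_assoc, smul_eq_mul, ← pow_add] at h3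
    obtain ⟨z, hz, hz'⟩ := key _ n (a • y) h3 (by omega)
    exact ⟨z, hz, Submodule.mem_sup_right hz'⟩

end Groth.Agent.S7153

namespace Groth.Agent.S7153

/-- Let A be a Noetherian ring, I an ideal and K → L → M a complex of finite A-modules with maps α, β
and homology H = Ker β / Im α; for n ≥ 0 let H_n be the homology of the induced complex K/IⁿK →
L/IⁿL → M/IⁿM, which is β⁻¹(IⁿM)/(Im α + IⁿL). Then there is c > 0 such that for every n: (i) the
image of H_(n+c) → H_n is contained in, hence equal to, the image of H → H_n; (ii) the kernel and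
the cokernel of H/IⁿH → H_n are annihilated by I^c. Everything is phrased with representatives in L. -/
theorem result (A : Type u) [CommRing A] [IsNoetherianRing A] (I : Ideal A)
    (K L M : Type u) [AddCommGroup K] [Module A K] [Module.Finite A K] [AddCommGroup L] [Module A L]
    [Module.Finite A L] [AddCommGroup M] [Module A M] [Module.Finite A M]
    (α : K →ₗ[A] L) (β : L →ₗ[A] M) (hαβ : β ∘ₗ α = 0) :
    ∃ c : ℕ, 0 < c ∧ ∀ n : ℕ,
      (∀ y ∈ (I ^ (n + c) • ⊤ : Submodule A M).comap β,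
        ∃ z ∈ LinearMap.ker β, y - z ∈ LinearMap.range α ⊔ (I ^ n • ⊤ : Submodule A L)) ∧
      (∀ z ∈ LinearMap.ker β, z ∈ LinearMap.range α ⊔ (I ^ n • ⊤ : Submodule A L) →
        ∀ a ∈ I ^ c, a • z ∈ LinearMap.range α ⊔ I ^ n • LinearMap.ker β) ∧
      (∀ y ∈ (I ^ n • ⊤ : Submodule A M).comap β, ∀ a ∈ I ^ c,
        ∃ z ∈ LinearMap.ker β, a • y - z ∈ LinearMap.range α ⊔ (I ^ n • ⊤ : Submodule A L)) := by
  exact aux A I L M α β

end Groth.Agent.S7153
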