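import Groth.Statements.S7136
import Mathlib
import Groth.Agent.S7153
-- import your own Groth.Agent.* helpers here

set_option autoImplicit false
universe u
open CAlg

namespace Groth.Agent.S7136

theorem mem_smul_hom (A : Type u) [CommRing A] (J : Ideal A) (r : ℕ) (N : Type u) [AddCommGroup N]
    [Module A N] (f : (Fin r → A) →ₗ[A] N) (hf : ∀ x, f x ∈ (J • ⊤ : Submodule A N)) :
    f ∈ (J • ⊤ : Submodule A ((Fin r → A) →ₗ[A] N)) := by
  classical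
  have h : f = ∑ i : Fin r,
      LinearMap.smulRightₗ (LinearMap.proj i : (Fin r → A) →ₗ[A] A) (f (Pi.single i 1)) := by
    refine LinearMap.pi_ext' fun i => LinearMap.ext_ring ?_
    simp [Pi.single_apply, ite_smul]
  rw [h]
  refine Submodule.sum_mem _ fun i _ => ?_
  have h1 := Submodule.mem_map_of_mem
    (f := (LinearMap.smulRightₗ (LinearMap.proj i : (Fin r → A) →ₗ[A] A) : N →ₗ[A] _))
    (hf (Pi.single i 1))
  rw [Submodule.map_smul''] at h1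
  exact Submodule.smul_mono le_rfl le_top h1

theorem mem_smul_apply (A : Type u) [CommRing A] (J : Ideal A) {X N : Type u} [AddCommGroup X]
    [Module A X] [AddCommGroup N] [Module A N] (f : X →ₗ[A] N)
    (hf : f ∈ (J • ⊤ : Submodule A (X →ₗ[A] N))) (x : X) : f x ∈ (J • ⊤ : Submodule A N) := by
  have h1 := Submodule.mem_map_of_mem (f := LinearMap.applyₗ x) hf
  rw [Submodule.map_smul''] at h1
  exact Submodule.smul_mono le_rfl le_top h1

theorem aux (A : Type u) [CommRing A] [IsNoetherianRing A]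
    (I : Ideal A) (M N : Type u) [AddCommGroup M] [Module A M] [Module.Finite A M] [AddCommGroup N]
    [Module A N] [Module.Finite A N] :
    let Nq : ℕ → Submodule A N := fun n => I ^ n • ⊤
    let pr : ∀ n k : ℕ, n ≤ k → (N ⧸ Nq k) →ₗ[A] (N ⧸ Nq n) :=
      fun n k hnk => Submodule.mapQ (Nq k) (Nq n) (LinearMap.id : N →ₗ[A] N) (Submodule.smul_mono_left (Ideal.pow_le_pow_right hnk))
    let red : ∀ n : ℕ, (M →ₗ[A] N) → (M →ₗ[A] N ⧸ Nq n) := fun n φ => (Nq n).mkQ ∘ₗ φ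
    (∀ n : ℕ, ∃ m : ℕ, n ≤ m ∧ ∀ (k : ℕ) (hmk : m ≤ k) (hnm : n ≤ m) (ψ : M →ₗ[A] N ⧸ Nq m),
        ∃ ψ' : M →ₗ[A] N ⧸ Nq k, pr n k (hnm.trans hmk) ∘ₗ ψ' = pr n m hnm ∘ₗ ψ) ∧
    ∃ c : ℕ, ∀ n : ℕ,
      (∀ φ : M →ₗ[A] N, red n φ = 0 → ∀ a ∈ I ^ c, a • φ ∈ (I ^ n • ⊤ : Submodule A (M →ₗ[A] N))) ∧
      (∀ (ψ : M →ₗ[A] N ⧸ Nq n), ∀ a ∈ I ^ c, ∃ φ : M →ₗ[A] N, red n φ = a • ψ) := by
  intro Nq pr red
  obtain ⟨r, π, hπ⟩ := Module.Finite.exists_fin' A M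
  obtain ⟨s, τ', hτ'⟩ := Module.Finite.exists_fin' A (LinearMap.ker π)
  let τ : (Fin s → A) →ₗ[A] (Fin r → A) := (LinearMap.ker π).subtype ∘ₗ τ'
  have hexact : Function.Exact τ π := by
    intro y
    refine ⟨fun hy => ?_, ?_⟩
    · obtain ⟨w, hw⟩ := hτ' ⟨y, hy⟩
      exact ⟨w, congrArg Subtype.val hw⟩
    · rintro ⟨w, rfl⟩
      exact (τ' w).2
  let β : ((Fin r → A) →ₗ[A] N) →ₗ[A] ((Fin s → A) →ₗ[A] N) := LinearMap.lcomp A N τ
  let γ : (M →ₗ[A] N) →ₗ[A] ((Fin r → A) →ₗ[A] N) := LinearMap.lcomp A N π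
  have hker : LinearMap.ker β = LinearMap.range γ := by
    refine le_antisymm (fun z hz => ?_) ?_
    · have h1 : LinearMap.ker π ≤ LinearMap.ker z := fun y hy => by
        obtain ⟨w, rfl⟩ := (hexact y).1 hy
        exact LinearMap.congr_fun hz w
      refine ⟨(LinearMap.ker π).liftQ z h1 ∘ₗ (π.quotKerEquivOfSurjective hπ).symm.toLinearMap, ?_⟩
      refine LinearMap.ext fun x => ?_
      change ((LinearMap.ker π).liftQ z h1) ((π.quotKerEquivOfSurjective hπ).symm (π x)) = z x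
      rw [show π x = π.quotKerEquivOfSurjective hπ (Submodule.Quotient.mk x) from rfl,
        LinearEquiv.symm_apply_apply]
      rfl
    · rintro _ ⟨φ, rfl⟩
      refine LinearMap.ext fun w => ?_
      change φ (π (τ w)) = 0
      rw [(hexact _).2 ⟨w, rfl⟩, map_zero]
  have hγ : Function.Injective γ := fun f g h => LinearMap.ext fun x => by
    obtain ⟨y, rfl⟩ := hπ x
    exact LinearMap.congr_fun h y
  obtain ⟨c, -, hc⟩ := Groth.Agent.S7153.aux A I ((Fin r → A) →ₗ[A] N) ((Fin s → A) →ₗ[A] N)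
    (0 : PUnit.{u+1} →ₗ[A] _) β
  simp only [LinearMap.range_zero, bot_sup_eq] at hc
  have hlift : ∀ (n : ℕ) (ψ : M →ₗ[A] N ⧸ Nq n), ∃ y : (Fin r → A) →ₗ[A] N,
      (Nq n).mkQ ∘ₗ y = ψ ∘ₗ π ∧ β y ∈ (I ^ n • ⊤ : Submodule A _) := by
    intro n ψ
    obtain ⟨y, hy⟩ := Module.projective_lifting_property (Nq n).mkQ (ψ ∘ₗ π)
      (Submodule.mkQ_surjective _)
    refine ⟨y, hy, mem_smul_hom A _ s N _ fun w => ?_⟩
    change y (τ w) ∈ Nq n
    rw [← Submodule.Quotient.mk_eq_zero]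
    have h1 := LinearMap.congr_fun hy (τ w)
    simp only [LinearMap.comp_apply] at h1
    rw [show π (τ w) = 0 from (hexact _).2 ⟨w, rfl⟩, map_zero] at h1
    exact h1
  refine ⟨fun n => ⟨n + c, Nat.le_add_right n c, fun k hk hn ψ => ?_⟩, c, fun n => ⟨?_, ?_⟩⟩
  · obtain ⟨y, hy, hβy⟩ := hlift (n + c) ψ
    obtain ⟨z, hz, hzy⟩ := (hc n).1 y hβy
    rw [hker] at hz
    obtain ⟨φ, rfl⟩ := hz
    refine ⟨red k φ, LinearMap.ext fun x => ?_⟩
    obtain ⟨x, rfl⟩ := hπ x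
    simp only [pr, red, LinearMap.comp_apply]
    rw [← LinearMap.comp_apply ψ, ← hy, LinearMap.comp_apply, Submodule.mkQ_apply,
      Submodule.mkQ_apply, Submodule.mapQ_apply, Submodule.mapQ_apply]
    exact ((Submodule.Quotient.eq _).2 (mem_smul_apply A _ _ hzy x)).symm
  · intro φ hφ a ha
    have h1 : γ φ ∈ (I ^ n • ⊤ : Submodule A _) := mem_smul_hom A _ r N _ fun x =>
      (Submodule.Quotient.mk_eq_zero _).1 (LinearMap.congr_fun hφ (π x))
    have h2 := (hc n).2.1 (γ φ) (hker.ge (LinearMap.mem_range_self γ φ)) h1 a ha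
    rw [hker, ← map_smul, ← Submodule.map_top, ← Submodule.map_smul''] at h2
    obtain ⟨ψ, hψ, hψe⟩ := h2
    exact hγ hψe ▸ hψ
  · intro ψ a ha
    obtain ⟨y, hy, hβy⟩ := hlift n ψ
    obtain ⟨z, hz, hzy⟩ := (hc n).2.2 y hβy a ha
    rw [hker] at hz
    obtain ⟨φ, rfl⟩ := hz
    refine ⟨φ, LinearMap.ext fun x => ?_⟩
    obtain ⟨x, rfl⟩ := hπ x
    simp only [red, LinearMap.comp_apply, LinearMap.smul_apply]
    rw [← LinearMap.comp_apply ψ, ← hy, LinearMap.comp_apply, Submodule.mkQ_apply,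
      Submodule.mkQ_apply, ← Submodule.Quotient.mk_smul]
    exact ((Submodule.Quotient.eq _).2 (mem_smul_apply A _ _ hzy x)).symm

end Groth.Agent.S7136

namespace Groth.Agent.S7136

/-- Let A be a Noetherian ring, I an ideal, and M, N finite A-modules; write N_n = N/IⁿN, so that
Hom_A(M/IⁿM, N_n) = Hom_A(M, N_n). Then (1) the inverse system (Hom_A(M, N_n))_n, with transition
maps induced by the projections N_k → N_n, is Mittag-Leffler; (2) there is c ≥ 0 such that for all n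
the kernel and the cokernel of Hom_A(M, N)/IⁿHom_A(M, N) → Hom_A(M, N_n) are annihilated by I^c. -/
theorem result (A : Type u) [CommRing A] [IsNoetherianRing A]
    (I : Ideal A) (M N : Type u) [AddCommGroup M] [Module A M] [Module.Finite A M] [AddCommGroup N] [Module A N]
    [Module.Finite A N] :
    let Nq : ℕ → Submodule A N := fun n => I ^ n • ⊤
    let pr : ∀ n k : ℕ, n ≤ k → (N ⧸ Nq k) →ₗ[A] (N ⧸ Nq n) :=
      fun n k hnk => Submodule.mapQ (Nq k) (Nq n) (LinearMap.id : N →ₗ[A] N) (Submodule.smul_mono_left (Ideal.pow_le_pow_right hnk))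
    let red : ∀ n : ℕ, (M →ₗ[A] N) → (M →ₗ[A] N ⧸ Nq n) := fun n φ => (Nq n).mkQ ∘ₗ φ
    (∀ n : ℕ, ∃ m : ℕ, n ≤ m ∧ ∀ (k : ℕ) (hmk : m ≤ k) (hnm : n ≤ m) (ψ : M →ₗ[A] N ⧸ Nq m),
        ∃ ψ' : M →ₗ[A] N ⧸ Nq k, pr n k (hnm.trans hmk) ∘ₗ ψ' = pr n m hnm ∘ₗ ψ) ∧
    ∃ c : ℕ, ∀ n : ℕ,
      (∀ φ : M →ₗ[A] N, red n φ = 0 → ∀ a ∈ I ^ c, a • φ ∈ (I ^ n • ⊤ : Submodule A (M →ₗ[A] N))) ∧
      (∀ (ψ : M →ₗ[A] N ⧸ Nq n), ∀ a ∈ I ^ c, ∃ φ : M →ₗ[A] N, red n φ = a • ψ) := by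
  exact aux A I M N

end Groth.Agent.S7136
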