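import Groth.Statements.S7137
import Groth.Agent.CAlgReg.AusBuch
import Groth.Agent.Depth.Change
import Groth.Agent.Depth.CM
-- import your own Groth.Agent.* helpers here

set_option autoImplicit false
universe u
open CategoryTheory
open CAlg

namespace Groth.Agent.S7137aux

open Groth.Agent.CAlgReg CategoryTheory

theorem pdLT_ext {R : Type u} [CommRing R] {A B C : Type u} [AddCommGroup A] [Module R A]
    [AddCommGroup B] [Module R B] [AddCommGroup C] [Module R C] (f : A →ₗ[R] B) (g : B →ₗ[R] C)
    (hf : Function.Injective f) (hfg : Function.Exact f g) (hg : Function.Surjective g) {n : ℕ}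
    (hA : PdLT R A n) (hB : PdLT R B (n + 1)) : PdLT R C (n + 1) := by
  let S : ShortComplex (ModuleCat.{u} R) :=
    ModuleCat.shortComplexOfCompEqZero f g hfg.linearMap_comp_eq_zero
  have hS : S.ShortExact := ModuleCat.shortComplex_shortExact S hfg hf hg
  exact hS.hasProjectiveDimensionLT_X₃ n hA hB

theorem pdLT_pi {R : Type u} [CommRing R] (M : Type u) [AddCommGroup M] [Module R M] {n : ℕ}
    (hM : PdLT R M (n + 1)) : ∀ k : ℕ, PdLT R (Fin k → M) (n + 1) := by
  intro k
  induction k with
  | zero => exact pdLT_mono (by omega) (pdLT_one (M := (Fin 0 → M)))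
  | succ k ih =>
    refine pdLT_congr (Fin.consLinearEquiv R fun _ => M) ?_
    let S : ShortComplex (ModuleCat.{u} R) := ModuleCat.shortComplexOfCompEqZero
      (LinearMap.inl R M (Fin k → M)) (LinearMap.snd R M (Fin k → M))
      Function.Exact.inl_snd.linearMap_comp_eq_zero
    have hS : S.ShortExact := ModuleCat.shortComplex_shortExact S Function.Exact.inl_snd
      LinearMap.inl_injective LinearMap.snd_surjective
    exact hS.hasProjectiveDimensionLT_X₂ (n + 1) hM ih

/-- Change of rings for the projective dimension. -/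
theorem pdLT_changeRings {R : Type u} [CommRing R] (S : Type u) [CommRing S] [Algebra R S]
    [IsLocalRing S] [IsNoetherianRing S] {a : ℕ} (hS : PdLT R S (a + 1)) :
    ∀ (b : ℕ) (E : Type u) [AddCommGroup E] [Module S E] [Module R E] [IsScalarTower R S E]
      [Module.Finite S E], PdLT S E (b + 1) → PdLT R E (a + b + 1) := by
  intro b
  induction b with
  | zero =>
    intro E _ _ _ _ _ h
    have : Module.Projective S E := projective_of_pdLT_one h
    have : Module.Free S E := Module.free_of_flat_of_isLocalRing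
    let e := (Module.finBasis S E).equivFun
    exact pdLT_congr (e.restrictScalars R).symm (pdLT_pi S hS _)
  | succ b ih =>
    intro E _ _ _ _ _ h
    obtain ⟨n, g, hg⟩ := Module.Finite.exists_fin' S E
    have hK : PdLT S (LinearMap.ker g) (b + 1) :=
      pdLT_left (A := LinearMap.ker g) (LinearMap.ker g).subtype g Subtype.val_injective
        (LinearMap.exact_subtype_ker_map g) hg h
    exact pdLT_ext ((LinearMap.ker g).subtype.restrictScalars R) (g.restrictScalars R)
      Subtype.val_injective (LinearMap.exact_subtype_ker_map g) hg (ih (LinearMap.ker g) hK)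
      (pdLT_mono (by omega) (pdLT_pi S hS n))

theorem exists_pd {R : Type u} [CommRing R] (M : Type u) [AddCommGroup M] [Module R M] [Nontrivial M]
    (h : projectiveDimension (ModuleCat.of R M) ≠ ⊤) :
    ∃ e : ℕ, projectiveDimension (ModuleCat.of R M) = e ∧ PdLT R M (e + 1) := by
  have hne : projectiveDimension (ModuleCat.of R M) ≠ ⊥ := fun h0 =>
    not_subsingleton M (ModuleCat.subsingleton_of_isZero ((projectiveDimension_eq_bot_iff _).1 h0))
  obtain ⟨d, hd⟩ := WithBot.ne_bot_iff_exists.1 hne
  rcases d with _ | e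
  · exact absurd hd.symm h
  · refine ⟨e, hd.symm, ?_⟩
    exact (projectiveDimension_le_iff _ e).1 hd.symm.le

end Groth.Agent.S7137aux

namespace Groth.Agent.S7137

/-- Take a Noetherian local ring R, an ideal I and a finite module E ≠ 0 over R/I. Suppose that R/I, as
an R-module, and E, as an R/I-module, both have finite projective dimension. Then E, as an R-module,
has finite projective dimension too, and it equals pd_R(R/I) + pd_{R/I}(E). -/
theorem result (R : Type u) [CommRing R] [IsNoetherianRing R] [IsLocalRing R]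
    (I : Ideal R) (E : Type u) [AddCommGroup E] [Module (R ⧸ I) E] [Module R E] [IsScalarTower R (R ⧸ I) E]
    [Module.Finite (R ⧸ I) E] [Nontrivial E]
    (h1 : projectiveDimension (ModuleCat.of R (R ⧸ I)) ≠ ⊤)
    (h2 : projectiveDimension (ModuleCat.of (R ⧸ I) E) ≠ ⊤) :
    projectiveDimension (ModuleCat.of R E) ≠ ⊤ ∧
      projectiveDimension (ModuleCat.of R E) =
        projectiveDimension (ModuleCat.of R (R ⧸ I)) + projectiveDimension (ModuleCat.of (R ⧸ I) E) := by
  classical
  have : Nontrivial (R ⧸ I) := Module.nontrivial (R ⧸ I) E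
  have : IsLocalRing (R ⧸ I) :=
    IsLocalRing.of_surjective' (Ideal.Quotient.mk I) Ideal.Quotient.mk_surjective
  have : Module.Finite R E := Module.Finite.trans (R ⧸ I) E
  obtain ⟨a, ha, ha'⟩ := Groth.Agent.S7137aux.exists_pd (R ⧸ I) h1
  obtain ⟨b, hb, hb'⟩ := Groth.Agent.S7137aux.exists_pd E h2
  have hE : projectiveDimension (ModuleCat.of R E) ≠ ⊤ := (projectiveDimension_ne_top_iff _).2
    ⟨a + b, Groth.Agent.S7137aux.pdLT_changeRings (R ⧸ I) ha' b E hb'⟩
  obtain ⟨e, he, -⟩ := Groth.Agent.S7137aux.exists_pd E hE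
  refine ⟨hE, ?_⟩
  have hab1 := Groth.Agent.CAlgReg.auslander_buchsbaum (R ⧸ I) a ha
  have hab2 := Groth.Agent.CAlgReg.auslander_buchsbaum (R := R ⧸ I) E b hb
  have hab3 := Groth.Agent.CAlgReg.auslander_buchsbaum E e he
  have hsurj : Function.Surjective (algebraMap R (R ⧸ I)) := Ideal.Quotient.mk_surjective
  have hd1 := Groth.Agent.Depth.depth_eq_of_surjective (M := R ⧸ I) hsurj
  have hd2 := Groth.Agent.Depth.depth_eq_of_surjective (M := E) hsurj
  have hfin : LocCoh.depth R E ≠ ⊤ := Groth.Agent.Depth.idealDepth_ne_top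
    (fun h => top_ne_bot (α := Submodule R E) (Submodule.eq_bot_of_le_smul_of_le_jacobson_bot _ _
      Module.Finite.fg_top h.ge (IsLocalRing.maximalIdeal_le_jacobson _)))
  rw [← hd1, hab2, hd2, ← add_assoc] at hab1
  rw [hab3] at hab1
  obtain ⟨D, hD⟩ := ENat.ne_top_iff_exists.1 hfin
  rw [← hD] at hab1
  have : e = a + b := by
    have h' : e + D = a + b + D := by exact_mod_cast hab1
    omega
  rw [he, ha, hb, this]
  push_cast
  rfl

end Groth.Agent.S7137
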