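import Groth.Statements.S7138
import Mathlib
import Groth.Agent.Greenberg.Newton
import Groth.Agent.CplFin.Basic
import Groth.Agent.CAlgCompl.Local

set_option autoImplicit false
universe u
open EtAlg

namespace Groth.Agent.S7138

set_option maxHeartbeats 4000000
open Polynomial IsLocalRing

/-- One-variable Newton lemma. -/
lemma newton₁ {R : Type u} [CommRing R] {I : Ideal R} (h : Hensel.GabberRoot R I) (f : R[X]) (a : R)
    (hf : ∃ b ∈ I, f.eval a = (derivative f).eval a ^ 2 * b) :
    ∃ r, f.eval r = 0 ∧ ∃ z ∈ I, r - a = (derivative f).eval a * z := by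
  classical
  let e : R[X] →ₐ[R] MvPolynomial (Fin 1) R := Polynomial.aeval (MvPolynomial.X 0)
  have hev : ∀ (v : Fin 1 → R) (q : R[X]), MvPolynomial.eval v (e q) = q.eval (v 0) := fun v q => by
    induction q using Polynomial.induction_on' with
    | add p q hp hq => rw [map_add, map_add, hp, hq, eval_add]
    | monomial n c => simp [e, Polynomial.aeval_monomial]
  have hd : ∀ q : R[X], MvPolynomial.pderiv (0 : Fin 1) (e q) = e (derivative q) := fun q => by
    induction q using Polynomial.induction_on' with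
    | add p q hp hq => rw [map_add, map_add, hp, hq, map_add, map_add]
    | monomial n c => simp [e, Polynomial.aeval_monomial, derivative_monomial] <;> ring
  obtain ⟨a', h1, h2⟩ := Greenberg.newton h (fun _ : Fin 1 => e f) (fun _ => a) (fun _ => 0) ((derivative f).eval a)
    (by simp [Matrix.det_fin_one, hd, hev]) (fun _ => by simpa [hev] using hf)
  exact ⟨a' 0, by simpa [hev] using h1 0, by simpa using h2 0⟩

lemma isUnit_one_add_mul {C : Type*} [CommRing C] {I : Ideal C} (hI : I ≤ Ideal.jacobson ⊥) {x : C} (hx : x ∈ I) :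
    IsUnit (1 + x) := by
  rw [add_comm]
  have := Ideal.mem_jacobson_bot.mp (hI hx) 1
  rwa [mul_one] at this

open TensorProduct in
/-- Let A be a discrete valuation ring, K its field of fractions, A^ its completion and K^ the fraction
field of A^. Every finite separable extension M of K^ arises by base change: M ≅ K^ ⊗_K L as
K^-algebras for some finite separable extension L/K. -/
theorem result (A K : Type u) [CommRing A] [IsDomain A]
    [IsDiscreteValuationRing A] [Field K] [Algebra A K] [IsFractionRing A K]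
    (Kh : Type u) [Field Kh] [Algebra (AdicCompletion (IsLocalRing.maximalIdeal A) A) Kh]
    [IsFractionRing (AdicCompletion (IsLocalRing.maximalIdeal A) A) Kh] [Algebra A Kh] [Algebra K Kh]
    [IsScalarTower A (AdicCompletion (IsLocalRing.maximalIdeal A) A) Kh] [IsScalarTower A K Kh]
    (M : Type u) [Field M] [Algebra Kh M] [FiniteDimensional Kh M] [Algebra.IsSeparable Kh M] :
    ∃ (L : Type u) (_ : Field L) (_ : Algebra K L), FiniteDimensional K L ∧ Algebra.IsSeparable K L ∧
      Nonempty ((Kh ⊗[K] L) ≃ₐ[Kh] M) := by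
  classical
  set Ah := AdicCompletion (maximalIdeal A) A
  obtain ⟨hdom, hdvr⟩ := (Groth.Agent.CAlgCompl.exists_dvr_iff A).mp ⟨inferInstance, (inferInstance : IsDiscreteValuationRing A)⟩
  haveI : IsDomain Ah := hdom
  haveI : IsDiscreteValuationRing Ah := hdvr
  obtain ⟨π, hπ⟩ := IsDiscreteValuationRing.exists_irreducible A
  have hmA := hπ.maximalIdeal_eq
  set ϖ := algebraMap A Ah π with hϖ
  have hmAh : maximalIdeal Ah = Ideal.span {ϖ} := by
    rw [AdicCompletion.maximalIdeal_eq_map]
    exact (congrArg (Ideal.map (algebraMap A Ah)) hmA).trans (by rw [Ideal.map_span, Set.image_singleton])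
  have hϖirr : Irreducible ϖ := (IsDiscreteValuationRing.irreducible_iff_uniformizer ϖ).mpr hmAh
  haveI : IsAdicComplete (maximalIdeal Ah) Ah := AdicCompletion.isAdicComplete_of_fg (IsNoetherian.noetherian _)
  letI : Algebra Ah M := ((algebraMap Kh M).comp (algebraMap Ah Kh)).toAlgebra
  haveI : IsScalarTower Ah Kh M := IsScalarTower.of_algebraMap_eq fun _ => rfl
  have hinjM : Function.Injective (algebraMap Ah M) := (algebraMap Kh M).injective.comp (IsFractionRing.injective Ah Kh)
  -- complete finite orders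
  have hcompl : ∀ (S : Subalgebra Ah M) [Module.Finite Ah S], Hensel.GabberRoot S (Ideal.span {algebraMap Ah S ϖ}) ∧
      Ideal.span {algebraMap Ah S ϖ} ≤ Ideal.jacobson ⊥ := by
    intro S _
    haveI : IsAdicComplete (maximalIdeal Ah) S := Groth.Agent.CplFin.isAdicComplete_of_finite Ah (maximalIdeal Ah) S
    haveI : IsAdicComplete (Ideal.span {algebraMap Ah S ϖ}) S := by
      rw [← Set.image_singleton, ← Ideal.map_span, ← hmAh]
      exact (IsAdicComplete.map_algebraMap_iff _ _).mpr ‹_›
    haveI := IsAdicComplete.henselianRing S (Ideal.span {algebraMap Ah S ϖ})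
    exact ⟨Hensel.gabberRoot_of_henselianRing, IsAdicComplete.le_jacobson_bot _⟩
  -- integral primitive element
  obtain ⟨θ₀, hθ₀⟩ := Field.exists_primitive_element Kh M
  obtain ⟨⟨m, hm⟩, hmθ⟩ := IsIntegral.exists_multiple_integral_of_isLocalization (nonZeroDivisors Ah) (Rₘ := Kh) θ₀
    (Algebra.IsIntegral.isIntegral θ₀)
  set θ := algebraMap Ah M m * θ₀ with hθdef
  have hθint : IsIntegral Ah θ := by rwa [Submonoid.smul_def, Algebra.smul_def] at hmθ
  have hθ : IntermediateField.adjoin Kh {θ} = ⊤ := by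
    refine eq_top_iff.mpr (hθ₀ ▸ IntermediateField.adjoin_simple_le_iff.mpr ?_)
    have e : θ₀ = (algebraMap Kh M (algebraMap Ah Kh m))⁻¹ * θ := by
      rw [hθdef, IsScalarTower.algebraMap_apply Ah Kh M, inv_mul_cancel_left₀]
      exact (_root_.map_ne_zero _).mpr ((map_ne_zero_iff _ (IsFractionRing.injective Ah Kh)).mpr (nonZeroDivisors.ne_zero hm))
    rw [e, ← map_inv₀]
    exact mul_mem (IntermediateField.algebraMap_mem _ _) (IntermediateField.mem_adjoin_simple_self Kh θ)
  set g := minpoly Ah θ with hgdef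
  have hgK : minpoly Kh θ = g.map (algebraMap Ah Kh) := minpoly.isIntegrallyClosed_eq_field_fractions' Kh hθint
  set n := g.natDegree with hn
  have hgm : g.Monic := minpoly.monic hθint
  have hn0 : 0 < n := minpoly.natDegree_pos hθint
  have hfr : Module.finrank Kh M = n := by
    rw [← (IntermediateField.topEquiv (F := Kh) (E := M)).toLinearEquiv.finrank_eq, ← hθ,
      IntermediateField.adjoin.finrank (Algebra.IsIntegral.isIntegral θ), hgK, hgm.natDegree_map]
  have hgθ : aeval θ g = 0 := minpoly.aeval Ah θ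
  have hd0 : aeval θ (derivative g) ≠ 0 := by
    rw [← aeval_map_algebraMap Kh θ, ← derivative_map, ← hgK]
    exact Separable.aeval_derivative_ne_zero (Algebra.IsSeparable.isSeparable Kh θ) (minpoly.aeval Kh θ)
  haveI : Module.Finite Ah (integralClosure Ah M) := IsIntegralClosure.finite Ah Kh M (integralClosure Ah M)
  set Cm := integralClosure Ah M
  obtain ⟨hG, hJ⟩ := hcompl Cm
  let θc : Cm := ⟨θ, hθint⟩
  have hcoe : ∀ (x : Cm) (q : Ah[X]), ((aeval x q : Cm) : M) = aeval (x : M) q := fun x q => (aeval_algHom_apply Cm.val x q).symm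
  have hd0c : aeval θc (derivative g) ≠ 0 := fun h => hd0 (by rw [← hcoe θc, h]; rfl)
  -- d divides a power of the uniformizer
  obtain ⟨e, w, hw⟩ : ∃ e w, algebraMap Ah Cm ϖ ^ e = aeval θc (derivative g) * w := by
    obtain ⟨b, hb, hb0⟩ := Submodule.exists_mem_ne_zero_of_ne_bot (Ideal.comap_ne_bot_of_integral_mem (R := Ah)
      (I := Ideal.span {aeval θc (derivative g)}) hd0c (Ideal.mem_span_singleton_self _) (Algebra.IsIntegral.isIntegral _))
    obtain ⟨e, u, rfl⟩ := IsDiscreteValuationRing.eq_unit_mul_pow_irreducible hb0 hϖirr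
    rw [Ideal.mem_comap, map_mul, Ideal.mem_span_singleton, (IsUnit.dvd_mul_left (u.isUnit.map _)), map_pow] at hb
    exact ⟨e, hb⟩
  set N := 2 * e + 1 with hN
  -- approximation
  have happ : ∀ x : Ah, ∃ a : A, ∃ y, x - algebraMap A Ah a = ϖ ^ N * y := by
    intro x
    obtain ⟨a, ha⟩ := Submodule.Quotient.mk_surjective _ (AdicCompletion.eval (maximalIdeal A) A N x)
    have hker : x - AdicCompletion.of (maximalIdeal A) A a ∈ (AdicCompletion.eval (maximalIdeal A) A N).ker := by
      rw [LinearMap.mem_ker, map_sub, AdicCompletion.eval_of, Submodule.mkQ_apply, ha, sub_self]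
    rw [← AdicCompletion.pow_smul_top_eq_ker_eval (IsNoetherian.noetherian _),
      show maximalIdeal A ^ N = Ideal.span {π ^ N} by rw [hmA, Ideal.span_singleton_pow],
      Submodule.ideal_span_singleton_smul, Submodule.mem_smul_pointwise_iff_exists] at hker
    obtain ⟨y, -, hy⟩ := hker
    refine ⟨a, y, ?_⟩
    rw [show algebraMap A Ah a = AdicCompletion.of (maximalIdeal A) A a from rfl, ← hy, hϖ, ← map_pow, Algebra.smul_def]
  choose a y hy using fun i => happ (g.coeff i)
  set f : A[X] := X ^ n + ∑ i ∈ Finset.range n, Polynomial.C (a i) * X ^ i with hf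
  set D : Ah[X] := ∑ i ∈ Finset.range n, Polynomial.C (y i) * X ^ i with hD
  set F := f.map (algebraMap A Ah) with hF
  have hgf : g = F + Polynomial.C (ϖ ^ N) * D := by
    conv_lhs => rw [hgm.as_sum]
    rw [hF, hf, hD, Polynomial.map_add, Polynomial.map_pow, map_X, Polynomial.map_sum, Finset.mul_sum, add_assoc, ← Finset.sum_add_distrib]
    refine congrArg (X ^ n + ·) (Finset.sum_congr rfl fun i _ => ?_)
    rw [Polynomial.map_mul, map_C, Polynomial.map_pow, map_X, ← mul_assoc, ← C_mul, ← add_mul, ← C_add, ← hy i, add_sub_cancel]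
  have hdeg : (∑ i ∈ Finset.range n, Polynomial.C (a i) * X ^ i).degree < (n : WithBot ℕ) :=
    (degree_sum_le _ _).trans_lt ((Finset.sup_lt_iff (WithBot.bot_lt_coe n)).mpr fun i hi =>
      (degree_C_mul_X_pow_le i (a i)).trans_lt (WithBot.coe_lt_coe.mpr (Finset.mem_range.mp hi)))
  have hfm : f.Monic := monic_X_pow_add hdeg
  have hfn : f.natDegree = n := natDegree_eq_of_degree_eq_some (by
    rw [hf, degree_add_eq_left_of_degree_lt (by rw [degree_X_pow]; exact hdeg), degree_X_pow])
  -- root of F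
  set ϖc := algebraMap Ah Cm ϖ with hϖc
  set d := aeval θc (derivative g) with hd
  have hgc : aeval θc g = 0 := Subtype.ext (by rw [hcoe]; exact hgθ)
  have hFθ : aeval θc F = -(ϖc ^ N * aeval θc D) := by
    rw [hgf, map_add, map_mul, aeval_C, map_pow] at hgc
    linear_combination hgc
  have hu : IsUnit (1 + -(w * ϖc ^ (e + 1) * aeval θc (derivative D))) :=
    isUnit_one_add_mul hJ (Ideal.mem_span_singleton.mpr ⟨-(w * ϖc ^ e * aeval θc (derivative D)), by ring⟩)
  obtain ⟨u, hu⟩ := hu
  have hFd : aeval θc (derivative F) = d * u := by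
    have hNw : ϖc ^ N = d * w * ϖc ^ (e + 1) := by rw [hN, show 2 * e + 1 = e + (e + 1) by omega, pow_add, hw]
    have hgd0 : d = aeval θc (derivative F) + ϖc ^ N * aeval θc (derivative D) := by
      rw [hd, hgf, derivative_add, derivative_C_mul, map_add, map_mul, aeval_C, map_pow]
    rw [hNw] at hgd0
    rw [hu]
    linear_combination -hgd0
  obtain ⟨θ', hθ', z, hz, hθθ⟩ := newton₁ hG (F.map (algebraMap Ah Cm)) θc
    ⟨-(↑u⁻¹ ^ 2 * ϖc * w ^ 2 * aeval θc D), by
      rw [neg_mem_iff]; exact Ideal.mul_mem_right _ _ (Ideal.mul_mem_right _ _ (Ideal.mul_mem_left _ _ (Ideal.mem_span_singleton_self _))), by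
      rw [derivative_map, eval_map_algebraMap, eval_map_algebraMap, hFθ, hFd, hN, pow_succ, show 2 * e = e * 2 by ring, pow_mul, hw,
        show (d * (u : Cm)) ^ 2 * -(↑u⁻¹ ^ 2 * ϖc * w ^ 2 * aeval θc D) = -(((u : Cm) * ↑u⁻¹) ^ 2 * (d ^ 2 * ϖc * w ^ 2 * aeval θc D)) by ring,
        Units.mul_inv, one_pow, one_mul]
      ring⟩
  rw [eval_map_algebraMap] at hθ'
  rw [derivative_map, eval_map_algebraMap, hFd] at hθθ
  -- the root θ' generates M
  set M' := IntermediateField.adjoin Kh {(θ' : M)} with hM'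
  let S : Subalgebra Ah M := Cm ⊓ M'.toSubalgebra.restrictScalars Ah
  haveI : Module.Finite Ah S := Module.Finite.of_injective (Subalgebra.inclusion (inf_le_left : S ≤ Cm)).toLinearMap
    (Subalgebra.inclusion_injective (inf_le_left : S ≤ Cm))
  obtain ⟨hG', hJ'⟩ := hcompl S
  let θs : S := ⟨θ', θ'.2, IntermediateField.mem_adjoin_simple_self Kh (θ' : M)⟩
  have hcoeS : ∀ q : Ah[X], ((aeval θs q : S) : M) = ((aeval θ' q : Cm) : M) := fun q => by
    rw [hcoe]; exact (aeval_algHom_apply S.val θs q).symm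
  -- d' := g'(θ') = d * unit
  obtain ⟨k, hk⟩ : d * ↑u * z ∣ aeval θ' (derivative g) - d := by
    have := Polynomial.sub_dvd_eval_sub θ' θc ((derivative g).map (algebraMap Ah Cm))
    rw [eval_map_algebraMap, eval_map_algebraMap] at this
    rwa [hθθ, ← hd] at this
  obtain ⟨ze, hze⟩ := Ideal.mem_span_singleton.mp hz
  obtain ⟨u₂, hu₂⟩ : IsUnit (1 + ↑u * z * k) := isUnit_one_add_mul hJ (Ideal.mul_mem_right _ _ (Ideal.mul_mem_left _ _ hz))
  have hgd : aeval θ' (derivative g) = d * u₂ := by rw [hu₂]; linear_combination hk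
  have hd'0 : aeval θ' (derivative g) ≠ 0 := by rw [hgd]; exact mul_ne_zero hd0c u₂.ne_zero
  have hgS : ((aeval θs g : S) : M) = ((ϖc ^ N * aeval θ' D : Cm) : M) := by
    rw [hcoeS, hgf, map_add, hθ', zero_add, map_mul, aeval_C, map_pow]
  set q : M := ((aeval θs g : S) : M) / (((aeval θs (derivative g) : S) : M) ^ 2) with hq
  have hqC : q = (((↑u₂⁻¹ : Cm) ^ 2 * ϖc * w ^ 2 * aeval θ' D : Cm) : M) := by
    rw [hq, hgS, hcoeS, hgd, div_eq_iff (pow_ne_zero _ fun h => hd'0 (hgd.trans (Subtype.ext h)))]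
    have e1 : ϖc ^ N * aeval θ' D = (↑u₂⁻¹ : Cm) ^ 2 * ϖc * w ^ 2 * aeval θ' D * (d * ↑u₂) ^ 2 := by
      rw [hN, pow_succ, show 2 * e = e * 2 by ring, pow_mul, hw,
        show (↑u₂⁻¹ : Cm) ^ 2 * ϖc * w ^ 2 * aeval θ' D * (d * ↑u₂) ^ 2 = ((u₂ : Cm) * ↑u₂⁻¹) ^ 2 * (d ^ 2 * ϖc * w ^ 2 * aeval θ' D) by ring,
        Units.mul_inv, one_pow, one_mul]
      ring
    exact congrArg Subtype.val e1
  have hqM : q / algebraMap Ah M ϖ ∈ S := by
    refine ⟨?_, ?_⟩
    · rw [hqC, show (((↑u₂⁻¹ : Cm) ^ 2 * ϖc * w ^ 2 * aeval θ' D : Cm) : M) / algebraMap Ah M ϖ =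
        (((↑u₂⁻¹ : Cm) ^ 2 * w ^ 2 * aeval θ' D : Cm) : M) by
          rw [div_eq_iff ((map_ne_zero_iff _ hinjM).mpr hϖirr.ne_zero)]
          exact congrArg Subtype.val (show (↑u₂⁻¹ : Cm) ^ 2 * ϖc * w ^ 2 * aeval θ' D = _ * ϖc by ring)]
      exact Subtype.property _
    · show q / algebraMap Ah M ϖ ∈ M'
      exact div_mem (div_mem (aeval θs g : S).2.2 (pow_mem (aeval θs (derivative g) : S).2.2 _))
        (by rw [IsScalarTower.algebraMap_apply Ah Kh M]; exact M'.algebraMap_mem _)
  obtain ⟨θ'', hθ'', z', hz', hθθ'⟩ := newton₁ hG' (g.map (algebraMap Ah S)) θs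
    ⟨algebraMap Ah S ϖ * ⟨_, hqM⟩, Ideal.mul_mem_right _ _ (Ideal.mem_span_singleton_self _), Subtype.ext (by
      rw [derivative_map, eval_map_algebraMap, eval_map_algebraMap]
      show ((aeval θs g : S) : M) = ((aeval θs (derivative g) : S) : M) ^ 2 * (algebraMap Ah M ϖ * (q / algebraMap Ah M ϖ))
      rw [mul_div_cancel₀ _ ((map_ne_zero_iff _ hinjM).mpr hϖirr.ne_zero), hq, mul_div_cancel₀ _ (pow_ne_zero _ fun h => hd'0 (Subtype.ext (by
        rw [← hcoeS]; exact h)))])⟩
  rw [eval_map_algebraMap] at hθ''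
  rw [derivative_map, eval_map_algebraMap] at hθθ'
  -- uniqueness
  let ι : S →ₐ[Ah] Cm := Subalgebra.inclusion (inf_le_left : S ≤ Cm)
  have hιd : ι (aeval θs (derivative g)) = d * u₂ := by rw [← aeval_algHom_apply]; exact hgd
  obtain ⟨ze', hze'⟩ := Ideal.mem_span_singleton.mp hz'
  set η := (u₂ : Cm) * ι ze' + ↑u * ze with hη
  have hdiff : ι θ'' = θc + d * ϖc * η := by
    have h1 : ι θ'' - θ' = d * u₂ * (ϖc * ι ze') := by
      have := congrArg ι hθθ'
      rwa [map_sub, map_mul, hιd, hze', map_mul, AlgHom.commutes] at this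
    rw [hη]
    linear_combination h1 + hθθ + (d * ↑u) * hze
  obtain ⟨c, hc⟩ : ∃ c, aeval (θc + d * ϖc * η) g = d * (d * ϖc * η) + c * (d * ϖc * η) ^ 2 := by
    obtain ⟨c, hc⟩ := Polynomial.binomExpansion (g.map (algebraMap Ah Cm)) θc (d * ϖc * η)
    rw [derivative_map, eval_map_algebraMap, eval_map_algebraMap, eval_map_algebraMap, hgc, zero_add, ← hd] at hc
    exact ⟨c, hc⟩
  rw [← hdiff, aeval_algHom_apply, hθ'', map_zero] at hc
  have hη0 : η = 0 := by
    have h1 : d ^ 2 * ϖc * η * (1 + c * ϖc * η) = 0 := by linear_combination -hc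
    have h2 : IsUnit (1 + c * ϖc * η) := isUnit_one_add_mul hJ (Ideal.mul_mem_right _ _ (Ideal.mul_mem_left _ _ (Ideal.mem_span_singleton_self _)))
    rw [h2.mul_left_eq_zero, mul_eq_zero, mul_eq_zero] at h1
    refine (h1.resolve_left ?_)
    rintro (h | h)
    · exact hd0c (eq_zero_of_pow_eq_zero h)
    · exact hϖirr.ne_zero (hinjM (by rw [map_zero]; exact congrArg Subtype.val h))
  rw [hη0, mul_zero, add_zero] at hdiff
  have htop : IntermediateField.adjoin Kh {(θ' : M)} = ⊤ := by
    refine eq_top_iff.mpr (hθ ▸ IntermediateField.adjoin_simple_le_iff.mpr ?_)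
    have e' : (θ'' : M) = θ := congrArg Subtype.val hdiff
    exact e' ▸ θ''.2.2
  -- conclusion
  have hint' : IsIntegral Kh (θ' : M) := Algebra.IsIntegral.isIntegral _
  have hroot : aeval (θ' : M) F = 0 := by rw [← hcoe, hθ']; rfl
  have hmin : minpoly Kh (θ' : M) = (f.map (algebraMap A K)).map (algebraMap K Kh) := by
    refine (Polynomial.eq_of_monic_of_dvd_of_natDegree_le (minpoly.monic hint') ((hfm.map _).map _) (minpoly.dvd _ _ ?_) ?_).symm
    · rw [Polynomial.map_map, ← IsScalarTower.algebraMap_eq, IsScalarTower.algebraMap_eq A Ah Kh, ← Polynomial.map_map,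
        aeval_map_algebraMap]
      exact hroot
    · rw [(hfm.map _).natDegree_map, hfm.natDegree_map, hfn, ← hfr, ← IntermediateField.adjoin.finrank hint', htop]
      exact (IntermediateField.topEquiv (F := Kh) (E := M)).toLinearEquiv.finrank_eq.ge
  have hirrK : Irreducible (f.map (algebraMap A K)) :=
    Monic.irreducible_of_irreducible_map (algebraMap K Kh) _ (hfm.map _) (hmin ▸ minpoly.irreducible hint')
  have hsepK : (f.map (algebraMap A K)).Separable := (separable_map (algebraMap K Kh)).mp (hmin ▸ (Algebra.IsSeparable.isSeparable Kh (θ' : M)))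
  haveI := Fact.mk hirrK
  refine ⟨AdjoinRoot (f.map (algebraMap A K)), inferInstance, inferInstance, (AdjoinRoot.powerBasis hirrK.ne_zero).finite, ?_, ?_⟩
  · have hys : IsSeparable K (AdjoinRoot.root (f.map (algebraMap A K))) :=
      hsepK.of_dvd (minpoly.dvd K _ (by rw [AdjoinRoot.aeval_eq, AdjoinRoot.mk_self]))
    haveI : Algebra.IsSeparable K (IntermediateField.adjoin K {AdjoinRoot.root (f.map (algebraMap A K))}) :=
      (IntermediateField.isSeparable_adjoin_simple_iff_isSeparable K _).mpr hys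
    exact AlgEquiv.Algebra.isSeparable ((IntermediateField.equivOfEq (IntermediateField.adjoin_root_eq_top _)).trans IntermediateField.topEquiv)
  letI : Algebra K M := ((algebraMap Kh M).comp (algebraMap K Kh)).toAlgebra
  haveI : IsScalarTower K Kh M := IsScalarTower.of_algebraMap_eq fun _ => rfl
  let φ : AdjoinRoot (f.map (algebraMap A K)) →ₐ[K] M := AdjoinRoot.liftAlgHom _ (Algebra.ofId K M) (θ' : M) (by
    have h := minpoly.aeval Kh (θ' : M)
    rw [hmin, aeval_map_algebraMap, aeval_def] at h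
    exact h)
  let Φ : Kh ⊗[K] AdjoinRoot (f.map (algebraMap A K)) →ₐ[Kh] M := Algebra.TensorProduct.lift (Algebra.ofId Kh M) φ fun _ _ => .all _ _
  have hsurj : Function.Surjective Φ := by
    intro x
    have hx : x ∈ Algebra.adjoin Kh {(θ' : M)} := by
      rw [← IntermediateField.adjoin_simple_toSubalgebra_of_isAlgebraic (Algebra.IsAlgebraic.isAlgebraic (θ' : M)), htop]
      exact Algebra.mem_top
    refine (Algebra.adjoin_le (S := Φ.range) ?_ : _ ≤ Φ.range) hx
    rintro _ rfl
    exact ⟨1 ⊗ₜ AdjoinRoot.root _, by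
      show Φ _ = _
      rw [Algebra.TensorProduct.lift_tmul, map_one, one_mul]
      exact AdjoinRoot.liftAlgHom_root _ _ _ _⟩
  haveI : Module.Finite K (AdjoinRoot (f.map (algebraMap A K))) := (AdjoinRoot.powerBasis hirrK.ne_zero).finite
  exact ⟨AlgEquiv.ofBijective Φ ⟨(LinearMap.injective_iff_surjective_of_finrank_eq_finrank (f := Φ.toLinearMap) (by
    rw [Module.finrank_baseChange, (AdjoinRoot.powerBasis hirrK.ne_zero).finrank, AdjoinRoot.powerBasis_dim, hfm.natDegree_map, hfn, hfr])).mpr hsurj, hsurj⟩⟩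

end Groth.Agent.S7138
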