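import Groth.Statements.S7139
import Mathlib

set_option autoImplicit false
universe u
open EtAlg

namespace Groth.Agent.S7139

set_option maxHeartbeats 2000000
set_option synthInstance.maxHeartbeats 100000
open IsLocalRing
open scoped Pointwise
open Algebra (IsInvariant)


/-- A is a discrete valuation ring, K its field of fractions, and L/K is finite Galois with Galois group
G. Write B for the integral closure of A in L, equipped with the induced G-action, m a maximal ideal
of B and I ⊆ G its inertia group. Denote by B' the integral closure of A inside the fixed field L^I,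
with a map to B compatible with L^I ⊆ L. Then the image of B' in B is the ring of invariants B^I,
and A → B'_{m'} is étale, where m' = m ∩ B'. -/
theorem result (A K L B : Type u) [CommRing A] [IsDomain A]
    [IsDiscreteValuationRing A] [Field K] [Field L] [Algebra A K] [IsFractionRing A K] [Algebra K L]
    [Algebra A L] [IsScalarTower A K L] [FiniteDimensional K L] [IsGalois K L]
    [CommRing B] [Algebra A B] [Algebra B L] [IsScalarTower A B L] [IsIntegralClosure B A L]
    [MulSemiringAction (L ≃ₐ[K] L) B]
    (hact : ∀ (σ : L ≃ₐ[K] L) (b : B), algebraMap B L (σ • b) = σ (algebraMap B L b))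
    (m : Ideal B) [m.IsMaximal]
    (B' : Type u) [CommRing B'] [Algebra A B'] [Algebra B' B] [IsScalarTower A B' B] [Algebra B' L]
    [IsScalarTower B' B L]
    [Algebra B' (IntermediateField.fixedField (m.inertia (L ≃ₐ[K] L)))]
    [IsScalarTower B' (IntermediateField.fixedField (m.inertia (L ≃ₐ[K] L))) L]
    [IsIntegralClosure B' A (IntermediateField.fixedField (m.inertia (L ≃ₐ[K] L)))] :
    (∀ b : B, (∀ σ ∈ m.inertia (L ≃ₐ[K] L), σ • b = b) ↔ b ∈ Set.range (algebraMap B' B)) ∧
      Algebra.Etale A (Localization.AtPrime (m.comap (algebraMap B' B))) := by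
  classical
  have hinjK := IsFractionRing.injective A K
  have hAL : Function.Injective (algebraMap A L) := by
    rw [IsScalarTower.algebraMap_eq A K L]; exact (algebraMap K L).injective.comp hinjK
  haveI : IsDomain B := (IsIntegralClosure.algebraMap_injective B A L).isDomain
  haveI : IsFractionRing B L := IsIntegralClosure.isFractionRing_of_finite_extension A K L B
  haveI : IsDedekindDomain B := IsIntegralClosure.isDedekindDomain A K L B
  haveI : Module.Finite A B := IsIntegralClosure.finite A K L B
  haveI : SMulDistribClass (L ≃ₐ[K] L) B L := ⟨fun σ b x => by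
    show σ (b • x) = (σ • b) • σ x
    rw [Algebra.smul_def, Algebra.smul_def, map_mul, hact]⟩
  haveI : IsGaloisGroup (L ≃ₐ[K] L) A B := IsGaloisGroup.of_isFractionRing _ _ _ K L
  haveI : IsScalarTower A K (IntermediateField.fixedField (m.inertia (L ≃ₐ[K] L))) := inferInstance
  haveI : IsScalarTower A (IntermediateField.fixedField (m.inertia (L ≃ₐ[K] L))) L := IsScalarTower.of_algebraMap_eq fun a => (IsScalarTower.algebraMap_apply A K L a).trans (by rw [IsScalarTower.algebraMap_apply A K (IntermediateField.fixedField (m.inertia (L ≃ₐ[K] L)))]; rfl)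
  haveI : IsScalarTower A B' L := IsScalarTower.of_algebraMap_eq fun a => by rw [IsScalarTower.algebraMap_apply B' B L, ← IsScalarTower.algebraMap_apply A B' B, ← IsScalarTower.algebraMap_apply A B L]
  haveI hAB'F : IsScalarTower A B' (IntermediateField.fixedField (m.inertia (L ≃ₐ[K] L))) := IsScalarTower.of_algebraMap_eq fun a => (algebraMap (IntermediateField.fixedField (m.inertia (L ≃ₐ[K] L))) L).injective (by
    rw [← IsScalarTower.algebraMap_apply B' (IntermediateField.fixedField (m.inertia (L ≃ₐ[K] L))) L, IsScalarTower.algebraMap_apply B' B L, ← IsScalarTower.algebraMap_apply A B' B,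
      ← IsScalarTower.algebraMap_apply A B L, ← IsScalarTower.algebraMap_apply A (IntermediateField.fixedField (m.inertia (L ≃ₐ[K] L))) L])
  haveI : IsDomain B' := (IsIntegralClosure.algebraMap_injective B' A (IntermediateField.fixedField (m.inertia (L ≃ₐ[K] L)))).isDomain
  haveI : IsFractionRing B' (IntermediateField.fixedField (m.inertia (L ≃ₐ[K] L))) := IsIntegralClosure.isFractionRing_of_finite_extension A K (IntermediateField.fixedField (m.inertia (L ≃ₐ[K] L))) B'
  haveI : IsDedekindDomain B' := IsIntegralClosure.isDedekindDomain A K (IntermediateField.fixedField (m.inertia (L ≃ₐ[K] L))) B'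
  haveI : Module.Finite A B' := IsIntegralClosure.finite A K (IntermediateField.fixedField (m.inertia (L ≃ₐ[K] L))) B'
  haveI : Module.Finite B' B := Module.Finite.right A B' B
  have hB'B : Function.Injective (algebraMap B' B) := fun x y h => IsFractionRing.injective B' (IntermediateField.fixedField (m.inertia (L ≃ₐ[K] L))) ((algebraMap (IntermediateField.fixedField (m.inertia (L ≃ₐ[K] L))) L).injective (by
    rw [← IsScalarTower.algebraMap_apply, ← IsScalarTower.algebraMap_apply, IsScalarTower.algebraMap_apply B' B L, h,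
      ← IsScalarTower.algebraMap_apply]))
  haveI : FaithfulSMul B' B := (faithfulSMul_iff_algebraMap_injective B' B).mpr hB'B
  haveI : Algebra.IsIntegral B' B := Algebra.IsIntegral.of_finite B' B
  haveI : IsGaloisGroup (m.inertia (L ≃ₐ[K] L)) (IntermediateField.fixedField (m.inertia (L ≃ₐ[K] L))) L := IsGaloisGroup.subgroup (L ≃ₐ[K] L) K L (m.inertia (L ≃ₐ[K] L))
  haveI : IsGaloisGroup (m.inertia (L ≃ₐ[K] L)) B' B := IsGaloisGroup.of_isFractionRing _ _ _ (IntermediateField.fixedField (m.inertia (L ≃ₐ[K] L))) L
  refine ⟨fun b => ⟨fun hb => ?_, ?_⟩, ?_⟩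
  · have hmem : algebraMap B L b ∈ (IntermediateField.fixedField (m.inertia (L ≃ₐ[K] L))) := fun σ => by
      show (σ : (L ≃ₐ[K] L)) (algebraMap B L b) = _
      rw [← hact, hb σ σ.2]
    have hint : IsIntegral A (⟨algebraMap B L b, hmem⟩ : (IntermediateField.fixedField (m.inertia (L ≃ₐ[K] L)))) := by
      rw [← isIntegral_algebraMap_iff (algebraMap (IntermediateField.fixedField (m.inertia (L ≃ₐ[K] L))) L).injective]
      exact (Algebra.IsIntegral.isIntegral (R := A) b).algebraMap
    obtain ⟨b', hb'⟩ := (IsIntegralClosure.isIntegral_iff (A := B')).mp hint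
    refine ⟨b', IsIntegralClosure.algebraMap_injective B A L ?_⟩
    rw [← IsScalarTower.algebraMap_apply B' B L, IsScalarTower.algebraMap_apply B' (IntermediateField.fixedField (m.inertia (L ≃ₐ[K] L))) L, hb']
    rfl
  · rintro ⟨b', rfl⟩ σ hσ
    apply IsIntegralClosure.algebraMap_injective B A L
    rw [hact, ← IsScalarTower.algebraMap_apply B' B L, IsScalarTower.algebraMap_apply B' (IntermediateField.fixedField (m.inertia (L ≃ₐ[K] L))) L]
    exact (algebraMap B' (IntermediateField.fixedField (m.inertia (L ≃ₐ[K] L))) b').2 ⟨σ, hσ⟩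
  set p := maximalIdeal A with hp
  set q := m.comap (algebraMap B' B) with hq
  haveI : m.LiesOver p := ⟨(eq_maximalIdeal (Ideal.isMaximal_comap_of_isIntegral_of_isMaximal m)).symm⟩
  haveI : m.LiesOver q := ⟨rfl⟩
  haveI hqmax : q.IsMaximal := Ideal.isMaximal_comap_of_isIntegral_of_isMaximal m
  haveI : q.LiesOver p := Ideal.LiesOver.tower_bot m q p
  haveI : Module.Flat A B := by
    haveI : Module.IsTorsionFree A B := Module.isTorsionFree_iff_faithfulSMul.mpr ((faithfulSMul_iff_algebraMap_injective A B).mpr fun x y h => hAL (by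
      rw [IsScalarTower.algebraMap_apply A B L, h, ← IsScalarTower.algebraMap_apply]))
    infer_instance
  haveI : Module.Flat A B' := by
    haveI : Module.IsTorsionFree A B' := Module.isTorsionFree_iff_faithfulSMul.mpr ((faithfulSMul_iff_algebraMap_injective A B').mpr fun x y h => hAL (by
      rw [IsScalarTower.algebraMap_apply A B' L, h, ← IsScalarTower.algebraMap_apply]))
    infer_instance
  haveI : Module.IsTorsionFree B' B := Module.isTorsionFree_iff_faithfulSMul.mpr inferInstance
  haveI : Module.Flat B' B := inferInstance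
  have hone : (q.primesOver B).ncard = 1 := by
    rw [Set.ncard_eq_one]
    refine ⟨m, Set.eq_singleton_iff_unique_mem.mpr ⟨⟨inferInstance, inferInstance⟩, ?_⟩⟩
    rintro Q ⟨_, _⟩
    obtain ⟨σ, rfl⟩ := Ideal.exists_smul_eq_of_isGaloisGroup q m Q (m.inertia (L ≃ₐ[K] L))
    exact MulAction.mem_stabilizer_iff.mp (Ideal.inertia_le_stabilizer m σ.2)
  -- residue fields
  letI := Localization.AtPrime.algebraOfLiesOver p m
  letI := Localization.AtPrime.algebraOfLiesOver p q
  letI := Localization.AtPrime.algebraOfLiesOver q m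
  set kp := p.ResidueField
  set kq := q.ResidueField
  set km := m.ResidueField
  haveI : IsScalarTower kp kq km := inferInstance
  have key : ∀ {R : Type u} [CommRing R] [Algebra R B] [Module.Finite R B] (r : Ideal R) [r.IsPrime] [m.LiesOver r] (H : Type u) [Group H] [MulSemiringAction H B] [IsGaloisGroup H R B] [Finite H]
      [Algebra (Localization.AtPrime r) (Localization.AtPrime m)] [Localization.AtPrime.IsLiesOverAlgebra r m],
      Module.Finite r.ResidueField km ∧ Nat.card (MulAction.stabilizer H m) = Nat.card (m.inertia H) * Field.finSepDegree r.ResidueField km := by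
    intro R _ _ _ r _ _ H _ _ _ _ _ _
    have heq : (algebraMap (B ⧸ m) km).comp (algebraMap (R ⧸ r) (B ⧸ m)) =
        (algebraMap r.ResidueField km).comp (algebraMap (R ⧸ r) r.ResidueField) := by
      ext
      simp [km, ← IsScalarTower.algebraMap_apply]
    letI := ((algebraMap (B ⧸ m) km).comp (algebraMap (R ⧸ r) (B ⧸ m))).toAlgebra
    haveI : IsScalarTower (R ⧸ r) (B ⧸ m) km := .of_algebraMap_eq' rfl
    haveI : IsScalarTower (R ⧸ r) r.ResidueField km := .of_algebraMap_eq' heq
    haveI : Normal r.ResidueField km := Ideal.IsFractionRing.normal H r m r.ResidueField km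
    haveI hfin : Module.Finite r.ResidueField km := inferInstance
    refine ⟨hfin, ?_⟩
    have hidx : Subgroup.index _ = _ := Nat.card_congr (IsFractionRing.stabilizerQuotientInertiaEquiv H r m r.ResidueField km).toEquiv
    have hsep : Field.finSepDegree r.ResidueField km = Nat.card (km ≃ₐ[r.ResidueField] km) := by
      show Nat.card (Field.Emb r.ResidueField km) = _
      exact Nat.card_congr (Normal.algHomEquivAut r.ResidueField (AlgebraicClosure km) km)
    rw [hsep, ← hidx, ← ((m.inertia H).subgroupOf (MulAction.stabilizer H m)).card_mul_index,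
      Nat.card_congr (Subgroup.subgroupOfEquivOfLe (Ideal.inertia_le_stabilizer (M := H) m)).toEquiv, AddSubgroup.subgroupOf_inertia]
  obtain ⟨hfpm, hD⟩ := key (R := A) p (L ≃ₐ[K] L)
  obtain ⟨hfqm, hDI⟩ := key (R := B') q (m.inertia (L ≃ₐ[K] L))
  haveI : Module.Finite kp kq := Module.Finite.of_injective (IsScalarTower.toAlgHom kp kq km).toLinearMap (algebraMap kq km).injective
  have hsI : Field.finSepDegree kq km = 1 := by
    have hmem : ∀ σ : (m.inertia (L ≃ₐ[K] L)), σ • m = m := fun σ => MulAction.mem_stabilizer_iff.mp (Ideal.inertia_le_stabilizer m σ.2)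
    have e1 : Nat.card (MulAction.stabilizer (m.inertia (L ≃ₐ[K] L)) m) = Nat.card (m.inertia (L ≃ₐ[K] L)) :=
      Nat.card_congr (Equiv.subtypeUnivEquiv fun σ => MulAction.mem_stabilizer_iff.mpr (hmem σ))
    have e2 : Nat.card (m.inertia (m.inertia (L ≃ₐ[K] L))) = Nat.card (m.inertia (L ≃ₐ[K] L)) :=
      Nat.card_congr (Equiv.subtypeUnivEquiv fun σ => fun x => σ.2 x)
    have e3 := e1.symm.trans (hDI.trans (congrArg (· * _) e2))
    exact (Nat.eq_of_mul_eq_mul_left Nat.card_pos ((Nat.mul_one _).trans e3)).symm
  have hfs : Field.finSepDegree kp km = Field.finSepDegree kp kq := by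
    rw [← Field.finSepDegree_mul_finSepDegree_of_isAlgebraic kp kq km, hsI, mul_one]
  -- counting
  have hG : Nat.card (L ≃ₐ[K] L) = (p.primesOver B).ncard * Nat.card (MulAction.stabilizer (L ≃ₐ[K] L) m) := by
    rw [← IsInvariant.orbit_eq_primesOver A B (L ≃ₐ[K] L) p m]
    exact (Nat.card_congr (MulAction.orbitProdStabilizerEquivGroup (L ≃ₐ[K] L) m).symm).trans (by rw [Nat.card_prod, Set.ncard_def]; rfl)
  have h1 := Ideal.ncard_primesOver_mul_ramificationIdxIn_mul_inertiaDegIn p B (L ≃ₐ[K] L)
  rw [Ideal.ramificationIdxIn_eq_ramificationIdx p m (L ≃ₐ[K] L), Ideal.inertiaDegIn_eq_inertiaDeg p m (L ≃ₐ[K] L), hG] at h1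
  have hg0 : (p.primesOver B).ncard ≠ 0 := fun h0 => by rw [h0, zero_mul] at hG; exact Nat.card_pos.ne' hG
  have h2 := Ideal.ncard_primesOver_mul_ramificationIdxIn_mul_inertiaDegIn q B (m.inertia (L ≃ₐ[K] L))
  rw [Ideal.ramificationIdxIn_eq_ramificationIdx q m (m.inertia (L ≃ₐ[K] L)), Ideal.inertiaDegIn_eq_inertiaDeg q m (m.inertia (L ≃ₐ[K] L)), hone, one_mul] at h2
  have h3 : q.ramificationIdx A * q.inertiaDeg A * Nat.card (m.inertia (L ≃ₐ[K] L)) = Field.finSepDegree kp kq * Nat.card (m.inertia (L ≃ₐ[K] L)) := by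
    rw [← h2, show q.ramificationIdx A * q.inertiaDeg A * (m.ramificationIdx B' * m.inertiaDeg B') =
      (q.ramificationIdx A * m.ramificationIdx B') * (q.inertiaDeg A * m.inertiaDeg B') by ring, ← Ideal.ramificationIdx_tower q m,
      ← Ideal.inertiaDeg_tower q m, Nat.eq_of_mul_eq_mul_left (Nat.pos_of_ne_zero hg0) h1, hD, hfs, mul_comm, h2]
  have h4 : q.ramificationIdx A * q.inertiaDeg A = Field.finSepDegree kp kq := Nat.eq_of_mul_eq_mul_right Nat.card_pos h3
  have hfq : q.inertiaDeg A = Module.finrank kp kq := Ideal.inertiaDeg_eq p q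
  have hsle : Field.finSepDegree kp kq ≤ Module.finrank kp kq := Field.finSepDegree_le_finrank kp kq
  have hfpos : 0 < Module.finrank kp kq := Module.finrank_pos
  have he1 : q.ramificationIdx A = 1 := by
    rw [hfq] at h4
    have hle : q.ramificationIdx A ≤ 1 := Nat.le_of_mul_le_mul_right (by rw [one_mul, h4]; exact hsle) hfpos
    rcases Nat.le_one_iff_eq_zero_or_eq_one.mp hle with h | h
    · exfalso
      rw [h, zero_mul] at h4
      exact (NeZero.ne (Field.finSepDegree kp kq)) h4.symm
    · exact h
  haveI : Algebra.IsSeparable kp kq := (Field.finSepDegree_eq_finrank_iff kp kq).mp (by rw [← h4, he1, one_mul, hfq])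
  haveI hun : Algebra.IsUnramifiedAt A q := by
    have h := he1
    rw [Ideal.ramificationIdx_eq p q, ENat.toNat_eq_iff_eq_natCast, Nat.cast_one, Module.length_eq_one_iff,
      isSimpleModule_iff_isCoatom, ← Ideal.isMaximal_def, IsLocalRing.isMaximal_iff] at h
    let Rp := Localization.AtPrime p
    let Sq := Localization.AtPrime q
    have := Algebra.EssFiniteType.of_comp A Rp Sq
    suffices Algebra.FormallyUnramified Rp Sq from Algebra.FormallyUnramified.comp A Rp Sq
    rw [Algebra.FormallyUnramified.iff_map_maximalIdeal_eq,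
      ← Localization.AtPrime.map_eq_maximalIdeal, Ideal.map_map, ← IsScalarTower.algebraMap_eq]
    exact ⟨‹Algebra.IsSeparable kp kq›, h⟩
  haveI : Algebra.FormallyUnramified A (Localization.AtPrime q) := hun
  haveI : Module.Flat A (Localization.AtPrime q) := Module.Flat.trans A B' (Localization.AtPrime q)
  haveI : Algebra.FinitePresentation A (Localization.AtPrime q) := by
    haveI : Algebra.FinitePresentation A B' := Algebra.FinitePresentation.of_finiteType.mp inferInstance
    have hfinP : (p.primesOver B').Finite := Algebra.QuasiFinite.finite_primesOver p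
    obtain ⟨f, hf, hfm⟩ : ∃ f, f ∉ q ∧ ∀ Q ∈ p.primesOver B', Q ≠ q → f ∈ Q := by
      have hex : ∀ Q : {Q // Q ∈ p.primesOver B' ∧ Q ≠ q}, ∃ x, x ∈ Q.1 ∧ x ∉ q := by
        rintro ⟨Q, ⟨hQ1, hQ2⟩, hne⟩
        haveI := hQ1; haveI := hQ2
        haveI : Q.IsMaximal := Ideal.IsMaximal.of_liesOver_isMaximal Q p
        exact SetLike.not_le_iff_exists.mp fun hle => hne ((‹Q.IsMaximal›).eq_of_le hqmax.ne_top hle)
      choose x hxQ hxq using hex
      haveI : Fintype {Q // Q ∈ p.primesOver B' ∧ Q ≠ q} := (hfinP.subset fun Q h => h.1).fintype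
      exact ⟨∏ Q, x Q, fun h => by obtain ⟨Q, -, hQ⟩ := (Ideal.IsPrime.prod_mem_iff).mp h; exact hxq Q hQ,
        fun Q hQ hne => Ideal.prod_mem Q (Finset.mem_univ ⟨Q, hQ, hne⟩) (hxQ ⟨Q, hQ, hne⟩)⟩
    haveI : IsLocalization q.primeCompl (Localization.Away f) := by
      refine IsLocalization.of_le_of_exists_dvd (Submonoid.powers f) q.primeCompl ?_ ?_
      · exact Submonoid.powers_le.mpr hf
      · intro s hs
        -- `f` is in the radical of `s B'`
        have hrad : f ∈ (Ideal.span {s}).radical := by
          rw [Ideal.radical_eq_sInf, Submodule.mem_sInf]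
          rintro (Q : Ideal B') ⟨hsQ, hQp⟩
          haveI := hQp
          have hQ0 : Q ≠ ⊥ := fun h0 => hs (by
            have h := (Ideal.span_singleton_le_iff_mem _).mp hsQ
            rw [h0, Ideal.mem_bot] at h
            rw [h]; exact zero_mem q)
          haveI : Q.IsMaximal := Ideal.IsPrime.isMaximal hQp hQ0
          haveI : Q.LiesOver p := ⟨(eq_maximalIdeal (Ideal.isMaximal_comap_of_isIntegral_of_isMaximal Q)).symm⟩
          refine hfm Q ⟨hQp, inferInstance⟩ fun h => hs ?_
          rw [← h]; exact (Ideal.span_singleton_le_iff_mem _).mp hsQ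
        obtain ⟨k, hk⟩ := hrad
        exact ⟨f ^ k, ⟨k, rfl⟩, Ideal.mem_span_singleton.mp hk⟩
    haveI : Algebra.FinitePresentation A (Localization.Away f) := .trans A B' (Localization.Away f)
    exact Algebra.FinitePresentation.equiv ((IsLocalization.algEquiv q.primeCompl (Localization.Away f) (Localization.AtPrime q)).restrictScalars A)
  exact Algebra.Etale.of_formallyUnramified_of_flat

end Groth.Agent.S7139
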