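import Groth.Statements.S7140
import Mathlib

set_option autoImplicit false
universe u
open EtAlg

namespace Groth.Agent.S7140

open Polynomial

lemma exists_poly_domain (p : ℕ) (hp : p.Prime) {R : Type*} [CommRing R] [IsDomain R] {ζ : R} (hζ : IsPrimitiveRoot ζ p) :
    ∃ P : R[X], C ((1 - ζ) ^ p) * P = (1 + C (1 - ζ) * X) ^ p - 1 ∧
      ∃ a : ℕ → R, (∀ i, a i ∈ Ideal.span {1 - ζ}) ∧
        P = X ^ p - X + (Finset.Ioo 0 p).sum (fun i => C (a i) * X ^ i) := by
  classical
  obtain ⟨n, rfl⟩ : ∃ n, p = n + 1 := ⟨p - 1, (Nat.succ_pred_eq_of_pos hp.pos).symm⟩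
  have hn : n ≠ 0 := fun h => hp.ne_one (by omega)
  have h1mem : 1 ∈ Finset.Ioo 0 (n + 1) := Finset.mem_Ioo.mpr ⟨one_pos, hp.one_lt⟩
  set w := 1 - ζ with hw
  have hw0 : w ≠ 0 := sub_ne_zero.mpr (hζ.ne_one hp.one_lt).symm
  have hwI : ∀ (k : ℕ) (x : R), 1 ≤ k → w ^ k * x ∈ Ideal.span {w} := fun k x hk =>
    Ideal.mem_span_singleton.mpr ((dvd_pow_self w (by omega)).mul_right x)
  obtain ⟨v, hv⟩ : ∃ v, ((n + 1 : ℕ) : R) = w ^ n * v := by
    refine ⟨∏ k ∈ Finset.range n, ∑ j ∈ Finset.range (k + 1), ζ ^ j, ?_⟩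
    rw [Nat.cast_add_one, ← hζ.prod_one_sub_pow_eq_order, Finset.pow_eq_prod_const,
      ← Finset.prod_mul_distrib]
    refine Finset.prod_congr rfl fun k _ => ?_
    rw [hw, mul_neg_geom_sum]
  let d : ℕ → R := fun k => (((n + 1).choose k / (n + 1) : ℕ) : R)
  have hd1 : d 1 = 1 := by simp [d, Nat.choose_one_right]
  -- v = -1 modulo w
  have hv1 : v + 1 ∈ Ideal.span {w} := by
    have h1 := add_pow_prime_eq' hp (-w) (1 : R)
    rw [show -w + 1 = ζ by rw [hw]; ring, hζ.pow_eq_one, one_pow, hv] at h1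
    let T : ℕ → R := fun k => (-1) ^ k * w ^ (k - 1) * d k
    have hT : ∀ k ∈ Finset.Ioo 0 (n + 1), (-w) ^ k * 1 ^ (n + 1 - k) * d k = w * T k := by
      intro k hk
      obtain ⟨j, rfl⟩ : ∃ j, k = j + 1 := ⟨k - 1, by have := (Finset.mem_Ioo.mp hk).1; omega⟩
      simp only [T, Nat.add_sub_cancel, one_pow]
      rw [neg_pow]; ring
    have h2 : (-1) ^ (n + 1) + v * ∑ k ∈ Finset.Ioo 0 (n + 1), T k = (0 : R) := by
      refine (mul_eq_zero.mp ?_).resolve_left (pow_ne_zero (n + 1) hw0)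
      rw [Finset.sum_congr rfl hT, ← Finset.mul_sum, neg_pow w] at h1
      linear_combination -h1
    rw [← Finset.add_sum_erase _ _ h1mem] at h2
    simp only [T, pow_one, Nat.sub_self, pow_zero, hd1, mul_one] at h2
    have h3 : ∑ k ∈ (Finset.Ioo 0 (n + 1)).erase 1, (-1) ^ k * w ^ (k - 1) * d k ∈ Ideal.span {w} := by
      refine Ideal.sum_mem _ fun k hk => ?_
      obtain ⟨hk1, hk2⟩ := Finset.mem_erase.mp hk
      rw [mul_comm ((-1 : R) ^ k), mul_assoc]
      exact hwI _ _ (by have := (Finset.mem_Ioo.mp hk2).1; omega)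
    have h4 : (-1 : R) ^ (n + 1) + 1 ∈ Ideal.span {w} := by
      rcases hp.eq_two_or_odd' with h | h
      · have : ((n + 1 : ℕ) : R) = 2 := by rw [h]; norm_num
        rw [h, neg_one_sq, one_add_one_eq_two, ← this, hv]
        exact hwI _ _ (Nat.one_le_iff_ne_zero.mpr hn)
      · rw [h.neg_one_pow, neg_add_cancel]; exact Ideal.zero_mem _
    generalize ∑ k ∈ (Finset.Ioo 0 (n + 1)).erase 1, (-1) ^ k * w ^ (k - 1) * d k = T' at h2 h3
    rw [show v + 1 = v * T' + ((-1) ^ (n + 1) + 1) by linear_combination -h2]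
    exact Ideal.add_mem _ (Ideal.mul_mem_left _ v h3) h4
  let b : ℕ → R := fun k => v * w ^ (k - 1) * d k
  refine ⟨X ^ (n + 1) + ∑ k ∈ Finset.Ioo 0 (n + 1), C (b k) * X ^ k, ?_,
    fun k => if k = 1 then v + 1 else if k = 0 then 0 else b k, fun k => ?_, ?_⟩
  · have h1 := add_pow_prime_eq' hp (C w * X) (1 : R[X])
    rw [one_pow, ← map_natCast (C : R →+* R[X]) (n + 1), hv] at h1
    rw [add_comm (1 : R[X]), h1, mul_add, Finset.mul_sum, Finset.mul_sum]
    rw [Finset.sum_congr rfl (g := fun i => C (w ^ n * v) * ((C w * X) ^ i * 1 ^ (n + 1 - i) *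
      ((((n + 1).choose i / (n + 1) : ℕ)) : R[X]))) fun i hi => ?_]
    · rw [mul_pow, ← C_pow]; ring
    · obtain ⟨j, rfl⟩ : ∃ j, i = j + 1 := ⟨i - 1, by have := (Finset.mem_Ioo.mp hi).1; omega⟩
      simp only [b, d, Nat.add_sub_cancel, one_pow, mul_one, mul_pow, C_mul, C_pow, map_natCast]
      ring
  · dsimp only
    split_ifs with h h0
    · exact hv1
    · exact Ideal.zero_mem _
    · simp only [b]
      rw [mul_comm v, mul_assoc]
      exact hwI _ _ (by omega)
  · rw [sub_add_eq_add_sub, add_sub_assoc]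
    congr 1
    rw [eq_sub_iff_add_eq, ← Finset.add_sum_erase _ _ h1mem, ← Finset.add_sum_erase _ _ h1mem]
    dsimp only
    rw [if_pos rfl,
      show b 1 = v by simp [b, hd1], pow_one, C_add, C_1]
    rw [Finset.sum_congr rfl (g := fun k => C (b k) * X ^ k) (f := fun k => C (if k = 1 then v + 1 else if k = 0 then 0 else b k) * X ^ k) fun k hk => by
      obtain ⟨hk1, hk2⟩ := Finset.mem_erase.mp hk
      have := (Finset.mem_Ioo.mp hk2).1
      simp only [if_neg hk1, if_neg (by omega : ¬ k = 0)]]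
    ring

lemma functional_eq {R S : Type*} [CommRing R] [CommRing S] [IsDomain S] [Algebra R S] {P : R[X]} {w : R}
    (hw : algebraMap R S w ≠ 0) (p : ℕ) (hP : C (w ^ p) * P = (1 + C w * X) ^ p - 1) (z₁ z₂ : S) :
    aeval (z₁ + z₂ + algebraMap R S w * z₁ * z₂) P =
      aeval z₁ P + aeval z₂ P + algebraMap R S (w ^ p) * aeval z₁ P * aeval z₂ P := by
  have h : ∀ z : S, algebraMap R S w ^ p * aeval z P = (1 + algebraMap R S w * z) ^ p - 1 := fun z => by
    have := congrArg (aeval z) hP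
    simp only [map_mul, map_sub, map_pow, map_add, map_one, aeval_C, aeval_X] at this
    simpa using this
  refine mul_left_cancel₀ (pow_ne_zero p hw) ?_
  have e : (1 + algebraMap R S w * (z₁ + z₂ + algebraMap R S w * z₁ * z₂)) ^ p =
      (1 + algebraMap R S w * z₁) ^ p * (1 + algebraMap R S w * z₂) ^ p := by
    rw [← mul_pow]; congr 1; ring
  rw [map_pow]
  linear_combination h (z₁ + z₂ + algebraMap R S w * z₁ * z₂) + e - (1 + algebraMap R S w * z₂) ^ p * h z₁
    - (1 + algebraMap R S w ^ p * aeval z₁ P) * h z₂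


open Polynomial in
/-- Let p be a prime and A a ring with an element ζ satisfying 1 + ζ + ... + ζ^(p-1) = 0 (so that A is
an algebra over the ring of integers of the p-th cyclotomic field); set w = 1 - ζ. Then the
polynomial ((1 + wz)^p - 1)/w^p makes sense in A[z]: there is P in A[z] with w^p·P = (1 + wz)^p - 1,
of the form z^p - z + Σ_{0<i<p} a_i z^i with all a_i in the ideal (w), and P(z₁ + z₂ + w z₁ z₂) =
P(z₁) + P(z₂) + w^p P(z₁)P(z₂) for all z₁, z₂ in any A-algebra. (The published statement asks only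
for a primitive p-th root of unity; this row asks that ζ be a root of the p-th cyclotomic
polynomial, the case its proof treats. With ζ only of multiplicative order p the published statement
fails, for example for ζ = (1, e^{2πi/p}) in ℂ × ℂ.) -/
theorem result (p : ℕ) (hp : p.Prime) (A : Type u) [CommRing A] (ζ : A)
    (hζ : aeval ζ (cyclotomic p ℤ) = 0) :
    ∃ P : A[X], C ((1 - ζ) ^ p) * P = (1 + C (1 - ζ) * X) ^ p - 1 ∧
      (∃ a : ℕ → A, (∀ i, a i ∈ Ideal.span {1 - ζ}) ∧
        P = X ^ p - X + (Finset.Ioo 0 p).sum (fun i => C (a i) * X ^ i)) ∧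
      ∀ (S : Type u) [CommRing S] [Algebra A S] (z₁ z₂ : S),
        aeval (z₁ + z₂ + algebraMap A S (1 - ζ) * z₁ * z₂) P =
          aeval z₁ P + aeval z₂ P + algebraMap A S ((1 - ζ) ^ p) * aeval z₁ P * aeval z₂ P := by
  classical
  haveI := Fact.mk hp
  let R := AdjoinRoot (cyclotomic p ℤ)
  haveI : IsDomain R := AdjoinRoot.isDomain_of_prime (cyclotomic.irreducible hp.pos).prime
  haveI : CharZero R := charZero_of_injective_algebraMap (R := ℤ)
    (AdjoinRoot.of.injective_of_degree_ne_zero (ne_of_gt (degree_cyclotomic_pos p ℤ hp.pos)))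
  have hr : IsPrimitiveRoot (AdjoinRoot.root (cyclotomic p ℤ)) p := by
    rw [← isRoot_cyclotomic_iff, ← map_cyclotomic p (algebraMap ℤ R)]
    exact AdjoinRoot.isRoot_root _
  obtain ⟨P, hP, a, ha, hPeq⟩ := exists_poly_domain p hp hr
  let φ : R →+* A := AdjoinRoot.lift (Int.castRingHom A) ζ (by rwa [← algebraMap_int_eq, ← aeval_def])
  have hφ : φ (1 - AdjoinRoot.root _) = 1 - ζ := by rw [map_sub, map_one, AdjoinRoot.lift_root]
  refine ⟨P.map φ, ?_, ⟨fun i => φ (a i), fun i => ?_, ?_⟩, ?_⟩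
  · have := congrArg (Polynomial.map φ) hP
    simpa only [Polynomial.map_mul, map_C, map_pow, hφ, Polynomial.map_sub, Polynomial.map_pow,
      Polynomial.map_add, Polynomial.map_one, map_X] using this
  · rw [← hφ]
    obtain ⟨c, hc⟩ := Ideal.mem_span_singleton.mp (ha i)
    exact Ideal.mem_span_singleton.mpr ⟨φ c, (congrArg φ hc).trans (map_mul φ _ _)⟩
  · rw [hPeq]
    simp only [Polynomial.map_add, Polynomial.map_sub, Polynomial.map_pow, map_X, Polynomial.map_sum,
      Polynomial.map_mul, map_C]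
  · intro S _ _ z₁ z₂
    let U := MvPolynomial (Fin 2) R
    let ψ : U →+* S := MvPolynomial.eval₂Hom ((algebraMap A S).comp φ) ![z₁, z₂]
    have hψC : ψ.comp (algebraMap R U) = (algebraMap A S).comp φ :=
      RingHom.ext fun r => MvPolynomial.eval₂Hom_C _ _ r
    have hψ : ∀ z : U, ψ (aeval z P) = aeval (ψ z) (P.map φ) := fun z => by
      rw [aeval_def, aeval_def, hom_eval₂, hψC, eval₂_map]
    have h := congrArg ψ (functional_eq (S := U) ((map_ne_zero_iff _ (MvPolynomial.C_injective _ _)).mpr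
      (sub_ne_zero.mpr (hr.ne_one hp.one_lt).symm)) p hP (MvPolynomial.X 0) (MvPolynomial.X 1))
    have hw : ψ (algebraMap R U (1 - AdjoinRoot.root _)) = algebraMap A S (1 - ζ) := by
      rw [← RingHom.comp_apply, hψC, RingHom.comp_apply, hφ]
    simpa only [hψ, map_add, map_mul, map_pow, hw, show ψ (MvPolynomial.X 0) = z₁ from MvPolynomial.eval₂Hom_X' _ _ _,
      show ψ (MvPolynomial.X 1) = z₂ from MvPolynomial.eval₂Hom_X' _ _ _] using h

end Groth.Agent.S7140
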