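import Groth.Statements.S7143
import Mathlib

set_option autoImplicit false
universe u
open CategoryTheory
open EtAlg

namespace Groth.Agent.S7143

variable {ι : Type*} {W : ι → Type*} [∀ i, CommRing (W i)] [∀ i, IsDomain (W i)] [∀ i, IsBezout (W i)]

lemma flat_ideal_pi (I : Ideal (∀ i, W i)) : Module.Flat (∀ i, W i) I := by
  classical
  refine Module.Flat.of_forall_isTrivialRelation fun {l} {f} {x} h => ?_
  have hz : ∀ i, ∃ (z : W i) (c d : Fin l → W i),
      (∀ j, ((x j : ∀ i, W i)) i = c j * z) ∧ z = ∑ j, d j * ((x j : ∀ i, W i)) i := by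
    intro i
    let J : Ideal (W i) := Ideal.span (Set.range fun j => (x j : ∀ i, W i) i)
    have hJ : Submodule.IsPrincipal J :=
      IsBezout.isPrincipal_of_FG J ⟨Finset.univ.image (fun j => (x j : ∀ i, W i) i), by simp [J]⟩
    obtain ⟨z, hz⟩ := hJ
    have hc : ∀ j, ∃ c, c * z = (x j : ∀ i, W i) i := fun j =>
      Submodule.mem_span_singleton.1 (hz ▸ Ideal.subset_span ⟨j, rfl⟩)
    choose c hc using hc
    obtain ⟨d, hd⟩ := (Submodule.mem_span_range_iff_exists_fun (W i)).1
      (show z ∈ Submodule.span (W i) (Set.range fun j => (x j : ∀ i, W i) i) from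
        (show J = Submodule.span (W i) {z} from hz).ge (Submodule.mem_span_singleton_self z))
    exact ⟨z, c, d, fun j => (hc j).symm, by simpa using hd.symm⟩
  choose z c d hc hd using hz
  have hzI : z ∈ I := by
    have : z = ∑ j, (fun i => d i j) * (x j : ∀ i, W i) := by
      funext i
      simp [hd i]
    rw [this]
    exact I.sum_mem fun j _ => I.mul_mem_left _ (x j).2
  let e : ∀ i, W i := fun i => if z i = 0 then 0 else 1
  refine ⟨1, fun j _ => (fun i => c i j) * e, fun _ => ⟨z, hzI⟩, fun j => ?_, fun _ => ?_⟩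
  · refine Subtype.ext (funext fun i => ?_)
    by_cases h0 : z i = 0
    · simp [e, h0, hc i j]
    · simp [e, h0, hc i j]
  · funext i
    by_cases h0 : z i = 0
    · simp [e, h0]
    · have h1 := congrFun (congrArg Subtype.val h) i
      have h2 : (∑ j, f j i * c i j) * z i = 0 := by
        simpa [Finset.sum_mul, mul_assoc, hc i] using h1
      simpa [e, h0] using (mul_eq_zero.1 h2).resolve_right h0


/-- Every normal domain A with fraction field K is the fibre product V ×_L K for suitable rings V and L
with maps A → V, V → L, K → L (together with the given A → K), where every ideal of V is flat (weak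
dimension at most one) and V → L is flat, injective and an epimorphism of rings. -/
theorem result (A K : Type u) [CommRing A] [IsDomain A] [Field K] [Algebra A K]
    [IsFractionRing A K] [IsIntegrallyClosed A] :
    ∃ (V L : Type u) (_ : CommRing V) (_ : CommRing L) (f : A →+* V) (g : V →+* L) (h : K →+* L),
      g.comp f = h.comp (algebraMap A K) ∧
      (∀ I : Ideal V, Module.Flat V I) ∧ g.Flat ∧ Function.Injective g ∧ Epi (CommRingCat.ofHom g) ∧
      ∀ (v : V) (k : K), g v = h k → ∃! a : A, f a = v ∧ algebraMap A K a = k := by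
  classical
  let W : {V : ValuationSubring K // ∀ a, algebraMap A K a ∈ V} → Type u := fun V => ↥V.1
  letI : ∀ V, CommRing (W V) := fun V => inferInstanceAs (CommRing ↥V.1)
  haveI : ∀ V, IsDomain (W V) := fun V => inferInstanceAs (IsDomain ↥V.1)
  haveI : ∀ V, IsBezout (W V) := fun V => inferInstanceAs (IsBezout ↥V.1)
  let f : A →+* (∀ V, W V) := Pi.ringHom fun V => (algebraMap A K).codRestrict V.1.toSubring V.2
  let S := (nonZeroDivisors A).map f
  let g : (∀ V, W V) →+* Localization S := algebraMap _ _
  have hne : ∀ a ∈ nonZeroDivisors A, algebraMap A K a ≠ 0 := fun a ha h0 =>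
    nonZeroDivisors.ne_zero ha (IsFractionRing.injective A K (by rw [h0, map_zero]))
  have hnzd : S ≤ nonZeroDivisors (∀ V, W V) := by
    rintro _ ⟨a, ha, rfl⟩
    rw [mem_nonZeroDivisors_iff_right]
    intro v hv
    funext V
    refine (mul_eq_zero.1 (congrFun hv V)).resolve_right fun h0 => hne a ha ?_
    exact congrArg Subtype.val h0
  have hu : ∀ b : nonZeroDivisors A, IsUnit (g.comp f b) := fun b =>
    IsLocalization.map_units (Localization S) (⟨f b, ⟨b, b.2, rfl⟩⟩ : S)
  have hginj : Function.Injective g := IsLocalization.injective (Localization S) hnzd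
  refine ⟨∀ V, W V, Localization S, inferInstance, inferInstance, f, g,
    IsLocalization.lift (M := nonZeroDivisors A) (S := K) hu,
    (IsLocalization.lift_comp (S := K) hu).symm, fun I => flat_ideal_pi I, ?_, hginj, ?_, ?_⟩
  · exact RingHom.flat_algebraMap_iff.2 (IsLocalization.flat (Localization S) S)
  · refine ⟨fun u v huv => CommRingCat.hom_ext
      (IsLocalization.ringHom_ext S (congrArg CommRingCat.Hom.hom huv))⟩
  · intro v k hvk
    obtain ⟨a, b, hb, rfl⟩ := IsFractionRing.div_surjective A k
    have hv : v * f b = f a := by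
      apply hginj
      rw [map_mul, hvk]
      show IsLocalization.lift (M := nonZeroDivisors A) (S := K) hu _ * g.comp f b = g.comp f a
      rw [← IsLocalization.lift_eq (S := K) hu b, ← IsLocalization.lift_eq (S := K) hu a, ← map_mul,
        div_mul_cancel₀ _ (hne b hb)]
    have hv' : ∀ V : {V : ValuationSubring K // ∀ a, algebraMap A K a ∈ V}, ((v V : ↥V.1) : K) = algebraMap A K a / algebraMap A K b := fun V => by
      rw [eq_div_iff (hne b hb)]
      exact congrArg Subtype.val (congrFun hv V)
    haveI : IsIntegrallyClosedIn ↥(algebraMap A K).range K := by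
      rw [Subring.isIntegrallyClosedIn_iff]
      rintro x ⟨p, hp, hpx⟩
      obtain ⟨q, hq, -, hqm⟩ := Polynomial.lifts_and_natDegree_eq_and_monic
        (Polynomial.map_surjective _ (algebraMap A K).rangeRestrict_surjective p) hp
      have hx : IsIntegral A x := ⟨q, hqm, by rw [← hpx, ← hq, Polynomial.eval₂_map]; rfl⟩
      obtain ⟨y, rfl⟩ := IsIntegrallyClosed.isIntegral_iff.1 hx
      exact ⟨y, rfl⟩
    have hk : algebraMap A K a / algebraMap A K b ∈ (algebraMap A K).range := by
      by_contra hk
      obtain ⟨V, hV, hkV⟩ := Subring.exists_le_valuationSubring_of_isIntegrallyClosedIn hk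
      exact hkV (hv' ⟨V, fun c => hV ⟨c, rfl⟩⟩ ▸ SetLike.coe_mem _)
    obtain ⟨c, hc⟩ := hk
    refine ⟨c, ⟨funext fun V => Subtype.ext ?_, hc⟩, fun c' hc' =>
      IsFractionRing.injective A K (hc'.2.trans hc.symm)⟩
    rw [hv' V]
    exact hc

end Groth.Agent.S7143
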