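import Groth.Statements.S7144
import Mathlib
-- import your own Groth.Agent.* helpers here

set_option autoImplicit false
universe u
open CAlg

namespace Groth.Agent.S7144

/-- (1) ⇔ (2): let R be a nonzero ring. Then for all a, b in R one of a, b divides the other if and only
if R is local and every finitely generated ideal of R is principal. (The further equivalence with
the total ordering of the set of ideals by inclusion is standard and not restated here.) -/
theorem result (R : Type u) [CommRing R] [Nontrivial R] :
    PreValuationRing R ↔ IsLocalRing R ∧ IsBezout R := by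
  constructor
  · intro h
    refine ⟨inferInstance, IsBezout.iff_span_pair_isPrincipal.mpr fun x y => ?_⟩
    rcases ValuationRing.dvd_total x y with hd | hd
    · exact ⟨⟨x, by rw [Ideal.span_insert, Ideal.submodule_span_eq]; exact sup_eq_left.mpr (Ideal.span_singleton_le_span_singleton.mpr hd)⟩⟩
    · exact ⟨⟨y, by rw [Ideal.span_insert, Ideal.submodule_span_eq]; exact sup_eq_right.mpr (Ideal.span_singleton_le_span_singleton.mpr hd)⟩⟩
  · rintro ⟨_, _⟩
    refine PreValuationRing.iff_dvd_total.mpr ⟨fun a b => ?_⟩
    obtain ⟨⟨d, hd⟩⟩ := IsBezout.iff_span_pair_isPrincipal.mp ‹_› a b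
    rw [Ideal.submodule_span_eq] at hd
    obtain ⟨x, hx⟩ := Ideal.mem_span_singleton'.mp (hd ▸ Ideal.subset_span (by simp) : a ∈ Ideal.span {d})
    obtain ⟨y, hy⟩ := Ideal.mem_span_singleton'.mp (hd ▸ Ideal.subset_span (by simp) : b ∈ Ideal.span {d})
    obtain ⟨r, s, hrs⟩ := Ideal.mem_span_pair.mp (hd ▸ Ideal.mem_span_singleton_self d : d ∈ Ideal.span {a, b})
    by_cases hux : IsUnit x
    · exact Or.inl (by rw [← hx, ← hy, hux.mul_left_dvd]; exact dvd_mul_left d y)
    by_cases huy : IsUnit y
    · exact Or.inr (by rw [← hx, ← hy, huy.mul_left_dvd]; exact dvd_mul_left d x)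
    have hm : r * x + s * y ∈ IsLocalRing.maximalIdeal R :=
      add_mem (Ideal.mul_mem_left _ _ hux) (Ideal.mul_mem_left _ _ huy)
    have hu := IsLocalRing.isUnit_one_sub_self_of_mem_nonunits _ hm
    have h0 : (1 - (r * x + s * y)) * d = 0 := by
      rw [← hx, ← hy] at hrs; linear_combination -hrs
    have : d = 0 := by simpa using hu.mul_right_eq_zero.mp h0
    left; rw [← hx, ← hy, this]; simp

end Groth.Agent.S7144
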