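import Groth.Statements.S7145
import Mathlib
-- import your own Groth.Agent.* helpers here

set_option autoImplicit false
universe u
open CategoryTheory CategoryTheory.Limits
open CAlg

open CategoryTheory Limits

namespace Groth.Agent.S7145

theorem main (R : Type u) [CommRing R]
    (F : CochainComplex (ModuleCat.{u} R) ℤ) (hfree : ∀ n : ℤ, Module.Free R (F.X n))
    (b : ℤ) (hb : ∀ n : ℤ, b < n → IsZero (F.X n))
    (N : ℕ) (deg : Fin N → ℤ) (f : ∀ i : Fin N, F.X (deg i)) :
    ∃ (G : CochainComplex (ModuleCat.{u} R) ℤ) (ι : G ⟶ F),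
      (∀ n : ℤ, Function.Injective (ι.f n)) ∧
      (∃ a c : ℤ, ∀ n : ℤ, (n < a ∨ c < n) → IsZero (G.X n)) ∧
      (∀ n : ℤ, Module.Finite R (G.X n) ∧ Module.Free R (G.X n)) ∧
      ∀ i : Fin N, f i ∈ Set.range (ι.f (deg i)) := by
  classical
  let κ : ℤ → Type u := fun n => Module.Free.ChooseBasisIndex R (F.X n)
  let B : ∀ n, Module.Basis (κ n) R (F.X n) := fun n => Module.Free.chooseBasis R (F.X n)
  obtain ⟨a, ha⟩ : ∃ a : ℤ, ∀ i, a ≤ deg i := by
    rcases isEmpty_or_nonempty (Fin N) with h | h
    · exact ⟨0, fun i => isEmptyElim i⟩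
    · exact ⟨Finset.univ.inf' Finset.univ_nonempty deg, fun i => Finset.inf'_le _ (Finset.mem_univ i)⟩
  let base : ∀ n, Finset (κ n) := fun n => (Finset.univ : Finset (Fin N)).biUnion fun i =>
    if h : deg i = n then ((B n).repr (h ▸ f i)).support else ∅
  let step : ℕ → ∀ n, Finset (κ n) := fun k => Nat.rec (fun n => base n)
    (fun _ prev n => base n ∪ (prev (n - 1)).biUnion fun j => ((B n).repr (F.d (n - 1) n (B (n - 1) j))).support) k
  let T : ∀ n, Finset (κ n) := fun n => if n < a then ∅ else if b < n then ∅ else step (n - a).toNat n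
  let G : ∀ n, Submodule R (F.X n) := fun n => Submodule.span R (B n '' (T n : Set (κ n)))
  have hzero : ∀ n, b < n → ∀ x : F.X n, x = 0 := fun n hn x => by
    haveI := ModuleCat.subsingleton_of_isZero (hb n hn)
    exact Subsingleton.elim _ _
  have hmem : ∀ n (S : Finset (κ n)) (x : F.X n), ((B n).repr x).support ⊆ S → x ∈ Submodule.span R (B n '' (S : Set (κ n))) := by
    intro n S x hx
    rw [Module.Basis.mem_span_image]
    exact Finset.coe_subset.2 hx
  have hd : ∀ n, ∀ x ∈ G n, F.d n (n + 1) x ∈ G (n + 1) := by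
    intro n x hx
    by_cases hn : b < n + 1
    · rw [hzero _ hn (F.d n (n + 1) x)]; exact zero_mem _
    by_cases hna : n < a
    · have : T n = ∅ := if_pos hna
      simp only [G, this, Finset.coe_empty, Set.image_empty, Submodule.span_empty, Submodule.mem_bot] at hx
      rw [hx, map_zero]; exact zero_mem _
    refine (Submodule.span_le (p := (G (n + 1)).comap (F.d n (n + 1)).hom)).2 ?_ hx
    rintro _ ⟨j, hj, rfl⟩
    refine hmem _ _ _ ?_
    have hTn : T n = step (n - a).toNat n := by simp only [T]; rw [if_neg hna, if_neg (by omega)]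
    have hTn1 : T (n + 1) = step ((n - a).toNat + 1) (n + 1) := by
      simp only [T]; rw [if_neg (by omega), if_neg hn, show (n + 1 - a).toNat = (n - a).toNat + 1 by omega]
    rw [hTn1]
    rw [Finset.mem_coe, hTn] at hj
    have key : ∀ m, m = n → ∀ (t : Finset (κ m)), (∀ (e : m = n), e ▸ t = step (n - a).toNat n) →
        ((B (n + 1)).repr (F.d n (n + 1) (B n j))).support ⊆
          t.biUnion fun j => ((B (n + 1)).repr (F.d m (n + 1) (B m j))).support := by
      intro m hm t ht
      subst hm
      intro z hz
      exact Finset.mem_biUnion.2 ⟨j, by rw [show t = _ from ht rfl]; exact hj, hz⟩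
    refine (key (n + 1 - 1) (by omega) (step (n - a).toNat (n + 1 - 1)) (fun e => ?_)).trans Finset.subset_union_right
    generalize n + 1 - 1 = m at e
    subst e
    rfl
  let Gc : CochainComplex (ModuleCat.{u} R) ℤ := CochainComplex.of (fun n => ModuleCat.of R (G n))
    (fun n => ModuleCat.ofHom ((F.d n (n + 1)).hom.restrict (hd n)))
    (fun n => by
      ext x
      show F.d (n + 1) (n + 1 + 1) (F.d n (n + 1) x.1) = 0
      rw [← ModuleCat.comp_apply, F.d_comp_d]
      rfl)
  let ι : Gc ⟶ F := CochainComplex.ofHom (fun n => ModuleCat.ofHom (G n).subtype) (fun n => by rw [show Gc.d n (n + 1) = ModuleCat.ofHom ((F.d n (n + 1)).hom.restrict (hd n)) from CochainComplex.of_d (fun m => ModuleCat.of R (G m)) (fun m => ModuleCat.ofHom ((F.d m (m + 1)).hom.restrict (hd m))) n]; ext x; rfl)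
  have hT : ∀ i, ∀ z ∈ ((B (deg i)).repr (f i)).support, z ∈ T (deg i) := by
    intro i z hz
    by_cases hbd : b < deg i
    · rw [hzero _ hbd (f i), map_zero] at hz; simp at hz
    have hbase : z ∈ base (deg i) := Finset.mem_biUnion.2 ⟨i, Finset.mem_univ i, by rw [dif_pos rfl]; exact hz⟩
    simp only [T]
    rw [if_neg (by have := ha i; omega), if_neg hbd]
    cases (deg i - a).toNat with
    | zero => exact hbase
    | succ k => exact Finset.mem_union_left _ hbase
  refine ⟨Gc, ι, fun n => Subtype.val_injective, ⟨a, b, fun n hn => ?_⟩, fun n => ⟨?_, ?_⟩, fun i => ?_⟩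
  · have : T n = ∅ := by
      simp only [T]
      rcases hn with h | h
      · rw [if_pos h]
      · split_ifs <;> rfl
    have : Subsingleton (G n) := by
      rw [show G n = ⊥ by simp [G, this]]
      infer_instance
    exact ModuleCat.isZero_of_subsingleton (ModuleCat.of R (G n))
  · exact Module.Finite.span_of_finite R ((T n).finite_toSet.image _)
  · have hli : LinearIndependent R (fun j : (T n : Set (κ n)) => B n j) := (B n).linearIndependent.comp _ Subtype.val_injective
    have e : Submodule.span R (Set.range fun j : (T n : Set (κ n)) => B n j) = G n := by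
      simp only [G]; congr 1; ext; simp
    haveI : Module.Free R (Submodule.span R (Set.range fun j : (T n : Set (κ n)) => B n j)) := Module.Free.of_basis (Module.Basis.span hli)
    exact Module.Free.of_equiv (LinearEquiv.ofEq _ _ e)
  · exact ⟨⟨f i, hmem _ _ _ (hT i)⟩, rfl⟩

end Groth.Agent.S7145

namespace Groth.Agent.S7145

/-- Let R be a ring and F a cochain complex of free R-modules that is zero in all sufficiently large
degrees. Given finitely many elements f_i of F, f_i lying in degree n_i, there is a subcomplex G of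
F (a map of complexes G → F injective in every degree) through which every f_i passes, such that G
is zero outside a finite range of degrees and each term of G is a finitely generated free R-module. -/
theorem result (R : Type u) [CommRing R]
    (F : CochainComplex (ModuleCat.{u} R) ℤ) (hfree : ∀ n : ℤ, Module.Free R (F.X n))
    (b : ℤ) (hb : ∀ n : ℤ, b < n → IsZero (F.X n))
    (N : ℕ) (deg : Fin N → ℤ) (f : ∀ i : Fin N, F.X (deg i)) :
    ∃ (G : CochainComplex (ModuleCat.{u} R) ℤ) (ι : G ⟶ F),
      (∀ n : ℤ, Function.Injective (ι.f n)) ∧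
      (∃ a c : ℤ, ∀ n : ℤ, (n < a ∨ c < n) → IsZero (G.X n)) ∧
      (∀ n : ℤ, Module.Finite R (G.X n) ∧ Module.Free R (G.X n)) ∧
      ∀ i : Fin N, f i ∈ Set.range (ι.f (deg i)) := by
  exact Groth.Agent.S7145.main R F hfree b hb N deg f

end Groth.Agent.S7145
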