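import Groth.Statements.S7146
import Mathlib
-- import your own Groth.Agent.* helpers here

set_option autoImplicit false
universe u
open Filter
open CAlg

namespace Groth.Agent.S7146Aux

open Filter

variable {R : Type u} [CommRing R] {d : ℕ} (g : Fin d → R)

theorem pow_le_span (n : ℕ) : Ideal.span (Set.range g) ^ n ≤
    Ideal.span (Set.range fun s : Sym (Fin d) n => (s.1.map g).prod) := by
  induction n with
  | zero =>
    have h1 : (1 : R) ∈ Ideal.span (Set.range fun s : Sym (Fin d) 0 => (s.1.map g).prod) :=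
      Ideal.subset_span (Set.mem_range.2 ⟨Sym.nil, by simp⟩)
    exact le_top.trans (Ideal.eq_top_iff_one _ |>.2 h1).ge
  | succ n ih =>
    rw [pow_succ]
    refine le_trans (Ideal.mul_mono_left ih) ?_
    rw [Ideal.span_mul_span']
    refine Ideal.span_le.2 ?_
    rintro _ ⟨_, ⟨s, rfl⟩, _, ⟨a, rfl⟩, rfl⟩
    refine Ideal.subset_span ⟨Sym.cons a s, ?_⟩
    simp [Sym.cons, mul_comm]

theorem length_step (n : ℕ) :
    Module.length R (R ⧸ Ideal.span (Set.range g) ^ (n + 1)) ≤
      Module.length R (R ⧸ Ideal.span (Set.range g) ^ n) +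
        (Nat.multichoose d n : ℕ∞) * Module.length R (R ⧸ Ideal.span (Set.range g)) := by
  classical
  set I := Ideal.span (Set.range g) with hI
  let π : (R ⧸ I ^ (n + 1)) →ₗ[R] (R ⧸ I ^ n) :=
    Submodule.factor (Ideal.pow_le_pow_right n.le_succ)
  have hπ : Function.Surjective π := fun x => by
    obtain ⟨r, rfl⟩ := Ideal.Quotient.mk_surjective x
    exact ⟨Ideal.Quotient.mk _ r, rfl⟩
  rw [Module.length_eq_add_of_exact π.ker.subtype π (Submodule.injective_subtype _) hπ
    (LinearMap.exact_subtype_ker_map π), add_comm]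
  gcongr
  have hmem : ∀ s : Sym (Fin d) n, (s.1.map g).prod ∈ I ^ n := fun s => by
    have h : ∀ m : Multiset R, (∀ x ∈ m, x ∈ I) → m.prod ∈ I ^ m.card := by
      intro m
      induction m using Multiset.induction_on with
      | empty => simp
      | cons a m ih =>
        intro h
        rw [Multiset.prod_cons, Multiset.card_cons, pow_succ']
        exact Ideal.mul_mem_mul (h a (Multiset.mem_cons_self _ _))
          (ih fun x hx => h x (Multiset.mem_cons_of_mem hx))
    have h' := h (s.1.map g) fun x hx => by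
      obtain ⟨a, -, rfl⟩ := Multiset.mem_map.1 hx
      exact Ideal.subset_span ⟨a, rfl⟩
    rwa [Multiset.card_map, s.2] at h'
  let ψ : ∀ s : Sym (Fin d) n, (R ⧸ I) →ₗ[R] R ⧸ I ^ (n + 1) := fun s =>
    Submodule.liftQ I ((Submodule.mkQ (I ^ (n + 1))).comp (LinearMap.mulRight R (s.1.map g).prod))
      (fun r hr => by
        show Submodule.Quotient.mk (r * (s.1.map g).prod) = (0 : R ⧸ I ^ (n + 1))
        rw [Submodule.Quotient.mk_eq_zero, pow_succ']
        exact Ideal.mul_mem_mul hr (hmem s))
  let Ψ : (Sym (Fin d) n → R ⧸ I) →ₗ[R] R ⧸ I ^ (n + 1) :=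
    ∑ s, (ψ s).comp (LinearMap.proj s)
  have hle : π.ker ≤ Ψ.range := by
    intro x hx
    obtain ⟨r, rfl⟩ := Ideal.Quotient.mk_surjective x
    have hr : r ∈ I ^ n := Ideal.Quotient.eq_zero_iff_mem.1 hx
    have hr' := pow_le_span g n hr
    obtain ⟨c, hc⟩ := (Submodule.mem_span_range_iff_exists_fun R).1 hr'
    refine ⟨fun s => Ideal.Quotient.mk I (c s), ?_⟩
    simp only [Ψ, LinearMap.sum_apply, LinearMap.comp_apply, LinearMap.proj_apply]
    rw [← hc, map_sum]
    refine Finset.sum_congr rfl fun s _ => ?_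
    rfl
  calc Module.length R π.ker ≤ Module.length R Ψ.range :=
        Module.length_le_of_injective (Submodule.inclusion hle) (Submodule.inclusion_injective hle)
    _ ≤ Module.length R (Sym (Fin d) n → R ⧸ I) :=
        Module.length_le_of_surjective Ψ.rangeRestrict Ψ.surjective_rangeRestrict
    _ = _ := by
        rw [Module.length_pi_of_fintype, Finset.sum_const, Finset.card_univ,
          Sym.card_sym_eq_multichoose, Fintype.card_fin, nsmul_eq_mul]

theorem length_le (n : ℕ) :
    Module.length R (R ⧸ Ideal.span (Set.range g) ^ (n + 1)) ≤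
      (Nat.multichoose (d + 1) n : ℕ∞) * Module.length R (R ⧸ Ideal.span (Set.range g)) := by
  induction n with
  | zero => rw [zero_add, pow_one, Nat.multichoose_zero_right, Nat.cast_one, one_mul]
  | succ n ih =>
    refine (length_step g (n + 1)).trans ?_
    rw [Nat.multichoose_succ_succ, Nat.cast_add, add_mul, add_comm ((Nat.multichoose d (n + 1) : ℕ∞) * _)]
    exact add_le_add ih le_rfl

theorem fact_mul_le (d n : ℕ) : d.factorial * Nat.multichoose (d + 1) n ≤ (d + n) ^ d := by
  rw [Nat.multichoose_eq, show d + 1 + n - 1 = d + n by omega,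
    show (d + n).choose n = (d + n).choose d from (Nat.choose_symm_of_eq_add rfl).symm,
    ← Nat.descFactorial_eq_factorial_mul_choose]
  exact Nat.descFactorial_le_pow _ _

end Groth.Agent.S7146Aux


namespace Groth.Agent.S7146

/-- Let R be a Noetherian local ring of Krull dimension d and I the ideal generated by a system of
parameters g_1, ..., g_d (d elements of the maximal ideal generating an ideal with radical the
maximal ideal); let e_I be the multiplicity of I, i.e. d! times the top coefficient of the numerical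
polynomial n ↦ length(R/I^(n+1)), equivalently the limit of d!·length(R/Iⁿ)/n^d. Then e_I ≤
length(R/I). (Stated for a natural number e equal to that limit.) -/
theorem result (R : Type u) [CommRing R] [IsNoetherianRing R] [IsLocalRing R]
    (d : ℕ) (hd : ringKrullDim R = d) (g : Fin d → R) (hg : ∀ i, g i ∈ IsLocalRing.maximalIdeal R)
    (hsop : IsLocalRing.maximalIdeal R ≤ (Ideal.span (Set.range g)).radical) (e : ℕ)
    (he : Tendsto (fun n : ℕ => (d.factorial : ℝ) * ((Module.length R (R ⧸ Ideal.span (Set.range g) ^ n)).toNat : ℝ) / (n : ℝ) ^ d)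
      atTop (nhds (e : ℝ))) :
    (e : ℕ∞) ≤ Module.length R (R ⧸ Ideal.span (Set.range g)) := by
  classical
  set I := Ideal.span (Set.range g) with hI
  rcases eq_or_ne (Module.length R (R ⧸ I)) ⊤ with h | h
  · rw [h]; exact le_top
  obtain ⟨L, hL⟩ := ENat.ne_top_iff_exists.1 h
  rw [← hL, Nat.cast_le]
  have hbound : ∀ n : ℕ, (d.factorial : ℝ) * ((Module.length R (R ⧸ I ^ (n + 1))).toNat : ℝ) /
      (((n + 1 : ℕ) : ℝ)) ^ d ≤ (L : ℝ) * ((((d + n : ℕ) : ℝ)) / ((n + 1 : ℕ) : ℝ)) ^ d := by
    intro n
    have h1 := Groth.Agent.S7146Aux.length_le g n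
    rw [← hI, ← hL, ← Nat.cast_mul] at h1
    have h2 : (Module.length R (R ⧸ I ^ (n + 1))).toNat ≤ Nat.multichoose (d + 1) n * L := by
      have := ENat.toNat_le_toNat h1 (ENat.natCast_ne_top _)
      simpa using this
    have h3 : d.factorial * (Module.length R (R ⧸ I ^ (n + 1))).toNat ≤ L * (d + n) ^ d := by
      calc d.factorial * (Module.length R (R ⧸ I ^ (n + 1))).toNat
          ≤ d.factorial * (Nat.multichoose (d + 1) n * L) := Nat.mul_le_mul_left _ h2
        _ ≤ L * (d + n) ^ d := by
          rw [← mul_assoc, mul_comm L]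
          exact Nat.mul_le_mul_right _ (Groth.Agent.S7146Aux.fact_mul_le d n)
    rw [div_pow, ← mul_div_assoc]
    refine div_le_div_of_nonneg_right ?_ (by positivity)
    exact_mod_cast h3
  have hlim : Tendsto (fun n : ℕ => (L : ℝ) * ((((d + n : ℕ) : ℝ)) / ((n + 1 : ℕ) : ℝ)) ^ d) atTop
      (nhds ((L : ℝ) * 1 ^ d)) := by
    refine Tendsto.const_mul _ (Tendsto.pow ?_ d)
    have h1 : Tendsto (fun n : ℕ => 1 + ((d : ℝ) - 1) / ((n : ℝ) + 1)) atTop (nhds (1 + 0)) :=
      tendsto_const_nhds.add (tendsto_const_nhds.div_atTop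
        (tendsto_atTop_add_const_right atTop 1 tendsto_natCast_atTop_atTop))
    rw [add_zero] at h1
    refine h1.congr fun n => ?_
    push_cast
    field_simp
    ring
  rw [one_pow, mul_one] at hlim
  exact_mod_cast le_of_tendsto_of_tendsto' (he.comp (tendsto_add_atTop_nat 1)) hlim hbound

end Groth.Agent.S7146
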