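import Groth.Statements.S7147
import Mathlib
import Groth.Agent.SerreSplit.Basic
-- import your own Groth.Agent.* helpers here

set_option autoImplicit false
universe u
open CAlg

namespace Groth.Agent.S7147

open Groth.Agent.SerreSplit

theorem aux (R : Type u) [CommRing R] (M : Type u)
    [AddCommGroup M] [Module R M] [Module.FinitePresentation R M] (x : Ideal R) [x.IsMaximal]
    (r : ℕ) (s : Fin r → M) :
    let Mx := M ⧸ (x • ⊤ : Submodule R M)
    let Bx : Submodule (R ⧸ x) Mx :=
      Submodule.span (R ⧸ x) ((x • ⊤ : Submodule R M).mkQ '' {m : M | ∀ φ : M →ₗ[R] R, φ m ∈ x})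
    (∃ f : R, f ∉ x ∧
      ∃ g : LocalizedModule (Submonoid.powers f) M →ₗ[Localization.Away f] (Fin r → Localization.Away f),
        g ∘ₗ Fintype.linearCombination (Localization.Away f)
            (fun i => LocalizedModule.mkLinearMap (Submonoid.powers f) M (s i)) = LinearMap.id) ↔
    LinearIndependent (R ⧸ x) (fun i => Bx.mkQ ((x • ⊤ : Submodule R M).mkQ (s i))) := by
  classical
  intro Mx Bx
  let xM : MaximalSpectrum R := ⟨x, inferInstance⟩
  change _ ↔ LinearIndependent (R ⧸ xM.asIdeal) (fun i => img xM (s i))
  rw [indep_iff_exists_det]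
  constructor
  · rintro ⟨f, hf, g, hg⟩
    let Rf := Localization.Away f
    let h : Fin r → M →ₗ[R] Rf := fun i =>
      ((LinearMap.proj i : (Fin r → Rf) →ₗ[Rf] Rf) ∘ₗ g).restrictScalars R ∘ₗ
        LocalizedModule.mkLinearMap (Submonoid.powers f) M
    choose q₁ q₂ hq using fun i => Module.FinitePresentation.exists_lift_of_isLocalizedModule
      (Submonoid.powers f) (Algebra.linearMap R Rf) (h i)
    let q : Fin r → (M →ₗ[R] R) × (Submonoid.powers f) := fun i => (q₁ i, q₂ i)
    refine ⟨fun i => (q i).1, fun hdet => ?_⟩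
    have hkey : ∀ i j, algebraMap R Rf ((q i).1 (s j)) =
        algebraMap R Rf (q i).2 * (if i = j then 1 else 0) := by
      intro i j
      have h1 : algebraMap R Rf (q i).2 * h i (s j) = algebraMap R Rf ((q i).1 (s j)) := by
        rw [← Algebra.smul_def]
        exact (LinearMap.congr_fun (hq i) (s j)).symm
      rw [← h1]
      congr 1
      have h2 := congrFun (LinearMap.congr_fun hg (Pi.single j 1)) i
      rw [LinearMap.comp_apply, Fintype.linearCombination_apply_single, one_smul] at h2
      change (g (LocalizedModule.mkLinearMap (Submonoid.powers f) M (s j))) i = _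
      rw [h2, LinearMap.id_apply, Pi.single_apply]
    let D : Matrix (Fin r) (Fin r) R := Matrix.diagonal fun i => ((q i).2 : R)
    have hmat : (algebraMap R Rf).mapMatrix (Matrix.of fun i j => (q i).1 (s j)) =
        (algebraMap R Rf).mapMatrix D := by
      ext i j
      simp only [RingHom.mapMatrix_apply, Matrix.map_apply, Matrix.of_apply, hkey, D,
        Matrix.diagonal_apply]
      split_ifs <;> simp
    have hd := congrArg Matrix.det hmat
    rw [← RingHom.map_det, ← RingHom.map_det, IsLocalization.eq_iff_exists (Submonoid.powers f)] at hd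
    obtain ⟨⟨_, n, rfl⟩, hn⟩ := hd
    have hnx : f ^ n ∉ x := fun h => hf (Ideal.IsPrime.mem_of_pow_mem ‹x.IsMaximal›.isPrime n h)
    rw [Matrix.det_diagonal] at hn
    have hprod : f ^ n * ∏ i, ((q i).2 : R) ∈ x := hn ▸ x.mul_mem_left _ hdet
    rcases Ideal.IsPrime.mem_or_mem ‹x.IsMaximal›.isPrime hprod with h' | h'
    · exact hnx h'
    · obtain ⟨i, -, hi⟩ := Ideal.IsPrime.prod_mem_iff.1 h'
      obtain ⟨k, hk⟩ := (q i).2.2
      exact hf (Ideal.IsPrime.mem_of_pow_mem ‹x.IsMaximal›.isPrime k (by
        have hk' : f ^ k = ((q i).2 : R) := hk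
        rwa [hk']))
  · rintro ⟨φ, hdet⟩
    let d := (Matrix.of fun i j => φ i (s j)).det
    let Rf := Localization.Away d
    refine ⟨d, hdet, ?_⟩
    let Φ : M →ₗ[R] (Fin r → Rf) := LinearMap.pi fun i => Algebra.linearMap R Rf ∘ₗ φ i
    have hunit : ∀ t : Submonoid.powers d, IsUnit (algebraMap R (Module.End R (Fin r → Rf)) t) :=
      fun t => by
        have hu := (IsLocalization.map_units Rf t).map
          (Algebra.lsmul R R (Fin r → Rf) : Rf →ₐ[R] Module.End R (Fin r → Rf))
        convert hu using 1
        ext v i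
        simp [Algebra.smul_def]
    let Φ' : LocalizedModule (Submonoid.powers d) M →ₗ[Rf] (Fin r → Rf) :=
      LinearMap.extendScalarsOfIsLocalization (Submonoid.powers d) Rf
        (IsLocalizedModule.lift (Submonoid.powers d)
          (LocalizedModule.mkLinearMap (Submonoid.powers d) M) Φ hunit)
    let A : Matrix (Fin r) (Fin r) Rf :=
      (algebraMap R Rf).mapMatrix (Matrix.of fun i j => φ i (s j))
    have hA : IsUnit A.det := by
      change IsUnit ((algebraMap R Rf).mapMatrix _).det
      rw [← RingHom.map_det]
      exact IsLocalization.map_units Rf (⟨d, Submonoid.mem_powers d⟩ : Submonoid.powers d)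
    refine ⟨(Matrix.mulVecLin A⁻¹) ∘ₗ Φ', ?_⟩
    refine LinearMap.pi_ext' fun j => LinearMap.ext_ring ?_
    simp only [LinearMap.comp_apply, LinearMap.coe_single, LinearMap.id_apply,
      Fintype.linearCombination_apply_single, one_smul]
    have h1 : Φ' (LocalizedModule.mkLinearMap (Submonoid.powers d) M (s j)) = A.mulVec (Pi.single j 1) := by
      rw [Matrix.mulVec_single_one]
      refine Eq.trans (IsLocalizedModule.lift_apply (Submonoid.powers d)
        (LocalizedModule.mkLinearMap (Submonoid.powers d) M) Φ hunit (s j)) ?_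
      ext i
      simp [Φ, A, Matrix.col]
    rw [h1, Matrix.mulVecLin_apply, Matrix.mulVec_mulVec, Matrix.nonsing_inv_mul _ hA,
      Matrix.one_mulVec]

end Groth.Agent.S7147

namespace Groth.Agent.S7147

/-- Let R be a ring, M a finitely presented R-module and x a maximal ideal of R with residue field κ(x);
write M(x) = M/xM and let B(x) ⊆ M(x) be the orthogonal of the image of Hom_R(M, R) in the dual of
M(x), i.e. the classes of those m in M with φ(m) in x for every linear form φ on M, and V(x) =
M(x)/B(x). For s_1, ..., s_r in M the following are equivalent: (1) there is f in R, f not in x,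
such that the map R_f^r → M_f given by the s_i is the inclusion of a direct summand; (2) the images
of s_1, ..., s_r in V(x) are linearly independent over κ(x). -/
theorem result (R : Type u) [CommRing R] (M : Type u)
    [AddCommGroup M] [Module R M] [Module.FinitePresentation R M] (x : Ideal R) [x.IsMaximal]
    (r : ℕ) (s : Fin r → M) :
    let Mx := M ⧸ (x • ⊤ : Submodule R M)
    let Bx : Submodule (R ⧸ x) Mx :=
      Submodule.span (R ⧸ x) ((x • ⊤ : Submodule R M).mkQ '' {m : M | ∀ φ : M →ₗ[R] R, φ m ∈ x})
    (∃ f : R, f ∉ x ∧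
      ∃ g : LocalizedModule (Submonoid.powers f) M →ₗ[Localization.Away f] (Fin r → Localization.Away f),
        g ∘ₗ Fintype.linearCombination (Localization.Away f)
            (fun i => LocalizedModule.mkLinearMap (Submonoid.powers f) M (s i)) = LinearMap.id) ↔
    LinearIndependent (R ⧸ x) (fun i => Bx.mkQ ((x • ⊤ : Submodule R M).mkQ (s i))) := by
  exact aux R M x r s

end Groth.Agent.S7147
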