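import Groth.Statements.S7148
import Mathlib
-- import your own Groth.Agent.* helpers here

set_option autoImplicit false
universe u
open CategoryTheory
attribute [local instance] HasDerivedCategory.standard
open CAlg

namespace Groth.Agent.S7148

open CategoryTheory

variable {A : Type u} [CommRing A] [IsNoetherianRing A] (I : Ideal A)

/-- The inclusion `I^n M → M`. -/
abbrev incl (n : ℕ) (M : Type u) [AddCommGroup M] [Module A M] :
    ModuleCat.of A (I ^ n • ⊤ : Submodule A M) ⟶ ModuleCat.of A M :=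
  ModuleCat.ofHom (I ^ n • ⊤ : Submodule A M).subtype

theorem exists_factor (N : Type u) [AddCommGroup N] [Module A N] :
    ∀ (p : ℕ) (M : Type u) [AddCommGroup M] [Module A M] [Module.Finite A M],
      ∃ c : ℕ, ∀ n, c ≤ n → ∀ e : Abelian.Ext (ModuleCat.of A M) (ModuleCat.of A N) p,
        ∃ e' : Abelian.Ext (ModuleCat.of A (I ^ n • ⊤ : Submodule A M))
            (ModuleCat.of A (I ^ (n - c) • ⊤ : Submodule A N)) p,
          e'.comp (Abelian.Ext.mk₀ (incl I (n - c) N)) (add_zero p) =
            (Abelian.Ext.mk₀ (incl I n M)).comp e (zero_add p) := by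
  intro p
  induction p with
  | zero =>
    intro M _ _ _
    refine ⟨0, fun n _ e => ?_⟩
    obtain ⟨f, rfl⟩ : ∃ f, Abelian.Ext.mk₀ f = e := ⟨_, Abelian.Ext.mk₀_homEquiv₀_apply e⟩
    have hf : ∀ x : (I ^ n • ⊤ : Submodule A M), f.hom x.1 ∈ (I ^ (n - 0) • ⊤ : Submodule A N) := fun x => by
      have h := Submodule.mem_map_of_mem (f := f.hom) x.2
      rw [Submodule.map_smul''] at h
      exact Submodule.smul_mono le_rfl le_top h
    refine ⟨Abelian.Ext.mk₀ (ModuleCat.ofHom (LinearMap.codRestrict _ (f.hom ∘ₗ Submodule.subtype _) hf)), ?_⟩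
    rw [Abelian.Ext.mk₀_comp_mk₀, Abelian.Ext.mk₀_comp_mk₀]
    congr 1
  | succ p ih =>
    intro M _ _ _
    obtain ⟨r, π, hπ⟩ := Module.Finite.exists_fin' A M
    let F := Fin r → A
    haveI : Module.Finite A (LinearMap.ker π) := Module.Finite.iff_fg.2 (IsNoetherian.noetherian _)
    obtain ⟨c₁, hc₁⟩ := I.exists_pow_inf_eq_pow_smul (LinearMap.ker π)
    obtain ⟨c₂, hc₂⟩ := ih (LinearMap.ker π)
    refine ⟨c₁ + c₂, fun n hn e => ?_⟩
    have hS := LinearMap.shortExact_shortComplexKer (f := π) hπ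
    haveI : CategoryTheory.Projective π.shortComplexKer.X₂ :=
      ModuleCat.projective_of_categoryTheory_projective _
    obtain ⟨φ, hφ⟩ := precomp_extClass_surjective_of_projective_X₂ (ModuleCat.of A N) hS p e
    -- the small sequence
    let Fn : Submodule A F := I ^ n • ⊤
    let Mn : Submodule A M := I ^ n • ⊤
    have hmap : Fn.map π = Mn := by
      rw [Submodule.map_smul'', Submodule.map_top, LinearMap.range_eq_top.2 hπ]
    let πn : Fn →ₗ[A] Mn := LinearMap.codRestrict Mn (π ∘ₗ Fn.subtype) fun x => hmap ▸ ⟨x.1, x.2, rfl⟩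
    have hπn : Function.Surjective πn := by
      rintro ⟨y, hy⟩
      rw [← hmap] at hy
      obtain ⟨x, hx, hxy⟩ := hy
      exact ⟨⟨x, hx⟩, Subtype.ext hxy⟩
    have hSn := LinearMap.shortExact_shortComplexKer (f := πn) hπn
    let m := n - c₁
    let K := LinearMap.ker π
    have hj : ∀ x : LinearMap.ker πn, ∃ y : (I ^ m • ⊤ : Submodule A K), ((y : K) : F) = ((x : Fn) : F) := by
      intro x
      have hx : ((x : Fn) : F) ∈ (I ^ n • ⊤ : Submodule A F) ⊓ K :=
        ⟨(x : Fn).2, congrArg Subtype.val x.2⟩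
      rw [hc₁ n (by omega)] at hx
      have hx' : ((x : Fn) : F) ∈ I ^ m • K := Submodule.smul_mono le_rfl inf_le_right hx
      have h2 : ((x : Fn) : F) ∈ (I ^ m • ⊤ : Submodule A K).map K.subtype := by
        rwa [Submodule.map_smul'', Submodule.map_top, Submodule.range_subtype]
      obtain ⟨y, hy, hyx⟩ := h2
      exact ⟨⟨y, hy⟩, hyx⟩
    choose jf hjf using hj
    let j : LinearMap.ker πn →ₗ[A] (I ^ m • ⊤ : Submodule A K) :=
      { toFun := jf
        map_add' := fun a b => by
          apply Subtype.ext; apply Subtype.ext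
          simp [hjf]
        map_smul' := fun r a => by
          apply Subtype.ext; apply Subtype.ext
          simp [hjf] }
    let τ : πn.shortComplexKer ⟶ π.shortComplexKer :=
      { τ₁ := ModuleCat.ofHom j ≫ incl I m K
        τ₂ := ModuleCat.ofHom Fn.subtype
        τ₃ := incl I n M
        comm₁₂ := by
          apply ModuleCat.hom_ext
          apply LinearMap.ext
          intro x
          exact hjf x
        comm₂₃ := by
          apply ModuleCat.hom_ext
          apply LinearMap.ext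
          intro x
          rfl }
    obtain ⟨φ', hφ'⟩ := hc₂ m (by omega) φ
    have hidx : m - c₂ = n - (c₁ + c₂) := by omega
    rw [← hidx]
    refine ⟨hSn.extClass.comp ((Abelian.Ext.mk₀ (ModuleCat.ofHom j)).comp φ' (zero_add p)) (by omega), ?_⟩
    have hnat := ShortComplex.ShortExact.extClass_naturality hSn hS τ
    have he : hS.extClass.comp φ (by omega) = e := hφ
    rw [← he, ← Abelian.Ext.comp_assoc (Abelian.Ext.mk₀ (incl I n M)) hS.extClass φ (zero_add 1)
      (show 1 + p = p + 1 by omega) (show 0 + 1 + p = p + 1 by omega)]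
    change _ = ((Abelian.Ext.mk₀ τ.τ₃).comp hS.extClass (zero_add 1)).comp φ _
    rw [← hnat]
    simp only [τ, ← Abelian.Ext.mk₀_comp_mk₀]
    simp only [Abelian.Ext.comp_assoc_of_third_deg_zero, Abelian.Ext.comp_assoc_of_second_deg_zero,
      hφ']

end Groth.Agent.S7148

namespace Groth.Agent.S7148

/-- Let A be a Noetherian ring, I an ideal, M a finite A-module and N any A-module. For every p > 0
there is c ≥ 0 such that for all n ≥ c the map Ext^p_A(M, N) → Ext^p_A(IⁿM, N) factors through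
Ext^p_A(IⁿM, I^(n-c)N) → Ext^p_A(IⁿM, N). Here Ext^p(X, Y) is the group of morphisms X → Y[p] in
D(A). -/
theorem result (A : Type u) [CommRing A] [IsNoetherianRing A] (I : Ideal A)
    (M N : Type u) [AddCommGroup M] [Module A M] [Module.Finite A M] [AddCommGroup N] [Module A N]
    (p : ℕ) (hp : 0 < p) :
    ∃ c : ℕ, ∀ n : ℕ, c ≤ n →
      ∀ e : Dual.inD A M ⟶ (Dual.inD A N)⟦(p : ℤ)⟧,
        ∃ e' : Dual.inD A ↥(I ^ n • ⊤ : Submodule A M) ⟶ (Dual.inD A ↥(I ^ (n - c) • ⊤ : Submodule A N))⟦(p : ℤ)⟧,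
          e' ≫ ((DerivedCategory.singleFunctor (ModuleCat.{u} A) 0).map
                  (ModuleCat.ofHom (I ^ (n - c) • ⊤ : Submodule A N).subtype))⟦(p : ℤ)⟧' =
            (DerivedCategory.singleFunctor (ModuleCat.{u} A) 0).map
                (ModuleCat.ofHom (I ^ n • ⊤ : Submodule A M).subtype) ≫ e := by
  obtain ⟨c, hc⟩ := Groth.Agent.S7148.exists_factor I N p M
  refine ⟨c, fun n hn e => ?_⟩
  obtain ⟨e', he'⟩ := hc n hn (Abelian.Ext.homEquiv.symm e)
  refine ⟨e'.hom, ?_⟩
  have h := congrArg Abelian.Ext.hom he'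
  simp only [Abelian.Ext.comp_hom, Abelian.Ext.mk₀_hom, ShiftedHom.comp_mk₀, ShiftedHom.mk₀_comp,
    Equiv.apply_symm_apply] at h
  exact h

end Groth.Agent.S7148
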