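import Groth.Statements.S7150
import Mathlib
import Groth.Agent.STCILib.Smooth
import Groth.Agent.PBasis.Separable

set_option autoImplicit false
universe u
open EtAlg

namespace Groth.Agent.S7150

/-- Suppose p is a prime with p·1 = 0 in the local ring A and some power of the maximal ideal of A is
zero. Then the residue map A → κ_A has a section σ : κ_A → A that is a ring map. If moreover A → A'
is a local homomorphism to another local ring whose maximal ideal has a vanishing power, and the
residue field extension κ_{A'}/κ_A is separable (possibly transcendental, i.e. geometrically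
reduced), then for any such σ there is a section σ' : κ_{A'} → A' compatible with σ. -/
theorem result (p : ℕ) (hp : p.Prime) (A : Type u) [CommRing A]
    [IsLocalRing A] [CharP A p] (hnil : ∃ n : ℕ, IsLocalRing.maximalIdeal A ^ n = ⊥) :
    (∃ σ : IsLocalRing.ResidueField A →+* A, (IsLocalRing.residue A).comp σ = RingHom.id _) ∧
    ∀ (A' : Type u) [CommRing A'] [IsLocalRing A'] [Algebra A A'] [IsLocalHom (algebraMap A A')],
      (∃ n : ℕ, IsLocalRing.maximalIdeal A' ^ n = ⊥) →
      Algebra.IsGeometricallyReduced (IsLocalRing.ResidueField A) (IsLocalRing.ResidueField A') →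
      ∀ σ : IsLocalRing.ResidueField A →+* A, (IsLocalRing.residue A).comp σ = RingHom.id _ →
        ∃ σ' : IsLocalRing.ResidueField A' →+* A', (IsLocalRing.residue A').comp σ' = RingHom.id _ ∧
          σ'.comp (IsLocalRing.ResidueField.map (algebraMap A A')) = (algebraMap A A').comp σ := by
  haveI : Fact p.Prime := ⟨hp⟩
  constructor
  · let κ := IsLocalRing.ResidueField A
    haveI : CharP κ p := by
      haveI : Nontrivial κ := inferInstance
      obtain ⟨q, hq⟩ := CharP.exists κ
      have h0 : (p : κ) = 0 := by
        rw [← map_natCast (IsLocalRing.residue A), CharP.cast_eq_zero, map_zero]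
      have hdvd := (CharP.cast_eq_zero_iff κ q p).1 h0
      rcases hp.eq_one_or_self_of_dvd q hdvd with h | h
      · haveI : CharP κ 1 := h ▸ hq
        exact absurd (CharP.CharOne.subsingleton (R := κ)) (not_subsingleton κ)
      · exact h ▸ hq
    letI : Algebra (ZMod p) A := ZMod.algebra A p
    letI : Algebra (ZMod p) κ := ZMod.algebra κ p
    haveI : IsScalarTower (ZMod p) A κ := IsScalarTower.of_algebraMap_eq' (Subsingleton.elim _ _)
    haveI : Algebra.FormallySmooth (ZMod p) κ := Groth.Agent.STCILib.formallySmooth_of_perfectField (ZMod p) κ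
    have hker : IsNilpotent (RingHom.ker (IsScalarTower.toAlgHom (ZMod p) A κ : A →+* κ)) := by
      obtain ⟨n, hn⟩ := hnil
      refine ⟨n, ?_⟩
      rw [show RingHom.ker (IsScalarTower.toAlgHom (ZMod p) A κ : A →+* κ) = IsLocalRing.maximalIdeal A from
        IsLocalRing.ker_residue (R := A)]
      exact hn
    refine ⟨(Algebra.FormallySmooth.liftOfSurjective (AlgHom.id (ZMod p) κ) (IsScalarTower.toAlgHom (ZMod p) A κ)
      IsLocalRing.residue_surjective hker).toRingHom, RingHom.ext fun x => ?_⟩
    exact Algebra.FormallySmooth.liftOfSurjective_apply _ (IsScalarTower.toAlgHom (ZMod p) A κ) _ hker x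
  · intro A' _ _ _ _ hnil' hsep σ hσ
    let κ := IsLocalRing.ResidueField A
    let κ' := IsLocalRing.ResidueField A'
    letI : Algebra κ A' := ((algebraMap A A').comp σ).toAlgebra
    haveI : Algebra.FormallySmooth κ κ' := Groth.Agent.PBasis.formallySmooth_iff_isGeometricallyReduced.2 hsep
    have hcomm : ∀ r : κ, IsLocalRing.residue A' (algebraMap A A' (σ r)) = algebraMap κ κ' r := fun r => by
      have h : IsLocalRing.residue A (σ r) = r := RingHom.congr_fun hσ r
      conv_rhs => rw [← h]
      rfl
    let g : A' →ₐ[κ] κ' := { IsLocalRing.residue A' with commutes' := hcomm }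
    have hker : IsNilpotent (RingHom.ker (g : A' →+* κ')) := by
      obtain ⟨n, hn⟩ := hnil'
      refine ⟨n, ?_⟩
      rw [show RingHom.ker (g : A' →+* κ') = IsLocalRing.maximalIdeal A' from IsLocalRing.ker_residue (R := A')]
      exact hn
    let l := Algebra.FormallySmooth.liftOfSurjective (AlgHom.id κ κ') g IsLocalRing.residue_surjective hker
    refine ⟨l.toRingHom, RingHom.ext fun x => ?_, RingHom.ext fun r => ?_⟩
    · exact Algebra.FormallySmooth.liftOfSurjective_apply (AlgHom.id κ κ') g _ hker x
    · exact l.commutes r

end Groth.Agent.S7150
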