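import Groth.Statements.S7152
import Mathlib

set_option autoImplicit false
universe u
open EtAlg

namespace Groth.Agent.S7152

set_option synthInstance.maxHeartbeats 400000
set_option maxHeartbeats 1000000


/-- Let A' ⊆ A be an extension of rings and f an element of A'. Assume A is finite over A', f is a
nonzerodivisor on A, and A'_f = A_f. Then there is n₀ > 0 such that for all n ≥ n₀ the following
holds: given a ring B', a nonzerodivisor g of B' and an isomorphism φ' : A'/fⁿA' → B'/gⁿB' sending
the class of f to the class of g, one can find a ring B containing B' as a subring and finite as a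
B'-module, together with a ring isomorphism φ : A/fA → B/gB that agrees with φ' (i.e. the square
formed by the maps A'/fⁿA' → A/fA and B'/gⁿB' → B/gB commutes). -/
theorem result (A' A : Type u) [CommRing A'] [CommRing A] [Algebra A' A]
    (hinj : Function.Injective (algebraMap A' A)) [Module.Finite A' A] (f : A')
    (hf : algebraMap A' A f ∈ nonZeroDivisors A)
    (hloc : Function.Bijective (IsLocalization.Away.map (Localization.Away f)
      (Localization.Away (algebraMap A' A f)) (algebraMap A' A) f)) :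
    ∃ n₀ : ℕ, 0 < n₀ ∧ ∀ n : ℕ, n₀ ≤ n →
      ∀ (B' : Type u) [CommRing B'] (g : B'), g ∈ nonZeroDivisors B' →
        ∀ φ' : (A' ⧸ Ideal.span {f ^ n}) ≃+* (B' ⧸ Ideal.span {g ^ n}),
        φ' (Ideal.Quotient.mk (Ideal.span {f ^ n}) f) = Ideal.Quotient.mk (Ideal.span {g ^ n}) g →
        ∃ (B : Type u) (_ : CommRing B) (_ : Algebra B' B),
          Function.Injective (algebraMap B' B) ∧ Module.Finite B' B ∧
          ∃ φ : (A ⧸ Ideal.span {algebraMap A' A f}) ≃+* (B ⧸ Ideal.span {algebraMap B' B g}),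
            ∀ (a' : A') (b' : B'),
              φ' (Ideal.Quotient.mk (Ideal.span {f ^ n}) a') = Ideal.Quotient.mk (Ideal.span {g ^ n}) b' →
              φ (Ideal.Quotient.mk (Ideal.span {algebraMap A' A f}) (algebraMap A' A a')) =
                Ideal.Quotient.mk (Ideal.span {algebraMap B' B g}) (algebraMap B' B b') := by
  classical
  -- a power of `f` carries `A` into `A'`
  have hden : ∀ a : A, ∃ k, algebraMap A' A f ^ k * a ∈ (algebraMap A' A).range := by
    intro a
    obtain ⟨z, hz⟩ := hloc.2 (algebraMap A (Localization.Away (algebraMap A' A f)) a)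
    obtain ⟨⟨a', ⟨_, k, rfl⟩⟩, h⟩ := IsLocalization.surj (Submonoid.powers f) z
    refine ⟨k, a', ?_⟩
    have h' := congrArg (IsLocalization.Away.map (Localization.Away f) (Localization.Away (algebraMap A' A f)) (algebraMap A' A) f) h
    rw [map_mul, hz] at h'
    simp only [IsLocalization.Away.map, IsLocalization.map_eq] at h'
    rw [← map_mul, map_pow] at h'
    rw [mul_comm]
    exact (IsLocalization.injective (Localization.Away (algebraMap A' A f))
      (Submonoid.powers_le.mpr hf) h').symm
  choose k hk using hden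
  obtain ⟨s, hs⟩ := Module.Finite.fg_top (R := A') (M := A)
  set m := s.sup k with hm
  set F := algebraMap A' A f
  have hμ₀ : ∀ a : A, ∃ a', algebraMap A' A a' = F ^ m * a := by
    intro a
    have ha : a ∈ Submodule.span A' (s : Set A) := hs ▸ Submodule.mem_top
    induction ha using Submodule.span_induction with
    | mem x hx =>
      obtain ⟨a', ha'⟩ := hk x
      refine ⟨f ^ (m - k x) * a', ?_⟩
      rw [map_mul, map_pow, ha', ← mul_assoc, ← pow_add, Nat.sub_add_cancel (Finset.le_sup (f := k) hx)]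
    | zero => exact ⟨0, by simp⟩
    | add x y _ _ hx hy => obtain ⟨p, hp⟩ := hx; obtain ⟨q, hq⟩ := hy; exact ⟨p + q, by rw [map_add, hp, hq]; ring⟩
    | smul c x _ hx => obtain ⟨p, hp⟩ := hx; exact ⟨c * p, by rw [map_mul, hp, Algebra.smul_def]; ring⟩
  choose μ hμ using hμ₀
  refine ⟨2 * m + 1, by omega, fun n hn B' _ g hg φ' hφ => ?_⟩
  set π := Ideal.Quotient.mk (Ideal.span {f ^ n})
  set π' := Ideal.Quotient.mk (Ideal.span {g ^ n})
  let S := Localization.Away g
  let ι : B' →+* S := algebraMap B' S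
  have hι : Function.Injective ι := IsLocalization.injective S (Submonoid.powers_le.mpr hg)
  have hG : IsUnit (ι g) := IsLocalization.Away.algebraMap_isUnit g
  have hGm : IsUnit (ι g ^ m) := hG.pow m
  let R : A → B' → Prop := fun a x => π' x = φ' (π (μ a))
  have hR : ∀ a, ∃ x, R a x := fun a => Ideal.Quotient.mk_surjective _
  choose c hc using hR
  have hpi : ∀ {x y : B'}, π' x = π' y → ∃ t, x = y + g ^ n * t := fun {x y} h => by
    obtain ⟨t, ht⟩ := Ideal.mem_span_singleton.mp (Ideal.Quotient.eq.mp h)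
    exact ⟨t, by rw [← ht]; ring⟩
  have hφg : ∀ i, φ' (π (f ^ i)) = π' (g ^ i) := fun i => by rw [map_pow, map_pow, hφ, map_pow]
  have hμeq : ∀ {x y : A'}, algebraMap A' A x = algebraMap A' A y → φ' (π x) = φ' (π y) := fun h => by rw [hinj h]
  -- the carrier
  let P : S → Prop := fun y => ∃ a x, R a x ∧ y * ι g ^ m = ι x
  have hone : ∀ b : B', P (ι b) := fun b => by
    obtain ⟨a', ha'⟩ := Ideal.Quotient.mk_surjective (φ'.symm (π' b))
    refine ⟨algebraMap A' A a', b * g ^ m, ?_, by rw [map_mul, map_pow]⟩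
    show π' _ = φ' (π (μ _))
    rw [hμeq (y := f ^ m * a') (by rw [hμ, map_mul, map_pow]), map_mul π, map_mul φ', hφg,
      show π a' = φ'.symm (π' b) from ha', RingEquiv.apply_symm_apply, map_mul, mul_comm]
  have hadd : ∀ {a a' : A} {x x' : B'}, R a x → R a' x' → R (a + a') (x + x') := fun {a a' x x'} h h' => by
    show π' _ = φ' (π (μ _))
    rw [hμeq (y := μ a + μ a') (by rw [hμ, map_add, hμ, hμ]; ring), map_add π, map_add φ', map_add, h, h']
  have hmul : ∀ {a a' : A} {x x' : B'}, R a x → R a' x' → ∃ t, x * x' = g ^ m * c (a * a') + g ^ n * t := fun {a a' x x'} h h' => by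
    refine hpi ?_
    rw [map_mul, h, h', ← map_mul φ', ← map_mul π, map_mul π', hc (a * a'), ← hφg, ← map_mul φ', ← map_mul π]
    exact hμeq (by rw [map_mul, map_mul, map_pow, hμ, hμ, hμ]; ring)
  obtain ⟨d, hd⟩ : ∃ d, n = 2 * m + 1 + d := ⟨n - (2 * m + 1), by omega⟩
  -- shifting a witness by a multiple of `g ^ n`
  have hshift : ∀ {a : A} {x : B'} (t : B'), R a x → R a (x + g ^ n * t) := fun {a x} t h => by
    show π' _ = _
    rw [map_add, map_mul, show π' (g ^ n) = 0 from Ideal.Quotient.eq_zero_iff_mem.mpr (Ideal.mem_span_singleton_self _),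
      zero_mul, add_zero]
    exact h
  have hPadd : ∀ {y y' : S}, P y → P y' → P (y + y') := by
    rintro y y' ⟨a, x, h, e⟩ ⟨a', x', h', e'⟩
    exact ⟨a + a', x + x', hadd h h', by rw [add_mul, e, e', map_add]⟩
  have hsplit : ∀ {a a' : A} {x x' : B'} {y y' : S}, R a x → R a' x' → y * ι g ^ m = ι x → y' * ι g ^ m = ι x' →
      ∃ t, (y * y' - ι (g ^ (1 + d) * t)) * ι g ^ m = ι (c (a * a')) := by
    intro a a' x x' y y' h h' e e'
    obtain ⟨t, ht⟩ := hmul h h'
    refine ⟨t, hGm.mul_left_cancel ?_⟩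
    have e2 := congrArg ι ht
    rw [map_mul, ← e, ← e', map_add, map_mul, map_mul, hd, map_pow, map_pow] at e2
    rw [map_mul, map_pow]
    linear_combination e2
  let B : Subalgebra B' S :=
    { carrier := {y | P y}
      algebraMap_mem' := hone
      add_mem' := hPadd
      mul_mem' := by
        rintro y y' ⟨a, x, h, e⟩ ⟨a', x', h', e'⟩
        obtain ⟨t, ht⟩ := hsplit h h' e e'
        have h1 : P (y * y' - ι (g ^ (1 + d) * t)) := ⟨a * a', _, hc _, ht⟩
        simpa using hPadd h1 (hone (g ^ (1 + d) * t)) }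
  let I : Ideal B := Ideal.span {algebraMap B' B g}
  let b : A → B := fun a => ⟨ι (c a) * ↑hGm.unit⁻¹, a, c a, hc a, by rw [mul_assoc, IsUnit.val_inv_mul, mul_one]⟩
  have hb : ∀ a, (b a : S) * ι g ^ m = ι (c a) := fun a => by
    show ι (c a) * ↑hGm.unit⁻¹ * ι g ^ m = _
    rw [mul_assoc, IsUnit.val_inv_mul, mul_one]
  have hdiff : ∀ {a : A} {x : B'} (y : B), R a x → (y : S) * ι g ^ m = ι x → ∃ t, y = b a + algebraMap B' B g * algebraMap B' B t := by
    intro a x y h e
    obtain ⟨t, ht⟩ := hpi (h.trans (hc a).symm)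
    refine ⟨g ^ (m + d) * t, Subtype.ext (hGm.mul_left_injective ?_)⟩
    show (y : S) * ι g ^ m = ((b a : S) + ι g * ι (g ^ (m + d) * t)) * ι g ^ m
    rw [e, add_mul, hb, ht, map_add, map_mul, map_mul, hd, map_pow, map_pow]
    ring
  have key : ∀ {a : A} {x : B'} (y : B), R a x → (y : S) * ι g ^ m = ι x → Ideal.Quotient.mk I y = Ideal.Quotient.mk I (b a) := by
    intro a x y h e
    obtain ⟨t, ht⟩ := hdiff y h e
    rw [ht, map_add, map_mul, Ideal.Quotient.eq_zero_iff_mem.mpr (Ideal.mem_span_singleton_self _), zero_mul, add_zero]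
  have hcom : ∀ (a' : A') (b' : B'), φ' (π a') = π' b' →
      Ideal.Quotient.mk I (b (algebraMap A' A a')) = Ideal.Quotient.mk I (algebraMap B' B b') := by
    intro a' b' h
    refine (key _ (x := b' * g ^ m) ?_ (by rw [map_mul, map_pow]; rfl)).symm
    show π' _ = φ' (π (μ _))
    rw [hμeq (y := a' * f ^ m) (by rw [hμ, map_mul, map_pow, mul_comm]), map_mul π, map_mul φ', hφg, h, map_mul]
  have hF1 : Ideal.Quotient.mk I (b 1) = 1 := by
    rw [← map_one (algebraMap A' A), hcom 1 1 (by rw [map_one, map_one, map_one]), map_one, map_one]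
  have hFadd : ∀ a a', Ideal.Quotient.mk I (b (a + a')) = Ideal.Quotient.mk I (b a) + Ideal.Quotient.mk I (b a') := fun a a' => by
    rw [← map_add]
    refine (key _ (hadd (hc a) (hc a')) ?_).symm
    rw [map_add, ← hb, ← hb]
    exact add_mul _ _ _
  have hFmul : ∀ a a', Ideal.Quotient.mk I (b (a * a')) = Ideal.Quotient.mk I (b a) * Ideal.Quotient.mk I (b a') := fun a a' => by
    obtain ⟨t, ht⟩ := hsplit (hc a) (hc a') (hb a) (hb a')
    rw [← key (b a * b a' - algebraMap B' B (g ^ (1 + d) * t)) (hc (a * a')) ht, map_sub, map_mul (Ideal.Quotient.mk I), map_mul (algebraMap B' B),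
      Ideal.Quotient.eq_zero_iff_mem.mpr (Ideal.mul_mem_right _ I (by
        rw [map_pow, pow_add, pow_one]; exact Ideal.mul_mem_right _ I (Ideal.mem_span_singleton_self _))), sub_zero]
  let F₀ : A →+* B ⧸ I := RingHom.mk' ⟨⟨fun a => Ideal.Quotient.mk I (b a), hF1⟩, hFmul⟩ hFadd
  have hF₀ : ∀ a, F₀ a = Ideal.Quotient.mk I (b a) := fun _ => rfl
  have hsurj : Function.Surjective F₀ := by
    intro z
    obtain ⟨⟨y, a, x, h, e⟩, rfl⟩ := Ideal.Quotient.mk_surjective z
    exact ⟨a, (hF₀ a).trans (key ⟨y, a, x, h, e⟩ h e).symm⟩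
  have hker : RingHom.ker F₀ = Ideal.span {F} := by
    refine le_antisymm (fun a ha => ?_) ((Ideal.span_singleton_le_iff_mem _).mpr ?_)
    · rw [RingHom.mem_ker, hF₀, Ideal.Quotient.eq_zero_iff_mem] at ha
      obtain ⟨⟨y, a₀, x, h, e⟩, hy⟩ := Ideal.mem_span_singleton.mp ha
      have hy' : (b a : S) = ι g * y := congrArg Subtype.val hy
      have hx : c a = g * x := hι (by rw [← hb, hy', mul_assoc, e, map_mul])
      have h2 : π (μ a) = π (f * μ a₀) := φ'.injective (by
        rw [← hc a, hx, map_mul, map_mul π, map_mul φ', ← h]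
        exact congrArg (· * π' x) hφ.symm)
      obtain ⟨t, ht⟩ := Ideal.mem_span_singleton.mp (Ideal.Quotient.eq.mp h2)
      have h3 := congrArg (algebraMap A' A) ht
      rw [map_sub, map_mul, map_mul, map_pow, hμ, hμ, hd] at h3
      refine Ideal.mem_span_singleton.mpr ⟨a₀ + F ^ (m + d) * algebraMap A' A t, ?_⟩
      refine (mul_cancel_left_mem_nonZeroDivisors (pow_mem hf m)).mp ?_
      linear_combination h3
    · rw [RingHom.mem_ker, hF₀, hcom f g hφ, Ideal.Quotient.eq_zero_iff_mem]
      exact Ideal.mem_span_singleton_self _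
  have hfin : ∀ (a : A) (y : B) (x : B'), R a x → (y : S) * ι g ^ m = ι x →
      y ∈ Submodule.span B' (insert 1 (b '' (s : Set A))) := by
    intro a
    have ha : a ∈ Submodule.span A' (s : Set A) := hs ▸ Submodule.mem_top
    have h1 : ∀ t : B', algebraMap B' B t ∈ Submodule.span B' (insert 1 (b '' (s : Set A))) := fun t => by
      rw [Algebra.algebraMap_eq_smul_one]
      exact Submodule.smul_mem _ t (Submodule.subset_span (Set.mem_insert _ _))
    have hred : ∀ {a : A}, b a ∈ Submodule.span B' (insert 1 (b '' (s : Set A))) → ∀ (y : B) (x : B'), R a x →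
        (y : S) * ι g ^ m = ι x → y ∈ Submodule.span B' (insert 1 (b '' (s : Set A))) := fun {a} hba y x h e => by
      obtain ⟨t, ht⟩ := hdiff y h e
      rw [ht, ← map_mul]
      exact add_mem hba (h1 _)
    induction ha using Submodule.span_induction with
    | mem a ha => exact hred (Submodule.subset_span (Set.mem_insert_of_mem _ ⟨a, ha, rfl⟩))
    | zero =>
      refine fun y x h e => ?_
      obtain ⟨t, ht⟩ := hpi (x := x) (y := 0) (by
        rw [h, hμeq (y := 0) (by rw [hμ, mul_zero, map_zero]), map_zero, map_zero, map_zero])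
      rw [show y = algebraMap B' B (g ^ (m + 1 + d) * t) from Subtype.ext (hGm.mul_left_injective (by
        show (y : S) * ι g ^ m = ι (g ^ (m + 1 + d) * t) * ι g ^ m
        rw [e, ht, zero_add, map_mul, map_mul, map_pow, map_pow, hd]; ring))]
      exact h1 _
    | add a a' _ _ iha iha' =>
      refine hred ?_
      obtain ⟨t, ht⟩ := hdiff (b a + b a') (hadd (hc a) (hc a')) (by
        show ((b a : S) + b a') * ι g ^ m = _
        rw [add_mul, hb, hb, map_add])
      rw [← map_mul, ← sub_eq_iff_eq_add] at ht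
      rw [← ht]
      exact sub_mem (add_mem (iha _ _ (hc a) (hb a)) (iha' _ _ (hc a') (hb a'))) (h1 _)
    | smul q a _ iha =>
      refine hred ?_
      obtain ⟨q', hq'⟩ := Ideal.Quotient.mk_surjective (φ' (π q))
      obtain ⟨t, ht⟩ := hdiff (algebraMap B' B q' * b a) (a := q • a) (x := q' * c a) (by
        show π' _ = φ' (π (μ _))
        rw [hμeq (y := q * μ a) (by rw [hμ, map_mul, hμ, Algebra.smul_def]; ring), map_mul π, map_mul φ', ← hc a, ← hq', map_mul]) (by
        show ι q' * (b a : S) * ι g ^ m = _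
        rw [mul_assoc, hb, map_mul])
      rw [← map_mul, ← sub_eq_iff_eq_add] at ht
      rw [← ht, ← Algebra.smul_def]
      exact sub_mem (Submodule.smul_mem _ _ (iha _ _ (hc a) (hb a))) (h1 _)
  refine ⟨B, inferInstance, inferInstance, fun x y hxy => hι (congrArg Subtype.val hxy), ⟨⟨insert 1 (s.image b), ?_⟩⟩,
    (Ideal.quotEquivOfEq hker.symm).trans (RingHom.quotientKerEquivOfSurjective hsurj), fun a' b' h => ?_⟩
  · rw [Finset.coe_insert, Finset.coe_image]
    refine eq_top_iff.mpr fun y _ => ?_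
    obtain ⟨a, x, h, e⟩ := y.2
    exact hfin a y x h e
  · exact hcom a' b' h

end Groth.Agent.S7152
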