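import Groth.Statements.S7155
import Mathlib
import Groth.Agent.EtRamAS.Formal
import Groth.Agent.EtRamAS.Tot
import Groth.Agent.EtRamAS.Local
import Groth.Agent.BddFinLib.DegreePCriteria

set_option autoImplicit false
universe u
open EtAlg

namespace Groth.Agent.S7155

set_option maxHeartbeats 2000000
open Polynomial IsLocalRing TensorProduct EtRamAS

lemma weaklyUnramified_comap {M K₁ : Type u} [Field M] [Field K₁] (W : ValuationSubring M) (f : K₁ →+* M) (r : W.comap f)
    (hr : maximalIdeal (W.comap f) = Ideal.span {r}) (hW : maximalIdeal W = Ideal.span {EtRam.inclOfComap W f r}) :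
    letI : Algebra (W.comap f) W := (EtRam.inclOfComap W f).toAlgebra
    EtRam.IsWeaklyUnramified (W.comap f) W := by
  letI : Algebra (W.comap f) W := (EtRam.inclOfComap W f).toAlgebra
  show (maximalIdeal (W.comap f)).map (algebraMap (W.comap f) W) = maximalIdeal W
  rw [hr, hW, Ideal.map_span, Set.image_singleton]
  rfl


/-- Let A → B → C be injective local homomorphisms of discrete valuation rings whose fields of fractions
are K ⊆ L ⊆ M, where A → B is weakly unramified, K has characteristic p, M/L is Galois of degree p,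
and κ_A, inside κ_B, is exactly the set of elements admitting a pⁿ-th root for every n. Then some
finite separable extension K₁/K that is totally ramified with respect to A is a weak solution for A
→ C. (The published statement asks for K₁/K Galois; this row asks only that K₁/K be separable, which
is what the printed construction provides.) -/
theorem result (p : ℕ) (hp : p.Prime) (A B C K L M : Type u)
    [CommRing A] [IsDomain A] [IsDiscreteValuationRing A] [CommRing B] [IsDomain B] [IsDiscreteValuationRing B]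
    [CommRing C] [IsDomain C] [IsDiscreteValuationRing C]
    [Algebra A B] [Algebra B C] [Algebra A C] [IsScalarTower A B C]
    (hAB : Function.Injective (algebraMap A B)) (hBC : Function.Injective (algebraMap B C))
    [IsLocalHom (algebraMap A B)] [IsLocalHom (algebraMap B C)]
    [Field K] [Field L] [Field M] [Algebra A K] [IsFractionRing A K] [Algebra B L] [IsFractionRing B L]
    [Algebra C M] [IsFractionRing C M] [Algebra K L] [Algebra L M] [Algebra K M] [IsScalarTower K L M]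
    [Algebra A L] [IsScalarTower A K L] [IsScalarTower A B L] [Algebra B M] [IsScalarTower B L M] [IsScalarTower B C M]
    [Algebra A M] [IsScalarTower A K M] [IsScalarTower A C M]
    (hw : EtRam.IsWeaklyUnramified A B) [CharP K p] [IsGalois L M] (hdeg : Module.finrank L M = p)
    (hk : ∀ x : IsLocalRing.ResidueField B, (∀ n : ℕ, ∃ y : IsLocalRing.ResidueField B, y ^ (p ^ n) = x) ↔
      x ∈ Set.range (algebraMap (IsLocalRing.ResidueField A) (IsLocalRing.ResidueField B))) :
    ∃ (K₁ : Type u) (_ : Field K₁) (_ : Algebra K K₁), FiniteDimensional K K₁ ∧ Algebra.IsSeparable K K₁ ∧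
      EtRam.IsTotallyRamified A ((algebraMap K K₁).comp (algebraMap A K)) ∧ EtRam.IsWeakSolution C K M K₁ := by
  classical
  haveI := Fact.mk hp
  haveI : CharP L p := ((algebraMap K L).charP_iff (algebraMap K L).injective p).mp inferInstance
  haveI : CharP B p := ((algebraMap B L).charP_iff (IsFractionRing.injective B L) p).mpr inferInstance
  haveI : CharP (IsLocalRing.ResidueField B) p := (CharP.charP_iff_prime_eq_zero hp).mpr (by
    rw [← map_natCast (IsLocalRing.residue B), CharP.cast_eq_zero, map_zero])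
  haveI : FiniteDimensional L M := FiniteDimensional.of_finrank_pos (by rw [hdeg]; exact hp.pos)
  obtain ⟨π, hπA⟩ := IsDiscreteValuationRing.exists_irreducible A
  set ϖ := algebraMap A B π with hϖ
  have hmB : maximalIdeal B = Ideal.span {ϖ} := by
    rw [← hw, hπA.maximalIdeal_eq, Ideal.map_span, Set.image_singleton]
  have hϖirr : Irreducible ϖ := (IsDiscreteValuationRing.irreducible_iff_uniformizer ϖ).mpr hmB
  obtain ⟨z, ⟨ξ, hξ⟩, hzL⟩ := Groth.Agent.BddFinLib.exists_AS_generator (K := L) (L := M) p hdeg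
  obtain ⟨n, a, hn, hξa⟩ : ∃ (n : ℕ) (a : B), 1 ≤ n ∧ ξ = algebraMap B L a / algebraMap B L ϖ ^ n := by
    obtain ⟨a₀, d, hd, rfl⟩ := IsFractionRing.div_surjective (A := B) ξ
    obtain ⟨k, ε, rfl⟩ := IsDiscreteValuationRing.eq_unit_mul_pow_irreducible (nonZeroDivisors.ne_zero hd) hϖirr
    refine ⟨k + 1, a₀ * ↑ε⁻¹ * ϖ, Nat.le_add_left _ _, ?_⟩
    have h1 : algebraMap B L ϖ ≠ 0 := (map_ne_zero_iff _ (IsFractionRing.injective B L)).mpr hϖirr.ne_zero
    have h2 : algebraMap B L ε * algebraMap B L ↑ε⁻¹ = 1 := by rw [← map_mul, ε.mul_inv, map_one]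
    rw [map_mul, map_mul, map_mul, map_pow, pow_succ, mul_div_mul_right _ _ h1, eq_comm,
      div_eq_div_iff (pow_ne_zero _ h1) (mul_ne_zero (left_ne_zero_of_mul_eq_one h2) (pow_ne_zero _ h1))]
    linear_combination (algebraMap B L a₀ * algebraMap B L ϖ ^ k) * h2
  obtain ⟨J, η, hηs, hcases⟩ := normal_form (p := p) (A := A) (π := ϖ) (n := n) hϖirr hn hk a
  set Q := p ^ n * p ^ J with hQdef
  set m := 2 * n + 1 with hm
  have hQ1 : 1 < Q := lt_of_lt_of_le (Nat.one_lt_pow (by omega) hp.one_lt) (Nat.le_mul_of_pos_right _ (pow_pos hp.pos J))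
  obtain ⟨hmonA, hnatA, heisA⟩ := EtRamAS.eisenstein hπA Q m hQ1 (by omega)
  set fA : A[X] := X ^ Q + (Polynomial.C (π ^ m) * X - Polynomial.C π) with hfA
  have hn0 : 0 < fA.natDegree := by rw [hnatA]; omega
  have hirrK : Irreducible (fA.map (algebraMap A K)) :=
    hmonA.irreducible_iff_irreducible_map_fraction_map.mp (EtRamEis.irreducible hmonA heisA hn0)
  haveI := Fact.mk hirrK
  set fK := fA.map (algebraMap A K) with hfK
  have hQK : (Q : K) = 0 := by rw [hQdef, Nat.cast_mul, Nat.cast_pow, CharP.cast_eq_zero, zero_pow (by omega), zero_mul]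
  have hsepK : fK.Separable := by
    rw [separable_iff_derivative_ne_zero hirrK, hfK, derivative_map]
    intro h0
    have h1 := congrArg (fun P => P.coeff 0) h0
    simp only [coeff_map, coeff_derivative, coeff_zero, Nat.cast_zero, zero_add, mul_one] at h1
    rw [map_eq_zero_iff _ (IsFractionRing.injective A K), hfA, coeff_add, coeff_X_pow, if_neg hQ1.ne, zero_add, coeff_sub,
      coeff_C_mul_X, coeff_C, if_pos rfl, if_neg one_ne_zero, sub_zero] at h1
    exact pow_ne_zero _ hπA.ne_zero h1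
  let K₁ := AdjoinRoot fK
  let r : K₁ := AdjoinRoot.root fK
  haveI : FiniteDimensional K K₁ := (AdjoinRoot.powerBasis hirrK.ne_zero).finite
  have hr : fA.eval₂ (algebraMap A K₁) r = 0 := by
    have h := AdjoinRoot.eval₂_root fK
    rw [hfK, eval₂_map] at h
    rw [IsScalarTower.algebraMap_eq A K K₁]
    exact h
  have hgenK : ∀ x : K₁, ∃ q : K[X], aeval r q = x := fun x => by
    obtain ⟨q, rfl⟩ := AdjoinRoot.mk_surjective x
    exact ⟨q, AdjoinRoot.aeval_eq q⟩
  have hsep₁ : Algebra.IsSeparable K K₁ := by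
    have hys : IsSeparable K r := hsepK.of_dvd (minpoly.dvd K r (by rw [AdjoinRoot.aeval_eq, AdjoinRoot.mk_self]))
    haveI : Algebra.IsSeparable K (IntermediateField.adjoin K {r}) := (IntermediateField.isSeparable_adjoin_simple_iff_isSeparable K K₁).mpr hys
    exact AlgEquiv.Algebra.isSeparable ((IntermediateField.equivOfEq (IntermediateField.adjoin_root_eq_top _)).trans IntermediateField.topEquiv)
  have hinjlift : Function.Injective (AdjoinRoot.lift (algebraMap A K₁) r hr) := by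
    rw [injective_iff_map_eq_zero]
    intro q hq
    obtain ⟨q, rfl⟩ := AdjoinRoot.mk_surjective q
    rw [AdjoinRoot.lift_mk, ← aeval_def, ← aeval_map_algebraMap K, AdjoinRoot.aeval_eq, AdjoinRoot.mk_eq_zero, hfK,
      Polynomial.map_dvd_map _ (IsFractionRing.injective A K) hmonA] at hq
    exact AdjoinRoot.mk_eq_zero.mpr hq
  have hgen₁ := EtRamEis.exists_div_of_gen (K := K) hr hgenK
  have ht₁ : EtRam.IsTotallyRamified A (algebraMap A K₁) := EtRamEis.isTotallyRamified hmonA heisA hn0 hr hinjlift hgen₁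
  have hr0 : r ≠ 0 := fun h => by
    rw [h, hfA, eval₂_add, eval₂_sub, eval₂_mul, eval₂_pow, eval₂_X, eval₂_C, eval₂_C, zero_pow (by omega), mul_zero,
      zero_sub, zero_add, neg_eq_zero, IsScalarTower.algebraMap_apply A K K₁, _root_.map_eq_zero,
      map_eq_zero_iff _ (IsFractionRing.injective A K)] at hr
    exact hπA.ne_zero hr
  have hV₁ : ∀ V₁ : ValuationSubring K₁, EtRam.Dominates A (algebraMap A K₁) V₁ → ∃ h : r ∈ V₁, Irreducible (⟨r, h⟩ : V₁) ∧
      IsDiscreteValuationRing V₁ := by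
    intro V₁ hd
    have hrV : r ∈ V₁ := (V₁.valuation_le_one_iff _).mp (EtRamEis.valuation_root_lt_one hmonA heisA hn0 hr V₁ hd).le
    letI : Algebra A V₁ := (RingHom.codRestrict (algebraMap A K₁) V₁ hd.1).toAlgebra
    haveI : IsLocalHom (algebraMap A V₁) := ⟨fun x hx => by
      by_contra h
      exact (hd.2 x h).ne ((V₁.valuation_eq_one_iff _).mp hx)⟩
    haveI := EtRamBC.isDiscreteValuationRing A K V₁ (fun _ => rfl)
    refine ⟨hrV, (IsDiscreteValuationRing.irreducible_iff_uniformizer _).mpr (le_antisymm (fun x hx => ?_) ?_), inferInstance⟩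
    · obtain ⟨c, hc⟩ := (EtRamEis.mem_iff_exists hmonA heisA hn0 hr hgen₁ V₁ hd (x : K₁)).mp x.2
      obtain ⟨_, _, hmax, -, -⟩ := EtRamEis.exists_isDVR hmonA heisA hn0
      by_cases hu : IsUnit c
      · exfalso
        obtain ⟨c, rfl⟩ := hu
        exact hx (IsUnit.of_mul_eq_one (⟨_, EtRamEis.lift_mem hmonA heisA hn0 hr V₁ hd ↑c⁻¹⟩ : V₁) (Subtype.ext (by
          show (x : K₁) * _ = 1
          rw [← hc, ← map_mul, Units.mul_inv, map_one])))
      · obtain ⟨d, rfl⟩ := Ideal.mem_span_singleton.mp (hmax ▸ (IsLocalRing.mem_maximalIdeal c).mpr hu)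
        refine Ideal.mem_span_singleton.mpr ⟨⟨_, EtRamEis.lift_mem hmonA heisA hn0 hr V₁ hd d⟩, Subtype.ext ?_⟩
        show (x : K₁) = r * _
        rw [← hc, map_mul, AdjoinRoot.lift_root]
    · rw [Ideal.span_singleton_le_iff_mem]
      intro h
      exact (EtRamEis.valuation_root_lt_one hmonA heisA hn0 hr V₁ hd).ne ((V₁.valuation_eq_one_iff _).mp h)
  -- the second step
  set η₁ : K₁ := η.sum fun i α => algebraMap A K₁ α * r⁻¹ ^ i with hη₁
  obtain ⟨g, hgirr, hgsep, hgroot, hgtot⟩ : ∃ g : K₁[X], ∃ _ : Fact (Irreducible g), g.Separable ∧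
      AdjoinRoot.root g ^ p - AdjoinRoot.root g = algebraMap K₁ (AdjoinRoot g) η₁ ∧
      EtRam.IsTotallyRamified A ((algebraMap K₁ (AdjoinRoot g)).comp (algebraMap A K₁)) := by
    rcases η.support.eq_empty_or_nonempty with he | hne
    · haveI : Fact (Irreducible (X : K₁[X])) := ⟨irreducible_X⟩
      refine ⟨X, inferInstance, separable_X, ?_, ?_⟩
      · have h0 : AdjoinRoot.root (X : K₁[X]) = 0 := by rw [← AdjoinRoot.mk_X, AdjoinRoot.mk_self]
        rw [h0, zero_pow hp.ne_zero, sub_zero, hη₁, Finsupp.sum, he, Finset.sum_empty, map_zero]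
      · haveI : FiniteDimensional K₁ (AdjoinRoot (X : K₁[X])) := (AdjoinRoot.powerBasis X_ne_zero).finite
        refine isTotallyRamified_step ht₁ 1 one_pos r hr0 hV₁ ?_ (algebraMap K₁ _ r) (fun V _ => pow_one _)
        rw [PowerBasis.finrank (AdjoinRoot.powerBasis X_ne_zero), AdjoinRoot.powerBasis_dim, natDegree_X]
    · haveI : CharP K₁ p := ((algebraMap K K₁).charP_iff (algebraMap K K₁).injective p).mp inferInstance
      have hdegP : (-X - Polynomial.C η₁ : K₁[X]).degree < (p : WithBot ℕ) := by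
        refine lt_of_le_of_lt (degree_sub_le _ _) (max_lt ?_ ?_)
        · rw [degree_neg, degree_X]; exact_mod_cast hp.one_lt
        · exact lt_of_le_of_lt degree_C_le (by exact_mod_cast hp.pos)
      set P : K₁[X] := X ^ p + (-X - Polynomial.C η₁) with hP
      have hPdeg : P.natDegree = p := natDegree_eq_of_degree_eq_some (by
        rw [hP, degree_add_eq_left_of_degree_lt (by rwa [degree_X_pow]), degree_X_pow])
      have hP0 : P ≠ 0 := (monic_X_pow_add hdegP).ne_zero
      have hPsep : P.Separable := by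
        refine ⟨0, -1, ?_⟩
        simp [hP, derivative_X_pow]
      have hPu : ¬ IsUnit P := fun h => by
        have := natDegree_eq_zero_of_isUnit h
        rw [hPdeg] at this
        exact hp.ne_zero this
      obtain ⟨g, hgirr, hgP⟩ := WfDvdMonoid.exists_irreducible_factor hPu hP0
      haveI := Fact.mk hgirr
      have hroot : AdjoinRoot.root g ^ p - AdjoinRoot.root g = algebraMap K₁ (AdjoinRoot g) η₁ := by
        have h1 : aeval (AdjoinRoot.root g) P = 0 := by
          rw [AdjoinRoot.aeval_eq, AdjoinRoot.mk_eq_zero]; exact hgP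
        rw [hP, map_add, map_sub, map_neg, map_pow, aeval_X, aeval_C] at h1
        linear_combination h1
      refine ⟨g, inferInstance, hPsep.of_dvd hgP, hroot, ?_⟩
      haveI : FiniteDimensional K₁ (AdjoinRoot g) := (AdjoinRoot.powerBasis hgirr.ne_zero).finite
      obtain ⟨i₀, hi₀, hmax⟩ := η.support.exists_max_image id hne
      obtain ⟨hndvd, -⟩ := hηs i₀ hi₀
      have hi₀0 : i₀ ≠ 0 := fun h => hndvd (h ▸ dvd_zero p)
      obtain ⟨x, -, hx⟩ := Nat.exists_mul_mod_eq_one_of_coprime ((hp.coprime_iff_not_dvd.mpr hndvd).symm) hp.one_lt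
      obtain ⟨b, hb⟩ : p ∣ i₀ * (x * (p - 1)) + 1 := by
        have h := Nat.div_add_mod (i₀ * x) p
        rw [hx] at h
        generalize i₀ * x / p = k at h
        refine ⟨k * (p - 1) + 1, ?_⟩
        rw [← mul_assoc i₀, ← h]
        obtain ⟨q, rfl⟩ : ∃ q, p = q + 1 := ⟨p - 1, (Nat.succ_pred_eq_of_pos hp.pos).symm⟩
        rw [Nat.add_sub_cancel]
        ring
      set ex := x * (p - 1) with hex
      refine isTotallyRamified_step ht₁ p hp.pos r hr0 hV₁ ?_ (AdjoinRoot.root g ^ ex * algebraMap K₁ _ r ^ b) ?_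
      · rw [PowerBasis.finrank (AdjoinRoot.powerBasis hgirr.ne_zero), AdjoinRoot.powerBasis_dim, ← hPdeg]
        exact natDegree_le_of_dvd hgP hP0
      intro V hV
      set ρ := V.valuation (algebraMap K₁ (AdjoinRoot g) r) with hρ
      have hρ0 : ρ ≠ 0 := by rw [hρ, Valuation.ne_zero_iff]; exact (_root_.map_ne_zero _).mpr hr0
      have hρ1 : ρ < 1 := by
        have hd := dominates_comap hV
        obtain ⟨hrV, hirr, -⟩ := hV₁ _ hd
        refine (V.valuation_lt_one_iff ⟨_, hrV⟩).mp fun hu => hirr.not_isUnit ?_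
        exact (isUnit_map_iff (EtRam.inclOfComap V (algebraMap K₁ (AdjoinRoot g))) _).mp hu
      have hterm : ∀ i ∈ η.support, V.valuation (algebraMap K₁ (AdjoinRoot g) (algebraMap A K₁ (η i) * r⁻¹ ^ i)) = ρ⁻¹ ^ i := by
        intro i hi
        rw [map_mul, map_pow, map_inv₀, map_mul, map_pow, map_inv₀, ← hρ]
        have hu : IsUnit (η i) := residue_ne_zero_iff_isUnit _ |>.mp (hηs i hi).2
        obtain ⟨u, hu'⟩ := hu
        have hval : V.valuation (algebraMap K₁ (AdjoinRoot g) (algebraMap A K₁ (η i))) = 1 := by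
          rw [← hu']
          exact (V.valuation_eq_one_iff _).mp
            (u.isUnit.map (RingHom.codRestrict ((algebraMap K₁ (AdjoinRoot g)).comp (algebraMap A K₁)) V hV.1))
        rw [hval, one_mul]
      have hgt : 1 < ρ⁻¹ := (one_lt_inv₀ (zero_lt_iff.mpr hρ0)).mpr hρ1
      have hη : V.valuation (algebraMap K₁ (AdjoinRoot g) η₁) = ρ⁻¹ ^ i₀ := by
        rw [hη₁, Finsupp.sum, map_sum, Valuation.map_sum_eq_of_lt (j := i₀) V.valuation hi₀ fun j hj => ?_]
        · exact hterm i₀ hi₀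
        · obtain ⟨hj, hj'⟩ := Finset.mem_sdiff.mp hj
          rw [hterm j hj, hterm i₀ hi₀]
          exact pow_lt_pow_right₀ hgt (lt_of_le_of_ne (hmax j hj) fun h => hj' (Finset.mem_singleton.mpr h))
      have hone : (1 : _) < ρ⁻¹ ^ i₀ := one_lt_pow₀ hgt hi₀0
      set v := V.valuation (AdjoinRoot.root g) with hv
      have hv1 : 1 < v := by
        by_contra hle
        rw [not_lt] at hle
        have h2 : V.valuation (algebraMap K₁ (AdjoinRoot g) η₁) ≤ 1 := by
          rw [← hroot]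
          exact (Valuation.map_sub _ _ _).trans (max_le (by rw [map_pow]; exact pow_le_one₀ zero_le hle) hle)
        rw [hη] at h2
        exact absurd h2 (not_le.mpr hone)
      have hvp : v ^ p = ρ⁻¹ ^ i₀ := by
        rw [← hη, ← hroot, Valuation.map_sub_eq_of_lt_left, map_pow, hv]
        rw [map_pow, ← hv]
        exact lt_self_pow₀ hv1 hp.one_lt
      rw [map_mul, map_pow, map_pow, ← hρ, mul_pow, ← hv, ← pow_mul, ← pow_mul, mul_comm ex, pow_mul, hvp, ← pow_mul,
        mul_comm b p, ← hb, pow_succ, ← mul_assoc, inv_pow, inv_mul_cancel₀ (pow_ne_zero _ hρ0), one_mul]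
  let K₂ := AdjoinRoot g
  let w₂ : K₂ := AdjoinRoot.root g
  haveI : FiniteDimensional K₁ K₂ := (AdjoinRoot.powerBasis hgirr.out.ne_zero).finite
  haveI : FiniteDimensional K K₂ := Module.Finite.trans K₁ K₂
  haveI : Algebra.IsSeparable K₁ K₂ := by
    have hys : IsSeparable K₁ w₂ := hgsep.of_dvd (minpoly.dvd K₁ w₂ (by rw [AdjoinRoot.aeval_eq, AdjoinRoot.mk_self]))
    haveI : Algebra.IsSeparable K₁ (IntermediateField.adjoin K₁ {w₂}) := (IntermediateField.isSeparable_adjoin_simple_iff_isSeparable K₁ K₂).mpr hys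
    exact AlgEquiv.Algebra.isSeparable ((IntermediateField.equivOfEq (IntermediateField.adjoin_root_eq_top _)).trans IntermediateField.topEquiv)
  haveI := hsep₁
  have hg₂ : (algebraMap K₁ K₂).comp (algebraMap A K₁) = (algebraMap K K₂).comp (algebraMap A K) := by
    rw [IsScalarTower.algebraMap_eq A K K₁, ← RingHom.comp_assoc, ← IsScalarTower.algebraMap_eq]
  refine ⟨K₂, inferInstance, inferInstance, inferInstance, Algebra.IsSeparable.trans K K₁ K₂, hg₂ ▸ hgtot, ?_⟩
  intro N _ _ _ _ _ _ htop W hW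
  letI : Algebra L N := ((algebraMap M N).comp (algebraMap L M)).toAlgebra
  letI : Algebra B N := ((algebraMap M N).comp (algebraMap B M)).toAlgebra
  haveI : IsScalarTower L M N := IsScalarTower.of_algebraMap_eq fun _ => rfl
  haveI : IsScalarTower B M N := IsScalarTower.of_algebraMap_eq fun _ => rfl
  haveI : IsScalarTower B L N := IsScalarTower.of_algebraMap_eq fun x =>
    congrArg (algebraMap M N) (IsScalarTower.algebraMap_apply B L M x)
  let i₁ : K₁ →+* N := (algebraMap K₂ N).comp (algebraMap K₁ K₂)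
  have hBN : ∀ b, algebraMap B N b = algebraMap M N (algebraMap C M (algebraMap B C b)) := fun b =>
    congrArg (algebraMap M N) (IsScalarTower.algebraMap_apply B C M b)
  have hAN : ∀ x : A, algebraMap B N (algebraMap A B x) = algebraMap K₂ N (algebraMap K K₂ (algebraMap A K x)) := fun x => by
    rw [← IsScalarTower.algebraMap_apply K K₂ N, IsScalarTower.algebraMap_apply K M N]
    show algebraMap M N (algebraMap B M (algebraMap A B x)) = _
    rw [IsScalarTower.algebraMap_apply B L M, ← IsScalarTower.algebraMap_apply A B L, IsScalarTower.algebraMap_apply A K L,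
      ← IsScalarTower.algebraMap_apply K L M]
  have hinjBN : Function.Injective (algebraMap B N) := by
    rw [IsScalarTower.algebraMap_eq B L N]; exact (algebraMap L N).injective.comp (IsFractionRing.injective B L)
  haveI : CharP N p := charP_of_injective_algebraMap hinjBN p
  have hBW : ∀ b, algebraMap B N b ∈ W := fun b => by rw [hBN]; exact hW.1 _
  letI : Algebra B W := (RingHom.codRestrict (algebraMap B N) W hBW).toAlgebra
  haveI : IsScalarTower B W N := IsScalarTower.of_algebraMap_eq fun _ => rfl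
  haveI hBWloc : IsLocalHom (algebraMap B W) := ⟨fun b hb => by
    by_contra h
    have h1 := (W.valuation_eq_one_iff _).mp hb
    have h2 : W.valuation (algebraMap B N b) < 1 := by
      rw [hBN]; exact hW.2 _ (fun hu => h ((isUnit_map_iff (algebraMap B C) b).mp hu))
    exact h2.ne h1⟩
  -- the trace on K₂
  set U := W.comap (algebraMap K₂ N) with hUdef
  have hAU : ∀ x : A, algebraMap K K₂ (algebraMap A K x) ∈ U := fun x => by
    show algebraMap K₂ N _ ∈ W; rw [← hAN]; exact hBW _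
  letI : Algebra A U := (RingHom.codRestrict ((algebraMap K K₂).comp (algebraMap A K)) U hAU).toAlgebra
  haveI : IsLocalHom (algebraMap A U) := ⟨fun x hx => by
    have h1 := hx.map (EtRam.inclOfComap W (algebraMap K₂ N))
    have h2 : EtRam.inclOfComap W (algebraMap K₂ N) (algebraMap A U x) = algebraMap B W (algebraMap A B x) :=
      Subtype.ext (hAN x).symm
    rw [h2] at h1
    exact (isUnit_map_iff (algebraMap A B) x).mp ((isUnit_map_iff (algebraMap B W) _).mp h1)⟩
  haveI hUdvr : IsDiscreteValuationRing U := EtRamBC.isDiscreteValuationRing A K U (fun x => IsScalarTower.algebraMap_apply A K K₂ x ▸ rfl)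
  have hdomU : EtRam.Dominates A ((algebraMap K₁ K₂).comp (algebraMap A K₁)) U := by
    rw [hg₂]
    refine ⟨hAU, fun x hx => (U.valuation_lt_one_iff ⟨_, hAU x⟩).mp fun hu => hx ?_⟩
    exact (isUnit_map_iff (algebraMap A U) x).mp hu
  have hresU : Function.Surjective fun x : A => residue U (algebraMap A U x) := fun ρ => by
    obtain ⟨x, hx⟩ := hgtot.2.2 U hdomU ρ
    refine ⟨x, ?_⟩
    rw [← hx]
    exact congrArg (residue U) (Subtype.ext (RingHom.congr_fun hg₂ x).symm)
  obtain ⟨y, hy⟩ := IsDiscreteValuationRing.exists_irreducible U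
  have hπU0 : algebraMap A U π ≠ 0 := fun h => by
    have := congrArg Subtype.val h
    exact hπA.ne_zero (IsFractionRing.injective A K ((algebraMap K K₂).injective (this.trans (by rw [map_zero, map_zero]; rfl))))
  obtain ⟨e, ε, he⟩ := IsDiscreteValuationRing.eq_unit_mul_pow_irreducible hπU0 hy
  have hπUnu : ¬ IsUnit (algebraMap A U π) := fun h => hπA.not_isUnit ((isUnit_map_iff (algebraMap A U) π).mp h)
  -- the subfield
  let F₀ : Subfield N := Subfield.closure (Set.range (algebraMap L N) ∪ Set.range (algebraMap K₂ N))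
  have hLF : ∀ l, algebraMap L N l ∈ F₀ := fun l => Subfield.subset_closure (Or.inl ⟨l, rfl⟩)
  have hKF : ∀ x, algebraMap K₂ N x ∈ F₀ := fun x => Subfield.subset_closure (Or.inr ⟨x, rfl⟩)
  have hBF : ∀ b, algebraMap B N b ∈ F₀ := fun b => by rw [IsScalarTower.algebraMap_apply B L N]; exact hLF _
  let W₀ := W.comap (algebraMap F₀ N)
  let jB : B →+* W₀ := RingHom.codRestrict (RingHom.codRestrict (algebraMap B N) F₀ hBF) W₀ hBW
  let jU : U →+* W₀ := RingHom.codRestrict (RingHom.codRestrict ((algebraMap K₂ N).comp U.subtype) F₀ (fun x => hKF _)) W₀ (fun x => x.2)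
  letI : Algebra B W₀ := jB.toAlgebra
  letI : Algebra U W₀ := jU.toAlgebra
  letI : Algebra A W₀ := (jB.comp (algebraMap A B)).toAlgebra
  haveI : IsScalarTower A B W₀ := IsScalarTower.of_algebraMap_eq fun _ => rfl
  haveI : IsScalarTower A U W₀ := IsScalarTower.of_algebraMap_eq fun x => Subtype.ext (Subtype.ext (hAN x))
  let inc := EtRam.inclOfComap W (algebraMap F₀ N)
  haveI : IsLocalHom (algebraMap B W₀) := ⟨fun b hb => by
    have h1 := hb.map inc
    rw [show inc (algebraMap B W₀ b) = algebraMap B W b from Subtype.ext rfl] at h1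
    exact (isUnit_map_iff (algebraMap B W) b).mp h1⟩
  haveI : IsLocalHom (algebraMap U W₀) := ⟨fun x hx => by
    have h1 := hx.map inc
    rw [show inc (algebraMap U W₀ x) = EtRam.inclOfComap W (algebraMap K₂ N) x from Subtype.ext rfl] at h1
    exact (isUnit_map_iff (EtRam.inclOfComap W (algebraMap K₂ N)) x).mp h1⟩
  haveI : IsLocalHom (algebraMap A W₀) := ⟨fun x hx => (isUnit_map_iff (algebraMap A B) x).mp ((isUnit_map_iff (algebraMap B W₀) _).mp hx)⟩
  have hBW₀inj : Function.Injective (algebraMap B W₀) := fun x x' h => hinjBN (congrArg (fun t : W₀ => ((t : F₀) : N)) h)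
  have hintN : ∀ x : N, IsIntegral M x := by
    intro x
    have hle : Algebra.adjoin M (Set.range (algebraMap K₂ N)) ≤ integralClosure M N := Algebra.adjoin_le (by
      rintro _ ⟨t, rfl⟩
      exact ((Algebra.IsIntegral.isIntegral (R := K) t).map (IsScalarTower.toAlgHom K K₂ N)).tower_top)
    exact hle (htop ▸ Algebra.mem_top)
  have halgN : ∀ x : N, IsAlgebraic B x := fun x =>
    (IsFractionRing.isAlgebraic_iff B L N).mpr (isIntegral_trans (R := L) x (hintN x)).isAlgebraic
  haveI : IsScalarTower B W₀ N := IsScalarTower.of_algebraMap_eq fun _ => rfl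
  have halgW₀ : ∀ x : W₀, IsAlgebraic B x := fun x =>
    (isAlgebraic_algebraMap_iff (fun s t h => Subtype.ext (Subtype.ext h))).mp (halgN (algebraMap W₀ N x))
  have hgenW₀ : ∀ x : W₀, ∃ s t, EtRamBC.genHom A B U W₀ t ≠ 0 ∧ x * EtRamBC.genHom A B U W₀ t = EtRamBC.genHom A B U W₀ s := by
    let θ : U ⊗[A] B →+* N := (algebraMap W₀ N).comp (EtRamBC.genHom A B U W₀).toRingHom
    have hθt : ∀ u b, θ (u ⊗ₜ[A] b) = algebraMap K₂ N (u : K₂) * algebraMap B N b := fun u b => by
      show algebraMap W₀ N (EtRamBC.genHom A B U W₀ (u ⊗ₜ[A] b)) = _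
      rw [EtRamBC.genHom, Algebra.TensorProduct.productMap_apply_tmul, map_mul]
      rfl
    let S : Subfield N :=
      { carrier := {x | ∃ s t, θ t ≠ 0 ∧ x * θ t = θ s}
        mul_mem' := fun {x x'} ⟨s, t, ht, h⟩ ⟨s', t', ht', h'⟩ => ⟨s * s', t * t', by rw [map_mul]; exact mul_ne_zero ht ht', by
          rw [map_mul, map_mul, ← h, ← h']; ring⟩
        one_mem' := ⟨1, 1, by rw [map_one]; exact one_ne_zero, by rw [one_mul]⟩
        add_mem' := fun {x x'} ⟨s, t, ht, h⟩ ⟨s', t', ht', h'⟩ => ⟨s * t' + s' * t, t * t', by rw [map_mul]; exact mul_ne_zero ht ht', by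
          rw [map_add, map_mul, map_mul, map_mul, ← h, ← h']; ring⟩
        zero_mem' := ⟨0, 1, by rw [map_one]; exact one_ne_zero, by rw [zero_mul, map_zero]⟩
        neg_mem' := fun {x} ⟨s, t, ht, h⟩ => ⟨-s, t, ht, by rw [map_neg, neg_mul, h]⟩
        inv_mem' := fun x ⟨s, t, ht, h⟩ => by
          rcases eq_or_ne x 0 with rfl | hx
          · exact ⟨0, 1, by rw [map_one]; exact one_ne_zero, by rw [inv_zero, zero_mul, map_zero]⟩
          · exact ⟨t, s, h ▸ mul_ne_zero hx ht, by rw [← h, inv_mul_cancel_left₀ hx]⟩ }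
    have hS : F₀ ≤ S := Subfield.closure_le.mpr (by
      rintro _ (⟨l, rfl⟩ | ⟨x, rfl⟩)
      · obtain ⟨b, d, hd, rfl⟩ := IsFractionRing.div_surjective (A := B) l
        have hd0 : algebraMap B N d ≠ 0 := (map_ne_zero_iff _ hinjBN).mpr (nonZeroDivisors.ne_zero hd)
        refine ⟨(1 : U) ⊗ₜ[A] b, (1 : U) ⊗ₜ[A] d, ?_, ?_⟩
        · rw [hθt, OneMemClass.coe_one, map_one, one_mul]; exact hd0
        · rw [hθt, hθt, OneMemClass.coe_one, map_one, one_mul, one_mul, map_div₀, ← IsScalarTower.algebraMap_apply,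
            ← IsScalarTower.algebraMap_apply, div_mul_cancel₀ _ hd0]
      · rcases U.mem_or_inv_mem x with h | h
        · exact ⟨(⟨x, h⟩ : U) ⊗ₜ[A] (1 : B), 1, by rw [map_one]; exact one_ne_zero, by rw [hθt, map_one, map_one]⟩
        · rcases eq_or_ne x 0 with rfl | hx
          · exact ⟨0, 1, by rw [map_one]; exact one_ne_zero, by rw [map_zero, zero_mul, map_zero]⟩
          · refine ⟨1, (⟨x⁻¹, h⟩ : U) ⊗ₜ[A] (1 : B), ?_, ?_⟩
            · rw [hθt, map_one, mul_one]; exact (_root_.map_ne_zero _).mpr (inv_ne_zero hx)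
            · rw [hθt, map_one, map_one, mul_one, ← map_mul, mul_inv_cancel₀ hx, map_one])
    intro x
    obtain ⟨s, t, ht, h⟩ := hS ((x : F₀)).2
    exact ⟨s, t, fun h0 => ht (by show algebraMap W₀ N (EtRamBC.genHom A B U W₀ t) = 0; rw [h0, map_zero]),
      Subtype.ext (Subtype.ext h)⟩
  obtain ⟨hmax₀, hsurj₀⟩ := composite (W := W₀) hresU π hmB hϖirr y hy.maximalIdeal_eq e
    ⟨↑ε⁻¹, by rw [he, mul_comm _ (↑ε⁻¹ : U), ← mul_assoc, ε.inv_mul, one_mul]⟩ hπUnu
    (fun h => hy.ne_zero (Subtype.ext ((algebraMap K₂ N).injective ((congrArg (fun t : W₀ => ((t : F₀) : N)) h).trans (map_zero _).symm))))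
    hBW₀inj halgW₀ hgenW₀
  -- the setting
  set πN := algebraMap B N ϖ with hπN
  have hπN0 : πN ≠ 0 := (map_ne_zero_iff _ hinjBN).mpr hϖirr.ne_zero
  have hπNW : πN ∈ W := hBW ϖ
  set w := i₁ r with hwdef
  have hw0 : w ≠ 0 := (_root_.map_ne_zero i₁).mpr hr0
  have hiA : ∀ x, i₁ (algebraMap A K₁ x) = algebraMap B N (algebraMap A B x) := fun x => by
    rw [hAN]; show algebraMap K₂ N _ = _
    exact congrArg (algebraMap K₂ N) (RingHom.congr_fun hg₂ x)
  have hweq : w ^ Q + πN ^ m * w = πN := by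
    have h := congrArg i₁ hr
    rw [hfA, eval₂_add, eval₂_sub, eval₂_mul, eval₂_pow, eval₂_X, eval₂_C, eval₂_C, map_pow, map_add, map_sub, map_mul, map_pow,
      map_pow, hiA, ← hwdef, map_zero] at h
    linear_combination h
  have memW : ∀ x : N, IsIntegral W x → x ∈ W := fun x hx => by
    obtain ⟨t, rfl⟩ := (IsIntegrallyClosed.isIntegral_iff (R := W) (K := N)).mp hx
    exact t.2
  have hwW : w ∈ W := memW w <| by
    refine (IsIntegral.tower_top (R := B) ⟨fA.map (algebraMap A B), hmonA.map _, ?_⟩)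
    rw [eval₂_map]
    have h := congrArg i₁ hr
    rw [hom_eval₂, map_zero] at h
    rw [← h]
    exact eval₂_congr (RingHom.ext fun x => (hiA x).symm) rfl rfl
  set R₀ : Subring N := W.toSubring ⊓ F₀.toSubring with hR₀
  have hwR : w ∈ R₀ := ⟨hwW, hKF _⟩
  have hπR : πN ∈ R₀ := ⟨hπNW, hBF _⟩
  set δ := 1 - πN ^ (2 * n) * w with hδ
  have hwQ : w ^ Q = πN * δ := by rw [hδ]; rw [hm] at hweq; linear_combination hweq
  have hδR : δ ∈ R₀ := R₀.sub_mem R₀.one_mem (R₀.mul_mem (R₀.pow_mem hπR _) hwR)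
  have hπnu : ¬ IsUnit (⟨πN, hπNW⟩ : W) := fun h => hϖirr.not_isUnit ((isUnit_map_iff (algebraMap B W) ϖ).mp h)
  have hδu : IsUnit (⟨δ, hδR.1⟩ : W) := by
    refine (IsLocalRing.isUnit_or_isUnit_of_add_one (b := (⟨πN, hπNW⟩ : W) ^ (2 * n) * ⟨w, hwW⟩)
      (Subtype.ext (by show δ + πN ^ (2 * n) * w = 1; rw [hδ]; ring))).resolve_right ?_
    exact fun h => hπnu ((isUnit_pow_iff (by omega)).mp (isUnit_of_mul_isUnit_left h))
  have hδ0 : δ ≠ 0 := fun h => hδu.ne_zero (Subtype.ext h)
  have hδi : δ⁻¹ ∈ R₀ := by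
    obtain ⟨t, ht⟩ := hδu
    have : δ⁻¹ = (((t⁻¹ : Wˣ) : W) : N) := inv_eq_of_mul_eq_one_right (by
      have h := congrArg Subtype.val t.mul_inv
      rw [MulMemClass.coe_mul, ht] at h
      exact h)
    exact ⟨this ▸ ((t⁻¹ : Wˣ) : W).2, F₀.inv_mem hδR.2⟩
  have hwnu : ¬ IsUnit (⟨w, hwW⟩ : W) := fun h => by
    have h1 : (⟨w, hwW⟩ : W) ^ Q = (⟨πN, hπNW⟩ : W) * ⟨δ, hδR.1⟩ := Subtype.ext hwQ
    exact hπnu (isUnit_of_mul_isUnit_left (h1 ▸ h.pow Q))
  let S : Setting p ϖ n Q :=
    { N := N, ι := algebraMap B N, w := w, R := R₀, F := F₀, hRF := fun x hx => hx.2, hι := fun b => ⟨hBW b, hBF b⟩,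
      hw := hwR, hw0 := hw0
      hπ := ⟨πN ^ (n + 1) * w * δ⁻¹ ^ n, R₀.mul_mem (R₀.mul_mem (R₀.pow_mem hπR _) hwR) (R₀.pow_mem hδi _), by
        rw [← hπN, mul_comm n Q, pow_mul w Q n, hwQ, mul_pow,
          show πN ^ n * δ ^ n * (πN ^ (n + 1) * w * δ⁻¹ ^ n) = πN ^ (n + (n + 1)) * w * (δ * δ⁻¹) ^ n by ring,
          mul_inv_cancel₀ hδ0, one_pow, mul_one, show n + (n + 1) = 2 * n + 1 by ring, hδ]
        ring⟩ }
  set ξN := algebraMap L N ξ with hξN
  have hξ' : ξN = algebraMap B N a / πN ^ n := by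
    rw [hξN, hξa, map_div₀, map_pow, ← IsScalarTower.algebraMap_apply, ← IsScalarTower.algebraMap_apply]
  obtain ⟨G, hG⟩ := sub_one_dvd_pow_sub_one (⟨δ, hδR⟩ : R₀) n
  have hξ₀ : Eqv p R₀ F₀ ξN (algebraMap B N a * w⁻¹ ^ (n * Q)) := by
    refine Eqv.of_sub_mem ?_
    have hG' : δ ^ n - 1 = (δ - 1) * (G : N) := congrArg Subtype.val hG
    have key : ξN - algebraMap B N a * w⁻¹ ^ (n * Q) = -(algebraMap B N a * πN ^ n * w * δ⁻¹ ^ n * (G : N)) := by
      rw [hξ', inv_pow, mul_comm n Q, pow_mul w Q n, hwQ, mul_pow, mul_inv, inv_pow]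
      have hGe : (δ ^ n - 1) = -(πN ^ (2 * n) * w * (G : N)) := by rw [hG', hδ]; ring
      have hdn := mul_inv_cancel₀ (pow_ne_zero n hδ0)
      have hpn := mul_inv_cancel₀ (pow_ne_zero n hπN0)
      rw [two_mul, pow_add] at hGe
      simp only [div_eq_mul_inv, inv_pow] at *
      linear_combination (algebraMap B N a * (πN ^ n)⁻¹ * (δ ^ n)⁻¹) * hGe
        - (algebraMap B N a * (πN ^ n)⁻¹) * hdn - (algebraMap B N a * (δ ^ n)⁻¹ * πN ^ n * w * (G : N)) * hpn
    rw [key]
    exact R₀.neg_mem (R₀.mul_mem (R₀.mul_mem (R₀.mul_mem (R₀.mul_mem ⟨hBW a, hBF a⟩ (R₀.pow_mem hπR _)) hwR) (R₀.pow_mem hδi _)) G.2)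
  set ηN : N := η.sum fun i α => algebraMap B N (algebraMap A B α) * w⁻¹ ^ i with hηN
  set w2 := algebraMap K₂ N w₂ with hw2
  have hηw : ηN = w2 ^ p - w2 := by
    have h := congrArg (algebraMap K₂ N) hgroot
    rw [map_sub, map_pow] at h
    refine Eq.trans ?_ h.symm
    rw [hηN, show algebraMap K₂ N (algebraMap K₁ K₂ η₁) = i₁ η₁ from rfl, hη₁, Finsupp.sum, Finsupp.sum, map_sum]
    refine Finset.sum_congr rfl fun i _ => ?_
    rw [map_mul, map_pow, map_inv₀, hiA]
  set zN := algebraMap M N z with hzN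
  have hzeq : zN ^ p - zN = ξN := by
    rw [hzN, ← map_pow, ← map_sub, ← hξ, hξN, ← IsScalarTower.algebraMap_apply]
  have htopL : ∀ x : M, x ∈ Algebra.adjoin L {z} := by
    intro x
    haveI := IntermediateField.isSimpleOrder_of_finrank_prime L M (hdeg ▸ hp)
    rw [← IntermediateField.adjoin_simple_toSubalgebra_of_isAlgebraic (Algebra.IsAlgebraic.isAlgebraic z)]
    rcases eq_bot_or_eq_top (IntermediateField.adjoin L {z}) with h | h
    · exact absurd (IntermediateField.mem_bot.mp (h ▸ IntermediateField.mem_adjoin_simple_self L z)) hzL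
    · rw [h]; exact IntermediateField.mem_top
  have hgen_of : ∀ ζ : N, zN ∈ Algebra.adjoin F₀ {ζ} → ∀ x : N, ∃ q : F₀[X], aeval ζ q = x := by
    intro ζ hζ x
    let T : Subalgebra M N :=
      { (Algebra.adjoin F₀ {ζ}).toSubsemiring with
        algebraMap_mem' := fun t => by
          show algebraMap M N t ∈ Algebra.adjoin F₀ {ζ}
          have ht := htopL t
          induction ht using Algebra.adjoin_induction with
          | mem u hu => rw [Set.mem_singleton_iff.mp hu]; exact hζ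
          | algebraMap l =>
            rw [← IsScalarTower.algebraMap_apply]
            exact Subalgebra.algebraMap_mem _ (⟨_, hLF l⟩ : F₀)
          | add u v _ _ hu hv => rw [map_add]; exact add_mem hu hv
          | mul u v _ _ hu hv => rw [map_mul]; exact mul_mem hu hv }
    have hle : Algebra.adjoin M (Set.range (algebraMap K₂ N)) ≤ T := Algebra.adjoin_le (by
      rintro _ ⟨t, rfl⟩
      exact Subalgebra.algebraMap_mem (Algebra.adjoin F₀ {ζ}) (⟨_, hKF t⟩ : F₀))
    have h1 : x ∈ Algebra.adjoin F₀ {ζ} := hle (htop ▸ Algebra.mem_top)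
    rw [Algebra.adjoin_singleton_eq_range_aeval] at h1
    exact h1
  let yW₀ : W₀ := algebraMap U W₀ y
  have hyW₀ : maximalIdeal W₀ = Ideal.span {yW₀} := hmax₀
  have hyW₀0 : yW₀ ≠ 0 := fun h => hy.ne_zero (Subtype.ext ((algebraMap K₂ N).injective ((congrArg (fun t : W₀ => ((t : F₀) : N)) h).trans (map_zero _).symm)))
  have hdvd : algebraMap B W ϖ ∣ inc yW₀ ^ e := by
    refine ⟨inc (algebraMap U W₀ ↑ε⁻¹), Subtype.ext ?_⟩
    show algebraMap K₂ N (y : K₂) ^ e = algebraMap B N ϖ * algebraMap K₂ N ((↑ε⁻¹ : U) : K₂)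
    have hπe : algebraMap B N ϖ = algebraMap K₂ N (((ε : U) * y ^ e : U) : K₂) := by
      rw [← he, hϖ, hAN]; rfl
    rw [hπe, ← map_mul, ← map_pow]
    congr 1
    show ((y ^ e : U) : K₂) = (((ε : U) * y ^ e * ↑ε⁻¹ : U) : K₂)
    rw [mul_right_comm, Units.mul_inv, one_mul]
  suffices hmain : maximalIdeal W = Ideal.span {inc yW₀} from
    weaklyUnramified_comap W (algebraMap K₂ N) y hy.maximalIdeal_eq
      (hmain.trans (congrArg (fun t => Ideal.span {t}) (Subtype.ext rfl)))
  have halgW : ∀ t : W, IsAlgebraic B t := fun t =>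
    (isAlgebraic_algebraMap_iff (fun s s' h => Subtype.ext h)).mp (halgN (algebraMap W N t))
  have hBWinj : Function.Injective (algebraMap B W) := fun x x' h => hinjBN (congrArg Subtype.val h)
  have hζeq : ∀ c : N, (zN - w2 - c) ^ p - (zN - w2 - c) = ξN - ηN - (c ^ p - c) := fun c => by
    rw [sub_pow_char, sub_pow_char, hηw, ← hzeq]; ring
  rcases hcases with hnone | ⟨N₀, b, hN₀, hpN₀, hbres, htopS⟩
  · obtain ⟨c, hcF, hρ⟩ := hξ₀.trans (hnone S)
    set ρ := ξN - ηN - (c ^ p - c) with hρdef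
    let ρ₀ : W₀ := ⟨⟨ρ, hρ.2⟩, hρ.1⟩
    let g₀ : W₀[X] := X ^ p + (-X - Polynomial.C ρ₀)
    have hg₀ : g₀.Monic := monic_X_pow_add (lt_of_le_of_lt (degree_sub_le _ _) (max_lt
      (by rw [degree_neg, degree_X]; exact_mod_cast hp.one_lt) (lt_of_le_of_lt degree_C_le (by exact_mod_cast hp.pos))))
    haveI : CharP (ResidueField W₀) p := ((ResidueField.map (algebraMap B W₀)).charP_iff (RingHom.injective _) p).mp inferInstance
    refine monogenic W hBWinj halgW yW₀ hyW₀ hyW₀0 e ϖ hϖirr hdvd g₀ hg₀ ?_ (zN - w2 - c) ?_ (hgen_of _ ?_)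
    · refine Separable.squarefree ?_
      refine ⟨0, -1, ?_⟩
      simp [g₀, derivative_X_pow]
    · simp only [g₀, eval₂_add, eval₂_sub, eval₂_neg, eval₂_pow, eval₂_X, eval₂_C]
      show (zN - w2 - c) ^ p + (-(zN - w2 - c) - ρ) = 0
      linear_combination hζeq c
    · have h1 : (zN - w2 - c) + w2 + c ∈ Algebra.adjoin F₀ {zN - w2 - c} :=
        add_mem (add_mem (Algebra.self_mem_adjoin_singleton _ _) (Subalgebra.algebraMap_mem _ (⟨w2, hKF _⟩ : F₀)))
          (Subalgebra.algebraMap_mem _ (⟨c, hcF⟩ : F₀))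
      rwa [show zN - w2 - c + w2 + c = zN by ring] at h1
  · obtain ⟨r', hr', heqv⟩ := htopS S
    obtain ⟨c, hcF, hρ⟩ := hξ₀.trans heqv
    obtain ⟨d₀, rfl⟩ := hpN₀
    have hd₀ : d₀ ≠ 0 := fun h => by rw [h, mul_zero] at hN₀; omega
    set s := w ^ d₀ with hs
    set ρ := ξN - (ηN + w⁻¹ ^ (p * d₀) * (algebraMap B N b + w * r')) - (c ^ p - c) with hρdef
    set γ := algebraMap B N b + w * r' + w ^ (p * d₀) * ρ with hγ
    have hγR : γ ∈ R₀ := R₀.add_mem (R₀.add_mem ⟨hBW b, hBF b⟩ (R₀.mul_mem hwR hr')) (R₀.mul_mem (R₀.pow_mem hwR _) hρ)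
    have hβR : s ^ (p - 1) ∈ R₀ := R₀.pow_mem (R₀.pow_mem hwR _) _
    let γ₀ : W₀ := ⟨⟨γ, hγR.2⟩, hγR.1⟩
    let β₀ : W₀ := ⟨⟨s ^ (p - 1), hβR.2⟩, hβR.1⟩
    let g₀ : W₀[X] := X ^ p + (-(Polynomial.C β₀ * X) - Polynomial.C γ₀)
    have hg₀ : g₀.Monic := monic_X_pow_add (lt_of_le_of_lt (degree_sub_le _ _) (max_lt
      (by rw [degree_neg]; exact lt_of_le_of_lt (degree_C_mul_X_le _) (by exact_mod_cast hp.one_lt))
      (lt_of_le_of_lt degree_C_le (by exact_mod_cast hp.pos))))
    let w₀ : W₀ := ⟨⟨w, hwR.2⟩, hwR.1⟩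
    have hw₀ : residue W₀ w₀ = 0 := (residue_eq_zero_iff _).mpr fun h => hwnu (h.map inc)
    have hβ0 : residue W₀ β₀ = 0 := by
      rw [show β₀ = (w₀ ^ d₀) ^ (p - 1) from Subtype.ext (Subtype.ext rfl), map_pow, map_pow, hw₀, zero_pow hd₀,
        zero_pow (Nat.sub_ne_zero_of_lt hp.one_lt)]
    have hγb : residue W₀ γ₀ = residue W₀ (algebraMap B W₀ b) := by
      rw [show γ₀ = algebraMap B W₀ b + w₀ * ⟨⟨r', hr'.2⟩, hr'.1⟩ + w₀ ^ (p * d₀) * ⟨⟨ρ, hρ.2⟩, hρ.1⟩ from Subtype.ext (Subtype.ext rfl),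
        map_add, map_add, map_mul, map_mul, map_pow, hw₀, zero_mul, zero_pow (by positivity), zero_mul, add_zero, add_zero]
    refine monogenic W hBWinj halgW yW₀ hyW₀ hyW₀0 e ϖ hϖirr hdvd g₀ hg₀ ?_ ((zN - w2 - c) * s) ?_ (hgen_of _ ?_)
    · refine Irreducible.squarefree ?_
      have hmap : g₀.map (residue W₀) = X ^ p - Polynomial.C (residue W₀ γ₀) := by
        simp only [g₀, Polynomial.map_add, Polynomial.map_sub, Polynomial.map_neg, Polynomial.map_mul, Polynomial.map_pow, map_X,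
          map_C, hβ0, C_0, zero_mul, neg_zero]
        ring
      rw [hmap]
      refine X_pow_sub_C_irreducible_of_prime hp fun t ht => ?_
      obtain ⟨b', rfl⟩ := hsurj₀ t
      refine hbres (residue B b') ((ResidueField.map (algebraMap B W₀)).injective ?_)
      rw [map_pow]
      exact (ht.trans hγb).symm
    · simp only [g₀, eval₂_add, eval₂_sub, eval₂_neg, eval₂_mul, eval₂_pow, eval₂_X, eval₂_C]
      show ((zN - w2 - c) * s) ^ p + (-(s ^ (p - 1) * ((zN - w2 - c) * s)) - γ) = 0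
      have h1 : s ^ (p - 1) * s = s ^ p := by rw [← pow_succ, Nat.sub_add_cancel hp.pos]
      have h2 : w⁻¹ ^ (p * d₀) * s ^ p = 1 := by
        rw [hs, ← pow_mul, mul_comm d₀, ← mul_pow, inv_mul_cancel₀ hw0, one_pow]
      have h3 : s ^ p = w ^ (p * d₀) := by rw [hs, ← pow_mul, mul_comm]
      rw [mul_pow, hγ, hρdef, ← h3]
      linear_combination s ^ p * hζeq c - (zN - w2 - c) * h1 + (algebraMap B N b + w * r') * h2
    · have hs0 : s ≠ 0 := pow_ne_zero _ hw0
      have hsF : s⁻¹ ∈ F₀ := F₀.inv_mem (F₀.pow_mem hwR.2 _)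
      have h1 : (zN - w2 - c) * s * s⁻¹ + w2 + c ∈ Algebra.adjoin F₀ {(zN - w2 - c) * s} :=
        add_mem (add_mem (mul_mem (Algebra.self_mem_adjoin_singleton _ _) (Subalgebra.algebraMap_mem _ (⟨s⁻¹, hsF⟩ : F₀)))
          (Subalgebra.algebraMap_mem _ (⟨w2, hKF _⟩ : F₀))) (Subalgebra.algebraMap_mem _ (⟨c, hcF⟩ : F₀))
      rwa [mul_inv_cancel_right₀ hs0, show zN - w2 - c + w2 + c = zN by ring] at h1

end Groth.Agent.S7155
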