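import Groth.Statements.S7156
import Mathlib
import Groth.Agent.EtRamEis.Basic
import Groth.Agent.EtRamInsep.Local

set_option autoImplicit false
universe u
open EtAlg

namespace Groth.Agent.S7156

set_option maxHeartbeats 1600000
open Polynomial IsLocalRing TensorProduct

lemma charP_of_deg {L M : Type u} [Field L] [Field M] [Algebra L M] [IsPurelyInseparable L M] {p : ℕ} (hp : p.Prime)
    (hdeg : Module.finrank L M = p) : CharP L p := by
  haveI : FiniteDimensional L M := FiniteDimensional.of_finrank_pos (by rw [hdeg]; exact hp.pos)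
  obtain ⟨n, hn⟩ := IsPurelyInseparable.finrank_eq_pow L M (ringExpChar L)
  rw [hdeg] at hn
  rcases ExpChar.exists L with ⟨q, hq⟩
  rw [ringExpChar.eq L q] at hn
  cases hq with
  | zero => rw [one_pow] at hn; exact absurd hn hp.ne_one
  | prime hq' =>
    rename_i hc
    have : q = p := by
      have h1 : q ∣ p := hn ▸ dvd_pow_self q (fun h => hp.ne_one (by rw [hn, h, pow_zero]))
      exact (Nat.prime_dvd_prime_iff_eq hq' hp).mp h1
    exact this ▸ hc

lemma pow_mem_range {L M : Type u} [Field L] [Field M] [Algebra L M] [IsPurelyInseparable L M] {p : ℕ} (hp : p.Prime)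
    [CharP L p] (hdeg : Module.finrank L M = p) (x : M) : ∃ l : L, algebraMap L M l = x ^ p := by
  haveI : ExpChar L p := ExpChar.prime hp
  haveI : FiniteDimensional L M := FiniteDimensional.of_finrank_pos (by rw [hdeg]; exact hp.pos)
  obtain ⟨n, y, hny⟩ := IsPurelyInseparable.minpoly_eq_X_pow_sub_C L p x
  have hle := minpoly.natDegree_le (A := L) x
  rw [hny, natDegree_X_pow_sub_C, hdeg] at hle
  have hn1 : n ≤ 1 := by
    by_contra h
    have : p ^ 2 ≤ p ^ n := Nat.pow_le_pow_right hp.pos (by omega)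
    have h2 : p * 1 < p * p := Nat.mul_lt_mul_of_pos_left hp.one_lt hp.pos
    rw [pow_two] at this; omega
  have h := minpoly.aeval L x
  rw [hny, map_sub, map_pow, aeval_X, aeval_C, sub_eq_zero] at h
  rcases Nat.le_one_iff_eq_zero_or_eq_one.mp hn1 with rfl | rfl
  · exact ⟨y ^ p, by rw [map_pow, ← h, pow_zero, pow_one]⟩
  · exact ⟨y, by rw [← h, pow_one]⟩

lemma isField_tensor {K E : Type u} [Field K] [Field E] [Algebra K E] (f : K[X]) [Fact (Irreducible f)]
    (hE : Irreducible (f.map (algebraMap K E))) : IsField (E ⊗[K] AdjoinRoot f) := by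
  haveI : Fact (Irreducible (f.map (algebraMap K E))) := ⟨hE⟩
  have hf0 : f ≠ 0 := (Fact.out : Irreducible f).ne_zero
  let ρ : AdjoinRoot f →ₐ[K] AdjoinRoot (f.map (algebraMap K E)) :=
    AdjoinRoot.liftAlgHom f (Algebra.ofId K _) (AdjoinRoot.root _) (by
      have h := AdjoinRoot.eval₂_root (f.map (algebraMap K E))
      rw [eval₂_map] at h; exact h)
  let φ : E ⊗[K] AdjoinRoot f →ₐ[E] AdjoinRoot (f.map (algebraMap K E)) :=
    Algebra.TensorProduct.lift (Algebra.ofId E _) ρ (fun _ _ => Commute.all _ _)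
  have hsurj : Function.Surjective φ := by
    intro x
    obtain ⟨q, rfl⟩ := AdjoinRoot.mk_surjective x
    refine ⟨aeval ((1 : E) ⊗ₜ[K] AdjoinRoot.root f) q, ?_⟩
    rw [← aeval_algHom_apply]
    simp [φ, ρ, ← AdjoinRoot.aeval_eq]
  haveI : Module.Finite E (AdjoinRoot (f.map (algebraMap K E))) := (AdjoinRoot.powerBasis hE.ne_zero).finite
  haveI : Module.Finite K (AdjoinRoot f) := (AdjoinRoot.powerBasis hf0).finite
  have hd : Module.finrank E (E ⊗[K] AdjoinRoot f) = Module.finrank E (AdjoinRoot (f.map (algebraMap K E))) := by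
    rw [Module.finrank_baseChange, PowerBasis.finrank (AdjoinRoot.powerBasis hf0), PowerBasis.finrank (AdjoinRoot.powerBasis hE.ne_zero),
      AdjoinRoot.powerBasis_dim, AdjoinRoot.powerBasis_dim, natDegree_map]
  have hinj : Function.Injective φ := (LinearMap.injective_iff_surjective_of_finrank_eq_finrank hd (f := φ.toLinearMap)).mpr hsurj
  exact MulEquiv.isField (Field.toIsField _) (AlgEquiv.ofBijective φ ⟨hinj, hsurj⟩).toMulEquiv

lemma lift_injective {A K M : Type u} [CommRing A] [IsDomain A] [Field K] [Algebra A K] [IsFractionRing A K] [Field M]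
    [Algebra K M] [Algebra A M] [IsScalarTower A K M] {f : A[X]} (hmon : f.Monic) (hirr : Irreducible (f.map (algebraMap A K)))
    {y : M} (hy : f.eval₂ (algebraMap A M) y = 0) : Function.Injective (AdjoinRoot.lift (algebraMap A M) y hy) := by
  rw [injective_iff_map_eq_zero]
  intro q hq
  obtain ⟨q, rfl⟩ := AdjoinRoot.mk_surjective q
  rw [AdjoinRoot.lift_mk, ← aeval_def, ← aeval_map_algebraMap K] at hq
  have hmin : minpoly K y = f.map (algebraMap A K) :=
    (minpoly.eq_of_irreducible_of_monic hirr (by rw [aeval_map_algebraMap, aeval_def, hy]) (hmon.map _)).symm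
  have h1 := minpoly.dvd K y hq
  rw [hmin, Polynomial.map_dvd_map _ (IsFractionRing.injective A K) hmon] at h1
  exact AdjoinRoot.mk_eq_zero.mpr h1

/-- The polynomial `X^p + π^n X - π` over any DVR with uniformizer `π`. -/
lemma eisenstein {A : Type u} [CommRing A] [IsDomain A] [IsDiscreteValuationRing A] {π : A} (hπ : Irreducible π) (p n : ℕ)
    (hp : 1 < p) (hn : n ≠ 0) :
    (X ^ p + (C (π ^ n) * X - C π) : A[X]).Monic ∧ (X ^ p + (C (π ^ n) * X - C π) : A[X]).natDegree = p ∧
      (X ^ p + (C (π ^ n) * X - C π) : A[X]).IsEisensteinAt (maximalIdeal A) := by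
  have hπm : maximalIdeal A = Ideal.span {π} := (IsDiscreteValuationRing.irreducible_iff_uniformizer π).mp hπ
  have hdeg : (C (π ^ n) * X - C π).degree < (p : WithBot ℕ) := by
    refine lt_of_le_of_lt (degree_sub_le _ _) (max_lt ?_ ?_)
    · exact lt_of_le_of_lt (degree_C_mul_X_le _) (by exact_mod_cast hp)
    · exact lt_of_le_of_lt degree_C_le (by exact_mod_cast (by omega : 0 < p))
  have hmon := monic_X_pow_add hdeg
  have hnat : (X ^ p + (C (π ^ n) * X - C π) : A[X]).natDegree = p := natDegree_eq_of_degree_eq_some (by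
    rw [degree_add_eq_left_of_degree_lt (by rwa [degree_X_pow]), degree_X_pow])
  refine ⟨hmon, hnat, hmon.isEisensteinAt_of_mem_of_notMem (Ideal.IsMaximal.ne_top inferInstance) (fun {i} hi => ?_) ?_⟩
  · rw [hnat] at hi
    rw [coeff_add, coeff_X_pow, if_neg (by omega), zero_add, coeff_sub, coeff_C_mul_X, coeff_C]
    refine sub_mem ?_ ?_
    · split_ifs
      · rw [hπm]; exact Ideal.mem_span_singleton.mpr (dvd_pow_self π hn)
      · exact Ideal.zero_mem _
    · split_ifs
      · rw [hπm]; exact Ideal.mem_span_singleton_self π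
      · exact Ideal.zero_mem _
  · rw [coeff_add, coeff_X_pow, if_neg (by omega), zero_add, coeff_sub, coeff_C_mul_X, coeff_C, if_neg (by norm_num), if_pos rfl,
      zero_sub, neg_mem_iff, hπm, Ideal.span_singleton_pow, Ideal.mem_span_singleton]
    rintro ⟨c, hc⟩
    refine hπ.not_isUnit (IsUnit.of_mul_eq_one c (mul_left_cancel₀ hπ.ne_zero ?_))
    rw [← mul_assoc, ← pow_two, ← hc, mul_one]

lemma weaklyUnramified_comap {M K₁ : Type u} [Field M] [Field K₁] (W : ValuationSubring M) (f : K₁ →+* M) (r : K₁)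
    (hr : f r ∈ W) (hW : maximalIdeal W = Ideal.span {(⟨f r, hr⟩ : W)}) :
    letI : Algebra (W.comap f) W := (EtRam.inclOfComap W f).toAlgebra
    EtRam.IsWeaklyUnramified (W.comap f) W := by
  letI : Algebra (W.comap f) W := (EtRam.inclOfComap W f).toAlgebra
  refine le_antisymm (Ideal.map_le_iff_le_comap.mpr fun x hx h => hx ((isUnit_map_iff (EtRam.inclOfComap W f) x).mp h)) ?_
  rw [hW, Ideal.span_singleton_le_iff_mem]
  refine Ideal.mem_map_of_mem (algebraMap (W.comap f) W) (x := (⟨r, hr⟩ : W.comap f)) ?_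
  intro h
  have h1 : IsUnit (⟨f r, hr⟩ : W) := h.map (EtRam.inclOfComap W f)
  have h2 : (⟨f r, hr⟩ : W) ∈ maximalIdeal W := by rw [hW]; exact Ideal.mem_span_singleton_self _
  exact h2 h1


open TensorProduct in
/-- Let A → B → C be injective local homomorphisms of discrete valuation rings whose fields of fractions
are K ⊆ L ⊆ M, and let π be a uniformizer of A; suppose B is a Nagata ring, A → B is weakly
unramified, and M/L is purely inseparable of prime degree p. Then one of the following holds: the
extension A → C is itself weakly unramified; or else C = B[π^(1/p)]; or else there is a separable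
degree-p extension K₁/K, totally ramified with respect to A, for which L ⊗_K K₁ and M ⊗_K K₁ are
fields and the integral closures A₁ → B₁ → C₁ are weakly unramified extensions, i.e. K₁ is a weak
solution for A ⊆ B and for A ⊆ C. -/
theorem result (p : ℕ) (hp : p.Prime) (A B C K L M : Type u)
    [CommRing A] [IsDomain A] [IsDiscreteValuationRing A] [CommRing B] [IsDomain B] [IsDiscreteValuationRing B]
    [CommRing C] [IsDomain C] [IsDiscreteValuationRing C]
    [Algebra A B] [Algebra B C] [Algebra A C] [IsScalarTower A B C]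
    (hAB : Function.Injective (algebraMap A B)) (hBC : Function.Injective (algebraMap B C))
    [IsLocalHom (algebraMap A B)] [IsLocalHom (algebraMap B C)]
    [Field K] [Field L] [Field M] [Algebra A K] [IsFractionRing A K] [Algebra B L] [IsFractionRing B L]
    [Algebra C M] [IsFractionRing C M] [Algebra K L] [Algebra L M] [Algebra K M] [IsScalarTower K L M]
    [Algebra A L] [IsScalarTower A K L] [IsScalarTower A B L] [Algebra B M] [IsScalarTower B L M] [IsScalarTower B C M]
    [Algebra A M] [IsScalarTower A K M] [IsScalarTower A C M]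
    (π : A) (hπ : IsLocalRing.maximalIdeal A = Ideal.span {π}) (hB : CAlg.IsNagata B)
    (hw : EtRam.IsWeaklyUnramified A B) [IsPurelyInseparable L M] (hdeg : Module.finrank L M = p) :
    EtRam.IsWeaklyUnramified A C ∨
      (∃ c : C, c ^ p = algebraMap A C π ∧ Algebra.adjoin B {c} = ⊤) ∨
      ∃ (K₁ : Type u) (_ : Field K₁) (_ : Algebra K K₁),
        Module.finrank K K₁ = p ∧ Algebra.IsSeparable K K₁ ∧
          EtRam.IsTotallyRamified A ((algebraMap K K₁).comp (algebraMap A K)) ∧
          IsField (L ⊗[K] K₁) ∧ IsField (M ⊗[K] K₁) ∧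
          EtRam.IsWeakSolution B K L K₁ ∧ EtRam.IsWeakSolution C K M K₁ := by
  classical
  haveI := Fact.mk hp
  haveI : CharP L p := charP_of_deg hp hdeg
  haveI : CharP B p := ((algebraMap B L).charP_iff (IsFractionRing.injective B L) p).mpr inferInstance
  haveI : FiniteDimensional L M := FiniteDimensional.of_finrank_pos (by rw [hdeg]; exact hp.pos)
  have hπA : Irreducible π := (IsDiscreteValuationRing.irreducible_iff_uniformizer π).mpr hπ
  set ϖ := algebraMap A B π with hϖ
  have hmB : maximalIdeal B = Ideal.span {ϖ} := by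
    rw [← hw, hπ, Ideal.map_span, Set.image_singleton]
  have hϖirr : Irreducible ϖ := (IsDiscreteValuationRing.irreducible_iff_uniformizer ϖ).mpr hmB
  have hinjBM : Function.Injective (algebraMap B M) := by
    rw [IsScalarTower.algebraMap_eq B L M]; exact (algebraMap L M).injective.comp (IsFractionRing.injective B L)
  have hCM := IsFractionRing.injective C M
  haveI : IsScalarTower A B M := IsScalarTower.of_algebraMap_eq fun a => by
    rw [IsScalarTower.algebraMap_apply A C M, IsScalarTower.algebraMap_apply A B C, ← IsScalarTower.algebraMap_apply B C M]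
  -- p-th powers of C lie in B
  have hpowB : ∀ c : C, ∃ b : B, algebraMap B C b = c ^ p := by
    intro c
    obtain ⟨l, hl⟩ := pow_mem_range hp hdeg (algebraMap C M c)
    rcases ValuationRing.isInteger_or_isInteger B l with ⟨b, hb⟩ | ⟨b, hb⟩
    · refine ⟨b, hCM ?_⟩
      rw [← IsScalarTower.algebraMap_apply, IsScalarTower.algebraMap_apply B L M, hb, hl, map_pow]
    · rcases eq_or_ne l 0 with rfl | hl0
      · refine ⟨0, hCM ?_⟩
        rw [map_zero] at hl
        rw [map_zero, map_zero, map_pow, hl]
      have h1 : algebraMap B C b * c ^ p = 1 := hCM (by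
        rw [map_mul, map_one, map_pow, ← IsScalarTower.algebraMap_apply, IsScalarTower.algebraMap_apply B L M, hb, ← hl, ← map_mul,
          inv_mul_cancel₀ hl0, map_one])
      obtain ⟨b', hb'⟩ := (isUnit_map_iff (algebraMap B C) b).mp (IsUnit.of_mul_eq_one _ h1)
      refine ⟨↑b'⁻¹, ?_⟩
      calc algebraMap B C ↑b'⁻¹ = algebraMap B C ↑b'⁻¹ * (algebraMap B C b * c ^ p) := by rw [h1, mul_one]
        _ = c ^ p := by rw [← mul_assoc, ← map_mul, ← hb', Units.inv_mul, map_one, one_mul]
  obtain ⟨t, ht⟩ := IsDiscreteValuationRing.exists_irreducible C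
  have hπC0 : algebraMap B C ϖ ≠ 0 := (map_ne_zero_iff _ hBC).mpr hϖirr.ne_zero
  obtain ⟨e, v, hv⟩ := IsDiscreteValuationRing.eq_unit_mul_pow_irreducible hπC0 ht
  obtain ⟨b, hb⟩ := hpowB t
  have hb0 : b ≠ 0 := fun h => pow_ne_zero p ht.ne_zero (by rw [← hb, h, map_zero])
  obtain ⟨j, ε, hε⟩ := IsDiscreteValuationRing.eq_unit_mul_pow_irreducible hb0 hϖirr
  have hej : p = e * j := by
    rw [hε, map_mul, map_pow, hv, mul_pow, ← pow_mul, ← mul_assoc] at hb
    refine IsDiscreteValuationRing.unit_mul_pow_congr_pow ht ht 1 (Units.map (algebraMap B C : B →* C) ε * v ^ j) _ _ ?_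
    rw [Units.val_one, one_mul, Units.val_mul, Units.val_pow_eq_pow_val]
    exact hb.symm
  rcases (Nat.dvd_prime hp).mp ⟨j, hej⟩ with rfl | hep
  · left
    show (maximalIdeal A).map (algebraMap A C) = maximalIdeal C
    rw [hπ, Ideal.map_span, Set.image_singleton, IsScalarTower.algebraMap_apply A B C, ← hϖ, hv, pow_one,
      ht.maximalIdeal_eq]
    exact Ideal.span_singleton_mul_left_unit v.isUnit t
  right
  subst hep
  have hj : j = 1 := Nat.eq_of_mul_eq_mul_left hp.pos (by rw [← hej, mul_one])
  rw [hj, pow_one] at hε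
  set s := algebraMap C M t with hsdef
  have hs : s ^ e = algebraMap B M (↑ε * ϖ) := by
    rw [← hε, IsScalarTower.algebraMap_apply B C M, hb, map_pow]
  have notL : ∀ (c : C), IsUnit c = False → ¬ (algebraMap B C ϖ ∣ c) → algebraMap C M c ∉ Set.range (algebraMap L M) := by
    rintro c hc hcd ⟨l, hl⟩
    obtain ⟨b', hb'⟩ := hpowB c
    have hint : IsIntegral B l := IsIntegral.of_pow hp.pos (by
      rw [show l ^ e = algebraMap B L b' from (algebraMap L M).injective (by
        rw [map_pow, hl, ← IsScalarTower.algebraMap_apply, IsScalarTower.algebraMap_apply B C M, hb', map_pow])]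
      exact isIntegral_algebraMap)
    obtain ⟨l', rfl⟩ := IsIntegrallyClosed.isIntegral_iff.mp hint
    rw [← IsScalarTower.algebraMap_apply, IsScalarTower.algebraMap_apply B C M] at hl
    obtain rfl := hCM hl
    by_cases hu : IsUnit l'
    · exact hc ▸ hu.map (algebraMap B C)
    · exact hcd (map_dvd _ (Ideal.mem_span_singleton.mp (hmB ▸ hu)))
  have hndvd : ∀ c : C, Associated c t → ¬ algebraMap B C ϖ ∣ c := fun c hc h => by
    have h1 : t ^ e ∣ t ^ 1 := by
      rw [pow_one]; exact ((Dvd.intro_left _ hv.symm).trans h).trans hc.dvd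
    have h2 := (pow_dvd_pow_iff ht.ne_zero ht.not_isUnit).mp h1
    have := hp.one_lt
    omega
  by_cases hpi : ∃ c : M, c ^ e = algebraMap B M ϖ
  · left
    obtain ⟨c, hc⟩ := hpi
    obtain ⟨c, rfl⟩ := (IsIntegrallyClosed.isIntegral_iff (R := C) (K := M)).mp
      (IsIntegral.of_pow hp.pos (by rw [hc, IsScalarTower.algebraMap_apply B C M]; exact isIntegral_algebraMap) : IsIntegral C c)
    have hcC : c ^ e = algebraMap B C ϖ := hCM (by rw [map_pow, hc]; exact IsScalarTower.algebraMap_apply B C M ϖ)
    refine ⟨c, hcC.trans (IsScalarTower.algebraMap_apply A B C π).symm, ?_⟩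
    have hcnu : ¬ IsUnit c := fun h => hϖirr.not_isUnit ((isUnit_map_iff (algebraMap B C) ϖ).mp (hcC ▸ h.pow e))
    have hcd : ¬ algebraMap B C ϖ ∣ c := fun ⟨r, hr⟩ => hcnu (by
      have h1 : c * (c ^ (e - 1) * r) = c * 1 := by
        rw [← mul_assoc, ← pow_succ', Nat.sub_add_cancel hp.pos, hcC, mul_one, ← hr]
      have h2 := mul_left_cancel₀ (fun h => hπC0 (by rw [← hcC, h, zero_pow hp.ne_zero])) h1
      exact (isUnit_pow_iff (by have := hp.one_lt; omega)).mp (isUnit_of_mul_isUnit_left (h2 ▸ isUnit_one)))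
    have hcL := notL c (by simp [hcnu]) hcd
    obtain ⟨hmon, hnat, heis⟩ : (X ^ e - Polynomial.C ϖ : B[X]).Monic ∧ (X ^ e - Polynomial.C ϖ : B[X]).natDegree = e ∧ (X ^ e - Polynomial.C ϖ : B[X]).IsEisensteinAt (maximalIdeal B) := by
      refine ⟨monic_X_pow_sub_C _ hp.ne_zero, natDegree_X_pow_sub_C, ?_⟩
      refine (monic_X_pow_sub_C ϖ hp.ne_zero).isEisensteinAt_of_mem_of_notMem (Ideal.IsMaximal.ne_top inferInstance) (fun {i} hi => ?_) ?_
      · rw [natDegree_X_pow_sub_C] at hi
        rw [coeff_sub, coeff_X_pow, if_neg (by omega), coeff_C, zero_sub, neg_mem_iff]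
        split_ifs
        · rw [hmB]; exact Ideal.mem_span_singleton_self _
        · exact Ideal.zero_mem _
      · rw [coeff_sub, coeff_X_pow, if_neg hp.pos.ne, coeff_C, if_pos rfl, zero_sub, neg_mem_iff, hmB, Ideal.span_singleton_pow,
          Ideal.mem_span_singleton]
        rintro ⟨r, hr⟩
        refine hϖirr.not_isUnit (IsUnit.of_mul_eq_one r (mul_left_cancel₀ hϖirr.ne_zero ?_))
        rw [← mul_assoc, ← pow_two, ← hr, mul_one]
    set cM := algebraMap C M c with hcM
    have hy : (X ^ e - Polynomial.C ϖ : B[X]).eval₂ (algebraMap B M) cM = 0 := by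
      rw [eval₂_sub, eval₂_pow, eval₂_X, eval₂_C, hc, sub_self]
    have htop : Algebra.adjoin L {cM} = ⊤ := by
      haveI := IntermediateField.isSimpleOrder_of_finrank_prime L M (hdeg ▸ hp)
      rcases eq_bot_or_eq_top (IntermediateField.adjoin L {cM}) with h | h
      · exact absurd (IntermediateField.mem_bot.mp (h ▸ IntermediateField.mem_adjoin_simple_self L cM)) hcL
      · rw [← IntermediateField.adjoin_simple_toSubalgebra_of_isAlgebraic (Algebra.IsAlgebraic.isAlgebraic cM), h, IntermediateField.top_toSubalgebra]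
    let V : ValuationSubring M := (ValuationRing.valuation C M).valuationSubring
    have hVmem : ∀ x : M, x ∈ V ↔ ∃ r : C, algebraMap C M r = x := fun x => ValuationRing.mem_integer_iff C M x
    have hdom : EtRam.Dominates B (algebraMap B M) V := by
      refine ⟨fun r => (hVmem _).mpr ⟨algebraMap B C r, (IsScalarTower.algebraMap_apply B C M r).symm⟩, fun r hr => ?_⟩
      have hmem : algebraMap B M r ∈ V := (hVmem _).mpr ⟨algebraMap B C r, (IsScalarTower.algebraMap_apply B C M r).symm⟩
      refine (V.valuation_lt_one_iff ⟨_, hmem⟩).mp fun hu => ?_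
      obtain ⟨⟨q, hq⟩, hqe⟩ := isUnit_iff_exists_inv.mp hu
      obtain ⟨q', rfl⟩ := (hVmem _).mp hq
      have h1 : algebraMap B C r * q' = 1 := hCM (by
        rw [map_mul, map_one, ← IsScalarTower.algebraMap_apply]; exact congrArg Subtype.val hqe)
      exact hr ((isUnit_map_iff (algebraMap B C) r).mp (IsUnit.of_mul_eq_one _ h1))
    refine eq_top_iff.mpr fun w _ => ?_
    obtain ⟨a, ha⟩ := (EtRamEis.mem_iff_exists hmon heis (by rw [hnat]; exact hp.pos) hy
      (EtRamEis.exists_div_of_gen hy fun z => by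
        have : z ∈ Algebra.adjoin L {cM} := htop ▸ Algebra.mem_top
        rw [Algebra.adjoin_singleton_eq_range_aeval] at this
        exact this) V hdom (algebraMap C M w)).mp ((hVmem _).mpr ⟨w, rfl⟩)
    obtain ⟨q, rfl⟩ := AdjoinRoot.mk_surjective a
    rw [AdjoinRoot.lift_mk, ← aeval_def, hcM, aeval_algebraMap_apply] at ha
    exact hCM ha ▸ aeval_mem_adjoin_singleton B c
  right
  push Not at hpi
  have hsL : s ∉ Set.range (algebraMap L M) := notL t (by simp [ht.not_isUnit]) (hndvd t (Associated.refl t))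
  obtain ⟨m, P, ω, hω, hωp⟩ := EtRamInsep.exists_approx hB hdeg ϖ hϖirr (↑ε) s hs hsL hpi
  obtain ⟨hmonA, hnatA, heisA⟩ := eisenstein hπA e (m + 2) hp.one_lt (by omega)
  obtain ⟨hmonB, hnatB, heisB⟩ := eisenstein hϖirr e (m + 2) hp.one_lt (by omega)
  set fA : A[X] := X ^ e + (Polynomial.C (π ^ (m + 2)) * X - Polynomial.C π) with hfA
  set fB : B[X] := X ^ e + (Polynomial.C (ϖ ^ (m + 2)) * X - Polynomial.C ϖ) with hfB
  have hAB' : fA.map (algebraMap A B) = fB := by simp [hfA, hfB, ← hϖ]
  have hirrK : Irreducible (fA.map (algebraMap A K)) :=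
    hmonA.irreducible_iff_irreducible_map_fraction_map.mp (EtRamEis.irreducible hmonA heisA (by rw [hnatA]; exact hp.pos))
  have hirrL : Irreducible (fB.map (algebraMap B L)) :=
    hmonB.irreducible_iff_irreducible_map_fraction_map.mp (EtRamEis.irreducible hmonB heisB (by rw [hnatB]; exact hp.pos))
  haveI := Fact.mk hirrK
  set fK := fA.map (algebraMap A K) with hfK
  have hKL : fK.map (algebraMap K L) = fB.map (algebraMap B L) := by
    rw [hfK, Polynomial.map_map, ← IsScalarTower.algebraMap_eq, IsScalarTower.algebraMap_eq A B L, ← Polynomial.map_map, hAB']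
  haveI : CharP K e := (Algebra.charP_iff K L e).mpr inferInstance
  have hsepK : fK.Separable := by
    rw [separable_iff_derivative_ne_zero hirrK, hfK, derivative_map]
    intro h0
    have h1 := congrArg (fun P => P.coeff 0) h0
    simp only [coeff_map, coeff_derivative, coeff_zero, Nat.cast_zero, zero_add, mul_one] at h1
    rw [map_eq_zero_iff _ (IsFractionRing.injective A K), hfA, coeff_add, coeff_X_pow, if_neg hp.one_lt.ne, zero_add, coeff_sub,
      coeff_C_mul_X, coeff_C, if_pos rfl, if_neg one_ne_zero, sub_zero] at h1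
    exact pow_ne_zero _ hπA.ne_zero h1
  let K₁ := AdjoinRoot fK
  let r : K₁ := AdjoinRoot.root fK
  have hr : fA.eval₂ ((algebraMap K K₁).comp (algebraMap A K)) r = 0 := by
    have h := AdjoinRoot.eval₂_root fK
    rw [hfK, eval₂_map] at h
    exact h
  have hgenK : ∀ x : K₁, ∃ q : K[X], aeval r q = x := fun x => by
    obtain ⟨q, rfl⟩ := AdjoinRoot.mk_surjective x
    exact ⟨q, AdjoinRoot.aeval_eq q⟩
  have hgenExt : ∀ (E N : Type u) [Field E] [Field N] [Algebra K E] [Algebra K N] [Algebra E N] [Algebra K₁ N]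
      [IsScalarTower K E N] [IsScalarTower K K₁ N],
      Algebra.adjoin E (Set.range (algebraMap K₁ N)) = ⊤ → ∀ x : N, ∃ q : E[X], aeval (algebraMap K₁ N r) q = x := by
    intro E N _ _ _ _ _ _ _ _ htop x
    have hsub : Algebra.adjoin E (Set.range (algebraMap K₁ N)) ≤ Algebra.adjoin E {algebraMap K₁ N r} := by
      refine Algebra.adjoin_le ?_
      rintro _ ⟨y, rfl⟩
      obtain ⟨q, rfl⟩ := hgenK y
      rw [← aeval_algebraMap_apply, ← aeval_map_algebraMap E]
      exact aeval_mem_adjoin_singleton E _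
    have h1 : x ∈ Algebra.adjoin E {algebraMap K₁ N r} := hsub (htop ▸ Algebra.mem_top)
    rw [Algebra.adjoin_singleton_eq_range_aeval] at h1
    exact h1
  have hyK₁ : ∀ (N : Type u) [Field N] [Algebra K N] [Algebra K₁ N] [IsScalarTower K K₁ N],
      fK.eval₂ (algebraMap K N) (algebraMap K₁ N r) = 0 := by
    intro N _ _ _ _
    rw [← aeval_def, aeval_algebraMap_apply, AdjoinRoot.aeval_eq, AdjoinRoot.mk_self, map_zero]
  refine ⟨K₁, inferInstance, inferInstance, ?_, ?_, ?_, isField_tensor fK (hKL ▸ hirrL), isField_tensor fK ?_, ?_, ?_⟩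
  · rw [PowerBasis.finrank (AdjoinRoot.powerBasis hirrK.ne_zero), AdjoinRoot.powerBasis_dim, hfK, hmonA.natDegree_map, hnatA]
  · have hys : IsSeparable K r := hsepK.of_dvd (minpoly.dvd K r (by rw [AdjoinRoot.aeval_eq, AdjoinRoot.mk_self]))
    haveI : Algebra.IsSeparable K (IntermediateField.adjoin K {r}) := (IntermediateField.isSeparable_adjoin_simple_iff_isSeparable K K₁).mpr hys
    exact AlgEquiv.Algebra.isSeparable ((IntermediateField.equivOfEq (IntermediateField.adjoin_root_eq_top _)).trans IntermediateField.topEquiv)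
  · rw [← IsScalarTower.algebraMap_eq A K K₁] at hr ⊢
    exact EtRamEis.isTotallyRamified hmonA heisA (by rw [hnatA]; exact hp.pos) hr (lift_injective (K := K) hmonA hirrK hr)
      (EtRamEis.exists_div_of_gen (K := K) hr hgenK)
  · -- irreducibility over M
    let Ω := AlgebraicClosure M
    obtain ⟨y, hy⟩ := IsAlgClosed.exists_aeval_eq_zero Ω (fB.map (algebraMap B L)) (ne_of_gt (degree_pos_of_irreducible hirrL))
    have hmin : minpoly L y = fB.map (algebraMap B L) := (minpoly.eq_of_irreducible_of_monic hirrL hy (hmonB.map _)).symm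
    have hsepL : IsSeparable L y := by
      rw [IsSeparable, hmin, ← hKL]; exact hsepK.map
    have h1 := minpoly.map_eq_of_isSeparable_of_isPurelyInseparable (F := L) (E := M) y hsepL
    rw [hmin, ← hKL, Polynomial.map_map, ← IsScalarTower.algebraMap_eq] at h1
    rw [h1]
    exact minpoly.irreducible (Algebra.IsIntegral.isIntegral y)
  · intro N _ _ _ _ _ _ htop W hW
    letI : Algebra B N := ((algebraMap L N).comp (algebraMap B L)).toAlgebra
    haveI : IsScalarTower B L N := IsScalarTower.of_algebraMap_eq fun _ => rfl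
    set y := algebraMap K₁ N r with hydef
    have hy : fB.eval₂ (algebraMap B N) y = 0 := by
      rw [IsScalarTower.algebraMap_eq B L N, ← eval₂_map, ← hKL, eval₂_map, ← IsScalarTower.algebraMap_eq, hyK₁ N]
    have hn0 : 0 < fB.natDegree := by rw [hnatB]; exact hp.pos
    have hiff := EtRamEis.mem_iff_exists hmonB heisB hn0 hy (EtRamEis.exists_div_of_gen hy (hgenExt L N htop)) W hW
    have hyW : y ∈ W := (W.valuation_le_one_iff _).mp (EtRamEis.valuation_root_lt_one hmonB heisB hn0 hy W hW).le
    obtain ⟨_, _, hmax, -, -⟩ := EtRamEis.exists_isDVR hmonB heisB hn0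
    refine weaklyUnramified_comap W (algebraMap K₁ N) r hyW (le_antisymm (fun w hw => ?_) ((Ideal.span_singleton_le_iff_mem _).mpr ?_))
    · obtain ⟨a, ha⟩ := (hiff (w : N)).mp w.2
      by_cases hu : IsUnit a
      · exfalso
        obtain ⟨a', rfl⟩ := hu
        exact hw (IsUnit.of_mul_eq_one (⟨_, EtRamEis.lift_mem hmonB heisB hn0 hy W hW ↑a'⁻¹⟩ : W) (Subtype.ext (by
          show (w : N) * _ = 1
          rw [← ha, ← map_mul, Units.mul_inv, map_one])))
      · obtain ⟨d, rfl⟩ := Ideal.mem_span_singleton.mp (hmax ▸ (mem_maximalIdeal a).mpr hu)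
        refine Ideal.mem_span_singleton.mpr ⟨⟨_, EtRamEis.lift_mem hmonB heisB hn0 hy W hW d⟩, Subtype.ext ?_⟩
        show (w : N) = y * _
        rw [← ha, map_mul, AdjoinRoot.lift_root]
    · intro h
      exact absurd ((W.valuation_eq_one_iff _).mp h) (EtRamEis.valuation_root_lt_one hmonB heisB hn0 hy W hW).ne
  · intro N _ _ _ _ _ _ htop W hW
    letI : Algebra B N := ((algebraMap M N).comp (algebraMap B M)).toAlgebra
    letI : Algebra L N := ((algebraMap M N).comp (algebraMap L M)).toAlgebra
    haveI : IsScalarTower L M N := IsScalarTower.of_algebraMap_eq fun _ => rfl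
    haveI : IsScalarTower B M N := IsScalarTower.of_algebraMap_eq fun _ => rfl
    haveI : IsScalarTower B L N := IsScalarTower.of_algebraMap_eq fun x => by
      show algebraMap M N (algebraMap B M x) = algebraMap M N (algebraMap L M (algebraMap B L x))
      exact congrArg (algebraMap M N) (IsScalarTower.algebraMap_apply B L M x)
    haveI : IsScalarTower K L N := IsScalarTower.of_algebraMap_eq fun x => by
      show _ = algebraMap M N (algebraMap L M (algebraMap K L x))
      rw [← IsScalarTower.algebraMap_apply K L M, ← IsScalarTower.algebraMap_apply K M N]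
    have hinjN : Function.Injective (algebraMap B N) := (algebraMap M N).injective.comp hinjBM
    set y := algebraMap K₁ N r with hydef
    have hy : fB.eval₂ (algebraMap B N) y = 0 := by
      rw [IsScalarTower.algebraMap_eq B L N, ← eval₂_map, ← hKL, eval₂_map, ← IsScalarTower.algebraMap_eq, hyK₁ N]
    have hdomB : EtRam.Dominates B (algebraMap B N) W := by
      have hBN : ∀ b, algebraMap B N b = algebraMap M N (algebraMap C M (algebraMap B C b)) := fun b =>
        congrArg (algebraMap M N) (IsScalarTower.algebraMap_apply B C M b)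
      refine ⟨fun b => by rw [hBN]; exact hW.1 _, fun b hb => ?_⟩
      rw [hBN]
      exact hW.2 _ (fun h => hb ((isUnit_map_iff (algebraMap B C) b).mp h))
    have hz : y ^ e + algebraMap B N ϖ ^ (m + 2) * y = algebraMap B N ϖ := by
      rw [hfB, eval₂_add, eval₂_sub, eval₂_mul, eval₂_pow, eval₂_X, eval₂_C, eval₂_C, map_pow] at hy
      linear_combination hy
    have hgenM := hgenExt M N htop
    have hint : IsIntegral M y := ⟨fK.map (algebraMap K M), (hmonA.map _).map _, by
      rw [eval₂_map, ← IsScalarTower.algebraMap_eq, hyK₁ N]⟩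
    have halg : ∀ x : N, IsAlgebraic B x := fun x => by
      obtain ⟨q, rfl⟩ := hgenM x
      have h1 : IsIntegral M (aeval y q) := IsIntegral.of_mem_of_fg _ hint.fg_adjoin_singleton _ (aeval_mem_adjoin_singleton M y)
      exact (IsFractionRing.isAlgebraic_iff B L N).mpr (isIntegral_trans _ h1).isAlgebraic
    set s' := algebraMap M N s with hs'
    let S : Subring N :=
      { carrier := {x | ∃ b : B, b ≠ 0 ∧ algebraMap B N b * x ∈ Algebra.adjoin B {y, s'}}
        mul_mem' := fun {x x'} ⟨b, hb, hx⟩ ⟨b', hb', hx'⟩ => ⟨b * b', mul_ne_zero hb hb', by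
          rw [map_mul, show algebraMap B N b * algebraMap B N b' * (x * x') = (algebraMap B N b * x) * (algebraMap B N b' * x') by ring]
          exact mul_mem hx hx'⟩
        one_mem' := ⟨1, one_ne_zero, by rw [map_one, one_mul]; exact one_mem _⟩
        add_mem' := fun {x x'} ⟨b, hb, hx⟩ ⟨b', hb', hx'⟩ => ⟨b * b', mul_ne_zero hb hb', by
          rw [map_mul, show algebraMap B N b * algebraMap B N b' * (x + x') = algebraMap B N b' * (algebraMap B N b * x) + algebraMap B N b * (algebraMap B N b' * x') by ring]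
          exact add_mem (mul_mem (Subalgebra.algebraMap_mem _ _) hx) (mul_mem (Subalgebra.algebraMap_mem _ _) hx')⟩
        zero_mem' := ⟨1, one_ne_zero, by rw [mul_zero]; exact zero_mem _⟩
        neg_mem' := fun {x} ⟨b, hb, hx⟩ => ⟨b, hb, by rw [mul_neg]; exact neg_mem hx⟩ }
    have hLS : ∀ l : L, algebraMap L N l ∈ S := fun l => by
      obtain ⟨a, d, hd, rfl⟩ := IsFractionRing.div_surjective (A := B) l
      refine ⟨d, nonZeroDivisors.ne_zero hd, ?_⟩
      rw [map_div₀, ← IsScalarTower.algebraMap_apply, ← IsScalarTower.algebraMap_apply, mul_div_cancel₀ _ (fun h => nonZeroDivisors.ne_zero hd ((map_eq_zero_iff _ hinjN).mp h))]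
      exact Subalgebra.algebraMap_mem _ _
    have hS : ∀ x : N, x ∈ S := fun x => by
      obtain ⟨q, rfl⟩ := hgenM x
      rw [aeval_eq_sum_range]
      refine sum_mem fun i _ => ?_
      rw [Algebra.smul_def]
      refine mul_mem ?_ (pow_mem (show _ ∈ S from ⟨1, one_ne_zero, by rw [map_one, one_mul]; exact Algebra.subset_adjoin (Or.inl rfl)⟩) i)
      haveI := IntermediateField.isSimpleOrder_of_finrank_prime L M (hdeg ▸ hp)
      have h1 : q.coeff i ∈ Algebra.adjoin L {s} := by
        rw [← IntermediateField.adjoin_simple_toSubalgebra_of_isAlgebraic (Algebra.IsAlgebraic.isAlgebraic s)]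
        rcases eq_bot_or_eq_top (IntermediateField.adjoin L {s}) with h | h
        · exact absurd (IntermediateField.mem_bot.mp (h ▸ IntermediateField.mem_adjoin_simple_self L s)) hsL
        · rw [h]; exact IntermediateField.mem_top
      rw [Algebra.adjoin_singleton_eq_range_aeval] at h1
      obtain ⟨q', hq'⟩ := h1
      rw [← hq', AlgHom.toRingHom_eq_coe, RingHom.coe_coe, ← aeval_algebraMap_apply, aeval_eq_sum_range]
      refine sum_mem fun k _ => ?_
      rw [Algebra.smul_def]
      exact mul_mem (hLS _) (pow_mem (show _ ∈ S from ⟨1, one_ne_zero, by rw [map_one, one_mul]; exact Algebra.subset_adjoin (Or.inr rfl)⟩) k)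
    obtain ⟨hyW, hmW⟩ := EtRamInsep.exists_mem_uniformizer hinjN ϖ hϖirr (↑ε) ω m P hω hωp y s' hz
      (by rw [hs', ← map_pow, hs]; rfl) halg hS W hdomB
    exact weaklyUnramified_comap W (algebraMap K₁ N) r hyW hmW

end Groth.Agent.S7156
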