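import Groth.Statements.S7157
import Mathlib
import Groth.Agent.EtRamEis.Basic

set_option autoImplicit false
universe u
open EtAlg

namespace Groth.Agent.S7157

open Polynomial


/-- Let A be a discrete valuation ring, π a uniformizer, K its field of fractions, and suppose the
residue field of A has characteristic p > 0. For every n > 1 and every power q of p there is a
separable degree-q extension L/K that is totally ramified with respect to A and whose ring of
integers B (the integral closure of A in L) contains elements π_B, b, b' with π_B^q = π + πⁿ·b and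
π_B^q = π + π_B^(nq)·b' (π_B is then a uniformizer of B and the ramification index is q). -/
theorem result (p : ℕ) (hp : p.Prime) (A K : Type u)
    [CommRing A] [IsDomain A] [IsDiscreteValuationRing A] [Field K] [Algebra A K] [IsFractionRing A K]
    [CharP (IsLocalRing.ResidueField A) p] (π : A) (hπ : IsLocalRing.maximalIdeal A = Ideal.span {π})
    (n : ℕ) (hn : 1 < n) (k : ℕ) :
    ∃ (L : Type u) (_ : Field L) (_ : Algebra K L) (_ : Algebra A L) (_ : IsScalarTower A K L),
      Module.finrank K L = p ^ k ∧ Algebra.IsSeparable K L ∧ EtRam.IsTotallyRamified A (algebraMap A L) ∧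
      ∃ πB b b' : L, πB ∈ integralClosure A L ∧ b ∈ integralClosure A L ∧ b' ∈ integralClosure A L ∧
        πB ^ (p ^ k) = algebraMap A L π + algebraMap A L π ^ n * b ∧
        πB ^ (p ^ k) = algebraMap A L π + πB ^ (n * p ^ k) * b' := by
  classical
  set q := p ^ k with hqdef
  have hq0 : 0 < q := pow_pos hp.pos k
  have hπ' : Irreducible π := (IsDiscreteValuationRing.irreducible_iff_uniformizer π).mpr hπ
  have hπm : π ∈ IsLocalRing.maximalIdeal A := by rw [hπ]; exact Ideal.mem_span_singleton_self π
  obtain ⟨d, hd1, hd2⟩ : ∃ d : A, (q = 1 → d = 0) ∧ (q ≠ 1 → d = π ^ n) := by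
    by_cases h : q = 1
    · exact ⟨0, fun _ => rfl, fun h' => absurd h h'⟩
    · exact ⟨π ^ n, fun h' => absurd h' h, fun _ => rfl⟩
  have hdm : d ∈ IsLocalRing.maximalIdeal A := by
    by_cases h : q = 1
    · rw [hd1 h]; exact Ideal.zero_mem _
    · rw [hd2 h]; exact Ideal.pow_mem_of_mem _ hπm n (by omega)
  set f : A[X] := X ^ q + (C d * X - C π) with hf
  have hdegr : (C d * X - C π).degree < (q : WithBot ℕ) := by
    rcases Nat.lt_or_ge 1 q with h | h
    · refine lt_of_le_of_lt (degree_sub_le _ _) (max_lt ?_ ?_)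
      · exact lt_of_le_of_lt (degree_C_mul_X_le _) (by exact_mod_cast h)
      · exact lt_of_le_of_lt degree_C_le (by exact_mod_cast hq0)
    · rw [hd1 (by omega), C_0, zero_mul, zero_sub, degree_neg]
      exact lt_of_le_of_lt degree_C_le (by exact_mod_cast hq0)
  have hmon : f.Monic := monic_X_pow_add hdegr
  have hdeg : f.natDegree = q := natDegree_eq_of_degree_eq_some (by
    rw [hf, degree_add_eq_left_of_degree_lt (by rwa [degree_X_pow]), degree_X_pow])
  have hcoef : ∀ i, i ≠ q → f.coeff i = (if i = 1 then d else 0) - (if i = 0 then π else 0) := by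
    intro i hi
    rw [hf, coeff_add, coeff_X_pow, if_neg hi, zero_add, coeff_sub, coeff_C_mul_X, coeff_C]
  have heis : f.IsEisensteinAt (IsLocalRing.maximalIdeal A) := by
    refine hmon.isEisensteinAt_of_mem_of_notMem (Ideal.IsMaximal.ne_top inferInstance) (fun {i} hi => ?_) ?_
    · rw [hcoef i (by omega)]
      refine sub_mem ?_ ?_
      · split_ifs
        · exact hdm
        · exact Ideal.zero_mem _
      · split_ifs
        · exact hπm
        · exact Ideal.zero_mem _
    · rw [hcoef 0 (by omega), if_neg (by norm_num), if_pos rfl, zero_sub, neg_mem_iff, hπ, Ideal.span_singleton_pow,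
        Ideal.mem_span_singleton]
      rintro ⟨c, hc⟩
      refine hπ'.not_isUnit (IsUnit.of_mul_eq_one c (mul_left_cancel₀ hπ'.ne_zero ?_))
      rw [← mul_assoc, ← pow_two, ← hc, mul_one]
  have hn0 : 0 < f.natDegree := by omega
  have hirr := EtRamEis.irreducible hmon heis hn0
  haveI hirrK : Fact (Irreducible (f.map (algebraMap A K))) :=
    ⟨(hmon.irreducible_iff_irreducible_map_fraction_map).mp hirr⟩
  have hsep : (f.map (algebraMap A K)).Separable := by
    rw [separable_iff_derivative_ne_zero hirrK.out, derivative_map]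
    intro h0
    have h1 := congrArg (fun P => P.coeff 0) h0
    simp only [coeff_map, coeff_derivative, coeff_zero, Nat.cast_zero, zero_add, mul_one] at h1
    rw [map_eq_zero_iff _ (IsFractionRing.injective A K)] at h1
    by_cases h : q = 1
    · have : f.coeff 1 = 1 := h ▸ hdeg ▸ hmon.coeff_natDegree
      exact one_ne_zero (this ▸ h1)
    · rw [hcoef 1 (fun h' => h h'.symm), if_pos rfl, if_neg (by norm_num), sub_zero, hd2 h] at h1
      exact pow_ne_zero n hπ'.ne_zero h1
  let L := AdjoinRoot (f.map (algebraMap A K))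
  let y : L := AdjoinRoot.root _
  have hy : f.eval₂ (algebraMap A L) y = 0 := by
    have h := AdjoinRoot.eval₂_root (f.map (algebraMap A K))
    rw [eval₂_map] at h
    rwa [show algebraMap A L = (AdjoinRoot.of (f.map (algebraMap A K))).comp (algebraMap A K) from IsScalarTower.algebraMap_eq A K L]
  haveI := EtRamEis.isDomain hmon heis hn0
  obtain ⟨_, hdvr, hmax, hassoc, hinjA⟩ := EtRamEis.exists_isDVR hmon heis hn0
  let ψ := AdjoinRoot.lift (algebraMap A L) y hy
  have hgen : ∀ z : L, ∃ P : K[X], aeval y P = z := fun z => by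
    obtain ⟨P, rfl⟩ := AdjoinRoot.mk_surjective z
    exact ⟨P, AdjoinRoot.aeval_eq P⟩
  have hψinj : Function.Injective ψ := by
    rw [injective_iff_map_eq_zero]
    intro z hz
    obtain ⟨P, rfl⟩ := AdjoinRoot.mk_surjective z
    have h1 : AdjoinRoot.mk (f.map (algebraMap A K)) (P.map (algebraMap A K)) = 0 := by
      rw [← AdjoinRoot.aeval_eq, aeval_map_algebraMap, aeval_def]
      simpa [ψ, AdjoinRoot.lift_mk] using hz
    rw [AdjoinRoot.mk_eq_zero, Polynomial.map_dvd_map _ (IsFractionRing.injective A K) hmon] at h1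
    exact AdjoinRoot.mk_eq_zero.mpr h1
  haveI : Module.Finite A (AdjoinRoot f) := hmon.finite_adjoinRoot
  have hint : ∀ z, ψ z ∈ integralClosure A L := fun z =>
    (IsIntegral.of_finite A z).map (⟨ψ, fun a => AdjoinRoot.lift_of hy⟩ : AdjoinRoot f →ₐ[A] L)
  have hxq : AdjoinRoot.root f ^ q = algebraMap A _ π - algebraMap A _ d * AdjoinRoot.root f := by
    have h := AdjoinRoot.mk_self (f := f)
    conv_lhs at h => arg 2; rw [hf]
    rw [map_add, map_sub, map_mul, map_pow, AdjoinRoot.mk_X, AdjoinRoot.mk_C, AdjoinRoot.mk_C] at h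
    rw [AdjoinRoot.algebraMap_eq]
    linear_combination h
  obtain ⟨e, he⟩ : ∃ e : A, d = π ^ n * e := by
    by_cases h : q = 1
    · exact ⟨0, by rw [hd1 h, mul_zero]⟩
    · exact ⟨1, by rw [hd2 h, mul_one]⟩
  obtain ⟨u, hu⟩ := (hassoc π hπ).symm
  refine ⟨L, inferInstance, inferInstance, inferInstance, inferInstance, ?_, ?_, ?_, ψ (AdjoinRoot.root f),
    ψ (-(algebraMap A _ e * AdjoinRoot.root f)), ψ (-(((↑u : AdjoinRoot f)) ^ n * algebraMap A _ e * AdjoinRoot.root f)),
    hint _, hint _, hint _, ?_, ?_⟩
  · rw [PowerBasis.finrank (AdjoinRoot.powerBasis hirrK.out.ne_zero), AdjoinRoot.powerBasis_dim, hmon.natDegree_map, hdeg]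
  · have hys : IsSeparable K y := by
      rw [IsSeparable]
      refine hsep.of_dvd (minpoly.dvd K y ?_)
      rw [AdjoinRoot.aeval_eq, AdjoinRoot.mk_self]
    haveI : Algebra.IsSeparable K (IntermediateField.adjoin K {y}) := (IntermediateField.isSeparable_adjoin_simple_iff_isSeparable K L).mpr hys
    exact AlgEquiv.Algebra.isSeparable ((IntermediateField.equivOfEq (IntermediateField.adjoin_root_eq_top _)).trans IntermediateField.topEquiv)
  · exact EtRamEis.isTotallyRamified hmon heis hn0 hy hψinj (EtRamEis.exists_div_of_gen hy hgen)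
  · rw [← map_pow ψ, hxq, show algebraMap A L π = ψ (algebraMap A _ π) from (AdjoinRoot.lift_of hy).symm, ← map_pow ψ, ← map_mul ψ, ← map_add ψ]
    refine congrArg ψ ?_
    rw [he, map_mul, map_pow]
    ring
  · rw [← map_pow ψ, ← map_pow ψ, show algebraMap A L π = ψ (algebraMap A _ π) from (AdjoinRoot.lift_of hy).symm, ← map_mul ψ, ← map_add ψ]
    refine congrArg ψ ?_
    rw [hdeg] at hu
    conv_lhs => rw [hxq]
    rw [he, map_mul, map_pow, mul_comm n q, pow_mul]
    rw [← hu]
    ring

end Groth.Agent.S7157
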