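import Groth.Statements.S7158
import Mathlib
import Groth.Agent.EtRamASChar.Basic
import Groth.Agent.EtRamAS.Tot

set_option autoImplicit false
universe u
open EtAlg

namespace Groth.Agent.S7158

set_option maxHeartbeats 2000000
open Polynomial IsLocalRing Groth.Agent

lemma range_eq {A K : Type u} [CommRing A] [IsDomain A] [IsDiscreteValuationRing A] [Field K] [Algebra A K] [IsFractionRing A K]
    (V : ValuationSubring K) (hV : EtRam.Dominates A (algebraMap A K) V) (x : K) (hx : x ∈ V) : ∃ a, algebraMap A K a = x := by
  obtain ⟨s, t, ht, rfl⟩ := IsFractionRing.div_surjective A x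
  rcases ValuationRing.dvd_total t s with ⟨q, rfl⟩ | ⟨q, rfl⟩
  · exact ⟨q, by rw [map_mul, mul_div_cancel_left₀ _ (IsFractionRing.to_map_ne_zero_of_mem_nonZeroDivisors ht)]⟩
  · have ht0 := IsFractionRing.to_map_ne_zero_of_mem_nonZeroDivisors ht (R := A) (K := K)
    rw [map_mul] at ht0 hx ⊢
    rw [div_mul_cancel_left₀ (left_ne_zero_of_mul ht0)] at hx ⊢
    by_cases hq : IsUnit q
    · obtain ⟨u, rfl⟩ := hq
      exact ⟨↑u⁻¹, by rw [map_units_inv]⟩
    · exfalso
      have h1 := hV.2 q ((mem_maximalIdeal q).mpr hq)
      have h2 := (V.valuation_le_one_iff _).mpr hx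
      rw [map_inv₀] at h2
      exact absurd h2 (not_le.mpr (one_lt_inv₀ (zero_lt_iff.mpr ((Valuation.ne_zero_iff _).mpr (right_ne_zero_of_mul ht0))) |>.mpr h1))

lemma exists_uniformizer {A K : Type u} [CommRing A] [IsDomain A] [IsDiscreteValuationRing A] [Field K] [Algebra A K] [IsFractionRing A K]
    (π : A) (hπ : maximalIdeal A = Ideal.span {π}) (V : ValuationSubring K) (hV : EtRam.Dominates A (algebraMap A K) V) :
    ∃ h : algebraMap A K π ∈ V, Irreducible (⟨algebraMap A K π, h⟩ : V) ∧ IsDiscreteValuationRing V := by
  have hπ' : Irreducible π := (IsDiscreteValuationRing.irreducible_iff_uniformizer π).mpr hπ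
  let c : A →+* V := RingHom.codRestrict (algebraMap A K) V hV.1
  have hinj : Function.Injective c := fun a b h => IsFractionRing.injective A K (congrArg Subtype.val h)
  have hsurj : Function.Surjective c := fun x => (range_eq V hV x x.2).imp fun a ha => Subtype.ext ha
  let e : A ≃+* V := RingEquiv.ofBijective c ⟨hinj, hsurj⟩
  exact ⟨hV.1 π, (MulEquiv.irreducible_iff e.toMulEquiv).mpr hπ', IsDiscreteValuationRing.RingEquivClass.isDiscreteValuationRing e⟩

lemma isTotallyRamified_self {A K : Type u} [CommRing A] [IsDomain A] [IsDiscreteValuationRing A] [Field K] [Algebra A K] [IsFractionRing A K] :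
    EtRam.IsTotallyRamified A (algebraMap A K) := by
  have hrange := fun (V : ValuationSubring K) (hV : EtRam.Dominates A (algebraMap A K) V) => range_eq (A := A) V hV
  refine ⟨Groth.Agent.EtRamASChar.exists_dominates (K := K), fun V V' h h' => ?_, fun V h r => ?_⟩
  · exact le_antisymm (fun x hx => by obtain ⟨a, rfl⟩ := hrange V h x hx; exact h'.1 a)
      fun x hx => by obtain ⟨a, rfl⟩ := hrange V' h' x hx; exact h.1 a
  · obtain ⟨⟨x, hx⟩, rfl⟩ := residue_surjective r
    obtain ⟨a, rfl⟩ := hrange V h x hx
    exact ⟨a, rfl⟩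


/-- Let A be a discrete valuation ring whose fraction field K has characteristic p > 0, let ξ be an
element of K and let L = K(z) be obtained by adjoining a root z of z^p - z = ξ. Then L/K is a Galois
extension, and it falls under one of four cases: (1) L = K; (2) L/K has degree p and is unramified
with respect to A; (3) L/K has degree p and is totally ramified with respect to A (ramification
index p); (4) exactly one valuation ring of L dominates A (so B, the integral closure of A in L, is
itself a discrete valuation ring), the extension A → B is weakly unramified, and its residue field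
extension is purely inseparable of degree p. Moreover, with π a uniformizer of A: (A) if ξ lies in
A, case (1) or (2) holds; (B) if ξ = π⁻ⁿa with n > 0 prime to p and a a unit of A, case (3) holds;
(C) if ξ = π⁻ⁿa with n > 0 divisible by p and the residue class of a not a p-th power, case (4)
holds. -/
theorem result (p : ℕ) (hp : p.Prime) (A K L : Type u) [CommRing A] [IsDomain A]
    [IsDiscreteValuationRing A] [Field K] [Algebra A K] [IsFractionRing A K] [Field L] [Algebra K L] [Algebra A L]
    [IsScalarTower A K L] [CharP K p] (π : A) (hπ : IsLocalRing.maximalIdeal A = Ideal.span {π})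
    (ξ : K) (z : L) (hz : z ^ p - z = algebraMap K L ξ) (hgen : IntermediateField.adjoin K {z} = ⊤) :
    let g : A →+* L := algebraMap A L
    let case1 : Prop := Module.finrank K L = 1
    let case2 : Prop := EtRam.IsUnramifiedExt A g ∧ Module.finrank K L = p
    let case3 : Prop := EtRam.IsTotallyRamified A g ∧ Module.finrank K L = p
    let case4 : Prop := (∃ V : ValuationSubring L, EtRam.Dominates A g V) ∧
      (∀ V V' : ValuationSubring L, EtRam.Dominates A g V → EtRam.Dominates A g V' → V = V') ∧
      ∀ (V : ValuationSubring L) (h : EtRam.Dominates A g V),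
        letI : Algebra A V := (RingHom.codRestrict g V h.1).toAlgebra
        ∀ [IsLocalHom (algebraMap A V)],
          EtRam.IsWeaklyUnramified A V ∧
            IsPurelyInseparable (IsLocalRing.ResidueField A) (IsLocalRing.ResidueField V) ∧
            Module.finrank (IsLocalRing.ResidueField A) (IsLocalRing.ResidueField V) = p
    IsGalois K L ∧ (case1 ∨ case2 ∨ case3 ∨ case4) ∧
      ((∃ a : A, algebraMap A K a = ξ) → case1 ∨ case2) ∧
      (∀ (n : ℕ) (a : Aˣ), 0 < n → ¬ p ∣ n → ξ * algebraMap A K π ^ n = algebraMap A K a → case3) ∧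
      (∀ (n : ℕ) (a : A), 0 < n → p ∣ n → (∀ r : A, IsLocalRing.residue A a ≠ IsLocalRing.residue A r ^ p) →
          ξ * algebraMap A K π ^ n = algebraMap A K a → case4) := by
  classical
  intro g case1 case2 case3 case4
  haveI : Fact p.Prime := ⟨hp⟩
  haveI : CharP L p := charP_of_injective_ringHom (algebraMap K L).injective p
  haveI : CharP A p := (algebraMap A K).charP (IsFractionRing.injective A K) p
  haveI : CharP (ResidueField A) p := by
    rcases CharP.exists (ResidueField A) with ⟨q, hq⟩
    have h : (p : ResidueField A) = 0 := by rw [← map_natCast (residue A), CharP.cast_eq_zero, map_zero]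
    rcases (Nat.dvd_prime hp).mp ((CharP.cast_eq_zero_iff (ResidueField A) q p).mp h) with rfl | rfl
    · exact absurd hq.false_of_nontrivial_of_char_one (fun h => h.elim)
    · exact hq
  have hp1 := hp.one_lt
  have hmon : ∀ {R : Type u} [CommRing R] (c d : R), (X ^ p - C c * X - C d : R[X]).Monic := fun {R} _ c d => by
    rw [sub_sub]
    refine monic_X_pow_sub ((degree_add_le _ _).trans_lt (max_lt ((degree_C_mul_X_le _).trans_lt ?_) (degree_C_le.trans_lt ?_)))
    · exact_mod_cast hp1
    · exact_mod_cast hp.pos
  have hdeg : ∀ {R : Type u} [CommRing R] [Nontrivial R] (c d : R), (X ^ p - C c * X - C d : R[X]).natDegree = p := fun {R} _ _ c d => by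
    rw [sub_sub, natDegree_sub_eq_left_of_natDegree_lt (by
      rw [natDegree_X_pow]; exact (natDegree_add_le _ _).trans_lt (max_lt (lt_of_le_of_lt (natDegree_C_mul_X_pow_le c 1 |> fun h => by simpa using h) hp1) (by rw [natDegree_C]; exact hp.pos))), natDegree_X_pow]
  -- the roots are the translates of `z`
  let ι : ZMod p →+* L := ZMod.castHom dvd_rfl L
  have hιp : ∀ i, ι i ^ p = ι i := fun i => by rw [← map_pow, ZMod.pow_card]
  have hroot : ∀ i, (z + ι i) ^ p - (z + ι i) = algebraMap K L ξ := fun i => by
    rw [add_pow_char, hιp, ← hz]; ring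
  set fK : K[X] := X ^ p - C 1 * X - C ξ with hfK
  have hfKz : aeval z fK = 0 := by simp [hfK, ← hz]
  have hint : IsIntegral K z := ⟨fK, hmon 1 ξ, hfKz⟩
  haveI : FiniteDimensional K L := by
    have := IntermediateField.adjoin.finiteDimensional hint
    rw [hgen] at this
    exact IntermediateField.topEquiv.toLinearEquiv.finiteDimensional
  have hsep : fK.Separable := by
    rw [separable_def, show derivative fK = C (-1) by
      rw [hfK]; simp [derivative_X_pow, CharP.cast_eq_zero K p]]
    exact ⟨0, C (-1), by rw [zero_mul, zero_add, ← C_mul]; simp⟩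
  haveI : IsGalois K L := by
    haveI : Algebra.IsSeparable K L := by
      have h1 : IsSeparable K z := hsep.of_dvd (minpoly.dvd K z hfKz)
      haveI : Algebra.IsSeparable K (IntermediateField.adjoin K {z}) := (IntermediateField.isSeparable_adjoin_simple_iff_isSeparable K L).mpr h1
      exact AlgEquiv.Algebra.isSeparable ((IntermediateField.equivOfEq hgen).trans IntermediateField.topEquiv)
    haveI : Normal K L := by
      have hspl : (fK.map (algebraMap K L)).Splits := by
        refine splits_iff_card_roots.mpr (le_antisymm (card_roots' _) ?_)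
        have hne : fK.map (algebraMap K L) ≠ 0 := map_ne_zero (hmon 1 ξ).ne_zero
        have hsub : Finset.univ.image (fun i => z + ι i) ⊆ (fK.map (algebraMap K L)).roots.toFinset := by
          intro x hx
          obtain ⟨i, -, rfl⟩ := Finset.mem_image.mp hx
          rw [Multiset.mem_toFinset, mem_roots hne, IsRoot.def, eval_map_algebraMap]
          simp [hfK, ← hroot i]
        have h2 := Finset.card_le_card hsub
        rw [Finset.card_image_of_injective _ (fun i j h => ι.injective (add_left_cancel h)), Finset.card_univ, ZMod.card] at h2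
        rw [natDegree_map, hdeg]
        exact h2.trans (Multiset.toFinset_card_le _)
      haveI : IsSplittingField K L fK := by
        refine ⟨hspl, eq_top_iff.mpr fun x _ => ?_⟩
        have hx : x ∈ Algebra.adjoin K ({z} : Set L) := by
          rw [← IntermediateField.adjoin_simple_toSubalgebra_of_isAlgebraic hint.isAlgebraic, hgen]; exact Algebra.mem_top
        exact Algebra.adjoin_mono (Set.singleton_subset_iff.mpr ((mem_rootSet_of_ne (hmon 1 ξ).ne_zero).mpr hfKz)) hx
      exact Normal.of_isSplittingField fK
    exact ⟨⟩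
  have hsplit : Module.finrank K L = 1 ∨ Module.finrank K L = p := by
    have hgal : ∀ σ : L ≃ₐ[K] L, ∃ i, σ z = z + ι i := by
      intro σ
      have h1 : (σ z - z) ^ p = σ z - z := by
        have h2 : σ z ^ p - σ z = algebraMap K L ξ := by rw [← map_pow, ← map_sub, hz, σ.commutes]
        rw [sub_pow_char]; linear_combination h2 - hz
      have hset : Finset.univ.image ι = (X ^ p - X : L[X]).roots.toFinset := by
        refine Finset.eq_of_subset_of_card_le (fun x hx => ?_) ?_
        · obtain ⟨i, -, rfl⟩ := Finset.mem_image.mp hx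
          rw [Multiset.mem_toFinset, mem_roots (FiniteField.X_pow_card_sub_X_ne_zero L hp1)]
          simp [hιp]
        · rw [Finset.card_image_of_injective _ ι.injective, Finset.card_univ, ZMod.card]
          exact (Multiset.toFinset_card_le _).trans ((card_roots' _).trans (FiniteField.X_pow_card_sub_X_natDegree_eq L hp1).le)
      have h3 : σ z - z ∈ Finset.univ.image ι := by
        rw [hset, Multiset.mem_toFinset, mem_roots (FiniteField.X_pow_card_sub_X_ne_zero L hp1)]
        simp [h1]
      obtain ⟨i, -, hi⟩ := Finset.mem_image.mp h3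
      exact ⟨i, by rw [hi, add_sub_cancel]⟩
    choose φ hφ using hgal
    have hφK : ∀ i, ∀ σ : L ≃ₐ[K] L, σ (ι i) = ι i := fun i σ => RingHom.congr_fun (RingHom.ext_zmod ((σ : L →+* L).comp ι) ι) i
    let Φ : (L ≃ₐ[K] L) →* Multiplicative (ZMod p) := MonoidHom.mk' (fun σ => Multiplicative.ofAdd (φ σ)) fun σ τ => by
      apply Multiplicative.toAdd.injective
      show φ (σ * τ) = φ σ + φ τ
      refine ι.injective (add_left_cancel (a := z) ?_)
      rw [← hφ, AlgEquiv.mul_apply, hφ τ, map_add σ, hφ σ, hφK, map_add ι]; ring
    have hinj : Function.Injective Φ := fun σ τ h => by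
      have h' : φ σ = φ τ := Multiplicative.ofAdd.injective h
      have hz' : σ z = τ z := by rw [hφ, hφ, h']
      refine AlgEquiv.ext fun x => ?_
      have hx : x ∈ Algebra.adjoin K ({z} : Set L) := by
        rw [← IntermediateField.adjoin_simple_toSubalgebra_of_isAlgebraic hint.isAlgebraic, hgen]; exact Algebra.mem_top
      exact ((AlgHom.eqOn_adjoin_iff (s := ({z} : Set L)) (φ := σ.toAlgHom) (ψ := τ.toAlgHom)).mpr fun w hw => by rw [Set.mem_singleton_iff.mp hw]; exact hz') hx
    have hd := Subgroup.card_dvd_of_injective Φ hinj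
    rw [Nat.card_congr Multiplicative.toAdd, Nat.card_zmod, IsGalois.card_aut_eq_finrank] at hd
    exact (Nat.dvd_prime hp).mp hd
  have hgen' : ∀ (c b : K), c ≠ 0 → ∀ x : L, ∃ q : K[X], aeval (algebraMap K L c * z + algebraMap K L b) q = x := by
    intro c b hc x
    have hx : x ∈ Algebra.adjoin K ({z} : Set L) := by
      rw [← IntermediateField.adjoin_simple_toSubalgebra_of_isAlgebraic hint.isAlgebraic, hgen]; exact Algebra.mem_top
    rw [Algebra.adjoin_singleton_eq_range_aeval] at hx
    obtain ⟨q, rfl⟩ := hx
    refine ⟨q.comp (C c⁻¹ * (X - C b)), ?_⟩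
    rw [aeval_comp, map_mul, map_sub, aeval_C, aeval_X, aeval_C, add_sub_cancel_right, ← mul_assoc, ← map_mul, inv_mul_cancel₀ hc, map_one, one_mul]
    rfl
  have hπ0 : algebraMap A K π ≠ 0 := (map_ne_zero_iff _ (IsFractionRing.injective A K)).mpr fun h => by
    rw [h, Ideal.span_singleton_zero] at hπ
    exact IsDiscreteValuationRing.not_a_field A hπ
  have hloc : ∀ (V : ValuationSubring L) (h : EtRam.Dominates A g V),
      letI : Algebra A V := (RingHom.codRestrict g V h.1).toAlgebra
      IsLocalHom (algebraMap A V) := fun V h => by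
    letI : Algebra A V := (RingHom.codRestrict g V h.1).toAlgebra
    exact ⟨fun a ha => by
      by_contra hna
      exact (h.2 a ((mem_maximalIdeal a).mpr hna)).ne ((V.valuation_eq_one_iff _).mp ha)⟩
  have hπV : ∀ (V : ValuationSubring L), EtRam.Dominates A g V → 0 < V.valuation (g π) ∧ V.valuation (g π) < 1 := fun V h => by
    refine ⟨?_, h.2 π (hπ ▸ Ideal.mem_span_singleton_self π)⟩
    rw [zero_lt_iff, Valuation.ne_zero_iff, show g π = algebraMap K L (algebraMap A K π) from IsScalarTower.algebraMap_apply A K L π]
    exact (_root_.map_ne_zero _).mpr hπ0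
  -- case (A)
  have hA : ∀ (b : K) (a : A), algebraMap A K a = ξ + (b ^ p - b) → case1 ∨ case2 := by
    intro b a ha
    rcases hsplit with h1 | hp'
    · exact Or.inl h1
    refine Or.inr ⟨?_, hp'⟩
    intro V hV
    intro hl
    set y := algebraMap K L 1 * z + algebraMap K L b with hy
    have hy0 : aeval y (X ^ p - C 1 * X - C a : A[X]) = 0 := by
      rw [map_sub, map_sub, map_mul, map_pow, aeval_X, aeval_C, aeval_C, map_one, one_mul, hy, map_one, one_mul, add_pow_char,
        IsScalarTower.algebraMap_apply A K L a, ha, map_add, ← hz, map_sub, map_pow]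
      ring
    have hsq : Squarefree ((X ^ p - C 1 * X - C a : A[X]).map (residue A)) := by
      refine Polynomial.Separable.squarefree ?_
      rw [separable_def, show derivative ((X ^ p - C 1 * X - C a : A[X]).map (residue A)) = C (-1) by
        simp [derivative_X_pow, CharP.cast_eq_zero (ResidueField A) p]]
      exact ⟨0, C (-1), by rw [zero_mul, zero_add, ← C_mul]; simp⟩
    obtain ⟨hw, hfb, htop⟩ := EtRamASChar.gen (K := K) _ y (hmon 1 a) hsq hy0 π hπ (hgen' 1 b one_ne_zero) V hV
    refine ⟨hw, ?_⟩
    letI : Algebra A V := (RingHom.codRestrict g V hV.1).toAlgebra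
    have hsepf : ((X ^ p - C 1 * X - C a : A[X]).map (residue A)).Separable := by
      rw [separable_def, show derivative ((X ^ p - C 1 * X - C a : A[X]).map (residue A)) = C (-1) by
        simp [derivative_X_pow, CharP.cast_eq_zero (ResidueField A) p]]
      exact ⟨0, C (-1), by rw [zero_mul, zero_add, ← C_mul]; simp⟩
    set yb := residue V ⟨y, EtRamASChar.root_mem _ y (hmon 1 a) hy0 V hV⟩
    have hys : IsSeparable (ResidueField A) yb := hsepf.of_dvd (minpoly.dvd _ _ hfb)
    have htop' : IntermediateField.adjoin (ResidueField A) {yb} = ⊤ := eq_top_iff.mpr fun x _ =>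
      IntermediateField.algebra_adjoin_le_adjoin _ _ (htop ▸ Algebra.mem_top)
    haveI := (IntermediateField.isSeparable_adjoin_simple_iff_isSeparable (ResidueField A) (ResidueField V)).mpr hys
    exact AlgEquiv.Algebra.isSeparable ((IntermediateField.equivOfEq htop').trans IntermediateField.topEquiv)
  -- case (C)
  have hC : ∀ (b : K) (n : ℕ) (a : A), 0 < n → p ∣ n → (∀ r : A, residue A a ≠ residue A r ^ p) →
      (ξ + (b ^ p - b)) * algebraMap A K π ^ n = algebraMap A K a → case4 := by
    intro b n a hn hpn hres he
    obtain ⟨m, rfl⟩ := hpn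
    have hm : 0 < m := Nat.pos_of_mul_pos_left hn
    set c := algebraMap A K π ^ m with hc
    set w := algebraMap K L c * z + algebraMap K L (c * b) with hw
    set f : A[X] := X ^ p - C (π ^ (m * (p - 1))) * X - C a with hf
    have hw0 : aeval w f = 0 := by
      have e1 : algebraMap A L π = algebraMap K L (algebraMap A K π) := IsScalarTower.algebraMap_apply A K L π
      have e2 : algebraMap A L a = algebraMap K L (algebraMap A K a) := IsScalarTower.algebraMap_apply A K L a
      rw [hf, map_sub, map_sub, map_mul, map_pow, aeval_X, aeval_C, aeval_C, map_pow, e1, e2, ← he, hw, add_pow_char, hc]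
      simp only [map_mul, map_pow, map_add, map_sub, ← hz, mul_pow, ← pow_mul]
      have hp2 : m * p = m + m * (p - 1) := by
        conv_lhs => rw [show p = 1 + (p - 1) by omega, mul_add, mul_one]
      rw [mul_comm p m, hp2, pow_add]
      ring
    have hfb : f.map (residue A) = X ^ p - C (residue A a) := by
      have h0 : residue A π = 0 := (residue_eq_zero_iff π).mpr (hπ ▸ Ideal.mem_span_singleton_self π)
      have hm1 : m * (p - 1) ≠ 0 := Nat.mul_ne_zero hm.ne' (by omega)
      simp [hf, map_pow, h0, zero_pow hm1]
    have hirr : Irreducible (f.map (residue A)) := by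
      rw [hfb]
      refine X_pow_sub_C_irreducible_of_prime hp fun r hr => ?_
      obtain ⟨r, rfl⟩ := residue_surjective r
      exact hres r hr.symm
    have hgw := hgen' c (c * b) (pow_ne_zero _ hπ0)
    refine ⟨EtRamASChar.exists_dominates (K := K), fun V V' h h' =>
      EtRamASChar.unique (K := K) f w (hmon _ _) hirr hw0 π hπ hgw V V' h h', fun V h => ?_⟩
    intro hl
    obtain ⟨hwu, hfw, htop⟩ := EtRamASChar.gen (K := K) f w (hmon _ _) hirr.squarefree hw0 π hπ hgw V h
    letI : Algebra A V := (RingHom.codRestrict g V h.1).toAlgebra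
    set wb := residue V ⟨w, EtRamASChar.root_mem f w (hmon _ _) hw0 V h⟩
    have hwb : IsIntegral (ResidueField A) wb := ⟨_, (hmon _ _).map _, hfw⟩
    have htop' : IntermediateField.adjoin (ResidueField A) {wb} = ⊤ := eq_top_iff.mpr fun x _ =>
      IntermediateField.algebra_adjoin_le_adjoin _ _ (htop ▸ Algebra.mem_top)
    refine ⟨hwu, ?_, ?_⟩
    · haveI : IsPurelyInseparable (ResidueField A) (IntermediateField.adjoin (ResidueField A) {wb}) :=
        (IntermediateField.isPurelyInseparable_adjoin_simple_iff_pow_mem (ResidueField A) (ResidueField V) p).mpr ⟨1, residue A a, by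
          rw [hfb, map_sub, map_pow, aeval_X, aeval_C, sub_eq_zero] at hfw
          rw [pow_one, hfw]⟩
      exact ((IntermediateField.equivOfEq htop').trans IntermediateField.topEquiv).isPurelyInseparable
    · rw [← ((IntermediateField.equivOfEq htop').trans IntermediateField.topEquiv).toLinearEquiv.finrank_eq,
        IntermediateField.adjoin.finrank hwb, ← minpoly.eq_of_irreducible_of_monic hirr hfw ((hmon _ _).map _), hfb, natDegree_X_pow_sub_C]
  -- case (B)
  have hB : ∀ (b : K) (n : ℕ) (a : A), 0 < n → ¬ p ∣ n → IsUnit a →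
      (ξ + (b ^ p - b)) * algebraMap A K π ^ n = algebraMap A K a → case3 := by
    intro b n a hn hpn hau he
    set y := z + algebraMap K L b with hy
    have hval : ∀ V : ValuationSubring L, EtRam.Dominates A g V → V.valuation y ^ p * V.valuation (g π) ^ n = 1 := by
      intro V hV
      obtain ⟨hpos, hlt⟩ := hπV V hV
      have h1 : (y ^ p - y) * g π ^ n = g a := by
        rw [hy, add_pow_char, show g π = algebraMap K L (algebraMap A K π) from IsScalarTower.algebraMap_apply A K L π,
          show g a = algebraMap K L (algebraMap A K a) from IsScalarTower.algebraMap_apply A K L a, ← he, map_mul, map_add, ← hz, map_sub, map_pow, map_pow]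
        ring
      have hva : V.valuation (g a) = 1 := by
        obtain ⟨c, hc⟩ := hau.exists_right_inv
        refine le_antisymm ((V.valuation_le_one_iff _).mpr (hV.1 a)) ?_
        rw [← V.valuation.map_one, ← map_one g, ← hc, map_mul g, map_mul]
        exact mul_le_of_le_one_right zero_le ((V.valuation_le_one_iff _).mpr (hV.1 c))
      have h2 : V.valuation (y ^ p - y) * V.valuation (g π) ^ n = 1 := by rw [← map_pow, ← map_mul, h1, hva]
      have hbig : 1 < V.valuation y := by
        by_contra hle
        rw [not_lt] at hle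
        have h3 : V.valuation (y ^ p - y) ≤ 1 := (Valuation.map_sub _ _ _).trans (max_le (by rw [map_pow]; exact pow_le_one₀ zero_le hle) hle)
        exact absurd h2 (ne_of_lt ((mul_le_of_le_one_left zero_le h3).trans_lt (pow_lt_one₀ zero_le hlt hn.ne')))
      rw [Valuation.map_sub_eq_of_lt_left _ (by
        rw [map_pow]; calc V.valuation y = V.valuation y ^ 1 := (pow_one _).symm
          _ < V.valuation y ^ p := pow_lt_pow_right₀ hbig hp1), map_pow] at h2
      exact h2
    obtain ⟨V₀, hV₀⟩ := EtRamASChar.exists_dominates (A := A) (K := K) (L := L)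
    have hne1 : Module.finrank K L ≠ 1 := by
      intro h1
      obtain ⟨x, hx⟩ : y ∈ (algebraMap K L).range := by
        have := (IntermediateField.bot_eq_top_iff_finrank_eq_one (F := K) (E := L)).mpr h1
        exact IntermediateField.mem_bot.mp (this ▸ IntermediateField.mem_top)
      obtain ⟨hpos, hlt⟩ := hπV V₀ hV₀
      have hk : ∃ k : ℤ, V₀.valuation (algebraMap K L x) = V₀.valuation (g π) ^ k := by
        have hx0 : x ≠ 0 := fun h0 => by
          have h := hval V₀ hV₀
          rw [← hx, h0, map_zero, map_zero, zero_pow hp.ne_zero, zero_mul] at h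
          exact zero_ne_one h
        obtain ⟨s, t, ht, rfl⟩ := IsFractionRing.div_surjective A x
        have hunitv : ∀ u : Aˣ, V₀.valuation (algebraMap A L (u : A)) = 1 := fun u => by
          refine le_antisymm ((V₀.valuation_le_one_iff _).mpr (hV₀.1 _)) ?_
          rw [← V₀.valuation.map_one, ← map_one (algebraMap A L), ← u.mul_inv, map_mul (algebraMap A L), map_mul]
          exact mul_le_of_le_one_right zero_le ((V₀.valuation_le_one_iff _).mpr (hV₀.1 _))
        have hirrπ : Irreducible π := (IsDiscreteValuationRing.irreducible_iff_uniformizer π).mpr hπ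
        obtain ⟨i, u, rfl⟩ := IsDiscreteValuationRing.eq_unit_mul_pow_irreducible (x := s) (fun h => hx0 (by rw [h, map_zero, zero_div])) hirrπ
        obtain ⟨j, u', rfl⟩ := IsDiscreteValuationRing.eq_unit_mul_pow_irreducible (x := t) (nonZeroDivisors.ne_zero ht) hirrπ
        refine ⟨(i : ℤ) - j, ?_⟩
        rw [map_div₀, map_div₀]
        simp only [map_mul, map_pow, ← IsScalarTower.algebraMap_apply A K L, hunitv, one_mul]
        rw [zpow_sub₀ hpos.ne', zpow_natCast, zpow_natCast]
      obtain ⟨k, hk⟩ := hk
      have h := hval V₀ hV₀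
      rw [← hx, hk, ← zpow_natCast, ← zpow_mul, ← zpow_natCast, ← zpow_add₀ hpos.ne', ← zpow_zero (V₀.valuation (g π))] at h
      have h2 := (zpow_right_strictAnti₀ hpos hlt).injective h
      exact hpn (Int.natCast_dvd_natCast.mp ⟨-k, by linear_combination h2⟩)
    refine ⟨?_, hsplit.resolve_left hne1⟩
    -- a monomial of valuation one third of the way
    obtain ⟨i, j, hij⟩ : ∃ i j : ℤ, -(n : ℤ) * i + p * j = 1 := by
      have := (Nat.Prime.coprime_iff_not_dvd hp).mpr hpn
      exact ⟨-(Int.gcdB p n), Int.gcdA p n, by
        have h := Int.gcd_eq_gcd_ab p n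
        rw [Int.gcd_natCast_natCast, this.gcd_eq_one] at h
        push_cast at h
        linear_combination -h⟩
    have ht : EtRam.IsTotallyRamified A (algebraMap A K) := isTotallyRamified_self
    have := EtRamAS.isTotallyRamified_step (K₂ := L) ht p hp.pos (algebraMap A K π) hπ0 (fun V₁ hV₁ => exists_uniformizer π hπ V₁ hV₁)
      (hsplit.elim (fun h => h ▸ hp.one_lt.le) fun h => h.le) (y ^ i * g π ^ j) (fun V hV => ?_)
    · exact (show (algebraMap K L).comp (algebraMap A K) = g from (IsScalarTower.algebraMap_eq A K L).symm) ▸ this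
    · have hV' : EtRam.Dominates A g V := (show (algebraMap K L).comp (algebraMap A K) = g from (IsScalarTower.algebraMap_eq A K L).symm) ▸ hV
      obtain ⟨hpos, hlt⟩ := hπV V hV'
      have h := hval V hV'
      rw [← IsScalarTower.algebraMap_apply, map_mul, map_zpow₀, map_zpow₀, mul_pow]
      calc (V.valuation y ^ i) ^ p * (V.valuation (g π) ^ j) ^ p
          = (V.valuation y ^ p) ^ i * (V.valuation (g π) ^ j) ^ p := by
            rw [← zpow_natCast, ← zpow_mul, ← zpow_natCast (V.valuation y), ← zpow_mul, mul_comm i]
        _ = V.valuation (g π) := by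
            rw [eq_inv_of_mul_eq_one_left h, inv_zpow, ← zpow_natCast, ← zpow_natCast, ← zpow_mul, ← zpow_mul, ← zpow_neg,
              ← zpow_add₀ hpos.ne', show -((n : ℤ) * i) + j * p = 1 by linear_combination hij, zpow_one]
  refine ⟨‹_›, ?_, fun ⟨a, ha⟩ => hA 0 a (by rw [zero_pow hp.ne_zero, sub_zero, add_zero, ha]), fun n a hn hpn he => hB 0 n a hn hpn a.isUnit (by
    rw [zero_pow hp.ne_zero, sub_zero, add_zero, he]), fun n a hn hpn hres he => hC 0 n a hn hpn hres (by
    rw [zero_pow hp.ne_zero, sub_zero, add_zero, he])⟩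
  -- reduction of the pole order
  have main : ∀ (n : ℕ) (b : K) (a : A), (ξ + (b ^ p - b)) * algebraMap A K π ^ n = algebraMap A K a → case1 ∨ case2 ∨ case3 ∨ case4 := by
    intro n
    induction n with
    | zero =>
      intro b a he
      rw [pow_zero, mul_one] at he
      rcases hA b a he.symm with h | h
      · exact Or.inl h
      · exact Or.inr (Or.inl h)
    | succ n ih =>
      intro b a he
      by_cases hau : IsUnit a
      · by_cases hpn : p ∣ n + 1
        · by_cases hres : ∀ r : A, residue A a ≠ residue A r ^ p
          · exact Or.inr (Or.inr (Or.inr (hC b (n + 1) a n.succ_pos hpn hres he)))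
          push Not at hres
          obtain ⟨r, hr⟩ := hres
          obtain ⟨m, hm⟩ := hpn
          have hmn : m ≤ n := by
            by_contra hc
            have : 2 * m ≤ p * m := Nat.mul_le_mul_right m hp.two_le
            omega
          obtain ⟨a', ha'⟩ : π ∣ a - r ^ p + r * π ^ (n + 1 - m) := by
            refine dvd_add (Ideal.mem_span_singleton.mp (hπ ▸ (residue_eq_zero_iff _).mp (by rw [map_sub, map_pow, hr, sub_self]))) ?_
            exact (dvd_pow_self π (by omega)).mul_left r
          refine ih (b - algebraMap A K r / algebraMap A K π ^ m) a' ?_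
          refine mul_right_cancel₀ hπ0 ?_
          have ha'' := congrArg (algebraMap A K) ha'
          simp only [map_add, map_sub, map_mul, map_pow] at ha''
          have hsplitn : algebraMap A K π ^ (n + 1 - m) * algebraMap A K π ^ m = algebraMap A K π ^ (n + 1) := by
            rw [← pow_add, Nat.sub_add_cancel (by omega)]
          have hr1 : (algebraMap A K r / algebraMap A K π ^ m) ^ p * algebraMap A K π ^ (n + 1) = algebraMap A K r ^ p := by
            rw [div_pow, hm, ← pow_mul, mul_comm p m, div_mul_cancel₀ _ (pow_ne_zero _ hπ0)]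
          have hr2 : algebraMap A K r / algebraMap A K π ^ m * algebraMap A K π ^ (n + 1) = algebraMap A K r * algebraMap A K π ^ (n + 1 - m) := by
            rw [← hsplitn, div_mul_eq_mul_div, mul_comm (algebraMap A K π ^ (n + 1 - m)), ← mul_assoc, mul_div_assoc]
            field_simp
          rw [mul_assoc, ← pow_succ, sub_pow_char]
          linear_combination he + ha'' - hr1 + hr2
        · exact Or.inr (Or.inr (Or.inl (hB b (n + 1) a n.succ_pos hpn hau he)))
      · obtain ⟨a', rfl⟩ := Ideal.mem_span_singleton.mp (hπ ▸ (mem_maximalIdeal a).mpr hau)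
        refine ih b a' (mul_right_cancel₀ hπ0 ?_)
        rw [mul_assoc, ← pow_succ, he, map_mul, mul_comm]
  obtain ⟨n, a, ha⟩ : ∃ (n : ℕ) (a : A), ξ * algebraMap A K π ^ n = algebraMap A K a := by
    obtain ⟨s, t, ht, rfl⟩ := IsFractionRing.div_surjective A ξ
    obtain ⟨j, u, rfl⟩ := IsDiscreteValuationRing.eq_unit_mul_pow_irreducible (x := t) (nonZeroDivisors.ne_zero ht)
      ((IsDiscreteValuationRing.irreducible_iff_uniformizer π).mpr hπ)
    refine ⟨j, s * ↑u⁻¹, ?_⟩
    rw [map_mul, map_mul, map_pow, map_units_inv]
    field_simp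
  exact main n 0 a (by rw [zero_pow hp.ne_zero, sub_zero, add_zero, ha])

end Groth.Agent.S7158
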