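import Groth.Statements.S7159
import Mathlib
import Groth.Agent.EtRamASChar.Basic
import Groth.Agent.EtRamAS.Tot
import Groth.Agent.S7158

set_option autoImplicit false
universe u
open EtAlg

namespace Groth.Agent.S7159

set_option maxHeartbeats 2000000
open Polynomial IsLocalRing Groth.Agent

variable {A K L : Type u} [CommRing A] [IsDomain A] [IsDiscreteValuationRing A] [Field K] [Algebra A K] [IsFractionRing A K]
  [Field L] [Algebra K L] [Algebra A L] [IsScalarTower A K L]

lemma isLocalHom_of_dominates (V : ValuationSubring L) (h : EtRam.Dominates A (algebraMap A L) V) :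
    letI : Algebra A V := (RingHom.codRestrict (algebraMap A L) V h.1).toAlgebra
    IsLocalHom (algebraMap A V) := by
  letI : Algebra A V := (RingHom.codRestrict (algebraMap A L) V h.1).toAlgebra
  exact ⟨fun a ha => by
    by_contra hna
    exact (h.2 a ((mem_maximalIdeal a).mpr hna)).ne ((V.valuation_eq_one_iff _).mp ha)⟩

lemma val_unit (V : ValuationSubring L) (h : EtRam.Dominates A (algebraMap A L) V) (u : Aˣ) :
    V.valuation (algebraMap A L (u : A)) = 1 := by
  refine le_antisymm ((V.valuation_le_one_iff _).mpr (h.1 _)) ?_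
  rw [← V.valuation.map_one, ← map_one (algebraMap A L), ← u.mul_inv, map_mul (algebraMap A L), map_mul]
  exact mul_le_of_le_one_right zero_le ((V.valuation_le_one_iff _).mpr (h.1 _))

include K in
lemma val_pi (π : A) (hπ : maximalIdeal A = Ideal.span {π}) (V : ValuationSubring L) (h : EtRam.Dominates A (algebraMap A L) V) :
    0 < V.valuation (algebraMap A L π) ∧ V.valuation (algebraMap A L π) < 1 := by
  refine ⟨?_, h.2 π (hπ ▸ Ideal.mem_span_singleton_self π)⟩
  rw [zero_lt_iff, Valuation.ne_zero_iff, IsScalarTower.algebraMap_apply A K L]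
  exact (_root_.map_ne_zero _).mpr ((map_ne_zero_iff _ (IsFractionRing.injective A K)).mpr
    ((IsDiscreteValuationRing.irreducible_iff_uniformizer π).mpr hπ).ne_zero)

lemma exists_unit_mul_zpow (π : A) (hπ : maximalIdeal A = Ideal.span {π}) (x : K) (hx : x ≠ 0) :
    ∃ (N : ℤ) (a : Aˣ), x = algebraMap A K a * algebraMap A K π ^ N := by
  obtain ⟨s, t, ht, rfl⟩ := IsFractionRing.div_surjective A x
  have hirr : Irreducible π := (IsDiscreteValuationRing.irreducible_iff_uniformizer π).mpr hπ
  obtain ⟨i, u, rfl⟩ := IsDiscreteValuationRing.eq_unit_mul_pow_irreducible (x := s) (fun h => hx (by rw [h, map_zero, zero_div])) hirr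
  obtain ⟨j, u', rfl⟩ := IsDiscreteValuationRing.eq_unit_mul_pow_irreducible (x := t) (nonZeroDivisors.ne_zero ht) hirr
  refine ⟨(i : ℤ) - j, u * u'⁻¹, ?_⟩
  rw [zpow_sub₀ ((map_ne_zero_iff _ (IsFractionRing.injective A K)).mpr hirr.ne_zero), zpow_natCast, zpow_natCast, Units.val_mul,
    map_mul, map_mul, map_mul, map_pow, map_pow, map_units_inv]
  field_simp

lemma unramified_of_sep (f : A[X]) (y : L) (hf : f.Monic) (hs : (f.map (residue A)).Separable) (hy : aeval y f = 0) (π : A)
    (hπ : maximalIdeal A = Ideal.span {π}) (hgen : ∀ x : L, ∃ q : K[X], aeval y q = x) :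
    EtRam.IsUnramifiedExt A (algebraMap A L) := by
  intro V hV
  intro hl
  obtain ⟨hw, hfb, htop⟩ := EtRamASChar.gen (K := K) f y hf hs.squarefree hy π hπ hgen V hV
  refine ⟨hw, ?_⟩
  letI : Algebra A V := (RingHom.codRestrict (algebraMap A L) V hV.1).toAlgebra
  set yb := residue V ⟨y, EtRamASChar.root_mem _ y hf hy V hV⟩
  have hys : IsSeparable (ResidueField A) yb := hs.of_dvd (minpoly.dvd _ _ hfb)
  have htop' : IntermediateField.adjoin (ResidueField A) {yb} = ⊤ := eq_top_iff.mpr fun x _ =>
    IntermediateField.algebra_adjoin_le_adjoin _ _ (htop ▸ Algebra.mem_top)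
  haveI := (IntermediateField.isSeparable_adjoin_simple_iff_isSeparable (ResidueField A) (ResidueField V)).mpr hys
  exact AlgEquiv.Algebra.isSeparable ((IntermediateField.equivOfEq htop').trans IntermediateField.topEquiv)

lemma case4_of_insep (p : ℕ) (hp : p.Prime) [CharP (ResidueField A) p] (f : A[X]) (y : L) (hf : f.Monic) (r : A)
    (hfb : f.map (residue A) = X ^ p - C (residue A r)) (hr : ∀ s : A, residue A r ≠ residue A s ^ p) (hy : aeval y f = 0)
    (π : A) (hπ : maximalIdeal A = Ideal.span {π}) (hgen : ∀ x : L, ∃ q : K[X], aeval y q = x) :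
    let g : A →+* L := algebraMap A L
    (∃ V : ValuationSubring L, EtRam.Dominates A g V) ∧
      (∀ V V' : ValuationSubring L, EtRam.Dominates A g V → EtRam.Dominates A g V' → V = V') ∧
      ∀ (V : ValuationSubring L) (h : EtRam.Dominates A g V),
        letI : Algebra A V := (RingHom.codRestrict g V h.1).toAlgebra
        ∀ [IsLocalHom (algebraMap A V)],
          EtRam.IsWeaklyUnramified A V ∧
            IsPurelyInseparable (IsLocalRing.ResidueField A) (IsLocalRing.ResidueField V) ∧
            Module.finrank (IsLocalRing.ResidueField A) (IsLocalRing.ResidueField V) = p := by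
  intro g
  haveI : Fact p.Prime := ⟨hp⟩
  have hirr : Irreducible (f.map (residue A)) := by
    rw [hfb]
    refine X_pow_sub_C_irreducible_of_prime hp fun s hs => ?_
    obtain ⟨s, rfl⟩ := residue_surjective s
    exact hr s hs.symm
  refine ⟨EtRamASChar.exists_dominates (K := K), fun V V' h h' =>
    EtRamASChar.unique (K := K) f y hf hirr hy π hπ hgen V V' h h', fun V h => ?_⟩
  intro hl
  obtain ⟨hwu, hfw, htop⟩ := EtRamASChar.gen (K := K) f y hf hirr.squarefree hy π hπ hgen V h
  letI : Algebra A V := (RingHom.codRestrict g V h.1).toAlgebra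
  set wb := residue V ⟨y, EtRamASChar.root_mem f y hf hy V h⟩
  have hwb : IsIntegral (ResidueField A) wb := ⟨_, hf.map _, hfw⟩
  have htop' : IntermediateField.adjoin (ResidueField A) {wb} = ⊤ := eq_top_iff.mpr fun x _ =>
    IntermediateField.algebra_adjoin_le_adjoin _ _ (htop ▸ Algebra.mem_top)
  refine ⟨hwu, ?_, ?_⟩
  · haveI : IsPurelyInseparable (ResidueField A) (IntermediateField.adjoin (ResidueField A) {wb}) :=
      (IntermediateField.isPurelyInseparable_adjoin_simple_iff_pow_mem (ResidueField A) (ResidueField V) p).mpr ⟨1, residue A r, by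
        rw [hfb, map_sub, map_pow, aeval_X, aeval_C, sub_eq_zero] at hfw
        rw [pow_one, hfw]⟩
    exact ((IntermediateField.equivOfEq htop').trans IntermediateField.topEquiv).isPurelyInseparable
  · rw [← ((IntermediateField.equivOfEq htop').trans IntermediateField.topEquiv).toLinearEquiv.finrank_eq,
      IntermediateField.adjoin.finrank hwb, ← minpoly.eq_of_irreducible_of_monic hirr hfw (hf.map _), hfb, natDegree_X_pow_sub_C]

lemma case3_of_val (p : ℕ) (hp : p.Prime) [FiniteDimensional K L] (hsplit : Module.finrank K L = 1 ∨ Module.finrank K L = p)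
    (π : A) (hπ : maximalIdeal A = Ideal.span {π}) (y : L) (N : ℤ) (hN : ¬ (p : ℤ) ∣ N)
    (hval : ∀ V : ValuationSubring L, EtRam.Dominates A (algebraMap A L) V → V.valuation y ^ p = V.valuation (algebraMap A L π) ^ N) :
    EtRam.IsTotallyRamified A (algebraMap A L) ∧ Module.finrank K L = p := by
  obtain ⟨V₀, hV₀⟩ := EtRamASChar.exists_dominates (A := A) (K := K) (L := L)
  obtain ⟨hpos₀, hlt₀⟩ := val_pi (K := K) π hπ V₀ hV₀
  have hπ0 : algebraMap A K π ≠ 0 := (map_ne_zero_iff _ (IsFractionRing.injective A K)).mpr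
    ((IsDiscreteValuationRing.irreducible_iff_uniformizer π).mpr hπ).ne_zero
  have hy0 : y ≠ 0 := fun h0 => by
    have h := hval V₀ hV₀
    rw [h0, map_zero, zero_pow hp.ne_zero] at h
    exact zpow_ne_zero N hpos₀.ne' h.symm
  have hne1 : Module.finrank K L ≠ 1 := fun h1 => by
    obtain ⟨x, hx⟩ : y ∈ (algebraMap K L).range := by
      have := (IntermediateField.bot_eq_top_iff_finrank_eq_one (F := K) (E := L)).mpr h1
      exact IntermediateField.mem_bot.mp (this ▸ IntermediateField.mem_top)
    obtain ⟨M, a, ha⟩ := exists_unit_mul_zpow π hπ x (fun h0 => hy0 (by rw [← hx, h0, map_zero]))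
    have h := hval V₀ hV₀
    rw [← hx, ha, map_mul (algebraMap K L), map_zpow₀, ← IsScalarTower.algebraMap_apply, ← IsScalarTower.algebraMap_apply, map_mul,
      map_zpow₀, val_unit V₀ hV₀, one_mul, ← zpow_natCast, ← zpow_mul] at h
    exact hN ⟨M, by rw [← (zpow_right_strictAnti₀ hpos₀ hlt₀).injective h]; ring⟩
  refine ⟨?_, hsplit.resolve_left hne1⟩
  obtain ⟨i, j, hij⟩ : ∃ i j : ℤ, N * i + p * j = 1 :=
    ((Nat.prime_iff_prime_int.mp hp).coprime_iff_not_dvd.mpr hN).symm
      |>.imp fun i hi => hi.imp fun j hj => by linear_combination hj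
  have := EtRamAS.isTotallyRamified_step (K₂ := L) (g₁ := algebraMap A K) S7158.isTotallyRamified_self p hp.pos (algebraMap A K π) hπ0
    (fun V₁ hV₁ => S7158.exists_uniformizer π hπ V₁ hV₁)
    (hsplit.elim (fun h => h ▸ hp.one_lt.le) fun h => h.le) (y ^ i * algebraMap A L π ^ j) (fun V hV => ?_)
  · rw [IsScalarTower.algebraMap_eq A K L]; exact this
  · rw [← IsScalarTower.algebraMap_eq A K L] at hV
    obtain ⟨hpos, hlt⟩ := val_pi (K := K) π hπ V hV
    have h := hval V hV
    rw [← IsScalarTower.algebraMap_apply, map_mul, map_zpow₀, map_zpow₀, mul_pow]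
    calc (V.valuation y ^ i) ^ p * (V.valuation (algebraMap A L π) ^ j) ^ p
        = (V.valuation y ^ p) ^ i * (V.valuation (algebraMap A L π) ^ j) ^ p := by
          rw [← zpow_natCast, ← zpow_mul, ← zpow_natCast (V.valuation y), ← zpow_mul, mul_comm i]
      _ = V.valuation (algebraMap A L π) := by
          rw [h, ← zpow_natCast, ← zpow_mul, ← zpow_mul, ← zpow_add₀ hpos.ne', show N * i + j * p = 1 by linear_combination hij, zpow_one]


open Polynomial in
/-- Let A be a discrete valuation ring whose fraction field K has characteristic 0 and whose residue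
field has characteristic p, and suppose A contains an element ζ with 1 + ζ + ... + ζ^(p-1) = 0 (a
primitive p-th root of unity); set w = 1 - ζ and let P in A[t] be the polynomial with w^p·P(t) = (1
+ wt)^p - 1. Let ξ be an element of K and let L = K(z) be obtained by adjoining a root z of P(z) =
ξ. Then L/K is a Galois extension, and it falls under one of four cases: (1) L = K; (2) L/K has
degree p and is unramified with respect to A; (3) L/K has degree p and is totally ramified with
respect to A (ramification index p); (4) exactly one valuation ring of L dominates A (so B, the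
integral closure of A in L, is itself a discrete valuation ring), the extension A → B is weakly
unramified, and its residue field extension is purely inseparable of degree p. Moreover, with π a
uniformizer of A: (A) if ξ lies in A, case (1) or (2) holds; (B) if ξ = π⁻ⁿa with n > 0 prime to p
and a a unit of A, case (3) holds; (C) if ξ = π⁻ⁿa with n > 0 divisible by p and the residue class
of a not a p-th power, case (4) holds. -/
theorem result (p : ℕ) (hp : p.Prime) (A K L : Type u) [CommRing A] [IsDomain A]
    [IsDiscreteValuationRing A] [Field K] [Algebra A K] [IsFractionRing A K] [Field L] [Algebra K L] [Algebra A L]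
    [IsScalarTower A K L] [CharZero K] [CharP (IsLocalRing.ResidueField A) p] (ζ : A)
    (hζ : aeval ζ (cyclotomic p ℤ) = 0) (P : A[X]) (hP : C ((1 - ζ) ^ p) * P = (1 + C (1 - ζ) * X) ^ p - 1) (π : A) (hπ : IsLocalRing.maximalIdeal A = Ideal.span {π})
    (ξ : K) (z : L) (hz : aeval z P = algebraMap K L ξ) (hgen : IntermediateField.adjoin K {z} = ⊤) :
    let g : A →+* L := algebraMap A L
    let case1 : Prop := Module.finrank K L = 1
    let case2 : Prop := EtRam.IsUnramifiedExt A g ∧ Module.finrank K L = p
    let case3 : Prop := EtRam.IsTotallyRamified A g ∧ Module.finrank K L = p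
    let case4 : Prop := (∃ V : ValuationSubring L, EtRam.Dominates A g V) ∧
      (∀ V V' : ValuationSubring L, EtRam.Dominates A g V → EtRam.Dominates A g V' → V = V') ∧
      ∀ (V : ValuationSubring L) (h : EtRam.Dominates A g V),
        letI : Algebra A V := (RingHom.codRestrict g V h.1).toAlgebra
        ∀ [IsLocalHom (algebraMap A V)],
          EtRam.IsWeaklyUnramified A V ∧
            IsPurelyInseparable (IsLocalRing.ResidueField A) (IsLocalRing.ResidueField V) ∧
            Module.finrank (IsLocalRing.ResidueField A) (IsLocalRing.ResidueField V) = p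
    IsGalois K L ∧ (case1 ∨ case2 ∨ case3 ∨ case4) ∧
      ((∃ a : A, algebraMap A K a = ξ) → case1 ∨ case2) ∧
      (∀ (n : ℕ) (a : Aˣ), 0 < n → ¬ p ∣ n → ξ * algebraMap A K π ^ n = algebraMap A K a → case3) ∧
      (∀ (n : ℕ) (a : A), 0 < n → p ∣ n → (∀ r : A, IsLocalRing.residue A a ≠ IsLocalRing.residue A r ^ p) →
          ξ * algebraMap A K π ^ n = algebraMap A K a → case4) := by
  classical
  intro g case1 case2 case3 case4
  haveI : Fact p.Prime := ⟨hp⟩
  have hp1 := hp.one_lt
  have hinjA := IsFractionRing.injective A K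
  have hirrπ : Irreducible π := (IsDiscreteValuationRing.irreducible_iff_uniformizer π).mpr hπ
  have hπ0 : algebraMap A K π ≠ 0 := (map_ne_zero_iff _ hinjA).mpr hirrπ.ne_zero
  haveI : CharZero A := charZero_of_injective_ringHom (f := Int.castRingHom A) (by
    intro a b h
    have h2 := congrArg (algebraMap A K) h
    simpa using h2)
  have hprim : IsPrimitiveRoot ζ p := by
    rw [← isRoot_cyclotomic_iff, IsRoot.def, ← map_cyclotomic_int, eval_map, ← algebraMap_int_eq, ← aeval_def, hζ]
  set w : A := 1 - ζ with hwdef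
  have hw0 : w ≠ 0 := sub_ne_zero.mpr (hprim.ne_one hp1).symm
  have hwm : w ∈ maximalIdeal A := by
    rw [← residue_eq_zero_iff]
    refine eq_zero_of_pow_eq_zero (n := p) ?_
    rw [map_sub, map_one, sub_pow_char, one_pow, ← map_pow, hprim.pow_eq_one, map_one, sub_self]
  obtain ⟨e', uw, hwe⟩ := IsDiscreteValuationRing.eq_unit_mul_pow_irreducible hw0 hirrπ
  have he'0 : 0 < e' := Nat.pos_of_ne_zero fun h => by
    rw [h, pow_zero, mul_one] at hwe
    exact hwm (hwe ▸ uw.isUnit)
  obtain ⟨v, hv, hvp⟩ : ∃ v : A, IsUnit v ∧ (p : A) = w ^ (p - 1) * v := by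
    obtain ⟨q, hq⟩ : ∃ q, p = q + 1 := ⟨p - 1, by omega⟩
    refine ⟨∏ k ∈ Finset.range q, ∑ i ∈ Finset.range (k + 1), ζ ^ i, IsUnit.prod_iff.mpr fun k hk => ?_, ?_⟩
    · rw [← residue_ne_zero_iff_isUnit, map_sum]
      have hζ1 : residue A ζ = 1 := by
        have h := (residue_eq_zero_iff w).mpr hwm
        rw [hwdef, map_sub, map_one, sub_eq_zero] at h
        exact h.symm
      simp only [map_pow, hζ1, one_pow, Finset.sum_const, Finset.card_range, nsmul_eq_mul, mul_one]
      rw [Ne, CharP.cast_eq_zero_iff (ResidueField A) p]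
      intro hd
      have := Nat.le_of_dvd k.succ_pos hd
      have := Finset.mem_range.mp hk
      omega
    · have h := (hq ▸ hprim).prod_one_sub_pow_eq_order
      rw [hq, Nat.add_sub_cancel, Nat.cast_succ, ← h, show w ^ q = ∏ _k ∈ Finset.range q, w by simp, ← Finset.prod_mul_distrib]
      refine Finset.prod_congr rfl fun k _ => ?_
      rw [hwdef, mul_neg_geom_sum]
  -- the polynomial
  have hcoef : ∀ i, w ^ p * P.coeff i = (p.choose i : A) * w ^ i - (1 : A[X]).coeff i := fun i => by
    have h := congrArg (coeff · i) hP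
    simp only [coeff_C_mul, coeff_sub] at h
    rw [show (1 + C w * X : A[X]) ^ p = ((X + 1) ^ p).comp (C w * X) by
      rw [pow_comp, add_comp, X_comp, one_comp, add_comm], comp_C_mul_X_coeff, coeff_X_add_one_pow] at h
    exact h
  have hPtop : P.coeff p = 1 := by
    have h := hcoef p
    rw [Nat.choose_self, Nat.cast_one, one_mul, coeff_one, if_neg hp.ne_zero, sub_zero] at h
    exact mul_left_cancel₀ (pow_ne_zero p hw0) (by rw [h, mul_one])
  have hPdeg : P.natDegree = p := by
    refine natDegree_eq_of_le_of_coeff_ne_zero (natDegree_le_iff_coeff_eq_zero.mpr fun i hi => ?_) (by rw [hPtop]; exact one_ne_zero)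
    have h := hcoef i
    rw [Nat.choose_eq_zero_of_lt hi, Nat.cast_zero, zero_mul, coeff_one, if_neg (by omega), sub_zero] at h
    exact (mul_eq_zero.mp h).resolve_left (pow_ne_zero p hw0)
  have hPm : P.Monic := by rw [Monic, leadingCoeff, hPdeg, hPtop]
  have hPd : derivative P = C v * (1 + C w * X) ^ (p - 1) := by
    refine mul_left_cancel₀ (C_ne_zero.mpr (pow_ne_zero p hw0)) ?_
    have hd : (derivative (1 + C w * X) : A[X]) = C w := by simp
    rw [← derivative_C_mul, hP, derivative_sub, derivative_one, sub_zero, derivative_pow, hd, hvp, map_mul, map_pow, map_pow]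
    have e : C w ^ p = C w ^ (p - 1) * C w := by rw [← pow_succ, Nat.sub_add_cancel hp.one_lt.le]
    rw [e]; ring
  -- facts in `L`
  set wK := algebraMap A K w with hwK
  have hwK0 : wK ≠ 0 := (map_ne_zero_iff _ hinjA).mpr hw0
  set wL := algebraMap A L w with hwL
  have hwLK : wL = algebraMap K L wK := IsScalarTower.algebraMap_apply A K L w
  have hwL0 : wL ≠ 0 := by rw [hwLK]; exact (_root_.map_ne_zero _).mpr hwK0
  have hPid : ∀ x : L, wL ^ p * aeval x P = (1 + wL * x) ^ p - 1 := fun x => by
    have h := congrArg (aeval x) hP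
    simpa only [map_mul, map_pow, map_sub, map_add, map_one, aeval_C, aeval_X, ← hwL] using h
  have hPidK : ∀ x : K, wK ^ p * aeval x P = (1 + wK * x) ^ p - 1 := fun x => by
    have h := congrArg (aeval x) hP
    simpa only [map_mul, map_pow, map_sub, map_add, map_one, aeval_C, aeval_X, ← hwK] using h
  set Y := 1 + wL * z with hYdef
  set u : K := 1 + wK ^ p * ξ with hudef
  have hY : Y ^ p = algebraMap K L u := by
    rw [hudef, map_add, map_one, map_mul, map_pow, ← hwLK, ← hz, hPid z]; ring
  have hzint : IsIntegral K z := by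
    refine ⟨P.map (algebraMap A K) - C ξ, (hPm.map _).sub_of_left (degree_C_le.trans_lt ?_), ?_⟩
    · rw [hPm.degree_map, degree_eq_natDegree hPm.ne_zero, hPdeg]; exact_mod_cast hp.pos
    · show eval₂ (algebraMap K L) z _ = 0
      rw [eval₂_sub, eval₂_map, eval₂_C, ← IsScalarTower.algebraMap_eq, ← aeval_def, hz, sub_self]
  have hgenz : ∀ x : L, ∃ q : K[X], aeval z q = x := fun x => by
    have hx : x ∈ Algebra.adjoin K ({z} : Set L) := by
      rw [← IntermediateField.adjoin_simple_toSubalgebra_of_isAlgebraic hzint.isAlgebraic, hgen]; exact Algebra.mem_top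
    rw [Algebra.adjoin_singleton_eq_range_aeval] at hx
    exact hx
  haveI : FiniteDimensional K L := by
    have := IntermediateField.adjoin.finiteDimensional hzint
    rw [hgen] at this
    exact IntermediateField.topEquiv.toLinearEquiv.finiteDimensional
  have hgen' : ∀ (c b : K), c ≠ 0 → ∀ x : L, ∃ q : K[X], aeval (algebraMap K L c * z + algebraMap K L b) q = x := by
    intro c b hc x
    obtain ⟨q, rfl⟩ := hgenz x
    refine ⟨q.comp (C c⁻¹ * (X - C b)), ?_⟩
    rw [aeval_comp, map_mul, map_sub, aeval_C, aeval_X, aeval_C, add_sub_cancel_right, ← mul_assoc, ← map_mul, inv_mul_cancel₀ hc, map_one, one_mul]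
  have hzY : z = (Y - 1) / wL := by rw [hYdef]; field_simp; ring
  have hYgen : ∀ c : K, c ≠ 0 → ∀ x : L, ∃ q : K[X], aeval (algebraMap K L c * Y) q = x := fun c hc x => by
    obtain ⟨q, hq⟩ := hgen' (c * wK) c (mul_ne_zero hc hwK0) x
    exact ⟨q, by rw [← hq, hYdef, hwLK, map_mul, mul_add, mul_one, mul_assoc, add_comm]⟩
  have hone : (∀ x : L, x ∈ (algebraMap K L).range) → case1 := fun h =>
    IntermediateField.bot_eq_top_iff_finrank_eq_one.mp (eq_top_iff.mpr fun x _ => IntermediateField.mem_bot.mpr (h x))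
  have hYK : ∀ y₀ : K, Y = algebraMap K L y₀ → case1 := fun y₀ h => hone fun x => by
    obtain ⟨q, rfl⟩ := hYgen 1 one_ne_zero x
    rw [map_one, one_mul, h, aeval_algebraMap_apply]
    exact ⟨_, rfl⟩
  have hprimK : IsPrimitiveRoot (algebraMap A K ζ) p := hprim.map_of_injective hinjA
  have hdeg : case1 ∨ (Irreducible (X ^ p - C u) ∧ Module.finrank K L = p) := by
    by_cases hex : ∃ y₀ : K, y₀ ^ p = u
    · obtain ⟨y₀, hy₀⟩ := hex
      left
      rcases eq_or_ne y₀ 0 with rfl | hy0
      · refine hYK 0 ?_
        rw [zero_pow hp.ne_zero] at hy₀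
        rw [← hy₀, map_zero] at hY
        rw [eq_zero_of_pow_eq_zero hY, map_zero]
      have h1 : (Y / algebraMap K L y₀) ^ p = 1 := by
        rw [div_pow, hY, ← map_pow, hy₀, div_self]
        exact (_root_.map_ne_zero _).mpr (by rw [← hy₀]; exact pow_ne_zero _ hy0)
      obtain ⟨i, -, hi⟩ := (hprimK.map_of_injective (algebraMap K L).injective).eq_pow_of_pow_eq_one h1
      refine hYK (algebraMap A K ζ ^ i * y₀) ?_
      rw [map_mul, map_pow, hi, div_mul_cancel₀]
      exact (_root_.map_ne_zero _).mpr hy0
    · right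
      push Not at hex
      have hirr := X_pow_sub_C_irreducible_of_prime hp hex
      refine ⟨hirr, ?_⟩
      have hYint : IsIntegral K Y := Algebra.IsIntegral.isIntegral Y
      have htop : IntermediateField.adjoin K {Y} = ⊤ := eq_top_iff.mpr fun x _ => by
        obtain ⟨q, rfl⟩ := hYgen 1 one_ne_zero x
        rw [map_one, one_mul]
        exact IntermediateField.algebra_adjoin_le_adjoin _ _ (aeval_mem_adjoin_singleton K Y)
      rw [← (IntermediateField.topEquiv (F := K) (E := L)).toLinearEquiv.finrank_eq, ← htop, IntermediateField.adjoin.finrank hYint,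
        ← minpoly.eq_of_irreducible_of_monic hirr (by rw [map_sub, map_pow, aeval_X, aeval_C, hY, sub_self]) (monic_X_pow_sub_C _ hp.ne_zero),
        natDegree_X_pow_sub_C]
  have hgal : IsGalois K L := by
    rcases hdeg with h | ⟨hirr, hpdim⟩
    · have hbij : Function.Bijective (algebraMap K L) := ⟨(algebraMap K L).injective, fun x => by
        have := (IntermediateField.bot_eq_top_iff_finrank_eq_one (F := K) (E := L)).mpr h
        exact IntermediateField.mem_bot.mp (this ▸ IntermediateField.mem_top)⟩
      exact IsGalois.of_algEquiv (AlgEquiv.ofBijective (Algebra.ofId K L) hbij)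
    · have hne : (primitiveRoots (Module.finrank K L) K).Nonempty :=
        ⟨_, (mem_primitiveRoots (hpdim ▸ hp.pos)).mpr (hpdim ▸ hprimK)⟩
      haveI := isSplittingField_X_pow_sub_C_of_root_adjoin_eq_top hne (a := u) (α := Y) (by rw [hpdim, hY]) (eq_top_iff.mpr fun x _ => by
        obtain ⟨q, rfl⟩ := hYgen 1 one_ne_zero x
        rw [map_one, one_mul]
        exact IntermediateField.algebra_adjoin_le_adjoin _ _ (aeval_mem_adjoin_singleton K Y))
      exact isGalois_of_isSplittingField_X_pow_sub_C hne (hpdim.symm ▸ hirr) L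
  have hsplit : Module.finrank K L = 1 ∨ Module.finrank K L = p := hdeg.imp id And.right
  -- (A), (B), (C) for a translated generator
  have hA : ∀ (c b ξ' : K) (a : A), c ≠ 0 → aeval (algebraMap K L c * z + algebraMap K L b) P = algebraMap K L ξ' →
      algebraMap A K a = ξ' → case1 ∨ case2 := by
    intro c b ξ' a hc hroot ha
    rcases hsplit with h | h
    · exact Or.inl h
    refine Or.inr ⟨unramified_of_sep (K := K) (P - C a) _ (hPm.sub_of_left (degree_C_le.trans_lt ?_)) ?_ ?_ π hπ (hgen' c b hc), h⟩
    · rw [degree_eq_natDegree hPm.ne_zero, hPdeg]; exact_mod_cast hp.pos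
    · rw [separable_def, derivative_map, derivative_sub, derivative_C, sub_zero, hPd, Polynomial.map_mul, map_C, Polynomial.map_pow,
        Polynomial.map_add, Polynomial.map_one, Polynomial.map_mul, map_C, (residue_eq_zero_iff w).mpr hwm, map_zero, zero_mul, add_zero,
        one_pow, mul_one]
      obtain ⟨vi, hvi⟩ := (hv.map (residue A)).exists_left_inv
      exact ⟨0, C vi, by rw [zero_mul, zero_add, ← C_mul, hvi, map_one]⟩
    · rw [map_sub, aeval_C, hroot, IsScalarTower.algebraMap_apply A K L, ha, sub_self]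
  have hB : ∀ (c b ξ' : K) (n : ℕ) (a : A), aeval (algebraMap K L c * z + algebraMap K L b) P = algebraMap K L ξ' →
      0 < n → ¬ p ∣ n → IsUnit a → ξ' * algebraMap A K π ^ n = algebraMap A K a → case3 := by
    intro c b ξ' n a hroot hn hpn hau he
    set y := algebraMap K L c * z + algebraMap K L b
    refine case3_of_val p hp hsplit π hπ y (-(n : ℤ)) (fun h => hpn (Int.natCast_dvd_natCast.mp ((dvd_neg).mp h))) fun V hV => ?_
    obtain ⟨hpos, hlt⟩ := val_pi (K := K) π hπ V hV
    obtain ⟨ua, rfl⟩ := hau
    have h2 : V.valuation (aeval y P) * V.valuation (algebraMap A L π) ^ n = 1 := by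
      rw [hroot, ← map_pow, ← map_mul, IsScalarTower.algebraMap_apply A K L π, ← map_pow, ← map_mul, he,
        ← IsScalarTower.algebraMap_apply, val_unit V hV]
    have hle : ∀ i, V.valuation (algebraMap A L (P.coeff i)) ≤ 1 := fun i => (V.valuation_le_one_iff _).mpr (hV.1 _)
    have hbig : 1 < V.valuation y := by
      by_contra hc
      rw [not_lt] at hc
      have h3 : V.valuation (aeval y P) ≤ 1 := by
        rw [aeval_eq_sum_range]
        refine Valuation.map_sum_le _ fun i _ => ?_
        rw [Algebra.smul_def, map_mul, map_pow]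
        exact mul_le_one₀ (hle i) zero_le (pow_le_one₀ zero_le hc)
      exact absurd h2 (ne_of_lt ((mul_le_of_le_one_left zero_le h3).trans_lt (pow_lt_one₀ zero_le hlt hn.ne')))
    have hdom : V.valuation (aeval y P) = V.valuation y ^ p := by
      rw [aeval_eq_sum_range, hPdeg, Finset.sum_range_succ, hPtop, one_smul, Valuation.map_add_eq_of_lt_right, map_pow]
      refine Valuation.map_sum_lt _ (by rw [map_pow]; exact pow_ne_zero _ (zero_lt_one.trans hbig).ne') fun i hi => ?_
      rw [Algebra.smul_def, map_mul, map_pow, map_pow]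
      exact (mul_le_of_le_one_left zero_le (hle i)).trans_lt (pow_lt_pow_right₀ hbig (Finset.mem_range.mp hi))
    rw [hdom] at h2
    rw [zpow_neg, zpow_natCast]
    exact eq_inv_of_mul_eq_one_left h2
  have hC : ∀ (c b ξ' : K) (n : ℕ) (a : A), c ≠ 0 → aeval (algebraMap K L c * z + algebraMap K L b) P = algebraMap K L ξ' →
      0 < n → p ∣ n → (∀ r : A, residue A a ≠ residue A r ^ p) → ξ' * algebraMap A K π ^ n = algebraMap A K a → case4 := by
    intro c b ξ' n a hc hroot hn hpn hres he
    obtain ⟨m, rfl⟩ := hpn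
    have hm : m ≠ 0 := (Nat.pos_of_mul_pos_left hn).ne'
    set s := algebraMap A K π ^ m with hs
    set y := algebraMap K L (s * c) * z + algebraMap K L (s * b) with hy
    have hy' : y = algebraMap K L s * (algebraMap K L c * z + algebraMap K L b) := by rw [hy, map_mul, map_mul]; ring
    have hsm : (P.scaleRoots (π ^ m)).Monic := (monic_scaleRoots_iff _).mpr hPm
    refine case4_of_insep p hp (P.scaleRoots (π ^ m) - C a) y (hsm.sub_of_left (degree_C_le.trans_lt ?_)) a ?_ hres ?_ π hπ
      (hgen' _ _ (mul_ne_zero (pow_ne_zero _ hπ0) hc))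
    · rw [degree_eq_natDegree hsm.ne_zero, natDegree_scaleRoots, hPdeg]; exact_mod_cast hp.pos
    · ext i
      rw [coeff_map, coeff_sub, map_sub, coeff_scaleRoots, hPdeg, coeff_sub, coeff_X_pow, ← coeff_map (residue A), map_C]
      congr 1
      rcases lt_trichotomy i p with h | rfl | h
      · have h0 : residue A π = 0 := (residue_eq_zero_iff π).mpr (hπ ▸ Ideal.mem_span_singleton_self π)
        rw [map_mul, map_pow, map_pow, h0, zero_pow hm, zero_pow (by omega), mul_zero, if_neg h.ne]
      · rw [hPtop, Nat.sub_self, pow_zero, mul_one, map_one, if_pos rfl]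
      · rw [coeff_eq_zero_of_natDegree_lt (by omega), zero_mul, map_zero, if_neg h.ne']
    · have e1 : algebraMap K L s = algebraMap A L (π ^ m) := by rw [hs, IsScalarTower.algebraMap_apply A K L, map_pow (algebraMap A K)]
      rw [map_sub, aeval_C, sub_eq_zero, aeval_def, hy', e1, scaleRoots_eval₂_mul, hPdeg, ← aeval_def, hroot,
        IsScalarTower.algebraMap_apply A K L a, ← he, map_mul, ← map_pow, ← pow_mul, map_pow, map_pow, IsScalarTower.algebraMap_apply A K L π,
        mul_comm m p]
      ring
  have hrefl : aeval (algebraMap K L 1 * z + algebraMap K L 0) P = algebraMap K L ξ := by rw [map_one, map_zero, one_mul, add_zero, hz]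
  refine ⟨hgal, ?_, fun ⟨a, ha⟩ => hA 1 0 ξ a one_ne_zero hrefl ha, fun n a hn hpn he => hB 1 0 ξ n a hrefl hn hpn a.isUnit he,
    fun n a hn hpn hres he => hC 1 0 ξ n a one_ne_zero hrefl hn hpn hres he⟩
  -- reduction of the pole order below `p e'`
  have main : ∀ (n : ℕ), n < p * e' → ∀ (c b ξ' : K) (a : A), c ≠ 0 → aeval (algebraMap K L c * z + algebraMap K L b) P = algebraMap K L ξ' →
      ξ' * algebraMap A K π ^ n = algebraMap A K a → case1 ∨ case2 ∨ case3 ∨ case4 := by
    intro n
    induction n with
    | zero =>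
      intro _ c b ξ' a hc hroot he
      rw [pow_zero, mul_one] at he
      rcases hA c b ξ' a hc hroot he.symm with h | h
      · exact Or.inl h
      · exact Or.inr (Or.inl h)
    | succ n ih =>
      intro hlt c b ξ' a hc hroot he
      by_cases hau : IsUnit a
      swap
      · obtain ⟨a', rfl⟩ := Ideal.mem_span_singleton.mp (hπ ▸ (mem_maximalIdeal a).mpr hau)
        refine ih (by omega) c b ξ' a' hc hroot (mul_right_cancel₀ hπ0 ?_)
        rw [mul_assoc, ← pow_succ, he, map_mul, mul_comm]
      by_cases hpn : p ∣ n + 1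
      swap
      · exact Or.inr (Or.inr (Or.inl (hB c b ξ' (n + 1) a hroot n.succ_pos hpn hau he)))
      by_cases hres : ∀ r : A, residue A a ≠ residue A r ^ p
      · exact Or.inr (Or.inr (Or.inr (hC c b ξ' (n + 1) a hc hroot n.succ_pos hpn hres he)))
      push Not at hres
      obtain ⟨r, hr⟩ := hres
      obtain ⟨m, hm⟩ := hpn
      have hme : m < e' := Nat.lt_of_mul_lt_mul_left (hm ▸ hlt : p * m < p * e')
      set β := -algebraMap A K r / algebraMap A K π ^ m with hβ
      obtain ⟨t, ht⟩ : ∃ t : A, 1 + wK * β = algebraMap A K (1 + π * t) := by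
        refine ⟨-(↑uw * π ^ (e' - m - 1) * r), ?_⟩
        have e : π * (↑uw * π ^ (e' - m - 1) * r) * π ^ m = w * r := by
          rw [hwe, show e' = 1 + (e' - m - 1) + m by omega, pow_add, pow_add]
          simp only [show 1 + (e' - m - 1) + m - m - 1 = e' - m - 1 by omega]
          ring
        rw [mul_neg, map_add, map_one, map_neg, hβ, add_right_inj, neg_div, mul_neg, neg_inj, mul_div_assoc',
          div_eq_iff (pow_ne_zero _ hπ0), ← map_mul, ← map_pow, ← map_mul, e]
      have hct : (1 + wK * β) ≠ 0 := by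
        rw [ht, map_ne_zero_iff _ hinjA]
        intro h0
        exact hirrπ.not_isUnit (IsUnit.of_mul_eq_one (-t) (by linear_combination -h0))
      have hE : algebraMap A K ((P.scaleRoots (π ^ m)).eval (-r)) = algebraMap A K π ^ (n + 1) * aeval β P := by
        rw [← eval₂_at_apply, show algebraMap A K (-r) = algebraMap A K (π ^ m) * β by
          rw [hβ, map_pow, mul_div_cancel₀ _ (pow_ne_zero _ hπ0), map_neg],
          scaleRoots_eval₂_mul, hPdeg, ← aeval_def, hm, map_pow, ← pow_mul, mul_comm m p]
      obtain ⟨a', ha'⟩ : π ∣ a * (1 + π * t) ^ p + (P.scaleRoots (π ^ m)).eval (-r) := by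
        have h0 : residue A π = 0 := (residue_eq_zero_iff π).mpr (hπ ▸ Ideal.mem_span_singleton_self π)
        have hm0 : m ≠ 0 := fun h => by rw [h, mul_zero] at hm; omega
        rw [← Ideal.mem_span_singleton, ← hπ, ← residue_eq_zero_iff, map_add, map_mul, map_pow, map_add, map_one, map_mul, h0, zero_mul,
          add_zero, one_pow, mul_one, hr, eval_eq_sum_range, natDegree_scaleRoots, hPdeg, map_sum, Finset.sum_range_succ,
          Finset.sum_eq_zero (s := Finset.range p) (fun i hi => by
            rw [map_mul, coeff_scaleRoots, hPdeg, map_mul, map_pow, map_pow, h0, zero_pow hm0,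
              zero_pow (by have := Finset.mem_range.mp hi; omega), mul_zero, zero_mul]), zero_add, coeff_scaleRoots, hPdeg, hPtop,
          Nat.sub_self, pow_zero, one_mul, map_mul, map_one, one_mul, map_pow, map_neg,
          ← add_pow_char, add_neg_cancel, zero_pow hp.ne_zero]
      refine ih (by omega) ((1 + wK * β) * c) ((1 + wK * β) * b + β) (ξ' * (1 + wK * β) ^ p + aeval β P) a' (mul_ne_zero hct hc) ?_ ?_
      · refine mul_left_cancel₀ (pow_ne_zero p hwL0) ?_
        rw [hPid]
        have h1 := hPid (algebraMap K L c * z + algebraMap K L b)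
        rw [hroot] at h1
        have h2 := congrArg (algebraMap K L) (hPidK β)
        simp only [map_mul, map_add, map_one, map_pow, map_sub, ← hwLK] at h2 ⊢
        have e : 1 + wL * ((1 + wL * algebraMap K L β) * algebraMap K L c * z + ((1 + wL * algebraMap K L β) * algebraMap K L b + algebraMap K L β)) =
            (1 + wL * algebraMap K L β) * (1 + wL * (algebraMap K L c * z + algebraMap K L b)) := by ring
        rw [e, mul_pow]
        linear_combination -(1 + wL * algebraMap K L β) ^ p * h1 - h2
      · refine mul_right_cancel₀ hπ0 ?_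
        rw [mul_assoc, ← pow_succ, add_mul, mul_comm (aeval β P), ← hE, mul_right_comm, he, ht, ← map_pow, ← map_mul, ← map_add, ha',
          map_mul, mul_comm]
  -- reduce to a unit congruent to one
  rcases eq_or_ne u 0 with h0 | h0
  · exact Or.inl (hYK 0 (by rw [map_zero]; exact eq_zero_of_pow_eq_zero (hY.trans (by rw [h0, map_zero]))))
  obtain ⟨N, a, ha⟩ := exists_unit_mul_zpow π hπ u h0
  by_cases hN : (p : ℤ) ∣ N
  swap
  · refine Or.inr (Or.inr (Or.inl (case3_of_val p hp hsplit π hπ Y N hN fun V hV => ?_)))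
    rw [← map_pow, hY, ha, map_mul, map_zpow₀, ← IsScalarTower.algebraMap_apply, ← IsScalarTower.algebraMap_apply, map_mul, map_zpow₀,
      val_unit V hV, one_mul]
  obtain ⟨k, rfl⟩ := hN
  set s := algebraMap A K π ^ (-k) with hs
  have hs0 : s ≠ 0 := zpow_ne_zero _ hπ0
  have hsu : (algebraMap K L s * Y) ^ p = algebraMap K L (algebraMap A K a) := by
    rw [mul_pow, hY, ← map_pow, ← map_mul, ha, hs, ← zpow_natCast, ← zpow_mul, mul_comm (algebraMap A K (a : A)), ← mul_assoc,
      ← zpow_add₀ hπ0, show -k * (p : ℤ) + (p : ℤ) * k = 0 by ring, zpow_zero, one_mul]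
  by_cases hres : ∀ r : A, residue A (a : A) ≠ residue A r ^ p
  · refine Or.inr (Or.inr (Or.inr (case4_of_insep p hp (X ^ p - C (a : A)) _ (monic_X_pow_sub_C _ hp.ne_zero) (a : A) (by simp) hres ?_ π hπ (hYgen s hs0))))
    rw [map_sub, map_pow, aeval_X, aeval_C, hsu, ← IsScalarTower.algebraMap_apply, sub_self]
  push Not at hres
  obtain ⟨r, hr⟩ := hres
  have hru : IsUnit r := by
    rw [← residue_ne_zero_iff_isUnit]
    intro hr0
    rw [hr0, zero_pow hp.ne_zero] at hr
    exact (residue_ne_zero_iff_isUnit _).mpr a.isUnit hr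
  obtain ⟨ru, rfl⟩ := hru
  obtain ⟨t, ht⟩ : π ∣ (a : A) * (↑ru⁻¹ : A) ^ p - 1 := by
    rw [← Ideal.mem_span_singleton, ← hπ, ← residue_eq_zero_iff, map_sub, map_mul, hr, map_one, map_pow, ← mul_pow, ← map_mul,
      Units.mul_inv, map_one, one_pow, sub_self]
  set c₀ := algebraMap A K (↑ru⁻¹ : A) * s with hc₀
  have hc₀0 : c₀ ≠ 0 := mul_ne_zero ((map_ne_zero_iff _ hinjA).mpr (Units.ne_zero _)) hs0
  have hpe : 1 ≤ p * e' := Nat.mul_pos hp.pos he'0
  set a₁ : A := (↑uw⁻¹ : A) ^ p * t with ha₁
  have key : (algebraMap A K ((a : A) * (↑ru⁻¹ : A) ^ p - 1) / wK ^ p) * algebraMap A K π ^ (p * e' - 1) = algebraMap A K a₁ := by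
    have h : ((a : A) * (↑ru⁻¹ : A) ^ p - 1) * π ^ (p * e' - 1) = a₁ * w ^ p := by
      rw [ht, ha₁, hwe, mul_pow, ← pow_mul, mul_comm e' p]
      have e1 : π * π ^ (p * e' - 1) = π ^ (p * e') := by rw [← pow_succ', Nat.sub_add_cancel hpe]
      have e2 : (↑uw⁻¹ : A) ^ p * (uw : A) ^ p = 1 := by rw [← mul_pow, Units.inv_mul, one_pow]
      linear_combination t * e1 - t * π ^ (p * e') * e2
    rw [div_mul_eq_mul_div, div_eq_iff (pow_ne_zero _ hwK0), hwK, ← map_pow, ← map_pow, ← map_mul, ← map_mul, h]
  refine main (p * e' - 1) (by omega) c₀ ((c₀ - 1) / wK) (algebraMap A K ((a : A) * (↑ru⁻¹ : A) ^ p - 1) / wK ^ p) a₁ hc₀0 ?_ key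
  refine mul_left_cancel₀ (pow_ne_zero p hwL0) ?_
  rw [hPid, map_div₀, map_div₀, map_pow, ← hwLK, mul_div_cancel₀ _ (pow_ne_zero _ hwL0), mul_add, mul_div_cancel₀ _ hwL0]
  rw [show 1 + (wL * (algebraMap K L c₀ * z) + algebraMap K L (c₀ - 1)) = algebraMap K L c₀ * Y by rw [hYdef, map_sub, map_one]; ring,
    hc₀, map_mul (algebraMap K L), mul_assoc, mul_pow, hsu]
  simp only [map_sub, map_mul, map_pow, map_one]
  ring

end Groth.Agent.S7159
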