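import Groth.Statements.S7160
import Mathlib
-- import your own Groth.Agent.* helpers here

set_option autoImplicit false
universe u
open CategoryTheory CategoryTheory.Pretriangulated
attribute [local instance] HasDerivedCategory.standard
open CAlg

namespace Groth.Agent.S7160

open CategoryTheory

theorem homologyMap_smul {R : Type*} [Ring R] {C : Type*} [Category C] [Abelian C] [Linear R C]
    {K L : CochainComplex C ℤ} (f : R) (φ : K ⟶ L) (i : ℤ) :
    HomologicalComplex.homologyMap (f • φ) i = f • HomologicalComplex.homologyMap φ i :=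
  ShortComplex.homologyMap_smul ((HomologicalComplex.shortComplexFunctor C _ i).map φ) f

universe w₁ v₁ u₁

theorem homologyFunctor_map_smul_id (R : Type*) [Ring R] (C : Type u₁) [Category.{v₁} C] [Abelian C]
    [Linear R C] [HasDerivedCategory.{w₁} C] (f : R) (M : DerivedCategory C) (i : ℤ) :
    (DerivedCategory.homologyFunctor C i).map (f • 𝟙 M) =
      f • 𝟙 ((DerivedCategory.homologyFunctor C i).obj M) := by
  obtain ⟨K, ⟨e⟩⟩ : ∃ K, Nonempty (DerivedCategory.Q.obj K ≅ M) :=
    ⟨_, ⟨DerivedCategory.Q.objObjPreimageIso M⟩⟩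
  have h1 : (DerivedCategory.homologyFunctor C i).map (DerivedCategory.Q.map (f • 𝟙 K)) =
      f • 𝟙 ((DerivedCategory.homologyFunctor C i).obj (DerivedCategory.Q.obj K)) := by
    rw [← cancel_mono ((DerivedCategory.homologyFunctorFactors C i).hom.app K),
      DerivedCategory.homologyFunctorFactors_hom_naturality, homologyMap_smul,
      HomologicalComplex.homologyMap_id, Linear.smul_comp, Category.id_comp]
    erw [Linear.comp_smul, Category.comp_id]
    rfl
  have h3 : f • 𝟙 M = e.inv ≫ DerivedCategory.Q.map (f • 𝟙 K) ≫ e.hom := by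
    rw [Functor.map_smul, CategoryTheory.Functor.map_id, Linear.smul_comp, Category.id_comp,
      Linear.comp_smul, e.inv_hom_id]
  rw [h3, Functor.map_comp, Functor.map_comp, h1, Linear.smul_comp, Category.id_comp,
    Linear.comp_smul, ← Functor.map_comp, e.inv_hom_id, CategoryTheory.Functor.map_id]

end Groth.Agent.S7160

namespace Groth.Agent.S7160

/-- Let R be a ring, f an element of R, M an object of D(R) and C the cone of f : M → M. Suppose that
H^i(M)_f = 0 whenever i < 0 (every element of H^i(M) is killed by a power of f) and that H^i(C) = 0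
whenever i < -1. Then H^i(M) vanishes for every i < 0. -/
theorem result (R : Type u) [CommRing R] (f : R) (M C : Dual.D R)
    (g : M ⟶ C) (h : C ⟶ M⟦(1 : ℤ)⟧) (hT : Triangle.mk (f • 𝟙 M) g h ∈ distinguishedTriangles)
    (hloc : ∀ i : ℤ, i < 0 → ∀ x : Dual.HD R M i, ∃ n : ℕ, f ^ n • x = 0)
    (hC : ∀ i : ℤ, i < -1 → Subsingleton (Dual.HD R C i)) :
    ∀ i : ℤ, i < 0 → Subsingleton (Dual.HD R M i) := by
  have map_smul_id : ∀ i : ℤ, (DerivedCategory.homologyFunctor (ModuleCat.{u} R) i).map (f • 𝟙 M) =
      f • 𝟙 ((DerivedCategory.homologyFunctor (ModuleCat.{u} R) i).obj M) :=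
    fun i => homologyFunctor_map_smul_id R (ModuleCat.{u} R) f M i
  intro i hi
  have hz : Limits.IsZero ((DerivedCategory.homologyFunctor (ModuleCat.{u} R) (i - 1)).obj C) :=
    haveI := hC (i - 1) (by omega)
    ModuleCat.isZero_of_subsingleton _
  have hex := DerivedCategory.HomologySequence.exact₁ _ hT (i - 1) i (by omega)
  rw [ShortComplex.moduleCat_exact_iff] at hex
  have hinj : ∀ y : Dual.HD R M i, f • y = 0 → y = 0 := by
    intro y hy
    obtain ⟨z, hz'⟩ := hex y (by
      change (((DerivedCategory.homologyFunctor (ModuleCat.{u} R) i).map (f • 𝟙 M))).hom y = 0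
      rw [map_smul_id]
      exact hy)
    rw [← hz', show z = 0 from
      @Subsingleton.elim _ (ModuleCat.subsingleton_of_isZero hz) _ _, map_zero]
    rfl
  refine ⟨fun x y => ?_⟩
  suffices h0 : ∀ z : Dual.HD R M i, z = 0 by rw [h0 x, h0 y]
  intro z
  obtain ⟨n, hn⟩ := hloc i hi z
  induction n generalizing z with
  | zero => simpa using hn
  | succ n ih => exact hinj z (ih (f • z) (by rwa [smul_smul, ← pow_succ]))

end Groth.Agent.S7160
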