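import Groth.Statements.S7161
import Mathlib
-- import your own Groth.Agent.* helpers here

set_option autoImplicit false
universe u
open CategoryTheory
open CAlg

namespace Groth.Agent.S7161

open CategoryTheory MonoidalCategory Limits

variable {A : Type u} [CommRing A] {N : ModuleCat.{u} A} (P : ProjectiveResolution N)

/-- The complex `X ⊗ P`. -/
noncomputable abbrev cx (X : ModuleCat.{u} A) : ChainComplex (ModuleCat.{u} A) ℕ :=
  (((tensoringLeft (ModuleCat.{u} A)).obj X).mapHomologicalComplex _).obj P.complex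

/-- The map `X ⊗ P ⟶ X' ⊗ P`. -/
noncomputable abbrev cxMap {X X' : ModuleCat.{u} A} (g : X ⟶ X') : cx P X ⟶ cx P X' :=
  (NatTrans.mapHomologicalComplex ((tensoringLeft (ModuleCat.{u} A)).map g) _).app P.complex

/-- `g` kills `Tor(-, N)`. -/
def Zero {X X' : ModuleCat.{u} A} (g : X ⟶ X') : Prop :=
  ∀ p, HomologicalComplex.homologyMap (cxMap P g) p = 0

lemma cxMap_comp {X X' X'' : ModuleCat.{u} A} (g : X ⟶ X') (h : X' ⟶ X'') :
    cxMap P (g ≫ h) = cxMap P g ≫ cxMap P h := by
  apply HomologicalComplex.hom_ext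
  intro j
  simp [cxMap]

lemma Zero.comp_left {X X' X'' : ModuleCat.{u} A} (g : X ⟶ X') {h : X' ⟶ X''} (hh : Zero P h) :
    Zero P (g ≫ h) := fun p => by
  rw [cxMap_comp, HomologicalComplex.homologyMap_comp, hh p, comp_zero]

lemma Zero.comp_right {X X' X'' : ModuleCat.{u} A} {g : X ⟶ X'} (hg : Zero P g) (h : X' ⟶ X'') :
    Zero P (g ≫ h) := fun p => by
  rw [cxMap_comp, HomologicalComplex.homologyMap_comp, hg p, zero_comp]

lemma zero_of_eq_zero {X X' : ModuleCat.{u} A} {g : X ⟶ X'} (hg : g = 0) : Zero P g := fun p => by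
  have : cxMap P g = 0 := by
    apply HomologicalComplex.hom_ext
    intro j
    subst hg
    simp [cxMap] <;> rfl
  rw [this, HomologicalComplex.homologyMap_zero]

lemma zero_smul_id {f : A} (hf : ∀ y : N, f • y = 0) (X : ModuleCat.{u} A) : Zero P (f • 𝟙 X) := by
  intro p
  let φ : P.complex ⟶ P.complex :=
    { f := fun j => f • 𝟙 (P.complex.X j)
      comm' := fun i j _ => by rw [Linear.comp_smul, Linear.smul_comp, Category.comp_id, Category.id_comp] }
  have hφ : φ ≫ P.π = 0 := by
    apply HomologicalComplex.to_single_hom_ext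
    simp only [HomologicalComplex.comp_f, HomologicalComplex.zero_f, φ, Linear.smul_comp, Category.id_comp]
    apply ModuleCat.hom_ext
    apply LinearMap.ext
    intro x
    exact hf ((P.π.f 0).hom x)
  let H := ((tensoringLeft (ModuleCat.{u} A)).obj X).mapHomotopy (ProjectiveResolution.liftHomotopyZero φ hφ)
  have h1 : cxMap P (f • 𝟙 X) =
      (((tensoringLeft (ModuleCat.{u} A)).obj X).mapHomologicalComplex _).map φ := by
    apply HomologicalComplex.hom_ext
    intro j
    simp [cxMap, φ]
  rw [h1, H.homologyMap_eq p, Functor.map_zero, HomologicalComplex.homologyMap_zero]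

lemma mono_of_zero {S : ShortComplex (ModuleCat.{u} A)} (hS : S.ShortExact) (h : Zero P S.f) (p : ℕ) :
    Mono (HomologicalComplex.homologyMap (cxMap P S.g) p) := by
  let T : ShortComplex (ChainComplex (ModuleCat.{u} A) ℕ) :=
    ShortComplex.mk (cxMap P S.f) (cxMap P S.g) (by
      rw [← cxMap_comp, S.zero]
      apply HomologicalComplex.hom_ext
      intro j
      simp [cxMap] <;> rfl)
  have hT : T.ShortExact := by
    apply HomologicalComplex.shortExact_of_degreewise_shortExact
    intro j
    haveI : Module.Projective A (P.complex.X j) := (IsProjective.iff_projective _).2 (P.projective j)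
    haveI : Module.Flat A (P.complex.X j) := Module.Flat.of_projective
    have hex := (ShortComplex.ShortExact.moduleCat_exact_iff_function_exact S).1 hS.exact
    have hinj := (ModuleCat.mono_iff_injective _).1 hS.mono_f
    have hsurj := (ModuleCat.epi_iff_surjective _).1 hS.epi_g
    refine ShortComplex.ShortExact.mk' ?_ ?_ ?_
    · rw [ShortComplex.ShortExact.moduleCat_exact_iff_function_exact]
      exact Module.Flat.rTensor_exact _ hex
    · rw [ModuleCat.mono_iff_injective]
      exact Module.Flat.rTensor_preserves_injective_linearMap _ hinj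
    · rw [ModuleCat.epi_iff_surjective]
      exact LinearMap.rTensor_surjective _ hsurj
  exact (hT.homology_exact₂ p).mono_g (h p)

theorem exists_zero [IsNoetherianRing A] (I : Ideal A) (hN : ∀ a ∈ I, ∀ y : N, a • y = 0) :
    ∀ (fs : List A), (∀ f ∈ fs, f ∈ I) → ∀ (M : Type u) [AddCommGroup M] [Module A M] [Module.Finite A M],
      I ≤ (Module.annihilator A M ⊔ Ideal.span {a | a ∈ fs}).radical →
      ∃ n : ℕ, ∀ m, n ≤ m → Zero P (ModuleCat.ofHom (I ^ m • ⊤ : Submodule A M).subtype) := by
  intro fs
  induction fs with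
  | nil =>
    intro _ M _ _ _ hM
    simp only [List.not_mem_nil, Set.setOf_false, Ideal.span_empty, sup_bot_eq] at hM
    obtain ⟨n, hn⟩ := Ideal.exists_pow_le_of_le_radical_of_fg hM (IsNoetherian.noetherian I)
    refine ⟨n, fun m hm => zero_of_eq_zero P ?_⟩
    ext ⟨x, hx⟩
    have : x ∈ (Module.annihilator A M • ⊤ : Submodule A M) :=
      Submodule.smul_mono_left ((Ideal.pow_le_pow_right hm).trans hn) hx
    have hbot : (Module.annihilator A M • ⊤ : Submodule A M) = ⊥ :=
      le_bot_iff.1 (Submodule.smul_le.2 fun r hr y _ => (Submodule.mem_bot A).2 (Module.mem_annihilator.1 hr y))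
    rw [hbot, Submodule.mem_bot] at this
    exact this
  | cons f fs ih =>
    intro hfs M _ _ _ hM
    let K : ℕ →o Submodule A M :=
      ⟨fun j => LinearMap.ker (LinearMap.lsmul A M (f ^ j)), fun a b hab x hx => by
        simp only [LinearMap.mem_ker, LinearMap.lsmul_apply] at hx ⊢
        rw [← Nat.sub_add_cancel hab, pow_add, mul_smul, hx, smul_zero]⟩
    obtain ⟨c, hc⟩ := monotone_stabilizes_iff_noetherian.2 inferInstance K
    let Mk : ℕ → Submodule A M := fun j => LinearMap.range (LinearMap.lsmul A M (f ^ j))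
    have hle : Mk (c + 1) ≤ Mk c := by
      rintro _ ⟨x, rfl⟩
      exact ⟨f • x, by simp [pow_succ, mul_smul, smul_comm f]⟩
    let mulf : Mk c →ₗ[A] Mk (c + 1) := LinearMap.codRestrict _ (f • (Mk c).subtype) fun y => by
      obtain ⟨x, hx⟩ := y.2
      exact ⟨x, by simp [← hx, pow_succ', mul_smul]⟩
    have hbij : Function.Bijective mulf := by
      constructor
      · rw [injective_iff_map_eq_zero]
        rintro ⟨_, x, rfl⟩ hy
        have hx : x ∈ K (c + 1) := by
          have := congrArg Subtype.val hy
          simpa [K, mulf, pow_succ', mul_smul] using this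
        rw [← hc (c + 1) (Nat.le_succ c)] at hx
        exact Subtype.ext hx
      · rintro ⟨_, x, rfl⟩
        exact ⟨⟨f ^ c • x, x, rfl⟩, Subtype.ext (by simp [mulf, pow_succ', mul_smul])⟩
    let e := LinearEquiv.ofBijective mulf hbij
    have hzero : Zero P (ModuleCat.ofHom (Mk (c + 1)).subtype) := by
      have : ModuleCat.ofHom (Mk (c + 1)).subtype = ModuleCat.ofHom e.symm.toLinearMap ≫
          (f • 𝟙 (ModuleCat.of A (Mk c))) ≫ ModuleCat.ofHom (Mk c).subtype := by
        ext y
        exact (congrArg Subtype.val (e.apply_symm_apply y)).symm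
      rw [this]
      exact Zero.comp_left P _ (Zero.comp_right P (zero_smul_id P (hN f (hfs f List.mem_cons_self)) _) _)
    let M1 := M ⧸ Mk (c + 1)
    have hM1 : I ≤ (Module.annihilator A M1 ⊔ Ideal.span {a | a ∈ fs}).radical := by
      refine hM.trans (Ideal.radical_le_radical_iff.2 (sup_le ?_ ?_))
      · intro a ha
        refine Ideal.le_radical (Ideal.mem_sup_left (Module.mem_annihilator.2 fun y => ?_))
        obtain ⟨x, rfl⟩ := (Mk (c + 1)).mkQ_surjective y
        rw [← map_smul, Module.mem_annihilator.1 ha x, map_zero]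
      · rw [Ideal.span_le]
        intro a ha
        rcases List.mem_cons.1 ha with rfl | ha
        · refine ⟨c + 1, Ideal.mem_sup_left (Module.mem_annihilator.2 fun y => ?_)⟩
          obtain ⟨x, rfl⟩ := (Mk (c + 1)).mkQ_surjective y
          rw [← map_smul]
          exact (Submodule.Quotient.mk_eq_zero _).2 ⟨x, rfl⟩
        · exact Ideal.le_radical (Ideal.mem_sup_right (Ideal.subset_span ha))
    obtain ⟨n, hn⟩ := ih (fun a ha => hfs a (List.mem_cons_of_mem _ ha)) M1 hM1
    refine ⟨n, fun m hm => ?_⟩
    let q : M →ₗ[A] M1 := (Mk (c + 1)).mkQ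
    let qm : (I ^ m • ⊤ : Submodule A M) →ₗ[A] (I ^ m • ⊤ : Submodule A M1) :=
      LinearMap.codRestrict _ (q ∘ₗ Submodule.subtype _) fun x => by
        have h := Submodule.mem_map_of_mem (f := q) x.2
        rw [Submodule.map_smul''] at h
        exact Submodule.smul_mono le_rfl le_top h
    have hcomp : ModuleCat.ofHom (I ^ m • ⊤ : Submodule A M).subtype ≫ ModuleCat.ofHom q =
        ModuleCat.ofHom qm ≫ ModuleCat.ofHom (I ^ m • ⊤ : Submodule A M1).subtype := rfl
    intro p
    have := mono_of_zero P (S := ShortComplex.mk (ModuleCat.ofHom (Mk (c + 1)).subtype) (ModuleCat.ofHom q)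
      (by ext x; exact (Submodule.Quotient.mk_eq_zero _).2 x.2))
      (ShortComplex.ShortExact.mk' (by
          rw [ShortComplex.ShortExact.moduleCat_exact_iff_function_exact]
          exact LinearMap.exact_subtype_mkQ _)
        ((ModuleCat.mono_iff_injective _).2 (Mk (c + 1)).injective_subtype)
        ((ModuleCat.epi_iff_surjective _).2 (Mk (c + 1)).mkQ_surjective)) hzero p
    rw [← cancel_mono (HomologicalComplex.homologyMap (cxMap P (ModuleCat.ofHom q)) p), zero_comp,
      ← HomologicalComplex.homologyMap_comp, ← cxMap_comp, hcomp]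
    exact Zero.comp_left P _ (hn m hm) p

end Groth.Agent.S7161

namespace Groth.Agent.S7161

/-- Let A be a Noetherian ring, I an ideal, M a finite A-module and N an A-module annihilated by I. Then
there is an integer n > 0 such that the maps Tor_p^A(IⁿM, N) → Tor_p^A(M, N) induced by IⁿM ⊆ M are
zero for all p ≥ 0. -/
theorem result (A : Type u) [CommRing A] [IsNoetherianRing A] (I : Ideal A)
    (M N : Type u) [AddCommGroup M] [Module A M] [Module.Finite A M] [AddCommGroup N] [Module A N]
    (hN : ∀ a ∈ I, ∀ y : N, a • y = 0) :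
    ∃ n : ℕ, 0 < n ∧ ∀ p : ℕ,
      ((CategoryTheory.Tor (ModuleCat.{u} A) p).map (ModuleCat.ofHom (I ^ n • ⊤ : Submodule A M).subtype)).app
        (ModuleCat.of A N) = 0 := by
  obtain ⟨s, hs⟩ := IsNoetherian.noetherian I
  let P := CategoryTheory.projectiveResolution (ModuleCat.of A N)
  obtain ⟨n, hn⟩ := Groth.Agent.S7161.exists_zero P I hN s.toList
    (fun f hf => hs ▸ Ideal.subset_span (Finset.mem_toList.1 hf)) M (by
      refine le_trans ?_ Ideal.le_radical
      refine le_trans (le_of_eq ?_) le_sup_right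
      simp [← hs, Ideal.span])
  refine ⟨n + 1, Nat.succ_pos n, fun p => ?_⟩
  rw [CategoryTheory.Tor_map, CategoryTheory.ProjectiveResolution.leftDerived_app_eq _ P]
  have h := hn (n + 1) (Nat.le_succ n) p
  simp only [HomologicalComplex.homologyFunctor_map]
  erw [h, Limits.zero_comp, Limits.comp_zero]
  rfl

end Groth.Agent.S7161
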