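import Groth.Statements.S7164
import Mathlib
import Groth.Agent.PCExt.Basic
-- import your own Groth.Agent.* helpers here

set_option autoImplicit false
universe u
open CategoryTheory
attribute [local instance] HasDerivedCategory.standard
open CAlg

open Groth.Agent.PCExt in
/-- Key lemma: a family of torsion gives a uniform bound making cycles with small values boundaries. -/
lemma Groth.Agent.S7164.exists_boundary {A : Type u} [CommRing A] [IsNoetherianRing A] {I : Ideal A}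
    {K : Dual.D A} {E : DRing.Cx A} [E.IsKProjective] (hfree : DRing.TermwiseFiniteFree E)
    (iso : DRing.toD E ≅ K) (p : ℤ) (M : Type u) [AddCommGroup M] [Module A M] [Module.Finite A M]
    (htors : ∀ e : K ⟶ (Dual.inD A M)⟦p⟧, ∃ n : ℕ, ∀ x ∈ I ^ n, x • e = 0) :
    ∃ d : ℕ, ∀ φ : E.X (-p) ⟶ ModuleCat.of A M, E.d (-p - 1) (-p) ≫ φ = 0 →
      (∀ x, φ.hom x ∈ (I ^ d • ⊤ : Submodule A M)) →
      ∃ g : E.X (-p + 1) ⟶ ModuleCat.of A M, E.d (-p) (-p + 1) ≫ g = φ := by
  classical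
  have hfin := finite_ext hfree M iso p
  obtain ⟨s, hs⟩ := hfin.fg_top
  choose N hN using htors
  obtain ⟨c, hc⟩ := exists_cls_mem hfree M iso I p
  have hkill : ∀ x ∈ I ^ s.sup N, ∀ e : K ⟶ (Dual.inD A M)⟦p⟧, x • e = 0 := by
    intro x hx e
    have he : e ∈ Submodule.span A (s : Set (K ⟶ (Dual.inD A M)⟦p⟧)) := hs ▸ Submodule.mem_top
    induction he using Submodule.span_induction with
    | mem y hy => exact hN y x (Ideal.pow_le_pow_right (Finset.le_sup hy) hx)
    | zero => exact smul_zero x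
    | add a b _ _ ha hb => rw [smul_add, ha, hb, add_zero]
    | smul r a _ ha => rw [smul_comm, ha, smul_zero]
  refine ⟨c + s.sup N, fun φ hφ hφn => ?_⟩
  rw [← cls_eq_zero_iff iso p φ hφ]
  have h := hc _ (Nat.le_add_right c _) φ hφ hφn
  rw [Nat.add_sub_cancel_left] at h
  generalize cls iso p φ hφ = z at h ⊢
  induction h using Submodule.smul_induction_on' with
  | smul r hr e _ => exact hkill r hr e
  | add x _ y _ hx hy => rw [hx, hy, add_zero]

namespace Groth.Agent.S7164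

/-- Let A be a Noetherian ring, I an ideal, K a pseudo-coherent object of D(A) and a an integer. Assume
that for every finite A-module M and every i ≥ a the module Ext^i_A(K, M) is I-power torsion. Then
for i ≥ a and M finite the inverse system (Ext^i_A(K, M/IⁿM))_n is essentially constant with value
Ext^i_A(K, M) (so that Ext^i_A(K, M) = lim Ext^i_A(K, M/IⁿM)): concretely, some comparison map
Ext^i(K, M) → Ext^i(K, M/I^mM) is injective and for every n there is m' ≥ n such that the image of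
the transition map Ext^i(K, M/I^(m')M) → Ext^i(K, M/IⁿM) is contained in the image of Ext^i(K, M).
Here Ext^i(K, X) = Hom_{D(A)}(K, X[i]). -/
theorem result (A : Type u) [CommRing A] [IsNoetherianRing A]
    (I : Ideal A) (K : Dual.D A) (hK : DRing.IsPseudoCoherent' A K) (a : ℤ)
    (htors : ∀ (M : Type u) [AddCommGroup M] [Module A M], Module.Finite A M → ∀ i : ℤ, a ≤ i →
      ∀ e : K ⟶ (Dual.inD A M)⟦i⟧, ∃ n : ℕ, ∀ x ∈ I ^ n, x • e = 0)
    (M : Type u) [AddCommGroup M] [Module A M] [Module.Finite A M] (i : ℤ) (hi : a ≤ i) :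
    let Mq : ℕ → Submodule A M := fun n => I ^ n • ⊤
    let c : ∀ n : ℕ, (K ⟶ (Dual.inD A M)⟦i⟧) → (K ⟶ (Dual.inD A (M ⧸ Mq n))⟦i⟧) :=
      fun n e => e ≫ ((DerivedCategory.singleFunctor (ModuleCat.{u} A) 0).map (ModuleCat.ofHom (Mq n).mkQ))⟦i⟧'
    let t : ∀ n m : ℕ, n ≤ m → (K ⟶ (Dual.inD A (M ⧸ Mq m))⟦i⟧) → (K ⟶ (Dual.inD A (M ⧸ Mq n))⟦i⟧) :=
      fun n m hnm e => e ≫ ((DerivedCategory.singleFunctor (ModuleCat.{u} A) 0).map (ModuleCat.ofHom
        (Submodule.mapQ (Mq m) (Mq n) (LinearMap.id : M →ₗ[A] M) (Submodule.smul_mono_left (Ideal.pow_le_pow_right hnm)))))⟦i⟧'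
    (∃ m : ℕ, Function.Injective (c m)) ∧
      ∀ n : ℕ, ∃ (m' : ℕ) (hnm : n ≤ m'), Set.range (t n m' hnm) ⊆ Set.range (c n) := by
  obtain ⟨E, b, hb, hfree, ⟨iso⟩⟩ := hK
  have := Groth.Agent.PCExt.isKProjective_of_free b hb hfree
  have hproj : ∀ j, Module.Projective A (E.X j) := fun j =>
    have := (hfree j).2
    Module.Projective.of_free
  intro Mq c t
  have hlift : ∀ (j : ℤ) (n : ℕ) (φ : E.X j ⟶ ModuleCat.of A (M ⧸ Mq n)),
      ∃ φ' : E.X j ⟶ ModuleCat.of A M, φ' ≫ ModuleCat.ofHom (Mq n).mkQ = φ := fun j n φ => by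
    obtain ⟨φ', h⟩ := Module.projective_lifting_property (Mq n).mkQ φ.hom (Mq n).mkQ_surjective
    exact ⟨ModuleCat.ofHom φ', ModuleCat.hom_ext h⟩
  have hmem : ∀ (j : ℤ) (n : ℕ) (φ : E.X j ⟶ ModuleCat.of A M),
      φ ≫ ModuleCat.ofHom (Mq n).mkQ = 0 → ∀ x, φ.hom x ∈ Mq n := fun j n φ h x => by
    have := congrArg (fun f => f.hom x) h
    exact (Submodule.Quotient.mk_eq_zero (Mq n)).1 this
  constructor
  · obtain ⟨d, hd⟩ := Groth.Agent.S7164.exists_boundary hfree iso i M (htors M inferInstance i hi)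
    refine ⟨d, fun e₁ e₂ h => ?_⟩
    rw [← sub_eq_zero]
    obtain ⟨φ, hφ, he⟩ := Groth.Agent.PCExt.cls_surjective iso i (e₁ - e₂)
    have h' : (e₁ - e₂) ≫ ((DerivedCategory.singleFunctor (ModuleCat.{u} A) 0).map
        (ModuleCat.ofHom (Mq d).mkQ))⟦i⟧' = 0 := by
      rw [Preadditive.sub_comp, sub_eq_zero]
      exact h
    rw [← he, Groth.Agent.PCExt.cls_comp, Groth.Agent.PCExt.cls_eq_zero_iff] at h'
    obtain ⟨g, hg⟩ := h'
    obtain ⟨g', hg'⟩ := hlift _ d g
    have h0 : (φ - E.d _ _ ≫ g') ≫ ModuleCat.ofHom (Mq d).mkQ = 0 := by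
      rw [Preadditive.sub_comp, Category.assoc, hg', hg, sub_self]
    obtain ⟨g₂, hg₂⟩ := hd (φ - E.d _ _ ≫ g')
      (by rw [Preadditive.comp_sub, hφ, HomologicalComplex.d_comp_d_assoc, Limits.zero_comp, sub_zero])
      (hmem _ d _ h0)
    rw [← he, Groth.Agent.PCExt.cls_eq_zero_iff]
    exact ⟨g₂ + g', by rw [Preadditive.comp_add, hg₂, sub_add_cancel]⟩
  · intro n
    obtain ⟨d, hd⟩ := Groth.Agent.S7164.exists_boundary hfree iso (i + 1) (Mq n)
      (htors (Mq n) inferInstance (i + 1) (by omega))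
    refine ⟨d + n, Nat.le_add_left n d, ?_⟩
    rintro _ ⟨e, rfl⟩
    obtain ⟨φ, hφ, he⟩ := Groth.Agent.PCExt.cls_surjective iso i e
    obtain ⟨φ', hφ'⟩ := hlift _ (d + n) φ
    have hle : Mq (d + n) ≤ Mq n := Submodule.smul_mono_left (Ideal.pow_le_pow_right (Nat.le_add_left n d))
    have e1 : -(i + 1) = -i - 1 := by ring
    have hd1 : ∀ (X : ModuleCat.{u} A) (f : E.X (-i) ⟶ X),
        E.d (-(i + 1)) (-i) ≫ f = 0 ↔ E.d (-i - 1) (-i) ≫ f = 0 := fun X f => by
      have aux : ∀ q q' : ℤ, q = q' → (E.d q (-i) ≫ f = 0 ↔ E.d q' (-i) ≫ f = 0) := by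
        rintro q _ rfl; exact Iff.rfl
      exact aux _ _ e1
    haveI : Mono (ModuleCat.ofHom (Mq n).subtype) :=
      (ModuleCat.mono_iff_injective _).2 (Mq n).injective_subtype
    let δ : E.X (-(i + 1)) ⟶ ModuleCat.of A M := E.d (-(i + 1)) (-i) ≫ φ'
    have hδ : ∀ x, δ.hom x ∈ Mq (d + n) := hmem _ (d + n) δ (by
      simp only [δ, Category.assoc, hφ']; exact (hd1 _ φ).2 hφ)
    let δn : E.X (-(i + 1)) ⟶ ModuleCat.of A (Mq n) :=
      ModuleCat.ofHom (LinearMap.codRestrict (Mq n) δ.hom fun x => hle (hδ x))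
    have hδn : δn ≫ ModuleCat.ofHom (Mq n).subtype = δ := by ext x; rfl
    obtain ⟨g, hg⟩ := hd δn (by
        rw [← cancel_mono (ModuleCat.ofHom (Mq n).subtype),
          Category.assoc, hδn, Limits.zero_comp]
        simp only [δ, HomologicalComplex.d_comp_d_assoc, Limits.zero_comp])
      (fun x => by
        have h1 : δ.hom x ∈ (I ^ d • (I ^ n • ⊤ : Submodule A M)) := by
          rw [← Submodule.smul_assoc, smul_eq_mul, ← pow_add]
          exact hδ x
        have h2 : (δn.hom x : M) ∈ (I ^ d • ⊤ : Submodule A (Mq n)).map (Mq n).subtype := by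
          rw [Submodule.map_smul'', Submodule.map_top, Submodule.range_subtype]
          exact h1
        obtain ⟨y, hy, hyx⟩ := h2
        have hyy : y = δn.hom x := Subtype.ext hyx
        exact hyy ▸ hy)
    have e2 : -(i + 1) + 1 = -i := by ring
    have key : ∃ g' : E.X (-i) ⟶ ModuleCat.of A (Mq n),
        E.d (-(i + 1)) (-i) ≫ g' = δn := by
      revert g hg
      generalize -(i + 1) + 1 = q at e2 ⊢
      subst e2
      exact fun g hg => ⟨g, hg⟩
    obtain ⟨g', hg'⟩ := key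
    have hψ : E.d (-i - 1) (-i) ≫ (φ' - g' ≫ ModuleCat.ofHom (Mq n).subtype) = 0 := by
      apply (hd1 _ _).1
      rw [Preadditive.comp_sub, ← Category.assoc, hg', hδn, sub_self]
    refine ⟨Groth.Agent.PCExt.cls iso i _ hψ, ?_⟩
    simp only [c, t]
    rw [← he, Groth.Agent.PCExt.cls_comp, Groth.Agent.PCExt.cls_comp]
    congr 1
    rw [← hφ', Preadditive.sub_comp, Category.assoc, Category.assoc]
    have z : ModuleCat.ofHom (Mq n).subtype ≫ ModuleCat.ofHom (Mq n).mkQ = 0 := by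
      ext x
      exact (Submodule.Quotient.mk_eq_zero (Mq n)).2 x.2
    rw [z, Limits.comp_zero, sub_zero]
    rfl

end Groth.Agent.S7164
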