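import Mathlib
import Groth.Agent.WEtale.Basic
import Groth.Agent.FlatMorLib.SpecStalk
import Groth.Statements.S7177
-- import your own Groth.Agent.* helpers here

set_option autoImplicit false
set_option backward.isDefEq.respectTransparency false
set_option backward.isDefEq.respectTransparency.types false
universe u
open FlatMor

namespace Groth.Agent.S7177

open AlgebraicGeometry CategoryTheory Limits in
/-- Let f : X → Y have flat diagonal and let F be an O_X-module flat over Y. Then F is flat as an
O_X-module. -/
theorem result {X Y : Scheme.{u}} (f : X ⟶ Y) [Flat (pullback.diagonal f)] (F : X.Modules)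
    (hF : FlatMod.IsFlatOver f F) : FlatMod.IsFlat F := by
  intro x
  have hpc : ∀ {A B C : Scheme.{u}} (g : A ⟶ B) (m : B ⟶ C) [Mono m] (_ : Flat (g ≫ m)), Flat g := by
    intro A B C g m _ h
    have sq : IsPullback g (𝟙 A) m (g ≫ m) := by
      refine IsPullback.of_isLimit (c := PullbackCone.mk g (𝟙 A) (by simp)) (PullbackCone.isLimitAux' _ fun s => ⟨s.snd, ?_, ?_, ?_⟩)
      · exact (cancel_mono m).1 (by rw [Category.assoc]; exact s.condition.symm)
      · exact Category.comp_id _
      · intro l _ hl
        exact (Category.comp_id l).symm.trans hl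
    exact MorphismProperty.of_isPullback (P := @Flat) sq.flip h
  let j := X.fromSpecStalk x
  let a := Spec.map (f.stalkMap x)
  have hdj : Flat (pullback.diagonal (j ≫ f)) := by
    let m : pullback (j ≫ f) (j ≫ f) ⟶ pullback f f :=
      pullback.map _ _ _ _ j j (𝟙 Y) (Category.comp_id _) (Category.comp_id _)
    have hj : Flat j := Groth.Agent.FlatMorLib.flat_fromSpecStalk x
    have : Mono m := ⟨fun {W} u v h => by
      apply pullback.hom_ext
      · rw [← cancel_mono j]; simpa [m] using congrArg (· ≫ pullback.fst f f) h
      · rw [← cancel_mono j]; simpa [m] using congrArg (· ≫ pullback.snd f f) h⟩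
    refine hpc _ m ?_
    have e : pullback.diagonal (j ≫ f) ≫ m = j ≫ pullback.diagonal f := by
      apply pullback.hom_ext <;> simp [m]
    rw [e]
    exact MorphismProperty.comp_mem @Flat _ _ hj ‹_›
  have hda : Flat (pullback.diagonal a) := by
    let b := Y.fromSpecStalk (f x)
    have hab : a ≫ b = j ≫ f := Scheme.SpecMap_stalkMap_fromSpecStalk f
    have hd : Flat (pullback.diagonal (a ≫ b)) := by rw [hab]; exact hdj
    rw [pullback.diagonal_comp] at hd
    exact hpc (pullback.diagonal a) _ hd
  letI := (f.stalkMap x).hom.toAlgebra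
  have hl : (Algebra.TensorProduct.lmul' (S := ↑(X.presheaf.stalk x)) (↑(Y.presheaf.stalk (f x)))).toRingHom.Flat := by
    have e : a = Spec.map (CommRingCat.ofHom (algebraMap (Y.presheaf.stalk (f x)) (X.presheaf.stalk x))) := rfl
    rw [e, AlgebraicGeometry.diagonal_SpecMap, MorphismProperty.cancel_right_of_respectsIso (P := @Flat),
      Flat.SpecMap_iff, CommRingCat.hom_ofHom] at hda
    exact hda
  letI := FlatMod.moduleStalkOver f F x
  haveI : IsScalarTower (Y.presheaf.stalk (f x)) (X.presheaf.stalk x) (F.presheaf.stalk x) := .of_algebraMap_smul fun _ _ => rfl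
  haveI : Module.Flat (Y.presheaf.stalk (f x)) (F.presheaf.stalk x) := hF x
  exact Groth.Agent.WEtale.flat_of_flat_lmul' hl

end Groth.Agent.S7177
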