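import Groth.Statements.S7178
import Mathlib.AlgebraicGeometry.Morphisms.WeaklyEtale
import Mathlib.AlgebraicGeometry.Morphisms.Flat

set_option autoImplicit false
set_option linter.style.haveILetI false
universe u
open FlatMor

namespace Groth.Agent.S7178

open AlgebraicGeometry CategoryTheory Limits in
/-- (1) ⇔ (2): f : X → S is weakly étale if and only if, whenever U ⊆ X and V ⊆ S are affine opens and f
maps U into V, the ring O_X(U) is a weakly étale O_S(V)-algebra (flat, with flat multiplication map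
O_X(U) ⊗ O_X(U) → O_X(U) over O_S(V)). -/
theorem result {X S : Scheme.{u}} (f : X ⟶ S) :
    WeaklyEtale f ↔ ∀ (U : X.Opens) (V : S.Opens) (_ : IsAffineOpen U) (_ : IsAffineOpen V) (hUV : U ≤ f ⁻¹ᵁ V),
      (letI := (f.appLE V U hUV).hom.toAlgebra
       Algebra.WeaklyEtale Γ(S, V) Γ(X, U)) := by
  have aff : ∀ (A B : CommRingCat.{u}) (φ : A ⟶ B), WeaklyEtale (Spec.map φ) ↔
      (letI := φ.hom.toAlgebra; Algebra.WeaklyEtale A B) := by
    intro A B φ
    letI := φ.hom.toAlgebra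
    have e : pullback.diagonal (Spec.map φ) =
        Spec.map (CommRingCat.ofHom (Algebra.TensorProduct.lmul' A (S := B)).toRingHom) ≫
          (pullbackSpecIso A B B).inv := diagonal_SpecMap A B
    rw [weaklyEtale_iff, Algebra.weaklyEtale_iff, ← RingHom.flat_algebraMap_iff, e,
      MorphismProperty.cancel_right_of_respectsIso @Flat,
      HasRingHomProperty.Spec_iff (P := @Flat), HasRingHomProperty.Spec_iff (P := @Flat)]
    rfl
  have iso : ∀ (U : X.Opens) (V : S.Opens) (hU : IsAffineOpen U) (hV : IsAffineOpen V)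
      (e : U ≤ f ⁻¹ᵁ V), Nonempty (Arrow.mk (f.resLE V U e) ≅ Arrow.mk (Spec.map (f.appLE V U e))) := by
    intro U V hU hV e
    refine ⟨Arrow.isoMk hU.isoSpec hV.isoSpec ?_⟩
    change hU.isoSpec.hom ≫ Spec.map (f.appLE V U e) = f.resLE V U e ≫ hV.isoSpec.hom
    rw [← cancel_mono hV.fromSpec, Category.assoc, Category.assoc,
      hV.isoSpec_hom, hV.toSpecΓ_fromSpec, IsAffineOpen.SpecMap_appLE_fromSpec f hV hU e,
      ← Category.assoc, hU.isoSpec_hom, hU.toSpecΓ_fromSpec, Scheme.Hom.resLE_comp_ι]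
  refine ⟨fun h U V hU hV e => ?_, fun h => ?_⟩
  · obtain ⟨i⟩ := iso U V hU hV e
    exact (aff _ _ _).1 ((MorphismProperty.arrow_mk_iso_iff @WeaklyEtale i).1 inferInstance)
  · refine (IsZariskiLocalAtSource.iff_of_iSup_eq_top (P := @WeaklyEtale)
      (fun p : {p : X.Opens × S.Opens // IsAffineOpen p.1 ∧ IsAffineOpen p.2 ∧ p.1 ≤ f ⁻¹ᵁ p.2} => p.1.1)
      ?_).2 fun ⟨⟨U, V⟩, hU, hV, e⟩ => ?_
    · refine eq_top_iff.2 fun x _ => ?_
      obtain ⟨_, ⟨(V : S.Opens), hV, rfl⟩, hxV, -⟩ :=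
        S.isBasis_affineOpens.exists_subset_of_mem_open (Set.mem_univ (f x)) isOpen_univ
      obtain ⟨_, ⟨(U : X.Opens), hU, rfl⟩, hxU, hUV⟩ :=
        X.isBasis_affineOpens.exists_subset_of_mem_open (show x ∈ f ⁻¹ᵁ V from hxV) (f ⁻¹ᵁ V).isOpen
      exact TopologicalSpace.Opens.mem_iSup.2 ⟨⟨(U, V), hU, hV, hUV⟩, hxU⟩
    · obtain ⟨i⟩ := iso U V hU hV e
      haveI : WeaklyEtale (f.resLE V U e) :=
        (MorphismProperty.arrow_mk_iso_iff @WeaklyEtale i).2 ((aff _ _ _).2 (h U V hU hV e))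
      rw [← Scheme.Hom.resLE_comp_ι f e]
      infer_instance

end Groth.Agent.S7178
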