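import Groth.Statements.S7179
import Groth.Agent.S7128

set_option autoImplicit false
universe u
open FlatMor

namespace Groth.Agent.S7179

open AlgebraicGeometry CategoryTheory Limits in
/-- The source of a weakly étale morphism with reduced target is reduced. -/
theorem result {X Y : Scheme.{u}} (f : X ⟶ Y) [WeaklyEtale f] [IsReduced Y] : IsReduced X := by
  suffices ∀ (V : Y.affineOpens) (U : X.affineOpens) (e : U.1 ≤ f ⁻¹ᵁ V.1), IsReduced U.1.toScheme by
    have : ∀ x : X, ∃ U : X.affineOpens, x ∈ U.1 ∧ IsReduced U.1.toScheme := by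
      intro x
      obtain ⟨_, ⟨V, hV, rfl⟩, hxV, -⟩ :=
        Y.isBasis_affineOpens.exists_subset_of_mem_open (Set.mem_univ (f x)) isOpen_univ
      obtain ⟨_, ⟨U, hU, rfl⟩, hxU, hUV⟩ :=
        X.isBasis_affineOpens.exists_subset_of_mem_open (show x ∈ f ⁻¹ᵁ V from hxV) (f ⁻¹ᵁ V).isOpen
      exact ⟨⟨U, hU⟩, hxU, this ⟨V, hV⟩ ⟨U, hU⟩ hUV⟩
    have hst : ∀ x : X, _root_.IsReduced (X.presheaf.stalk x) := by
      intro x
      obtain ⟨U, hxU, hU⟩ := this x
      exact isReduced_of_injective (U.1.ι.stalkMap ⟨x, hxU⟩).hom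
        (ConcreteCategory.bijective_of_isIso (U.1.ι.stalkMap ⟨x, hxU⟩)).1
    exact isReduced_of_isReduced_stalk X
  intro V U e
  let g : U.1.toScheme ⟶ V.1.toScheme := f.resLE V U e
  have hA : IsAffine U.1.toScheme := U.2
  have hB : IsAffine V.1.toScheme := V.2
  let φ := g.appTop
  let _ := φ.hom.toAlgebra
  have hS : WeaklyEtale (Spec.map φ) :=
    (MorphismProperty.arrow_mk_iso_iff @WeaklyEtale (arrowIsoSpecΓOfIsAffine g)).mp inferInstance
  have : Algebra.WeaklyEtale Γ(V.1.toScheme, ⊤) Γ(U.1.toScheme, ⊤) := by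
    refine { flat := ?_, flat_lmul' := ?_ }
    · exact RingHom.flat_algebraMap_iff.mp ((HasRingHomProperty.Spec_iff (P := @Flat)).mp hS.flat)
    · have h := hS.flat_diagonal
      have e' := diagonal_SpecMap Γ(V.1.toScheme, ⊤) Γ(U.1.toScheme, ⊤)
      change pullback.diagonal (Spec.map φ) = _ at e'
      rw [e'] at h
      have h' : Flat (Spec.map (CommRingCat.ofHom (Algebra.TensorProduct.lmul' Γ(V.1.toScheme, ⊤)
          (S := Γ(U.1.toScheme, ⊤))).toRingHom)) :=
        (MorphismProperty.cancel_right_of_respectsIso @Flat _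
          (pullbackSpecIso Γ(V.1.toScheme, ⊤) Γ(U.1.toScheme, ⊤) Γ(U.1.toScheme, ⊤)).inv).mp h
      exact (HasRingHomProperty.Spec_iff (P := @Flat)).mp h'
  have := Groth.Agent.S7128.result Γ(V.1.toScheme, ⊤) Γ(U.1.toScheme, ⊤)
  exact isReduced_of_isAffine_isReduced U.1.toScheme

end Groth.Agent.S7179
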