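import Groth.Statements.S7180
import Groth.Agent.S7178
import Groth.Agent.WEtale.Normal

set_option autoImplicit false
universe u
open FlatMor

namespace Groth.Agent.S7180

open AlgebraicGeometry CategoryTheory Limits in
/-- The source of a weakly étale morphism with normal target (all local rings integrally closed domains)
is normal. -/
theorem result {X Y : Scheme.{u}} (f : X ⟶ Y) [WeaklyEtale f] (hY : Pi1.IsNormalScheme Y) :
    Pi1.IsNormalScheme X := by
  open Groth.Agent in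
  intro x
  obtain ⟨-, ⟨V, hV, rfl⟩, hxV, -⟩ := Y.isBasis_affineOpens.exists_subset_of_mem_open
    (Set.mem_univ (f x)) isOpen_univ
  obtain ⟨-, ⟨U, hU, rfl⟩, hxU, hle⟩ := X.isBasis_affineOpens.exists_subset_of_mem_open
    (show x ∈ f ⁻¹ᵁ V from hxV) (f ⁻¹ᵁ V).isOpen
  letI := (f.appLE V U hle).hom.toAlgebra
  haveI : Algebra.WeaklyEtale Γ(Y, V) Γ(X, U) := (S7178.result f).1 ‹_› U V hU hV hle
  have hA : EGA4.IsNormalRing Γ(Y, V) := fun p _ => by
    let y : PrimeSpectrum Γ(Y, V) := ⟨p, ‹_›⟩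
    letI : Algebra Γ(Y, V) (Y.presheaf.stalk (hV.fromSpec y)) :=
      TopCat.Presheaf.algebra_section_stalk Y.presheaf ⟨hV.fromSpec y, hV.range_fromSpec.le (Set.mem_range_self y)⟩
    haveI : IsLocalization.AtPrime (Y.presheaf.stalk (hV.fromSpec y)) p :=
      hV.isLocalization_stalk' y (hV.range_fromSpec.le (Set.mem_range_self y))
    obtain ⟨h1, h2⟩ := hY (hV.fromSpec y)
    let e : Y.presheaf.stalk (hV.fromSpec y) ≃ₐ[Γ(Y, V)] Localization.AtPrime p :=
      IsLocalization.algEquiv p.primeCompl _ _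
    haveI := h1
    haveI := h2
    haveI : IsDomain (Localization.AtPrime p) := e.toMulEquiv.isDomain_iff.mp inferInstance
    exact ⟨inferInstance, .of_equiv e.toRingEquiv⟩
  obtain ⟨h1, h2⟩ := WEtale.isNormalRing_of_weaklyEtale (B := Γ(X, U)) hA (hU.primeIdealOf ⟨x, hxU⟩).asIdeal
  letI : Algebra Γ(X, U) (X.presheaf.stalk x) := TopCat.Presheaf.algebra_section_stalk X.presheaf ⟨x, hxU⟩
  haveI : IsLocalization.AtPrime (X.presheaf.stalk x) (hU.primeIdealOf ⟨x, hxU⟩).asIdeal :=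
    hU.isLocalization_stalk ⟨x, hxU⟩
  let e : Localization.AtPrime (hU.primeIdealOf ⟨x, hxU⟩).asIdeal ≃ₐ[Γ(X, U)] X.presheaf.stalk x :=
    IsLocalization.algEquiv (hU.primeIdealOf ⟨x, hxU⟩).asIdeal.primeCompl _ _
  haveI := h1
  haveI := h2
  haveI : IsDomain (X.presheaf.stalk x) := e.toMulEquiv.isDomain_iff.mp inferInstance
  exact ⟨inferInstance, .of_equiv e.toRingEquiv⟩

end Groth.Agent.S7180
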