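import Groth.Statements.S7185
import Groth.Agent.Weighting.Piece

set_option autoImplicit false
universe u
open FlatMor

namespace Groth.Agent.S7185

open AlgebraicGeometry CategoryTheory CategoryTheory.Limits

open AlgebraicGeometry CategoryTheory Limits in
/-- The restriction of a weighting of a locally quasi-finite morphism f : X → Y (locally of finite type
with discrete fibres) to an open subscheme X' of X is a weighting of X' → Y. -/
theorem result {X Y : Scheme.{u}} (f : X ⟶ Y) [LocallyQuasiFinite f] [LocallyOfFiniteType f] (w : X → ℤ)
    (hw : MoreMor.IsWeighting f w) (X' : X.Opens) : MoreMor.IsWeighting (X'.ι ≫ f) (fun x => w (X'.ι x)) := by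
  refine Groth.Agent.Weighting.isWeighting_of_isPiece fun V W g _ j q hp ↦ ?_
  have := hp.isFinite
  have hp' : Groth.Agent.Weighting.IsPiece f g (j ≫ X'.ι) q := by
    have := hp.isOpenImmersion_lift
    let k : pullback (X'.ι ≫ f) g ⟶ pullback f g :=
      pullback.map _ _ _ _ X'.ι (𝟙 V) (𝟙 Y) (by simp) (by simp)
    exact .of_isPullback (IsPullback.of_hasPullback f g) (pullback.lift j q hp.w ≫ k)
      (by simp [k, pullback.lift_fst, pullback.lift_fst_assoc])
      (by simp [k, pullback.lift_snd, pullback.lift_snd_assoc])
  exact Groth.Agent.Weighting.locallyConstant_fibreIntegral_of_isPiece hw hp'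

end Groth.Agent.S7185
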