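import Groth.Statements.S7193
import Groth.Agent.WeilAff.MorS

set_option autoImplicit false
universe u
open CategoryTheory AlgebraicGeometry
open FlatMor

namespace Groth.Agent.S7193

set_option linter.style.haveILetI false

/-- Let Z, X and S be affine schemes with morphisms Z → S and X → S, and suppose Γ(Z, O_Z) is a finite
free Γ(S, O_S)-module; then the functor Mor_S(Z, X) on schemes over S is represented by some scheme
W over S with W affine. -/
theorem result {Z X S : Scheme.{u}} [IsAffine Z] [IsAffine X] [IsAffine S] (g : Z ⟶ S) (f : X ⟶ S)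
    (hfree : letI := (g.appTop).hom.toAlgebra
      Module.Finite Γ(S, ⊤) Γ(Z, ⊤) ∧ Module.Free Γ(S, ⊤) Γ(Z, ⊤)) :
    ∃ W : Over S, IsAffine W.left ∧ Nonempty ((Flatn.morS g f).RepresentableBy W) := by
  have hg : IsFinite g ∧ Flat g ∧ LocallyOfFinitePresentation g := by
    algebraize [g.appTop.hom]
    obtain ⟨h1, h2⟩ := hfree
    haveI : Module.FinitePresentation Γ(S, ⊤) Γ(Z, ⊤) := Module.finitePresentation_of_projective _ _
    exact ⟨(HasAffineProperty.iff_of_isAffine (P := @IsFinite)).2 ⟨inferInstance, RingHom.finite_algebraMap.2 h1⟩,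
      (HasRingHomProperty.iff_of_isAffine (P := @Flat)).2 (RingHom.flat_algebraMap_iff.2 inferInstance),
      (HasRingHomProperty.iff_of_isAffine (P := @LocallyOfFinitePresentation)).2
        (RingHom.finitePresentation_algebraMap.2 inferInstance)⟩
  obtain ⟨_, _, _⟩ := hg
  obtain ⟨W, hW, hrep⟩ := Groth.Agent.WeilAff.exists_morS g f
  exact ⟨W, isAffine_of_isAffineHom W.hom, hrep⟩

end Groth.Agent.S7193
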