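import Groth.Statements.S7199
import Groth.Agent.AlgIndepGen.Basic
-- import your own Groth.Agent.* helpers here

set_option autoImplicit false
universe u
open FlatMor

namespace Groth.Agent.S7199

/-- Take a field k, an integral domain A that is a finitely generated k-algebra, n ≥ 2 and g_1, …, g_n ∈
A, and suppose some irreducible component of the common zero locus of g_1 and g_2 in Spec A has
dimension dim A − 2. Then for suitable c_1, …, c_n ∈ k the n + 2 elements x_1, …, x_n, Σ g_i x_i, Σ
c_i g_i of the rational function field Frac(A)(x_1, …, x_n) form an algebraically independent family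
over k. -/
theorem result {k A : Type u} [Field k] [CommRing A] [IsDomain A] [Algebra k A]
    [Algebra.FiniteType k A] (m : ℕ) (g : Fin (m + 2) → A)
    (p : Ideal A) (hp : p ∈ (Ideal.span {g 0, g 1}).minimalPrimes) (hdim : ringKrullDim (A ⧸ p) + 2 = ringKrullDim A) :
    ∃ c : Fin (m + 2) → k,
      AlgebraicIndependent k
        (Sum.elim
          (fun i : Fin (m + 2) => algebraMap (MvPolynomial (Fin (m + 2)) (FractionRing A)) (FractionRing (MvPolynomial (Fin (m + 2)) (FractionRing A))) (MvPolynomial.X i))
          ![∑ i, algebraMap A (FractionRing (MvPolynomial (Fin (m + 2)) (FractionRing A))) (g i) *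
              algebraMap (MvPolynomial (Fin (m + 2)) (FractionRing A)) (FractionRing (MvPolynomial (Fin (m + 2)) (FractionRing A))) (MvPolynomial.X i),
            algebraMap A (FractionRing (MvPolynomial (Fin (m + 2)) (FractionRing A))) (∑ i, c i • g i)]) := by
  classical
  refine ⟨Pi.single 0 1, ?_⟩
  let F := FractionRing A
  let L := FractionRing (MvPolynomial (Fin (m + 2)) F)
  let j : A →ₐ[k] F := IsScalarTower.toAlgHom k A F
  have h1 := (AlgIndepGen.algebraicIndependent_pair (g 0) (g 1) p hp hdim).map' (f := j) (IsFractionRing.injective A F)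
  have h2 : AlgebraicIndependent k ![j (g 0), j (g 1)] := by
    convert h1 using 1
    funext i
    fin_cases i <;> rfl
  have h3 := AlgIndepGen.algebraicIndependent_linear (fun i => j (g i)) 1 (j (g 0)) h2
  have h4 := h3.map' (f := IsScalarTower.toAlgHom k (MvPolynomial (Fin (m + 2)) F) L)
    (IsFractionRing.injective _ L)
  convert h4 using 1
  funext i
  rcases i with i | i
  · rfl
  · have e : (∑ i, (Pi.single (0 : Fin (m + 2)) (1 : k) : Fin (m + 2) → k) i • g i) = g 0 := by
      rw [Finset.sum_eq_single 0 (fun b _ hb => by simp [hb]) (by simp), Pi.single_eq_same, one_smul]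
    have hC : ∀ r : A, algebraMap A L r = algebraMap (MvPolynomial (Fin (m + 2)) F) L (MvPolynomial.C (j r)) := by
      intro r
      rw [IsScalarTower.algebraMap_apply A (MvPolynomial (Fin (m + 2)) F) L]
      rfl
    fin_cases i <;> simp [e, hC, L, F, j]
end Groth.Agent.S7199
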