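import Groth.Statements.S7200
import Groth.Agent.GenHyperplane.Bridge
import Groth.Agent.GenHyperplane.Field

set_option autoImplicit false
universe u
open FlatMor

namespace Groth.Agent.S7200

open AlgebraicGeometry in
set_option maxHeartbeats 4000000 in
/-- Suppose K/k is a finitely generated field extension with K geometrically irreducible over k; let n ≥
1 and g_1, …, g_n ∈ K, and suppose some c ∈ kⁿ makes the n + 2 elements x_1, …, x_n, ξ = Σ g_i x_i,
Σ c_i g_i of Ω = K(x_1, …, x_n) algebraically independent over k. Then Ω remains geometrically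
irreducible over its subfield generated over k by x_1, …, x_n and ξ. -/
theorem result {k K : Type u} [Field k] [Field K] [Algebra k K]
    (hfg : (⊤ : IntermediateField k K).FG)
    [GeometricallyIrreducible (Spec.map (CommRingCat.ofHom (algebraMap k K)))]
    (m : ℕ) (g : Fin (m + 1) → K) (c : Fin (m + 1) → k)
    (hind : AlgebraicIndependent k
      (Sum.elim
        (fun i : Fin (m + 1) => algebraMap (MvPolynomial (Fin (m + 1)) K) (FractionRing (MvPolynomial (Fin (m + 1)) K)) (MvPolynomial.X i))
        ![∑ i, algebraMap K (FractionRing (MvPolynomial (Fin (m + 1)) K)) (g i) * algebraMap (MvPolynomial (Fin (m + 1)) K) (FractionRing (MvPolynomial (Fin (m + 1)) K)) (MvPolynomial.X i),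
          algebraMap K (FractionRing (MvPolynomial (Fin (m + 1)) K)) (∑ i, c i • g i)])) :
    GeometricallyIrreducible (Spec.map (CommRingCat.ofHom (algebraMap
      ↥(IntermediateField.adjoin k
        (Set.range (fun i : Fin (m + 1) => algebraMap (MvPolynomial (Fin (m + 1)) K) (FractionRing (MvPolynomial (Fin (m + 1)) K)) (MvPolynomial.X i)) ∪
          {∑ i, algebraMap K (FractionRing (MvPolynomial (Fin (m + 1)) K)) (g i) * algebraMap (MvPolynomial (Fin (m + 1)) K) (FractionRing (MvPolynomial (Fin (m + 1)) K)) (MvPolynomial.X i)}))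
      (FractionRing (MvPolynomial (Fin (m + 1)) K))))) := by
  classical
  let R := MvPolynomial (Fin (m + 1)) K
  let Ω := FractionRing R
  let x : Fin (m + 1) → Ω := fun i => algebraMap R Ω (MvPolynomial.X i)
  let ξ : Ω := ∑ i, algebraMap K Ω (g i) * x i
  let γ : Ω := algebraMap K Ω (∑ i, c i • g i)
  let F := IntermediateField.adjoin k (Set.range x)
  let L := IntermediateField.adjoin k (Set.range x ∪ {ξ})
  change GeometricallyIrreducible (Spec.map (CommRingCat.ofHom (algebraMap L Ω)))
  rw [Groth.Agent.GenHyperplane.geometricallyIrreducible_iff_separable]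
  have hsepK : ∀ α : K, IsSeparable k α → α ∈ Set.range (algebraMap k K) :=
    Groth.Agent.GenHyperplane.geometricallyIrreducible_iff_separable.1 inferInstance
  have hRinj : Function.Injective (algebraMap R Ω) := IsFractionRing.injective R Ω
  have hxF : ∀ i, x i ∈ F := fun i => IntermediateField.subset_adjoin k _ ⟨i, rfl⟩
  let S := Algebra.adjoin k (Set.range x)
  let ι : R →ₐ[k] Ω := IsScalarTower.toAlgHom k R Ω
  have hιS : (Groth.Agent.GenHyperplane.polySub (Fin (m + 1)) k K).map ι = S := by
    rw [AlgHom.map_adjoin, ← Set.range_comp]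
    rfl
  -- `k(x)` is separably closed in `Ω`
  have hsepF : ∀ α : Ω, IsSeparable F α → α ∈ Set.range (algebraMap F Ω) := fun α hα => by
    suffices α ∈ F from ⟨⟨α, this⟩, rfl⟩
    have halgS : IsAlgebraic S α := by
      open scoped IntermediateField.algebraAdjoinAdjoin in
      exact (IsFractionRing.isAlgebraic_iff S F Ω).2 hα.isIntegral.isAlgebraic
    obtain ⟨d, hd0, P, hP, hP0⟩ := halgS.exists_integral_multiple
    let χ : Groth.Agent.GenHyperplane.polySub (Fin (m + 1)) k K ≃+* S :=
      (((Groth.Agent.GenHyperplane.polySub (Fin (m + 1)) k K).equivMapOfInjective ι hRinj).trans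
        (Subalgebra.equivOfEq _ _ hιS)).toRingEquiv
    have hχ : ((algebraMap R Ω).comp (algebraMap (Groth.Agent.GenHyperplane.polySub (Fin (m + 1)) k K) R)).comp
        χ.symm.toRingHom = algebraMap S Ω := by
      ext z
      exact congrArg Subtype.val (χ.apply_symm_apply z)
    have hi : IsIntegral R (d • α) := by
      refine ⟨P.map ((algebraMap (Groth.Agent.GenHyperplane.polySub (Fin (m + 1)) k K) R).comp χ.symm.toRingHom),
        hP.map _, ?_⟩
      rw [Polynomial.eval₂_map, ← RingHom.comp_assoc, hχ]
      exact hP0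
    obtain ⟨f, hf⟩ := IsIntegrallyClosed.isIntegral_iff.1 hi
    have halgf : IsAlgebraic (Groth.Agent.GenHyperplane.polySub (Fin (m + 1)) k K) f := by
      refine ⟨P.map χ.symm.toRingHom, (hP.map _).ne_zero, hRinj ?_⟩
      rw [map_zero, Polynomial.aeval_def, Polynomial.eval₂_map, Polynomial.hom_eval₂, ← RingHom.comp_assoc, hχ, hf]
      exact hP0
    have hperf : d • α ∈ perfectClosure F Ω := by
      rw [← hf, f.as_sum, map_sum]
      refine sum_mem fun e _ => ?_
      rw [MvPolynomial.monomial_eq, map_mul]
      refine mul_mem ?_ ?_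
      · obtain ⟨n, a, ha⟩ := Groth.Agent.GenHyperplane.mem_perfectClosure_of_isAlgebraic hsepK
          (Groth.Agent.GenHyperplane.isAlgebraic_coeff halgf e)
        haveI := ringExpChar.expChar k
        haveI : ExpChar F (ringExpChar k) := expChar_of_injective_algebraMap (algebraMap k F).injective _
        refine (mem_perfectClosure_iff_pow_mem (ringExpChar k)).2 ⟨n, algebraMap k F a, ?_⟩
        rw [← map_pow, ← map_pow, ← ha, ← IsScalarTower.algebraMap_apply]
        exact IsScalarTower.algebraMap_apply k R Ω a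
      · rw [map_finsuppProd]
        refine prod_mem fun i _ => ?_
        show algebraMap R Ω (MvPolynomial.X i ^ e i) ∈ _
        rw [map_pow]
        exact pow_mem ((perfectClosure F Ω).algebraMap_mem ⟨x i, hxF i⟩) _
    refine Groth.Agent.GenHyperplane.eq_of_separable_of_perfect hα ?_
    have hd0' : (d : Ω) ≠ 0 := fun h => hd0 (Subtype.ext h)
    have := mul_mem (inv_mem ((perfectClosure F Ω).algebraMap_mem
      ⟨(d : Ω), IntermediateField.algebra_adjoin_le_adjoin k _ d.2⟩)) hperf
    rwa [show (d • α : Ω) = (d : Ω) * α from rfl, show algebraMap F Ω ⟨(d : Ω), _⟩ = (d : Ω) from rfl,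
      inv_mul_cancel_left₀ hd0'] at this
  -- independence of `ξ, γ` over `k(x)`
  have hind' : AlgebraicIndependent k (Sum.elim x ![ξ, γ]) := hind
  have hswap : AlgebraicIndependent k (Sum.elim ![ξ, γ] x) := by
    have := hind'.comp Sum.swap (Sum.swap_leftInverse.injective)
    convert this using 1
    ext (_ | _) <;> rfl
  have hindF : AlgebraicIndependent F ![ξ, γ] := by
    have h1 := (AlgebraicIndependent.sumElim_iff.1 hswap).2
    open scoped IntermediateField.algebraAdjoinAdjoin in
    exact haveI : Algebra.IsAlgebraic S F :=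
        ⟨fun z => (IsFractionRing.isAlgebraic_iff S F F).2 (isAlgebraic_algebraMap z)⟩
      h1.extendScalars F
  have hγ0 : γ ≠ 0 := hindF.ne_zero 1
  obtain ⟨i₀, hi₀⟩ : ∃ i, c i ≠ 0 := by
    by_contra! h
    exact hγ0 (by simp [γ, h])
  obtain ⟨j₀, hj₀⟩ : ∃ j, j ≠ i₀ := by
    by_contra! h
    haveI : Subsingleton (Fin (m + 1)) := ⟨fun a b => (h a).trans (h b).symm⟩
    have huniv : (Finset.univ : Finset (Fin (m + 1))) = {i₀} := Finset.eq_singleton_iff_unique_mem.2
      ⟨Finset.mem_univ _, fun j _ => h j⟩
    let P : MvPolynomial (Fin (m + 1) ⊕ Fin 2) k :=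
      MvPolynomial.X (Sum.inr 1) * MvPolynomial.X (Sum.inl i₀) - MvPolynomial.C (c i₀) * MvPolynomial.X (Sum.inr 0)
    have hP0 : P ≠ 0 := fun h0 => by
      have h1 := congrArg (MvPolynomial.eval fun v => if v = Sum.inr 0 then (0 : k) else 1) h0
      simp [P] at h1
    refine hP0 (hind'.eq_zero_of_aeval_eq_zero P ?_)
    simp only [P, map_sub, map_mul, MvPolynomial.aeval_X, MvPolynomial.aeval_C, Sum.elim_inl, Sum.elim_inr,
      Matrix.cons_val_zero, Matrix.cons_val_one, ξ, γ, huniv, Finset.sum_singleton]
    rw [Algebra.smul_def, map_mul, ← IsScalarTower.algebraMap_apply k K Ω]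
    ring
  -- the translations
  let l : MvPolynomial (Fin (m + 1)) K := MvPolynomial.C (algebraMap k K (c i₀)) * MvPolynomial.X j₀ -
    MvPolynomial.C (algebraMap k K (c j₀)) * MvPolynomial.X i₀
  have hl0 : MvPolynomial.constantCoeff l = 0 := by simp [l]
  have hlne : l ≠ 0 := fun h0 => hi₀ (by
    have := congrArg (MvPolynomial.coeff (Finsupp.single j₀ 1)) h0
    simpa [l, MvPolynomial.coeff_sub, MvPolynomial.coeff_C_mul, MvPolynomial.coeff_X', Finsupp.single_eq_single_iff,
      Ne.symm hj₀] using this)
  let φ : MvPolynomial (Fin (m + 1)) K → (MvPolynomial (Fin (m + 1)) K →ₐ[K] MvPolynomial (Fin (m + 1)) K) := fun P =>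
    MvPolynomial.aeval fun i => MvPolynomial.X i + MvPolynomial.C (algebraMap k K (c i)) * P
  have hφl : ∀ P, φ P l = l := fun P => by
    simp only [φ, l, map_sub, map_mul, MvPolynomial.aeval_C, MvPolynomial.aeval_X, ← MvPolynomial.algebraMap_eq, AlgHom.commutes]
    ring
  have hφφ : ∀ P Q : MvPolynomial (Fin (m + 1)) K, φ P Q = Q → P + Q = 0 → (φ P).comp (φ Q) = AlgHom.id K R := fun P Q h1 h2 =>
    MvPolynomial.algHom_ext fun i => by
      simp only [AlgHom.comp_apply, φ, map_add, map_mul, MvPolynomial.aeval_C, MvPolynomial.aeval_X,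
        MvPolynomial.algebraMap_eq, AlgHom.id_apply]
      have h1' : (MvPolynomial.aeval fun i => MvPolynomial.X i + MvPolynomial.C (algebraMap k K (c i)) * P) Q = Q := h1
      rw [h1', add_assoc, ← mul_add, h2, mul_zero, add_zero]
      rfl
  let T : ℕ → R := fun N => l ^ (N + 1)
  have hT : ∀ N, φ (T N) (-T N) = -T N ∧ φ (-T N) (T N) = T N := fun N =>
    ⟨by rw [map_neg, map_pow, hφl], by rw [map_pow, hφl]⟩
  let e : ℕ → (R ≃ₐ[K] R) := fun N =>
    AlgEquiv.ofAlgHom (φ (T N)) (φ (-T N)) (hφφ _ _ (hT N).1 (add_neg_cancel _))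
      (hφφ _ _ (hT N).2 (neg_add_cancel _))
  let σ : ℕ → (Ω ≃ₐ[K] Ω) := fun N => IsFractionRing.algEquivOfAlgEquiv (e N)
  let t : ℕ → Ω := fun N => algebraMap R Ω (T N)
  have hσR : ∀ N (r : R), σ N (algebraMap R Ω r) = algebraMap R Ω (φ (T N) r) := fun N r =>
    IsFractionRing.algEquivOfAlgEquiv_algebraMap (e N) r
  have hσx : ∀ N i, σ N (x i) = x i + algebraMap k Ω (c i) * t N := fun N i => by
    rw [hσR, show φ (T N) (MvPolynomial.X i) = MvPolynomial.X i + MvPolynomial.C (algebraMap k K (c i)) * T N from
      MvPolynomial.aeval_X _ _, map_add, map_mul]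
    congr 2
  have hσt : ∀ N, σ N (t N) = t N := fun N => by
    rw [hσR, map_pow, hφl]
  have hlS : algebraMap R Ω l ∈ F := by
    simp only [l, map_sub, map_mul, ← MvPolynomial.algebraMap_eq, ← IsScalarTower.algebraMap_apply K R Ω,
      ← IsScalarTower.algebraMap_apply k K Ω]
    exact sub_mem (mul_mem (F.algebraMap_mem _) (hxF _)) (mul_mem (F.algebraMap_mem _) (hxF _))
  have htF : ∀ N, t N ∈ F := fun N => by
    show algebraMap R Ω (l ^ (N + 1)) ∈ F
    rw [map_pow]
    exact pow_mem hlS _
  let u : ℕ → Ω := fun N => ξ + t N * γ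
  have hσξ : ∀ N, σ N ξ = u N := fun N => by
    simp only [ξ, u, map_sum, map_mul, AlgEquiv.commutes, hσx, mul_add, Finset.sum_add_distrib, γ,
      Finset.mul_sum]
    congr 1
    refine Finset.sum_congr rfl fun i _ => ?_
    rw [Algebra.smul_def, map_mul, ← IsScalarTower.algebraMap_apply k K Ω]
    ring
  have htinj : ∀ a b, a < b → t a ≠ t b := fun a b hab h => by
    have h' : l ^ (a + 1) = l ^ (b + 1) := hRinj h
    rw [show b + 1 = (a + 1) + (b - a) by omega, pow_add l (a + 1) (b - a)] at h'
    have h1 : l ^ (b - a) = 1 :=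
      (mul_left_cancel₀ (pow_ne_zero _ hlne) (h'.symm.trans (mul_one _).symm))
    have := congrArg MvPolynomial.constantCoeff h1
    rw [map_pow, hl0, zero_pow (by omega), map_one] at this
    exact zero_ne_one this
  -- finitely many separable subextensions
  let M := IntermediateField.adjoin F ({ξ, γ} : Set Ω)
  haveI : IsScalarTower k M Ω := IsScalarTower.of_algebraMap_eq fun a => IsScalarTower.algebraMap_apply k F Ω a
  have hfgM : (⊤ : IntermediateField M Ω).FG := by
    obtain ⟨s, hs⟩ := hfg
    refine ⟨s.image (algebraMap K Ω) ∪ Finset.univ.image x, eq_top_iff.2 fun z _ => ?_⟩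
    let G := IntermediateField.adjoin M (↑(s.image (algebraMap K Ω) ∪ Finset.univ.image x) : Set Ω)
    show z ∈ G
    have hK : ∀ a : K, algebraMap K Ω a ∈ G := fun a => by
      have ha : a ∈ IntermediateField.adjoin k (s : Set K) := hs ▸ IntermediateField.mem_top
      have h' : IntermediateField.adjoin k (s : Set K) ≤ (G.restrictScalars k).comap (IsScalarTower.toAlgHom k K Ω) := by
        refine IntermediateField.adjoin_le_iff.2 fun w hw => ?_
        exact IntermediateField.subset_adjoin M _ (Finset.mem_coe.2 (Finset.mem_union_left _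
          (Finset.mem_image_of_mem _ hw)))
      exact h' ha
    have hR : ∀ r : R, algebraMap R Ω r ∈ G := fun r => by
      induction r using MvPolynomial.induction_on with
      | C a => rw [← MvPolynomial.algebraMap_eq, ← IsScalarTower.algebraMap_apply]; exact hK a
      | add p q hp hq => rw [map_add]; exact add_mem hp hq
      | mul_X p i hp =>
        rw [map_mul]
        exact mul_mem hp (IntermediateField.subset_adjoin M _ (Finset.mem_coe.2 (Finset.mem_union_right _
          (Finset.mem_image_of_mem x (Finset.mem_univ i)))))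
    obtain ⟨a, b, -, hab⟩ := IsFractionRing.div_surjective (A := R) z
    rw [← hab]
    exact div_mem (hR a) (hR b)
  let A : ℕ → Set Ω := fun N => {β | IsSeparable (IntermediateField.adjoin F {u N}) β}
  let I : ℕ → IntermediateField M Ω := fun N => IntermediateField.adjoin M (A N)
  have huM : ∀ N, u N ∈ M := fun N => add_mem (IntermediateField.subset_adjoin F _ (Or.inl rfl))
    (mul_mem (M.algebraMap_mem ⟨t N, htF N⟩) (IntermediateField.subset_adjoin F _ (Or.inr rfl)))
  have hI : ∀ N, I N ∈ {J : IntermediateField M Ω | J ≤ separableClosure M Ω} := fun N => by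
    refine IntermediateField.adjoin_le_iff.2 fun β hβ => mem_separableClosure_iff.2 ?_
    exact Groth.Agent.GenHyperplane.isSeparable_of_le
      (IntermediateField.adjoin_le_iff.2 (Set.singleton_subset_iff.2 (huM N))) hβ
  obtain ⟨p, q, hpq, hIpq⟩ : ∃ p q, p < q ∧ I p = I q := by
    haveI := (Groth.Agent.GenHyperplane.finite_le_separableClosure hfgM).to_subtype
    obtain ⟨p, q, hne, h⟩ := Finite.exists_ne_map_eq_of_infinite (fun N =>
      (⟨I N, hI N⟩ : {J : IntermediateField M Ω | J ≤ separableClosure M Ω}))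
    rcases lt_or_gt_of_ne hne with h' | h'
    · exact ⟨p, q, h', congrArg Subtype.val h⟩
    · exact ⟨q, p, h', congrArg Subtype.val h.symm⟩
  -- transversality
  let τp : F := ⟨t p, htF p⟩
  let τq : F := ⟨t q, htF q⟩
  have hτ : τp - τq ≠ 0 := sub_ne_zero.2 fun h => htinj p q hpq (congrArg Subtype.val h)
  have hpair : AlgebraicIndependent F ![u p, u q] := by
    let E : MvPolynomial (Fin 2) F →ₐ[F] MvPolynomial (Fin 2) F :=
      MvPolynomial.aeval ![MvPolynomial.X 0 + MvPolynomial.C τp * MvPolynomial.X 1,
        MvPolynomial.X 0 + MvPolynomial.C τq * MvPolynomial.X 1]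
    let E' : MvPolynomial (Fin 2) F →ₐ[F] MvPolynomial (Fin 2) F :=
      MvPolynomial.aeval ![MvPolynomial.X 0 - MvPolynomial.C (τp * (τp - τq)⁻¹) * (MvPolynomial.X 0 - MvPolynomial.X 1),
        MvPolynomial.C (τp - τq)⁻¹ * (MvPolynomial.X 0 - MvPolynomial.X 1)]
    have hEE : E'.comp E = AlgHom.id F _ := MvPolynomial.algHom_ext fun i => by
      have h1 : (MvPolynomial.C (τp - τq)⁻¹ : MvPolynomial (Fin 2) F) * MvPolynomial.C (τp - τq) = 1 := by
        rw [← map_mul, inv_mul_cancel₀ hτ, map_one]
      fin_cases i <;>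
        simp [E, E', map_sub, map_mul] at h1 ⊢
      · ring
      · linear_combination (MvPolynomial.X (1 : Fin 2) - MvPolynomial.X 0) * h1
    have hE : Function.Injective E := fun a b h =>
      (DFunLike.congr_fun hEE a).symm.trans ((congrArg E' h).trans (DFunLike.congr_fun hEE b))
    have hcomp : (MvPolynomial.aeval ![ξ, γ]).comp E = MvPolynomial.aeval ![u p, u q] :=
      MvPolynomial.algHom_ext fun i => by fin_cases i <;> simp [E, u] <;> exact Or.inl rfl
    show Function.Injective (MvPolynomial.aeval ![u p, u q])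
    rw [← hcomp]
    exact fun a b h => hE (hindF h)
  have htrans : Transcendental (IntermediateField.adjoin F {u q}) (u p) := by
    have h1 := hpair.transcendental_adjoin (s := {1}) (i := 0) (by simp)
    rw [Set.image_singleton] at h1
    intro halg
    open scoped IntermediateField.algebraAdjoinAdjoin in
    exact h1 ((IsFractionRing.isAlgebraic_iff (Algebra.adjoin F {u q}) (IntermediateField.adjoin F {u q}) Ω).2 halg)
  intro α hα
  suffices α ∈ L from ⟨⟨α, this⟩, rfl⟩
  let Lp := IntermediateField.adjoin F ({u p} : Set Ω)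
  have hLmap : ∀ a ∈ L, σ p a ∈ Lp := by
    have : L ≤ (Lp.restrictScalars k).comap ((σ p).toAlgHom.restrictScalars k) := by
      refine IntermediateField.adjoin_le_iff.2 ?_
      rintro w (⟨i, rfl⟩ | rfl)
      · show σ p (x i) ∈ Lp
        rw [hσx]
        exact add_mem (Lp.algebraMap_mem ⟨x i, hxF i⟩)
          (mul_mem (Lp.algebraMap_mem (algebraMap k F (c i))) (Lp.algebraMap_mem ⟨t p, htF p⟩))
      · show σ p ξ ∈ Lp
        rw [hσξ]
        exact IntermediateField.subset_adjoin F _ rfl
    exact this
  have hαp : IsSeparable Lp (σ p α) :=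
    Groth.Agent.GenHyperplane.isSeparable_map L Lp (σ p).toAlgHom.toRingHom hLmap hα
  have hmem : σ p α ∈ IntermediateField.adjoin F ({u p} ∪ A q) := by
    have h1 : σ p α ∈ I q := hIpq ▸ IntermediateField.subset_adjoin M _ hαp
    let G := IntermediateField.adjoin F ({u p} ∪ A q)
    have hup : u p ∈ G := IntermediateField.subset_adjoin F _ (Or.inl rfl)
    have huq : u q ∈ G := IntermediateField.subset_adjoin F _ (Or.inr (by
      show IsSeparable _ _
      exact isSeparable_algebraMap (⟨u q, IntermediateField.subset_adjoin F _ rfl⟩ : IntermediateField.adjoin F {u q})))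
    have hγG : γ ∈ G := by
      have h2 : ((τp - τq : F) : Ω) * γ ∈ G := by
        have : u p - u q = ((τp - τq : F) : Ω) * γ := by
          show ξ + t p * γ - (ξ + t q * γ) = (t p - t q) * γ
          ring
        rw [← this]
        exact sub_mem hup huq
      have := mul_mem (G.algebraMap_mem (τp - τq)⁻¹) h2
      have hne : ((τp - τq : F) : Ω) ≠ 0 := fun h => hτ (Subtype.ext h)
      rwa [show algebraMap F Ω (τp - τq)⁻¹ = ((τp - τq : F) : Ω)⁻¹ from map_inv₀ _ _,
        inv_mul_cancel_left₀ hne] at this
    have hξG : ξ ∈ G := by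
      have := sub_mem hup (mul_mem (G.algebraMap_mem τp) hγG)
      rwa [show u p - algebraMap F Ω τp * γ = ξ from add_sub_cancel_right _ _] at this
    have hMG : ∀ a : M, (a : Ω) ∈ G := fun a => by
      refine (IntermediateField.adjoin_le_iff.2 ?_) a.2
      rintro w (rfl | rfl)
      · exact hξG
      · exact hγG
    let G' : IntermediateField M Ω := { G.toSubfield with algebraMap_mem' := fun a => hMG a }
    have : I q ≤ G' := IntermediateField.adjoin_le_iff.2 fun w hw => IntermediateField.subset_adjoin F _ (Or.inr hw)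
    exact this h1
  have hcore := Groth.Agent.GenHyperplane.core hsepF (u p) (u q) htrans (σ p α) hαp hmem
  have hback : ∀ z ∈ Lp, (σ p).symm z ∈ L := by
    have hFle : ∀ z : F, (σ p).symm (z : Ω) ∈ L := fun z => by
      have : F ≤ L.comap ((σ p).symm.toAlgHom.restrictScalars k) := by
        refine IntermediateField.adjoin_le_iff.2 ?_
        rintro w ⟨i, rfl⟩
        show (σ p).symm (x i) ∈ L
        have h1 : (σ p).symm (x i) = x i - algebraMap k Ω (c i) * t p := by
          rw [AlgEquiv.symm_apply_eq, map_sub, map_mul, hσx, hσt,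
            show σ p (algebraMap k Ω (c i)) = algebraMap k Ω (c i) from by
              rw [IsScalarTower.algebraMap_apply k K Ω, AlgEquiv.commutes]]
          ring
        rw [h1]
        exact sub_mem (IntermediateField.subset_adjoin k _ (Or.inl ⟨i, rfl⟩))
          (mul_mem (L.algebraMap_mem _) (IntermediateField.adjoin.mono k _ _ Set.subset_union_left (htF p)))
      exact this z.2
    let L' : IntermediateField F Ω :=
      { ((L.comap ((σ p).symm.toAlgHom.restrictScalars k)).toSubfield) with algebraMap_mem' := hFle }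
    have : Lp ≤ L' := IntermediateField.adjoin_le_iff.2 fun w hw => by
      show (σ p).symm w ∈ L
      rw [Set.mem_singleton_iff.1 hw, ← hσξ, AlgEquiv.symm_apply_apply]
      exact IntermediateField.subset_adjoin k _ (Or.inr rfl)
    exact this
  have := hback _ hcore
  rwa [AlgEquiv.symm_apply_apply] at this

end Groth.Agent.S7200
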