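import Groth.Statements.S7201
import Mathlib
-- import your own Groth.Agent.* helpers here

set_option autoImplicit false
universe u
open FlatMor

open AlgebraicGeometry CategoryTheory Limits IsLocalRing

namespace Groth.Agent.S7201

/-- elements of the completion are congruent to elements of the ring -/
theorem exists_sub_mem {A : Type u} [CommRing A] [IsLocalRing A] [IsNoetherianRing A] (N : ℕ)
    (z : AdicCompletion (maximalIdeal A) A) : ∃ w : A,
      z - algebraMap A (AdicCompletion (maximalIdeal A) A) w ∈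
        (maximalIdeal A ^ N).map (algebraMap A (AdicCompletion (maximalIdeal A) A)) := by
  obtain ⟨w, hw⟩ := Submodule.Quotient.mk_surjective _ (AdicCompletion.eval (maximalIdeal A) A N z)
  refine ⟨w, ?_⟩
  have h1 : z - algebraMap A (AdicCompletion (maximalIdeal A) A) w ∈
      (AdicCompletion.eval (maximalIdeal A) A N).ker := by
    rw [LinearMap.mem_ker, map_sub, sub_eq_zero, ← hw]
    rfl
  rw [← AdicCompletion.pow_smul_top_eq_ker_eval (maximalIdeal A).fg_of_isNoetherianRing, Ideal.smul_top_eq_map] at h1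
  exact h1

/-- algebraic refinement: adjoin coefficients expressing congruences -/
theorem exists_refinement {R B O : Type u} [CommRing R] [CommRing B] [CommRing O] [IsNoetherianRing R]
    [Algebra R B] [Algebra.FiniteType R B] [IsLocalRing O] [IsNoetherianRing O] [Algebra R O]
    (p : Ideal R) [p.IsPrime] [IsLocalization.AtPrime O p] (N : ℕ)
    (σ : B →+* AdicCompletion (maximalIdeal O) O)
    (hσ : σ.comp (algebraMap R B) = (algebraMap O (AdicCompletion (maximalIdeal O) O)).comp (algebraMap R O)) :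
    ∃ (B' : Type u) (_ : CommRing B') (φ : B →+* B') (τ : B' →+* AdicCompletion (maximalIdeal O) O),
      φ.FiniteType ∧ τ.comp φ = σ ∧ ∀ τ' : B' →+* AdicCompletion (maximalIdeal O) O,
        (τ'.comp φ).comp (algebraMap R B) = σ.comp (algebraMap R B) →
          ∀ b, σ b - τ' (φ b) ∈ (maximalIdeal O ^ N).map (algebraMap O (AdicCompletion (maximalIdeal O) O)) := by
  classical
  let C := AdicCompletion (maximalIdeal O) O
  let ι : R →+* C := (algebraMap O C).comp (algebraMap R O)
  have hmN : (maximalIdeal O ^ N).map (algebraMap O C) = (p ^ N).map ι := by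
    have e : (p ^ N).map (algebraMap R O) = maximalIdeal O ^ N := by
      rw [Ideal.map_pow, IsLocalization.AtPrime.map_eq_maximalIdeal p O]
    exact (congrArg (Ideal.map (algebraMap O C)) e).symm.trans (Ideal.map_map _ _)
  obtain ⟨r, a, ha⟩ := Submodule.fg_iff_exists_fin_generating_family.1 ((p ^ N).fg_of_isNoetherianRing)
  obtain ⟨n, π, hπ⟩ := Algebra.FiniteType.iff_quotient_mvPolynomial''.1 (‹Algebra.FiniteType R B›)
  let x : Fin n → B := fun i => π (MvPolynomial.X i)
  choose w hw using fun i => exists_sub_mem N (σ (x i))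
  choose cd hcd using fun i => IsLocalization.exists_mk'_eq p.primeCompl (w i)
  choose d hd using hcd
  have hu : ∀ i, IsUnit (ι (d i)) := fun i => (IsLocalization.map_units O (d i)).map (algebraMap O C)
  have hmem : ∀ i, ι (d i) * σ (x i) - ι (cd i) ∈ (p ^ N).map ι := by
    intro i
    have h1 := Ideal.mul_mem_left _ (ι (d i)) (hw i)
    have h2 : ι (d i) * algebraMap O C (w i) = ι (cd i) := by
      show algebraMap O C (algebraMap R O (d i)) * _ = algebraMap O C (algebraMap R O (cd i))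
      rw [← map_mul, ← hd i, IsLocalization.mk'_spec']
    rw [mul_sub, h2, hmN] at h1
    exact h1
  have hcoef : ∀ i, ∃ e : Fin r → C, ∑ j, e j * ι (a j) = ι (d i) * σ (x i) - ι (cd i) := by
    intro i
    have h := hmem i
    rw [← ha, Ideal.map_span, ← Set.range_comp] at h
    exact (Ideal.mem_span_range_iff_exists_fun).1 h
  choose e he using hcoef
  let P := MvPolynomial (Fin n × Fin r) B
  let rel : Fin n → P := fun i =>
    MvPolynomial.C (algebraMap R B (d i) * x i - algebraMap R B (cd i)) -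
      ∑ j, MvPolynomial.X (i, j) * MvPolynomial.C (algebraMap R B (a j))
  let I : Ideal P := Ideal.span (Set.range rel)
  let φ : B →+* P ⧸ I := (Ideal.Quotient.mk I).comp MvPolynomial.C
  have hι : ∀ t, σ (algebraMap R B t) = ι t := fun t => RingHom.congr_fun hσ t
  let τ : P ⧸ I →+* C := Ideal.Quotient.lift I (MvPolynomial.eval₂Hom σ fun ij => e ij.1 ij.2) (by
    intro z hz
    refine (Ideal.span_le.2 ?_ : I ≤ RingHom.ker _) hz
    rintro _ ⟨i, rfl⟩
    rw [SetLike.mem_coe, RingHom.mem_ker]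
    simp only [rel, map_sub, map_mul, map_sum]
    erw [MvPolynomial.eval₂Hom_C, MvPolynomial.eval₂Hom_C, MvPolynomial.eval₂Hom_C]
    simp only [hι]
    rw [sub_eq_zero, ← he i]
    refine Finset.sum_congr rfl fun j _ => ?_
    erw [MvPolynomial.eval₂Hom_X', MvPolynomial.eval₂Hom_C, hι])
  refine ⟨P ⧸ I, inferInstance, φ, τ, ?_, ?_, fun τ' h' b => ?_⟩
  · exact RingHom.FiniteType.comp (RingHom.FiniteType.of_surjective _ Ideal.Quotient.mk_surjective)
      ((RingHom.finiteType_algebraMap (A := B) (B := P)).2 inferInstance)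
  · refine RingHom.ext fun b => ?_
    show (MvPolynomial.eval₂Hom σ fun ij : Fin n × Fin r => e ij.1 ij.2) (MvPolynomial.C b) = σ b
    exact MvPolynomial.eval₂Hom_C _ _ b
  · have hι' : ∀ t, τ' (φ (algebraMap R B t)) = ι t := fun t => (RingHom.congr_fun h' t).trans (hι t)
    obtain ⟨q, rfl⟩ := hπ b
    rw [← Ideal.Quotient.eq]
    refine RingHom.congr_fun (f := (Ideal.Quotient.mk _).comp (σ.comp π.toRingHom))
      (g := (Ideal.Quotient.mk _).comp ((τ'.comp φ).comp π.toRingHom)) ?_ q
    refine MvPolynomial.ringHom_ext (fun t => ?_) (fun i => ?_)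
    · show Ideal.Quotient.mk _ (σ (π (MvPolynomial.C t))) = Ideal.Quotient.mk _ (τ' (φ (π (MvPolynomial.C t))))
      rw [← MvPolynomial.algebraMap_eq, AlgHom.commutes, hι, hι']
    · show Ideal.Quotient.mk _ (σ (x i)) = Ideal.Quotient.mk _ (τ' (φ (x i)))
      rw [Ideal.Quotient.eq, hmN]
      refine (Ideal.unit_mul_mem_iff_mem _ (hu i)).1 ?_
      have h0 : τ' (Ideal.Quotient.mk I (rel i)) = 0 := by
        rw [Ideal.Quotient.eq_zero_iff_mem.2 (show rel i ∈ I from Ideal.subset_span (Set.mem_range_self i)), map_zero]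
      have h1 : ι (d i) * τ' (φ (x i)) - ι (cd i) =
          ∑ j, τ' (Ideal.Quotient.mk I (MvPolynomial.X (i, j))) * ι (a j) := by
        simp only [rel, map_sub, map_mul, map_sum, sub_eq_zero] at h0
        simp only [← hι']
        exact h0
      have h2 : ι (d i) * τ' (φ (x i)) - ι (cd i) ∈ (p ^ N).map ι := by
        rw [h1]
        refine Ideal.sum_mem _ fun j _ => Ideal.mul_mem_left _ _ (Ideal.mem_map_of_mem _ ?_)
        rw [← ha]
        exact Submodule.subset_span ⟨j, rfl⟩
      have h3 := sub_mem (hmem i) h2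
      rw [sub_sub_sub_cancel_right, ← mul_sub] at h3
      exact h3

theorem congr_germ {T : Scheme.{u}} {U : T.Opens} (hU : IsAffineOpen U) {B' C : CommRingCat.{u}} (φ : Γ(T, U) ⟶ B')
    (t : T) (ht : t ∈ U) (t' : Spec B') (hg : (Spec.map φ ≫ hU.fromSpec) t' = t)
    (τ : (Spec B').presheaf.stalk t' ⟶ C) :
    T.presheaf.germ U t ht ≫
      (T.presheaf.stalkCongr (Inseparable.of_eq hg)).inv ≫ (Spec.map φ ≫ hU.fromSpec).stalkMap t' ≫ τ =
    φ ≫ StructureSheaf.toStalk B' t' ≫ τ := by
  apply Spec.map_injective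
  apply (cancel_mono hU.fromSpec).1
  simp only [Spec.map_comp, Category.assoc]
  rw [show Spec.map (T.presheaf.germ U t ht) ≫ hU.fromSpec = T.fromSpecStalk t from
    hU.fromSpecStalk_eq_fromSpecStalk ht]
  rw [TopCat.Presheaf.stalkCongr_inv, Scheme.SpecMap_stalkSpecializes_fromSpecStalk, Scheme.SpecMap_stalkMap_fromSpecStalk, Spec.fromSpecStalk_eq']
  rfl

end Groth.Agent.S7201

namespace Groth.Agent.S7201

open AlgebraicGeometry CategoryTheory Limits in
/-- Let h : T → S be a morphism of finite type between Noetherian schemes, t a point of T with image s,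
and σ : O_{T,t} → O_{S,s}^∧ a local O_{S,s}-algebra map to the completion. For every N ≥ 1 there is
a morphism of finite type g : T' → T and a point t' over t such that σ factors through O_{T,t} →
O_{T',t'}, and any local O_{S,s}-algebra map σ' : O_{T,t} → O_{S,s}^∧ factoring through O_{T,t} →
O_{T',t'} agrees with σ modulo m_s^N. -/
theorem result {T S : Scheme.{u}} [IsNoetherian T] [IsNoetherian S]
    (h : T ⟶ S) [LocallyOfFiniteType h] [QuasiCompact h] (t : T)
    (σ : ↑(T.presheaf.stalk t) →+* (AdicCompletion (IsLocalRing.maximalIdeal ↑(S.presheaf.stalk (h t))) ↑(S.presheaf.stalk (h t))))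
    (hσ : σ.comp (h.stalkMap t).hom = algebraMap ↑(S.presheaf.stalk (h t)) (AdicCompletion (IsLocalRing.maximalIdeal ↑(S.presheaf.stalk (h t))) ↑(S.presheaf.stalk (h t))))
    (hloc : ∀ a ∈ IsLocalRing.maximalIdeal ↑(T.presheaf.stalk t),
      σ a ∈ (IsLocalRing.maximalIdeal ↑(S.presheaf.stalk (h t))).map (algebraMap ↑(S.presheaf.stalk (h t)) (AdicCompletion (IsLocalRing.maximalIdeal ↑(S.presheaf.stalk (h t))) ↑(S.presheaf.stalk (h t)))))
    (N : ℕ) (hN : 1 ≤ N) :
    ∃ (T' : Scheme.{u}) (g : T' ⟶ T) (t' : T') (hg : g t' = t) (τ : ↑(T'.presheaf.stalk t') →+* (AdicCompletion (IsLocalRing.maximalIdeal ↑(S.presheaf.stalk (h t))) ↑(S.presheaf.stalk (h t)))),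
      LocallyOfFiniteType g ∧ QuasiCompact g ∧
      τ.comp ((g.stalkMap t').hom.comp (T.presheaf.stalkCongr (Inseparable.of_eq hg)).inv.hom) = σ ∧
      ∀ (σ' : ↑(T.presheaf.stalk t) →+* (AdicCompletion (IsLocalRing.maximalIdeal ↑(S.presheaf.stalk (h t))) ↑(S.presheaf.stalk (h t)))),
        σ'.comp (h.stalkMap t).hom = algebraMap ↑(S.presheaf.stalk (h t)) (AdicCompletion (IsLocalRing.maximalIdeal ↑(S.presheaf.stalk (h t))) ↑(S.presheaf.stalk (h t))) →
        (∀ a ∈ IsLocalRing.maximalIdeal ↑(T.presheaf.stalk t),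
          σ' a ∈ (IsLocalRing.maximalIdeal ↑(S.presheaf.stalk (h t))).map (algebraMap ↑(S.presheaf.stalk (h t)) (AdicCompletion (IsLocalRing.maximalIdeal ↑(S.presheaf.stalk (h t))) ↑(S.presheaf.stalk (h t))))) →
        (∃ τ' : ↑(T'.presheaf.stalk t') →+* (AdicCompletion (IsLocalRing.maximalIdeal ↑(S.presheaf.stalk (h t))) ↑(S.presheaf.stalk (h t))),
          τ'.comp ((g.stalkMap t').hom.comp (T.presheaf.stalkCongr (Inseparable.of_eq hg)).inv.hom) = σ') →
        ∀ a : ↑(T.presheaf.stalk t), σ a - σ' a ∈ (IsLocalRing.maximalIdeal ↑(S.presheaf.stalk (h t)) ^ N).map (algebraMap ↑(S.presheaf.stalk (h t)) (AdicCompletion (IsLocalRing.maximalIdeal ↑(S.presheaf.stalk (h t))) ↑(S.presheaf.stalk (h t)))) := by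
  classical
  let O := S.presheaf.stalk (h t)
  let C := AdicCompletion (IsLocalRing.maximalIdeal O) O
  obtain ⟨_, ⟨V, hV, rfl⟩, hsV, -⟩ :=
    S.isBasis_affineOpens.exists_subset_of_mem_open (Set.mem_univ (h t)) isOpen_univ
  obtain ⟨_, ⟨U, hU, rfl⟩, htU, hUV⟩ :=
    T.isBasis_affineOpens.exists_subset_of_mem_open (show t ∈ (h ⁻¹ᵁ V : T.Opens) from hsV) (h ⁻¹ᵁ V).2
  letI : Algebra Γ(S, V) Γ(T, U) := (h.appLE V U hUV).hom.toAlgebra
  haveI : Algebra.FiniteType Γ(S, V) Γ(T, U) :=
    RingHom.finiteType_algebraMap.1 (HasRingHomProperty.appLE @LocallyOfFiniteType h inferInstance ⟨V, hV⟩ ⟨U, hU⟩ hUV)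
  haveI : IsNoetherianRing Γ(S, V) := IsLocallyNoetherian.component_noetherian ⟨V, hV⟩
  letI : Algebra Γ(S, V) O := S.presheaf.algebra_section_stalk ⟨h t, hsV⟩
  haveI : IsLocalization.AtPrime O (hV.primeIdealOf ⟨h t, hsV⟩).asIdeal := hV.isLocalization_stalk ⟨h t, hsV⟩
  haveI : IsNoetherianRing O :=
    IsLocalization.isNoetherianRing (hV.primeIdealOf ⟨h t, hsV⟩).asIdeal.primeCompl O inferInstance
  let σB : Γ(T, U) →+* C := σ.comp (T.presheaf.germ U t htU).hom
  have hcompat : ∀ ρ : ↑(T.presheaf.stalk t) →+* C, ρ.comp (h.stalkMap t).hom = algebraMap O C →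
      (ρ.comp (T.presheaf.germ U t htU).hom).comp (algebraMap Γ(S, V) Γ(T, U)) =
        (algebraMap O C).comp (algebraMap Γ(S, V) O) := by
    intro ρ hρ
    refine RingHom.ext fun r => ?_
    rw [← hρ]
    show ρ (T.presheaf.germ U t htU (h.appLE V U hUV r)) = ρ (h.stalkMap t (S.presheaf.germ V (h t) hsV r))
    rw [Scheme.Hom.germ_stalkMap_apply, Scheme.Hom.appLE, CommRingCat.comp_apply, T.presheaf.germ_res_apply]
  obtain ⟨B', _, φ, τ0, hφ, hτ0, hτ0'⟩ :=
    exists_refinement (hV.primeIdealOf ⟨h t, hsV⟩).asIdeal N σB (hcompat σ hσ)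
  let g : Spec (CommRingCat.of B') ⟶ T := Spec.map (CommRingCat.ofHom φ) ≫ hU.fromSpec
  let t' : Spec (CommRingCat.of B') := (⟨(IsLocalRing.maximalIdeal C).comap τ0, Ideal.IsPrime.comap _⟩ : PrimeSpectrum B')
  have hmC : (IsLocalRing.maximalIdeal O).map (algebraMap O C) = IsLocalRing.maximalIdeal C :=
    AdicCompletion.maximalIdeal_eq_map.symm
  letI : Algebra Γ(T, U) ↑(T.presheaf.stalk t) := T.presheaf.algebra_section_stalk ⟨t, htU⟩
  haveI : IsLocalization.AtPrime ↑(T.presheaf.stalk t) (hU.primeIdealOf ⟨t, htU⟩).asIdeal :=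
    hU.isLocalization_stalk ⟨t, htU⟩
  have hpt : PrimeSpectrum.comap φ t' = hU.primeIdealOf ⟨t, htU⟩ := by
    refine PrimeSpectrum.ext ?_
    show ((IsLocalRing.maximalIdeal C).comap τ0).comap φ = _
    rw [Ideal.comap_comap, hτ0]
    ext b
    constructor
    · intro hb
      by_contra hbq
      have hu := (IsLocalization.map_units ↑(T.presheaf.stalk t)
        (⟨b, hbq⟩ : (hU.primeIdealOf ⟨t, htU⟩).asIdeal.primeCompl)).map σ
      have hb' : σB b ∈ IsLocalRing.maximalIdeal C := hb
      exact (IsLocalRing.mem_maximalIdeal _).1 hb' hu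
    · intro hb
      show σ (algebraMap Γ(T, U) ↑(T.presheaf.stalk t) b) ∈ IsLocalRing.maximalIdeal C
      rw [← hmC]
      exact hloc _ ((IsLocalization.AtPrime.to_map_mem_maximal_iff _ (hU.primeIdealOf ⟨t, htU⟩).asIdeal b).2 hb)
  have hg : g t' = t := by
    show hU.fromSpec (PrimeSpectrum.comap φ t') = t
    rw [hpt]
    exact IsAffineOpen.fromSpec_primeIdealOf hU ⟨t, htU⟩
  have hu0 : ∀ y : t'.asIdeal.primeCompl, IsUnit (τ0 y) := fun y => by
    by_contra hy
    exact y.2 ((IsLocalRing.mem_maximalIdeal _).2 hy)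
  letI : Algebra B' ↑((Spec (CommRingCat.of B')).presheaf.stalk t') := StructureSheaf.stalkAlgebra B' t'
  haveI : IsLocalization.AtPrime ↑((Spec (CommRingCat.of B')).presheaf.stalk t') t'.asIdeal :=
    StructureSheaf.IsLocalization.to_stalk B' t'
  let τ : ↑((Spec (CommRingCat.of B')).presheaf.stalk t') →+* C :=
    IsLocalization.lift (M := t'.asIdeal.primeCompl) (S := (Spec (CommRingCat.of B')).presheaf.stalk t') hu0
  have key : ∀ ρ : ↑((Spec (CommRingCat.of B')).presheaf.stalk t') →+* C,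
      (ρ.comp ((g.stalkMap t').hom.comp (T.presheaf.stalkCongr (Inseparable.of_eq hg)).inv.hom)).comp
        (T.presheaf.germ U t htU).hom = (ρ.comp (StructureSheaf.toStalk (CommRingCat.of B') t').hom).comp φ :=
    fun ρ => congrArg CommRingCat.Hom.hom
      (congr_germ hU (B' := CommRingCat.of B') (C := CommRingCat.of C) (CommRingCat.ofHom φ) t htU t' hg
        (CommRingCat.ofHom ρ))
  refine ⟨Spec (CommRingCat.of B'), g, t', hg, τ, ?_, ?_, ?_, ?_⟩
  · haveI : LocallyOfFiniteType (Spec.map (CommRingCat.ofHom φ)) := by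
      rw [HasRingHomProperty.Spec_iff (P := @LocallyOfFiniteType)]
      exact hφ
    infer_instance
  · exact quasiCompact_of_compactSpace g
  · refine IsLocalization.ringHom_ext (hU.primeIdealOf ⟨t, htU⟩).asIdeal.primeCompl ?_
    refine (key τ).trans ?_
    have e1 : (StructureSheaf.toStalk (CommRingCat.of B') t').hom =
        algebraMap B' ↑((Spec (CommRingCat.of B')).presheaf.stalk t') := rfl
    have e2 : τ.comp (algebraMap B' ↑((Spec (CommRingCat.of B')).presheaf.stalk t')) = τ0 :=
      IsLocalization.lift_comp (M := t'.asIdeal.primeCompl) hu0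
    rw [e1, e2]
    exact hτ0
  · rintro σ' hσ' - ⟨τ', hτ'⟩ a
    obtain ⟨b, d, rfl⟩ := IsLocalization.exists_mk'_eq (hU.primeIdealOf ⟨t, htU⟩).asIdeal.primeCompl a
    let ρ := τ'.comp (StructureSheaf.toStalk (CommRingCat.of B') t').hom
    have hρ : ρ.comp φ = σ'.comp (T.presheaf.germ U t htU).hom := by rw [← hτ', key]
    have hb : ∀ b, σB b - σ' (T.presheaf.germ U t htU b) ∈
        (IsLocalRing.maximalIdeal O ^ N).map (algebraMap O C) := fun b => by
      have := hτ0' ρ (by rw [hρ, hcompat σ' hσ', ← hcompat σ hσ]) b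
      rwa [show ρ (φ b) = σ' (T.presheaf.germ U t htU b) from RingHom.congr_fun hρ b] at this
    let y := IsLocalization.mk' ↑(T.presheaf.stalk t) b d
    have hsp : T.presheaf.germ U t htU (d : Γ(T, U)) * y = T.presheaf.germ U t htU b :=
      IsLocalization.mk'_spec' ↑(T.presheaf.stalk t) b d
    have hud : IsUnit (σB d) :=
      (IsLocalization.map_units ↑(T.presheaf.stalk t) d).map σ
    refine (Ideal.unit_mul_mem_iff_mem _ hud).1 ?_
    have e : σB d * (σ y - σ' y) =
        (σB b - σ' (T.presheaf.germ U t htU b)) - σ' y * (σB d - σ' (T.presheaf.germ U t htU (d : Γ(T, U)))) := by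
      have e1 : σB d * σ y = σB b := by
        show σ _ * σ y = σ _
        rw [← map_mul, hsp]
      have e2 : σ' (T.presheaf.germ U t htU (d : Γ(T, U))) * σ' y = σ' (T.presheaf.germ U t htU b) := by
        rw [← map_mul, hsp]
      linear_combination e1 - e2
    show σB d * (σ y - σ' y) ∈ _
    rw [e]
    exact sub_mem (hb b) (Ideal.mul_mem_left _ _ (hb d))

end Groth.Agent.S7201
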