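import Groth.Statements.S7204


set_option autoImplicit false
universe w u
open FlatMor

namespace Groth.Agent.S7204

open AlgebraicGeometry CategoryTheory Limits in
/-- Let (X_i)_{i ∈ I} be a diagram of schemes and (W, X_i → W) a cocone under it. If there is an fpqc
covering {W_a → W} such that each W_a is the colimit (in schemes) of the base-changed diagram (X_i
×_W W_a), and each W_a ×_W W_b is the colimit of (X_i ×_W W_a ×_W W_b), then W is the colimit of
(X_i) in the category of schemes. -/
theorem result {J : Type u} [SmallCategory J] (D : J ⥤ Scheme.{u}) (c : Cocone D)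
    (F : PreZeroHypercover.{w} c.pt) (hF : F.presieve₀ ∈ Scheme.fpqcPrecoverage c.pt)
    (h1 : ∀ a : F.I₀, Nonempty (IsColimit ((Over.forgetCocone (F.X a)).whisker
      (D.toOver c.pt (fun j => c.ι.app j) (fun g => c.w g) ⋙ Over.pullback (F.f a)))))
    (h2 : ∀ a b : F.I₀, Nonempty (IsColimit ((Over.forgetCocone (pullback (F.f a) (F.f b))).whisker
      (D.toOver c.pt (fun j => c.ι.app j) (fun g => c.w g) ⋙ Over.pullback (pullback.fst (F.f a) (F.f b) ≫ F.f a))))) :
    Nonempty (IsColimit c) := by
  classical
  let K : ∀ (A : Scheme.{u}) (f : A ⟶ c.pt), J ⥤ Over A := fun A f =>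
    D.toOver c.pt (fun j => c.ι.app j) (fun g => c.w g) ⋙ Over.pullback f
  have hsh : ∀ T : Scheme.{u}, ∀ (Y : Scheme.{u}) (R : Presieve Y), R ∈ Scheme.fpqcPrecoverage Y →
      R.IsSheafFor (yoneda.obj T) := fun T Y R hR =>
    (GrothendieckTopology.Subcanonical.isSheaf_of_isRepresentable (J := Scheme.fpqcTopology) (yoneda.obj T)).isSheafFor
      R (Precoverage.generate_mem_toGrothendieck hR)
  -- morphisms out of a covered scheme are determined on the covering
  have hext : ∀ (Y T : Scheme.{u}) {ι : Type w} (U : ι → Scheme.{u}) (π : ∀ i, U i ⟶ Y),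
      Presieve.ofArrows U π ∈ Scheme.fpqcPrecoverage Y → ∀ p q : Y ⟶ T, (∀ i, π i ≫ p = π i ≫ q) → p = q :=
    fun Y T ι U π hR p q h => (hsh T Y _ hR).isSeparatedFor.ext fun A f hf => by
      obtain ⟨i⟩ := hf
      exact h i
  -- the descended map on each member of the covering
  let sa : ∀ (s : Cocone D) (a : F.I₀), Cocone (K (F.X a) (F.f a) ⋙ Over.forget (F.X a)) := fun s a =>
    { pt := s.pt
      ι :=
        { app := fun j => pullback.fst (c.ι.app j) (F.f a) ≫ s.ι.app j
          naturality := fun i j g => by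
            simp only [K, Functor.comp_obj, Functor.comp_map, Over.forget_map, Over.pullback_map_left,
              Functor.toOver_map_left, Functor.const_obj_map, Category.comp_id]
            exact (pullback.lift_fst_assoc _ _ _ _).trans ((Category.assoc _ _ _).trans
              ((congrArg (pullback.fst (c.ι.app i) (F.f a) ≫ ·) (s.w g)).trans (Category.comp_id _).symm)) } }
  let φ : ∀ (s : Cocone D) (a : F.I₀), F.X a ⟶ s.pt := fun s a => (h1 a).some.desc (sa s a)
  have hφ : ∀ (s : Cocone D) (a : F.I₀) (j : J),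
      pullback.snd (c.ι.app j) (F.f a) ≫ φ s a = pullback.fst (c.ι.app j) (F.f a) ≫ s.ι.app j :=
    fun s a j => (h1 a).some.fac (sa s a) j
  have hcompat : ∀ (s : Cocone D) (a b : F.I₀),
      pullback.fst (F.f a) (F.f b) ≫ φ s a = pullback.snd (F.f a) (F.f b) ≫ φ s b := fun s a b =>
    (h2 a b).some.hom_ext fun j => by
      let π := pullback.fst (F.f a) (F.f b) ≫ F.f a
      change pullback.snd (c.ι.app j) π ≫ _ = pullback.snd (c.ι.app j) π ≫ _
      have ea := hφ s a j
      have eb := hφ s b j
      have wa : pullback.fst (c.ι.app j) π ≫ c.ι.app j =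
          (pullback.snd (c.ι.app j) π ≫ pullback.fst (F.f a) (F.f b)) ≫ F.f a :=
        pullback.condition.trans (Category.assoc _ _ _).symm
      have wb : pullback.fst (c.ι.app j) π ≫ c.ι.app j =
          (pullback.snd (c.ι.app j) π ≫ pullback.snd (F.f a) (F.f b)) ≫ F.f b := by
        rw [wa, Category.assoc, Category.assoc, pullback.condition]
      calc pullback.snd (c.ι.app j) π ≫ pullback.fst (F.f a) (F.f b) ≫ φ s a
          = pullback.lift _ _ wa ≫ pullback.snd (c.ι.app j) (F.f a) ≫ φ s a := by
            rw [pullback.lift_snd_assoc, Category.assoc]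
        _ = pullback.fst (c.ι.app j) π ≫ s.ι.app j := by rw [ea, pullback.lift_fst_assoc]
        _ = pullback.lift _ _ wb ≫ pullback.snd (c.ι.app j) (F.f b) ≫ φ s b := by
            rw [eb, pullback.lift_fst_assoc]
        _ = pullback.snd (c.ι.app j) π ≫ pullback.snd (F.f a) (F.f b) ≫ φ s b := by
            rw [pullback.lift_snd_assoc, Category.assoc]
  have hglue : ∀ s : Cocone D, ∃ ψ : c.pt ⟶ s.pt, ∀ a, F.f a ≫ ψ = φ s a := fun s => by
    obtain ⟨ψ, hψ, -⟩ := (Presieve.isSheafFor_arrows_iff (yoneda.obj s.pt) F.f).1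
      (hsh s.pt c.pt _ hF) (φ s) (fun a b Z ga gb hg => by
        have := congrArg (pullback.lift ga gb hg ≫ ·) (hcompat s a b)
        simp only [pullback.lift_fst_assoc, pullback.lift_snd_assoc] at this
        exact this)
    exact ⟨ψ, hψ⟩
  choose ψ hψ using hglue
  exact ⟨{
    desc := ψ
    fac := fun s j => by
      refine hext (D.obj j) s.pt (fun a => pullback (c.ι.app j) (F.f a)) (fun a => pullback.fst _ _)
        (Precoverage.mem_coverings_of_isPullback F.f hF (c.ι.app j) _ (fun a => pullback.snd _ _)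
          (fun a => IsPullback.of_hasPullback _ _)) _ _ fun a => ?_
      rw [pullback.condition_assoc, hψ, hφ]
    uniq := fun s m hm => hext c.pt s.pt F.X F.f hF _ _ fun a => by
      rw [hψ]
      refine (h1 a).some.hom_ext fun j => ?_
      change pullback.snd (c.ι.app j) (F.f a) ≫ _ = pullback.snd (c.ι.app j) (F.f a) ≫ _
      rw [hφ, ← pullback.condition_assoc, hm] }⟩

end Groth.Agent.S7204
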