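import Groth.Statements.S7213
import Groth.Agent.DCohBridge.PushProjCx
import Groth.Agent.DCohBridge.PerfectQCoh
import Groth.Agent.QCohPull.Affine
import Groth.Agent.TensorMod.Invertible
-- import your own Groth.Agent.* helpers here

set_option autoImplicit false
universe u
open CategoryTheory CategoryTheory.Limits AlgebraicGeometry Opposite TopologicalSpace
attribute [local instance] HasDerivedCategory.standard
open FlatMor

namespace Groth.Agent.S7213

/-- Let f : X ⟶ S be a morphism of schemes, m an integer, and E ∈ D(O_X) such that E is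
m-pseudo-coherent with respect to the morphism f (chart form; in particular f is locally of finite
type). Then for every integer i > m the cohomology sheaf H^i(E) is a quasi-coherent O_X-module. -/
theorem result {X S : Scheme.{u}} (f : X ⟶ S) (m : ℤ) (E : DCoh.D X)
    (hE : DerSch.IsPseudoCoherentRel f m E) (i : ℤ) (hi : m < i) : Coh.IsQCoh (DCoh.HD E i) := by
  refine Groth.Agent.DCohBridge.isQCoh_of_local fun x => ?_
  obtain ⟨-, 𝒱, hcov, hV⟩ := hE
  have hx : f x ∈ (⨆ V ∈ 𝒱, (V : S.Opens)) := by rw [hcov]; trivial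
  simp only [TopologicalSpace.Opens.mem_iSup] at hx
  obtain ⟨V, hVm, hfx⟩ := hx
  obtain ⟨𝒰, h𝒰, hU⟩ := hV V hVm
  have hxU : x ∈ (⨆ U ∈ 𝒰, (U : X.Opens)) := by rw [h𝒰]; exact hfx
  simp only [TopologicalSpace.Opens.mem_iSup] at hxU
  obtain ⟨U, hUm, hxU⟩ := hxU
  have hle : (U : X.Opens) ≤ f ⁻¹ᵁ (V : S.Opens) := h𝒰 ▸ le_biSup (fun U : X.affineOpens => (U : X.Opens)) hUm
  obtain ⟨n, φ, hchart, hPC⟩ := hU U hUm hle
  haveI : IsAffine ((U : X.Opens) : Scheme.{u}) := U.2
  let c0 := DerSch.chartImm (U : X.Opens) φ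
  haveI : IsClosedImmersion c0 := by
    haveI : IsClosedImmersion (Spec.map (CommRingCat.ofHom φ)) := IsClosedImmersion.spec_of_surjective _ hchart.1
    haveI : IsIso (U : X.Opens).toSpecΓ := by
      rw [← U.2.isoSpec_hom]; infer_instance
    show IsClosedImmersion ((U : X.Opens).toSpecΓ ≫ _)
    infer_instance
  refine ⟨_, (U : X.Opens).ι, inferInstance, ⟨x, hxU⟩, rfl, ?_⟩
  let G := DerivedCategory.Q.objPreimage E
  let eG : DCoh.toD X G ≅ E := DerivedCategory.Q.objObjPreimageIso E
  let H := (DCoh.restrictCx (U : X.Opens)).obj G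
  have hq : Coh.IsQCoh (DCoh.HD (DCoh.toD _ ((DerSch.pushCx c0).obj H)) i) :=
    Groth.Agent.DCohBridge.isQCoh_HD_of_pc (hPC G ⟨eG⟩) hi
  haveI := Groth.Agent.DCohBridge.preservesFiniteColimits_push c0
  haveI : PreservesFiniteLimits (Scheme.Modules.pushforward c0) := inferInstance
  haveI : (Scheme.Modules.pushforward c0).PreservesHomology := inferInstance
  haveI : (Scheme.Modules.restrictFunctor (U : X.Opens).ι).PreservesHomology := inferInstance
  let e₁ := (DerivedCategory.homologyFunctorFactors _ i).app ((DerSch.pushCx c0).obj H) ≪≫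
    ((H.sc i).mapHomologyIso (Scheme.Modules.pushforward c0))
  let e₂ : (Scheme.Modules.restrictFunctor (U : X.Opens).ι).obj (DCoh.HD E i) ≅ H.homology i :=
    (Scheme.Modules.restrictFunctor (U : X.Opens).ι).mapIso
      ((DerivedCategory.homologyFunctor _ i).mapIso eG.symm ≪≫ (DerivedCategory.homologyFunctorFactors _ i).app G) ≪≫
      ((G.sc i).mapHomologyIso (Scheme.Modules.restrictFunctor (U : X.Opens).ι)).symm
  have hq' : ((Scheme.Modules.pushforward c0).obj (H.homology i)).IsQuasicoherent :=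
    Groth.Agent.TensorMod.isQCoh_of_iso e₁ hq
  have h3 := @Groth.Agent.QCohPull.isQuasicoherent_pullback _ _ c0 _ hq'
  haveI := Groth.Agent.DCohBridge.isIso_counit_closed c0 (H.homology i)
  exact Groth.Agent.TensorMod.isQCoh_of_iso
    (asIso ((Scheme.Modules.pullbackPushforwardAdjunction c0).counit.app (H.homology i)) ≪≫ e₂.symm) h3
end Groth.Agent.S7213
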