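import Groth.Statements.S7214
import Groth.Agent.DCohBridge.PCRetract

set_option autoImplicit false
universe u
open CategoryTheory CategoryTheory.Limits AlgebraicGeometry Opposite TopologicalSpace
attribute [local instance] HasDerivedCategory.standard
open FlatMor

namespace Groth.Agent.S7214

/-- Let f : X ⟶ S be a morphism of schemes, m an integer, and E, K objects of D(O_X). If the direct sum
E ⊕ K is m-pseudo-coherent relative to f (chart form; in particular f is locally of finite type),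
then so are E and K. -/
theorem result {X S : Scheme.{u}} (f : X ⟶ S) (m : ℤ) (E K : DCoh.D X)
    [HasBinaryBiproduct E K] (h : DerSch.IsPseudoCoherentRel f m (E ⊞ K)) :
    DerSch.IsPseudoCoherentRel f m E ∧ DerSch.IsPseudoCoherentRel f m K := by
  obtain ⟨hft, 𝒱, hcov, hV⟩ := h
  haveI : (DerivedCategory.Q : CochainComplex X.Modules ℤ ⥤ DCoh.D X).EssSurj := inferInstance
  have key : ∀ (A B : DCoh.D X) [HasBinaryBiproduct A B] (U : X.Opens) (V : S.Opens) (n : ℕ)
      (φ : MvPolynomial (Fin n) Γ(S, V) →+* Γ(X, U)), DerSch.ChartPC m (A ⊞ B) U V φ →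
        DerSch.ChartPC m A U V φ ∧ DerSch.ChartPC m B U V φ := by
    intro A B _ U V n φ hPC
    let F := DCoh.restrictCx U ⋙ DerSch.pushCx (DerSch.chartImm U φ)
    have main : ∀ GA GB : CochainComplex X.Modules ℤ, Nonempty (DCoh.toD X GA ≅ A) → Nonempty (DCoh.toD X GB ≅ B) →
        DCoh.IsPseudoCoherentD m (DCoh.toD _ (F.obj GA)) ∧ DCoh.IsPseudoCoherentD m (DCoh.toD _ (F.obj GB)) := by
      rintro GA GB ⟨eA⟩ ⟨eB⟩
      haveI := preservesBinaryBiproducts_of_preservesBiproducts (DerivedCategory.Q : CochainComplex X.Modules ℤ ⥤ DCoh.D X)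
      haveI : HasBinaryBiproduct (DCoh.toD X GA) (DCoh.toD X GB) := HasBinaryBiproducts.has_binary_biproduct _ _
      have hG := hPC (GA ⊞ GB) ⟨DerivedCategory.Q.mapBiprod GA GB ≪≫ biprod.mapIso eA eB⟩
      rw [Groth.Agent.DCohBridge.isPseudoCoherentD_iff] at hG
      simp only [Groth.Agent.DCohBridge.isPseudoCoherentD_iff]
      refine ⟨fun x => (hG x).retract (DerivedCategory.Q.map (F.map biprod.inl))
          (DerivedCategory.Q.map (F.map biprod.fst)) ?_,
        fun x => (hG x).retract (DerivedCategory.Q.map (F.map biprod.inr))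
          (DerivedCategory.Q.map (F.map biprod.snd)) ?_⟩
      · rw [← Functor.map_comp, ← Functor.map_comp, biprod.inl_fst, CategoryTheory.Functor.map_id, CategoryTheory.Functor.map_id]
      · rw [← Functor.map_comp, ← Functor.map_comp, biprod.inr_snd, CategoryTheory.Functor.map_id, CategoryTheory.Functor.map_id]
    exact ⟨fun G hG => (main G _ hG ⟨DerivedCategory.Q.objObjPreimageIso B⟩).1,
      fun G hG => (main _ G ⟨DerivedCategory.Q.objObjPreimageIso A⟩ hG).2⟩
  refine ⟨⟨hft, 𝒱, hcov, fun V hVm => ?_⟩, ⟨hft, 𝒱, hcov, fun V hVm => ?_⟩⟩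
  all_goals
    obtain ⟨𝒰, h𝒰, hU⟩ := hV V hVm
    refine ⟨𝒰, h𝒰, fun U hUm hle => ?_⟩
    obtain ⟨n, φ, hchart, hPC⟩ := hU U hUm hle
  · exact ⟨n, φ, hchart, (key E K U V n φ hPC).1⟩
  · exact ⟨n, φ, hchart, (key E K U V n φ hPC).2⟩

end Groth.Agent.S7214
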