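import Groth.Statements.S7225
import Mathlib
-- import your own Groth.Agent.* helpers here

set_option autoImplicit false
universe u
open CategoryTheory CategoryTheory.Limits TensorProduct
attribute [local instance] HasDerivedCategory.standard
open FlatMor

open Algebra Algebra.Extension CategoryTheory

namespace Groth.Agent.S7225

variable {A A' B : Type u} [CommRing A] [CommRing A'] [CommRing B]
  [Algebra A A'] (M : Submonoid A) [IsLocalization M A'] [Algebra A' B] [Algebra A B] [IsScalarTower A A' B]
  {ι : Type u} (G : Algebra.Generators A B ι) (G' : Algebra.Generators A' B ι) (h : ∀ i, G'.val i = algebraMap B B (G.val i))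

theorem space_bijective :
    Function.Bijective (CotangentSpace.map (NLCx.sameVarsHom (S' := B) G G' h).toExtensionHom) := by
  let b := G.cotangentSpaceBasis
  let b' := G'.cotangentSpaceBasis
  have : CotangentSpace.map (NLCx.sameVarsHom (S' := B) G G' h).toExtensionHom = (b.equiv b' (Equiv.refl ι)).toLinearMap := by
    refine b.ext fun i ↦ ?_
    rw [LinearEquiv.coe_coe, b.equiv_apply, Equiv.refl_apply, Generators.cotangentSpaceBasis_apply,
      Generators.cotangentSpaceBasis_apply]
    refine (CotangentSpace.map_tmul _ _ _).trans ?_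
    rw [map_one]
    congr 2
    exact MvPolynomial.aeval_X _ i
  rw [this]; exact (b.equiv b' _).bijective

include M in
theorem cotangent_bijective :
    Function.Bijective (Extension.Cotangent.map (NLCx.sameVarsHom (S' := B) G G' h).toExtensionHom) := by
  let f := (NLCx.sameVarsHom (S' := B) G G' h).toExtensionHom
  letI : Algebra (MvPolynomial ι A) (MvPolynomial ι A') := (MvPolynomial.map (algebraMap A A')).toAlgebra
  haveI : IsLocalization (M.map (MvPolynomial.C (R := A) (σ := ι))) (MvPolynomial ι A') :=
    MvPolynomial.isLocalization M A'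
  have hf : ∀ x : MvPolynomial ι A, f.toRingHom x = MvPolynomial.map (algebraMap A A') x := by
    intro x
    have : f.toRingHom = MvPolynomial.map (algebraMap A A') := by
      refine MvPolynomial.ringHom_ext (fun a ↦ ?_) (fun i ↦ ?_)
      · refine Eq.trans ?_ (MvPolynomial.map_C _ a).symm
        have e := f.toRingHom_algebraMap a
        exact e
      · refine Eq.trans ?_ (MvPolynomial.map_X _ i).symm
        show MvPolynomial.aeval (R := A) (S₁ := MvPolynomial ι A') (NLCx.sameVarsHom (S' := B) G G' h).val (MvPolynomial.X i) = _
        exact MvPolynomial.aeval_X _ i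
    exact RingHom.congr_fun this x
  have hker : ∀ x : MvPolynomial ι A, algebraMap G'.Ring B (MvPolynomial.map (algebraMap A A') x) = algebraMap G.Ring B x := by
    intro x
    rw [← hf]
    exact f.algebraMap_toRingHom x
  have hu : ∀ m ∈ M, IsUnit (algebraMap A B m) := fun m hm ↦ by
    rw [IsScalarTower.algebraMap_apply A A' B]
    exact (IsLocalization.map_units A' (⟨m, hm⟩ : M)).map _
  have hC : ∀ a : A, algebraMap G.Ring B (MvPolynomial.C a) = algebraMap A B a := fun a ↦
    (IsScalarTower.algebraMap_apply A G.Ring B a).symm
  have hsmul : ∀ (a : A) (c : G.toExtension.Cotangent), algebraMap A G.toExtension.Ring a • c = algebraMap A B a • c := by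
    intro a c
    rw [algebraMap_smul, algebraMap_smul]
  constructor
  · rw [injective_iff_map_eq_zero]
    intro c hc
    obtain ⟨k, rfl⟩ := Cotangent.mk_surjective c
    rw [Cotangent.map_mk, Cotangent.mk_eq_zero_iff] at hc
    let J : Ideal (MvPolynomial ι A) := G.toExtension.ker
    let J' : Ideal (MvPolynomial ι A') := G'.toExtension.ker
    let kv : MvPolynomial ι A := k.1
    have hc' : MvPolynomial.map (algebraMap A A') kv ∈ J' ^ 2 := (hf kv) ▸ hc
    have hkermap : J' = J.map (algebraMap (MvPolynomial ι A) (MvPolynomial ι A')) := by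
      refine le_antisymm (fun x hx ↦ ?_) (Ideal.map_le_iff_le_comap.mpr fun x hx ↦ ?_)
      · obtain ⟨x, ⟨_, m, hm, rfl⟩, rfl⟩ := IsLocalization.exists_mk'_eq (M.map (MvPolynomial.C (R := A) (σ := ι))) x
        rw [IsLocalization.mk'_mem_map_algebraMap_iff]
        refine ⟨1, one_mem _, ?_⟩
        rw [one_mul]
        show algebraMap G.Ring B x = 0
        have h2 := congrArg (algebraMap G'.Ring B) (IsLocalization.mk'_spec (MvPolynomial ι A') x (⟨MvPolynomial.C m, m, hm, rfl⟩ : M.map (MvPolynomial.C (R := A) (σ := ι))))
        rw [map_mul, (show algebraMap G'.Ring B _ = 0 from hx), zero_mul] at h2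
        exact (hker x).symm.trans h2.symm
      · rw [Ideal.mem_comap]
        show algebraMap G'.Ring B _ = 0
        exact (hker x).trans hx
    rw [hkermap, ← Ideal.map_pow] at hc'
    obtain ⟨_, ⟨m, hm, rfl⟩, hmk⟩ := (IsLocalization.algebraMap_mem_map_algebraMap_iff (M.map (MvPolynomial.C (R := A) (σ := ι))) (MvPolynomial ι A') _ _).mp hc'
    have h0 : algebraMap A G.toExtension.Ring m • Cotangent.mk k = 0 := by
      rw [← map_smul, Cotangent.mk_eq_zero_iff]
      exact hmk
    rw [hsmul] at h0
    exact (hu m hm).smul_eq_zero.mp h0
  · intro c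
    obtain ⟨⟨x, hx⟩, rfl⟩ := Cotangent.mk_surjective c
    obtain ⟨y, ⟨_, m, hm, rfl⟩, hy⟩ := IsLocalization.exists_mk'_eq (M.map (MvPolynomial.C (R := A) (σ := ι))) (show MvPolynomial ι A' from x)
    have hspec := IsLocalization.mk'_spec (MvPolynomial ι A') y (⟨MvPolynomial.C m, m, hm, rfl⟩ : M.map (MvPolynomial.C (R := A) (σ := ι)))
    rw [hy] at hspec
    have hyk : (show G.toExtension.Ring from y) ∈ G.toExtension.ker := by
      show algebraMap G.Ring B y = 0
      refine (hker y).symm.trans ?_
      have h2 := congrArg (algebraMap G'.Ring B) hspec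
      rw [map_mul, (show algebraMap G'.Ring B x = 0 from hx), zero_mul] at h2
      exact h2.symm
    refine ⟨(↑(hu m hm).unit⁻¹ : B) • Cotangent.mk ⟨y, hyk⟩, ?_⟩
    rw [map_smul, Cotangent.map_mk]
    have e : Cotangent.mk (P := G'.toExtension) ⟨f.toAlgHom y, (by rw [RingHom.mem_ker]; exact (f.algebraMap_toRingHom y).trans hyk)⟩ =
        algebraMap A B m • Cotangent.mk ⟨x, hx⟩ := by
      have hm' : algebraMap G'.Ring B (MvPolynomial.map (algebraMap A A') (MvPolynomial.C m)) = algebraMap A B m := (hker _).trans (hC m)
      rw [← hm']
      refine Eq.trans ?_ (algebraMap_smul (R := G'.toExtension.Ring) B (show G'.toExtension.Ring from MvPolynomial.map (algebraMap A A') (MvPolynomial.C m)) _).symm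
      rw [← map_smul]
      congr 1
      refine Subtype.ext ?_
      show f.toRingHom y = _ * x
      rw [hf, mul_comm]
      exact hspec.symm
    refine (congrArg _ e).trans ?_
    rw [smul_smul, IsUnit.val_inv_mul, one_smul]

end Groth.Agent.S7225

namespace Groth.Agent.S7225

/-- Let A be a ring, M a submonoid of A, A' a localization of A at M and B an A'-algebra, viewed also as
an A-algebra. Let G be a presentation of B over A by a polynomial algebra and G' the presentation of
B over A' with the same generators (G'(i) = G(i), written through the identity algebra map of B).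
Then the canonical chain map NL(G) → NL(G') from the naive cotangent complex of the presentation
over A to that of the presentation over A' is an isomorphism of complexes (so that NL_{B/A} →
NL_{B/A'} is a homotopy equivalence). -/
theorem result (A A' B : Type u) [CommRing A] [CommRing A'] [CommRing B]
    [Algebra A A'] (M : Submonoid A) [IsLocalization M A'] [Algebra A' B] [Algebra A B] [IsScalarTower A A' B]
    {ι : Type u} (G : Algebra.Generators A B ι) (G' : Algebra.Generators A' B ι) (h : ∀ i, G'.val i = algebraMap B B (G.val i)) :
    IsIso (NLCx.map (NLCx.sameVarsHom (S' := B) G G' h).toExtensionHom) := by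
  have h1 := Groth.Agent.S7225.cotangent_bijective M G G' h
  have h2 := Groth.Agent.S7225.space_bijective G G' h
  set f := (NLCx.sameVarsHom (S' := B) G G' h).toExtensionHom
  haveI i1 : IsIso (ModuleCat.ofHom (Algebra.Extension.Cotangent.map f)) := (ConcreteCategory.isIso_iff_bijective _).mpr h1
  haveI i2 : IsIso (ModuleCat.ofHom (Algebra.Extension.CotangentSpace.map f)) := (ConcreteCategory.isIso_iff_bijective _).mpr h2
  haveI : ∀ k : ℤ, IsIso ((NLCx.map f).f k) := by
    intro k
    by_cases hk : k = -1
    · subst hk
      simp only [NLCx.map, NLCx.cx]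
      erw [HomologicalComplex.mkHomFromDouble_f₀]
      infer_instance
    by_cases hk' : k = 0
    · subst hk'
      simp only [NLCx.map, NLCx.cx]
      erw [HomologicalComplex.mkHomFromDouble_f₁]
      infer_instance
    exact Limits.IsZero.isIso (HomologicalComplex.isZero_double_X _ _ k hk hk') (HomologicalComplex.isZero_double_X _ _ k hk hk') _
  exact HomologicalComplex.Hom.isIso_of_components _

end Groth.Agent.S7225
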