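import Groth.Statements.S7237
import Mathlib
-- import your own Groth.Agent.* helpers here

set_option autoImplicit false
universe u
open TensorProduct
open FlatMor

open TensorProduct

namespace Groth.Agent.S7237

variable (A : Type u) [CommRing A] (M : Type u) [AddCommGroup M] [Module A M]

theorem exists_derivation : ∃ D : Derivation A (SymmetricAlgebra A M) (SymmetricAlgebra A M ⊗[A] M),
    ∀ m, D (SymmetricAlgebra.ι A M m) = 1 ⊗ₜ[A] m := by
  let C := SymmetricAlgebra A M
  let N := C ⊗[A] M
  haveI : IsCentralScalar C N := ⟨fun a n => by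
    induction n using TensorProduct.induction_on with
    | zero => simp
    | tmul c m => rw [TensorProduct.smul_tmul', TensorProduct.smul_tmul', op_smul_eq_smul]
    | add x y hx hy => rw [smul_add, smul_add, hx, hy]⟩
  let g : M →ₗ[A] TrivSqZeroExt C N :=
    (TrivSqZeroExt.inlAlgHom A C N).toLinearMap ∘ₗ SymmetricAlgebra.ι A M +
      ((TrivSqZeroExt.inrHom C N).restrictScalars A) ∘ₗ (TensorProduct.mk A C M 1)
  let L := SymmetricAlgebra.lift g
  have hι : ∀ m, L (SymmetricAlgebra.ι A M m) = TrivSqZeroExt.inl (SymmetricAlgebra.ι A M m) + TrivSqZeroExt.inr (1 ⊗ₜ[A] m) :=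
    fun m => SymmetricAlgebra.lift_ι_apply g m
  have hfst : ∀ x, (L x).fst = x := fun x => by
    suffices (TrivSqZeroExt.fstHom A C N).comp L = AlgHom.id A C from congr($this x)
    refine SymmetricAlgebra.algHom_ext (LinearMap.ext fun m => ?_)
    show (L (SymmetricAlgebra.ι A M m)).fst = _
    rw [hι, TrivSqZeroExt.fst_add, TrivSqZeroExt.fst_inl, TrivSqZeroExt.fst_inr, add_zero]
    rfl
  let Dl : C →ₗ[A] N :=
    { toFun := fun x => (L x).snd
      map_add' := fun a b => by rw [map_add, TrivSqZeroExt.snd_add]
      map_smul' := fun r a => by rw [map_smul, TrivSqZeroExt.snd_smul, RingHom.id_apply] }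
  refine ⟨Derivation.mk' Dl fun a b => ?_, fun m => ?_⟩
  · show (L (a * b)).snd = a • (L b).snd + b • (L a).snd
    rw [map_mul, TrivSqZeroExt.snd_mul, hfst, hfst]
    exact congrArg _ (IsCentralScalar.op_smul_eq_smul (M := C) (α := N) b (L a).snd)
  · show (L (SymmetricAlgebra.ι A M m)).snd = _
    rw [hι, TrivSqZeroExt.snd_add, TrivSqZeroExt.snd_inl, TrivSqZeroExt.snd_inr, zero_add]

end Groth.Agent.S7237

namespace Groth.Agent.S7237

/-- Let A be a ring and M a finitely generated A-module, and let C = Sym_A(M) be the symmetric algebra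
of M with its canonical A-linear map ι : M → C. Then Ω_{C/A} = M ⊗_A C: the C-linear map C ⊗_A M →
Ω_{C/A} obtained by extending scalars in the A-linear map m ↦ d(ι m), d being the universal
A-derivation of C, is bijective. (The published lemma also computes the whole naive cotangent
complex of the presentation of C attached to a surjection A^m → M with kernel K, namely as K ⊗_A C →
⊕_j C dy_j; only its consequence for Ω is asserted here.) -/
theorem result (A : Type u) [CommRing A] (M : Type u)
    [AddCommGroup M] [Module A M] [Module.Finite A M] :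
    Function.Bijective (LinearMap.liftBaseChange (SymmetricAlgebra A M)
      ((KaehlerDifferential.D A (SymmetricAlgebra A M)).toLinearMap.restrictScalars A ∘ₗ SymmetricAlgebra.ι A M)) := by
  obtain ⟨D, hD⟩ := exists_derivation A M
  set φ := LinearMap.liftBaseChange (SymmetricAlgebra A M)
      ((KaehlerDifferential.D A (SymmetricAlgebra A M)).toLinearMap.restrictScalars A ∘ₗ SymmetricAlgebra.ι A M)
  have h1 : D.liftKaehlerDifferential ∘ₗ φ = LinearMap.id := by
    refine TensorProduct.AlgebraTensorModule.curry_injective (LinearMap.ext_ring (LinearMap.ext fun m => ?_))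
    show D.liftKaehlerDifferential (φ (1 ⊗ₜ[A] m)) = 1 ⊗ₜ[A] m
    simp [φ, hD]
  have h2 : φ ∘ₗ D.liftKaehlerDifferential = LinearMap.id := by
    refine Derivation.liftKaehlerDifferential_unique _ _ ?_
    refine Derivation.ext fun x => ?_
    show φ (D.liftKaehlerDifferential (KaehlerDifferential.D A _ x)) = KaehlerDifferential.D A _ x
    rw [Derivation.liftKaehlerDifferential_comp_D]
    induction x using SymmetricAlgebra.induction with
    | algebraMap r => simp
    | ι m => simp [φ, hD]
    | mul a b ha hb => rw [Derivation.leibniz, map_add, map_smul, map_smul, ha, hb, ← Derivation.leibniz]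
    | add a b ha hb => rw [map_add, map_add, ha, hb, ← map_add]
  exact Function.bijective_iff_has_inverse.2 ⟨D.liftKaehlerDifferential, fun x => LinearMap.congr_fun h1 x, fun x => LinearMap.congr_fun h2 x⟩

end Groth.Agent.S7237
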