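import Groth.Statements.S7248
import Groth.Agent.S0914
import Groth.Agent.FinLocFreeSections.Basic
import Groth.Prelude.Def_CxOX

set_option autoImplicit false
universe u
open CategoryTheory CategoryTheory.Limits AlgebraicGeometry
attribute [local instance] HasDerivedCategory.standard
open Perf


namespace Groth.Agent.S7248

set_option backward.isDefEq.respectTransparency false
set_option backward.defeqAttrib.useBackward true

open AlgebraicGeometry CategoryTheory

theorem isFlatOver_of_isFlat {X Y : Scheme.{u}} (f : X ⟶ Y) [Flat f] {M : X.Modules} (hM : FlatMod.IsFlat M) :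
    FlatMod.IsFlatOver f M := fun x => by
  letI := FlatMod.moduleStalkOver f M x
  letI : Algebra (Y.presheaf.stalk (f.base x)) (X.presheaf.stalk x) := (f.stalkMap x).hom.toAlgebra
  haveI : IsScalarTower (Y.presheaf.stalk (f.base x)) (X.presheaf.stalk x) (M.presheaf.stalk x) :=
    IsScalarTower.of_algebraMap_smul fun _ _ => rfl
  haveI : Module.Flat (Y.presheaf.stalk (f.base x)) (X.presheaf.stalk x) := Flat.stalkMap f x
  haveI : Module.Flat (X.presheaf.stalk x) (M.presheaf.stalk x) := hM x
  exact Module.Flat.trans (Y.presheaf.stalk (f.base x)) (X.presheaf.stalk x) (M.presheaf.stalk x)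

/-- Let f : X ⟶ S be flat and locally of finite presentation. Then a perfect object E of D(O_X) is
S-perfect, that is, E is pseudo-coherent (m-pseudo-coherent for every m) and, locally on X, the tor
dimension of E over the sheaf of rings f⁻¹O_S is finite (locally represented by a bounded complex of
O_X-modules flat over S). -/
theorem result {X S : Scheme.{u}} (f : X ⟶ S) [Flat f] [LocallyOfFinitePresentation f]
    (E : DCoh.D X) (hE : DCoh.IsPerfect E) :
    (∀ m : ℤ, DCoh.IsPseudoCoherentD m E) ∧ DCoh.LocHasFiniteRelTorDim f E := by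
  refine ⟨((Groth.Agent.S0914.result E).mp hE).1, fun x => ?_⟩
  obtain ⟨V, hxV, hV⟩ := hE x
  by_cases hex : ∃ F : CochainComplex X.Modules ℤ, Nonempty (DCoh.toD X F ≅ E)
  · obtain ⟨F, hF⟩ := hex
    obtain ⟨P, ⟨⟨a, b, hab⟩, hP⟩, ⟨e⟩⟩ := hV F hF
    refine ⟨V, a, b, hxV, fun F' hF' => ⟨P, hab, fun i => isFlatOver_of_isFlat _ (fun y => Groth.Agent.FinLocFreeSections.flat_stalk _ (hP i) y), ⟨e.symm ≪≫ ?_⟩⟩⟩
    exact ((Scheme.Modules.restrictFunctor V.ι).mapDerivedCategoryFactors.app F).symm ≪≫
        (DCoh.restrictD V.ι).mapIso (hF.some ≪≫ hF'.some.symm) ≪≫ (Scheme.Modules.restrictFunctor V.ι).mapDerivedCategoryFactors.app F'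
  · exact ⟨V, 0, 0, hxV, fun F' hF' => absurd ⟨F', hF'⟩ hex⟩

end Groth.Agent.S7248
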