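import Groth.Statements.S7290
import Mathlib.RingTheory.Spectrum.Prime.ConstructibleSet

set_option autoImplicit false
open CategoryTheory CategoryTheory.Limits AlgebraicGeometry Opposite
universe u
open ProEtW

namespace Groth.Agent.S7290

/-- Let A be a ring and let Spec A be the disjoint union of finitely many constructible subsets T_i.
Then there is a finite subset E of A such that the stratification of Spec A according to which
elements of E vanish at a point refines the given one: each nonempty stratum, consisting of the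
primes whose intersection with E is a prescribed subset, is contained in one of the T_i. -/
theorem result (A : Type u) [CommRing A] {ι : Type u} [Finite ι]
    (T : ι → Set (PrimeSpectrum A)) (hT : ∀ i, Topology.IsConstructible (T i))
    (hcov : ⋃ i, T i = Set.univ) (hdisj : Pairwise fun i j => Disjoint (T i) (T j)) :
    ∃ E : Finset A, ∀ E'' : Finset A, E'' ⊆ E →
      ∀ x : PrimeSpectrum A, (∀ f ∈ E, f ∈ x.asIdeal ↔ f ∈ E'') →
        ∃ i, {y : PrimeSpectrum A | ∀ f ∈ E, f ∈ y.asIdeal ↔ f ∈ E''} ⊆ T i := by
  classical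
  have hC : ∀ i, ∃ C : PrimeSpectrum.ConstructibleSetData A, C.toSet = T i := fun i =>
    PrimeSpectrum.exists_constructibleSetData_iff.mpr (hT i)
  choose C hC using hC
  let _ := Fintype.ofFinite ι
  refine ⟨Finset.univ.biUnion fun i => (C i).biUnion fun D => insert D.f (Finset.univ.image D.g),
    fun E'' _ x hx => ?_⟩
  obtain ⟨i, hi⟩ := Set.mem_iUnion.mp (hcov.ge (Set.mem_univ x))
  refine ⟨i, fun y hy => ?_⟩
  rw [← hC i] at hi ⊢
  simp only [PrimeSpectrum.ConstructibleSetData.toSet, Set.mem_iUnion] at hi ⊢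
  obtain ⟨D, hD, hxD⟩ := hi
  refine ⟨D, hD, ?_⟩
  have key : ∀ f, f ∈ insert D.f (Finset.univ.image D.g) → (f ∈ y.asIdeal ↔ f ∈ x.asIdeal) := fun f hf => by
    have hE : f ∈ Finset.univ.biUnion fun i => (C i).biUnion fun D => insert D.f (Finset.univ.image D.g) :=
      Finset.mem_biUnion.mpr ⟨i, Finset.mem_univ _, Finset.mem_biUnion.mpr ⟨D, hD, hf⟩⟩
    rw [hy f hE, hx f hE]
  simp only [PrimeSpectrum.BasicConstructibleSetData.toSet, Set.mem_sdiff, PrimeSpectrum.mem_zeroLocus,
    Set.range_subset_iff, Set.singleton_subset_iff, SetLike.mem_coe] at hxD ⊢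
  exact ⟨fun j => (key _ (by simp)).mpr (hxD.1 j), fun h => hxD.2 ((key _ (by simp)).mp h)⟩

end Groth.Agent.S7290
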