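import Groth.Statements.S7341
import Groth.Agent.NumType.Graph

set_option autoImplicit false
open Finset
open Models Models.NumericalType

namespace Groth.Agent.S7341

/-- Classification of proper subgraphs which are chains of three vertices: let T be a numerical type on
n > 3 indices and i, j, k distinct (-2)-indices with a_ij > 0 and a_jk > 0. Then a_ik = 0 and, up to
reversing the order of i, j, k, one of the following holds for some integer w: (A3) w_i = w_j = w_k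
= w, a_ij = a_jk = w, with 2 m_i ≥ m_j, 2 m_j ≥ m_i + m_k, 2 m_k ≥ m_j; (C3) w_i = w_j = w, w_k =
2w, a_ij = w, a_jk = 2w, with 2 m_i ≥ m_j, 2 m_j ≥ m_i + 2 m_k, 2 m_k ≥ m_j; (B3) w_i = w_j = 2w,
w_k = w, a_ij = a_jk = 2w, with 2 m_i ≥ m_j, 2 m_j ≥ m_i + m_k, m_k ≥ m_j. -/
theorem result {n : ℕ} (T : Models.NumericalType n) (hn : 3 < n) (i j k : Fin n)
    (hij : i ≠ j) (hjk : j ≠ k) (hik : i ≠ k) (hi : T.IsMinusTwo i) (hj : T.IsMinusTwo j) (hk : T.IsMinusTwo k)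
    (h1 : 0 < T.a i j) (h2 : 0 < T.a j k) :
    T.a i k = 0 ∧ ∃ (i' k' : Fin n) (w : ℤ), ((i' = i ∧ k' = k) ∨ (i' = k ∧ k' = i)) ∧
      ((T.w i' = w ∧ T.w j = w ∧ T.w k' = w ∧ T.a i' j = w ∧ T.a j k' = w ∧
          T.m j ≤ 2 * T.m i' ∧ T.m i' + T.m k' ≤ 2 * T.m j ∧ T.m j ≤ 2 * T.m k') ∨
        (T.w i' = w ∧ T.w j = w ∧ T.w k' = 2 * w ∧ T.a i' j = w ∧ T.a j k' = 2 * w ∧
          T.m j ≤ 2 * T.m i' ∧ T.m i' + 2 * T.m k' ≤ 2 * T.m j ∧ T.m j ≤ 2 * T.m k') ∨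
        (T.w i' = 2 * w ∧ T.w j = 2 * w ∧ T.w k' = w ∧ T.a i' j = 2 * w ∧ T.a j k' = 2 * w ∧
          T.m j ≤ 2 * T.m i' ∧ T.m i' + T.m k' ≤ 2 * T.m j ∧ T.m j ≤ T.m k')) := by
  have hk' : T.a k j ≠ 0 := by rw [NumType.symm' T]; exact h2.ne'
  have hi' : T.a j i ≠ 0 := by rw [NumType.symm' T]; exact h1.ne'
  obtain ⟨c1, hn1, hz⟩ := NumType.edge_cases T hn hij hjk hik hi hj hk h1.ne' h2.ne'
  have c2 := (NumType.edge_cases T hn hjk.symm hij.symm hik.symm hk hj hi hk' hi').1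
  refine ⟨hz, ?_⟩
  have main : ∀ a c : Fin n, a ≠ j → j ≠ c → a ≠ c → T.IsMinusTwo a → T.IsMinusTwo c →
      NumType.Simple T a j → (NumType.Simple T j c ∨ NumType.Double T j c) → ∃ w : ℤ,
      ((T.w a = w ∧ T.w j = w ∧ T.w c = w ∧ T.a a j = w ∧ T.a j c = w ∧
          T.m j ≤ 2 * T.m a ∧ T.m a + T.m c ≤ 2 * T.m j ∧ T.m j ≤ 2 * T.m c) ∨
        (T.w a = w ∧ T.w j = w ∧ T.w c = 2 * w ∧ T.a a j = w ∧ T.a j c = 2 * w ∧
          T.m j ≤ 2 * T.m a ∧ T.m a + 2 * T.m c ≤ 2 * T.m j ∧ T.m j ≤ 2 * T.m c) ∨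
        (T.w a = 2 * w ∧ T.w j = 2 * w ∧ T.w c = w ∧ T.a a j = 2 * w ∧ T.a j c = 2 * w ∧
          T.m j ≤ 2 * T.m a ∧ T.m a + T.m c ≤ 2 * T.m j ∧ T.m j ≤ T.m c)) := by
    intro a c haj hjc hac ha hc s hd
    have m1 : T.m j ≤ 2 * T.m a := NumType.m_le_simple1 T ha haj s.2
    rcases hd with s' | d
    · exact ⟨T.w j, Or.inl ⟨s.1.symm, rfl, s'.1, s.2.trans s.1.symm, s'.2, m1,
        NumType.m_le_simple2 T hj haj.symm hjc hac s.symm.2 s'.2,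
        NumType.m_le_simple1 T hc hjc.symm s'.symm.2⟩⟩
    rcases d.cases with ⟨e1, e2⟩ | ⟨e1, e2⟩
    · have m2 := NumType.m_le2 T hj haj.symm hjc hac 1 2 (by rw [s.symm.2, one_mul]) e2
      have m3 := NumType.m_le_simple1 T hc hjc.symm (by rw [NumType.symm' T, e2, e1])
      exact ⟨T.w j, Or.inr (Or.inl ⟨s.1.symm, rfl, e1, s.2.trans s.1.symm, e2, m1, by linarith, m3⟩)⟩
    · have m2 := NumType.m_le_simple2 T hj haj.symm hjc hac s.symm.2 (e2.trans e1.symm)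
      have m3 := NumType.m_le1 T hc hjc.symm 2 (by rw [NumType.symm' T, e2])
      exact ⟨T.w c, Or.inr (Or.inr ⟨s.1.symm.trans e1, e1, rfl, (s.2.trans s.1.symm).trans e1, e2, m1, m2,
        by linarith⟩)⟩
  rcases c1 with s | d
  · obtain ⟨w, hw⟩ := main i k hij hjk hik hi hk s (c2.imp (fun s => s.symm) (fun d => d.symm))
    exact ⟨i, k, w, Or.inl ⟨rfl, rfl⟩, hw⟩
  · obtain ⟨w, hw⟩ := main k i hjk.symm hij.symm hik.symm hk hi (hn1 d).symm (Or.inr d.symm)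
    exact ⟨k, i, w, Or.inr ⟨rfl, rfl⟩, hw⟩

end Groth.Agent.S7341
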