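import Groth.Statements.S7342
import Groth.Agent.NumType.Basic

set_option autoImplicit false
open Finset
open Models Models.NumericalType

namespace Groth.Agent.S7342

/-- Let T be a numerical type on n indices, t ≥ 4 and n > t + 2. Then no t + 2 (-2)-indices of T,
pairwise distinct and numbered i_0, …, i_{t+1}, satisfy: a_{i_j i_{j+1}} > 0 for 1 ≤ j ≤ t - 1,
a_{i_0 i_2} > 0 and a_{i_{t-1} i_{t+1}} > 0. -/
theorem result {n : ℕ} (T : Models.NumericalType n) (t : ℕ) (ht : 4 ≤ t) (hn : t + 2 < n)
    (v : Fin (t + 2) ↪ Fin n) (hv : ∀ j, T.IsMinusTwo (v j))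
    (hchain : ∀ j j' : Fin (t + 2), 1 ≤ j.val → j.val + 1 ≤ t → j'.val = j.val + 1 → 0 < T.a (v j) (v j'))
    (h02 : ∀ j j' : Fin (t + 2), j.val = 0 → j'.val = 2 → 0 < T.a (v j) (v j'))
    (hlast : ∀ j j' : Fin (t + 2), j.val = t - 1 → j'.val = t + 1 → 0 < T.a (v j) (v j')) : False := by
  classical
  let x : Fin (t + 2) → ℤ := fun a => if a.val ≤ 1 ∨ t ≤ a.val then 1 else 2
  let e : Fin (t + 2) × Fin (t + 2) → Prop := fun p =>
    (1 ≤ p.1.val ∧ p.1.val + 1 ≤ t ∧ p.2.val = p.1.val + 1) ∨ (p.1.val = 0 ∧ p.2.val = 2) ∨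
      (p.1.val = t - 1 ∧ p.2.val = t + 1)
  refine NumType.forbidden T v hn hv (Finset.univ.filter e) (fun p hp => ?_) x
    (fun a => by simp only [x]; split_ifs <;> norm_num)
    (fun h => by have := congrFun h 0; simp [x] at this) (fun a => ?_)
  · simp only [Finset.mem_filter, Finset.mem_univ, true_and, e] at hp
    rcases hp with ⟨a, b, c⟩ | ⟨a, b⟩ | ⟨a, b⟩
    · exact ⟨Fin.ne_of_val_ne (by omega), (hchain _ _ a b c).ne'⟩
    · exact ⟨Fin.ne_of_val_ne (by omega), (h02 _ _ a b).ne'⟩
    · exact ⟨Fin.ne_of_val_ne (by omega), (hlast _ _ a b).ne'⟩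
  · have key : ∀ N : Finset (Fin (t + 2)), (∀ b ∈ N, e (a, b) ∨ e (b, a)) → ∑ b ∈ N, x b ≤
        ∑ b, if (a, b) ∈ Finset.univ.filter e ∨ (b, a) ∈ Finset.univ.filter e then x b else 0 := by
      intro N hN
      rw [← Finset.sum_filter]
      refine Finset.sum_le_sum_of_subset_of_nonneg (fun b hb => by simpa using hN b hb)
        fun b _ _ => by simp only [x]; split_ifs <;> norm_num
    have h2 : ∀ b : Fin (t + 2), 2 ≤ b.val → b.val < t → x b = 2 := fun b h1 h2 => by
      simp only [x]; rw [if_neg]; omega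
    have ha2 := a.2
    by_cases c1 : a.val ≤ 1
    · refine le_trans ?_ (key {⟨2, by omega⟩} fun b hb => ?_)
      · rw [Finset.sum_singleton, h2 ⟨2, by omega⟩ le_rfl (by show 2 < t; omega)]
        simp [x, c1]
      · simp only [Finset.mem_singleton] at hb; subst hb
        simp only [e, and_true, true_and]; omega
    by_cases c2 : t ≤ a.val
    · refine le_trans ?_ (key {⟨t - 1, by omega⟩} fun b hb => ?_)
      · rw [Finset.sum_singleton, h2 ⟨t - 1, by omega⟩ (by show 2 ≤ t - 1; omega) (by show t - 1 < t; omega)]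
        simp [x, c2]
      · simp only [Finset.mem_singleton] at hb; subst hb
        simp only [e, and_true, true_and]; omega
    rw [h2 a (by omega) (by omega)]
    by_cases c3 : a.val = 2
    · have h3 : x ⟨3, by omega⟩ = 2 := h2 _ (by show 2 ≤ 3; omega) (by show 3 < t; omega)
      refine le_trans ?_ (key {⟨0, by omega⟩, ⟨1, by omega⟩, ⟨3, by omega⟩} fun b hb => ?_)
      · rw [Finset.sum_insert (by simp [Fin.ext_iff]), Finset.sum_insert (by simp [Fin.ext_iff]), Finset.sum_singleton, h3]
        simp [x]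
      · simp only [Finset.mem_insert, Finset.mem_singleton] at hb
        rcases hb with rfl | rfl | rfl <;> simp only [e, and_true, true_and] <;> omega
    by_cases c4 : a.val = t - 1
    · have h4 : x ⟨t - 2, by omega⟩ = 2 := h2 _ (by show 2 ≤ t - 2; omega) (by show t - 2 < t; omega)
      refine le_trans ?_ (key {⟨t, by omega⟩, ⟨t + 1, by omega⟩, ⟨t - 2, by omega⟩} fun b hb => ?_)
      · rw [Finset.sum_insert (by simp [Fin.ext_iff]; omega), Finset.sum_insert (by simp [Fin.ext_iff]; omega), Finset.sum_singleton, h4]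
        simp [x]
      · simp only [Finset.mem_insert, Finset.mem_singleton] at hb
        rcases hb with rfl | rfl | rfl <;> simp only [e, and_true, true_and] <;> omega
    · refine le_trans ?_ (key {⟨a.val - 1, by omega⟩, ⟨a.val + 1, by omega⟩} fun b hb => ?_)
      · rw [Finset.sum_insert (by simp [Fin.ext_iff]), Finset.sum_singleton,
          h2 ⟨a.val - 1, by omega⟩ (by show 2 ≤ a.val - 1; omega) (by show a.val - 1 < t; omega),
          h2 ⟨a.val + 1, by omega⟩ (by show 2 ≤ a.val + 1; omega) (by show a.val + 1 < t; omega)]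
        norm_num
      · simp only [Finset.mem_insert, Finset.mem_singleton] at hb
        rcases hb with rfl | rfl <;> simp only [e, and_true, true_and] <;> omega

end Groth.Agent.S7342
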