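import Groth.Statements.S7346
import Groth.Agent.NumType.Graph

set_option autoImplicit false
open Finset
open Models Models.NumericalType

namespace Groth.Agent.S7346

/-- Classification of proper subgraphs of type D4 (one vertex joined to three others): let T be a
numerical type on n > 4 indices and i_1, …, i_4 distinct (-2)-indices with a_{12}, a_{13}, a_{14}
nonzero. Then for some integer w all w_{i_j} equal w, these intersection numbers equal w, all other
a_{i_j i_k} (j ≠ k) vanish, and 2 m_1 ≥ m_2 + m_3 + m_4, 2 m_2 ≥ m_1, 2 m_3 ≥ m_1, 2 m_4 ≥ m_1. -/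
theorem result {n : ℕ} (T : Models.NumericalType n) (hn : 4 < n)
    (v : Fin 4 ↪ Fin n) (hv : ∀ j, T.IsMinusTwo (v j)) (h01 : T.a (v 0) (v 1) ≠ 0) (h02 : T.a (v 0) (v 2) ≠ 0) (h03 : T.a (v 0) (v 3) ≠ 0) :
    ∃ w : ℤ, (∀ j : Fin 4, T.w (v j) = w) ∧
      T.a (v 0) (v 1) = w ∧
      T.a (v 0) (v 2) = w ∧
      T.a (v 0) (v 3) = w ∧
      T.a (v 1) (v 2) = 0 ∧
      T.a (v 1) (v 3) = 0 ∧
      T.a (v 2) (v 3) = 0 ∧
      T.m (v 1) + T.m (v 2) + T.m (v 3) ≤ 2 * T.m (v 0) ∧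
      T.m (v 0) ≤ 2 * T.m (v 1) ∧
      T.m (v 0) ≤ 2 * T.m (v 2) ∧
      T.m (v 0) ≤ 2 * T.m (v 3) := by
  have hne : ∀ a b : Fin 4, a ≠ b → v a ≠ v b := fun a b h => v.injective.ne h
  have s1 : NumType.Simple T (v 0) (v 1) := NumType.branch T hn (hne _ _ (by decide)) (hne 0 2 (by decide))
    (hne 0 3 (by decide)) (hne _ _ (by decide)) (hne _ _ (by decide)) (hne _ _ (by decide)) (hv _) (hv _) (hv _) (hv _) h01 h02 h03
  have s2 : NumType.Simple T (v 0) (v 2) := NumType.branch T hn (hne _ _ (by decide)) (hne 0 1 (by decide))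
    (hne 0 3 (by decide)) (hne _ _ (by decide)) (hne _ _ (by decide)) (hne _ _ (by decide)) (hv _) (hv _) (hv _) (hv _) h02 h01 h03
  have s3 : NumType.Simple T (v 0) (v 3) := NumType.branch T hn (hne _ _ (by decide)) (hne 0 1 (by decide))
    (hne 0 2 (by decide)) (hne _ _ (by decide)) (hne _ _ (by decide)) (hne _ _ (by decide)) (hv _) (hv _) (hv _) (hv _) h03 h01 h02
  have z : ∀ a b : Fin 4, a ≠ 0 → b ≠ 0 → a ≠ b → T.a (v a) (v 0) ≠ 0 → T.a (v 0) (v b) ≠ 0 → T.a (v a) (v b) = 0 :=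
    fun a b ha hb hab e1 e2 => (NumType.edge_cases T (by omega) (hne _ _ ha) (hne _ _ (Ne.symm hb)) (hne _ _ hab)
      (hv _) (hv _) (hv _) e1 e2).2.2
  have h10 : T.a (v 1) (v 0) ≠ 0 := by rw [NumType.symm' T]; exact h01
  have h20 : T.a (v 2) (v 0) ≠ 0 := by rw [NumType.symm' T]; exact h02
  exact ⟨T.w (v 0), fun j => by fin_cases j <;> first | rfl | exact s1.1 | exact s2.1 | exact s3.1,
    s1.2, s2.2, s3.2, z 1 2 (by decide) (by decide) (by decide) h10 h02,
    z 1 3 (by decide) (by decide) (by decide) h10 h03, z 2 3 (by decide) (by decide) (by decide) h20 h03,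
    NumType.m_le_simple3 T (hv 0) (hne _ _ (by decide)) (hne _ _ (by decide)) (hne _ _ (by decide))
      (hne _ _ (by decide)) (hne _ _ (by decide)) (hne _ _ (by decide)) s1.2 s2.2 s3.2,
    NumType.m_le_simple1 T (hv 1) (hne _ _ (by decide)) s1.symm.2,
    NumType.m_le_simple1 T (hv 2) (hne _ _ (by decide)) s2.symm.2,
    NumType.m_le_simple1 T (hv 3) (hne _ _ (by decide)) s3.symm.2⟩

end Groth.Agent.S7346
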