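import Groth.Statements.S7347
import Groth.Agent.NumType.Graph

set_option autoImplicit false
open Finset
open Models Models.NumericalType

namespace Groth.Agent.S7347

/-- Classification of proper subgraphs of type D5 (a chain i_1 i_2 i_3 with i_4 and i_5 both joined to
i_3): let T be a numerical type on n > 5 indices and i_1, …, i_5 distinct (-2)-indices with a_{12},
a_{23}, a_{34}, a_{35} nonzero. Then for some integer w all w_{i_j} equal w, these intersection
numbers equal w, all other a_{i_j i_k} (j ≠ k) vanish, and 2 m_1 ≥ m_2, 2 m_2 ≥ m_1 + m_3, 2 m_3 ≥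
m_2 + m_4 + m_5, 2 m_4 ≥ m_3, 2 m_5 ≥ m_3. -/
theorem result {n : ℕ} (T : Models.NumericalType n) (hn : 5 < n)
    (v : Fin 5 ↪ Fin n) (hv : ∀ j, T.IsMinusTwo (v j)) (h01 : T.a (v 0) (v 1) ≠ 0) (h12 : T.a (v 1) (v 2) ≠ 0) (h23 : T.a (v 2) (v 3) ≠ 0) (h24 : T.a (v 2) (v 4) ≠ 0) :
    ∃ w : ℤ, (∀ j : Fin 5, T.w (v j) = w) ∧
      T.a (v 0) (v 1) = w ∧
      T.a (v 1) (v 2) = w ∧
      T.a (v 2) (v 3) = w ∧
      T.a (v 2) (v 4) = w ∧
      T.a (v 0) (v 2) = 0 ∧
      T.a (v 0) (v 3) = 0 ∧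
      T.a (v 0) (v 4) = 0 ∧
      T.a (v 1) (v 3) = 0 ∧
      T.a (v 1) (v 4) = 0 ∧
      T.a (v 3) (v 4) = 0 ∧
      T.m (v 1) ≤ 2 * T.m (v 0) ∧
      T.m (v 0) + T.m (v 2) ≤ 2 * T.m (v 1) ∧
      T.m (v 1) + T.m (v 3) + T.m (v 4) ≤ 2 * T.m (v 2) ∧
      T.m (v 2) ≤ 2 * T.m (v 3) ∧
      T.m (v 2) ≤ 2 * T.m (v 4) := by
  let d0 : Fin 5 ↪ Fin 5 := ⟨![0, 1, 2, 3, 4], by decide⟩
  obtain ⟨D0, B0⟩ := NumType.Dn_simple T (t := 4) (by norm_num) (by omega) (d0.trans v) (fun a => hv _)
    (fun a b g g' => by fin_cases a <;> fin_cases b <;> simp at g g' <;> first | exact h01 | exact h12 | exact h23)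
    (fun a b g g' => by fin_cases a <;> fin_cases b <;> simp at g g' <;> exact h24)
  have s01 : NumType.Simple T (v 0) (v 1) := D0 0 1 (by decide) (by decide)
  have s12 : NumType.Simple T (v 1) (v 2) := D0 1 2 (by decide) (by decide)
  have s23 : NumType.Simple T (v 2) (v 3) := D0 2 3 (by decide) (by decide)
  have s24 : NumType.Simple T (v 2) (v 4) := B0 2 4 (by decide) (by decide)
  have w2 : T.w (v 2) = T.w (v 2) := rfl
  have w1 : T.w (v 1) = T.w (v 2) := (s12.1.symm).trans w2
  have w3 : T.w (v 3) = T.w (v 2) := (s23.1).trans w2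
  have w4 : T.w (v 4) = T.w (v 2) := (s24.1).trans w2
  have w0 : T.w (v 0) = T.w (v 2) := (s01.1.symm).trans w1
  let p0 : Fin 4 ↪ Fin 5 := ⟨![0, 1, 2, 3], by decide⟩
  have hc0 : NumType.IsChain T (p0.trans v) := fun a b g => by
    fin_cases a <;> fin_cases b <;> simp at g <;> first | exact h01 | exact h12 | exact h23
  have F0 := NumType.chain_far T (v := p0.trans v) (by omega) (fun a => hv _) hc0
  let p1 : Fin 4 ↪ Fin 5 := ⟨![0, 1, 2, 4], by decide⟩
  have hc1 : NumType.IsChain T (p1.trans v) := fun a b g => by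
    fin_cases a <;> fin_cases b <;> simp at g <;> first | exact h01 | exact h12 | exact h24
  have F1 := NumType.chain_far T (v := p1.trans v) (by omega) (fun a => hv _) hc1
  let p2 : Fin 3 ↪ Fin 5 := ⟨![3, 2, 4], by decide⟩
  have hc2 : NumType.IsChain T (p2.trans v) := fun a b g => by
    fin_cases a <;> fin_cases b <;> simp at g <;> first | exact (NumType.symm' T (v 2) (v 3) ▸ h23) | exact h24
  have F2 := NumType.chain_far T (v := p2.trans v) (by omega) (fun a => hv _) hc2
  exact ⟨T.w (v 2),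
    fun j => by fin_cases j <;> first | exact w0 | exact w1 | exact w2 | exact w3 | exact w4,
    s01.2.trans w0,
    s12.2.trans w1,
    s23.2.trans w2,
    s24.2.trans w2,
    F0 0 2 (by decide),
    F0 0 3 (by decide),
    F1 0 3 (by decide),
    F0 1 3 (by decide),
    F1 1 3 (by decide),
    F2 0 2 (by decide),
    NumType.m_le_simple1 T (hv 0) (v.injective.ne (by decide)) (s01.2),
    NumType.m_le_simple2 T (hv 1) (v.injective.ne (by decide)) (v.injective.ne (by decide)) (v.injective.ne (by decide)) (s01.symm.2) (s12.2),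
    NumType.m_le_simple3 T (hv 2) (v.injective.ne (by decide)) (v.injective.ne (by decide)) (v.injective.ne (by decide)) (v.injective.ne (by decide)) (v.injective.ne (by decide)) (v.injective.ne (by decide)) (s12.symm.2) (s23.2) (s24.2),
    NumType.m_le_simple1 T (hv 3) (v.injective.ne (by decide)) (s23.symm.2),
    NumType.m_le_simple1 T (hv 4) (v.injective.ne (by decide)) (s24.symm.2)⟩

end Groth.Agent.S7347
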