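import Groth.Statements.S7350
import Groth.Agent.NumType.Graph

set_option autoImplicit false
open Finset
open Models Models.NumericalType

namespace Groth.Agent.S7350

/-- Classification of proper subgraphs of type E8 (a chain i_1 … i_7 with i_8 joined to i_5): let T be a
numerical type on n > 8 indices and i_1, …, i_8 distinct (-2)-indices with a_{12}, a_{23}, a_{34},
a_{45}, a_{56}, a_{67}, a_{58} nonzero. Then for some integer w all w_{i_j} equal w, these
intersection numbers equal w, all other a_{i_j i_k} (j ≠ k) vanish, and 2 m_1 ≥ m_2, 2 m_2 ≥ m_1 +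
m_3, 2 m_3 ≥ m_2 + m_4, 2 m_4 ≥ m_3 + m_5, 2 m_5 ≥ m_4 + m_6 + m_8, 2 m_6 ≥ m_5 + m_7, 2 m_7 ≥ m_6,
2 m_8 ≥ m_5. (The published statement lists a_{65} and a_{57} among the nonzero entries, which
contradicts its own conclusion a_{57} = 0; this row uses the edges of the E8 graph, a_{67} and
a_{58}, as the pictured graph and the matrix give them.) -/
theorem result {n : ℕ} (T : Models.NumericalType n) (hn : 8 < n)
    (v : Fin 8 ↪ Fin n) (hv : ∀ j, T.IsMinusTwo (v j)) (h01 : T.a (v 0) (v 1) ≠ 0) (h12 : T.a (v 1) (v 2) ≠ 0) (h23 : T.a (v 2) (v 3) ≠ 0) (h34 : T.a (v 3) (v 4) ≠ 0) (h45 : T.a (v 4) (v 5) ≠ 0) (h56 : T.a (v 5) (v 6) ≠ 0) (h47 : T.a (v 4) (v 7) ≠ 0) :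
    ∃ w : ℤ, (∀ j : Fin 8, T.w (v j) = w) ∧
      T.a (v 0) (v 1) = w ∧
      T.a (v 1) (v 2) = w ∧
      T.a (v 2) (v 3) = w ∧
      T.a (v 3) (v 4) = w ∧
      T.a (v 4) (v 5) = w ∧
      T.a (v 5) (v 6) = w ∧
      T.a (v 4) (v 7) = w ∧
      T.a (v 0) (v 2) = 0 ∧
      T.a (v 0) (v 3) = 0 ∧
      T.a (v 0) (v 4) = 0 ∧
      T.a (v 0) (v 5) = 0 ∧
      T.a (v 0) (v 6) = 0 ∧
      T.a (v 0) (v 7) = 0 ∧
      T.a (v 1) (v 3) = 0 ∧
      T.a (v 1) (v 4) = 0 ∧
      T.a (v 1) (v 5) = 0 ∧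
      T.a (v 1) (v 6) = 0 ∧
      T.a (v 1) (v 7) = 0 ∧
      T.a (v 2) (v 4) = 0 ∧
      T.a (v 2) (v 5) = 0 ∧
      T.a (v 2) (v 6) = 0 ∧
      T.a (v 2) (v 7) = 0 ∧
      T.a (v 3) (v 5) = 0 ∧
      T.a (v 3) (v 6) = 0 ∧
      T.a (v 3) (v 7) = 0 ∧
      T.a (v 4) (v 6) = 0 ∧
      T.a (v 5) (v 7) = 0 ∧
      T.a (v 6) (v 7) = 0 ∧
      T.m (v 1) ≤ 2 * T.m (v 0) ∧
      T.m (v 0) + T.m (v 2) ≤ 2 * T.m (v 1) ∧
      T.m (v 1) + T.m (v 3) ≤ 2 * T.m (v 2) ∧
      T.m (v 2) + T.m (v 4) ≤ 2 * T.m (v 3) ∧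
      T.m (v 3) + T.m (v 5) + T.m (v 7) ≤ 2 * T.m (v 4) ∧
      T.m (v 4) + T.m (v 6) ≤ 2 * T.m (v 5) ∧
      T.m (v 5) ≤ 2 * T.m (v 6) ∧
      T.m (v 4) ≤ 2 * T.m (v 7) := by
  let d0 : Fin 7 ↪ Fin 8 := ⟨![0, 1, 2, 3, 4, 5, 7], by decide⟩
  obtain ⟨D0, B0⟩ := NumType.Dn_simple T (t := 6) (by norm_num) (by omega) (d0.trans v) (fun a => hv _)
    (fun a b g g' => by fin_cases a <;> fin_cases b <;> simp at g g' <;> first | exact h01 | exact h12 | exact h23 | exact h34 | exact h45)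
    (fun a b g g' => by fin_cases a <;> fin_cases b <;> simp at g g' <;> exact h47)
  let d1 : Fin 5 ↪ Fin 8 := ⟨![6, 5, 4, 3, 7], by decide⟩
  obtain ⟨D1, B1⟩ := NumType.Dn_simple T (t := 4) (by norm_num) (by omega) (d1.trans v) (fun a => hv _)
    (fun a b g g' => by fin_cases a <;> fin_cases b <;> simp at g g' <;> first | exact (NumType.symm' T (v 5) (v 6) ▸ h56) | exact (NumType.symm' T (v 4) (v 5) ▸ h45) | exact (NumType.symm' T (v 3) (v 4) ▸ h34))
    (fun a b g g' => by fin_cases a <;> fin_cases b <;> simp at g g' <;> exact h47)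
  have s01 : NumType.Simple T (v 0) (v 1) := D0 0 1 (by decide) (by decide)
  have s12 : NumType.Simple T (v 1) (v 2) := D0 1 2 (by decide) (by decide)
  have s23 : NumType.Simple T (v 2) (v 3) := D0 2 3 (by decide) (by decide)
  have s34 : NumType.Simple T (v 3) (v 4) := D0 3 4 (by decide) (by decide)
  have s45 : NumType.Simple T (v 4) (v 5) := D0 4 5 (by decide) (by decide)
  have s56 : NumType.Simple T (v 5) (v 6) := (D1 0 1 (by decide) (by decide)).symm
  have s47 : NumType.Simple T (v 4) (v 7) := B0 4 6 (by decide) (by decide)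
  have w4 : T.w (v 4) = T.w (v 4) := rfl
  have w3 : T.w (v 3) = T.w (v 4) := (s34.1.symm).trans w4
  have w5 : T.w (v 5) = T.w (v 4) := (s45.1).trans w4
  have w7 : T.w (v 7) = T.w (v 4) := (s47.1).trans w4
  have w2 : T.w (v 2) = T.w (v 4) := (s23.1.symm).trans w3
  have w6 : T.w (v 6) = T.w (v 4) := (s56.1).trans w5
  have w1 : T.w (v 1) = T.w (v 4) := (s12.1.symm).trans w2
  have w0 : T.w (v 0) = T.w (v 4) := (s01.1.symm).trans w1
  let p0 : Fin 7 ↪ Fin 8 := ⟨![0, 1, 2, 3, 4, 5, 6], by decide⟩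
  have hc0 : NumType.IsChain T (p0.trans v) := fun a b g => by
    fin_cases a <;> fin_cases b <;> simp at g <;> first | exact h01 | exact h12 | exact h23 | exact h34 | exact h45 | exact h56
  have F0 := NumType.chain_far T (v := p0.trans v) (by omega) (fun a => hv _) hc0
  let p1 : Fin 6 ↪ Fin 8 := ⟨![0, 1, 2, 3, 4, 7], by decide⟩
  have hc1 : NumType.IsChain T (p1.trans v) := fun a b g => by
    fin_cases a <;> fin_cases b <;> simp at g <;> first | exact h01 | exact h12 | exact h23 | exact h34 | exact h47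
  have F1 := NumType.chain_far T (v := p1.trans v) (by omega) (fun a => hv _) hc1
  let p2 : Fin 4 ↪ Fin 8 := ⟨![6, 5, 4, 7], by decide⟩
  have hc2 : NumType.IsChain T (p2.trans v) := fun a b g => by
    fin_cases a <;> fin_cases b <;> simp at g <;> first | exact (NumType.symm' T (v 5) (v 6) ▸ h56) | exact (NumType.symm' T (v 4) (v 5) ▸ h45) | exact h47
  have F2 := NumType.chain_far T (v := p2.trans v) (by omega) (fun a => hv _) hc2
  exact ⟨T.w (v 4),
    fun j => by fin_cases j <;> first | exact w0 | exact w1 | exact w2 | exact w3 | exact w4 | exact w5 | exact w6 | exact w7,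
    s01.2.trans w0,
    s12.2.trans w1,
    s23.2.trans w2,
    s34.2.trans w3,
    s45.2.trans w4,
    s56.2.trans w5,
    s47.2.trans w4,
    F0 0 2 (by decide),
    F0 0 3 (by decide),
    F0 0 4 (by decide),
    F0 0 5 (by decide),
    F0 0 6 (by decide),
    F1 0 5 (by decide),
    F0 1 3 (by decide),
    F0 1 4 (by decide),
    F0 1 5 (by decide),
    F0 1 6 (by decide),
    F1 1 5 (by decide),
    F0 2 4 (by decide),
    F0 2 5 (by decide),
    F0 2 6 (by decide),
    F1 2 5 (by decide),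
    F0 3 5 (by decide),
    F0 3 6 (by decide),
    F1 3 5 (by decide),
    F0 4 6 (by decide),
    F2 1 3 (by decide),
    F2 0 3 (by decide),
    NumType.m_le_simple1 T (hv 0) (v.injective.ne (by decide)) (s01.2),
    NumType.m_le_simple2 T (hv 1) (v.injective.ne (by decide)) (v.injective.ne (by decide)) (v.injective.ne (by decide)) (s01.symm.2) (s12.2),
    NumType.m_le_simple2 T (hv 2) (v.injective.ne (by decide)) (v.injective.ne (by decide)) (v.injective.ne (by decide)) (s12.symm.2) (s23.2),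
    NumType.m_le_simple2 T (hv 3) (v.injective.ne (by decide)) (v.injective.ne (by decide)) (v.injective.ne (by decide)) (s23.symm.2) (s34.2),
    NumType.m_le_simple3 T (hv 4) (v.injective.ne (by decide)) (v.injective.ne (by decide)) (v.injective.ne (by decide)) (v.injective.ne (by decide)) (v.injective.ne (by decide)) (v.injective.ne (by decide)) (s34.symm.2) (s45.2) (s47.2),
    NumType.m_le_simple2 T (hv 5) (v.injective.ne (by decide)) (v.injective.ne (by decide)) (v.injective.ne (by decide)) (s45.symm.2) (s56.2),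
    NumType.m_le_simple1 T (hv 6) (v.injective.ne (by decide)) (s56.symm.2),
    NumType.m_le_simple1 T (hv 7) (v.injective.ne (by decide)) (s47.symm.2)⟩

end Groth.Agent.S7350
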