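import Groth.Statements.S7352
import Groth.Agent.NumType.Graph

set_option autoImplicit false
open Finset
open Models Models.NumericalType

namespace Groth.Agent.S7352

/-- Classification of proper subgraphs which are chains of four vertices: let T be a numerical type on n
> 4 indices and i_1, …, i_4 distinct (-2)-indices with a_{i_j i_{j+1}} nonzero for j < 4. Then
a_{i_j i_l} = 0 for |j - l| ≥ 2 and, after possibly reversing the order of the indices, for some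
integer w one of the following holds: (A4) w = (w, w, w, w), consecutive a = (w, w, w), with 2m_1 ≥
m_2, 2m_2 ≥ m_1 + m_3, 2m_3 ≥ m_2 + m_4, 2m_4 ≥ m_3; (C4) w = (w, w, w, 2w), consecutive a = (w, w,
2w), with 2m_1 ≥ m_2, 2m_2 ≥ m_1 + m_3, 2m_3 ≥ m_2 + 2m_4, 2m_4 ≥ m_3; (B4) w = (2w, 2w, 2w, w),
consecutive a = (2w, 2w, 2w), with 2m_1 ≥ m_2, 2m_2 ≥ m_1 + m_3, 2m_3 ≥ m_2 + m_4, m_4 ≥ m_3; (F4) w
= (w, w, 2w, 2w), consecutive a = (w, 2w, 2w), with 2m_1 ≥ m_2, 2m_2 ≥ m_1 + 2m_3, 2m_3 ≥ m_2 + m_4,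
2m_4 ≥ m_3. -/
theorem result {n : ℕ} (T : Models.NumericalType n) (hn : 4 < n)
    (v : Fin 4 ↪ Fin n) (hv : ∀ j, T.IsMinusTwo (v j)) (h01 : T.a (v 0) (v 1) ≠ 0) (h12 : T.a (v 1) (v 2) ≠ 0) (h23 : T.a (v 2) (v 3) ≠ 0) :
    (T.a (v 0) (v 2) = 0 ∧ T.a (v 0) (v 3) = 0 ∧ T.a (v 1) (v 3) = 0) ∧
    ∃ (u : Fin 4 → Fin n) (w : ℤ), ((∀ j, u j = v j) ∨ (∀ j, u j = v (Fin.rev j))) ∧
      ((T.w (u 0) = w ∧ T.w (u 1) = w ∧ T.w (u 2) = w ∧ T.w (u 3) = w ∧ T.a (u 0) (u 1) = w ∧ T.a (u 1) (u 2) = w ∧ T.a (u 2) (u 3) = w ∧ T.m (u 1) ≤ 2 * T.m (u 0) ∧ T.m (u 0) + T.m (u 2) ≤ 2 * T.m (u 1) ∧ T.m (u 1) + T.m (u 3) ≤ 2 * T.m (u 2) ∧ T.m (u 2) ≤ 2 * T.m (u 3)) ∨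
      (T.w (u 0) = w ∧ T.w (u 1) = w ∧ T.w (u 2) = w ∧ T.w (u 3) = 2 * w ∧ T.a (u 0) (u 1) = w ∧ T.a (u 1) (u 2) = w ∧ T.a (u 2) (u 3) = 2 * w ∧ T.m (u 1) ≤ 2 * T.m (u 0) ∧ T.m (u 0) + T.m (u 2) ≤ 2 * T.m (u 1) ∧ T.m (u 1) + 2 * T.m (u 3) ≤ 2 * T.m (u 2) ∧ T.m (u 2) ≤ 2 * T.m (u 3)) ∨
      (T.w (u 0) = 2 * w ∧ T.w (u 1) = 2 * w ∧ T.w (u 2) = 2 * w ∧ T.w (u 3) = w ∧ T.a (u 0) (u 1) = 2 * w ∧ T.a (u 1) (u 2) = 2 * w ∧ T.a (u 2) (u 3) = 2 * w ∧ T.m (u 1) ≤ 2 * T.m (u 0) ∧ T.m (u 0) + T.m (u 2) ≤ 2 * T.m (u 1) ∧ T.m (u 1) + T.m (u 3) ≤ 2 * T.m (u 2) ∧ T.m (u 2) ≤ T.m (u 3)) ∨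
      (T.w (u 0) = w ∧ T.w (u 1) = w ∧ T.w (u 2) = 2 * w ∧ T.w (u 3) = 2 * w ∧ T.a (u 0) (u 1) = w ∧ T.a (u 1) (u 2) = 2 * w ∧ T.a (u 2) (u 3) = 2 * w ∧ T.m (u 1) ≤ 2 * T.m (u 0) ∧ T.m (u 0) + 2 * T.m (u 2) ≤ 2 * T.m (u 1) ∧ T.m (u 1) + T.m (u 3) ≤ 2 * T.m (u 2) ∧ T.m (u 2) ≤ 2 * T.m (u 3))) := by
  have hc : NumType.IsChain T v := fun a b g => by
    fin_cases a <;> fin_cases b <;> simp at g <;> first | exact h01 | exact h12 | exact h23
  have z := NumType.chain_far T hn hv hc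
  refine ⟨⟨z 0 2 (by decide), z 0 3 (by decide), z 1 3 (by decide)⟩, ?_⟩
  rcases NumType.chain_edge T (by omega) (by norm_num) hv hc 1 2 rfl with hs | hd
  · obtain ⟨u, w, hu, -, hcases⟩ := NumType.chain_class T le_rfl hn hv hc fun j j' h h0 h1 => by
      rw [show j = 1 from Fin.ext (by simp; omega), show j' = 2 from Fin.ext (by simp; omega)]; exact hs
    have hm : ∀ j, T.IsMinusTwo (u j) := fun j => by rcases hu with g | g <;> rw [g] <;> exact hv _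
    have hne : ∀ a b : Fin 4, a ≠ b → u a ≠ u b := fun a b h => by
      rcases hu with g | g <;> rw [g, g]
      · exact v.injective.ne h
      · exact v.injective.ne (fun e => h (Fin.rev_injective e))
    refine ⟨u, w, hu, ?_⟩
    rcases hcases with ⟨W, A⟩ | ⟨W, W', A, A'⟩ | ⟨W, W', A⟩
    · left
      have a01 := A 0 1 rfl; have a12 := A 1 2 rfl; have a23 := A 2 3 rfl
      refine ⟨W 0, W 1, W 2, W 3, a01, a12, a23, ?_, ?_, ?_, ?_⟩
      · exact NumType.m_le_simple1 T (hm 0) (hne _ _ (by decide)) (by rw [a01, W])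
      · exact NumType.m_le_simple2 T (hm 1) (hne _ _ (by decide)) (hne _ _ (by decide)) (hne _ _ (by decide)) (by rw [NumType.symm' T, a01, W]) (by rw [a12, W])
      · exact NumType.m_le_simple2 T (hm 2) (hne _ _ (by decide)) (hne _ _ (by decide)) (hne _ _ (by decide)) (by rw [NumType.symm' T, a12, W]) (by rw [a23, W])
      · exact NumType.m_le_simple1 T (hm 3) (hne _ _ (by decide)) (by rw [NumType.symm' T, a23, W])
    · right; left
      have a01 := A 0 1 rfl (by decide); have a12 := A 1 2 rfl (by decide)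
      have a23 := A' 2 3 rfl rfl
      have b0 := W 0 (by decide); have b1 := W 1 (by decide); have b2 := W 2 (by decide); have b3 := W' 3 rfl
      refine ⟨b0, b1, b2, b3, a01, a12, a23, ?_, ?_, ?_, ?_⟩
      · exact NumType.m_le_simple1 T (hm 0) (hne _ _ (by decide)) (by rw [a01, b0])
      · exact NumType.m_le_simple2 T (hm 1) (hne _ _ (by decide)) (hne _ _ (by decide)) (hne _ _ (by decide)) (by rw [NumType.symm' T, a01, b1]) (by rw [a12, b1])
      · simpa using NumType.m_le2 T (hm 2) (hne 2 1 (by decide)) (hne 2 3 (by decide)) (hne _ _ (by decide)) 1 2 (by rw [NumType.symm' T, a12, b2, one_mul]) (by rw [a23, b2])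
      · exact NumType.m_le_simple1 T (hm 3) (hne _ _ (by decide)) (by rw [NumType.symm' T, a23, b3])
    · right; right; left
      have a01 := A 0 1 rfl; have a12 := A 1 2 rfl; have a23 := A 2 3 rfl
      have b0 := W 0 (by decide); have b1 := W 1 (by decide); have b2 := W 2 (by decide); have b3 := W' 3 rfl
      refine ⟨b0, b1, b2, b3, a01, a12, a23, ?_, ?_, ?_, ?_⟩
      · exact NumType.m_le_simple1 T (hm 0) (hne _ _ (by decide)) (by rw [a01, b0])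
      · exact NumType.m_le_simple2 T (hm 1) (hne _ _ (by decide)) (hne _ _ (by decide)) (hne _ _ (by decide)) (by rw [NumType.symm' T, a01, b1]) (by rw [a12, b1])
      · exact NumType.m_le_simple2 T (hm 2) (hne _ _ (by decide)) (hne _ _ (by decide)) (hne _ _ (by decide)) (by rw [NumType.symm' T, a12, b2]) (by rw [a23, b2])
      · have := NumType.m_le1 T (hm 3) (hne 3 2 (by decide)) 2 (by rw [NumType.symm' T, a23, b3])
        linarith
  · have s2 := NumType.chain_next T (by omega) hv hc 1 2 3 rfl rfl hd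
    have s0 : NumType.Simple T (v 0) (v 1) := by
      rcases NumType.chain_edge T (by omega) (by norm_num) hv hc 0 1 rfl with s | d
      · exact s
      · have s := NumType.chain_next T (by omega) hv hc 0 1 2 rfl rfl d
        obtain ⟨p, q, hpq, hp, hq, e1, e2⟩ := hd
        exfalso
        have hw := T.w_pos (v 1)
        rw [s.2] at e1 e2
        have h1 : p = 1 := by nlinarith
        subst h1
        have h3 : q = 2 := by linarith
        subst h3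
        linarith [s.1]
    have main : ∀ u : Fin 4 ↪ Fin n, (∀ j, T.IsMinusTwo (u j)) → NumType.Simple T (u 0) (u 1) →
        NumType.Simple T (u 2) (u 3) → T.w (u 2) = 2 * T.w (u 1) → T.a (u 1) (u 2) = 2 * T.w (u 1) →
        ∃ w : ℤ, T.w (u 0) = w ∧ T.w (u 1) = w ∧ T.w (u 2) = 2 * w ∧ T.w (u 3) = 2 * w ∧ T.a (u 0) (u 1) = w ∧ T.a (u 1) (u 2) = 2 * w ∧ T.a (u 2) (u 3) = 2 * w ∧ T.m (u 1) ≤ 2 * T.m (u 0) ∧ T.m (u 0) + 2 * T.m (u 2) ≤ 2 * T.m (u 1) ∧ T.m (u 1) + T.m (u 3) ≤ 2 * T.m (u 2) ∧ T.m (u 2) ≤ 2 * T.m (u 3) := by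
      intro u hu s s' e1 e2
      have hne : ∀ a b : Fin 4, a ≠ b → u a ≠ u b := fun a b h => u.injective.ne h
      refine ⟨T.w (u 1), s.1.symm, rfl, e1, s'.1.trans e1, s.2.trans s.1.symm, e2, s'.2.trans e1, ?_, ?_, ?_, ?_⟩
      · exact NumType.m_le_simple1 T (hu 0) (hne _ _ (by decide)) s.2
      · simpa using NumType.m_le2 T (hu 1) (hne 1 0 (by decide)) (hne 1 2 (by decide)) (hne _ _ (by decide)) 1 2 (by rw [s.symm.2, one_mul]) e2
      · exact NumType.m_le_simple2 T (hu 2) (hne _ _ (by decide)) (hne _ _ (by decide)) (hne _ _ (by decide)) (by rw [NumType.symm' T, e2, e1]) s'.2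
      · exact NumType.m_le_simple1 T (hu 3) (hne _ _ (by decide)) s'.symm.2
    rcases hd.cases with ⟨e1, e2⟩ | ⟨e1, e2⟩
    · obtain ⟨w, hw⟩ := main v hv s0 s2 e1 e2
      exact ⟨v, w, Or.inl fun _ => rfl, Or.inr (Or.inr (Or.inr hw))⟩
    · obtain ⟨w, hw⟩ := main (Fin.revPerm.toEmbedding.trans v) (fun j => hv _) s2.symm s0.symm e1 (by
        show T.a (v 2) (v 1) = 2 * T.w (v 2)
        rw [NumType.symm' T]; exact e2)
      exact ⟨_, w, Or.inr fun _ => rfl, Or.inr (Or.inr (Or.inr hw))⟩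

end Groth.Agent.S7352
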