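import Groth.Statements.S7353
import Groth.Agent.NumType.Graph

set_option autoImplicit false
open Finset
open Models Models.NumericalType

namespace Groth.Agent.S7353

/-- Classification of proper subgraphs which are chains of five vertices: let T be a numerical type on n
> 5 indices and i_1, …, i_5 distinct (-2)-indices with a_{i_j i_{j+1}} nonzero for j < 5. Then
a_{i_j i_l} = 0 for |j - l| ≥ 2 and, after possibly reversing the order of the indices, for some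
integer w one of the following holds: (A5) w = (w, w, w, w, w), consecutive a = (w, w, w, w), with
2m_1 ≥ m_2, 2m_2 ≥ m_1 + m_3, 2m_3 ≥ m_2 + m_4, 2m_4 ≥ m_3 + m_5, 2m_5 ≥ m_4; (C5) w = (w, w, w, w,
2w), consecutive a = (w, w, w, 2w), with 2m_1 ≥ m_2, 2m_2 ≥ m_1 + m_3, 2m_3 ≥ m_2 + m_4, 2m_4 ≥ m_3
+ 2m_5, 2m_5 ≥ m_4; (B5) w = (2w, 2w, 2w, 2w, w), consecutive a = (2w, 2w, 2w, 2w), with 2m_1 ≥ m_2,
2m_2 ≥ m_1 + m_3, 2m_3 ≥ m_2 + m_4, 2m_4 ≥ m_3 + m_5, m_5 ≥ m_4. (The inequalities are those given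
by the rows Σ_l a_{kl} m_l = 0 of the displayed matrices; the published text has 2m_3 ≥ m_2 + 2m_4
and 2m_4 ≥ m_3 + m_5 in case C5 and m_4 ≥ m_3 in case B5, of which the first does not follow — for
the numerical type with six indices, weights (1,1,1,1,2,1), chain intersection numbers (1,1,1,2)
plus a_{16} = 1, a_{66} = -1 and multiplicities (2,2,2,2,1,2) one has 2m_3 = 4 < m_2 + 2m_4 = 6 — so
the matrix inequalities are stated.) -/
theorem result {n : ℕ} (T : Models.NumericalType n) (hn : 5 < n)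
    (v : Fin 5 ↪ Fin n) (hv : ∀ j, T.IsMinusTwo (v j)) (h01 : T.a (v 0) (v 1) ≠ 0) (h12 : T.a (v 1) (v 2) ≠ 0) (h23 : T.a (v 2) (v 3) ≠ 0) (h34 : T.a (v 3) (v 4) ≠ 0) :
    (T.a (v 0) (v 2) = 0 ∧ T.a (v 0) (v 3) = 0 ∧ T.a (v 0) (v 4) = 0 ∧ T.a (v 1) (v 3) = 0 ∧ T.a (v 1) (v 4) = 0 ∧ T.a (v 2) (v 4) = 0) ∧
    ∃ (u : Fin 5 → Fin n) (w : ℤ), ((∀ j, u j = v j) ∨ (∀ j, u j = v (Fin.rev j))) ∧
      ((T.w (u 0) = w ∧ T.w (u 1) = w ∧ T.w (u 2) = w ∧ T.w (u 3) = w ∧ T.w (u 4) = w ∧ T.a (u 0) (u 1) = w ∧ T.a (u 1) (u 2) = w ∧ T.a (u 2) (u 3) = w ∧ T.a (u 3) (u 4) = w ∧ T.m (u 1) ≤ 2 * T.m (u 0) ∧ T.m (u 0) + T.m (u 2) ≤ 2 * T.m (u 1) ∧ T.m (u 1) + T.m (u 3) ≤ 2 * T.m (u 2) ∧ T.m (u 2) + T.m (u 4) ≤ 2 * T.m (u 3) ∧ T.m (u 3) ≤ 2 * T.m (u 4)) ∨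
      (T.w (u 0) = w ∧ T.w (u 1) = w ∧ T.w (u 2) = w ∧ T.w (u 3) = w ∧ T.w (u 4) = 2 * w ∧ T.a (u 0) (u 1) = w ∧ T.a (u 1) (u 2) = w ∧ T.a (u 2) (u 3) = w ∧ T.a (u 3) (u 4) = 2 * w ∧ T.m (u 1) ≤ 2 * T.m (u 0) ∧ T.m (u 0) + T.m (u 2) ≤ 2 * T.m (u 1) ∧ T.m (u 1) + T.m (u 3) ≤ 2 * T.m (u 2) ∧ T.m (u 2) + 2 * T.m (u 4) ≤ 2 * T.m (u 3) ∧ T.m (u 3) ≤ 2 * T.m (u 4)) ∨
      (T.w (u 0) = 2 * w ∧ T.w (u 1) = 2 * w ∧ T.w (u 2) = 2 * w ∧ T.w (u 3) = 2 * w ∧ T.w (u 4) = w ∧ T.a (u 0) (u 1) = 2 * w ∧ T.a (u 1) (u 2) = 2 * w ∧ T.a (u 2) (u 3) = 2 * w ∧ T.a (u 3) (u 4) = 2 * w ∧ T.m (u 1) ≤ 2 * T.m (u 0) ∧ T.m (u 0) + T.m (u 2) ≤ 2 * T.m (u 1) ∧ T.m (u 1) + T.m (u 3) ≤ 2 * T.m (u 2) ∧ T.m (u 2) + T.m (u 4) ≤ 2 * T.m (u 3) ∧ T.m (u 3) ≤ T.m (u 4))) := by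
  have hc : NumType.IsChain T v := fun a b g => by
    fin_cases a <;> fin_cases b <;> simp at g <;> first | exact h01 | exact h12 | exact h23 | exact h34
  have z := NumType.chain_far T hn hv hc
  refine ⟨⟨z 0 2 (by decide), z 0 3 (by decide), z 0 4 (by decide), z 1 3 (by decide), z 1 4 (by decide), z 2 4 (by decide)⟩, ?_⟩
  obtain ⟨u, w, hu, -, hcases⟩ := NumType.chain_class T (by norm_num) hn hv hc fun j j' h h0 h1 =>
    NumType.chain_inner_simple T le_rfl hn hv hc j j' h h0 h1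
  have hm : ∀ j, T.IsMinusTwo (u j) := fun j => by rcases hu with g | g <;> rw [g] <;> exact hv _
  have hne : ∀ a b : Fin 5, a ≠ b → u a ≠ u b := fun a b h => by
    rcases hu with g | g <;> rw [g, g]
    · exact v.injective.ne h
    · exact v.injective.ne (fun e => h (Fin.rev_injective e))
  refine ⟨u, w, hu, ?_⟩
  rcases hcases with ⟨W, A⟩ | ⟨W, W', A, A'⟩ | ⟨W, W', A⟩
  · left
    have a01 := A 0 1 rfl; have a12 := A 1 2 rfl; have a23 := A 2 3 rfl; have a34 := A 3 4 rfl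
    refine ⟨W 0, W 1, W 2, W 3, W 4, a01, a12, a23, a34, ?_, ?_, ?_, ?_, ?_⟩
    · exact NumType.m_le_simple1 T (hm 0) (hne _ _ (by decide)) (by rw [a01, W])
    · exact NumType.m_le_simple2 T (hm 1) (hne _ _ (by decide)) (hne _ _ (by decide)) (hne _ _ (by decide)) (by rw [NumType.symm' T, a01, W]) (by rw [a12, W])
    · exact NumType.m_le_simple2 T (hm 2) (hne _ _ (by decide)) (hne _ _ (by decide)) (hne _ _ (by decide)) (by rw [NumType.symm' T, a12, W]) (by rw [a23, W])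
    · exact NumType.m_le_simple2 T (hm 3) (hne _ _ (by decide)) (hne _ _ (by decide)) (hne _ _ (by decide)) (by rw [NumType.symm' T, a23, W]) (by rw [a34, W])
    · exact NumType.m_le_simple1 T (hm 4) (hne _ _ (by decide)) (by rw [NumType.symm' T, a34, W])
  · right; left
    have a01 := A 0 1 rfl (by decide); have a12 := A 1 2 rfl (by decide); have a23 := A 2 3 rfl (by decide)
    have a34 := A' 3 4 rfl rfl
    have b0 := W 0 (by decide); have b1 := W 1 (by decide); have b2 := W 2 (by decide); have b3 := W 3 (by decide)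
    have b4 := W' 4 rfl
    refine ⟨b0, b1, b2, b3, b4, a01, a12, a23, a34, ?_, ?_, ?_, ?_, ?_⟩
    · exact NumType.m_le_simple1 T (hm 0) (hne _ _ (by decide)) (by rw [a01, b0])
    · exact NumType.m_le_simple2 T (hm 1) (hne _ _ (by decide)) (hne _ _ (by decide)) (hne _ _ (by decide)) (by rw [NumType.symm' T, a01, b1]) (by rw [a12, b1])
    · exact NumType.m_le_simple2 T (hm 2) (hne _ _ (by decide)) (hne _ _ (by decide)) (hne _ _ (by decide)) (by rw [NumType.symm' T, a12, b2]) (by rw [a23, b2])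
    · simpa using NumType.m_le2 T (hm 3) (hne 3 2 (by decide)) (hne 3 4 (by decide)) (hne _ _ (by decide)) 1 2 (by rw [NumType.symm' T, a23, b3, one_mul]) (by rw [a34, b3])
    · exact NumType.m_le_simple1 T (hm 4) (hne _ _ (by decide)) (by rw [NumType.symm' T, a34, b4])
  · right; right
    have a01 := A 0 1 rfl; have a12 := A 1 2 rfl; have a23 := A 2 3 rfl; have a34 := A 3 4 rfl
    have b0 := W 0 (by decide); have b1 := W 1 (by decide); have b2 := W 2 (by decide); have b3 := W 3 (by decide)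
    have b4 := W' 4 rfl
    refine ⟨b0, b1, b2, b3, b4, a01, a12, a23, a34, ?_, ?_, ?_, ?_, ?_⟩
    · exact NumType.m_le_simple1 T (hm 0) (hne _ _ (by decide)) (by rw [a01, b0])
    · exact NumType.m_le_simple2 T (hm 1) (hne _ _ (by decide)) (hne _ _ (by decide)) (hne _ _ (by decide)) (by rw [NumType.symm' T, a01, b1]) (by rw [a12, b1])
    · exact NumType.m_le_simple2 T (hm 2) (hne _ _ (by decide)) (hne _ _ (by decide)) (hne _ _ (by decide)) (by rw [NumType.symm' T, a12, b2]) (by rw [a23, b2])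
    · exact NumType.m_le_simple2 T (hm 3) (hne _ _ (by decide)) (hne _ _ (by decide)) (hne _ _ (by decide)) (by rw [NumType.symm' T, a23, b3]) (by rw [a34, b3])
    · have := NumType.m_le1 T (hm 4) (hne 4 3 (by decide)) 2 (by rw [NumType.symm' T, a34, b4])
      linarith

end Groth.Agent.S7353
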