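import Groth.Statements.S7355
import Groth.Agent.NumType.Graph

set_option autoImplicit false
open Finset
open Models Models.NumericalType

namespace Groth.Agent.S7355

/-- Classification of proper subgraphs of type D: let T be a numerical type on n indices, t > 4 with n >
t + 1, and i_1, …, i_{t+1} distinct (-2)-indices such that a_{i_j i_{j+1}} is nonzero for j = 1, …,
t - 1 and a_{i_{t-1} i_{t+1}} is nonzero. Then for some integer w one has w_{i_1} = … = w_{i_{t+1}}
= w, a_{i_j i_{j+1}} = w for j < t, a_{i_{t-1} i_{t+1}} = w, and a_{i_j i_k} = 0 for all other pairs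
j ≠ k. -/
theorem result {n : ℕ} (T : Models.NumericalType n) (t : ℕ) (ht : 4 < t) (hn : t + 1 < n)
    (v : Fin (t + 1) ↪ Fin n) (hv : ∀ j, T.IsMinusTwo (v j))
    (hchain : ∀ j j' : Fin (t + 1), j'.val = j.val + 1 → j'.val < t → T.a (v j) (v j') ≠ 0)
    (hbranch : ∀ j j' : Fin (t + 1), j.val + 2 = t → j'.val = t → T.a (v j) (v j') ≠ 0) :
    ∃ w : ℤ, (∀ j : Fin (t + 1), T.w (v j) = w) ∧
      (∀ j j' : Fin (t + 1), j'.val = j.val + 1 → j'.val < t → T.a (v j) (v j') = w) ∧
      (∀ j j' : Fin (t + 1), j.val + 2 = t → j'.val = t → T.a (v j) (v j') = w) ∧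
      (∀ j k : Fin (t + 1), j.val < k.val → ¬ (k.val = j.val + 1 ∧ k.val < t) → ¬ (j.val + 2 = t ∧ k.val = t) →
        T.a (v j) (v k) = 0) := by
  obtain ⟨D, B⟩ := NumType.Dn_simple T (by omega) hn v hv hchain hbranch
  let c : Fin (t + 1) := ⟨t - 2, by omega⟩
  let z : Fin (t + 1) := ⟨0, by omega⟩
  let top : Fin (t + 1) := ⟨t, by omega⟩
  have hW : ∀ j : Fin (t + 1), j.val < t → T.w (v j) = T.w (v z) := fun j hj =>
    NumType.simple_run T z j (Nat.zero_le _) fun a b _ g g' => D a b g' (by omega)
  have hWall : ∀ j : Fin (t + 1), T.w (v j) = T.w (v z) := fun j => by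
    by_cases hj : j.val < t
    · exact hW j hj
    · rw [(B c j (by simp [c]; omega) (by omega)).1]; exact hW c (by simp [c]; omega)
  -- the two maximal chains and the pair of leaves
  let e1 : Fin t ↪ Fin (t + 1) := Fin.castSuccEmb
  let e2 : Fin t ↪ Fin (t + 1) := ⟨fun a => if a.val + 1 = t then top else Fin.castSucc a, fun a b h => by
    simp only at h
    split_ifs at h with g g' g' <;> simp [top, Fin.ext_iff] at h <;> exact Fin.ext (by omega)⟩
  have hc1 : NumType.IsChain T (e1.trans v) := fun a b g =>
    hchain _ _ (by simpa [e1] using g) (by simp [e1])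
  have hc2 : NumType.IsChain T (e2.trans v) := by
    intro a b g
    show T.a (v (e2 a)) (v (e2 b)) ≠ 0
    have ha : a.val + 1 ≠ t := by omega
    have hea : e2 a = Fin.castSucc a := if_neg ha
    rw [hea]
    by_cases hb : b.val + 1 = t
    · rw [show e2 b = top from if_pos hb]
      exact hbranch _ _ (by simp; omega) rfl
    · rw [show e2 b = Fin.castSucc b from if_neg hb]
      exact hchain _ _ (by simpa using g) (by simp)
  have F1 := NumType.chain_far T (v := e1.trans v) (by omega) (fun a => hv _) hc1
  have F2 := NumType.chain_far T (v := e2.trans v) (by omega) (fun a => hv _) hc2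
  refine ⟨T.w (v z), hWall, fun j j' g g' => (D j j' g g').2.trans (hWall j),
    fun j j' g g' => (B j j' g g').2.trans (hWall j), fun j l g g1 g2 => ?_⟩
  have hl := l.2
  by_cases hlt : l.val < t
  · exact (F1 ⟨j.val, by omega⟩ ⟨l.val, hlt⟩ (by simp; omega) :)
  · have hle : l = top := Fin.ext (by simp [top]; omega)
    subst hle
    by_cases hj : j.val + 2 < t
    · have := F2 ⟨j.val, by omega⟩ ⟨t - 1, by omega⟩ (by simp; omega)
      change T.a (v (e2 _)) (v (e2 _)) = 0 at this
      rw [show e2 ⟨j.val, by omega⟩ = j from if_neg (by simp; omega),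
        show e2 ⟨t - 1, by omega⟩ = top from if_pos (by simp; omega)] at this
      exact this
    · have hj' : j.val + 1 = t := by
        simp [top] at g g2; omega
      exact (NumType.edge_cases T (by omega) (i := v j) (j := v c) (l := v top)
        (v.injective.ne (Fin.ne_of_val_ne (by simp [c]; omega))) (v.injective.ne (Fin.ne_of_val_ne (by simp [c, top]; omega)))
        (v.injective.ne (Fin.ne_of_val_ne (by simp [top]; omega))) (hv _) (hv _) (hv _)
        (by rw [NumType.symm' T]; exact hchain c j (by simp [c]; omega) (by omega))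
        (hbranch c top (by simp [c]; omega) rfl)).2.2

end Groth.Agent.S7355
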