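import Groth.Statements.S7362
import Groth.Agent.NumType.Basic

set_option autoImplicit false
open Finset
open Models Models.NumericalType

namespace Groth.Agent.S7362

/-- Genus one classification: case n = 2: let T be a minimal numerical type of genus 1 on two indices.
Then for some ordering i, j of the indices and some integers m, w, either m_i = m_j = m, a_ii = a_jj
= -2w, a_ij = 2w, w_i = w_j = w, g_i = g_j = 0; or m_i = 2m, m_j = m, a_ii = -2w, a_ij = 4w, a_jj =
-8w, w_i = w, w_j = 4w, g_i = g_j = 0. Only the classification direction is stated. -/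
theorem result (T : Models.NumericalType 2) (hmin : T.IsMinimal) (hg : T.genus = 1) :
    ∃ (i j : Fin 2) (m w : ℤ), i ≠ j ∧ T.g i = 0 ∧ T.g j = 0 ∧
      ((T.m i = m ∧ T.m j = m ∧ T.a i i = -2 * w ∧ T.a i j = 2 * w ∧ T.a j j = -2 * w ∧ T.w i = w ∧ T.w j = w) ∨
        (T.m i = 2 * m ∧ T.m j = m ∧ T.a i i = -2 * w ∧ T.a i j = 4 * w ∧ T.a j j = -8 * w ∧ T.w i = w ∧ T.w j = 4 * w)) := by
  have h := NumType.two_genus T
  rw [hg, sub_self, mul_zero, Fin.sum_univ_two] at h
  have c0 := mul_nonneg (T.m_pos 0).le (NumType.contrib_nonneg T (by norm_num) hmin 0)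
  have c1 := mul_nonneg (T.m_pos 1).le (NumType.contrib_nonneg T (by norm_num) hmin 1)
  have e0 : T.IsMinusTwo 0 := NumType.isMinusTwo_of_contrib_zero T (by norm_num)
    ((mul_eq_zero.mp (show T.m 0 * NumType.contrib T 0 = 0 by linarith)).resolve_left (T.m_pos 0).ne')
  have e1 : T.IsMinusTwo 1 := NumType.isMinusTwo_of_contrib_zero T (by norm_num)
    ((mul_eq_zero.mp (show T.m 1 * NumType.contrib T 1 = 0 by linarith)).resolve_left (T.m_pos 1).ne')
  have r0 := NumType.row T 0
  have r1 := NumType.row T 1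
  rw [Fin.sum_univ_two, e0.2] at r0
  rw [Fin.sum_univ_two, e1.2, NumType.symm' T 1 0] at r1
  obtain ⟨p, hp⟩ := T.w_dvd 0 1
  obtain ⟨q, hq⟩ := NumType.w_dvd' T 0 1
  have hw0 := T.w_pos 0
  have hw1 := T.w_pos 1
  have hm0 := T.m_pos 0
  have hm1 := T.m_pos 1
  have hA : 0 < T.a 0 1 := by nlinarith
  have hp1 : 1 ≤ p := by nlinarith
  have hq1 : 1 ≤ q := by nlinarith
  have hm : 2 * T.m 0 = p * T.m 1 := by
    apply mul_left_cancel₀ hw0.ne'
    rw [hp] at r0; linarith
  have hm' : 2 * T.m 1 = q * T.m 0 := by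
    apply mul_left_cancel₀ hw1.ne'
    rw [hq] at r1; linarith
  have hpq : p * q = 4 := by
    apply mul_right_cancel₀ hm0.ne'
    linear_combination (-p) * hm' - 2 * hm
  have hp4 : p ≤ 4 := by nlinarith
  have hq4 : q ≤ 4 := by nlinarith
  interval_cases p <;> interval_cases q <;> first
    | (exfalso; omega)
    | exact ⟨0, 1, T.m 0, T.w 0, by decide, e0.1, e1.1,
        Or.inl ⟨rfl, by linarith, e0.2, by linarith, by linarith [e1.2], rfl, by linarith⟩⟩
    | exact ⟨0, 1, T.m 1, T.w 0, by decide, e0.1, e1.1,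
        Or.inr ⟨by linarith, rfl, e0.2, by linarith, by linarith [e1.2], rfl, by linarith⟩⟩
    | exact ⟨1, 0, T.m 0, T.w 1, by decide, e1.1, e0.1,
        Or.inr ⟨by linarith, rfl, e1.2, by rw [NumType.symm' T 1 0]; linarith, by linarith [e0.2], rfl, by linarith⟩⟩

end Groth.Agent.S7362
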