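import Groth.Statements.S7363
import Groth.Agent.NumType.Affine

set_option autoImplicit false
open Finset
open Models Models.NumericalType

namespace Groth.Agent.S7363

/-- Genus one classification: case n = 3: let T be a minimal numerical type of genus 1 on three indices.
Then all g = 0 and, for some ordering i, j, k of the indices and some integers m, w, the data (m; a;
w) is one of: (m,m,m; a_ii = a_jj = a_kk = -2w, a_ij = a_ik = a_jk = w; w,w,w); (m,2m,m; a_ii = -2w,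
a_ij = w, a_ik = 0, a_jj = -2w, a_jk = 3w, a_kk = -6w; w,w,3w); (m,2m,3m; a_ii = -6w, a_ij = 3w,
a_ik = 0, a_jj = -6w, a_jk = 3w, a_kk = -2w; 3w,3w,w); (2m,2m,m; a_ii = -2w, a_ij = 2w, a_ik = 0,
a_jj = -4w, a_jk = 4w, a_kk = -8w; w,2w,4w); (m,m,m; a_ii = -2w, a_ij = 2w, a_ik = 0, a_jj = -4w,
a_jk = 2w, a_kk = -2w; w,2w,w); (m,2m,m; a_ii = -4w, a_ij = 2w, a_ik = 0, a_jj = -2w, a_jk = 2w,
a_kk = -4w; 2w,w,2w). Only the classification direction is stated. -/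
theorem result (T : Models.NumericalType 3) (hmin : T.IsMinimal) (hg : T.genus = 1) :
    ∃ (i j k : Fin 3) (m w : ℤ), i ≠ j ∧ j ≠ k ∧ i ≠ k ∧ T.g i = 0 ∧ T.g j = 0 ∧ T.g k = 0 ∧
      ((T.m i = m ∧ T.m j = m ∧ T.m k = m ∧ T.a i i = -2 * w ∧ T.a j j = -2 * w ∧ T.a k k = -2 * w ∧
          T.a i j = w ∧ T.a i k = w ∧ T.a j k = w ∧ T.w i = w ∧ T.w j = w ∧ T.w k = w) ∨
        (T.m i = m ∧ T.m j = 2 * m ∧ T.m k = m ∧ T.a i i = -2 * w ∧ T.a i j = w ∧ T.a i k = 0 ∧ T.a j j = -2 * w ∧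
          T.a j k = 3 * w ∧ T.a k k = -6 * w ∧ T.w i = w ∧ T.w j = w ∧ T.w k = 3 * w) ∨
        (T.m i = m ∧ T.m j = 2 * m ∧ T.m k = 3 * m ∧ T.a i i = -6 * w ∧ T.a i j = 3 * w ∧ T.a i k = 0 ∧ T.a j j = -6 * w ∧
          T.a j k = 3 * w ∧ T.a k k = -2 * w ∧ T.w i = 3 * w ∧ T.w j = 3 * w ∧ T.w k = w) ∨
        (T.m i = 2 * m ∧ T.m j = 2 * m ∧ T.m k = m ∧ T.a i i = -2 * w ∧ T.a i j = 2 * w ∧ T.a i k = 0 ∧ T.a j j = -4 * w ∧
          T.a j k = 4 * w ∧ T.a k k = -8 * w ∧ T.w i = w ∧ T.w j = 2 * w ∧ T.w k = 4 * w) ∨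
        (T.m i = m ∧ T.m j = m ∧ T.m k = m ∧ T.a i i = -2 * w ∧ T.a i j = 2 * w ∧ T.a i k = 0 ∧ T.a j j = -4 * w ∧
          T.a j k = 2 * w ∧ T.a k k = -2 * w ∧ T.w i = w ∧ T.w j = 2 * w ∧ T.w k = w) ∨
        (T.m i = m ∧ T.m j = 2 * m ∧ T.m k = m ∧ T.a i i = -4 * w ∧ T.a i j = 2 * w ∧ T.a i k = 0 ∧ T.a j j = -2 * w ∧
          T.a j k = 2 * w ∧ T.a k k = -4 * w ∧ T.w i = 2 * w ∧ T.w j = w ∧ T.w k = 2 * w)) := by
  have hall := NumType.all_minusTwo_of_genus_one T (by norm_num) hmin hg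
  have hd : ∀ x, T.a x x = -2 * T.w x := fun x => (hall x).2
  have hz : ∀ x, T.g x = 0 := fun x => (hall x).1
  have row : ∀ x y z : Fin 3, x ≠ y → x ≠ z → y ≠ z →
      T.a x y * T.m y + T.a x z * T.m z = 2 * T.w x * T.m x := fun x y z h1 h2 h3 =>
    NumType.row_exact2 T (hall x) h1 h2 h3 fun j a b c => by exfalso; omega
  suffices H : ∀ x y z : Fin 3, x ≠ y → y ≠ z → x ≠ z → T.a x y ≠ 0 → T.a y z ≠ 0 → T.a x z = 0 →
    ∃ (i j k : Fin 3) (m w : ℤ), i ≠ j ∧ j ≠ k ∧ i ≠ k ∧ T.g i = 0 ∧ T.g j = 0 ∧ T.g k = 0 ∧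
        ((T.m i = m ∧ T.m j = m ∧ T.m k = m ∧ T.a i i = -2 * w ∧ T.a j j = -2 * w ∧ T.a k k = -2 * w ∧
            T.a i j = w ∧ T.a i k = w ∧ T.a j k = w ∧ T.w i = w ∧ T.w j = w ∧ T.w k = w) ∨
          (T.m i = m ∧ T.m j = 2 * m ∧ T.m k = m ∧ T.a i i = -2 * w ∧ T.a i j = w ∧ T.a i k = 0 ∧ T.a j j = -2 * w ∧
            T.a j k = 3 * w ∧ T.a k k = -6 * w ∧ T.w i = w ∧ T.w j = w ∧ T.w k = 3 * w) ∨
          (T.m i = m ∧ T.m j = 2 * m ∧ T.m k = 3 * m ∧ T.a i i = -6 * w ∧ T.a i j = 3 * w ∧ T.a i k = 0 ∧ T.a j j = -6 * w ∧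
            T.a j k = 3 * w ∧ T.a k k = -2 * w ∧ T.w i = 3 * w ∧ T.w j = 3 * w ∧ T.w k = w) ∨
          (T.m i = 2 * m ∧ T.m j = 2 * m ∧ T.m k = m ∧ T.a i i = -2 * w ∧ T.a i j = 2 * w ∧ T.a i k = 0 ∧ T.a j j = -4 * w ∧
            T.a j k = 4 * w ∧ T.a k k = -8 * w ∧ T.w i = w ∧ T.w j = 2 * w ∧ T.w k = 4 * w) ∨
          (T.m i = m ∧ T.m j = m ∧ T.m k = m ∧ T.a i i = -2 * w ∧ T.a i j = 2 * w ∧ T.a i k = 0 ∧ T.a j j = -4 * w ∧
            T.a j k = 2 * w ∧ T.a k k = -2 * w ∧ T.w i = w ∧ T.w j = 2 * w ∧ T.w k = w) ∨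
          (T.m i = m ∧ T.m j = 2 * m ∧ T.m k = m ∧ T.a i i = -4 * w ∧ T.a i j = 2 * w ∧ T.a i k = 0 ∧ T.a j j = -2 * w ∧
            T.a j k = 2 * w ∧ T.a k k = -4 * w ∧ T.w i = 2 * w ∧ T.w j = w ∧ T.w k = 2 * w)) by
    have nb : ∀ x y z : Fin 3, x ≠ y → x ≠ z → y ≠ z → T.a x y = 0 → T.a x z = 0 → False := by
      intro x y z h1 h2 h3 e1 e2
      have := row x y z h1 h2 h3
      rw [e1, e2] at this
      nlinarith [T.w_pos x, T.m_pos x]
    have s := fun x y => NumType.symm' T x y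
    by_cases h01 : T.a 0 1 = 0
    · exact H 0 2 1 (by decide) (by decide) (by decide) (fun e => nb 0 1 2 (by decide) (by decide) (by decide) h01 e)
        (fun e => nb 1 0 2 (by decide) (by decide) (by decide) (by rw [s, h01]) (by rw [s, e])) h01
    by_cases h12 : T.a 1 2 = 0
    · exact H 1 0 2 (by decide) (by decide) (by decide) (by rw [s]; exact h01)
        (fun e => nb 2 0 1 (by decide) (by decide) (by decide) (by rw [s, e]) (by rw [s, h12])) h12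
    by_cases h02 : T.a 0 2 = 0
    · exact H 0 1 2 (by decide) (by decide) (by decide) h01 h12 h02
    -- triangle
    obtain ⟨-, hs, -, hm⟩ := NumType.null_graph T (Function.Embedding.refl _) hall (by norm_num) (fun a b => a ≠ b)
      (fun a b g => ⟨g, by
        fin_cases a <;> fin_cases b <;> simp_all [Function.Embedding.refl_apply, s 1 0, s 2 0, s 2 1]⟩)
      (fun a b g => g.symm) (fun _ => 1) (fun _ => one_pos) (fun a => by fin_cases a <;> decide)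
    simp only [Function.Embedding.refl_apply, mul_one] at hs hm
    obtain ⟨w01, a01⟩ := hs 0 1 (by decide)
    obtain ⟨w02, a02⟩ := hs 0 2 (by decide)
    obtain ⟨-, a12⟩ := hs 1 2 (by decide)
    exact ⟨0, 1, 2, T.m 0, T.w 0, by decide, by decide, by decide, hz _, hz _, hz _,
      Or.inl ⟨rfl, hm 1 0, hm 2 0, hd 0, by rw [hd, w01], by rw [hd, w02], a01, a02, by rw [a12, w01], rfl, w01, w02⟩⟩
  intro x y z hxy hyz hxz e1 e2 e3
  obtain ⟨p, q, hp, hq, hpq, ha, hb⟩ := NumType.pair_cases T (by norm_num) hxy (hall x) (hall y) e1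
  obtain ⟨p', q', hp', hq', hpq', ha', hb'⟩ := NumType.pair_cases T (by norm_num) hyz (hall y) (hall z) e2
  have rx := row x y z hxy hxz hyz
  have ry := row y x z hxy.symm hyz hxz
  have rz := row z x y hxz.symm hyz.symm hxy
  rw [e3, ha] at rx
  rw [NumType.symm' T y x, hb, ha'] at ry
  rw [NumType.symm' T z x, e3, NumType.symm' T z y, hb'] at rz
  have mx : p * T.m y = 2 * T.m x := mul_left_cancel₀ (T.w_pos x).ne' (by linear_combination rx)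
  have my : q * T.m x + p' * T.m z = 2 * T.m y := mul_left_cancel₀ (T.w_pos y).ne' (by linear_combination ry)
  have mz : q' * T.m y = 2 * T.m z := mul_left_cancel₀ (T.w_pos z).ne' (by linear_combination rz)
  have hsum : p * q + p' * q' = 4 := mul_left_cancel₀ (T.m_pos y).ne' (by linear_combination 2 * my + q * mx + p' * mz)
  have b1 : p ≤ 3 := by nlinarith
  have b2 : q ≤ 3 := by nlinarith
  have b3 : p' ≤ 3 := by nlinarith
  have b4 : q' ≤ 3 := by nlinarith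
  have s : ∀ u v, T.a u v = T.a v u := NumType.symm' T
  interval_cases p <;> interval_cases q <;> (try omega) <;> interval_cases p' <;> interval_cases q' <;>
    (try omega)
  all_goals first
    | (refine ⟨x, y, z, T.m x, T.w x, hxy, hyz, hxz, hz _, hz _, hz _, ?_⟩
       first
         | (refine Or.inr (Or.inl ⟨rfl, ?_, ?_, hd x, ?_, e3, ?_, ?_, ?_, rfl, ?_, ?_⟩) <;> linarith [hd y, hd z]; done)
         | (refine Or.inr (Or.inr (Or.inr (Or.inr (Or.inl ⟨rfl, ?_, ?_, hd x, ?_, e3, ?_, ?_, ?_, rfl, ?_, ?_⟩)))) <;> linarith [hd y, hd z]; done))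
    | (refine ⟨x, y, z, T.m x, T.w z, hxy, hyz, hxz, hz _, hz _, hz _, ?_⟩
       refine Or.inr (Or.inr (Or.inl ⟨rfl, ?_, ?_, ?_, ?_, e3, ?_, ?_, hd z, ?_, ?_, rfl⟩)) <;> linarith [hd x, hd y]; done)
    | (refine ⟨z, y, x, T.m z, T.w z, hyz.symm, hxy.symm, hxz.symm, hz _, hz _, hz _, ?_⟩
       refine Or.inr (Or.inl ⟨rfl, ?_, ?_, hd z, ?_, (s z x).trans e3, ?_, ?_, ?_, rfl, ?_, ?_⟩) <;> linarith [hd x, hd y, s z y, s y x]; done)
    | (refine ⟨z, y, x, T.m z, T.w x, hyz.symm, hxy.symm, hxz.symm, hz _, hz _, hz _, ?_⟩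
       refine Or.inr (Or.inr (Or.inl ⟨rfl, ?_, ?_, ?_, ?_, (s z x).trans e3, ?_, ?_, hd x, ?_, ?_, rfl⟩)) <;> linarith [hd y, hd z, s z y, s y x]; done)
    | (refine ⟨x, y, z, T.m z, T.w x, hxy, hyz, hxz, hz _, hz _, hz _, ?_⟩
       refine Or.inr (Or.inr (Or.inr (Or.inl ⟨?_, ?_, rfl, hd x, ?_, e3, ?_, ?_, ?_, rfl, ?_, ?_⟩))) <;> linarith [hd y, hd z]; done)
    | (refine ⟨z, y, x, T.m x, T.w z, hyz.symm, hxy.symm, hxz.symm, hz _, hz _, hz _, ?_⟩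
       refine Or.inr (Or.inr (Or.inr (Or.inl ⟨?_, ?_, rfl, hd z, ?_, (s z x).trans e3, ?_, ?_, ?_, rfl, ?_, ?_⟩))) <;> linarith [hd x, hd y, s z y, s y x]; done)
    | (refine ⟨x, y, z, T.m x, T.w y, hxy, hyz, hxz, hz _, hz _, hz _, ?_⟩
       refine Or.inr (Or.inr (Or.inr (Or.inr (Or.inr ⟨rfl, ?_, ?_, ?_, ?_, e3, hd y, ?_, ?_, ?_, rfl, ?_⟩)))) <;> linarith [hd x, hd z]; done)

end Groth.Agent.S7363
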