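import Groth.Statements.S7387
import Mathlib.AlgebraicGeometry.Limits
import Mathlib.AlgebraicGeometry.Morphisms.Separated
import Mathlib.AlgebraicGeometry.Morphisms.QuasiCompact

set_option autoImplicit false
universe u
open CategoryTheory AlgebraicGeometry
open Mor

namespace Groth.Agent.S7387

/-- A quasi-compact scheme has a dense open subscheme which is separated. -/
theorem result (X : Scheme.{u}) [CompactSpace X] :
    ∃ V : X.Opens, Dense (V : Set X) ∧ (V : Scheme.{u}).IsSeparated := by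
  classical
  open CategoryTheory.Limits in
  obtain ⟨s, hsf, hscov⟩ := isCompact_iff_finite_and_eq_biUnion_affineOpens.mp
    (show IsCompact (((⊤ : X.Opens) : Set X)) from isCompact_univ)
  haveI := hsf.to_subtype
  obtain ⟨n, ⟨eqv⟩⟩ := Finite.exists_equiv_fin s
  let U : Fin n → X.Opens := fun i => ((eqv.symm i : s) : X.affineOpens).1
  haveI hU : ∀ i, IsAffine (U i : Scheme.{u}) := fun i => ((eqv.symm i : s) : X.affineOpens).2
  let Vi : Fin n → X.Opens := fun i =>
    U i ⊓ ⟨(closure (⋃ j ∈ Set.Iio i, (U j : Set X)))ᶜ, isClosed_closure.isOpen_compl⟩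
  have hdis' : ∀ i j, i < j → ∀ x, x ∈ Vi i → x ∉ Vi j := fun i j hij x hi hj =>
    hj.2 (subset_closure (Set.mem_biUnion hij hi.1))
  have hdis : ∀ i j, i ≠ j → ∀ x, x ∈ Vi i → x ∉ Vi j := fun i j hij x hi hj => by
    rcases lt_or_gt_of_ne hij with h | h
    exacts [hdis' i j h x hi hj, hdis' j i h x hj hi]
  refine ⟨iSup Vi, ?_, ?_⟩
  · rw [dense_iff_inter_open]
    rintro W hW ⟨x, hx⟩
    have hex : ∃ i, (W ∩ (U i : Set X)).Nonempty := by
      have : x ∈ (⊤ : X.Opens) := trivial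
      rw [hscov] at this
      obtain ⟨a, h⟩ := TopologicalSpace.Opens.mem_iSup.mp this
      obtain ⟨ha, hxa⟩ := TopologicalSpace.Opens.mem_iSup.mp h
      exact ⟨eqv ⟨a, ha⟩, x, hx, by simpa [U] using hxa⟩
    obtain ⟨i, ⟨y, hyW, hyU⟩, hmin⟩ := WellFounded.has_min (wellFounded_lt (α := Fin n))
      {i | (W ∩ (U i : Set X)).Nonempty} hex
    refine ⟨y, hyW, TopologicalSpace.Opens.mem_iSup.mpr ⟨i, hyU, fun hy => ?_⟩⟩
    obtain ⟨z, hzW, hz⟩ := mem_closure_iff.mp hy W hW hyW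
    obtain ⟨j, hj, hzj⟩ := Set.mem_iUnion₂.mp hz
    exact hmin j ⟨z, hzW, hzj⟩ hj
  · let V : X.Opens := iSup Vi
    let f : ∀ i, (Vi i : Scheme.{u}) ⟶ (V : Scheme.{u}) := fun i => X.homOfLE (le_iSup Vi i)
    have hfr : ∀ i, (f i).opensRange = V.ι ⁻¹ᵁ Vi i := fun i => Scheme.opensRange_homOfLE _
    obtain ⟨hc⟩ : Nonempty (IsColimit (Cofan.mk (V : Scheme.{u}) f)) := by
      refine nonempty_isColimit_cofanMk_of f ?_ fun i j hij => ?_
      · refine top_le_iff.mp fun x _ => ?_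
        obtain ⟨i, hi⟩ := TopologicalSpace.Opens.mem_iSup.mp x.2
        exact TopologicalSpace.Opens.mem_iSup.mpr ⟨i, by rw [hfr]; exact hi⟩
      · rw [Function.onFun_apply, hfr, hfr, disjoint_iff]
        refine le_bot_iff.mp fun x hx => (hdis i j hij _ hx.1 hx.2).elim
    let α : ∀ i, (Vi i : Scheme.{u}) ⟶ ∐ (fun i => (U i : Scheme.{u})) := fun i =>
      X.homOfLE (inf_le_left : Vi i ≤ U i) ≫ Sigma.ι (fun i => (U i : Scheme.{u})) i
    haveI : IsOpenImmersion (Sigma.desc α) := isOpenImmersion_sigmaDesc _ α fun i j hij => by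
      refine Set.disjoint_of_subset ?_ ?_ (TopologicalSpace.Opens.coe_disjoint.mpr
        (disjoint_opensRange_sigmaι (fun i => (U i : Scheme.{u})) i j hij))
      · rintro _ ⟨a, rfl⟩; exact ⟨_, rfl⟩
      · rintro _ ⟨a, rfl⟩; exact ⟨_, rfl⟩
    let j : (V : Scheme.{u}) ⟶ ∐ (fun i => (U i : Scheme.{u})) :=
      (hc.coconePointUniqueUpToIso (colimit.isColimit _)).hom ≫ Sigma.desc α
    constructor
    rw [← terminal.comp_from j]
    infer_instance


end Groth.Agent.S7387
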