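import Groth.Agent.ProjAvoid.Basic
import Mathlib.AlgebraicGeometry.Morphisms.Immersion
import Groth.Statements.S7388
-- import your own Groth.Agent.* helpers here

set_option autoImplicit false
set_option backward.isDefEq.respectTransparency false
set_option backward.isDefEq.respectTransparency.types false
universe u
open CategoryTheory AlgebraicGeometry
open Mor

namespace Groth.Agent.S7388

/-- Let `X` be a scheme admitting an immersion into `Proj S` for some graded ring `S`. Then any finite
set of points of `X` is contained in an affine open of `X`. -/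
theorem result {R A : Type u} [CommRing R] [CommRing A] [Algebra R A]
    (𝒜 : ℕ → Submodule R A) [GradedAlgebra 𝒜] {X : Scheme.{u}} (ι : X ⟶ Proj 𝒜) [IsImmersion ι]
    (E : Set X) (hE : E.Finite) :
    ∃ U : X.Opens, IsAffineOpen U ∧ E ⊆ U := by
  let U : (Proj 𝒜).Opens := ι.coborderRange
  let i : X ⟶ (U : Scheme.{u}) := ι.liftCoborder
  obtain ⟨V, hV, hZ, hle⟩ := Groth.Agent.ProjAvoid.exists_basicOpen 𝒜 U (ι '' E) (hE.image _)
    (by rintro _ ⟨e, -, rfl⟩; exact subset_coborder ⟨e, rfl⟩)
  refine ⟨i ⁻¹ᵁ (U.ι ⁻¹ᵁ V), IsAffineOpen.preimage ?_ i, fun e he => ?_⟩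
  · rw [← Scheme.Hom.isAffineOpen_iff_of_isOpenImmersion U.ι, Scheme.Hom.image_preimage_eq_opensRange_inf, Scheme.Opens.opensRange_ι, inf_eq_right.2 hle]
    exact hV
  · show U.ι (i e) ∈ V
    rw [← Scheme.Hom.comp_apply, ι.liftCoborder_ι]
    exact hZ ⟨e, he, rfl⟩

end Groth.Agent.S7388
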