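import Groth.Statements.S7391
import Groth.Agent.ProjLocal.Basic


set_option autoImplicit false
universe u
open CategoryTheory AlgebraicGeometry
open Opposite
open Mor

namespace Groth.Agent.S7391

/-- Let `F` be a quasi-coherent `O_X`-module on a scheme `X`. Then `F(U)` is a projective
`O_X(U)`-module for every affine open `U` (that is, `F` is locally projective) if and only if `X`
has a covering by affine opens `U_i` with `F(U_i)` projective over `O_X(U_i)`. -/
theorem result (X : Scheme.{u}) (F : X.Modules) [Coh.IsQCoh F] :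
    (∀ U : X.Opens, IsAffineOpen U → Module.Projective (X.ringCatSheaf.obj.obj (op U)) (F.val.obj (op U))) ↔
      ∃ (I : Type u) (U : I → X.Opens), (⨆ i, U i) = ⊤ ∧ ∀ i, IsAffineOpen (U i) ∧
        Module.Projective (X.ringCatSheaf.obj.obj (op (U i))) (F.val.obj (op (U i))) := by
  haveI : F.IsQuasicoherent := ‹Coh.IsQCoh F›
  constructor
  · intro h
    exact ⟨_, fun i : X.affineOpens => i.1, (by
      refine eq_top_iff.2 fun x _ => ?_
      obtain ⟨_, ⟨W, hW, rfl⟩, hx, -⟩ :=
        X.isBasis_affineOpens.exists_subset_of_mem_open (Set.mem_univ x) isOpen_univ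
      exact TopologicalSpace.Opens.mem_iSup.2 ⟨⟨W, hW⟩, hx⟩),
      fun i => ⟨i.2, h _ i.2⟩⟩
  · rintro ⟨I, V, hV, h⟩ U hU
    refine Groth.Agent.ProjLocal.projective_of_cover F (fun x => ?_) hU
    obtain ⟨i, hi⟩ := TopologicalSpace.Opens.mem_iSup.1 (hV.ge (TopologicalSpace.Opens.mem_top x))
    exact ⟨V i, (h i).1, hi, (h i).2⟩

end Groth.Agent.S7391
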