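import Groth.Statements.S7392
import Groth.Agent.ProjLocal.Basic


set_option autoImplicit false
universe u
open CategoryTheory AlgebraicGeometry
open Opposite
open Mor

namespace Groth.Agent.S7392

/-- For a ring `A` and an `A`-module `M`, the module `M~` on `Spec A` is locally projective (projective
sections over every affine open) if and only if `M` is a projective `A`-module. -/
theorem result (A : CommRingCat.{u}) (M : ModuleCat.{u} A) :
    (∀ U : (Spec A).Opens, IsAffineOpen U →
      Module.Projective ((Spec A).ringCatSheaf.obj.obj (op U)) ((tilde M).val.obj (op U))) ↔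
      Module.Projective A M := by
  haveI : (tilde M).IsQuasicoherent := inferInstance
  let e₀ : A ≃+* Γ(Spec A, ⊤) := (Scheme.ΓSpecIso A).symm.commRingCatIsoToRingEquiv
  let t : M → Γ(tilde M, ⊤) := fun x => (tilde.toOpen M ⊤) x
  have ht : Function.Bijective t := ConcreteCategory.bijective_of_isIso (tilde.toOpen M ⊤)
  have hts : ∀ (a : A) (x : M), t (a • x) = e₀ a • t x := fun a x => by
    refine ((tilde.toOpen M ⊤).hom.map_smul a x).trans ?_
    refine (Scheme.Modules.smul_Spec_def a (t x)).trans ?_
    rw [show (TopologicalSpace.Opens.leTop (⊤ : (Spec A).Opens)).op = 𝟙 _ from rfl, (Spec A).presheaf.map_id]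
    rfl
  haveI := RingHomInvPair.of_ringEquiv e₀
  haveI := RingHomInvPair.of_ringEquiv e₀.symm
  let e : M ≃ₛₗ[(e₀ : A →+* Γ(Spec A, ⊤))] Γ(tilde M, ⊤) :=
    { Equiv.ofBijective t ht with
      map_add' := fun x y => map_add (tilde.toOpen M ⊤).hom x y
      map_smul' := hts }
  constructor
  · intro h
    haveI : Module.Projective Γ(Spec A, ⊤) Γ(tilde M, ⊤) := h ⊤ (isAffineOpen_top (Spec A))
    exact Module.Projective.of_equiv e.symm
  · intro h U hU
    haveI := h
    exact Groth.Agent.ProjLocal.projective_of_cover (tilde M)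
      (fun x => ⟨⊤, isAffineOpen_top (Spec A), trivial, Module.Projective.of_equiv e⟩) hU

end Groth.Agent.S7392
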