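import Groth.Statements.S7393
import Groth.Agent.GScheme.Basic


set_option autoImplicit false
universe u
open CategoryTheory AlgebraicGeometry
open Mor

namespace Groth.Agent.S7393

/-- A scheme `X` is a G-scheme (every point has an affine open neighbourhood whose coordinate ring is a
G-ring) if and only if `X` is locally Noetherian and, for every closed point `x`, the completion map
of the local ring `O_{X,x} → O_{X,x}^∧` is a regular ring map. -/
theorem result (X : Scheme.{u}) :
    (∀ x : X, ∃ U : X.Opens, x ∈ U ∧ IsAffineOpen U ∧ CAlg.IsGRing Γ(X, U)) ↔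
      IsLocallyNoetherian X ∧ ∀ x : X, IsClosed ({x} : Set X) →
        CAlg.IsRegularHom (X.presheaf.stalk x)
          (AdicCompletion (IsLocalRing.maximalIdeal (X.presheaf.stalk x)) (X.presheaf.stalk x)) := by
  refine ⟨fun h => ⟨Groth.Agent.GScheme.isLocallyNoetherian_of_gRing h,
    fun x _ => Groth.Agent.GScheme.regCpl_stalk_of_gRing h x⟩, fun h x => ?_⟩
  haveI := h.1
  obtain ⟨U, hU, hxU, -⟩ := exists_isAffineOpen_mem_and_subset (x := x) (U := (⊤ : X.Opens)) trivial
  exact ⟨U, hxU, hU, Groth.Agent.GScheme.isGRing_of_regCpl_stalk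
    (Groth.Agent.GScheme.regCpl_stalk_of_closedPoints h.2) U hU⟩

end Groth.Agent.S7393
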