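import Groth.Statements.S7394
set_option linter.style.haveILetI false
-- import your own Groth.Agent.* helpers here

set_option autoImplicit false
universe u
open CategoryTheory AlgebraicGeometry
open Lim

namespace Groth.Agent.S7394

theorem exists_field_finset {k : Type u} [Field k] {J : Type u} (K : J → Type u) [∀ j, Field (K j)]
    [∀ j, Algebra k (K j)] (s : Finset J) :
    ∃ (L : Type u) (_ : Field L) (_ : Algebra k L), ∀ j ∈ s, Nonempty (K j →ₐ[k] L) := by
  classical
  induction s using Finset.induction with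
  | empty => exact ⟨k, inferInstance, inferInstance, fun j hj => absurd hj (Finset.notMem_empty j)⟩
  | insert a s _ ih =>
    obtain ⟨L, _, _, hL⟩ := ih
    obtain ⟨m, hm⟩ := Ideal.exists_maximal (TensorProduct k L (K a))
    letI := Ideal.Quotient.field m
    refine ⟨_ ⧸ m, inferInstance, inferInstance, fun j hj => ?_⟩
    rcases Finset.mem_insert.1 hj with rfl | hj
    · exact ⟨(Ideal.Quotient.mkₐ k m).comp Algebra.TensorProduct.includeRight⟩
    · obtain ⟨φ⟩ := hL j hj
      exact ⟨((Ideal.Quotient.mkₐ k m).comp Algebra.TensorProduct.includeLeft).comp φ⟩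

theorem exists_field {k : Type u} [Field k] {J : Type u} (K : J → Type u) [∀ j, Field (K j)]
    [∀ j, Algebra k (K j)] :
    ∃ (L : Type u) (_ : Field L) (_ : Algebra k L), ∀ j, Nonempty (K j →ₐ[k] L) := by
  classical
  let ev : ∀ j, MvPolynomial (K j) k →ₐ[k] K j := fun j => MvPolynomial.aeval id
  let r : ∀ j, MvPolynomial (K j) k →ₐ[k] MvPolynomial (Σ j, K j) k := fun j => MvPolynomial.rename (Sigma.mk j)
  let I : Ideal (MvPolynomial (Σ j, K j) k) := ⨆ j, (RingHom.ker (ev j)).map (r j)
  have hI : I ≠ ⊤ := fun h => by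
    obtain ⟨s, hs⟩ := Submodule.exists_finset_of_mem_iSup _ ((Ideal.eq_top_iff_one I).1 h)
    obtain ⟨L, _, _, hL⟩ := exists_field_finset (k := k) K s
    let e : MvPolynomial (Σ j, K j) k →ₐ[k] L :=
      MvPolynomial.aeval fun x => if h : x.1 ∈ s then (hL x.1 h).some x.2 else 0
    have hle : (⨆ j ∈ s, (RingHom.ker (ev j)).map (r j)) ≤ RingHom.ker e := iSup₂_le fun j hj => by
      rw [Ideal.map_le_iff_le_comap]
      intro p hp
      have he : e.comp (r j) = (hL j hj).some.comp (ev j) := MvPolynomial.algHom_ext fun a => by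
        simp [e, r, ev, dif_pos hj]
      show e (r j p) = 0
      rw [← AlgHom.comp_apply, he, AlgHom.comp_apply, show ev j p = 0 from hp, map_zero]
    exact one_ne_zero ((map_one e).symm.trans (hle hs))
  obtain ⟨m, hm, hle⟩ := Ideal.exists_le_maximal I hI
  letI := Ideal.Quotient.field m
  refine ⟨_ ⧸ m, inferInstance, inferInstance, fun j => ?_⟩
  have hsurj : Function.Surjective (ev j) := fun a => ⟨MvPolynomial.X a, by simp [ev]⟩
  exact ⟨(Ideal.Quotient.liftₐ (RingHom.ker (ev j)) ((Ideal.Quotient.mkₐ k m).comp (r j)) fun p hp =>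
    Ideal.Quotient.eq_zero_iff_mem.2 (hle (le_iSup (fun j => (RingHom.ker (ev j)).map (r j)) j
      (Ideal.mem_map_of_mem (r j) hp)))).comp (Ideal.quotientKerAlgEquivOfSurjective hsurj).symm.toAlgHom⟩

/-- Let `S` be a scheme and `T_i → S`, `i ∈ I`, surjective affine morphisms. Then any product of the
`T_i` in the category of schemes over `S` maps surjectively onto `S`. -/
theorem result {S : Scheme.{u}} {I : Type u} (T : I → Over S)
    (hT : ∀ i, IsAffineHom (T i).hom ∧ Surjective (T i).hom) (c : Limits.Fan T) (hc : Limits.IsLimit c) :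
    Surjective c.pt.hom := by
  refine ⟨fun s => ?_⟩
  choose x hx using fun i => (hT i).2.surj s
  let k := S.residueField s
  let φ : ∀ i, k ⟶ (T i).left.residueField (x i) := fun i =>
    (S.residueFieldCongr (hx i)).inv ≫ (T i).hom.residueFieldMap (x i)
  letI : ∀ i, Algebra k ((T i).left.residueField (x i)) := fun i => (φ i).hom.toAlgebra
  obtain ⟨L, _, _, hL⟩ := exists_field (k := k) (fun i => ((T i).left.residueField (x i) : Type u))
  let ψ : ∀ i, (T i).left.residueField (x i) ⟶ CommRingCat.of L := fun i => CommRingCat.ofHom (hL i).some.toRingHom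
  let a : Spec (CommRingCat.of L) ⟶ S :=
    Spec.map (CommRingCat.ofHom (algebraMap k L)) ≫ S.fromSpecResidueField s
  have hψ : ∀ i, φ i ≫ ψ i = CommRingCat.ofHom (algebraMap k L) := fun i =>
    CommRingCat.hom_ext (hL i).some.comp_algebraMap
  have key : ∀ (y : S) (h : y = s), Spec.map (S.residueFieldCongr h).inv ≫ S.fromSpecResidueField s = S.fromSpecResidueField y := by
    intro y h
    subst h
    simp
  let g : ∀ i, Over.mk a ⟶ T i := fun i => Over.homMk (Spec.map (ψ i) ≫ (T i).left.fromSpecResidueField (x i)) (by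
    show _ = a
    rw [Category.assoc, ← Scheme.Hom.SpecMap_residueFieldMap_fromSpecResidueField]
    simp only [a, ← hψ i, φ, Spec.map_comp, Category.assoc]
    rw [key _ (hx i)])
  let l := hc.lift (Limits.Fan.mk (Over.mk a) g)
  obtain ⟨w⟩ : Nonempty (Spec (CommRingCat.of L) : Scheme.{u}) := inferInstance
  refine ⟨l.left w, ?_⟩
  show (c.pt.hom) (l.left w) = s
  rw [← Scheme.Hom.comp_apply, Over.w l]
  show (Spec.map _ ≫ S.fromSpecResidueField s) w = s
  rw [Scheme.Hom.comp_apply]
  exact Scheme.fromSpecResidueField_apply _ _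

end Groth.Agent.S7394
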