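import Groth.Statements.S7402
import Groth.Agent.UHTower.Sub


set_option autoImplicit false
universe u
open CategoryTheory AlgebraicGeometry
open Polynomial
open Mor

namespace Groth.Agent.S7402

/-- Let `A` be a ring and `x, y ∈ A` with `x^3 = y^2`. Then `A → B = A[t]/(t^2 - x, t^3 - y)` induces a
universal homeomorphism on spectra and isomorphisms on residue fields. -/
theorem result (A : Type u) [CommRing A] (x y : A) (h : x ^ 3 = y ^ 2) :
    FlatMor.IsUnivHomeo (Spec.map (CommRingCat.ofHom (algebraMap A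
      (A[X] ⧸ Ideal.span ({X ^ 2 - C x, X ^ 3 - C y} : Set A[X]))))) ∧
    ∀ q : Spec (CommRingCat.of (A[X] ⧸ Ideal.span ({X ^ 2 - C x, X ^ 3 - C y} : Set A[X]))),
      Function.Surjective ((Spec.map (CommRingCat.ofHom (algebraMap A
        (A[X] ⧸ Ideal.span ({X ^ 2 - C x, X ^ 3 - C y} : Set A[X]))))).residueFieldMap q) := by
  open Groth.Agent.UHTower in
  set I := Ideal.span ({X ^ 2 - C x, X ^ 3 - C y} : Set A[X]) with hI
  let t : A[X] ⧸ I := Ideal.Quotient.mk I X
  have ht : Algebra.adjoin A {t} = ⊤ := by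
    rw [show ({t} : Set (A[X] ⧸ I)) = Ideal.Quotient.mkₐ A I '' {X} by simp [t],
      ← AlgHom.map_adjoin, Polynomial.adjoin_X, Algebra.map_top,
      (AlgHom.range_eq_top _).mpr (Ideal.Quotient.mkₐ_surjective A I)]
  have h2 : t ^ 2 = algebraMap A _ x :=
    (Ideal.Quotient.eq (I := I)).mpr (Ideal.subset_span (by simp))
  have h3 : t ^ 3 = algebraMap A _ y :=
    (Ideal.Quotient.eq (I := I)).mpr (Ideal.subset_span (by simp))
  have hgood : Good True A (A[X] ⧸ I) := good_of_adjoin ht fun b hb ↦ by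
    rw [Set.mem_singleton_iff.mp hb]
    exact Lies.of_step (Or.inl ⟨h2 ▸ Subalgebra.algebraMap_mem _ x, h3 ▸ Subalgebra.algebraMap_mem _ y⟩)
  have hs : Function.Surjective (PrimeSpectrum.comap (algebraMap A (A[X] ⧸ I))) := by
    refine surjective_comap_of_field_points fun K _ _ g ↦ ?_
    have hxy : g x ^ 3 = g y ^ 2 := by rw [← map_pow, ← map_pow, h]
    obtain ⟨z, hz2, hz3⟩ : ∃ z : K, z ^ 2 = g x ∧ z ^ 3 = g y := by
      by_cases hx : g x = 0
      · refine ⟨0, by rw [hx]; simp, ?_⟩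
        rw [hx, zero_pow three_ne_zero] at hxy
        rw [eq_zero_of_pow_eq_zero hxy.symm]; simp
      · refine ⟨g y / g x, ?_, ?_⟩
        · field_simp
          exact hxy.symm
        · field_simp
          rw [hxy]
          ring
    refine ⟨Ideal.Quotient.lift I (eval₂RingHom g z) ?_, RingHom.ext fun a ↦ eval₂_C g z⟩
    intro p hp
    refine (Ideal.span_le (I := RingHom.ker (eval₂RingHom g z))).mpr ?_ hp
    intro q hq
    rcases hq with rfl | rfl <;> simp [hz2, hz3]
  obtain ⟨h1, h2⟩ := (good_iff hs).mp hgood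
  exact ⟨h1, h2 trivial⟩

end Groth.Agent.S7402
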