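import Groth.Statements.S7403
import Groth.Agent.UHTower.Sub


set_option autoImplicit false
universe u
open CategoryTheory AlgebraicGeometry
open Polynomial
open Mor

namespace Groth.Agent.S7403

/-- Let `A` be a ring, `p` a prime number and `x, y ∈ A` with `p^p x = y^p`. Then `A → B = A[t]/(t^p -
x, p t - y)` induces a universal homeomorphism on spectra. -/
theorem result (A : Type u) [CommRing A] (p : ℕ) (hp : p.Prime) (x y : A)
    (h : (p : A) ^ p * x = y ^ p) :
    FlatMor.IsUnivHomeo (Spec.map (CommRingCat.ofHom (algebraMap A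
      (A[X] ⧸ Ideal.span ({X ^ p - C x, C (p : A) * X - C y} : Set A[X]))))) := by
  open Groth.Agent.UHTower in
  set I := Ideal.span ({X ^ p - C x, C (p : A) * X - C y} : Set A[X]) with hI
  let t : A[X] ⧸ I := Ideal.Quotient.mk I X
  have ht : Algebra.adjoin A {t} = ⊤ := by
    rw [show ({t} : Set (A[X] ⧸ I)) = Ideal.Quotient.mkₐ A I '' {X} by simp [t],
      ← AlgHom.map_adjoin, Polynomial.adjoin_X, Algebra.map_top,
      (AlgHom.range_eq_top _).mpr (Ideal.Quotient.mkₐ_surjective A I)]
  have h2 : t ^ p = algebraMap A _ x :=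
    (Ideal.Quotient.eq (I := I)).mpr (Ideal.subset_span (by simp))
  have h3 : (p : A[X] ⧸ I) * t = algebraMap A _ y := by
    have := (Ideal.Quotient.eq (I := I) (x := C (p : A) * X) (y := C y)).mpr
      (Ideal.subset_span (by simp))
    exact (by rw [map_mul] at this; simpa [t] using this : (p : A[X] ⧸ I) * t = Ideal.Quotient.mk I (C y))
  have hgood : Good False A (A[X] ⧸ I) := good_of_adjoin ht fun b hb ↦ by
    rw [Set.mem_singleton_iff.mp hb]
    exact Lies.of_step (Or.inr ⟨id, p, hp, h3 ▸ Subalgebra.algebraMap_mem _ y,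
      h2 ▸ Subalgebra.algebraMap_mem _ x⟩)
  have hs : Function.Surjective (PrimeSpectrum.comap (algebraMap A (A[X] ⧸ I))) := by
    refine surjective_comap_of_field_points fun K _ _ g ↦ ?_
    have hxy : (p : K) ^ p * g x = g y ^ p := by
      rw [← map_natCast g, ← map_pow, ← map_pow, ← map_mul, h]
    obtain ⟨z, hz2, hz3⟩ : ∃ z : K, z ^ p = g x ∧ (p : K) * z = g y := by
      by_cases hp0 : (p : K) = 0
      · obtain ⟨z, hz⟩ := IsAlgClosed.exists_pow_nat_eq (g x) hp.pos
        refine ⟨z, hz, ?_⟩
        rw [hp0, zero_pow hp.ne_zero, zero_mul] at hxy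
        rw [hp0, zero_mul, eq_zero_of_pow_eq_zero hxy.symm]
      · refine ⟨g y / p, ?_, by field_simp⟩
        rw [div_pow, ← hxy]
        field_simp
    refine ⟨Ideal.Quotient.lift I (eval₂RingHom g z) ?_, RingHom.ext fun a ↦ eval₂_C g z⟩
    intro q hq
    refine (Ideal.span_le (I := RingHom.ker (eval₂RingHom g z))).mpr ?_ hq
    intro r hr
    rcases hr with rfl | rfl <;> simp [hz2, hz3]
  exact ((good_iff hs).mp hgood).1

end Groth.Agent.S7403
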