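import Groth.Statements.S7404
import Groth.Agent.UHTower.Sub


set_option autoImplicit false
universe u
open CategoryTheory AlgebraicGeometry
open Mor

namespace Groth.Agent.S7404

/-- Let `A → B` be a ring map and `B' ⊆ B` an `A`-subalgebra, with `f : Spec B → Spec A` and `f' : Spec
B' → Spec A` the induced morphisms. Each of the following properties passes from `f` to `f'`: being
a universal homeomorphism; being a universal homeomorphism with trivial residue field extensions;
being universally closed; being both universally closed and universally injective. -/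
theorem result {A B : Type u} [CommRing A] [CommRing B] [Algebra A B]
    (B' : Subalgebra A B) :
    (FlatMor.IsUnivHomeo (Spec.map (CommRingCat.ofHom (algebraMap A B))) →
      FlatMor.IsUnivHomeo (Spec.map (CommRingCat.ofHom (algebraMap A B')))) ∧
    ((FlatMor.IsUnivHomeo (Spec.map (CommRingCat.ofHom (algebraMap A B))) ∧
      ∀ x : Spec (CommRingCat.of B),
        Function.Surjective ((Spec.map (CommRingCat.ofHom (algebraMap A B))).residueFieldMap x)) →
      FlatMor.IsUnivHomeo (Spec.map (CommRingCat.ofHom (algebraMap A B'))) ∧
      ∀ x : Spec (CommRingCat.of B'),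
        Function.Surjective ((Spec.map (CommRingCat.ofHom (algebraMap A B'))).residueFieldMap x)) ∧
    (UniversallyClosed (Spec.map (CommRingCat.ofHom (algebraMap A B))) →
      UniversallyClosed (Spec.map (CommRingCat.ofHom (algebraMap A B')))) ∧
    (UniversallyClosed (Spec.map (CommRingCat.ofHom (algebraMap A B))) →
      UniversallyInjective (Spec.map (CommRingCat.ofHom (algebraMap A B))) →
      UniversallyClosed (Spec.map (CommRingCat.ofHom (algebraMap A B'))) ∧
      UniversallyInjective (Spec.map (CommRingCat.ofHom (algebraMap A B')))) := by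
  open Groth.Agent.UHTower in
  refine ⟨fun h ↦ ?_, fun ⟨h, hr⟩ ↦ ?_, fun h ↦ ?_, fun h1 h2 ↦ ?_⟩
  · obtain ⟨hg, hs⟩ := (good_iff' (res := False)).mpr ⟨h, fun hf ↦ hf.elim⟩
    exact ((good_iff (surjective_comap_subalgebra hs B')).mp (hg.subalgebra B')).1
  · obtain ⟨hg, hs⟩ := (good_iff' (res := True)).mpr ⟨h, fun _ ↦ hr⟩
    obtain ⟨h1, h2⟩ := (good_iff (surjective_comap_subalgebra hs B')).mp (hg.subalgebra B')
    exact ⟨h1, h2 trivial⟩
  · rw [universallyClosed_Spec_iff] at h ⊢
    exact fun b ↦ (isIntegral_algHom_iff B'.val Subtype.val_injective).mp (h b.1)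
  · exact good_false_iff.mp ((good_false_iff.mpr ⟨h1, h2⟩).subalgebra B')

end Groth.Agent.S7404
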