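import Groth.Statements.S7405
import Groth.Agent.UHTower.Sub


set_option autoImplicit false
universe u
open CategoryTheory AlgebraicGeometry
open Mor

namespace Groth.Agent.S7405

/-- Let `A` be a ring and `B` the colimit of a filtered diagram `j ↦ B_j` of `A`-algebras. Each of the
following properties, when it holds for every `Spec B_j → Spec A`, holds for `Spec B → Spec A`:
being a universal homeomorphism; being a universal homeomorphism with trivial residue field
extensions; being universally closed; being both universally closed and universally injective. -/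
theorem result (A : CommRingCat.{u}) {J : Type u} [SmallCategory J]
    [IsFiltered J] (F : J ⥤ Under A) (c : Limits.Cocone F) (hc : Limits.IsColimit c) :
    ((∀ j, FlatMor.IsUnivHomeo (Spec.map (F.obj j).hom)) → FlatMor.IsUnivHomeo (Spec.map c.pt.hom)) ∧
    ((∀ j, FlatMor.IsUnivHomeo (Spec.map (F.obj j).hom) ∧
        ∀ x : Spec (F.obj j).right, Function.Surjective ((Spec.map (F.obj j).hom).residueFieldMap x)) →
      FlatMor.IsUnivHomeo (Spec.map c.pt.hom) ∧
        ∀ x : Spec c.pt.right, Function.Surjective ((Spec.map c.pt.hom).residueFieldMap x)) ∧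
    ((∀ j, UniversallyClosed (Spec.map (F.obj j).hom)) → UniversallyClosed (Spec.map c.pt.hom)) ∧
    ((∀ j, UniversallyClosed (Spec.map (F.obj j).hom) ∧ UniversallyInjective (Spec.map (F.obj j).hom)) →
      UniversallyClosed (Spec.map c.pt.hom) ∧ UniversallyInjective (Spec.map c.pt.hom)) := by
  open Groth.Agent.UHTower in
  letI : ∀ j, Algebra A (F.obj j).right := fun j ↦ (F.obj j).hom.hom.toAlgebra
  letI : Algebra A c.pt.right := c.pt.hom.hom.toAlgebra
  let ι : ∀ j, (F.obj j).right →ₐ[A] c.pt.right := fun j ↦
    { (c.ι.app j).right.hom with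
      commutes' := fun a ↦ congrArg (fun f ↦ f.hom a) (Under.w (c.ι.app j)) }
  haveI : IsConnected J := IsFiltered.isConnected J
  have hT := Limits.isColimitOfPreserves (Under.forget A ⋙ forget CommRingCat.{u}) hc
  have hj : ∀ b : c.pt.right, ∃ j y, ι j y = b := fun b ↦ by
    obtain ⟨j, y, hy⟩ := Limits.Types.jointly_surjective_of_isColimit hT b
    exact ⟨j, y, hy⟩
  have hgood : ∀ (res : Prop), (∀ j, Good res A (F.obj j).right) → Good res A c.pt.right :=
    fun res h b ↦ by
      obtain ⟨j, y, rfl⟩ := hj b
      exact Lies.map (ι j) (h j y)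
  have hmap : ∀ (I : Ideal A) {a b : J} (q : a ⟶ b) (s : (F.obj a).right),
      s ∈ I.map (algebraMap A (F.obj a).right) →
      (F.map q).right.hom s ∈ I.map (algebraMap A (F.obj b).right) := by
    intro I a b q s hs
    have h := Ideal.mem_map_of_mem (F.map q).right.hom hs
    rw [Ideal.map_map] at h
    have e : (F.map q).right.hom.comp (algebraMap A (F.obj a).right) = algebraMap A (F.obj b).right :=
      congrArg CommRingCat.Hom.hom (Under.w (F.map q))
    rwa [e] at h
  have hsurj : (∀ j, Function.Surjective (PrimeSpectrum.comap (algebraMap A (F.obj j).right))) →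
      Function.Surjective (PrimeSpectrum.comap (algebraMap A c.pt.right)) := by
    intro h P
    have hP : (P.asIdeal.map (algebraMap A c.pt.right)).comap (algebraMap A c.pt.right) = P.asIdeal := by
      refine le_antisymm (fun a ha ↦ ?_) Ideal.le_comap_map
      have key : ∀ z ∈ P.asIdeal.map (algebraMap A c.pt.right),
          ∃ j, ∃ y ∈ P.asIdeal.map (algebraMap A (F.obj j).right), ι j y = z := by
        intro z hz
        induction hz using Submodule.span_induction with
        | mem z hz =>
          obtain ⟨p, hp, rfl⟩ := hz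
          exact ⟨Classical.arbitrary J, _, Ideal.mem_map_of_mem _ hp, (ι _).commutes p⟩
        | zero => exact ⟨Classical.arbitrary J, 0, zero_mem _, map_zero _⟩
        | add z w _ _ hz hw =>
          obtain ⟨i, y, hy, rfl⟩ := hz
          obtain ⟨j, y', hy', rfl⟩ := hw
          let l := IsFiltered.leftToMax i j
          let r := IsFiltered.rightToMax i j
          refine ⟨_, (F.map l).right.hom y + (F.map r).right.hom y',
            add_mem (hmap _ l y hy) (hmap _ r y' hy'), ?_⟩
          rw [map_add]
          exact congrArg₂ (· + ·) (congrArg (fun q ↦ q.right.hom y) (c.w l))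
            (congrArg (fun q ↦ q.right.hom y') (c.w r))
        | smul s z _ hz =>
          obtain ⟨i, y, hy, rfl⟩ := hz
          obtain ⟨j, t, rfl⟩ := hj s
          let l := IsFiltered.leftToMax i j
          let r := IsFiltered.rightToMax i j
          refine ⟨_, (F.map r).right.hom t * (F.map l).right.hom y,
            Ideal.mul_mem_left _ _ (hmap _ l y hy), ?_⟩
          rw [map_mul, smul_eq_mul]
          exact congrArg₂ (· * ·) (congrArg (fun q ↦ q.right.hom t) (c.w r))
            (congrArg (fun q ↦ q.right.hom y) (c.w l))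
      obtain ⟨j, y, hy, hya⟩ := key _ ha
      obtain ⟨k, q, r, hqr⟩ := (Limits.Types.FilteredColimit.isColimit_eq_iff _ hT
        (xi := y) (xj := algebraMap A (F.obj j).right a)).mp (hya.trans ((ι j).commutes a).symm)
      have hy' : algebraMap A (F.obj k).right a ∈ P.asIdeal.map (algebraMap A (F.obj k).right) := by
        have h1 := hmap _ q y hy
        have e : (F.map q).right.hom y = algebraMap A (F.obj k).right a :=
          (show (F.map q).right.hom y = (F.map r).right.hom (algebraMap A (F.obj j).right a) from hqr).trans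
            (congrArg (fun f ↦ f.hom a) (Under.w (F.map r)))
        rwa [e] at h1
      obtain ⟨Q, hQ⟩ := h k P
      rw [← hQ]
      refine (Ideal.map_le_iff_le_comap.mpr (le_of_eq (congrArg PrimeSpectrum.asIdeal hQ).symm)) hy'
    exact (PrimeSpectrum.mem_range_comap_iff _).mpr hP
  refine ⟨fun h ↦ ?_, fun h ↦ ?_, fun h ↦ ?_, fun h ↦ ?_⟩
  · have hg := fun j ↦ (good_iff' (res := False) (A := A) (B := (F.obj j).right)).mpr ⟨h j, fun hf ↦ hf.elim⟩
    exact ((good_iff (hsurj fun j ↦ (hg j).2)).mp (hgood False fun j ↦ (hg j).1)).1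
  · have hg := fun j ↦ (good_iff' (res := True) (A := A) (B := (F.obj j).right)).mpr
      ⟨(h j).1, fun _ ↦ (h j).2⟩
    obtain ⟨h1, h2⟩ := (good_iff (hsurj fun j ↦ (hg j).2)).mp (hgood True fun j ↦ (hg j).1)
    exact ⟨h1, h2 trivial⟩
  · refine (universallyClosed_Spec_iff (algebraMap A c.pt.right)).mpr fun b ↦ ?_
    obtain ⟨j, y, rfl⟩ := hj b
    exact IsIntegral.map (ι j) ((universallyClosed_Spec_iff (algebraMap A (F.obj j).right)).mp (h j) y)
  · exact good_false_iff.mp (hgood False fun j ↦ good_false_iff.mpr (h j))

end Groth.Agent.S7405
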