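import Groth.Agent.FlatOverBC.NoethFibre
import Groth.Statements.S7406
-- import your own Groth.Agent.* helpers here

set_option autoImplicit false
set_option backward.isDefEq.respectTransparency false
set_option backward.isDefEq.respectTransparency.types false
universe u
open CategoryTheory CategoryTheory.Limits AlgebraicGeometry
open Desc

namespace Groth.Agent.S7406

/-- Consider a commutative square of schemes with horizontal maps `h' : U' → V'`, `h : U → V` and étale
vertical maps `a : U' → U`, `b : V' → V`, and let `v' ∈ V'` with image `v = b(v')`. Then the induced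
morphism of fibres `U'_{v'} → U_v` is étale. (The morphism of fibres is characterised by its
compatibility with `a` and with `Spec κ(v') → Spec κ(v)`.) -/
theorem result {U U' V V' : Scheme.{u}} (h : U ⟶ V) (h' : U' ⟶ V') (a : U' ⟶ U)
    (b : V' ⟶ V) [Etale a] [Etale b] (comm : h' ≫ b = a ≫ h) (v' : V')
    (φ : h'.fiber v' ⟶ h.fiber (b v')) (hφ1 : φ ≫ h.fiberι (b v') = h'.fiberι v' ≫ a)
    (hφ2 : φ ≫ h.fiberToSpecResidueField (b v') = h'.fiberToSpecResidueField v' ≫ Spec.map (b.residueFieldMap v')) :
    Etale φ := by
  letI : Algebra (V.residueField (b v')) (V'.residueField v') := (b.residueFieldMap v').hom.toAlgebra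
  haveI : Algebra.IsSeparable (V.residueField (b v')) (V'.residueField v') := inferInstance
  haveI : Algebra.EssFiniteType (V.residueField (b v')) (V'.residueField v') :=
    FlatOverBC.essFiniteType_residueFieldMap b v'
  haveI := Algebra.FormallyUnramified.of_isSeparable (V.residueField (b v')) (V'.residueField v')
  haveI : Module.Finite (V.residueField (b v')) (V'.residueField v') :=
    Algebra.FormallyUnramified.finite_of_free _ _
  haveI : Algebra.Etale (V.residueField (b v')) (V'.residueField v') :=
    ⟨Algebra.FormallyEtale.of_isSeparable _ _, Algebra.FinitePresentation.of_finiteType.mp inferInstance⟩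
  let σ := Spec.map (b.residueFieldMap v')
  haveI hσ : Etale σ :=
    (HasRingHomProperty.Spec_iff (P := @Etale)).mpr (RingHom.etale_algebraMap.mpr ‹_›)
  let j : Spec (V'.residueField v') ⟶ b.fiber (b v') :=
    pullback.lift (V'.fromSpecResidueField v') σ (b.SpecMap_residueFieldMap_fromSpecResidueField v').symm
  haveI : Etale (b.fiberToSpecResidueField (b v')) :=
    inferInstanceAs (Etale (pullback.snd b (V.fromSpecResidueField (b v'))))
  haveI : Etale (j ≫ b.fiberToSpecResidueField (b v')) := by
    rw [show j ≫ b.fiberToSpecResidueField (b v') = σ from pullback.lift_snd _ _ _]; exact hσ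
  haveI : Etale j := Etale.of_comp j (b.fiberToSpecResidueField (b v'))
  let ι := h.fiberι (b v')
  let χ : h'.fiber v' ⟶ pullback a ι := pullback.lift (h'.fiberι v') φ hφ1.symm
  have s1 : IsPullback (h'.fiberι v') (h'.fiberToSpecResidueField v') h' (V'.fromSpecResidueField v') :=
    IsPullback.of_hasPullback _ _
  have s2 : IsPullback ι (h.fiberToSpecResidueField (b v')) h (V.fromSpecResidueField (b v')) :=
    IsPullback.of_hasPullback _ _
  have s3 : IsPullback (b.fiberι (b v')) (b.fiberToSpecResidueField (b v')) b (V.fromSpecResidueField (b v')) :=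
    IsPullback.of_hasPullback _ _
  have o := (IsPullback.of_hasPullback a ι).paste_vert s2
  rw [← comm] at o
  let q : pullback a ι ⟶ b.fiber (b v') :=
    pullback.lift (pullback.fst a ι ≫ h') (pullback.snd a ι ≫ h.fiberToSpecResidueField (b v'))
      (by rw [Category.assoc, o.w])
  have hq1 : q ≫ b.fiberι (b v') = pullback.fst a ι ≫ h' := pullback.lift_fst _ _ _
  have hq2 : q ≫ b.fiberToSpecResidueField (b v') = pullback.snd a ι ≫ h.fiberToSpecResidueField (b v') :=
    pullback.lift_snd _ _ _
  rw [← hq2] at o
  have r := IsPullback.of_bot o hq1.symm s3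
  have hj1 : j ≫ b.fiberι (b v') = V'.fromSpecResidueField v' := pullback.lift_fst _ _ _
  have hχ : χ ≫ pullback.fst a ι = h'.fiberι v' := pullback.lift_fst _ _ _
  rw [← hj1, ← hχ] at s1
  have p : χ ≫ q = h'.fiberToSpecResidueField v' ≫ j := by
    refine s3.hom_ext ?_ ?_
    · simpa only [Category.assoc, hq1] using s1.w
    · rw [Category.assoc, Category.assoc, hq2, show j ≫ b.fiberToSpecResidueField (b v') = σ from
        pullback.lift_snd _ _ _, ← hφ2]
      exact pullback.lift_snd_assoc _ _ _ _
  have l := IsPullback.of_right s1 p r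
  haveI : Etale χ := MorphismProperty.of_isPullback (P := @Etale) l.flip inferInstance
  rw [show φ = χ ≫ pullback.snd a ι from (pullback.lift_snd _ _ _).symm]
  infer_instance

end Groth.Agent.S7406
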