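import Groth.Agent.FlatMorLib.FiberPoints
import Groth.Agent.EtSh.FinitePush
import Mathlib.RingTheory.AlgebraicIndependent.Transcendental
import Mathlib.RingTheory.AlgebraicIndependent.TranscendenceBasis
import Groth.Statements.S7407
-- import your own Groth.Agent.* helpers here

set_option autoImplicit false
set_option backward.isDefEq.respectTransparency false
set_option backward.isDefEq.respectTransparency.types false
universe u
open CategoryTheory AlgebraicGeometry
open Desc

namespace Groth.Agent.S7407

/-- The transcendence degree of the residue field extension `κ(x)/κ(s)` of a morphism of germs `(X, x) →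
(S, s)` is étale local on the source-and-target: for a commutative square with horizontal maps `h' :
U' → V'`, `h : U → V`, étale vertical maps `a : U' → U`, `b : V' → V` and `u' ∈ U'` with `u =
a(u')`, the transcendence degree of `κ(u)` over `κ(h(u))` equals that of `κ(u')` over `κ(h'(u'))`. -/
theorem result {U U' V V' : Scheme.{u}} (h : U ⟶ V) (h' : U' ⟶ V') (a : U' ⟶ U)
    (b : V' ⟶ V) [Etale a] [Etale b] (comm : h' ≫ b = a ≫ h) (u' : U') :
    @Algebra.trdeg (V.residueField (h (a u'))) (U.residueField (a u')) _ _ (h.residueFieldMap (a u')).hom.toAlgebra =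
      @Algebra.trdeg (V'.residueField (h' u')) (U'.residueField u') _ _ (h'.residueFieldMap u').hom.toAlgebra := by
  have hfin : ∀ {P Q : Scheme.{u}} (c : P ⟶ Q) [Etale c] (p : P), (c.residueFieldMap p).hom.Finite := fun {P Q} c _ p => by
    haveI : LocallyQuasiFinite (𝟙 P ≫ c) := by rw [Category.id_comp]; exact Groth.Agent.EtSh.lqf_of_etale c
    haveI : LocallyOfFiniteType (𝟙 P ≫ c) := by rw [Category.id_comp]; infer_instance
    exact Groth.Agent.FlatMorLib.finite_residueFieldMap_of_comp_surjective (𝟙 P) c p ⟨p, rfl⟩
  let k₀ := V.residueField (h (a u'))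
  have hpt : b (h' u') = h (a u') := by rw [← Scheme.Hom.comp_apply, comm, Scheme.Hom.comp_apply]
  let e : V.residueField (h (a u')) ⟶ V.residueField (b (h' u')) := (V.residueFieldCongr hpt.symm).hom
  let φ₁ := h.residueFieldMap (a u')
  let φ₂ := a.residueFieldMap u'
  let ψ₁ := e ≫ b.residueFieldMap (h' u')
  let ψ₂ := h'.residueFieldMap u'
  have hsq : φ₁ ≫ φ₂ = ψ₁ ≫ ψ₂ := by
    have h1 : φ₁ ≫ φ₂ = (a ≫ h).residueFieldMap u' := (Scheme.residueFieldMap_comp a h u').symm
    have h2 : b.residueFieldMap (h' u') ≫ ψ₂ = (h' ≫ b).residueFieldMap u' := (Scheme.residueFieldMap_comp h' b u').symm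
    have h3 : ∀ (m n : U' ⟶ V) (hmn : m = n) (hp : n u' = m u'), (V.residueFieldCongr hp).hom ≫ m.residueFieldMap u' = n.residueFieldMap u' := by
      rintro m n rfl hp
      simp
    rw [h1, Category.assoc, h2]
    exact (h3 (h' ≫ b) (a ≫ h) comm hpt.symm).symm
  letI := φ₁.hom.toAlgebra
  letI := φ₂.hom.toAlgebra
  letI := ψ₁.hom.toAlgebra
  letI := ψ₂.hom.toAlgebra
  letI : Algebra (V.residueField (h (a u'))) (U'.residueField u') := (φ₁ ≫ φ₂).hom.toAlgebra
  haveI : IsScalarTower (V.residueField (h (a u'))) (U.residueField (a u')) (U'.residueField u') := .of_algebraMap_eq' rfl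
  haveI : IsScalarTower (V.residueField (h (a u'))) (V'.residueField (h' u')) (U'.residueField u') := .of_algebraMap_eq' (congrArg CommRingCat.Hom.hom hsq)
  haveI : Module.Finite (U.residueField (a u')) (U'.residueField u') := hfin a u'
  haveI : Module.Finite (V.residueField (h (a u'))) (V'.residueField (h' u')) :=
    RingHom.Finite.comp (hfin b (h' u')) (RingHom.Finite.of_surjective e.hom (ConcreteCategory.bijective_of_isIso e).2)
  haveI : Algebra.IsAlgebraic (U.residueField (a u')) (U'.residueField u') := Algebra.IsAlgebraic.of_finite _ _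
  haveI : Algebra.IsAlgebraic (V.residueField (h (a u'))) (V'.residueField (h' u')) := Algebra.IsAlgebraic.of_finite _ _
  have t1 := trdeg_add_eq (R := V.residueField (h (a u'))) (S := U.residueField (a u')) (A := U'.residueField u')
  have t2 := trdeg_add_eq (R := V.residueField (h (a u'))) (S := V'.residueField (h' u')) (A := U'.residueField u')
  rw [trdeg_eq_zero (R := U.residueField (a u')), add_zero] at t1
  rw [trdeg_eq_zero (R := V.residueField (h (a u'))) (A := V'.residueField (h' u')), zero_add] at t2
  exact t1.trans t2.symm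

end Groth.Agent.S7407
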