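import Groth.Statements.S7408
import Groth.Agent.TopDimLib.OpenMapDim
import Groth.Agent.AlgStB.DiagProps


set_option autoImplicit false
universe u
open CategoryTheory AlgebraicGeometry
open Desc

namespace Groth.Agent.S7408

/-- The local dimension of the fibre at a point is étale local on the source-and-target: for a
commutative square with horizontal maps `h' : U' → V'`, `h : U → V`, étale vertical maps `a : U' →
U`, `b : V' → V` and `u' ∈ U'`, the local dimension at `a(u')` of the fibre of `h` equals the local
dimension at `u'` of the fibre of `h'`. -/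
theorem result {U U' V V' : Scheme.{u}} (h : U ⟶ V) (h' : U' ⟶ V') (a : U' ⟶ U)
    (b : V' ⟶ V) [Etale a] [Etale b] (comm : h' ≫ b = a ≫ h) (u' : U') :
    FlatMor.fibreDimAt h (a u') = FlatMor.fibreDimAt h' u' := by
  have := Groth.Agent.AlgStB.locallyQuasiFinite_of_formallyUnramified a
  have := Groth.Agent.AlgStB.locallyQuasiFinite_of_formallyUnramified b
  have hc : ∀ z, b (h' z) = h (a z) := fun z => by
    rw [← Scheme.Hom.comp_apply, comm, Scheme.Hom.comp_apply]
  set w := h' u' with hw
  set v := h (a u') with hv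
  let g : h'.fiber w → h.fiber v := fun z => (h.fiberHomeo v).symm
    ⟨a (h'.fiberHomeo w z).1, by
      show h (a _) = v
      rw [← hc, (h'.fiberHomeo w z).2, hw, hc]⟩
  let g' : (h' ⁻¹' {w} : Set U') → (h ⁻¹' {v} : Set U) := fun z => ⟨a z.1, by
      show h (a _) = v
      rw [← hc, z.2, hw, hc]⟩
  have hg : g = (h.fiberHomeo v).symm ∘ g' ∘ h'.fiberHomeo w := rfl
  have hcont' : Continuous g' := (a.continuous.comp continuous_subtype_val).subtype_mk _
  have hgen' : GeneralizingMap g' := by
    intro y x hxy
    obtain ⟨z, hz, hzx⟩ := Flat.generalizingMap a (Topology.IsInducing.subtypeVal.specializes_iff.2 hxy)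
    have hz' : z ⤳ y.1 := hz
    refine ⟨⟨z, ?_⟩, Topology.IsInducing.subtypeVal.specializes_iff.1 hz', Subtype.ext hzx⟩
    refine Groth.Agent.TopDimLib.eq_of_specializes_of_isDiscrete
      (b.isDiscrete_preimage_singleton v) ?_ ?_ (hz'.map h'.continuous |>.trans ?_)
    · show b (h' z) = v
      rw [hc, hzx]; exact x.2
    · show b w = v
      rw [hw, hc]
    · exact specializes_of_eq y.2
  have hopen' : IsOpenMap g' := by
    intro O hO
    obtain ⟨O', hO', rfl⟩ := isOpen_induced_iff.1 hO
    obtain ⟨W, hW, hWw⟩ := isDiscrete_iff_forall_exists_isOpen.1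
      (b.isDiscrete_preimage_singleton v) w (by show b w = v; rw [hw, hc])
    refine isOpen_induced_iff.2 ⟨a '' (O' ∩ h' ⁻¹' W),
      a.isOpenMap _ (hO'.inter (hW.preimage h'.continuous)), ?_⟩
    ext x
    constructor
    · rintro ⟨z, ⟨hzO, hzW⟩, hzx⟩
      have hzw : h' z = w := by
        have : h' z ∈ ({w} : Set V') := by
          rw [← hWw]
          exact ⟨hzW, by show b (h' z) = v; rw [hc, hzx]; exact x.2⟩
        exact this
      exact ⟨⟨z, hzw⟩, hzO, Subtype.ext hzx⟩
    · rintro ⟨z, hzO, rfl⟩
      refine ⟨z.1, ⟨hzO, ?_⟩, rfl⟩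
      show h' z.1 ∈ W
      rw [z.2]
      exact (hWw.symm.subset (Set.mem_singleton w)).1
  have key := Groth.Agent.TopDimLib.localDim_image_eq (f := g)
    (by rw [hg]; exact (Homeomorph.continuous _).comp (hcont'.comp (Homeomorph.continuous _)))
    (by rw [hg]; exact (Homeomorph.isOpenMap _).comp (hopen'.comp (Homeomorph.isOpenMap _)))
    (by
      rw [hg]
      exact ((Homeomorph.isOpenEmbedding _).generalizingMap).comp
        (hgen'.comp (Homeomorph.isOpenEmbedding _).generalizingMap))
    (fun y => by
      have hd := (a.isDiscrete_preimage_singleton (h.fiberHomeo v y).1).preimage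
        ((continuous_subtype_val.comp (h'.fiberHomeo w).continuous).continuousOn)
        (Subtype.val_injective.comp (h'.fiberHomeo w).injective)
      convert! hd
      ext z
      simp only [Set.mem_preimage, Set.mem_singleton_iff, hg, Function.comp_apply]
      rw [Homeomorph.symm_apply_eq, Subtype.ext_iff])
    (h'.asFiber u')
  refine (key.trans ?_).symm
  have hga : g (h'.asFiber u') = h.asFiber (a u') := by
    show (h.fiberHomeo v).symm _ = (h.fiberHomeo v).symm _
    congr 1
    exact Subtype.ext (congrArg a (congrArg Subtype.val ((h'.fiberHomeo w).apply_symm_apply ⟨u', rfl⟩)))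
  rw [hga]
  rfl

end Groth.Agent.S7408
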