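import Groth.Statements.S7412
import Mathlib


set_option autoImplicit false
universe u
open Desc

namespace Groth.Agent.S7412
open scoped TensorProduct

/-- Let `R` be a ring and `f : M → N` a map of `R`-modules. Then `f` is universally injective (`f ⊗ 1_P`
is injective for every `R`-module `P`; here `P` ranges over modules in the same universe, which
suffices) if and only if the map of character modules `C(N) → C(M)`, `C(-) = Hom_ℤ(-, ℚ/ℤ)`, is a
split surjection of `R`-modules. -/
theorem result {R : Type u} [CommRing R] {M N : Type u}
    [AddCommGroup M] [Module R M] [AddCommGroup N] [Module R N] (f : M →ₗ[R] N) :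
    (∀ (P : Type u) [AddCommGroup P] [Module R P], Function.Injective (f.lTensor P)) ↔
      ∃ g : CharacterModule M →ₗ[R] CharacterModule N, (CharacterModule.dual f).comp g = LinearMap.id := by
  constructor
  · intro h
    have hinj : Function.Injective (f.rTensor (CharacterModule M)) := by
      have := h (CharacterModule M)
      intro a b hab
      apply (TensorProduct.comm R M (CharacterModule M)).injective
      apply this
      have e : ∀ x, f.lTensor (CharacterModule M) (TensorProduct.comm R M (CharacterModule M) x) =
          TensorProduct.comm R N (CharacterModule M) (f.rTensor (CharacterModule M) x) := by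
        intro x
        induction x using TensorProduct.induction_on with
        | zero => simp
        | tmul m c => simp
        | add x y hx hy => simp [hx, hy]
      rw [e, e, hab]
    -- the evaluation character
    let ev : CharacterModule (M ⊗[R] CharacterModule M) :=
      CharacterModule.homEquiv (A := M) (B := CharacterModule M)
        { toFun := fun m =>
            (AddMonoidHom.mk' (fun c : CharacterModule M => c m) (fun _ _ => rfl) :
              CharacterModule (CharacterModule M))
          map_add' := fun x y => by
            ext c; exact map_add c x y
          map_smul' := fun r x => by
            ext c; rfl }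
    obtain ⟨E, hE⟩ := CharacterModule.dual_surjective_iff_injective.mpr hinj ev
    refine ⟨{
      toFun := fun c =>
        (AddMonoidHom.mk' (fun n => E (n ⊗ₜ[R] c))
          (fun x y => by simp [TensorProduct.add_tmul]) : CharacterModule N)
      map_add' := fun x y => by
        ext n
        show E (n ⊗ₜ[R] (x + y)) = E (n ⊗ₜ[R] x) + E (n ⊗ₜ[R] y)
        rw [TensorProduct.tmul_add, map_add]
      map_smul' := fun r x => by
        ext n
        show E (n ⊗ₜ[R] (r • x)) = E ((r • n) ⊗ₜ[R] x)
        rw [TensorProduct.smul_tmul] }, ?_⟩
    ext c m
    have := congr($hE (m ⊗ₜ[R] c))
    exact this
  · rintro ⟨g, hg⟩ P _ _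
    have hdual : Function.Surjective (f.lcomp R (CharacterModule P)) := by
      intro φ
      -- φ : M → C(P) corresponds to P → C(M)
      let ψ : P →ₗ[R] CharacterModule M :=
        { toFun := fun p =>
            (AddMonoidHom.mk' (fun m => φ m p) (fun x y => by simp; rfl) :
              CharacterModule M)
          map_add' := fun x y => by
            ext m; exact map_add (φ m) x y
          map_smul' := fun r x => by
            ext m
            show φ m (r • x) = φ (r • m) x
            exact (congr(($(φ.map_smul r m) : CharacterModule P) x)).symm }
      refine ⟨{
        toFun := fun n =>
          (AddMonoidHom.mk' (fun p => g (ψ p) n) (fun x y => by simp; rfl) :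
              CharacterModule P)
        map_add' := fun x y => by
          ext p; exact map_add (g (ψ p)) x y
        map_smul' := fun r x => by
          ext p
          show g (ψ p) (r • x) = g (ψ (r • p)) x
          rw [ψ.map_smul, g.map_smul]; rfl }, ?_⟩
      ext m p
      exact congr(($(LinearMap.congr_fun hg (ψ p)) : CharacterModule M) m)
    have h1 := rTensor_injective_iff_lcomp_surjective.mpr hdual
    have e : ∀ x, TensorProduct.comm R P N (f.lTensor P x) =
        f.rTensor P (TensorProduct.comm R P M x) := by
      intro x
      induction x using TensorProduct.induction_on with
      | zero => simp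
      | tmul m c => simp
      | add x y hx hy => simp [hx, hy]
    intro a b hab
    apply (TensorProduct.comm R P M).injective
    apply h1
    rw [← e, ← e, hab]

end Groth.Agent.S7412
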