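import Groth.Statements.S7414
import Groth.Agent.GScheme.Basic


set_option autoImplicit false
universe u
open CategoryTheory AlgebraicGeometry
open Mor

namespace Groth.Agent.S7414

/-- A scheme `X` is a G-scheme (every point has an affine open neighbourhood with G-ring coordinate
ring) if and only if `O_X(U)` is a G-ring for every affine open `U ⊆ X`. -/
theorem result (X : Scheme.{u}) :
    (∀ x : X, ∃ U : X.Opens, x ∈ U ∧ IsAffineOpen U ∧ CAlg.IsGRing Γ(X, U)) ↔
      ∀ U : X.Opens, IsAffineOpen U → CAlg.IsGRing Γ(X, U) := by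
  refine ⟨fun h U hU => ?_, fun h x => ?_⟩
  · haveI := Groth.Agent.GScheme.isLocallyNoetherian_of_gRing h
    exact Groth.Agent.GScheme.isGRing_of_regCpl_stalk (Groth.Agent.GScheme.regCpl_stalk_of_gRing h) U hU
  · obtain ⟨U, hU, hxU, -⟩ := exists_isAffineOpen_mem_and_subset (x := x) (U := (⊤ : X.Opens)) trivial
    exact ⟨U, hxU, hU, h U hU⟩

end Groth.Agent.S7414
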