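import Groth.Statements.S7415
import Groth.Agent.Birat.Generic
import Mathlib.AlgebraicGeometry.SpreadingOut
import Mathlib.RingTheory.Ideal.MinimalPrime.Basic

set_option autoImplicit false
universe u
open CategoryTheory AlgebraicGeometry
open Mor

namespace Groth.Agent.S7415

/-- Let `X` be a reduced scheme with finitely many irreducible components and `x ∈ X`. Then `x` has an
affine open neighbourhood `U` such that `O_X(U) → O_{X,x}` is injective. -/
theorem result (X : Scheme.{u}) [AlgebraicGeometry.IsReduced X]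
    (hirr : (irreducibleComponents (X : Type u)).Finite) (x : X) : X.IsGermInjectiveAt x := by
  classical
  let C : Set X := ⋃ m ∈ {m ∈ Groth.Agent.Birat.Max X | ¬ m ⤳ x}, closure {m}
  have hC : IsClosed C := Set.Finite.isClosed_biUnion ((Groth.Agent.Birat.finite_max hirr).subset fun m hm => hm.1)
    fun _ _ => isClosed_closure
  have hxC : x ∉ C := fun h => by
    obtain ⟨m, hm, hmx⟩ := Set.mem_iUnion₂.mp h
    exact hm.2 (specializes_iff_mem_closure.mpr hmx)
  obtain ⟨U, hU, hxU, hUC⟩ := exists_isAffineOpen_mem_and_subset (x := x) (U := ⟨Cᶜ, hC.isOpen_compl⟩) hxC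
  refine ⟨U, hxU, hU, ?_⟩
  haveI : _root_.IsReduced Γ(X, U) := inferInstance
  let p := hU.primeIdealOf ⟨x, hxU⟩
  letI := (X.presheaf.germ U x hxU).hom.toAlgebra
  haveI : IsLocalization.AtPrime (X.presheaf.stalk x) p.asIdeal := hU.isLocalization_stalk ⟨x, hxU⟩
  rw [injective_iff_map_eq_zero]
  intro a ha
  obtain ⟨s, hs⟩ := (IsLocalization.map_eq_zero_iff p.asIdeal.primeCompl (X.presheaf.stalk x) a).mp ha
  refine IsNilpotent.eq_zero (mem_nilradical.mp ?_)
  rw [nilradical, ← Ideal.sInf_minimalPrimes, Submodule.mem_sInf]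
  intro q hq
  haveI := hq.isPrime
  have hzU : hU.fromSpec ⟨q, hq.isPrime⟩ ∈ U := hU.range_fromSpec.le ⟨_, rfl⟩
  obtain ⟨m, hm, hmz⟩ := Groth.Agent.Birat.exists_max_specializes (hU.fromSpec ⟨q, hq.isPrime⟩)
  have hmU : m ∈ U := hmz.mem_open U.2 hzU
  have hm' : hU.primeIdealOf ⟨m, hmU⟩ = (⟨q, hq.isPrime⟩ : PrimeSpectrum Γ(X, U)) := by
    have hle : hU.primeIdealOf ⟨m, hmU⟩ ≤ (⟨q, hq.isPrime⟩ : PrimeSpectrum Γ(X, U)) := by
      rw [PrimeSpectrum.le_iff_specializes]
      refine hU.fromSpec.isOpenEmbedding.isInducing.specializes_iff.mp ?_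
      rw [hU.fromSpec_primeIdealOf]
      exact hmz
    exact le_antisymm hle (hq.2 ⟨(hU.primeIdealOf ⟨m, hmU⟩).2, bot_le⟩ hle)
  have hmx : m ⤳ x := by
    by_contra hcon
    exact hUC hmU (Set.mem_biUnion (show m ∈ {m ∈ Groth.Agent.Birat.Max X | ¬ m ⤳ x} from ⟨hm, hcon⟩) (subset_closure rfl))
  have hqp : q ≤ p.asIdeal := by
    have h1 : hU.primeIdealOf ⟨m, hmU⟩ ≤ p := by
      rw [PrimeSpectrum.le_iff_specializes]
      refine hU.fromSpec.isOpenEmbedding.isInducing.specializes_iff.mp ?_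
      rw [hU.fromSpec_primeIdealOf, hU.fromSpec_primeIdealOf]
      exact hmx
    rw [hm'] at h1
    exact h1
  exact (hq.isPrime.mem_or_mem (hs ▸ q.zero_mem)).resolve_left fun h => s.2 (hqp h)


end Groth.Agent.S7415
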