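import Groth.Statements.S7416
import Mathlib.AlgebraicGeometry.AffineScheme

set_option autoImplicit false
universe u
open CategoryTheory AlgebraicGeometry
open Mor

namespace Groth.Agent.S7416

/-- Let `U`, `V` be affine schemes and `W → U`, `W → V` open immersions. Then every `w ∈ W` has an open
neighbourhood `W' ⊆ W` whose images in `U` and in `V` are standard opens `D(f) ⊆ U`, `D(g) ⊆ V` (in
particular `W'` is affine). -/
theorem result {U V W : Scheme.{u}} [IsAffine U]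
    [IsAffine V] (i : W ⟶ U) (j : W ⟶ V) [IsOpenImmersion i] [IsOpenImmersion j] (w : W) :
    ∃ (W' : W.Opens) (f : Γ(U, ⊤)) (g : Γ(V, ⊤)), w ∈ W' ∧ i ''ᵁ W' = U.basicOpen f ∧ j ''ᵁ W' = V.basicOpen g := by
  obtain ⟨_, ⟨_, ⟨f₀, rfl⟩, rfl⟩, hwf, hf₀⟩ := (isBasis_basicOpen U).exists_subset_of_mem_open
    (show i.base w ∈ (i.opensRange : Set U) from ⟨w, rfl⟩) i.opensRange.2
  obtain ⟨_, ⟨_, ⟨g₀, rfl⟩, rfl⟩, hwg, hg₀⟩ := (isBasis_basicOpen V).exists_subset_of_mem_open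
    (show j.base w ∈ (j.opensRange : Set V) from ⟨w, rfl⟩) j.opensRange.2
  have h1 := ((isAffineOpen_top U).basicOpen f₀).preimage_of_isOpenImmersion i hf₀
  have h2 := ((isAffineOpen_top V).basicOpen g₀).preimage_of_isOpenImmersion j hg₀
  obtain ⟨f, g, hfg, hw⟩ := exists_basicOpen_le_affine_inter h1 h2 w ⟨hwf, hwg⟩
  have key : ∀ {Z : Scheme.{u}} [IsAffine Z] (e : W ⟶ Z) [IsOpenImmersion e] (z : Γ(Z, ⊤)),
      Z.basicOpen z ≤ e.opensRange → ∀ s : Γ(W, e ⁻¹ᵁ Z.basicOpen z),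
      ∃ t : Γ(Z, ⊤), e ''ᵁ W.basicOpen s = Z.basicOpen t := by
    intro Z _ e _ z hz s
    have he : e ''ᵁ e ⁻¹ᵁ Z.basicOpen z = Z.basicOpen z := by
      rw [e.image_preimage_eq_opensRange_inf, inf_eq_right.mpr hz]
    obtain ⟨t, ht⟩ := (isAffineOpen_top Z).basicOpen_basicOpen_is_basicOpen z
      (Z.presheaf.map (eqToHom he.symm).op ((e.appIso _).inv s))
    exact ⟨t, by rw [ht, Scheme.basicOpen_res_eq, Scheme.image_basicOpen]⟩
  obtain ⟨t₁, ht₁⟩ := key i f₀ hf₀ f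
  obtain ⟨t₂, ht₂⟩ := key j g₀ hg₀ g
  exact ⟨W.basicOpen f, t₁, t₂, hw, ht₁, hfg ▸ ht₂⟩


end Groth.Agent.S7416
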