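import Groth.Statements.S7421
import Groth.Agent.AWN.SchemeLocal

set_option autoImplicit false
universe u
open CategoryTheory AlgebraicGeometry
open HTop

namespace Groth.Agent.S7421
open Groth.Agent

/-- A seminormal ring is reduced, and a seminormal scheme is reduced. -/
theorem result :
    (∀ (A : Type u) [CommRing A], HTop.IsSeminormalRing A → IsReduced A) ∧
    ∀ (X : Scheme.{u}), HTop.IsSeminormal X → AlgebraicGeometry.IsReduced X := by
  exact ⟨fun A _ h => AWN.isReduced_of_seminormal h, fun X h => AWN.isReduced_of_isSeminormal h⟩

end Groth.Agent.S7421
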