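import Groth.Statements.S7423
import Groth.Agent.AWN.SchemeLocal

set_option autoImplicit false
universe u
open CategoryTheory AlgebraicGeometry
open HTop

namespace Groth.Agent.S7423
open Groth.Agent

/-- Let `φ : A → A^awn` be an absolute weak normalization and `ψ : A → B` a ring map inducing a
universal homeomorphism on spectra. Then `B` is absolutely weakly normal exactly when the induced
map `χ : B → A^awn` with `χ ∘ ψ = φ` is an isomorphism. -/
theorem result {A B W : Type u} [CommRing A] [CommRing B] [CommRing W]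
    (φ : A →+* W) (hφ : HTop.IsRingAWN φ) (ψ : A →+* B)
    (hψ : FlatMor.IsUnivHomeo (Spec.map (CommRingCat.ofHom ψ))) (χ : B →+* W) (hχ : χ.comp ψ = φ) :
    Function.Bijective χ ↔ HTop.IsAWNRing B := by
  haveI := AWN.isReduced_of_isRingAWN hφ
  refine ⟨fun h => AWN.isAWNRing_of_equiv (RingEquiv.ofBijective χ h).symm (AWN.isAWNRing_of_isRingAWN hφ),
    fun hB => AWN.bijective_of_awn hB χ ?_⟩
  obtain ⟨i1, s1, u1⟩ := (EtaLib.isUnivHomeo_Spec_iff φ).mp hφ.1
  have hb := FlatBasics.isHomeomorph_of_isUnivHomeo hψ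
  refine (EtaLib.isUnivHomeo_Spec_iff χ).mpr ⟨RingHom.IsIntegral.tower_top ψ χ (by rw [hχ]; exact i1), fun P => ?_,
    fun K _ g g' e => u1 K g g' (by rw [← hχ, ← RingHom.comp_assoc, e, RingHom.comp_assoc])⟩
  obtain ⟨Q, hQ⟩ := s1 (PrimeSpectrum.comap ψ P)
  refine ⟨Q, hb.injective ?_⟩
  show PrimeSpectrum.comap ψ (PrimeSpectrum.comap χ Q) = PrimeSpectrum.comap ψ P
  rw [← PrimeSpectrum.comap_comp_apply, hχ, hQ]

end Groth.Agent.S7423
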