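import Groth.Statements.S7431
import Mathlib

set_option autoImplicit false
universe u
open CategoryTheory AlgebraicGeometry
open Lim

namespace Groth.Agent.S7431

theorem awayMap_bijective {B B' R R' : Type u} [CommRing B] [CommRing B']
    [CommRing R] [CommRing R'] (s : B →+* R) (t : R' →+* R) (p : B' →+* B) (q : B' →+* R')
    (hw : ∀ x, s (p x) = t (q x))
    (hex : ∀ b r, s b = t r → ∃ x, p x = b ∧ q x = r)
    (hext : ∀ x y, p x = p y → q x = q y → x = y)
    (h : B') (hiso : Function.Bijective (Localization.awayMap s (p h))) :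
    Function.Bijective (Localization.awayMap q h) := by
  constructor
  · rw [Localization.awayMap_injective_iff]
    intro x hx
    obtain ⟨l, hl⟩ := Localization.awayMap_injective_iff.1 hiso.1 (p x) (by rw [hw, hx, map_zero])
    refine ⟨l, hext _ _ ?_ ?_⟩
    · rw [map_mul, map_pow, hl, map_zero]
    · rw [map_mul, hx, mul_zero, map_zero]
  · rw [Localization.awayMap_surjective_iff]
    intro a
    obtain ⟨b, m, hb⟩ := Localization.awayMap_surjective_iff.1 hiso.2 (t a)
    obtain ⟨x, -, hx⟩ := hex b (q h ^ m * a) (by rw [hb, map_mul, map_pow, hw])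
    exact ⟨x, m, hx⟩

/-- Let `B' = B ×_R R'` be a cartesian square of rings with maps `s : B → R`, `t : R' → R`, and let `W'
= D(f_1) ∪ … ∪ D(f_n) ⊆ Spec R'` with `t(f_i) = s(g_i)` for elements `g_i ∈ B` such that `B_{g_i} →
R_{s(g_i)}` is an isomorphism for each `i`. Then the composite `W' → Spec R' → Spec B'`, the second
map coming from `B' → R'`, is an open immersion. -/
theorem result {B B' R R' : Type u} [CommRing B] [CommRing B']
    [CommRing R] [CommRing R'] (s : B →+* R) (t : R' →+* R) (p : B' →+* B) (q : B' →+* R')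
    (hsq : IsPullback (CommRingCat.ofHom p) (CommRingCat.ofHom q) (CommRingCat.ofHom s) (CommRingCat.ofHom t))
    {n : ℕ} (f : Fin n → R') (g : Fin n → B) (hfg : ∀ i, t (f i) = s (g i))
    (hiso : ∀ i, Function.Bijective (Localization.awayMap s (g i))) :
    IsOpenImmersion (Scheme.Opens.ι (X := Spec (CommRingCat.of R')) (⨆ i, PrimeSpectrum.basicOpen (f i)) ≫
      Spec.map (CommRingCat.ofHom q)) := by
  have hpb := hsq.map (forget CommRingCat)
  have hw : ∀ x, s (p x) = t (q x) := fun x => RingHom.congr_fun (congrArg CommRingCat.Hom.hom hsq.w) x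
  have hex : ∀ b r, s b = t r → ∃ x, p x = b ∧ q x = r := fun b r e => Limits.Types.exists_of_isPullback hpb b r e
  have hext : ∀ x y, p x = p y → q x = q y → x = y := fun x y h1 h2 => Limits.Types.ext_of_isPullback hpb h1 h2
  choose h hp hq using fun i => hex (g i) (f i) (hfg i).symm
  have hbij : ∀ i, IsIso (CommRingCat.ofHom (Localization.awayMap q (h i))) := fun i =>
    (ConcreteCategory.isIso_iff_bijective _).2 (awayMap_bijective s t p q hw hex hext (h i) (by rw [hp]; exact hiso i))
  let j : ∀ i, Spec (CommRingCat.of (Localization.Away (q (h i)))) ⟶ Spec (CommRingCat.of R') := fun i =>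
    Spec.map (CommRingCat.ofHom (algebraMap R' (Localization.Away (q (h i)))))
  have hj : ∀ i, IsOpenImmersion (j i ≫ Spec.map (CommRingCat.ofHom q)) := fun i => by
    haveI := hbij i
    have e : j i ≫ Spec.map (CommRingCat.ofHom q) = Spec.map (CommRingCat.ofHom (Localization.awayMap q (h i))) ≫
        Spec.map (CommRingCat.ofHom (algebraMap B' (Localization.Away (h i)))) := by
      rw [← Spec.map_comp, ← Spec.map_comp]
      congr 1
      ext x
      simp [Localization.awayMap, IsLocalization.Away.map]
    rw [e]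
    infer_instance
  have hjr : ∀ i, Set.range (j i) = (PrimeSpectrum.basicOpen (f i) : Set (PrimeSpectrum R')) := fun i => by
    show Set.range (PrimeSpectrum.comap (algebraMap R' (Localization.Away (q (h i))))) = _
    rw [PrimeSpectrum.localization_away_comap_range (Localization.Away (q (h i))) (q (h i)), hq]
  set W : (Spec (CommRingCat.of R')).Opens := ⨆ i, PrimeSpectrum.basicOpen (f i) with hW
  have hsub : ∀ i, Set.range (j i) ⊆ Set.range (W.ι) := fun i => by
    rw [hjr, Scheme.Opens.range_ι]
    exact fun y hy => TopologicalSpace.Opens.mem_iSup.2 ⟨i, hy⟩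
  refine IsOpenImmersion.of_forall_source_exists _ ?_ fun x => ?_
  · intro x y hxy
    obtain ⟨i, hi⟩ := TopologicalSpace.Opens.mem_iSup.1 (show x.1 ∈ W from x.2)
    have hxy' : PrimeSpectrum.comap q x.1 = PrimeSpectrum.comap q y.1 := hxy
    have hy : y.1 ∈ PrimeSpectrum.basicOpen (f i) := by
      rw [← hq i] at hi ⊢
      have h1 : PrimeSpectrum.comap q x.1 ∈ PrimeSpectrum.basicOpen (h i) := hi
      rw [hxy'] at h1
      exact h1
    obtain ⟨a, ha⟩ := (hjr i).ge hi
    obtain ⟨b, hb⟩ := (hjr i).ge hy
    haveI := hj i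
    have : a = b := (j i ≫ Spec.map (CommRingCat.ofHom q)).isOpenEmbedding.injective (by
      show PrimeSpectrum.comap q (j i a) = PrimeSpectrum.comap q (j i b)
      rw [ha, hb]; exact hxy')
    exact Subtype.ext (ha.symm.trans ((congrArg (j i) this).trans hb))
  · obtain ⟨i, hi⟩ := TopologicalSpace.Opens.mem_iSup.1 (show x.1 ∈ W from x.2)
    haveI : IsOpenImmersion (j i) := inferInstance
    refine ⟨_, IsOpenImmersion.lift W.ι (j i) (hsub i), inferInstance, ?_, ?_⟩
    · obtain ⟨a, ha⟩ := (hjr i).ge hi
      refine ⟨a, W.ι.isOpenEmbedding.injective ?_⟩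
      rw [← Scheme.Hom.comp_apply, IsOpenImmersion.lift_fac]
      exact ha
    · rw [IsOpenImmersion.lift_fac_assoc]
      exact hj i

end Groth.Agent.S7431
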