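import Groth.Statements.S7435
import Groth.Agent.BddFibLib.Basic

set_option autoImplicit false
universe u
open CategoryTheory AlgebraicGeometry
open BddFib

namespace Groth.Agent.S7435

/-- If `f` is finite locally free of degree `d`, then `d` bounds the degrees of the fibres of `f`. -/
theorem result {X Y : Scheme.{u}} (f : X ⟶ Y) (d : ℕ) (hf : Mor2.IsFinLocFreeOfDeg d f) :
    BddFib.FibreDegLE f d := by
  obtain ⟨⟨_, _, _⟩, hd⟩ := hf
  intro y
  refine (BddFibLib.finiteOfDegLE_iff (Y.residueField y) _ d).mpr
    ⟨MorphismProperty.pullback_snd (P := @IsFinite) _ _ ‹_›, fun p ↦ le_of_eq ?_⟩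
  exact (Scheme.Hom.finrank_of_isPullback _ _ f _
    (IsPullback.of_hasPullback f (Y.fromSpecResidueField y)) p).trans (hd _)

end Groth.Agent.S7435
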