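import Groth.Statements.S7440
import Groth.Agent.BddFibLib.EtalePoints

set_option autoImplicit false
universe u
open CategoryTheory AlgebraicGeometry
open BddFib

namespace Groth.Agent.S7440

/-- Let `f : X → Y` be étale and `n ≥ 0`. If for every field `k` and every `Spec k → Y` the base change
`X_k = Spec k ×_Y X` has finitely many, and at most `n`, points, then `n` bounds the degrees of the
fibres of `f`. (The converse implication holds for every morphism of schemes, étale or not, and is
not restated here.) -/
theorem result {X Y : Scheme.{u}} (f : X ⟶ Y) [Etale f] (n : ℕ)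
    (h : ∀ (k : Type u) [Field k] (g : Spec (CommRingCat.of k) ⟶ Y),
      Finite ↥(Limits.pullback f g) ∧ Nat.card ↥(Limits.pullback f g) ≤ n) :
    BddFib.FibreDegLE f n := by
  intro y
  let K := AlgebraicClosure (Y.residueField y)
  let σ : Spec (CommRingCat.of K) ⟶ Spec (Y.residueField y) :=
    Spec.map (CommRingCat.ofHom (algebraMap (Y.residueField y) K))
  obtain ⟨hfin, hcard⟩ := h K (σ ≫ Y.fromSpecResidueField y)
  have h0 : IsPullback (f.fiberι y) (f.fiberToSpecResidueField y) f (Y.fromSpecResidueField y) :=
    IsPullback.of_hasPullback _ _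
  have hp := IsPullback.of_hasPullback f (σ ≫ Y.fromSpecResidueField y)
  let a : Limits.pullback f (σ ≫ Y.fromSpecResidueField y) ⟶ f.fiber y :=
    h0.lift (Limits.pullback.fst _ _) (Limits.pullback.snd _ _ ≫ σ)
      (by rw [Category.assoc]; exact Limits.pullback.condition)
  have h' : IsPullback a (Limits.pullback.snd f (σ ≫ Y.fromSpecResidueField y))
      (f.fiberToSpecResidueField y) σ :=
    IsPullback.of_right (by rw [h0.lift_fst]; exact hp) (h0.lift_snd _ _ _) h0
  exact (BddFibLib.finiteOfDegLE_iff_of_isPullback (k := Y.residueField y) (k' := K) h' n).mp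
    (BddFibLib.finiteOfDegLE_of_etale_of_natCard_le _ hcard)

end Groth.Agent.S7440
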