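import Groth.Statements.S7442
import Groth.Agent.BddFibLib.FlatSurj

set_option autoImplicit false
universe u
open CategoryTheory AlgebraicGeometry
open BddFib

namespace Groth.Agent.S7442

/-- Let `f : X → Y` and `h : Y → Z` with `g = h ∘ f`. If `f` is flat and surjective and `n` bounds the
degrees of the fibres of `g`, then `n` bounds the degrees of the fibres of `h`. -/
theorem result {X Y Z : Scheme.{u}} (f : X ⟶ Y) (h : Y ⟶ Z) [Flat f] [Surjective f]
    (n : ℕ) (hg : BddFib.FibreDegLE (f ≫ h) n) : BddFib.FibreDegLE h n := by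
  intro z
  have h0 : IsPullback ((f ≫ h).fiberι z) ((f ≫ h).fiberToSpecResidueField z) (f ≫ h)
      (Z.fromSpecResidueField z) := IsPullback.of_hasPullback _ _
  have h1 : IsPullback (h.fiberι z) (h.fiberToSpecResidueField z) h (Z.fromSpecResidueField z) :=
    IsPullback.of_hasPullback _ _
  let q : (f ≫ h).fiber z ⟶ h.fiber z :=
    h1.lift ((f ≫ h).fiberι z ≫ f) ((f ≫ h).fiberToSpecResidueField z) (by rw [Category.assoc]; exact h0.w)
  have hsnd : q ≫ h.fiberToSpecResidueField z = (f ≫ h).fiberToSpecResidueField z := h1.lift_snd _ _ _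
  have h2 : IsPullback ((f ≫ h).fiberι z) q f (h.fiberι z) :=
    IsPullback.of_bot (by rw [hsnd]; exact h0) (h1.lift_fst _ _ _).symm h1
  have : Flat q := MorphismProperty.of_isPullback h2 ‹_›
  have : Surjective q := MorphismProperty.of_isPullback h2 ‹_›
  exact BddFibLib.finiteOfDegLE_of_flat_surjective (k := Z.residueField z) q _ (hsnd.symm ▸ hg z)

end Groth.Agent.S7442
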