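import Groth.Statements.S7456
import Groth.Agent.GrpdSep.Field

set_option autoImplicit false
universe u
open CategoryTheory CategoryTheory.Limits AlgebraicGeometry
open Grpd

namespace Groth.Agent.S7456

/-- Let (U, R, s, t, c) be a groupoid scheme over S. For every subset W of U, the subset t(s^{-1}(W)) is
set-theoretically R-invariant: its preimages under s and t coincide. If moreover s and t are open
maps and quasi-compact, then U is covered by R-invariant quasi-compact open subsets. (The published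
statement also asserts that this set is open when W is open and s, t are open maps; this row omits
that clause.) (A groupoid scheme carries U, R, s, t, c, e, i over S with the groupoid axioms on
T-points; c is defined on the fibre product of s and t and sends a pair (a, b) with s(a) = t(b) to a
composed with b.) -/
theorem result (S : Scheme.{u}) (G : Grpd.GroupoidScheme S) : (∀ W : Set G.U, ⇑G.s ⁻¹' (⇑G.t '' (⇑G.s ⁻¹' W)) = ⇑G.t ⁻¹' (⇑G.t '' (⇑G.s ⁻¹' W))) ∧ (IsOpenMap ⇑G.s → IsOpenMap ⇑G.t → QuasiCompact G.s → QuasiCompact G.t → ∀ u : G.U, ∃ W : G.U.Opens, IsCompact (W : Set G.U) ∧ u ∈ W ∧ G.s ⁻¹ᵁ W = G.t ⁻¹ᵁ W) := by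
    have hinv : ∀ W : Set G.U, ⇑G.s ⁻¹' (⇑G.t '' (⇑G.s ⁻¹' W)) = ⇑G.t ⁻¹' (⇑G.t '' (⇑G.s ⁻¹' W)) := by
      intro W
      have hi1 : ∀ x, G.t (G.i x) = G.s x := fun x => by rw [← Scheme.Hom.comp_apply, G.i_t]
      have hi2 : ∀ x, G.s (G.i x) = G.t x := fun x => by rw [← Scheme.Hom.comp_apply, G.i_s]
      have key : ∀ r r', G.s r' ∈ W → G.s r = G.t r' → G.t r ∈ ⇑G.t '' (⇑G.s ⁻¹' W) := fun r r' hW h => by
        obtain ⟨p, hp₁, hp₂⟩ := Scheme.Pullback.exists_preimage_pullback (f := G.s) (g := G.t) r r' h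
        have hid : pullback.lift (pullback.fst G.s G.t) (pullback.snd G.s G.t) pullback.condition = 𝟙 _ := by
          apply pullback.hom_ext <;> simp
        have hs := G.comp_s (pullback.fst G.s G.t) (pullback.snd G.s G.t) pullback.condition
        have ht := G.comp_t (pullback.fst G.s G.t) (pullback.snd G.s G.t) pullback.condition
        rw [hid, Category.id_comp] at hs ht
        refine ⟨G.c p, ?_, ?_⟩
        · show G.s (G.c p) ∈ W
          rw [← Scheme.Hom.comp_apply, hs, Scheme.Hom.comp_apply, hp₂]; exact hW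
        · rw [← Scheme.Hom.comp_apply, ht, Scheme.Hom.comp_apply, hp₁]
      ext r
      constructor
      · rintro ⟨r', hW, h⟩
        exact key r r' hW h.symm
      · rintro ⟨r', hW, h⟩
        have := key (G.i r) r' hW (by rw [hi2]; exact h.symm)
        rwa [hi1] at this
    refine ⟨hinv, fun hs ht hqs hqt u => ?_⟩
    obtain ⟨_, ⟨V, hV, rfl⟩, hu, -⟩ := G.U.isBasis_affineOpens.exists_subset_of_mem_open (Set.mem_univ u) isOpen_univ
    refine ⟨⟨⇑G.t '' (⇑G.s ⁻¹' (V : Set G.U)), ht _ (V.2.preimage G.s.continuous)⟩, ?_, ⟨G.e u, ?_, ?_⟩,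
      TopologicalSpace.Opens.ext (hinv _)⟩
    · exact (G.s.isCompact_preimage hV.isCompact).image G.t.continuous
    · show G.s (G.e u) ∈ V
      rw [← Scheme.Hom.comp_apply, G.e_s]; exact hu
    · rw [← Scheme.Hom.comp_apply, G.e_t]; rfl

end Groth.Agent.S7456
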