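import Groth.Statements.S7457
import Groth.Agent.GrpdSep.Field

set_option autoImplicit false
set_option backward.isDefEq.respectTransparency false
universe u
open CategoryTheory CategoryTheory.Limits AlgebraicGeometry
open Grpd

namespace Groth.Agent.S7457

/-- Let (U, R, s, t, c) be a groupoid scheme over S. Let φ : R x_(t,U,t) R -> R x_(s,U,t) R be the
morphism sending a pair (a, b) with the same target to (a, a^{-1} composed with b), that is, the
morphism whose first component is the first projection and whose second component is c applied to (i
composed after the first projection, second projection). Then φ is an isomorphism and composed with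
c it gives the second projection. Moreover the square with sides c, the second projection R
x_(s,U,t) R -> R, s and s is cartesian. (A groupoid scheme carries U, R, s, t, c, e, i over S with
the groupoid axioms on T-points; c is defined on the fibre product of s and t and sends a pair (a,
b) with s(a) = t(b) to a composed with b.) -/
theorem result (S : Scheme.{u}) (G : Grpd.GroupoidScheme S) : (∀ φ : pullback G.t G.t ⟶ pullback G.s G.t, φ ≫ pullback.fst G.s G.t = pullback.fst G.t G.t → φ ≫ pullback.snd G.s G.t = pullback.lift (pullback.fst G.t G.t ≫ G.i) (pullback.snd G.t G.t) ((Category.assoc _ _ _).trans ((congrArg (fun x => pullback.fst G.t G.t ≫ x) G.i_s).trans pullback.condition)) ≫ G.c → IsIso φ ∧ φ ≫ G.c = pullback.snd G.t G.t) ∧ IsPullback G.c (pullback.snd G.s G.t) G.s G.s := by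
    refine ⟨fun φ h₁ h₂ => ?_, Groth.Agent.GrpdSep.isPullback_c⟩
    have hsq := Groth.Agent.GrpdSep.isPullback_c_left (G := G)
    have hci : φ ≫ G.c = pullback.snd G.t G.t := by
      have h0 : (pullback.fst G.t G.t ≫ G.i) ≫ G.s = pullback.snd G.t G.t ≫ G.t := by
        rw [Category.assoc, G.i_s]; exact pullback.condition
      have e := Groth.Agent.GrpdSep.cancel_left G (β := pullback.fst G.t G.t) h0
      simp only [Groth.Agent.GrpdSep.mulPt_def] at e
      refine Eq.trans ?_ e
      congr 1
      apply pullback.hom_ext
      · rw [h₁, pullback.lift_fst]
      · rw [h₂, pullback.lift_snd]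
    refine ⟨⟨pullback.lift (pullback.fst G.s G.t) G.c hsq.w, ?_, ?_⟩, hci⟩
    · apply pullback.hom_ext <;> simp [h₁, hci]
    · exact hsq.hom_ext (by simp [h₁]) (by simp [hci])

end Groth.Agent.S7457
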