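import Groth.Statements.S7459
import Groth.Agent.GrpSch.OverBase

set_option autoImplicit false
universe u
open CategoryTheory MonoidalCategory CartesianMonoidalCategory MonObj GrpObj AlgebraicGeometry
open GrpSch

namespace Groth.Agent.S7459

/-- Let G be a group scheme over a field k, W an open subscheme of G and f : T -> G a morphism of
schemes (T becomes a k-scheme through f). Then the image of the composition T x_k W -> G x_k G -> G,
the second map being the multiplication, is open. -/
theorem result (K : Type u) [Field K] (G : Over (Spec (CommRingCat.of K))) [GrpObj G] (W : G.left.Opens) (T : Scheme.{u}) (f : T ⟶ G.left) : IsOpen (Set.range ⇑(((Over.homMk f rfl : Over.mk (f ≫ G.hom) ⟶ G) ⊗ₘ (Over.homMk W.ι rfl : Over.mk (W.ι ≫ G.hom) ⟶ G)) ≫ μ[G]).left) := by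
  set t : Over.mk (f ≫ G.hom) ⟶ G := Over.homMk f rfl
  set w : Over.mk (W.ι ≫ G.hom) ⟶ G := Over.homMk W.ι rfl
  rw [tensorHom_def' t w, Category.assoc, Over.comp_left]
  have hm : UniversallyOpen (t ▷ G ≫ μ[G]).left :=
    Groth.Agent.GrpSch.property_whisker_mul (P := @UniversallyOpen) t inferInstance
  have hw : IsOpenImmersion (Over.mk (f ≫ G.hom) ◁ w).left := by
    have : IsPullback (Over.mk (f ≫ G.hom) ◁ w) (snd _ _) (snd _ _) w :=
      (IsPullback.of_isLimit' ⟨by simp⟩ (Limits.PullbackCone.IsLimit.mk (by simp)
        (fun s => CartesianMonoidalCategory.lift (s.fst ≫ fst _ _) s.snd)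
        (fun s => by apply CartesianMonoidalCategory.hom_ext <;> simp [s.condition])
        (fun s => by simp)
        (fun s m h₁ h₂ => by
          apply CartesianMonoidalCategory.hom_ext
          · simp [← h₁]
          · simp [← h₂])))
    exact MorphismProperty.of_isPullback (P := @IsOpenImmersion)
      (Groth.Agent.GrpSch.isPullback_left this).flip (inferInstanceAs (IsOpenImmersion W.ι))
  exact ((t ▷ G ≫ μ[G]).left.isOpenMap.comp (Over.mk (f ≫ G.hom) ◁ w).left.isOpenMap).isOpen_range

end Groth.Agent.S7459
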