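import Mathlib
import Groth.Agent.GrpdSep.Field
import Groth.Agent.GrpdSep.GeomIrred
import Groth.Statements.S7461
-- import your own Groth.Agent.* helpers here

set_option autoImplicit false
set_option backward.isDefEq.respectTransparency false
set_option backward.isDefEq.respectTransparency.types false
universe u
open CategoryTheory CategoryTheory.Limits AlgebraicGeometry
open Grpd

namespace Groth.Agent.S7461

/-- Let (U, R, s, t, c) be a groupoid scheme over S with s and t finite locally free. Then U is a
disjoint union of R-invariant open subschemes U_r, r = 1, 2, 3, ..., such that s and t restricted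
over U_r are finite locally free of rank r. Here the decomposition is indexed by all natural numbers
with U_0 empty, R-invariance of U_r means s^{-1}(U_r) = t^{-1}(U_r), and 'finite locally free of
rank r' means finite, flat, locally of finite presentation with rank function constant equal to r.
(A groupoid scheme carries U, R, s, t, c, e, i over S with the groupoid axioms on T-points; c is
defined on the fibre product of s and t and sends a pair (a, b) with s(a) = t(b) to a composed with
b.) -/
theorem result (S : Scheme.{u}) (G : Grpd.GroupoidScheme S) [IsFinite G.s] [Flat G.s] [LocallyOfFinitePresentation G.s] [IsFinite G.t] [Flat G.t] [LocallyOfFinitePresentation G.t] : ∃ V : ℕ → G.U.Opens, V 0 = ⊥ ∧ (∀ r r', r ≠ r' → Disjoint (V r) (V r')) ∧ (⨆ r, V r) = ⊤ ∧ ∀ r, G.s ⁻¹ᵁ V r = G.t ⁻¹ᵁ V r ∧ Mor2.IsFinLocFreeOfDeg r (G.s ∣_ V r) ∧ Mor2.IsFinLocFreeOfDeg r (G.t ∣_ V r) := by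
  have hst : ∀ x : G.R, G.s.finrank (G.s x) = G.s.finrank (G.t x) := fun x => by
    rw [← Scheme.Hom.finrank_of_isPullback _ _ _ _ Groth.Agent.GrpdSep.isPullback_c x,
      ← Scheme.Hom.finrank_of_isPullback _ _ _ _ (IsPullback.of_hasPullback G.s G.t) x]
  have hts : ∀ y, G.t.finrank y = G.s.finrank y := fun y => by
    rw [show G.t = G.i ≫ G.s from G.i_s.symm, Scheme.Hom.finrank_comp_left_of_isIso]
  have hloc := G.s.isLocallyConstant_finrank
  let V : ℕ → G.U.Opens := fun r => ⟨G.s.finrank ⁻¹' {r}, hloc.isOpen_fiber r⟩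
  have hsurj : Surjective G.s := ⟨fun y => ⟨G.e y, by rw [← Scheme.Hom.comp_apply, G.e_s]; rfl⟩⟩
  refine ⟨V, ?_, fun r r' hne => ?_, ?_, fun r => ⟨?_, ?_, ?_⟩⟩
  · rw [eq_bot_iff]
    intro y hy
    have h1 := (Scheme.Hom.one_le_finrank_iff_surjective G.s).2 hsurj y
    have : G.s.finrank y = 0 := hy
    exact absurd h1 (by simp [this])
  · rw [← TopologicalSpace.Opens.coe_disjoint]
    exact Disjoint.preimage G.s.finrank (Set.disjoint_singleton.2 hne)
  · rw [eq_top_iff]
    intro y _
    exact TopologicalSpace.Opens.mem_iSup.2 ⟨G.s.finrank y, rfl⟩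
  · ext x
    show G.s.finrank (G.s x) = r ↔ G.s.finrank (G.t x) = r
    rw [hst x]
  · refine ⟨⟨inferInstance, inferInstance, inferInstance⟩, fun y => ?_⟩
    rw [Scheme.Hom.finrank_of_isPullback _ _ _ _ (isPullback_morphismRestrict G.s (V r)).flip y]
    exact y.2
  · refine ⟨⟨inferInstance, inferInstance, inferInstance⟩, fun y => ?_⟩
    rw [Scheme.Hom.finrank_of_isPullback _ _ _ _ (isPullback_morphismRestrict G.t (V r)).flip y, hts]
    exact y.2

end Groth.Agent.S7461
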