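import Mathlib
import Groth.Agent.GrpdSep.Field
import Groth.Statements.S7463
-- import your own Groth.Agent.* helpers here

set_option autoImplicit false
set_option backward.isDefEq.respectTransparency false
set_option backward.isDefEq.respectTransparency.types false
universe u
open CategoryTheory CategoryTheory.Limits AlgebraicGeometry
open Grpd

namespace Groth.Agent.S7463

/-- Consider a groupoid scheme (U, R, s, t, c) over S in which U is the spectrum of a field, and write Z
for the closure of the image of the morphism j = (t, s) : R -> U x_S U. Then, set-theoretically,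
pr_02 carries Z x_(pr_1,U,pr_0) Z into Z: given the morphism pr_02 from (U x_S U) x_(pr_1,U,pr_0) (U
x_S U) to U x_S U, whose components are pr_0 of the first factor and pr_1 of the second, any point
both of whose projections land in Z is mapped to a point of Z. (A groupoid scheme consists of U, R,
s, t, c, e, i over S satisfying the groupoid axioms on T-points; c is defined on the fibre product
of s and t and takes a pair (a, b) with s(a) = t(b) to the composite of a with b.) -/
theorem result (S : Scheme.{u}) (G : Grpd.GroupoidScheme S) (k : Type u) [Field k] (eU : G.U ≅ Spec (CommRingCat.of k)) (pr02 : pullback (pullback.snd G.pU G.pU) (pullback.fst G.pU G.pU) ⟶ pullback G.pU G.pU) (h0 : pr02 ≫ pullback.fst G.pU G.pU = pullback.fst (pullback.snd G.pU G.pU) (pullback.fst G.pU G.pU) ≫ pullback.fst G.pU G.pU) (h1 : pr02 ≫ pullback.snd G.pU G.pU = pullback.snd (pullback.snd G.pU G.pU) (pullback.fst G.pU G.pU) ≫ pullback.snd G.pU G.pU) (p : ↑(pullback (pullback.snd G.pU G.pU) (pullback.fst G.pU G.pU))) (h₁ : pullback.fst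 (pullback.snd G.pU G.pU) (pullback.fst G.pU G.pU) p ∈ closure (Set.range ⇑G.j)) (h₂ : pullback.snd (pullback.snd G.pU G.pU) (pullback.fst G.pU G.pU) p ∈ closure (Set.range ⇑G.j)) : pr02 p ∈ closure (Set.range ⇑G.j) := by
  let A := Set.range ⇑G.j
  let m : pullback G.s G.t ⟶ pullback (pullback.snd G.pU G.pU) (pullback.fst G.pU G.pU) :=
    pullback.map G.s G.t _ _ G.j G.j (𝟙 _) (by simp [Grpd.GroupoidScheme.j]) (by simp [Grpd.GroupoidScheme.j])
  have hr : Set.range ⇑m = pullback.fst (pullback.snd G.pU G.pU) (pullback.fst G.pU G.pU) ⁻¹' A ∩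
      pullback.snd (pullback.snd G.pU G.pU) (pullback.fst G.pU G.pU) ⁻¹' A := Scheme.Pullback.range_map ..
  have hp : p ∈ closure (Set.range ⇑m) := by
    rw [hr, mem_closure_iff]
    intro N hN hpN
    obtain ⟨a, ⟨q, ⟨hqN, hq⟩, rfl⟩, haA⟩ := mem_closure_iff.1 h₁ _
      (Groth.Agent.GrpdSep.isOpen_image_fibre eU _ _ (pullback.snd (pullback.snd G.pU G.pU) (pullback.fst G.pU G.pU) p) hN) ⟨p, ⟨hpN, rfl⟩, rfl⟩
    obtain ⟨b, ⟨q', ⟨hq'N, hq'⟩, rfl⟩, hbA⟩ := mem_closure_iff.1 (show pullback.snd (pullback.snd G.pU G.pU) (pullback.fst G.pU G.pU) q ∈ closure A by rw [show pullback.snd (pullback.snd G.pU G.pU) (pullback.fst G.pU G.pU) q = _ from hq]; exact h₂) _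
      (Groth.Agent.GrpdSep.isOpen_image_fibre' eU _ _ (pullback.fst (pullback.snd G.pU G.pU) (pullback.fst G.pU G.pU) q) hN) ⟨q, ⟨hqN, rfl⟩, rfl⟩
    exact ⟨q', hq'N, by show pullback.fst (pullback.snd G.pU G.pU) (pullback.fst G.pU G.pU) q' ∈ A; rw [show pullback.fst (pullback.snd G.pU G.pU) (pullback.fst G.pU G.pU) q' = _ from hq']; exact haA, hbA⟩
  have hl : pullback.lift (pullback.fst G.s G.t) (pullback.snd G.s G.t) pullback.condition = 𝟙 _ := by
    apply pullback.hom_ext <;> simp
  have hct : G.c ≫ G.t = pullback.fst G.s G.t ≫ G.t := by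
    have := G.comp_t (pullback.fst G.s G.t) (pullback.snd G.s G.t) pullback.condition
    rwa [hl, Category.id_comp] at this
  have hcs : G.c ≫ G.s = pullback.snd G.s G.t ≫ G.s := by
    have := G.comp_s (pullback.fst G.s G.t) (pullback.snd G.s G.t) pullback.condition
    rwa [hl, Category.id_comp] at this
  have hm : m ≫ pr02 = G.c ≫ G.j := by
    apply pullback.hom_ext
    · simp only [Category.assoc, h0, m, pullback.lift_fst_assoc]
      simp [Grpd.GroupoidScheme.j, hct]
    · simp only [Category.assoc, h1, m, pullback.lift_snd_assoc]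
      simp [Grpd.GroupoidScheme.j, hcs]
  refine map_mem_closure pr02.continuous hp ?_
  rintro _ ⟨x, rfl⟩
  exact ⟨G.c x, by rw [← Scheme.Hom.comp_apply, ← hm, Scheme.Hom.comp_apply]⟩

end Groth.Agent.S7463
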