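import Groth.Statements.S7464
import Groth.Agent.GrpdSep.Field
import Mathlib.AlgebraicGeometry.Morphisms.QuasiFinite

set_option autoImplicit false
set_option backward.isDefEq.respectTransparency false
universe u
open CategoryTheory CategoryTheory.Limits AlgebraicGeometry
open Grpd

namespace Groth.Agent.S7464

/-- Let (U, R, s, t, c) be a groupoid scheme over S with s and t finite, and let u, u' be distinct
points of U in the same orbit, say u = s(r) and u' = t(r). Then u' does not lie in the closure of u.
(The published statement calls u, u' points of R; this row takes them to be points of U, as the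
orbit condition and the proof require.) (A groupoid scheme carries U, R, s, t, c, e, i over S with
the groupoid axioms on T-points; c is defined on the fibre product of s and t and sends a pair (a,
b) with s(a) = t(b) to a composed with b.) -/
theorem result (S : Scheme.{u}) (G : Grpd.GroupoidScheme S) [IsFinite G.s] [IsFinite G.t] (r : G.R) (hne : G.s r ≠ G.t r) : ¬ (G.s r ⤳ G.t r) := by
    classical
    intro hsp
    let u := G.s r
    let O : Set G.U := G.t '' (G.s ⁻¹' {u})
    have hfin : O.Finite := (G.s.finite_preimage_singleton u).image G.t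
    -- every point of the orbit specializes strictly inside it
    have hstep : ∀ x ∈ O, ∃ x' ∈ O, x ⤳ x' ∧ x ≠ x' := by
      rintro _ ⟨r₁, hr₁, rfl⟩
      obtain ⟨r₂, hr₂, hr₂'⟩ := G.s.isClosedMap.specializingMap (a := r₁) (b := G.t r) (by
        rw [show G.s r₁ = u from hr₁]; exact hsp)
      refine ⟨G.t r₂, ?_, hr₂.map G.t.continuous, fun h => ?_⟩
      · have hO : G.s ⁻¹' O = G.t ⁻¹' O := by
          have hi1 : ∀ x, G.t (G.i x) = G.s x := fun x => by rw [← Scheme.Hom.comp_apply, G.i_t]
          have hi2 : ∀ x, G.s (G.i x) = G.t x := fun x => by rw [← Scheme.Hom.comp_apply, G.i_s]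
          have key : ∀ r r', G.s r' ∈ ({u} : Set G.U) → G.s r = G.t r' → G.t r ∈ O := fun r r' hW h => by
            obtain ⟨p, hp₁, hp₂⟩ := Scheme.Pullback.exists_preimage_pullback (f := G.s) (g := G.t) r r' h
            have hid : pullback.lift (pullback.fst G.s G.t) (pullback.snd G.s G.t) pullback.condition = 𝟙 _ := by
              apply pullback.hom_ext <;> simp
            have hs := G.comp_s (pullback.fst G.s G.t) (pullback.snd G.s G.t) pullback.condition
            have ht := G.comp_t (pullback.fst G.s G.t) (pullback.snd G.s G.t) pullback.condition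
            rw [hid, Category.id_comp] at hs ht
            refine ⟨G.c p, ?_, ?_⟩
            · show G.s (G.c p) ∈ ({u} : Set G.U)
              rw [← Scheme.Hom.comp_apply, hs, Scheme.Hom.comp_apply, hp₂]; exact hW
            · rw [← Scheme.Hom.comp_apply, ht, Scheme.Hom.comp_apply, hp₁]
          ext x
          constructor
          · rintro ⟨r', hW, h⟩
            exact key x r' hW h.symm
          · rintro ⟨r', hW, h⟩
            have := key (G.i x) r' hW (by rw [hi2]; exact h.symm)
            rwa [hi1] at this
        have : r₂ ∈ G.s ⁻¹' O := by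
          show G.s r₂ ∈ O
          rw [hr₂']; exact ⟨r, rfl, rfl⟩
        rw [hO] at this
        exact this
      · have e : r₁ = r₂ := by
          haveI : Finite (⇑G.t ⁻¹' {G.t r₁}) := (G.t.finite_preimage_singleton _).to_subtype
          haveI : DiscreteTopology (⇑G.t ⁻¹' {G.t r₁}) := (G.t.isDiscrete_preimage_singleton _).to_subtype
          by_contra hne'
          have : (⟨r₁, rfl⟩ : ⇑G.t ⁻¹' {G.t r₁}) ⤳ ⟨r₂, h.symm⟩ := (subtype_specializes_iff _ _).2 hr₂
          exact hne' (congrArg Subtype.val this.eq)
        exact hne (by rw [← hr₂', ← e]; exact hr₁.symm)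
    letI : PartialOrder G.U := specializationOrder G.U
    obtain ⟨x, hx, hmax⟩ := hfin.exists_minimal ⟨G.t r, r, rfl, rfl⟩
    obtain ⟨x', hx', hsp', hne'⟩ := hstep x hx
    exact hne' ((hmax hx' hsp').antisymm hsp')

end Groth.Agent.S7464
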