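import Groth.Statements.S7474
import Groth.Agent.VCov.SheafV

set_option autoImplicit false
universe w u
open HTop

namespace Groth.Agent.S7474

open CategoryTheory CategoryTheory.Limits AlgebraicGeometry in
/-- A presheaf F of sets on the category of all schemes has the sheaf property for every V covering
family exactly when F is a sheaf for the Zariski topology and has the sheaf property for each
standard V covering. -/
theorem result (F : Scheme.{u}ᵒᵖ ⥤ Type w) : HTop.IsVSheaf F ↔ (Presieve.IsSheaf Scheme.zariskiTopology F ∧ ∀ (T : Scheme.{u}) (E : PreZeroHypercover.{u} T), HTop.IsStandardV E → Presieve.IsSheafFor F E.presieve₀) := by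
  refine ⟨fun hF => ⟨Groth.Agent.VCov.isSheaf_zariski_of_isVSheaf hF, fun T E hE => Groth.Agent.VCov.isSheafFor_of_isStandardV hF hE⟩,
    fun h => Groth.Agent.VCov.isVSheaf_of_standard h.1 fun D E hE => ?_⟩
  obtain ⟨E', hE', he⟩ := Groth.Agent.VCov.exists_small_standardV hE
  exact he ▸ h.2 D E' hE'

end Groth.Agent.S7474
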