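import Groth.Statements.S7475
import Groth.Agent.VCov.SheafV

set_option autoImplicit false
universe w u
open HTop

namespace Groth.Agent.S7475

open CategoryTheory CategoryTheory.Limits AlgebraicGeometry in
/-- Variant with a single arrow: a presheaf of sets on all schemes has the sheaf property for every V
covering family exactly when it is a Zariski sheaf and has the sheaf property for every morphism V
-> U of affine schemes that on its own forms a standard V covering. -/
theorem result (F : Scheme.{u}ᵒᵖ ⥤ Type w) : HTop.IsVSheaf F ↔ (Presieve.IsSheaf Scheme.zariskiTopology F ∧ ∀ (U V : Scheme.{u}) (f : V ⟶ U), HTop.IsStandardV (PreZeroHypercover.singleton f) → Presieve.IsSheafFor F (Presieve.singleton f)) := by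
  refine ⟨fun hF => ⟨Groth.Agent.VCov.isSheaf_zariski_of_isVSheaf hF, fun U V f hf => ?_⟩,
    fun h => Groth.Agent.VCov.isVSheaf_of_standard_singleton h.1 fun D V f hf => h.2 D V f
      ⟨hf.isAffine, inferInstanceAs (Finite PUnit), fun _ => hf.isAffine_obj PUnit.unit,
        Groth.Agent.VCov.hasValLift_singleton_of f hf.lift⟩⟩
  exact Groth.Agent.VCov.presieve₀_singleton' f ▸ Groth.Agent.VCov.isSheafFor_of_isStandardV hF hf

end Groth.Agent.S7475
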