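import Groth.Statements.S7478
import Groth.Agent.VCov.Basic

set_option autoImplicit false
universe w u
open HTop

namespace Groth.Agent.S7478

open CategoryTheory CategoryTheory.Limits AlgebraicGeometry in
/-- The base change of a standard ph covering along a morphism of affine schemes T' -> T is a standard
ph covering of T'. -/
theorem result {T T' : Scheme.{u}} [IsAffine T'] (g : T' ⟶ T) (E : PreZeroHypercover.{w} T) (hE : HTop.IsStandardPh E) : HTop.IsStandardPh (E.pullback₁ g) := by
  haveI := hE.isAffine
  obtain ⟨U, f, ι, hf, hs, ho, hfac, hcov⟩ := hE.exists_proper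
  refine ⟨inferInstance, hE.finite_index,
    fun j => haveI := hE.isAffine_obj j; inferInstanceAs (IsAffine (pullback g (E.f j))),
    pullback g f, pullback.fst g f,
    fun j => pullback.map g (E.f j) g f (𝟙 T') (ι j) (𝟙 T) (by rw [Category.comp_id, Category.id_comp])
      (by rw [Category.comp_id, hfac]),
    MorphismProperty.pullback_fst _ _ hf, MorphismProperty.pullback_fst _ _ hs, fun j => ?_, fun j => ?_, fun x => ?_⟩
  · haveI := ho j
    exact Scheme.pullback_map_isOpenImmersion _ _ _ _ _ _ _ _ _
  · exact (pullback.lift_fst _ _ _).trans (Category.comp_id _)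
  · obtain ⟨j, hj⟩ := hcov (pullback.snd g f x)
    refine ⟨j, ?_⟩
    show x ∈ Set.range (pullback.map g (E.f j) g f (𝟙 T') (ι j) (𝟙 T) _ _)
    rw [Scheme.Pullback.range_map]
    exact ⟨⟨pullback.fst g f x, by simp⟩, hj⟩

end Groth.Agent.S7478
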