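import Groth.Statements.S7490
import Mathlib.CategoryTheory.Sites.LocallySurjective
import Mathlib.CategoryTheory.Sites.Limits
import Groth.Agent.AlgSpLoc.Cover

set_option autoImplicit false
open CategoryTheory CategoryTheory.Limits AlgebraicGeometry
universe u
open QuotSh

namespace Groth.Agent.S7490

/-- Let K be a precoverage on schemes (the topology τ), S a scheme, s, t : R -> U morphisms of schemes
over S (a pre-relation) and q : U -> M a morphism over S such that (1) q coequalizes s and t, (2)
the induced map of τ-sheaves h_U -> h_M is an epimorphism, and (3) the map h_R -> h_(U x_M U)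
induced by (t, s) is an epimorphism of τ-sheaves. Then M, through q, represents the quotient sheaf
U/R: the canonical map from the coequalizer of h_s, h_t to h_M is an isomorphism. (The published
statement takes τ to be the Zariski, étale, fppf, smooth or syntomic topology; this row allows the
topology generated by any precoverage K.) -/
theorem result (K : Precoverage Scheme.{u}) {S : Scheme.{u}} {R U M : Over S} (s t : R ⟶ U) (q : U ⟶ M) (w : s ≫ q = t ≫ q) (w' : t.left ≫ q.left = s.left ≫ q.left) (h₂ : Epi (QuotSh.repMap K q)) (h₃ : Epi (QuotSh.repMap K (Over.homMk (pullback.lift t.left s.left w') (((Category.assoc _ _ _).symm.trans (congrArg (fun k => k ≫ U.hom) (pullback.lift_fst t.left s.left w'))).trans (Over.w t)) : R ⟶ Over.mk (pullback.fst q.left q.left ≫ U.hom)))) : QuotSh.IsQuotient K s t q := by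
  haveI : EffectiveEpi (QuotSh.repMap K q) := by
    haveI := IsRegularEpiCategory.regularEpiOfEpi (QuotSh.repMap K q)
    exact (isRegularEpi_iff_effectiveEpi _).mp inferInstance
  let P : Over S := Over.mk (pullback.fst q.left q.left ≫ U.hom)
  let p₁ : P ⟶ U := Over.homMk (pullback.fst q.left q.left) rfl
  let p₂ : P ⟶ U := Over.homMk (pullback.snd q.left q.left) (by
    show _ = pullback.fst q.left q.left ≫ U.hom
    rw [← Over.w q, ← Category.assoc, ← pullback.condition, Category.assoc])
  have sqP : IsPullback p₁ p₂ q q :=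
    IsPullback.of_map (Over.forget S) (Over.OverMorphism.ext pullback.condition) (IsPullback.of_hasPullback q.left q.left)
  let F : Over S ⥤ QuotSh.Sh K S :=
    (yoneda ⋙ (Functor.whiskeringRight _ _ _).obj uliftFunctor.{u + 1, u}) ⋙ presheafToSheaf (QuotSh.J K S) (Type (u + 1))
  have sq : IsPullback (QuotSh.repMap K p₁) (QuotSh.repMap K p₂) (QuotSh.repMap K q) (QuotSh.repMap K q) := sqP.map F
  let j : R ⟶ P := Over.homMk (pullback.lift t.left s.left w') (((Category.assoc _ _ _).symm.trans
    (congrArg (fun k => k ≫ U.hom) (pullback.lift_fst t.left s.left w'))).trans (Over.w t))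
  have hj₁ : j ≫ p₁ = t := Over.OverMorphism.ext (pullback.lift_fst _ _ _)
  have hj₂ : j ≫ p₂ = s := Over.OverMorphism.ext (pullback.lift_snd _ _ _)
  haveI : Epi (QuotSh.repMap K j) := h₃
  have hp : QuotSh.repMap K p₁ ≫ QuotSh.quotπ K s t = QuotSh.repMap K p₂ ≫ QuotSh.quotπ K s t := by
    rw [← cancel_epi (QuotSh.repMap K j)]
    change F.map j ≫ F.map p₁ ≫ _ = F.map j ≫ F.map p₂ ≫ _
    rw [← Category.assoc, ← Category.assoc, ← F.map_comp, ← F.map_comp, hj₁, hj₂]
    exact (QuotSh.quot_condition K s t).symm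
  have key : ∀ {Z : QuotSh.Sh K S} (g₁ g₂ : Z ⟶ QuotSh.rep K U), g₁ ≫ QuotSh.repMap K q = g₂ ≫ QuotSh.repMap K q →
      g₁ ≫ QuotSh.quotπ K s t = g₂ ≫ QuotSh.quotπ K s t := fun g₁ g₂ h => by
    rw [← sq.lift_fst g₁ g₂ h, Category.assoc, hp, ← Category.assoc, sq.lift_snd]
  have hπ : QuotSh.quotπ K s t ≫ QuotSh.quotDesc K q w = QuotSh.repMap K q := coequalizer.π_desc _ _
  refine ⟨w, EffectiveEpi.desc (QuotSh.repMap K q) (QuotSh.quotπ K s t) key, ?_, ?_⟩
  · haveI : Epi (QuotSh.quotπ K s t) := inferInstanceAs (Epi (coequalizer.π _ _))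
    rw [← cancel_epi (QuotSh.quotπ K s t), ← Category.assoc, hπ, EffectiveEpi.fac, Category.comp_id]
  · rw [← cancel_epi (QuotSh.repMap K q), ← Category.assoc, EffectiveEpi.fac, hπ, Category.comp_id]

end Groth.Agent.S7490
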