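import Groth.Statements.S7494
import Groth.Agent.GrpSch.Action

set_option autoImplicit false
universe u
open CategoryTheory MonoidalCategory CartesianMonoidalCategory MonObj GrpObj AlgebraicGeometry
open AlgGrp

namespace Groth.Agent.S7494

/-- Let G be a group scheme over S acting on a scheme X over S by a. The action is free, meaning that
for every scheme T over S and all T-points g of G and x of X with g · x = x one has g = 1, if and
only if the morphism G x_S X -> X x_S X, (g, x) ↦ (a(g, x), x), is a monomorphism of schemes. -/
theorem result {S : Scheme.{u}} (G X : Over S) [GrpObj G] (a : AlgGrp.Action G X) : (∀ (T : Over S) (g : T ⟶ G) (x : T ⟶ X), lift g x ≫ a.act = x → g = toUnit T ≫ η[G]) ↔ Mono (lift a.act (snd G X)).left := by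
  constructor
  · intro h
    have : Mono (lift a.act (snd G X)) := by
      constructor
      intro T p q hpq
      have h₁ := hpq =≫ fst X X
      have h₂ := hpq =≫ snd X X
      simp only [Category.assoc, lift_fst, lift_snd] at h₁ h₂
      have ep : p = lift (p ≫ fst G X) (p ≫ snd G X) := by ext <;> simp
      have eq : q = lift (q ≫ fst G X) (q ≫ snd G X) := by ext <;> simp
      rw [ep, eq, ← h₂] at h₁
      have key : lift ((q ≫ fst G X)⁻¹ * (p ≫ fst G X)) (p ≫ snd G X) ≫ a.act = p ≫ snd G X := by
        rw [Groth.Agent.GrpSch.act_mul, h₁, ← Groth.Agent.GrpSch.act_mul, inv_mul_cancel,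
          Groth.Agent.GrpSch.act_one]
      have := h T _ _ key
      rw [← Groth.Agent.GrpSch.one_eq_toUnit, inv_mul_eq_one] at this
      rw [ep, eq, h₂, this]
    exact inferInstanceAs (Mono ((Over.forget S).map (lift a.act (snd G X))))
  · intro h T g x hgx
    have : Mono (lift a.act (snd G X)) := (Over.forget S).mono_of_mono_map h
    have e : lift g x ≫ lift a.act (snd G X) = lift (1 : T ⟶ G) x ≫ lift a.act (snd G X) := by
      rw [comp_lift, comp_lift, hgx, Groth.Agent.GrpSch.act_one, lift_snd, lift_snd]
    rw [cancel_mono] at e
    have := e =≫ fst G X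
    simpa [Groth.Agent.GrpSch.one_eq_toUnit] using this

end Groth.Agent.S7494
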