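import Groth.Statements.S7496
-- import your own Groth.Agent.* helpers here

set_option autoImplicit false
universe w u
open CategoryTheory CategoryTheory.Limits AlgebraicGeometry
open HTop

namespace Groth.Agent.S7496

/-- Let T be a quasi-separated scheme and {f_i : T_i -> T} a family of morphisms. Then every affine open
of T is the union of the images of finitely many quasi-compact opens of the T_i (the
quasi-compactness condition in the definition of an fpqc covering) if and only if for every point t
of T there are finitely many quasi-compact opens U_j of members T_(i_j) such that the union of the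
f_(i_j)(U_j) is a neighbourhood of t. (The published statement also asks every f_i to be flat, on
both sides, and lists two more equivalent forms of the quasi-compactness condition; this row omits
flatness, which plays no part in the equivalence, and states only the equivalence of the
quasi-compactness condition with the neighbourhood condition.) -/
theorem result {T : Scheme.{u}} [QuasiSeparatedSpace T] (E : PreZeroHypercover.{w} T) : QuasiCompactCover E ↔ ∀ t : T, ∃ (n : ℕ) (i : Fin n → E.I₀) (V : ∀ j, (E.X (i j)).Opens), (∀ j, IsCompact (V j : Set (E.X (i j)))) ∧ (⋃ j, ⇑(E.f (i j)) '' (V j : Set (E.X (i j)))) ∈ nhds t := by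
  constructor
  · intro hE t
    obtain ⟨U, hU, htU, -⟩ := TopologicalSpace.Opens.isBasis_iff_nbhd.mp T.isBasis_affineOpens
      (show t ∈ (⊤ : T.Opens) from trivial)
    obtain ⟨n, a, V, hV, heq⟩ := QuasiCompactCover.exists_isAffineOpen_of_isCompact E hU.isCompact
    exact ⟨n, a, V, fun j => (hV j).isCompact, heq ▸ U.2.mem_nhds htU⟩
  · intro H
    refine ⟨fun {U} hU => .of_isCompact_of_forall_exists_isCompactOpenCovered hU.isCompact fun t ht => ?_⟩
    obtain ⟨n, a, V, hV, hn⟩ := H t
    obtain ⟨O, hO, hOo, htO⟩ := mem_nhds_iff.mp hn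
    obtain ⟨W, hW, htW, hWle⟩ := TopologicalSpace.Opens.isBasis_iff_nbhd.mp T.isBasis_affineOpens
      (show t ∈ U ⊓ (⟨O, hOo⟩ : T.Opens) from ⟨ht, htO⟩)
    refine ⟨W, fun x hx => (hWle hx).1, htW, W.2, ?_⟩
    refine .of_finite a (fun j => V j ⊓ (E.f (a j)) ⁻¹ᵁ W) (fun j => ?_) ?_
    · have : CompactSpace (V j : Scheme.{u}) := isCompact_iff_compactSpace.mp (hV j)
      have h1 : QuasiCompact ((V j).ι ≫ E.f (a j)) := inferInstance
      have h2 := (((V j).ι ≫ E.f (a j)).isCompact_preimage hW.isCompact).image (V j).ι.continuous
      convert h2 using 1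
      ext x
      constructor
      · rintro ⟨hx1, hx2⟩
        exact ⟨⟨x, hx1⟩, hx2, rfl⟩
      · rintro ⟨⟨y, hy⟩, hy2, rfl⟩
        exact ⟨hy, hy2⟩
    · apply subset_antisymm
      · rintro x hx
        simp only [Set.mem_iUnion, Set.mem_image] at hx
        obtain ⟨j, y, ⟨-, hy⟩, rfl⟩ := hx
        exact hy
      · intro x hx
        have := hO (hWle hx).2
        simp only [Set.mem_iUnion, Set.mem_image] at this ⊢
        obtain ⟨j, y, hy, rfl⟩ := this
        exact ⟨j, y, ⟨hy, hx⟩, rfl⟩

end Groth.Agent.S7496
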