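import Groth.Statements.S7497
-- import your own Groth.Agent.* helpers here

set_option autoImplicit false
universe u
open CategoryTheory CategoryTheory.Limits AlgebraicGeometry
open HTop

namespace Groth.Agent.S7497

/-- Let {f_i : T_i -> T} be a family of flat morphisms of schemes and {g_j : S_j -> T} an fpqc covering
such that for every j the family of base changes {S_j x_T T_i -> S_j} is an fpqc covering. Then {f_i
: T_i -> T} is an fpqc covering. (fpqc coverings are Mathlib's: flat, jointly surjective, every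
affine open of the target covered by images of finitely many quasi-compact opens.) -/
theorem result {T : Scheme.{u}} (E : PreZeroHypercover.{u} T) (hflat : ∀ i, Flat (E.f i)) (𝒱 : Scheme.Cover Scheme.fpqcPrecoverage T) (hloc : ∀ j, (E.pullback₁ (𝒱.f j)).presieve₀ ∈ Scheme.fpqcPrecoverage (𝒱.X j)) : E.presieve₀ ∈ Scheme.fpqcPrecoverage T := by
  have h2 : 𝒱.presieve₀ ∈ Scheme.fpqcPrecoverage T := 𝒱.mem₀
  obtain ⟨h2q, h2s⟩ : 𝒱.presieve₀ ∈ Scheme.qcPrecoverage T ∧ 𝒱.presieve₀ ∈ Scheme.precoverage @Flat T := h2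
  rw [Scheme.presieve₀_mem_qcPrecoverage_iff] at h2q
  have hq : ∀ j, QuasiCompactCover (E.pullback₁ (𝒱.f j)) := fun j =>
    Scheme.presieve₀_mem_qcPrecoverage_iff.mp (hloc j).1
  refine ⟨?_, ?_⟩
  · rw [Scheme.presieve₀_mem_qcPrecoverage_iff]
    refine ⟨fun {U} hU => ?_⟩
    obtain ⟨n, a, V, hV, hVU⟩ := QuasiCompactCover.exists_isAffineOpen_of_isCompact 𝒱.toPreZeroHypercover hU.isCompact
    choose m b W hW hWV using fun k =>
      (hq (a k)).exists_isAffineOpen_of_isCompact _ (hV k).isCompact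
    refine IsCompactOpenCovered.of_comp (σ := Σ k : Fin n, Fin (m k))
      (Y := fun p => ↥((E.pullback₁ (𝒱.f (a p.1))).X (b p.1 p.2)))
      (fun p x => (𝒱.f (a p.1)) ((pullback.fst (𝒱.f (a p.1)) (E.f (b p.1 p.2))) x))
      (a := fun p => b p.1 p.2)
      (fun p x => (pullback.snd (𝒱.f (a p.1)) (E.f (b p.1 p.2))) x)
      (fun p => Scheme.Hom.continuous _) (fun p => funext fun x => ?_)
      (fun i => Scheme.Hom.continuous _) U.2 ?_
    · show _ = (E.f (b p.1 p.2)) _
      exact (Scheme.Hom.comp_apply _ _ x).symm.trans ((congrArg (fun q : _ ⟶ T => q x)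
        (pullback.condition (f := 𝒱.f (a p.1)) (g := E.f (b p.1 p.2)))).trans (Scheme.Hom.comp_apply _ _ x))
    · refine IsCompactOpenCovered.of_finite (fun p : Σ k : Fin n, Fin (m k) => p) (fun p => W p.1 p.2)
        (fun p => (hW p.1 p.2).isCompact) ?_
      rw [← hVU]
      simp only [Set.iUnion_sigma, ← hWV, Set.image_iUnion, Set.image_image]
      rfl
  · refine (Scheme.presieve₀_mem_precoverage_iff E).mpr ?_
    refine ⟨fun t => ?_, hflat⟩
    obtain ⟨j, s, rfl⟩ := ((Scheme.presieve₀_mem_precoverage_iff _).mp h2s).1 t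
    obtain ⟨i, z, rfl⟩ := ((Scheme.presieve₀_mem_precoverage_iff _).mp (hloc j).2).1 s
    refine ⟨i, (pullback.snd (𝒱.f j) (E.f i)) z, ?_⟩
    show (E.f i) _ = (𝒱.f j) ((pullback.fst (𝒱.f j) (E.f i)) z)
    exact (Scheme.Hom.comp_apply _ _ z).symm.trans ((congrArg (fun q : _ ⟶ T => q z)
      (pullback.condition (f := 𝒱.f j) (g := E.f i))).symm.trans (Scheme.Hom.comp_apply _ _ z))

end Groth.Agent.S7497
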