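import Mathlib
import Groth.Statements.S7498
-- import your own Groth.Agent.* helpers here

set_option autoImplicit false
set_option backward.isDefEq.respectTransparency false
set_option backward.isDefEq.respectTransparency.types false
universe u
open CategoryTheory CategoryTheory.Limits AlgebraicGeometry
open Grpd

namespace Groth.Agent.S7498

variable {S : Scheme.{u}} (G : Grpd.GroupoidScheme S)

/-- composition of `T`-points, with proof argument -/
noncomputable def mul {T : Scheme.{u}} (α β : T ⟶ G.R) (h : α ≫ G.s = β ≫ G.t) : T ⟶ G.R :=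
  Limits.pullback.lift α β h ≫ G.c

lemma mul_s {T : Scheme.{u}} (α β : T ⟶ G.R) (h) : mul G α β h ≫ G.s = β ≫ G.s := G.comp_s α β h

lemma mul_congr {T : Scheme.{u}} {α β α' β' : T ⟶ G.R} (h) (h') (e₁ : α = α') (e₂ : β = β') :
    mul G α β h = mul G α' β' h' := by subst e₁; subst e₂; rfl

lemma mul_assoc' {T : Scheme.{u}} (α β γ : T ⟶ G.R) (h₁ : α ≫ G.s = β ≫ G.t) (h₂ : β ≫ G.s = γ ≫ G.t) :
    mul G (mul G α β h₁) γ ((G.comp_s α β h₁).trans h₂) =
      mul G α (mul G β γ h₂) (h₁.trans (G.comp_t β γ h₂).symm) := G.assoc α β γ h₁ h₂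

lemma mul_inv_cancel_right' {T : Scheme.{u}} (α β : T ⟶ G.R) (h : α ≫ G.s = β ≫ G.t) :
    mul G (mul G α β h) (β ≫ G.i) (by rw [mul_s, Category.assoc, G.i_t]) = α := by
  rw [mul_assoc' G α β (β ≫ G.i) h (by rw [Category.assoc, G.i_t])]
  refine (mul_congr G _ (by simp only [Category.assoc, G.e_t, Category.comp_id]) rfl ?_).trans (G.comp_e α)
  exact (G.comp_i β).trans (by rw [reassoc_of% h])

lemma mul_inv_cancel_right'' {T : Scheme.{u}} (α β : T ⟶ G.R) (h : α ≫ G.s = β ≫ G.s) :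
    mul G (mul G α (β ≫ G.i) (by rw [Category.assoc, G.i_t, h])) β
      (by rw [mul_s, Category.assoc, G.i_s]) = α := by
  rw [mul_assoc' G α (β ≫ G.i) β (by rw [Category.assoc, G.i_t, h]) (by rw [Category.assoc, G.i_s])]
  refine (mul_congr G _ (by simp only [Category.assoc, G.e_t, Category.comp_id]) rfl ?_).trans (G.comp_e α)
  exact (G.i_comp β).trans (by rw [reassoc_of% h])

/-- translation: `z ↦ z ∘ p⁻¹ ∘ q` -/
noncomputable def tr {T : Scheme.{u}} (z p q : T ⟶ G.R) (h : z ≫ G.s = p ≫ G.s) (hpq : p ≫ G.t = q ≫ G.t) : T ⟶ G.R :=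
  mul G (mul G z (p ≫ G.i) (by rw [Category.assoc, G.i_t, h])) q
    (by rw [mul_s, Category.assoc, G.i_s, hpq])

lemma tr_s {T : Scheme.{u}} (z p q : T ⟶ G.R) (h) (hpq) : tr G z p q h hpq ≫ G.s = q ≫ G.s := mul_s G _ _ _

lemma tr_tr {T : Scheme.{u}} (z p q : T ⟶ G.R) (h) (hpq) :
    tr G (tr G z p q h hpq) q p (tr_s G z p q h hpq) hpq.symm = z := by
  refine (mul_congr G _ (by rw [mul_s, Category.assoc, G.i_s]) (mul_inv_cancel_right' G _ _ _) rfl).trans ?_
  exact mul_inv_cancel_right'' G z p h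

lemma tr_self {T : Scheme.{u}} (p q : T ⟶ G.R) (hpq : p ≫ G.t = q ≫ G.t) : tr G p p q rfl hpq = q := by
  refine (mul_congr G _ (by simp only [Category.assoc, G.e_s, Category.comp_id, hpq]) (G.comp_i p) rfl).trans ?_
  refine (mul_congr G _ (by simp only [Category.assoc, G.e_s, Category.comp_id]) ?_ rfl).trans (G.e_comp q)
  rw [reassoc_of% hpq]

lemma comp_mul {T T' : Scheme.{u}} (m : T' ⟶ T) (α β : T ⟶ G.R) (h : α ≫ G.s = β ≫ G.t) :
    m ≫ mul G α β h = mul G (m ≫ α) (m ≫ β) (by rw [Category.assoc, Category.assoc, h]) := by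
  rw [mul, mul, ← Category.assoc]
  congr 1
  apply Limits.pullback.hom_ext <;> simp

lemma comp_tr {T T' : Scheme.{u}} (m : T' ⟶ T) (z p q : T ⟶ G.R) (h) (hpq) :
    m ≫ tr G z p q h hpq = tr G (m ≫ z) (m ≫ p) (m ≫ q) (by rw [Category.assoc, Category.assoc, h])
      (by rw [Category.assoc, Category.assoc, hpq]) := by
  rw [tr, comp_mul]
  refine mul_congr G _ _ ?_ rfl
  rw [comp_mul]
  exact mul_congr G _ _ rfl (Category.assoc _ _ _).symm

lemma tr_congr {T : Scheme.{u}} {z p q z' p' q' : T ⟶ G.R} (h) (hpq) (h') (hpq')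
    (e₁ : z = z') (e₂ : p = p') (e₃ : q = q') : tr G z p q h hpq = tr G z' p' q' h' hpq' := by
  subst e₁; subst e₂; subst e₃; rfl

/-- Let (U, R, s, t, c) be a groupoid scheme over S and r, r' points of R with t(r) = t(r'); put u =
s(r), u' = s(r') and let F_u, F_u' be the scheme-theoretic fibres of s. Then there are a field k
which is a common extension of κ(u) and κ(u') (morphisms a, b : Spec k -> U with images u, u') and
an isomorphism of the base changes (F_u)_k and (F_u')_k over Spec k, which moreover can be chosen to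
send some point lying over r to a point lying over r'. (The published statement also compares the
germs of s at r and at r' when s and t are flat or flat of finite presentation; this row omits
that.) (A groupoid scheme carries U, R, s, t, c, e, i over S with the groupoid axioms on T-points; c
is defined on the fibre product of s and t and sends a pair (a, b) with s(a) = t(b) to a composed
with b.) -/
theorem result (S : Scheme.{u}) (G : Grpd.GroupoidScheme S) (r r' : G.R) (h : G.t r = G.t r') : ∃ (k : Type u) (_ : Field k) (a b : Spec (CommRingCat.of k) ⟶ G.U) (φ : pullback G.s a ≅ pullback G.s b) (p : ↑(pullback G.s a)), a (IsLocalRing.closedPoint k) = G.s r ∧ b (IsLocalRing.closedPoint k) = G.s r' ∧ φ.hom ≫ pullback.snd G.s b = pullback.snd G.s a ∧ pullback.fst G.s a p = r ∧ pullback.fst G.s b (φ.hom p) = r' := by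
  obtain ⟨w, hw₁, hw₂⟩ := Scheme.Pullback.exists_preimage_pullback (f := G.t) (g := G.t) r r' h
  let W := Limits.pullback G.t G.t
  let K := W.residueField w
  let ρ : Spec K ⟶ G.R := W.fromSpecResidueField w ≫ Limits.pullback.fst G.t G.t
  let ρ' : Spec K ⟶ G.R := W.fromSpecResidueField w ≫ Limits.pullback.snd G.t G.t
  have hρ : ρ ≫ G.t = ρ' ≫ G.t := by simp only [ρ, ρ', Category.assoc, Limits.pullback.condition]
  have hρr : ρ (IsLocalRing.closedPoint K) = r := by
    show (W.fromSpecResidueField w ≫ Limits.pullback.fst G.t G.t) _ = r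
    rw [Scheme.Hom.comp_apply, Scheme.fromSpecResidueField_apply, hw₁]
  have hρ'r : ρ' (IsLocalRing.closedPoint K) = r' := by
    show (W.fromSpecResidueField w ≫ Limits.pullback.snd G.t G.t) _ = r'
    rw [Scheme.Hom.comp_apply, Scheme.fromSpecResidueField_apply, hw₂]
  have mk : ∀ (x y : Spec K ⟶ G.R) (hxy : x ≫ G.t = y ≫ G.t),
      Limits.pullback.fst G.s (x ≫ G.s) ≫ G.s = (Limits.pullback.snd G.s (x ≫ G.s) ≫ x) ≫ G.s ∧
      (Limits.pullback.snd G.s (x ≫ G.s) ≫ x) ≫ G.t = (Limits.pullback.snd G.s (x ≫ G.s) ≫ y) ≫ G.t := by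
    intro x y hxy
    simp only [Category.assoc, hxy, Limits.pullback.condition, and_self]
  let Φ : ∀ (x y : Spec K ⟶ G.R) (hxy : x ≫ G.t = y ≫ G.t),
      Limits.pullback G.s (x ≫ G.s) ⟶ Limits.pullback G.s (y ≫ G.s) := fun x y hxy =>
    Limits.pullback.lift (tr G _ _ _ (mk x y hxy).1 (mk x y hxy).2) (Limits.pullback.snd _ _)
      (by rw [tr_s, Category.assoc])
  have inv : ∀ (x y : Spec K ⟶ G.R) (hxy : x ≫ G.t = y ≫ G.t), Φ x y hxy ≫ Φ y x hxy.symm = 𝟙 _ := by
    intro x y hxy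
    apply Limits.pullback.hom_ext
    · simp only [Φ, Category.assoc, Limits.pullback.lift_fst, Category.id_comp]
      rw [comp_tr]
      refine (tr_congr G _ _ (tr_s G _ _ _ _ _) (mk x y hxy).2.symm ?_ ?_ ?_).trans (tr_tr G _ _ _ (mk x y hxy).1 (mk x y hxy).2)
      · exact Limits.pullback.lift_fst _ _ _
      · rw [Limits.pullback.lift_snd_assoc]
      · rw [Limits.pullback.lift_snd_assoc]
    · simp [Φ]
  let φ : Limits.pullback G.s (ρ ≫ G.s) ≅ Limits.pullback G.s (ρ' ≫ G.s) :=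
    ⟨Φ ρ ρ' hρ, Φ ρ' ρ hρ.symm, inv ρ ρ' hρ, inv ρ' ρ hρ.symm⟩
  let P : Spec K ⟶ Limits.pullback G.s (ρ ≫ G.s) := Limits.pullback.lift ρ (𝟙 _) (by rw [Category.id_comp])
  have hP : P ≫ Φ ρ ρ' hρ ≫ Limits.pullback.fst G.s (ρ' ≫ G.s) = ρ' := by
    simp only [Φ, Limits.pullback.lift_fst]
    rw [comp_tr]
    refine (tr_congr G _ _ rfl hρ ?_ ?_ ?_).trans (tr_self G ρ ρ' hρ) <;> simp [P] <;> exact Category.id_comp _
  refine ⟨K, inferInstance, ρ ≫ G.s, ρ' ≫ G.s, φ, P (IsLocalRing.closedPoint K), ?_, ?_, ?_, ?_, ?_⟩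
  · show (ρ ≫ G.s) _ = _
    rw [Scheme.Hom.comp_apply, hρr]
  · show (ρ' ≫ G.s) _ = _
    rw [Scheme.Hom.comp_apply, hρ'r]
  · exact Limits.pullback.lift_snd _ _ _
  · rw [← Scheme.Hom.comp_apply]; simp only [P, Limits.pullback.lift_fst]; exact hρr
  · rw [← Scheme.Hom.comp_apply, ← Scheme.Hom.comp_apply]
    exact (congrArg (fun m : Spec K ⟶ G.R => m (IsLocalRing.closedPoint K)) hP).trans hρ'r

end Groth.Agent.S7498
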