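import Groth.Statements.S7509
import Groth.Agent.GrpdSep.ImageGrpd
import Groth.Agent.GrpdSep.Field

set_option autoImplicit false
set_option backward.isDefEq.respectTransparency false
universe u
open CategoryTheory CategoryTheory.Limits AlgebraicGeometry
open Grpd

namespace Groth.Agent.S7509

/-- Let (U, R, s, t, c) be a groupoid scheme over S with U the spectrum of a field and R quasi-compact
(equivalently s, t quasi-compact), and let Z be the scheme-theoretic image of j = (t, s) : R -> U
x_S U. Then (U, Z, pr_0|_Z, pr_1|_Z, pr_02) is a groupoid scheme over S; stated as: there are a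
groupoid scheme G' over S and a morphism of groupoid schemes φ : (U, R, s, t, c) -> G' which is an
isomorphism on object schemes, such that j' : G'.R -> G'.U x_S G'.U is a closed immersion whose
kernel ideal sheaf equals the kernel ideal sheaf of j followed by the induced isomorphism U x_S U ->
G'.U x_S G'.U (so G'.R is the scheme-theoretic image of j, transported). (A groupoid scheme carries
U, R, s, t, c, e, i over S with the groupoid axioms on T-points; c is defined on the fibre product
of s and t and sends a pair (a, b) with s(a) = t(b) to a composed with b.) -/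
theorem result (S : Scheme.{u}) (G : Grpd.GroupoidScheme S) (k : Type u) [Field k] (eU : G.U ≅ Spec (CommRingCat.of k)) [CompactSpace G.R] : ∃ (G' : Grpd.GroupoidScheme S) (φ : Grpd.GroupoidScheme.Hom G G'), IsIso φ.fU ∧ IsClosedImmersion G'.j ∧ G'.j.ker = (G.j ≫ pullback.map G.pU G.pU G'.pU G'.pU φ.fU φ.fU (𝟙 S) ((Category.comp_id _).trans φ.fU_over.symm) ((Category.comp_id _).trans φ.fU_over.symm)).ker := by
    haveI := Groth.Agent.GrpdSep.subsingleton_U eU
    haveI := Groth.Agent.GrpdSep.isIntegral_U eU
    haveI := Groth.Agent.GrpdSep.isAffine_U eU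
    let f := Groth.Agent.GrpdSep.ImageGrpd.toPair G
    haveI : IsSeparated (G.pU ≫ terminal.from S) := by rw [terminal.comp_from]; infer_instance
    haveI : IsSeparated G.pU := IsSeparated.of_comp G.pU (terminal.from S)
    haveI : IsSeparated (pullback.snd G.pU G.pU) := MorphismProperty.pullback_snd _ _ inferInstance
    haveI : (pullback G.pU G.pU).IsSeparated := ⟨by
      rw [← terminal.comp_from (pullback.snd G.pU G.pU)]; infer_instance⟩
    haveI : QuasiCompact G.j := by
      haveI : QuasiSeparated (terminal.from (pullback G.pU G.pU)) := inferInstance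
      haveI : QuasiCompact (G.j ≫ terminal.from (pullback G.pU G.pU)) := by
        rw [terminal.comp_from]; exact (quasiCompact_iff_compactSpace _).2 inferInstance
      exact QuasiCompact.of_comp G.j (terminal.from (pullback G.pU G.pU))
    haveI : QuasiCompact f.fR := ‹QuasiCompact G.j›
    haveI : IsIso f.fU := inferInstanceAs (IsIso (𝟙 G.U))
    haveI : Subsingleton (Groth.Agent.GrpdSep.ImageGrpd.pairGrpd G.pU).U := inferInstanceAs (Subsingleton G.U)
    haveI : IsIntegral (Groth.Agent.GrpdSep.ImageGrpd.pairGrpd G.pU).U := inferInstanceAs (IsIntegral G.U)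
    obtain ⟨G', ψ, hiso, π, hci, hfac, hker⟩ := Groth.Agent.GrpdSep.ImageGrpd.exists_image f
    haveI := hci
    let φU : G.U ⟶ G'.U := inv ψ.fU
    let φ : Grpd.GroupoidScheme.Hom G G' :=
      { fU := φU, fR := π
        fU_over := by rw [IsIso.inv_comp_eq]; exact ψ.fU_over.symm
        comm_s := by
          rw [← cancel_mono ψ.fU, Category.assoc, ← ψ.comm_s, reassoc_of% hfac, Category.assoc, IsIso.inv_hom_id,
            Category.comp_id]
          exact pullback.lift_snd _ _ _
        comm_t := by
          rw [← cancel_mono ψ.fU, Category.assoc, ← ψ.comm_t, reassoc_of% hfac, Category.assoc, IsIso.inv_hom_id,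
            Category.comp_id]
          exact pullback.lift_fst _ _ _
        comm_c := fun α β h => by
          rw [← cancel_mono ψ.fR]
          refine ((Category.assoc _ _ _).trans (congrArg ((pullback.lift α β h ≫ G.c) ≫ ·) hfac)).trans (Eq.trans ?_ (ψ.comm_c _ _ _).symm)
          refine (f.comm_c α β h).trans ?_
          congr 1
          exact pullback.hom_ext (by simp [hfac]) (by simp [hfac]) }
    let m : pullback G'.pU G'.pU ⟶ pullback G.pU G.pU :=
      pullback.map G'.pU G'.pU G.pU G.pU ψ.fU ψ.fU (𝟙 S)
        ((Category.comp_id _).trans ψ.fU_over.symm) ((Category.comp_id _).trans ψ.fU_over.symm)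
    haveI : IsIso m := inferInstance
    have hj : G'.j ≫ m = ψ.fR := by
      apply pullback.hom_ext
      · simp only [m, Category.assoc, pullback.lift_fst, Grpd.GroupoidScheme.j, pullback.lift_fst_assoc]
        exact ψ.comm_t.symm
      · simp only [m, Category.assoc, pullback.lift_snd, Grpd.GroupoidScheme.j, pullback.lift_snd_assoc]
        exact ψ.comm_s.symm
    have hj' : G'.j = ψ.fR ≫ inv m := by rw [← hj, Category.assoc, IsIso.hom_inv_id, Category.comp_id]
    refine ⟨G', φ, inferInstanceAs (IsIso (inv ψ.fU)), by rw [hj']; infer_instance, ?_⟩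
    rw [hj', Scheme.Hom.ker_comp, hker, ← Scheme.Hom.ker_comp]
    congr 1
    rw [IsIso.comp_inv_eq, Category.assoc]
    refine (Category.comp_id _).symm.trans (congrArg (G.j ≫ ·) ?_)
    apply pullback.hom_ext
    · simp only [m, φ, φU, Category.assoc, pullback.lift_fst, pullback.lift_fst_assoc, Category.id_comp]
      simp
    · simp only [m, φ, φU, Category.assoc, pullback.lift_snd, pullback.lift_snd_assoc, Category.id_comp]
      simp

end Groth.Agent.S7509
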