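import Groth.Statements.S7511
-- import your own Groth.Agent.* helpers here

set_option autoImplicit false
universe u
open CategoryTheory CategoryTheory.Limits AlgebraicGeometry
open HTop

namespace Groth.Agent.S7511

set_option backward.isDefEq.respectTransparency.types false in
/-- Let {f_i : T_i -> T} be a family of morphisms of schemes (indexed by a type in the universe of T, so
that the coproduct exists). Then it is an fpqc covering if and only if the one-arrow family
consisting of the induced morphism from the coproduct of the T_i to T is an fpqc covering. -/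
theorem result {T : Scheme.{u}} (E : PreZeroHypercover.{u} T) : E.presieve₀ ∈ Scheme.fpqcPrecoverage T ↔ Presieve.singleton (Sigma.desc E.f) ∈ Scheme.fpqcPrecoverage T := by
  show _ ∈ Scheme.qcPrecoverage T ∧ _ ∈ Scheme.precoverage @Flat T ↔
    _ ∈ Scheme.qcPrecoverage T ∧ _ ∈ Scheme.precoverage @Flat T
  refine and_congr ?_ ?_
  · rw [← Presieve.ofArrows_pUnit.{0}]
    change _ ↔ (PreZeroHypercover.singleton (Sigma.desc E.f)).presieve₀ ∈ _
    rw [Scheme.presieve₀_mem_qcPrecoverage_iff, Scheme.presieve₀_mem_qcPrecoverage_iff]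
    constructor
    · intro hE
      exact QuasiCompactCover.of_hom (𝒱 := E) ⟨fun _ => PUnit.unit, fun i => Sigma.ι E.X i, fun i => Sigma.ι_desc _ _⟩
    · intro hS
      refine ⟨fun {U} hU => ?_⟩
      rw [IsCompactOpenCovered.iff_isCompactOpenCovered_sigmaMk, IsCompactOpenCovered.iff_of_unique]
      obtain ⟨V, hV, hVeq⟩ := IsCompactOpenCovered.iff_of_unique.mp (hU.isCompactOpenCovered (PreZeroHypercover.singleton (Sigma.desc E.f)))
      have hc : IsCompact ((AlgebraicGeometry.sigmaMk E.X) ⁻¹' (V.carrier : Set ↥(∐ E.X))) :=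
        (AlgebraicGeometry.sigmaMk E.X).isCompact_preimage.mpr hV
      refine ⟨⟨(AlgebraicGeometry.sigmaMk E.X) ⁻¹' (V.carrier : Set ↥(∐ E.X)), V.2.preimage (AlgebraicGeometry.sigmaMk E.X).continuous⟩,
        hc, ?_⟩
      rw [← hVeq]
      ext x
      constructor
      · rintro ⟨⟨i, y⟩, hy, rfl⟩
        refine ⟨_, hy, ?_⟩
        show (Sigma.desc E.f) _ = _
        rw [AlgebraicGeometry.sigmaMk_mk, ← Scheme.Hom.comp_apply, Sigma.ι_desc]
      · rintro ⟨z, hz, rfl⟩
        obtain ⟨⟨i, y⟩, rfl⟩ := (AlgebraicGeometry.sigmaMk E.X).surjective z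
        refine ⟨⟨i, y⟩, hz, ?_⟩
        show (E.f i) y = (Sigma.desc E.f) _
        rw [AlgebraicGeometry.sigmaMk_mk, ← Scheme.Hom.comp_apply, Sigma.ι_desc]
  · rw [Scheme.singleton_mem_precoverage_iff]
    show Presieve.ofArrows E.X E.f ∈ _ ↔ _
    rw [Scheme.ofArrows_mem_precoverage_iff]
    constructor
    · rintro ⟨hs, hf⟩
      exact ⟨(Surjective.sigmaDesc_of_union_range_eq_univ
        (Set.eq_univ_of_forall fun x => Set.mem_iUnion.mpr (hs x))).surj, IsZariskiLocalAtSource.sigmaDesc hf⟩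
    · rintro ⟨hs, hf⟩
      refine ⟨fun x => ?_, fun i => Sigma.ι_desc E.f i ▸ (inferInstance : Flat (Sigma.ι E.X i ≫ Sigma.desc E.f))⟩
      obtain ⟨z, rfl⟩ := hs x
      obtain ⟨⟨i, y⟩, rfl⟩ := (AlgebraicGeometry.sigmaMk E.X).surjective z
      refine ⟨i, y, ?_⟩
      show (E.f i) y = (Sigma.desc E.f) _
      rw [AlgebraicGeometry.sigmaMk_mk, ← Scheme.Hom.comp_apply, Sigma.ι_desc]

end Groth.Agent.S7511
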