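import Groth.Statements.S7512
import Mathlib.AlgebraicGeometry.Sites.Fpqc

set_option autoImplicit false
universe w u
open HTop

namespace Groth.Agent.S7512

open CategoryTheory CategoryTheory.Limits AlgebraicGeometry in
/-- Let {f_i : T_i -> T} be a family of flat morphisms of schemes. Assume that for every affine scheme Z
and every morphism h : Z -> T there is a standard fpqc covering of Z (a finite family of flat
morphisms Z_j -> Z with Z_j affine whose images cover Z) refining the family of base changes {T_i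
x_T Z -> Z} (every Z_j -> Z factors through some T_i compatibly with h). Then {f_i : T_i -> T} is an
fpqc covering (in Mathlib's sense). -/
theorem result {T : Scheme.{u}} (E : PreZeroHypercover.{w} T) (hflat : ∀ i, Flat (E.f i)) (href : ∀ (Z : Scheme.{u}) [IsAffine Z] (h : Z ⟶ T), ∃ F : PreZeroHypercover.{0} Z, Finite F.I₀ ∧ (∀ j, IsAffine (F.X j)) ∧ (∀ j, Flat (F.f j)) ∧ (∀ z : Z, ∃ (j : F.I₀) (x : F.X j), F.f j x = z) ∧ HTop.RefinesOver h F E) : E.presieve₀ ∈ Scheme.fpqcPrecoverage T := by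
  have key : ∀ U : T.affineOpens, IsCompactOpenCovered (E.f ·) ((U : T.Opens) : Set T) := fun U => by
    haveI : IsAffine ((U : T.Opens) : Scheme.{u}) := U.2
    obtain ⟨F, hfin, haff, -, hsurj, hFE⟩ := href ((U : T.Opens) : Scheme.{u}) (U : T.Opens).ι
    haveI := hfin
    haveI := haff
    choose a b hb using hFE
    refine IsCompactOpenCovered.of_comp (g := fun j => (F.f j ≫ (U : T.Opens).ι : _ → T)) (a := a)
      (fun j => (b j : F.X j → E.X (a j))) (fun j => (b j).continuous) (fun j => ?_)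
      (fun i => (E.f i).continuous) (U : T.Opens).2
      ⟨Set.univ, Set.finite_univ, fun _ _ => ⊤, fun j _ => isCompact_univ, ?_⟩
    · rw [← hb j]; rfl
    · apply Set.Subset.antisymm
      · intro t ht
        obtain ⟨j, -, x, -, rfl⟩ := Set.mem_iUnion₂.mp ht
        exact (F.f j x).2
      · intro t ht
        obtain ⟨j, x, hx⟩ := hsurj ⟨t, ht⟩
        exact Set.mem_iUnion₂.mpr ⟨j, trivial, x, trivial, congrArg Subtype.val hx⟩
  refine ⟨Scheme.presieve₀_mem_qcPrecoverage_iff.mpr ⟨fun {U} hU => key ⟨U, hU⟩⟩,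
    (Scheme.ofArrows_mem_precoverage_iff @Flat).mpr ⟨fun t => ?_, hflat⟩⟩
  obtain ⟨_, ⟨U, hU, rfl⟩, htU, -⟩ := T.isBasis_affineOpens.exists_subset_of_mem_open (Set.mem_univ t) isOpen_univ
  obtain ⟨s, -, V, -, hcov⟩ := key ⟨U, hU⟩
  obtain ⟨i, hi, x, -, hx⟩ := Set.mem_iUnion₂.mp (hcov.ge htU)
  exact ⟨i, x, hx⟩

end Groth.Agent.S7512
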