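import Groth.Statements.S7521
import Groth.Agent.GenLocus.Ample
import Groth.Agent.SchDescent.FiniteOrbit


set_option autoImplicit false
open CategoryTheory CategoryTheory.Limits AlgebraicGeometry
universe u
open Desc

namespace Groth.Agent.S7521

/-- Let p : X -> Y be a surjective finite locally free morphism and V a scheme over X which has an
invertible module ample relative to V -> X. Then every descent datum on V relative to p is
effective. (A quasi-projective morphism V -> X, in particular a projective one, carries such a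
module.) (Descent data are taken in functor-of-points form.) -/
theorem result {X Y : Scheme.{u}} (p : X ⟶ Y) [Surjective p] [IsFinite p] [Flat p] [LocallyOfFinitePresentation p] (D : Desc.SchDD p) (L : D.obj.left.Modules) (hL : RelAmple.IsRelAmple D.obj.hom L) : ∃ W : Over Y, Nonempty ((Desc.toDD p).obj W ≅ D) := by
  open Groth.Agent.SchDescent in
  refine effective_of_finite D fun a ↦ ?_
  obtain ⟨U, hU, hyU, -⟩ := TopologicalSpace.Opens.isBasis_iff_nbhd.1 Y.isBasis_affineOpens
    (show toBase D a ∈ (⊤ : Y.Opens) from trivial)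
  have hV : IsAffineOpen (p ⁻¹ᵁ U) := hU.preimage p
  let O := D.obj.hom ⁻¹ᵁ (p ⁻¹ᵁ U)
  have hO : Groth.Agent.SchDescent.orbitSet D a ⊆ O := fun b hb ↦ by
    obtain ⟨ρ, ha, hb⟩ := hb
    have e : Groth.Agent.SchDescent.tgt D ≫ Groth.Agent.SchDescent.toBase D =
        Groth.Agent.SchDescent.src D ≫ Groth.Agent.SchDescent.toBase D := by
      exact (Groth.Agent.SchDescent.trans_base D _).trans (pullback.condition (f := Groth.Agent.SchDescent.toBase D) (g := p)).symm
    show Groth.Agent.SchDescent.toBase D b ∈ U
    rw [← hb, ← Scheme.Hom.comp_apply, e, Scheme.Hom.comp_apply, ha]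
    exact hyU
  have hamp := hL.2 ⟨_, hV⟩
  obtain ⟨n, s, hsub, -, hs⟩ := Groth.Agent.GenLocus.exists_affine_genLocus_of_finite hamp
    (Z := O.ι ⁻¹' Groth.Agent.SchDescent.orbitSet D a)
    ((Groth.Agent.SchDescent.orbitSet_finite D a).preimage O.ι.isOpenEmbedding.injective.injOn)
    ⊤ (Set.subset_univ _)
  refine ⟨O.ι ''ᵁ _, hs.image_of_isOpenImmersion O.ι, fun b hb ↦ ?_⟩
  exact ⟨⟨b, hO hb⟩, hsub hb, rfl⟩

end Groth.Agent.S7521
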