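import Groth.Statements.S7522
import Groth.Agent.GrpdSep.Field

set_option autoImplicit false
universe u
open CategoryTheory CategoryTheory.Limits AlgebraicGeometry
open Grpd

namespace Groth.Agent.S7522

/-- Let S be a scheme, U a scheme over S and j : R -> U x_S U a pre-equivalence relation, that is a
morphism such that for every scheme T the image of the T-points of R in pairs of T-points of U is an
equivalence relation; write t = pr_0 ∘ j and s = pr_1 ∘ j. Then the relation on the points of U in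
which x ∼ y when some point r of R has t(r) = x and s(r) = y is an equivalence relation. -/
theorem result {S U R : Scheme.{u}} (pU : U ⟶ S) (j : R ⟶ pullback pU pU) (hj : ∀ T : Scheme.{u}, Equivalence (fun a b : T ⟶ U => ∃ r : T ⟶ R, r ≫ j ≫ pullback.fst pU pU = a ∧ r ≫ j ≫ pullback.snd pU pU = b)) : Equivalence (fun x y : ↥U => ∃ r : R, (j ≫ pullback.fst pU pU) r = x ∧ (j ≫ pullback.snd pU pU) r = y) := by
    refine ⟨fun x => ?_, fun {x y} h => ?_, fun {x y z} h h' => ?_⟩
    · obtain ⟨r, h1, h2⟩ := (hj U).refl (𝟙 U)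
      exact ⟨r x, by rw [← Scheme.Hom.comp_apply, h1]; rfl, by rw [← Scheme.Hom.comp_apply, h2]; rfl⟩
    · obtain ⟨r, rfl, rfl⟩ := h
      obtain ⟨r', h1, h2⟩ := (hj R).symm (x := j ≫ pullback.fst pU pU) (y := j ≫ pullback.snd pU pU)
        ⟨𝟙 R, Category.id_comp _, Category.id_comp _⟩
      exact ⟨r' r, by rw [← Scheme.Hom.comp_apply, h1], by rw [← Scheme.Hom.comp_apply, h2]⟩
    · obtain ⟨r, rfl, hr⟩ := h
      obtain ⟨r', hr', rfl⟩ := h'
      obtain ⟨p, hp₁, hp₂⟩ := Scheme.Pullback.exists_preimage_pullback (f := j ≫ pullback.snd pU pU)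
        (g := j ≫ pullback.fst pU pU) r r' (hr.trans hr'.symm)
      let T := pullback (j ≫ pullback.snd pU pU) (j ≫ pullback.fst pU pU)
      let P₁ : T ⟶ R := pullback.fst _ _
      let P₂ : T ⟶ R := pullback.snd _ _
      obtain ⟨q, h1, h2⟩ := (hj T).trans (x := P₁ ≫ j ≫ pullback.fst pU pU) (y := P₁ ≫ j ≫ pullback.snd pU pU)
        (z := P₂ ≫ j ≫ pullback.snd pU pU) ⟨P₁, rfl, rfl⟩ ⟨P₂, pullback.condition.symm, rfl⟩
      refine ⟨q p, ?_, ?_⟩
      · rw [← Scheme.Hom.comp_apply, h1, Scheme.Hom.comp_apply, hp₁]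
      · rw [← Scheme.Hom.comp_apply, h2, Scheme.Hom.comp_apply, hp₂]

end Groth.Agent.S7522
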