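import Groth.Statements.S7527
import Groth.Agent.Spectral.Basic

set_option autoImplicit false
universe u
open SpecSp

namespace Groth.Agent.S7527

/-- Let X be a spectral space and x, y ∈ X. Then either there is a third point specializing to both x
and y, or there are disjoint open neighbourhoods of x and of y. -/
theorem result {X : Type u} [TopologicalSpace X] [SpectralSpace X] (x y : X) :
    (∃ z : X, z ⤳ x ∧ z ⤳ y) ∨
    (∃ U V : Set X, IsOpen U ∧ IsOpen V ∧ x ∈ U ∧ y ∈ V ∧ Disjoint U V) := by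
  open Groth.Agent.Spectral in
  by_contra! H
  obtain ⟨H1, H2⟩ := H
  let ι := {U : Set X // IsOpen U ∧ IsCompact U ∧ (x ∈ U ∨ y ∈ U)}
  have hempty : (Set.univ : Set (WithConstructibleTopology X)) ∩ (⋂ U : ι, ofCon ⁻¹' U.1) = ∅ := by
    refine Set.eq_empty_of_forall_notMem fun z hz => ?_
    have key : ∀ p : X, (p = x ∨ p = y) → ofCon z ⤳ p := by
      intro p hp
      refine specializes_iff_forall_open.2 fun s hs hps => ?_
      obtain ⟨U, ⟨hUo, hUc⟩, hpU, hUs⟩ :=
        (PrespectralSpace.isTopologicalBasis (X := X)).exists_subset_of_mem_open hps hs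
      have hU' : x ∈ U ∨ y ∈ U := by
        rcases hp with rfl | rfl
        · exact Or.inl hpU
        · exact Or.inr hpU
      exact hUs (Set.mem_iInter.1 hz.2 ⟨U, hUo, hUc, hU'⟩)
    exact H1 (ofCon z) (key x (Or.inl rfl)) (key y (Or.inr rfl))
  obtain ⟨t, ht⟩ := (isCompact_univ (X := WithConstructibleTopology X)).elim_finite_subfamily_closed
    (fun U : ι => ofCon ⁻¹' U.1) (fun U => (isClopen_preimage_ofCon U.2.1 U.2.2.1).1) hempty
  classical
  let A : Set X := ⋂ U : {U : ι // U ∈ t ∧ x ∈ U.1}, U.1.1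
  let B : Set X := ⋂ U : {U : ι // U ∈ t ∧ y ∈ U.1}, U.1.1
  have : Finite {U : ι // U ∈ t ∧ x ∈ U.1} := (t.finite_toSet.subset fun U h => h.1).to_subtype
  have : Finite {U : ι // U ∈ t ∧ y ∈ U.1} := (t.finite_toSet.subset fun U h => h.1).to_subtype
  have hA : IsOpen A := isOpen_iInter_of_finite fun U => U.1.2.1
  have hB : IsOpen B := isOpen_iInter_of_finite fun U => U.1.2.1
  have hd : Disjoint A B := by
    refine Set.disjoint_left.2 fun z hzA hzB => ?_
    refine Set.notMem_empty (WithTopology.toTopology (constructibleTopology X) z) ?_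
    rw [← ht]
    refine ⟨trivial, Set.mem_iInter₂.2 fun U hU => ?_⟩
    rcases U.2.2.2 with h | h
    · exact Set.mem_iInter.1 hzA ⟨U, hU, h⟩
    · exact Set.mem_iInter.1 hzB ⟨U, hU, h⟩
  exact H2 A B hA hB (Set.mem_iInter.2 fun U => U.2.2) (Set.mem_iInter.2 fun U => U.2.2) hd

end Groth.Agent.S7527
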