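import Groth.Statements.S7528
import Groth.Agent.Spectral.Basic

set_option autoImplicit false
universe u
open SpecSp

namespace Groth.Agent.S7528

/-- For a spectral space X the following are equivalent: (1) X is profinite, i.e. quasi-compact,
Hausdorff and totally disconnected (quasi-compactness being automatic); (2) X is Hausdorff; (3) X is
totally disconnected; (4) every quasi-compact open subset is closed; (5) there are no nontrivial
specializations between points; (6) every point is closed; (7) every point is the generic point of
an irreducible component; (8) the constructible topology coincides with the topology of X. -/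
theorem result (X : Type u) [tX : TopologicalSpace X] [SpectralSpace X] :
    List.TFAE [
      T2Space X ∧ TotallyDisconnectedSpace X,
      T2Space X,
      TotallyDisconnectedSpace X,
      ∀ U : Set X, IsOpen U → IsCompact U → IsClosed U,
      ∀ x y : X, x ⤳ y → x = y,
      ∀ x : X, IsClosed ({x} : Set X),
      ∀ x : X, closure ({x} : Set X) ∈ irreducibleComponents X,
      constructibleTopology X = tX] := by
  open Groth.Agent.Spectral in
  tfae_have 1 → 2 := fun h => h.1
  tfae_have 1 → 3 := fun h => h.2
  tfae_have 2 → 6 := fun _ x => isClosed_singleton
  tfae_have 3 → 6 := by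
    intro h x
    rw [← closure_subset_iff_isClosed]
    exact fun y hy => h.isTotallyDisconnected_univ _ (Set.subset_univ _)
      isPreconnected_singleton.closure hy (subset_closure rfl)
  tfae_have 6 → 5 := fun h x y hxy => (Set.mem_singleton_iff.1 (hxy.mem_closed (h x) rfl)).symm
  tfae_have 5 → 7 := by
    intro h x
    refine ⟨isIrreducible_singleton.closure, fun s hs hxs => ?_⟩
    obtain ⟨z, hz⟩ := QuasiSober.sober hs.closure isClosed_closure
    have hzx : z ⤳ x := by
      rw [specializes_iff_mem_closure, hz]
      exact subset_closure (hxs (subset_closure rfl))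
    rw [← h z x hzx, hz]
    exact subset_closure
  tfae_have 7 → 5 := by
    intro h x y hxy
    have h1 : closure {y} ⊆ closure {x} :=
      closure_minimal (Set.singleton_subset_iff.2 hxy.mem_closure) isClosed_closure
    exact ((specializes_iff_mem_closure.2 ((h y).2 isIrreducible_singleton.closure h1 (subset_closure rfl))).antisymm hxy).eq.symm
  tfae_have 5 → 4 := fun h U ho hc =>
    isClosed_of_isClosed_con (isClopen_con_of_isOpen_isCompact ho hc).1 fun x y hxy hx => h x y hxy ▸ hx
  tfae_have 4 → 8 := by
    intro h
    refine le_antisymm con_le (le_generateFrom fun U hU => ?_)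
    rcases hU with ⟨ho, hc⟩ | ⟨hcl, hc⟩
    · exact ho
    · simpa using (h _ hcl.isOpen_compl hc).isOpen_compl
  tfae_have 8 → 1 := by
    intro h
    obtain ⟨_, _⟩ : @T2Space X tX ∧ @TotallySeparatedSpace X tX :=
      ⟨h ▸ t2_con, h ▸ totallySeparated_con⟩
    exact ⟨inferInstance, inferInstance⟩
  tfae_finish

end Groth.Agent.S7528
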