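import Groth.Statements.S7530
import Groth.Agent.Spectral.Basic

set_option autoImplicit false
universe u
open SpecSp

namespace Groth.Agent.S7530

/-- Let f : X → Y be a map of spectral spaces which is spectral and bijective, and assume that
generalizations lift along f or that specializations lift along f. Then f is a homeomorphism. -/
theorem result {X Y : Type u} [TopologicalSpace X] [TopologicalSpace Y]
    [SpectralSpace X] [SpectralSpace Y] (f : X → Y) (hf : IsSpectralMap f) (hb : Function.Bijective f)
    (hlift : GeneralizingMap f ∨ SpecializingMap f) :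
    IsHomeomorph f := by
  open Groth.Agent.Spectral in
  refine isHomeomorph_iff_continuous_isClosedMap_bijective.2 ⟨hf.continuous, fun Z hZ => ?_, hb⟩
  refine isClosed_of_isClosed_con (isClosed_con_range hf (isClosed_con_of_isClosed hZ)) ?_
  rintro _ y hy ⟨z, hz, rfl⟩
  obtain ⟨w, rfl⟩ := hb.2 y
  rcases hlift with h | h
  · obtain ⟨z', hz', hzz⟩ := h hy
    obtain rfl := hb.1 hzz
    exact ⟨w, hz'.mem_closed hZ hz, rfl⟩
  · obtain ⟨w', hw', hww⟩ := h hy
    obtain rfl := hb.1 hww
    exact ⟨w', hw'.mem_closed hZ hz, rfl⟩

end Groth.Agent.S7530
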