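import Groth.Statements.S7532
import Groth.Agent.Spectral.Basic

set_option autoImplicit false
universe u
open SpecSp

namespace Groth.Agent.S7532

/-- Let W be the two-point space with one closed and one non-closed point (here the Sierpiński topology
on Prop). A topological space X is spectral exactly when, for some index type I, X admits a
topological embedding into the power W^I whose image is a closed set for the constructible topology
on W^I. -/
theorem result (X : Type u) [TopologicalSpace X] :
    SpectralSpace X ↔ ∃ (I : Type u) (f : X → (I → Prop)),
      Topology.IsEmbedding f ∧ @IsClosed (I → Prop) (constructibleTopology (I → Prop)) (Set.range f) := by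
  open Groth.Agent.Spectral TopologicalSpace Topology Set in
  have hgen : ∀ I : Type u, (inferInstance : TopologicalSpace (I → Prop)) =
      generateFrom (⋃ i : I, {{f : I → Prop | f i}}) := by
    intro I
    rw [generateFrom_iUnion]
    refine iInf_congr fun i => ?_
    show TopologicalSpace.induced (fun f : I → Prop => f i) sierpinskiSpace = _
    rw [show sierpinskiSpace = generateFrom {{True}} from rfl, induced_generateFrom_eq,
      image_singleton]
    congr 2
    ext f
    simp
  have hop : ∀ (I : Type u) (i : I), IsOpen {f : I → Prop | f i} := fun I i =>
    isOpen_iff_continuous_mem.2 (continuous_apply i)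
  have hpi : ∀ I : Type u, SpectralSpace (I → Prop) := by
    intro I
    let g : (I → Bool) → (I → Prop) := fun f i => f i = true
    have hgs : Function.Surjective g := fun p => by
      classical
      exact ⟨fun i => decide (p i), by funext i; simp [g]⟩
    have hgc : Continuous g := continuous_pi fun i =>
      (continuous_of_discreteTopology (f := fun b : Bool => b = true)).comp (continuous_apply i)
    have : T0Space (I → Prop) := ⟨fun p q h => funext fun i => propext (h.mem_open_iff (hop I i))⟩
    refine spectralSpace_of_subbasis g hgc hgs _ (hgen I) ?_
    simp only [mem_iUnion, mem_singleton_iff]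
    rintro _ ⟨i, rfl⟩
    exact (isClosed_discrete {true}).preimage (continuous_apply (A := fun _ : I => Bool) i)
  constructor
  · intro hX
    let I := {U : Set X // IsOpen U ∧ IsCompact U}
    let f : X → (I → Prop) := fun x U => x ∈ U.1
    have hfc : Continuous f := continuous_pi fun U => isOpen_iff_continuous_mem.1 U.2.1
    have hind : IsInducing f := by
      refine ⟨le_antisymm (continuous_iff_le_induced.1 hfc) ?_⟩
      conv_rhs => rw [(PrespectralSpace.isTopologicalBasis (X := X)).eq_generateFrom]
      exact le_generateFrom fun U hU => isOpen_induced_iff.2 ⟨{p | p ⟨U, hU⟩}, hop I ⟨U, hU⟩, rfl⟩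
    have hinj : Function.Injective f := fun x y h =>
      (PrespectralSpace.isTopologicalBasis (X := X)).eq_iff.2 fun U hU =>
        iff_of_eq (congrFun h ⟨U, hU⟩)
    refine ⟨I, f, ⟨hind, hinj⟩, ?_⟩
    have := hpi I
    have := compactSpace_con (X := X)
    have hc' : Continuous[constructibleTopology X, constructibleTopology (I → Prop)] f := by
      refine @continuous_con_of_subbasis (I → Prop) _ _ X (constructibleTopology X) compactSpace_con f _ (hgen I) ?_
      simp only [mem_iUnion, mem_singleton_iff]
      rintro _ ⟨U, rfl⟩
      exact isClopen_con_of_isOpen_isCompact U.2.1 U.2.2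
    simpa using isClosed_con_range (isSpectralMap_of_continuous_con hfc hc')
      (@isClosed_univ X (constructibleTopology X))
  · rintro ⟨I, f, hf, hcl⟩
    have := hpi I
    have := spectralSpace_of_isClosed_con hcl
    let e := hf.toHomeomorph
    have : CompactSpace X := e.symm.compactSpace
    exact e.isOpenEmbedding.spectralSpace

end Groth.Agent.S7532
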