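import Groth.Statements.S7536
import Groth.Agent.Spectral.Limit

set_option autoImplicit false
universe u
open CategoryTheory CategoryTheory.Limits
open SpecSp

namespace Groth.Agent.S7536

/-- Let j ↦ X_j be a cofiltered diagram of spectral spaces with spectral transition maps and X its limit
with projections p_j. For every constructible E ⊆ X there are an object i and a constructible E_i ⊆
X_i with p_i⁻¹(E_i) = E; if E is open, resp. closed, then E_i may be chosen open, resp. closed. -/
theorem result {J : Type u} [SmallCategory J] [IsCofiltered J] (F : J ⥤ TopCat.{u})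
    (hF : ∀ j, SpectralSpace (F.obj j))
    (hFm : ∀ {i j : J} (a : i ⟶ j), IsSpectralMap (F.map a : F.obj i → F.obj j))
    (c : Cone F) (hc : IsLimit c)
    (E : Set c.pt) (hE : Topology.IsConstructible E) :
    (∃ (i : J) (Ei : Set (F.obj i)), Topology.IsConstructible Ei ∧ c.π.app i ⁻¹' Ei = E) ∧
    (IsOpen E → ∃ (i : J) (Ei : Set (F.obj i)), Topology.IsConstructible Ei ∧ IsOpen Ei ∧ c.π.app i ⁻¹' Ei = E) ∧
    (IsClosed E → ∃ (i : J) (Ei : Set (F.obj i)), Topology.IsConstructible Ei ∧ IsClosed Ei ∧ c.π.app i ⁻¹' Ei = E) := by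
  open Groth.Agent.Spectral in
  have : ∀ j, SpectralSpace (F.obj j) := hF
  have hS := spectralSpace_limit hc hF hFm
  have hop : ∀ E : Set c.pt, Topology.IsConstructible E → IsOpen E →
      ∃ (i : J) (Ei : Set (F.obj i)), Topology.IsConstructible Ei ∧ IsOpen Ei ∧ c.π.app i ⁻¹' Ei = E := by
    intro E hE ho
    obtain ⟨i, Ei, h1, h2, h3⟩ := exists_isCompact_isOpen_preimage_eq hc hF hFm E ho
      (isCompact_of_isClosed_con (isClopen_con_of_isConstructible hE).1)
    exact ⟨i, Ei, h2.isConstructible h1, h1, h3⟩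
  refine ⟨?_, hop E hE, fun hcl => ?_⟩
  · induction hE using Topology.IsConstructible.empty_union_induction with
    | open_retrocompact U hUo hUr =>
      obtain ⟨i, Ui, h1, h2, h3⟩ := exists_isCompact_isOpen_preimage_eq hc hF hFm U hUo hUr.isCompact
      exact ⟨i, Ui, h2.isConstructible h1, h3⟩
    | union s hs t ht ihs iht =>
      obtain ⟨i, Si, hSi, rfl⟩ := ihs
      obtain ⟨j, Tj, hTj, rfl⟩ := iht
      have hcon : ∀ {k l : J} (a : k ⟶ l) (S : Set (F.obj l)), Topology.IsConstructible S →
          Topology.IsConstructible (F.map a ⁻¹' S) := fun {k l} a S hS' =>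
        isConstructible_of_isClopen_con (@IsClopen.preimage _ _ (constructibleTopology (F.obj k))
          (constructibleTopology (F.obj l)) S (isClopen_con_of_isConstructible hS') _
          (continuous_con_of_isSpectralMap (hFm a)))
      exact ⟨_, _, (hcon (IsCofiltered.minToLeft i j) _ hSi).union (hcon (IsCofiltered.minToRight i j) _ hTj),
        by rw [Set.preimage_union, preimage_hom_eq, preimage_hom_eq]⟩
    | compl s hs ih =>
      obtain ⟨i, Si, hSi, rfl⟩ := ih
      exact ⟨i, Siᶜ, hSi.compl, rfl⟩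
  · obtain ⟨i, Ei, h1, h2, h3⟩ := hop Eᶜ hE.compl hcl.isOpen_compl
    exact ⟨i, Eiᶜ, h1.compl, h2.isClosed_compl, by rw [Set.preimage_compl, h3, compl_compl]⟩

end Groth.Agent.S7536
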