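import Groth.Statements.S7538
import Groth.Agent.Spectral.Limit

set_option autoImplicit false
universe u
open CategoryTheory CategoryTheory.Limits
open SpecSp

namespace Groth.Agent.S7538

/-- Let j ↦ X_j be a cofiltered diagram of spectral spaces with spectral transition maps f_a and X its
limit with projections p_j. (1) Any quasi-compact open U ⊆ X is p_i⁻¹(U_i) for some i and some
quasi-compact open U_i ⊆ X_i. (2) If U_i ⊆ X_i and U_j ⊆ X_j are quasi-compact opens with p_i⁻¹(U_i)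
⊆ p_j⁻¹(U_j), there are k and a : k → i, b : k → j with f_a⁻¹(U_i) ⊆ f_b⁻¹(U_j). (3) If U_i and
finitely many U_{l,i} are quasi-compact opens of X_i with p_i⁻¹(U_i) = ⋃_l p_i⁻¹(U_{l,i}), then
f_a⁻¹(U_i) = ⋃_l f_a⁻¹(U_{l,i}) for some a : j → i. (4) The same with intersections. -/
theorem result {J : Type u} [SmallCategory J] [IsCofiltered J] (F : J ⥤ TopCat.{u})
    (hF : ∀ j, SpectralSpace (F.obj j))
    (hFm : ∀ {i j : J} (a : i ⟶ j), IsSpectralMap (F.map a : F.obj i → F.obj j))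
    (c : Cone F) (hc : IsLimit c) :
    (∀ U : Set c.pt, IsOpen U → IsCompact U →
      ∃ (i : J) (Ui : Set (F.obj i)), IsOpen Ui ∧ IsCompact Ui ∧ c.π.app i ⁻¹' Ui = U) ∧
    (∀ (i j : J) (Ui : Set (F.obj i)) (Uj : Set (F.obj j)),
      IsOpen Ui → IsCompact Ui → IsOpen Uj → IsCompact Uj →
      c.π.app i ⁻¹' Ui ⊆ c.π.app j ⁻¹' Uj →
      ∃ (k : J) (a : k ⟶ i) (b : k ⟶ j), F.map a ⁻¹' Ui ⊆ F.map b ⁻¹' Uj) ∧
    (∀ (i : J) (n : ℕ) (Ui : Set (F.obj i)) (V : Fin n → Set (F.obj i)),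
      IsOpen Ui → IsCompact Ui → (∀ l, IsOpen (V l) ∧ IsCompact (V l)) →
      (c.π.app i ⁻¹' Ui = ⋃ l, c.π.app i ⁻¹' V l →
        ∃ (j : J) (a : j ⟶ i), F.map a ⁻¹' Ui = ⋃ l, F.map a ⁻¹' V l) ∧
      (c.π.app i ⁻¹' Ui = ⋂ l, c.π.app i ⁻¹' V l →
        ∃ (j : J) (a : j ⟶ i), F.map a ⁻¹' Ui = ⋂ l, F.map a ⁻¹' V l)) := by
  open Groth.Agent.Spectral in
  have : ∀ j, SpectralSpace (F.obj j) := hF
  refine ⟨fun U hU hUc => exists_isCompact_isOpen_preimage_eq hc hF hFm U hU hUc, ?_, ?_⟩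
  · intro i j Ui Uj hUi hUic hUj hUjc h
    have hm₁ := hFm (IsCofiltered.minToLeft i j)
    have hm₂ := hFm (IsCofiltered.minToRight i j)
    obtain ⟨k, a, ha⟩ := (preimage_subset_iff hc hF hFm (IsCofiltered.min i j)
      (F.map (IsCofiltered.minToLeft i j) ⁻¹' Ui) (F.map (IsCofiltered.minToRight i j) ⁻¹' Uj)
      (isClopen_con_of_isOpen_isCompact (hUi.preimage hm₁.continuous) (hm₁.isCompact_preimage_of_isOpen hUi hUic)).1
      (isClopen_con_of_isOpen_isCompact (hUj.preimage hm₂.continuous) (hm₂.isCompact_preimage_of_isOpen hUj hUjc)).2).1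
      (by rwa [preimage_hom_eq, preimage_hom_eq])
    refine ⟨k, a ≫ IsCofiltered.minToLeft i j, a ≫ IsCofiltered.minToRight i j, ?_⟩
    simpa [Set.preimage_comp] using ha
  · intro i n Ui V hUi hUic hV
    have key : ∀ S T : Set (F.obj i), @IsClopen _ (constructibleTopology (F.obj i)) S →
        @IsClopen _ (constructibleTopology (F.obj i)) T →
        c.π.app i ⁻¹' S = c.π.app i ⁻¹' T → ∃ (j : J) (a : j ⟶ i), F.map a ⁻¹' S = F.map a ⁻¹' T := by
      intro S T hS hT h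
      obtain ⟨j, a, ha⟩ := (preimage_subset_iff hc hF hFm i S T hS.1 hT.2).1 h.le
      obtain ⟨j', a', ha'⟩ := (preimage_subset_iff hc hF hFm i T S hT.1 hS.2).1 h.ge
      obtain ⟨k, b, b', hb⟩ := IsCofiltered.cospan a a'
      refine ⟨k, b ≫ a, subset_antisymm (fun x hx => ?_) (fun x hx => ?_)⟩
      · have := ha (show F.map b x ∈ F.map a ⁻¹' S by simpa using hx)
        simpa using this
      · have := ha' (show F.map b' x ∈ F.map a' ⁻¹' T by simpa [hb] using hx)
        simpa [hb] using this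
    have hUi' := isClopen_con_of_isOpen_isCompact hUi hUic
    have hV' := fun l => isClopen_con_of_isOpen_isCompact (hV l).1 (hV l).2
    refine ⟨fun h => ?_, fun h => ?_⟩
    · obtain ⟨j, a, ha⟩ := key Ui (⋃ l, V l) hUi'
        (@isClopen_iUnion_of_finite (F.obj i) (constructibleTopology (F.obj i)) (Fin n) _ V hV')
        (by rw [Set.preimage_iUnion]; exact h)
      exact ⟨j, a, by rw [ha, Set.preimage_iUnion]⟩
    · obtain ⟨j, a, ha⟩ := key Ui (⋂ l, V l) hUi'
        (@isClopen_iInter_of_finite (F.obj i) (constructibleTopology (F.obj i)) (Fin n) _ V hV')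
        (by rw [Set.preimage_iInter]; exact h)
      exact ⟨j, a, by rw [ha, Set.preimage_iInter]⟩

end Groth.Agent.S7538
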