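import Groth.Statements.S7539
import Groth.Agent.Spectral.Basic

set_option autoImplicit false
universe u
open SpecSp

namespace Groth.Agent.S7539

/-- For a subset W of a spectral space X, these five conditions coincide: (1) W can be written as an
intersection of constructible subsets and is stable under generalization; (2) W is quasi-compact and
stable under generalization; (3) for some quasi-compact E ⊆ X, W consists exactly of the points that
specialize to a point of E; (4) W is the intersection of some family of quasi-compact opens; (5)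
there are a nonempty index set I and quasi-compact opens U_i with W = ⋂ U_i such that for all i, j
some U_k is contained in U_i ∩ U_j. -/
theorem result {X : Type u} [TopologicalSpace X] [SpectralSpace X] (W : Set X) :
    List.TFAE [
      (∃ S : Set (Set X), (∀ s ∈ S, Topology.IsConstructible s) ∧ W = ⋂₀ S) ∧ StableUnderGeneralization W,
      IsCompact W ∧ StableUnderGeneralization W,
      ∃ E : Set X, IsCompact E ∧ W = {x | ∃ e ∈ E, x ⤳ e},
      ∃ S : Set (Set X), (∀ s ∈ S, IsOpen s ∧ IsCompact s) ∧ W = ⋂₀ S,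
      ∃ (I : Type u) (_ : Nonempty I) (U : I → Set X), (∀ i, IsOpen (U i) ∧ IsCompact (U i)) ∧
        W = ⋂ i, U i ∧ ∀ i j, ∃ k, U k ⊆ U i ∩ U j] := by
  open Groth.Agent.Spectral in
  tfae_have 1 → 2 := by
    rintro ⟨⟨S, hS, rfl⟩, hg⟩
    exact ⟨isCompact_of_isClosed_con (@isClosed_sInter X (constructibleTopology X) _ fun s hs =>
      (isClopen_con_of_isConstructible (hS s hs)).1), hg⟩
  tfae_have 2 → 3 := by
    rintro ⟨hc, hg⟩
    refine ⟨W, hc, Set.ext fun x => ⟨fun hx => ⟨x, hx, specializes_rfl⟩, ?_⟩⟩
    rintro ⟨e, he, hxe⟩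
    exact hg hxe he
  tfae_have 3 → 4 := by
    rintro ⟨E, hE, rfl⟩
    exact ⟨_, fun s hs => ⟨hs.1, hs.2.1⟩, generalization_eq_sInter hE⟩
  tfae_have 4 → 5 := by
    rintro ⟨S, hS, rfl⟩
    refine ⟨Finset S, inferInstance, fun t => ⋂ s ∈ t, (s : Set X), fun t => ?_, ?_, fun i j => ?_⟩
    · classical
      induction t using Finset.induction_on with
      | empty => simpa using (⟨isOpen_univ, isCompact_univ⟩ : IsOpen (Set.univ : Set X) ∧ IsCompact (Set.univ : Set X))
      | insert a t _ ih =>
        simp only [Finset.set_biInter_insert]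
        exact ⟨(hS a a.2).1.inter ih.1, (hS a a.2).2.inter_of_isOpen ih.2 (hS a a.2).1 ih.1⟩
    · ext x
      simp only [Set.mem_sInter, Set.mem_iInter]
      exact ⟨fun h t s _ => h s s.2, fun h s hs => h {⟨s, hs⟩} ⟨s, hs⟩ (Finset.mem_singleton_self _)⟩
    · classical
      refine ⟨i ∪ j, Set.subset_inter ?_ ?_⟩ <;>
        exact Set.biInter_mono (fun s hs => Finset.mem_union.2 (by tauto)) fun _ _ => subset_rfl
  tfae_have 5 → 1 := by
    rintro ⟨I, hI, U, hU, rfl, -⟩
    refine ⟨⟨Set.range U, ?_, Set.sInter_range U ▸ rfl⟩, ?_⟩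
    · rintro _ ⟨i, rfl⟩
      exact (hU i).2.isConstructible (hU i).1
    · intro x y hyx hx
      exact Set.mem_iInter.2 fun i => hyx.mem_open (hU i).1 (Set.mem_iInter.1 hx i)
  tfae_finish

end Groth.Agent.S7539
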