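import Groth.Statements.S7540
import Groth.Agent.Spectral.Basic

set_option autoImplicit false
universe u
open SpecSp

namespace Groth.Agent.S7540

/-- Let X be a spectral space, I a nonempty index set and U_i ⊆ X quasi-compact opens such that for all
i, j some U_k lies in U_i ∩ U_j; put W = ⋂ U_i. Then every open subset of X containing W contains
some U_i. The published statement also asserts that W is spectral and is the limit of the U_i; this
row states the neighbourhood property. -/
theorem result {X : Type u} [TopologicalSpace X] [SpectralSpace X]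
    {I : Type u} [Nonempty I] (U : I → Set X) (hU : ∀ i, IsOpen (U i) ∧ IsCompact (U i))
    (hdir : ∀ i j, ∃ k, U k ⊆ U i ∩ U j) :
    ∀ V : Set X, IsOpen V → (⋂ i, U i) ⊆ V → ∃ i, U i ⊆ V := by
  open Groth.Agent.Spectral in
  intro V hV hWV
  obtain ⟨i₀⟩ := ‹Nonempty I›
  have hVc : IsClosed (ofCon ⁻¹' Vᶜ) :=
    (hV.isClosed_compl).preimage continuous_ofCon
  obtain ⟨t, ht⟩ := hVc.isCompact.elim_finite_subfamily_closed
    (fun i => ofCon ⁻¹' U i) (fun i => (isClopen_preimage_ofCon (hU i).1 (hU i).2).1)
    (Set.eq_empty_of_forall_notMem fun z hz => hz.1 (hWV (Set.mem_iInter.2 fun i =>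
      Set.mem_iInter.1 hz.2 i)))
  classical
  have : ∀ s : Finset I, ∃ k, U k ⊆ U i₀ ∧ ∀ i ∈ s, U k ⊆ U i := by
    intro s
    induction s using Finset.induction_on with
    | empty => exact ⟨i₀, subset_rfl, by simp⟩
    | insert a s _ ih =>
      obtain ⟨k, hk0, hk⟩ := ih
      obtain ⟨l, hl⟩ := hdir a k
      refine ⟨l, fun z hz => hk0 (hl hz).2, fun i hi => ?_⟩
      rcases Finset.mem_insert.1 hi with rfl | hi
      · exact fun z hz => (hl hz).1
      · exact fun z hz => hk i hi (hl hz).2
  obtain ⟨k, -, hk⟩ := this t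
  refine ⟨k, fun z hz => by_contra fun hzV => ?_⟩
  refine Set.notMem_empty (WithTopology.toTopology (constructibleTopology X) z) ?_
  rw [← ht]
  exact ⟨hzV, Set.mem_iInter₂.2 fun i hi => hk i hi hz⟩

end Groth.Agent.S7540
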