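import Groth.Statements.S7541
import Groth.Agent.Spectral.Basic

set_option autoImplicit false
universe u
open SpecSp

namespace Groth.Agent.S7541

/-- Let X be a spectral space, E ⊆ X a constructible subset and W the set of points of X that specialize
to a point of E. Then the subspace W minus E is a spectral space. (The description of W minus E as a
limit of the U_i minus E is not recorded here.) -/
theorem result {X : Type u} [TopologicalSpace X] [SpectralSpace X]
    (E : Set X) (hE : Topology.IsConstructible E) :
    SpectralSpace ↥({x : X | ∃ e ∈ E, x ⤳ e} \ E) := by
  open Groth.Agent.Spectral in
  exact spectralSpace_of_isClosed_con (@IsClosed.inter X _ _ (constructibleTopology X)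
    (isClosed_con_generalization (isCompact_of_isClosed_con (isClopen_con_of_isConstructible hE).1))
    (@IsOpen.isClosed_compl X (constructibleTopology X) _ (isClopen_con_of_isConstructible hE).2))

end Groth.Agent.S7541
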