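import Groth.Statements.S7544
import Groth.Agent.ConstrSets.Basic

set_option autoImplicit false
universe u
open ConstrTop

namespace Groth.Agent.S7544

/-- Let X be a quasi-compact topological space whose quasi-compact opens form a basis and are closed
under pairwise intersection. Take T ⊆ X to be locally closed, quasi-compact, and with retrocompact
complement. Then T is constructible in X. -/
theorem result {X : Type u} [TopologicalSpace X]
    [CompactSpace X] [PrespectralSpace X] [QuasiSeparatedSpace X]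
    (T : Set X) (hT : IsLocallyClosed T) (hTc : IsCompact T) (hTr : IsRetrocompact Tᶜ) :
    Topology.IsConstructible T := by
  obtain ⟨U, C, hU, hC, rfl⟩ := hT
  obtain ⟨W, hWc, hWo, h1, h2⟩ :=
    PrespectralSpace.exists_isCompact_and_isOpen_between hTc hU Set.inter_subset_left
  have h3 : W ∩ (U ∩ C)ᶜ = W ∩ Cᶜ := by
    ext z
    exact ⟨fun hz => ⟨hz.1, fun hzC => hz.2 ⟨h2 hz.1, hzC⟩⟩, fun hz => ⟨hz.1, fun hzUC => hz.2 hzUC.2⟩⟩
  have h4 : IsCompact (W ∩ Cᶜ) := by
    rw [← h3, Set.inter_comm]
    exact hTr hWc hWo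
  convert (hWc.isConstructible hWo).sdiff (h4.isConstructible (hWo.inter hC.isOpen_compl)) using 1
  ext z
  simp only [Set.mem_inter_iff, Set.mem_sdiff, Set.mem_compl_iff, not_and, not_not]
  exact ⟨fun hz => ⟨h1 hz, fun _ => hz.2⟩, fun hz => ⟨h2 hz.1, hz.2 hz.1⟩⟩

end Groth.Agent.S7544
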