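import Groth.Statements.S7547
import Mathlib.Topology.JacobsonSpace
import Mathlib.Topology.Spectral.Prespectral

set_option autoImplicit false
universe u
open PtTop

namespace Groth.Agent.S7547

/-- Let X be a Kolmogorov topological space whose quasi-compact opens form a basis for the topology. If
X is not Jacobson, there is a point x ∈ X which is not closed but such that {x} is locally closed. -/
theorem result {X : Type u} [TopologicalSpace X]
    [T0Space X] [PrespectralSpace X] (hX : ¬ JacobsonSpace X) :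
    ∃ x : X, ¬ IsClosed ({x} : Set X) ∧ IsLocallyClosed ({x} : Set X) := by
  open Topology TopologicalSpace Set in
  simp only [jacobsonSpace_iff_locallyClosed, not_forall, Set.not_nonempty_iff_eq_empty] at hX
  obtain ⟨Z, ⟨x, hx⟩, ⟨U, C, hU, hC, rfl⟩, hZ⟩ := hX
  obtain ⟨V, ⟨hVo, hVc⟩, hxV, hVU⟩ :=
    (PrespectralSpace.isTopologicalBasis (X := X)).exists_subset_of_mem_open hx.1 hU
  have : CompactSpace ↥(V ∩ C) := isCompact_iff_compactSpace.1 (hVc.inter_right hC)
  obtain ⟨y, -, hy⟩ := (isClosed_univ (X := ↥(V ∩ C))).exists_closed_singleton ⟨⟨x, hxV, hx.2⟩, trivial⟩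
  refine ⟨y.1, fun hc => ?_, ?_⟩
  · exact eq_empty_iff_forall_notMem.1 hZ y.1 ⟨⟨hVU y.2.1, y.2.2⟩, hc⟩
  · obtain ⟨D, hD, hDy⟩ := isClosed_induced_iff.1 hy
    refine ⟨V, C ∩ D, hVo, hC.inter hD, ?_⟩
    ext z
    constructor
    · rintro rfl
      exact ⟨y.2.1, y.2.2, hDy.ge rfl⟩
    · exact fun ⟨hzV, hzC, hzD⟩ => congrArg Subtype.val (hDy.le (show (⟨z, hzV, hzC⟩ : ↥(V ∩ C)) ∈ Subtype.val ⁻¹' D from hzD))

end Groth.Agent.S7547
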