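import Groth.Statements.S7548
import Mathlib.Topology.JacobsonSpace

set_option autoImplicit false
universe u
open PtTop

namespace Groth.Agent.S7548

/-- Let X be a Jacobson space and let T = ⋃ T_i be a union of subsets T_i ⊆ X each locally closed in X
(open, closed, locally closed and constructible subsets are of this form). Then T is Jacobson and
every point of T closed in T is closed in X. -/
theorem result {X : Type u} [TopologicalSpace X] [JacobsonSpace X]
    {ι : Type u} (T : ι → Set X) (hT : ∀ i, IsLocallyClosed (T i)) :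
    JacobsonSpace ↥(⋃ i, T i) ∧
      closedPoints ↥(⋃ i, T i) ⊆ (Subtype.val : ↥(⋃ i, T i) → X) ⁻¹' closedPoints X := by
  open Topology Set in
  have h1 : closedPoints ↥(⋃ i, T i) ⊆ (Subtype.val : ↥(⋃ i, T i) → X) ⁻¹' closedPoints X := by
    intro x hx
    obtain ⟨i, hi⟩ := mem_iUnion.1 x.2
    obtain ⟨D, hD, hDx⟩ := isClosed_induced_iff.1 (mem_closedPoints_iff.1 hx)
    refine isClosed_singleton_of_isLocallyClosed_singleton ?_
    convert (hT i).inter hD.isLocallyClosed using 1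
    ext z
    exact ⟨fun h => h ▸ ⟨hi, hDx.ge rfl⟩, fun h => congrArg Subtype.val
      (hDx.le (show (⟨z, mem_iUnion.2 ⟨i, h.1⟩⟩ : ↥(⋃ i, T i)) ∈ Subtype.val ⁻¹' D from h.2))⟩
  refine ⟨jacobsonSpace_iff_locallyClosed.2 fun Z hZ hZl => ?_, h1⟩
  obtain ⟨W, hW, rfl⟩ := IsInducing.subtypeVal.isLocallyClosed_iff.1 hZl
  obtain ⟨z, hz⟩ := hZ
  obtain ⟨i, hi⟩ := mem_iUnion.1 z.2
  obtain ⟨y, hy, hyc⟩ := nonempty_inter_closedPoints (Z := W ∩ T i) ⟨z.1, hz, hi⟩ (hW.inter (hT i))
  exact ⟨⟨y, mem_iUnion.2 ⟨i, hy.2⟩⟩, hy.1,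
    preimage_closedPoints_subset Subtype.val_injective continuous_subtype_val hyc⟩

end Groth.Agent.S7548
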