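import Groth.Statements.S7549
import Groth.Agent.ConstrSets.Basic
import Mathlib.Topology.JacobsonSpace

set_option autoImplicit false
universe u
open PtTop

namespace Groth.Agent.S7549

/-- Let X be a Jacobson space and X₀ ⊆ X the subspace of closed points. (a) For U ⊆ X open, U is
quasi-compact if and only if U ∩ X₀ is quasi-compact, and U is retrocompact in X if and only if U ∩
X₀ is retrocompact in X₀. (b) The rule E ↦ E ∩ X₀ is an inclusion-preserving and
inclusion-reflecting bijection between the constructible subsets of X and the constructible subsets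
of X₀. -/
theorem result {X : Type u} [TopologicalSpace X] [JacobsonSpace X] :
    (∀ U : Set X, IsOpen U →
      (IsCompact U ↔ IsCompact ((Subtype.val : closedPoints X → X) ⁻¹' U)) ∧
      (IsRetrocompact U ↔ IsRetrocompact ((Subtype.val : closedPoints X → X) ⁻¹' U))) ∧
    (∀ E : Set X, Topology.IsConstructible E →
      Topology.IsConstructible ((Subtype.val : closedPoints X → X) ⁻¹' E)) ∧
    (∀ E E' : Set X, Topology.IsConstructible E → Topology.IsConstructible E' →
      ((Subtype.val : closedPoints X → X) ⁻¹' E ⊆ Subtype.val ⁻¹' E' ↔ E ⊆ E')) ∧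
    (∀ F : Set (closedPoints X), Topology.IsConstructible F →
      ∃ E : Set X, Topology.IsConstructible E ∧ (Subtype.val : closedPoints X → X) ⁻¹' E = F) := by
  open Groth.Agent.ConstrSets Topology Set in
  have hnp : ∀ S : Set X, IsLocallyClosed S → (Subtype.val : closedPoints X → X) ⁻¹' S = ∅ → S = ∅ := by
    intro S hS h
    by_contra hne
    obtain ⟨x, hx, hxc⟩ := nonempty_inter_closedPoints (nonempty_iff_ne_empty.2 hne) hS
    exact eq_empty_iff_forall_notMem.1 h ⟨x, hxc⟩ hx
  have hsub : ∀ U O : Set X, IsOpen U → IsOpen O →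
      (Subtype.val : closedPoints X → X) ⁻¹' U ⊆ Subtype.val ⁻¹' O → U ⊆ O := fun U O hU hO h => by
    have := hnp (U ∩ Oᶜ) (hU.isLocallyClosed.inter hO.isClosed_compl.isLocallyClosed)
      (eq_empty_of_forall_notMem fun z hz => hz.2 (h hz.1))
    exact fun x hx => by_contra fun hxO => notMem_empty x (this ▸ ⟨hx, hxO⟩)
  have hcpt : ∀ U : Set X, IsOpen U →
      (IsCompact U ↔ IsCompact ((Subtype.val : closedPoints X → X) ⁻¹' U)) := by
    intro U hU
    constructor
    · intro hc
      refine isCompact_of_finite_subcover fun {ι} O hO hcov => ?_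
      choose O' hO' hOeq using fun i => isOpen_induced_iff.1 (hO i)
      simp only [← hOeq] at hcov ⊢
      obtain ⟨t, ht⟩ := hc.elim_finite_subcover O' hO'
        (hsub U _ hU (isOpen_iUnion hO') (by rwa [preimage_iUnion]))
      exact ⟨t, (preimage_mono ht).trans (by simp)⟩
    · intro hc
      refine isCompact_of_finite_subcover fun {ι} O hO hcov => ?_
      obtain ⟨t, ht⟩ := hc.elim_finite_subcover (fun i => (Subtype.val : closedPoints X → X) ⁻¹' O i)
        (fun i => (hO i).preimage continuous_subtype_val) ((preimage_mono hcov).trans (by simp))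
      exact ⟨t, hsub U _ hU (isOpen_biUnion fun i _ => hO i) (ht.trans (by simp))⟩
  have hretr : ∀ U : Set X, IsOpen U →
      (IsRetrocompact U ↔ IsRetrocompact ((Subtype.val : closedPoints X → X) ⁻¹' U)) := by
    intro U hU
    constructor
    · intro h K hK hKo
      obtain ⟨O, hO, rfl⟩ := isOpen_induced_iff.1 hKo
      rw [← preimage_inter]
      exact (hcpt _ (hU.inter hO)).1 (h ((hcpt O hO).2 hK) hO)
    · intro h K hK hKo
      refine (hcpt _ (hU.inter hKo)).2 ?_
      rw [preimage_inter]
      exact h ((hcpt K hKo).1 hK) (hKo.preimage continuous_subtype_val)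
  have hpre : ∀ E : Set X, IsConstructible E → IsConstructible ((Subtype.val : closedPoints X → X) ⁻¹' E) :=
    fun E hE => hE.preimage continuous_subtype_val fun U hU hr => (hretr U hU).1 hr
  refine ⟨fun U hU => ⟨hcpt U hU, hretr U hU⟩, hpre, fun E E' hE hE' =>
    ⟨fun h x hx => by_contra fun hx' => ?_, fun h => preimage_mono h⟩, fun F hF => ?_⟩
  · obtain ⟨n, L, hL, hLE⟩ := exists_fin_union (hE.sdiff hE')
    obtain ⟨i, hi⟩ := mem_iUnion.1 (hLE.le ⟨hx, hx'⟩)
    have := hnp (L i) (hL i) (eq_empty_of_forall_notMem fun z hz =>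
      (hLE.ge (mem_iUnion.2 ⟨i, hz⟩)).2 (h (hLE.ge (mem_iUnion.2 ⟨i, hz⟩)).1))
    exact notMem_empty x (this ▸ hi)
  · induction hF using IsConstructible.empty_union_induction with
    | open_retrocompact V hV hVr =>
      obtain ⟨O, hO, rfl⟩ := isOpen_induced_iff.1 hV
      exact ⟨O, ((hretr O hO).2 hVr).isConstructible hO, rfl⟩
    | union s hs t ht ihs iht =>
      obtain ⟨S, hS, rfl⟩ := ihs
      obtain ⟨T, hT, rfl⟩ := iht
      exact ⟨S ∪ T, hS.union hT, rfl⟩
    | compl s hs ih =>
      obtain ⟨S, hS, rfl⟩ := ih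
      exact ⟨Sᶜ, hS.compl, rfl⟩

end Groth.Agent.S7549
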