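import Groth.Statements.S7550


set_option autoImplicit false
universe u
open PtTop

namespace Groth.Agent.S7550

/-- Let f : X → Y be a continuous and open map of topological spaces, with X Noetherian, every
irreducible closed subset of X having a generic point, and Y Kolmogorov. Then generalizations lift
along f. (Part (1), closed maps are specializing, is a library fact.) -/
theorem result {X Y : Type u} [TopologicalSpace X] [TopologicalSpace Y]
    [TopologicalSpace.NoetherianSpace X] [QuasiSober X] [T0Space Y]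
    (f : X → Y) (hf : Continuous f) (hfo : IsOpenMap f) :
    GeneralizingMap f := by
  open Set TopologicalSpace Topology in
  intro x y hy
  let B := f ⁻¹' {y}
  have hxB : x ∈ closure B := mem_closure_iff.2 fun O hO hxO => by
    obtain ⟨z, hz, hzy⟩ := hy.mem_open (hfo O hO) ⟨x, hxO, rfl⟩
    exact ⟨z, hz, hzy⟩
  obtain ⟨S, hSf, hSc, hSi, hSeq⟩ := NoetherianSpace.exists_finite_set_isClosed_irreducible
    (isClosed_closure (s := B))
  obtain ⟨Z₀, hZ₀, hxZ₀⟩ := (hSeq ▸ hxB : x ∈ ⋃₀ S)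
  obtain ⟨Z, hle, hZ⟩ := hSf.exists_le_maximal hZ₀
  have hg := (hSi Z hZ.1).isGenericPoint_genericPoint (hSc Z hZ.1)
  refine ⟨(hSi Z hZ.1).genericPoint, hg.specializes (hle hxZ₀), ?_⟩
  have hR : IsClosed (⋃₀ (S \ {Z})) := by
    rw [sUnion_eq_biUnion]
    exact hSf.sdiff.isClosed_biUnion fun s hs => hSc s hs.1
  have hηR : (hSi Z hZ.1).genericPoint ∉ ⋃₀ (S \ {Z}) := by
    rintro ⟨T, ⟨hT, hne⟩, hmem⟩
    have hZT : Z ⊆ T := hg.symm.le.trans ((hSc T hT).closure_subset_iff.2 (singleton_subset_iff.2 hmem))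
    exact hne ((hZ.2 hT hZT).antisymm hZT)
  obtain ⟨b, hb, hbB⟩ := mem_closure_iff.1 (hSeq ▸ mem_sUnion_of_mem hg.mem hZ.1 : _ ∈ closure B) _ hR.isOpen_compl hηR
  have hbZ : b ∈ Z := by
    obtain ⟨T, hT, hbT⟩ := (hSeq ▸ subset_closure hbB : b ∈ ⋃₀ S)
    by_contra hbZ
    exact hb ⟨T, ⟨hT, fun e => hbZ (mem_singleton_iff.1 e ▸ hbT)⟩, hbT⟩
  have h1 : f (hSi Z hZ.1).genericPoint ⤳ y := by
    have := (hg.specializes hbZ).map hf
    rwa [show f b = y from hbB] at this
  have h2 : y ⤳ f (hSi Z hZ.1).genericPoint := by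
    rw [specializes_iff_mem_closure]
    have := image_closure_subset_closure_image hf (s := B) ⟨_, (hSeq ▸ mem_sUnion_of_mem hg.mem hZ.1 : _ ∈ closure B), rfl⟩
    exact closure_mono (image_preimage_subset f {y}) this
  exact (h1.antisymm h2).eq

end Groth.Agent.S7550
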