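import Groth.Statements.S7551


set_option autoImplicit false
universe u
open PtTop

namespace Groth.Agent.S7551

/-- Let s, t : R → U and π : U → X be continuous maps between topological spaces satisfying: (1) π is an
open map, (2) U is a sober space, (3) s and t have finite fibres, (4) generalizations lift along s
and along t, and (5) the image of (t, s) : R → U × U is an equivalence relation on U and π
identifies X, as a set, with the quotient of U by it. Then X is Kolmogorov. -/
theorem result {R U X : Type u}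
    [TopologicalSpace R] [TopologicalSpace U] [TopologicalSpace X] [QuasiSober U] [T0Space U]
    (s t : R → U) (π : U → X) (hs : Continuous s) (ht : Continuous t) (hπ : Continuous π)
    (hπo : IsOpenMap π) (hsf : ∀ u, (s ⁻¹' {u}).Finite) (htf : ∀ u, (t ⁻¹' {u}).Finite)
    (hsg : GeneralizingMap s) (htg : GeneralizingMap t)
    (hE : Equivalence fun u u' : U => ∃ r, t r = u ∧ s r = u')
    (hπs : Function.Surjective π) (hπq : ∀ u u' : U, π u = π u' ↔ ∃ r, t r = u ∧ s r = u') :
    T0Space X := by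
  open Set Topology in
  let r : U → U → Prop := fun u u' => ∃ a, t a = u ∧ s a = u'
  have hfin : ∀ u, {v | r v u}.Finite := fun u =>
    ((hsf u).image t).subset fun v ⟨a, h1, h2⟩ => ⟨a, h2, h1⟩
  -- generalizations transport along the equivalence relation
  have htrans : ∀ a b a', r a b → a' ⤳ a → ∃ b', b' ⤳ b ∧ r a' b' := by
    rintro _ _ a' ⟨q, rfl, rfl⟩ h
    obtain ⟨q', hq', rfl⟩ := htg h
    exact ⟨s q', hq'.map hs, q', rfl, rfl⟩
  have hlift : ∀ u u', Inseparable (π u) (π u') → ∀ a, r a u → ∃ b, r b u' ∧ b ⤳ a := by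
    intro u u' hins a ha
    have hcl : u ∈ closure {v | r v u'} := mem_closure_iff.2 fun O hO huO => by
      obtain ⟨z, hz, hzeq⟩ := (hins.mem_open_iff (hπo O hO)).1 ⟨u, huO, rfl⟩
      exact ⟨z, hz, (hπq z u').1 hzeq⟩
    rw [← biUnion_of_singleton {v | r v u'}, (hfin u').closure_biUnion] at hcl
    obtain ⟨v, hv, huv⟩ := mem_iUnion₂.1 hcl
    obtain ⟨b, hb, hvb⟩ := htrans u a v (hE.symm ha) (specializes_iff_mem_closure.2 huv)
    exact ⟨b, hE.trans (hE.symm hvb) hv, hb⟩
  refine ⟨fun p q hpq => ?_⟩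
  obtain ⟨u, rfl⟩ := hπs p
  obtain ⟨u', rfl⟩ := hπs q
  obtain ⟨C, hC⟩ := ((hfin u).image fun v => closure ({v} : Set U)).exists_maximal ⟨_, u, hE.refl u, rfl⟩
  obtain ⟨a, ha, rfl⟩ := hC.1
  obtain ⟨b, hb, hba⟩ := hlift u u' hpq a ha
  obtain ⟨a', ha', hab⟩ := hlift u' u hpq.symm b hb
  have h1 : closure {a} ⊆ closure {a'} :=
    closure_minimal (singleton_subset_iff.2 (hab.trans hba).mem_closure) isClosed_closure
  have h2 : closure {a'} ⊆ closure {a} := hC.2 ⟨a', ha', rfl⟩ h1
  have h3 : a ⤳ a' := specializes_iff_mem_closure.2 (h2 (subset_closure rfl))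
  obtain rfl : b = a := (hba.antisymm (h3.trans hab)).eq
  exact (hπq u u').2 (hE.trans (hE.symm ha) hb)

end Groth.Agent.S7551
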