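import Groth.Statements.S7555


set_option autoImplicit false
universe u
open PtTop

namespace Groth.Agent.S7555

/-- Let f : X → X be a surjective continuous self-map of a Hausdorff topological space with f ≠ id. Then
there is a closed subset E ⊊ X such that X = E ∪ f(E). -/
theorem result {X : Type u} [TopologicalSpace X] [T2Space X]
    (f : X → X) (hf : Continuous f) (hsurj : Function.Surjective f) (hne : f ≠ id) :
    ∃ E : Set X, IsClosed E ∧ E ≠ Set.univ ∧ E ∪ f '' E = Set.univ := by
  obtain ⟨x, hx⟩ : ∃ x, f x ≠ x := by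
    by_contra! H
    exact hne (funext H)
  obtain ⟨U, V, hU, hV, hxU, hfxV, hd⟩ := t2_separation (Ne.symm hx)
  refine ⟨(U ∩ f ⁻¹' V)ᶜ, (hU.inter (hV.preimage hf)).isClosed_compl, ?_, ?_⟩
  · exact fun h => (Set.compl_univ_iff.1 h).le ⟨hxU, hfxV⟩
  · refine Set.eq_univ_of_forall fun z => ?_
    by_cases hz : z ∈ U ∩ f ⁻¹' V
    · obtain ⟨w, rfl⟩ := hsurj z
      exact .inr ⟨w, fun hw => Set.disjoint_left.1 hd hz.1 hw.2, rfl⟩
    · exact .inl hz

end Groth.Agent.S7555
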