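import Groth.Statements.S7556
import Groth.Agent.S7555

set_option autoImplicit false
universe u
open PtTop

namespace Groth.Agent.S7556

/-- Let X be a quasi-compact Hausdorff space. There is a continuous surjection p : X' → X with X'
quasi-compact, Hausdorff and extremally disconnected such that no proper closed subset of X' maps
onto X; and if q : X'' → X is a second cover with the same properties, there is a homeomorphism X' ≃
X'' compatible with p and q. -/
theorem result (X : Type u) [TopologicalSpace X] [CompactSpace X] [T2Space X] :
    (∃ (X' : Type u) (_ : TopologicalSpace X') (_ : CompactSpace X') (_ : T2Space X') (_ : ExtremallyDisconnected X')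
        (p : X' → X), Continuous p ∧ Function.Surjective p ∧
        ∀ E : Set X', IsClosed E → E ≠ Set.univ → p '' E ≠ Set.univ) ∧
    (∀ (X' X'' : Type u) [TopologicalSpace X'] [CompactSpace X'] [T2Space X'] [ExtremallyDisconnected X']
        [TopologicalSpace X''] [CompactSpace X''] [T2Space X''] [ExtremallyDisconnected X'']
        (p : X' → X) (q : X'' → X),
        Continuous p → Function.Surjective p → (∀ E : Set X', IsClosed E → E ≠ Set.univ → p '' E ≠ Set.univ) →
        Continuous q → Function.Surjective q → (∀ E : Set X'', IsClosed E → E ≠ Set.univ → q '' E ≠ Set.univ) →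
        ∃ h : X' ≃ₜ X'', q ∘ h = p) := by
  open Function Set in
  -- a self-map over `X` of a minimal cover is the identity
  have hid : ∀ (A : Type u) [TopologicalSpace A] [CompactSpace A] [T2Space A] (p : A → X) (h : A → A),
      Continuous p → Surjective p → (∀ E : Set A, IsClosed E → E ≠ univ → p '' E ≠ univ) →
      Continuous h → p ∘ h = p → h = id := by
    intro A _ _ _ p h hp hps hmin hh hph
    have hhs : Surjective h := by
      by_contra hns
      refine hmin (range h) (isCompact_range hh).isClosed (fun e => hns (range_eq_univ.1 e)) ?_
      rw [← range_comp, hph]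
      exact range_eq_univ.2 hps
    by_contra hne
    obtain ⟨E, hE, hEne, hEu⟩ := Groth.Agent.S7555.result h hh hhs hne
    refine hmin E hE hEne ?_
    have : p '' (E ∪ h '' E) = p '' E := by rw [image_union, ← image_comp, hph, union_self]
    rw [← this, hEu, image_univ]
    exact range_eq_univ.2 hps
  refine ⟨?_, ?_⟩
  · letI : TopologicalSpace X := ‹_›
    let D := WithTopology X (⊥ : TopologicalSpace X)
    have : DiscreteTopology D := discreteTopology_iff_forall_isOpen.2 fun s =>
      (WithTopology.isOpen_iff _).2 trivial
    let π : StoneCech D → X := stoneCechExtend (g := fun d : D => WithTopology.ofTopology d) continuous_of_discreteTopology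
    have hπ : Continuous π := continuous_stoneCechExtend _
    have hπs : Surjective π := fun x => ⟨stoneCechUnit (WithTopology.toTopology _ x),
      congrFun (stoneCechExtend_extends (g := fun d : D => WithTopology.ofTopology d) continuous_of_discreteTopology) _⟩
    obtain ⟨E, hEc, hEs, hEmin⟩ := exists_compact_surjective_zorn_subset hπ hπs
    let p : E → X := E.domRestrict π
    have hp : Continuous p := hπ.continuousOn.domRestrict
    have hps : Surjective p := fun x => by
      obtain ⟨d, hd, rfl⟩ := hEs.ge (mem_univ x)
      exact ⟨⟨d, hd⟩, rfl⟩
    have hmin : ∀ E₀ : Set E, IsClosed E₀ → E₀ ≠ univ → p '' E₀ ≠ univ := fun E₀ h1 h2 => hEmin E₀ h2 h1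
    obtain ⟨r, hr, hpr⟩ := StoneCech.projective (X := D) hπ hp hps
    have hrid : (fun e : E => r e.1) = id := hid E p _ hp hps hmin (hr.comp continuous_subtype_val)
      (funext fun e => congrFun hpr e.1)
    have hproj : CompactT2.Projective E := by
      intro B C _ _ _ _ _ _ f g hf hg hgs
      obtain ⟨k, hk, hgk⟩ := StoneCech.projective (X := D) (hf.comp hr) hg hgs
      refine ⟨fun e => k e.1, hk.comp continuous_subtype_val, funext fun e => ?_⟩
      have := congrFun hgk e.1
      simp only [comp_apply] at this ⊢
      rw [this, show r e.1 = e from congrFun hrid e]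
    exact ⟨E, inferInstance, hEc, inferInstance, hproj.extremallyDisconnected, p, hp, hps, hmin⟩
  · intro A B _ _ _ _ _ _ _ _ p q hp hps hpm hq hqs hqm
    obtain ⟨h, hh, hqh⟩ := CompactT2.ExtremallyDisconnected.projective (A := A) hp hq hqs
    obtain ⟨g, hg, hpg⟩ := CompactT2.ExtremallyDisconnected.projective (A := B) hq hp hps
    have h1 := hid A p (g ∘ h) hp hps hpm (hg.comp hh) (by rw [← comp_assoc, hpg, hqh])
    have h2 := hid B q (h ∘ g) hq hqs hqm (hh.comp hg) (by rw [← comp_assoc, hqh, hpg])
    exact ⟨{ toFun := h, invFun := g, left_inv := congrFun h1, right_inv := congrFun h2,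
             continuous_toFun := hh, continuous_invFun := hg }, hqh⟩

end Groth.Agent.S7556
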