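import Groth.Statements.S7559
import Groth.Agent.ConstrSets.Basic
import Mathlib.SetTheory.Cardinal.Finite

set_option autoImplicit false
universe u
open PtTop

namespace Groth.Agent.S7559

/-- Let X be a topological space and X = ∐ P_k a finite partition into locally closed parts. Then there
is a finite stratification of X refining it: a finite partially ordered index set I and pairwise
disjoint locally closed strata S_i covering X with closure(S_j) ⊆ ⋃_{i ≤ j} S_i, such that every
part P_k is a union of strata. -/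
theorem result {X : Type u} [TopologicalSpace X]
    {n : ℕ} (P : Fin n → Set X) (hP : ∀ k, IsLocallyClosed (P k)) (hcov : ⋃ k, P k = Set.univ)
    (hdisj : ∀ k k', k ≠ k' → Disjoint (P k) (P k')) :
    ∃ (I : Type) (_ : Fintype I) (_ : PartialOrder I) (S : I → Set X),
      (∀ i, IsLocallyClosed (S i)) ∧ (⋃ i, S i = Set.univ) ∧ (∀ i j, i ≠ j → Disjoint (S i) (S j)) ∧
      (∀ j, closure (S j) ⊆ ⋃ i ∈ Set.Iic j, S i) ∧
      (∀ i k, (S i ∩ P k).Nonempty → S i ⊆ P k) := by
  open Groth.Agent.ConstrSets in
  choose U C hU hC hUC using hP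
  obtain ⟨I, hI, hI', S, h1, h2, h3, h4, h5⟩ := exists_stratification
    (Sum.elim U fun k => (C k)ᶜ) (Sum.rec hU fun k => (hC k).isOpen_compl) P
    (fun k x y h hx => by
      rw [hUC k] at hx ⊢
      have h1 := h (.inl k); have h2 := h (.inr k)
      simp only [Sum.elim_inl, Sum.elim_inr, Set.mem_compl_iff, not_iff_not] at h1 h2
      exact ⟨h1.1 hx.1, h2.1 hx.2⟩)
  exact ⟨I, hI, hI', S, fun i => (h1 i).1, h2, h3, h4, h5⟩

end Groth.Agent.S7559
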