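import Groth.Statements.S7560
import Groth.Agent.ConstrSets.Basic
import Mathlib.SetTheory.Cardinal.Finite

set_option autoImplicit false
universe u
open ConstrTop

namespace Groth.Agent.S7560

/-- Let X be a topological space written as a finite union X = T_1 ∪ … ∪ T_n of constructible subsets.
Then there is a finite stratification X = ∐ S_i (pairwise disjoint locally closed strata indexed by
a finite partially ordered set, with closure(S_j) ⊆ ⋃_{i ≤ j} S_i) whose strata are constructible
and such that every T_k is a union of strata. -/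
theorem result {X : Type u} [TopologicalSpace X]
    {n : ℕ} (T : Fin n → Set X) (hT : ∀ k, Topology.IsConstructible (T k)) (hcov : ⋃ k, T k = Set.univ) :
    ∃ (I : Type) (_ : Fintype I) (_ : PartialOrder I) (S : I → Set X),
      (∀ i, IsLocallyClosed (S i) ∧ Topology.IsConstructible (S i)) ∧ (⋃ i, S i = Set.univ) ∧
      (∀ i j, i ≠ j → Disjoint (S i) (S j)) ∧
      (∀ j, closure (S j) ⊆ ⋃ i ∈ Set.Iic j, S i) ∧
      (∀ i k, (S i ∩ T k).Nonempty → S i ⊆ T k) := by
  open Groth.Agent.ConstrSets in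
  choose 𝒰 hf hU hdet using fun k => exists_finite_determining (hT k)
  have : Finite ↥(⋃ k, 𝒰 k) := (Set.finite_iUnion hf).to_subtype
  obtain ⟨N, ⟨e⟩⟩ := Finite.exists_equiv_fin ↥(⋃ k, 𝒰 k)
  have hU' : ∀ i, IsOpen (e.symm i).1 ∧ IsRetrocompact (e.symm i).1 := fun i => by
    obtain ⟨k, hk⟩ := Set.mem_iUnion.1 (e.symm i).2
    exact hU k _ hk
  obtain ⟨I, hI, hI', S, h1, h2, h3, h4, h5⟩ := exists_stratification (fun i => (e.symm i).1)
    (fun i => (hU' i).1) T (fun k x y h hx => hdet k x y (fun U hUk => by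
      simpa using h (e ⟨U, Set.mem_iUnion.2 ⟨k, hUk⟩⟩)) hx)
  exact ⟨I, hI, hI', S, fun i => ⟨(h1 i).1, (h1 i).2 fun j => (hU' j).2⟩, h2, h3, h4, h5⟩

end Groth.Agent.S7560
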