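import Groth.Statements.S7561
import Groth.Agent.ConstrSets.Basic
import Mathlib.SetTheory.Cardinal.Finite

set_option autoImplicit false
universe u
open PtTop

namespace Groth.Agent.S7561

/-- Let X be a Noetherian topological space and X = ∐ P_k a finite partition into locally closed parts.
Then it is refined by a finite good stratification: a finite partition X = ∐ S_i into locally closed
strata such that S_i ∩ closure(S_j) ≠ ∅ implies S_i ⊆ closure(S_j), with every P_k a union of
strata. -/
theorem result {X : Type u} [TopologicalSpace X]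
    [TopologicalSpace.NoetherianSpace X]
    {n : ℕ} (P : Fin n → Set X) (hP : ∀ k, IsLocallyClosed (P k)) (hcov : ⋃ k, P k = Set.univ)
    (hdisj : ∀ k k', k ≠ k' → Disjoint (P k) (P k')) :
    ∃ (m : ℕ) (S : Fin m → Set X),
      (∀ i, IsLocallyClosed (S i)) ∧ (⋃ i, S i = Set.univ) ∧ (∀ i j, i ≠ j → Disjoint (S i) (S j)) ∧
      (∀ i j, (S i ∩ closure (S j)).Nonempty → S i ⊆ closure (S j)) ∧
      (∀ i k, (S i ∩ P k).Nonempty → S i ⊆ P k) := by
  open Groth.Agent.ConstrSets in
  obtain ⟨Ss, hSf, hSl, hSu, hSd, hSg, hSP⟩ := exists_good_stratification (⊤ : TopologicalSpace.Closeds X)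
    (Set.range P) (Set.finite_range P) (by rintro _ ⟨k, rfl⟩; exact isConstructible_of_isLocallyClosed (hP k))
  have := hSf.to_subtype
  obtain ⟨N, ⟨e⟩⟩ := Finite.exists_equiv_fin ↥Ss
  refine ⟨N, fun i => (e.symm i).1, fun i => hSl _ (e.symm i).2, ?_, ?_, ?_, ?_⟩
  · show (⋃ i, (fun s : ↥Ss => (s : Set X)) (e.symm i)) = Set.univ
    rw [e.symm.surjective.iUnion_comp (fun s : ↥Ss => (s : Set X)), ← Set.sUnion_eq_iUnion, hSu]
    rfl
  · exact fun i j hij => hSd (e.symm i).2 (e.symm j).2 fun h => hij (e.symm.injective (Subtype.ext h))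
  · exact fun i j => hSg _ (e.symm i).2 _ (e.symm j).2
  · exact fun i k => hSP _ (e.symm i).2 _ ⟨k, rfl⟩

end Groth.Agent.S7561
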