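import Groth.Statements.S7562


set_option autoImplicit false
universe u
open PtTop

namespace Groth.Agent.S7562

/-- Let f : X → Y be a surjective closed continuous map of topological spaces and T ⊆ Y. Then the
closure of T equals f applied to the closure of f⁻¹(T), and T is locally closed in Y if and only if
f⁻¹(T) is locally closed in X. The published statement also asserts that Y carries the quotient
topology of X; this row states the closure formula and the locally-closed equivalence only. -/
theorem result {X Y : Type u} [TopologicalSpace X] [TopologicalSpace Y]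
    (f : X → Y) (hf : Continuous f) (hc : IsClosedMap f) (hs : Function.Surjective f) (T : Set Y) :
    closure T = f '' closure (f ⁻¹' T) ∧ (IsLocallyClosed T ↔ IsLocallyClosed (f ⁻¹' T)) := by
  open Set in
  have h1 : ∀ T : Set Y, closure T = f '' closure (f ⁻¹' T) := fun T =>
    subset_antisymm ((hc _ isClosed_closure).closure_subset_iff.2 fun y hy => by
      obtain ⟨x, rfl⟩ := hs y; exact ⟨x, subset_closure hy, rfl⟩)
      ((image_closure_subset_closure_image hf).trans (closure_mono (image_preimage_subset f T)))
  refine ⟨h1 T, fun h => h.preimage hf, fun h => ?_⟩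
  obtain ⟨U, C, hU, hC, hUC⟩ := h
  have hsub : closure (f ⁻¹' T) ⊆ C := hC.closure_subset_iff.2 (hUC ▸ inter_subset_right)
  refine ⟨(f '' (closure (f ⁻¹' T) \ U))ᶜ, closure T,
    (hc _ (isClosed_closure.sdiff hU)).isOpen_compl, isClosed_closure, ?_⟩
  ext y
  refine ⟨fun hy => ⟨?_, subset_closure hy⟩, fun ⟨hy1, hy2⟩ => ?_⟩
  · rintro ⟨x, ⟨-, hxU⟩, rfl⟩
    exact hxU (hUC.le hy).1
  · obtain ⟨x, hx, rfl⟩ := (h1 T).le hy2
    have hxU : x ∈ U := by_contra fun hxU => hy1 ⟨x, ⟨hx, hxU⟩, rfl⟩
    exact hUC.ge ⟨hxU, hsub hx⟩

end Groth.Agent.S7562
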