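import Groth.Statements.S7563


set_option autoImplicit false
universe u
open PtTop

namespace Groth.Agent.S7563

/-- Let X be a topological space and X = X_1 ∪ … ∪ X_n with each X_i irreducible and closed and no X_i
contained in the union of the others. Then the irreducible components of X are precisely the sets
X_1, …, X_n. -/
theorem result {X : Type u} [TopologicalSpace X]
    {n : ℕ} (Z : Fin n → Set X) (hZ : ∀ i, IsIrreducible (Z i) ∧ IsClosed (Z i))
    (hcov : ⋃ i, Z i = Set.univ) (hirr : ∀ i, ¬ Z i ⊆ ⋃ j ∈ ({i}ᶜ : Set (Fin n)), Z j) :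
    irreducibleComponents X = Set.range Z := by
  open Set in
  classical
  have hsub : ∀ S : Set X, IsIrreducible S → ∃ i, S ⊆ Z i := by
    intro S hS
    obtain ⟨z, hz, h⟩ := isIrreducible_iff_sUnion_isClosed.1 hS (Finset.univ.image Z)
      (by simp only [Finset.mem_image]; rintro _ ⟨i, _, rfl⟩; exact (hZ i).2)
      (by simp [sUnion_range, hcov])
    obtain ⟨i, -, rfl⟩ := Finset.mem_image.1 hz
    exact ⟨i, h⟩
  have huniq : ∀ i j, Z i ⊆ Z j → i = j := fun i j h => by_contra fun hij =>
    hirr i (h.trans (subset_biUnion_of_mem (u := Z) (show j ∈ ({i}ᶜ : Set (Fin n)) from fun e => hij e.symm)))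
  ext S
  constructor
  · intro hS
    obtain ⟨i, hi⟩ := hsub S hS.1
    exact ⟨i, (hS.2 (hZ i).1 hi).antisymm hi⟩
  · rintro ⟨i, rfl⟩
    refine ⟨(hZ i).1, fun S hS hiS => ?_⟩
    obtain ⟨j, hj⟩ := hsub S hS
    exact huniq i j (hiS.trans hj) ▸ hj

end Groth.Agent.S7563
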