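import Groth.Statements.S7564


set_option autoImplicit false
universe u
open PtTop

namespace Groth.Agent.S7564

/-- For a continuous surjection f : X → Y, if X has finitely many irreducible components, say n of them,
then Y has at most n irreducible components. -/
theorem result {X Y : Type u} [TopologicalSpace X] [TopologicalSpace Y]
    (f : X → Y) (hf : Continuous f) (hs : Function.Surjective f) (hfin : (irreducibleComponents X).Finite) :
    (irreducibleComponents Y).Finite ∧ (irreducibleComponents Y).ncard ≤ (irreducibleComponents X).ncard := by
  open Set in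
  classical
  let g : Set X → Set Y := fun C => closure (f '' C)
  have hsub : irreducibleComponents Y ⊆ g '' irreducibleComponents X := by
    intro S hS
    have hcov : S ⊆ ⋃₀ ↑(hfin.toFinset.image g) := fun y _ => by
      obtain ⟨x, rfl⟩ := hs y
      exact mem_sUnion.2 ⟨g (irreducibleComponent x), Finset.mem_coe.2 (Finset.mem_image_of_mem g
        (hfin.mem_toFinset.2 (irreducibleComponent_mem_irreducibleComponents x))),
        subset_closure ⟨x, mem_irreducibleComponent, rfl⟩⟩
    obtain ⟨z, hz, hSz⟩ := isIrreducible_iff_sUnion_isClosed.1 hS.1 _
      (by simp only [Finset.mem_image]; rintro _ ⟨i, _, rfl⟩; exact isClosed_closure) hcov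
    obtain ⟨C, hC, rfl⟩ := Finset.mem_image.1 hz
    have hC' := hfin.mem_toFinset.1 hC
    exact ⟨C, hC', (hS.2 ((hC'.1.image f hf.continuousOn).closure) hSz).antisymm hSz⟩
  exact ⟨(hfin.image g).subset hsub, (ncard_le_ncard hsub (hfin.image g)).trans (ncard_image_le hfin)⟩

end Groth.Agent.S7564
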