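import Groth.Statements.S7566
import Mathlib.Topology.Spectral.Prespectral
import Mathlib.Topology.QuasiSeparated

set_option autoImplicit false
universe u
open PtTop

namespace Groth.Agent.S7566

/-- Let X be a quasi-compact topological space whose quasi-compact opens form a basis, any two of them
meeting in a quasi-compact set. Then for every x ∈ X the connected component of x equals the
intersection of every clopen subset of X that contains x. -/
theorem result {X : Type u} [TopologicalSpace X]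
    [CompactSpace X] [PrespectralSpace X] [QuasiSeparatedSpace X] (x : X) :
    connectedComponent x = ⋂₀ {Z : Set X | IsClopen Z ∧ x ∈ Z} := by
  open Set in
  refine subset_antisymm (subset_sInter fun Z hZ => hZ.1.connectedComponent_subset hZ.2) ?_
  let Q := ⋂₀ {Z : Set X | IsClopen Z ∧ x ∈ Z}
  have hxQ : x ∈ Q := mem_sInter.2 fun Z hZ => hZ.2
  have hQc : IsClosed Q := isClosed_sInter fun Z hZ => hZ.1.1
  have key : ∀ C : Set X, IsCompact C → Disjoint Q C → ∃ Z, IsClopen Z ∧ x ∈ Z ∧ Disjoint Z C := by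
    intro C hC hd
    obtain ⟨t, ht⟩ := hC.elim_finite_subfamily_closed (fun Z : {Z : Set X // IsClopen Z ∧ x ∈ Z} => Z.1)
      (fun Z => Z.2.1.1) (eq_empty_of_forall_notMem fun z hz =>
        disjoint_left.1 hd (mem_sInter.2 fun Z hZ => mem_iInter.1 hz.2 ⟨Z, hZ⟩) hz.1)
    exact ⟨⋂ Z ∈ t, Z.1, isClopen_biInter_finset fun Z _ => Z.2.1, mem_iInter₂.2 fun Z _ => Z.2.2,
      disjoint_left.2 fun z hz hzC => notMem_empty z (ht ▸ ⟨hzC, hz⟩)⟩
  have hpre : IsPreconnected Q := by
    rw [isPreconnected_iff_subset_of_fully_disjoint_closed hQc]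
    intro A B hA hB hQAB hd
    obtain ⟨U, hUc, hUo, hAU, hUB⟩ := PrespectralSpace.exists_isCompact_and_isOpen_between
      hA.isCompact hB.isOpen_compl (subset_compl_iff_disjoint_right.2 hd)
    obtain ⟨V, hVc, hVo, hBV, hVA⟩ := PrespectralSpace.exists_isCompact_and_isOpen_between
      hB.isCompact hA.isOpen_compl (subset_compl_iff_disjoint_left.2 hd)
    obtain ⟨Z, hZ, hxZ, hZd⟩ := key ((U ∩ V) ∪ (U ∪ V)ᶜ)
      ((hUc.inter_of_isOpen hVc hUo hVo).union (hUo.union hVo).isClosed_compl.isCompact)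
      (disjoint_left.2 fun z hz h => by
        rcases h with h | h
        · rcases hQAB hz with hzA | hzB
          · exact hVA h.2 hzA
          · exact hUB h.1 hzB
        · exact h ((hQAB hz).imp (fun a => hAU a) fun b => hBV b))
    have hsplit : ∀ z ∈ Z, (z ∈ U ↔ z ∉ V) := fun z hz => by
      refine ⟨fun h h' => disjoint_left.1 hZd hz (.inl ⟨h, h'⟩), fun h => ?_⟩
      by_contra hU'
      exact disjoint_left.1 hZd hz (.inr fun h' => h'.elim hU' h)
    have hZU : Z ∩ U = Z \ V := by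
      ext z; exact ⟨fun h => ⟨h.1, (hsplit z h.1).1 h.2⟩, fun h => ⟨h.1, (hsplit z h.1).2 h.2⟩⟩
    have hclopU : IsClopen (Z ∩ U) := ⟨hZU ▸ hZ.1.sdiff hVo, hZ.2.inter hUo⟩
    have hclopV : IsClopen (Z ∩ V) := by
      have : Z ∩ V = Z \ U := by
        ext z; exact ⟨fun h => ⟨h.1, fun hu => (hsplit z h.1).1 hu h.2⟩,
          fun h => ⟨h.1, by_contra fun hv => h.2 ((hsplit z h.1).2 hv)⟩⟩
      exact ⟨this ▸ hZ.1.sdiff hUo, hZ.2.inter hVo⟩
    rcases hQAB hxQ with hxA | hxB
    · refine .inl fun z hz => (hQAB hz).resolve_right fun hzB => ?_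
      exact hUB (mem_sInter.1 hz (Z ∩ U) ⟨hclopU, hxZ, hAU hxA⟩).2 hzB
    · refine .inr fun z hz => (hQAB hz).resolve_left fun hzA => ?_
      exact hVA (mem_sInter.1 hz (Z ∩ V) ⟨hclopV, hxZ, hBV hxB⟩).2 hzA
  exact hpre.subset_connectedComponent hxQ

end Groth.Agent.S7566
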