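import Groth.Statements.S7567
import Groth.Agent.S7566

set_option autoImplicit false
universe u
open PtTop

namespace Groth.Agent.S7567

/-- Let X be a quasi-compact topological space whose quasi-compact opens form a basis, any two of them
meeting in a quasi-compact set. For a subset T ⊆ X these two conditions are equivalent: (a) T can be
written as an intersection of clopen subsets of X; (b) T is closed and is a union of connected
components of X. -/
theorem result {X : Type u} [TopologicalSpace X]
    [CompactSpace X] [PrespectralSpace X] [QuasiSeparatedSpace X] (T : Set X) :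
    (∃ S : Set (Set X), (∀ Z ∈ S, IsClopen Z) ∧ T = ⋂₀ S) ↔
      (IsClosed T ∧ ∀ x ∈ T, connectedComponent x ⊆ T) := by
  open Set in
  constructor
  · rintro ⟨S, hS, rfl⟩
    exact ⟨isClosed_sInter fun Z hZ => (hS Z hZ).1, fun x hx => subset_sInter fun Z hZ =>
      (hS Z hZ).connectedComponent_subset (hx Z hZ)⟩
  · rintro ⟨hT, hcomp⟩
    refine ⟨{Z | IsClopen Z ∧ T ⊆ Z}, fun Z hZ => hZ.1, subset_antisymm (subset_sInter fun Z hZ => hZ.2) ?_⟩
    intro y hy
    by_contra hyT
    have hempty : T ∩ (⋂ Z : {Z : Set X // IsClopen Z ∧ y ∈ Z}, Z.1) = ∅ :=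
      eq_empty_of_forall_notMem fun z hz => hyT (hcomp z hz.1 (by
        have hz' : z ∈ connectedComponent y := by
          rw [Groth.Agent.S7566.result y]
          exact mem_sInter.2 fun Z hZ => mem_iInter.1 hz.2 ⟨Z, hZ⟩
        rw [← connectedComponent_eq hz']
        exact mem_connectedComponent))
    obtain ⟨t, ht⟩ := hT.isCompact.elim_finite_subfamily_closed _
      (fun Z : {Z : Set X // IsClopen Z ∧ y ∈ Z} => Z.2.1.1) hempty
    have hy' : y ∈ (⋂ Z ∈ t, Z.1)ᶜ := hy _ ⟨(isClopen_biInter_finset fun Z _ => Z.2.1).compl,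
      fun z hz hz' => notMem_empty z (ht ▸ ⟨hz, hz'⟩)⟩
    exact hy' (mem_iInter₂.2 fun Z _ => Z.2.2)

end Groth.Agent.S7567
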