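import Groth.Statements.S7568
import Mathlib.Topology.Separation.Regular

set_option autoImplicit false
universe u
open PtTop

namespace Groth.Agent.S7568

/-- Let X be a Hausdorff quasi-compact space, X = ⋃ U_i an open covering, p ≥ 0 an integer, and for
every (p+1)-tuple (i_0, …, i_p) an open covering of U_{i_0} ∩ … ∩ U_{i_p} by opens W_{i_0…i_p,k}.
Then there are an open covering X = ⋃_{j ∈ J} V_j and a map α : J → I with closure(V_j) ⊆ U_{α(j)}
such that each V_{j_0} ∩ … ∩ V_{j_p} is contained in W_{α(j_0)…α(j_p),k} for some k. The published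
statement allows a covering of an empty intersection to have no members; this row requires every
covering W_{i_0…i_p} to have at least one member (possibly empty), without which the conclusion
fails. -/
theorem result {X : Type u} [TopologicalSpace X] [CompactSpace X] [T2Space X]
    {ι : Type u} (U : ι → Set X) (hU : ∀ i, IsOpen (U i)) (hcov : ⋃ i, U i = Set.univ) (p : ℕ)
    (W : (Fin (p + 1) → ι) → Set (Set X)) (hWo : ∀ t, ∀ w ∈ W t, IsOpen w)
    (hWc : ∀ t, ⋃₀ W t = ⋂ l, U (t l)) (hWne : ∀ t, (W t).Nonempty) :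
    ∃ (J : Type u) (V : J → Set X) (α : J → ι), (∀ j, IsOpen (V j)) ∧ (⋃ j, V j = Set.univ) ∧
      (∀ j, closure (V j) ⊆ U (α j)) ∧
      (∀ t : Fin (p + 1) → J, ∃ w ∈ W (α ∘ t), (⋂ l, V (t l)) ⊆ w) := by
  open Set in
  obtain ⟨s, hs⟩ := isCompact_univ.elim_finite_subcover U hU hcov.ge
  classical
  obtain ⟨K, hKc, hKU, hK⟩ := isCompact_univ.finite_compact_cover s U (fun i _ => hU i) hs
  have hO : ∀ i, ∃ L : Set X, IsCompact L ∧ K i ⊆ interior L ∧ L ⊆ U i := fun i =>
    exists_compact_between (hKc i) (hU i) (hKU i)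
  choose L hLc hKL hLU using hO
  have hα : ∀ x : X, ∃ i ∈ s, x ∈ interior (L i) := fun x => by
    obtain ⟨i, hi, hxi⟩ := mem_iUnion₂.1 (hK.le (mem_univ x))
    exact ⟨i, hi, hKL i hxi⟩
  choose α hαs hαx using hα
  have hw : ∀ (t : Fin (p + 1) → ι) (x : X), ∃ w ∈ W t, x ∈ (⋂ l, U (t l)) → x ∈ w := fun t x => by
    by_cases hx : x ∈ ⋂ l, U (t l)
    · obtain ⟨w, hw, hxw⟩ := (hWc t).ge hx
      exact ⟨w, hw, fun _ => hxw⟩
    · exact ⟨(hWne t).some, (hWne t).some_mem, fun h => absurd h hx⟩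
  choose w hwW hwx using hw
  let T : Finset (Fin (p + 1) → ι) := Fintype.piFinset fun _ => s
  let N : X → Set X := fun x => interior (L (α x)) ∩ (⋂ i ∈ s.filter (fun i => x ∉ L i), (L i)ᶜ) ∩
    ⋂ t ∈ T.filter (fun t => x ∈ ⋂ l, U (t l)), w t x
  have hNo : ∀ x, IsOpen (N x) := fun x =>
    (isOpen_interior.inter (isOpen_biInter_finset fun i _ => (hLc i).isClosed.isOpen_compl)).inter
      (isOpen_biInter_finset fun t _ => hWo t _ (hwW t x))
  have hxN : ∀ x, x ∈ N x := fun x => ⟨⟨hαx x, mem_iInter₂.2 fun i hi => (Finset.mem_filter.1 hi).2⟩,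
    mem_iInter₂.2 fun t ht => hwx t x (Finset.mem_filter.1 ht).2⟩
  refine ⟨X, N, α, hNo, eq_univ_of_forall fun x => mem_iUnion.2 ⟨x, hxN x⟩,
    fun x => (closure_minimal (fun z hz => interior_subset hz.1.1) (hLc (α x)).isClosed).trans (hLU _),
    fun t => ?_⟩
  rcases (⋂ l, N (t l)).eq_empty_or_nonempty with he | ⟨z, hz⟩
  · exact ⟨_, (hWne (α ∘ t)).some_mem, he ▸ empty_subset _⟩
  · refine ⟨w (α ∘ t) (t 0), hwW _ _, fun y hy => ?_⟩
    have hmem : t 0 ∈ ⋂ l, U ((α ∘ t) l) := mem_iInter.2 fun l => by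
      refine hLU _ (by_contra fun h => ?_)
      exact mem_iInter₂.1 (mem_iInter.1 hz 0).1.2 (α (t l)) (Finset.mem_filter.2 ⟨hαs _, h⟩)
        (interior_subset (mem_iInter.1 hz l).1.1)
    exact mem_iInter₂.1 (mem_iInter.1 hy 0).2 (α ∘ t)
      (Finset.mem_filter.2 ⟨Fintype.mem_piFinset.2 fun l => hαs _, hmem⟩)

end Groth.Agent.S7568
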