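import Groth.Statements.S7569
import Groth.Agent.PtTopLib.Shrink

set_option autoImplicit false
universe u
open PtTop

namespace Groth.Agent.S7569

/-- Let X be a Hausdorff, locally quasi-compact space and Z ⊆ X a quasi-compact subset. Let p ≥ 0, let
U_i ⊆ X be opens with Z ⊆ ⋃ U_i, and for every (p+1)-tuple (i_0, …, i_p) let W_{i_0…i_p} ⊆ U_{i_0} ∩
… ∩ U_{i_p} be an open with W_{i_0…i_p} ∩ Z = U_{i_0} ∩ … ∩ U_{i_p} ∩ Z. Then there are opens V_i ⊆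
X with Z ⊆ ⋃ V_i, closure(V_i) ⊆ U_i for all i, and V_{i_0} ∩ … ∩ V_{i_p} ⊆ W_{i_0…i_p} for all
(p+1)-tuples. -/
theorem result {X : Type u} [TopologicalSpace X]
    [T2Space X] [LocallyCompactSpace X] (Z : Set X) (hZ : IsCompact Z)
    {ι : Type u} (U : ι → Set X) (hU : ∀ i, IsOpen (U i)) (hcov : Z ⊆ ⋃ i, U i) (p : ℕ)
    (W : (Fin (p + 1) → ι) → Set X) (hWo : ∀ t, IsOpen (W t)) (hWU : ∀ t, W t ⊆ ⋂ l, U (t l))
    (hWZ : ∀ t, W t ∩ Z = (⋂ l, U (t l)) ∩ Z) :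
    ∃ V : ι → Set X, (∀ i, IsOpen (V i)) ∧ (Z ⊆ ⋃ i, V i) ∧ (∀ i, closure (V i) ⊆ U i) ∧
      (∀ t : Fin (p + 1) → ι, (⋂ l, V (t l)) ⊆ W t) := by
  open Groth.Agent.PtTopLib Set in
  have hrel : RelHausdorff Z := fun z _ z' _ hne => t2_separation hne
  obtain ⟨s, K, hK, -, hKcov⟩ := exists_shrinking hrel hZ U hU hcov
  have hO : ∀ i, ∃ L, IsCompact L ∧ K i ⊆ interior L ∧ L ⊆ U i := fun i =>
    exists_compact_between (hK i).1 (hU i) (hK i).2.2
  choose L hLc hKL hLU using hO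
  let U' : ι → Set X := fun i => interior (L i)
  obtain ⟨V, h1, h2, h3, -, h5⟩ := exists_lifting_cover hrel hZ U' (fun i => isOpen_interior)
    (hKcov.trans (iUnion_mono hKL)) p (fun t => W t ∩ ⋂ l, U' (t l))
    (fun t => (hWo t).inter (isOpen_iInter_of_finite fun l => isOpen_interior))
    (fun t => subset_antisymm (fun x hx => ⟨hx.1.2, hx.2⟩) fun x hx =>
      ⟨⟨((hWZ t).ge ⟨mem_iInter.2 fun l => hLU _ (interior_subset (mem_iInter.1 hx.1 l)), hx.2⟩).1, hx.1⟩, hx.2⟩)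
  exact ⟨V, h1, h2, fun i => (closure_minimal ((h3 i).trans interior_subset) (hLc i).isClosed).trans (hLU i),
    fun t => (h5 t).trans inter_subset_left⟩

end Groth.Agent.S7569
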