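import Groth.Statements.S7571
import Mathlib.Topology.Category.TopCat.Limits.Cofiltered

set_option autoImplicit false
universe u
open CategoryTheory CategoryTheory.Limits
open PtTop

namespace Groth.Agent.S7571

/-- Let j ↦ X_j be a diagram of topological spaces over a cofiltered category with limit X and
projections f_j. (1) Every open of X is a union of subsets of the form f_j⁻¹(U_j) with U_j ⊆ X_j
open. (2) Every quasi-compact open of X equals f_i⁻¹(U_i) for some i and some open U_i ⊆ X_i. -/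
theorem result {J : Type u} [SmallCategory J] [IsCofiltered J]
    (F : J ⥤ TopCat.{u}) (c : Cone F) (hc : IsLimit c) :
    (∀ W : Set c.pt, IsOpen W →
      ∃ S : Set (Σ j, Set (F.obj j)), (∀ s ∈ S, IsOpen s.2) ∧ W = ⋃ s ∈ S, c.π.app s.1 ⁻¹' s.2) ∧
    (∀ W : Set c.pt, IsOpen W → IsCompact W →
      ∃ (i : J) (Ui : Set (F.obj i)), IsOpen Ui ∧ W = c.π.app i ⁻¹' Ui) := by
  have hb := TopCat.isTopologicalBasis_cofiltered_limit.{u, u} F c hc (fun j => {V | IsOpen V})
    (fun j => TopologicalSpace.isTopologicalBasis_opens) (fun j => isOpen_univ)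
    (fun j U V hU hV => hU.inter hV) (fun i j f V hV => hV.preimage (F.map f).hom.continuous)
  refine ⟨fun W hW => ?_, fun W hW hWc => ?_⟩
  · refine ⟨{s | IsOpen s.2 ∧ c.π.app s.1 ⁻¹' s.2 ⊆ W}, fun s hs => hs.1,
      subset_antisymm (fun x hx => ?_) (Set.iUnion₂_subset fun s hs => hs.2)⟩
    obtain ⟨_, ⟨j, V, hV, rfl⟩, hxV, hVW⟩ := hb.exists_subset_of_mem_open hx hW
    exact Set.mem_iUnion₂.2 ⟨⟨j, V⟩, ⟨hV, hVW⟩, hxV⟩
  · obtain ⟨T, hT, rfl⟩ := hb.open_eq_sUnion hW
    obtain ⟨T', hT', hT'f, hsub⟩ := hWc.elim_finite_subcover_image (b := T) (c := id)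
      (fun i hi => hb.isOpen (hT hi)) (by rw [Set.sUnion_eq_biUnion]; rfl)
    choose k V hV hVeq using fun s : T' => hT (hT' s.2)
    classical
    have := hT'f.to_subtype
    have : Fintype T' := Fintype.ofFinite T'
    obtain ⟨i, hi⟩ := IsCofiltered.inf_objs_exists (Finset.univ.image k)
    have a : ∀ s : T', i ⟶ k s := fun s => (hi (Finset.mem_image_of_mem k (Finset.mem_univ s))).some
    refine ⟨i, ⋃ s : T', F.map (a s) ⁻¹' V s,
      isOpen_iUnion fun s => (hV s).preimage (F.map (a s)).hom.continuous, ?_⟩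
    have : ∀ s : T', c.π.app i ⁻¹' (F.map (a s) ⁻¹' V s) = s.1 := fun s => by
      rw [hVeq s]; ext x
      show F.map (a s) (c.π.app i x) ∈ V s ↔ c.π.app (k s) x ∈ V s
      rw [← c.w (a s)]; rfl
    rw [Set.preimage_iUnion]
    simp only [this]
    refine subset_antisymm (fun x hx => ?_) (Set.iUnion_subset fun s => Set.subset_sUnion_of_mem (hT' s.2))
    obtain ⟨s, hs, hxs⟩ := Set.mem_iUnion₂.1 (hsub hx)
    exact Set.mem_iUnion.2 ⟨⟨s, hs⟩, hxs⟩

end Groth.Agent.S7571
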