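import Groth.Statements.S7574
import Mathlib

set_option autoImplicit false
universe u
open CategoryTheory TopologicalSpace
open ShSp


namespace S7574Aux
open Opposite

variable {X : TopCat.{u}} (U : Opens X)

/-- The inclusion. -/
def inc : TopCat.of U ⟶ X := TopCat.ofHom ⟨_, continuous_subtype_val⟩

lemma inc_emb : Topology.IsOpenEmbedding (inc U) := U.isOpenEmbedding

abbrev img : Opens (TopCat.of U) ⥤ Opens X := (inc_emb U).isOpenMap.functor

lemma img_le (W : Opens (TopCat.of U)) : (img U).obj W ≤ U := by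
  rintro _ ⟨y, _, rfl⟩
  exact y.2

lemma img_map_eq {V : Opens X} (h : V ≤ U) : (img U).obj ((Opens.map (inc U)).obj V) = V := by
  apply le_antisymm
  · rintro _ ⟨y, hy, rfl⟩
    exact hy
  · intro x hx
    exact ⟨⟨x, h hx⟩, hx, rfl⟩

def hPre : X.Presheaf (Type u) where
  obj V := ULift.{u} (PLift (V.unop ≤ U))
  map f := ↾ fun h => ⟨⟨f.unop.le.trans h.down.down⟩⟩

def hSheaf : X.Sheaf (Type u) := ⟨hPre U, (TopCat.Presheaf.isSheaf_iff_isSheafUniqueGluing_types _).mpr (by
  intro ι V sf _
  exact ⟨⟨⟨iSup_le fun i => (sf i).down.down⟩⟩, fun i => rfl, fun y _ => rfl⟩)⟩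

noncomputable def toRestrict (F : (TopCat.of U).Sheaf (Type u)) : F ⟶ U.sheafRestrict.obj (hSheaf U) :=
  { hom := { app := fun W => ↾ fun _ => ⟨⟨img_le U W.unop⟩⟩
             naturality := fun _ _ _ => rfl } }

lemma fullFaith {L : (TopCat.of U).Sheaf (Type u) ⥤ X.Sheaf (Type u)}
    (adj : L ⊣ U.sheafRestrict (C := Type u)) : L.Full ∧ L.Faithful := by
  haveI := (inc_emb U).functor_isContinuous
  haveI : Mono (inc U) := (TopCat.mono_iff_injective _).mpr (inc_emb U).injective
  let a := (inc_emb U).isOpenMap.adjunction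
  haveI : (Opens.map (inc U)).IsContinuous (Opens.grothendieckTopology X) (Opens.grothendieckTopology (TopCat.of U)) :=
    Functor.isContinuous_of_coverPreserving (compatiblePreserving_opens_map _) (coverPreserving_opens_map _)
  haveI : (img U).Full := IsOpenMap.functorFullOfMono _
  haveI : (img U).Faithful := ⟨fun _ => Subsingleton.elim _ _⟩
  let adj₂ := a.sheafPushforwardContinuous (E := Type u) (Opens.grothendieckTopology (TopCat.of U)) (Opens.grothendieckTopology X)
  haveI : IsIso a.unit := inferInstance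
  haveI : IsIso adj₂.counit := by
    haveI : ∀ P, IsIso (adj₂.counit.app P) := fun P => by
      haveI : IsIso ((sheafToPresheaf _ _).map (adj₂.counit.app P)) := by
        haveI : ∀ W, IsIso ((adj₂.counit.app P).hom.app W) := fun W => by
          change IsIso (P.obj.map (a.unit.app W.unop).op)
          infer_instance
        exact NatIso.isIso_of_isIso_app (adj₂.counit.app P).hom
      exact isIso_of_reflects_iso _ (sheafToPresheaf _ _)
    exact NatIso.isIso_of_isIso_app _
  let t : Adjunction.Triple L (U.sheafRestrict (C := Type u)) _ := ⟨adj, adj₂⟩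
  have ff := t.fullyFaithfulEquiv.symm adj₂.fullyFaithfulROfIsIsoCounit
  exact ⟨ff.full, ff.faithful⟩

lemma isEmpty_of_hom {G : X.Sheaf (Type u)} (f : G ⟶ hSheaf U) (x : X) (hx : x ∉ U) :
    IsEmpty (G.presheaf.stalk x) := by
  refine ⟨fun t => ?_⟩
  obtain ⟨V, hxV, s, -⟩ := TopCat.Presheaf.exists_germ_eq G.presheaf t
  exact hx ((f.hom.app (op V) s).down.down hxV)

lemma le_of_section {G : X.Sheaf (Type u)} (h : ∀ x : X, x ∉ U → IsEmpty (G.presheaf.stalk x))
    {V : Opens X} (s : G.obj.obj (op V)) : V ≤ U := by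
  intro x hx
  by_contra hxU
  exact (h x hxU).false (G.presheaf.germ V x hx s)

lemma mem_essImage {L : (TopCat.of U).Sheaf (Type u) ⥤ X.Sheaf (Type u)}
    (adj : L ⊣ U.sheafRestrict (C := Type u)) [L.Full] [L.Faithful] {G : X.Sheaf (Type u)}
    (h : ∀ x : X, x ∉ U → IsEmpty (G.presheaf.stalk x)) : L.essImage G := by
  let c := adj.counit.app G
  have hc : IsIso (U.sheafRestrict.map c) := by
    have := adj.right_triangle_components G
    haveI : IsIso (adj.unit.app (U.sheafRestrict.obj G) ≫ U.sheafRestrict.map c) := by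
      rw [this]; exact IsIso.id _
    exact IsIso.of_isIso_comp_left (adj.unit.app (U.sheafRestrict.obj G)) (U.sheafRestrict.map c)
  haveI : IsIso c.hom := by
    haveI : ∀ V, IsIso (c.hom.app V) := fun V => by
      rw [isIso_iff_bijective]
      by_cases hV : V.unop ≤ U
      · have h2 : IsIso ((U.sheafRestrict.map c).hom.app (op ((Opens.map (inc U)).obj V.unop))) := by
          haveI : IsIso ((sheafToPresheaf _ _).map (U.sheafRestrict.map c)) := inferInstance
          exact inferInstanceAs (IsIso (((sheafToPresheaf _ _).map (U.sheafRestrict.map c)).app _))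
        have h3 : IsIso (c.hom.app (op ((img U).obj ((Opens.map (inc U)).obj V.unop)))) := h2
        rw [img_map_eq U hV] at h3
        exact (isIso_iff_bijective _).mp h3
      · have he : ∀ s : G.obj.obj V, False := fun s => hV (le_of_section U h s)
        exact ⟨fun a _ _ => (he (c.hom.app V a)).elim, fun b => (he b).elim⟩
    exact NatIso.isIso_of_isIso_app _
  exact ⟨_, ⟨(fullyFaithfulSheafToPresheaf _ _).preimageIso (asIso c.hom)⟩⟩

end S7574Aux

namespace Groth.Agent.S7574

/-- Let X be a topological space, U ⊆ X open and j_! : Sh(U) → Sh(X) a left adjoint of restriction of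
sheaves of sets to U. Then j_! is fully faithful, and a sheaf G on X lies in its essential image if
and only if G_x = ∅ for all x ∈ X not in U. -/
theorem result {X : TopCat.{u}} (U : Opens X)
    (L : (TopCat.of U).Sheaf (Type u) ⥤ X.Sheaf (Type u)) (adj : L ⊣ U.sheafRestrict (C := Type u)) :
    L.Full ∧ L.Faithful ∧
    ∀ G : X.Sheaf (Type u), L.essImage G ↔ ∀ x : X, x ∉ U → IsEmpty (G.presheaf.stalk x) := by
  obtain ⟨h1, h2⟩ := S7574Aux.fullFaith U adj
  refine ⟨h1, h2, fun G => ⟨?_, fun h => S7574Aux.mem_essImage U adj h⟩⟩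
  rintro ⟨F, ⟨e⟩⟩ x hx
  exact S7574Aux.isEmpty_of_hom U (e.inv ≫ (adj.homEquiv F _).symm (S7574Aux.toRestrict U F)) x hx

end Groth.Agent.S7574
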