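import Groth.Statements.S7575
import Groth.Agent.ShDirColim.Basic
import Mathlib

set_option autoImplicit false
universe u
open CategoryTheory CategoryTheory.Limits TopologicalSpace Opposite
open ShSp

namespace Groth.Agent.S7575

/-- Let X be a topological space, I a directed set, (F_i) a system of sheaves of sets on X over I with
colimit F (in sheaves), U ⊆ X open, and Ψ : colim_i F_i(U) → F(U) the canonical map. (1) If all
transition maps F_i → F_{i'} are injective (on all sections) then Ψ is injective. (2)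
Quasi-compactness of U alone already makes Ψ injective. (3) When U is quasi-compact and every
transition map is injective, Ψ is bijective. (4) If every open covering of U can be refined by a
finite open covering U = U_1 ∪ … ∪ U_m with all U_j ∩ U_{j'} quasi-compact, then Ψ is bijective. -/
theorem result {X : TopCat.{u}} {J : Type u} [Preorder J] [Nonempty J] [IsDirected J (· ≤ ·)]
    (F : J ⥤ X.Sheaf (Type u)) (c : Cocone F) (hc : IsColimit c) (U : Opens X) :
    let ev := TopCat.Sheaf.forget (Type u) X ⋙ (evaluation (Opens X)ᵒᵖ (Type u)).obj (op U)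
    let Ψ : colimit (F ⋙ ev) → ev.obj c.pt := colimit.desc (F ⋙ ev) (ev.mapCocone c)
    ((∀ (i j : J) (h : i ⟶ j) (V : Opens X), Function.Injective ((F.map h).1.app (op V))) → Function.Injective Ψ) ∧
    (IsCompact (U : Set X) → Function.Injective Ψ) ∧
    (IsCompact (U : Set X) → (∀ (i j : J) (h : i ⟶ j) (V : Opens X), Function.Injective ((F.map h).1.app (op V))) →
      Function.Bijective Ψ) ∧
    ((∀ 𝒱 : Set (Opens X), (⨆ V ∈ 𝒱, V) = U →
        ∃ (m : ℕ) (W : Fin m → Opens X), (∀ j, ∃ V ∈ 𝒱, W j ≤ V) ∧ (⨆ j, W j) = U ∧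
          ∀ j j', IsCompact ((W j ⊓ W j' : Opens X) : Set X)) →
      Function.Bijective Ψ) := by
  classical
  intro ev Ψ
  have hΨ : ∀ (i : J) (s : (F.obj i).1.obj (op U)), Ψ (colimit.ι (F ⋙ ev) i s) = ShDirColim.toc F c i s :=
    fun i s => ConcreteCategory.congr_hom (colimit.ι_desc (ev.mapCocone c) i) s
  have hw : ∀ (i j : J) (h : i ≤ j) (s : (F.obj i).1.obj (op U)),
      colimit.ι (F ⋙ ev) j (ShDirColim.tr F h s) = colimit.ι (F ⋙ ev) i s :=
    fun i j h s => ConcreteCategory.congr_hom (colimit.w (F ⋙ ev) (homOfLE h)) s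
  have hred : (∀ (i : J) (s t : (F.obj i).1.obj (op U)), ShDirColim.toc F c i s = ShDirColim.toc F c i t →
      colimit.ι (F ⋙ ev) i s = colimit.ι (F ⋙ ev) i t) → Function.Injective Ψ := by
    intro H a b hab
    obtain ⟨i, (s : (F.obj i).1.obj (op U)), rfl⟩ := Types.jointly_surjective' a
    obtain ⟨j, (t : (F.obj j).1.obj (op U)), rfl⟩ := Types.jointly_surjective' b
    obtain ⟨k, hik, hjk⟩ := exists_ge_ge i j
    rw [← hw i k hik s, ← hw j k hjk t]
    rw [← hw i k hik s, ← hw j k hjk t, hΨ, hΨ] at hab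
    exact H k _ _ hab
  have hsurj : ∀ (s : c.pt.1.obj (op U)), (∃ (i : J) (t : (F.obj i).1.obj (op U)),
      ShDirColim.toc F c i t = s) → ∃ a, Ψ a = s :=
    fun s ⟨i, t, ht⟩ => ⟨colimit.ι (F ⋙ ev) i t, (hΨ i t).trans ht⟩
  have hInj : ShDirColim.Inj F → Function.Injective Ψ := fun hinj => hred fun i s t h => by
    rw [ShDirColim.eq_of_inj F c hc hinj s t h]
  have hCpt : IsCompact (U : Set X) → Function.Injective Ψ := fun hU => hred fun i s t h => by
    obtain ⟨k, hk, he⟩ := ShDirColim.eq_of_compact F c hc hU s t h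
    rw [← hw i k hk s, ← hw i k hk t, he]
  refine ⟨hInj, hCpt, fun hU hinj => ⟨hInj hinj, fun s => hsurj s ?_⟩, fun hcov => ?_⟩
  · choose W hW i t hxW ht using fun x : U => ShDirColim.locally_surjective F c hc s x.1 x.2
    obtain ⟨S, hS⟩ := hU.elim_finite_subcover (fun x : U => (W x : Set X)) (fun x => (W x).isOpen)
      fun x hx => Set.mem_iUnion.mpr ⟨⟨x, hx⟩, hxW ⟨x, hx⟩⟩
    refine ShDirColim.exists_section F c hc s (fun l : Fin S.card => W (S.equivFin.symm l).1)
      (fun l => hW _) (fun x hx => ?_) (fun l => ⟨_, _, ht _⟩) fun _ _ => Or.inl hinj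
    obtain ⟨y, hy, hxy⟩ := Set.mem_iUnion₂.mp (hS hx)
    exact Opens.mem_iSup.mpr ⟨S.equivFin ⟨y, hy⟩, by simpa using hxy⟩
  · refine ⟨hCpt ?_, fun s => hsurj s ?_⟩
    · obtain ⟨m, W, -, hWU, hcpt⟩ := hcov {U} (by simp)
      rw [← hWU, Opens.coe_iSup]
      refine isCompact_iUnion fun l => ?_
      have h := hcpt l l
      rwa [inf_idem] at h
    · let 𝒱 : Set (Opens X) :=
        {V | ∃ (hV : V ≤ U) (i : J) (t : (F.obj i).1.obj (op V)), ShDirColim.toc F c i t = ShDirColim.rs c.pt hV s}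
      have h𝒱 : (⨆ V ∈ 𝒱, V) = U := by
        refine le_antisymm (iSup₂_le fun V hV => hV.1) fun x hx => ?_
        obtain ⟨W, hW, i, t, hxW, ht⟩ := ShDirColim.locally_surjective F c hc s x hx
        exact Opens.mem_iSup.mpr ⟨W, Opens.mem_iSup.mpr ⟨⟨hW, i, t, ht⟩, hxW⟩⟩
      obtain ⟨m, W, hWV, hWU, hcpt⟩ := hcov 𝒱 h𝒱
      refine ShDirColim.exists_section F c hc s W (fun l => hWU ▸ le_iSup W l) hWU.ge (fun l => ?_)
        fun l l' => Or.inr (hcpt l l')
      obtain ⟨V, ⟨hV, i, t, ht⟩, hle⟩ := hWV l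
      refine ⟨i, ShDirColim.rs (F.obj i) hle t, ?_⟩
      rw [ShDirColim.toc_rs, ht, ShDirColim.rs_rs]
end Groth.Agent.S7575
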