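import Groth.Statements.S7578
import Groth.Agent.PtTopLib.Catenary

set_option autoImplicit false
universe u
open PtTop

namespace Groth.Agent.S7578

/-- Let X be a topological space which is locally Noetherian (every point has a Noetherian
neighbourhood) and sober, and let δ, δ' be two dimension functions on X. Then δ − δ' is locally
constant. -/
theorem result {X : Type u} [TopologicalSpace X] [QuasiSober X] [T0Space X]
    (hX : ∀ x : X, ∃ E ∈ nhds x, TopologicalSpace.NoetherianSpace E)
    (δ δ' : X → ℤ) (hδ : PtTop.IsDimensionFunction δ) (hδ' : PtTop.IsDimensionFunction δ') :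
    IsLocallyConstant (fun x => δ x - δ' x) := by
  open Set TopologicalSpace Topology Groth.Agent.PtTopLib in
  have hinv : ∀ a b : X, a ⤳ b → δ a - δ' a = δ b - δ' b := by
    intro a b hab
    have h1 := (catenary_of_dimensionFunction hδ).2 a b hab
    have h2 := (catenary_of_dimensionFunction hδ').2 a b hab
    rw [h1, Nat.cast_inj] at h2
    rcases eq_or_ne a b with rfl | hne
    · rfl
    · have := hδ.1 a b hab hne
      have := hδ'.1 a b hab hne
      omega
  rw [IsLocallyConstant.iff_exists_open]
  intro x
  obtain ⟨E, hE, hN⟩ := hX x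
  obtain ⟨W, hWE, hW, hxW⟩ := mem_nhds_iff.1 hE
  have : NoetherianSpace W := (IsInducing.subtypeVal.of_comp_iff.1
    (show IsInducing (Subtype.val ∘ inclusion hWE) from IsInducing.subtypeVal)).noetherianSpace
  let R := ⋃₀ {C | C ∈ irreducibleComponents W ∧ (⟨x, hxW⟩ : W) ∉ C}
  have hR : IsClosed R := by
    simp only [R, sUnion_eq_biUnion]
    exact (NoetherianSpace.finite_irreducibleComponents.subset fun C hC => hC.1).isClosed_biUnion
      fun C hC => isClosed_of_mem_irreducibleComponents C hC.1
  refine ⟨Subtype.val '' Rᶜ, hW.isOpenMap_subtype_val _ hR.isOpen_compl, ⟨⟨x, hxW⟩, ?_, rfl⟩, ?_⟩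
  · rintro ⟨C, ⟨-, hC⟩, hxC⟩
    exact hC hxC
  · rintro _ ⟨y, hy, rfl⟩
    have hC := irreducibleComponent_mem_irreducibleComponents y
    have hxC : (⟨x, hxW⟩ : W) ∈ irreducibleComponent y :=
      by_contra fun h => hy ⟨_, ⟨hC, h⟩, mem_irreducibleComponent⟩
    obtain ⟨g, hg⟩ := QuasiSober.sober ((hC.1.image Subtype.val continuous_subtype_val.continuousOn).closure) isClosed_closure
    have h1 := hinv g y.1 (hg.specializes (subset_closure ⟨y, mem_irreducibleComponent, rfl⟩))
    have h2 := hinv g x (hg.specializes (subset_closure ⟨_, hxC, rfl⟩))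
    omega

end Groth.Agent.S7578
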