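import Groth.Statements.S7579
import Groth.Agent.Spectral.Limit

set_option autoImplicit false
universe u
open SpecSp

namespace Groth.Agent.S7579

/-- Let X be a spectral space. Then X with its constructible topology is Hausdorff and totally
disconnected. The published statement also asserts that the constructible topology is quasi-compact;
this row states the Hausdorff and totally disconnected parts. -/
theorem result (X : Type u) [TopologicalSpace X] [SpectralSpace X] :
    T2Space (WithConstructibleTopology X) ∧ TotallyDisconnectedSpace (WithConstructibleTopology X) := by
  refine ⟨inferInstance, ?_⟩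
  have h := @Groth.Agent.Spectral.totallySeparated_con X _ _ _
  have : TotallySeparatedSpace (WithConstructibleTopology X) := by
    refine totallySeparatedSpace_iff_exists_isClopen.2 fun x y hxy => ?_
    obtain ⟨U, hU, hx, hy⟩ := (@totallySeparatedSpace_iff_exists_isClopen X (constructibleTopology X)).1 h
      ((WithTopology.ofTopology_injective _).ne hxy)
    exact ⟨Groth.Agent.Spectral.ofCon ⁻¹' U, ⟨Groth.Agent.Spectral.isClosed_preimage_ofCon.2 hU.1,
      Groth.Agent.Spectral.isOpen_preimage_ofCon.2 hU.2⟩, hx, hy⟩
  infer_instance

end Groth.Agent.S7579
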