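import Groth.Statements.S7580
import Mathlib.SetTheory.Cardinal.Basic

set_option autoImplicit false
universe u
open PtTop

namespace Groth.Agent.S7580

/-- Let f : X → Y be a continuous map of topological spaces with f(X) dense in Y and Y Hausdorff. Then
the cardinality of Y is at most that of the double power set of X. -/
theorem result {X Y : Type u} [TopologicalSpace X] [TopologicalSpace Y] [T2Space Y]
    (f : X → Y) (hf : Continuous f) (hd : DenseRange f) :
    Cardinal.mk Y ≤ (2 : Cardinal.{u}) ^ ((2 : Cardinal.{u}) ^ Cardinal.mk X) := by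
  open Set in
  let F : Y → Set (Set X) := fun y => {A | y ∈ closure (f '' A)}
  have hF : Function.Injective F := by
    intro y y' h
    by_contra hne
    obtain ⟨U, V, hU, hV, hy, hy', hdis⟩ := t2_separation hne
    have h1 : f ⁻¹' U ∈ F y := mem_closure_iff.2 fun O hO hyO => by
      obtain ⟨x, hx⟩ := hd.exists_mem_open (hO.inter hU) ⟨y, hyO, hy⟩
      exact ⟨f x, hx.1, x, hx.2, rfl⟩
    rw [h] at h1
    obtain ⟨_, hzV, x, hx, rfl⟩ := mem_closure_iff.1 h1 V hV hy'
    exact disjoint_left.1 hdis hx hzV
  exact (Cardinal.mk_le_of_injective hF).trans_eq (by rw [Cardinal.mk_set, Cardinal.mk_set])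

end Groth.Agent.S7580
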