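import Groth.Statements.S7584


set_option autoImplicit false
universe u
open PtTop

namespace Groth.Agent.S7584

/-- Let X be a quasi-compact topological space in which each connected component equals the intersection
of all clopen sets that contain it. Then π₀(X), the set of connected components with the quotient
topology, is Hausdorff. The published statement concludes that π₀(X) is profinite; this row records
the Hausdorff property, quasi-compactness and total disconnectedness of the quotient being
automatic. -/
theorem result (X : Type u) [TopologicalSpace X] [CompactSpace X]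
    (h : ∀ x : X, connectedComponent x = ⋂₀ {Z : Set X | IsClopen Z ∧ x ∈ Z}) :
    T2Space (ConnectedComponents X) := by
  open Set in
  refine ⟨fun a b hab => ?_⟩
  obtain ⟨x, rfl⟩ := ConnectedComponents.surjective_coe a
  obtain ⟨y, rfl⟩ := ConnectedComponents.surjective_coe b
  have hy : y ∉ connectedComponent x := fun hy => hab (ConnectedComponents.coe_eq_coe.2 (connectedComponent_eq hy))
  rw [h x] at hy
  simp only [mem_sInter, not_forall] at hy
  obtain ⟨Z, ⟨hZ, hxZ⟩, hyZ⟩ := hy
  have hpre : (ConnectedComponents.mk : X → ConnectedComponents X) ⁻¹' (ConnectedComponents.mk '' Z) = Z := by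
    rw [connectedComponents_preimage_image, hZ.biUnion_connectedComponent_eq]
  have hop : IsOpen (ConnectedComponents.mk '' Z) ∧ IsOpen (ConnectedComponents.mk '' Z)ᶜ := by
    rw [← ConnectedComponents.isQuotientMap_coe.isOpen_preimage, ← ConnectedComponents.isQuotientMap_coe.isOpen_preimage,
      preimage_compl, hpre]
    exact ⟨hZ.2, hZ.1.isOpen_compl⟩
  exact ⟨_, _, hop.1, hop.2, ⟨x, hxZ, rfl⟩, fun h' => hyZ (hpre.le h'), disjoint_compl_right⟩

end Groth.Agent.S7584
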