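import Groth.Agent.ConnCompExt.Irreducible
import Groth.Agent.ConnCompExt.Curv
import Groth.Statements.S7593
-- import your own Groth.Agent.* helpers here

set_option autoImplicit false
set_option backward.isDefEq.respectTransparency false
set_option backward.isDefEq.respectTransparency.types false
universe u
open CategoryTheory CategoryTheory.Limits AlgebraicGeometry
open Variety

namespace Groth.Agent.S7593

/-- Let k̄ be a separable algebraic closure of a field k, X a scheme over k and t a point of X_{k̄} with
image x in X. The connected component of t is mapped onto itself by the action of every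
k-automorphism of k̄ if and only if it equals the full inverse image of the connected component T of
x in X and T is geometrically connected over k (the inverse image of T in X_K is connected for every
extension field K of k). -/
theorem result (k : Type u) [Field k] (X : Scheme.{u}) [X.Over (Spec (CommRingCat.of k))] (t : ↥(Curv2.bc k X (SeparableClosure k))) :
    (∀ σ : SeparableClosure k ≃ₐ[k] SeparableClosure k,
        (Curv2.galAct k X (SeparableClosure k) σ).base '' connectedComponent t = connectedComponent t) ↔
      ((Curv2.bcFst k X (SeparableClosure k)).base ⁻¹' connectedComponent (Curv2.bcFst k X (SeparableClosure k) t) = connectedComponent t ∧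
        ∀ (K : Type u) [Field K] [Algebra k K],
          _root_.IsConnected ((Curv2.bcFst k X K).base ⁻¹' connectedComponent (Curv2.bcFst k X (SeparableClosure k) t))) := by
  haveI : Normal k (SeparableClosure k) := IsGalois.to_normal
  let f := X ↘ Spec (CommRingCat.of k)
  let Ω := SeparableClosure k
  let p := Limits.pullback.fst f (Spec.map (CommRingCat.ofHom (algebraMap k Ω)))
  have hσ : ∀ (σ : Ω ≃ₐ[k] Ω), (Curv2.galAct k X Ω σ).base '' connectedComponent t =
      connectedComponent (ConnCompExt.bcMap f σ.toAlgHom t) := fun σ => by
    rw [ConnCompExt.galAct_eq]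
    exact ConnCompExt.image_aut_connectedComponent f Ω σ t
  constructor
  · intro h
    have hpre : p ⁻¹' connectedComponent (p t) = connectedComponent t := by
      refine Set.Subset.antisymm (fun z hz => ?_) fun z hz =>
        (Scheme.Hom.continuous p).image_connectedComponent_subset t ⟨z, hz, rfl⟩
      have hx : p t ∈ connectedComponent (p z) := by
        rw [← connectedComponent_eq (show p z ∈ connectedComponent (p t) from hz)]
        exact mem_connectedComponent
      obtain ⟨w, hw, hwx⟩ := ConnCompExt.exists_mem_component_over f Ω z hx
      obtain ⟨σ, rfl⟩ := ConnCompExt.exists_aut f Ω t w hwx.symm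
      have e := (hσ σ).symm.trans (h σ)
      rw [← connectedComponent_eq hw] at e
      exact e.le mem_connectedComponent
    refine ⟨hpre, fun K _ _ => ?_⟩
    obtain ⟨L, _, _, iK, iΩ, _⟩ := GeomConnExt.exists_common_extension (k := k) K Ω
    have h1 := (ConnCompExt.isConnected_preimage_of_isSepClosed f iΩ
      (isConnected_connectedComponent (x := t))).image _ (Scheme.Hom.continuous (ConnCompExt.bcMap f iK)).continuousOn
    convert h1 using 1
    ext z
    constructor
    · intro hz
      obtain ⟨w, rfl⟩ := (ConnCompExt.surjective_bcMap f iK).surj z
      refine ⟨w, ?_, rfl⟩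
      show ConnCompExt.bcMap f iΩ w ∈ connectedComponent t
      rw [← hpre, Set.mem_preimage]
      show p (ConnCompExt.bcMap f iΩ w) ∈ connectedComponent (p t)
      rw [ConnCompExt.bcMap_fst_apply]
      rw [← ConnCompExt.bcMap_fst_apply f iK]
      exact hz
    · rintro ⟨w, hw, rfl⟩
      show Limits.pullback.fst f _ (ConnCompExt.bcMap f iK w) ∈ connectedComponent (p t)
      rw [ConnCompExt.bcMap_fst_apply, ← ConnCompExt.bcMap_fst_apply f iΩ]
      exact (Scheme.Hom.continuous p).image_connectedComponent_subset t ⟨_, hw, rfl⟩
  · rintro ⟨hpre, -⟩ σ
    rw [hσ σ]
    refine (connectedComponent_eq ?_).symm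
    rw [← hpre]
    show p (ConnCompExt.bcMap f σ.toAlgHom t) ∈ connectedComponent (p t)
    rw [ConnCompExt.bcMap_fst_apply]
    exact mem_connectedComponent

end Groth.Agent.S7593
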