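import Groth.Agent.ConnCompExt.Galois
import Groth.Agent.ConnCompExt.Curv
import Groth.Statements.S7597
-- import your own Groth.Agent.* helpers here

set_option autoImplicit false
set_option backward.isDefEq.respectTransparency false
set_option backward.isDefEq.respectTransparency.types false
universe u
open CategoryTheory CategoryTheory.Limits AlgebraicGeometry
open Variety

namespace Groth.Agent.S7597

/-- Let k̄ be a separable algebraic closure of a field k, X a scheme over k and Z an irreducible
component of X_{k̄}. Then Z is mapped onto itself by the action of every k-automorphism of k̄ if and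
only if Z is the full inverse image of some irreducible component T of X which is geometrically
irreducible over k (the inverse image of T in X_K is irreducible for every extension field K of k). -/
theorem result (k : Type u) [Field k] (X : Scheme.{u}) [X.Over (Spec (CommRingCat.of k))]
    (Z : Set ↥(Curv2.bc k X (SeparableClosure k))) (hZ : Z ∈ irreducibleComponents ↥(Curv2.bc k X (SeparableClosure k))) :
    (∀ σ : SeparableClosure k ≃ₐ[k] SeparableClosure k, (Curv2.galAct k X (SeparableClosure k) σ).base '' Z = Z) ↔
      ∃ T ∈ irreducibleComponents ↥X, (Curv2.bcFst k X (SeparableClosure k)).base ⁻¹' T = Z ∧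
        ∀ (K : Type u) [Field K] [Algebra k K], IsIrreducible ((Curv2.bcFst k X K).base ⁻¹' T) := by
  haveI : Normal k (SeparableClosure k) := IsGalois.to_normal
  constructor
  · intro h
    have hinv : ∀ σ : SeparableClosure k ≃ₐ[k] SeparableClosure k,
        ConnCompExt.bcMap (X ↘ Spec (CommRingCat.of k)) σ.toAlgHom '' Z = Z := fun σ => by
      have := h σ
      rw [ConnCompExt.galAct_eq] at this
      exact this
    refine ⟨_, ConnCompExt.image_mem_irreducibleComponents (X ↘ Spec (CommRingCat.of k)) (SeparableClosure k) hZ,
      ConnCompExt.preimage_image_of_invariant (X ↘ Spec (CommRingCat.of k)) (SeparableClosure k) hinv, fun K _ _ => ?_⟩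
    obtain ⟨L, _, _, iK, iΩ, _⟩ := GeomConnExt.exists_common_extension (k := k) K (SeparableClosure k)
    show IsIrreducible (Limits.pullback.fst (X ↘ Spec (CommRingCat.of k)) _ ⁻¹' _)
    rw [ConnCompExt.preimage_fst_eq_image (X ↘ Spec (CommRingCat.of k)) iK iΩ]
    refine IsIrreducible.image ?_ _ (Scheme.Hom.continuous _).continuousOn
    have := ConnCompExt.preimage_image_of_invariant (X ↘ Spec (CommRingCat.of k)) (SeparableClosure k) hinv
    exact (congrArg (fun S => IsIrreducible (ConnCompExt.bcMap (X ↘ Spec (CommRingCat.of k)) iΩ ⁻¹' S)) this).mpr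
      (ConnCompExt.isIrreducible_preimage_of_isSepClosed (X ↘ Spec (CommRingCat.of k)) iΩ hZ.1)
  · rintro ⟨T, -, hT, -⟩ σ
    rw [ConnCompExt.galAct_eq]
    exact ConnCompExt.invariant_of_preimage (X ↘ Spec (CommRingCat.of k)) (SeparableClosure k) hZ hT σ

end Groth.Agent.S7597
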