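import Groth.Agent.ConnCompExt.Galois
import Groth.Agent.ConnCompExt.Curv
import Groth.Statements.S7598
-- import your own Groth.Agent.* helpers here

set_option autoImplicit false
set_option backward.isDefEq.respectTransparency false
set_option backward.isDefEq.respectTransparency.types false
universe u
open CategoryTheory CategoryTheory.Limits AlgebraicGeometry
open Variety

namespace Groth.Agent.S7598

/-- Let k̄ be a separable algebraic closure of a field k and X a scheme over k. Two irreducible
components Z', Z'' of X_{k̄} have the same image in X if and only if Z'' is the image of Z' under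
the action of some k-automorphism of k̄ on X_{k̄} (the fibres of the map on irreducible components
are the Galois orbits). -/
theorem result (k : Type u) [Field k] (X : Scheme.{u}) [X.Over (Spec (CommRingCat.of k))]
    (Z' Z'' : Set ↥(Curv2.bc k X (SeparableClosure k))) (hZ' : Z' ∈ irreducibleComponents ↥(Curv2.bc k X (SeparableClosure k)))
    (hZ'' : Z'' ∈ irreducibleComponents ↥(Curv2.bc k X (SeparableClosure k))) :
    (Curv2.bcFst k X (SeparableClosure k)).base '' Z' = (Curv2.bcFst k X (SeparableClosure k)).base '' Z'' ↔
      ∃ σ : SeparableClosure k ≃ₐ[k] SeparableClosure k, (Curv2.galAct k X (SeparableClosure k) σ).base '' Z' = Z'' := by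
  haveI : Normal k (SeparableClosure k) := IsGalois.to_normal
  constructor
  · intro h
    obtain ⟨σ, hσ⟩ := ConnCompExt.exists_aut_image_eq (X ↘ Spec (CommRingCat.of k)) (SeparableClosure k)
      (ConnCompExt.image_mem_irreducibleComponents (X ↘ Spec (CommRingCat.of k)) (SeparableClosure k) hZ') hZ' hZ'' subset_rfl h.ge
    exact ⟨σ, by rw [ConnCompExt.galAct_eq]; exact hσ⟩
  · rintro ⟨σ, rfl⟩
    rw [ConnCompExt.galAct_eq]
    exact (ConnCompExt.fst_image_aut (X ↘ Spec (CommRingCat.of k)) (SeparableClosure k) σ Z').symm

end Groth.Agent.S7598
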