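import Mathlib
import Groth.Agent.GeomRedAt.Basic
import Groth.Agent.RegLocus.GeomRedTrans
import Groth.Statements.S7604
-- import your own Groth.Agent.* helpers here

set_option autoImplicit false
set_option backward.isDefEq.respectTransparency false
set_option backward.isDefEq.respectTransparency.types false
universe u
open TensorProduct
open CategoryTheory CategoryTheory.Limits AlgebraicGeometry
open Variety

namespace Groth.Agent.S7604

/-- Let X and Y be schemes over a field k with Y reduced, and let x be a point of X at which X is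
geometrically reduced. Then each point of X ×_k Y mapping to x has a reduced local ring. -/
theorem result (k : Type u) [Field k] (X : Scheme.{u}) [X.Over (Spec (CommRingCat.of k))] (Y : Scheme.{u}) [Y.Over (Spec (CommRingCat.of k))] [IsReduced Y]
    (x : ↥X) (hx : Curv2.IsGeomReducedAt k X x) (z : ↥(pullback (X ↘ (Spec (CommRingCat.of k))) (Y ↘ (Spec (CommRingCat.of k)))))
    (hz : pullback.fst (X ↘ (Spec (CommRingCat.of k))) (Y ↘ (Spec (CommRingCat.of k))) z = x) :
    _root_.IsReduced ↥((pullback (X ↘ (Spec (CommRingCat.of k))) (Y ↘ (Spec (CommRingCat.of k)))).presheaf.stalk z) := by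
  let f := X ↘ Spec (CommRingCat.of k)
  let g := Y ↘ Spec (CommRingCat.of k)
  obtain ⟨A, _, j, _, hj, p, hp⟩ := Groth.Agent.GeomRedAt.exists_chart f x
  obtain ⟨B, _, jB, _, hjB, q, hq⟩ := Groth.Agent.GeomRedAt.exists_chart g (pullback.snd f g z)
  haveI : Algebra.IsGeometricallyReduced k (Localization.AtPrime p.asIdeal) :=
    (Groth.Agent.GeomRedAt.isGeomReducedAt_iff f j hj p).1 (hp.symm ▸ hx)
  haveI : _root_.IsReduced B := by
    haveI : AlgebraicGeometry.IsReduced (Spec B) := isReduced_of_isOpenImmersion jB
    exact (affine_isReduced_iff B).1 inferInstance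
  let L := Localization.AtPrime p.asIdeal
  have hBL : _root_.IsReduced (B ⊗[k] L) := by
    haveI : ∀ q : PrimeSpectrum B, _root_.IsReduced (L ⊗[k] q.asIdeal.ResidueField) := fun q =>
      haveI := Groth.Agent.RegLocus.isReduced_tensor_field k L q.asIdeal.ResidueField
      isReduced_of_injective (Algebra.TensorProduct.comm k L q.asIdeal.ResidueField) (Algebra.TensorProduct.comm k L _).injective
    haveI : _root_.IsReduced (L ⊗[k] B) := by
      refine Groth.Agent.GeomRed.isReduced_baseChange_of_family (F := fun q : PrimeSpectrum B => q.asIdeal.ResidueField)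
        (fun q => IsScalarTower.toAlgHom k B q.asIdeal.ResidueField) fun b hb => ?_
      apply IsNilpotent.eq_zero
      rw [nilpotent_iff_mem_prime]
      intro J hJ
      exact Ideal.algebraMap_residueField_eq_zero.1 (hb ⟨J, hJ⟩)
    exact isReduced_of_injective (Algebra.TensorProduct.comm k B L) (Algebra.TensorProduct.comm k B L).injective
  let gA := Spec.map (CommRingCat.ofHom (algebraMap k A))
  let gB := Spec.map (CommRingCat.ofHom (algebraMap k B))
  let e : Spec (CommRingCat.of (B ⊗[k] A)) ≅ pullback gA gB := (pullbackSpecIso k B A).symm ≪≫ pullbackSymmetry _ _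
  let m : pullback gA gB ⟶ pullback f g :=
    pullback.map gA gB f g j jB (𝟙 _) (by simpa [gA] using hj.symm) (by simpa [gB] using hjB.symm)
  let ι := e.hom ≫ m
  have h1 : e.hom ≫ pullback.fst gA gB = Spec.map (CommRingCat.ofHom
      (Algebra.TensorProduct.includeRight (R := k) (A := B) (B := A)).toRingHom) :=
    (Category.assoc _ _ _).trans ((congrArg ((pullbackSpecIso k B A).inv ≫ ·)
      (pullbackSymmetry_hom_comp_fst _ _)).trans (pullbackSpecIso_inv_snd k B A))
  have hfac : ι ≫ pullback.fst f g = Spec.map (CommRingCat.ofHom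
      (Algebra.TensorProduct.includeRight (R := k) (A := B) (B := A)).toRingHom) ≫ j := by
    rw [← h1]; simp only [ι, m, Category.assoc, pullback.lift_fst]
  obtain ⟨Q, rfl⟩ : z ∈ Set.range ι := by
    show z ∈ Set.range (e.hom ≫ m)
    rw [Scheme.Hom.comp_base, TopCat.coe_comp, Set.range_comp, Set.range_eq_univ.2 e.hom.surjective, Set.image_univ,
      Scheme.Pullback.range_map]
    exact ⟨⟨p, hp.trans hz.symm⟩, ⟨q, hq⟩⟩
  have hQ : PrimeSpectrum.comap (Algebra.TensorProduct.includeRight (R := k) (A := B) (B := A)).toRingHom Q = p := by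
    apply j.isOpenEmbedding.injective
    refine Eq.trans ?_ hp.symm
    rw [← hz, ← Scheme.Hom.comp_apply, hfac, Scheme.Hom.comp_apply]
    rfl
  obtain ⟨M, ⟨eM⟩⟩ := Groth.Agent.GeomRedAt.exists_prime_localization A p B Q hQ
  haveI : _root_.IsReduced (Localization.AtPrime M.asIdeal) :=
    isReduced_localizationPreserves M.asIdeal.primeCompl (Localization.AtPrime M.asIdeal) hBL
  haveI : _root_.IsReduced (Localization.AtPrime Q.asIdeal) := isReduced_of_injective eM.symm eM.symm.injective
  obtain ⟨eS⟩ := Groth.Agent.GeomRedAt.exists_stalkEquiv ι Q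
  exact isReduced_of_injective eS eS.injective

end Groth.Agent.S7604
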