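import Mathlib
import Groth.Agent.FlatOverBC.NoethFibre
import Groth.Statements.S7605
-- import your own Groth.Agent.* helpers here

set_option autoImplicit false
set_option backward.isDefEq.respectTransparency false
set_option backward.isDefEq.respectTransparency.types false
universe u
open CategoryTheory CategoryTheory.Limits AlgebraicGeometry
open Variety

namespace Groth.Agent.S7605

/-- For a scheme X over a field k and a finitely generated field extension k' of k, local Noetherianity
of X is equivalent to local Noetherianity of its base change X_{k'}. -/
theorem result (k : Type u) [Field k] (X : Scheme.{u}) [X.Over (Spec (CommRingCat.of k))] (k' : Type u) [Field k'] [Algebra k k']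
    (hfg : (⊤ : IntermediateField k k').FG) :
    IsLocallyNoetherian X ↔ IsLocallyNoetherian (Curv2.bc k X k') := by
  haveI : Algebra.EssFiniteType k k' := by
    haveI : Algebra.EssFiniteType k (⊤ : IntermediateField k k') := IntermediateField.essFiniteType_iff.2 hfg
    exact (Algebra.EssFiniteType.iff_of_algEquiv IntermediateField.topEquiv).1 inferInstance
  have hpb := IsPullback.of_hasPullback (X ↘ Spec (CommRingCat.of k)) (Spec.map (CommRingCat.ofHom (algebraMap k k')))
  constructor
  · intro hX
    exact Groth.Agent.FlatOverBC.isLocallyNoetherian_of_isPullback_spec (CommRingCat.ofHom (algebraMap k k'))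
      (RingHom.essFiniteType_algebraMap.2 inferInstance) hpb
  · intro hK
    let g := Spec.map (CommRingCat.ofHom (algebraMap k k'))
    haveI : Flat g := Flat.SpecMap_iff.2 (RingHom.flat_algebraMap_iff.2 (inferInstanceAs (Module.Flat k k')))
    haveI : Surjective g := ⟨fun x => ⟨(⟨⊥, Ideal.isPrime_bot⟩ : PrimeSpectrum k'), Subsingleton.elim (α := PrimeSpectrum k) _ _⟩⟩
    haveI : Flat (pullback.fst (X ↘ Spec (CommRingCat.of k)) g) := inferInstance
    haveI : Surjective (pullback.fst (X ↘ Spec (CommRingCat.of k)) g) := inferInstance
    haveI : QuasiCompact (pullback.fst (X ↘ Spec (CommRingCat.of k)) g) := inferInstance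
    exact Groth.Agent.FpqcDescent.isLocallyNoetherian_of_flat_surjective_quasiCompact (pullback.fst (X ↘ Spec (CommRingCat.of k)) g)

end Groth.Agent.S7605
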