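import Groth.Statements.S7612
import Mathlib
import Groth.Agent.AlgSpc.UnivOpenField

set_option autoImplicit false
universe u
open CategoryTheory CategoryTheory.Limits AlgebraicGeometry
open Variety

namespace Groth.Agent.S7612

theorem exists_mem {X Y S : Scheme.{u}} (sX : X ⟶ S) (sY : Y ⟶ S)
    (h : ∀ (T : Scheme.{u}) (g : T ⟶ X) (c : X), (∀ t, g t = c) → UniversallyOpen (g ≫ sX))
    (z : ↥(pullback sX sY)) (U : Set ↥(pullback sX sY)) (hU : IsOpen U) (hz : z ∈ U) (B : Set Y)
    (hB : pullback.snd sX sY z ∈ closure B) :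
    ∃ w ∈ U, pullback.fst sX sY w = pullback.fst sX sY z ∧ pullback.snd sX sY w ∈ B := by
  let c := pullback.fst sX sY z
  let g := X.fromSpecResidueField c
  have := h _ g c (fun t => Scheme.fromSpecResidueField_apply _ t)
  let q' := pullback.snd (g ≫ sX) sY
  have : UniversallyOpen q' := inferInstanceAs (UniversallyOpen (pullback.snd (g ≫ sX) sY))
  have hq' : IsOpenMap q' := q'.isOpenMap
  let j : pullback (g ≫ sX) sY ⟶ pullback sX sY :=
    pullback.map _ _ _ _ g (𝟙 Y) (𝟙 S) (by simp) (by simp)
  let l : Spec ((pullback sX sY).residueField z) ⟶ pullback (g ≫ sX) sY :=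
    pullback.lift (Spec.map ((pullback.fst sX sY).residueFieldMap z))
      ((pullback sX sY).fromSpecResidueField z ≫ pullback.snd sX sY) (by
      simp only [g, c, Category.assoc]
      rw [Scheme.Hom.SpecMap_residueFieldMap_fromSpecResidueField_assoc, pullback.condition])
  have hl : l ≫ j = (pullback sX sY).fromSpecResidueField z := by
    apply pullback.hom_ext
    · dsimp only [l, j, pullback.map]
      rw [Category.assoc, pullback.lift_fst, pullback.lift_fst_assoc]
      exact (pullback.fst sX sY).SpecMap_residueFieldMap_fromSpecResidueField z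
    · dsimp only [l, j, pullback.map]
      rw [Category.assoc, pullback.lift_snd, Category.comp_id, pullback.lift_snd]
  let z' := l (IsLocalRing.closedPoint _)
  have hz' : j z' = z := by
    show (l ≫ j) (IsLocalRing.closedPoint _) = z
    rw [hl, Scheme.fromSpecResidueField_apply]
  have hqz : q' z' = pullback.snd sX sY z := by
    show (l ≫ q') (IsLocalRing.closedPoint _) = _
    simp only [l, q', pullback.lift_snd]
    rw [Scheme.Hom.comp_apply, Scheme.fromSpecResidueField_apply]
  obtain ⟨_, ⟨w', hw', rfl⟩, hwB⟩ := mem_closure_iff.1 hB _ (hq' _ (hU.preimage j.continuous))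
    ⟨z', by rwa [Set.mem_preimage, hz'], hqz⟩
  refine ⟨j w', hw', ?_, ?_⟩
  · show (j ≫ pullback.fst sX sY) w' = c
    simp only [j, pullback.lift_fst, pullback.map]
    rw [Scheme.Hom.comp_apply]
    exact Scheme.fromSpecResidueField_apply _ _
  · show (j ≫ pullback.snd sX sY) w' ∈ B
    rw [show j ≫ pullback.snd sX sY = q' by
      dsimp only [j, q', pullback.map]; rw [pullback.lift_snd, Category.comp_id]]
    exact hwB

/-- Let X and Y be schemes over a field k and A ⊆ X, B ⊆ Y subsets. Inside X ×_k Y, the closure of the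
set of points projecting into A and into B equals the set of points projecting into the closure of A
and into the closure of B. -/
theorem result (k : Type u) [Field k] (X : Scheme.{u}) [X.Over (Spec (CommRingCat.of k))] (Y : Scheme.{u}) [Y.Over (Spec (CommRingCat.of k))] (A : Set ↥X) (B : Set ↥Y) :
    closure ((pullback.fst (X ↘ (Spec (CommRingCat.of k))) (Y ↘ (Spec (CommRingCat.of k)))).base ⁻¹' A ∩ (pullback.snd (X ↘ (Spec (CommRingCat.of k))) (Y ↘ (Spec (CommRingCat.of k)))).base ⁻¹' B) =
      (pullback.fst (X ↘ (Spec (CommRingCat.of k))) (Y ↘ (Spec (CommRingCat.of k)))).base ⁻¹' closure A ∩ (pullback.snd (X ↘ (Spec (CommRingCat.of k))) (Y ↘ (Spec (CommRingCat.of k)))).base ⁻¹' closure B := by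
  set sX := X ↘ Spec (CommRingCat.of k) with hsX
  set sY := Y ↘ Spec (CommRingCat.of k) with hsY
  refine le_antisymm (closure_minimal (Set.inter_subset_inter (Set.preimage_mono subset_closure)
    (Set.preimage_mono subset_closure)) ((isClosed_closure.preimage (pullback.fst sX sY).continuous).inter
    (isClosed_closure.preimage (pullback.snd sX sY).continuous))) ?_
  rintro z ⟨hzA, hzB⟩
  rw [mem_closure_iff]
  intro U hU hzU
  obtain ⟨w, hwU, hwA, hwB⟩ := exists_mem sX sY (fun _ _ _ _ => AlgSpc.universallyOpen_to_field _)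
    z U hU hzU B hzB
  let e := pullbackSymmetry sY sX
  have hpre : IsOpen (e.hom ⁻¹' U) := hU.preimage e.hom.continuous
  have he : e.hom (e.inv w) = w := by
    show (e.inv ≫ e.hom) w = w
    simp
  have hA : pullback.snd sY sX (e.inv w) ∈ closure A := by
    show (e.inv ≫ pullback.snd sY sX) w ∈ closure A
    simp only [e, pullbackSymmetry_inv_comp_snd]
    rw [show pullback.fst sX sY w = pullback.fst sX sY z from hwA]
    exact hzA
  obtain ⟨v, hvU, hvB, hvA⟩ := exists_mem sY sX (fun _ _ _ _ => AlgSpc.universallyOpen_to_field _)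
    (e.inv w) _ hpre (by rwa [Set.mem_preimage, he]) A hA
  refine ⟨e.hom v, hvU, ?_, ?_⟩
  · show (e.hom ≫ pullback.fst sX sY) v ∈ A
    simp only [e, pullbackSymmetry_hom_comp_fst]
    exact hvA
  · show (e.hom ≫ pullback.snd sX sY) v ∈ B
    simp only [e, pullbackSymmetry_hom_comp_snd]
    rw [hvB]
    show (e.inv ≫ pullback.fst sY sX) w ∈ B
    simp only [e, pullbackSymmetry_inv_comp_fst]
    exact hwB

end Groth.Agent.S7612
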