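import Groth.Statements.S7614
import Groth.Agent.FpqcDescent.QuasiAffine

set_option autoImplicit false
universe u
open CategoryTheory CategoryTheory.Limits AlgebraicGeometry
open Variety

namespace Groth.Agent.S7614

/-- Let X be a scheme over a field k and K an extension field of k. If X_K is quasi-affine, then X is
quasi-affine. -/
theorem result (k : Type u) [Field k] (X : Scheme.{u}) [X.Over (Spec (CommRingCat.of k))] (K : Type u) [Field K] [Algebra k K]
    [(Curv2.bc k X K).IsQuasiAffine] : X.IsQuasiAffine := by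
  let s := X ↘ Spec (CommRingCat.of k)
  let b := Spec.map (CommRingCat.ofHom (algebraMap k K))
  have hq : (pullback s b).IsQuasiAffine := ‹(Curv2.bc k X K).IsQuasiAffine›
  haveI : CompactSpace (pullback s b :) := hq.toCompactSpace
  haveI hqc : QuasiCompact (pullback.snd s b) :=
    HasAffineProperty.iff_of_isAffine.mpr ‹CompactSpace _›
  have h : Mor2.IsQuasiAffine (pullback.snd s b) := ⟨hqc, fun V hV => by
    haveI : CompactSpace (pullback.snd s b ⁻¹ᵁ V : Scheme.{u}) :=
      isCompact_iff_compactSpace.mp
        (QuasiCompact.isCompact_preimage (f := pullback.snd s b) V V.isOpen hV.isCompact)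
    haveI := hq
    exact Scheme.IsQuasiAffine.of_isImmersion (pullback.snd s b ⁻¹ᵁ V).ι⟩
  have hb : (@Surjective ⊓ @Flat ⊓ @QuasiCompact : MorphismProperty Scheme.{u}) b := by
    refine ⟨⟨⟨fun y => ⟨default, ?_⟩⟩, inferInstance⟩, inferInstance⟩
    exact @Subsingleton.elim (PrimeSpectrum k) inferInstance _ _
  haveI := Groth.Agent.FpqcDescent.descendsAlong_isQuasiAffine_fpqc.{u}
  have hs : Mor2.IsQuasiAffine s :=
    MorphismProperty.of_pullback_snd_of_descendsAlong
      (P := fun _ _ f => Mor2.IsQuasiAffine f) hb h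
  haveI := hs.2 ⊤ (isAffineOpen_top _)
  haveI := hs.1
  haveI : CompactSpace X := QuasiCompact.compactSpace_of_compactSpace s
  let e : X ≅ (s ⁻¹ᵁ (⊤ : (Spec (CommRingCat.of k)).Opens) : Scheme.{u}) :=
    X.topIso.symm
  exact Scheme.IsQuasiAffine.of_isImmersion e.hom

end Groth.Agent.S7614
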