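import Groth.Statements.S7616
import Groth.Agent.NagataNorm.Basic
import Groth.Agent.CAlgNagata.Main
import Groth.Agent.EGA2Curve.Finite


set_option autoImplicit false
universe u
open CategoryTheory CategoryTheory.Limits AlgebraicGeometry
open Variety

namespace Groth.Agent.S7616
section Pre
theorem nagata_field (k : Type u) [Field k] : CAlg.IsNagata k := by
  refine ⟨inferInstance, fun p _ => ?_⟩
  intro L _ _ _ _ hL
  haveI := hL
  exact Groth.Agent.EGA2Curve.finite_integralClosure k (k ⧸ p) (FractionRing (k ⧸ p)) L

end Pre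

/-- Let f : Y → X be a quasi-compact morphism of schemes locally of finite type over a field k, with Y
reduced; f is automatically quasi-separated. Then the normalization of X in Y is finite over X. -/
theorem result (k : Type u) [Field k] (X : Scheme.{u}) [X.Over (Spec (CommRingCat.of k))] [LocallyOfFiniteType (X ↘ (Spec (CommRingCat.of k)))]
    (Y : Scheme.{u}) [Y.Over (Spec (CommRingCat.of k))] [LocallyOfFiniteType (Y ↘ (Spec (CommRingCat.of k)))] [IsReduced Y]
    (f : Y ⟶ X) [f.IsOver (Spec (CommRingCat.of k))] [QuasiCompact f] [QuasiSeparated f] :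
    IsFinite f.fromNormalization := by
  let sX := X ↘ (Spec (CommRingCat.of k))
  have hk : CAlg.IsNagata k := nagata_field k
  have hS : ∀ U : X.affineOpens, CAlg.IsNagata Γ(X, U) := fun U => by
    have hle : U.1 ≤ sX ⁻¹ᵁ ⊤ := fun _ _ => trivial
    letI : Algebra Γ(Spec (CommRingCat.of k), ⊤) Γ(X, U) := (sX.appLE ⊤ U hle).hom.toAlgebra
    haveI : Algebra.FiniteType Γ(Spec (CommRingCat.of k), ⊤) Γ(X, U) := sX.finiteType_appLE (isAffineOpen_top _) U.2 hle
    exact Groth.Agent.CAlgNagata.isNagata_of_finiteType (Groth.Agent.CAlgNagata.isNagata_of_surjective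
      (Scheme.ΓSpecIso (CommRingCat.of k)).inv.hom (ConcreteCategory.bijective_of_isIso _).surjective hk) _
  haveI : LocallyOfFiniteType f := by
    haveI : LocallyOfFiniteType (f ≫ sX) := by rw [show f ≫ sX = Y ↘ (Spec (CommRingCat.of k)) from comp_over f _]; infer_instance
    exact locallyOfFiniteType_of_comp f sX
  haveI : IsLocallyNoetherian Y := LocallyOfFiniteType.isLocallyNoetherian (Y ↘ (Spec (CommRingCat.of k)))
  exact Groth.Agent.NagataNorm.isFinite_fromNormalization f hS
    (fun W hW => Groth.Agent.NagataNorm.finite_max_of_isLocallyNoetherian W hW)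
    (fun x _ => Groth.Agent.NagataNorm.residueFieldMap_essFiniteType f x)

end Groth.Agent.S7616
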