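import Groth.Statements.S7618
import Mathlib
-- import your own Groth.Agent.* helpers here

set_option autoImplicit false
universe u
open CategoryTheory CategoryTheory.Limits AlgebraicGeometry
open Variety

namespace Groth.Agent.S7618

theorem isUnit_of_isIntegral {k A : Type u} [Field k] [CommRing A] [Algebra k A] [_root_.IsReduced A]
    (hid : ∀ e : A, IsIdempotentElem e → e = 0 ∨ e = 1) {a : A} (ha : IsIntegral k a) (h0 : a ≠ 0) :
    ∃ b : A, b ∈ integralClosure k A ∧ a * b = 1 := by
  let B := Algebra.adjoin k {a}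
  haveI : Module.Finite k B := Module.Finite.iff_fg.2 ha.fg_adjoin_singleton
  haveI : IsArtinianRing B := IsArtinianRing.of_finite k B
  haveI : _root_.IsReduced B := isReduced_of_injective B.val Subtype.val_injective
  have ha' : a ∈ B := Algebra.subset_adjoin rfl
  obtain ⟨n, y, hy⟩ := IsArtinian.exists_pow_succ_smul_dvd (⟨a, ha'⟩ : B) (1 : B)
  have hy' : (a : A) ^ (n + 1) * (y : A) = a ^ n := by
    simpa [smul_eq_mul] using congrArg Subtype.val hy
  have h1 : (a * (1 - a * (y : A))) ^ (n + 1) = 0 := by
    have : a ^ n * (1 - a * (y : A)) = 0 := by rw [mul_sub, mul_one, ← mul_assoc, ← pow_succ, hy', sub_self]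
    calc (a * (1 - a * (y : A))) ^ (n + 1)
        = a * (1 - a * (y : A)) ^ n * (a ^ n * (1 - a * (y : A))) := by
          rw [mul_pow, pow_succ, pow_succ]; ring
      _ = 0 := by rw [this, mul_zero]
  have h2 := IsReduced.eq_zero _ ⟨n + 1, h1⟩
  have he : IsIdempotentElem (a * (y : A)) := by
    change a * (y : A) * (a * (y : A)) = a * (y : A)
    linear_combination (-(y : A)) * h2
  rcases hid _ he with h | h
  · exact absurd (by rwa [h, sub_zero, mul_one] at h2) h0
  · exact ⟨y, (IsIntegral.of_finite k y).map B.val, h⟩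

/-- Let X be a connected reduced scheme over a field k. Then the global functions on X that are integral
over k form a field. -/
theorem result (k : Type u) [Field k] (X : Scheme.{u}) [X.Over (Spec (CommRingCat.of k))] [ConnectedSpace ↥X] [IsReduced X] :
    letI := ((X ↘ (Spec (CommRingCat.of k))).appTop.hom.comp (Scheme.ΓSpecIso (CommRingCat.of k)).inv.hom : k →+* Γ(X, ⊤)).toAlgebra
    IsField ↥(integralClosure k ↑Γ(X, ⊤)) := by
  letI := ((X ↘ (Spec (CommRingCat.of k))).appTop.hom.comp (Scheme.ΓSpecIso (CommRingCat.of k)).inv.hom : k →+* Γ(X, ⊤)).toAlgebra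
  haveI : Nontrivial Γ(X, ⊤) := by
    obtain ⟨x⟩ := ‹ConnectedSpace ↥X›.toNonempty
    exact (X.presheaf.germ ⊤ x trivial).hom.domain_nontrivial
  have hid : ∀ e : Γ(X, ⊤), IsIdempotentElem e → e = 0 ∨ e = 1 := by
    intro e he
    have key : (X.basicOpen e : Set X) = (X.basicOpen (1 - e) : Set X)ᶜ := by
      ext x
      simp only [SetLike.mem_coe, Set.mem_compl_iff, Scheme.mem_basicOpen_top, map_sub, map_one]
      have hx := he.map (X.presheaf.germ ⊤ x trivial).hom
      rcases IsLocalRing.isUnit_or_isUnit_one_sub_self ((X.presheaf.germ ⊤ x trivial).hom e) with h | h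
      · refine iff_of_true h fun h' => ?_
        rw [h.mul_left_cancel (hx.eq.trans (mul_one _).symm), sub_self] at h'
        exact not_isUnit_zero h'
      · refine iff_of_false (fun h' => ?_) (not_not_intro h)
        rw [h'.mul_left_cancel (hx.eq.trans (mul_one _).symm), sub_self] at h
        exact not_isUnit_zero h
    have hcl : IsClopen (X.basicOpen e : Set X) :=
      ⟨key ▸ (X.basicOpen (1 - e)).2.isClosed_compl, (X.basicOpen e).2⟩
    rcases isClopen_iff.1 hcl with h | h
    · exact Or.inl ((basicOpen_eq_bot_iff e).1 (TopologicalSpace.Opens.ext h))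
    · refine Or.inr (sub_eq_zero.1 ((basicOpen_eq_bot_iff (1 - e)).1 (TopologicalSpace.Opens.ext ?_))).symm
      rw [key, Set.compl_univ_iff] at h
      exact h
  refine ⟨exists_pair_ne _, mul_comm, fun {a} ha => ?_⟩
  obtain ⟨b, hb, hab⟩ := isUnit_of_isIntegral hid a.2 (fun h => ha (Subtype.ext h))
  exact ⟨⟨b, hb⟩, Subtype.ext hab⟩

end Groth.Agent.S7618
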