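import Groth.Statements.S7620
import Groth.Agent.DimTheory.Algebra
import Mathlib.RingTheory.LocalRing.ResidueField.Fiber
-- import your own Groth.Agent.* helpers here

set_option autoImplicit false
universe u
open CategoryTheory CategoryTheory.Limits AlgebraicGeometry
open scoped TensorProduct
open Variety

namespace Groth.Agent.S7620

/-- Let A → B be a finite type ring map (a finite type morphism of affine schemes X → S), p a prime of A
and suppose the fibre ring κ(p) ⊗_A B has Krull dimension d. Then there is an A-algebra homomorphism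
π : A[t_1, …, t_d] → B such that the induced map of fibres κ(p) ⊗_A A[t_1, …, t_d] → κ(p) ⊗_A B is
finite. -/
theorem result (A B : Type u) [CommRing A] [CommRing B] [Algebra A B] [Algebra.FiniteType A B]
    (p : Ideal A) [p.IsPrime] (d : ℕ) (hd : ringKrullDim (p.ResidueField ⊗[A] B) = d) :
    ∃ π : MvPolynomial (Fin d) A →ₐ[A] B,
      (Algebra.TensorProduct.map (AlgHom.id p.ResidueField p.ResidueField) π).toRingHom.Finite := by
  haveI : Nontrivial (p.ResidueField ⊗[A] B) := by
    by_contra h
    rw [not_nontrivial_iff_subsingleton] at h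
    rw [ringKrullDim_eq_bot_of_subsingleton] at hd
    exact WithBot.bot_ne_natCast d hd
  obtain ⟨n, g, hg, hfin, hn⟩ := Groth.Agent.DimTheory.exists_normalization p.ResidueField (p.ResidueField ⊗[A] B)
  have hdn : n = d := by exact_mod_cast hn.symm.trans hd
  subst hdn
  have hy : ∀ i, ∃ (c : p.ResidueField) (b : B), g (MvPolynomial.X i) = c ⊗ₜ[A] b := fun i => by
    obtain ⟨r, hr, b, e⟩ := Ideal.Fiber.exists_smul_eq_one_tmul (p := p) (S := B) (g (MvPolynomial.X i))
    have hu : algebraMap A p.ResidueField r ≠ 0 := by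
      rwa [Ne, Ideal.algebraMap_residueField_eq_zero]
    refine ⟨(algebraMap A p.ResidueField r)⁻¹, b, ?_⟩
    rw [show (algebraMap A p.ResidueField r)⁻¹ ⊗ₜ[A] b = (algebraMap A p.ResidueField r)⁻¹ • ((1 : p.ResidueField) ⊗ₜ[A] b) by
      rw [TensorProduct.smul_tmul', smul_eq_mul, mul_one], ← e, ← algebraMap_smul p.ResidueField r, smul_smul,
      inv_mul_cancel₀ hu, one_smul]
  choose c b hcb using hy
  refine ⟨MvPolynomial.aeval b, ?_⟩
  let φ := Algebra.TensorProduct.map (AlgHom.id p.ResidueField p.ResidueField) (MvPolynomial.aeval b : MvPolynomial (Fin n) A →ₐ[A] B)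
  let h : MvPolynomial (Fin n) p.ResidueField →ₐ[p.ResidueField] p.ResidueField ⊗[A] MvPolynomial (Fin n) A :=
    MvPolynomial.aeval fun i => c i ⊗ₜ[A] MvPolynomial.X i
  have hcomp : φ.comp h = g := MvPolynomial.algHom_ext fun i => by
    simp [φ, h, hcb]
  rw [← hcomp] at hfin
  exact RingHom.Finite.of_comp_finite (f := h.toRingHom) hfin

end Groth.Agent.S7620
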