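import Groth.Statements.S7621
import Mathlib
-- import your own Groth.Agent.* helpers here

set_option autoImplicit false
universe u
open TensorProduct CategoryTheory CategoryTheory.Limits AlgebraicGeometry
open Variety

namespace Groth.Agent.S7621

theorem exists_fix {k K A : Type u} [Field k] [Field K] [Algebra k K] [CommRing A] [Algebra k A]
    (g : A ⊗[k] K) : ∃ S : Finset K, ∀ σ : K ≃ₐ[k] K, (∀ c ∈ S, σ c = c) →
      Algebra.TensorProduct.map (AlgHom.id k A) (σ : K →ₐ[k] K) g = g := by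
  classical
  induction g using TensorProduct.induction_on with
  | zero => exact ⟨∅, fun σ _ => map_zero _⟩
  | tmul a c => exact ⟨{c}, fun σ h => by simp [h c (Finset.mem_singleton_self c)]⟩
  | add x y hx hy =>
    obtain ⟨S, hS⟩ := hx
    obtain ⟨T, hT⟩ := hy
    exact ⟨S ∪ T, fun σ h => by
      rw [map_add, hS σ fun c hc => h c (Finset.mem_union_left _ hc),
        hT σ fun c hc => h c (Finset.mem_union_right _ hc)]⟩

theorem chart (k : Type u) [Field k] (K : Type u) [Field K] [Algebra k K]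
    (X : Scheme.{u}) [X.Over (Spec (CommRingCat.of k))] (V : Set ↥(Curv2.bc k X K)) (hV : IsOpen V)
    {A : CommRingCat.{u}} (ι : Spec A ⟶ X) [IsOpenImmersion ι] (v : ↥(Curv2.bc k X K)) (hv : v ∈ V)
    (hvr : Curv2.bcFst k X K v ∈ Set.range ι) :
    ∃ W : Set ↥(Curv2.bc k X K), IsOpen W ∧ v ∈ W ∧ W ⊆ V ∧ ∃ S : Finset K, ∀ σ : K ≃ₐ[k] K,
      (∀ c ∈ S, σ c = c) → ∀ w ∈ W, (Curv2.galAct k X K σ).base w ∈ V := by
  obtain ⟨φ, hφ⟩ := Spec.map_surjective (ι ≫ (X ↘ Spec (CommRingCat.of k)))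
  algebraize [φ.hom]
  have hφ' : ι ≫ (X ↘ Spec (CommRingCat.of k)) = Spec.map (CommRingCat.ofHom (algebraMap k A)) := hφ.symm
  let j : Spec (.of (A ⊗[k] K)) ⟶ Curv2.bc k X K :=
    (pullbackSpecIso k A K).inv ≫ pullback.map _ _ _ _ ι (𝟙 _) (𝟙 _) (by rw [Category.comp_id, hφ']) (by simp)
  have hvj : v ∈ Set.range j := by
    have : v ∈ Set.range (pullback.map (Spec.map (CommRingCat.ofHom (algebraMap k A)))
        (Spec.map (CommRingCat.ofHom (algebraMap k K))) (X ↘ Spec (CommRingCat.of k))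
        (Spec.map (CommRingCat.ofHom (algebraMap k K))) ι (𝟙 _) (𝟙 _) (by rw [Category.comp_id, hφ']) (by simp)) := by
      rw [Scheme.Pullback.range_map]
      exact ⟨hvr, ⟨_, rfl⟩⟩
    obtain ⟨q, rfl⟩ := this
    exact ⟨(pullbackSpecIso k A K).hom q, by simp only [j, ← Scheme.Hom.comp_apply, Iso.hom_inv_id_assoc]⟩
  obtain ⟨p, rfl⟩ := hvj
  obtain ⟨D, ⟨g, hg⟩, hpg, hsub⟩ := PrimeSpectrum.isTopologicalBasis_basic_opens.exists_subset_of_mem_open
    (show p ∈ j ⁻¹' V from hv) (hV.preimage j.continuous)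
  obtain ⟨S, hS⟩ := exists_fix g
  have hDo : IsOpen D := hg ▸ (PrimeSpectrum.basicOpen g).2
  refine ⟨j '' D, j.isOpenEmbedding.isOpenMap _ hDo, ⟨p, hpg, rfl⟩, ?_, S, fun σ hσ => ?_⟩

  · rintro _ ⟨r, hr, rfl⟩
    exact hsub hr
  rintro _ ⟨q, hq, rfl⟩
  have hcomm : j ≫ Curv2.galAct k X K σ =
      Spec.map (CommRingCat.ofHom (Algebra.TensorProduct.map (AlgHom.id k A) (σ : K →ₐ[k] K)).toRingHom) ≫ j := by
    apply pullback.hom_ext
    · simp only [j, Curv2.galAct, pullback.map, Category.assoc, pullback.lift_fst, pullback.lift_fst_assoc, Category.comp_id]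
      rw [pullbackSpecIso_inv_fst_assoc, ← Spec.map_comp_assoc]
      congr 2
      ext a
      simp
    · simp only [j, Curv2.galAct, pullback.map, Category.assoc, pullback.lift_snd, pullback.lift_snd_assoc, Category.comp_id]
      rw [pullbackSpecIso_inv_snd_assoc, pullbackSpecIso_inv_snd, ← Spec.map_comp, ← Spec.map_comp]
      congr 1
  rw [← Scheme.Hom.comp_apply, hcomm, Scheme.Hom.comp_apply]
  refine hsub ?_
  subst hg
  change g ∉ Ideal.comap _ _
  rw [Ideal.mem_comap]
  exact fun h => hq ((hS σ hσ) ▸ h)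

/-- Let K be a (possibly infinite) Galois extension of a field k, X a scheme over k and V a
quasi-compact open subset of X_K. Then there is a subextension k'/k of K, finite over k, such that
every k-automorphism of K fixing k' pointwise maps V onto itself under its action on X_K (an open
subgroup of the Galois group stabilises V). -/
theorem result (k : Type u) [Field k] (K : Type u) [Field K] [Algebra k K] [IsGalois k K]
    (X : Scheme.{u}) [X.Over (Spec (CommRingCat.of k))] (V : Set ↥(Curv2.bc k X K)) (hV : IsOpen V) (hVc : IsCompact V) :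
    ∃ E : IntermediateField k K, FiniteDimensional k ↥E ∧
      ∀ σ : K ≃ₐ[k] K, (∀ a : K, a ∈ E → σ a = a) → (Curv2.galAct k X K σ).base '' V = V := by
  classical
  have hch : ∀ v : V, ∃ W : Set ↥(Curv2.bc k X K), IsOpen W ∧ v.1 ∈ W ∧ W ⊆ V ∧ ∃ S : Finset K,
      ∀ σ : K ≃ₐ[k] K, (∀ c ∈ S, σ c = c) → ∀ w ∈ W, (Curv2.galAct k X K σ).base w ∈ V := fun v => by
    exact chart k K X V hV (X.affineOpenCover.f _) v.1 v.2 (X.affineOpenCover.covers _)
  choose W hWo hvW hWV S hS using hch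
  obtain ⟨T, hT⟩ := hVc.elim_finite_subcover W hWo fun v hv => Set.mem_iUnion.2 ⟨⟨v, hv⟩, hvW ⟨v, hv⟩⟩
  refine ⟨IntermediateField.adjoin k (↑(T.biUnion S) : Set K), ?_, fun σ hσ => ?_⟩
  · exact IntermediateField.finiteDimensional_adjoin fun c _ => Algebra.IsIntegral.isIntegral c
  have key : ∀ τ : K ≃ₐ[k] K, (∀ c ∈ T.biUnion S, τ c = c) → ∀ v ∈ V, (Curv2.galAct k X K τ).base v ∈ V := by
    intro τ hτ v hv
    obtain ⟨i, hi, hvi⟩ := Set.mem_iUnion₂.1 (hT hv)
    exact hS i τ (fun c hc => hτ c (Finset.mem_biUnion.2 ⟨i, hi, hc⟩)) v hvi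
  have hfix : ∀ c ∈ T.biUnion S, σ c = c := fun c hc => hσ c (IntermediateField.subset_adjoin k _ hc)
  refine Set.Subset.antisymm (Set.image_subset_iff.2 (key σ hfix)) fun v hv => ?_
  refine ⟨(Curv2.galAct k X K σ.symm).base v, key σ.symm (fun c hc => σ.injective (by rw [AlgEquiv.apply_symm_apply, hfix c hc])) v hv, ?_⟩
  have hid : Curv2.galAct k X K σ.symm ≫ Curv2.galAct k X K σ = 𝟙 _ := by
    apply pullback.hom_ext
    · simp only [Curv2.galAct, pullback.map, Category.assoc, Category.id_comp, Category.comp_id]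
      erw [pullback.lift_fst, pullback.lift_fst]
    · simp only [Curv2.galAct, pullback.map, Category.assoc, pullback.lift_snd, pullback.lift_snd_assoc, Category.id_comp,
        ← Spec.map_comp]
      rw [← CommRingCat.ofHom_comp]
      refine (congrArg (fun f => pullback.snd _ _ ≫ Spec.map f) ?_).trans (by rw [Spec.map_id, Category.comp_id])
      ext a
      simp
  rw [← Scheme.Hom.comp_apply, hid]
  rfl

end Groth.Agent.S7621
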