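import Groth.Statements.S7624
import Groth.Agent.FibreDimChart.Prufer


set_option autoImplicit false
universe u
open CategoryTheory CategoryTheory.Limits AlgebraicGeometry
open Variety

namespace Groth.Agent.S7624

/-- Let R be a valuation ring, X an irreducible scheme and f : X → Spec R a surjective morphism locally
of finite type. Then each irreducible component of the fibre of f over the closed point of Spec R
has Krull dimension equal to that of the fibre of f over the generic point. -/
theorem result (R : Type u) [CommRing R] [IsDomain R] [ValuationRing R]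
    (X : Scheme.{u}) [IrreducibleSpace ↥X] (f : X ⟶ Spec (CommRingCat.of R)) [LocallyOfFiniteType f] [Surjective f]
    (Z : Set ↥(f.fiber (IsLocalRing.closedPoint R))) (hZ : Z ∈ irreducibleComponents ↥(f.fiber (IsLocalRing.closedPoint R))) :
    topologicalKrullDim ↥Z = topologicalKrullDim ↥(f.fiber (⟨⊥, Ideal.bot_prime⟩ : PrimeSpectrum R)) := by
  have hR : ∀ (p : Ideal R) [p.IsPrime], ValuationRing (Localization.AtPrime p) := fun p _ => by
    refine ValuationRing.iff_dvd_total.mpr ⟨fun x y => ?_⟩
    obtain ⟨a, s, rfl⟩ := IsLocalization.exists_mk'_eq p.primeCompl x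
    obtain ⟨b, t, rfl⟩ := IsLocalization.exists_mk'_eq p.primeCompl y
    have key : ∀ (a b : R) (s t : p.primeCompl), a ∣ b →
        IsLocalization.mk' (Localization.AtPrime p) a s ∣ IsLocalization.mk' (Localization.AtPrime p) b t := by
      rintro a _ s t ⟨c, rfl⟩
      exact ⟨IsLocalization.mk' _ (c * s) t, by
        rw [← IsLocalization.mk'_mul, IsLocalization.mk'_eq_iff_eq]
        simp only [Submonoid.coe_mul]
        ring_nf⟩
    exact (ValuationRing.dvd_total a b).imp (key a b s t) (key b a t s)
  have : IsDominant f := ⟨f.surjective.denseRange⟩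
  rw [FibreDimChart.dim_component_eq_generic f hR _ Z hZ,
    show genericPoint ↥(Spec (CommRingCat.of R)) = (⟨⊥, Ideal.bot_prime⟩ : PrimeSpectrum R) from
      genericPoint_eq_bot_of_affine (CommRingCat.of R)]

end Groth.Agent.S7624
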