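import Groth.Statements.S7636
import Groth.Agent.BCModel.FlatBC
import Groth.Agent.GenLocus.PullTensor
import Groth.Agent.TensorMod.FinLocFree
import Groth.Agent.CurveDeg.Euler

set_option autoImplicit false
set_option backward.isDefEq.respectTransparency false
universe u
open CategoryTheory CategoryTheory.Limits AlgebraicGeometry
open Variety
open scoped TensorProduct

namespace Groth.Agent.S7636

/-- Let X be proper of dimension at most one over a field k, let k' be a field extension of k and let E
be a finite locally free module of rank n on X. Then the degree of the pullback of E to the base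
change X_{k'}, computed over k', equals the degree of E over k. -/
theorem result (k : Type u) [Field k] (X : Scheme.{u}) [X.Over (Spec (CommRingCat.of k))] [IsProper (X ↘ (Spec (CommRingCat.of k)))]
    (hdim : topologicalKrullDim X ≤ 1) (k' : Type u) [Field k'] [Algebra k k']
    (n : ℕ) (E : X.Modules) (hE : FlatMod.IsFinLocFreeOfRank n E) :
    @Curv2.deg k' _ (Curv2.bc k X k') ⟨Curv2.bcSnd k X k'⟩
        ((Scheme.Modules.pullback (Curv2.bcFst k X k')).obj E) n = Curv2.deg k X E n := by
  let _ : (Curv2.bc k X k').Over (Spec (CommRingCat.of k')) := ⟨Curv2.bcSnd k X k'⟩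
  have := Groth.Agent.CurveDeg.isSeparated_of_proper (k := k) (X := X)
  have := Groth.Agent.CurveDeg.isNoetherian_of_proper (k := k) (X := X)
  have key : ∀ F : X.Modules, Coh.IsQCoh F →
      Curv2.euler k' (Curv2.bc k X k') ((Scheme.Modules.pullback (Curv2.bcFst k X k')).obj F) =
        Curv2.euler k X F := fun F hF =>
    finsum_congr fun i => by
      obtain ⟨e⟩ := Groth.Agent.BCModel.nonempty_HH_baseChange (A := k) (B := k') (X := X)
        (algebraMap k k') (RingHom.flat_algebraMap_iff.2 inferInstance) (Curv2.bcFst k X k')
        (IsPullback.of_hasPullback _ _) F hF i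
      have h : @Module.finrank k' (k' ⊗[k] Coh.HH X F i) _ _ _ =
          Module.finrank k (Coh.HH X F i) := Module.finrank_baseChange
      rw [← h]
      congr 2
      have halg : (algebraMap k k').toAlgebra = ‹Algebra k k'› := Algebra.algebra_ext _ _ fun _ => rfl
      revert e; rw [halg]; intro e
      exact e.finrank_eq.symm
  rw [Curv2.deg, Curv2.deg, key E (Groth.Agent.TensorMod.isQCoh_of_isFinLocFree
    (Groth.Agent.TensorMod.isFinLocFree_of_rank hE)),
    ← Groth.Agent.CurveDeg.euler_congr (k := k') (Groth.Agent.GenLocus.pullUnitIso (Curv2.bcFst k X k')),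
    key _ (Groth.Agent.TensorMod.isQCoh_structureModule X)]

end Groth.Agent.S7636
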