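import Groth.Statements.S7644
import Mathlib

set_option autoImplicit false
universe u
open CategoryTheory CategoryTheory.Limits AlgebraicGeometry
open Variety

namespace Groth.Agent.S7644

/-- If X is an irreducible scheme of positive dimension, separated over a field k, and x is a closed
point of X, then the open subscheme obtained by removing x is not proper over k. -/
theorem result (k : Type u) [Field k] (X : Scheme.{u}) [X.Over (Spec (CommRingCat.of k))]
    [IsSeparated (X ↘ (Spec (CommRingCat.of k)))] [IrreducibleSpace X] (hdim : 0 < topologicalKrullDim X)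
    (x : X) (hx : IsClosed ({x} : Set X)) :
    ¬ IsProper (Scheme.Opens.ι (⟨({x} : Set X)ᶜ, hx.isOpen_compl⟩ : X.Opens) ≫ (X ↘ (Spec (CommRingCat.of k)))) := by
  intro h
  let U : X.Opens := ⟨({x} : Set X)ᶜ, hx.isOpen_compl⟩
  have : IsProper U.ι := IsProper.of_comp U.ι (X ↘ Spec (CommRingCat.of k))
  have hcl : IsClosed ((U : Set X)) := by
    have := U.ι.isClosedMap _ isClosed_univ
    rwa [Set.image_univ, U.range_ι] at this
  rcases eq_or_ne (U : Set X) ∅ with he | he
  · have hsub : Subsingleton X := ⟨fun a b => by
      have ha : a ∉ (U : Set X) := by rw [he]; exact Set.notMem_empty a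
      have hb : b ∉ (U : Set X) := by rw [he]; exact Set.notMem_empty b
      exact (not_not.1 ha : a = x).trans (not_not.1 hb : b = x).symm⟩
    have : DiscreteTopology X := Subsingleton.discreteTopology
    exact absurd (hdim.trans_le (topologicalKrullDim_zero_of_discreteTopology X)) (lt_irrefl _)
  · obtain ⟨y, hy⟩ := Set.nonempty_iff_ne_empty.2 he
    obtain ⟨z, hz, hz'⟩ := nonempty_preirreducible_inter U.2 hcl.isOpen_compl ⟨y, hy⟩
      ⟨x, fun h => h rfl⟩
    exact hz' hz

end Groth.Agent.S7644
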