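import Groth.Statements.S7651
import Mathlib
import Groth.Agent.MinPrimesProd.Basic
import Groth.Agent.Depth.Basic

set_option autoImplicit false
universe u
open CategoryTheory CategoryTheory.Limits AlgebraicGeometry
open Variety

namespace Groth.Agent.S7651

/-- Let (A, m) be a Noetherian local ring of dimension one and f ∈ m. Then (1) m = √(f), (2) f lies in
no minimal prime of A, and (3) A_f ≅ ∏_{p minimal} A_p as A-algebras, are equivalent; such an f
exists; if A has depth one, for instance if A is reduced, they are also equivalent to (4) f is a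
nonzerodivisor and to (5) A → A_f is the localization of A at all its nonzerodivisors; and if A is
reduced they are also equivalent to (6) A_f ≅ ∏_{p minimal} κ(p) as A-algebras. -/
theorem result (A : Type u) [CommRing A] [IsLocalRing A]
    [IsNoetherianRing A] (hdim : ringKrullDim A = 1) :
    (∃ f ∈ IsLocalRing.maximalIdeal A, ∀ p ∈ minimalPrimes A, f ∉ p) ∧
    ∀ f ∈ IsLocalRing.maximalIdeal A,
      ((IsLocalRing.maximalIdeal A = (Ideal.span {f}).radical) ↔ (∀ p ∈ minimalPrimes A, f ∉ p)) ∧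
      ((∀ p ∈ minimalPrimes A, f ∉ p) ↔
        Nonempty (Localization.Away f ≃ₐ[A] (∀ p : {p : PrimeSpectrum A // p.asIdeal ∈ minimalPrimes A}, Localization.AtPrime p.1.asIdeal))) ∧
      ((LocCoh.depth A A = 1 ∨ IsReduced A) →
        ((∀ p ∈ minimalPrimes A, f ∉ p) ↔ f ∈ nonZeroDivisors A) ∧
        ((∀ p ∈ minimalPrimes A, f ∉ p) ↔ IsLocalization (nonZeroDivisors A) (Localization.Away f))) ∧
      (IsReduced A →
        ((∀ p ∈ minimalPrimes A, f ∉ p) ↔
          Nonempty (Localization.Away f ≃ₐ[A] (∀ p : {p : PrimeSpectrum A // p.asIdeal ∈ minimalPrimes A}, p.1.asIdeal.ResidueField)))) := by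
  open Groth.Agent.MinPrimesProd in
  have hidx : ∀ f : A, (∀ p ∈ minimalPrimes A, f ∉ p) ↔ ∀ p : Idx A, f ∉ p.1.asIdeal :=
    fun f => ⟨fun h p => h _ p.2, fun h p hp => h ⟨⟨p, hp.1.1⟩, hp⟩⟩
  open Groth.Agent.MinPrimesProd in
  obtain ⟨g, hg, hgp⟩ := exists_mem_maximalIdeal hdim
  refine ⟨⟨g, hg, (hidx g).2 hgp⟩, fun f hf => ?_⟩
  rw [hidx f]
  have key : ∀ (F : Type u) [CommRing F] [Algebra A F] [IsLocalization.Away f F],
      (∀ p : Groth.Agent.MinPrimesProd.Idx A, f ∉ p.1.asIdeal) →
      Nonempty (F ≃ₐ[A] (∀ p : {p : PrimeSpectrum A // p.asIdeal ∈ minimalPrimes A},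
        Localization.AtPrime p.1.asIdeal)) := fun F _ _ _ h =>
    have := Groth.Agent.MinPrimesProd.isLocalization_away hdim hf h
    ⟨IsLocalization.algEquiv (Submonoid.powers f) _ _⟩
  refine ⟨Groth.Agent.MinPrimesProd.radical_eq_iff hdim hf, ⟨key _, ?_⟩, fun hdr => ?_, fun hred => ?_⟩
  · rintro ⟨e⟩ p hfp
    have h1 := (IsLocalization.Away.algebraMap_isUnit f (S := Localization.Away f)).map e
    rw [AlgEquiv.commutes] at h1
    exact (IsLocalization.AtPrime.isUnit_to_map_iff (Localization.AtPrime p.1.asIdeal) _ f).1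
      (Pi.isUnit_iff.1 h1 p) hfp
  · -- a nonzerodivisor in the maximal ideal
    have hnzd : ∃ w ∈ IsLocalRing.maximalIdeal A, w ∈ nonZeroDivisors A := by
      rcases hdr with hdep | hred
      · have h1 : ((1 : ℕ) : ℕ∞) ≤ LocCoh.idealDepth (IsLocalRing.maximalIdeal A) A := le_of_eq hdep.symm
        obtain ⟨rs, hlen, hmem, hreg⟩ := (Groth.Agent.Depth.le_idealDepth_iff_exists
          Groth.Agent.Depth.maximalIdeal_smul_top_ne_top).1 h1
        obtain ⟨w, rfl⟩ := List.length_eq_one_iff.1 hlen
        rw [RingTheory.Sequence.isWeaklyRegular_singleton_iff] at hreg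
        refine ⟨w, hmem w (by simp), mem_nonZeroDivisors_iff.2 ⟨fun z hz => hreg (by simpa using hz),
          fun z hz => hreg (by simpa [mul_comm] using hz)⟩⟩
      · refine ⟨g, hg, mem_nonZeroDivisors_iff_right.2 fun z hz => ?_⟩
        have : z ∈ nilradical A := by
          rw [nilradical, Ideal.radical_eq_sInf]
          refine Ideal.mem_sInf.2 fun {J} hJ => ?_
          have := hJ.2
          obtain ⟨p, hp⟩ := Groth.Agent.MinPrimesProd.exists_idx_le J
          exact hp ((p.1.isPrime.mem_or_mem (hz ▸ p.1.asIdeal.zero_mem)).resolve_right (hgp p))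
        rw [nilradical_eq_zero] at this
        exact this
    obtain ⟨w, hwm, hw⟩ := hnzd
    have havoid : ∀ u ∈ nonZeroDivisors A, ∀ p : Groth.Agent.MinPrimesProd.Idx A, u ∉ p.1.asIdeal :=
      fun u hu p hup =>
        (Ideal.disjoint_nonZeroDivisors_of_mem_minimalPrimes p.2).notMem_of_mem_left hup hu
    have hfwd : (∀ p : Groth.Agent.MinPrimesProd.Idx A, f ∉ p.1.asIdeal) → f ∈ nonZeroDivisors A := by
      intro h
      obtain ⟨n, hn⟩ := (((Groth.Agent.MinPrimesProd.radical_eq_iff hdim hf).2 h) ▸ hwm :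
        w ∈ (Ideal.span {f}).radical)
      obtain ⟨c, hc⟩ := Ideal.mem_span_singleton.1 hn
      exact (mul_mem_nonZeroDivisors.1 (hc ▸ pow_mem hw n)).1
    refine ⟨⟨hfwd, havoid f⟩, ⟨fun h => ?_, fun hloc => ?_⟩⟩
    · refine IsLocalization.of_le_of_exists_dvd (Submonoid.powers f) _
        (Submonoid.powers_le.2 (hfwd h)) fun u hu => ?_
      by_cases hum : u ∈ IsLocalRing.maximalIdeal A
      · obtain ⟨n, hn⟩ := (((Groth.Agent.MinPrimesProd.radical_eq_iff hdim hum).2 (havoid u hu)) ▸ hf :
          f ∈ (Ideal.span {u}).radical)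
        exact ⟨f ^ n, ⟨n, rfl⟩, Ideal.mem_span_singleton.1 hn⟩
      · exact ⟨1, one_mem _, (IsLocalRing.notMem_maximalIdeal.1 hum).dvd⟩
    · refine havoid f (mem_nonZeroDivisors_iff_right.2 fun z hz => ?_)
      refine IsLocalization.injective (Localization.Away f) (le_refl (nonZeroDivisors A)) ?_
      rw [map_zero, ← (IsLocalization.Away.algebraMap_isUnit f (S := Localization.Away f)).mul_left_eq_zero,
        ← map_mul, hz, map_zero]
  · have hκ : ∀ p : {p : PrimeSpectrum A // p.asIdeal ∈ minimalPrimes A},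
        Function.Bijective (IsScalarTower.toAlgHom A (Localization.AtPrime p.1.asIdeal) p.1.asIdeal.ResidueField) := by
      intro p
      refine ⟨(injective_iff_map_eq_zero _).2 fun z hz => ?_, Ideal.Quotient.mk_surjective⟩
      have hzm : z ∈ IsLocalRing.maximalIdeal (Localization.AtPrime p.1.asIdeal) :=
        Ideal.Quotient.eq_zero_iff_mem.1 hz
      obtain ⟨⟨x, s⟩, hxs⟩ := IsLocalization.surj p.1.asIdeal.primeCompl z
      have hx : x ∈ p.1.asIdeal := by
        rw [← IsLocalization.AtPrime.to_map_mem_maximal_iff (Localization.AtPrime p.1.asIdeal) p.1.asIdeal x]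
        exact hxs ▸ Ideal.mul_mem_right _ _ hzm
      have : IsReduced (Localization.AtPrime p.1.asIdeal) := inferInstance
      have hx0 := (Groth.Agent.MinPrimesProd.isNilpotent_algebraMap p hx).eq_zero
      rw [← hxs] at hx0
      exact (IsLocalization.map_units (Localization.AtPrime p.1.asIdeal) s).mul_left_eq_zero.1 hx0
    refine ⟨fun h => ?_, ?_⟩
    · obtain ⟨e⟩ := key (Localization.Away f) h
      exact ⟨e.trans (AlgEquiv.piCongrRight fun p => AlgEquiv.ofBijective _ (hκ p))⟩
    · rintro ⟨e⟩ p hfp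
      have h1 := Pi.isUnit_iff.1
        ((IsLocalization.Away.algebraMap_isUnit f (S := Localization.Away f)).map e) p
      rw [AlgEquiv.commutes, Pi.algebraMap_apply, Ideal.algebraMap_residueField_eq_zero.2 hfp] at h1
      exact not_isUnit_zero h1

end Groth.Agent.S7651
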