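import Groth.Statements.S7653
import Mathlib
import Groth.Agent.RedNorm.Basic

set_option autoImplicit false
universe u
open CategoryTheory CategoryTheory.Limits AlgebraicGeometry
open Variety

namespace Groth.Agent.S7653

/-- For a reduced local Nagata ring A of Krull dimension one, the δ-invariant of A is zero exactly when
A is a DVR (in particular a domain). -/
theorem result (A : Type u) [CommRing A] [IsLocalRing A]
    [IsReduced A] (hN : CAlg.IsNagata A) (hdim : ringKrullDim A = 1) :
    Curv2.deltaInv A = 0 ↔ ∃ _ : IsDomain A, IsDiscreteValuationRing A := by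
  classical
  haveI : IsNoetherianRing A := hN.1
  haveI hle : Ring.KrullDimLE 1 A := Ring.krullDimLE_iff.2 (le_of_eq hdim)
  constructor
  · intro h0
    rw [Curv2.deltaInv, Module.length_eq_zero_iff, Submodule.Quotient.subsingleton_iff] at h0
    have hmem : ∀ z : FractionRing A, _root_.IsIntegral A z → ∃ a, algebraMap A (FractionRing A) a = z := by
      intro z hz
      obtain ⟨a, ha⟩ : (⟨z, hz⟩ : integralClosure A (FractionRing A)) ∈
          LinearMap.range (Algebra.linearMap A ↥(integralClosure A (FractionRing A))) := h0 ▸ trivial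
      exact ⟨a, congrArg Subtype.val ha⟩
    have hinj : Function.Injective (algebraMap A (FractionRing A)) :=
      IsLocalization.injective _ le_rfl
    haveI : Nontrivial (FractionRing A) := hinj.nontrivial
    obtain ⟨M, hM⟩ := Ideal.exists_maximal (FractionRing A)
    obtain ⟨e, he, he1, he0⟩ := RedNorm.exists_idempotent M
    obtain ⟨a, rfl⟩ := hmem e ⟨Polynomial.X ^ 2 - Polynomial.X, Polynomial.monic_X_pow_sub (by
      rw [Polynomial.degree_X]; norm_num), by simp [pow_two, he]⟩
    have ha : a * a = a := hinj (by rw [map_mul, he])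
    have ha1 : a = 1 := by
      rcases IsLocalRing.isUnit_or_isUnit_one_sub_self a with hu | hu
      · exact hu.mul_left_cancel (ha.trans (mul_one a).symm)
      · exfalso
        have h : a = 0 := by
          refine hu.mul_left_cancel (?_ : (1 - a) * a = (1 - a) * 0)
          rw [mul_zero, sub_mul, one_mul, ha, sub_self]
        rw [h, map_zero, zero_sub] at he1
        exact hM.ne_top ((Ideal.eq_top_iff_one _).2 (neg_mem_iff.1 he1))
    have hbot : M = ⊥ := eq_bot_iff.2 fun x hx => by
      have := he0 x hx
      rw [ha1, map_one, one_mul] at this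
      exact Ideal.mem_bot.2 this
    have hF : IsField (FractionRing A) := by
      refine ⟨⟨0, 1, zero_ne_one⟩, mul_comm, fun {x} hx => ?_⟩
      exact (IsUnit.exists_right_inv (by
        by_contra hu
        obtain ⟨M', hM', hxM⟩ := exists_max_ideal_of_mem_nonunits (show x ∈ nonunits _ from hu)
        have := (hbot ▸ hM).eq_of_le hM'.ne_top bot_le
        exact hx (Ideal.mem_bot.1 (this ▸ hxM))))
    haveI : IsDomain (FractionRing A) := hF.isDomain
    haveI : IsDomain A := hinj.isDomain _
    haveI : IsIntegrallyClosed A := (isIntegrallyClosed_iff (FractionRing A)).2 fun {x} hx => hmem x hx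
    have hnf : ¬ IsField A := fun h => by
      rw [ringKrullDim_eq_zero_of_isField h] at hdim
      exact zero_ne_one hdim
    refine ⟨inferInstance, ((IsDiscreteValuationRing.TFAE A hnf).out 0 3 :).2 ⟨inferInstance, ?_⟩⟩
    refine ⟨IsLocalRing.maximalIdeal A, ⟨fun h => hnf (IsLocalRing.isField_iff_maximalIdeal_eq.2 h),
      inferInstance⟩, ?_⟩
    rintro p ⟨hp0, hp⟩
    rcases Ring.krullDimLE_one_iff.1 hle _ hp with h | h
    · rw [IsDomain.minimalPrimes_eq_singleton_bot] at h
      exact absurd h hp0
    · exact IsLocalRing.eq_maximalIdeal h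
  · rintro ⟨hdom, hdvr⟩
    rw [Curv2.deltaInv, Module.length_eq_zero_iff, Submodule.Quotient.subsingleton_iff]
    refine eq_top_iff.2 fun z _ => ?_
    obtain ⟨a, ha⟩ := IsIntegrallyClosed.isIntegral_iff.1 z.2
    exact ⟨a, Subtype.ext ha⟩

end Groth.Agent.S7653
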