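import Groth.Statements.S7655
import Mathlib
import Groth.Agent.RedNorm.Delta

set_option autoImplicit false
universe u
open CategoryTheory CategoryTheory.Limits AlgebraicGeometry
open Variety

namespace Groth.Agent.S7655

theorem aux (A : Type u) [CommRing A] [IsLocalRing A] [IsReduced A] [IsNoetherianRing A] :
    Brnch.numGeomBranches A ≤ Curv2.deltaInv A + 1 := by
  classical
  let red := CAlg2.red A
  let Qr := FractionRing red
  let B0 := integralClosure A (FractionRing A)
  let B := CAlg2.normRed A
  have hbij : Function.Bijective (Ideal.Quotient.mkₐ A (nilradical A)) := by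
    refine ⟨fun x y h => ?_, Ideal.Quotient.mk_surjective⟩
    have h' : x - y ∈ nilradical A := Ideal.Quotient.eq.1 h
    rw [nilradical_eq_zero A] at h'
    exact sub_eq_zero.1 h'
  let e0 : A ≃ₐ[A] red := AlgEquiv.ofBijective _ hbij
  let e : FractionRing A ≃ₐ[A] Qr := IsFractionRing.algEquivOfAlgEquiv e0
  have : Algebra.IsIntegral A red := Algebra.IsIntegral.of_finite A red
  have hint : ∀ y : Qr, IsIntegral red y → IsIntegral A y := fun y hy => isIntegral_trans y hy
  let j : B0 ≃ₗ[A] B :=
    { toFun := fun x => ⟨e x.1, ((x.2 : IsIntegral A x.1).map e.toAlgHom).tower_top⟩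
      invFun := fun y => ⟨e.symm y.1, (hint _ y.2).map e.symm.toAlgHom⟩
      left_inv := fun x => Subtype.ext (e.symm_apply_apply x.1)
      right_inv := fun y => Subtype.ext (e.apply_symm_apply y.1)
      map_add' := fun x y => Subtype.ext (map_add e x.1 y.1)
      map_smul' := fun c x => Subtype.ext (map_smul e c x.1) }
  have hj : (LinearMap.range (Algebra.linearMap A B0)).map (j : B0 →ₗ[A] B) =
      LinearMap.range (Algebra.linearMap A B) := by
    rw [← LinearMap.range_comp]
    congr 1
    exact LinearMap.ext fun a => Subtype.ext (e.commutes a)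
  have hδ : Module.length A (B ⧸ LinearMap.range (Algebra.linearMap A B)) = Curv2.deltaInv A :=
    (LinearEquiv.length_eq (Submodule.Quotient.equiv _ _ j hj)).symm
  have : Algebra.IsIntegral A B :=
    ⟨fun y => (isIntegral_algHom_iff (IsScalarTower.toAlgHom A B Qr) Subtype.val_injective).1 (hint _ y.2)⟩
  have hker : ∀ m : MaximalSpectrum B, RingHom.ker (algebraMap A (B ⧸ m.asIdeal)) = IsLocalRing.maximalIdeal A := by
    intro m
    have := m.isMaximal
    have h1 : (m.asIdeal.comap (algebraMap A B)).IsMaximal :=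
      Ideal.isMaximal_comap_of_isIntegral_of_isMaximal m.asIdeal
    rw [← IsLocalRing.eq_maximalIdeal h1]
    ext a
    rw [RingHom.mem_ker, Ideal.mem_comap, ← Ideal.Quotient.eq_zero_iff_mem]
    rfl
  have hm : ∀ m : MaximalSpectrum B, ENat.card (Brnch.Emb A m) ≤ Module.length A (B ⧸ m.asIdeal) := by
    intro m
    have := m.isMaximal
    let _ : Field (B ⧸ m.asIdeal) := Ideal.Quotient.field m.asIdeal
    refine le_trans (le_of_eq (ENat.card_congr ?_))
      (RedNorm.card_emb_le (B ⧸ m.asIdeal) (hker m) (Brnch.toClosure A) rfl)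
    exact Equiv.subtypeEquivRight fun σ => Iff.rfl
  have hbound : ∀ S : Finset (MaximalSpectrum B), ∑ m ∈ S, Module.length A (B ⧸ m.asIdeal) ≤ Curv2.deltaInv A + 1 :=
    fun S => hδ ▸ RedNorm.sum_length_le S
  unfold Brnch.numGeomBranches
  rw [if_pos (minimalPrimes.finite_of_isNoetherianRing A)]
  by_cases htop : Curv2.deltaInv A = ⊤
  · rw [htop, top_add]; exact le_top
  obtain ⟨n, hn⟩ := ENat.ne_top_iff_exists.1 htop
  have hfin : Finite (MaximalSpectrum B) := by
    by_contra h
    rw [not_finite_iff_infinite] at h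
    obtain ⟨S, hS⟩ := Infinite.exists_subset_card_eq (MaximalSpectrum B) (n + 2)
    have h1 : ∀ m ∈ S, (1 : ℕ∞) ≤ Module.length A (B ⧸ m.asIdeal) := fun m _ => by
      have : Nontrivial (B ⧸ m.asIdeal) := Ideal.Quotient.nontrivial_iff.2 m.isMaximal.ne_top
      exact Order.one_le_iff_pos.2 Module.length_pos
    have h2 := (Finset.card_nsmul_le_sum S _ 1 h1).trans (hbound S)
    rw [hS, nsmul_eq_mul, mul_one, ← hn] at h2
    have h3 : ((n + 2 : ℕ) : ℕ∞) ≤ ((n + 1 : ℕ) : ℕ∞) := by exact_mod_cast h2
    have := Nat.cast_le.1 h3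
    omega
  let _ : Fintype (MaximalSpectrum B) := Fintype.ofFinite _
  have : ∀ m, Finite (Brnch.Emb A m) := fun m => by
    refine ENat.card_lt_top.1 ?_
    refine lt_of_le_of_lt ((hm m).trans (by simpa using hbound {m})) ?_
    rw [← hn]
    exact ENat.coe_lt_top (n + 1)
  refine le_trans (le_of_eq ?_) ((Finset.sum_le_sum fun m _ => hm m).trans (hbound Finset.univ))
  rw [ENat.card_eq_coe_natCard, Nat.card_sigma, Nat.cast_sum]
  exact Finset.sum_congr rfl fun m _ => (ENat.card_eq_coe_natCard _).symm

/-- Let (A, m) be a reduced Nagata local ring of dimension one. Then the δ-invariant of A is at least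
the number of geometric branches of A minus one. -/
theorem result (A : Type u) [CommRing A] [IsLocalRing A]
    [IsReduced A] (hN : CAlg.IsNagata A) (hdim : ringKrullDim A = 1) :
    Brnch.numGeomBranches A ≤ Curv2.deltaInv A + 1 := by
  have := hN.1
  exact aux A

end Groth.Agent.S7655
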