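import Groth.Statements.S7656
import Groth.Agent.BranchCount.FieldExt
import Groth.Agent.GeomRedAt.Basic

set_option autoImplicit false
universe u
open CategoryTheory CategoryTheory.Limits AlgebraicGeometry
open Variety

namespace Groth.Agent.S7656

/-- For X locally of finite type over a field k, a field extension K/k and a point y of X_K over x ∈ X,
the local rings of X at x and of X_K at y have the same number of geometric branches. -/
theorem result (k : Type u) [Field k] (X : Scheme.{u}) [X.Over (Spec (CommRingCat.of k))]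
    [LocallyOfFiniteType (X ↘ (Spec (CommRingCat.of k)))] (K : Type u) [Field K] [Algebra k K]
    (y : ↥(Curv2.bc k X K)) :
    Brnch.numGeomBranchesAt X ((Curv2.bcFst k X K).base y) =
      Brnch.numGeomBranchesAt (Curv2.bc k X K) y := by
  obtain ⟨A, _, j, hjo, hj, ⟨p, hp⟩⟩ := GeomRedAt.exists_chart (X ↘ Spec (CommRingCat.of k)) ((Curv2.bcFst k X K).base y)
  obtain ⟨ι, hι, hfac, hrange⟩ := GeomRedAt.exists_bc_chart (X ↘ Spec (CommRingCat.of k)) j hj K
  obtain ⟨Q, hQ⟩ : y ∈ Set.range ι := hrange ▸
    (show FBase.bcπ (X ↘ Spec (CommRingCat.of k)) K y ∈ Set.range j from ⟨p, hp⟩)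
  have hQp : PrimeSpectrum.comap (Algebra.TensorProduct.includeRight (R := k) (A := K) (B := A)).toRingHom Q = p := by
    refine j.isOpenEmbedding.injective ?_
    rw [hp, ← hQ]
    exact (congrArg (fun m => m.base Q) hfac).symm
  obtain ⟨ey⟩ := GeomRedAt.exists_stalkEquiv ι Q
  obtain ⟨ex⟩ := GeomRedAt.exists_stalkEquiv j p
  show Brnch.numGeomBranches _ = Brnch.numGeomBranches _
  subst hQ
  rw [← hp, (BranchCount.numBranches_eq_of_ringEquiv ex).1]
  refine Eq.trans ?_ (BranchCount.numBranches_eq_of_ringEquiv ey).1.symm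
  exact BranchCount.numGeomBranches_tensor_field_atPrime k A K p.asIdeal Q.asIdeal (congrArg PrimeSpectrum.asIdeal hQp)

end Groth.Agent.S7656
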