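import Groth.Statements.S7661
import Mathlib

set_option autoImplicit false
universe u
open CategoryTheory CategoryTheory.Limits AlgebraicGeometry
open Variety

namespace Groth.Agent.S7661

theorem exists_lift_aux (A : Type u) [CommRing A] (I : Ideal A)
    (s : Finset (Ideal A)) (hs : ∀ p ∈ s, p.IsPrime) (hI : ∀ p ∈ s, ¬ I ≤ p) (a : A) :
    ∃ x ∈ I, ∀ p ∈ s, a + x ∉ p := by
  classical
  let m := s.filter fun p => ∀ q ∈ s, p ≤ q → q = p
  have hm : ∀ q ∈ s, ∃ p ∈ m, q ≤ p := by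
    intro q hq
    obtain ⟨p, hqp, hp⟩ := s.exists_le_maximal hq
    exact ⟨p, Finset.mem_filter.2 ⟨hp.1, fun r hr h => (hp.2 hr h).antisymm h⟩, hqp⟩
  let bad := m.filter fun p => a ∈ p
  let good := m.filter fun p => a ∉ p
  let J : Ideal A := I ⊓ good.inf id
  have hnot : ¬ ((J : Set A) ⊆ ⋃ p ∈ (bad : Set (Ideal A)), (p : Set A)) := by
    rw [Ideal.subset_union_prime (f := fun p : Ideal A => p) ⊥ ⊥ (fun p hp _ _ => hs p
      (Finset.mem_filter.1 (Finset.mem_filter.1 hp).1).1)]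
    rintro ⟨p, hp, hle⟩
    have hp' := Finset.mem_filter.1 (Finset.mem_filter.1 hp).1
    have := hs p hp'.1
    rcases (Ideal.IsPrime.inf_le this).1 hle with h | h
    · exact hI p hp'.1 h
    · obtain ⟨q, hq, hqp⟩ := (Ideal.IsPrime.inf_le' this).1 h
      have hq' := Finset.mem_filter.1 hq
      exact hq'.2 ((Finset.mem_filter.1 hq'.1).2 p hp'.1 hqp ▸ (Finset.mem_filter.1 hp).2)
  obtain ⟨x, hxJ, hx⟩ := Set.not_subset.1 hnot
  refine ⟨x, hxJ.1, fun q hq hax => ?_⟩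
  obtain ⟨p, hp, hqp⟩ := hm q hq
  by_cases ha : a ∈ p
  · exact hx (Set.mem_iUnion₂.2 ⟨p, Finset.mem_filter.2 ⟨hp, ha⟩, by
      simpa using p.sub_mem (hqp hax) ha⟩)
  · have : x ∈ p := Finset.inf_le (f := id) (Finset.mem_filter.2 ⟨hp, ha⟩) hxJ.2
    exact ha (by simpa using p.sub_mem (hqp hax) this)

/-- Let A be a ring, I an ideal, p_1, …, p_r prime ideals with I ⊄ p_i for all i, and let f̄ ∈ A/I. Then
f̄ lifts to an element f ∈ A with f ∉ p_i for all i. -/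
theorem result (A : Type u) [CommRing A] (I : Ideal A)
    (s : Finset (Ideal A)) (hs : ∀ p ∈ s, p.IsPrime) (hI : ∀ p ∈ s, ¬ I ≤ p) (fbar : A ⧸ I) :
    ∃ f : A, Ideal.Quotient.mk I f = fbar ∧ ∀ p ∈ s, f ∉ p := by
  obtain ⟨a, rfl⟩ := Ideal.Quotient.mk_surjective fbar
  obtain ⟨x, hx, h⟩ := exists_lift_aux A I s hs hI a
  exact ⟨a + x, by simp [Ideal.Quotient.eq_zero_iff_mem.2 hx], h⟩

end Groth.Agent.S7661
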