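import Groth.Statements.S7663
import Mathlib
import Groth.Agent.SemiLocalGlue.Main

set_option autoImplicit false
universe u
open CategoryTheory CategoryTheory.Limits AlgebraicGeometry
open Variety

namespace Groth.Agent.S7663

/-- Let K be a field and A, B ⊆ K subrings with fraction field K, with A Noetherian of dimension one.
Then A ⊗ B → K is not surjective (equivalently, the subring generated by A and B is not K) if and
only if some discrete valuation ring O ⊆ K with fraction field K contains both A and B. -/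
theorem result (K : Type u) [Field K]
    (A : Subring K) [IsFractionRing A K] (B : Subring K) [IsFractionRing B K] [IsNoetherianRing A] (hdim : ringKrullDim A = 1) :
    A ⊔ B ≠ ⊤ ↔ ∃ O : ValuationSubring K, IsDiscreteValuationRing O ∧ A ≤ O.toSubring ∧ B ≤ O.toSubring := by
  constructor
  · intro hne
    have hnf : ¬ IsField ↥(A ⊔ B) := fun h =>
      hne (Groth.Agent.SemiLocalGlue.eq_top_of_le le_sup_left h)
    obtain ⟨I, hI0, hI⟩ : ∃ I : Ideal ↥(A ⊔ B), I ≠ ⊥ ∧ I ≠ ⊤ := by
      obtain ⟨I, hI1, hI2⟩ := Ring.not_isField_iff_exists_ideal_bot_lt_and_lt_top.1 hnf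
      exact ⟨I, hI1.ne', hI2.ne⟩
    obtain ⟨V, hle, hV, -⟩ := Groth.Agent.SemiLocalGlue.exists_valuationSubring (A ⊔ B) I hI hI0
    have := Groth.Agent.SemiLocalGlue.krullDimLE_one hdim
    refine ⟨V, Groth.Agent.DVRDom.isDiscreteValuationRing_of_krullDimLE_one (C := A) V
      (fun c => hle ((le_sup_left : A ≤ A ⊔ B) c.2)) ?_, le_sup_left.trans hle, le_sup_right.trans hle⟩
    by_contra h
    simp only [not_exists, not_not] at h
    exact hV (eq_top_iff.2 fun z _ => h z)
  · rintro ⟨O, hO, hA, hB⟩ htop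
    have h : ∀ z : K, z ∈ O := fun z => (sup_le hA hB : A ⊔ B ≤ O.toSubring) (htop ▸ Subring.mem_top z)
    obtain ⟨π, hπ⟩ := IsDiscreteValuationRing.exists_irreducible O
    refine hπ.not_isUnit (IsUnit.of_mul_eq_one ⟨(π : K)⁻¹, h _⟩ (Subtype.ext (mul_inv_cancel₀ ?_)))
    exact fun h0 => hπ.ne_zero (Subtype.ext h0)

end Groth.Agent.S7663
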