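import Groth.Statements.S7664
import Mathlib
import Groth.Agent.SemiLocalGlue.Main

set_option autoImplicit false
universe u
open CategoryTheory CategoryTheory.Limits AlgebraicGeometry
open Variety

namespace Groth.Agent.S7664

/-- Let K be a field, A ⊆ K a Noetherian semi-local domain of dimension one and B ⊆ K a discrete
valuation ring, both with fraction field K, and R = A ∩ B. (a) If some unit of A does not lie in R,
then Spec A and Spec B each map to Spec R by an open immersion, Spec R is the union of the two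
images, and the natural map A ⊗_R B → K is an isomorphism. (b) If every unit of A lies in R, then B
dominates the local ring of A at one of its maximal ideals (A ⊆ B and the maximal ideal of B
contracts to a maximal ideal of A) and A ⊗ B → K is not surjective. -/
theorem result (K : Type u) [Field K]
    (A : Subring K) [IsFractionRing A K] [IsNoetherianRing A] (hdim : ringKrullDim A = 1) (hsl : Finite (MaximalSpectrum A))
    (B : ValuationSubring K) [IsDiscreteValuationRing B] :
    ((∃ u : A, IsUnit u ∧ (u : K) ∉ B) →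
      IsOpenImmersion (Spec.map (CommRingCat.ofHom (Subring.inclusion (inf_le_left : A ⊓ B.toSubring ≤ A)))) ∧
      IsOpenImmersion (Spec.map (CommRingCat.ofHom (Subring.inclusion (inf_le_right : A ⊓ B.toSubring ≤ B.toSubring)))) ∧
      Set.range (Spec.map (CommRingCat.ofHom (Subring.inclusion (inf_le_left : A ⊓ B.toSubring ≤ A)))).base ∪
        Set.range (Spec.map (CommRingCat.ofHom (Subring.inclusion (inf_le_right : A ⊓ B.toSubring ≤ B.toSubring)))).base = Set.univ ∧
      IsPushout (CommRingCat.ofHom (Subring.inclusion (inf_le_left : A ⊓ B.toSubring ≤ A)))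
        (CommRingCat.ofHom (Subring.inclusion (inf_le_right : A ⊓ B.toSubring ≤ B.toSubring)))
        (CommRingCat.ofHom A.subtype) (CommRingCat.ofHom B.toSubring.subtype)) ∧
    ((∀ u : A, IsUnit u → (u : K) ∈ B) →
      (∃ h : A ≤ B.toSubring,
        (Ideal.comap (Subring.inclusion h) (IsLocalRing.maximalIdeal B)).IsMaximal) ∧ A ⊔ B.toSubring ≠ ⊤) := by
  have : IsFractionRing B.toSubring K := inferInstanceAs (IsFractionRing B K)
  have : IsNoetherianRing B.toSubring := inferInstanceAs (IsNoetherianRing B)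
  have hdimB : ringKrullDim B.toSubring = 1 := IsDiscreteValuationRing.ringKrullDim_eq_one B
  have : IsLocalRing B.toSubring := inferInstanceAs (IsLocalRing B)
  have hslB : Finite (MaximalSpectrum B.toSubring) := inferInstance
  constructor
  · rintro ⟨u, -, huB⟩
    exact Groth.Agent.SemiLocalGlue.isPushout_two A B.toSubring (A ⊓ B.toSubring) hdim hdimB hsl
      hslB (Groth.Agent.SemiLocalGlue.sup_eq_top_of_notMem B A u.2 huB) inf_le_left inf_le_right
      fun z h1 h2 => ⟨h1, h2⟩
  · intro hunits
    have hne : A ⊔ B.toSubring ≠ ⊤ := by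
      intro htop
      obtain ⟨f, hf0, hfA, hfA', hf⟩ := Groth.Agent.SemiLocalGlue.exists_unit A
        (fun _ : Unit => B.toSubring) (fun _ => hdimB) (fun _ => hslB) (fun _ => htop)
      obtain ⟨hfB, hfJ⟩ := hf ()
      have hfB' : f⁻¹ ∈ B := hunits ⟨f⁻¹, hfA'⟩
        (IsUnit.of_mul_eq_one ⟨f, hfA⟩ (Subtype.ext (inv_mul_cancel₀ hf0)))
      have hu : IsUnit (⟨f, hfB⟩ : B.toSubring) :=
        IsUnit.of_mul_eq_one ⟨f⁻¹, hfB'⟩ (Subtype.ext (mul_inv_cancel₀ hf0))
      rw [IsLocalRing.jacobson_eq_maximalIdeal _ bot_ne_top] at hfJ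
      exact (IsLocalRing.mem_maximalIdeal _).1 hfJ hu
    have hAB : A ≤ B.toSubring := fun a ha => by
      by_contra h
      exact hne (Groth.Agent.SemiLocalGlue.sup_eq_top_of_notMem B A ha h)
    have := Groth.Agent.SemiLocalGlue.krullDimLE_one hdim
    refine ⟨⟨hAB, Groth.Agent.SemiLocalGlue.isMaximal_of_ne_bot (Ideal.IsPrime.comap _) fun h => ?_⟩, hne⟩
    obtain ⟨π, hπ⟩ := IsDiscreteValuationRing.exists_irreducible B
    have hπ0 : (π : K) ≠ 0 := fun h0 => hπ.ne_zero (Subtype.ext h0)
    obtain ⟨a, c, hc, e⟩ := IsFractionRing.div_surjective A ((π : K)⁻¹)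
    refine hπ.not_isUnit (IsUnit.of_mul_eq_one ⟨(π : K)⁻¹, ?_⟩ (Subtype.ext (mul_inv_cancel₀ hπ0)))
    have hcu : IsUnit (⟨c, hAB c.2⟩ : B) := by
      by_contra hcn
      exact nonZeroDivisors.ne_zero hc ((Submodule.mem_bot _).1
        (h.le ((IsLocalRing.mem_maximalIdeal _).2 hcn)))
    obtain ⟨v, hv⟩ := hcu.exists_right_inv
    rw [← e]
    show (a : K) / (c : K) ∈ B
    rw [div_eq_mul_inv, show (c : K)⁻¹ = v from inv_eq_of_mul_eq_one_right (congrArg Subtype.val hv)]
    exact B.mul_mem _ _ (hAB a.2) v.2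

end Groth.Agent.S7664
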