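import Groth.Statements.S7666
import Mathlib
import Groth.Agent.MinPrimesProd.Basic

set_option autoImplicit false
universe u
open CategoryTheory CategoryTheory.Limits AlgebraicGeometry
open Variety

namespace Groth.Agent.S7666

/-- Let A be a one-dimensional Noetherian local ring and L = ∏ A_p, the product over the minimal primes
of A. If a_1, a_2 ∈ m_A have the same image in L, then a_1 and a_2 have equal n-th powers for some
positive integer n. -/
theorem result (A : Type u) [CommRing A]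
    [IsLocalRing A] [IsNoetherianRing A] (hdim : ringKrullDim A = 1)
    (a₁ a₂ : A) (h₁ : a₁ ∈ IsLocalRing.maximalIdeal A) (h₂ : a₂ ∈ IsLocalRing.maximalIdeal A)
    (heq : ∀ p : {p : PrimeSpectrum A // p.asIdeal ∈ minimalPrimes A},
      algebraMap A (Localization.AtPrime p.1.asIdeal) a₁ = algebraMap A (Localization.AtPrime p.1.asIdeal) a₂) :
    ∃ n : ℕ, 0 < n ∧ a₁ ^ n = a₂ ^ n := by
  obtain ⟨g, hg, hgp⟩ := Groth.Agent.MinPrimesProd.exists_mem_maximalIdeal hdim
  have := Groth.Agent.MinPrimesProd.isLocalization_away hdim hg hgp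
  obtain ⟨⟨_, N, rfl⟩, hN⟩ := (IsLocalization.eq_iff_exists (Submonoid.powers g) (∀ p : {p : PrimeSpectrum A // p.asIdeal ∈ minimalPrimes A}, Localization.AtPrime p.1.asIdeal) (x := a₁) (y := a₂)).1 (funext heq)
  have hgN : g ^ N * (a₁ - a₂) = 0 := by rw [mul_sub]; exact sub_eq_zero.2 hN
  have hle : IsLocalRing.maximalIdeal A ≤ (Ideal.span {g ^ N}).radical := by
    rw [(Groth.Agent.MinPrimesProd.radical_eq_iff hdim hg).2 hgp,
      Ideal.radical_le_radical_iff, Ideal.span_singleton_le_iff_mem]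
    exact ⟨N, Ideal.mem_span_singleton_self _⟩
  obtain ⟨k, hk⟩ := Ideal.exists_pow_le_of_le_radical_of_fg hle (IsNoetherian.noetherian _)
  refine ⟨k + 1, Nat.succ_pos _, sub_eq_zero.1 ?_⟩
  rw [← geom_sum₂_mul a₁ a₂ (k + 1)]
  have hmem : ∑ i ∈ Finset.range (k + 1), a₁ ^ i * a₂ ^ (k + 1 - 1 - i) ∈
      IsLocalRing.maximalIdeal A ^ k := by
    refine Ideal.sum_mem _ fun i hi => ?_
    have hik : i + (k + 1 - 1 - i) = k := by have := Finset.mem_range.1 hi; omega
    have := Ideal.mul_mem_mul (Ideal.pow_mem_pow h₁ i) (Ideal.pow_mem_pow h₂ (k + 1 - 1 - i))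
    rwa [← pow_add, hik] at this
  obtain ⟨c, hc⟩ := Ideal.mem_span_singleton.1 (hk hmem)
  rw [hc]
  linear_combination c * hgN

end Groth.Agent.S7666
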