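import Groth.Statements.S7667
import Mathlib
import Groth.Agent.MinPrimesProd.Basic

set_option autoImplicit false
universe u
open CategoryTheory CategoryTheory.Limits AlgebraicGeometry
open Variety

namespace Groth.Agent.S7667

/-- Let A be a one-dimensional Noetherian local ring, L the product of the localizations A_p over its
minimal primes p, and I the intersection of those primes (the nilradical of A). If f ∈ L equals i +
a with a in the maximal ideal of A and i ∈ I·L, then for some positive integer n, f^n belongs to the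
subring of L obtained as the image of the structure map from A. -/
theorem result (A : Type u) [CommRing A]
    [IsLocalRing A] [IsNoetherianRing A] (hdim : ringKrullDim A = 1)
    (a : A) (ha : a ∈ IsLocalRing.maximalIdeal A)
    (i : ∀ p : {p : PrimeSpectrum A // p.asIdeal ∈ minimalPrimes A}, Localization.AtPrime p.1.asIdeal)
    (hi : i ∈ (nilradical A).map (algebraMap A (∀ p : {p : PrimeSpectrum A // p.asIdeal ∈ minimalPrimes A}, Localization.AtPrime p.1.asIdeal))) :
    ∃ n : ℕ, 0 < n ∧ (i + algebraMap A (∀ p : {p : PrimeSpectrum A // p.asIdeal ∈ minimalPrimes A}, Localization.AtPrime p.1.asIdeal) a) ^ n ∈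
      (algebraMap A (∀ p : {p : PrimeSpectrum A // p.asIdeal ∈ minimalPrimes A}, Localization.AtPrime p.1.asIdeal)).range := by
  obtain ⟨g, hg, hgp⟩ := Groth.Agent.MinPrimesProd.exists_mem_maximalIdeal hdim
  have := Groth.Agent.MinPrimesProd.isLocalization_away hdim hg hgp
  obtain ⟨φ, hφ⟩ : ∃ φ : A →+* (∀ p : {p : PrimeSpectrum A // p.asIdeal ∈ minimalPrimes A},
      Localization.AtPrime p.1.asIdeal), φ = algebraMap A _ := ⟨_, rfl⟩
  rw [← hφ] at hi ⊢
  have hnil : IsNilpotent i := by
    rw [← mem_nilradical]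
    refine Ideal.map_le_iff_le_comap.2 (fun x hx => ?_) hi
    rw [Ideal.mem_comap, mem_nilradical]
    exact (mem_nilradical.1 hx).map φ
  obtain ⟨e, he⟩ := hnil
  have hs : ∀ j, ∃ (N : ℕ) (c : A), i ^ j * φ g ^ N = φ c :=
    fun j => hφ ▸ IsLocalization.Away.surj g (i ^ j)
  choose N c hc using hs
  obtain ⟨M, hM⟩ : ∃ M, ∀ j < e, N j ≤ M := ⟨∑ j ∈ Finset.range e, N j,
    fun j hj => Finset.single_le_sum (fun _ _ => Nat.zero_le _) (Finset.mem_range.2 hj)⟩
  have hle : a ∈ (Ideal.span {g ^ M}).radical := by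
    have h1 : a ∈ (Ideal.span {g}).radical :=
      ((Groth.Agent.MinPrimesProd.radical_eq_iff hdim hg).2 hgp) ▸ ha
    refine Ideal.radical_le_radical_iff.2 ?_ h1
    rw [Ideal.span_singleton_le_iff_mem]
    exact ⟨M, Ideal.mem_span_singleton_self _⟩
  obtain ⟨k, hk⟩ := hle
  obtain ⟨d, hd⟩ := Ideal.mem_span_singleton.1 hk
  refine ⟨k + e + 1, Nat.succ_pos _, ?_⟩
  rw [add_pow]
  refine Subring.sum_mem _ fun j hj => Subring.mul_mem _ ?_ (natCast_mem _ _)
  rcases lt_or_ge j e with hje | hje
  · obtain ⟨l, hl⟩ : ∃ l, k + e + 1 - j = k + l := ⟨e + 1 - j, by omega⟩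
    obtain ⟨r, hr⟩ := Nat.exists_eq_add_of_le (hM j hje)
    refine ⟨c j * g ^ r * d * a ^ l, ?_⟩
    rw [hl, pow_add, ← map_pow φ a k, hd, hr, pow_add, map_mul, map_mul, map_mul, map_pow, map_pow, map_mul, map_mul, map_pow, ← hc j]
    simp only [map_pow]
    ring
  · rw [pow_eq_zero_of_le hje he, zero_mul]
    exact Subring.zero_mem _

end Groth.Agent.S7667
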