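import Groth.Statements.S7668
import Mathlib

set_option autoImplicit false
universe u
open CategoryTheory CategoryTheory.Limits AlgebraicGeometry
open Variety

namespace Groth.Agent.S7668

/-- Let A be a ring, p_1, …, p_r primes of A and S = A ∖ ⋃ p_i. Then S is a multiplicative subset, S⁻¹A
is semi-local, and contraction to A is a bijection from the maximal ideals of S⁻¹A onto the maximal
elements of {p_1, …, p_r}. -/
theorem result (A : Type u) [CommRing A]
    (r : ℕ) (p : Fin r → PrimeSpectrum A) :
    Finite (MaximalSpectrum (Localization (⨅ i, (p i).asIdeal.primeCompl))) ∧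
      Set.BijOn (fun m : Ideal (Localization (⨅ i, (p i).asIdeal.primeCompl)) =>
          m.comap (algebraMap A (Localization (⨅ i, (p i).asIdeal.primeCompl))))
        {m | m.IsMaximal}
        {q | q ∈ Set.range (fun i => (p i).asIdeal) ∧
          ∀ j, q ≤ (p j).asIdeal → q = (p j).asIdeal} := by
  classical
  set S : Submonoid A := ⨅ i, (p i).asIdeal.primeCompl
  set L := Localization S
  have mem_S : ∀ a : A, a ∈ S ↔ ∀ i, a ∉ (p i).asIdeal := fun a => by
    simp only [S, Submonoid.mem_iInf]; rfl
  have hdisj : ∀ i, Disjoint (S : Set A) ((p i).asIdeal : Set A) := fun i =>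
    Set.disjoint_left.2 fun a ha ha' => (mem_S a).1 ha i ha'
  have key : ∀ q : Ideal A, Disjoint (S : Set A) (q : Set A) → ∃ i, q ≤ (p i).asIdeal := by
    intro q hq
    have h : (q : Set A) ⊆ ⋃ i ∈ ((Finset.univ : Finset (Fin r)) : Set (Fin r)), ((p i).asIdeal : Set A) := by
      intro a ha
      have h1 : a ∉ S := fun h => Set.disjoint_left.1 hq h ha
      rw [mem_S] at h1; push Not at h1
      obtain ⟨i, hi⟩ := h1
      exact Set.mem_iUnion₂.2 ⟨i, by simp, hi⟩
    rcases Nat.eq_zero_or_pos r with hr | hr
    · obtain ⟨i, -, -⟩ := Set.mem_iUnion₂.1 (h q.zero_mem)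
      exact ⟨i, by subst hr; exact i.elim0⟩
    obtain ⟨i, -, hi⟩ := (Ideal.subset_union_prime (f := fun i => (p i).asIdeal) ⟨0, hr⟩ ⟨0, hr⟩
      fun i _ _ _ => (p i).2).1 h
    exact ⟨i, hi⟩
  have inj : Set.InjOn (fun m : Ideal L => m.comap (algebraMap A L)) Set.univ := fun a _ b _ h => by
    have := congrArg (Ideal.map (algebraMap A L)) h
    simpa [IsLocalization.map_comap S L] using this
  have bij : Set.BijOn (fun m : Ideal L => m.comap (algebraMap A L)) {m | m.IsMaximal}
      {q | q ∈ Set.range (fun i => (p i).asIdeal) ∧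
        ∀ j, q ≤ (p j).asIdeal → q = (p j).asIdeal} := by
    refine ⟨fun m (hm : m.IsMaximal) => ?_, inj.mono (Set.subset_univ _), ?_⟩
    · obtain ⟨hprime, hd⟩ := (IsLocalization.isPrime_iff_isPrime_disjoint S L m).1 hm.isPrime
      have hlift : ∀ j, m.comap (algebraMap A L) ≤ (p j).asIdeal →
          m.comap (algebraMap A L) = (p j).asIdeal := by
        intro j hj
        have hpj := IsLocalization.isPrime_of_isPrime_disjoint S L _ (p j).2 (hdisj j)
        have hle : m ≤ (p j).asIdeal.map (algebraMap A L) := by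
          rw [← IsLocalization.map_comap S L m]; exact Ideal.map_mono hj
        show m.comap (algebraMap A L) = _
        rw [hm.eq_of_le hpj.ne_top hle]
        exact IsLocalization.comap_map_of_isPrime_disjoint S L (p j).2 (hdisj j)
      obtain ⟨i, hi⟩ := key _ hd
      exact ⟨⟨i, (hlift i hi).symm⟩, hlift⟩
    · rintro q ⟨⟨i, rfl⟩, hq⟩
      have hpi := IsLocalization.isPrime_of_isPrime_disjoint S L _ (p i).2 (hdisj i)
      have hc := IsLocalization.comap_map_of_isPrime_disjoint S L (p i).2 (hdisj i)
      refine ⟨(p i).asIdeal.map (algebraMap A L), ?_, hc⟩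
      obtain ⟨M, hM, hle⟩ := Ideal.exists_le_maximal _ hpi.ne_top
      obtain ⟨hprime, hd⟩ := (IsLocalization.isPrime_iff_isPrime_disjoint S L M).1 hM.isPrime
      obtain ⟨j, hj⟩ := key _ hd
      have hij : (p i).asIdeal ≤ M.comap (algebraMap A L) := Ideal.le_comap_of_map_le hle
      have : M.comap (algebraMap A L) = (p i).asIdeal :=
        le_antisymm (hj.trans (hq j (hij.trans hj)).ge) hij
      show Ideal.IsMaximal _
      rw [← this, IsLocalization.map_comap S L M]
      exact hM
  refine ⟨?_, bij⟩
  have hfin : {m : Ideal L | m.IsMaximal}.Finite :=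
    Set.Finite.of_finite_image ((Set.finite_range fun i => (p i).asIdeal).subset
      (bij.mapsTo.image_subset.trans fun q hq => hq.1)) bij.injOn
  have := hfin.to_subtype
  exact Finite.of_injective (fun m : MaximalSpectrum L => (⟨m.asIdeal, m.isMaximal⟩ : {m : Ideal L | m.IsMaximal}))
    fun a b h => MaximalSpectrum.ext (congrArg Subtype.val h)

end Groth.Agent.S7668
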