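import Groth.Statements.S7673
import Groth.Agent.BCModel.FlatBC
import Groth.Agent.CurveDeg.Euler

set_option autoImplicit false
universe u
open CategoryTheory CategoryTheory.Limits AlgebraicGeometry
open Variety

namespace Groth.Agent.S7673

/-- Let k'/k be a field extension, X a proper scheme over k and F a coherent O_X-module with pullback F'
to X_{k'}. Then χ(X, F) = χ(X_{k'}, F'). -/
theorem result (k : Type u) [Field k] (X : Scheme.{u}) [X.Over (Spec (CommRingCat.of k))] [IsProper (X ↘ (Spec (CommRingCat.of k)))]
    (k' : Type u) [Field k'] [Algebra k k'] (F : X.Modules) (hF : Coh.IsCoh F) :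
    @Curv2.euler k' _ (Curv2.bc k X k') ⟨Curv2.bcSnd k X k'⟩
        ((Scheme.Modules.pullback (Curv2.bcFst k X k')).obj F) = Curv2.euler k X F := by
  let _ : (Curv2.bc k X k').Over (Spec (CommRingCat.of k')) := ⟨Curv2.bcSnd k X k'⟩
  have := Groth.Agent.CurveDeg.isSeparated_of_proper (k := k) (X := X)
  have := Groth.Agent.CurveDeg.isNoetherian_of_proper (k := k) (X := X)
  refine finsum_congr fun i => ?_
  obtain ⟨e⟩ := Groth.Agent.BCModel.nonempty_HH_baseChange (A := k) (B := k') (X := X)
    (algebraMap k k') (RingHom.flat_algebraMap_iff.2 inferInstance) (Curv2.bcFst k X k')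
    (IsPullback.of_hasPullback _ _) F hF.1 i
  have h := (Module.finrank_baseChange (R := k') (S := k) (M' := Coh.HH X F i))
  rw [← h]
  congr 2
  have halg : (algebraMap k k').toAlgebra = ‹Algebra k k'› := Algebra.algebra_ext _ _ fun _ => rfl
  revert e; rw [halg]; intro e
  exact e.finrank_eq.symm

end Groth.Agent.S7673
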