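import Groth.Statements.S7675
import Mathlib
import Groth.Agent.ConeDim.Proj

set_option autoImplicit false
universe u
open CategoryTheory CategoryTheory.Limits AlgebraicGeometry
open Variety

namespace Groth.Agent.S7675

theorem inter_aux (k : Type u) [Field k] (n r s : ℕ)
    (X Y : Set (ProjectiveSpectrum (CohB1.polyGrading n k))) (hX : IsClosed X) (hY : IsClosed Y)
    (hXne : X.Nonempty) (hYne : Y.Nonempty)
    (hXr : topologicalKrullDim X = r) (hYs : topologicalKrullDim Y = s) (hrs : n ≤ r + s) :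
    (X ∩ Y).Nonempty ∧ ((r + s : ℕ) : WithBot ℕ∞) ≤ topologicalKrullDim ↥(X ∩ Y) + (n : WithBot ℕ∞) := by
  obtain ⟨x, hx, hxd⟩ := ConeDim.exists_qd_eq hX hXne
  obtain ⟨y, hy, hyd⟩ := ConeDim.exists_qd_eq hY hYne
  have h1 := ConeDim.qd_pos x
  have h2 := ConeDim.qd_pos y
  have hr : r = ConeDim.qd x - 1 := by rw [hXr] at hxd; exact_mod_cast hxd
  have hs : s = ConeDim.qd y - 1 := by rw [hYs] at hyd; exact_mod_cast hyd
  obtain ⟨z, hxz, hyz, hz⟩ := ConeDim.exists_inter x y (by omega)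
  have hzm : z ∈ X ∩ Y := ⟨hxz.mem_closed hX hx, hyz.mem_closed hY hy⟩
  refine ⟨⟨z, hzm⟩, le_trans ?_ (add_le_add (ConeDim.le_topologicalKrullDim (hX.inter hY) hzm) le_rfl)⟩
  have h3 := ConeDim.qd_pos z
  have h4 : r + s ≤ (ConeDim.qd z - 1) + n := by omega
  exact_mod_cast h4

/-- Let k be a field, n ≥ 0 and X, Y ⊆ P^n_k nonempty closed subsets of dimensions r and s with r + s ≥
n. Then X ∩ Y is nonempty and dim(X ∩ Y) ≥ r + s − n. -/
theorem result (k : Type u) [Field k] (n r s : ℕ)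
    (X Y : Set ↥(CohB1.ProjSpace n k)) (hX : IsClosed X) (hY : IsClosed Y)
    (hXne : X.Nonempty) (hYne : Y.Nonempty)
    (hXr : topologicalKrullDim X = r) (hYs : topologicalKrullDim Y = s) (hrs : n ≤ r + s) :
    (X ∩ Y).Nonempty ∧ ((r + s : ℕ) : WithBot ℕ∞) ≤ topologicalKrullDim ↥(X ∩ Y) + (n : WithBot ℕ∞) := by
  exact inter_aux k n r s X Y hX hY hXne hYne hXr hYs hrs

end Groth.Agent.S7675
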