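import Groth.Statements.S7690
import Groth.Agent.BCModel.FlatBC
import Groth.Agent.TensorMod.Invertible
import Groth.Agent.GrModLib.TwistN
import Groth.Agent.ProjCoord.Basic
import Groth.Agent.CurveDeg.Euler
import Mathlib.RingTheory.Flat.FaithfullyFlat.Basic

set_option autoImplicit false
universe u
open CategoryTheory CategoryTheory.Limits AlgebraicGeometry
open Variety

namespace Groth.Agent.S7690

/-- Let k'/k be a field extension (k' in the universe of k), n ≥ 0, F a coherent module on P^n_k with
pullback F' to P^n_{k'}. For every integer m, F is m-regular exactly when F' is. Here P^n_{k'} is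
taken as the base change P^n_k ×_k Spec k' and the m-regularity of F' is spelled out as the
vanishing of H^i(P^n_{k'}, (F(m − i))') for 1 ≤ i ≤ n, (F(m − i))' being the pullback of F ⊗ O(m −
i). -/
theorem result (k : Type u) [Field k] (n : ℕ)
    (k' : Type u) [Field k'] [Algebra k k'] (F : (CohB1.ProjSpace n k).Modules) (hF : Coh.IsCoh F) (m : ℤ) :
    Curv2.IsMRegular k n F m ↔
      ∀ i : ℕ, 1 ≤ i → i ≤ n →
        Subsingleton (Coh.HH (Curv2.bc k (CohB1.ProjSpace n k) k')
          ((Scheme.Modules.pullback (Curv2.bcFst k (CohB1.ProjSpace n k) k')).obj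
            (CohB1.tensorMod F (Twist.twistProjSpace n k (m - i)))) i) := by
  let _ : (CohB1.ProjSpace n k).Over (Spec (CommRingCat.of k)) := ⟨CohB1.ProjSpace.toSpec n k⟩
  let _ : (Curv2.bc k (CohB1.ProjSpace n k) k').Over (Spec (CommRingCat.of k')) :=
    ⟨Curv2.bcSnd k (CohB1.ProjSpace n k) k'⟩
  have : IsProper (CohB1.ProjSpace n k ↘ Spec (CommRingCat.of k)) :=
    Groth.Agent.ProjCoord.isProper_baseMap (n := n) (R := k)
  have := Groth.Agent.CurveDeg.isSeparated_of_proper (k := k) (X := CohB1.ProjSpace n k)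
  have := Groth.Agent.CurveDeg.isNoetherian_of_proper (k := k) (X := CohB1.ProjSpace n k)
  have hcov : (⨆ f : CohB1.polyGrading n k 1,
      Proj.basicOpen (CohB1.polyGrading n k) (f : MvPolynomial (Fin (n + 1)) k)) = ⊤ :=
    Proj.iSup_basicOpen_eq_top _ (fun f : CohB1.polyGrading n k 1 => (f : MvPolynomial (Fin (n + 1)) k))
      (Groth.Agent.ProjCoord.irrelevant_le_span_X.trans (Ideal.span_mono (by
        rintro _ ⟨j, rfl⟩
        exact ⟨⟨_, MvPolynomial.isHomogeneous_X k j⟩, rfl⟩)))
  have htw : ∀ d : ℤ, PicF.IsInvertible (Twist.twistProjSpace n k d) := fun d =>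
    Groth.Agent.GrModLib.isInvertible_twist (CohB1.polyGrading n k) d hcov
  refine forall_congr' fun i => forall_congr' fun _ => forall_congr' fun _ => ?_
  obtain ⟨e⟩ := Groth.Agent.BCModel.nonempty_HH_baseChange (A := k) (B := k')
    (X := CohB1.ProjSpace n k)
    (algebraMap k k') (RingHom.flat_algebraMap_iff.2 inferInstance)
    (Curv2.bcFst k (CohB1.ProjSpace n k) k') (IsPullback.of_hasPullback _ _) _
    (Groth.Agent.TensorMod.isQCoh_tensorMod (htw (m - i)) hF.1) i
  have halg : (algebraMap k k').toAlgebra = ‹Algebra k k'› := Algebra.algebra_ext _ _ fun _ => rfl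
  revert e; rw [halg]; intro e
  refine Iff.trans ?_ e.toEquiv.subsingleton_congr
  exact (Module.FaithfullyFlat.subsingleton_tensorProduct_iff_right k k').symm

end Groth.Agent.S7690
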