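import Groth.Statements.S8260
import Groth.Agent.EGA2Misc.RelProjBasic
import Mathlib.AlgebraicGeometry.ProjectiveSpectrum.Proper
-- import your own Groth.Agent.* helpers here

set_option autoImplicit false
universe u
open CategoryTheory CategoryTheory.Limits AlgebraicGeometry Opposite TopologicalSpace
open scoped HomogeneousIdeal
open EGA2

namespace Groth.Agent.S8260

/-- If the quasi-coherent positively graded O_Y-algebra 𝒮 is of finite type (over every affine open U of
Y the ring 𝒮(U) is a finitely generated O_Y(U)-algebra), then its relative homogeneous spectrum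
Proj(𝒮) is of finite type over Y. -/
theorem result {Y P : Scheme.{u}} (𝒮 : RelProj.QCGrAlg Y)
    (hft : ∀ (U : Y.Opens) (hU : IsAffineOpen U), (𝒮.str.app (op U)).hom.FiniteType)
    (p : P ⟶ Y)
    (chart : ∀ (U : Y.Opens) (hU : IsAffineOpen U), (((p ⁻¹ᵁ U : P.Opens) : Scheme.{u}) ≅ Proj (𝒮.deg U hU)))
    (hP : RelProj.IsRelProj 𝒮 p chart) : LocallyOfFiniteType p ∧ QuasiCompact p := by
  have key : ∀ U : Y.affineOpens, LocallyOfFiniteType (p ∣_ U.1) ∧ QuasiCompact (p ∣_ U.1) := by
    intro U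
    let 𝒜 := 𝒮.deg U.1 U.2
    have h : p ∣_ U.1 = (chart U.1 U.2).hom ≫ Proj.toSpecZero 𝒜 ≫
        Spec.map (𝒮.strZero U.1 U.2) ≫ U.2.isoSpec.inv := by
      rw [← cancel_mono U.1.ι, morphismRestrict_ι]
      simp only [Category.assoc, IsAffineOpen.isoSpec_inv_ι]
      exact (hP.chart_over U.1 U.2).symm
    have h0 : (𝒮.str.app (op U.1)).hom.FiniteType := hft U.1 U.2
    have e : (algebraMap (𝒜 0) (𝒮.presheaf.obj (op U.1))).comp (𝒮.strZero U.1 U.2).hom = (𝒮.str.app (op U.1)).hom := rfl
    haveI : Algebra.FiniteType (𝒜 0) (𝒮.presheaf.obj (op U.1)) := by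
      rw [← RingHom.finiteType_algebraMap]
      exact RingHom.FiniteType.of_comp_finiteType (f := (𝒮.strZero U.1 U.2).hom) (e ▸ h0)
    have hz : (𝒮.strZero U.1 U.2).hom.FiniteType := by
      have h1 := RingHom.FiniteType.comp (RingHom.FiniteType.of_surjective _ (GradedRing.projZeroRingHom'_surjective 𝒜)) h0
      have e2 : (GradedRing.projZeroRingHom' 𝒜).comp (𝒮.str.app (op U.1)).hom = (𝒮.strZero U.1 U.2).hom := by
        ext r
        exact congrArg Subtype.val (GradedRing.projZeroRingHom'_apply_coe 𝒜 ((𝒮.strZero U.1 U.2).hom r))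
      rwa [e2] at h1
    haveI : LocallyOfFiniteType (Spec.map (𝒮.strZero U.1 U.2)) :=
      (HasRingHomProperty.Spec_iff (P := @LocallyOfFiniteType)).2 hz
    rw [h]
    exact ⟨inferInstance, inferInstance⟩
  exact ⟨IsZariskiLocalAtTarget.of_iSup_eq_top (fun U : Y.affineOpens => U.1)
      (AlgebraicGeometry.iSup_affineOpens_eq_top Y) fun U => (key U).1,
    IsZariskiLocalAtTarget.of_iSup_eq_top (fun U : Y.affineOpens => U.1)
      (AlgebraicGeometry.iSup_affineOpens_eq_top Y) fun U => (key U).2⟩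

end Groth.Agent.S8260
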