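import Groth.Statements.S8264
import Groth.Agent.EGA2Misc.RelProjBasic
-- import your own Groth.Agent.* helpers here

set_option autoImplicit false
universe u
open CategoryTheory CategoryTheory.Limits AlgebraicGeometry Opposite TopologicalSpace
open scoped HomogeneousIdeal
open EGA2

namespace Groth.Agent.S8264

/-- Let Y be an integral scheme and 𝒮 a quasi-coherent positively graded O_Y-algebra with 𝒮_0 = O_Y
which is integral, stated here affine-locally: over every nonempty affine open U the ring 𝒮(U) is an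
integral domain whose irrelevant ideal is nonzero (for Y integral this is equivalent to the
stalkwise condition of the published text: every stalk 𝒮_y an integral domain with (𝒮_y)_+ ≠ 0).
Then Proj(𝒮) is integral and its structure morphism to Y is dominant. -/
theorem result {Y P : Scheme.{u}} [IsIntegral Y] (𝒮 : RelProj.QCGrAlg Y)
    (h0 : ∀ (U : Y.Opens) (hU : IsAffineOpen U), Function.Bijective (𝒮.strZero U hU).hom)
    (hint : ∀ (U : Y.Opens) (hU : IsAffineOpen U), (U : Set Y).Nonempty →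
      IsDomain (𝒮.presheaf.obj (op U)) ∧ ((𝒮.deg U hU)₊).toIdeal ≠ ⊥)
    (p : P ⟶ Y)
    (chart : ∀ (U : Y.Opens) (hU : IsAffineOpen U), (((p ⁻¹ᵁ U : P.Opens) : Scheme.{u}) ≅ Proj (𝒮.deg U hU)))
    (hP : RelProj.IsRelProj 𝒮 p chart) : IsIntegral P ∧ DenseRange p.base := by
  classical
  have hchart : ∀ (U : Y.Opens) (hU : IsAffineOpen U), (U : Set Y).Nonempty →
      IrreducibleSpace (Proj (𝒮.deg U hU)) ∧ AlgebraicGeometry.IsReduced (Proj (𝒮.deg U hU)) := by
    intro U hU hne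
    obtain ⟨hdom, hne0⟩ := hint U hU hne
    have := hdom
    let 𝒜 := 𝒮.deg U hU
    let η : ProjectiveSpectrum 𝒜 := ⟨⊥, Ideal.isPrime_bot, fun h => hne0 (le_bot_iff.1 h)⟩
    refine ⟨?_, ?_⟩
    · have hcl : closure {η} = (Set.univ : Set (ProjectiveSpectrum 𝒜)) := by
        refine Set.eq_univ_of_forall fun y => ?_
        exact (ProjectiveSpectrum.le_iff_mem_closure 𝒜 η y).1 ((bot_le : (⊥ : HomogeneousIdeal 𝒜) ≤ y.asHomogeneousIdeal))
      show IrreducibleSpace (ProjectiveSpectrum 𝒜)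
      rw [irreducibleSpace_def, Set.top_eq_univ, ← hcl]
      exact isIrreducible_singleton.closure
    · let 𝒰 := (Proj.affineOpenCover 𝒜).openCover
      have : ∀ i, AlgebraicGeometry.IsReduced (𝒰.X i) := fun i => by
        have : _root_.IsReduced (HomogeneousLocalization.Away 𝒜 (i.2 : 𝒮.presheaf.obj (op U))) := by
          refine ⟨fun x ⟨k, hk⟩ => ?_⟩
          obtain ⟨n, a, ha, rfl⟩ := HomogeneousLocalization.Away.mk_surjective 𝒜 i.2.2 x
          apply HomogeneousLocalization.val_injective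
          replace hk := congrArg HomogeneousLocalization.val hk
          rw [HomogeneousLocalization.val_pow, HomogeneousLocalization.val_zero,
            HomogeneousLocalization.Away.val_mk, Localization.mk_pow, Localization.mk_eq_mk',
            IsLocalization.mk'_eq_zero_iff] at hk
          rw [HomogeneousLocalization.val_zero, HomogeneousLocalization.Away.val_mk,
            Localization.mk_eq_mk', IsLocalization.mk'_eq_zero_iff]
          obtain ⟨c, hc⟩ := hk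
          rcases mul_eq_zero.1 hc with h | h
          · exact ⟨c, by rw [h, zero_mul]⟩
          · exact ⟨c, by rw [eq_zero_of_pow_eq_zero h, mul_zero]⟩
        exact inferInstanceAs (AlgebraicGeometry.IsReduced (Spec (.of (HomogeneousLocalization.Away 𝒜 (i.2 : 𝒮.presheaf.obj (op U))))))
      exact AlgebraicGeometry.IsReduced.of_openCover _ 𝒰
  have hirrU : ∀ (U : Y.Opens) (hU : IsAffineOpen U), (U : Set Y).Nonempty →
      IsIrreducible ((p ⁻¹ᵁ U : P.Opens) : Set P) := by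
    intro U hU hne
    have := (hchart U hU hne).1
    have : IrreducibleSpace ((p ⁻¹ᵁ U : P.Opens) : Scheme.{u}) :=
      (chart U hU).inv.homeomorph.irreducibleSpace_iff.1 this
    have h := (IrreducibleSpace.isIrreducible_univ ((p ⁻¹ᵁ U : P.Opens) : Scheme.{u})).image (p ⁻¹ᵁ U).ι
      (p ⁻¹ᵁ U).ι.continuous.continuousOn
    rw [Set.image_univ, Scheme.Opens.range_ι] at h
    exact h
  have hYne : (Set.univ : Set Y).Nonempty := Set.univ_nonempty
  have hPne : Nonempty P := by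
    obtain ⟨y, -⟩ := hYne
    obtain ⟨_, ⟨U, hU, rfl⟩, hyU, -⟩ :=
      Y.isBasis_affineOpens.exists_subset_of_mem_open (Set.mem_univ y) isOpen_univ
    exact ⟨(hirrU U hU ⟨y, hyU⟩).nonempty.choose⟩
  have hpre : PreirreducibleSpace P := by
    refine ⟨fun O₁ O₂ hO₁ hO₂ h₁ h₂ => ?_⟩
    obtain ⟨x₁, -, hx₁⟩ := h₁
    obtain ⟨x₂, -, hx₂⟩ := h₂
    obtain ⟨_, ⟨U, hU, rfl⟩, hxU, -⟩ :=
      Y.isBasis_affineOpens.exists_subset_of_mem_open (Set.mem_univ (p x₁)) isOpen_univ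
    obtain ⟨_, ⟨V, hV, rfl⟩, hxV, -⟩ :=
      Y.isBasis_affineOpens.exists_subset_of_mem_open (Set.mem_univ (p x₂)) isOpen_univ
    obtain ⟨y, hyU, hyV⟩ := nonempty_preirreducible_inter U.2 V.2 ⟨_, hxU⟩ ⟨_, hxV⟩
    obtain ⟨f, g, hfg, hyf⟩ := exists_basicOpen_le_affine_inter hU hV y ⟨hyU, hyV⟩
    have hW : IsAffineOpen (Y.basicOpen f) := hU.basicOpen f
    have hWne := hirrU _ hW ⟨y, hyf⟩
    have hsubU : p ⁻¹ᵁ Y.basicOpen f ≤ p ⁻¹ᵁ U := p.preimage_mono (Y.basicOpen_le f)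
    have hsubV : p ⁻¹ᵁ Y.basicOpen f ≤ p ⁻¹ᵁ V := p.preimage_mono (hfg ▸ Y.basicOpen_le g)
    obtain ⟨z, hz⟩ := hWne.nonempty
    obtain ⟨a₁, -, ha₁, hb₁⟩ := (hirrU U hU ⟨_, hxU⟩).isPreirreducible O₁ _ hO₁ (p ⁻¹ᵁ Y.basicOpen f).2
      ⟨x₁, hxU, hx₁⟩ ⟨z, hsubU hz, hz⟩
    obtain ⟨a₂, -, ha₂, hb₂⟩ := (hirrU V hV ⟨_, hxV⟩).isPreirreducible O₂ _ hO₂ (p ⁻¹ᵁ Y.basicOpen f).2
      ⟨x₂, hxV, hx₂⟩ ⟨z, hsubV hz, hz⟩
    obtain ⟨w, -, hw⟩ := hWne.isPreirreducible O₁ O₂ hO₁ hO₂ ⟨a₁, hb₁, ha₁⟩ ⟨a₂, hb₂, ha₂⟩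
    exact ⟨w, trivial, hw⟩
  have hred : AlgebraicGeometry.IsReduced P := by
    have hcov : ⨆ U : {U : Y.affineOpens // (U.1 : Set Y).Nonempty}, p ⁻¹ᵁ U.1.1 = ⊤ := by
      rw [eq_top_iff]
      intro x _
      obtain ⟨_, ⟨U, hU, rfl⟩, hxU, -⟩ :=
        Y.isBasis_affineOpens.exists_subset_of_mem_open (Set.mem_univ (p x)) isOpen_univ
      exact TopologicalSpace.Opens.mem_iSup.2 ⟨⟨⟨U, hU⟩, ⟨_, hxU⟩⟩, hxU⟩
    let 𝒱 := Scheme.openCoverOfIsOpenCover P _ (TopologicalSpace.IsOpenCover.mk hcov)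
    have : ∀ i, AlgebraicGeometry.IsReduced (𝒱.X i) := fun i => by
      have := (hchart i.1.1 i.1.2 i.2).2
      exact isReduced_of_isOpenImmersion (chart i.1.1 i.1.2).hom
    exact AlgebraicGeometry.IsReduced.of_openCover _ 𝒱
  refine ⟨?_, ?_⟩
  · have : IrreducibleSpace P := { toNonempty := hPne }
    exact isIntegral_of_irreducibleSpace_of_isReduced P
  · refine dense_iff_inter_open.2 fun O hO hOne => ?_
    obtain ⟨y, hy⟩ := hOne
    obtain ⟨_, ⟨U, hU, rfl⟩, hyU, hUO⟩ := Y.isBasis_affineOpens.exists_subset_of_mem_open hy hO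
    obtain ⟨z, hz⟩ := (hirrU U hU ⟨y, hyU⟩).nonempty
    exact ⟨p z, hUO hz, ⟨z, rfl⟩⟩

end Groth.Agent.S8264
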