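import Groth.Statements.S8266
import Groth.Agent.EGA2G.ProjBasic
-- import your own Groth.Agent.* helpers here

set_option autoImplicit false
universe u
open CategoryTheory CategoryTheory.Limits AlgebraicGeometry Opposite TopologicalSpace
open scoped HomogeneousIdeal
open EGA2

namespace Groth.Agent.S8266

/-- If the quasi-coherent positively graded O_Y-algebra 𝒮 is essentially reduced (affine-locally, no
nonzero nilpotent element in the irrelevant ideal), then Proj(𝒮) is reduced. -/
theorem result {Y P : Scheme.{u}} (𝒮 : RelProj.QCGrAlg Y)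
    (hred : ∀ (U : Y.Opens) (hU : IsAffineOpen U) (x : 𝒮.presheaf.obj (op U)),
      x ∈ (𝒮.deg U hU)₊ → IsNilpotent x → x = 0)
    (p : P ⟶ Y)
    (chart : ∀ (U : Y.Opens) (hU : IsAffineOpen U), (((p ⁻¹ᵁ U : P.Opens) : Scheme.{u}) ≅ Proj (𝒮.deg U hU)))
    (hP : RelProj.IsRelProj 𝒮 p chart) : IsReduced P := by
  classical
  have hU : ∀ (U : Y.Opens) (hU : IsAffineOpen U), AlgebraicGeometry.IsReduced (Proj (𝒮.deg U hU)) := by
    intro U hU
    let 𝒰 := (Proj.affineOpenCover (𝒮.deg U hU)).openCover
    have : ∀ i, AlgebraicGeometry.IsReduced (𝒰.X i) := fun i => by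
      have : _root_.IsReduced (HomogeneousLocalization.Away (𝒮.deg U hU) (i.2 : 𝒮.presheaf.obj (op U))) := by
        refine ⟨fun x ⟨k, hk⟩ => ?_⟩
        have hf := i.2.2
        obtain ⟨n, a, ha, rfl⟩ := HomogeneousLocalization.Away.mk_surjective (𝒮.deg U hU) hf x
        apply HomogeneousLocalization.val_injective
        replace hk := congrArg HomogeneousLocalization.val hk
        rw [HomogeneousLocalization.val_pow, HomogeneousLocalization.val_zero,
          HomogeneousLocalization.Away.val_mk, Localization.mk_pow, Localization.mk_eq_mk',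
          IsLocalization.mk'_eq_zero_iff] at hk
        rw [HomogeneousLocalization.val_zero, HomogeneousLocalization.Away.val_mk,
          Localization.mk_eq_mk', IsLocalization.mk'_eq_zero_iff]
        obtain ⟨⟨_, j, rfl⟩, hj⟩ := hk
        refine ⟨⟨_, 1, rfl⟩, hred U hU _ ?_ ⟨j + k, ?_⟩⟩
        · exact Ideal.mul_mem_right _ _ (HomogeneousIdeal.mem_irrelevant_of_mem _ i.1.2 (by simpa using hf))
        · simp only at hj ⊢
          have : ((i.2 : 𝒮.presheaf.obj (op U)) ^ 1 * a) ^ (j + k) =
              ((i.2 : 𝒮.presheaf.obj (op U)) ^ j * a ^ k) * ((i.2 : 𝒮.presheaf.obj (op U)) ^ k * a ^ j) := by ring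
          rw [this, hj, zero_mul]
      exact inferInstanceAs (AlgebraicGeometry.IsReduced (Spec (.of (HomogeneousLocalization.Away (𝒮.deg U hU) (i.2 : 𝒮.presheaf.obj (op U))))))
    exact AlgebraicGeometry.IsReduced.of_openCover _ 𝒰
  have hcov : ⨆ U : Y.affineOpens, p ⁻¹ᵁ U.1 = ⊤ := by
    rw [← Scheme.Hom.preimage_iSup, AlgebraicGeometry.iSup_affineOpens_eq_top Y, Scheme.Hom.preimage_top]
  let 𝒱 := Scheme.openCoverOfIsOpenCover P _ (TopologicalSpace.IsOpenCover.mk hcov)
  have : ∀ i, AlgebraicGeometry.IsReduced (𝒱.X i) := fun i => by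
    have := hU i.1 i.2
    exact isReduced_of_isOpenImmersion (chart i.1 i.2).hom
  exact AlgebraicGeometry.IsReduced.of_openCover _ 𝒱

end Groth.Agent.S8266
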