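import Groth.Statements.S8274
import Groth.Agent.EGA2Misc.ProjQComp
-- import your own Groth.Agent.* helpers here

set_option autoImplicit false
universe u
open CategoryTheory CategoryTheory.Limits AlgebraicGeometry Opposite TopologicalSpace
open scoped HomogeneousIdeal
open EGA2

namespace Groth.Agent.S8274

/-- Let 𝒮 be a quasi-coherent positively graded O_Y-algebra, P = Proj(𝒮) with structure morphism p and
charts, and f a global section of 𝒮 homogeneous of degree d > 0. There is an open subset X_f of P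
such that for every affine open U of Y, X_f ∩ p⁻¹(U) is the open D_+(f|U) of Proj 𝒮(U) transported
by the chart; moreover X_f is affine over Y. (The identification of X_f with the spectrum of a
quotient of the d-th Veronese algebra is not stated here.) -/
theorem result {Y P : Scheme.{u}} (𝒮 : RelProj.QCGrAlg Y) (p : P ⟶ Y)
    (chart : ∀ (U : Y.Opens) (hU : IsAffineOpen U), (((p ⁻¹ᵁ U : P.Opens) : Scheme.{u}) ≅ Proj (𝒮.deg U hU)))
    (hP : RelProj.IsRelProj 𝒮 p chart) {d : ℕ} (hd : 0 < d) (f : 𝒮.presheaf.obj (op ⊤))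
    (hf : ∀ (U : Y.Opens) (hU : IsAffineOpen U), (𝒮.presheaf.map (homOfLE le_top).op).hom f ∈ 𝒮.deg U hU d) :
    ∃ Xf : P.Opens,
      (∀ (U : Y.Opens) (hU : IsAffineOpen U),
        Xf ⊓ p ⁻¹ᵁ U =
          (p ⁻¹ᵁ U).ι ''ᵁ ((chart U hU).hom ⁻¹ᵁ
            Proj.basicOpen (𝒮.deg U hU) ((𝒮.presheaf.map (homOfLE le_top).op).hom f))) ∧
      IsAffineHom (Xf.ι ≫ p) := by
  classical
  let b : ∀ (U : Y.Opens), 𝒮.presheaf.obj (op U) := fun U => (𝒮.presheaf.map (homOfLE le_top).op).hom f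
  let O : Y.affineOpens → P.Opens := fun U => RelProj.emb p chart U.1 U.2 ''ᵁ Proj.basicOpen (𝒮.deg U.1 U.2) (b U.1)
  have hb : ∀ (U V : Y.Opens) (hU : IsAffineOpen U) (hV : IsAffineOpen V) (h : V ≤ U), 𝒮.res hU hV h (b U) = b V := by
    intro U V hU hV h
    show (𝒮.presheaf.map _ ≫ 𝒮.presheaf.map _).hom f = _
    rw [← Functor.map_comp]
    rfl
  have hbas : ∀ (U : Y.affineOpens) (r : Γ(Y, U.1)) (W : Y.Opens) (hW : IsAffineOpen W) (e : W = Y.basicOpen r)
      (y : P), p y ∈ W → (y ∈ O U ↔ y ∈ O ⟨W, hW⟩) := by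
    intro U r W hW e y hy
    have hle : W ≤ U.1 := e ▸ Y.basicOpen_le r
    have h1 := Groth.Agent.EGA2Misc.mem_emb_res_iff hP U.1 U.2 W hW r e hle y hy (b U.1)
    rw [hb U.1 W U.2 hW hle] at h1
    exact h1.symm
  have hagree : ∀ (U V : Y.affineOpens) (y : P), y ∈ O V → p y ∈ U.1 → y ∈ O U := by
    intro U V y hy hyU
    have hyV : p y ∈ V.1 := Groth.Agent.EGA2Misc.mem_of_mem_emb hy
    obtain ⟨r, s, hrs, hyr⟩ := exists_basicOpen_le_affine_inter U.2 V.2 (p y) ⟨hyU, hyV⟩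
    exact (hbas U r _ (U.2.basicOpen r) rfl y hyr).2 ((hbas V s _ (U.2.basicOpen r) hrs y hyr).1 hy)
  have hinf : ∀ U : Y.affineOpens, (⨆ V, O V) ⊓ p ⁻¹ᵁ U.1 = O U := by
    intro U
    refine le_antisymm ?_ (le_inf (le_iSup O U) fun y hy => Groth.Agent.EGA2Misc.mem_of_mem_emb hy)
    rintro y ⟨hy, hyU⟩
    obtain ⟨V, hV⟩ := Opens.mem_iSup.1 hy
    exact hagree U V y hV hyU
  refine ⟨⨆ V, O V, fun U hU => (hinf ⟨U, hU⟩).trans ?_, ⟨fun U hU => ?_⟩⟩
  · show RelProj.emb p chart U hU ''ᵁ Proj.basicOpen (𝒮.deg U hU) (b U) = _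
    refine Opens.ext (Set.ext fun y => ⟨?_, ?_⟩)
    · rintro ⟨w, hw, rfl⟩
      refine ⟨(chart U hU).inv w, ?_, rfl⟩
      show (chart U hU).hom ((chart U hU).inv w) ∈ Proj.basicOpen (𝒮.deg U hU) (b U)
      rw [← Scheme.Hom.comp_apply, Iso.inv_hom_id]
      exact hw
    · rintro ⟨z, hz, rfl⟩
      refine ⟨(chart U hU).hom z, hz, ?_⟩
      show ((chart U hU).hom ≫ RelProj.emb p chart U hU) z = _
      rw [RelProj.emb, Iso.hom_inv_id_assoc]
      rfl
  · refine (Scheme.Hom.isAffineOpen_iff_of_isOpenImmersion (⨆ V, O V).ι).1 ?_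
    have h : (⨆ V, O V).ι ''ᵁ (((⨆ V, O V).ι ≫ p) ⁻¹ᵁ U) = O ⟨U, hU⟩ := by
      rw [Scheme.Hom.comp_preimage, Scheme.Hom.image_preimage_eq_opensRange_inf, Scheme.Opens.opensRange_ι]
      exact hinf ⟨U, hU⟩
    rw [h]
    exact (Proj.isAffineOpen_basicOpen (𝒮.deg U hU) (b U) (hf U hU) hd).image_of_isOpenImmersion _

end Groth.Agent.S8274
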