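import Groth.Statements.S8281
import Groth.Agent.RelSpecLib.Basic

set_option autoImplicit false
universe u
open CategoryTheory CategoryTheory.Limits AlgebraicGeometry Opposite TopologicalSpace
open EGA2

namespace Groth.Agent.S8281

/-- Let q : S' → S be a morphism, B and B' quasi-coherent algebras over O_S and O_{S'}, and u : B →
q_*B' a q-morphism (compatible with the structure maps). Then u induces a unique morphism v =
Spec(u) : Spec(B') → Spec(B) which on the charts over affine opens U ⊆ S, U' ⊆ q⁻¹(U) is Spec of the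
ring map B(U) → B'(U') given by u and restriction; it lies over q. -/
theorem result {S S' : Scheme.{u}} (q : S' ⟶ S) (B : RelSpec.QCAlg S)
    (B' : RelSpec.QCAlg S') (u : B.presheaf ⟶ q.base _* B'.presheaf)
    (hu : B.str ≫ u = q.c ≫ (TopCat.Presheaf.pushforward CommRingCat.{u} q.base).map B'.str) :
    (∃! v : B'.spec ⟶ B.spec,
        ∀ (U : S.Opens) (hU : IsAffineOpen U) (U' : S'.Opens) (hU' : IsAffineOpen U') (hle : U' ≤ q ⁻¹ᵁ U),
          B'.ι U' hU' ≫ v =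
            Spec.map ((u.app (op U) : B.presheaf.obj (op U) ⟶ B'.presheaf.obj (op (q ⁻¹ᵁ U))) ≫
              B'.presheaf.map (homOfLE hle).op) ≫ B.ι U hU) ∧
      ∀ v : B'.spec ⟶ B.spec,
        (∀ (U : S.Opens) (hU : IsAffineOpen U) (U' : S'.Opens) (hU' : IsAffineOpen U') (hle : U' ≤ q ⁻¹ᵁ U),
          B'.ι U' hU' ≫ v =
            Spec.map ((u.app (op U) : B.presheaf.obj (op U) ⟶ B'.presheaf.obj (op (q ⁻¹ᵁ U))) ≫
              B'.presheaf.map (homOfLE hle).op) ≫ B.ι U hU) →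
        v ≫ B.π = B'.π ≫ q := by
  classical
  let ω : B.presheaf ⟶ (B'.π ≫ q).base _* B'.spec.presheaf :=
    u ≫ (TopCat.Presheaf.pushforward CommRingCat.{u} q.base).map (RelSpecLib.gammaInv B')
  have hω : B.str ≫ ω = (B'.π ≫ q).c := by
    apply NatTrans.ext
    funext V
    have h1 := NatTrans.congr_app hu V
    have h2 := NatTrans.congr_app (RelSpecLib.str_gammaInv B')
      ((Opens.map q.base).op.obj V)
    rw [NatTrans.comp_app] at h1 h2
    show B.str.app V ≫ u.app V ≫ (RelSpecLib.gammaInv B').app ((Opens.map q.base).op.obj V) = _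
    rw [reassoc_of% h1]
    show q.c.app V ≫ B'.str.app ((Opens.map q.base).op.obj V) ≫ _ = _
    rw [h2]
    rfl
  let g := B'.π ≫ q
  have hchart : ∀ (U : S.Opens) (hU : IsAffineOpen U) (U' : S'.Opens) (hU' : IsAffineOpen U')
      (hle : U' ≤ q ⁻¹ᵁ U),
      B'.ι U' hU' ≫ RelSpecLib.lift g ω =
        Spec.map ((u.app (op U) : B.presheaf.obj (op U) ⟶ B'.presheaf.obj (op (q ⁻¹ᵁ U))) ≫
          B'.presheaf.map (homOfLE hle).op) ≫ B.ι U hU := by
    intro U hU U' hU' hle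
    have hr : Set.range (B'.ι U' hU') ⊆ Set.range (g ⁻¹ᵁ U).ι := by
      rw [Scheme.Opens.range_ι]
      rintro _ ⟨z, rfl⟩
      have h1 : B'.ι U' hU' z ∈ B'.π ⁻¹ᵁ U' := by rw [B'.π_preimage U' hU']; exact ⟨z, rfl⟩
      exact hle h1
    let j := IsOpenImmersion.lift (g ⁻¹ᵁ U).ι (B'.ι U' hU') hr
    have hj : j ≫ (g ⁻¹ᵁ U).ι = B'.ι U' hU' := IsOpenImmersion.lift_fac _ _ hr
    have htop : ⊤ ≤ B'.ι U' hU' ⁻¹ᵁ (g ⁻¹ᵁ U) :=
      (B'.top_le_preimage U' hU').trans ((B'.ι U' hU').preimage_mono (B'.π.preimage_mono hle))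
    conv_lhs => rw [← hj, Category.assoc, RelSpecLib.ι_lift g ω U hU]
    simp only [RelSpecLib.liftPiece]
    have key : j ≫ (g ⁻¹ᵁ U).toSpecΓ =
        Spec.map ((B'.ι U' hU').appLE (g ⁻¹ᵁ U) ⊤ htop ≫
          (Scheme.ΓSpecIso (B'.presheaf.obj (op U'))).hom) := by
      have : IsIso (⊤ : (Spec (B'.presheaf.obj (op U'))).Opens).ι := by
        rw [← Scheme.topIso_hom]; infer_instance
      rw [← cancel_epi (⊤ : (Spec (B'.presheaf.obj (op U'))).Opens).ι, ← Category.assoc]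
      have hres : (⊤ : (Spec (B'.presheaf.obj (op U'))).Opens).ι ≫ j =
          (B'.ι U' hU').resLE (g ⁻¹ᵁ U) ⊤ htop := by
        rw [← cancel_mono (g ⁻¹ᵁ U).ι, Category.assoc, hj, Scheme.Hom.resLE_comp_ι]
      rw [hres, ← Scheme.Opens.toSpecΓ_SpecMap_appLE, Scheme.Opens.toSpecΓ_top, Category.assoc,
        Spec.map_comp, SpecMap_ΓSpecIso_hom]
    rw [reassoc_of% key, ← Spec.map_comp_assoc]
    congr 2
    have hres : (B'.ι U' hU').appLE (g ⁻¹ᵁ U) ⊤ htop ≫
          (Scheme.ΓSpecIso (B'.presheaf.obj (op U'))).hom =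
        B'.spec.presheaf.map (homOfLE (B'.π.preimage_mono hle)).op ≫ B'.gammaAff U' hU' := by
      rw [RelSpec.QCAlg.gammaAff, ← Category.assoc, Scheme.Hom.map_appLE]
      rfl
    rw [hres]
    have hn : B'.spec.presheaf.map (homOfLE (B'.π.preimage_mono hle)).op ≫ B'.gammaAff U' hU' =
        B'.gammaMap.app (op (q ⁻¹ᵁ U)) ≫ B'.presheaf.map (homOfLE hle).op := by
      rw [← B'.gammaMap_app U' hU']
      exact B'.gammaMap.naturality (homOfLE hle).op
    rw [hn]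
    show (u.app (op U) ≫ (RelSpecLib.gammaInv B').app (op (q ⁻¹ᵁ U))) ≫ _ = _
    rw [Category.assoc, ← Category.assoc ((RelSpecLib.gammaInv B').app _), ← NatTrans.comp_app,
      RelSpecLib.gammaInv_gammaMap, NatTrans.id_app, Category.id_comp]
  let J := {p : S.affineOpens × S'.affineOpens // (p.2 : S'.Opens) ≤ q ⁻¹ᵁ (p.1 : S.Opens)}
  have hcov : IsOpenCover (fun p : J => (p.1.2 : S'.Opens)) := by
    refine .mk (top_le_iff.mp fun x _ => ?_)
    obtain ⟨U, hU, hx, -⟩ := exists_isAffineOpen_mem_and_subset (U := (⊤ : S.Opens))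
      (x := q x) trivial
    obtain ⟨U', hU', hx', hsub⟩ := exists_isAffineOpen_mem_and_subset (U := q ⁻¹ᵁ U) (x := x) hx
    exact Opens.mem_iSup.mpr ⟨⟨(⟨U, hU⟩, ⟨U', hU'⟩), hsub⟩, hx'⟩
  have huniq : ∀ v : B'.spec ⟶ B.spec,
      (∀ (U : S.Opens) (hU : IsAffineOpen U) (U' : S'.Opens) (hU' : IsAffineOpen U')
        (hle : U' ≤ q ⁻¹ᵁ U), B'.ι U' hU' ≫ v =
          Spec.map ((u.app (op U) : B.presheaf.obj (op U) ⟶ B'.presheaf.obj (op (q ⁻¹ᵁ U))) ≫
            B'.presheaf.map (homOfLE hle).op) ≫ B.ι U hU) → v = RelSpecLib.lift g ω :=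
    fun v hv => RelSpecLib.hom_ext_charts B' (fun p : J => (p.1.2 : S'.Opens))
      (fun p => p.1.2.2) hcov fun p =>
        (hv p.1.1.1 p.1.1.2 p.1.2.1 p.1.2.2 p.2).trans
          (hchart p.1.1.1 p.1.1.2 p.1.2.1 p.1.2.2 p.2).symm
  refine ⟨⟨RelSpecLib.lift g ω, hchart, huniq⟩, fun v hv => ?_⟩
  rw [huniq v hv]
  exact RelSpecLib.lift_π g ω hω

end Groth.Agent.S8281
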