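import Groth.Statements.S8291
import Groth.Agent.SymAlgRel.ProjBC

set_option autoImplicit false
universe u
open CategoryTheory CategoryTheory.Limits AlgebraicGeometry Opposite TopologicalSpace
open scoped HomogeneousIdeal
noncomputable section
open EGA2

namespace Groth.Agent.S8291

/-- Let ψ : Y' → Y be a morphism, 𝒮 a quasi-coherent positively graded O_Y-algebra and 𝒮' = ψ^*𝒮,
presented as a quasi-coherent graded O_{Y'}-algebra with a graded ψ-morphism u : 𝒮 → ψ_*𝒮' whose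
squares O_Y(U) → O_{Y'}(U'), 𝒮(U) → 𝒮'(U') over affine opens U' ⊆ ψ⁻¹(U) are pushouts of rings. If g
: Proj(𝒮') → Proj(𝒮) is chartwise the morphism of homogeneous spectra induced by 𝒮(U) → 𝒮'(U'), then
Proj(𝒮') together with g and its structure morphism is the fibre product Proj(𝒮) ×_Y Y'. -/
theorem result {Y Y' P P' : Scheme.{u}} (ψ : Y' ⟶ Y) (𝒮 : RelProj.QCGrAlg Y)
    (𝒮' : RelProj.QCGrAlg Y') (u : 𝒮.presheaf ⟶ ψ.base _* 𝒮'.presheaf)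
    (hu : 𝒮.str ≫ u = ψ.c ≫ (TopCat.Presheaf.pushforward CommRingCat.{u} ψ.base).map 𝒮'.str)
    (φ : ∀ (U : Y.Opens) (hU : IsAffineOpen U) (U' : Y'.Opens) (hU' : IsAffineOpen U') (_ : U' ≤ ψ ⁻¹ᵁ U),
      𝒮.deg U hU →+*ᵍ 𝒮'.deg U' hU')
    (hφ : ∀ (U : Y.Opens) (hU : IsAffineOpen U) (U' : Y'.Opens) (hU' : IsAffineOpen U') (hle : U' ≤ ψ ⁻¹ᵁ U),
      (φ U hU U' hU' hle).toRingHom =
        ((u.app (op U) : 𝒮.presheaf.obj (op U) ⟶ 𝒮'.presheaf.obj (op (ψ ⁻¹ᵁ U))) ≫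
          𝒮'.presheaf.map (homOfLE hle).op).hom)
    (hpo : ∀ (U : Y.Opens) (hU : IsAffineOpen U) (U' : Y'.Opens) (hU' : IsAffineOpen U') (hle : U' ≤ ψ ⁻¹ᵁ U),
      IsPushout (ψ.appLE U U' hle) (𝒮.str.app (op U)) (𝒮'.str.app (op U'))
        ((u.app (op U) : 𝒮.presheaf.obj (op U) ⟶ 𝒮'.presheaf.obj (op (ψ ⁻¹ᵁ U))) ≫
          𝒮'.presheaf.map (homOfLE hle).op))
    (hirr : ∀ (U : Y.Opens) (hU : IsAffineOpen U) (U' : Y'.Opens) (hU' : IsAffineOpen U') (hle : U' ≤ ψ ⁻¹ᵁ U),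
      (𝒮'.deg U' hU')₊ ≤ ((𝒮.deg U hU)₊).map (φ U hU U' hU' hle))
    (p : P ⟶ Y)
    (chart : ∀ (U : Y.Opens) (hU : IsAffineOpen U), (((p ⁻¹ᵁ U : P.Opens) : Scheme.{u}) ≅ Proj (𝒮.deg U hU)))
    (hP : RelProj.IsRelProj 𝒮 p chart) (p' : P' ⟶ Y')
    (chart' : ∀ (U' : Y'.Opens) (hU' : IsAffineOpen U'), (((p' ⁻¹ᵁ U' : P'.Opens) : Scheme.{u}) ≅ Proj (𝒮'.deg U' hU')))
    (hP' : RelProj.IsRelProj 𝒮' p' chart') (g : P' ⟶ P)
    (hg : ∀ (U : Y.Opens) (hU : IsAffineOpen U) (U' : Y'.Opens) (hU' : IsAffineOpen U') (hle : U' ≤ ψ ⁻¹ᵁ U),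
      (p' ⁻¹ᵁ U').ι ≫ g =
        (chart' U' hU').hom ≫ Proj.map (φ U hU U' hU' hle) (hirr U hU U' hU' hle) ≫ RelProj.emb p chart U hU) :
    IsPullback g p' p ψ := by
  let uQ : RelProj.QGrHom ψ 𝒮 𝒮' :=
    { toQHom :=
        { app := fun U => u.app (op U)
          naturality := fun i => (u.naturality (homOfLE i).op).symm
          str_app := fun U => NatTrans.congr_app hu (op U) }
      map_mem := fun U hU U' hU' hle d x hx => by
        have h1 := (φ U hU U' hU' hle).map_mem hx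
        exact (RingHom.congr_fun (hφ U hU U' hU' hle) x) ▸ h1 }
  have hbc : RelSpec.IsQBaseChange uQ.toQHom := hpo
  refine Groth.Agent.SymAlgRel.isPullback_projQMap uQ hbc hP hP' g
    ⟨Groth.Agent.SymAlgRel.domQ_eq_top uQ hbc, fun U hU U' hU' hle d hd f hf => ?_⟩
  have hφeq : φ U hU U' hU' hle = uQ.gradedAt U hU U' hU' hle :=
    GradedRingHom.ext fun x => RingHom.congr_fun (hφ U hU U' hU' hle) x
  have key : ∀ (χ : 𝒮.deg U hU →+*ᵍ 𝒮'.deg U' hU') (hχ : (𝒮'.deg U' hU')₊ ≤ ((𝒮.deg U hU)₊).map χ),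
      (p' ⁻¹ᵁ U').ι ≫ g = (chart' U' hU').hom ≫ Proj.map χ hχ ≫ RelProj.emb p chart U hU →
      (Proj.awayι (𝒮'.deg U' hU') (χ f) (χ.map_mem hf) hd ≫ RelProj.emb p' chart' U' hU') ≫ g =
        Spec.map (CommRingCat.ofHom (HomogeneousLocalization.Away.map χ f)) ≫
          Proj.awayι (𝒮.deg U hU) f hf hd ≫ RelProj.emb p chart U hU := by
    intro χ hχ h0
    show (_ ≫ (chart' U' hU').inv ≫ _) ≫ g = _
    simp only [Category.assoc]
    rw [h0, Iso.inv_hom_id_assoc, Proj.awayι_comp_map_assoc χ hχ hd f hf]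
  exact key _ (hφeq ▸ hirr U hU U' hU' hle) (by
    have := hg U hU U' hU' hle
    simp only [hφeq] at this
    exact this)

end Groth.Agent.S8291
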