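import Groth.Statements.S8296
import Groth.Agent.ConeDom.Basic
-- import your own Groth.Agent.* helpers here

set_option autoImplicit false
universe u
open CategoryTheory CategoryTheory.Limits AlgebraicGeometry Opposite TopologicalSpace
open scoped HomogeneousIdeal
noncomputable section
open EGA2

namespace Groth.Agent.S8296

/-- The pointed affine cone: let 𝒮 be a quasi-coherent positively graded O_Y-algebra with 𝒮_0 = O_Y, aug
its augmentation, C = Spec(𝒮) its affine cone and ε : Y → C the vertex section. Then the open subset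
of C which is the union, over the affine opens U of Y, of the chart images of the complements of the
closed sets V(𝒮(U)_+) in Spec 𝒮(U), is exactly the complement of ε(Y); in other words the pointed
affine cone E, defined chart by chart through the irrelevant ideals, is C − ε(Y). -/
theorem result {Y : Scheme.{u}} (𝒮 : RelProj.QCGrAlg Y)
    (h0 : RelCone.StrZeroBij 𝒮) (aug : 𝒮.toQCAlg ⟶ RelSpec.QCAlg.unit Y) (haug : RelCone.IsAugmentation 𝒮 aug)
    (ε : Y ⟶ 𝒮.toQCAlg.spec) (hε : RelCone.IsVertex 𝒮 aug ε) :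
    ((RelCone.pointedCone 𝒮 : 𝒮.toQCAlg.spec.Opens) : Set 𝒮.toQCAlg.spec) = (Set.range ε.base)ᶜ := by
  classical
  have key : ∀ (U : Y.Opens) (hU : IsAffineOpen U) (w : Spec (𝒮.presheaf.obj (op U))),
      (HomogeneousIdeal.irrelevant (𝒮.deg U hU)).toIdeal ≤ w.asIdeal ↔
        w ∈ Set.range (Spec.map (aug.hom.app (op U))).base := by
    intro U hU w
    have hr : ∀ r, (aug.hom.app (op U)).hom ((𝒮.str.app (op U)).hom r) = r := fun r => by
      have h := congrArg (fun f => (f.app (op U)).hom r) aug.comm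
      exact h
    have hsurj : Function.Surjective (aug.hom.app (op U)).hom := fun r => ⟨_, hr r⟩
    have hker : RingHom.ker (aug.hom.app (op U)).hom = (HomogeneousIdeal.irrelevant (𝒮.deg U hU)).toIdeal := by
      have hpos : ∀ (d : ℕ) (x : 𝒮.presheaf.obj (op U)), 0 < d → x ∈ 𝒮.deg U hU d →
          (aug.hom.app (op U)).hom x = 0 := by
        intro d x hd hx
        obtain ⟨e, rfl⟩ : ∃ e, d = e + 1 := ⟨d - 1, by omega⟩
        exact haug U hU e x hx
      have hsum : ∀ a, (aug.hom.app (op U)).hom a =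
          (aug.hom.app (op U)).hom ((DirectSum.decompose (𝒮.deg U hU) a 0 : 𝒮.deg U hU 0) : 𝒮.presheaf.obj (op U)) := by
        intro a
        conv_lhs => rw [← DirectSum.sum_support_decompose (𝒮.deg U hU) a, map_sum]
        refine Finset.sum_eq_single 0 (fun i _ hi => hpos i _ (Nat.pos_of_ne_zero hi) (Subtype.prop _)) fun h0 => ?_
        rw [DFinsupp.notMem_support_iff.1 h0, ZeroMemClass.coe_zero, map_zero]
      ext a
      rw [RingHom.mem_ker, hsum]
      refine Iff.trans ?_ (HomogeneousIdeal.mem_irrelevant_iff (𝒮.deg U hU) a).symm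
      rw [GradedRing.proj_apply]
      obtain ⟨r, hr0⟩ := (h0 U hU).2 (DirectSum.decompose (𝒮.deg U hU) a 0)
      have hr1 : (𝒮.str.app (op U)).hom r =
          ((DirectSum.decompose (𝒮.deg U hU) a 0 : 𝒮.deg U hU 0) : 𝒮.presheaf.obj (op U)) :=
        congrArg Subtype.val hr0
      rw [← hr1, hr]
      exact ⟨fun h => by rw [h]; exact map_zero _, fun h => by rw [← hr r, h]; exact map_zero _⟩
    constructor
    · intro hw
      have : w ∈ PrimeSpectrum.zeroLocus (RingHom.ker (aug.hom.app (op U)).hom : Set (𝒮.presheaf.obj (op U))) :=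
        hker ▸ hw
      rwa [← range_comap_of_surjective _ _ hsurj] at this
    · rintro ⟨q, rfl⟩
      rw [← hker]
      intro a ha
      show (aug.hom.app (op U)).hom a ∈ q.asIdeal
      rw [RingHom.mem_ker.1 ha]
      exact zero_mem _
  ext z
  let y := 𝒮.toQCAlg.π z
  obtain ⟨U, hyU⟩ := TopologicalSpace.Opens.mem_iSup.1
    ((AlgebraicGeometry.iSup_affineOpens_eq_top Y).ge (Set.mem_univ y))
  have hz : z ∈ 𝒮.toQCAlg.π ⁻¹ᵁ U.1 := hyU
  rw [RelSpec.QCAlg.π_preimage _ U.1 U.2] at hz
  obtain ⟨w, rfl⟩ := hz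
  rw [SetLike.mem_coe, Groth.Agent.ConeDom.mem_pointedCone_iff 𝒮 U.2 w, Groth.Agent.ConeDom.mem_vertexCompl_iff,
    key U.1 U.2 w, Set.mem_compl_iff]
  refine not_congr ⟨?_, ?_⟩
  · rintro ⟨q, rfl⟩
    refine ⟨U.2.fromSpec q, ?_⟩
    exact congr($(hε.chart U.1 U.2) q)
  · rintro ⟨y', hy'⟩
    have hπ : 𝒮.toQCAlg.π (ε y') = y' := congr($(hε.comp_π) y')
    have hy'' : y' = y := by
      rw [← hπ]
      exact congrArg _ hy'
    obtain ⟨q, hq⟩ : y' ∈ Set.range U.2.fromSpec := by
      rw [U.2.range_fromSpec, hy'']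
      exact hyU
    have h2 : 𝒮.toQCAlg.ι U.1 U.2 (Spec.map (aug.hom.app (op U.1)) q) = 𝒮.toQCAlg.ι U.1 U.2 w := by
      rw [← hq] at hy'
      exact (congr($(hε.chart U.1 U.2) q)).symm.trans hy'
    exact ⟨q, (𝒮.toQCAlg.ι U.1 U.2).isOpenEmbedding.injective h2⟩

end Groth.Agent.S8296
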