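import Groth.Statements.S8300
import Groth.Agent.ConeDom.Basic
-- import your own Groth.Agent.* helpers here

set_option autoImplicit false
universe u
open CategoryTheory CategoryTheory.Limits AlgebraicGeometry Opposite TopologicalSpace
open scoped HomogeneousIdeal
noncomputable section
open EGA2

namespace Groth.Agent.S8300

/-- Let q : Y' → Y be a morphism of schemes, 𝒮 and 𝒮' quasi-coherent positively graded algebras over O_Y
and O_{Y'} with 𝒮_0 = O_Y and 𝒮'_0 = O_{Y'}, and φ : 𝒮 → q_*𝒮' a graded q-morphism (a map of sheaves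
of rings compatible with the structure maps through q^♯, whose components 𝒮(U) → 𝒮'(U') for affine
opens U' ⊆ q⁻¹(U) preserve degrees, recorded as graded ring homomorphisms); let C = Spec(𝒮), C' =
Spec(𝒮') be the affine cones and Φ : C' → C the morphism Spec(φ), i.e. the morphism which on the
charts over affine opens U' ⊆ q⁻¹(U) is Spec of 𝒮(U) → 𝒮'(U'); let E ⊆ C and E' ⊆ C' be the pointed
affine cones (defined chart by chart as the complements of V(𝒮(U)_+), resp. V(𝒮'(U')_+)). Then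
Proj(φ) is everywhere defined, which here means that for all affine opens U' ⊆ q⁻¹(U) the open of
Proj 𝒮'(U') where the morphism induced by 𝒮(U) → 𝒮'(U') is defined (the complement of V_+ of the
ideal generated by the image of the irrelevant ideal of 𝒮(U)) is the whole of Proj 𝒮'(U'), if and
only if the inverse image of E under Φ equals E'. -/
theorem result {Y Y' : Scheme.{u}} (q : Y' ⟶ Y) (𝒮 : RelProj.QCGrAlg Y) (𝒮' : RelProj.QCGrAlg Y')
    (h0 : RelCone.StrZeroBij 𝒮) (h0' : RelCone.StrZeroBij 𝒮')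
    (u : 𝒮.presheaf ⟶ q.base _* 𝒮'.presheaf)
    (hu : 𝒮.str ≫ u = q.c ≫ (TopCat.Presheaf.pushforward CommRingCat.{u} q.base).map 𝒮'.str)
    (φ : ∀ (U : Y.Opens) (hU : IsAffineOpen U) (U' : Y'.Opens) (hU' : IsAffineOpen U') (_ : U' ≤ q ⁻¹ᵁ U),
      𝒮.deg U hU →+*ᵍ 𝒮'.deg U' hU')
    (hφ : ∀ (U : Y.Opens) (hU : IsAffineOpen U) (U' : Y'.Opens) (hU' : IsAffineOpen U') (hle : U' ≤ q ⁻¹ᵁ U),
      (φ U hU U' hU' hle).toRingHom =
        ((u.app (op U) : 𝒮.presheaf.obj (op U) ⟶ 𝒮'.presheaf.obj (op (q ⁻¹ᵁ U))) ≫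
          𝒮'.presheaf.map (homOfLE hle).op).hom)
    (Φ : 𝒮'.toQCAlg.spec ⟶ 𝒮.toQCAlg.spec)
    (hΦ : ∀ (U : Y.Opens) (hU : IsAffineOpen U) (U' : Y'.Opens) (hU' : IsAffineOpen U') (hle : U' ≤ q ⁻¹ᵁ U),
      𝒮'.toQCAlg.ι U' hU' ≫ Φ =
        Spec.map ((u.app (op U) : 𝒮.presheaf.obj (op U) ⟶ 𝒮'.presheaf.obj (op (q ⁻¹ᵁ U))) ≫
          𝒮'.presheaf.map (homOfLE hle).op) ≫ 𝒮.toQCAlg.ι U hU) :
    (∀ (U : Y.Opens) (hU : IsAffineOpen U) (U' : Y'.Opens) (hU' : IsAffineOpen U') (hle : U' ≤ q ⁻¹ᵁ U),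
        RelCone.domOpen (φ U hU U' hU' hle) = ⊤) ↔
      Φ ⁻¹ᵁ RelCone.pointedCone 𝒮 = RelCone.pointedCone 𝒮' := by
  classical
  open scoped HomogeneousIdeal in
  have hle' : Φ ⁻¹ᵁ RelCone.pointedCone 𝒮 ≤ RelCone.pointedCone 𝒮' :=
    EGA2Misc.preimage_pointedCone_le q 𝒮 𝒮' u hu φ hφ Φ hΦ
  have key : ∀ (U : Y.Opens) (hU : IsAffineOpen U) (U' : Y'.Opens) (hU' : IsAffineOpen U') (hle : U' ≤ q ⁻¹ᵁ U)
      (z : Spec (𝒮'.presheaf.obj (op U'))), Φ (𝒮'.toQCAlg.ι U' hU' z) ∈ RelCone.pointedCone 𝒮 ↔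
      ¬ (HomogeneousIdeal.irrelevant (𝒮.deg U hU)).toIdeal ≤ z.asIdeal.comap (φ U hU U' hU' hle).toRingHom := by
    intro U hU U' hU' hle z
    rw [← Scheme.Hom.comp_apply, hΦ U hU U' hU' hle, Scheme.Hom.comp_apply, ConeDom.mem_pointedCone_iff,
      ConeDom.mem_vertexCompl_iff, hφ U hU U' hU' hle]
    exact Iff.rfl
  constructor
  · intro hdom
    refine le_antisymm hle' fun y hy => ?_
    show Φ y ∈ RelCone.pointedCone 𝒮
    obtain ⟨U, hU, hqU, -⟩ := exists_isAffineOpen_mem_and_subset (U := (⊤ : Y.Opens))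
      (x := q (𝒮'.toQCAlg.π y)) trivial
    obtain ⟨U', hU', hyU', hle⟩ := exists_isAffineOpen_mem_and_subset (U := q ⁻¹ᵁ U) (x := 𝒮'.toQCAlg.π y) hqU
    have hy1 : y ∈ 𝒮'.toQCAlg.π ⁻¹ᵁ U' := hyU'
    rw [RelSpec.QCAlg.π_preimage _ U' hU'] at hy1
    obtain ⟨z, rfl⟩ := hy1
    rw [key U hU U' hU' hle]
    have hz : ¬ (HomogeneousIdeal.irrelevant (𝒮'.deg U' hU')).toIdeal ≤ z.asIdeal :=
      (ConeDom.mem_pointedCone_iff 𝒮' hU' z).1 hy
    let x : Proj (𝒮'.deg U' hU') := (⟨z.asIdeal.homogeneousCore (𝒮'.deg U' hU'), z.2.homogeneousCore,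
      fun h => hz (le_trans h (Ideal.toIdeal_homogeneousCore_le _ _))⟩ : ProjectiveSpectrum (𝒮'.deg U' hU'))
    have hx : x ∈ RelCone.domOpen (φ U hU U' hU' hle) := by rw [hdom U hU U' hU' hle]; trivial
    obtain ⟨f, hf, hfx⟩ := (RelCone.mem_domOpen _ x).1 hx
    obtain ⟨i, a, hi, ha, hax⟩ := ConeDom.exists_hom_notMem (𝒜 := 𝒮.deg U hU)
      (I := (x.asHomogeneousIdeal.toIdeal).comap (φ U hU U' hU' hle).toRingHom) (fun h => hfx (h hf))
    intro h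
    refine hax ?_
    exact Ideal.mem_homogeneousCore_of_homogeneous_of_mem ⟨i, (φ U hU U' hU' hle).map_mem ha⟩
      (h (HomogeneousIdeal.mem_irrelevant_of_mem _ hi ha))
  · intro hEq U hU U' hU' hle
    rw [eq_top_iff]
    intro x _
    let z : Spec (𝒮'.presheaf.obj (op U')) :=
      (⟨x.asHomogeneousIdeal.toIdeal, x.isPrime⟩ : PrimeSpectrum (𝒮'.presheaf.obj (op U')))
    have hz : 𝒮'.toQCAlg.ι U' hU' z ∈ RelCone.pointedCone 𝒮' :=
      (ConeDom.mem_pointedCone_iff 𝒮' hU' z).2 x.not_irrelevant_le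
    rw [← hEq] at hz
    have h := (key U hU U' hU' hle z).1 hz
    obtain ⟨f, hf, hfx⟩ := SetLike.not_le_iff_exists.1 h
    exact (RelCone.mem_domOpen _ x).2 ⟨f, hf, hfx⟩

end Groth.Agent.S8300
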