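import Groth.Statements.S8302
import Groth.Agent.BCModel.SectPull
import Groth.Agent.DCohBridge.AffPush
import Groth.Agent.QCohBase.Qcqs
-- import your own Groth.Agent.* helpers here

set_option autoImplicit false
set_option backward.isDefEq.respectTransparency false
set_option backward.defeqAttrib.useBackward true
universe u
open CategoryTheory CategoryTheory.Limits AlgebraicGeometry Opposite TopologicalSpace
noncomputable section
open EGA2
open Groth.Agent

namespace Groth.Agent.S8302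

/-- The case of a single scheme X affine over S and the identity morphism of X: let f : X → S be an
affine morphism and F, G quasi-coherent O_X-modules. Then the direct image u ↦ f_*(u) is a bijection
from the set of O_X-module homomorphisms F → G onto the set of homomorphisms f_*F → f_*G of modules
over the direct-image algebra f_*O_X. -/
theorem result {X S : Scheme.{u}} (f : X ⟶ S) [IsAffineHom f]
    (F G : X.Modules) (hF : Coh.IsQCoh F) (hG : Coh.IsQCoh G) :
    Function.Bijective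
      ((AMod.dirImg f).map : (F ⟶ G) → ((AMod.dirImg f).obj F ⟶ (AMod.dirImg f).obj G)) := by
  have eq0 : ∀ {M N : X.Modules} (χ : M ⟶ N), Coh.IsQCoh M →
      (∀ V : S.Opens, IsAffineOpen V → ∀ t : Γ(M, f ⁻¹ᵁ V), χ.app (f ⁻¹ᵁ V) t = 0) → χ = 0 := by
    intro M N χ hM h
    refine DCohBridge.eq_zero_of_affine_cover χ hM fun x => ?_
    obtain ⟨_, ⟨V, hV, rfl⟩, hxV, -⟩ :=
      S.isBasis_affineOpens.exists_subset_of_mem_open (Set.mem_univ (f.base x)) isOpen_univ
    refine ⟨f ⁻¹ᵁ V, IsAffineOpen.preimage hV f, hxV, fun g => ?_⟩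
    refine (SiteBase.freeOnEquiv (O := X.sheaf) (f ⁻¹ᵁ V) N).injective ?_
    refine (SiteBase.PullTensor.freeOnEquiv_comp (O := X.sheaf) _ g χ).trans (Eq.trans ?_ (map_zero _).symm)
    exact h V hV _
  refine ⟨fun φ₁ φ₂ h => ?_, fun ψ => ?_⟩
  · rw [← sub_eq_zero]
    refine eq0 _ hF fun V hV t => ?_
    have : φ₁.app (f ⁻¹ᵁ V) t = φ₂.app (f ⁻¹ᵁ V) t :=
      congrArg (fun χ : (AMod.dirImg f).obj F ⟶ (AMod.dirImg f).obj G => χ.val.app (op V) t) h
    show φ₁.app (f ⁻¹ᵁ V) t - φ₂.app (f ⁻¹ᵁ V) t = 0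
    exact sub_eq_zero.2 this
  let adj := Scheme.Modules.pullbackPushforwardAdjunction f
  let F₀ := (Scheme.Modules.pushforward f).obj F
  let ψ₀ : F₀ ⟶ (Scheme.Modules.pushforward f).obj G := (AMod.toOS _).map ψ
  let ε := adj.counit.app F
  let ψt : (Scheme.Modules.pullback f).obj F₀ ⟶ G := (adj.homEquiv _ _).symm ψ₀
  have hε : ∀ (V : S.Opens) (s : Γ(F₀, V)), ε.app (f ⁻¹ᵁ V) (GenLocus.pullSec f F₀ V s) = s :=
    fun V s => congrArg (fun χ : F₀ ⟶ F₀ => χ.app V s) (adj.right_triangle_components F)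
  have hψt : ∀ (V : S.Opens) (s : Γ(F₀, V)), ψt.app (f ⁻¹ᵁ V) (GenLocus.pullSec f F₀ V s) = ψ.val.app (op V) s :=
    fun V s => congrArg (fun χ : F₀ ⟶ (Scheme.Modules.pushforward f).obj G => χ.app V s)
      ((adj.homEquiv_unit _ _ ψt).symm.trans ((adj.homEquiv F₀ G).apply_symm_apply ψ₀))
  haveI hF₀ : F₀.IsQuasicoherent := by
    haveI : F.IsQuasicoherent := hF
    exact QCohBase.isQuasicoherent_pushforward F f
  have hP : Coh.IsQCoh ((Scheme.Modules.pullback f).obj F₀) := QCohPull.isQuasicoherent_pullback f F₀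
  haveI : Epi ε := Preadditive.epi_of_cancel_zero _ fun χ hχ => eq0 χ hF fun V hV s => by
    have h2 := congrArg (fun θ : (Scheme.Modules.pullback f).obj F₀ ⟶ _ => θ.app (f ⁻¹ᵁ V) (GenLocus.pullSec f F₀ V s)) hχ
    change χ.app (f ⁻¹ᵁ V) (ε.app (f ⁻¹ᵁ V) (GenLocus.pullSec f F₀ V s)) = 0 at h2
    rwa [hε] at h2
  have hker : kernel.ι ε ≫ ψt = 0 := eq0 _ (DCohBridge.isQCoh_kernel ε hP hF) fun V hV k => by
    letI := (f.app V).hom.toAlgebra
    letI := BCModel.pullModule f F₀ V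
    haveI : IsScalarTower Γ(S, V) Γ(X, f ⁻¹ᵁ V) Γ((Scheme.Modules.pullback f).obj F₀, f ⁻¹ᵁ V) :=
      .of_algebraMap_smul fun _ _ => rfl
    have hb := BCModel.isBaseChange_pullSec f F₀ hV (IsAffineOpen.preimage hV f)
    have key : ∀ t, ψt.app (f ⁻¹ᵁ V) t = ψ.val.app (op V) (ε.app (f ⁻¹ᵁ V) t) := by
      intro t
      induction t using hb.inductionOn with
      | zero => exact (map_zero _).trans ((congrArg (ψ.val.app (op V)) (map_zero _)).trans (map_zero _)).symm
      | tmul s => exact (hψt V s).trans (congrArg (ψ.val.app (op V)) (hε V s)).symm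
      | smul a t ht =>
        rw [Scheme.Modules.Hom.app_smul, Scheme.Modules.Hom.app_smul, ht]
        exact ((ψ.val.app (op V)).hom.map_smul a _).symm
      | add a b ha hb => rw [map_add, map_add, ha, hb, map_add]
    have h0 : ε.app (f ⁻¹ᵁ V) ((kernel.ι ε).app (f ⁻¹ᵁ V) k) = 0 :=
      congrArg (fun θ : kernel ε ⟶ F => θ.app (f ⁻¹ᵁ V) k) (kernel.condition ε)
    show ψt.app (f ⁻¹ᵁ V) ((kernel.ι ε).app (f ⁻¹ᵁ V) k) = 0
    rw [key, h0, map_zero]
  refine ⟨Abelian.epiDesc ε ψt hker, ?_⟩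
  apply SheafOfModules.hom_ext
  apply PresheafOfModules.hom_ext
  intro V
  ext s
  have h3 := congrArg (fun θ : (Scheme.Modules.pullback f).obj F₀ ⟶ G => θ.app (f ⁻¹ᵁ V.unop) (GenLocus.pullSec f F₀ V.unop s))
    (Abelian.comp_epiDesc ε ψt hker)
  change (Abelian.epiDesc ε ψt hker).app (f ⁻¹ᵁ V.unop) (ε.app (f ⁻¹ᵁ V.unop) (GenLocus.pullSec f F₀ V.unop s)) = _ at h3
  rw [hε] at h3
  exact h3.trans (hψt V.unop s)

end Groth.Agent.S8302
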