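import Groth.Statements.S8312
import Groth.Agent.EGA2G.Natural
-- import your own Groth.Agent.* helpers here

set_option autoImplicit false
universe u
open scoped HomogeneousIdeal
open EGA2

namespace Groth.Agent.S8312

/-- Let S be a positively graded ring (an ℕ-graded R-algebra) and S♮ the graded ring with S♮_n = S_[n] =
⊕_{m ≥ n} S_m, presented as a graded ring S' with an injective algebra homomorphism φ : S' → S[X]
carrying S'_n onto S_[n]·X^n; for a homogeneous f ∈ S_d write f♮ for the element of S' with φ(f♮) =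
f·X^d (f placed in degree d of S♮). If (f_α) is a family of homogeneous elements of S of positive
degrees such that every element of the irrelevant ideal S_+ has a positive power in the ideal
generated by the f_α (that is, S_+ is the radical in S_+ of that ideal), then every element of the
irrelevant ideal S'_+ has a positive power in the ideal of S' generated by the f_α♮. -/
theorem result {R A B : Type u} [CommRing R] [CommRing A] [Algebra R A]
    (𝒜 : ℕ → Submodule R A) [GradedAlgebra 𝒜] [CommRing B] [Algebra R B] (ℬ : ℕ → Submodule R B) [GradedAlgebra ℬ]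
    (φ : B →ₐ[R] Polynomial A) (hφ : Function.Injective φ)
    (hdeg : ∀ n : ℕ, Submodule.map φ.toLinearMap (ℬ n) =
      Submodule.map ((Polynomial.monomial n : A →ₗ[A] Polynomial A).restrictScalars R) (⨆ (m : ℕ) (_ : n ≤ m), 𝒜 m))
    {ι : Type u} (d : ι → ℕ) (hd : ∀ a, 0 < d a) (f : ι → A) (hf : ∀ a, f a ∈ 𝒜 (d a))
    (hrad : ∀ g ∈ (HomogeneousIdeal.irrelevant 𝒜).toIdeal, ∃ n : ℕ, 0 < n ∧ g ^ n ∈ Ideal.span (Set.range f))
    (fn : ι → B) (hfn : ∀ a, φ (fn a) = Polynomial.monomial (d a) (f a)) :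
    ∀ g ∈ (HomogeneousIdeal.irrelevant ℬ).toIdeal, ∃ n : ℕ, 0 < n ∧ g ^ n ∈ Ideal.span (Set.range fn) := by
  classical
  intro g hg
  let J : Ideal B := (Ideal.span (Set.range fn)).radical
  suffices h : g ∈ J by
    obtain ⟨n, hn⟩ := h
    exact ⟨n + 1, n.succ_pos, by rw [pow_succ]; exact Ideal.mul_mem_right _ _ hn⟩
  rw [← DirectSum.sum_support_decompose ℬ g]
  refine sum_mem fun n _ => ?_
  rcases Nat.eq_zero_or_pos n with rfl | hn
  · rw [HomogeneousIdeal.mem_iff, HomogeneousIdeal.mem_irrelevant_iff, GradedRing.proj_apply] at hg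
    rw [hg]; exact zero_mem _
  obtain ⟨x, hx, hyx⟩ := EGA2G.natural_image 𝒜 ℬ φ hdeg (DirectSum.decompose ℬ g n).2
  suffices ∃ c ∈ J, φ c = Polynomial.monomial n x by
    obtain ⟨c, hc, hc'⟩ := this
    exact hφ (hc'.trans hyx.symm) ▸ hc
  clear hyx
  induction hx using Submodule.iSup_induction' with
  | zero => exact ⟨0, zero_mem _, by simp⟩
  | add p q _ _ hp hq =>
    obtain ⟨b, hb, hb'⟩ := hp
    obtain ⟨c, hc, hc'⟩ := hq
    exact ⟨b + c, add_mem hb hc, by rw [map_add, hb', hc', map_add]⟩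
  | mem m x hx =>
    by_cases hm : n ≤ m
    swap
    · rw [iSup_neg hm, Submodule.mem_bot] at hx
      exact ⟨0, zero_mem _, by simp [hx]⟩
    rw [iSup_pos hm] at hx
    obtain ⟨y, -, hy⟩ := EGA2G.natural_preimage 𝒜 ℬ φ hdeg hm hx
    refine ⟨y, ?_, hy⟩
    have key : ∀ z ∈ Ideal.span (Set.range f), ∃ D : ℕ, ∀ (c : A) (M n' : ℕ), D ≤ n' → n' ≤ M →
        ∃ b ∈ Ideal.span (Set.range fn), φ b = Polynomial.monomial n' (DirectSum.decompose 𝒜 (c * z) M : A) := by
      intro z hz
      induction hz using Submodule.span_induction with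
      | mem z hz =>
        obtain ⟨a, rfl⟩ := hz
        refine ⟨d a, fun c M n' hD hM => ?_⟩
        rw [DirectSum.coe_decompose_mul_of_right_mem 𝒜 M (hf a), if_pos (hD.trans hM)]
        obtain ⟨b, -, hb⟩ := EGA2G.natural_preimage 𝒜 ℬ φ hdeg (n := n' - d a) (m := M - d a)
          (by omega) (DirectSum.decompose 𝒜 c (M - d a)).2
        refine ⟨b * fn a, Ideal.mul_mem_left _ _ (Ideal.subset_span ⟨a, rfl⟩), ?_⟩
        rw [map_mul, hb, hfn, Polynomial.monomial_mul_monomial, Nat.sub_add_cancel hD]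
      | zero => exact ⟨0, fun c M n' _ _ => ⟨0, zero_mem _, by simp⟩⟩
      | add p q _ _ hp hq =>
        obtain ⟨D, hD⟩ := hp
        obtain ⟨D', hD'⟩ := hq
        refine ⟨max D D', fun c M n' h hM => ?_⟩
        obtain ⟨b, hb, hb'⟩ := hD c M n' (le_trans (le_max_left D D') h) hM
        obtain ⟨e, he, he'⟩ := hD' c M n' (le_trans (le_max_right D D') h) hM
        refine ⟨b + e, add_mem hb he, ?_⟩
        rw [map_add, hb', he', mul_add, DirectSum.decompose_add, DirectSum.add_apply, Submodule.coe_add, map_add]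
      | smul r p _ hp =>
        obtain ⟨D, hD⟩ := hp
        refine ⟨D, fun c M n' h hM => ?_⟩
        rw [smul_eq_mul, ← mul_assoc]
        exact hD (c * r) M n' h hM
    have hxirr : x ∈ (HomogeneousIdeal.irrelevant 𝒜).toIdeal := EGA2G.mem_irrelevant 𝒜 (hn.trans_le hm) hx
    obtain ⟨k, hk, hxk⟩ := hrad x hxirr
    obtain ⟨D, hD⟩ := key _ hxk
    let N := D + 1
    obtain ⟨b, hb, hb'⟩ := hD (x ^ (k * D)) (k * N * m) (k * N * n) (by
        calc D ≤ N * 1 := by omega
          _ ≤ (k * N) * n := Nat.mul_le_mul (Nat.le_mul_of_pos_left N hk) hn)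
      (Nat.mul_le_mul le_rfl hm)
    refine ⟨k * N, ?_⟩
    have e1 : x ^ (k * D) * x ^ k = x ^ (k * N) := by rw [← pow_add]; congr 1
    have h2 : y ^ (k * N) = b := hφ (by
      rw [map_pow, hy, Polynomial.monomial_pow, hb', e1, DirectSum.decompose_of_mem_same 𝒜
        (show x ^ (k * N) ∈ 𝒜 (k * N * m) from by simpa [mul_comm] using SetLike.pow_mem_graded (k * N) hx),
        mul_comm n])
    rw [h2]; exact hb

end Groth.Agent.S8312
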