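import Groth.Statements.S8323
import Groth.Agent.SymAlgRel.TildeExist

set_option autoImplicit false
universe u
open CategoryTheory CategoryTheory.Limits AlgebraicGeometry Opposite TopologicalSpace
open scoped HomogeneousIdeal
noncomputable section
open EGA2

namespace Groth.Agent.S8323

/-- Two O_P-modules on P = Proj(𝒮), each identified chartwise with the modules (ℳ(U)(n))~ on the Proj
𝒮(U) (bijectively on sections, compatibly along restrictions to basic opens), are related by exactly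
one O_P-module map commuting with the identifications, and that map is an isomorphism. -/
theorem result {Y P : Scheme.{u}} (𝒮 : RelProj.QCGrAlg Y) (p : P ⟶ Y)
    (chart : ∀ (U : Y.Opens) (hU : IsAffineOpen U), (((p ⁻¹ᵁ U : P.Opens) : Scheme.{u}) ≅ Proj (𝒮.deg U hU)))
    (hP : RelProj.IsRelProj 𝒮 p chart) (ℳ : RelProj.GrModule 𝒮)
    (hℳ : Coh.IsQCoh ((AMod.toOS 𝒮.toQCAlg).obj ℳ.mod)) (n : ℤ) (F : P.Modules)
    (lam : ∀ (U : Y.Opens) (hU : IsAffineOpen U),
      F ⟶ (Scheme.Modules.pushforward (RelProj.emb p chart U hU)).obj (GrMod.tilde (𝒮.deg U hU) (ℳ.deg U hU) n))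
    (hF : RelProj.IsRelTilde 𝒮 p chart ℳ n F lam) (F' : P.Modules)
    (lam' : ∀ (U : Y.Opens) (hU : IsAffineOpen U),
      F' ⟶ (Scheme.Modules.pushforward (RelProj.emb p chart U hU)).obj (GrMod.tilde (𝒮.deg U hU) (ℳ.deg U hU) n))
    (hF' : RelProj.IsRelTilde 𝒮 p chart ℳ n F' lam') :
    (∃! φ : F ⟶ F', ∀ (U : Y.Opens) (hU : IsAffineOpen U), φ ≫ lam' U hU = lam U hU) ∧
      ∀ φ : F ⟶ F', (∀ (U : Y.Opens) (hU : IsAffineOpen U), φ ≫ lam' U hU = lam U hU) → IsIso φ := by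
  refine ⟨Groth.Agent.SymAlgRel.existsUnique_relTilde_lift hℳ hP hF' (fun U => lam U.1 U.2)
    (fun a => Groth.Agent.SymAlgRel.lam_tildeφ hP hF a), fun φ hφ => ?_⟩
  refine Groth.Agent.SymAlgRel.BasicGlue.isIso_of_bijective φ (fun U : Y.affineOpens => p ⁻¹ᵁ U.1)
    (fun x => by
      obtain ⟨U, hU⟩ := TopologicalSpace.Opens.mem_iSup.1
        ((AlgebraicGeometry.iSup_affineOpens_eq_top Y).ge (Set.mem_univ (p.base x)))
      exact ⟨U, hU⟩) fun U W hW => ?_
  refine ((hF'.bijective U.1 U.2 W hW).of_comp_iff' _).1 ?_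
  have : ⇑((lam' U.1 U.2).app W) ∘ ⇑(φ.app W) = ⇑((lam U.1 U.2).app W) :=
    funext fun s => congrArg (fun f => Scheme.Modules.Hom.app f W s) (hφ U.1 U.2)
  rw [this]
  exact hF.bijective U.1 U.2 W hW

end Groth.Agent.S8323
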