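import Groth.Statements.S8324
import Groth.Agent.ConeDom.Basic
-- import your own Groth.Agent.* helpers here

set_option autoImplicit false
universe u
open CategoryTheory CategoryTheory.Limits AlgebraicGeometry Opposite TopologicalSpace
open scoped HomogeneousIdeal
noncomputable section
open EGA2

namespace Groth.Agent.S8324

/-- If the quasi-coherent graded 𝒮-module ℳ satisfies (TN) — its pieces of all large degrees vanish —
then the module (ℳ(n))~ on P = Proj(𝒮) (given through its chartwise identifications) is zero, for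
every integer n. -/
theorem result {Y P : Scheme.{u}} (𝒮 : RelProj.QCGrAlg Y) (p : P ⟶ Y)
    (chart : ∀ (U : Y.Opens) (hU : IsAffineOpen U), (((p ⁻¹ᵁ U : P.Opens) : Scheme.{u}) ≅ Proj (𝒮.deg U hU)))
    (hP : RelProj.IsRelProj 𝒮 p chart) (ℳ : RelProj.GrModule 𝒮)
    (hℳ : Coh.IsQCoh ((AMod.toOS 𝒮.toQCAlg).obj ℳ.mod)) (hTN : ℳ.IsTN) (n : ℤ) (F : P.Modules)
    (lam : ∀ (U : Y.Opens) (hU : IsAffineOpen U),
      F ⟶ (Scheme.Modules.pushforward (RelProj.emb p chart U hU)).obj (GrMod.tilde (𝒮.deg U hU) (ℳ.deg U hU) n))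
    (hF : RelProj.IsRelTilde 𝒮 p chart ℳ n F lam) : IsZero F := by
  classical
  obtain ⟨N, hN⟩ := hTN
  have hsub : ∀ (U : Y.Opens) (hU : IsAffineOpen U) (W : (Proj (𝒮.deg U hU)).Opens)
      (s : Γ(GrMod.tilde (𝒮.deg U hU) (ℳ.deg U hU) n, W)), s = 0 := by
    intro U hU W s
    have hbot : ∀ y : ProjectiveSpectrum (𝒮.deg U hU), GrMod.tildeAt (𝒮.deg U hU) (ℳ.deg U hU) n y = ⊥ := by
      intro y
      refine Submodule.span_eq_bot.2 ?_
      rintro q ⟨i, j, m, t, ht, -, rfl⟩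
      obtain ⟨e, b, he, hb, hby⟩ := Groth.Agent.ConeDom.exists_hom_notMem (𝒜 := 𝒮.deg U hU) y.not_irrelevant_le
      refine (LocalizedModule.mk_eq.2 ⟨(⟨b ^ N, fun h => hby (y.isPrime.mem_of_pow_mem N h)⟩ : y.asHomogeneousIdeal.toIdeal.primeCompl), ?_⟩).trans
        (LocalizedModule.zero_mk (1 : y.asHomogeneousIdeal.toIdeal.primeCompl))
      have : b ^ N • (m : ℳ.mod.val.obj (op U)) = 0 := by
        refine hN U hU (N • e + i) ?_ _ (SetLike.GradedSMul.smul_mem (SetLike.pow_mem_graded N hb) m.2)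
        rw [smul_eq_mul]
        exact le_trans (Nat.le_mul_of_pos_right _ he) (Nat.le_add_right _ _)
      simp [Submonoid.smul_def, this]
    refine Subtype.ext (funext fun y => ?_)
    have h := (s.1 y).2
    exact Subtype.ext ((Submodule.eq_bot_iff _).1 (hbot y.1) _ h)
  refine (IsZero.iff_id_eq_zero F).2 (Scheme.Modules.hom_ext _ _ fun W => ?_)
  refine AddCommGrpCat.ext fun s => ?_
  show s = 0
  refine TopCat.Sheaf.eq_of_locally_eq' (X := P.toTopCat) ⟨F.presheaf, F.isSheaf⟩ (ι := Y.affineOpens)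
    (fun U => W ⊓ p ⁻¹ᵁ U.1) W (fun U => homOfLE inf_le_left) ?_ s 0 fun U => ?_
  · intro x hx
    obtain ⟨U, hU⟩ := TopologicalSpace.Opens.mem_iSup.1
      ((AlgebraicGeometry.iSup_affineOpens_eq_top Y).ge (Set.mem_univ (p x)))
    exact TopologicalSpace.Opens.mem_iSup.2 ⟨U, hx, hU⟩
  · refine ((hF.bijective U.1 U.2 (W ⊓ p ⁻¹ᵁ U.1) inf_le_right).1 ?_).trans (map_zero _).symm
    rw [map_zero]
    exact hsub _ _ _ _

end Groth.Agent.S8324
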