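import Groth.Statements.S8326
import Groth.Agent.RelTildeEx.TN
import Groth.Agent.QCohBase.Localization
-- import your own Groth.Agent.* helpers here

set_option autoImplicit false
universe u
open CategoryTheory CategoryTheory.Limits AlgebraicGeometry Opposite TopologicalSpace
open scoped HomogeneousIdeal
noncomputable section
open EGA2

namespace Groth.Agent.S8326

/-- Let Y be a scheme with quasi-compact underlying space, 𝒮 a quasi-coherent positively graded
O_Y-algebra generated by 𝒮_1 with 𝒮_1 of finite type, and ℳ a quasi-coherent graded 𝒮-module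
satisfying (TF). If ℳ~ = 0 on P = Proj(𝒮), then ℳ satisfies (TN). (With (TN) asking for one degree
bound over the whole base, the implication needs the base quasi-compact: over an infinite disjoint
union of points carrying the polynomial algebra in one variable, the module equal on the i-th point
to the residue field placed in degree i and killed by the variable satisfies (TF), has zero attached
module, and fails (TN). The published statement has no quasi-compactness hypothesis; its proof gives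
a bound on each affine open. The converse direction holds for any base and any graded module.) -/
theorem result {Y P : Scheme.{u}} (𝒮 : RelProj.QCGrAlg Y) (p : P ⟶ Y)
    (chart : ∀ (U : Y.Opens) (hU : IsAffineOpen U), (((p ⁻¹ᵁ U : P.Opens) : Scheme.{u}) ≅ Proj (𝒮.deg U hU)))
    (hP : RelProj.IsRelProj 𝒮 p chart) [CompactSpace Y] (hgen : 𝒮.IsGenDegOne)
    (hft : 𝒮.IsFTDeg 1) (ℳ : RelProj.GrModule 𝒮) (hℳ : Coh.IsQCoh ((AMod.toOS 𝒮.toQCAlg).obj ℳ.mod)) (hTF : ℳ.IsTF)
    (F : P.Modules)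
    (lam : ∀ (U : Y.Opens) (hU : IsAffineOpen U),
      F ⟶ (Scheme.Modules.pushforward (RelProj.emb p chart U hU)).obj (GrMod.tilde (𝒮.deg U hU) (ℳ.deg U hU) 0))
    (hF : RelProj.IsRelTilde 𝒮 p chart ℳ 0 F lam) (h0 : IsZero F) : ℳ.IsTN := by
  classical
  obtain ⟨n, hn⟩ := hTF
  have hzero : ∀ (U : Y.Opens) (hU : IsAffineOpen U) (W : (Proj (𝒮.deg U hU)).Opens)
      (s : Γ(GrMod.tilde (𝒮.deg U hU) (ℳ.deg U hU) 0, W)), s = 0 := by
    intro U hU W s
    let ε := RelProj.emb p chart U hU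
    have hO : ε ''ᵁ W ≤ p ⁻¹ᵁ U := by
      rintro _ ⟨w, -, rfl⟩
      exact ((chart U hU).inv w).2
    have hpre : ε ⁻¹ᵁ (ε ''ᵁ W) = W := ε.preimage_image_eq W
    obtain ⟨f, hf⟩ := (hF.bijective U hU (ε ''ᵁ W) hO).2
      ((GrMod.tilde (𝒮.deg U hU) (ℳ.deg U hU) 0).presheaf.map (homOfLE hpre.le).op s)
    have hf0 : f = 0 := by
      have h := congrArg (fun φ => Scheme.Modules.Hom.app φ (ε ''ᵁ W)) ((IsZero.iff_id_eq_zero F).1 h0)
      exact ConcreteCategory.congr_hom h f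
    rw [hf0, map_zero] at hf
    have h2 := congrArg ((GrMod.tilde (𝒮.deg U hU) (ℳ.deg U hU) 0).presheaf.map (homOfLE hpre.ge).op) hf.symm
    rw [← ConcreteCategory.comp_apply, ← Functor.map_comp] at h2
    refine Eq.trans ?_ (h2.trans (map_zero ((GrMod.tilde (𝒮.deg U hU) (ℳ.deg U hU) 0).presheaf.map (homOfLE hpre.ge).op).hom))
    rw [Subsingleton.elim ((homOfLE hpre.le).op ≫ (homOfLE hpre.ge).op) (𝟙 _), CategoryTheory.Functor.map_id]
    rfl
  have hbd : ∀ U : Y.affineOpens, ∃ N : ℕ, ∀ k, N ≤ k → ∀ m ∈ ℳ.deg U.1 U.2 k, m = 0 := by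
    rintro ⟨U, hU⟩
    obtain ⟨T, hT, hT1⟩ := hft U hU
    refine Groth.Agent.RelTildeEx.eventually_zero (hgen U hU) T (fun t ht => hT ht) (fun x hx => ?_) n (hn U hU) (hzero U hU)
    obtain ⟨c, rfl⟩ := hT1 x hx
    exact sum_mem fun t ht => Ideal.mul_mem_left _ _ (Ideal.subset_span ht)
  choose N hN using hbd
  obtain ⟨s, hs⟩ := isCompact_univ.elim_finite_subcover (fun U : Y.affineOpens => (U.1 : Set Y)) (fun U => U.1.2)
    (fun y _ => by
      obtain ⟨_, ⟨U, hU, rfl⟩, hy, -⟩ := Y.isBasis_affineOpens.exists_subset_of_mem_open (Set.mem_univ y) isOpen_univ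
      exact Set.mem_iUnion.2 ⟨⟨U, hU⟩, hy⟩)
  refine ⟨s.sup N, fun U hU k hk m hm => ?_⟩
  haveI : ((AMod.toOS 𝒮.toQCAlg).obj ℳ.mod).IsQuasicoherent := hℳ
  refine TopCat.Sheaf.eq_of_locally_eq' (X := Y.toTopCat)
    ((SheafOfModules.toSheaf (AMod.ringSheaf 𝒮.toQCAlg)).obj ℳ.mod)
    (ι := {D : Y.affineOpens // D.1 ≤ U ∧ ∃ V ∈ s, ∃ r : Γ(Y, V.1), D.1 = Y.basicOpen r})
    (fun D => D.1.1) U (fun D => homOfLE D.2.1) ?_ m 0 fun D => ?_
  · intro y hy
    obtain ⟨V, hV, hyV⟩ := Set.mem_iUnion₂.1 (hs (Set.mem_univ y))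
    obtain ⟨f, g, hfg, hyf⟩ := exists_basicOpen_le_affine_inter V.2 hU y ⟨hyV, hy⟩
    exact TopologicalSpace.Opens.mem_iSup.2
      ⟨⟨⟨Y.basicOpen f, V.2.basicOpen f⟩, hfg.le.trans (Y.basicOpen_le g), V, hV, f, rfl⟩, hyf⟩
  · obtain ⟨V, hVs, r, hr⟩ := D.2.2
    have hDU := D.2.1
    obtain ⟨⟨D, hD⟩, hprop⟩ := D
    dsimp only at hr hDU
    subst hr
    refine Eq.trans ?_ (map_zero _).symm
    have hx : ℳ.res hU hD hDU m ∈ ℳ.deg _ hD k := ℳ.res_mem hU hD hDU k m hm
    show ℳ.res hU hD hDU m = 0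
    set x := ℳ.res hU hD hDU m
    obtain ⟨j, y, hy⟩ := Groth.Agent.QCohBase.exists_pow_smul_eq_mres ((AMod.toOS 𝒮.toQCAlg).obj ℳ.mod) V.2 r rfl
      (Y.basicOpen_le r) x
    let a := (𝒮.str.app (op (Y.basicOpen r))).hom (Groth.Agent.QCohBase.ores (Y.basicOpen_le r) r ^ j)
    have hy' : ℳ.res V.2 hD (Y.basicOpen_le r) y = a • x := hy
    have ha : a • x ∈ ℳ.deg _ hD k := by
      have h := SetLike.GradedSMul.smul_mem (A := 𝒮.deg _ hD) (B := ℳ.deg _ hD)
        (𝒮.str_mem _ hD (Groth.Agent.QCohBase.ores (Y.basicOpen_le r) r ^ j)) hx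
      simpa [a] using h
    have hy0 : a • x = 0 := by
      rw [← DirectSum.decompose_of_mem_same (ℳ.deg _ hD) ha, ← hy']
      refine (Groth.Agent.RelTildeEx.map_decompose (ℳ.deg _ V.2) (ℳ.deg _ hD)
        (ℳ.res V.2 hD (Y.basicOpen_le r)).toAddMonoidHom (ℳ.res_mem V.2 hD (Y.basicOpen_le r)) y k).trans ?_
      rw [hN V k ((Finset.le_sup hVs).trans hk) _ (SetLike.coe_mem _), map_zero]
    have hu : IsUnit a := ((RingedSpace.isUnit_res_basicOpen Y.toRingedSpace r).pow j).map _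
    exact hu.smul_eq_zero.1 hy0

end Groth.Agent.S8326
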