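import Groth.Statements.S8331
import Groth.Agent.RelTildeEx.Basic
-- import your own Groth.Agent.* helpers here

set_option autoImplicit false
universe u
open CategoryTheory CategoryTheory.Limits AlgebraicGeometry Opposite TopologicalSpace
open scoped HomogeneousIdeal
noncomputable section
open EGA2

namespace Groth.Agent.S8331

open CategoryTheory AlgebraicGeometry TopologicalSpace Opposite

section aux

open Groth.Agent.RelTildeEx DirectSum
open scoped HomogeneousIdeal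

variable {A σ : Type u} [CommRing A] [SetLike σ A] [AddSubgroupClass σ A] {𝒜 : ℕ → σ} [GradedRing 𝒜]
variable {M τ : Type u} [AddCommGroup M] [Module A M] [SetLike τ M] [AddSubgroupClass τ M] {ℳ : ℕ → τ}
  [SetLike.GradedSMul 𝒜 ℳ]
variable {N τ' : Type u} [AddCommGroup N] [Module A N] [SetLike τ' N] [AddSubgroupClass τ' N] {𝒩 : ℕ → τ'}
  [SetLike.GradedSMul 𝒜 𝒩]

/-- A map injective in large degrees is injective on the associated sheaves. -/
theorem map_app_injective [DirectSum.Decomposition 𝒩] {n : ℤ} (u : M →ₗ[A] N)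
    (hu : ∀ (i : ℕ) (m : M), m ∈ ℳ i → u m ∈ 𝒩 i) (n₀ : ℕ)
    (hinj : ∀ k, n₀ ≤ k → ∀ m ∈ ℳ k, u m = 0 → m = 0)
    {V : (Proj 𝒜).Opens} (s : Γ(GrMod.tilde 𝒜 ℳ n, V)) (hs : (GrMod.map 𝒜 u hu n).app V s = 0) : s = 0 := by
  classical
  refine Subtype.ext (funext fun y => Subtype.ext ?_)
  show GrMod.val s y = 0
  obtain ⟨W, hW, hy, i, j, m, hm, g, hg, nin, h, w⟩ := exists_frac s y
  have h0 : GrMod.locMap u y.1 (GrMod.val s y) = 0 := by
    rw [← GrMod.map_app_val (u := u) (hu := hu), hs]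
    rfl
  rw [show GrMod.val s y = _ from w ⟨y.1, hy⟩, GrMod.locMap_mk,
    ← LocalizedModule.zero_mk (1 : y.1.asHomogeneousIdeal.toIdeal.primeCompl), LocalizedModule.mk_eq] at h0
  obtain ⟨⟨q, hq⟩, hq'⟩ := h0
  simp only [Submonoid.smul_def, OneMemClass.coe_one, one_smul, smul_zero] at hq'
  obtain ⟨k, hk⟩ : ∃ k, (DirectSum.decompose 𝒜 q k : A) ∉ y.1.asHomogeneousIdeal := by
    by_contra hne
    push Not at hne
    refine hq ?_
    rw [← DirectSum.sum_support_decompose 𝒜 q]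
    exact sum_mem fun l _ => hne l
  set c : A := (DirectSum.decompose 𝒜 q k : A)
  have hc : c ∈ 𝒜 k := SetLike.coe_mem _
  have hcv : c • u m = 0 := by
    have hφ : ∀ a, (DirectSum.decompose 𝒩 (a • u m) (k + i) : N) = (DirectSum.decompose 𝒜 a k : A) • u m := by
      intro a
      induction a using DirectSum.Decomposition.inductionOn 𝒜 with
      | zero => simp
      | @homogeneous l a =>
        have ha : (a : A) • u m ∈ 𝒩 (l + i) := SetLike.GradedSMul.smul_mem a.2 (hu _ _ hm)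
        by_cases hl : l = k
        · subst hl
          rw [DirectSum.decompose_of_mem_same _ ha, DirectSum.decompose_of_mem_same _ a.2]
        · rw [DirectSum.decompose_of_mem_ne _ ha (by omega), DirectSum.decompose_of_mem_ne _ a.2 hl, zero_smul]
      | add a b ha hb => simp [add_smul, ha, hb]
    rw [← hφ q, hq', DirectSum.decompose_zero]
    rfl
  obtain ⟨e, c', he, hc', hcy⟩ := exists_notMem 𝒜 y.1
  have hd : (c' ^ n₀ * c) • m ∈ ℳ ((n₀ • e + k) + i) :=
    SetLike.GradedSMul.smul_mem (SetLike.mul_mem_graded (SetLike.pow_mem_graded n₀ hc') hc) hm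
  have hn : n₀ ≤ (n₀ • e + k) + i := by
    rw [smul_eq_mul]
    exact le_trans (Nat.le_mul_of_pos_right _ he) (le_trans (Nat.le_add_right _ _) (Nat.le_add_right _ _))
  have hz : (c' ^ n₀ * c) • m = 0 := hinj _ hn _ hd (by rw [map_smul, mul_smul, hcv, smul_zero])
  have hny : c' ^ n₀ * c ∉ y.1.asHomogeneousIdeal := fun hx =>
    (y.1.isPrime.mem_or_mem hx).elim (fun h' => hcy (y.1.isPrime.mem_of_pow_mem _ h')) hk
  rw [show GrMod.val s y = _ from w ⟨y.1, hy⟩,
    ← LocalizedModule.zero_mk (1 : y.1.asHomogeneousIdeal.toIdeal.primeCompl), LocalizedModule.mk_eq]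
  exact ⟨⟨_, hny⟩, by simpa [Submonoid.smul_def] using hz⟩

end aux


/-- A (TN)-injective degree-preserving homomorphism u : ℳ → 𝒩 of quasi-coherent graded 𝒮-modules
(injective in all large degrees, one bound for the whole base) induces a monomorphism ũ : (ℳ(n))~ →
(𝒩(n))~ of modules on P = Proj(𝒮) (ũ pinned through the chartwise identifications). -/
theorem result {Y P : Scheme.{u}} (𝒮 : RelProj.QCGrAlg Y) (p : P ⟶ Y)
    (chart : ∀ (U : Y.Opens) (hU : IsAffineOpen U), (((p ⁻¹ᵁ U : P.Opens) : Scheme.{u}) ≅ Proj (𝒮.deg U hU)))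
    (hP : RelProj.IsRelProj 𝒮 p chart) (ℳ 𝒩 : RelProj.GrModule 𝒮)
    (hℳ : Coh.IsQCoh ((AMod.toOS 𝒮.toQCAlg).obj ℳ.mod)) (h𝒩 : Coh.IsQCoh ((AMod.toOS 𝒮.toQCAlg).obj 𝒩.mod))
    (u : ℳ.mod ⟶ 𝒩.mod) (hu : RelProj.IsGrModHom u)
    (hinj : ∃ n₀ : ℕ, ∀ (U : Y.Opens) (hU : IsAffineOpen U) (k : ℕ), n₀ ≤ k →
      ∀ m ∈ ℳ.deg U hU k, (u.val.app (op U)).hom m = 0 → m = 0)
    (n : ℤ) (F : P.Modules)
    (lam : ∀ (U : Y.Opens) (hU : IsAffineOpen U),
      F ⟶ (Scheme.Modules.pushforward (RelProj.emb p chart U hU)).obj (GrMod.tilde (𝒮.deg U hU) (ℳ.deg U hU) n))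
    (hF : RelProj.IsRelTilde 𝒮 p chart ℳ n F lam) (G : P.Modules)
    (lam' : ∀ (U : Y.Opens) (hU : IsAffineOpen U),
      G ⟶ (Scheme.Modules.pushforward (RelProj.emb p chart U hU)).obj (GrMod.tilde (𝒮.deg U hU) (𝒩.deg U hU) n))
    (hG : RelProj.IsRelTilde 𝒮 p chart 𝒩 n G lam') (ut : F ⟶ G)
    (hut : ∀ (U : Y.Opens) (hU : IsAffineOpen U),
      ut ≫ lam' U hU =
        lam U hU ≫ (Scheme.Modules.pushforward (RelProj.emb p chart U hU)).map
          (GrMod.map (𝒮.deg U hU)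
            (show ℳ.mod.val.obj (op U) →ₗ[𝒮.presheaf.obj (op U)] 𝒩.mod.val.obj (op U) from (u.val.app (op U)).hom)
            (hu U hU) n)) : Mono ut := by
  obtain ⟨n₀, hn₀⟩ := hinj
  have key : ∀ (V : P.Opens) (s : Γ(F, V)), ut.app V s = 0 → s = 0 := by
    intro V s hs
    choose U hU hxU using fun x : V => (exists_isAffineOpen_mem_and_subset (U := (⊤ : Y.Opens)) (x := p x.1) trivial)
    let W : V → P.Opens := fun x => V ⊓ p ⁻¹ᵁ (U x)
    refine TopCat.Sheaf.eq_of_locally_eq' (⟨F.presheaf, F.isSheaf⟩ : TopCat.Sheaf Ab P.carrier) W V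
      (fun x => homOfLE inf_le_left) (fun z hz => Opens.mem_iSup.2 ⟨⟨z, hz⟩, hz, (hxU ⟨z, hz⟩).1⟩) s 0 fun x => ?_
    rw [map_zero]
    have hW : ut.app (W x) (F.presheaf.map (homOfLE (inf_le_left : W x ≤ V)).op s) = 0 := by
      refine (ConcreteCategory.congr_hom (ut.mapPresheaf.naturality (homOfLE (inf_le_left : W x ≤ V)).op) s).trans ?_
      show G.presheaf.map _ (ut.app V s) = 0
      rw [hs, map_zero]
    refine (hF.bijective (U x) (hU x) (W x) inf_le_right).1 (Eq.trans ?_ (map_zero _).symm)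
    refine map_app_injective (show ℳ.mod.val.obj (op (U x)) →ₗ[𝒮.presheaf.obj (op (U x))] 𝒩.mod.val.obj (op (U x)) from
      (u.val.app (op (U x))).hom) (hu (U x) (hU x)) n₀ (hn₀ (U x) (hU x)) _ ?_
    refine Eq.trans (ConcreteCategory.congr_hom (congrArg (fun φ => Scheme.Modules.Hom.app φ (W x)) (hut (U x) (hU x)))
      (F.presheaf.map (homOfLE (inf_le_left : W x ≤ V)).op s)).symm ?_
    show (lam' (U x) (hU x)).app (W x) (ut.app (W x) _) = 0
    rw [hW, map_zero]
  constructor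
  intro Z g h e
  ext V z
  have hz : ut.app V (g.app V z - h.app V z) = 0 := by
    rw [map_sub, sub_eq_zero, ← ConcreteCategory.comp_apply, ← ConcreteCategory.comp_apply,
      ← Scheme.Modules.Hom.comp_app, ← Scheme.Modules.Hom.comp_app, e]
  exact sub_eq_zero.1 (key V _ hz)

end Groth.Agent.S8331
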