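import Groth.Statements.S8346
import Groth.Agent.ConstrSets.Basic

set_option autoImplicit false
universe u
open ConstrTop

namespace Groth.Agent.S8346

open TopologicalSpace in
/-- Let X be a topological space admitting a basis of open subsets which are retrocompact in X. Then
every locally constructible subset T of X is retrocompact in X. -/
theorem result {X : Type u} [TopologicalSpace X]
    {B : Set (Set X)} (hB : IsTopologicalBasis B) (hBr : ∀ U ∈ B, IsRetrocompact U) {T : Set X}
    (hT : Topology.IsLocallyConstructible T) : IsRetrocompact T := by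
  open Groth.Agent.ConstrSets in
  intro K hKc hKo
  choose U hxU hU hUT using hT
  have : ∀ x : X, ∃ V ∈ B, x ∈ V ∧ V ⊆ U x := fun x =>
    hB.exists_subset_of_mem_open (mem_of_mem_nhds (hxU x)) (hU x)
  choose V hV hxV hVU using this
  obtain ⟨t, -, ht⟩ := hKc.elim_nhds_subcover V fun x _ => (hB.isOpen (hV x)).mem_nhds (hxV x)
  have key : ∀ x, IsCompact (T ∩ (V x ∩ K)) := by
    intro x
    have hc : IsCompact ((Subtype.val : U x → X) ⁻¹' (V x ∩ K)) := by
      rw [Subtype.isCompact_iff, Subtype.image_preimage_coe, Set.inter_eq_right.2 (Set.inter_subset_left.trans (hVU x))]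
      exact hBr _ (hV x) hKc hKo
    have h2 := isRetrocompact_of_isConstructible (hUT x) hc
      (((hB.isOpen (hV x)).inter hKo).preimage continuous_subtype_val)
    rw [← Set.preimage_inter, Subtype.isCompact_iff, Subtype.image_preimage_coe] at h2
    rwa [Set.inter_eq_right.2 (Set.inter_subset_right.trans (Set.inter_subset_left.trans (hVU x)))] at h2
  have := t.isCompact_biUnion fun x _ => key x
  convert this using 1
  refine subset_antisymm (fun z hz => ?_) (Set.iUnion₂_subset fun x _ z hz => ⟨hz.1, hz.2.2⟩)
  obtain ⟨x, hx, hzx⟩ := Set.mem_iUnion₂.1 (ht hz.2)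
  exact Set.mem_iUnion₂.2 ⟨x, hx, hz.1, hzx, hz.2⟩

end Groth.Agent.S8346
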