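import Groth.Statements.S8347
import Mathlib
import Groth.Agent.SpSeqStat.Basic

set_option autoImplicit false
universe v u
open CategoryTheory CategoryTheory.Limits
open SpSeq


namespace Groth.Agent.S8347

set_option backward.isDefEq.respectTransparency false
set_option backward.defeqAttrib.useBackward true

/-- Let E be a spectral sequence in an abelian category with abutment data (H^m), and suppose that for
some page r and every total degree m there is an integer q(m) such that E_r^{m-q,q} = 0 for every q
other than q(m). Let n be a total degree such that the filtration of H^n is discrete (some step is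
zero) and exhaustive (H^n is the supremum of the steps), and such that the position (n - q(n), q(n))
is stationary from page r on. Then H^n is isomorphic to E_r^{n-q(n), q(n)}. (The published statement
asserts this without any condition on the differentials at the surviving positions; that version
fails when a differential d_r links the surviving terms of two consecutive total degrees, for
instance a spectral sequence whose only nonzero page-2 terms are E_2^{0,1} and E_2^{2,0} with d_2 an
isomorphism between them and zero abutment. The stationarity assumed here is automatic when q(m)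
does not depend on m and r ≥ 2.) -/
theorem result {C : Type u} [Category.{v} C] [Abelian C] {r₀ : ℤ}
    (E : CohomologicalSpectralSequence C r₀) {H : ℤ → C} (a : SpSeq.Abutment E H)
    (r : ℤ) (hr : r₀ ≤ r) (q : ℤ → ℤ)
    (hdeg : ∀ m q' : ℤ, q' ≠ q m → IsZero ((E.page r hr).X (m - q', q')))
    (n : ℤ) (hdisc : (a.filObj n).IsDiscrete) (hexh : a.IsExhaustive n)
    (hst : SpSeq.StationaryAt E (n - q n, q n) r) :
    Nonempty (H n ≅ (E.page r hr).X (n - q n, q n)) := by
  set p0 := n - q n with hp0
  have hgr : ∀ p, p ≠ p0 → IsZero (SpSeq.grPiece (a.fil n) (a.anti n) p) := fun p hp => by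
    have hd := hdeg n (n - p) (fun h => hp (by omega))
    have hz := SpSeqStat.isZero_gr E r hr (n - (n - p), n - p) hd H a
    have key : ∀ m p', m = n → p' = p → IsZero (SpSeq.grPiece (a.fil m) (a.anti m) p') →
        IsZero (SpSeq.grPiece (a.fil n) (a.anti n) p) := by rintro m p' rfl rfl h; exact h
    exact key _ _ (by omega) (by omega) hz
  have heq : ∀ p, p ≠ p0 → a.fil n (p + 1) = a.fil n p := fun p hp => by
    haveI : Epi ((a.fil n (p + 1)).ofLE (a.fil n p) (a.anti n (Int.le_add_one le_rfl))) :=
      Preadditive.epi_of_isZero_cokernel _ (hgr p hp)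
    haveI := isIso_of_mono_of_epi ((a.fil n (p + 1)).ofLE (a.fil n p) (a.anti n (Int.le_add_one le_rfl)))
    exact Subobject.eq_of_comm (asIso ((a.fil n (p + 1)).ofLE (a.fil n p) (a.anti n (Int.le_add_one le_rfl))))
      (Subobject.ofLE_arrow _)
  obtain ⟨b, hb⟩ := hdisc
  change a.fil n b = ⊥ at hb
  have hup : ∀ p, p0 + 1 ≤ p → a.fil n p = a.fil n (p0 + 1) := fun p hp => by
    induction p, hp using Int.le_induction with
    | base => rfl
    | succ p hp ih => rw [heq p (by omega), ih]
  have hbot : a.fil n (p0 + 1) = ⊥ := by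
    rw [← hup (max b (p0 + 1)) (le_max_right _ _)]
    exact le_bot_iff.1 (hb ▸ a.anti n (le_max_left _ _))
  have hdown : ∀ p, p ≤ p0 → a.fil n p = a.fil n p0 := fun p hp => by
    induction p, hp using Int.le_induction_down with
    | base => rfl
    | pred p hp ih => rw [← ih, ← heq (p - 1) (by omega), sub_add_cancel]
  have htop : a.fil n p0 = ⊤ := top_le_iff.1 (hexh.2 (by
    rintro _ ⟨p, rfl⟩
    change a.fil n p ≤ a.fil n p0
    rcases le_or_gt p p0 with hp | hp
    · exact (hdown p hp).le
    · exact a.anti n hp.le))
  let i := (a.fil n (p0 + 1)).ofLE (a.fil n p0) (a.anti n (Int.le_add_one le_rfl))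
  have hi : i = 0 := by
    rw [← cancel_mono (a.fil n p0).arrow, Subobject.ofLE_arrow, zero_comp]
    rw [hbot]; exact Subobject.bot_arrow
  haveI : IsIso (a.fil n p0).arrow := (Subobject.isIso_arrow_iff_eq_top _).2 htop
  let e1 : SpSeq.grPiece (a.fil n) (a.anti n) p0 ≅ H n :=
    cokernelIsoOfEq hi ≪≫ cokernelZeroIsoTarget ≪≫ asIso (a.fil n p0).arrow
  have key : ∀ m, m = n → ∀ (e : H n ≅ H n), Nonempty
      (SpSeq.grPiece (a.fil m) (a.anti m) p0 ≅ H n) := by
    rintro m rfl -; exact ⟨e1⟩
  obtain ⟨e2⟩ := key (p0 + q n) (by omega) (Iso.refl _)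
  obtain ⟨e3⟩ := SpSeqStat.iso_of_le E (a.stat (p0, q n)) (max r (a.rk (p0, q n))) (le_max_right _ _)
  obtain ⟨e4⟩ := SpSeqStat.iso_of_le E hst (max r (a.rk (p0, q n))) (le_max_left _ _)
  exact ⟨e2.symm ≪≫ (a.β (p0, q n)).symm ≪≫ e3 ≪≫ e4.symm⟩

end Groth.Agent.S8347
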