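import Groth.Statements.S8351
import Groth.Agent.CohTopLib.Neg
import Groth.Agent.DerCat.PlusAcyclicUse

set_option autoImplicit false
universe u
open CategoryTheory CategoryTheory.Limits TopologicalSpace
open CohCx

namespace Groth.Agent.S8351

/-- For abelian sheaves on topological spaces and a complex bounded below. Let f : X ⟶ Y be a continuous
map and K a bounded below complex of abelian sheaves on X. For every p, the p-th cohomology sheaf of
the derived direct image R f_*(K) (bounded below right derived functor of f_*, computed with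
injective resolutions) is isomorphic to the sheaf associated with the presheaf U ↦ H^p(f⁻¹(U), K) on
Y, where H^p(V, K) denotes hypercohomology (morphisms from the free abelian sheaf on V to K[p] in
the derived category). (The published statement is for modules over arbitrary ringed spaces,
complexes unbounded via Cartan-Eilenberg resolutions, and a canonical isomorphism; here only the
existence of an isomorphism is asserted, and the derived categories are assumed to exist with
morphism types in the universe of X and Y.) -/
theorem result {X Y : TopCat.{u}} (f : X ⟶ Y)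
    [HasDerivedCategory.{u} (CohTop.Ab X)] [HasDerivedCategory.{u} (CohTop.Ab Y)]
    (K : CochainComplex.Plus (CohTop.Ab X)) (p : ℤ) :
    Nonempty ((DerivedCategory.Plus.homologyFunctor (CohTop.Ab Y) p).obj
        ((CohTop.push f).rightDerivedFunctorPlus.obj
          (DerivedCategory.Plus.Qh.obj ((HomotopyCategory.Plus.quotient (CohTop.Ab X)).obj K))) ≅
      (presheafToSheaf (Opens.grothendieckTopology Y) AddCommGrpCat.{u}).obj
        ((Opens.map f).op ⋙ CohCx.HDUPresheaf (DerivedCategory.Q.obj K.obj) p)) := by
  open DerivedCategory Groth.Agent.CohTopLib in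
  exact by
    obtain ⟨a, ha⟩ := K.property
    obtain ⟨L, i, hi, hL, hL'⟩ := Groth.Agent.DerCat.exists_injective_plus K.obj a
    let L' : CochainComplex.Plus (CohTop.Ab X) := ⟨L, a, hL'⟩
    let s : K ⟶ L' := ObjectProperty.homMk i
    let q := HomotopyCategory.Plus.quotient (CohTop.Ab X)
    haveI : QuasiIso s.hom := hi
    haveI : IsIso ((CohTop.push f).rightDerivedFunctorPlusUnit.app (q.obj L')) :=
      (Groth.Agent.DerCat.isIso_unit_iff (CohTop.push f) (𝟙 L') hL).2
        (by rw [ObjectProperty.FullSubcategory.id_hom, CategoryTheory.Functor.map_id]; infer_instance)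
    haveI : IsIso (Plus.Qh.map (q.map s)) := by
      have : IsIso (Plus.ι.map (Plus.Qh.map (q.map s))) := by
        show IsIso (DerivedCategory.Qh.map ((HomotopyCategory.quotient (CohTop.Ab X) _).map s.hom))
        exact (NatIso.isIso_map_iff (DerivedCategory.quotientCompQhIso (CohTop.Ab X)).symm _).1
          ((DerivedCategory.isIso_Q_map_iff_quasiIso _ s.hom).2 inferInstance)
      exact isIso_of_reflects_iso _ Plus.ι
    haveI : L.IsKInjective := CochainComplex.isKInjective_of_injective L a
    let e1 : (CohTop.push f).rightDerivedFunctorPlus.obj (Plus.Qh.obj (q.obj K)) ≅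
        Plus.Qh.obj ((CohTop.push f).mapHomotopyCategoryPlus.obj (q.obj L')) :=
      (CohTop.push f).rightDerivedFunctorPlus.mapIso (asIso (Plus.Qh.map (q.map s))) ≪≫
        (asIso ((CohTop.push f).rightDerivedFunctorPlusUnit.app (q.obj L'))).symm
    let J := (pushCx f).obj L
    let e2 : Plus.ι.obj (Plus.Qh.obj ((CohTop.push f).mapHomotopyCategoryPlus.obj (q.obj L'))) ≅
        DerivedCategory.Q.obj J := (DerivedCategory.quotientCompQhIso (CohTop.Ab Y)).app J
    let eI : (shiftFunctor (DerivedCategory (CohTop.Ab X)) p).obj (DerivedCategory.Q.obj K.obj) ≅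
        DerivedCategory.Q.obj (L⟦p⟧) :=
      (shiftFunctor _ p).mapIso (asIso (DerivedCategory.Q.map i)) ≪≫
        ((DerivedCategory.Q.commShiftIso p).app L).symm
    let eK : CohCx.HDUPresheaf (DerivedCategory.Q.obj K.obj) p ≅
        CohCx.HDUPresheaf (DerivedCategory.Q.obj (L⟦p⟧)) 0 :=
      Functor.isoWhiskerLeft _ (preadditiveYoneda.mapIso
        (eI ≪≫ ((shiftFunctorZero (DerivedCategory (CohTop.Ab X)) ℤ).app (DerivedCategory.Q.obj (L⟦p⟧))).symm))
    let eP : (preZ ((pushCx f).obj (L⟦p⟧))).homology 0 ≅
        (Opens.map f).op ⋙ CohCx.HDUPresheaf (DerivedCategory.Q.obj K.obj) p :=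
      preZPushIso f (L⟦p⟧) ≪≫
        Functor.isoWhiskerLeft _ ((nonempty_hduIso (L⟦p⟧)).some ≪≫ eK.symm)
    exact ⟨(Plus.homologyFunctor (CohTop.Ab Y) p).mapIso e1 ≪≫
      (homologyFunctor (CohTop.Ab Y) p).mapIso e2 ≪≫
      (homologyFunctorFactors (CohTop.Ab Y) p).app J ≪≫
      (((HomologicalComplex.homologyFunctor (CohTop.Ab Y) (ComplexShape.up ℤ) 0).shiftIso p 0 p
        (add_zero p)).app J).symm ≪≫
      (HomologicalComplex.homologyFunctor _ _ 0).mapIso (((pushCx f).commShiftIso p).app L).symm ≪≫
      sheafHomologyIso ((pushCx f).obj (L⟦p⟧)) ≪≫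
      (presheafToSheaf (Opens.grothendieckTopology Y) AddCommGrpCat.{u}).mapIso eP⟩
end Groth.Agent.S8351
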