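import Groth.Statements.S8353
-- import your own Groth.Agent.* helpers here

set_option autoImplicit false
universe u
open HomAlg3

namespace Groth.Agent.S8353

/-- Let S be a Noetherian ring which is separated and complete for the adic topology of an ideal J, and
let M be an S-module with a decreasing filtration (F^p M)_{p ∈ ℤ} by submodules such that F^p M = M
for some p, J·F^p M ⊆ F^{p+1} M for all p, and ⋂_p F^p M = 0. Then the following are equivalent: (a)
M is a finitely generated S-module and J·F^p M = F^{p+1} M for all large p; (c) every F^p M /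
F^{p+1} M is a finitely generated S-module and, for all large p, the map J ⊗ (F^p M/F^{p+1} M) ⟶
F^{p+1} M/F^{p+2} M is surjective, that is F^{p+1} M = J·F^p M + F^{p+2} M. (The published statement
also lists a third equivalent condition, finite generation of the associated graded module over the
associated graded ring; this row states the equivalence of the other two.) -/
theorem result {S : Type u} [CommRing S] [IsNoetherianRing S]
    (J : Ideal S) [IsAdicComplete J S] {M : Type u} [AddCommGroup M] [Module S M]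
    (F : ℤ → Submodule S M) (hF : Antitone F) (hcod : ∃ p₀ : ℤ, F p₀ = ⊤)
    (hJ : ∀ p : ℤ, J • F p ≤ F (p + 1)) (hsep : ⨅ p : ℤ, F p = ⊥) :
    (Module.Finite S M ∧ ∃ p₁ : ℤ, ∀ p : ℤ, p₁ ≤ p → J • F p = F (p + 1)) ↔
      ((∀ p : ℤ, (Submodule.map (F (p + 1)).mkQ (F p)).FG) ∧
        ∃ p₁ : ℤ, ∀ p : ℤ, p₁ ≤ p → F (p + 1) = J • F p ⊔ F (p + 2)) := by
  constructor
  · rintro ⟨hfin, p₁, hp₁⟩
    refine ⟨fun p => (IsNoetherian.noetherian (F p)).map _, p₁, fun p hp => ?_⟩
    exact le_antisymm ((hp₁ p hp).ge.trans le_sup_left)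
      (sup_le (hJ p) (hF (by omega)))
  rintro ⟨hfg, p₁, hp₁⟩
  obtain ⟨s, hs⟩ := hfg p₁
  have hlift : ∀ q ∈ s, ∃ m ∈ F p₁, (F (p₁ + 1)).mkQ m = q := fun q hq => by
    have : q ∈ Submodule.map (F (p₁ + 1)).mkQ (F p₁) := hs ▸ Submodule.subset_span hq
    exact Submodule.mem_map.mp this
  choose g hg hgq using hlift
  let t := s.card
  let v : Fin t → M := fun i => g (s.equivFin.symm i) (s.equivFin.symm i).2
  let N : Submodule S M := Submodule.span S (Set.range v)
  have hN : N ≤ F p₁ := Submodule.span_le.mpr (by rintro _ ⟨i, rfl⟩; exact hg _ _)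
  have hbase : ∀ k : ℕ, F (p₁ + k) ≤ J ^ k • N ⊔ F (p₁ + k + 1) := by
    intro k
    induction k with
    | zero =>
      rw [Nat.cast_zero, add_zero, pow_zero, Ideal.one_eq_top, Submodule.top_smul]
      have h1 : Submodule.map (F (p₁ + 1)).mkQ (F p₁) ≤ Submodule.map (F (p₁ + 1)).mkQ N := by
        rw [← hs, Submodule.span_le]
        intro q hq
        refine ⟨g q hq, Submodule.subset_span ⟨s.equivFin ⟨q, hq⟩, ?_⟩, hgq q hq⟩
        simp only [v, Equiv.symm_apply_apply]
      rw [Submodule.map_le_iff_le_comap, Submodule.comap_map_mkQ] at h1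
      exact h1.trans (sup_comm _ _).le
    | succ k ih =>
      rw [show p₁ + ((k + 1 : ℕ) : ℤ) = p₁ + k + 1 by push_cast; ring]
      conv_lhs => rw [hp₁ (p₁ + k) (by omega)]
      refine sup_le ((Submodule.smul_mono le_rfl ih).trans ?_) ((hF (by omega)).trans le_sup_right)
      rw [Submodule.smul_sup, ← Submodule.smul_assoc, smul_eq_mul, ← pow_succ']
      exact sup_le_sup le_rfl (hJ _)
  have hstep : ∀ (k : ℕ) (m : M), m ∈ F (p₁ + k) →
      ∃ a : Fin t → S, (∀ i, a i ∈ J ^ k) ∧ m - ∑ i, a i • v i ∈ F (p₁ + k + 1) := by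
    intro k m hm
    obtain ⟨y, hy, z, hz, rfl⟩ := Submodule.mem_sup.mp (hbase k hm)
    obtain ⟨a, ha, hay⟩ := (Submodule.mem_ideal_smul_span_iff_exists_sum (J ^ k) v y).mp hy
    refine ⟨a, ha, ?_⟩
    rwa [← hay, Finsupp.sum_fintype _ _ (fun i => zero_smul S (v i)), add_sub_cancel_left]
  choose! a ha hr using hstep
  have hmain : ∀ k₀ : ℕ, F (p₁ + k₀) ≤ J ^ k₀ • N := by
    intro k₀ m hm
    let r : ℕ → M := fun n => n.rec m fun j rj => rj - ∑ i, a (k₀ + j) rj i • v i
    have hrF : ∀ j, r j ∈ F (p₁ + ((k₀ + j : ℕ) : ℤ)) := by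
      intro j
      induction j with
      | zero => exact hm
      | succ j ih =>
        rw [show p₁ + ((k₀ + (j + 1) : ℕ) : ℤ) = p₁ + ((k₀ + j : ℕ) : ℤ) + 1 by push_cast; ring]
        exact hr (k₀ + j) (r j) ih
    let P : Fin t → ℕ → S := fun i n => ∑ j ∈ Finset.range n, a (k₀ + j) (r j) i
    have hP : ∀ n, m - ∑ i, P i n • v i = r n := by
      intro n
      induction n with
      | zero => simp [P, r]
      | succ n ih =>
        show _ = r n - _
        rw [← ih]
        simp only [P, Finset.sum_range_succ, add_smul, Finset.sum_add_distrib]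
        abel
    have hsm : ∀ n : ℕ, (J ^ n • ⊤ : Submodule S S) = J ^ n := fun n => by rw [smul_eq_mul, Ideal.mul_top]
    have hC : ∀ i, ∃ L, ∀ n, P i n ≡ L [SMOD (J ^ n • ⊤ : Submodule S S)] := fun i => by
      refine IsPrecomplete.prec inferInstance fun {m n} hmn => ?_
      rw [SModEq.sub_mem, hsm]
      rw [show P i m - P i n = - ∑ j ∈ Finset.Ico m n, a (k₀ + j) (r j) i by
        rw [Finset.sum_Ico_eq_sub _ hmn]; simp [P]]
      exact neg_mem (sum_mem fun j hj => Ideal.pow_le_pow_right (by rw [Finset.mem_Ico] at hj; omega) (ha _ _ (hrF j) i))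
    choose L hL using hC
    have hLk : ∀ i, L i ∈ J ^ k₀ := fun i => by
      have h1 := hL i k₀
      rw [SModEq.sub_mem, hsm] at h1
      have h2 : P i k₀ ∈ J ^ k₀ := sum_mem fun j _ => Ideal.pow_le_pow_right (by omega) (ha _ _ (hrF j) i)
      simpa using sub_mem h2 h1
    have hzero : m - ∑ i, L i • v i = 0 := by
      rw [← Submodule.mem_bot S, ← hsep, Submodule.mem_iInf]
      intro p
      obtain ⟨n, hn⟩ : ∃ n : ℕ, p ≤ p₁ + n := ⟨(p - p₁).toNat, by omega⟩
      refine hF hn ?_
      have hJN : J ^ n • N ≤ F (p₁ + n) := by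
        clear hn
        induction n with
        | zero => simpa using hN
        | succ n ih =>
          rw [pow_succ', mul_smul, show p₁ + ((n + 1 : ℕ) : ℤ) = p₁ + n + 1 by push_cast; ring]
          exact (Submodule.smul_mono le_rfl ih).trans (hJ _)
      rw [show m - ∑ i, L i • v i = r n + ∑ i, (P i n - L i) • v i by
        rw [← hP n]; simp only [sub_smul, Finset.sum_sub_distrib]; abel]
      refine add_mem (hF (by omega) (hrF n)) (sum_mem fun i _ => hJN (Submodule.smul_mem_smul ?_ (Submodule.subset_span ⟨i, rfl⟩)))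
      have h1 := hL i n
      rwa [SModEq.sub_mem, hsm] at h1
    rw [sub_eq_zero.mp hzero]
    exact sum_mem fun i _ => Submodule.smul_mem_smul (hLk i) (Submodule.subset_span ⟨i, rfl⟩)
  have hfgF : ∀ k : ℕ, (F (p₁ - k)).FG := by
    intro k
    induction k with
    | zero =>
      rw [Nat.cast_zero, sub_zero, le_antisymm (by simpa using hmain 0 : F p₁ ≤ N) hN]
      exact Submodule.fg_span (Set.finite_range v)
    | succ k ih =>
      refine Submodule.fg_of_fg_map_of_fg_inf_ker (F (p₁ - k)).mkQ ?_ ?_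
      · have h1 := hfg (p₁ - ((k + 1 : ℕ) : ℤ))
        rwa [show p₁ - ((k + 1 : ℕ) : ℤ) + 1 = p₁ - k by push_cast; ring] at h1
      · rw [Submodule.ker_mkQ, inf_eq_right.mpr (hF (by omega))]
        exact ih
  obtain ⟨p₀, hp₀⟩ := hcod
  refine ⟨⟨?_⟩, p₁, fun p hp => le_antisymm (hJ p) ?_⟩
  · obtain ⟨k, hk⟩ : ∃ k : ℕ, p₁ - (k : ℤ) ≤ p₀ := ⟨(p₁ - p₀).toNat, by omega⟩
    rw [← top_le_iff.mp (hp₀ ▸ hF hk : ⊤ ≤ F (p₁ - k))]
    exact hfgF k
  · obtain ⟨k, hk⟩ := Int.le.dest hp
    subst hk
    rw [show p₁ + (k : ℤ) + 1 = p₁ + ((k + 1 : ℕ) : ℤ) by push_cast; ring]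
    refine (hmain (k + 1)).trans ?_
    rw [pow_succ', mul_smul]
    refine Submodule.smul_mono le_rfl ?_
    clear hmain
    induction k with
    | zero => simpa using hN
    | succ n ih =>
      rw [pow_succ', mul_smul, show p₁ + ((n + 1 : ℕ) : ℤ) = p₁ + n + 1 by push_cast; ring]
      exact (Submodule.smul_mono le_rfl (ih (by omega))).trans (hJ _)

end Groth.Agent.S8353
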