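import Groth.Statements.S8354
import Mathlib.Algebra.Homology.DerivedCategory.RightDerivedFunctorPlus
import Mathlib.Algebra.Homology.DerivedCategory.ShortExact
import Mathlib.CategoryTheory.Triangulated.HomologicalFunctor
-- import your own Groth.Agent.* helpers here

set_option autoImplicit false
universe w w' v v' u u'
open CategoryTheory CategoryTheory.Limits
open HomAlg3

namespace Groth.Agent.S8354

/-- Bounded-below case, exactness at the middle term. Let T : C ⥤ D be an additive functor of abelian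
categories, C having enough injectives, and 0 ⟶ K₁ ⟶ K₂ ⟶ K₃ ⟶ 0 a short exact sequence of bounded
below cochain complexes of C. Let R^n T(K) denote the n-th cohomology object of R⁺T(K), where R⁺T is
the right derived functor of T on the bounded below derived category (computed with injective
resolutions). Then R^n T(K₁) ⟶ R^n T(K₂) ⟶ R^n T(K₃) is exact for every n. (The published statement
asserts a long exact sequence with connecting morphisms; this row states exactness at the middle
term only, with the vanishing of the composite carried as a hypothesis.) -/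
theorem result {C : Type u} [Category.{v} C] [Abelian C]
    [EnoughInjectives C] [HasDerivedCategory.{w} C] {D : Type u'} [Category.{v'} D] [Abelian D]
    [HasDerivedCategory.{w'} D] (T : C ⥤ D) [T.Additive] {K₁ K₂ K₃ : CochainComplex.Plus C}
    (φ : K₁ ⟶ K₂) (ψ : K₂ ⟶ K₃) (hφψ : φ.hom ≫ ψ.hom = 0)
    (hS : (ShortComplex.mk φ.hom ψ.hom hφψ).ShortExact) (n : ℤ)
    (hz : (HomotopyCategory.Plus.quotient C ⋙ DerivedCategory.Plus.Qh ⋙ T.rightDerivedFunctorPlus ⋙
          DerivedCategory.Plus.homologyFunctor D n).map φ ≫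
      (HomotopyCategory.Plus.quotient C ⋙ DerivedCategory.Plus.Qh ⋙ T.rightDerivedFunctorPlus ⋙
          DerivedCategory.Plus.homologyFunctor D n).map ψ = 0) :
    (ShortComplex.mk ((HomotopyCategory.Plus.quotient C ⋙ DerivedCategory.Plus.Qh ⋙ T.rightDerivedFunctorPlus ⋙
          DerivedCategory.Plus.homologyFunctor D n).map φ)
      ((HomotopyCategory.Plus.quotient C ⋙ DerivedCategory.Plus.Qh ⋙ T.rightDerivedFunctorPlus ⋙
          DerivedCategory.Plus.homologyFunctor D n).map ψ) hz).Exact := by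
  open CategoryTheory.Pretriangulated in
    exact (by
    let q := HomotopyCategory.Plus.quotient C
    let qI := HomotopyCategory.Plus.quotient (InjectiveObject C)
    let J := (InjectiveObject.ι C).mapHomotopyCategoryPlus
    let Ψ := J ⋙ DerivedCategory.Plus.Qh
    let Φ := J ⋙ T.mapHomotopyCategoryPlus ⋙ DerivedCategory.Plus.Qh
    have res : ∀ K : CochainComplex.Plus C, ∃ (L : HomotopyCategory.Plus (InjectiveObject C)),
        Nonempty (DerivedCategory.Plus.Qh.obj (q.obj K) ≅ Ψ.obj L) ∧ CochainComplex.IsKInjective (J.obj L).1.as := by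
      intro K
      obtain ⟨a, ha⟩ := K.property
      haveI : K.obj.IsStrictlyGE a := ha
      obtain ⟨L, _, i, hi⟩ := CochainComplex.Plus.exists_quasiIso_injective K a
      haveI : QuasiIso i.hom := hi
      haveI : IsIso (DerivedCategory.Plus.Qh.map (q.map i)) := by
        have : IsIso (DerivedCategory.Plus.ι.map (DerivedCategory.Plus.Qh.map (q.map i))) := by
          show IsIso (DerivedCategory.Qh.map ((HomotopyCategory.quotient C _).map i.hom))
          exact (NatIso.isIso_map_iff (DerivedCategory.quotientCompQhIso C).symm _).1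
            ((DerivedCategory.isIso_Q_map_iff_quasiIso _ i.hom).2 inferInstance)
        exact isIso_of_reflects_iso _ DerivedCategory.Plus.ι
      let w := asIso (DerivedCategory.Plus.Qh.map (q.map i))
      exact ⟨qI.obj L, ⟨w⟩,
        inferInstanceAs (CochainComplex.IsKInjective (((InjectiveObject.ι C).mapHomologicalComplex (.up ℤ)).obj L.obj))⟩
    obtain ⟨L₁, ⟨a₁⟩, h₁⟩ := res K₁
    obtain ⟨L₂, ⟨a₂⟩, h₂⟩ := res K₂
    obtain ⟨m, hm⟩ := (DerivedCategory.Plus.Qh_map_bijective_of_isKInjective (J.obj L₁) (J.obj L₂) h₂).2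
      (a₁.inv ≫ DerivedCategory.Plus.Qh.map (q.map φ) ≫ a₂.hom)
    obtain ⟨u, rfl⟩ := J.map_surjective m
    obtain ⟨L₃, v, δ, hT⟩ := distinguished_cocone_triangle u
    let Y := DerivedCategory.Plus.ι (C := C)
    let tri := Y.mapTriangle.obj (Ψ.mapTriangle.obj (Triangle.mk u v δ))
    have htri : tri ∈ distTriang (DerivedCategory C) := Y.map_distinguished _ (Ψ.map_distinguished _ hT)
    let b : ∀ K : CochainComplex.Plus C, DerivedCategory.Q.obj K.obj ≅ Y.obj (DerivedCategory.Plus.Qh.obj (q.obj K)) :=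
      fun K => ((DerivedCategory.quotientCompQhIso C).symm.app K.obj)
    have bnat : ∀ {K K' : CochainComplex.Plus C} (f : K ⟶ K'),
        DerivedCategory.Q.map f.hom ≫ (b K').hom = (b K).hom ≫ Y.map (DerivedCategory.Plus.Qh.map (q.map f)) :=
      fun f => (DerivedCategory.quotientCompQhIso C).inv.naturality f.hom
    have hsq : DerivedCategory.Plus.Qh.map (q.map φ) ≫ a₂.hom = a₁.hom ≫ Ψ.map u := by
      show _ = a₁.hom ≫ DerivedCategory.Plus.Qh.map (J.map u)
      rw [hm, Iso.hom_inv_id_assoc]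
    have comm : (DerivedCategory.triangleOfSES hS).mor₁ ≫ (b K₂ ≪≫ Y.mapIso a₂).hom =
        (b K₁ ≪≫ Y.mapIso a₁).hom ≫ tri.mor₁ := by
      show DerivedCategory.Q.map φ.hom ≫ (b K₂).hom ≫ Y.map a₂.hom = ((b K₁).hom ≫ Y.map a₁.hom) ≫ Y.map (Ψ.map u)
      rw [← Category.assoc, bnat, Category.assoc, Category.assoc, ← Y.map_comp, ← Y.map_comp, hsq]
    let e : DerivedCategory.triangleOfSES hS ≅ tri :=
      isoTriangleOfIso₁₂ _ _ (DerivedCategory.triangleOfSES_distinguished hS) htri
        (b K₁ ≪≫ Y.mapIso a₁) (b K₂ ≪≫ Y.mapIso a₂) comm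
    let a₃ : DerivedCategory.Plus.Qh.obj (q.obj K₃) ≅ Ψ.obj L₃ :=
      Y.preimageIso ((b K₃).symm ≪≫ Triangle.π₃.mapIso e)
    have hsq₂ : DerivedCategory.Plus.Qh.map (q.map ψ) ≫ a₃.hom = a₂.hom ≫ Ψ.map v := by
      refine Y.map_injective ?_
      have h := e.hom.comm₂
      have h' : DerivedCategory.Q.map ψ.hom ≫ e.hom.hom₃ = ((b K₂).hom ≫ Y.map a₂.hom) ≫ Y.map (Ψ.map v) := h
      rw [Y.map_comp, Y.map_comp, ← cancel_epi (b K₂).hom, ← Category.assoc ((b K₂).hom) (Y.map a₂.hom), ← h',
        ← Category.assoc, ← bnat]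
      simp [a₃]
      try rfl
    haveI : IsIso (Functor.whiskerLeft J T.rightDerivedFunctorPlusUnit) := by
      refine @NatIso.isIso_of_isIso_app _ _ _ _ _ _ _ (fun X => ?_)
      exact inferInstanceAs (IsIso (T.rightDerivedFunctorPlusUnit.app ((InjectiveObject.ι C).mapHomotopyCategoryPlus.obj X)))
    let η : Ψ ⋙ T.rightDerivedFunctorPlus ≅ Φ := (asIso (Functor.whiskerLeft J T.rightDerivedFunctorPlusUnit)).symm
    let Hn := DerivedCategory.Plus.homologyFunctor D n
    let R := T.rightDerivedFunctorPlus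
    have hex := Hn.map_distinguished_exact _ (Φ.map_distinguished _ hT)
    refine ShortComplex.exact_of_iso ?_ hex
    refine ShortComplex.isoMk (Hn.mapIso ((η.app L₁).symm ≪≫ R.mapIso a₁.symm))
      (Hn.mapIso ((η.app L₂).symm ≪≫ R.mapIso a₂.symm)) (Hn.mapIso ((η.app L₃).symm ≪≫ R.mapIso a₃.symm)) ?_ ?_
    · show Hn.map (η.inv.app L₁ ≫ R.map a₁.inv) ≫ Hn.map (R.map (DerivedCategory.Plus.Qh.map (q.map φ))) =
        Hn.map (Φ.map u) ≫ Hn.map (η.inv.app L₂ ≫ R.map a₂.inv)
      rw [← Hn.map_comp, ← Hn.map_comp, ← Category.assoc (Φ.map u), η.inv.naturality u, Category.assoc, Category.assoc]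
      show Hn.map (η.inv.app L₁ ≫ R.map a₁.inv ≫ R.map (DerivedCategory.Plus.Qh.map (q.map φ))) =
        Hn.map (η.inv.app L₁ ≫ R.map (Ψ.map u) ≫ R.map a₂.inv)
      rw [← R.map_comp, ← R.map_comp, (Iso.inv_comp_eq a₁).2 ((Iso.eq_comp_inv a₂).2 hsq |>.trans (Category.assoc _ _ _))]
    · show Hn.map (η.inv.app L₂ ≫ R.map a₂.inv) ≫ Hn.map (R.map (DerivedCategory.Plus.Qh.map (q.map ψ))) =
        Hn.map (Φ.map v) ≫ Hn.map (η.inv.app L₃ ≫ R.map a₃.inv)
      rw [← Hn.map_comp, ← Hn.map_comp, ← Category.assoc (Φ.map v), η.inv.naturality v, Category.assoc, Category.assoc]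
      show Hn.map (η.inv.app L₂ ≫ R.map a₂.inv ≫ R.map (DerivedCategory.Plus.Qh.map (q.map ψ))) =
        Hn.map (η.inv.app L₂ ≫ R.map (Ψ.map v) ≫ R.map a₃.inv)
      rw [← R.map_comp, ← R.map_comp, (Iso.inv_comp_eq a₂).2 ((Iso.eq_comp_inv a₃).2 hsq₂ |>.trans (Category.assoc _ _ _))])

end Groth.Agent.S8354
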