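import Groth.Statements.S8358
import Mathlib
-- import your own Groth.Agent.* helpers here

set_option autoImplicit false
set_option backward.isDefEq.respectTransparency.types false
universe u
open CategoryTheory MonObj AlgebraicGeometry
open LieS

namespace Groth.Agent.S8358

open WithConv

/-- First isomorphism: over an affine base: for a commutative ring R, a commutative group M, the
diagonalisable group D(M) = Spec R[M] over Spec R and a commutative R-algebra B, the group
Lie(D(M))(Spec B) is identified with the additive group Hom(M, B) of group homomorphisms: there is a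
multiplicative isomorphism which sends a point v of D(M) with values in B[ε], read as an R-algebra
homomorphism from R[M] to B[ε], to the homomorphism m ↦ (ε-coefficient of the image of m), and which
carries the rescaling action of b in B to multiplication of homomorphisms by b. -/
theorem result (R : Type u) [CommRing R] (M : Type) [AddCommGroup M]
    (B : Type u) [CommRing B] [Algebra R B] :
    ∃ e : LieS.LieR (Red.diag R M) B ≃* Multiplicative (M →+ B),
      (∀ (v : LieS.LieR (Red.diag R M) B) (m : M),
        Multiplicative.toAdd (e v) m =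
          TrivSqZeroExt.snd (((Spec.mapMulEquiv.symm ((LieS.dptIso B).inv ≫ v.1)).ofConv :
            MonoidAlgebra R (Multiplicative M) →ₐ[R] DualNumber B)
            (MonoidAlgebra.single (Multiplicative.ofAdd m) 1))) ∧
      ∀ (b : B) (v : LieS.LieR (Red.diag R M) B),
        e (b • v) = Multiplicative.ofAdd (b • Multiplicative.toAdd (e v)) := by
  let f := Spec.map (CommRingCat.ofHom (algebraMap R B))
  let W := DualNumber B
  let Φ : (LieS.dpt B f ⟶ Red.diag R M) →* WithConv (MonoidAlgebra R (Multiplicative M) →ₐ[R] W) :=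
    { toFun := fun v => Spec.mapMulEquiv.symm ((LieS.dptIso (R := R) B).inv ≫ v)
      map_one' := (congrArg _ (MonObj.comp_one _)).trans (map_one _)
      map_mul' := fun v w => (congrArg _ (MonObj.comp_mul _ _ _)).trans (map_mul _ _ _) }
  have Φinj : Function.Injective Φ := fun v w h => by
    have := (Spec.mapMulEquiv (R := R) (S := MonoidAlgebra R (Multiplicative M)) (T := W)).symm.injective h
    exact (cancel_epi (LieS.dptIso B).inv).mp this
  have Φsurj : Function.Surjective Φ := fun a => ⟨(LieS.dptIso B).hom ≫ Spec.mapMulEquiv (R := R) a, by simp [Φ]⟩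
  have Φapp : ∀ v, Spec.map (CommRingCat.ofHom (Φ v).ofConv.toRingHom) = v.left := fun v => by
    have h : Spec.mapMulEquiv (R := R) (Φ v) = (LieS.dptIso B).inv ≫ v := by simp [Φ]
    have h2 := congrArg (fun k => k.left) h
    exact h2.trans (Category.id_comp v.left)
  let x : M → MonoidAlgebra R (Multiplicative M) := fun m => MonoidAlgebra.single (Multiplicative.ofAdd m) 1
  have hzero : ∀ v : LieS.dpt B f ⟶ Red.diag R M,
      v ∈ LieS.LieR (Red.diag R M) B ↔ ∀ m, TrivSqZeroExt.fst ((Φ v).ofConv (x m)) = 1 := by
    intro v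
    rw [LieS.mem_Lie_iff]
    let ip : LieS.pt B f ≅ (Spec (CommRingCat.of B)).asOver (Spec (CommRingCat.of R)) :=
      Over.isoMk (Iso.refl (Spec (CommRingCat.of B))) (Category.id_comp _)
    have h1 : LieS.zeroSec B f ≫ v = 1 ↔
        Spec.mapMulEquiv (R := R) (toConv ((TrivSqZeroExt.fstHom R B B).comp (Φ v).ofConv)) = 1 := by
      have e : Spec.mapMulEquiv (R := R) (toConv ((TrivSqZeroExt.fstHom R B B).comp (Φ v).ofConv)) =
          ip.inv ≫ (LieS.zeroSec B f ≫ v) := by
        apply Over.OverMorphism.ext
        show Spec.map (CommRingCat.ofHom ((TrivSqZeroExt.fstHom R B B).comp (Φ v).ofConv).toRingHom) =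
          𝟙 _ ≫ Spec.map (CommRingCat.ofHom (TrivSqZeroExt.fstHom B B B).toRingHom) ≫ v.left
        rw [Category.id_comp, ← Φapp v]
        refine Eq.trans ?_ (Spec.map_comp _ _)
        rfl
      rw [e]
      refine ⟨fun h => by rw [h, MonObj.comp_one], fun h => ?_⟩
      rw [← cancel_epi ip.inv, h, MonObj.comp_one]
    rw [h1, EmbeddingLike.map_eq_one_iff]
    constructor
    · intro h m
      have := congrArg (fun a : WithConv (MonoidAlgebra R (Multiplicative M) →ₐ[R] B) => a.ofConv (x m)) h
      simpa [x, AlgHom.convOne_def] using this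
    · intro h
      apply WithConv.ofConv_injective
      apply MonoidAlgebra.algHom_ext
      case single_one_left => exact Subsingleton.elim _ _
      intro m
      simpa [x, AlgHom.convOne_def] using h (Multiplicative.toAdd m)
  have hmulx : ∀ (a b : WithConv (MonoidAlgebra R (Multiplicative M) →ₐ[R] W)) m,
      (a * b).ofConv (x m) = a.ofConv (x m) * b.ofConv (x m) := fun a b m => by
    simp [AlgHom.convMul_def, x]
  have hxadd : ∀ m n, x (m + n) = x m * x n := fun m n => by
    simp [x, MonoidAlgebra.single_mul_single]
  let D : LieS.LieR (Red.diag R M) B → (M →+ B) := fun v =>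
    AddMonoidHom.mk' (fun m => TrivSqZeroExt.snd ((Φ v.1).ofConv (x m))) fun m n => by
      rw [hxadd, map_mul, TrivSqZeroExt.snd_mul, (hzero v.1).1 v.2 m, (hzero v.1).1 v.2 n]
      rw [one_smul, MulOpposite.op_one, one_smul, add_comm]
  let E : LieS.LieR (Red.diag R M) B →* Multiplicative (M →+ B) :=
    MonoidHom.mk' (fun v => Multiplicative.ofAdd (D v)) fun v w => by
      rw [← ofAdd_add]
      congr 1
      ext m
      show TrivSqZeroExt.snd ((Φ (v.1 * w.1)).ofConv (x m)) = _
      rw [map_mul, hmulx, TrivSqZeroExt.snd_mul, (hzero v.1).1 v.2 m, (hzero w.1).1 w.2 m]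
      rw [one_smul, MulOpposite.op_one, one_smul, add_comm]
      rfl
  have Ebij : Function.Bijective E := by
    constructor
    · intro v w h
      apply Subtype.ext
      apply Φinj
      apply WithConv.ofConv_injective
      apply MonoidAlgebra.algHom_ext
      case single_one_left => exact Subsingleton.elim _ _
      intro m
      obtain ⟨m, rfl⟩ := Multiplicative.ofAdd.surjective m
      refine TrivSqZeroExt.ext (((hzero v.1).1 v.2 m).trans ((hzero w.1).1 w.2 m).symm) ?_
      exact DFunLike.congr_fun (Multiplicative.ofAdd.injective h) m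
    · intro d
      let d' : M →+ B := Multiplicative.toAdd d
      let hd : Multiplicative M →* W :=
        { toFun := fun m => 1 + TrivSqZeroExt.inr (d' (Multiplicative.toAdd m))
          map_one' := by simp
          map_mul' := fun m n => by
            rw [toAdd_mul, map_add, TrivSqZeroExt.inr_add, mul_add, add_mul, add_mul, _root_.one_mul, _root_.mul_one, _root_.one_mul,
              TrivSqZeroExt.inr_mul_inr, add_zero, add_assoc] }
      obtain ⟨v, hv⟩ := Φsurj (toConv (MonoidAlgebra.lift R W (Multiplicative M) hd))
      have hv' : ∀ m, (Φ v).ofConv (x m) = 1 + TrivSqZeroExt.inr (d' m) := fun m => by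
        rw [hv]; simp [x, hd]
      have hmem : v ∈ LieS.LieR (Red.diag R M) B := (hzero v).2 fun m => by
        rw [hv', TrivSqZeroExt.fst_add, TrivSqZeroExt.fst_one, TrivSqZeroExt.fst_inr, add_zero]
      refine ⟨⟨v, hmem⟩, ?_⟩
      apply Multiplicative.toAdd.injective
      ext m
      show TrivSqZeroExt.snd ((Φ v).ofConv (x m)) = _
      rw [hv', TrivSqZeroExt.snd_add, TrivSqZeroExt.snd_one, TrivSqZeroExt.snd_inr, zero_add]
  refine ⟨MulEquiv.ofBijective E Ebij, fun v m => rfl, fun b v => ?_⟩
  apply Multiplicative.toAdd.injective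
  ext m
  show TrivSqZeroExt.snd ((Φ (LieS.scale B f b ≫ v.1)).ofConv (x m)) = b * TrivSqZeroExt.snd ((Φ v.1).ofConv (x m))
  have hs : (Φ (LieS.scale B f b ≫ v.1)).ofConv.toRingHom = (LieS.scaleHom b).comp (Φ v.1).ofConv.toRingHom := by
    have := Φapp (LieS.scale B f b ≫ v.1)
    have h2 : (LieS.scale B f b ≫ v.1).left =
        Spec.map (CommRingCat.ofHom ((LieS.scaleHom b).comp (Φ v.1).ofConv.toRingHom)) := by
      rw [CommRingCat.ofHom_comp, Spec.map_comp, Φapp v.1]; rfl
    exact congrArg CommRingCat.Hom.hom (Spec.map_injective (this.trans h2))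
  rw [show (Φ (LieS.scale B f b ≫ v.1)).ofConv (x m) = LieS.scaleHom b ((Φ v.1).ofConv (x m)) from RingHom.congr_fun hs (x m)]
  simp [LieS.scaleHom, TrivSqZeroExt.algebraMap_eq_inl']
  exact _root_.mul_comm _ _

end Groth.Agent.S8358
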