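import Groth.Statements.S8359
import Groth.Agent.MultHopf.CentralRigid
import Groth.Agent.MultHopf.KerPts
-- import your own Groth.Agent.* helpers here

set_option autoImplicit false
universe u
open CategoryTheory MonObj AlgebraicGeometry
open Red

namespace Groth.Agent.S8359

open Groth.Agent.MultHopf Limits WithConv
open scoped TensorProduct

theorem pullback_map_eq_one {R L : Type u} [CommRing R] [CommRing L] [IsLocalRing L]
    (g : Spec (CommRingCat.of L) ⟶ Spec (CommRingCat.of R))
    (I : Ideal R) (hI : IsNilpotent I) (M : Type) [AddCommGroup M] (X : Over (Spec (CommRingCat.of R))) [GrpObj X]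
    (f : Red.diag R M ⟶ X) [IsMonHom f]
    (h : (Over.pullback (Spec.map (CommRingCat.ofHom (Ideal.Quotient.mk I)))).map f = 1) :
    (Over.pullback g).map f = 1 := by
  let e := bcDiag R L g M
  let MU := ULift.{u} (Multiplicative M)
  let w : hspec L (MonoidAlgebra L MU) ⟶ Red.bc g X := e.inv.hom.hom ≫ (Over.pullback g).map f
  let J : Ideal L := I.map (Spec.preimage g).hom
  have hJ : IsNilpotent J := by
    obtain ⟨n, hn⟩ := hI
    exact ⟨n, by rw [← Ideal.map_pow, hn]; exact Ideal.map_bot⟩
  have hw1 : w = 1 := by
    have : IsMonHom e.inv.hom.hom := e.inv.hom.isMonHom_hom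
    refine eq_one_of_nilpotent w (fun C _ _ φ ψ => by rw [map_mul, MonObj.mul_comp]) J hJ ?_
    let Z : Over (Spec (CommRingCat.of L)) := pt (R := L) (MonoidAlgebra (L ⧸ J) MU)
    let x : Z ⟶ Red.bc g (Red.diag R M) := Spec.mapMulEquiv (toConv (redM J)) ≫ e.inv.hom.hom
    let y := (adjMulEquiv g Z (Red.diag R M)).symm x
    let ρ : R ⧸ I →+* MonoidAlgebra (L ⧸ J) MU := Ideal.Quotient.lift I
      ((algebraMap L (MonoidAlgebra (L ⧸ J) MU)).comp (Spec.preimage g).hom) (fun a ha => by
        rw [RingHom.comp_apply, IsScalarTower.algebraMap_apply L (L ⧸ J) (MonoidAlgebra (L ⧸ J) MU),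
          Ideal.Quotient.algebraMap_eq, Ideal.Quotient.eq_zero_iff_mem.2 (Ideal.mem_map_of_mem _ ha), map_zero])
    have h1 : y ≫ f = 1 := by
      refine (map_eq_one_iff _ f).1 h _ (Spec.map (CommRingCat.ofHom ρ)) ?_ y
      show _ = Spec.map (CommRingCat.ofHom (algebraMap L _)) ≫ g
      conv_rhs => rw [← Spec.map_preimage g, ← Spec.map_comp]
      exact (Spec.map_comp _ _).symm.trans rfl
    have h2 := congrArg (adjMulEquiv g Z X) h1
    rw [adjMulEquiv_comp (w := f), map_one, MulEquiv.apply_symm_apply] at h2
    exact (Category.assoc _ _ _).symm.trans h2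
  have h3 : (Over.pullback g).map f = e.hom.hom.hom ≫ w := by
    show _ = e.hom.hom.hom ≫ e.inv.hom.hom ≫ _
    rw [← Category.assoc, show e.hom.hom.hom ≫ e.inv.hom.hom = 𝟙 _ from congrArg (fun z => z.hom.hom) e.hom_inv_id,
      Category.id_comp]
  rw [h3, hw1, MonObj.comp_one]

/-- Over an affine base S = Spec R with S₀ = Spec (R/I) for a nilpotent ideal I: for a commutative group
M, the diagonalisable group D(M) = Spec R[M] over S, a group scheme X locally of finite presentation
over S and a homomorphism f from D(M) to X, if the base change of f to S₀ is the unit homomorphism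
then f is the unit homomorphism. (The published statement is over an arbitrary base scheme with S₀
defined by a nilpotent quasi-coherent ideal; this row is its case of an affine base.) -/
theorem result (R : Type u) [CommRing R] (I : Ideal R) (hI : IsNilpotent I)
    (M : Type) [AddCommGroup M] (X : Over (Spec (CommRingCat.of R))) [GrpObj X]
    [LocallyOfFinitePresentation X.hom] (f : Red.diag R M ⟶ X) [IsMonHom f]
    (h : (Over.pullback (Spec.map (CommRingCat.ofHom (Ideal.Quotient.mk I)))).map f = 1) :
    f = 1 := by
  apply Over.OverMorphism.ext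
  refine hom_ext_atPrimes _ _ fun P => ?_
  let A := MonoidAlgebra R (Multiplicative M)
  let q : Ideal R := P.asIdeal.comap (algebraMap R A)
  let g : Spec (CommRingCat.of (Localization.AtPrime q)) ⟶ Spec (CommRingCat.of R) :=
    Spec.map (CommRingCat.ofHom (algebraMap R (Localization.AtPrime q)))
  let φ : Localization.AtPrime q →+* Localization.AtPrime P.asIdeal :=
    Localization.localRingHom q P.asIdeal (algebraMap R A) rfl
  let T : Over (Spec (CommRingCat.of R)) :=
    Over.mk (Spec.map (CommRingCat.ofHom (algebraMap A (Localization.AtPrime P.asIdeal))) ≫ (Red.diag R M).hom)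
  let y : T ⟶ Red.diag R M := Over.homMk (Spec.map (CommRingCat.ofHom (algebraMap A (Localization.AtPrime P.asIdeal)))) rfl
  have hy : y ≫ f = 1 := by
    refine (map_eq_one_iff g f).1 (pullback_map_eq_one g I hI M X f h) T (Spec.map (CommRingCat.ofHom φ)) ?_ y
    show _ = Spec.map _ ≫ Spec.map (CommRingCat.ofHom (algebraMap R A))
    rw [← Spec.map_comp, ← Spec.map_comp, ← CommRingCat.ofHom_comp, ← CommRingCat.ofHom_comp]
    congr 2
    exact RingHom.ext fun r => Localization.localRingHom_to_map q P.asIdeal (algebraMap R A) rfl r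
  have h2 := congrArg (fun z => z.left) (hy.trans (MonObj.comp_one y).symm)
  exact h2

end Groth.Agent.S8359
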