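import Groth.Statements.S8361
import Groth.Agent.LieSLib.Dual
-- import your own Groth.Agent.* helpers here

set_option autoImplicit false
universe u
open CategoryTheory MonObj AlgebraicGeometry
open LieS

namespace Groth.Agent.S8361

/-- Uniqueness of the bracket: for a group scheme G over a scheme S and an affine S-scheme T = Spec B:
an element of Lie(G/S)(T) is determined by its pull-back along the coordinate-multiplying map from
the iterated dual numbers over T to the dual numbers over T; in particular the bracket of x and y,
the element whose pull-back is the commutator of x read in the second dual coordinate with y read in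
the first, is unique when it exists. -/
theorem result (S : Scheme.{u}) (G : Over S) [GrpObj G] (B : Type u) [CommRing B]
    (f : Spec (CommRingCat.of B) ⟶ S) (x y z z' : LieS.Lie G B f)
    (h : LieS.IsBracket G B f x y z) (h' : LieS.IsBracket G B f x y z') : z = z' := by
  have hz : LieS.mulMap B f ≫ z.1 = LieS.mulMap B f ≫ z'.1 := h.trans h'.symm
  apply Subtype.ext
  have hz' := congrArg (fun p => CommaMorphism.left p) hz
  simp only [Over.comp_left, LieS.mulMap, Over.homMk_left] at hz'
  ext1
  let a : Spec (CommRingCat.of (DualNumber B)) ⟶ G.left := Over.Hom.left z.1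
  let b : Spec (CommRingCat.of (DualNumber B)) ⟶ G.left := Over.Hom.left z'.1
  refine Groth.Agent.LieSLib.spec_hom_ext_of_injective (T := DualNumber B) (T₁ := LieS.D2 B) (LieS.mulHom B) ?_ ?_ (X := G.left) a b ?_
  rotate_left 2
  exact hz'
  · intro a b hab
    have e1 := congrArg (fun t => t.fst.fst) hab
    have e2 := congrArg (fun t => t.snd.snd) hab
    simp only [LieS.mulHom, LieS.dualHom_apply, LieS.toD2, RingHom.coe_comp, Function.comp_apply,
      TrivSqZeroExt.algebraMap_eq_inl', Algebra.algebraMap_self, RingHom.id_apply,
      TrivSqZeroExt.fst_add, TrivSqZeroExt.fst_mul, TrivSqZeroExt.fst_inl, TrivSqZeroExt.snd_add,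
      DualNumber.snd_mul, TrivSqZeroExt.snd_inl, DualNumber.fst_eps, DualNumber.snd_eps,
      mul_zero, zero_mul, add_zero, zero_add, _root_.mul_one, _root_.one_mul] at e1 e2
    exact TrivSqZeroExt.ext e1 e2
  · intro P
    refine ⟨PrimeSpectrum.comap ((algebraMap B (DualNumber B)).comp ((TrivSqZeroExt.fstHom B B B).toRingHom.comp
      (TrivSqZeroExt.fstHom (DualNumber B) (DualNumber B) (DualNumber B)).toRingHom)) P, PrimeSpectrum.ext ?_⟩
    ext a
    have hn : a - algebraMap B (DualNumber B) a.fst ∈ P.asIdeal := by
      refine P.isPrime.mem_of_pow_mem 2 ?_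
      have e : (a - algebraMap B (DualNumber B) a.fst) ^ 2 = 0 := by
        rw [pow_two]
        apply TrivSqZeroExt.ext <;> simp [TrivSqZeroExt.algebraMap_eq_inl']
      rw [e]; exact P.asIdeal.zero_mem
    show algebraMap B (DualNumber B) (((LieS.mulHom B) a).fst.fst) ∈ P.asIdeal ↔ a ∈ P.asIdeal
    have e : ((LieS.mulHom B) a).fst.fst = a.fst := by
      simp [LieS.mulHom, LieS.toD2, TrivSqZeroExt.algebraMap_eq_inl']
    rw [e]
    constructor <;> intro hm
    · simpa using P.asIdeal.add_mem hn hm
    · simpa using P.asIdeal.sub_mem hm hn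

end Groth.Agent.S8361
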