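import Groth.Statements.S8362
import Mathlib.AlgebraicGeometry.Morphisms.IsIso
-- import your own Groth.Agent.* helpers here

set_option autoImplicit false
universe u
open CategoryTheory AlgebraicGeometry
open SGA3

namespace Groth.Agent.S8362

open Limits

theorem bijective_of_sqzero {R A : Type u} [CommRing R] [CommRing A] (ρ : R →+* A) (J : Ideal R) (hJ : J * J = ⊥)
    (φ : A →+* A) (hR : ∀ r, φ (ρ r) = ρ r) (hmod : ∀ a, φ a - a ∈ J.map ρ) : Function.Bijective φ := by
  have hzero : ∀ x ∈ J.map ρ, ∀ y ∈ J.map ρ, x * y = 0 := fun x hx y hy => by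
    have h := Ideal.mul_mem_mul hx hy
    rwa [← Ideal.map_mul, hJ, Ideal.map_bot] at h
  have hfix : ∀ x ∈ J.map ρ, φ x = x := fun x hx => by
    refine Submodule.span_induction ?_ (map_zero φ) ?_ ?_ (hx : x ∈ Submodule.span A (ρ '' (J : Set R)))
    · rintro _ ⟨r, -, rfl⟩; exact hR r
    · intro a b _ _ ha hb; rw [map_add, ha, hb]
    · intro a x hx' hφ
      rw [smul_eq_mul, map_mul, hφ, ← sub_eq_zero, ← sub_mul]
      exact hzero _ (hmod a) _ hx'
  refine ⟨(injective_iff_map_eq_zero φ).2 fun a ha => ?_, fun a => ⟨a - (φ a - a), ?_⟩⟩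
  · have h := hmod a
    rw [ha, zero_sub] at h
    rw [← hfix a (by simpa using (J.map ρ).neg_mem h), ha]
  · rw [map_sub, hfix _ (hmod a)]
    abel

/-- Over an affine base S = Spec R with S₀ = Spec (R/J) for an ideal J of square zero: for an arbitrary
S-scheme X, every S-endomorphism of X inducing the identity on X ×_S S₀ is an automorphism. (The
published statement is over an arbitrary base scheme with a quasi-coherent ideal of square zero;
this row is its case of an affine base, to which it reduces since being an isomorphism is local on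
the base.) -/
theorem result (R : Type u) [CommRing R] (J : Ideal R) (hJ : J * J = ⊥)
    (X : Over (Spec (CommRingCat.of R))) (u : X ⟶ X)
    (h : (Over.pullback (Spec.map (CommRingCat.ofHom (Ideal.Quotient.mk J)))).map u = 𝟙 _) :
    IsIso u := by
  suffices IsIso u.left by
    haveI := this
    exact Over.isoMk (asIso u.left) (Over.w u) |>.isIso_hom
  let i := pullback.fst X.hom (Spec.map (CommRingCat.ofHom (Ideal.Quotient.mk J)))
  have hi : i ≫ u.left = i := by
    have h' := congrArg (fun z => z.left ≫ i) h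
    simpa only [i, Over.pullback_map_left, pullback.lift_fst, Over.id_left, Category.id_comp] using h'
  have key : ∀ V : X.left.Opens, IsAffineOpen V → (∀ x ∈ V, u.left.base x = x) ∧
      (∀ e : V ≤ u.left ⁻¹ᵁ V, Function.Bijective (u.left.appLE V V e)) := by
    intro V hV
    let A := Γ(X.left, V)
    let p : Spec A ⟶ Spec (CommRingCat.of R) := hV.fromSpec ≫ X.hom
    let ρ : R →+* A := (Spec.preimage p).hom
    let k : Spec (CommRingCat.of (A ⧸ J.map ρ)) ⟶ X.left := Spec.map (CommRingCat.ofHom (Ideal.Quotient.mk (J.map ρ))) ≫ hV.fromSpec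
    have hk : k ≫ u.left = k := by
      let q : CommRingCat.of (R ⧸ J) ⟶ CommRingCat.of (A ⧸ J.map ρ) :=
        CommRingCat.ofHom (Ideal.quotientMap (J.map ρ) ρ Ideal.le_comap_map)
      let l : Spec (CommRingCat.of (A ⧸ J.map ρ)) ⟶ pullback X.hom (Spec.map (CommRingCat.ofHom (Ideal.Quotient.mk J))) :=
        pullback.lift k (Spec.map q) (by
          show (_ ≫ hV.fromSpec) ≫ X.hom = _
          rw [Category.assoc]
          show _ ≫ p = _
          rw [← Spec.map_preimage p, ← Spec.map_comp, ← Spec.map_comp]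
          rfl)
      have hl : l ≫ i = k := pullback.lift_fst _ _ _
      rw [← hl, Category.assoc]
      exact congrArg (l ≫ ·) hi
    refine ⟨fun x hx => ?_, fun e => ?_⟩
    · obtain ⟨y, rfl⟩ : x ∈ Set.range hV.fromSpec := by rwa [hV.range_fromSpec]
      have hy : J.map ρ ≤ y.asIdeal := Ideal.map_le_iff_le_comap.2 fun r hr => by
        refine y.isPrime.mem_of_pow_mem 2 ?_
        have hz : r * r = 0 := by simpa [hJ] using Ideal.mul_mem_mul hr hr
        rw [pow_two, ← map_mul, hz, map_zero]
        exact zero_mem _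
      let z : PrimeSpectrum (A ⧸ J.map ρ) :=
        ⟨y.asIdeal.map (Ideal.Quotient.mk _), Ideal.map_isPrime_of_surjective Ideal.Quotient.mk_surjective (by rwa [Ideal.mk_ker])⟩
      have hz : PrimeSpectrum.comap (Ideal.Quotient.mk (J.map ρ)) z = y := PrimeSpectrum.ext (by
        show Ideal.comap _ (Ideal.map _ _) = _
        rw [Ideal.comap_map_of_surjective _ Ideal.Quotient.mk_surjective, ← RingHom.ker_eq_comap_bot, Ideal.mk_ker]
        exact sup_eq_left.2 hy)
      have h1 := congrArg (fun f => f.base z) hk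
      change u.left.base (hV.fromSpec.base (PrimeSpectrum.comap (Ideal.Quotient.mk (J.map ρ)) z)) =
        hV.fromSpec.base (PrimeSpectrum.comap (Ideal.Quotient.mk (J.map ρ)) z) at h1
      rwa [hz] at h1
    · let φ := u.left.appLE V V e
      have hφ : Spec.map φ ≫ hV.fromSpec = hV.fromSpec ≫ u.left := hV.SpecMap_appLE_fromSpec u.left hV e
      refine bijective_of_sqzero ρ J hJ φ.hom (fun r => ?_) fun a => ?_
      · have hp : Spec.map φ ≫ p = p := by
          show Spec.map φ ≫ hV.fromSpec ≫ X.hom = hV.fromSpec ≫ X.hom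
          rw [← Category.assoc, hφ, Category.assoc, Over.w u]
        have := hp
        rw [← Spec.map_preimage p, ← Spec.map_comp] at this
        exact RingHom.congr_fun (congrArg CommRingCat.Hom.hom (Spec.map_injective this)) r
      · rw [← Ideal.Quotient.eq]
        have hk' : Spec.map (φ ≫ CommRingCat.ofHom (Ideal.Quotient.mk (J.map ρ))) =
            Spec.map (CommRingCat.ofHom (Ideal.Quotient.mk (J.map ρ))) := by
          rw [← cancel_mono hV.fromSpec, Spec.map_comp, Category.assoc, hφ, ← Category.assoc]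
          exact hk
        exact RingHom.congr_fun (congrArg CommRingCat.Hom.hom (Spec.map_injective hk')) a
  refine (HasAffineProperty.iff_of_iSup_eq_top (P := MorphismProperty.isomorphisms Scheme.{u}) _
    (iSup_affineOpens_eq_top X.left)).2 fun V => ?_
  have hpre : u.left ⁻¹ᵁ V.1 = V.1 := by
    ext x
    obtain ⟨W, hW, hxW, -⟩ := exists_isAffineOpen_mem_and_subset (x := x) (U := (⊤ : X.left.Opens)) trivial
    show u.left.base x ∈ V.1 ↔ x ∈ V.1
    rw [(key W hW).1 x hxW]
  have this' : IsAffine (u.left ⁻¹ᵁ V.1).toScheme := by rw [hpre]; exact V.2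
  have : IsAffine V.1.toScheme := V.2
  have happ : IsIso (u.left.app V.1) := by
    have hb := (key V.1 V.2).2 hpre.ge
    rw [← ConcreteCategory.isIso_iff_bijective] at hb
    rw [Scheme.Hom.appLE] at hb
    have : IsIso (homOfLE hpre.ge) := ⟨⟨homOfLE hpre.le, Subsingleton.elim _ _, Subsingleton.elim _ _⟩⟩
    exact IsIso.of_isIso_comp_right (u.left.app V.1) (X.left.presheaf.map (homOfLE hpre.ge).op)
  refine ⟨this', ?_⟩
  have htop : IsIso (u.left.app (V.1.ι ''ᵁ ⊤)) := by rw [Scheme.Opens.ι_image_top]; exact happ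
  rw [morphismRestrict_appTop]
  exact @IsIso.comp_isIso _ _ _ _ _ _ _ htop (Functor.map_isIso X.left.presheaf _)

end Groth.Agent.S8362
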