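import Groth.Statements.S8363
-- import your own Groth.Agent.* helpers here

set_option autoImplicit false
set_option backward.isDefEq.respectTransparency.types false
universe u
open CategoryTheory MonObj AlgebraicGeometry
open SGA3

open CategoryTheory CategoryTheory.Limits MonoidalCategory CartesianMonoidalCategory MonObj AlgebraicGeometry
namespace Groth.Agent.S8363

/-- the ring map of a morphism from an affine scheme into an affine open -/
noncomputable def ringPt {B : CommRingCat.{u}} {Z : Scheme.{u}} (U : Z.Opens) [IsAffine (U : Scheme.{u})]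
    (a : Spec B ⟶ Z) (h : Set.range a ⊆ U) : Γ((U : Scheme.{u}), ⊤) ⟶ B :=
  Spec.preimage (IsOpenImmersion.lift U.ι a (by simpa using h) ≫ (U : Scheme.{u}).isoSpec.hom)

theorem ringPt_spec {B : CommRingCat.{u}} {Z : Scheme.{u}} (U : Z.Opens) [IsAffine (U : Scheme.{u})]
    (a : Spec B ⟶ Z) (h : Set.range a ⊆ U) :
    Spec.map (ringPt U a h) ≫ (U : Scheme.{u}).isoSpec.inv ≫ U.ι = a := by
  simp [ringPt]

theorem ringPt_unique {B : CommRingCat.{u}} {Z : Scheme.{u}} (U : Z.Opens) [IsAffine (U : Scheme.{u})]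
    (a : Spec B ⟶ Z) (h : Set.range a ⊆ U) (φ : Γ((U : Scheme.{u}), ⊤) ⟶ B)
    (hφ : Spec.map φ ≫ (U : Scheme.{u}).isoSpec.inv ≫ U.ι = a) : ringPt U a h = φ := by
  apply Spec.map_injective
  rw [← cancel_mono (U : Scheme.{u}).isoSpec.inv, ← cancel_mono U.ι, Category.assoc, Category.assoc, hφ]
  exact ringPt_spec U a h

theorem ringPt_comp {B : CommRingCat.{u}} {Z Z' : Scheme.{u}} (W : Z.Opens) [IsAffine (W : Scheme.{u})]
    (U : Z'.Opens) [IsAffine (U : Scheme.{u})] (m : Z ⟶ Z') (hm : W ≤ m ⁻¹ᵁ U) :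
    ∃ θ : Γ((U : Scheme.{u}), ⊤) ⟶ Γ((W : Scheme.{u}), ⊤), ∀ (φ : Γ((W : Scheme.{u}), ⊤) ⟶ B),
      Spec.map (θ ≫ φ) ≫ (U : Scheme.{u}).isoSpec.inv ≫ U.ι = (Spec.map φ ≫ (W : Scheme.{u}).isoSpec.inv ≫ W.ι) ≫ m := by
  have hr : Set.range ((W : Scheme.{u}).isoSpec.inv ≫ W.ι ≫ m) ⊆ Set.range U.ι := by
    rintro _ ⟨z, rfl⟩
    rw [Scheme.Opens.range_ι]
    exact hm ((W : Scheme.{u}).isoSpec.inv z).2
  refine ⟨Spec.preimage (IsOpenImmersion.lift U.ι _ hr ≫ (U : Scheme.{u}).isoSpec.hom), fun φ => ?_⟩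
  simp

/-- three ring maps congruent modulo a square zero ideal combine to a ring map -/
theorem exists_comb {L B : CommRingCat.{u}} (I : Ideal B) (hI : I * I = ⊥) (a b o : L ⟶ B)
    (ha : ∀ x, a x - o x ∈ I) (hb : ∀ x, b x - o x ∈ I) :
    ∃ φ : L ⟶ B, ∀ x, φ x = a x + b x - o x := by
  have h0 : ∀ x y : B, x ∈ I → y ∈ I → x * y = 0 := fun x y hx hy => by
    have := Ideal.mul_mem_mul hx hy
    rwa [hI, Ideal.mem_bot] at this
  refine ⟨CommRingCat.ofHom
    { toFun := fun x => a x + b x - o x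
      map_one' := by simp
      map_zero' := by simp
      map_add' := fun x y => by simp only [map_add]; ring
      map_mul' := fun x y => by
        simp only [map_mul]
        linear_combination -(h0 _ _ (ha x) (hb y)) - h0 _ _ (hb x) (ha y) }, fun x => rfl⟩

theorem congr_of_comp_eq {B : CommRingCat.{u}} {Z : Scheme.{u}} (U : Z.Opens) [IsAffine (U : Scheme.{u})]
    (I : Ideal B) (a b : Spec B ⟶ Z) (ha : Set.range a ⊆ U) (hb : Set.range b ⊆ U)
    (h : Spec.map (CommRingCat.ofHom (Ideal.Quotient.mk I)) ≫ a = Spec.map (CommRingCat.ofHom (Ideal.Quotient.mk I)) ≫ b)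
    (x : Γ((U : Scheme.{u}), ⊤)) : ringPt U a ha x - ringPt U b hb x ∈ I := by
  rw [← Ideal.Quotient.eq]
  have e : ringPt U a ha ≫ CommRingCat.ofHom (Ideal.Quotient.mk I) = ringPt U b hb ≫ CommRingCat.ofHom (Ideal.Quotient.mk I) := by
    apply Spec.map_injective
    rw [← cancel_mono (U : Scheme.{u}).isoSpec.inv, ← cancel_mono U.ι, Spec.map_comp, Spec.map_comp]
    simp only [Category.assoc, ringPt_spec]
    exact h
  exact congrArg (fun f => f x) e

theorem mul_formula {R : Type u} [CommRing R] (J : Ideal R) (hJ : J * J = ⊥)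
    (X : Over (Spec (CommRingCat.of R))) [GrpObj X] (Y : Over (Spec (CommRingCat.of R))) (g g' : Y ⟶ X)
    (hg : pullback.fst Y.hom (Spec.map (CommRingCat.ofHom (Ideal.Quotient.mk J))) ≫ g.left =
      pullback.fst Y.hom (Spec.map (CommRingCat.ofHom (Ideal.Quotient.mk J))) ≫ (1 : Y ⟶ X).left)
    (hg' : pullback.fst Y.hom (Spec.map (CommRingCat.ofHom (Ideal.Quotient.mk J))) ≫ g'.left =
      pullback.fst Y.hom (Spec.map (CommRingCat.ofHom (Ideal.Quotient.mk J))) ≫ (1 : Y ⟶ X).left)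
    (y : Y.left) :
    ∃ (V : Y.left.Opens), y ∈ V ∧ V.ι ≫ (g * g').left = V.ι ≫ (g' * g).left := by
  let o : Y ⟶ X := 1
  obtain ⟨U, hU, hyU⟩ : ∃ U : X.left.Opens, IsAffineOpen U ∧ o.left y ∈ U := by
    obtain ⟨_, ⟨U, hU, rfl⟩, hx, -⟩ := X.left.isBasis_affineOpens.exists_subset_of_mem_open (Set.mem_univ (o.left y)) isOpen_univ
    exact ⟨U, hU, hx⟩
  let p₀ := (lift o o).left y
  let W₀ : (X ⊗ X).left.Opens := μ[X].left ⁻¹ᵁ U ⊓ ((fst X X).left ⁻¹ᵁ U ⊓ (snd X X).left ⁻¹ᵁ U)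
  have hp₀ : p₀ ∈ W₀ := by
    refine ⟨?_, ?_, ?_⟩ <;> show _ ∈ U
    · rw [← Scheme.Hom.comp_apply, ← Over.comp_left, ← Hom.mul_def]
      simpa [o] using hyU
    · rw [← Scheme.Hom.comp_apply, ← Over.comp_left, lift_fst]; exact hyU
    · rw [← Scheme.Hom.comp_apply, ← Over.comp_left, lift_snd]; exact hyU
  obtain ⟨W, hW, hpW, hWle⟩ : ∃ W : (X ⊗ X).left.Opens, IsAffineOpen W ∧ p₀ ∈ W ∧ W ≤ W₀ := by
    obtain ⟨_, ⟨W, hW, rfl⟩, hx, hle⟩ := (X ⊗ X).left.isBasis_affineOpens.exists_subset_of_mem_open hp₀ W₀.2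
    exact ⟨W, hW, hx, hle⟩
  obtain ⟨V, hV, hyV, hVle⟩ : ∃ V : Y.left.Opens, IsAffineOpen V ∧ y ∈ V ∧ V ≤ (lift o o).left ⁻¹ᵁ W := by
    obtain ⟨_, ⟨V, hV, rfl⟩, hx, hle⟩ := Y.left.isBasis_affineOpens.exists_subset_of_mem_open
      (show y ∈ (lift o o).left ⁻¹ᵁ W from hpW) ((lift o o).left ⁻¹ᵁ W).2
    exact ⟨V, hV, hx, hle⟩
  haveI : IsAffine (U : Scheme.{u}) := hU
  haveI : IsAffine (W : Scheme.{u}) := hW
  haveI : IsAffine (V : Scheme.{u}) := hV
  refine ⟨V, hyV, ?_⟩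
  rw [← cancel_epi (V : Scheme.{u}).isoSpec.inv]
  let B := Γ((V : Scheme.{u}), ⊤)
  let v : Spec B ⟶ Y.left := (V : Scheme.{u}).isoSpec.inv ≫ V.ι
  rw [← Category.assoc, ← Category.assoc]
  show v ≫ (g * g').left = v ≫ (g' * g).left
  let ρ : CommRingCat.of R ⟶ B := Spec.preimage (v ≫ Y.hom)
  let I : Ideal B := J.map ρ.hom
  have hI : I * I = ⊥ := by rw [← Ideal.map_mul, hJ, Ideal.map_bot]
  let q := Spec.map (CommRingCat.ofHom (Ideal.Quotient.mk I))
  have hqs : Function.Surjective q := by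
    intro p
    have : (p : PrimeSpectrum B) ∈ Set.range (PrimeSpectrum.comap (Ideal.Quotient.mk I)) := by
      rw [range_comap_of_surjective _ _ Ideal.Quotient.mk_surjective, Ideal.mk_ker]
      refine (PrimeSpectrum.mem_zeroLocus _ _).2 ?_
      intro x hx
      have : x * x = 0 := by
        have := Ideal.mul_mem_mul hx hx
        rwa [hI, Ideal.mem_bot] at this
      rcases p.isPrime.mem_or_mem (this ▸ Submodule.zero_mem _ : x * x ∈ p.asIdeal) with h | h <;> exact h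
    exact this
  let k : Spec (CommRingCat.of (B ⧸ I)) ⟶ pullback Y.hom (Spec.map (CommRingCat.ofHom (Ideal.Quotient.mk J))) :=
    pullback.lift (q ≫ v) (Spec.map (CommRingCat.ofHom (Ideal.quotientMap I ρ.hom Ideal.le_comap_map))) (by
      rw [Category.assoc, ← Spec.map_preimage (v ≫ Y.hom), ← Spec.map_comp, ← Spec.map_comp]
      congr 1)
  have hq : ∀ a : Y ⟶ X, pullback.fst Y.hom (Spec.map (CommRingCat.ofHom (Ideal.Quotient.mk J))) ≫ a.left =
      pullback.fst Y.hom (Spec.map (CommRingCat.ofHom (Ideal.Quotient.mk J))) ≫ o.left → q ≫ v ≫ a.left = q ≫ v ≫ o.left := by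
    intro a ha
    have := k ≫= ha
    rwa [pullback.lift_fst_assoc, pullback.lift_fst_assoc, Category.assoc, Category.assoc] at this
  have hcong : ∀ a b : Y ⟶ X, q ≫ v ≫ a.left = q ≫ v ≫ o.left → q ≫ v ≫ b.left = q ≫ v ≫ o.left →
      q ≫ v ≫ (lift a b).left = q ≫ v ≫ (lift o o).left := by
    intro a b ha hb
    apply pullback.hom_ext
    · simp only [Category.assoc]
      show q ≫ v ≫ (lift a b).left ≫ (fst X X).left = q ≫ v ≫ (lift o o).left ≫ (fst X X).left
      rw [← Over.comp_left, ← Over.comp_left, lift_fst, lift_fst]; exact ha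
    · simp only [Category.assoc]
      show q ≫ v ≫ (lift a b).left ≫ (snd X X).left = q ≫ v ≫ (lift o o).left ≫ (snd X X).left
      rw [← Over.comp_left, ← Over.comp_left, lift_snd, lift_snd]; exact hb
  have hrW : ∀ a b : Y ⟶ X, q ≫ v ≫ a.left = q ≫ v ≫ o.left → q ≫ v ≫ b.left = q ≫ v ≫ o.left →
      Set.range (v ≫ (lift a b).left) ⊆ W := by
    rintro a b ha hb _ ⟨p, rfl⟩
    obtain ⟨p', rfl⟩ := hqs p
    rw [← Scheme.Hom.comp_apply, hcong a b ha hb, Scheme.Hom.comp_apply, Scheme.Hom.comp_apply]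
    exact hVle ((V : Scheme.{u}).isoSpec.inv (q p')).2
  have hrU : ∀ a : Y ⟶ X, q ≫ v ≫ a.left = q ≫ v ≫ o.left → Set.range (v ≫ a.left) ⊆ U := by
    rintro a ha _ ⟨p, rfl⟩
    have := (hWle (hrW a a ha ha ⟨p, rfl⟩)).2.1
    change (fst X X).left ((v ≫ (lift a a).left) p) ∈ U at this
    rwa [← Scheme.Hom.comp_apply, Category.assoc, ← Over.comp_left, lift_fst] at this
  -- the formula
  have formula : ∀ a b : Y ⟶ X, q ≫ v ≫ a.left = q ≫ v ≫ o.left → q ≫ v ≫ b.left = q ≫ v ≫ o.left →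
      ∃ φ : Γ((U : Scheme.{u}), ⊤) ⟶ B, Spec.map φ ≫ (U : Scheme.{u}).isoSpec.inv ≫ U.ι = v ≫ (a * b).left ∧
        ∀ (Ga Gb Go : Γ((U : Scheme.{u}), ⊤) ⟶ B), Spec.map Ga ≫ (U : Scheme.{u}).isoSpec.inv ≫ U.ι = v ≫ a.left →
          Spec.map Gb ≫ (U : Scheme.{u}).isoSpec.inv ≫ U.ι = v ≫ b.left →
          Spec.map Go ≫ (U : Scheme.{u}).isoSpec.inv ≫ U.ι = v ≫ o.left → ∀ x, φ x = Ga x + Gb x - Go x := by
    intro a b ha hb
    let A := ringPt W (v ≫ (lift a o).left) (hrW a o ha rfl)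
    let Bm := ringPt W (v ≫ (lift o b).left) (hrW o b rfl hb)
    let O := ringPt W (v ≫ (lift o o).left) (hrW o o rfl rfl)
    obtain ⟨Φ, hΦ⟩ := exists_comb I hI A Bm O
      (congr_of_comp_eq W I _ _ _ _ (hcong a o ha rfl)) (congr_of_comp_eq W I _ _ _ _ (hcong o b rfl hb))
    have hcomb : ∀ (m : X ⊗ X ⟶ X), W ≤ m.left ⁻¹ᵁ U → ∀ (Ga Gb Go : Γ((U : Scheme.{u}), ⊤) ⟶ B),
        Spec.map Ga ≫ (U : Scheme.{u}).isoSpec.inv ≫ U.ι = v ≫ (lift a o ≫ m).left →
        Spec.map Gb ≫ (U : Scheme.{u}).isoSpec.inv ≫ U.ι = v ≫ (lift o b ≫ m).left →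
        Spec.map Go ≫ (U : Scheme.{u}).isoSpec.inv ≫ U.ι = v ≫ (lift o o ≫ m).left →
        ∃ φ : Γ((U : Scheme.{u}), ⊤) ⟶ B, (∀ x, φ x = Ga x + Gb x - Go x) ∧
          Spec.map φ ≫ (U : Scheme.{u}).isoSpec.inv ≫ U.ι = (Spec.map Φ ≫ (W : Scheme.{u}).isoSpec.inv ≫ W.ι) ≫ m.left := by
      intro m hm Ga Gb Go hGa hGb hGo
      obtain ⟨θ, hθ⟩ := ringPt_comp (B := B) W U m.left hm
      have cmp : ∀ (F : Γ((W : Scheme.{u}), ⊤) ⟶ B) (G : Γ((U : Scheme.{u}), ⊤) ⟶ B) (c : Y ⟶ X ⊗ X),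
          Spec.map F ≫ (W : Scheme.{u}).isoSpec.inv ≫ W.ι = v ≫ c.left →
          Spec.map G ≫ (U : Scheme.{u}).isoSpec.inv ≫ U.ι = v ≫ (c ≫ m).left → θ ≫ F = G := by
        intro F G c hF hG
        apply Spec.map_injective
        rw [← cancel_mono (U : Scheme.{u}).isoSpec.inv, ← cancel_mono U.ι, Category.assoc, Category.assoc, hθ, hF, hG,
          Over.comp_left, Category.assoc]
      have eA := cmp A Ga _ (ringPt_spec _ _ _) hGa
      have eB := cmp Bm Gb _ (ringPt_spec _ _ _) hGb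
      have eO := cmp O Go _ (ringPt_spec _ _ _) hGo
      refine ⟨θ ≫ Φ, fun x => ?_, hθ Φ⟩
      rw [← eA, ← eB, ← eO]
      exact hΦ (θ x)
    have ext1 : ∀ (G H : Γ((U : Scheme.{u}), ⊤) ⟶ B), (∀ x, G x = H x) → G = H := fun G H h => by ext x; exact h x
    let ga := ringPt U (v ≫ a.left) (hrU a ha)
    let gb := ringPt U (v ≫ b.left) (hrU b hb)
    let go := ringPt U (v ≫ o.left) (hrU o rfl)
    obtain ⟨φ₁, h₁, e₁⟩ := hcomb (fst X X) (fun z hz => (hWle hz).2.1) ga go go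
      (by rw [lift_fst]; exact ringPt_spec _ _ _) (by rw [lift_fst]; exact ringPt_spec _ _ _) (by rw [lift_fst]; exact ringPt_spec _ _ _)
    obtain ⟨φ₂, h₂, e₂⟩ := hcomb (snd X X) (fun z hz => (hWle hz).2.2) go gb go
      (by rw [lift_snd]; exact ringPt_spec _ _ _) (by rw [lift_snd]; exact ringPt_spec _ _ _) (by rw [lift_snd]; exact ringPt_spec _ _ _)
    rw [ext1 φ₁ ga (fun x => by rw [h₁]; ring), ringPt_spec] at e₁
    rw [ext1 φ₂ gb (fun x => by rw [h₂]; ring), ringPt_spec] at e₂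
    have hh : Spec.map Φ ≫ (W : Scheme.{u}).isoSpec.inv ≫ W.ι = v ≫ (lift a b).left := by
      apply pullback.hom_ext
      · refine e₁.symm.trans ?_
        show _ = (v ≫ (lift a b).left) ≫ (fst X X).left
        rw [Category.assoc v, ← Over.comp_left, lift_fst]
      · refine e₂.symm.trans ?_
        show _ = (v ≫ (lift a b).left) ≫ (snd X X).left
        rw [Category.assoc v, ← Over.comp_left, lift_snd]
    obtain ⟨φ₃, h₃, e₃⟩ := hcomb μ[X] (fun z hz => (hWle hz).1) ga gb go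
      (by rw [← Hom.mul_def, show a * o = a from mul_one a]; exact ringPt_spec _ _ _)
      (by rw [← Hom.mul_def, show o * b = b from one_mul b]; exact ringPt_spec _ _ _)
      (by rw [← Hom.mul_def, show o * o = o from one_mul o]; exact ringPt_spec _ _ _)
    rw [hh, Category.assoc, ← Over.comp_left, ← Hom.mul_def] at e₃
    refine ⟨φ₃, e₃, fun Ga Gb Go hGa hGb hGo x => ?_⟩
    have u₁ : ga = Ga := ringPt_unique _ _ _ _ hGa
    have u₂ : gb = Gb := ringPt_unique _ _ _ _ hGb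
    have u₃ : go = Go := ringPt_unique _ _ _ _ hGo
    rw [h₃, u₁, u₂, u₃]
  obtain ⟨φ, hφ, hφ'⟩ := formula g g' (hq g hg) (hq g' hg')
  obtain ⟨ψ, hψ, hψ'⟩ := formula g' g (hq g' hg') (hq g hg)
  have e : φ = ψ := by
    ext x
    rw [hφ' _ _ _ (ringPt_spec U _ (hrU g (hq g hg))) (ringPt_spec U _ (hrU g' (hq g' hg'))) (ringPt_spec U _ (hrU o rfl)),
      hψ' _ _ _ (ringPt_spec U _ (hrU g' (hq g' hg'))) (ringPt_spec U _ (hrU g (hq g hg))) (ringPt_spec U _ (hrU o rfl))]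
    ring
  rw [← hφ, ← hψ, e]


/-- The kernel of the reduction map is commutative: over an affine base S = Spec R with S₀ = Spec (R/J)
for an ideal J of square zero: for a group scheme X over S and an arbitrary S-scheme Y, the kernel
of the reduction map from X(Y) to X(Y ×_S S₀) = X₀(Y₀) is a commutative group: two Y-valued points
of X whose base changes to S₀ are the unit commute. (The published statement identifies this kernel,
as a group functor, with the commutative functor of homomorphisms from the pulled-back invariant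
differentials of X₀ to J·O_Y, over an arbitrary base with a quasi-coherent ideal of square zero;
this row states only the resulting commutativity, over an affine base.) -/
theorem result (R : Type u) [CommRing R] (J : Ideal R) (hJ : J * J = ⊥)
    (X : Over (Spec (CommRingCat.of R))) [GrpObj X] (Y : Over (Spec (CommRingCat.of R))) (g g' : Y ⟶ X)
    (hg : (Over.pullback (Spec.map (CommRingCat.ofHom (Ideal.Quotient.mk J)))).map g = 1)
    (hg' : (Over.pullback (Spec.map (CommRingCat.ofHom (Ideal.Quotient.mk J)))).map g' = 1) :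
    g * g' = g' * g := by
  have key : ∀ a : Y ⟶ X, (Over.pullback (Spec.map (CommRingCat.ofHom (Ideal.Quotient.mk J)))).map a = 1 →
      pullback.fst Y.hom (Spec.map (CommRingCat.ofHom (Ideal.Quotient.mk J))) ≫ a.left =
      pullback.fst Y.hom (Spec.map (CommRingCat.ofHom (Ideal.Quotient.mk J))) ≫ (1 : Y ⟶ X).left := by
    intro a ha
    have h1 : (Over.pullback (Spec.map (CommRingCat.ofHom (Ideal.Quotient.mk J)))).map (1 : Y ⟶ X) = 1 :=
      map_one (Over.pullback (Spec.map (CommRingCat.ofHom (Ideal.Quotient.mk J)))).homMonoidHom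
    have e := congrArg (fun m => m.left ≫ pullback.fst _ _) (ha.trans h1.symm)
    exact (pullback.lift_fst _ _ _).symm.trans (e.trans (pullback.lift_fst _ _ _))
  choose V hyV hV using mul_formula J hJ X Y g g' (key g hg) (key g' hg')
  refine Over.OverMorphism.ext ((Y.left.openCoverOfIsOpenCover V ?_).hom_ext _ _ fun y => hV y)
  rw [TopologicalSpace.IsOpenCover, eq_top_iff]
  exact fun y _ => TopologicalSpace.Opens.mem_iSup.2 ⟨y, hyV y⟩

end Groth.Agent.S8363
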