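import Groth.Statements.S8364
-- import your own Groth.Agent.* helpers here

set_option autoImplicit false
universe u
open SGA3

namespace Groth.Agent.S8364

theorem bijective_of_sqzero {R A : Type u} [CommRing R] [CommRing A] [Algebra R A] (J : Ideal R) (hJ : J * J = ⊥)
    (φ : A →ₐ[R] A) (hmod : ∀ a, φ a - a ∈ J.map (algebraMap R A)) : Function.Bijective φ := by
  have hzero : ∀ x ∈ J.map (algebraMap R A), ∀ y ∈ J.map (algebraMap R A), x * y = 0 := fun x hx y hy => by
    have h := Ideal.mul_mem_mul hx hy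
    rwa [← Ideal.map_mul, hJ, Ideal.map_bot] at h
  have hfix : ∀ x ∈ J.map (algebraMap R A), φ x = x := fun x hx => by
    refine Submodule.span_induction ?_ (map_zero φ) ?_ ?_ (hx : x ∈ Submodule.span A (algebraMap R A '' (J : Set R)))
    · rintro _ ⟨r, -, rfl⟩; exact φ.commutes r
    · intro a b _ _ ha hb; rw [map_add, ha, hb]
    · intro a x hx' hφ
      rw [smul_eq_mul, map_mul, hφ, ← sub_eq_zero, ← sub_mul]
      exact hzero _ (hmod a) _ hx'
  refine ⟨(injective_iff_map_eq_zero φ).2 fun a ha => ?_, fun a => ⟨a - (φ a - a), ?_⟩⟩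
  · have h := hmod a
    rw [ha, zero_sub] at h
    rw [← hfix a (by simpa using (J.map (algebraMap R A)).neg_mem h), ha]
  · rw [map_sub, hfix _ (hmod a)]
    abel

/-- For a commutative ring R, an ideal J of R of square zero, a smooth R-algebra A and the extended
ideal I = J·A, every R-algebra automorphism of A/I lifts to an R-algebra automorphism of A. (The
published statement concerns the automorphism functor of a smooth affine S-scheme E and affine test
schemes Y; this row is the case Y = S = Spec R, E = Spec A, which gives the general one after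
replacing R by the ring of Y.) -/
theorem result (R A : Type u) [CommRing R] [CommRing A] [Algebra R A]
    [Algebra.Smooth R A] (J : Ideal R) (hJ : J * J = ⊥)
    (φ₀ : (A ⧸ Ideal.map (algebraMap R A) J) ≃ₐ[R] (A ⧸ Ideal.map (algebraMap R A) J)) :
    ∃ φ : A ≃ₐ[R] A,
      (Ideal.Quotient.mkₐ R (Ideal.map (algebraMap R A) J)).comp φ.toAlgHom =
        φ₀.toAlgHom.comp (Ideal.Quotient.mkₐ R (Ideal.map (algebraMap R A) J)) := by
  have hnil : IsNilpotent (Ideal.map (algebraMap R A) J) := ⟨2, by rw [pow_two, ← Ideal.map_mul, hJ, Ideal.map_bot]; rfl⟩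
  let I := Ideal.map (algebraMap R A) J
  let mk := Ideal.Quotient.mkₐ R I
  let φ : A →ₐ[R] A := Algebra.FormallySmooth.lift I hnil (φ₀.toAlgHom.comp mk)
  let ψ : A →ₐ[R] A := Algebra.FormallySmooth.lift I hnil (φ₀.symm.toAlgHom.comp mk)
  have hφ : ∀ a, Ideal.Quotient.mk I (φ a) = φ₀ (Ideal.Quotient.mk I a) := fun a =>
    Algebra.FormallySmooth.mk_lift I hnil (φ₀.toAlgHom.comp mk) a
  have hψ : ∀ a, Ideal.Quotient.mk I (ψ a) = φ₀.symm (Ideal.Quotient.mk I a) := fun a =>
    Algebra.FormallySmooth.mk_lift I hnil (φ₀.symm.toAlgHom.comp mk) a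
  have h1 : Function.Bijective (φ.comp ψ) := bijective_of_sqzero J hJ _ fun a => by
    rw [← Ideal.Quotient.eq]
    show Ideal.Quotient.mk I (φ (ψ a)) = Ideal.Quotient.mk I a
    rw [hφ, hψ, AlgEquiv.apply_symm_apply]
  have h2 : Function.Bijective (ψ.comp φ) := bijective_of_sqzero J hJ _ fun a => by
    rw [← Ideal.Quotient.eq]
    show Ideal.Quotient.mk I (ψ (φ a)) = Ideal.Quotient.mk I a
    rw [hψ, hφ, AlgEquiv.symm_apply_apply]
  exact ⟨AlgEquiv.ofBijective φ ⟨Function.Injective.of_comp (f := ψ) h2.1, Function.Surjective.of_comp (g := ψ) h1.2⟩,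
    AlgHom.ext fun a => hφ a⟩

end Groth.Agent.S8364
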