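import Groth.Statements.S8365
import Groth.Agent.LieSLib.Dual
-- import your own Groth.Agent.* helpers here

set_option autoImplicit false
universe u
open CategoryTheory MonObj AlgebraicGeometry
open LieS

namespace Groth.Agent.S8365

/-- For a monoid scheme X over a scheme S (an associative unital monoid object in S-schemes) and an
affine S-scheme T = Spec B, a point of X with values in the dual numbers over T is invertible if and
only if its restriction along the zero section ε = 0 is invertible in X(T); in particular every such
point restricting to the unit section is invertible. (The published statement is for monoid-valued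
functors satisfying a tangent-space exactness condition, which every representable functor
satisfies, and its special case where the restriction is the unit section allows unital composition
laws that need not be associative; this row treats monoid schemes only.) -/
theorem result (S : Scheme.{u}) (X : Over S) [MonObj X] (B : Type u) [CommRing B]
    (f : Spec (CommRingCat.of B) ⟶ S) (v : LieS.dpt B f ⟶ X) :
    IsUnit v ↔ IsUnit (LieS.zeroSec B f ≫ v) := by
  let r : (LieS.dpt B f ⟶ X) →* (LieS.pt B f ⟶ X) :=
    { toFun := fun p => LieS.zeroSec B f ≫ p
      map_one' := MonObj.comp_one _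
      map_mul' := fun p q => MonObj.comp_mul _ p q }
  refine ⟨fun h => h.map r, fun h => ?_⟩
  obtain ⟨u, hu⟩ := h
  let pr : (LieS.pt B f ⟶ X) →* (LieS.dpt B f ⟶ X) :=
    { toFun := fun p => LieS.proj B f ≫ p
      map_one' := MonObj.comp_one _
      map_mul' := fun p q => MonObj.comp_mul _ p q }
  have hpr : ∀ p, LieS.zeroSec B f ≫ pr p = p := fun p => by
    show LieS.zeroSec B f ≫ LieS.proj B f ≫ p = p
    rw [← Category.assoc, LieS.zeroSec_proj, Category.id_comp]
  have hw : LieS.zeroSec B f ≫ (pr ↑u⁻¹ * v) = 1 := by
    rw [MonObj.comp_mul, hpr, ← hu, Units.inv_mul]
  have : v = pr ↑u * (pr ↑u⁻¹ * v) := by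
    rw [← _root_.mul_assoc, ← map_mul, Units.mul_inv, map_one, _root_.one_mul]
  rw [this]
  exact (u.isUnit.map pr).mul (Groth.Agent.LieSLib.isUnit_of_zeroSec hw)

end Groth.Agent.S8365
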