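import Groth.Statements.S8366
import Mathlib
import Groth.Agent.FlatBasics.DeformFlat
-- import your own Groth.Agent.* helpers here

set_option autoImplicit false
set_option backward.isDefEq.respectTransparency.types false
universe u
open CategoryTheory MonoidalCategory MonObj AlgebraicGeometry
open SGA3

namespace Groth.Agent.S8366

open CategoryTheory CategoryTheory.Limits MonoidalCategory CartesianMonoidalCategory MonObj AlgebraicGeometry in
theorem shear_isIso {S S' : Scheme.{u}} (i : S' ⟶ S) [IsClosedImmersion i] [Surjective i] (hn : IsNilpotent i.ker)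
    (A : Over S) [Flat A.hom] (σ : A ⟶ A) [IsIso ((Over.pullback i).map σ)] : IsIso σ := by
  haveI : IsIso ((Over.pullback i).map σ).left := inferInstanceAs (IsIso ((Over.forget _).map ((Over.pullback i).map σ)))
  haveI : Flat (σ.left ≫ A.hom) := by rw [Over.w σ]; infer_instance
  haveI : IsIso σ.left := by
    refine Groth.Agent.FlatBasics.isIso_of_deform (iX := pullback.fst A.hom i) (iY := pullback.fst A.hom i) (iS := i)
      (f := ((Over.pullback i).map σ).left) (g := pullback.snd A.hom i) (g' := A.hom) hn ?_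
      (IsPullback.of_hasPullback A.hom i) ?_
    · rw [Over.w σ, show ((Over.pullback i).map σ).left ≫ pullback.snd A.hom i = pullback.snd A.hom i from
        Over.w ((Over.pullback i).map σ)]
      exact IsPullback.of_hasPullback A.hom i
    · exact (pullback.lift_fst _ _ _).symm
  haveI : IsIso ((Over.forget S).map σ) := ‹IsIso σ.left›
  exact isIso_of_reflects_iso σ (Over.forget S)

open CategoryTheory MonoidalCategory CartesianMonoidalCategory in
theorem grp_of_div {C : Type*} [Category C] [CartesianMonoidalCategory C] {X : C} (P : X ⊗ X ⟶ X)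
    (hassoc : (P ▷ X) ≫ P = (α_ X X X).hom ≫ (X ◁ P) ≫ P)
    [IsIso (lift (fst X X) P)] [IsIso (lift P (snd X X))]
    (desc : ∀ e₀ : X ⟶ X, fst X X ≫ e₀ = snd X X ≫ e₀ → ∃ uu : 𝟙_ C ⟶ X, toUnit X ≫ uu = e₀) :
    ∃ _ : GrpObj X, MonObj.mul (X := X) = P := by
  let m : ∀ {T : C}, (T ⟶ X) → (T ⟶ X) → (T ⟶ X) := fun a b => lift a b ≫ P
  have comp_m : ∀ {T T' : C} (h : T' ⟶ T) (a b : T ⟶ X), h ≫ m a b = m (h ≫ a) (h ≫ b) := fun h a b => by
    simp only [m, comp_lift_assoc]
  have assoc' : ∀ {T : C} (a b c : T ⟶ X), m (m a b) c = m a (m b c) := fun a b c => by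
    have := congrArg (lift (lift a b) c ≫ ·) hassoc
    simpa [m, lift_whiskerRight_assoc, lift_lift_associator_hom_assoc, lift_whiskerLeft_assoc] using this
  have cancelL : ∀ {T : C} (a x y : T ⟶ X), m a x = m a y → x = y := fun a x y h => by
    have h' : lift a x ≫ lift (fst X X) P = lift a y ≫ lift (fst X X) P := by
      apply CartesianMonoidalCategory.hom_ext <;> simp [h, m] at *
    simpa using congrArg (· ≫ snd X X) ((cancel_mono _).mp h')
  have cancelR : ∀ {T : C} (a x y : T ⟶ X), m x a = m y a → x = y := fun a x y h => by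
    have h' : lift x a ≫ lift P (snd X X) = lift y a ≫ lift P (snd X X) := by
      apply CartesianMonoidalCategory.hom_ext <;> simp [h, m] at *
    simpa using congrArg (· ≫ fst X X) ((cancel_mono _).mp h')
  have divR : ∀ {T : C} (a b : T ⟶ X), ∃ x, m a x = b := fun a b => by
    refine ⟨lift a b ≫ inv (lift (fst X X) P) ≫ snd X X, ?_⟩
    let w := lift a b ≫ inv (lift (fst X X) P)
    have hw : w ≫ lift (fst X X) P = lift a b := by
      show (lift a b ≫ inv (lift (fst X X) P)) ≫ lift (fst X X) P = _
      rw [Category.assoc, IsIso.inv_hom_id, Category.comp_id]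
    have h1 : w ≫ fst X X = a := by simpa using congrArg (· ≫ fst X X) hw
    have h2 : w ≫ P = b := by simpa using congrArg (· ≫ snd X X) hw
    show lift a (lift a b ≫ inv (lift (fst X X) P) ≫ snd X X) ≫ P = b
    rw [show lift a (lift a b ≫ inv (lift (fst X X) P) ≫ snd X X) = w from
      CartesianMonoidalCategory.hom_ext _ _ (by rw [lift_fst, h1]) (by rw [lift_snd]; simp [w]), h2]
  obtain ⟨e₀, he₀⟩ := divR (𝟙 X) (𝟙 X)
  have runit : ∀ {T : C} (a : T ⟶ X), m a (a ≫ e₀) = a := fun a => by
    have := congrArg (a ≫ ·) he₀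
    rwa [comp_m, Category.comp_id] at this
  have lunit : ∀ {T : C} (a c : T ⟶ X), m (a ≫ e₀) c = c := fun a c =>
    cancelL a _ _ (by rw [← assoc', runit])
  have runit' : ∀ {T : C} (a c : T ⟶ X), m c (a ≫ e₀) = c := fun a c =>
    cancelR a _ _ (by rw [assoc', lunit])
  have econst : ∀ {T : C} (a b : T ⟶ X), a ≫ e₀ = b ≫ e₀ := fun a b =>
    (runit' b (a ≫ e₀)).symm.trans (lunit a (b ≫ e₀))
  obtain ⟨uu, huu⟩ := desc e₀ (econst _ _)
  have he : ∀ {T : C} (a : T ⟶ X), toUnit T ≫ uu = a ≫ e₀ := fun a => by
    rw [← huu, ← Category.assoc, comp_toUnit]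
  obtain ⟨vv, hvv⟩ := divR (𝟙 X) (toUnit X ≫ uu)
  have hvv' : m vv (𝟙 X) = toUnit X ≫ uu := by
    apply cancelL (𝟙 X)
    rw [← assoc', hvv, he (𝟙 X), lunit, runit]
  letI : MonObj X :=
    { one := uu
      mul := P
      one_mul := by
        have h1 : uu ▷ X = lift (toUnit _ ≫ uu) (snd (𝟙_ C) X) := by
          apply CartesianMonoidalCategory.hom_ext <;> simp [toUnit_unique (fst (𝟙_ C) X) (toUnit _)]
        rw [h1, he (snd (𝟙_ C) X), leftUnitor_hom]
        exact lunit _ _
      mul_one := by
        have h1 : X ◁ uu = lift (fst X (𝟙_ C)) (toUnit _ ≫ uu) := by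
          apply CartesianMonoidalCategory.hom_ext <;> simp [toUnit_unique (snd X (𝟙_ C)) (toUnit _)]
        rw [h1, he (fst X (𝟙_ C)), rightUnitor_hom]
        exact runit' _ _
      mul_assoc := hassoc }
  exact ⟨{ inv := vv, left_inv := hvv', right_inv := hvv }, rfl⟩

open CategoryTheory MonoidalCategory CartesianMonoidalCategory MonObj in
theorem isIso_shearL {C : Type*} [Category C] [CartesianMonoidalCategory C] (G : C) [GrpObj G] :
    IsIso (lift (fst G G) μ[G]) := by
  refine ⟨lift (fst G G) ((fst G G)⁻¹ * snd G G), ?_, ?_⟩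
  · apply CartesianMonoidalCategory.hom_ext
    · simp
    · simp only [Category.assoc, lift_snd, MonObj.comp_mul, GrpObj.comp_inv, lift_fst, Category.id_comp]
      simp only [MonObj.mul_eq_mul]
      group
  · apply CartesianMonoidalCategory.hom_ext
    · simp
    · simp only [Category.assoc, lift_snd, MonObj.mul_eq_mul, MonObj.comp_mul, lift_fst, Category.id_comp]
      group

open CategoryTheory MonoidalCategory CartesianMonoidalCategory MonObj in
theorem isIso_shearR {C : Type*} [Category C] [CartesianMonoidalCategory C] (G : C) [GrpObj G] :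
    IsIso (lift μ[G] (snd G G)) := by
  refine ⟨lift (fst G G * (snd G G)⁻¹) (snd G G), ?_, ?_⟩
  · apply CartesianMonoidalCategory.hom_ext
    · simp only [Category.assoc, lift_fst, MonObj.comp_mul, GrpObj.comp_inv, lift_snd, Category.id_comp]
      simp only [MonObj.mul_eq_mul]
      group
    · simp
  · apply CartesianMonoidalCategory.hom_ext
    · simp only [Category.assoc, lift_fst, MonObj.mul_eq_mul, MonObj.comp_mul, lift_snd, Category.id_comp]
      group
    · simp

open CategoryTheory AlgebraicGeometry in
theorem isNilpotent_ker_spec {R : Type u} [CommRing R] (I : Ideal R) (h : IsNilpotent I) :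
    IsNilpotent (Spec.map (CommRingCat.ofHom (Ideal.Quotient.mk I))).ker := by
  obtain ⟨n, hn⟩ := h
  refine ⟨n, ?_⟩
  apply Scheme.IdealSheafData.ext_of_isAffine
  rw [Scheme.IdealSheafData.ideal_pow, Pi.pow_apply, Scheme.Hom.ker_apply]
  refine le_bot_iff.mp ?_
  let e := Scheme.ΓSpecIso (CommRingCat.of R)
  let e' := Scheme.ΓSpecIso (CommRingCat.of (R ⧸ I))
  have hle : RingHom.ker ((Spec.map (CommRingCat.ofHom (Ideal.Quotient.mk I))).app ⊤).hom ≤ I.map e.inv.hom := by
    intro x hx
    have hnat := Scheme.ΓSpecIso_naturality (CommRingCat.ofHom (Ideal.Quotient.mk I))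
    have h0 : e'.hom (((Spec.map (CommRingCat.ofHom (Ideal.Quotient.mk I))).app ⊤).hom x) = Ideal.Quotient.mk I (e.hom x) :=
      RingHom.congr_fun (congrArg CommRingCat.Hom.hom hnat) x
    rw [RingHom.mem_ker] at hx
    have hmem : e.hom x ∈ I := Ideal.Quotient.eq_zero_iff_mem.mp
      (h0.symm.trans ((congrArg e'.hom.hom hx).trans (map_zero e'.hom.hom)))
    have := Ideal.mem_map_of_mem e.inv.hom hmem
    rwa [show e.inv.hom (e.hom x) = x from RingHom.congr_fun (congrArg CommRingCat.Hom.hom e.hom_inv_id) x] at this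
  refine (Ideal.pow_right_mono hle n).trans ?_
  rw [← Ideal.map_pow, hn, Ideal.zero_eq_bot, Ideal.map_bot]

/-- Over an affine base S = Spec R with S₀ = Spec (R/I) for a nilpotent ideal I: let X be an S-scheme
which is flat and either quasi-compact or locally of finite presentation over S, and P : X ×_S X → X
a composition law. If P is associative and its base change to S₀ is the multiplication of some
group-scheme structure on X ×_S S₀, then P is the multiplication of a group-scheme structure on X.
(The published statement is over an arbitrary base scheme with S₀ defined by a nilpotent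
quasi-coherent ideal; this row is its case of an affine base.) -/
theorem result (R : Type u) [CommRing R] (I : Ideal R)
    (hI : IsNilpotent I) (X : Over (Spec (CommRingCat.of R))) [Flat X.hom]
    (hX : QuasiCompact X.hom ∨ LocallyOfFinitePresentation X.hom) (P : X ⊗ X ⟶ X)
    (hassoc : (P ▷ X) ≫ P = (α_ X X X).hom ≫ (X ◁ P) ≫ P)
    (h0 : ∃ _ : GrpObj ((Over.pullback (Spec.map (CommRingCat.ofHom (Ideal.Quotient.mk I)))).obj X),
      μ[(Over.pullback (Spec.map (CommRingCat.ofHom (Ideal.Quotient.mk I)))).obj X] =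
        Functor.LaxMonoidal.μ (Over.pullback (Spec.map (CommRingCat.ofHom (Ideal.Quotient.mk I)))) X X ≫ (Over.pullback (Spec.map (CommRingCat.ofHom (Ideal.Quotient.mk I)))).map P) :
    ∃ _ : GrpObj X, μ[X] = P := by
  obtain ⟨iG, hμ⟩ := h0
  let i := Spec.map (CommRingCat.ofHom (Ideal.Quotient.mk I))
  let F := Over.pullback i
  haveI : IsClosedImmersion i := IsClosedImmersion.spec_of_surjective _ Ideal.Quotient.mk_surjective
  obtain ⟨n, hn⟩ := hI
  haveI : Surjective i := by
    constructor
    intro p
    obtain ⟨q, hq⟩ : p ∈ Set.range (PrimeSpectrum.comap (Ideal.Quotient.mk I)) := by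
      rw [range_comap_of_surjective _ _ Ideal.Quotient.mk_surjective, Ideal.mk_ker]
      intro x hx
      exact p.2.mem_of_pow_mem n (show x ^ n ∈ p.asIdeal by
        have := Ideal.pow_mem_pow hx n
        rw [hn] at this
        rw [show x ^ n = 0 from this]; exact zero_mem _)
    exact ⟨q, hq⟩
  have hnil : IsNilpotent i.ker := isNilpotent_ker_spec I ⟨n, hn⟩
  haveI : Flat (X ⊗ X).hom := by
    show Flat (Limits.pullback.fst X.hom X.hom ≫ X.hom)
    infer_instance
  let e := Functor.Monoidal.μIso F X X
  have eμ : e.hom ≫ F.map P = μ[F.obj X] := hμ.symm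
  have efst : e.hom ≫ F.map (CartesianMonoidalCategory.fst X X) = CartesianMonoidalCategory.fst _ _ :=
    Functor.Monoidal.μ_fst F X X
  have esnd : e.hom ≫ F.map (CartesianMonoidalCategory.snd X X) = CartesianMonoidalCategory.snd _ _ :=
    Functor.Monoidal.μ_snd F X X
  have ifst : e.inv ≫ CartesianMonoidalCategory.fst _ _ = F.map (CartesianMonoidalCategory.fst X X) :=
    (Iso.inv_comp_eq e).2 efst.symm
  have isnd : e.inv ≫ CartesianMonoidalCategory.snd _ _ = F.map (CartesianMonoidalCategory.snd X X) :=
    (Iso.inv_comp_eq e).2 esnd.symm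
  haveI sL : IsIso (CartesianMonoidalCategory.lift (CartesianMonoidalCategory.fst X X) P) := by
    haveI : IsIso (F.map (CartesianMonoidalCategory.lift (CartesianMonoidalCategory.fst X X) P)) := by
      have h : F.map (CartesianMonoidalCategory.lift (CartesianMonoidalCategory.fst X X) P) =
          e.inv ≫ CartesianMonoidalCategory.lift (CartesianMonoidalCategory.fst (F.obj X) (F.obj X)) μ[F.obj X] ≫ e.hom := by
        rw [Iso.eq_inv_comp]
        apply (cancel_mono e.inv).mp
        apply CartesianMonoidalCategory.hom_ext <;>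
          simp only [Category.assoc, Iso.hom_inv_id, Category.comp_id, CartesianMonoidalCategory.lift_fst,
            CartesianMonoidalCategory.lift_snd, ifst, isnd, ← F.map_comp, eμ, efst, esnd]
      rw [h]
      haveI := isIso_shearL (F.obj X)
      infer_instance
    exact shear_isIso i hnil (X ⊗ X) _
  haveI sR : IsIso (CartesianMonoidalCategory.lift P (CartesianMonoidalCategory.snd X X)) := by
    haveI : IsIso (F.map (CartesianMonoidalCategory.lift P (CartesianMonoidalCategory.snd X X))) := by
      have h : F.map (CartesianMonoidalCategory.lift P (CartesianMonoidalCategory.snd X X)) =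
          e.inv ≫ CartesianMonoidalCategory.lift μ[F.obj X] (CartesianMonoidalCategory.snd (F.obj X) (F.obj X)) ≫ e.hom := by
        rw [Iso.eq_inv_comp]
        apply (cancel_mono e.inv).mp
        apply CartesianMonoidalCategory.hom_ext <;>
          simp only [Category.assoc, Iso.hom_inv_id, Category.comp_id, CartesianMonoidalCategory.lift_fst,
            CartesianMonoidalCategory.lift_snd, ifst, isnd, ← F.map_comp, eμ, efst, esnd]
      rw [h]
      haveI := isIso_shearR (F.obj X)
      infer_instance
    exact shear_isIso i hnil (X ⊗ X) _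
  haveI : Surjective X.hom := by
    haveI : Surjective (η[F.obj X].left ≫ Limits.pullback.fst X.hom i ≫ X.hom) := by
      have h1 : η[F.obj X].left ≫ Limits.pullback.snd X.hom i = 𝟙 _ := Over.w η[F.obj X]
      rw [Limits.pullback.condition, ← Category.assoc, h1, Category.id_comp]
      infer_instance
    rw [← Category.assoc] at this
    exact Surjective.of_comp (η[F.obj X].left ≫ Limits.pullback.fst X.hom i) X.hom
  haveI : EffectiveEpi X.hom := by
    rcases hX with h | h <;> infer_instance
  refine grp_of_div P hassoc fun e₀ he => ?_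
  have key : ∀ {Z : Scheme.{u}} (g₁ g₂ : Z ⟶ X.left), g₁ ≫ X.hom = g₂ ≫ X.hom → g₁ ≫ e₀.left = g₂ ≫ e₀.left := by
    intro Z g₁ g₂ hg
    have := congrArg (fun k => (CartesianMonoidalCategory.lift (Over.homMk g₁ : Over.mk (g₁ ≫ X.hom) ⟶ X)
      (Over.homMk g₂ hg.symm : Over.mk (g₁ ≫ X.hom) ⟶ X) ≫ k).left) he
    simpa [CartesianMonoidalCategory.lift_fst_assoc, CartesianMonoidalCategory.lift_snd_assoc] using this
  refine ⟨Over.homMk (EffectiveEpi.desc X.hom e₀.left key) ?_, ?_⟩
  · rw [← cancel_epi X.hom, ← Category.assoc, EffectiveEpi.fac, Over.w]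
    exact (Category.comp_id _).symm
  · apply Over.OverMorphism.ext
    exact EffectiveEpi.fac X.hom e₀.left key

end Groth.Agent.S8366
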