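import Groth.Statements.S8370
import Groth.Agent.LieSLib.Dual
-- import your own Groth.Agent.* helpers here

set_option autoImplicit false
universe u
open CategoryTheory MonObj AlgebraicGeometry
open LieS

namespace Groth.Agent.S8370

/-- A point of `dpt B f` on an affine scheme factors through dual numbers over that scheme. -/
lemma point_case (S : Scheme.{u}) (G K : Over S) [GrpObj G] [GrpObj K] (i : K ⟶ G)
    (B : Type u) [CommRing B] (f : Spec (CommRingCat.of B) ⟶ S) (x : LieS.Lie G B f)
    (hA : ∀ (B' : Type u) [CommRing B'] (h : B →+* B')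
      (k : LieS.pt B' (Spec.map (CommRingCat.ofHom h) ≫ f) ⟶ K),
      LieS.Ad G B' (Spec.map (CommRingCat.ofHom h) ≫ f) (k ≫ i) (LieS.pull G f h x) = LieS.pull G f h x)
    (C : CommRingCat.{u}) (p : Spec C ⟶ S) (y : Over.mk p ⟶ LieS.dpt B f) (k : Over.mk p ⟶ K) :
    (y ≫ x.1) * (k ≫ i) = (k ≫ i) * (y ≫ x.1) := by
  obtain ⟨φ, hφ⟩ : ∃ φ : CommRingCat.of (DualNumber B) ⟶ C, Spec.map φ = y.left := Spec.map_surjective _
  let h : B →+* C := φ.hom.comp (algebraMap B (DualNumber B))
  have hc : φ.hom DualNumber.eps * φ.hom DualNumber.eps = 0 := by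
    rw [← map_mul, LieS.eps_sq, map_zero]
  have hp : p = Spec.map (CommRingCat.ofHom h) ≫ f := by
    calc p = y.left ≫ (Spec.map (CommRingCat.ofHom (algebraMap B (DualNumber B))) ≫ f) := (Over.w y).symm
      _ = _ := by
        rw [← hφ, ← Category.assoc]
        congr 1
        exact (Spec.map_comp _ _).symm
  subst hp
  let σ : Over.mk (Spec.map (CommRingCat.ofHom h) ≫ f) ⟶ LieS.dpt (C : Type u) (Spec.map (CommRingCat.ofHom h) ≫ f) :=
    Over.homMk (Spec.map (CommRingCat.ofHom (LieS.dualHom (RingHom.id C) (φ.hom DualNumber.eps) hc))) (by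
      change Spec.map _ ≫ Spec.map _ ≫ _ = Spec.map _ ≫ f
      rw [← Category.assoc, LieS.specMap_comp, LieS.dualHom_comp_algebraMap, CommRingCat.ofHom_id]
      erw [Spec.map_id, Category.id_comp])
  have hσ : σ ≫ LieS.dptMap f h = y := by
    ext1
    rw [Over.comp_left, ← hφ]
    change Spec.map _ ≫ Spec.map _ = Spec.map _
    rw [LieS.specMap_comp]
    congr 1
    refine CommRingCat.hom_ext (RingHom.ext fun z => ?_)
    change (LieS.dualHom (RingHom.id C) (φ.hom DualNumber.eps) hc) (LieS.bcHom h z) = φ.hom z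
    have e : z = algebraMap B (DualNumber B) z.fst + algebraMap B (DualNumber B) z.snd * DualNumber.eps := by
      apply TrivSqZeroExt.ext <;>
        simp [TrivSqZeroExt.algebraMap_eq_inl', DualNumber.eps, -DualNumber.inr_eq_smul_eps]
    conv_rhs => rw [e, map_add, map_mul]
    simp [LieS.bcHom, h, TrivSqZeroExt.algebraMap_eq_inl']
  have hσp : σ ≫ LieS.proj (C : Type u) _ = 𝟙 _ := by
    ext1
    change Spec.map _ ≫ Spec.map _ = 𝟙 (Spec C)
    rw [LieS.specMap_comp, LieS.dualHom_comp_algebraMap, CommRingCat.ofHom_id]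
    exact Spec.map_id _
  have e := congrArg (fun v => σ ≫ v) (congrArg Subtype.val (hA C h k))
  change σ ≫ ((LieS.proj (C : Type u) _ ≫ k ≫ i) * (LieS.dptMap f h ≫ x.1) * (LieS.proj (C : Type u) _ ≫ k ≫ i)⁻¹) =
    σ ≫ (LieS.dptMap f h ≫ x.1) at e
  rw [MonObj.comp_mul, MonObj.comp_mul, GrpObj.comp_inv, ← Category.assoc σ, ← Category.assoc σ, hσ, hσp,
    Category.id_comp, mul_inv_eq_iff_eq_mul] at e
  exact e.symm

/-- For a group scheme G over a scheme S (the group law of the Lie algebra functor of a group scheme is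
commutative, which the published statement assumes), a sub-group-scheme K of G given by a
monomorphic homomorphism i, and an affine S-scheme T = Spec B: an element x of Lie(G/S)(T) belongs
to the Lie algebra of the centraliser of K, i.e. the point x of G with values in the dual numbers
I_T commutes with every point of K with values in any scheme over I_T, if and only if x is fixed by
the adjoint action of every point of K with values in an affine scheme T' = Spec B' over T (acting
on the restriction of x to T'). -/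
theorem result (S : Scheme.{u}) (G K : Over S) [GrpObj G] [GrpObj K] (i : K ⟶ G)
    [IsMonHom i] [Mono i] (B : Type u) [CommRing B] (f : Spec (CommRingCat.of B) ⟶ S) (x : LieS.Lie G B f) :
    (∀ (X' : Over S) (y : X' ⟶ LieS.dpt B f) (h : X' ⟶ K), (y ≫ x.1) * (h ≫ i) = (h ≫ i) * (y ≫ x.1)) ↔
    (∀ (B' : Type u) [CommRing B'] (h : B →+* B')
      (k : LieS.pt B' (Spec.map (CommRingCat.ofHom h) ≫ f) ⟶ K),
      LieS.Ad G B' (Spec.map (CommRingCat.ofHom h) ≫ f) (k ≫ i) (LieS.pull G f h x) = LieS.pull G f h x) := by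
  constructor
  · intro hc B' _ h k
    apply Subtype.ext
    show (LieS.proj B' _ ≫ k ≫ i) * (LieS.dptMap f h ≫ x.1) * (LieS.proj B' _ ≫ k ≫ i)⁻¹ = LieS.dptMap f h ≫ x.1
    have := hc _ (LieS.dptMap f h) (LieS.proj B' _ ≫ k)
    rw [Category.assoc] at this
    rw [mul_inv_eq_iff_eq_mul, this]
  · intro hA X' y k
    ext1
    refine Scheme.Cover.hom_ext X'.left.affineCover _ _ fun j => ?_
    let e : Over.mk (X'.left.affineCover.f j ≫ X'.hom) ⟶ X' := Over.homMk (X'.left.affineCover.f j) rfl
    suffices hE : e ≫ ((y ≫ x.1) * (k ≫ i)) = e ≫ ((k ≫ i) * (y ≫ x.1)) from congrArg CommaMorphism.left hE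
    rw [MonObj.comp_mul, MonObj.comp_mul, ← Category.assoc, ← Category.assoc]
    exact point_case S G K i B f x hA _ _ (e ≫ y) (e ≫ k)

end Groth.Agent.S8370
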