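import Groth.Statements.S8371
import Groth.Agent.LieSLib.Dual
-- import your own Groth.Agent.* helpers here

set_option autoImplicit false
universe u
open CategoryTheory MonObj AlgebraicGeometry
open LieS

namespace Groth.Agent.S8371

/-- The sequence of Lie algebras, with M = O_S: if 1 → G' → G → G'' → 1 is a sequence of homomorphisms
of group schemes over a scheme S which is exact on points with values in every S-scheme, then for
every affine S-scheme T = Spec B the derived morphisms give an exact sequence 1 → Lie(G'/S)(T) →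
Lie(G/S)(T) → Lie(G''/S)(T) → 1: the first is injective, the second surjective, and the kernel of
the second is the image of the first. -/
theorem result (S : Scheme.{u}) (G' G G'' : Over S) [GrpObj G'] [GrpObj G] [GrpObj G'']
    (i : G' ⟶ G) [IsMonHom i] (q : G ⟶ G'') [IsMonHom q]
    (hex : ∀ T : Over S, Function.Injective (fun a : T ⟶ G' => a ≫ i) ∧
      Function.Surjective (fun b : T ⟶ G => b ≫ q) ∧ ∀ b : T ⟶ G, b ≫ q = 1 ↔ ∃ a : T ⟶ G', a ≫ i = b)
    (B : Type u) [CommRing B] (f : Spec (CommRingCat.of B) ⟶ S) :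
    Function.Injective (LieS.map B f i) ∧ Function.Surjective (LieS.map B f q) ∧
      ∀ v : LieS.Lie G B f, LieS.map B f q v = 1 ↔ ∃ w : LieS.Lie G' B f, LieS.map B f i w = v := by
  obtain ⟨hinj, hsurj, hker⟩ := hex (LieS.dpt B f)
  obtain ⟨hinj0, -, hker0⟩ := hex (LieS.pt B f)
  have hmap : ∀ {H K : Over S} [GrpObj H] [GrpObj K] (φ : H ⟶ K) [IsMonHom φ] (v : LieS.Lie H B f),
      (LieS.map B f φ v).1 = v.1 ≫ φ := fun φ _ v => rfl
  refine ⟨fun a b hab => ?_, fun w => ?_, fun v => ⟨fun hv => ?_, ?_⟩⟩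
  · exact Subtype.ext (hinj (congrArg Subtype.val hab))
  · obtain ⟨b, hb⟩ := hsurj w.1
    dsimp only at hb
    have h0 : (LieS.zeroSec B f ≫ b) ≫ q = 1 := by
      rw [Category.assoc, hb]; exact w.2
    have hd : (LieS.proj B f ≫ LieS.zeroSec B f ≫ b) ≫ q = 1 := by
      rw [Category.assoc, h0, MonObj.comp_one]
    refine ⟨⟨b * (LieS.proj B f ≫ LieS.zeroSec B f ≫ b)⁻¹, ?_⟩, Subtype.ext ?_⟩
    · rw [LieS.mem_Lie_iff, MonObj.comp_mul, GrpObj.comp_inv, ← Category.assoc (LieS.zeroSec B f) (LieS.proj B f),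
        LieS.zeroSec_proj, Category.id_comp, _root_.mul_inv_cancel]
    · rw [hmap]
      show IsMonHom.monoidHom q _ (b * _⁻¹) = _
      rw [map_mul, map_inv]
      show b ≫ q * ((LieS.proj B f ≫ LieS.zeroSec B f ≫ b) ≫ q)⁻¹ = w.1
      rw [hd, hb, _root_.inv_one, _root_.mul_one]
  · obtain ⟨a, ha⟩ := (hker v.1).1 (congrArg Subtype.val hv)
    refine ⟨⟨a, ?_⟩, Subtype.ext ha⟩
    rw [LieS.mem_Lie_iff]
    apply hinj0
    show (LieS.zeroSec B f ≫ a) ≫ i = (1 : _ ⟶ G') ≫ i
    rw [Category.assoc, ha]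
    exact (show LieS.zeroSec B f ≫ v.1 = 1 from v.2).trans ((IsMonHom.monoidHom i _).map_one).symm
  · rintro ⟨w, rfl⟩
    apply Subtype.ext
    rw [hmap, hmap]
    exact (hker _).2 ⟨w.1, rfl⟩

end Groth.Agent.S8371
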