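import Groth.Statements.S8372
import Mathlib
import Groth.Agent.S2964
-- import your own Groth.Agent.* helpers here

set_option autoImplicit false
set_option backward.isDefEq.respectTransparency.types false
universe u
open scoped TensorProduct
open SGA3t2b

namespace Groth.Agent.S8372

section
open TensorProduct
variable {A : Type u} [CommRing A] {L : Type u} [LieRing L] [LieAlgebra A L] [Module.Finite A L]

lemma pow_ad_apply_eq_zero [Module.Projective A L] (H : LieSubalgebra A L) (hH : SGA3t2b.IsCartanRel H) :
    ∃ N : ℕ, ∀ h ∈ H, ∀ x ∈ H, ((LieAlgebra.ad A L h) ^ N) x = 0 := by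
  haveI := hH.1
  obtain ⟨s, hs⟩ := Module.projective_lifting_property H.toSubmodule.mkQ LinearMap.id H.toSubmodule.mkQ_surjective
  have hs' : ∀ z, H.toSubmodule.mkQ (s z) = z := fun z => LinearMap.congr_fun hs z
  let π : L →ₗ[A] H.toSubmodule := (LinearMap.id - s ∘ₗ H.toSubmodule.mkQ).codRestrict H.toSubmodule fun x => by
    rw [← Submodule.Quotient.mk_eq_zero, ← Submodule.mkQ_apply]
    simp only [LinearMap.sub_apply, LinearMap.id_apply, LinearMap.comp_apply, map_sub, hs', sub_self]
  have hπ : π ∘ₗ H.toSubmodule.subtype = LinearMap.id := by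
    refine LinearMap.ext fun x => Subtype.ext ?_
    have : H.toSubmodule.mkQ (x : L) = 0 := (Submodule.Quotient.mk_eq_zero _).mpr x.2
    simp [π, this]
  haveI : Module.Finite A H.toSubmodule := Module.Finite.of_surjective π
    (fun x => ⟨x, LinearMap.congr_fun hπ x⟩)
  haveI : Module.Projective A H.toSubmodule := Module.Projective.of_split H.toSubmodule.subtype π hπ
  haveI : Module.FinitePresentation A H := Module.finitePresentation_of_projective A H.toSubmodule
  haveI : LieRing.IsNilpotent H :=
    (Groth.Agent.S2964.result (A := A) (L := H)).1 fun p => (hH.2 p).1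
  obtain ⟨N, hN⟩ := LieModule.exists_forall_pow_toEnd_eq_zero A H H
  refine ⟨N, fun h hh x hx => ?_⟩
  have key : ∀ (n : ℕ), ((LieAlgebra.ad A L h) ^ n) x =
      (((LieModule.toEnd A H H ⟨h, hh⟩) ^ n) ⟨x, hx⟩ : H) := by
    intro n
    induction n with
    | zero => simp
    | succ n ih => rw [pow_succ', pow_succ', Module.End.mul_apply, Module.End.mul_apply, ih]; simp
  rw [key, hN]
  simp

lemma surj_quot [Module.Projective A L] (H : LieSubalgebra A L) (hH : SGA3t2b.IsCartanRel H) (a : L) (haH : a ∈ H)
    (ha : SGA3t2b.IsQuasiRegular A L a) :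
    Function.Surjective (H.toSubmodule.mapQ H.toSubmodule (LieAlgebra.ad A L a) fun z hz => H.lie_mem haH hz) := by
  obtain ⟨N, hN⟩ := pow_ad_apply_eq_zero H hH
  let q := H.toSubmodule.mkQ
  let ψ : Module.End A (L ⧸ H.toSubmodule) :=
    H.toSubmodule.mapQ H.toSubmodule (LieAlgebra.ad A L a) fun z hz => H.lie_mem haH hz
  have hψ : ∀ z, ψ (q z) = q (LieAlgebra.ad A L a z) := fun z => rfl
  show Function.Surjective ψ
  have hsurj : Function.Surjective ψ := by
    rw [← LinearMap.range_eq_top, ← Submodule.Quotient.subsingleton_iff,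
      ← Module.support_eq_empty_iff (R := A)]
    refine Set.eq_empty_iff_forall_notMem.mpr fun p hp => ?_
    rw [Module.mem_support_iff_nontrivial_residueField_tensorProduct] at hp
    let K := p.asIdeal.ResidueField
    let f := (LieAlgebra.ad A L a).baseChange K
    have had : LieAlgebra.ad K (K ⊗[A] L) ((1 : K) ⊗ₜ[A] a) = f := by
      refine TensorProduct.AlgebraTensorModule.curry_injective ?_
      ext w
      simp [f]
    have hle : SGA3t2b.fibreSubmodule p H ≤ Module.End.maxGenEigenspace f 0 := by
      rw [SGA3t2b.fibreSubmodule, Submodule.baseChange_eq_span, Submodule.span_le]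
      rintro _ ⟨h, hh, rfl⟩
      rw [SetLike.mem_coe, Module.End.mem_maxGenEigenspace]
      refine ⟨N, ?_⟩
      rw [zero_smul, sub_zero, ← LinearMap.baseChange_pow]
      simp [hN a haH h hh]
    have heq : SGA3t2b.fibreSubmodule p H = Module.End.maxGenEigenspace f 0 := by
      refine Submodule.eq_of_le_of_finrank_eq hle ?_
      rw [(hH.2 p).2.2, LinearMap.finrank_maxGenEigenspace_zero_eq, ← had]
      exact ((LieAlgebra.isRegular_iff_natTrailingDegree_charpoly_eq_rank _ _).mp (ha p)).symm
    have hex : LinearMap.ker (q.baseChange K) = SGA3t2b.fibreSubmodule p H := by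
      refine le_antisymm (fun z hz => ?_) ?_
      · have h0 := (lTensor_exact K (LinearMap.exact_subtype_mkQ H.toSubmodule) H.toSubmodule.mkQ_surjective z).mp hz
        obtain ⟨w, rfl⟩ := h0
        induction w with
        | zero => simp
        | tmul c h =>
          rw [LinearMap.lTensor_tmul, show c ⊗ₜ[A] (H.toSubmodule.subtype h) =
            c • ((1 : K) ⊗ₜ[A] (h : L)) by rw [TensorProduct.smul_tmul', smul_eq_mul, mul_one]; rfl]
          exact Submodule.smul_mem _ _ (Submodule.tmul_mem_baseChange_of_mem 1 h.2)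
        | add u v hu hv =>
          rw [map_add]
          refine add_mem (hu ?_) (hv ?_) <;>
            exact (lTensor_exact K (LinearMap.exact_subtype_mkQ H.toSubmodule) H.toSubmodule.mkQ_surjective _).mpr ⟨_, rfl⟩
      · rw [SGA3t2b.fibreSubmodule, Submodule.baseChange_eq_span, Submodule.span_le]
        rintro _ ⟨h, hh, rfl⟩
        simp [q, (Submodule.Quotient.mk_eq_zero H.toSubmodule).mpr hh]
    have hqs : Function.Surjective (q.baseChange K) := LinearMap.lTensor_surjective K H.toSubmodule.mkQ_surjective
    have hinj : Function.Injective (ψ.baseChange K) := by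
      rw [← LinearMap.ker_eq_bot, Submodule.eq_bot_iff]
      intro z hz
      obtain ⟨y, rfl⟩ := hqs z
      have e : ψ.baseChange K (q.baseChange K y) = q.baseChange K (f y) := by
        rw [← LinearMap.comp_apply, ← LinearMap.baseChange_comp]
        rw [show ψ ∘ₗ q = q ∘ₗ LieAlgebra.ad A L a from LinearMap.ext hψ, LinearMap.baseChange_comp]
        rfl
      rw [LinearMap.mem_ker, e, ← LinearMap.mem_ker, hex, heq, Module.End.mem_maxGenEigenspace] at hz
      obtain ⟨k, hk⟩ := hz
      rw [← LinearMap.mem_ker, hex, heq, Module.End.mem_maxGenEigenspace]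
      refine ⟨k + 1, ?_⟩
      rw [zero_smul, sub_zero] at hk ⊢
      rw [pow_succ, Module.End.mul_apply, hk]
    haveI : Module.Finite K (K ⊗[A] (L ⧸ H.toSubmodule)) := inferInstance
    have hs : Function.Surjective (ψ.baseChange K) := LinearMap.injective_iff_surjective.mp hinj
    haveI := hp
    obtain ⟨z, hz⟩ := exists_ne (0 : K ⊗[A] ((L ⧸ H.toSubmodule) ⧸ LinearMap.range ψ))
    obtain ⟨y, rfl⟩ := LinearMap.lTensor_surjective K (LinearMap.range ψ).mkQ_surjective z
    obtain ⟨w, rfl⟩ := hs y
    apply hz
    show (LinearMap.range ψ).mkQ.lTensor K ((ψ.lTensor K) w) = 0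
    rw [← LinearMap.comp_apply, ← LinearMap.lTensor_comp, LinearMap.range_mkQ_comp, LinearMap.lTensor_zero,
      LinearMap.zero_apply]
  exact hsurj

lemma ker_pow_le [Module.Projective A L] (H : LieSubalgebra A L) (hH : SGA3t2b.IsCartanRel H) (a : L) (haH : a ∈ H)
    (ha : SGA3t2b.IsQuasiRegular A L a) (n : ℕ) (x : L) (hx : ((LieAlgebra.ad A L a) ^ n) x = 0) : x ∈ H := by
  let q := H.toSubmodule.mkQ
  let ψ : Module.End A (L ⧸ H.toSubmodule) :=
    H.toSubmodule.mapQ H.toSubmodule (LieAlgebra.ad A L a) fun z hz => H.lie_mem haH hz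
  have hψ : ∀ z, ψ (q z) = q (LieAlgebra.ad A L a z) := fun z => rfl
  have hsurj : Function.Surjective ψ := surj_quot H hH a haH ha
  have hbij := OrzechProperty.bijective_of_surjective_endomorphism ψ hsurj
  have hpow : ∀ k z, (ψ ^ k) (q z) = q (((LieAlgebra.ad A L a) ^ k) z) := by
    intro k
    induction k with
    | zero => intro z; simp
    | succ k ih => intro z; rw [pow_succ', pow_succ', Module.End.mul_apply, Module.End.mul_apply, ih, hψ]
  have h0 : (ψ ^ n) (q x) = (ψ ^ n) 0 := by rw [hpow, hx, map_zero, map_zero]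
  rw [Module.End.pow_apply, Module.End.pow_apply] at h0
  exact (Submodule.Quotient.mk_eq_zero _).mp ((hbij.injective.iterate n) h0)

end

section
open TensorProduct
attribute [local instance] LieRing.ofAssociativeRing LieAlgebra.ofAssociativeAlgebra
lemma natTrailingDegree_map_inj {R S : Type*} [Semiring R] [Semiring S] (f : R →+* S)
    (hf : Function.Injective f) (p : Polynomial R) :
    (p.map f).natTrailingDegree = p.natTrailingDegree := by
  simp [Polynomial.natTrailingDegree, Polynomial.trailingDegree, Polynomial.support_map_of_injective p hf]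

variable {k : Type u} [Field k] {V : Type u} [LieRing V] [LieAlgebra k V] [Module.Finite k V]

lemma engel_regular_nil (a : V) (ha : LieAlgebra.IsRegular k a) (x y : V)
    (hx : x ∈ LieSubalgebra.engel k a) (hy : y ∈ LieSubalgebra.engel k a) :
    y ∈ LieSubalgebra.engel k x := by
  classical
  let K := AlgebraicClosure k
  let i : V →ₗ[k] K ⊗[k] V := TensorProduct.mk k K V 1
  have hi : Function.Injective i := fun v w h => by
    let c := Module.finBasis k V
    refine c.repr.injective (Finsupp.ext fun j => (algebraMap k K).injective ?_)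
    simpa [i, Algebra.smul_def] using congrArg (fun z => (Algebra.TensorProduct.basis K c).repr z j) h
  have hpow : ∀ (u v : V) (n : ℕ), ((LieAlgebra.ad K (K ⊗[k] V) (i u)) ^ n) (i v) =
      i (((LieAlgebra.ad k V u) ^ n) v) := by
    intro u v n
    induction n with
    | zero => rfl
    | succ n ih => rw [pow_succ', pow_succ', Module.End.mul_apply, Module.End.mul_apply, ih]; simp [i]
  have hmem : ∀ u v : V, v ∈ LieSubalgebra.engel k u → i v ∈ LieSubalgebra.engel K (i u) := by
    intro u v hv
    rw [LieSubalgebra.mem_engel_iff] at hv ⊢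
    obtain ⟨n, hn⟩ := hv
    exact ⟨n, by rw [hpow, hn, map_zero]⟩
  let b := Module.finBasis k V
  have hrank : LieAlgebra.rank K (K ⊗[k] V) = LieAlgebra.rank k V := by
    rw [LieAlgebra.rank_eq_natTrailingDegree K (K ⊗[k] V) (Algebra.TensorProduct.basis K b),
      LieAlgebra.rank_eq_natTrailingDegree k V b]
    have e2 : (LieAlgebra.ad K (K ⊗[k] V)).toLinearMap =
        LinearMap.tensorProduct k K V V ∘ₗ (LieAlgebra.ad k V).toLinearMap.baseChange K := by
      refine TensorProduct.AlgebraTensorModule.curry_injective ?_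
      ext v w
      simp [LinearMap.tensorProduct]
    rw [e2, LinearMap.polyCharpoly_baseChange]
    exact natTrailingDegree_map_inj _ (MvPolynomial.map_injective _ (algebraMap k K).injective) _
  have htr : (LieAlgebra.ad K (K ⊗[k] V) (i a)).charpoly.natTrailingDegree = LieAlgebra.rank K (K ⊗[k] V) := by
    have e : LieAlgebra.ad K (K ⊗[k] V) (i a) = (LieAlgebra.ad k V a).baseChange K := by
      refine TensorProduct.AlgebraTensorModule.curry_injective ?_
      ext w
      simp [i]
    rw [e, LinearMap.charpoly_baseChange, natTrailingDegree_map_inj _ (algebraMap k K).injective, hrank]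
    exact (LieAlgebra.isRegular_iff_natTrailingDegree_charpoly_eq_rank _ _).mp ha
  have hreg : LieAlgebra.IsRegular K (i a) :=
    (LieAlgebra.isRegular_iff_natTrailingDegree_charpoly_eq_rank _ _).mpr htr
  set Ea : {LieSubalgebra.engel K z | z ∈ LieSubalgebra.engel K (i a)} :=
    ⟨LieSubalgebra.engel K (i a), i a, LieSubalgebra.self_mem_engel _ _, rfl⟩
  have hbot : IsBot Ea := by
    refine LieAlgebra.engel_isBot_of_isMin ?_ (LieSubalgebra.engel K (i a)) Ea le_rfl ?_
    · exact Cardinal.natCast_le_aleph0.trans <| Cardinal.infinite_iff.mp inferInstance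
    rintro ⟨_, z, hz, rfl⟩ hzx
    suffices LieSubalgebra.engel K z = LieSubalgebra.engel K (i a) from this.ge
    apply LieSubalgebra.toSubmodule_injective
    refine Submodule.eq_of_le_of_finrank_le hzx ?_
    show Module.finrank K (LieSubalgebra.engel K (i a)) ≤ Module.finrank K (LieSubalgebra.engel K z)
    rw [(LieAlgebra.isRegular_iff_finrank_engel_eq_rank K (i a)).mp hreg]
    apply LieAlgebra.rank_le_finrank_engel
  have := hbot ⟨_, i x, hmem a x hx, rfl⟩ (hmem a y hy)
  rw [LieSubalgebra.mem_engel_iff] at this ⊢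
  obtain ⟨n, hn⟩ := this
  rw [hpow] at hn
  exact ⟨n, hi (hn.trans (map_zero i).symm)⟩

end

/-- Over an affine base Spec A: let L be a Lie algebra over the commutative ring A which is a finitely
generated projective A-module, and a an element of L which is quasi-regular (its image in every
fibre κ(p) ⊗ L is a regular element). Then every Cartan subalgebra of L relative to A (locally a
direct summand, with nilpotent self-normalizing fibres) which contains a is the Engel subalgebra
Nil(a, L) of elements killed by a power of ad(a); and a lies in some relative Cartan subalgebra (a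
is regular) if and only if the quotient module of L by Nil(a, L) is projective and ad(a) induces a
bijection of that quotient (injective and surjective modulo Nil(a, L)). -/
theorem result {A : Type u} [CommRing A] {L : Type u} [LieRing L]
    [LieAlgebra A L] [Module.Finite A L] [Module.Projective A L] (a : L) (ha : SGA3t2b.IsQuasiRegular A L a) :
    (∀ H : LieSubalgebra A L, SGA3t2b.IsCartanRel H → a ∈ H → H = LieSubalgebra.engel A a) ∧
    ((∃ H : LieSubalgebra A L, SGA3t2b.IsCartanRel H ∧ a ∈ H) ↔
      (Module.Projective A (L ⧸ (LieSubalgebra.engel A a).toSubmodule) ∧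
        (∀ z : L, ⁅a, z⁆ ∈ LieSubalgebra.engel A a → z ∈ LieSubalgebra.engel A a) ∧
        (∀ y : L, ∃ z : L, ⁅a, z⁆ - y ∈ LieSubalgebra.engel A a))) := by
  classical
  have h1 : ∀ H : LieSubalgebra A L, SGA3t2b.IsCartanRel H → a ∈ H → H = LieSubalgebra.engel A a := by
    intro H hH haH
    obtain ⟨N, hN⟩ := pow_ad_apply_eq_zero H hH
    ext x
    rw [LieSubalgebra.mem_engel_iff]
    exact ⟨fun hx => ⟨N, hN a haH x hx⟩, fun ⟨n, hn⟩ => ker_pow_le H hH a haH ha n x hn⟩
  refine ⟨h1, ?_⟩
  constructor
  · rintro ⟨H, hH, haH⟩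
    have e := h1 H hH haH
    subst e
    refine ⟨hH.1, fun z hz => ?_, fun y => ?_⟩
    · rw [LieSubalgebra.mem_engel_iff] at hz ⊢
      obtain ⟨n, hn⟩ := hz
      exact ⟨n + 1, by rw [pow_succ, Module.End.mul_apply]; exact hn⟩
    · obtain ⟨w, hw⟩ := surj_quot _ hH a haH ha ((LieSubalgebra.engel A a).toSubmodule.mkQ y)
      obtain ⟨z, rfl⟩ := (LieSubalgebra.engel A a).toSubmodule.mkQ_surjective w
      exact ⟨z, (Submodule.Quotient.eq _).mp hw⟩
  · rintro ⟨hproj, hinj0, hsurj0⟩
    haveI := hproj
    set E := LieSubalgebra.engel A a with hE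
    refine ⟨E, ⟨hproj, fun p => ?_⟩, LieSubalgebra.self_mem_engel A a⟩
    let K := p.asIdeal.ResidueField
    let f := (LieAlgebra.ad A L a).baseChange K
    have had : LieAlgebra.ad K (K ⊗[A] L) ((1 : K) ⊗ₜ[A] a) = f := by
      refine TensorProduct.AlgebraTensorModule.curry_injective ?_
      ext w
      simp [f]
    let q := E.toSubmodule.mkQ
    let ψ : Module.End A (L ⧸ E.toSubmodule) :=
      E.toSubmodule.mapQ E.toSubmodule (LieAlgebra.ad A L a) fun z hz => E.lie_mem (LieSubalgebra.self_mem_engel A a) hz
    have hψ : Function.Surjective ψ := fun w => by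
      obtain ⟨y, rfl⟩ := E.toSubmodule.mkQ_surjective w
      obtain ⟨z, hz⟩ := hsurj0 y
      exact ⟨q z, (Submodule.Quotient.eq _).mpr hz⟩
    have hψK : Function.Injective (ψ.baseChange K) := by
      haveI : Module.Finite K (K ⊗[A] (L ⧸ E.toSubmodule)) := inferInstance
      exact LinearMap.injective_iff_surjective.mpr (LinearMap.lTensor_surjective K hψ)
    obtain ⟨s, hs⟩ := Module.projective_lifting_property q LinearMap.id E.toSubmodule.mkQ_surjective
    let π : L →ₗ[A] E.toSubmodule := (LinearMap.id - s ∘ₗ q).codRestrict E.toSubmodule fun x => by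
      rw [← Submodule.Quotient.mk_eq_zero, ← Submodule.mkQ_apply]
      simp only [LinearMap.sub_apply, LinearMap.id_apply, LinearMap.comp_apply, map_sub]
      rw [show E.toSubmodule.mkQ (s (q x)) = q x from LinearMap.congr_fun hs _, sub_self]
    have hπ : π ∘ₗ E.toSubmodule.subtype = LinearMap.id := by
      refine LinearMap.ext fun x => Subtype.ext ?_
      have : q (x : L) = 0 := (Submodule.Quotient.mk_eq_zero _).mpr x.2
      simp [π, this]
    have hle : SGA3t2b.fibreSubmodule p E ≤ Module.End.maxGenEigenspace f 0 := by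
      rw [SGA3t2b.fibreSubmodule, Submodule.baseChange_eq_span, Submodule.span_le]
      rintro _ ⟨h, hh, rfl⟩
      rw [SetLike.mem_coe, Module.End.mem_maxGenEigenspace]
      obtain ⟨n, hn⟩ := (LieSubalgebra.mem_engel_iff A a h).mp hh
      refine ⟨n, ?_⟩
      rw [zero_smul, sub_zero, ← LinearMap.baseChange_pow]
      simp [hn]
    have hker : ∀ z, q.baseChange K z = 0 → z ∈ SGA3t2b.fibreSubmodule p E := by
      intro z hz
      obtain ⟨w, rfl⟩ := (lTensor_exact K (LinearMap.exact_subtype_mkQ E.toSubmodule) E.toSubmodule.mkQ_surjective z).mp hz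
      clear hz
      induction w with
      | zero => simp
      | tmul c h =>
        rw [LinearMap.lTensor_tmul, show c ⊗ₜ[A] (E.toSubmodule.subtype h) =
          c • ((1 : K) ⊗ₜ[A] (h : L)) by rw [TensorProduct.smul_tmul', smul_eq_mul, mul_one]; rfl]
        exact Submodule.smul_mem _ _ (Submodule.tmul_mem_baseChange_of_mem 1 h.2)
      | add u v hu hv => rw [map_add]; exact add_mem hu hv
    have hcomm : ∀ n y, q.baseChange K ((f ^ n) y) = ((ψ.baseChange K) ^ n) (q.baseChange K y) := by
      intro n
      induction n with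
      | zero => intro y; simp
      | succ n ih =>
        intro y
        rw [pow_succ', pow_succ', Module.End.mul_apply, Module.End.mul_apply, ← ih,
          ← LinearMap.comp_apply, ← LinearMap.baseChange_comp,
          show q ∘ₗ LieAlgebra.ad A L a = ψ ∘ₗ q from rfl, LinearMap.baseChange_comp]
        rfl
    have heq : SGA3t2b.fibreSubmodule p E = Module.End.maxGenEigenspace f 0 := by
      refine le_antisymm hle fun z hz => hker z ?_
      obtain ⟨n, hn⟩ := (Module.End.mem_maxGenEigenspace _ _ _).mp hz
      rw [zero_smul, sub_zero] at hn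
      have h' := hcomm n z
      rw [hn, map_zero, Module.End.pow_apply] at h'
      exact hψK.iterate n (h'.symm.trans (Function.iterate_fixed (map_zero _) n).symm)
    have hself : (1 : K) ⊗ₜ[A] a ∈ SGA3t2b.fibreSubmodule p E :=
      Submodule.tmul_mem_baseChange_of_mem 1 (LieSubalgebra.self_mem_engel A a)
    refine ⟨?_, fun x hx => ?_, ?_⟩
    · let j : K ⊗[A] E →ₗ[K] K ⊗[A] L := E.toSubmodule.subtype.baseChange K
      have hj : Function.Injective j := by
        refine Function.LeftInverse.injective (g := π.baseChange K) fun z => ?_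
        show (π.baseChange K) ((E.toSubmodule.subtype.baseChange K) z) = z
        rw [← LinearMap.comp_apply, ← LinearMap.baseChange_comp, hπ, LinearMap.baseChange_id]
        rfl
      have hjl : ∀ u v : K ⊗[A] E, j (LieAlgebra.ad K (K ⊗[A] E) u v) =
          LieAlgebra.ad K (K ⊗[A] L) (j u) (j v) := by
        intro u v
        induction u with
        | zero => simp only [map_zero, LinearMap.zero_apply]
        | tmul c x =>
          induction v with
          | zero => simp only [map_zero]
          | tmul d y => rfl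
          | add v w hv hw => simp only [map_add, hv, hw]
        | add u w hu hw => simp only [map_add, LinearMap.add_apply, hu, hw]
      have hjE : ∀ u, j u ∈ SGA3t2b.fibreSubmodule p E := fun u => hker _ (by
        show (q.baseChange K) ((E.toSubmodule.subtype.baseChange K) u) = 0
        rw [← LinearMap.comp_apply, ← LinearMap.baseChange_comp,
          show q ∘ₗ E.toSubmodule.subtype = 0 from LinearMap.ext fun x => (Submodule.Quotient.mk_eq_zero _).mpr x.2,
          LinearMap.baseChange_zero, LinearMap.zero_apply])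
      haveI : Module.Finite A E := Module.Finite.of_surjective π
        (fun x => ⟨x, LinearMap.congr_fun hπ x⟩)
      haveI : Module.Finite K (K ⊗[A] E) := inferInstance
      refine (LieAlgebra.isNilpotent_iff_forall (R := K)).mpr fun u => ?_
      rw [Module.End.isNilpotent_iff_of_finite]
      intro v
      have hu : j u ∈ LieSubalgebra.engel K ((1 : K) ⊗ₜ[A] a) := by
        show j u ∈ Module.End.maxGenEigenspace (LieAlgebra.ad K (K ⊗[A] L) ((1 : K) ⊗ₜ[A] a)) 0
        rw [had, ← heq]; exact hjE u
      have hv : j v ∈ LieSubalgebra.engel K ((1 : K) ⊗ₜ[A] a) := by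
        show j v ∈ Module.End.maxGenEigenspace (LieAlgebra.ad K (K ⊗[A] L) ((1 : K) ⊗ₜ[A] a)) 0
        rw [had, ← heq]; exact hjE v
      obtain ⟨n, hn⟩ := (LieSubalgebra.mem_engel_iff _ _ _).mp (engel_regular_nil _ (ha p) _ _ hu hv)
      refine ⟨n, hj ?_⟩
      have key : ∀ m, j (((LieAlgebra.ad K (K ⊗[A] E) u) ^ m) v) = ((LieAlgebra.ad K (K ⊗[A] L) (j u)) ^ m) (j v) := by
        intro m
        induction m with
        | zero => rfl
        | succ m ih => rw [pow_succ', pow_succ', Module.End.mul_apply, Module.End.mul_apply, ← ih]; exact hjl _ _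
      rw [key, hn, map_zero]
    · rw [heq, Module.End.mem_maxGenEigenspace] at ⊢
      have h' := hx _ hself
      rw [← lie_skew, neg_mem_iff, heq, Module.End.mem_maxGenEigenspace] at h'
      obtain ⟨n, hn⟩ := h'
      rw [zero_smul, sub_zero] at hn
      refine ⟨n + 1, ?_⟩
      rw [zero_smul, sub_zero, pow_succ, Module.End.mul_apply, ← had]
      rw [← had] at hn
      exact hn
    · rw [heq, LinearMap.finrank_maxGenEigenspace_zero_eq, ← had]
      exact (LieAlgebra.isRegular_iff_natTrailingDegree_charpoly_eq_rank _ _).mp (ha p)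

end Groth.Agent.S8372
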