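import Groth.Statements.S8373
import Mathlib
import Groth.Agent.S2964
-- import your own Groth.Agent.* helpers here

set_option autoImplicit false
set_option backward.isDefEq.respectTransparency.types false
universe u
open scoped TensorProduct
open SGA3t2b

namespace Groth.Agent.S8373

section
open TensorProduct
variable {A : Type u} [CommRing A] {L : Type u} [LieRing L] [LieAlgebra A L] [Module.Finite A L]

lemma pow_ad_apply_eq_zero [Module.Projective A L] (H : LieSubalgebra A L) (hH : SGA3t2b.IsCartanRel H) :
    ∃ N : ℕ, ∀ h ∈ H, ∀ x ∈ H, ((LieAlgebra.ad A L h) ^ N) x = 0 := by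
  haveI := hH.1
  obtain ⟨s, hs⟩ := Module.projective_lifting_property H.toSubmodule.mkQ LinearMap.id H.toSubmodule.mkQ_surjective
  have hs' : ∀ z, H.toSubmodule.mkQ (s z) = z := fun z => LinearMap.congr_fun hs z
  let π : L →ₗ[A] H.toSubmodule := (LinearMap.id - s ∘ₗ H.toSubmodule.mkQ).codRestrict H.toSubmodule fun x => by
    rw [← Submodule.Quotient.mk_eq_zero, ← Submodule.mkQ_apply]
    simp only [LinearMap.sub_apply, LinearMap.id_apply, LinearMap.comp_apply, map_sub, hs', sub_self]
  have hπ : π ∘ₗ H.toSubmodule.subtype = LinearMap.id := by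
    refine LinearMap.ext fun x => Subtype.ext ?_
    have : H.toSubmodule.mkQ (x : L) = 0 := (Submodule.Quotient.mk_eq_zero _).mpr x.2
    simp [π, this]
  haveI : Module.Finite A H.toSubmodule := Module.Finite.of_surjective π
    (fun x => ⟨x, LinearMap.congr_fun hπ x⟩)
  haveI : Module.Projective A H.toSubmodule := Module.Projective.of_split H.toSubmodule.subtype π hπ
  haveI : Module.FinitePresentation A H := Module.finitePresentation_of_projective A H.toSubmodule
  haveI : LieRing.IsNilpotent H :=
    (Groth.Agent.S2964.result (A := A) (L := H)).1 fun p => (hH.2 p).1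
  obtain ⟨N, hN⟩ := LieModule.exists_forall_pow_toEnd_eq_zero A H H
  refine ⟨N, fun h hh x hx => ?_⟩
  have key : ∀ (n : ℕ), ((LieAlgebra.ad A L h) ^ n) x =
      (((LieModule.toEnd A H H ⟨h, hh⟩) ^ n) ⟨x, hx⟩ : H) := by
    intro n
    induction n with
    | zero => simp
    | succ n ih => rw [pow_succ', pow_succ', Module.End.mul_apply, Module.End.mul_apply, ih]; simp
  rw [key, hN]
  simp

lemma ker_pow_le [Module.Projective A L] (H : LieSubalgebra A L) (hH : SGA3t2b.IsCartanRel H) (a : L) (haH : a ∈ H)
    (ha : SGA3t2b.IsQuasiRegular A L a) (n : ℕ) (x : L) (hx : ((LieAlgebra.ad A L a) ^ n) x = 0) : x ∈ H := by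
  obtain ⟨N, hN⟩ := pow_ad_apply_eq_zero H hH
  let q := H.toSubmodule.mkQ
  let ψ : Module.End A (L ⧸ H.toSubmodule) :=
    H.toSubmodule.mapQ H.toSubmodule (LieAlgebra.ad A L a) fun z hz => H.lie_mem haH hz
  have hψ : ∀ z, ψ (q z) = q (LieAlgebra.ad A L a z) := fun z => rfl
  have hsurj : Function.Surjective ψ := by
    rw [← LinearMap.range_eq_top, ← Submodule.Quotient.subsingleton_iff,
      ← Module.support_eq_empty_iff (R := A)]
    refine Set.eq_empty_iff_forall_notMem.mpr fun p hp => ?_
    rw [Module.mem_support_iff_nontrivial_residueField_tensorProduct] at hp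
    let K := p.asIdeal.ResidueField
    let f := (LieAlgebra.ad A L a).baseChange K
    have had : LieAlgebra.ad K (K ⊗[A] L) ((1 : K) ⊗ₜ[A] a) = f := by
      refine TensorProduct.AlgebraTensorModule.curry_injective ?_
      ext w
      simp [f]
    have hle : SGA3t2b.fibreSubmodule p H ≤ Module.End.maxGenEigenspace f 0 := by
      rw [SGA3t2b.fibreSubmodule, Submodule.baseChange_eq_span, Submodule.span_le]
      rintro _ ⟨h, hh, rfl⟩
      rw [SetLike.mem_coe, Module.End.mem_maxGenEigenspace]
      refine ⟨N, ?_⟩
      rw [zero_smul, sub_zero, ← LinearMap.baseChange_pow]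
      simp [hN a haH h hh]
    have heq : SGA3t2b.fibreSubmodule p H = Module.End.maxGenEigenspace f 0 := by
      refine Submodule.eq_of_le_of_finrank_eq hle ?_
      rw [(hH.2 p).2.2, LinearMap.finrank_maxGenEigenspace_zero_eq, ← had]
      exact ((LieAlgebra.isRegular_iff_natTrailingDegree_charpoly_eq_rank _ _).mp (ha p)).symm
    have hex : LinearMap.ker (q.baseChange K) = SGA3t2b.fibreSubmodule p H := by
      refine le_antisymm (fun z hz => ?_) ?_
      · have h0 := (lTensor_exact K (LinearMap.exact_subtype_mkQ H.toSubmodule) H.toSubmodule.mkQ_surjective z).mp hz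
        obtain ⟨w, rfl⟩ := h0
        induction w with
        | zero => simp
        | tmul c h =>
          rw [LinearMap.lTensor_tmul, show c ⊗ₜ[A] (H.toSubmodule.subtype h) =
            c • ((1 : K) ⊗ₜ[A] (h : L)) by rw [TensorProduct.smul_tmul', smul_eq_mul, mul_one]; rfl]
          exact Submodule.smul_mem _ _ (Submodule.tmul_mem_baseChange_of_mem 1 h.2)
        | add u v hu hv =>
          rw [map_add]
          refine add_mem (hu ?_) (hv ?_) <;>
            exact (lTensor_exact K (LinearMap.exact_subtype_mkQ H.toSubmodule) H.toSubmodule.mkQ_surjective _).mpr ⟨_, rfl⟩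
      · rw [SGA3t2b.fibreSubmodule, Submodule.baseChange_eq_span, Submodule.span_le]
        rintro _ ⟨h, hh, rfl⟩
        simp [q, (Submodule.Quotient.mk_eq_zero H.toSubmodule).mpr hh]
    have hqs : Function.Surjective (q.baseChange K) := LinearMap.lTensor_surjective K H.toSubmodule.mkQ_surjective
    have hinj : Function.Injective (ψ.baseChange K) := by
      rw [← LinearMap.ker_eq_bot, Submodule.eq_bot_iff]
      intro z hz
      obtain ⟨y, rfl⟩ := hqs z
      have e : ψ.baseChange K (q.baseChange K y) = q.baseChange K (f y) := by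
        rw [← LinearMap.comp_apply, ← LinearMap.baseChange_comp]
        rw [show ψ ∘ₗ q = q ∘ₗ LieAlgebra.ad A L a from LinearMap.ext hψ, LinearMap.baseChange_comp]
        rfl
      rw [LinearMap.mem_ker, e, ← LinearMap.mem_ker, hex, heq, Module.End.mem_maxGenEigenspace] at hz
      obtain ⟨k, hk⟩ := hz
      rw [← LinearMap.mem_ker, hex, heq, Module.End.mem_maxGenEigenspace]
      refine ⟨k + 1, ?_⟩
      rw [zero_smul, sub_zero] at hk ⊢
      rw [pow_succ, Module.End.mul_apply, hk]
    haveI : Module.Finite K (K ⊗[A] (L ⧸ H.toSubmodule)) := inferInstance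
    have hs : Function.Surjective (ψ.baseChange K) := LinearMap.injective_iff_surjective.mp hinj
    haveI := hp
    obtain ⟨z, hz⟩ := exists_ne (0 : K ⊗[A] ((L ⧸ H.toSubmodule) ⧸ LinearMap.range ψ))
    obtain ⟨y, rfl⟩ := LinearMap.lTensor_surjective K (LinearMap.range ψ).mkQ_surjective z
    obtain ⟨w, rfl⟩ := hs y
    apply hz
    show (LinearMap.range ψ).mkQ.lTensor K ((ψ.lTensor K) w) = 0
    rw [← LinearMap.comp_apply, ← LinearMap.lTensor_comp, LinearMap.range_mkQ_comp, LinearMap.lTensor_zero,
      LinearMap.zero_apply]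
  have hbij := OrzechProperty.bijective_of_surjective_endomorphism ψ hsurj
  have hpow : ∀ k z, (ψ ^ k) (q z) = q (((LieAlgebra.ad A L a) ^ k) z) := by
    intro k
    induction k with
    | zero => intro z; simp
    | succ k ih => intro z; rw [pow_succ', pow_succ', Module.End.mul_apply, Module.End.mul_apply, ih, hψ]
  have h0 : (ψ ^ n) (q x) = (ψ ^ n) 0 := by rw [hpow, hx, map_zero, map_zero]
  rw [Module.End.pow_apply, Module.End.pow_apply] at h0
  exact (Submodule.Quotient.mk_eq_zero _).mp ((hbij.injective.iterate n) h0)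

end

/-- Over an affine base Spec A: let L be a Lie algebra over A which is a finitely generated projective
A-module, H a Cartan subalgebra of L relative to A, a an element of H which is quasi-regular in L,
and u an automorphism of the Lie algebra L over A. Then u(H) = H if and only if u(a) ∈ H. -/
theorem result {A : Type u} [CommRing A] {L : Type u} [LieRing L]
    [LieAlgebra A L] [Module.Finite A L] [Module.Projective A L]
    (H : LieSubalgebra A L) (hH : SGA3t2b.IsCartanRel H) (a : L) (haH : a ∈ H)
    (ha : SGA3t2b.IsQuasiRegular A L a) (u : L ≃ₗ⁅A⁆ L) :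
    H.map u.toLieHom = H ↔ u a ∈ H := by
  constructor
  · intro h
    rw [← h]
    exact ⟨a, haH, rfl⟩
  · intro hua
    obtain ⟨N, hN⟩ := pow_ad_apply_eq_zero H hH
    have hcomm : ∀ (k : ℕ) (y : L), ((LieAlgebra.ad A L (u a)) ^ k) (u y) = u (((LieAlgebra.ad A L a) ^ k) y) := by
      intro k
      induction k with
      | zero => intro y; simp
      | succ k ih => intro y; rw [pow_succ', pow_succ', Module.End.mul_apply, Module.End.mul_apply, ih]; exact (LieHom.map_lie u.toLieHom _ _).symm
    have hinv : ∀ h ∈ H, u.symm h ∈ H := fun h hh => by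
      refine ker_pow_le H hH a haH ha N _ (u.injective ?_)
      show u (((LieAlgebra.ad A L a) ^ N) (u.symm h)) = u 0
      rw [← hcomm, u.apply_symm_apply, hN _ hua h hh]
      exact (map_zero u.toLieHom).symm
    let ω : Module.End A (L ⧸ H.toSubmodule) :=
      H.toSubmodule.mapQ H.toSubmodule u.symm.toLinearEquiv.toLinearMap fun z hz => hinv z hz
    have hω : Function.Surjective ω := fun z => by
      obtain ⟨y, rfl⟩ := H.toSubmodule.mkQ_surjective z
      exact ⟨H.toSubmodule.mkQ (u y), congrArg H.toSubmodule.mkQ (u.symm_apply_apply y)⟩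
    have hωb := OrzechProperty.bijective_of_surjective_endomorphism ω hω
    ext y
    constructor
    · rintro ⟨z, hz, rfl⟩
      refine (Submodule.Quotient.mk_eq_zero H.toSubmodule).mp (hωb.injective ?_)
      rw [map_zero]
      exact (Submodule.Quotient.mk_eq_zero H.toSubmodule).mpr (by
        show u.symm (u z) ∈ H
        rw [u.symm_apply_apply]; exact hz)
    · intro hy
      exact ⟨u.symm y, hinv y hy, u.apply_symm_apply y⟩

end Groth.Agent.S8373
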