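import Groth.Statements.S8375
import Mathlib
-- import your own Groth.Agent.* helpers here

set_option autoImplicit false
set_option backward.isDefEq.respectTransparency.types false
universe u
open scoped TensorProduct
open SGA3t2b

namespace Groth.Agent.S8375

section
open Polynomial

lemma trailing_le_iff {K : Type u} [Field K] {M : Type u} [AddCommGroup M] [Module K M] [Module.Finite K M]
    {N : Type u} [AddCommGroup N] [Module K N] [Module.Finite K N]
    (i : M →ₗ[K] N) (π : N →ₗ[K] M) (h : π ∘ₗ i = LinearMap.id) (φ : M →ₗ[K] M) (r : ℕ) :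
    φ.charpoly.natTrailingDegree ≤ r ↔
      ∃ j, j ≤ Module.finrank K N - Module.finrank K M + r ∧ (i ∘ₗ φ ∘ₗ π).charpoly.coeff j ≠ 0 := by
  have hπi : ∀ m, π (i m) = m := fun m => LinearMap.congr_fun h m
  let e : N ≃ₗ[K] M × LinearMap.ker π :=
    { toFun := fun x => (π x, ⟨x - i (π x), by simp [hπi]⟩)
      invFun := fun y => i y.1 + y.2
      map_add' := fun x y => by ext <;> simp; abel
      map_smul' := fun c x => by ext <;> simp [smul_sub]
      left_inv := fun x => by simp
      right_inv := fun ⟨m, z⟩ => by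
        have hz : π (z : N) = 0 := z.2
        ext <;> simp [hπi, hz] }
  have hc : (i ∘ₗ φ ∘ₗ π).charpoly = φ.charpoly * X ^ Module.finrank K (LinearMap.ker π) := by
    rw [← LinearMap.charpoly_zero (R := K) (M := LinearMap.ker π), ← LinearMap.charpoly_prodMap,
      ← LinearEquiv.charpoly_conj e]
    congr 1
    refine LinearMap.ext fun y => ?_
    obtain ⟨m, z⟩ := y
    have hz : π (z : N) = 0 := z.2
    simp [LinearEquiv.conj_apply, e, hπi, hz]
  have hdim : Module.finrank K (LinearMap.ker π) = Module.finrank K N - Module.finrank K M := by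
    have := e.finrank_eq
    rw [Module.finrank_prod] at this
    omega
  rw [hc, hdim]
  constructor
  · intro hle
    refine ⟨φ.charpoly.natTrailingDegree + (Module.finrank K N - Module.finrank K M), by omega, ?_⟩
    rw [Polynomial.coeff_mul_X_pow]
    exact mt Polynomial.trailingCoeff_eq_zero.mp φ.charpoly_monic.ne_zero
  · rintro ⟨j, hj, hne⟩
    rw [Polynomial.coeff_mul_X_pow'] at hne
    split_ifs at hne with hle
    · exact (Polynomial.natTrailingDegree_le_of_ne_zero hne).trans (by omega)
    · exact absurd rfl hne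

end

/-- Over an affine base Spec A: let L be a Lie algebra over A which is a finitely generated projective
A-module, such that the nilpotent rank of the fibre Lie algebras κ(p) ⊗ L is a locally constant
function of p ∈ Spec A. Then for every a ∈ L the set of primes p at which 1 ⊗ a is a regular element
of κ(p) ⊗ L is open in Spec A. (The published statement is over an arbitrary base and first asserts
that the locus of regular elements in the vector bundle of L is open; this row states its
consequence for a given section a, over an affine base.) -/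
theorem result {A : Type u} [CommRing A] {L : Type u} [LieRing L]
    [LieAlgebra A L] [Module.Finite A L] [Module.Projective A L]
    (hC0 : ∀ p : PrimeSpectrum A, ∃ f : A, f ∉ p.asIdeal ∧ ∀ q : PrimeSpectrum A, f ∉ q.asIdeal →
        LieAlgebra.rank q.asIdeal.ResidueField (q.asIdeal.ResidueField ⊗[A] L) =
          LieAlgebra.rank p.asIdeal.ResidueField (p.asIdeal.ResidueField ⊗[A] L)) (a : L) :
    IsOpen {p : PrimeSpectrum A |
      LieAlgebra.IsRegular p.asIdeal.ResidueField ((1 : p.asIdeal.ResidueField) ⊗ₜ[A] a)} := by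
  classical
  obtain ⟨n, f, g, -, -, hfg⟩ := Module.Finite.exists_comp_eq_id_of_projective A L
  let Φ := g ∘ₗ LieAlgebra.ad A L a ∘ₗ f
  haveI : Module.FinitePresentation A L := Module.finitePresentation_of_projective A L
  let rk : PrimeSpectrum A → ℕ := fun q =>
    LieAlgebra.rank q.asIdeal.ResidueField (q.asIdeal.ResidueField ⊗[A] L)
  have key : ∀ q : PrimeSpectrum A,
      LieAlgebra.IsRegular q.asIdeal.ResidueField ((1 : q.asIdeal.ResidueField) ⊗ₜ[A] a) ↔
        ∃ j, j ≤ n - Module.rankAtStalk L q + rk q ∧ Φ.charpoly.coeff j ∉ q.asIdeal := by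
    intro q
    let κ := q.asIdeal.ResidueField
    haveI : Module.Finite κ (κ ⊗[A] L) := inferInstance
    have hid : f.baseChange κ ∘ₗ g.baseChange κ = LinearMap.id := by
      rw [← LinearMap.baseChange_comp, hfg, LinearMap.baseChange_id]
    have had : LieAlgebra.ad κ (κ ⊗[A] L) ((1 : κ) ⊗ₜ[A] a) = (LieAlgebra.ad A L a).baseChange κ := by
      refine TensorProduct.AlgebraTensorModule.curry_injective ?_
      ext w
      simp
    have hn : Module.finrank κ (κ ⊗[A] (Fin n → A)) = n := by
      haveI : Nontrivial A := q.asIdeal.ne_top_iff_one.mp q.isPrime.ne_top |> fun h => ⟨⟨0, 1, fun e => h (e ▸ q.asIdeal.zero_mem)⟩⟩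
      rw [Module.finrank_baseChange, Module.finrank_fintype_fun_eq_card, Fintype.card_fin]
    rw [LieAlgebra.isRegular_iff_natTrailingDegree_charpoly_eq_rank]
    have hle := LieAlgebra.rank_le_natTrailingDegree_charpoly_ad κ ((1 : κ) ⊗ₜ[A] a)
    rw [show (LieAlgebra.ad κ (κ ⊗[A] L) ((1 : κ) ⊗ₜ[A] a)).charpoly.natTrailingDegree = rk q ↔
      (LieAlgebra.ad κ (κ ⊗[A] L) ((1 : κ) ⊗ₜ[A] a)).charpoly.natTrailingDegree ≤ rk q from
      ⟨fun h => h.le, fun h => le_antisymm h hle⟩, had,
      trailing_le_iff (g.baseChange κ) (f.baseChange κ) hid _ _,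
      ← LinearMap.baseChange_comp, ← LinearMap.baseChange_comp, LinearMap.charpoly_baseChange, hn,
      Module.rankAtStalk_eq]
    simp only [Polynomial.coeff_map, ne_eq]
    exact exists_congr fun j => and_congr Iff.rfl (not_congr Ideal.algebraMap_residueField_eq_zero)
  rw [isOpen_iff_forall_mem_open]
  intro p hp
  obtain ⟨s, hs, hrk⟩ := hC0 p
  obtain ⟨V, hV, hpV, hVd⟩ := (IsLocallyConstant.iff_exists_open _).mp
    (Module.isLocallyConstant_rankAtStalk (R := A) (M := L)) p
  obtain ⟨j, hj, hjp⟩ := (key p).mp hp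
  refine ⟨V ∩ ((PrimeSpectrum.basicOpen s : Set (PrimeSpectrum A)) ∩
    (PrimeSpectrum.basicOpen (Φ.charpoly.coeff j) : Set (PrimeSpectrum A))), ?_,
    hV.inter ((PrimeSpectrum.basicOpen s).isOpen.inter (PrimeSpectrum.basicOpen _).isOpen), hpV, hs, hjp⟩
  rintro q ⟨hqV, hqs, hqj⟩
  refine (key q).mpr ⟨j, ?_, hqj⟩
  rw [hVd q hqV, show rk q = rk p from hrk q hqs]
  exact hj

end Groth.Agent.S8375
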