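import Groth.Statements.S8374
import Mathlib
import Groth.Agent.S2964
import Groth.Agent.S8375
-- import your own Groth.Agent.* helpers here

set_option autoImplicit false
set_option backward.isDefEq.respectTransparency.types false
universe u
open scoped TensorProduct
open SGA3t2b

namespace Groth.Agent.S8374

section
open TensorProduct
variable {A : Type u} [CommRing A] {L : Type u} [LieRing L] [LieAlgebra A L] [Module.Finite A L]

lemma pow_ad_apply_eq_zero [Module.Projective A L] (H : LieSubalgebra A L) (hH : SGA3t2b.IsCartanRel H) :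
    ∃ N : ℕ, ∀ h ∈ H, ∀ x ∈ H, ((LieAlgebra.ad A L h) ^ N) x = 0 := by
  haveI := hH.1
  obtain ⟨s, hs⟩ := Module.projective_lifting_property H.toSubmodule.mkQ LinearMap.id H.toSubmodule.mkQ_surjective
  have hs' : ∀ z, H.toSubmodule.mkQ (s z) = z := fun z => LinearMap.congr_fun hs z
  let π : L →ₗ[A] H.toSubmodule := (LinearMap.id - s ∘ₗ H.toSubmodule.mkQ).codRestrict H.toSubmodule fun x => by
    rw [← Submodule.Quotient.mk_eq_zero, ← Submodule.mkQ_apply]
    simp only [LinearMap.sub_apply, LinearMap.id_apply, LinearMap.comp_apply, map_sub, hs', sub_self]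
  have hπ : π ∘ₗ H.toSubmodule.subtype = LinearMap.id := by
    refine LinearMap.ext fun x => Subtype.ext ?_
    have : H.toSubmodule.mkQ (x : L) = 0 := (Submodule.Quotient.mk_eq_zero _).mpr x.2
    simp [π, this]
  haveI : Module.Finite A H.toSubmodule := Module.Finite.of_surjective π
    (fun x => ⟨x, LinearMap.congr_fun hπ x⟩)
  haveI : Module.Projective A H.toSubmodule := Module.Projective.of_split H.toSubmodule.subtype π hπ
  haveI : Module.FinitePresentation A H := Module.finitePresentation_of_projective A H.toSubmodule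
  haveI : LieRing.IsNilpotent H :=
    (Groth.Agent.S2964.result (A := A) (L := H)).1 fun p => (hH.2 p).1
  obtain ⟨N, hN⟩ := LieModule.exists_forall_pow_toEnd_eq_zero A H H
  refine ⟨N, fun h hh x hx => ?_⟩
  have key : ∀ (n : ℕ), ((LieAlgebra.ad A L h) ^ n) x =
      (((LieModule.toEnd A H H ⟨h, hh⟩) ^ n) ⟨x, hx⟩ : H) := by
    intro n
    induction n with
    | zero => simp
    | succ n ih => rw [pow_succ', pow_succ', Module.End.mul_apply, Module.End.mul_apply, ih]; simp
  rw [key, hN]
  simp

end

section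
open TensorProduct
variable {k : Type u} [Field k] [Infinite k] {V : Type u} [LieRing V] [LieAlgebra k V] [Module.Finite k V]

lemma exists_regular_mem (U : LieSubalgebra k V) (hnil : ∀ x ∈ U, ∀ y ∈ U, y ∈ LieSubalgebra.engel k x)
    (hnorm : ∀ x : V, (∀ y ∈ U, ⁅x, y⁆ ∈ U) → x ∈ U)
    (hrk : Module.finrank k U = LieAlgebra.rank k V) : ∃ x ∈ U, LieAlgebra.IsRegular k x := by
  classical
  have hex : ∃ n, ∃ x ∈ U, Module.finrank k (LieSubalgebra.engel k x) = n := ⟨_, 0, U.zero_mem, rfl⟩
  obtain ⟨x, hxU, hx⟩ := Nat.find_spec hex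
  refine ⟨x, hxU, (LieAlgebra.isRegular_iff_finrank_engel_eq_rank k x).mpr (le_antisymm ?_ (LieAlgebra.rank_le_finrank_engel k x))⟩
  set Ex : {LieSubalgebra.engel k z | z ∈ U} := ⟨LieSubalgebra.engel k x, x, hxU, rfl⟩
  have hUle : U ≤ LieSubalgebra.engel k x := fun y hy => hnil x hxU y hy
  have hbot : IsBot Ex := by
    refine LieAlgebra.engel_isBot_of_isMin ?_ U Ex hUle ?_
    · exact Cardinal.natCast_le_aleph0.trans <| Cardinal.infinite_iff.mp inferInstance
    rintro ⟨_, z, hz, rfl⟩ hzx
    suffices LieSubalgebra.engel k z = LieSubalgebra.engel k x from this.ge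
    apply LieSubalgebra.toSubmodule_injective
    refine Submodule.eq_of_le_of_finrank_le hzx ?_
    show Module.finrank k (LieSubalgebra.engel k x) ≤ Module.finrank k (LieSubalgebra.engel k z)
    rw [hx]
    exact Nat.find_le ⟨z, hz, rfl⟩
  let E : LieSubmodule k U V :=
    { (LieSubalgebra.engel k x).toSubmodule with
      lie_mem := fun {u y} hy => (LieSubalgebra.engel k x).lie_mem (hUle u.2) hy }
  haveI : LieModule.IsNilpotent U E := by
    rw [LieModule.isNilpotent_iff_forall (R := k)]
    intro u
    rw [Module.End.isNilpotent_iff_of_finite]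
    intro y
    obtain ⟨n, hn⟩ := (LieSubalgebra.mem_engel_iff _ _ _).mp (hbot ⟨_, u.1, u.2, rfl⟩ y.2)
    refine ⟨n, Subtype.ext ?_⟩
    have key : ∀ m, ((((LieModule.toEnd k U E u) ^ m) y : E) : V) = ((LieAlgebra.ad k V (u : V)) ^ m) y := by
      intro m
      induction m with
      | zero => rfl
      | succ m ih => rw [pow_succ', pow_succ', Module.End.mul_apply, Module.End.mul_apply, ← ih]; rfl
    rw [key, hn]; rfl
  obtain ⟨m, hm⟩ := (LieSubmodule.isNilpotent_iff_exists_self_le_ucs E).mp inferInstance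
  have hN : (U.toLieSubmodule).normalizer = U.toLieSubmodule := by
    refine le_antisymm (fun y hy => ?_) (LieSubmodule.le_normalizer _)
    refine hnorm y fun u hu => ?_
    rw [← lie_skew]
    exact neg_mem ((LieSubmodule.mem_normalizer _ y).mp hy ⟨u, hu⟩)
  have hle : E ≤ U.toLieSubmodule :=
    hm.trans ((LieSubmodule.ucs_mono m bot_le).trans (LieSubmodule.ucs_eq_self_of_normalizer_eq_self hN m).le)
  rw [← hrk]
  exact Submodule.finrank_mono (t := U.toSubmodule) (s := (LieSubalgebra.engel k x).toSubmodule) fun y hy => hle hy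

end

/-- Over an affine base Spec A: let L be a Lie algebra over A which is a finitely generated projective
A-module, H a Cartan subalgebra of L relative to A, and p a prime of A whose residue field is
infinite. Then there are f ∈ A with f ∉ p and an element a ∈ H such that a is a regular element of
every fibre κ(q) ⊗ L with f ∉ q, H is contained in the Engel subalgebra Nil(a, L), and every element
of Nil(a, L) is carried into H by some power of f; that is, over the basic open set D(f) the section
a is regular and H coincides with Nil(a, L). (The published statement gives a regular section of H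
over some open neighbourhood of p; this row takes a global element of H and a basic open
neighbourhood D(f), which is equivalent over an affine base because multiplying by a function
invertible on D(f) does not change regularity.) -/
theorem result {A : Type u} [CommRing A] {L : Type u} [LieRing L]
    [LieAlgebra A L] [Module.Finite A L] [Module.Projective A L]
    (H : LieSubalgebra A L) (hH : SGA3t2b.IsCartanRel H) (p : PrimeSpectrum A)
    (hp : Infinite p.asIdeal.ResidueField) :
    ∃ f : A, f ∉ p.asIdeal ∧ ∃ a : L, a ∈ H ∧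
      (∀ q : PrimeSpectrum A, f ∉ q.asIdeal →
        LieAlgebra.IsRegular q.asIdeal.ResidueField ((1 : q.asIdeal.ResidueField) ⊗ₜ[A] a)) ∧
      H ≤ LieSubalgebra.engel A a ∧
      ∀ y : L, y ∈ LieSubalgebra.engel A a → ∃ n : ℕ, f ^ n • y ∈ H := by
  classical
  haveI := hH.1
  obtain ⟨N, hN⟩ := pow_ad_apply_eq_zero H hH
  haveI : Module.FinitePresentation A L := Module.finitePresentation_of_projective A L
  haveI : Module.FinitePresentation A (L ⧸ H.toSubmodule) := Module.finitePresentation_of_projective A _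
  let q := H.toSubmodule.mkQ
  have hex : ∀ (p : PrimeSpectrum A), LinearMap.ker (q.baseChange p.asIdeal.ResidueField) = SGA3t2b.fibreSubmodule p H := by
    intro p
    let K := p.asIdeal.ResidueField
    refine le_antisymm (fun z hz => ?_) ?_
    · have h0 := (lTensor_exact K (LinearMap.exact_subtype_mkQ H.toSubmodule) H.toSubmodule.mkQ_surjective z).mp hz
      obtain ⟨w, rfl⟩ := h0
      induction w with
      | zero => simp
      | tmul c h =>
        rw [LinearMap.lTensor_tmul, show c ⊗ₜ[A] (H.toSubmodule.subtype h) =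
          c • ((1 : K) ⊗ₜ[A] (h : L)) by rw [TensorProduct.smul_tmul', smul_eq_mul, mul_one]; rfl]
        exact Submodule.smul_mem _ _ (Submodule.tmul_mem_baseChange_of_mem 1 h.2)
      | add u v hu hv =>
        rw [map_add]
        refine add_mem (hu ?_) (hv ?_) <;>
          exact (lTensor_exact K (LinearMap.exact_subtype_mkQ H.toSubmodule) H.toSubmodule.mkQ_surjective _).mpr ⟨_, rfl⟩
    · rw [SGA3t2b.fibreSubmodule, Submodule.baseChange_eq_span, Submodule.span_le]
      rintro _ ⟨h, hh, rfl⟩
      simp [q, (Submodule.Quotient.mk_eq_zero H.toSubmodule).mpr hh]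
  have hC0 : ∀ p : PrimeSpectrum A, ∃ f : A, f ∉ p.asIdeal ∧ ∀ q : PrimeSpectrum A, f ∉ q.asIdeal →
      LieAlgebra.rank q.asIdeal.ResidueField (q.asIdeal.ResidueField ⊗[A] L) =
        LieAlgebra.rank p.asIdeal.ResidueField (p.asIdeal.ResidueField ⊗[A] L) := by
    let r : PrimeSpectrum A → ℕ := fun p => LieAlgebra.rank p.asIdeal.ResidueField (p.asIdeal.ResidueField ⊗[A] L)
    have hr : r = fun p => Module.rankAtStalk L p - Module.rankAtStalk (L ⧸ H.toSubmodule) p := funext fun p => by
      show LieAlgebra.rank p.asIdeal.ResidueField _ = _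
      rw [← (hH.2 p).2.2, Module.rankAtStalk_eq, Module.rankAtStalk_eq]
      have := (q.baseChange p.asIdeal.ResidueField).finrank_range_add_finrank_ker
      have hsq : Function.Surjective (q.baseChange p.asIdeal.ResidueField) :=
        LinearMap.lTensor_surjective _ H.toSubmodule.mkQ_surjective
      rw [LinearMap.range_eq_top.mpr hsq, finrank_top, hex] at this
      exact (Nat.eq_sub_of_add_eq' this)
    have hlc : IsLocallyConstant r := hr ▸ (Module.isLocallyConstant_rankAtStalk).comp₂ Module.isLocallyConstant_rankAtStalk (fun a b => a - b)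
    intro p
    obtain ⟨_, ⟨f, rfl⟩, hpf, hsub⟩ := PrimeSpectrum.isTopologicalBasis_basic_opens.exists_subset_of_mem_open
      (show p ∈ r ⁻¹' {r p} from rfl) (hlc {r p})
    exact ⟨f, hpf, fun q hq => hsub hq⟩
  let κ := p.asIdeal.ResidueField
  haveI : Infinite κ := hp
  let j : κ ⊗[A] H →ₗ[κ] κ ⊗[A] L := H.toSubmodule.subtype.baseChange κ
  have hjl : ∀ u v : κ ⊗[A] H, j (LieAlgebra.ad κ (κ ⊗[A] H) u v) =
      LieAlgebra.ad κ (κ ⊗[A] L) (j u) (j v) := by
    intro u v
    induction u with
    | zero => simp only [map_zero, LinearMap.zero_apply]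
    | tmul c x =>
      induction v with
      | zero => simp only [map_zero]
      | tmul d y => rfl
      | add v w hv hw => simp only [map_add, hv, hw]
    | add u w hu hw => simp only [map_add, LinearMap.add_apply, hu, hw]
  have hjr : ∀ z, z ∈ SGA3t2b.fibreSubmodule p H ↔ ∃ w, j w = z := by
    intro z
    rw [← hex p, LinearMap.mem_ker]
    exact lTensor_exact κ (LinearMap.exact_subtype_mkQ H.toSubmodule) H.toSubmodule.mkQ_surjective z
  let U : LieSubalgebra κ (κ ⊗[A] L) :=
    { SGA3t2b.fibreSubmodule p H with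
      lie_mem' := fun {u v} hu hv => by
        obtain ⟨u, rfl⟩ := (hjr _).mp hu
        obtain ⟨v, rfl⟩ := (hjr _).mp hv
        exact (hjr _).mpr ⟨LieAlgebra.ad κ (κ ⊗[A] H) u v, hjl u v⟩ }
  haveI : LieRing.IsNilpotent (κ ⊗[A] H) := (hH.2 p).1
  obtain ⟨x, hx, hreg⟩ := exists_regular_mem U (fun x hx y hy => by
      obtain ⟨u, rfl⟩ := (hjr _).mp hx
      obtain ⟨v, rfl⟩ := (hjr _).mp hy
      obtain ⟨n, hn⟩ := LieModule.exists_forall_pow_toEnd_eq_zero κ (κ ⊗[A] H) (κ ⊗[A] H)
      rw [LieSubalgebra.mem_engel_iff]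
      refine ⟨n, ?_⟩
      have key : ∀ m, j (((LieAlgebra.ad κ (κ ⊗[A] H) u) ^ m) v) = ((LieAlgebra.ad κ (κ ⊗[A] L) (j u)) ^ m) (j v) := by
        intro m
        induction m with
        | zero => rfl
        | succ m ih => rw [pow_succ', pow_succ', Module.End.mul_apply, Module.End.mul_apply, ← ih]; exact hjl _ _
      rw [← key, show (LieAlgebra.ad κ (κ ⊗[A] H) u) ^ n = 0 from hn u, LinearMap.zero_apply, map_zero])
    (hH.2 p).2.1 (hH.2 p).2.2
  obtain ⟨w, hw⟩ := (hjr _).mp hx
  obtain ⟨c, a, hc, hca⟩ := (Groth.Agent.S2964.fibre_surj (L := H) p.asIdeal).1 w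
  have hxa : c • x = (1 : κ) ⊗ₜ[A] (a : L) := by
    rw [← hw, ← map_smul, hca]; rfl
  have hrega : LieAlgebra.IsRegular κ ((1 : κ) ⊗ₜ[A] (a : L)) := by
    rw [← hxa, LieAlgebra.isRegular_iff_finrank_engel_eq_rank, ← (LieAlgebra.isRegular_iff_finrank_engel_eq_rank κ x).mp hreg]
    have : LieSubalgebra.engel κ (c • x) = LieSubalgebra.engel κ x := by
      ext y
      simp only [LieSubalgebra.mem_engel_iff, map_smul, smul_pow, LinearMap.smul_apply, smul_eq_zero, pow_eq_zero_iff', hc, false_and, false_or]
    rw [this]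
  have hopen := Groth.Agent.S8375.result hC0 (a : L)
  obtain ⟨_, ⟨f, rfl⟩, hpf, hsub⟩ := PrimeSpectrum.isTopologicalBasis_basic_opens.exists_subset_of_mem_open
    (show p ∈ {p : PrimeSpectrum A | LieAlgebra.IsRegular p.asIdeal.ResidueField ((1 : p.asIdeal.ResidueField) ⊗ₜ[A] (a : L))} from hrega) hopen
  refine ⟨f, hpf, (a : L), a.2, fun q hq => hsub hq, fun h hh => ?_, fun y hy => ?_⟩
  · exact (LieSubalgebra.mem_engel_iff _ _ _).mpr ⟨N, hN _ a.2 h hh⟩
  let ψ : Module.End A (L ⧸ H.toSubmodule) :=
    H.toSubmodule.mapQ H.toSubmodule (LieAlgebra.ad A L (a : L)) fun z hz => H.lie_mem a.2 hz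
  have hψ : ∀ z, ψ (q z) = q (LieAlgebra.ad A L (a : L) z) := fun z => rfl
  let C := (L ⧸ H.toSubmodule) ⧸ LinearMap.range ψ
  have hrad : f ∈ (Module.annihilator A C).radical := by
    rw [Ideal.radical_eq_sInf]
    refine Ideal.mem_sInf.mpr fun {J} ⟨hJ, hJp⟩ => ?_
    by_contra hfJ
    let p : PrimeSpectrum A := ⟨J, hJp⟩
    have hp' : p ∈ Module.support A C := by rw [Module.support_eq_zeroLocus]; exact hJ
    rw [Module.mem_support_iff_nontrivial_residueField_tensorProduct] at hp'
    have ha : LieAlgebra.IsRegular p.asIdeal.ResidueField ((1 : p.asIdeal.ResidueField) ⊗ₜ[A] (a : L)) := hsub hfJ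
    let K := p.asIdeal.ResidueField
    let g := (LieAlgebra.ad A L (a : L)).baseChange K
    have had : LieAlgebra.ad K (K ⊗[A] L) ((1 : K) ⊗ₜ[A] (a : L)) = g := by
      refine TensorProduct.AlgebraTensorModule.curry_injective ?_
      ext w
      simp [g]
    have hle : SGA3t2b.fibreSubmodule p H ≤ Module.End.maxGenEigenspace g 0 := by
      rw [SGA3t2b.fibreSubmodule, Submodule.baseChange_eq_span, Submodule.span_le]
      rintro _ ⟨h, hh, rfl⟩
      rw [SetLike.mem_coe, Module.End.mem_maxGenEigenspace]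
      refine ⟨N, ?_⟩
      rw [zero_smul, sub_zero, ← LinearMap.baseChange_pow]
      simp [hN _ a.2 h hh]
    have heq : SGA3t2b.fibreSubmodule p H = Module.End.maxGenEigenspace g 0 := by
      refine Submodule.eq_of_le_of_finrank_eq hle ?_
      rw [(hH.2 p).2.2, LinearMap.finrank_maxGenEigenspace_zero_eq, ← had]
      exact ((LieAlgebra.isRegular_iff_natTrailingDegree_charpoly_eq_rank _ _).mp ha).symm
    have hqs : Function.Surjective (q.baseChange K) := LinearMap.lTensor_surjective K H.toSubmodule.mkQ_surjective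
    have hinj : Function.Injective (ψ.baseChange K) := by
      rw [← LinearMap.ker_eq_bot, Submodule.eq_bot_iff]
      intro z hz
      obtain ⟨y, rfl⟩ := hqs z
      have e : ψ.baseChange K (q.baseChange K y) = q.baseChange K (g y) := by
        rw [← LinearMap.comp_apply, ← LinearMap.baseChange_comp]
        rw [show ψ ∘ₗ q = q ∘ₗ LieAlgebra.ad A L (a : L) from LinearMap.ext hψ, LinearMap.baseChange_comp]
        rfl
      rw [LinearMap.mem_ker, e, ← LinearMap.mem_ker, hex p, heq, Module.End.mem_maxGenEigenspace] at hz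
      obtain ⟨k, hk⟩ := hz
      rw [← LinearMap.mem_ker, hex p, heq, Module.End.mem_maxGenEigenspace]
      refine ⟨k + 1, ?_⟩
      rw [zero_smul, sub_zero] at hk ⊢
      rw [pow_succ, Module.End.mul_apply, hk]
    haveI : Module.Finite K (K ⊗[A] (L ⧸ H.toSubmodule)) := inferInstance
    have hs : Function.Surjective (ψ.baseChange K) := LinearMap.injective_iff_surjective.mp hinj
    haveI := hp'
    obtain ⟨z, hz⟩ := exists_ne (0 : K ⊗[A] C)
    obtain ⟨y, rfl⟩ := LinearMap.lTensor_surjective K (LinearMap.range ψ).mkQ_surjective z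
    obtain ⟨w, rfl⟩ := hs y
    apply hz
    show (LinearMap.range ψ).mkQ.lTensor K ((ψ.lTensor K) w) = 0
    rw [← LinearMap.comp_apply, ← LinearMap.lTensor_comp, LinearMap.range_mkQ_comp, LinearMap.lTensor_zero,
      LinearMap.zero_apply]
  obtain ⟨m, hm⟩ := hrad
  let Af := Localization.Away f
  have hsurj : Function.Surjective (ψ.baseChange Af) := by
    intro z
    induction z with
    | zero => exact ⟨0, map_zero _⟩
    | add u v hu hv =>
      obtain ⟨u, rfl⟩ := hu; obtain ⟨v, rfl⟩ := hv; exact ⟨u + v, map_add _ _ _⟩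
    | tmul c z =>
      have h0 : f ^ m • (Submodule.Quotient.mk z : C) = 0 := Module.mem_annihilator.mp hm _
      rw [← Submodule.Quotient.mk_smul, Submodule.Quotient.mk_eq_zero] at h0
      obtain ⟨w, hw⟩ := h0
      obtain ⟨u, hu⟩ := ((IsLocalization.Away.algebraMap_isUnit (S := Af) f).pow m).exists_left_inv
      refine ⟨(c * u) ⊗ₜ w, ?_⟩
      rw [LinearMap.baseChange_tmul, hw, TensorProduct.tmul_smul, TensorProduct.smul_tmul', Algebra.smul_def,
        map_pow, mul_comm, mul_assoc, hu, mul_one]
  have hinj := (OrzechProperty.bijective_of_surjective_endomorphism _ hsurj).injective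
  obtain ⟨k, hk⟩ := (LieSubalgebra.mem_engel_iff _ _ _).mp hy
  have hpow : ∀ k z, ((ψ.baseChange Af) ^ k) ((1 : Af) ⊗ₜ[A] q z) = (1 : Af) ⊗ₜ[A] q (((LieAlgebra.ad A L (a : L)) ^ k) z) := by
    intro k
    induction k with
    | zero => intro z; simp
    | succ k ih => intro z; rw [pow_succ', pow_succ', Module.End.mul_apply, Module.End.mul_apply, ih, LinearMap.baseChange_tmul, hψ]
  have h0 : (1 : Af) ⊗ₜ[A] q y = 0 := by
    refine hinj.iterate k ?_
    rw [← Module.End.pow_apply, ← Module.End.pow_apply, hpow, hk, map_zero, TensorProduct.tmul_zero, map_zero]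
  obtain ⟨⟨_, n, rfl⟩, hn⟩ := (IsLocalizedModule.eq_zero_iff (Submonoid.powers f) (TensorProduct.mk A Af (L ⧸ H.toSubmodule) 1)).mp h0
  exact ⟨n, (Submodule.Quotient.mk_eq_zero H.toSubmodule).mp (by simpa [Submonoid.smul_def, q] using hn)⟩

end Groth.Agent.S8374
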