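import Groth.Statements.S8378
import Mathlib
-- import your own Groth.Agent.* helpers here

set_option autoImplicit false
set_option backward.isDefEq.respectTransparency.types false
universe u
open scoped TensorProduct
open SGA3t2b

namespace Groth.Agent.S8378

section
open TensorProduct
attribute [local instance] LieRing.ofAssociativeRing LieAlgebra.ofAssociativeAlgebra
lemma natTrailingDegree_map_inj {R S : Type*} [Semiring R] [Semiring S] (f : R →+* S)
    (hf : Function.Injective f) (p : Polynomial R) :
    (p.map f).natTrailingDegree = p.natTrailingDegree := by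
  simp [Polynomial.natTrailingDegree, Polynomial.trailingDegree, Polynomial.support_map_of_injective p hf]

lemma rank_baseChange (k K V : Type u) [Field k] [Field K] [Algebra k K] [LieRing V] [LieAlgebra k V]
    [Module.Finite k V] : LieAlgebra.rank K (K ⊗[k] V) = LieAlgebra.rank k V := by
  classical
  let b := Module.finBasis k V
  rw [LieAlgebra.rank_eq_natTrailingDegree K (K ⊗[k] V) (Algebra.TensorProduct.basis K b),
    LieAlgebra.rank_eq_natTrailingDegree k V b]
  have e2 : (LieAlgebra.ad K (K ⊗[k] V)).toLinearMap =
      LinearMap.tensorProduct k K V V ∘ₗ (LieAlgebra.ad k V).toLinearMap.baseChange K := by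
    refine TensorProduct.AlgebraTensorModule.curry_injective ?_
    ext v w
    simp [LinearMap.tensorProduct]
  rw [e2, LinearMap.polyCharpoly_baseChange]
  exact natTrailingDegree_map_inj _ (MvPolynomial.map_injective _ (algebraMap k K).injective) _

lemma rank_equiv (K V W : Type u) [Field K] [Infinite K] [LieRing V] [LieAlgebra K V] [Module.Finite K V]
    [LieRing W] [LieAlgebra K W] [Module.Finite K W] (e : V ≃ₗ[K] W)
    (he : ∀ x y, e ⁅x, y⁆ = ⁅e x, e y⁆) : LieAlgebra.rank K V = LieAlgebra.rank K W := by
  have h : ∀ x, LieAlgebra.ad K W (e x) = e.conj (LieAlgebra.ad K V x) := fun x => LinearMap.ext fun w => by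
    rw [LinearEquiv.conj_apply_apply]
    simp [he]
  apply le_antisymm
  · obtain ⟨y, hy⟩ := LieAlgebra.exists_isRegular K W
    rw [← (LieAlgebra.isRegular_iff_natTrailingDegree_charpoly_eq_rank _ _).mp hy,
      ← e.apply_symm_apply y, h, LinearEquiv.charpoly_conj]
    exact LieAlgebra.rank_le_natTrailingDegree_charpoly_ad _ _
  · obtain ⟨x, hx⟩ := LieAlgebra.exists_isRegular K V
    rw [← (LieAlgebra.isRegular_iff_natTrailingDegree_charpoly_eq_rank _ _).mp hx,
      ← LinearEquiv.charpoly_conj e, ← h]
    exact LieAlgebra.rank_le_natTrailingDegree_charpoly_ad _ _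

lemma rank_trans (R k K L : Type u) [CommRing R] [Field k] [Field K] [Infinite K] [Algebra R k] [Algebra R K]
    [Algebra k K] [IsScalarTower R k K] [LieRing L] [LieAlgebra R L] [Module.Finite R L] :
    LieAlgebra.rank K (K ⊗[R] L) = LieAlgebra.rank k (k ⊗[R] L) := by
  rw [← rank_baseChange k K (k ⊗[R] L)]
  symm
  refine rank_equiv K _ _ (TensorProduct.AlgebraTensorModule.cancelBaseChange R k K K L) fun x y => ?_
  let e := TensorProduct.AlgebraTensorModule.cancelBaseChange R k K K L
  show e (LieAlgebra.ad K _ x y) = LieAlgebra.ad K _ (e x) (e y)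
  induction x with
  | zero => simp only [map_zero, LinearMap.zero_apply]
  | add u w hu hw => simp only [map_add, LinearMap.add_apply, hu, hw]
  | tmul c x =>
    induction y with
    | zero => simp only [map_zero]
    | add u w hu hw => simp only [map_add, hu, hw]
    | tmul d y =>
      induction x with
      | zero => simp only [TensorProduct.tmul_zero, map_zero, LinearMap.zero_apply]
      | add u w hu hw => simp only [TensorProduct.tmul_add, map_add, LinearMap.add_apply, hu, hw]
      | tmul s x =>
        induction y with
        | zero => simp only [TensorProduct.tmul_zero, map_zero]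
        | add u w hu hw => simp only [TensorProduct.tmul_add, map_add, hu, hw]
        | tmul t y => simp [e, smul_smul, mul_smul_comm, smul_mul_assoc, mul_comm, mul_left_comm, mul_assoc]

lemma rank_assoc (R S K L : Type u) [CommRing R] [CommRing S] [Field K] [Infinite K] [Algebra R S] [Algebra R K]
    [Algebra S K] [IsScalarTower R S K] [LieRing L] [LieAlgebra R L] [Module.Finite R L] :
    LieAlgebra.rank K (K ⊗[S] (S ⊗[R] L)) = LieAlgebra.rank K (K ⊗[R] L) := by
  refine rank_equiv K _ _ (TensorProduct.AlgebraTensorModule.cancelBaseChange R S K K L) fun x y => ?_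
  let e := TensorProduct.AlgebraTensorModule.cancelBaseChange R S K K L
  show e (LieAlgebra.ad K _ x y) = LieAlgebra.ad K _ (e x) (e y)
  induction x with
  | zero => simp only [map_zero, LinearMap.zero_apply]
  | add u w hu hw => simp only [map_add, LinearMap.add_apply, hu, hw]
  | tmul c x =>
    induction y with
    | zero => simp only [map_zero]
    | add u w hu hw => simp only [map_add, hu, hw]
    | tmul d y =>
      induction x with
      | zero => simp only [TensorProduct.tmul_zero, map_zero, LinearMap.zero_apply]
      | add u w hu hw => simp only [TensorProduct.tmul_add, map_add, LinearMap.add_apply, hu, hw]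
      | tmul s x =>
        induction y with
        | zero => simp only [TensorProduct.tmul_zero, map_zero]
        | add u w hu hw => simp only [TensorProduct.tmul_add, map_add, hu, hw]
        | tmul t y => simp [e, smul_smul, mul_smul_comm, smul_mul_assoc, mul_comm, mul_left_comm, mul_assoc]

end

/-- Over an affine base Spec A: let L be a Lie algebra over A which is a finitely generated projective
A-module. If for some faithfully flat A-algebra A' the Lie algebra A' ⊗ L has a Cartan subalgebra
relative to A' (condition (C₁)), then the nilpotent rank of the fibres κ(p) ⊗ L is a locally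
constant function of p ∈ Spec A (condition (C₀)). -/
theorem result {A : Type u} [CommRing A] {L : Type u} [LieRing L]
    [LieAlgebra A L] [Module.Finite A L] [Module.Projective A L]
    (hC1 : ∃ (A' : Type u) (_ : CommRing A') (_ : Algebra A A'), Module.FaithfullyFlat A A' ∧
        ∃ H : LieSubalgebra A' (A' ⊗[A] L), SGA3t2b.IsCartanRel H) :
    ∀ p : PrimeSpectrum A, ∃ f : A, f ∉ p.asIdeal ∧ ∀ q : PrimeSpectrum A, f ∉ q.asIdeal →
        LieAlgebra.rank q.asIdeal.ResidueField (q.asIdeal.ResidueField ⊗[A] L) =
          LieAlgebra.rank p.asIdeal.ResidueField (p.asIdeal.ResidueField ⊗[A] L) := by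
  classical
  obtain ⟨A', _, _, hff, H, hH⟩ := hC1
  let r : PrimeSpectrum A → ℕ := fun q => LieAlgebra.rank q.asIdeal.ResidueField (q.asIdeal.ResidueField ⊗[A] L)
  let g := PrimeSpectrum.comap (algebraMap A A')
  haveI := hH.1
  haveI : Module.FinitePresentation A' (A' ⊗[A] L) := Module.finitePresentation_of_projective A' _
  haveI : Module.FinitePresentation A' ((A' ⊗[A] L) ⧸ H.toSubmodule) := Module.finitePresentation_of_projective A' _
  have hrg : ∀ q, r (g q) = Module.rankAtStalk (A' ⊗[A] L) q -
      Module.rankAtStalk ((A' ⊗[A] L) ⧸ H.toSubmodule) q := by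
    intro q
    haveI : q.asIdeal.LiesOver (g q).asIdeal := ⟨rfl⟩
    let K := AlgebraicClosure q.asIdeal.ResidueField
    let φ := Ideal.ResidueField.mapₐ (g q).asIdeal q.asIdeal (Algebra.ofId A A') rfl
    letI : Algebra (g q).asIdeal.ResidueField K :=
      ((algebraMap q.asIdeal.ResidueField K).comp φ.toRingHom).toAlgebra
    haveI : IsScalarTower A (g q).asIdeal.ResidueField K := IsScalarTower.of_algebraMap_eq fun a => by
      rw [RingHom.algebraMap_toAlgebra, RingHom.comp_apply]
      rw [show φ.toRingHom (algebraMap A (g q).asIdeal.ResidueField a) = algebraMap A q.asIdeal.ResidueField a from φ.commutes a,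
        ← IsScalarTower.algebraMap_apply]
    show LieAlgebra.rank (g q).asIdeal.ResidueField _ = _
    rw [← rank_trans A (g q).asIdeal.ResidueField K L, ← rank_assoc A A' K L,
      rank_trans A' q.asIdeal.ResidueField K (A' ⊗[A] L), ← (hH.2 q).2.2,
      Module.rankAtStalk_eq, Module.rankAtStalk_eq]
    let κ := q.asIdeal.ResidueField
    let qm := H.toSubmodule.mkQ
    have hsurj : Function.Surjective (qm.baseChange κ) := LinearMap.lTensor_surjective κ H.toSubmodule.mkQ_surjective
    have hker : LinearMap.ker (qm.baseChange κ) = SGA3t2b.fibreSubmodule q H := by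
      refine le_antisymm (fun z hz => ?_) ?_
      · obtain ⟨w, rfl⟩ := (lTensor_exact κ (LinearMap.exact_subtype_mkQ H.toSubmodule) H.toSubmodule.mkQ_surjective z).mp hz
        clear hz
        induction w with
        | zero => simp
        | tmul c h =>
          rw [LinearMap.lTensor_tmul, show c ⊗ₜ[A'] (H.toSubmodule.subtype h) =
            c • ((1 : κ) ⊗ₜ[A'] (h : A' ⊗[A] L)) by rw [TensorProduct.smul_tmul', smul_eq_mul, mul_one]; rfl]
          exact Submodule.smul_mem _ _ (Submodule.tmul_mem_baseChange_of_mem 1 h.2)
        | add u v hu hv => rw [map_add]; exact add_mem hu hv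
      · rw [SGA3t2b.fibreSubmodule, Submodule.baseChange_eq_span, Submodule.span_le]
        rintro _ ⟨h, hh, rfl⟩
        simp [qm, (Submodule.Quotient.mk_eq_zero H.toSubmodule).mpr hh]
    have := (qm.baseChange κ).finrank_range_add_finrank_ker
    rw [LinearMap.range_eq_top.mpr hsurj, finrank_top, hker] at this
    exact (Nat.eq_sub_of_add_eq' this)
  haveI := hH.1
  haveI : Module.FinitePresentation A' (A' ⊗[A] L) := Module.finitePresentation_of_projective A' _
  haveI : Module.FinitePresentation A' ((A' ⊗[A] L) ⧸ H.toSubmodule) := Module.finitePresentation_of_projective A' _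
  have hlc : IsLocallyConstant (r ∘ g) := by
    have : r ∘ g = fun q => Module.rankAtStalk (A' ⊗[A] L) q -
        Module.rankAtStalk ((A' ⊗[A] L) ⧸ H.toSubmodule) q := funext hrg
    rw [this]
    exact (Module.isLocallyConstant_rankAtStalk).comp₂ Module.isLocallyConstant_rankAtStalk (fun a b => a - b)
  haveI := hff
  have hquot : Topology.IsQuotientMap g := PrimeSpectrum.isQuotientMap_of_generalizingMap
    PrimeSpectrum.comap_surjective_of_faithfullyFlat
    (RingHom.Flat.generalizingMap_comap (RingHom.flat_algebraMap_iff.mpr inferInstance))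
  intro p
  have hop : IsOpen (r ⁻¹' {r p}) := hquot.isOpen_preimage.mp (hlc {r p})
  obtain ⟨_, ⟨f, rfl⟩, hpf, hsub⟩ := PrimeSpectrum.isTopologicalBasis_basic_opens.exists_subset_of_mem_open
    (show p ∈ r ⁻¹' {r p} from rfl) hop
  exact ⟨f, hpf, fun q hq => hsub hq⟩

end Groth.Agent.S8378
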