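import Groth.Statements.S8383
-- import your own Groth.Agent.* helpers here

set_option autoImplicit false
universe u
open scoped TensorProduct
open SGA3t2b

namespace Groth.Agent.S8383

/-- Exchange: an independent family whose `i`th member is in the span of `S i` can be replaced by
an independent choice of members of the `S i`. -/
lemma exists_li_choice {K : Type*} [Field K] {E : Type*} [AddCommGroup E] [Module K E] {ι : Type*}
    [Fintype ι] (θ : Module.Basis ι K E) (S : ι → Set E)
    (hS : ∀ i, θ i ∈ Submodule.span K (S i)) :
    ∃ f : ι → E, (∀ i, f i ∈ S i) ∧ LinearIndependent K f := by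
  classical
  have key : ∀ F : Finset ι, ∃ f : ι → E,
      (∀ i ∈ F, f i ∈ S i) ∧ (∀ i ∉ F, f i = θ i) ∧ LinearIndependent K f := by
    intro F
    induction F using Finset.induction_on with
    | empty => exact ⟨θ, by simp, fun _ _ => rfl, θ.linearIndependent⟩
    | insert a F haF ih =>
      obtain ⟨f, h1, h2, h3⟩ := ih
      have hne : Nonempty ι := ⟨a⟩
      have : FiniteDimensional K E := θ.finiteDimensional_of_finite
      let b := basisOfLinearIndependentOfCardEqFinrank h3 (Module.finrank_eq_card_basis θ).symm
      have hb : ⇑b = f := coe_basisOfLinearIndependentOfCardEqFinrank _ _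
      obtain ⟨g, hg, hga⟩ : ∃ g ∈ S a, b.coord a g ≠ 0 := by
        by_contra! hcon
        have h0 := (Submodule.span_le.2 fun g hg => LinearMap.mem_ker.2 (hcon g hg)) (hS a)
        rw [LinearMap.mem_ker, ← h2 a haF, ← hb, Module.Basis.coord_apply, Module.Basis.repr_self] at h0
        simp at h0
      refine ⟨Function.update f a g, fun i hi => ?_, fun i hi => ?_, ?_⟩
      · rcases Finset.mem_insert.1 hi with rfl | hi
        · simpa using hg
        · rw [Function.update_of_ne (fun h => haF (by rwa [← h]))]; exact h1 i hi
      · rw [Finset.mem_insert, not_or] at hi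
        rw [Function.update_of_ne hi.1]; exact h2 i hi.2
      · refine h3.update a g ⟨1, one_mem _, b.repr g, mem_nonZeroDivisors_of_ne_zero hga, ?_⟩
        rw [one_smul, ← hb, Module.Basis.linearCombination_repr]
  obtain ⟨f, h1, -, h3⟩ := key Finset.univ
  exact ⟨f, fun i => h1 i (Finset.mem_univ i), h3⟩

/-- Let k be a finite field with algebraic closure K, V a finite-dimensional vector space over k, and
θ₁, …, θₙ a basis of the dual of the K-vector space K ⊗ V. Then there is x ∈ V with θᵢ(1 ⊗ x) ≠ 0
for every i. -/
theorem result (k : Type u) [Field k] [Finite k]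
    (V : Type u) [AddCommGroup V] [Module k V] [Module.Finite k V] {ι : Type} [Fintype ι]
    (θ : Module.Basis ι (AlgebraicClosure k) (Module.Dual (AlgebraicClosure k) (AlgebraicClosure k ⊗[k] V))) :
    ∃ x : V, ∀ i : ι, θ i ((1 : AlgebraicClosure k) ⊗ₜ[k] x) ≠ 0 := by
  classical
  let K := AlgebraicClosure k
  let e := Module.finBasis k V
  let eK : Module.Basis (Fin (Module.finrank k V)) K (K ⊗[k] V) := e.baseChange K
  -- forms defined over `k`, extended to `K`
  let ext : Module.Dual k V → Module.Dual K (K ⊗[k] V) := fun f =>
    (TensorProduct.AlgebraTensorModule.rid k K K).toLinearMap ∘ₗ LinearMap.baseChange K f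
  have hext : ∀ (f : Module.Dual k V) (a : K) (x : V), ext f (a ⊗ₜ x) = f x • a := fun f a x => by
    simp [ext]
  by_contra! hcon
  let S : ι → Set (Module.Dual K (K ⊗[k] V)) := fun i =>
    ext '' {f | ∀ x : V, θ i (1 ⊗ₜ x) = 0 → f x = 0}
  have hS : ∀ i, θ i ∈ Submodule.span K (S i) := by
    intro i
    let L : V →ₗ[k] K := (θ i).restrictScalars k ∘ₗ TensorProduct.mk k K V 1
    let W := LinearMap.range L
    let w := Module.finBasis k W
    let g : Fin (Module.finrank k W) → Module.Dual k V := fun j => w.coord j ∘ₗ L.rangeRestrict
    have hθ : θ i = ∑ j, (w j : K) • ext (g j) := by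
      apply eK.ext
      intro l
      simp only [LinearMap.sum_apply, LinearMap.smul_apply, eK, Module.Basis.baseChange_apply, hext]
      have hsum := congrArg (Subtype.val : W → K) (w.sum_repr (L.rangeRestrict (e l)))
      rw [Submodule.coe_sum] at hsum
      have hL : θ i ((1 : K) ⊗ₜ[k] e l) = ↑(L.rangeRestrict (e l)) := rfl
      rw [hL, ← hsum]
      refine Finset.sum_congr rfl fun j _ => ?_
      simp only [g, LinearMap.comp_apply, Module.Basis.coord_apply, SetLike.val_smul, smul_eq_mul]
      rw [mul_smul_comm, mul_one]
    rw [hθ]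
    refine Submodule.sum_mem _ fun j _ => Submodule.smul_mem _ _ (Submodule.subset_span ⟨g j, ?_, rfl⟩)
    intro x hx
    have : L.rangeRestrict x = 0 := Subtype.ext hx
    simp [g, this]
  obtain ⟨F, hF, hind⟩ := exists_li_choice θ S hS
  choose f hf hfF using hF
  have hfi : LinearIndependent k f := by
    rw [Fintype.linearIndependent_iff]
    intro c hc i
    have := Fintype.linearIndependent_iff.1 hind (fun i => algebraMap k K (c i)) ?_ i
    · exact (algebraMap k K).injective (by simpa using this)
    apply eK.ext
    intro l
    have hcl := LinearMap.congr_fun hc (e l)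
    simp only [LinearMap.sum_apply, LinearMap.smul_apply, LinearMap.zero_apply, eK,
      Module.Basis.baseChange_apply, ← hfF, hext] at hcl ⊢
    simp only [← Algebra.algebraMap_eq_smul_one, smul_eq_mul, ← map_mul] at hcl ⊢
    rw [← map_sum, hcl, map_zero]
  have hcard : Fintype.card ι = Module.finrank k V := by
    rw [← Module.finrank_eq_card_basis θ, Subspace.dual_finrank_eq, Module.finrank_baseChange]
  cases isEmpty_or_nonempty ι
  · exact (hcon 0).choose_spec |> fun _ => IsEmpty.false (hcon 0).choose
  let bf := basisOfLinearIndependentOfCardEqFinrank hfi (hcard.trans (Subspace.dual_finrank_eq).symm)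
  have hbf : ⇑bf = f := coe_basisOfLinearIndependentOfCardEqFinrank _ _
  -- the point where all the chosen forms take the value one
  let ev : Module.Dual k (Module.Dual k V) := bf.constr k fun _ => (1 : k)
  let x : V := (Module.evalEquiv k V).symm ev
  obtain ⟨i, hi⟩ := hcon x
  have h1 : f i x = 1 := by
    rw [Module.apply_evalEquiv_symm_apply, ← hbf]
    exact bf.constr_basis k _ i
  rw [hf i x hi] at h1
  exact zero_ne_one h1

end Groth.Agent.S8383
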