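import Groth.Statements.S8384
import Mathlib.AlgebraicGeometry.Stalk
import Mathlib.RingTheory.AdicCompletion.RingHom
-- import your own Groth.Agent.* helpers here

set_option autoImplicit false
universe u
open CategoryTheory MonoidalCategory CartesianMonoidalCategory MonObj GrpObj AlgebraicGeometry
open SGA3x

namespace Groth.Agent.S8384

open CategoryTheory AlgebraicGeometry

/-- Let A be a local ring, separated and complete for the topology defined by its maximal ideal m, S =
Spec A and Sₙ = Spec(A/mⁿ). Then for every scheme X the canonical map Hom(S, X) → lim Hom(Sₙ, X) is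
bijective: two morphisms S → X that agree on every Sₙ are equal, and every family of morphisms Sₙ →
X compatible with the closed immersions Sₙ → Sₙ₊₁ is induced by a morphism S → X. -/
theorem result (A : Type u) [CommRing A] [IsLocalRing A]
    [IsAdicComplete (IsLocalRing.maximalIdeal A) A] (X : Scheme.{u}) :
    (∀ f g : (Spec (CommRingCat.of A)) ⟶ X,
      (∀ n : ℕ, (Spec.map (CommRingCat.ofHom (Ideal.Quotient.mk ((IsLocalRing.maximalIdeal A) ^ n)))) ≫ f = (Spec.map (CommRingCat.ofHom (Ideal.Quotient.mk ((IsLocalRing.maximalIdeal A) ^ n)))) ≫ g) → f = g) ∧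
    (∀ u : (n : ℕ) → (Spec (CommRingCat.of (A ⧸ (IsLocalRing.maximalIdeal A) ^ n)) ⟶ X),
      (∀ n : ℕ, (Spec.map (CommRingCat.ofHom (Ideal.Quotient.factor
          (Ideal.pow_le_pow_right (I := (IsLocalRing.maximalIdeal A)) (Nat.le_succ n))))) ≫ u (n + 1) = u n) →
      ∃ f : (Spec (CommRingCat.of A)) ⟶ X, ∀ n : ℕ, (Spec.map (CommRingCat.ofHom (Ideal.Quotient.mk ((IsLocalRing.maximalIdeal A) ^ n)))) ≫ f = u n) := by
  let 𝔪 := IsLocalRing.maximalIdeal A
  let q : ∀ n, Spec (CommRingCat.of (A ⧸ 𝔪 ^ n)) ⟶ Spec (CommRingCat.of A) :=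
    fun n => Spec.map (CommRingCat.ofHom (Ideal.Quotient.mk (𝔪 ^ n)))
  haveI : Nontrivial (A ⧸ 𝔪 ^ 1) := Ideal.Quotient.nontrivial_iff.mpr (by
    rw [pow_one]; exact (IsLocalRing.maximalIdeal.isMaximal A).ne_top)
  obtain ⟨p₀⟩ : Nonempty (Spec (CommRingCat.of (A ⧸ 𝔪 ^ 1))) := inferInstanceAs (Nonempty (PrimeSpectrum (A ⧸ 𝔪 ^ 1)))
  have hcl : ∀ n (p : Spec (CommRingCat.of (A ⧸ 𝔪 ^ n))), q n p = IsLocalRing.closedPoint A := by
    intro n p
    apply PrimeSpectrum.ext
    refine ((IsLocalRing.maximalIdeal.isMaximal A).eq_of_le ((q n p).isPrime.ne_top) ?_).symm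
    intro x hx
    refine (q n p).isPrime.mem_of_pow_mem n ?_
    change Ideal.Quotient.mk (𝔪 ^ n) (x ^ n) ∈ p.asIdeal
    rw [Ideal.Quotient.eq_zero_iff_mem.2 (Ideal.pow_mem_pow hx n)]
    exact Ideal.zero_mem _
  refine ⟨fun f g h => ?_, fun u hu => ?_⟩
  · obtain ⟨_, ⟨U, hU, rfl⟩, hxU, -⟩ := X.isBasis_affineOpens.exists_subset_of_mem_open
      (Set.mem_univ (f (IsLocalRing.closedPoint A))) isOpen_univ
    have hgc : g (IsLocalRing.closedPoint A) = f (IsLocalRing.closedPoint A) := by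
      rw [← hcl 1 p₀, ← Scheme.Hom.comp_apply, ← Scheme.Hom.comp_apply]
      exact congrArg (fun r : Spec (CommRingCat.of (A ⧸ 𝔪 ^ 1)) ⟶ X => r p₀) (h 1).symm
    have hr : ∀ (k : Spec (CommRingCat.of A) ⟶ X), k (IsLocalRing.closedPoint A) ∈ U →
        Set.range k ⊆ Set.range hU.fromSpec := by
      rintro k hk _ ⟨y, rfl⟩
      rw [hU.range_fromSpec]
      exact (Scheme.preimage_eq_top_of_closedPoint_mem k hk).ge (Set.mem_univ y)
    have hfr := hr f hxU
    have hgr := hr g (hgc ▸ hxU)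
    rw [← IsOpenImmersion.lift_fac hU.fromSpec f hfr, ← IsOpenImmersion.lift_fac hU.fromSpec g hgr]
    rw [← Spec.map_preimage (IsOpenImmersion.lift hU.fromSpec f hfr),
      ← Spec.map_preimage (IsOpenImmersion.lift hU.fromSpec g hgr)]
    congr 2
    ext r
    refine (IsHausdorff.eq_iff_smodEq (I := 𝔪)).2 fun n => ?_
    rw [SModEq.sub_mem, smul_eq_mul, Ideal.mul_top, ← Ideal.Quotient.eq]
    have h' : q n ≫ IsOpenImmersion.lift hU.fromSpec f hfr = q n ≫ IsOpenImmersion.lift hU.fromSpec g hgr := by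
      rw [← cancel_mono hU.fromSpec, Category.assoc, Category.assoc, IsOpenImmersion.lift_fac,
        IsOpenImmersion.lift_fac]
      exact h n
    rw [← Spec.map_preimage (IsOpenImmersion.lift hU.fromSpec f hfr),
      ← Spec.map_preimage (IsOpenImmersion.lift hU.fromSpec g hgr), ← Spec.map_comp, ← Spec.map_comp] at h'
    exact congrArg (fun φ : _ ⟶ CommRingCat.of (A ⧸ 𝔪 ^ n) => φ.hom r) (Spec.map_injective h')
  · obtain ⟨_, ⟨U, hU, rfl⟩, hxU, -⟩ := X.isBasis_affineOpens.exists_subset_of_mem_open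
      (Set.mem_univ (u 1 p₀)) isOpen_univ
    have hstep : ∀ n (p : Spec (CommRingCat.of (A ⧸ 𝔪 ^ n))), u n p = u 1 p₀ := by
      have hone : ∀ n (p : Spec (CommRingCat.of (A ⧸ 𝔪 ^ n))) (p' : Spec (CommRingCat.of (A ⧸ 𝔪 ^ n))), p = p' := by
        intro n p p'
        exact PrimeSpectrum.comap_injective_of_surjective _ Ideal.Quotient.mk_surjective ((hcl n p).trans (hcl n p').symm)
      intro n
      induction n with
      | zero =>
        intro p
        exfalso
        have : Subsingleton (A ⧸ 𝔪 ^ 0) := Ideal.Quotient.subsingleton_iff.mpr (by simp)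
        exact (PrimeSpectrum.nonempty_iff_nontrivial.1 ⟨p⟩).exists_pair_ne.elim fun a ⟨b, hab⟩ => hab (Subsingleton.elim a b)
      | succ k ih =>
        intro p
        rcases Nat.eq_zero_or_pos k with rfl | hk
        · rw [hone _ p p₀]
        · haveI : Nontrivial (A ⧸ 𝔪 ^ k) := Ideal.Quotient.nontrivial_iff.mpr (fun hc =>
            (IsLocalRing.maximalIdeal.isMaximal A).ne_top (top_le_iff.1 (hc ▸ Ideal.pow_le_self (by omega))))
          obtain ⟨p'⟩ : Nonempty (Spec (CommRingCat.of (A ⧸ 𝔪 ^ k))) := inferInstanceAs (Nonempty (PrimeSpectrum (A ⧸ 𝔪 ^ k)))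
          rw [← ih p', ← hu k, Scheme.Hom.comp_apply]
          congr 1
          exact hone _ _ _
    have hr : ∀ n, Set.range (u n) ⊆ Set.range hU.fromSpec := by
      rintro n _ ⟨p, rfl⟩
      rw [hU.range_fromSpec, hstep n p]
      exact hxU
    let t : ∀ n, Γ(X, U) →+* A ⧸ 𝔪 ^ n := fun n =>
      (Spec.preimage (IsOpenImmersion.lift hU.fromSpec (u n) (hr n))).hom
    have ht : ∀ n, Spec.map (CommRingCat.ofHom (t n)) ≫ hU.fromSpec = u n := fun n => by
      rw [CommRingCat.ofHom_hom, Spec.map_preimage, IsOpenImmersion.lift_fac]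
    have htc : ∀ {m n : ℕ} (hle : m ≤ n), (Ideal.Quotient.factorPow 𝔪 hle).comp (t n) = t m := by
      intro m n hle
      induction n, hle using Nat.le_induction with
      | base => exact RingHom.ext fun r => by simp
      | succ n hmn ih =>
        have h1 : (Ideal.Quotient.factorPow 𝔪 (Nat.le_succ n)).comp (t (n + 1)) = t n := by
          refine congrArg CommRingCat.Hom.hom (Spec.map_injective
            (a₁ := CommRingCat.ofHom ((Ideal.Quotient.factorPow 𝔪 (Nat.le_succ n)).comp (t (n + 1))))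
            (a₂ := CommRingCat.ofHom (t n)) ((cancel_mono hU.fromSpec).1 ?_))
          rw [CommRingCat.ofHom_comp, Spec.map_comp, Category.assoc, ht, ht]
          exact hu n
        rw [← ih, ← h1, ← RingHom.comp_assoc]
        congr 1
        exact Ideal.Quotient.ringHom_ext rfl
    refine ⟨Spec.map (CommRingCat.ofHom (IsAdicComplete.liftRingHom 𝔪 t htc)) ≫ hU.fromSpec, fun n => ?_⟩
    rw [← Category.assoc, ← Spec.map_comp, ← CommRingCat.ofHom_comp, IsAdicComplete.mk_comp_liftRingHom, ht]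

end Groth.Agent.S8384
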