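import Groth.Statements.S8385
import Groth.Agent.CplFin.PointsAlgebraize
-- import your own Groth.Agent.* helpers here

set_option autoImplicit false
universe u
open CategoryTheory MonoidalCategory CartesianMonoidalCategory MonObj GrpObj AlgebraicGeometry
open SGA3x

namespace Groth.Agent.S8385

/-- Let A be a complete Noetherian local ring with maximal ideal m, S = Spec A, Sₙ = Spec(A/mⁿ), X =
Spec B a scheme finite over S (B a finite A-algebra) and Y an S-scheme. Then the canonical map
Hom_S(X, Y) → lim Hom_{Sₙ}(Xₙ, Yₙ), Xₙ = Spec(B/mⁿB), is bijective: two S-morphisms X → Y agreeing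
on every Xₙ are equal, and every family of S-morphisms Xₙ → Y compatible with the closed immersions
Xₙ → Xₙ₊₁ comes from an S-morphism X → Y. -/
theorem result (A : Type u) [CommRing A] [IsLocalRing A]
    [IsNoetherianRing A] [IsAdicComplete (IsLocalRing.maximalIdeal A) A] (B : Type u) [CommRing B] [Algebra A B]
    [Module.Finite A B] (Y : Over (Spec (CommRingCat.of A))) :
    (∀ f g : Spec (CommRingCat.of B) ⟶ Y.left, f ≫ Y.hom = Spec.map (CommRingCat.ofHom (algebraMap A B)) →
      g ≫ Y.hom = Spec.map (CommRingCat.ofHom (algebraMap A B)) →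
      (∀ n : ℕ, Spec.map (CommRingCat.ofHom (Ideal.Quotient.mk (Ideal.map (algebraMap A B) ((IsLocalRing.maximalIdeal A) ^ n)))) ≫ f =
        Spec.map (CommRingCat.ofHom (Ideal.Quotient.mk (Ideal.map (algebraMap A B) ((IsLocalRing.maximalIdeal A) ^ n)))) ≫ g) → f = g) ∧
    (∀ u : (n : ℕ) → (Spec (CommRingCat.of (B ⧸ (Ideal.map (algebraMap A B) ((IsLocalRing.maximalIdeal A) ^ n)))) ⟶ Y.left),
      (∀ n : ℕ, u n ≫ Y.hom =
        Spec.map (CommRingCat.ofHom ((Ideal.Quotient.mk (Ideal.map (algebraMap A B) ((IsLocalRing.maximalIdeal A) ^ n))).comp (algebraMap A B)))) →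
      (∀ n : ℕ, Spec.map (CommRingCat.ofHom (Ideal.Quotient.factor
          (Ideal.map_mono (Ideal.pow_le_pow_right (I := (IsLocalRing.maximalIdeal A)) (Nat.le_succ n))))) ≫ u (n + 1) = u n) →
      ∃ f : Spec (CommRingCat.of B) ⟶ Y.left, f ≫ Y.hom = Spec.map (CommRingCat.ofHom (algebraMap A B)) ∧
        ∀ n : ℕ, Spec.map (CommRingCat.ofHom (Ideal.Quotient.mk (Ideal.map (algebraMap A B) ((IsLocalRing.maximalIdeal A) ^ n)))) ≫ f = u n) := by
  let J := Groth.Agent.CplFin.mExt A B
  have hJ : ∀ n, Ideal.map (algebraMap A B) (IsLocalRing.maximalIdeal A ^ n) = J ^ n := fun n => Ideal.map_pow _ _ _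
  let q : ∀ n, Spec (CommRingCat.of (B ⧸ J ^ n)) ⟶ Spec (CommRingCat.of (B ⧸ Ideal.map (algebraMap A B) (IsLocalRing.maximalIdeal A ^ n))) :=
    fun n => Spec.map (CommRingCat.ofHom (Ideal.Quotient.factor (hJ n).le))
  let q' : ∀ n, Spec (CommRingCat.of (B ⧸ Ideal.map (algebraMap A B) (IsLocalRing.maximalIdeal A ^ n))) ⟶ Spec (CommRingCat.of (B ⧸ J ^ n)) :=
    fun n => Spec.map (CommRingCat.ofHom (Ideal.Quotient.factor (hJ n).ge))
  have hq : ∀ n, Spec.map (CommRingCat.ofHom (Ideal.Quotient.mk (Ideal.map (algebraMap A B) (IsLocalRing.maximalIdeal A ^ n)))) =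
      q' n ≫ Groth.Agent.CplFin.thick B J n := fun n => by
    rw [← Spec.map_comp]
    congr 1
  refine ⟨fun f g _ _ h => Groth.Agent.CplFin.hom_ext_of_complete A B f g fun n => ?_, fun u hu1 hu2 => ?_⟩
  · have h1 := congrArg (q n ≫ ·) (h n)
    simp only [hq, ← Category.assoc] at h1
    rwa [show q n ≫ q' n = 𝟙 _ by
      rw [← Spec.map_comp, ← Spec.map_id]
      congr 1
      ext x
      rfl, Category.id_comp] at h1
  · obtain ⟨f, hf⟩ := Groth.Agent.CplFin.exists_algebraize_of_complete A B (fun n => q n ≫ u n) fun n => by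
      rw [← hu2 n, ← Category.assoc, ← Category.assoc, ← Spec.map_comp, ← Spec.map_comp]
      congr 2
      ext x
      rfl
    have hmain : ∀ n, Spec.map (CommRingCat.ofHom (Ideal.Quotient.mk (Ideal.map (algebraMap A B) (IsLocalRing.maximalIdeal A ^ n)))) ≫ f = u n := by
      intro n
      rw [hq, Category.assoc, hf, ← Category.assoc, show q' n ≫ q n = 𝟙 _ by
        rw [← Spec.map_comp, ← Spec.map_id]
        congr 1
        ext x
        rfl, Category.id_comp]
    refine ⟨f, Groth.Agent.CplFin.hom_ext_of_complete A B _ _ fun n => ?_, hmain⟩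
    rw [← Category.assoc, hf, Category.assoc, hu1, ← Spec.map_comp, ← Spec.map_comp]
    congr 1

end Groth.Agent.S8385
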