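import Groth.Statements.S8388
import Groth.Agent.MultHopf.AdicPt
import Groth.Agent.MultHopf.ProjChart
-- import your own Groth.Agent.* helpers here

set_option autoImplicit false
universe u
open CategoryTheory MonoidalCategory CartesianMonoidalCategory MonObj GrpObj AlgebraicGeometry
open SGA3x

namespace Groth.Agent.S8388

open Limits Groth.Agent.MultHopf
set_option backward.isDefEq.respectTransparency.types false

/-- Let A be a complete Noetherian local ring with residue field k, S = Spec A, S₀ = Spec k the closed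
point, M an S-group scheme finite over S and of multiplicative type, and G an S-group scheme smooth
over S. Then every homomorphism of S₀-groups u₀ : M₀ → G₀ between the closed fibres is the
restriction of a homomorphism of S-groups u : M → G; and if u, u′ : M → G are homomorphisms with the
same restriction to S₀, there is g ∈ G(S) restricting to the unit of G(S₀) with u′ = int(g) ∘ u. -/
theorem result (A : Type u) [CommRing A]
    [IsLocalRing A] [IsNoetherianRing A] [IsAdicComplete (IsLocalRing.maximalIdeal A) A]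
    (M : Over (Spec (CommRingCat.of A))) [GrpObj M] [IsFinite M.hom] (hM : SGA3x.IsMultTypeFT M)
    (G : Over (Spec (CommRingCat.of A))) [GrpObj G] [Smooth G.hom] :
    (∀ (u₀ : Red.bc (Spec.map (CommRingCat.ofHom (Ideal.Quotient.mk (IsLocalRing.maximalIdeal A)))) M ⟶ Red.bc (Spec.map (CommRingCat.ofHom (Ideal.Quotient.mk (IsLocalRing.maximalIdeal A)))) G) [IsMonHom u₀],
      ∃ u : M ⟶ G, IsMonHom u ∧ (Over.pullback (Spec.map (CommRingCat.ofHom (Ideal.Quotient.mk (IsLocalRing.maximalIdeal A))))).map u = u₀) ∧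
    (∀ (u u' : M ⟶ G) [IsMonHom u] [IsMonHom u'],
      (Over.pullback (Spec.map (CommRingCat.ofHom (Ideal.Quotient.mk (IsLocalRing.maximalIdeal A))))).map u = (Over.pullback (Spec.map (CommRingCat.ofHom (Ideal.Quotient.mk (IsLocalRing.maximalIdeal A))))).map u' →
      ∃ g : 𝟙_ (Over (Spec (CommRingCat.of A))) ⟶ G,
        (Over.pullback (Spec.map (CommRingCat.ofHom (Ideal.Quotient.mk (IsLocalRing.maximalIdeal A))))).map g = toUnit _ ≫ η[Red.bc (Spec.map (CommRingCat.ofHom (Ideal.Quotient.mk (IsLocalRing.maximalIdeal A)))) G] ∧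
        ∀ (X : Over (Spec (CommRingCat.of A))) (x : X ⟶ M), x ≫ u' = (toUnit X ≫ g) * (x ≫ u) * (toUnit X ≫ g)⁻¹) := by
  obtain ⟨B, _, _, e, he, l, hl⟩ := exists_model (isMultTypeLoc_of_ft hM)
  have : IsMonHom e.inv := inferInstance
  have : Module.Finite A B := by
    have : IsIso e.hom.left := ((Over.forget _).mapIso e).isIso_hom
    have h1 : IsFinite (Spec.map (CommRingCat.ofHom (algebraMap A B))) := by
      rw [show Spec.map (CommRingCat.ofHom (algebraMap A B)) = e.hom.left ≫ M.hom from (Over.w e.hom).symm]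
      exact MorphismProperty.comp_mem @IsFinite _ _ (inferInstanceAs (IsFinite e.hom.left)) ‹IsFinite M.hom›
    exact RingHom.finite_algebraMap.1 ((IsFinite.SpecMap_iff _).1 h1)
  have hG : Smooth G.hom := inferInstance
  let J := IsLocalRing.maximalIdeal A
  let P := Over.pullback (jcl J)
  refine ⟨fun u₀ _ => ?_, fun u u' _ _ h => ?_⟩
  · obtain ⟨f, hf, hfr⟩ := exists_lift_hom_adic hl hG (P.map e.hom ≫ u₀)
    refine ⟨e.inv ≫ f, inferInstance, ?_⟩
    show P.map (e.inv ≫ f) = u₀
    rw [P.map_comp, hfr, ← Category.assoc, ← P.map_comp, e.inv_hom_id, P.map_id, Category.id_comp]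
  · obtain ⟨g, hg, hg'⟩ := exists_conj_adic hl hG (e.hom ≫ u) (e.hom ≫ u') (isHomPt_of_isMonHom _) (isHomPt_of_isMonHom _) (by
      rw [← Category.assoc, ← Category.assoc]
      exact comp_eq_of_map_eq h (toCl J B) _)
    refine ⟨Groth.Agent.MultHopf.base A ≫ g, ?_, fun X x => ?_⟩
    · show P.map _ = _
      rw [show P.map (Groth.Agent.MultHopf.base A ≫ g) = P.map 1 from map_eq_of_comp_eq fun T p y => by
        rw [← Category.assoc, toBase_ext (y ≫ Groth.Agent.MultHopf.base A)
          (p ≫ clTo J ≫ ptMap (Ideal.Quotient.mkₐ A (J.map (algebraMap A A)))),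
          Category.assoc, Category.assoc, hg, MonObj.comp_one, MonObj.comp_one, MonObj.comp_one]]
      rw [Functor.map_one, Hom.one_def]
    · have h2 := congrArg (x ≫ e.inv ≫ ·) hg'
      simp only [conjC, Iso.inv_hom_id_assoc, MonObj.comp_mul, GrpObj.comp_inv, ← Category.assoc] at h2
      simp only [Category.assoc, Iso.inv_hom_id_assoc] at h2
      rw [h2, ← Category.assoc x, ← Category.assoc (x ≫ e.inv)]
      rw [toBase_ext ((x ≫ e.inv) ≫ ptMap (Algebra.ofId A B)) (toUnit X ≫ Groth.Agent.MultHopf.base A), Category.assoc]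

end Groth.Agent.S8388
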