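import Groth.Statements.S8392
import Groth.Agent.MultHopf.Bridge
import Groth.Agent.MultHopf.Trivial
import Groth.Agent.MultHopf.KerPts
import Mathlib.AlgebraicGeometry.EffectiveEpi
-- import your own Groth.Agent.* helpers here

set_option autoImplicit false
universe u
open CategoryTheory MonoidalCategory CartesianMonoidalCategory MonObj GrpObj AlgebraicGeometry
open SGA3x

namespace Groth.Agent.S8392

open Groth.Agent.MultHopf Coalgebra Limits WithConv
open scoped TensorProduct

theorem exists_hom_eq {D A B : Type u} [CommRing D] [CommRing A] [HopfAlgebra D A] [CommRing B] [HopfAlgebra D B]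
    (v : Grp.mk (hspec D B) ⟶ Grp.mk (hspec D A)) :
    ∃ p : A →ₐc[D] B, v.hom.hom = Spec.mapMulEquiv (toConv (p : A →ₐ[D] B)) :=
  let a : CommHopfAlgCat D := CommHopfAlgCat.of D A
  let b : CommHopfAlgCat D := CommHopfAlgCat.of D B
  let q : Opposite.op b ⟶ Opposite.op a := (hopfSpec.fullyFaithful (R := CommRingCat.of D)).preimage v
  ⟨q.unop.hom, (congrArg (fun z => z.hom.hom)
    ((hopfSpec.fullyFaithful (R := CommRingCat.of D)).map_preimage (X := Opposite.op b) (Y := Opposite.op a) v)).symm.trans (hspecHom_hom q.unop.hom)⟩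

set_option maxHeartbeats 2000000 in
theorem hom_GaZ_eq_one (D : Type u) [CommRing D] (M : Type u) [CommGroup M] (R : Type u) [CommRing R] (g : Spec (CommRingCat.of D) ⟶ Spec (CommRingCat.of R))
    (v : Grp.mk (hspec D (MonoidAlgebra D M)) ⟶ Grp.mk (Red.bc g (hspec R (SymmetricAlgebra R R)))) : v.hom.hom = 1 := by
  let : Algebra (R) D := (Spec.preimage g).hom.toAlgebra
  let eG : Grp.mk (Red.bc g (hspec R (SymmetricAlgebra R R))) ≅ Grp.mk (hspec D (D ⊗[R] (SymmetricAlgebra (R) (R)))) :=
    bcCongr (Spec.map_preimage g).symm _ ≪≫ bcSpec (R) D (SymmetricAlgebra (R) (R))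
  suffices h : (v ≫ eG.hom).hom.hom = 1 by
    have h0 : v = (v ≫ eG.hom) ≫ eG.inv := by simp
    have h2 : v.hom.hom = (v ≫ eG.hom).hom.hom ≫ eG.inv.hom.hom := congrArg (fun z => z.hom.hom) h0
    rw [h] at h2
    have := eG.inv.hom.isMonHom_hom
    exact h2.trans (MonObj.one_comp eG.inv.hom.hom)
  obtain ⟨p, hv⟩ := exists_hom_eq (v ≫ eG.hom)
  have hp : toConv (p : D ⊗[R] (SymmetricAlgebra R R) →ₐ[D] MonoidAlgebra D M) = 1 := by
    apply WithConv.ofConv_injective
    refine Algebra.TensorProduct.ext (by ext) ?_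
    refine SymmetricAlgebra.algHom_ext (LinearMap.ext_ring ?_)
    let x : D ⊗[R] (SymmetricAlgebra R R) := (1 : D) ⊗ₜ SymmetricAlgebra.ι R R 1
    have hx : Coalgebra.comul (R := D) x = x ⊗ₜ[D] 1 + 1 ⊗ₜ[D] x := by
      simp [x, TensorProduct.comul_tmul, TensorProduct.tmul_add, Algebra.TensorProduct.one_def]
    have hx0 : Coalgebra.counit (R := D) x = 0 := by simp [x, TensorProduct.counit_tmul]
    have h0 : p x = 0 := eq_zero_of_primitive _ (by
      rw [← CoalgHomClass.map_comp_comul_apply, hx]; simp)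
    show p x = algebraMap D (MonoidAlgebra D M) (Coalgebra.counit (R := D) x)
    rw [h0, hx0, map_zero]
  rw [hv, hp, map_one]

theorem fst_comp_eq {S T : Scheme.{u}} {H K : Over S} (f : T ⟶ S) {a b : H ⟶ K}
    (h : (Over.pullback f).map a = (Over.pullback f).map b) :
    pullback.fst H.hom f ≫ a.left = pullback.fst H.hom f ≫ b.left := by
  have := congrArg (fun z => z.left ≫ pullback.fst K.hom f) h
  simpa only [Over.pullback_map_left, pullback.lift_fst] using this

/-- Let H be an S-group scheme of multiplicative type. Then every homomorphism of S-groups H → 𝔾_a is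
trivial. (Stated for H of multiplicative type and of finite type, the class of multiplicative groups
available here; the published statement allows any group of multiplicative type.) -/
theorem result (S : Scheme.{u}) (H : Over S) [GrpObj H] (hH : SGA3x.IsMultTypeFT H)
    (u : H ⟶ Red.Ga S) [IsMonHom u] : u = 1 := by
  obtain ⟨S', f, hfl, hsurj, -, hloc⟩ := hH
  apply Over.OverMorphism.ext
  have : Epi (Limits.pullback.fst H.hom f) := Flat.epi_of_flat_of_surjective _
  refine (cancel_epi (Limits.pullback.fst H.hom f)).1 ?_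
  have key : (Over.pullback f).map u = 1 := by
    apply Over.OverMorphism.ext
    choose U hU M iM hM eU using hloc
    choose V hV hxV hVU using fun s' => exists_isAffineOpen_mem_and_subset (hU s')
    refine Scheme.Cover.hom_ext ((S'.openCoverOfIsOpenCover V ?_).pullback₁ (pullback.snd H.hom f)) _ _ fun s' => ?_
    · exact TopologicalSpace.Opens.ext (by
        simpa using Set.eq_univ_of_forall fun x => Set.mem_iUnion.2 ⟨x, hxV x⟩)
    let D := Γ(S', V s')
    let g' : Spec D ⟶ (U s' : Scheme.{u}) :=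
      (hV s').isoSpec.inv ≫ S'.homOfLE (hVU s')
    let t := Limits.IsTerminal.from specULiftZIsTerminal (U s').toScheme
    let tS := Limits.IsTerminal.from specULiftZIsTerminal S
    let g : Spec D ⟶ S := g' ≫ (U s').ι ≫ f
    letI := iM s'
    obtain ⟨eU⟩ := eU s'
    let e : Grp.mk (Red.bc g H) ≅ Grp.mk (hspec D (MonoidAlgebra D (ULift.{u} (Multiplicative (M s'))))) :=
      bcComp g' _ H ≪≫ bcIso g' eU ≪≫ (bcComp g' t _).symm ≪≫ bcDiag _ _ _ (M s')
    let eGa : Grp.mk (Red.bc g (Red.Ga S)) ≅ Grp.mk (Red.bc (g ≫ tS) Red.GaZ) := (bcComp g tS Red.GaZ).symm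
    let bu : Grp.mk (Red.bc g H) ⟶ Grp.mk (Red.bc g (Red.Ga S)) :=
      (Over.pullback g).mapGrp.map (Grp.ofHom u)
    have h1 := hom_GaZ_eq_one D _ (ULift.{u} ℤ) (g ≫ tS) (e.inv ≫ bu ≫ eGa.hom)
    have h2 : (Over.pullback g).map u = 1 := by
      have hh : bu = e.hom ≫ (e.inv ≫ bu ≫ eGa.hom) ≫ eGa.inv := by simp
      have h : bu.hom.hom = e.hom.hom.hom ≫ (e.inv ≫ bu ≫ eGa.hom).hom.hom ≫ eGa.inv.hom.hom :=
        congrArg (fun z => z.hom.hom) hh
      rw [h1] at h
      have := eGa.inv.hom.isMonHom_hom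
      exact h.trans ((congrArg _ (MonObj.one_comp eGa.inv.hom.hom)).trans (MonObj.comp_one _))
    have h3 : pullback.fst H.hom g ≫ u.left = pullback.fst H.hom g ≫ (1 : H ⟶ Red.Ga S).left := by
      exact fst_comp_eq g (h2.trans (Functor.map_one (Over.pullback g)).symm)
    rw [← Functor.map_one (Over.pullback f)]
    apply pullback.hom_ext
    · simp only [Category.assoc, Over.pullback_map_left, pullback.lift_fst]
      let c : pullback (pullback.snd H.hom f) (V s').ι ⟶ pullback H.hom g :=
        pullback.lift (pullback.fst _ _ ≫ pullback.fst _ _) (pullback.snd _ _ ≫ (hV s').isoSpec.hom) (by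
          simp [g, g', pullback.condition, pullback.condition_assoc])
      have hc : c ≫ pullback.fst H.hom g = pullback.fst _ _ ≫ pullback.fst _ _ := pullback.lift_fst _ _ _
      erw [← reassoc_of% hc, ← reassoc_of% hc]
      rw [h3]
    · rw [Category.assoc, Category.assoc]
      refine congrArg _ ?_
      exact Over.w ((Over.pullback f).map u) |>.trans (Over.w ((Over.pullback f).map (1 : H ⟶ Red.Ga S))).symm
  exact fst_comp_eq f (key.trans (Functor.map_one (Over.pullback f)).symm)

end Groth.Agent.S8392
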