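import Groth.Statements.S8441
-- import your own Groth.Agent.* helpers here

set_option autoImplicit false
universe u v w
open SGA3t2b

namespace Groth.Agent.S8441

/-- Let R be a root system with a system of simple roots a₁, …, aₙ and simple reflections rᵢ, and put θᵢ
= rₙ ⋯ rᵢ₊₁(aᵢ). Then the θᵢ form a basis of the group generated by the roots. Stated for a root
pairing over ℤ (Mathlib) with a base whose support is enumerated by Fin n: the θᵢ are ℤ-linearly
independent and their ℤ-span is the ℤ-span of all roots. -/
theorem result {ι : Type u} {M : Type v} {N : Type w} [AddCommGroup M] [Module ℤ M]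
    [AddCommGroup N] [Module ℤ N] (P : RootPairing ι ℤ M N) (b : P.Base) (n : ℕ) (e : Fin n ≃ ↥b.support) :
    LinearIndependent ℤ (fun i : Fin n =>
      ((List.finRange n).filter (fun j => i < j)).foldl (fun x j => P.reflection (e j : ι) x) (P.root (e i : ι))) ∧
    Submodule.span ℤ (Set.range (fun i : Fin n =>
      ((List.finRange n).filter (fun j => i < j)).foldl (fun x j => P.reflection (e j : ι) x) (P.root (e i : ι)))) =
      Submodule.span ℤ (Set.range P.root) := by
  classical
  obtain rfl : ‹Module ℤ M› = AddCommGroup.toIntModule M := Subsingleton.elim _ _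
  let f : Fin n → M := fun i => P.root (e i : ι)
  let θ : Fin n → M := fun i =>
    ((List.finRange n).filter (fun j => i < j)).foldl (fun x j => P.reflection (e j : ι) x) (f i)
  show LinearIndependent ℤ θ ∧ Submodule.span ℤ (Set.range θ) = Submodule.span ℤ (Set.range P.root)
  have key : ∀ (L : List (Fin n)) (x : M),
      L.foldl (fun x j => P.reflection (e j : ι) x) x - x ∈
        Submodule.span ℤ (f '' {j | j ∈ L}) := by
    intro L
    induction L with
    | nil => intro x; simp
    | cons a L ih =>
      intro x
      rw [List.foldl_cons]
      have h1 := Submodule.span_mono (Set.image_mono (f := f)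
        (show {j | j ∈ L} ⊆ {j | j ∈ a :: L} from fun j hj => List.mem_cons_of_mem _ hj))
        (ih (P.reflection (e a : ι) x))
      have h2 : P.reflection (e a : ι) x - x ∈ Submodule.span ℤ (f '' {j | j ∈ a :: L}) := by
        rw [RootPairing.reflection_apply, sub_sub_cancel_left]
        exact Submodule.neg_mem _ (Submodule.smul_mem _ _
          (Submodule.subset_span ⟨a, List.mem_cons_self, rfl⟩))
      have := Submodule.add_mem _ h1 h2
      rwa [sub_add_sub_cancel] at this
  have hsub : ∀ i, θ i - f i ∈ Submodule.span ℤ (f '' {j | i < j}) := fun i =>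
    Submodule.span_mono (Set.image_mono (f := f) (fun j hj => by
      simpa using (List.mem_filter.1 hj).2)) (key _ _)
  have hθf : Submodule.span ℤ (Set.range θ) = Submodule.span ℤ (Set.range f) := by
    apply le_antisymm
    · rw [Submodule.span_le]
      rintro _ ⟨i, rfl⟩
      have := Submodule.add_mem _ (Submodule.span_mono (Set.image_subset_range _ _) (hsub i))
        (Submodule.subset_span (Set.mem_range_self (f := f) i))
      simpa using this
    · rw [Submodule.span_le]
      rintro _ ⟨i, rfl⟩
      induction hk : n - (i : ℕ) using Nat.strong_induction_on generalizing i with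
      | _ k ih =>
        have hle : Submodule.span ℤ (f '' {j | i < j}) ≤ Submodule.span ℤ (Set.range θ) := by
          rw [Submodule.span_le]
          rintro _ ⟨j, hj, rfl⟩
          refine ih (n - (j : ℕ)) ?_ j rfl
          have : (i : ℕ) < j := hj
          omega
        have := Submodule.sub_mem _ (Submodule.subset_span (Set.mem_range_self (f := θ) i))
          (hle (hsub i))
        simpa using this
  have hfroot : Submodule.span ℤ (Set.range f) = Submodule.span ℤ (Set.range P.root) := by
    apply le_antisymm
    · exact Submodule.span_mono (by rintro _ ⟨i, rfl⟩; exact Set.mem_range_self _)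
    · rw [Submodule.span_le]
      rintro _ ⟨i, rfl⟩
      have hS : AddSubmonoid.closure (P.root '' (b.support : Set ι)) ≤
          (Submodule.span ℤ (Set.range f)).toAddSubmonoid := by
        rw [AddSubmonoid.closure_le]
        rintro _ ⟨s, hs, rfl⟩
        refine Submodule.subset_span ⟨e.symm ⟨s, hs⟩, ?_⟩
        simp [f]
      rcases b.root_mem_or_neg_mem i with h | h
      · exact hS h
      · simpa using Submodule.neg_mem _ (hS h)
  refine ⟨?_, hθf.trans hfroot⟩
  have hf : LinearIndependent ℤ f :=
    (b.linearIndepOn_root).comp (fun i => (e i : ↥b.support)) e.injective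
  let h : (Fin n → ℤ) →ₗ[ℤ] M := Fintype.linearCombination ℤ f
  let g : (Fin n → ℤ) →ₗ[ℤ] M := Fintype.linearCombination ℤ θ
  have hrg : LinearMap.range g = LinearMap.range h := by
    simp only [g, h, Fintype.range_linearCombination, hθf]
  have hhi : Function.Injective h := LinearIndependent.fintypeLinearCombination_injective hf
  have hmem : ∀ x, g x ∈ LinearMap.range h := fun x => by rw [← hrg]; exact LinearMap.mem_range_self g x
  choose φ₀ hφ₀ using hmem
  let φ : (Fin n → ℤ) →ₗ[ℤ] (Fin n → ℤ) :=
    { toFun := φ₀
      map_add' := fun x y => hhi (by rw [hφ₀, map_add, map_add, hφ₀, hφ₀])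
      map_smul' := fun c x => hhi (by rw [hφ₀, map_smul, map_smul, hφ₀, RingHom.id_apply]) }
  have hφs : Function.Surjective φ := by
    intro y
    have : h y ∈ LinearMap.range g := by rw [hrg]; exact LinearMap.mem_range_self h y
    obtain ⟨x, hx⟩ := this
    exact ⟨x, hhi ((hφ₀ x).trans hx)⟩
  have hφi := OrzechProperty.injective_of_surjective_endomorphism φ hφs
  rw [Fintype.linearIndependent_iffₛ]
  intro c d hcd
  have hgcd : g c = g d := by
    simpa [g, Fintype.linearCombination_apply] using hcd
  have : φ c = φ d := hhi (((hφ₀ c).trans hgcd).trans (hφ₀ d).symm)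
  exact fun i => congrFun (hφi this) i

end Groth.Agent.S8441
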