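import Groth.Statements.S8471
-- import your own Groth.Agent.* helpers here

set_option autoImplicit false
open Red

namespace Groth.Agent.S8471

/-- Let k be a field and F ∈ k(X) a rational function whose denominator does not vanish at 0 and with
F(0) = 1. Suppose that in the field of fractions L of k[X₀, X₁] one has F(X₀ + X₁ · F(X₀)) = F(X₀) ·
F(X₁) (the functional equation F(x + y F(x)) = F(x) F(y)). Then there is a ∈ k with F = 1 + a X.
(The published statement takes the identity on an open neighbourhood of the origin of 𝔾_a × 𝔾_a on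
which all terms are defined; this row takes it as an identity of rational functions in two
variables.) -/
theorem result (k : Type) [Field k] (F : RatFunc k)
    (h0 : F.denom.eval 0 ≠ 0) (h1 : F.num.eval 0 = F.denom.eval 0)
    (hFE : RatFunc.eval (algebraMap k (FractionRing (MvPolynomial (Fin 2) k)))
        (algebraMap (MvPolynomial (Fin 2) k) (FractionRing (MvPolynomial (Fin 2) k)) (MvPolynomial.X 0) +
          algebraMap (MvPolynomial (Fin 2) k) (FractionRing (MvPolynomial (Fin 2) k)) (MvPolynomial.X 1) *
            RatFunc.eval (algebraMap k (FractionRing (MvPolynomial (Fin 2) k)))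
              (algebraMap (MvPolynomial (Fin 2) k) (FractionRing (MvPolynomial (Fin 2) k)) (MvPolynomial.X 0)) F) F =
      RatFunc.eval (algebraMap k (FractionRing (MvPolynomial (Fin 2) k)))
          (algebraMap (MvPolynomial (Fin 2) k) (FractionRing (MvPolynomial (Fin 2) k)) (MvPolynomial.X 0)) F *
        RatFunc.eval (algebraMap k (FractionRing (MvPolynomial (Fin 2) k)))
          (algebraMap (MvPolynomial (Fin 2) k) (FractionRing (MvPolynomial (Fin 2) k)) (MvPolynomial.X 1)) F) :
    ∃ a : k, F = 1 + RatFunc.C a * RatFunc.X := by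
  classical
  -- work in `K(Y)` with `K = k(X)`
  let A := algebraMap (Polynomial k) (RatFunc k)
  have hA : Function.Injective A := RatFunc.algebraMap_injective k
  let φ₁ : MvPolynomial (Fin 2) k →ₐ[k] Polynomial (Polynomial k) :=
    MvPolynomial.aeval ![Polynomial.C Polynomial.X, Polynomial.X]
  have hφ₁ : Function.Injective φ₁ := by
    let β : Polynomial (Polynomial k) →+* MvPolynomial (Fin 2) k :=
      Polynomial.eval₂RingHom (Polynomial.aeval (MvPolynomial.X 0 : MvPolynomial (Fin 2) k)).toRingHom
        (MvPolynomial.X 1)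
    have : β.comp φ₁.toRingHom = RingHom.id _ := by
      apply MvPolynomial.ringHom_ext
      · intro r; simp [β, φ₁, Polynomial.algebraMap_def]
      · intro i; fin_cases i <;> simp [β, φ₁]
    exact Function.LeftInverse.injective (g := β) fun z => RingHom.congr_fun this z
  let Φ : MvPolynomial (Fin 2) k →+* RatFunc (RatFunc k) :=
    (algebraMap (Polynomial (RatFunc k)) (RatFunc (RatFunc k))).comp
      ((Polynomial.mapRingHom A).comp φ₁.toRingHom)
  have hΦ : Function.Injective Φ :=
    (RatFunc.algebraMap_injective _).comp ((Polynomial.map_injective A hA).comp hφ₁)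
  let ψ : FractionRing (MvPolynomial (Fin 2) k) →+* RatFunc (RatFunc k) := IsFractionRing.lift hΦ
  have hψ : ∀ z, ψ (algebraMap _ _ z) = Φ z := fun z => IsFractionRing.lift_algebraMap hΦ z
  let ι := algebraMap (Polynomial (RatFunc k)) (RatFunc (RatFunc k))
  have hι : Function.Injective ι := RatFunc.algebraMap_injective _
  let j : k →+* RatFunc k := algebraMap k (RatFunc k)
  have hψk : ψ.comp (algebraMap k _) = ι.comp (Polynomial.C.comp j) := by
    ext r
    rw [RingHom.comp_apply, IsScalarTower.algebraMap_apply k (MvPolynomial (Fin 2) k) (FractionRing _), hψ]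
    simp [Φ, φ₁, A, j, ι, Polynomial.algebraMap_def, IsScalarTower.algebraMap_apply k (Polynomial k) (RatFunc k)]
  set x := algebraMap (MvPolynomial (Fin 2) k) (FractionRing (MvPolynomial (Fin 2) k)) (MvPolynomial.X 0)
  set y := algebraMap (MvPolynomial (Fin 2) k) (FractionRing (MvPolynomial (Fin 2) k)) (MvPolynomial.X 1)
  have hx : ψ x = ι (Polynomial.C RatFunc.X) := by simp [x, hψ, Φ, φ₁, ι, A, RatFunc.algebraMap_X]
  have hy : ψ y = ι Polynomial.X := by simp [y, hψ, Φ, φ₁, ι]
  -- evaluation commutes with `ψ`
  have heval : ∀ (a : FractionRing (MvPolynomial (Fin 2) k)) (b : Polynomial (RatFunc k)), ψ a = ι b →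
      ψ (RatFunc.eval (algebraMap k _) a F) =
        ι ((F.num.map j).comp b) / ι ((F.denom.map j).comp b) := by
    intro a b hab
    have he : ∀ P : Polynomial k, ψ (P.eval₂ (algebraMap k _) a) = ι ((P.map j).comp b) := by
      intro P
      rw [Polynomial.hom_eval₂, hψk, hab, ← Polynomial.hom_eval₂, Polynomial.comp, Polynomial.eval₂_map]
    rw [RatFunc.eval, map_div₀, he, he]
  have hjA : ∀ P : Polynomial k, Polynomial.eval RatFunc.X (P.map j) = A P := by
    intro P
    rw [Polynomial.eval_map, ← Polynomial.aeval_def]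
    conv_lhs => rw [← RatFunc.algebraMap_X, Polynomial.aeval_algebraMap_apply, Polynomial.aeval_X_left_apply]
  have hFA : A F.num / A F.denom = F := RatFunc.num_div_denom F
  have hcx : ψ (RatFunc.eval (algebraMap k _) x F) = ι (Polynomial.C F) := by
    rw [heval x _ hx, Polynomial.comp_C, Polynomial.comp_C, hjA, hjA]
    change (ι.comp Polynomial.C) _ / (ι.comp Polynomial.C) _ = (ι.comp Polynomial.C) F
    rw [← map_div₀, hFA]
  have hF0 : F ≠ 0 := by
    rintro rfl
    simp at h1
  set p := F.num.map j with hp
  set q := F.denom.map j with hq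
  set L : Polynomial (RatFunc k) := Polynomial.C RatFunc.X + Polynomial.X * Polynomial.C F with hL
  have hLdeg : L.natDegree = 1 := by
    rw [hL, add_comm, mul_comm]
    simp [Polynomial.natDegree_C_mul_X _ hF0]
  have hLlead : L.leadingCoeff = F := by
    rw [Polynomial.leadingCoeff, hLdeg, hL]; simp
  have hq0 : q ≠ 0 := (Polynomial.map_ne_zero_iff j.injective).2 F.denom_ne_zero
  have hqc0 : q.comp L ≠ 0 := by
    intro h
    rcases Polynomial.comp_eq_zero_iff.1 h with h' | ⟨_, h'⟩
    · exact hq0 h'
    · rw [h'] at hLdeg; simp at hLdeg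
  have hlhs : ψ (x + y * RatFunc.eval (algebraMap k _) x F) = ι L := by
    rw [map_add, map_mul, hcx, hx, hy, hL, map_add, map_mul]
  have E0 := congrArg ψ hFE
  rw [heval _ _ hlhs, map_mul, hcx, heval y _ hy, Polynomial.comp_X, Polynomial.comp_X,
    mul_div, ← map_mul, div_eq_div_iff ((map_ne_zero_iff ι hι).2 hqc0) ((map_ne_zero_iff ι hι).2 hq0),
    ← map_mul, ← map_mul] at E0
  have E : p.comp L * q = Polynomial.C F * p * q.comp L := hι E0
  have hcop : IsCoprime q p := by
    have := (RatFunc.isCoprime_num_denom F).symm.map (Polynomial.mapRingHom j)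
    simpa [hp, hq] using this
  have hdvd : q ∣ q.comp L := by
    refine hcop.dvd_of_dvd_mul_left (Dvd.intro_left ((p.comp L) * Polynomial.C F⁻¹) ?_)
    rw [mul_right_comm, E, mul_comm (Polynomial.C F) p, mul_assoc, mul_assoc, mul_comm (q.comp L),
      ← mul_assoc (Polynomial.C F), ← Polynomial.C_mul, mul_inv_cancel₀ hF0, Polynomial.C_1, one_mul]
  obtain ⟨r, hr⟩ := hdvd
  have hqdeg : (q.comp L).natDegree = q.natDegree := by rw [Polynomial.natDegree_comp, hLdeg, mul_one]
  have hr0 : r ≠ 0 := by rintro rfl; exact hqc0 (by simpa using hr)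
  have hrdeg : r.natDegree = 0 := by
    rw [hr, Polynomial.natDegree_mul hq0 hr0] at hqdeg; omega
  obtain ⟨l, rfl⟩ := Polynomial.natDegree_eq_zero.1 hrdeg
  have hl : l = F ^ q.natDegree := by
    have := congrArg Polynomial.leadingCoeff hr
    rw [Polynomial.leadingCoeff_comp (by omega), hLlead, Polynomial.leadingCoeff_mul,
      Polynomial.leadingCoeff_C] at this
    exact (mul_left_cancel₀ (Polynomial.leadingCoeff_ne_zero.2 hq0) this).symm
  -- evaluate at `Y = 0`
  have hq' : A F.denom * A F.denom ^ F.denom.natDegree =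
      A (Polynomial.C (F.denom.eval 0) * F.num ^ F.denom.natDegree) := by
    have := congrArg (Polynomial.eval 0) hr
    rw [Polynomial.eval_comp, Polynomial.eval_mul, Polynomial.eval_C, hl,
      show Polynomial.eval 0 L = RatFunc.X by simp [hL], hq, hjA, Polynomial.natDegree_map] at this
    have hN : A F.num = F * A F.denom :=
      (div_eq_iff ((map_ne_zero_iff A hA).2 F.denom_ne_zero)).1 hFA
    have hC : Polynomial.eval 0 (F.denom.map j) = A (Polynomial.C (F.denom.eval 0)) := by
      rw [Polynomial.eval_zero_map]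
      simp [j, A, Polynomial.C_eq_algebraMap, ← IsScalarTower.algebraMap_apply]
    calc A F.denom * A F.denom ^ F.denom.natDegree
        = (Polynomial.eval 0 (F.denom.map j) * F ^ F.denom.natDegree) * A F.denom ^ F.denom.natDegree := by
          rw [← this]
      _ = _ := by rw [map_mul, map_pow, hN, hC, mul_pow, mul_assoc]
  rw [← pow_succ', ← map_pow] at hq'
  have hq'' := hA hq'
  have hm : F.denom.natDegree = 0 := by
    by_contra hm
    have hu : IsUnit F.denom := by
      have hd : F.denom ∣ Polynomial.C (F.denom.eval 0) * F.num ^ F.denom.natDegree :=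
        hq'' ▸ dvd_pow_self _ (Nat.succ_ne_zero _)
      exact ((RatFunc.isCoprime_num_denom F).symm.pow_right).isUnit_of_dvd' dvd_rfl
        ((IsUnit.dvd_mul_left (Polynomial.isUnit_C.2 (Ne.isUnit h0))).1 hd)
    exact hm (Polynomial.natDegree_eq_zero_of_isUnit hu)
  have hden : F.denom = 1 := by
    rw [← Polynomial.Monic.natDegree_eq_zero F.monic_denom]; exact hm
  -- `F` is a polynomial
  have hq1 : q = 1 := by rw [hq, hden, Polynomial.map_one]
  rw [hq1, Polynomial.one_comp, mul_one, mul_one] at E
  have hFn : A F.num = F := by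
    have := hFA; rwa [hden, map_one, div_one] at this
  have hnum0 : F.num ≠ 0 := RatFunc.num_ne_zero hF0
  have hp0 : p ≠ 0 := (Polynomial.map_ne_zero_iff j.injective).2 hnum0
  have hn : F.num ^ F.num.natDegree = F.num := by
    have := congrArg Polynomial.leadingCoeff E
    rw [Polynomial.leadingCoeff_comp (by omega), hLlead, Polynomial.leadingCoeff_mul,
      Polynomial.leadingCoeff_C, mul_comm F p.leadingCoeff, hp, Polynomial.natDegree_map] at this
    have h2 := mul_left_cancel₀ (Polynomial.leadingCoeff_ne_zero.2 hp0) this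
    apply hA
    rw [map_pow, hFn, h2]
  have hdeg : F.num.natDegree ≤ 1 := by
    have := congrArg Polynomial.natDegree hn
    rw [Polynomial.natDegree_pow] at this
    nlinarith
  refine ⟨F.num.coeff 1, ?_⟩
  have hc0 : F.num.coeff 0 = 1 := by
    rw [Polynomial.coeff_zero_eq_eval_zero, h1, hden, Polynomial.eval_one]
  conv_lhs => rw [← hFn, Polynomial.eq_X_add_C_of_natDegree_le_one hdeg, hc0]
  simp [A, RatFunc.algebraMap_X, add_comm]

end Groth.Agent.S8471
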