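import Groth.Statements.S8473
import Mathlib
import Groth.Prelude.Def_GmPts
import Groth.Agent.GrpSch.DiagGLBase
import Groth.Agent.GaPts.Basic
import Groth.Agent.GrpSch.SepPoints
-- import your own Groth.Agent.* helpers here

set_option autoImplicit false
set_option backward.isDefEq.respectTransparency.types false
universe u
open CategoryTheory MonoidalCategory CartesianMonoidalCategory MonObj GrpObj AlgebraicGeometry CategoryTheory.Limits
open Red

namespace Groth.Agent.S8473

theorem discreteTopology_of_etale {K : Type u} [Field K] {F : Scheme.{u}}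
    (f : F ⟶ Spec (CommRingCat.of K)) [Etale f] : DiscreteTopology F := by
  haveI : LocallyQuasiFinite f := by
    refine HasRingHomProperty.iff_appLE.2 fun U V h => ?_
    have := HasRingHomProperty.appLE (P := @Etale) f ‹_› U V h
    algebraize [(f.appLE U.1 V.1 h).hom]
    change Algebra.QuasiFinite _ _
    infer_instance
  have : DiscreteTopology ↥(f ⁻¹' {IsLocalRing.closedPoint K}) :=
    (f.isDiscrete_preimage_singleton _).to_subtype
  have huniv : f ⁻¹' {IsLocalRing.closedPoint K} = Set.univ :=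
    Set.eq_univ_of_forall fun x => Subsingleton.elim (α := PrimeSpectrum K) _ _
  rw [huniv] at this
  exact (Homeomorph.Set.univ F).discreteTopology

theorem eq_of_connected {X Y S : Scheme.{u}} [ConnectedSpace X] (u : Y ⟶ S) [FormallyUnramified u]
    [LocallyOfFiniteType u] [IsSeparated u] (a b : X ⟶ Y) (hu : a ≫ u = b ≫ u) {Z : Scheme.{u}} [Nonempty Z]
    (i : Z ⟶ X) (hab : i ≫ a = i ≫ b) : a = b := by
  let p : X ⟶ Limits.pullback u u := Limits.pullback.lift a b hu
  have hcl : IsClopen (p ⁻¹' Set.range (Limits.pullback.diagonal u)) :=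
    ⟨(Limits.pullback.diagonal u).isClosedEmbedding.isClosed_range.preimage p.continuous,
      (Limits.pullback.diagonal u).opensRange.isOpen.preimage p.continuous⟩
  have hne : (p ⁻¹' Set.range (Limits.pullback.diagonal u)).Nonempty := by
    obtain ⟨z⟩ := ‹Nonempty Z›
    refine ⟨i z, (i ≫ a) z, ?_⟩
    have : i ≫ p = (i ≫ a) ≫ Limits.pullback.diagonal u := by
      apply Limits.pullback.hom_ext
      · rw [Category.assoc, Category.assoc, Category.assoc, Limits.pullback.diagonal_fst, Limits.pullback.lift_fst, Category.comp_id]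
      · rw [Category.assoc, Category.assoc, Category.assoc, Limits.pullback.diagonal_snd, Limits.pullback.lift_snd, Category.comp_id, hab]
    rw [← Scheme.Hom.comp_apply, ← Scheme.Hom.comp_apply, this]
  have hr : Set.range p ⊆ Set.range (Limits.pullback.diagonal u) := by
    rintro _ ⟨x, rfl⟩
    exact (hcl.eq_univ hne).ge (Set.mem_univ x)
  have hl := IsOpenImmersion.lift_fac (Limits.pullback.diagonal u) p hr
  calc a = p ≫ Limits.pullback.fst u u := (Limits.pullback.lift_fst _ _ _).symm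
    _ = IsOpenImmersion.lift (Limits.pullback.diagonal u) p hr := by
      conv_lhs => rw [← hl, Category.assoc, Limits.pullback.diagonal_fst, Category.comp_id]
    _ = p ≫ Limits.pullback.snd u u := by
      conv_rhs => rw [← hl, Category.assoc, Limits.pullback.diagonal_snd, Category.comp_id]
    _ = b := Limits.pullback.lift_snd _ _ _

lemma connectedSpace_torus {K : Type u} [Field K] (T : Over (Spec (CommRingCat.of K))) [GrpObj T] (hT : Red.IsTorus T) :
    ConnectedSpace T.left := by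
  obtain ⟨S', f, -, hf, -, hloc⟩ := hT
  obtain ⟨s, -⟩ := hf.surj (IsLocalRing.closedPoint K)
  obtain ⟨U, hs, r, ⟨e⟩⟩ := hloc s
  let g : Spec (U.toScheme.residueField ⟨s, hs⟩) ⟶ U.toScheme := U.toScheme.fromSpecResidueField ⟨s, hs⟩
  let L := U.toScheme.residueField ⟨s, hs⟩
  let M := Fin r → ℤ
  let t := Limits.IsTerminal.from specULiftZIsTerminal U.toScheme
  have ht : g ≫ t = Limits.IsTerminal.from specULiftZIsTerminal (Spec (CommRingCat.of L)) :=
    specULiftZIsTerminal.hom_ext _ _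
  let e1 := ((Over.pullback g).mapIso ((Grp.forget _).mapIso e))
  let E : (Limits.pullback T.hom (g ≫ U.ι ≫ f)) ≅ Spec (CommRingCat.of (MonoidAlgebra L (Multiplicative M))) :=
    (Limits.pullbackLeftPullbackSndIso T.hom (U.ι ≫ f) g).symm ≪≫ (Over.forget _).mapIso e1 ≪≫
      Limits.pullbackLeftPullbackSndIso (Red.diag (ULift.{u} ℤ) M).hom t g ≪≫
      Limits.pullback.congrHom rfl ht ≪≫ (Over.forget _).mapIso ((Grp.forget _).mapIso (GrpSch.DiagGL.dsIso L M))
  haveI : ConnectedSpace ↥(Spec (CommRingCat.of (MonoidAlgebra L (Multiplicative M)))) :=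
    inferInstanceAs (ConnectedSpace (PrimeSpectrum (MonoidAlgebra L (Multiplicative M))))
  haveI : Surjective (g ≫ U.ι ≫ f) := by
    constructor
    intro y
    haveI : Subsingleton ↥(Spec (CommRingCat.of K)) := inferInstanceAs (Subsingleton (PrimeSpectrum K))
    exact ⟨IsLocalRing.closedPoint L, Subsingleton.elim _ _⟩
  exact (E.inv ≫ Limits.pullback.fst T.hom (g ≫ U.ι ≫ f)).surjective.connectedSpace
    (E.inv ≫ Limits.pullback.fst T.hom (g ≫ U.ι ≫ f)).continuous

/-- Let k be an algebraically closed field, T a k-torus, α : T ⟶ 𝔾_m a non-trivial character and P the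
semi-direct product T ⋉_α 𝔾_a, given as a k-group P with homomorphisms j_T : T ⟶ P and j_U : 𝔾_a ⟶ P
such that (t, x) ↦ j_T(t) j_U(x) is an isomorphism of schemes T × 𝔾_a ≅ P and j_T(t) j_U(x) j_T(t)⁻¹
= j_U(α(t) x). Let n : N ⟶ P be a normal subgroup scheme which is étale over k and such that N ∩ T
is trivial (a point of N whose image is in j_T(T) is the unit). Then N is the trivial group. -/
theorem result (K : Type u) [Field K] [IsAlgClosed K]
    (T P N : Over (Spec (CommRingCat.of K))) [GrpObj T] [GrpObj P] [GrpObj N] (hT : Red.IsTorus T)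
    (α : T ⟶ Red.Gm (Spec (CommRingCat.of K))) [IsMonHom α] (hα : α ≠ 1)
    (jT : T ⟶ P) [IsMonHom jT] (jU : Red.Ga (Spec (CommRingCat.of K)) ⟶ P) [IsMonHom jU] (hiso : IsIso ((jT ⊗ₘ jU) ≫ μ[P]))
    (hconj : ∀ (X : Over (Spec (CommRingCat.of K))) (t : X ⟶ T) (x x' : X ⟶ Red.Ga (Spec (CommRingCat.of K))), Red.gaFn x' = Red.gmFn (t ≫ α) * Red.gaFn x →
      (t ≫ jT) * (x ≫ jU) * (t ≫ jT)⁻¹ = x' ≫ jU)
    (n : N ⟶ P) [IsMonHom n] [Mono n] (hn : AlgGrp.IsNormalHom n) (het : Etale N.hom)
    (hNT : ∀ (X : Over (Spec (CommRingCat.of K))) (t : X ⟶ T) (m : X ⟶ N), t ≫ jT = m ≫ n → m = 1) :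
    Red.IsTrivialGrp N := by
  haveI : IsSeparated N.hom := GrpSch.SepPoints.isSeparated_grp N
  haveI : ConnectedSpace T.left := connectedSpace_torus T hT
  haveI := hiso
  haveI : Mono jU := by
    refine ⟨fun {Z} x y h => ?_⟩
    have h' : lift (1 : Z ⟶ T) x ≫ ((jT ⊗ₘ jU) ≫ μ[P]) = lift (1 : Z ⟶ T) y ≫ ((jT ⊗ₘ jU) ≫ μ[P]) := by
      simp only [lift_map_assoc, h]
    simpa using congrArg (· ≫ snd _ _) ((cancel_mono _).mp h')
  have dec : ∀ {Z : Over (Spec (CommRingCat.of K))} (a a' : Z ⟶ T) (b b' : Z ⟶ Red.Ga (Spec (CommRingCat.of K))),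
      (a ≫ jT) * (b ≫ jU) = (a' ≫ jT) * (b' ≫ jU) → b = b' := by
    intro Z a a' b b' h
    have h' : lift a b ≫ ((jT ⊗ₘ jU) ≫ μ[P]) = lift a' b' ≫ ((jT ⊗ₘ jU) ≫ μ[P]) := by
      simp only [lift_map_assoc]; exact h
    simpa using congrArg (· ≫ snd _ _) ((cancel_mono _).mp h')
  have hne : Red.gmFn α ≠ 1 := fun h => hα (GmPts.gmFn_injective (by simpa [GmPts.gmFn_one] using h))
  have pts : ∀ m : 𝟙_ (Over (Spec (CommRingCat.of K))) ⟶ N, m = 1 := by
    intro m
    let q := inv ((jT ⊗ₘ jU) ≫ μ[P])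
    obtain ⟨a, b, hab⟩ : ∃ a b, (a ≫ jT) * (b ≫ jU) = m ≫ n := by
      refine ⟨m ≫ n ≫ q ≫ fst _ _, m ≫ n ≫ q ≫ snd _ _, ?_⟩
      have : lift (m ≫ n ≫ q ≫ fst _ _) (m ≫ n ≫ q ≫ snd _ _) = (m ≫ n) ≫ q := by
        apply CartesianMonoidalCategory.hom_ext <;> simp
      have h2 := congrArg (· ≫ ((jT ⊗ₘ jU) ≫ μ[P])) this
      simp only [lift_map_assoc, q, Category.assoc, IsIso.inv_hom_id, Category.comp_id] at h2
      exact h2
    -- conjugation by the universal point of `T`
    obtain ⟨m', hm'⟩ := hn T jT (toUnit T ≫ m)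
    haveI : Nonempty (𝟙_ (Over (Spec (CommRingCat.of K)))).left := ⟨IsLocalRing.closedPoint K⟩
    obtain ⟨c, hc⟩ : ∃ c : 𝟙_ (Over (Spec (CommRingCat.of K))) ⟶ N, m' = toUnit T ≫ c := by
      refine ⟨η[T] ≫ m', ?_⟩
      apply Over.OverMorphism.ext
      exact eq_of_connected N.hom ((toUnit T ≫ η[T]) ≫ m').left m'.left
        (by rw [Over.w, Over.w]) η[T].left (by
          rw [← Over.comp_left, ← Over.comp_left]
          congr 1
          rw [← Category.assoc, ← Category.assoc (η[T]), show η[T] ≫ toUnit T = 𝟙 _ from toUnit_unique _ _,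
            Category.id_comp]) |>.symm.trans (by rw [Category.assoc])
    obtain ⟨x', hx'⟩ := GaPts.gaFn_surjective T (Red.gmFn α * Red.gaFn (toUnit T ≫ b))
    have hc' := hconj T (𝟙 T) (toUnit T ≫ b) x' (by simpa using hx')
    -- the conjugate of `n m`
    have hcm : m' ≫ n = (jT * (toUnit T ≫ a ≫ jT) * jT⁻¹) * (x' ≫ jU) := by
      rw [← hm', ← hc', Category.id_comp, Category.assoc, Category.assoc, ← hab, MonObj.comp_mul]
      group
    rw [hc] at hcm
    -- evaluate at the unit
    have hcm1 := congrArg (η[T] ≫ ·) hcm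
    simp only [MonObj.comp_mul, GrpObj.comp_inv, IsMonHom.one_hom] at hcm1
    rw [← Category.assoc η[T], ← Category.assoc η[T], ← Category.assoc η[T],
      show η[T] ≫ toUnit T = 𝟙 _ from toUnit_unique _ _, Category.id_comp, Category.id_comp, MonObj.one_eq_one,
      _root_.one_mul, inv_one, _root_.mul_one] at hcm1
    have hcm2 : m' ≫ n = ((toUnit T ≫ a) ≫ jT) * ((toUnit T ≫ η[T] ≫ x') ≫ jU) := by
      rw [hc, Category.assoc, hcm1, MonObj.comp_mul]
      simp only [Category.assoc]
    obtain ⟨A, hA⟩ : ∃ A : T ⟶ T, A ≫ jT = jT * (toUnit T ≫ a ≫ jT) * jT⁻¹ := by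
      refine ⟨𝟙 T * (toUnit T ≫ a) * (𝟙 T)⁻¹, ?_⟩
      simp [MonObj.mul_comp, GrpObj.inv_comp]
    rw [hc, hcm, ← hA] at hcm2
    have hx := dec _ _ _ _ hcm2
    have hx1 : η[T] ≫ x' = b := by
      apply GaPts.gaFn_injective
      show Red.gaFn (η[T] ≫ x') = Red.gaFn b
      rw [GaPts.gaFn_comp, hx', map_mul, ← GmPts.gmFn_comp, ← GaPts.gaFn_comp, show η[T] ≫ α = 1 from (‹IsMonHom α›.one_hom).trans (MonObj.one_eq_one _),
        GmPts.gmFn_one, _root_.one_mul, ← Category.assoc,
        show η[T] ≫ toUnit T = 𝟙 _ from toUnit_unique _ _, Category.id_comp]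
    rw [hx1] at hx
    rw [hx] at hx'
    have hb : Red.gaFn b = 0 := by
      by_contra hb
      have hu : IsUnit (Red.gaFn b) := by
        obtain ⟨e⟩ : Nonempty (Γ(Spec (CommRingCat.of K), ⊤) ≃+* K) :=
          ⟨(Scheme.ΓSpecIso (CommRingCat.of K)).commRingCatIsoToRingEquiv⟩
        exact (MulEquiv.isUnit_map e.toMulEquiv).mp (isUnit_iff_ne_zero.mpr ((map_ne_zero_iff e e.injective).mpr hb))
      have hu' : IsUnit (Red.gaFn (toUnit T ≫ b)) := by rw [GaPts.gaFn_comp]; exact hu.map _
      exact hne (hu'.mul_left_injective (show Red.gmFn α * _ = 1 * _ by rw [_root_.one_mul]; exact hx'.symm))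
    have hb1 : b = 1 := GaPts.gaFn_injective _ (show Red.gaFn b = Red.gaFn _ by rw [hb, GaPts.gaFn_one])
    exact hNT _ a m (by rw [← hab, hb1, MonObj.one_comp, _root_.mul_one])
  haveI : LocallyOfFiniteType N.hom := inferInstance
  haveI : Surjective η[N].left := by
    haveI : DiscreteTopology N.left := discreteTopology_of_etale N.hom
    constructor
    intro x
    have hxc : IsClosed ({x} : Set N.left) := isClosed_discrete _
    let p := (pointEquivClosedPoint N.hom).symm ⟨x, hxc⟩
    let m : 𝟙_ (Over (Spec (CommRingCat.of K))) ⟶ N := Over.homMk p.1 p.2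
    have hm : m.left (IsLocalRing.closedPoint K) = x :=
      congrArg Subtype.val ((pointEquivClosedPoint N.hom).apply_symm_apply ⟨x, hxc⟩)
    exact ⟨IsLocalRing.closedPoint K, by rw [MonObj.one_eq_one, ← pts m]; exact hm⟩
  have hw : η[N].left ≫ N.hom = 𝟙 _ := Over.w η[N]
  haveI : Etale η[N].left := MorphismProperty.of_postcomp (W := @Etale) _ N.hom (show @Etale _ _ N.hom from het) (hw ▸ inferInstance)
  haveI : Mono η[N].left := (SplitMono.mk N.hom hw : SplitMono η[N].left).mono
  haveI : IsOpenImmersion η[N].left := IsOpenImmersion.of_flat_of_mono _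
  haveI : IsIso η[N].left := (isIso_iff_isOpenImmersion_and_surjective _).mpr ⟨‹_›, ‹_›⟩
  haveI : IsIso (η[N].left ≫ N.hom) := by rw [hw]; infer_instance
  exact IsIso.of_isIso_comp_left η[N].left N.hom

end Groth.Agent.S8473
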