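import Groth.Statements.S8475
import Groth.Agent.RankOne.Braid
-- import your own Groth.Agent.* helpers here

set_option autoImplicit false
universe u
open CategoryTheory MonoidalCategory CartesianMonoidalCategory MonObj GrpObj AlgebraicGeometry CategoryTheory.Limits
open Red

namespace Groth.Agent.S8475

/-- Let G be a reductive S-group, i : T ⟶ G a maximal torus, α a character of T non-trivial on every
geometric fibre, p₊, p₋ : 𝔾_a ⟶ G monomorphisms of groups normalised by T with multipliers α and α⁻¹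
whose cell map (y, t, x) ↦ p₋(y) i(t) p₊(x) is an open immersion 𝔾_a ×_S T ×_S 𝔾_a ⟶ G, and α^* :
𝔾_m ⟶ T the coroot: α ∘ α^* is the squaring map and p₊(x) p₋(y) = p₋(y/(1+xy)) · i(α^*(1+xy)) ·
p₊(x/(1+xy)) whenever 1 + xy is invertible (so p₊ and p₋ are dual to each other). For a point x of
𝔾_a with invertible coordinate put w(x) = p₊(x) p₋(-x⁻¹) p₊(x). Then w(x) p₊(x) w(x)⁻¹ = p₋(-x⁻¹),
and consequently (w(x) p₊(x))³ = e. -/
theorem result (S : Scheme.{u}) (G T : Over S) [GrpObj G] [GrpObj T] (i : T ⟶ G) [IsMonHom i] [Mono i] (hG : Red.IsReductive G) (hTm : Red.IsMaximalTorus i)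
    (α : T ⟶ Red.Gm S) [IsMonHom α] (hα : ∀ s : S, (Over.pullback (Red.geomPt s)).map α ≠ 1)
    (pp pm : Red.Ga S ⟶ G) [IsMonHom pp] [Mono pp] [IsMonHom pm] [Mono pm]
    (hpp : ∀ (X : Over S) (t : X ⟶ T) (x : X ⟶ Red.Ga S), ∃ x' : X ⟶ Red.Ga S,
      x' ≫ pp = (t ≫ i) * (x ≫ pp) * (t ≫ i)⁻¹ ∧ Red.gaFn x' = Red.gmFn (t ≫ α) * Red.gaFn x)
    (hpm : ∀ (X : Over S) (t : X ⟶ T) (y : X ⟶ Red.Ga S), ∃ y' : X ⟶ Red.Ga S,
      y' ≫ pm = (t ≫ i) * (y ≫ pm) * (t ≫ i)⁻¹ ∧ Red.gaFn y' * Red.gmFn (t ≫ α) = Red.gaFn y)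
    (hΩ : IsOpenImmersion (((pm ⊗ₘ i) ⊗ₘ pp) ≫ (μ[G] ▷ G) ≫ μ[G]).left)
    (av : Red.Gm S ⟶ T) [IsMonHom av] (h2 : av ≫ α = (𝟙 (Red.Gm S)) ^ 2)
    (hF : ∀ (X : Over S) (x y : X ⟶ Red.Ga S), IsUnit (1 + Red.gaFn x * Red.gaFn y) →
      ∃ (x' y' : X ⟶ Red.Ga S) (z : X ⟶ Red.Gm S), Red.gmFn z = 1 + Red.gaFn x * Red.gaFn y ∧
        Red.gaFn x' * Red.gmFn z = Red.gaFn x ∧ Red.gaFn y' * Red.gmFn z = Red.gaFn y ∧
        (x ≫ pp) * (y ≫ pm) = (y' ≫ pm) * (z ≫ av ≫ i) * (x' ≫ pp))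
    (X : Over S) (x x' : X ⟶ Red.Ga S) (hx : Red.gaFn x' * Red.gaFn x = -1) :
    ((x ≫ pp) * (x' ≫ pm) * (x ≫ pp)) * (x ≫ pp) * ((x ≫ pp) * (x' ≫ pm) * (x ≫ pp))⁻¹ = x' ≫ pm ∧
      (((x ≫ pp) * (x' ≫ pm) * (x ≫ pp)) * (x ≫ pp)) ^ 3 = 1 := by
  obtain ⟨h, h'⟩ := Groth.Agent.RankOne.weyl_conj_root i α pp pm hpp hpm av h2 hF x x' hx
  obtain ⟨n, hn⟩ : ∃ n : X ⟶ Red.Gm S, Red.gmFn n = -1 :=
    ⟨GmPts.ptOfUnit (-1), by rw [GmPts.gmFn_ptOfUnit]; simp⟩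
  have hsq := Groth.Agent.RankOne.weyl_mul_weyl i α pp pm hpp hpm av h2 hF x x' x x' hx hx n n (by rw [hn]; ring) hn
  have hn2 : (n ≫ av ≫ i) * (n ≫ av ≫ i) = 1 :=
    ((MonObj.mul_comp n n (av ≫ i)).symm.trans (congrArg (· ≫ av ≫ i) (GmPts.gmFn_injective
      (show Red.gmFn (n * n) = Red.gmFn 1 by rw [GmPts.gmFn_mul, GmPts.gmFn_one, hn]; ring)))).trans
      (MonObj.one_comp (av ≫ i))
  have hbr := Groth.Agent.RankOne.braid i α pp pm hpp hpm av h2 hF x x' hx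
  refine ⟨h, ?_⟩
  generalize (x ≫ pp) = P at h h' hsq hbr ⊢
  generalize (x' ≫ pm) = Q at h h' hsq hbr ⊢
  generalize n ≫ av ≫ i = N at hsq hn2
  obtain ⟨W, hW⟩ : ∃ W, W = P * Q * P := ⟨_, rfl⟩
  rw [← hW] at h h' hsq hbr ⊢
  have hqpq : Q * P * Q = W := hbr.symm
  have e1 : W * P = Q * W := by
    calc W * P = W * P * W⁻¹ * W := by group
      _ = Q * W := by rw [h]
  have e2 : W * Q = P * W := by
    calc W * Q = W * Q * W⁻¹ * W := by group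
      _ = P * W := by rw [h']
  calc (W * P) ^ 3 = (W * P) * (W * P) * (W * P) := by rw [pow_succ, pow_two]
    _ = (Q * W) * (Q * W) * (Q * W) := by rw [e1]
    _ = Q * (W * Q) * (W * Q) * W := by group
    _ = Q * (P * W) * (P * W) * W := by rw [e2]
    _ = Q * P * (W * P) * (W * W) := by group
    _ = Q * P * (Q * W) * (W * W) := by rw [e1]
    _ = (Q * P * Q) * W * (W * W) := by group
    _ = W * W * (W * W) := by rw [hqpq]
    _ = 1 := by rw [hsq, hn2]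

end Groth.Agent.S8475
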