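import Groth.Statements.S8513
import Mathlib
-- import your own Groth.Agent.* helpers here

set_option autoImplicit false
set_option backward.isDefEq.respectTransparency.types false
open CategoryTheory MonoidalCategory CartesianMonoidalCategory MonObj GrpObj AlgebraicGeometry
universe u
open Par

namespace Groth.Agent.S8513

section
open CategoryTheory MonoidalCategory CartesianMonoidalCategory MonObj GrpObj
variable {C : Type*} [Category C] [CartesianMonoidalCategory C] {G P Q I : C} [GrpObj G] [GrpObj Q]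
  (p : P ⟶ G) (q : Q ⟶ G) [IsMonHom q] {m : I ⟶ P} {m' : I ⟶ Q}

lemma isPullback_transversal (hI : IsPullback m m' p q) :
    IsPullback (lift m (m' : I ⟶ Q)⁻¹) (toUnit I) ((p ⊗ₘ q) ≫ μ[G]) η[G] := by
  have hmul : ∀ {T : C} (x : T ⟶ P) (y : T ⟶ Q),
      lift x y ≫ (p ⊗ₘ q) ≫ μ[G] = (x ≫ p) * (y ≫ q) := by
    intro T x y; rw [lift_map_assoc, Hom.mul_def]
  have hone : ∀ {T : C} (t : T ⟶ 𝟙_ C), t ≫ η[G] = (1 : T ⟶ G) := by
    intro T t; rw [Hom.one_def, toUnit_unique t (toUnit T)]
  have hsq : lift m (m' : I ⟶ Q)⁻¹ ≫ (p ⊗ₘ q) ≫ μ[G] = toUnit I ≫ η[G] := by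
    rw [hmul, hone, hI.w, GrpObj.inv_comp, mul_inv_cancel]
  refine ⟨⟨hsq⟩, ⟨Limits.PullbackCone.IsLimit.mk _ ?_ ?_ ?_ ?_⟩⟩
  · intro s
    refine hI.lift (s.fst ≫ fst _ _) (s.fst ≫ snd _ _)⁻¹ ?_
    have h := s.condition
    rw [← lift_comp_fst_snd s.fst, hmul, hone] at h
    rw [GrpObj.inv_comp]
    exact eq_inv_of_mul_eq_one_left h
  · intro s
    apply CartesianMonoidalCategory.hom_ext
    · rw [Category.assoc, lift_fst, hI.lift_fst]
    · rw [Category.assoc, lift_snd, GrpObj.comp_inv, hI.lift_snd, _root_.inv_inv]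
  · intro s; exact toUnit_unique _ _
  · intro s g h1 h2
    apply hI.hom_ext
    · rw [hI.lift_fst, ← h1, Category.assoc, lift_fst]
    · rw [hI.lift_snd, ← h1, Category.assoc, lift_snd, GrpObj.comp_inv, _root_.inv_inv]

end

/-- Let G be a reductive S-group and P, Q two parabolic subgroups of G in transversal position (the
multiplication morphism P ×_S Q ⟶ G is smooth). Then P ∩ Q (a fibre product of P and Q over G) is
smooth over S. -/
theorem result {S : Scheme.{u}} {G P Q I : Over S} [GrpObj G] [GrpObj P] [GrpObj Q]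
    (hG : Red.IsReductive G) (p : P ⟶ G) (q : Q ⟶ G) (hP : Red.IsParabolic p) (hQ : Red.IsParabolic q)
    (htr : Smooth ((p ⊗ₘ q) ≫ μ[G]).left) (m : I ⟶ P) (m' : I ⟶ Q) (hI : IsPullback m m' p q) :
    Smooth I.hom := by
  haveI : IsMonHom q := hQ.1
  have h := (isPullback_transversal p q hI).map (Over.forget S)
  have : Smooth (toUnit I).left := MorphismProperty.of_isPullback h htr
  have e : (toUnit I).left = I.hom := by
    simp [Over.toUnit_left]
  rwa [e] at this

end Groth.Agent.S8513
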