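import Groth.Statements.S8517
import Groth.Agent.RootSys.Inversion


set_option autoImplicit false
open CategoryTheory MonoidalCategory CartesianMonoidalCategory MonObj GrpObj AlgebraicGeometry
universe u
open RedSub

namespace Groth.Agent.S8517Aux
variable {idx M N : Type} [AddCommGroup M] [AddCommGroup N] (P : RootPairing idx ℤ M N)

theorem closure_map {A B : Type} [AddCommGroup A] [AddCommGroup B] (L : A ≃ₗ[ℤ] B) (f : idx → A) (g : idx → B)
    (e : Equiv.Perm idx) (h : ∀ i, g (e i) = L (f i)) (S : Set idx) (i : idx)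
    (hi : f i ∈ AddSubmonoid.closure (f '' S) ∨ -f i ∈ AddSubmonoid.closure (f '' S)) :
    g (e i) ∈ AddSubmonoid.closure (g '' (e '' S)) ∨ -g (e i) ∈ AddSubmonoid.closure (g '' (e '' S)) := by
  have him : g '' (e '' S) = L.toLinearMap.toAddMonoidHom '' (f '' S) := by
    rw [Set.image_image, Set.image_image]; exact Set.image_congr fun x _ => h x
  rw [him, ← AddMonoidHom.map_mclosure, h]
  rcases hi with hi | hi
  · exact Or.inl ⟨_, hi, rfl⟩
  · exact Or.inr ⟨_, hi, map_neg L _⟩

/-- A base reflected in the root d. -/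
noncomputable def flipBase (b : P.Base) (d : idx) : P.Base where
  support := b.support.map (P.reflectionPerm d).toEmbedding
  linearIndepOn_root := by
    rw [Finset.coe_map]
    have h1 : LinearIndepOn ℤ (fun i => P.root (P.reflectionPerm d i)) (b.support : Set idx) := by
      rw [show (fun i => P.root (P.reflectionPerm d i)) = ⇑(P.reflection d).toLinearMap ∘ P.root from
        funext fun i => P.root_reflectionPerm d i]
      exact LinearIndependent.map' b.linearIndepOn_root _ (LinearEquiv.ker _)
    exact h1.image_of_comp (s := (b.support : Set idx)) (fun i => P.reflectionPerm d i) P.root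
  linearIndepOn_coroot := by
    rw [Finset.coe_map]
    have h1 : LinearIndepOn ℤ (fun i => P.coroot (P.reflectionPerm d i)) (b.support : Set idx) := by
      rw [show (fun i => P.coroot (P.reflectionPerm d i)) = ⇑(P.coreflection d).toLinearMap ∘ P.coroot from
        funext fun i => P.coroot_reflectionPerm d i]
      exact LinearIndependent.map' b.linearIndepOn_coroot _ (LinearEquiv.ker _)
    exact h1.image_of_comp (s := (b.support : Set idx)) (fun i => P.reflectionPerm d i) P.coroot
  root_mem_or_neg_mem i := by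
    rw [Finset.coe_map, show i = P.reflectionPerm d (P.reflectionPerm d i) from (P.reflectionPerm_self d i).symm]
    exact closure_map (P.reflection d) P.root P.root _ (P.root_reflectionPerm d) _ _ (b.root_mem_or_neg_mem _)
  coroot_mem_or_neg_mem i := by
    rw [Finset.coe_map, show i = P.reflectionPerm d (P.reflectionPerm d i) from (P.reflectionPerm_self d i).symm]
    exact closure_map (P.coreflection d) P.coroot P.coroot _ (P.coroot_reflectionPerm d) _ _ (b.coroot_mem_or_neg_mem _)

theorem mem_flipBase {b : P.Base} {d x : idx} (h : P.reflectionPerm d x ∈ RedSub.posRoots P b) :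
    x ∈ RedSub.posRoots P (flipBase P b d) := by
  show P.root x ∈ AddSubmonoid.closure (P.root '' ((flipBase P b d).support : Set idx))
  rw [show x = P.reflectionPerm d (P.reflectionPerm d x) from (P.reflectionPerm_self d x).symm, P.root_reflectionPerm]
  have : P.root '' ((flipBase P b d).support : Set idx) =
      (P.reflection d).toLinearMap.toAddMonoidHom '' (P.root '' (b.support : Set idx)) := by
    simp only [flipBase, Finset.coe_map, Set.image_image]
    exact Set.image_congr fun i _ => P.root_reflectionPerm d i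
  rw [this, ← AddMonoidHom.map_mclosure]
  exact ⟨_, h, rfl⟩

variable [Finite idx]

theorem exists_base_le (C : Set idx)
    (hC : ∀ a b c : idx, a ∈ C → b ∈ C → P.root a + P.root b = P.root c → c ∈ C)
    (hcov : ∀ a, a ∈ C ∨ P.reflectionPerm a a ∈ C) (b0 : P.Base) :
    ∃ b : P.Base, RedSub.posRoots P b ⊆ C := by
  classical
  haveI : Nonempty (Set.range (fun b : P.Base => RedSub.posRoots P b ∩ C)) := ⟨⟨_, b0, rfl⟩⟩
  obtain ⟨⟨_, b, rfl⟩, hb⟩ := Finite.exists_max (fun b : Set.range (fun b : P.Base => RedSub.posRoots P b ∩ C) => Set.ncard b.1)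
  refine ⟨b, fun k hk => ?_⟩
  have hΔ := RootSys.base_isSimpleSys b
  suffices hs : ∀ d ∈ b.support, d ∈ C from
    RootSys.pos_induction hΔ (p := fun k => k ∈ C) (fun d hd => hs d hd)
      (fun i j k hi _ he hj => hC j i k hj (hs i hi) he.symm) hk
  intro d hd
  by_contra hdC
  have hnd := (hcov d).resolve_left hdC
  let φ : idx → idx := fun x => if P.reflectionPerm d x ∈ RedSub.posRoots P b then x else P.reflectionPerm d x
  have hlt : (φ '' (RedSub.posRoots P b ∩ C)).ncard < (RedSub.posRoots P (flipBase P b d) ∩ C).ncard := by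
    refine Set.ncard_lt_ncard ((Set.ssubset_iff_of_subset ?_).2 ⟨P.reflectionPerm d d, ?_, ?_⟩) (Set.toFinite _)
    · rintro _ ⟨x, ⟨hx, hxC⟩, rfl⟩
      simp only [φ]
      split_ifs with h
      · exact ⟨mem_flipBase P h, hxC⟩
      · refine ⟨mem_flipBase P (by rwa [P.reflectionPerm_self]), ?_⟩
        have h2 : P.root x = (2 : ℤ) • P.root d := by
          by_contra h2
          exact h (RootSys.refl_pos hΔ (Finset.mem_coe.2 hd) hx (fun e => hdC (e ▸ hxC)) h2)
        refine hC _ _ _ hnd hnd ?_
        rw [RootSys.root_neg, P.root_reflectionPerm, h2, map_zsmul, P.reflection_apply_self]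
        abel
    · exact ⟨mem_flipBase P (by rw [P.reflectionPerm_self]; exact RootSys.simple_pos hΔ (Finset.mem_coe.2 hd)), hnd⟩
    · rintro ⟨x, ⟨hx, hxC⟩, he⟩
      simp only [φ] at he
      split_ifs at he with h
      · exact RootSys.not_pos_and_neg hΔ (RootSys.simple_pos hΔ (Finset.mem_coe.2 hd)) (he ▸ hx)
      · exact hdC ((P.reflectionPerm d).injective he ▸ hxC)
  rw [Set.InjOn.ncard_image] at hlt
  · have := hb ⟨_, flipBase P b d, rfl⟩
    simp only at this
    omega
  · intro x hx y hy hxy
    simp only [φ] at hxy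
    split_ifs at hxy with h1 h2 h2
    · exact hxy
    · subst hxy; exact absurd hx.1 h2
    · subst hxy; exact absurd hy.1 h1
    · exact (P.reflectionPerm d).injective hxy

end Groth.Agent.S8517Aux

namespace Groth.Agent.S8517

/-- Let R be the set of roots of a root pairing over ℤ with finitely many roots, and R₁, R₂ two closed
subsets of R (if a, b ∈ Rᵢ and root a + root b is a root c then c ∈ Rᵢ), each containing a system of
positive roots (the positive roots of some base). If R₁ ∪ R₂ = R, then R₁ ∩ (−R₂) (the roots of R₁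
whose negative is a root in R₂) contains a system of positive roots. -/
theorem result {idx M N : Type} [Finite idx] [AddCommGroup M] [AddCommGroup N] (P : RootPairing idx ℤ M N) (R₁ R₂ : Set idx)
    (h₁ : ∀ a b c : idx, a ∈ R₁ → b ∈ R₁ → P.root a + P.root b = P.root c → c ∈ R₁)
    (h₂ : ∀ a b c : idx, a ∈ R₂ → b ∈ R₂ → P.root a + P.root b = P.root c → c ∈ R₂)
    (hb₁ : ∃ b : P.Base, RedSub.posRoots P b ⊆ R₁) (hb₂ : ∃ b : P.Base, RedSub.posRoots P b ⊆ R₂)
    (hunion : R₁ ∪ R₂ = Set.univ) :
    ∃ b : P.Base, RedSub.posRoots P b ⊆ {a | a ∈ R₁ ∧ ∃ c ∈ R₂, P.root a = -P.root c} := by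
  obtain ⟨b₁, hb₁⟩ := hb₁
  obtain ⟨b₂, hb₂⟩ := hb₂
  refine S8517Aux.exists_base_le P _ ?_ (fun a => ?_) b₁
  · rintro a b c ⟨ha, a', ha', hae⟩ ⟨hb, b', hb', hbe⟩ he
    refine ⟨h₁ a b c ha hb he, P.reflectionPerm c c, ?_, by rw [RootSys.root_neg, neg_neg]⟩
    refine h₂ a' b' _ ha' hb' ?_
    rw [RootSys.root_neg, ← he, hae, hbe]; abel
  · have hn : P.root a = -P.root (P.reflectionPerm a a) := by rw [RootSys.root_neg, neg_neg]
    have hu : ∀ x, x ∈ R₁ ∨ x ∈ R₂ := fun x => hunion.ge (Set.mem_univ x)
    have hp : ∀ (R : Set idx) (b : P.Base), RedSub.posRoots P b ⊆ R → a ∈ R ∨ P.reflectionPerm a a ∈ R := fun R b h =>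
      (b.root_mem_or_neg_mem a).imp (fun h' => h h') (fun h' => h (by
        show P.root (P.reflectionPerm a a) ∈ AddSubmonoid.closure (P.root '' (b.support : Set idx))
        rw [RootSys.root_neg]; exact h'))
    have hneg : P.root (P.reflectionPerm a a) = -P.root a := RootSys.root_neg (P := P) a
    rcases hu a with ha | ha <;> rcases hu (P.reflectionPerm a a) with hb | hb
    · rcases hp R₂ b₂ hb₂ with h | h
      · exact Or.inr ⟨hb, a, h, hneg⟩
      · exact Or.inl ⟨ha, _, h, hn⟩
    · exact Or.inl ⟨ha, _, hb, hn⟩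
    · exact Or.inr ⟨hb, a, ha, hneg⟩
    · rcases hp R₁ b₁ hb₁ with h | h
      · exact Or.inl ⟨h, _, hb, hn⟩
      · exact Or.inr ⟨h, a, ha, hneg⟩

end Groth.Agent.S8517
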