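import Groth.Statements.S8524
import Groth.Agent.EtSh.Supp

set_option autoImplicit false
universe u
open CategoryTheory CategoryTheory.Limits AlgebraicGeometry Opposite
open EtAcyc

namespace Groth.Agent.S8524

/-- For the small etale site of a scheme and abelian sheaves: let L be a set of primes, F an abelian
L-torsion sheaf on the small etale site of a scheme X, and U an etale X-scheme with quasi-compact
underlying space. Then every section of F over U is killed by some positive integer all of whose
prime factors lie in L. -/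
theorem result {X : Scheme.{u}} (L : Set ℕ) (F : EtCoh.Ab X)
    (hF : EtAcyc.IsLTorsion L F) (U : X.Etale) [CompactSpace U.left] (s : EtCoh.sect F U) :
    ∃ m : ℕ, EtAcyc.PrimesIn L m ∧ m • s = 0 := by
  classical
  choose V g m hv hm hg using hF U s
  obtain ⟨t, ht⟩ := CompactSpace.isCompact_univ.elim_finite_subcover (fun x => Set.range (g x).left.base)
    (fun x => (have := EtSh.etale_left (g x); (g x).left.isOpenMap.isOpen_range)) fun x _ => by
      obtain ⟨v, hv⟩ := hv x
      exact Set.mem_iUnion.2 ⟨x, v, hv⟩
  refine ⟨∏ x ∈ t, m x, ⟨Finset.prod_pos fun x _ => (hm x).1, fun p hp hdvd => ?_⟩, ?_⟩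
  · obtain ⟨x, -, hx⟩ := hp.prime.exists_mem_finset_dvd hdvd
    exact (hm x).2 p hp hx
  · refine EtSh.sect_ext F fun y => ?_
    obtain ⟨x, hx, v, hv'⟩ := Set.mem_iUnion₂.1 (ht (Set.mem_univ y))
    refine ⟨V x, g x, v, hv', ?_⟩
    obtain ⟨k, hk⟩ := Finset.dvd_prod_of_mem m hx
    rw [hk, mul_comm, mul_smul, map_zero, map_nsmul, map_nsmul, hg x, smul_zero]

end Groth.Agent.S8524
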