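import Groth.Statements.S8525
import Groth.Agent.EtSh.Stalks

set_option autoImplicit false
universe u
open CategoryTheory CategoryTheory.Limits AlgebraicGeometry Opposite
open EtAcyc

namespace Groth.Agent.S8525

/-- Let L be a set of primes and F an abelian sheaf on the small etale site of a scheme X. Then F is an
L-torsion sheaf if and only if for every geometric point ξ of X every element of the stalk F_ξ is
killed by a positive integer all of whose prime factors lie in L. -/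
theorem result {X : Scheme.{u}} (L : Set ℕ) (F : EtCoh.Ab X) :
    EtAcyc.IsLTorsion L F ↔
      ∀ (Ω : Type u) [Field Ω] [IsSepClosed Ω] (ξ : Spec (CommRingCat.of Ω) ⟶ X)
        (t : (EtCoh.stalk ξ).obj F), ∃ m : ℕ, EtAcyc.PrimesIn L m ∧ m • t = 0 := by
  constructor
  · intro h Ω _ _ ξ p
    obtain ⟨U, t, s, rfl⟩ := Groth.Agent.EtSh.germ_surjective F p
    obtain ⟨V, g, m, ⟨v, hv⟩, hm, hmz⟩ := h U s (Groth.Agent.EtSh.fpt t)
    refine ⟨m, hm, ?_⟩
    rw [← map_nsmul, Groth.Agent.EtSh.germ_eq_zero_iff]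
    exact ⟨V, g, v, hv, by rw [map_nsmul]; exact hmz⟩
  · intro h U s x
    obtain ⟨Ω, _, _, ξ, hξ⟩ := Groth.Agent.EtSh.exists_geometric_point (U.hom.base x)
    obtain ⟨t, rfl⟩ := Groth.Agent.EtSh.exists_fib (ξ := ξ) x ((Set.eq_of_mem_singleton (hξ.le ⟨default, rfl⟩)).symm)
    obtain ⟨m, hm, hmz⟩ := h Ω ξ (Groth.Agent.EtSh.germ ξ F t s)
    rw [← map_nsmul, Groth.Agent.EtSh.germ_eq_zero_iff] at hmz
    obtain ⟨V, g, v, hv, hz⟩ := hmz
    exact ⟨V, g, m, ⟨v, hv⟩, hm, by rw [← map_nsmul]; exact hz⟩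

end Groth.Agent.S8525
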