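import Groth.Statements.S8530
import Groth.Agent.EtSh.Specialization
import Groth.Agent.EtSh.SuppConstr
import Groth.Agent.EtSh.ConstStalk
import Groth.Agent.EtSh.FLCStalk
import Groth.Agent.EtSh.TrivializesMap
import Groth.Agent.EtSh.Recollement
import Groth.Agent.EtSh.IndConstructible
import Groth.Agent.ProConsLib.Scheme

set_option autoImplicit false
universe u
open CategoryTheory CategoryTheory.Limits AlgebraicGeometry Opposite
open EtPBC

namespace Groth.Agent.S8530

open Groth.Agent.EtSh Topology

set_option backward.isDefEq.respectTransparency.types false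

variable {X : Scheme.{u}}

theorem isConstructible_const (M : Type) [AddCommGroup M] [Finite M] :
    EtPBC.IsConstructible (EtCoh.const X M) := fun U hU =>
  ⟨1, fun _ => U.toScheme, fun _ => U.ι, fun _ => inferInstance,
    fun _ => by
      rw [Scheme.Opens.range_ι, Subtype.coe_preimage_self]
      exact IsConstructible.univ,
    fun i j h => (h (Subsingleton.elim i j)).elim, (Set.iUnion_const _).trans U.range_ι,
    fun _ => isFLC_pull U.ι (isFLC_const M)⟩

/-- the locus where germs of given sections form the stalk is locally constructible -/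
theorem exists_bijective_locus {F : EtCoh.Ab X} (hF : EtPBC.IsConstructible F) (U : X.Etale) (M : Type)
    [AddCommGroup M] [Finite M] (e : M →+ EtCoh.sect F U) :
    ∃ E : Set U.left, IsLocallyConstructible E ∧ ∀ (K : Type u) [Field K] [IsSepClosed K]
      (η : Spec (CommRingCat.of K) ⟶ X) (t : Fib η U),
        fpt t ∈ E ↔ Function.Bijective fun m => germ η F t (e m) := by
  have : Etale U.hom := U.prop
  let π : (EtShriek.compEtale U.hom).obj (EtCoh.top U.left) ⟶ U :=
    MorphismProperty.Over.homMk (𝟙 _) (by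
      show 𝟙 _ ≫ U.hom = 𝟙 _ ≫ U.hom
      rfl)
  let R := (EtShriek.restrAlong U.hom).obj F
  let g : AddCommGrpCat.of (ULift.{u + 1} M) ⟶ (EtCore.gsec U.left).obj R :=
    AddCommGrpCat.ofHom (((F.obj.map π.op).hom.comp e).comp AddEquiv.ulift.toAddMonoidHom)
  let α : EtCoh.const U.left M ⟶ R := ((EtCore.constAdj U.left).homEquiv _ _).symm g
  have hR : EtPBC.IsConstructible R :=
    isConstructible_of_iso ((pullRestrIso U.hom).app F) (isConstructible_pull U.hom hF)
  have hkc := isConstructible_kernel_cokernel α (isConstructible_const M) hR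
  refine ⟨(EtPBC.supp (kernel α) ∪ EtPBC.supp (cokernel α))ᶜ,
    fun z => let ⟨V, h1, h2, h3⟩ := (isLocallyConstructible_supp hkc.1).union (isLocallyConstructible_supp hkc.2) z
      ⟨V, h1, h2, h3.compl⟩,
    fun K _ _ η t => ?_⟩
  obtain ⟨ζ, hζl⟩ : ∃ ζ : Spec (CommRingCat.of K) ⟶ U.left, ζ = t.left := ⟨_, rfl⟩
  obtain rfl : η = ζ ≫ U.hom := by rw [hζl]; exact (Over.w t).symm
  have hpt : fpt t = ζ.base default := (congrArg (fun k : Spec (CommRingCat.of K) ⟶ U.left => k.base default) hζl).symm
  have key : ∀ m : ULift.{u + 1} M, restrGerm U.hom ζ F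
      ((EtCoh.stalk ζ).map α (constGerm ζ (AddCommGrpCat.of (ULift.{u + 1} M)) m)) =
      germ (ζ ≫ U.hom) F t (e m.down) := by
    intro m
    rw [constGerm, ConcreteCategory.comp_apply, stalk_map_germ, restrGerm_germ]
    have h2 : (EtCore.constAdj U.left).unit.app _ ≫ (EtCore.gsec U.left).map α = g :=
      ((EtCore.constAdj U.left).homEquiv_unit _ _ _).symm.trans (Equiv.apply_symm_apply _ _)
    refine (congrArg (germ (ζ ≫ U.hom) F (liftRestr U.hom ζ (topLift ζ)))
      (congrArg (fun k : AddCommGrpCat.of (ULift.{u + 1} M) ⟶ (EtCore.gsec U.left).obj R => k m) h2)).trans ?_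
    refine (germ_map F π _ _).trans ?_
    exact congrArg (fun w => germ (ζ ≫ U.hom) F w (e m.down))
      (Over.OverMorphism.ext ((Category.comp_id _).trans hζl))
  have hb : Function.Bijective ((EtCoh.stalk ζ).map α) ↔ Function.Bijective fun m => germ (ζ ≫ U.hom) F t (e m) := by
    have h1 : (fun m => germ (ζ ≫ U.hom) F t (e m)) ∘ (fun m : ULift.{u + 1} M => m.down) =
        (fun p => restrGerm U.hom ζ F p) ∘ (fun p => (EtCoh.stalk ζ).map α p) ∘
          (fun m => constGerm ζ (AddCommGrpCat.of (ULift.{u + 1} M)) m) :=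
      funext fun m => (key m).symm
    have hd : Function.Bijective fun m : ULift.{u + 1} M => m.down := AddEquiv.ulift.bijective
    rw [← Function.Bijective.of_comp_iff (fun m => germ (ζ ≫ U.hom) F t (e m)) hd, h1,
      Function.Bijective.of_comp_iff' (bijective_restrGerm U.hom ζ F),
      Function.Bijective.of_comp_iff _ (bijective_constGerm ζ _)]
  rw [← hb, hpt]
  have := stalk_preservesFiniteLimits ζ
  simp only [Set.mem_compl_iff, Set.mem_union, mem_supp_iff, not_or, not_not]
  rw [isZero_stalk_cokernel_iff, (PreservesKernel.iso (EtCoh.stalk ζ) α).isZero_iff]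
  refine and_congr_left' ?_
  rw [← AddCommGrpCat.mono_iff_injective]
  exact ⟨fun h => Preadditive.mono_of_isZero_kernel _ h, fun h => isZero_kernel_of_mono _⟩

theorem main (F : EtCoh.Ab X)
    (hF : EtPBC.IsConstructible F) (x : X) {Ω : Type u} [Field Ω] [IsSepClosed Ω]
    (ξ : Spec (CommRingCat.of Ω) ⟶ X) (hξ : Set.range ξ.base = {x}) :
    (∃ U : X.Opens, x ∈ U ∧ EtCoh.IsFiniteLocallyConstant ((EtCoh.pull U.ι).obj F)) ↔
      ∀ (Ω' : Type u) [Field Ω'] [IsSepClosed Ω'] (ξ' : Spec (CommRingCat.of Ω') ⟶ X)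
        (φ : Scheme.pointSmallEtale ξ' ⟶ Scheme.pointSmallEtale ξ),
        IsIso ((GrothendieckTopology.Point.Hom.sheafFiber (A := AddCommGrpCat.{u + 1}) φ).app F) := by
  have hd : ξ.base default = x := Set.eq_of_mem_singleton (hξ.le ⟨default, rfl⟩)
  constructor
  · rintro ⟨U, hx, h⟩ Ω' _ _ ξ' φ
    obtain ⟨W, y, hy, M, _, _, e, he⟩ := (isFLC_iff_trivializes _).1 h ⟨x, hx⟩
    have he' := trivializes_of_restr U.ι F (trivializes_iso ((pullRestrIso U.ι).app F) he)
    obtain ⟨t, -⟩ := exists_fib (ξ := ξ) (U := (EtShriek.compEtale U.ι).obj W) y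
      (by show U.ι (W.hom y) = _; rw [hd]; exact congrArg Subtype.val hy)
    rw [ConcreteCategory.isIso_iff_bijective]
    refine (Function.Bijective.of_comp_iff _ (he' Ω ξ t)).1 ?_
    refine (congrArg Function.Bijective ?_).mpr (he' Ω' ξ' (φ.hom.app _ t))
    exact funext fun m => sheafFiber_germ φ F t _
  · intro h
    have := finite_stalk hF ξ
    obtain ⟨M, _, _, U, t, e, hb⟩ := exists_hom_sections F ξ
    obtain ⟨E, hE, hEiff⟩ := exists_bijective_locus hF U M e
    have hgen : ∀ u : U.left, u ⤳ fpt t → u ∈ E := fun u hu => by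
      obtain ⟨Ω', _, _, ζ, hζ⟩ := exists_geometric_point u
      let t' : Fib (ζ ≫ U.hom) U := Over.homMk ζ rfl
      have hu' : fpt t' = u := Set.eq_of_mem_singleton (hζ.le ⟨default, rfl⟩)
      obtain ⟨φ, hφ⟩ := exists_specialization t t' (hu' ▸ hu)
      rw [← hu', hEiff]
      have h1 : (fun m => germ (ζ ≫ U.hom) F t' (e m)) = (fun p =>
          (GrothendieckTopology.Point.Hom.sheafFiber (A := AddCommGrpCat.{u + 1}) φ).app F p) ∘
            fun m => germ ξ F t (e m) := funext fun m => by
        rw [← hφ]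
        exact (sheafFiber_germ φ F t _).symm
      rw [h1]
      exact ((ConcreteCategory.isIso_iff_bijective _).1 (h Ω' _ φ)).comp hb
    have hint := (ProConsLib.mem_interior_iff (ProConsLib.isInd_of_isLocallyConstructible hE)).2 hgen
    let O : Scheme.Opens U.left := ⟨interior E, isOpen_interior⟩
    have : Etale U.hom := U.prop
    let V : X.Etale := Scheme.Etale.mk (O.ι ≫ U.hom)
    let g : V ⟶ U := MorphismProperty.Over.homMk O.ι rfl
    have hV : Trivializes F V M ((F.obj.map g.op).hom.comp e) := fun Ω' _ _ ξ' v => by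
      show Function.Bijective fun m => germ ξ' F v (F.obj.map g.op (e m))
      simp only [germ_map]
      rw [← hEiff, map_fpt]
      exact interior_subset (fpt v).2
    have hV' : Etale V.hom := V.prop
    let U₀ : X.Opens := ⟨Set.range V.hom, V.hom.isOpenMap.isOpen_range⟩
    refine ⟨U₀, ⟨⟨fpt t, hint⟩, (hom_fpt t).trans hd⟩, (isFLC_iff_trivializes _).2 fun z => ?_⟩
    obtain ⟨v, hv⟩ := z.2
    have hr : Set.range V.hom ⊆ Set.range U₀.ι := (Scheme.Opens.range_ι U₀).ge
    have hoi : IsOpenImmersion U₀.ι := inferInstance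
    let l : V.left ⟶ U₀.toScheme := @IsOpenImmersion.lift _ _ _ U₀.ι V.hom hoi hr
    have hl : l ≫ U₀.ι = V.hom := @IsOpenImmersion.lift_fac _ _ _ U₀.ι V.hom hoi hr
    have : Etale (l ≫ U₀.ι) := by rw [hl]; exact hV'
    have : Etale l := Etale.of_comp l U₀.ι
    let W : U₀.toScheme.Etale := Scheme.Etale.mk l
    let k : (EtShriek.compEtale U₀.ι).obj W ⟶ V := MorphismProperty.Over.homMk (𝟙 _)
      ((Category.id_comp _).trans hl.symm)
    let eR : M →+ EtCoh.sect ((EtShriek.restrAlong U₀.ι).obj F) W :=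
      (F.obj.map k.op).hom.comp ((F.obj.map g.op).hom.comp e)
    have heR : Trivializes ((EtShriek.restrAlong U₀.ι).obj F) W M eR := fun Ω' _ _ ζ w => by
      refine (Function.Bijective.of_comp_iff' (bijective_restrGerm U₀.ι ζ F) _).1 ?_
      have h1 : ((fun p => restrGerm U₀.ι ζ F p) ∘ fun m => germ ζ _ w (eR m)) =
          fun m => germ (ζ ≫ U₀.ι) F (liftRestr U₀.ι ζ w) (eR m) := funext fun m => restrGerm_germ _ _ _ _ _
      rw [h1]
      exact trivializes_map hV k Ω' _ _
    exact ⟨W, v, Subtype.ext ((congrArg (fun m : V.left ⟶ X => m.base v) hl).trans hv), M, inferInstance,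
      inferInstance, _, trivializes_iso ((pullRestrIso U₀.ι).app F).symm heR⟩

/-- Let F be a constructible abelian sheaf on the small etale site of a scheme X, x a point of X and ξ a
geometric point of X located at x. Then F is finite locally constant on some open neighbourhood of x
if and only if, for every geometric point ξ' of X and every morphism of points of the etale site
from ξ' to ξ (a specialization arrow, ξ' a generization of ξ), the induced specialization map F_ξ →
F_ξ' is an isomorphism. -/
theorem result {X : Scheme.{u}} (F : EtCoh.Ab X)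
    (hF : EtPBC.IsConstructible F) (x : X) {Ω : Type u} [Field Ω] [IsSepClosed Ω]
    (ξ : Spec (CommRingCat.of Ω) ⟶ X) (hξ : Set.range ξ.base = {x}) :
    (∃ U : X.Opens, x ∈ U ∧ EtCoh.IsFiniteLocallyConstant ((EtCoh.pull U.ι).obj F)) ↔
      ∀ (Ω' : Type u) [Field Ω'] [IsSepClosed Ω'] (ξ' : Spec (CommRingCat.of Ω') ⟶ X)
        (φ : Scheme.pointSmallEtale ξ' ⟶ Scheme.pointSmallEtale ξ),
        IsIso ((GrothendieckTopology.Point.Hom.sheafFiber (A := AddCommGrpCat.{u + 1}) φ).app F) := by
  exact main F hF x ξ hξ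

end Groth.Agent.S8530
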