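import Groth.Statements.S8535
import Mathlib

set_option autoImplicit false
universe v v' u u'
open CategoryTheory CategoryTheory.Limits
open DeltaF


namespace Groth.Agent.S8535

set_option backward.isDefEq.respectTransparency false
set_option backward.defeqAttrib.useBackward true

section

variable {A : Type u} [Category.{v} A] [Abelian A] {B : Type u'} [Category.{v'} B] [Abelian B]
  {T T' : DeltaF.CohDeltaFunctor A B ℕ} (φ : T ⟶ T')

lemma ses_of_mono {X Y : A} (u : X ⟶ Y) [Mono u] :
    (ShortComplex.mk u (cokernel.π u) (cokernel.condition u)).ShortExact :=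
  { exact := ShortComplex.exact_cokernel u }

lemma mono_succ (hT : T.IsEffaceable) (i : ℕ) [IsIso (φ.app i)] : Mono (φ.app (i + 1)) := by
  refine @NatTrans.mono_of_mono_app _ _ _ _ _ _ _ fun X => ?_
  obtain ⟨Y, u, hu, hu0⟩ := hT i X
  let S := ShortComplex.mk u (cokernel.π u) (cokernel.condition u)
  have hS : S.ShortExact := ses_of_mono u
  refine Preadditive.mono_of_cancel_zero _ fun {W} z hz => ?_
  have he : Epi (T.δ S hS i (i + 1) rfl) := (T.exact₁ S hS i (i + 1) rfl).epi_f hu0
  obtain ⟨W₁, π, hπ, w, hw⟩ := surjective_up_to_refinements_of_epi (T.δ S hS i (i + 1) rfl) z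
  have h1 : (w ≫ (φ.app i).app S.X₃) ≫ T'.δ S hS i (i + 1) rfl = 0 := by
    rw [Category.assoc, ← φ.comm, ← Category.assoc, ← hw, Category.assoc]
    exact (congrArg (π ≫ ·) hz).trans comp_zero
  obtain ⟨W₂, π', hπ', y, hy⟩ := (T'.exact₃ S hS i (i + 1) rfl).exact_up_to_refinements _ h1
  dsimp at y hy
  have h2 : π' ≫ w = (y ≫ inv ((φ.app i).app S.X₂)) ≫ (T.F i).map S.g := by
    rw [← cancel_mono ((φ.app i).app S.X₃), Category.assoc, hy, Category.assoc, Category.assoc,
      (φ.app i).naturality, IsIso.inv_hom_id_assoc]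
  rw [← cancel_epi π, ← cancel_epi π', comp_zero, comp_zero, hw, reassoc_of% h2, T.comp_δ, comp_zero, comp_zero]

lemma epi_succ (i : ℕ) [IsIso (φ.app i)] (X Y : A) (u : X ⟶ Y) [Mono u] (h : (T'.F (i + 1)).map u = 0) :
    Epi ((φ.app (i + 1)).app X) := by
  have hS := ses_of_mono u
  have he : Epi (T'.δ _ hS i (i + 1) rfl) := (T'.exact₁ _ hS i (i + 1) rfl).epi_f h
  have : Epi (T.δ _ hS i (i + 1) rfl ≫ (φ.app (i + 1)).app X) := by
    rw [φ.comm]
    infer_instance
  exact epi_of_epi (T.δ _ hS i (i + 1) rfl) _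

lemma iso_of_epi (hT : T.IsEffaceable) (n : ℕ) (h0 : Mono (φ.app 0))
    (hn : ∀ i ≤ n, Epi (φ.app i)) : ∀ i ≤ n, IsIso (φ.app i) := by
  intro i hi
  induction i with
  | zero =>
    have := hn 0 hi
    exact isIso_of_mono_of_epi _
  | succ i ih =>
    have := ih (by omega)
    have := hn _ hi
    have := mono_succ φ hT i
    exact isIso_of_mono_of_epi _

end

/-- Let A and B be abelian categories, T and T' cohomological delta-functors from A to B in degrees ≥ 0
whose degree-0 components are left exact (they vanish in negative degrees), such that T^i is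
effaceable for every i > 0, and let φ : T → T' be a morphism of delta-functors and n a natural
number. Then the following are equivalent: (a) φ^i is an isomorphism for i ≤ n and a monomorphism
for i = n + 1; (b) φ^0 is a monomorphism and φ^i is an epimorphism for every i ≤ n; (c) φ^0 is an
isomorphism and, for 0 < i ≤ n, T'^i is effaceable (every object X admits a monomorphism X → Y
killed by T'^i). -/
theorem result {A : Type u} [Category.{v} A] [Abelian A]
    {B : Type u'} [Category.{v'} B] [Abelian B] (T T' : DeltaF.CohDeltaFunctor A B ℕ)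
    (h0 : T.ZeroMono) (h0' : T'.ZeroMono) (hT : T.IsEffaceable) (φ : T ⟶ T') (n : ℕ) :
    ((∀ i : ℕ, i ≤ n → IsIso (φ.app i)) ∧ Mono (φ.app (n + 1)) ↔
      (Mono (φ.app 0) ∧ ∀ i : ℕ, i ≤ n → Epi (φ.app i))) ∧
    ((∀ i : ℕ, i ≤ n → IsIso (φ.app i)) ∧ Mono (φ.app (n + 1)) ↔
      (IsIso (φ.app 0) ∧ ∀ i : ℕ, 0 < i → i ≤ n → ∀ X : A, ∃ (Y : A) (u : X ⟶ Y), Mono u ∧ (T'.F i).map u = 0)) := by
  constructor
  · constructor
    · rintro ⟨h, -⟩
      haveI := h 0 (Nat.zero_le n)
      exact ⟨inferInstance, fun i hi => by haveI := h i hi; infer_instance⟩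
    · rintro ⟨hm, he⟩
      haveI := iso_of_epi φ hT n hm he n le_rfl
      exact ⟨iso_of_epi φ hT n hm he, mono_succ φ hT n⟩
  · constructor
    · rintro ⟨h, -⟩
      refine ⟨h 0 (Nat.zero_le n), fun i hi hi' X => ?_⟩
      obtain ⟨j, rfl⟩ := Nat.exists_eq_add_of_le' hi
      obtain ⟨Y, u, hu, hu0⟩ := hT j X
      haveI := h _ hi'
      refine ⟨Y, u, hu, ?_⟩
      rw [← cancel_epi ((φ.app (j + 1)).app X), ← (φ.app (j + 1)).naturality, hu0, zero_comp, comp_zero]
    · rintro ⟨h, he⟩
      haveI hh : ∀ i ≤ n, IsIso (φ.app i) := by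
        intro i
        induction i with
        | zero => exact fun _ => h
        | succ i ih =>
          intro hi
          haveI := ih (by omega)
          haveI := mono_succ φ hT i
          haveI : Epi (φ.app (i + 1)) := @NatTrans.epi_of_epi_app _ _ _ _ _ _ _ fun X => by
            obtain ⟨Y, u, hu, hu0⟩ := he (i + 1) (by omega) hi X
            exact epi_succ φ i X Y u hu0
          exact isIso_of_mono_of_epi _
      haveI := hh n le_rfl
      exact ⟨hh, mono_succ φ hT n⟩

end Groth.Agent.S8535
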