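import Groth.Statements.S8540
import Groth.Agent.EtSh.Generators
import Groth.Agent.EtSh.NoethSerre
import Groth.Agent.EtSh.StalkPts
import Groth.Agent.S0142
import Mathlib.CategoryTheory.Subobject.Limits

set_option autoImplicit false
universe u
open CategoryTheory CategoryTheory.Limits AlgebraicGeometry Opposite
open EtPBC

namespace Groth.Agent.S8540

/-- Let X be a Noetherian scheme and F a torsion abelian sheaf on the small etale site of X. Then F is
constructible if and only if F is a Noetherian object of the category of abelian etale sheaves on X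
(ascending chain condition on subsheaves). -/
theorem result (X : Scheme.{u}) [IsNoetherian X] (F : EtCoh.Ab X)
    (hF : EtCoh.IsTorsion F) :
    EtPBC.IsConstructible F ↔ IsNoetherianObject F := by
  classical
  constructor
  · intro hc
    refine ⟨(wellFoundedGT_iff_monotone_chain_condition).2 fun c => ?_⟩
    obtain ⟨N, hN⟩ := Groth.Agent.S0142.result X F hc c
    exact ⟨N, fun m hm => (hN m hm).symm⟩
  intro hN
  let S : Set (Subobject F) := {P | EtPBC.IsConstructible (P : EtCoh.Ab X)}
  have hzero : ∀ G : EtCoh.Ab X, IsZero G → EtPBC.IsConstructible G := fun G hG => by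
    refine (EtSh.isConstructible_iff_univ G).2 (EtSh.adaptedStrata_of_cover G ⊤ (fun _ : Unit => 𝟙 X) (fun _ => ?_)
      (by simp [Set.iUnion_const]) fun _ => EtSh.isFLC_of_isZero ?_)
    · simp [Topology.IsConstructible.univ]
    · exact (EtCoh.pull (𝟙 X)).map_isZero hG
  have hS : S.Nonempty := ⟨⊥, by
    refine hzero _ ?_
    exact (isZero_zero _).of_iso (Subobject.botCoeIsoZero)⟩
  obtain ⟨P, hP, hmax⟩ := (wellFounded_gt (α := Subobject F)).has_min S hS
  have hepi : Epi P.arrow := EtSh.epi_of_stalk_exists P.arrow fun y => by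
    obtain ⟨Ω, _, _, ξ, hξ⟩ := EtSh.exists_geometric_point y
    refine ⟨Ω, inferInstance, inferInstance, ξ, Set.eq_of_mem_singleton (hξ.le ⟨default, rfl⟩), fun p => ?_⟩
    obtain ⟨U, t, s, rfl⟩ := EtSh.germ_surjective F p
    obtain ⟨V, g, ⟨v, hv⟩, hfin⟩ := hF U s (EtSh.fpt t)
    obtain ⟨tv, htv⟩ := EtSh.exists_fib_map g v t hv
    obtain ⟨W, k, w, hW, hw⟩ := EtSh.exists_affine_nbhd tv
    obtain ⟨n, hn, hns⟩ : ∃ n, 0 < n ∧ n • F.obj.map (k ≫ g).op s = 0 := by
      refine ⟨addOrderOf (F.obj.map g.op s), hfin.addOrderOf_pos, ?_⟩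
      rw [op_comp, Functor.map_comp, ConcreteCategory.comp_apply, ← map_nsmul, addOrderOf_nsmul_eq_zero, map_zero]
    have : NeZero n := ⟨hn.ne'⟩
    obtain ⟨e, -, hex, -⟩ := EtSh.exists_gen_elem W n
    obtain ⟨φ, hφ⟩ := hex F _ hns
    let h := biprod.desc P.arrow φ
    have hB : EtPBC.IsConstructible ((P : EtCoh.Ab X) ⊞ EtSh.gen W n) :=
      EtSh.isConstructible_extension
        (S := ShortComplex.mk (biprod.inl : (P : EtCoh.Ab X) ⟶ (P : EtCoh.Ab X) ⊞ EtSh.gen W n) biprod.snd biprod.inl_snd)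
        (ShortComplex.Splitting.shortExact ⟨biprod.fst, biprod.inr, by simp, by simp, biprod.total⟩)
        hP (EtSh.isConstructible_gen W hW n)
    have hQ : EtPBC.IsConstructible ((imageSubobject h : Subobject F) : EtCoh.Ab X) :=
      EtSh.isConstructible_of_epi (factorThruImageSubobject h) hB
    have hle : P ≤ imageSubobject h :=
      Subobject.le_of_comm (biprod.inl ≫ factorThruImageSubobject h) (by simp [h])
    have heq : imageSubobject h = P := (eq_of_le_of_not_lt hle (hmax _ hQ)).symm
    refine ⟨EtSh.germ ξ _ w ((biprod.inr ≫ factorThruImageSubobject h ≫ Subobject.ofLE _ _ heq.le).hom.app (op W) e), ?_⟩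
    rw [EtSh.stalk_map_germ]
    have e1 : (biprod.inr ≫ factorThruImageSubobject h ≫ Subobject.ofLE _ _ heq.le) ≫ P.arrow = φ := by
      simp [h]
    refine (congrArg (EtSh.germ ξ F w) (congrArg (fun r : EtSh.gen W n ⟶ F => r.hom.app (op W) e) e1)).trans ?_
    rw [hφ, EtSh.germ_map]
    refine congrArg (fun o => EtSh.germ ξ F o s) ?_
    rw [Functor.map_comp_apply, hw, htv]
  have : IsIso P.arrow := isIso_of_mono_of_epi _
  intro U hU
  obtain ⟨m, T, g, hg, hc, hd, hu, hflc⟩ := hP U hU
  exact ⟨m, T, g, hg, hc, hd, hu, fun i => EtSh.isFLC_of_iso ((EtCoh.pull (g i)).mapIso (asIso P.arrow)) (hflc i)⟩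

end Groth.Agent.S8540
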