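import Groth.Statements.S8542
import Groth.Agent.AnPts.LanExact
import Mathlib.CategoryTheory.Functor.Flat
import Mathlib.CategoryTheory.Sites.Pullback
import Mathlib.CategoryTheory.Adhesive.Basic
import Mathlib.CategoryTheory.Sites.LeftExact
import Mathlib.CategoryTheory.Limits.Types.Pullbacks

set_option autoImplicit false
universe u
open CategoryTheory CategoryTheory.Limits AlgebraicGeometry Opposite
open EtBC

namespace Groth.Agent.S8542

theorem secPull_natural {X Y : Scheme.{u}} (h : Y ⟶ X) {F G : EtDesc.Sh X} (a : F ⟶ G) (s : EtDesc.sect F (EtCoh.top X)) :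
    EtDesc.secPull h G (a.hom.app (op (EtCoh.top X)) s) =
      ((EtDesc.pullSh h).map a).hom.app (op (EtCoh.top Y)) (EtDesc.secPull h F s) := by
  have h1 := ConcreteCategory.congr_hom (congrArg (fun (t : F ⟶ (EtDesc.pushSh h).obj ((EtDesc.pullSh h).obj G)) => t.hom.app (op (EtCoh.top X))) ((EtDesc.adjSh h).unit.naturality a)) s
  simp only [EtDesc.secPull]
  refine Eq.trans ?_ (NatTrans.naturality_apply ((EtDesc.pullSh h).map a).hom (EtCore.bcTopIso h).inv.op _).symm
  exact congrArg _ h1

theorem mono_pull {X Y : Scheme.{u}} (h : Y ⟶ X) {F G : EtDesc.Sh X} (u : F ⟶ G) [Mono u] :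
    Mono ((EtDesc.pullSh h).map u) := by
  haveI : RepresentablyFlat (EtCoh.bc h) := flat_of_preservesFiniteLimits _
  haveI : PreservesFiniteLimits (EtDesc.pullSh h) := by
    haveI : PreservesFiniteLimits ((EtCoh.bc h).op.lan : (X.Etaleᵒᵖ ⥤ Type (u + 1)) ⥤ Y.Etaleᵒᵖ ⥤ Type (u + 1)) :=
      Groth.Agent.AnPts.lan_preservesFiniteLimits_of_flat_asSmall.{u+1} (EtCoh.bc h)
    apply +allowSynthFailures Functor.sheafPullbackConstruction.preservesFiniteLimits
  infer_instance

/-- Let h : Y → X be a morphism of quasi-compact quasi-separated schemes such that for every sheaf of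
sets F on the small etale site of X the pullback map Γ(X, F) → Γ(Y, h^*F) is injective. Let u : F →
G be a monomorphism of sheaves of sets on X and ξ ∈ Γ(Y, h^*F) a section whose image in Γ(Y, h^*G)
lies in the image of Γ(X, G). Then ξ lies in the image of Γ(X, F). -/
theorem result {X Y : Scheme.{u}} [CompactSpace X] [QuasiSeparatedSpace X]
    [CompactSpace Y] [QuasiSeparatedSpace Y] (h : Y ⟶ X)
    (hinj : ∀ F : EtDesc.Sh X, Function.Injective (EtDesc.secPull h F))
    {F G : EtDesc.Sh X} (u : F ⟶ G) [Mono u] (ξ : EtDesc.sect ((EtDesc.pullSh h).obj F) (EtCoh.top Y))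
    (hξ : ((EtDesc.pullSh h).map u).hom.app (op (EtCoh.top Y)) ξ ∈ Set.range (EtDesc.secPull h G)) :
    ξ ∈ Set.range (EtDesc.secPull h F) := by
  obtain ⟨g, hg⟩ := hξ
  obtain ⟨P, a, b, hP⟩ : ∃ (P : EtDesc.Sh X) (a b : G ⟶ P), IsPushout u u a b := ⟨_, _, _, IsPushout.of_hasPushout u u⟩
  have h1 : a.hom.app (op (EtCoh.top X)) g = b.hom.app (op (EtCoh.top X)) g := by
    apply hinj P
    rw [secPull_natural, secPull_natural, hg]
    have e := ConcreteCategory.congr_hom (congrArg (fun t => ((EtDesc.pullSh h).map t).hom.app (op (EtCoh.top Y))) hP.w) ξ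
    simp only [Functor.map_comp] at e
    exact e
  have hpb := ((Adhesive.isPullback_of_isPushout_of_mono_left hP).map (sheafToPresheaf _ _ ⋙ (evaluation _ _).obj (op (EtCoh.top X))))
  obtain ⟨s, hs, -⟩ := Types.exists_of_isPullback hpb g g h1
  refine ⟨s, ?_⟩
  have hm := mono_pull h u
  have hm2 : Mono (((EtDesc.pullSh h).map u).hom.app (op (EtCoh.top Y))) :=
    inferInstanceAs (Mono ((sheafToPresheaf _ _ ⋙ (evaluation _ _).obj (op (EtCoh.top Y))).map ((EtDesc.pullSh h).map u)))
  apply (mono_iff_injective _).1 hm2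
  rw [← secPull_natural, ← hg]
  exact congrArg _ hs

end Groth.Agent.S8542
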