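import Groth.Statements.S8546
import Groth.Agent.EtSh.ConstructibleDescent
import Groth.Agent.Spectral.Basic

set_option autoImplicit false
universe u
open CategoryTheory CategoryTheory.Limits AlgebraicGeometry Opposite
open EtPBC

namespace Groth.Agent.S8546

/-- Let f : X → Y be a surjective morphism locally of finite presentation and F an abelian sheaf on the
small etale site of Y. Then F is constructible if and only if f⁻¹F is constructible. (No
quasi-compactness hypothesis on X or Y.) -/
theorem result {X Y : Scheme.{u}} (f : X ⟶ Y) [Surjective f]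
    [LocallyOfFinitePresentation f] (F : EtCoh.Ab Y) :
    EtPBC.IsConstructible F ↔ EtPBC.IsConstructible ((EtCoh.pull f).obj F) := by
  classical
  refine ⟨fun h => EtSh.isConstructible_pull f h, fun h => ?_⟩
  refine EtSh.isConstructible_of_open_cover (fun V : Y.affineOpens => V.1) (iSup_affineOpens_eq_top Y) fun V => ?_
  have : IsAffine V.1.toScheme := V.2
  let q := pullback.snd f V.1.ι
  have hq : Surjective q := MorphismProperty.pullback_snd _ _ ‹_›
  have : LocallyOfFinitePresentation q := MorphismProperty.pullback_snd _ _ ‹_›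
  let κ := {W : (pullback f V.1.ι).Opens // IsAffineOpen W}
  have hcons : ∀ W : κ, Topology.IsConstructible (Set.range (W.1.ι ≫ q)) := fun W => by
    have : IsAffine W.1.toScheme := W.2
    rw [← Set.image_univ]
    exact Scheme.Hom.isConstructible_image (W.1.ι ≫ q) Topology.IsConstructible.univ
  have hcl := fun W => Groth.Agent.Spectral.isClopen_con_of_isConstructible (hcons W)
  have hK := @CompactSpace.isCompact_univ V.1.toScheme (constructibleTopology V.1.toScheme)
    Groth.Agent.Spectral.compactSpace_con
  obtain ⟨t, ht⟩ := @IsCompact.elim_finite_subcover V.1.toScheme (constructibleTopology V.1.toScheme) _ κ hK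
    (fun W => Set.range (W.1.ι ≫ q)) (fun W => (hcl W).2) fun y _ => by
      obtain ⟨x, rfl⟩ := q.surjective y
      obtain ⟨W, hW, hxW, -⟩ := exists_isAffineOpen_mem_and_subset (x := x) (U := (⊤ : (pullback f V.1.ι).Opens)) trivial
      exact Set.mem_iUnion.2 ⟨⟨W, hW⟩, ⟨x, hxW⟩, rfl⟩
  have : ∀ a : t, IsAffine a.1.1.toScheme := fun a => a.1.2
  refine EtSh.isConstructible_of_pull (fun a : t => a.1.1.ι ≫ q) (fun y => ?_) _ fun a => ?_
  · obtain ⟨W, hW, hy⟩ := Set.mem_iUnion₂.1 (ht (Set.mem_univ y))
    exact ⟨⟨W, hW⟩, hy⟩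
  · refine EtSh.isConstructible_of_iso ?_ (EtSh.isConstructible_pull (a.1.1.ι ≫ pullback.fst f V.1.ι) h)
    exact ((EtCore.pullComp (a.1.1.ι ≫ pullback.fst f V.1.ι) f).app F).symm ≪≫
      (EtCore.pullCongr (by rw [Category.assoc, pullback.condition, ← Category.assoc])).app F ≪≫
      (EtCore.pullComp (a.1.1.ι ≫ q) V.1.ι).app F

end Groth.Agent.S8546
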