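import Groth.Statements.S8547


set_option autoImplicit false
universe u
open CategoryTheory CategoryTheory.Limits AlgebraicGeometry Opposite
open EtBC

namespace Groth.Agent.S8547

open Opposite

theorem aux {X Y Xb Yb : Scheme.{u}} (h : Y ⟶ X) (p : Xb ⟶ X) (hb : Yb ⟶ Xb) (pY : Yb ⟶ Y) (w : hb ≫ p = pY ≫ h)
    (F : EtDesc.Sh Xb) (s : EtDesc.sect F (EtCoh.top Xb)) :
    (EtBC.baseChange0Sh p h pY hb w F).hom.app (op (EtCoh.top Y))
        (EtDesc.secPull h ((EtDesc.pushSh p).obj F) (F.obj.map (EtCore.bcTopIso p).hom.op s)) =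
      ((EtDesc.pullSh hb).obj F).obj.map (EtCore.bcTopIso pY).hom.op (EtDesc.secPull hb F s) := by
  let bc := EtBC.baseChange0Sh p h pY hb w F
  let T := (EtDesc.pushSh pY).obj ((EtDesc.pullSh hb).obj F)
  let u0 := ((EtDesc.adjSh h).unit.app ((EtDesc.pushSh p).obj F)).hom.app (op (EtCoh.top X))
    (F.obj.map (EtCore.bcTopIso p).hom.op s)
  have h1 := ConcreteCategory.congr_hom (bc.hom.naturality (EtCore.bcTopIso h).inv.op) u0
  refine h1.trans ?_
  have e : (EtDesc.adjSh h).homEquiv _ _ bc = _ := Equiv.apply_symm_apply _ _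
  rw [Adjunction.homEquiv_unit] at e
  have h2 := ConcreteCategory.congr_hom (congrArg (fun m => m.hom.app (op (EtCoh.top X))) e)
    (F.obj.map (EtCore.bcTopIso p).hom.op s)
  refine (congrArg (T.obj.map (EtCore.bcTopIso h).inv.op) h2).trans ?_
  let v := ((EtDesc.adjSh hb).unit.app F).hom.app (op (EtCoh.top Xb)) s
  have h3 := ConcreteCategory.congr_hom (((EtDesc.adjSh hb).unit.app F).hom.naturality (EtCore.bcTopIso p).hom.op) s
  let G := ((EtDesc.pullSh hb).obj F).obj
  have hres : ∀ {A B C : Yb.Etale} (a : B ⟶ A) (b : C ⟶ B) (z : G.obj (op A)),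
      G.map b.op (G.map a.op z) = G.map (b ≫ a).op z := by
    intro A B C a b z
    rw [← CategoryTheory.comp_apply, ← Functor.map_comp, ← op_comp]
  show G.map _ (G.map _ (G.map _ (G.map _ (((EtDesc.adjSh hb).unit.app F).hom.app _ (F.obj.map _ s))))) = G.map _ (G.map _ v)
  refine (congrArg (fun z => G.map _ (G.map _ (G.map _ (G.map _ z)))) h3).trans ?_
  show G.map _ (G.map _ (G.map _ (G.map _ (G.map ((EtCoh.bc hb).map (EtCore.bcTopIso p).hom).op v)))) = _
  simp only [← CategoryTheory.comp_apply, ← Functor.map_comp]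
  exact congrArg (fun m => G.map m v) (Quiver.Hom.unop_inj ((EtCore.bcTopIsTerminal hb).hom_ext _ _))


/-- Let h : Y → X and p : X̄ → X be morphisms of schemes with X, Y, X̄ quasi-compact and quasi-separated
(p need not be surjective), and Ȳ = Y ×_X X̄ with projections h̄ : Ȳ → X̄ and p_Y : Ȳ → Y. If the
pullback map on global sections Γ(X, F) → Γ(Y, h^*F) is injective for every sheaf of sets F on X and
the base change morphism h^* p_* F̄ → p_{Y*} h̄^* F̄ is a monomorphism for every sheaf of sets F̄ on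
X̄, then Γ(X̄, F̄) → Γ(Ȳ, h̄^*F̄) is injective for every F̄. If the maps for h are bijective and the
base change morphisms are isomorphisms, then the maps for h̄ are bijective. -/
theorem result {X Y Xb Yb : Scheme.{u}} [CompactSpace X]
    [QuasiSeparatedSpace X] [CompactSpace Y] [QuasiSeparatedSpace Y] [CompactSpace Xb] [QuasiSeparatedSpace Xb]
    (h : Y ⟶ X) (p : Xb ⟶ X) (hb : Yb ⟶ Xb) (pY : Yb ⟶ Y) (sq : IsPullback hb pY p h) :
    ((∀ F : EtDesc.Sh X, Function.Injective (EtDesc.secPull h F)) →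
      (∀ Fb : EtDesc.Sh Xb, Mono (EtBC.baseChange0Sh p h pY hb sq.w Fb)) →
      ∀ Fb : EtDesc.Sh Xb, Function.Injective (EtDesc.secPull hb Fb)) ∧
    ((∀ F : EtDesc.Sh X, Function.Bijective (EtDesc.secPull h F)) →
      (∀ Fb : EtDesc.Sh Xb, IsIso (EtBC.baseChange0Sh p h pY hb sq.w Fb)) →
      ∀ Fb : EtDesc.Sh Xb, Function.Bijective (EtDesc.secPull hb Fb)) := by
  have hp : ∀ Fb : EtDesc.Sh Xb, Function.Bijective (Fb.obj.map (EtCore.bcTopIso p).hom.op) := fun Fb =>
    ConcreteCategory.bijective_of_isIso _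
  have hq : ∀ Fb : EtDesc.Sh Xb, Function.Bijective (((EtDesc.pullSh hb).obj Fb).obj.map (EtCore.bcTopIso pY).hom.op) := fun Fb =>
    ConcreteCategory.bijective_of_isIso _
  refine ⟨fun hinj hbc Fb s s' e => ?_, fun hbij hbc Fb => ?_⟩
  · haveI := hbc Fb
    have e' := (aux h p hb pY sq.w Fb s).trans ((congrArg _ e).trans (aux h p hb pY sq.w Fb s').symm)
    have hm : Function.Injective ((EtBC.baseChange0Sh p h pY hb sq.w Fb).hom.app (op (EtCoh.top Y))) := by
      have : Mono ((EtBC.baseChange0Sh p h pY hb sq.w Fb).hom.app (op (EtCoh.top Y))) := inferInstance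
      exact (mono_iff_injective _).1 this
    exact (hp Fb).1 (hinj _ (hm e'))
  · haveI := hbc Fb
    have hb' : Function.Bijective ((EtBC.baseChange0Sh p h pY hb sq.w Fb).hom.app (op (EtCoh.top Y))) := by
      haveI : IsIso ((sheafToPresheaf _ _).map (EtBC.baseChange0Sh p h pY hb sq.w Fb)) := inferInstance
      exact ConcreteCategory.bijective_of_isIso (((sheafToPresheaf _ _).map (EtBC.baseChange0Sh p h pY hb sq.w Fb)).app (op (EtCoh.top Y)))
    have key := (hb'.comp ((hbij _).comp (hp Fb)))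
    have e : ((EtBC.baseChange0Sh p h pY hb sq.w Fb).hom.app (op (EtCoh.top Y)) : _ → _) ∘
        (EtDesc.secPull h ((EtDesc.pushSh p).obj Fb) ∘ Fb.obj.map (EtCore.bcTopIso p).hom.op) =
        (((EtDesc.pullSh hb).obj Fb).obj.map (EtCore.bcTopIso pY).hom.op : _ → _) ∘ EtDesc.secPull hb Fb :=
      funext (aux h p hb pY sq.w Fb)
    rw [e] at key
    exact (Function.Bijective.of_comp_iff' (hq Fb) _).1 key

end Groth.Agent.S8547
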