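import Groth.Statements.S8554
import Groth.Agent.CechTors.Godement
import Groth.Agent.EtSh.Stalks

set_option autoImplicit false
universe u
open CategoryTheory CategoryTheory.Limits AlgebraicGeometry Opposite
open NonAbH1

namespace Groth.Agent.S8554

/-- Every sheaf of groups F on the small etale site of a scheme X embeds into a sheaf of groups G with
vanishing first non-abelian cohomology on every etale X-scheme: there are G and a morphism u : F ⟶
G, injective on sections over every object of the site, such that for every etale X-scheme U every
torsor under the restriction of G to the induced site over U is trivial, i.e. H¹(U, G) is reduced to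
its base point. (The published statement adds that the first higher direct images of G along any
morphism of schemes then vanish as pointed sheaves; that clause follows from this one and is not
stated here.) -/
theorem result {X : Scheme.{u}}
    (F : Sheaf X.smallEtaleTopology GrpCat.{u + 1}) :
    ∃ (G : Sheaf X.smallEtaleTopology GrpCat.{u + 1}) (φ : F ⟶ G),
      (∀ U : X.Etaleᵒᵖ, Function.Injective (φ.hom.app U)) ∧
      ∀ (U : X.Etale) (P : NonAbH1.Torsor (G.over U)), P.IsTrivial := by
  classical
  choose Ω hΩ hΩs ξ hξ using fun x : X => Groth.Agent.EtSh.exists_geometric_point x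
  let Φ : X → GrothendieckTopology.Point.{u} X.smallEtaleTopology := fun x =>
    @Scheme.pointSmallEtale _ (Ω x) (hΩ x) (hΩs x) (ξ x)
  refine ⟨_, Groth.Agent.CechTors.Godement.germ Φ F, Groth.Agent.CechTors.Godement.germ_injective Φ F ?_,
    fun U P => Groth.Agent.CechTors.Godement.isTrivial Φ _ U P⟩
  intro U R h
  refine (Groth.Agent.EtSh.mem_topology_iff R).2 fun y => ?_
  letI := hΩ (U.hom.base y)
  letI := hΩs (U.hom.base y)
  have hy : U.hom.base y = (ξ (U.hom.base y)).base (default : Spec (CommRingCat.of (Ω (U.hom.base y)))) :=
    ((hξ (U.hom.base y)).le ⟨_, rfl⟩).symm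
  obtain ⟨t, ht⟩ := Groth.Agent.EtSh.exists_fib y hy
  obtain ⟨W, g, hg, w, hw⟩ := h (U.hom.base y) t
  exact ⟨W, g, Groth.Agent.EtSh.fpt w, hg,
    ((Groth.Agent.EtSh.map_fpt g w).symm.trans (congrArg Groth.Agent.EtSh.fpt hw)).trans ht⟩

end Groth.Agent.S8554
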