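import Groth.Statements.S8562
import Groth.Agent.EtSh.Stalks

set_option autoImplicit false
universe u
open CategoryTheory CategoryTheory.Limits AlgebraicGeometry Opposite
open NonAbH1

namespace Groth.Agent.S8562

/-- Exactness of the sequence 0 → H¹(Y, f_*F) → H¹(X, F) → H⁰(Y, R¹f_*F) at its middle term, in terms of
torsors: let f : X ⟶ Y be a morphism of schemes, F a sheaf of groups on the small etale site of X,
f_*F its direct image on Y (sections over an etale Y-scheme V are the sections of F over X ×_Y V),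
and Q an F-torsor. Then Q is the image of a class in H¹(Y, f_*F), in the sense that there are an
f_*F-torsor P on Y and a morphism of sheaves of sets from P to the direct image of the sheaf
underlying Q which is equivariant for the actions of f_*F, if and only if the class of Q is locally
trivial over Y: there is a jointly surjective family of etale Y-schemes Y_i such that Q has a
section over every X ×_Y Y_i. -/
theorem result {X Y : Scheme.{u}} (f : X ⟶ Y)
    [EtCoh.BCCont f] (F : Sheaf X.smallEtaleTopology GrpCat.{u + 1}) (Q : NonAbH1.Torsor F) :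
    (∃ (P : NonAbH1.Torsor (((EtCoh.bc f).sheafPushforwardContinuous GrpCat.{u + 1}
        Y.smallEtaleTopology X.smallEtaleTopology).obj F))
      (φ : P.P ⟶ ((EtCoh.bc f).sheafPushforwardContinuous (Type (u + 1))
        Y.smallEtaleTopology X.smallEtaleTopology).obj Q.P),
      ∀ (V : Y.Etaleᵒᵖ) (g : F.obj.obj (op ((EtCoh.bc f).obj V.unop))) (s : P.P.obj.obj V),
        φ.hom.app V (P.smul g s) = Q.smul g (φ.hom.app V s)) ↔
    ∃ (ι : Type u) (V : ι → Y.Etale), EtCoh.Covers V ∧
      ∀ i, Nonempty (Q.P.obj.obj (op ((EtCoh.bc f).obj (V i)))) := by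
  constructor
  · rintro ⟨P, φ, -⟩
    obtain ⟨R, hR, hne⟩ := P.isTorsor.2 (EtCoh.top Y)
    have key : ∀ y : Y, ∃ (W : Y.Etale) (g : W ⟶ EtCoh.top Y) (w : W.left), R g ∧ g.left.base w = y :=
      fun y => (Groth.Agent.EtSh.mem_topology_iff R).1 hR y
    choose W g w hg hw using key
    refine ⟨Y, W, fun y => ⟨y, w y, ?_⟩, fun y => ⟨φ.hom.app (Opposite.op (W y)) (hne (g y) (hg y)).some⟩⟩
    have h1 : (g y).left ≫ (EtCoh.top Y).hom = (W y).hom := MorphismProperty.Over.w (g y)
    rw [← h1, Scheme.Hom.comp_apply, hw y]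
    rfl
  · rintro ⟨ι, V, hV, hQ⟩
    let P : NonAbH1.GSheaf (((EtCoh.bc f).sheafPushforwardContinuous GrpCat.{u + 1}
        Y.smallEtaleTopology X.smallEtaleTopology).obj F) :=
      { P := ((EtCoh.bc f).sheafPushforwardContinuous (Type (u + 1))
          Y.smallEtaleTopology X.smallEtaleTopology).obj Q.P
        smul := fun {U} g s => Q.smul (U := Opposite.op ((EtCoh.bc f).obj U.unop)) g s
        one_smul := fun {U} s => Q.one_smul (U := Opposite.op ((EtCoh.bc f).obj U.unop)) s
        mul_smul := fun {U} g h s => Q.mul_smul (U := Opposite.op ((EtCoh.bc f).obj U.unop)) g h s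
        map_smul := fun {U U'} k g s => Q.map_smul ((EtCoh.bc f).map k.unop).op g s }
    refine ⟨⟨P, fun U p q => Q.isTorsor.1 (Opposite.op ((EtCoh.bc f).obj U.unop)) p q, fun W => ?_⟩,
      𝟙 _, fun U g s => rfl⟩
    refine ⟨Sieve.ofObjects V W, (Groth.Agent.EtSh.mem_topology_iff _).2 fun x => ?_, ?_⟩
    · obtain ⟨i, y, hy⟩ := hV (W.hom.base x)
      obtain ⟨z, hz, -⟩ := Scheme.Pullback.exists_preimage_pullback (f := W.hom) (g := (V i).hom) x y hy.symm
      haveI : Etale W.hom := W.prop
      haveI : Etale (V i).hom := (V i).prop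
      let Z : Y.Etale := Scheme.Etale.mk (Limits.pullback.fst W.hom (V i).hom ≫ W.hom)
      refine ⟨Z, MorphismProperty.Over.homMk (Limits.pullback.fst W.hom (V i).hom) rfl, z, ⟨i, ⟨?_⟩⟩, hz⟩
      exact MorphismProperty.Over.homMk (Limits.pullback.snd W.hom (V i).hom) Limits.pullback.condition.symm
    · rintro Z a ⟨i, ⟨b⟩⟩
      exact ⟨Q.P.obj.map ((EtCoh.bc f).map b).op (hQ i).some⟩

end Groth.Agent.S8562
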