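import Groth.Statements.S8564
import Groth.Agent.CohAcyc.Basic

set_option autoImplicit false
open CategoryTheory CategoryTheory.Limits
universe u
open CohCx

namespace Groth.Agent.S8564

section
open CategoryTheory CategoryTheory.Limits CategoryTheory.Abelian Groth.Agent.CohAcyc

variable {C : Type u} [SmallCategory C] {J : GrothendieckTopology C} {T : Type u}

private theorem step (F : T → Ab J) (hF : ∀ t, CohCx.IsTotallyAcyclic (F t)) :
    ∃ (I Q : T → Ab J) (a : (∏ᶜ F) ⟶ ∏ᶜ I) (b : (∏ᶜ I) ⟶ ∏ᶜ Q) (w : a ≫ b = 0),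
      (∀ t, CohCx.IsTotallyAcyclic (Q t)) ∧ Injective (∏ᶜ I) ∧ (ShortComplex.mk a b w).ShortExact ∧
      ∀ (K : Sheaf J (Type u)) (s : (zF J).obj K ⟶ ∏ᶜ Q), ∃ l : (zF J).obj K ⟶ ∏ᶜ I, l ≫ b = s := by
  let f : ∀ t, F t ⟶ Injective.under (F t) := fun t => Injective.ι (F t)
  have hS : ∀ t, (ShortComplex.mk (f t) (cokernel.π (f t)) (cokernel.condition _)).ShortExact :=
    fun t => { exact := ShortComplex.exact_cokernel _ }
  have hlift : ∀ (K : Sheaf J (Type u)) (s : (zF J).obj K ⟶ ∏ᶜ fun t => cokernel (f t)),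
      ∃ l : (zF J).obj K ⟶ ∏ᶜ fun t => Injective.under (F t),
        l ≫ Limits.Pi.map (fun t => cokernel.π (f t)) = s := fun K s => by
    choose l hl using fun t => lift_of_subsingleton (hS t) (X := (zF J).obj K) (hF t K 0) (s ≫ Limits.Pi.π _ t)
    exact ⟨Limits.Pi.lift l, Limits.Pi.hom_ext _ _ fun t => by rw [Category.assoc, Limits.Pi.map_π, Limits.Pi.lift_π_assoc]; exact hl t⟩
  have w : Limits.Pi.map f ≫ Limits.Pi.map (fun t => cokernel.π (f t)) = 0 := Limits.Pi.hom_ext _ _ fun t => by simp
  refine ⟨fun t => Injective.under (F t), fun t => cokernel (f t), Limits.Pi.map f,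
    Limits.Pi.map (fun t => cokernel.π (f t)), w, fun t K p => ?_, inferInstance, ?_, hlift⟩
  · exact subsingleton_quot_of_ses (hS t) (Ext.subsingleton_of_injective _ _ p) (hF t K (p + 1))
  · haveI : Mono (Limits.Pi.map f) := ⟨fun u v h => Limits.Pi.hom_ext _ _ fun t => by
      have := congrArg (· ≫ Limits.Pi.π _ t) h
      simp only [Category.assoc, Limits.Pi.map_π] at this
      rw [← cancel_mono (f t), Category.assoc, Category.assoc]
      exact this⟩
    refine { exact := ShortComplex.exact_of_f_is_kernel _ ?_, epi_g := ?_ }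
    · refine KernelFork.IsLimit.ofι' (Limits.Pi.map f) w fun k hk => ⟨Limits.Pi.lift fun t =>
        (hS t).exact.lift (k ≫ Limits.Pi.π _ t) ?_, Limits.Pi.hom_ext _ _ fun t => ?_⟩
      · have := congrArg (· ≫ Limits.Pi.π _ t) hk
        simpa using this
      · rw [Category.assoc, Limits.Pi.map_π, Limits.Pi.lift_π_assoc]
        exact (hS t).exact.lift_f _ _
    · obtain ⟨l, hl⟩ := hlift _ ((zAdj J).counit.app (∏ᶜ fun t => cokernel (f t)))
      exact epi_of_epi_fac hl

private theorem subsingleton_pi_succ (p : ℕ) :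
    ∀ F : T → Ab J, (∀ t, CohCx.IsTotallyAcyclic (F t)) → ∀ K : Sheaf J (Type u),
      Subsingleton (Ext ((zF J).obj K) (∏ᶜ F) (p + 1)) := by
  induction p with
  | zero =>
    intro F hF K
    obtain ⟨I, Q, a, b, w, hQ, hI, hS, hl⟩ := step F hF
    exact subsingleton_one_of_lift hS (Ext.subsingleton_of_injective _ _ 0) (hl K)
  | succ p ih =>
    intro F hF K
    obtain ⟨I, Q, a, b, w, hQ, hI, hS, hl⟩ := step F hF
    exact subsingleton_succ_of_ses hS (ih Q hQ K) (Ext.subsingleton_of_injective _ _ (p + 1))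

end

/-- Let (F_t) be a family of abelian sheaves on a small site, indexed by a small set, such that each F_t
is totally acyclic, i.e. H^p(K, F_t) = 0 for every sheaf of sets K and every p > 0. Then the product
sheaf of the family is totally acyclic. (The published statement is for modules over a ringed topos;
this row is the case of abelian sheaves.) -/
theorem result {C : Type u} [SmallCategory C] (J : GrothendieckTopology C)
    {T : Type u} (F : T → Sheaf J AddCommGrpCat.{u}) (hF : ∀ t, CohCx.IsTotallyAcyclic (F t)) :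
    CohCx.IsTotallyAcyclic (∏ᶜ F) := by
  exact fun K p => subsingleton_pi_succ p F hF K

end Groth.Agent.S8564
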