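import Groth.Statements.S8567
import Groth.Agent.SoftSheaf.Restrict
import Groth.Agent.Godement.Stalk

set_option autoImplicit false
open CategoryTheory TopologicalSpace Opposite
universe u
open CohTop

namespace Groth.Agent.S8567

/-- Let X be a topological space, K ⊆ X a compact subset such that any two distinct points of K have
disjoint neighbourhoods in X, and F a flasque abelian sheaf on X. Then the inverse image F|K of F on
the subspace K is a soft sheaf: for every closed subset A of K, every section of (F|K)|A over A is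
the restriction of a section of F|K over K (the restriction map is the unit of the inverse image /
direct image adjunction for the inclusion A → K, taken on global sections). -/
theorem result {X : TopCat.{u}} {K : Set X} (hK : IsCompact K)
    (hsep : ∀ x ∈ K, ∀ y ∈ K, x ≠ y → ∃ U V : Set X, IsOpen U ∧ IsOpen V ∧ x ∈ U ∧ y ∈ V ∧ Disjoint U V)
    (F : CohTop.Ab X) [TopCat.Sheaf.IsFlasque F] {A : Set K} (hA : IsClosed A) :
    Function.Surjective
      ((((TopCat.Sheaf.pullbackPushforwardAdjunction AddCommGrpCat.{u}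
        (TopCat.ofHom ⟨((↑) : A → K), continuous_subtype_val⟩ : TopCat.of A ⟶ TopCat.of K)).unit.app
        ((CohTop.pull (TopCat.ofHom ⟨((↑) : K → X), continuous_subtype_val⟩ : TopCat.of K ⟶ X)).obj F)).hom.app
        (op ⊤)).hom) := by
  haveI : CompactSpace K := isCompact_iff_compactSpace.1 hK
  let i : TopCat.of K ⟶ X := TopCat.ofHom ⟨((↑) : K → X), continuous_subtype_val⟩
  let j : TopCat.of A ⟶ TopCat.of K := TopCat.ofHom ⟨((↑) : A → K), continuous_subtype_val⟩
  let F' := (CohTop.pull i).obj F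
  let φ : Groth.Agent.Godement.Coh i F F' :=
    (TopCat.Sheaf.pullbackPushforwardAdjunction AddCommGrpCat.{u} i).unit.app F
  let ψ : Groth.Agent.Godement.Coh j F' ((CohTop.pull j).obj F') :=
    (TopCat.Sheaf.pullbackPushforwardAdjunction AddCommGrpCat.{u} j).unit.app F'
  have hψ := fun y => Groth.Agent.Godement.bijective_stalk_unit j F' y
  have hsoft : Groth.Agent.SoftSheaf.IsSoft F' := Groth.Agent.SoftSheaf.isSoft_of_isFlasque_image φ
    (fun y => Groth.Agent.Godement.bijective_stalk_unit i F y) Topology.IsInducing.subtypeVal Subtype.val_injective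
    (by
      rintro _ ⟨x, rfl⟩ _ ⟨y, rfl⟩ hne
      obtain ⟨U, V, hU, hV, hxU, hyV, hd⟩ := hsep x.1 x.2 y.1 y.2 hne
      exact Filter.disjoint_iff.2 ⟨U, hU.mem_nhds hxU, V, hV.mem_nhds hyV, hd⟩)
  intro σ
  choose t ht using fun (z : K) (hz : z ∈ A) =>
    (hψ ⟨z, hz⟩).2 (Groth.Agent.Godement.germ ((CohTop.pull j).obj F') ⊤ ⟨z, hz⟩ trivial σ)
  have hsec : Groth.Agent.SoftSheaf.IsSec F' A t := fun z hz => by
    obtain ⟨W, s, hzW, hs⟩ :=
      Groth.Agent.SoftSheaf.exists_section_near (i := j) ψ hψ Topology.IsInducing.subtypeVal σ ⟨z, hz⟩ trivial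
    refine ⟨W, s, hzW, fun y hy hyW => ?_⟩
    obtain ⟨h', e⟩ := hs ⟨y, hy⟩ hyW
    exact (hψ ⟨y, hy⟩).1 ((ht y hy).trans e.symm)
  obtain ⟨τ, hτ⟩ := hsoft A hA t hsec
  refine ⟨τ, TopCat.Presheaf.section_ext ((CohTop.pull j).obj F') ⊤ _ _ fun y hy => ?_⟩
  exact (Groth.Agent.Godement.Coh.stalk_germ ψ ⊤ y trivial τ).symm.trans
    ((congrArg (ψ.stalk y) (hτ y.1 y.2)).trans (ht y.1 y.2))
end Groth.Agent.S8567
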