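import Groth.Statements.S8586
import Mathlib
-- import your own Groth.Agent.* helpers here

set_option autoImplicit false
universe u
open CAlg

namespace Groth.Agent.S8586

open IsLocalRing

variable {A : Type u} [CommRing A] [IsLocalRing A]

/-- systems of parameters -/
def IsSop {d : ℕ} (u : Fin d → A) : Prop :=
  (∀ i, u i ∈ maximalIdeal A) ∧ maximalIdeal A ≤ (Ideal.span (Set.range u)).radical

theorem span_update_eq {d : ℕ} (u : Fin d → A) (j : Fin d) (x : A) :
    Ideal.span (Set.range (Function.update u j x)) =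
      Ideal.span (u '' {i | i ≠ j}) ⊔ Ideal.span {x} := by
  classical
  rw [← Ideal.span_union]
  congr 1
  ext y
  simp only [Set.mem_range, Set.mem_union, Set.mem_image, Set.mem_setOf_eq, Set.mem_singleton_iff]
  constructor
  · rintro ⟨i, rfl⟩
    by_cases h : i = j
    · subst h; simp
    · exact .inl ⟨i, h, by simp [h]⟩
  · rintro (⟨i, h, rfl⟩ | rfl)
    · exact ⟨i, by simp [h]⟩
    · exact ⟨j, by simp⟩

theorem step [IsNoetherianRing A] {d : ℕ} (hd : ringKrullDim A = d) (u v : Fin d → A)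
    (hu : IsSop u) (hv : IsSop v) (j : Fin d) :
    ∃ x, IsSop (Function.update u j x) ∧ IsSop (Function.update v j x) := by
  classical
  let J : (Fin d → A) → Ideal A := fun w => Ideal.span (w '' {i | i ≠ j})
  have hJ : ∀ w, IsSop w → ¬ maximalIdeal A ≤ (J w).radical ∧ J w ≤ maximalIdeal A := by
    intro w hw
    refine ⟨fun h => ?_, Ideal.span_le.2 (by rintro _ ⟨i, -, rfl⟩; exact hw.1 i)⟩
    have hfin : (w '' {i | i ≠ j}).Finite := Set.toFinite _
    have hmin : maximalIdeal A ∈ (J w).minimalPrimes := by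
      refine ⟨⟨inferInstance, Ideal.span_le.2 (by rintro _ ⟨i, -, rfl⟩; exact hw.1 i)⟩,
        fun P hP _ => h.trans ((hP.1.radical_le_iff).2 hP.2)⟩
    have h1 := Ideal.height_le_card_of_mem_minimalPrimes_span hfin hmin
    have h2 : (maximalIdeal A).height = (d : ℕ∞) := by
      have := IsLocalRing.maximalIdeal_height_eq_ringKrullDim (R := A)
      rw [hd] at this
      exact_mod_cast this
    have h3 : (w '' {i | i ≠ j}).ncard < d := by
      refine (Set.ncard_image_le (Set.toFinite _)).trans_lt ?_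
      have : ({i | i ≠ j} : Set (Fin d)) ⊂ Set.univ :=
        ⟨Set.subset_univ _, fun h => h (Set.mem_univ j) rfl⟩
      have := Set.ncard_lt_ncard this
      simpa using this
    rw [h2] at h1
    have h5 : d ≤ (w '' {i | i ≠ j}).ncard := by exact_mod_cast h1
    omega
  have hfin : ((J u).minimalPrimes ∪ (J v).minimalPrimes).Finite :=
    (Ideal.finite_minimalPrimes_of_isNoetherianRing _ _).union
      (Ideal.finite_minimalPrimes_of_isNoetherianRing _ _)
  have hne : ∀ w, IsSop w → ∀ P ∈ (J w).minimalPrimes, P ≠ maximalIdeal A := by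
    rintro w hw P hP rfl
    refine (hJ w hw).1 ?_
    rw [Ideal.radical_eq_sInf]
    refine le_sInf fun Q ⟨hQ, hQp⟩ => hP.2 ⟨hQp, hQ⟩ (le_maximalIdeal hQp.ne_top)
  obtain ⟨x, hx, hxu⟩ : ∃ x ∈ maximalIdeal A,
      ∀ P ∈ (J u).minimalPrimes ∪ (J v).minimalPrimes, x ∉ P := by
    by_contra hcon
    push Not at hcon
    have hsub : (maximalIdeal A : Set A) ⊆ ⋃ P ∈ (hfin.toFinset : Set (Ideal A)), (P : Set A) := by
      intro x hx
      obtain ⟨P, hP, hxP⟩ := hcon x hx
      exact Set.mem_biUnion (hfin.mem_toFinset.2 hP) hxP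
    obtain ⟨P, hP, hle⟩ := (Ideal.subset_union_prime (s := hfin.toFinset) ⊤ ⊤ (fun P hP _ _ => by
      rcases hfin.mem_toFinset.1 hP with h | h <;> exact h.1.1)).1 hsub
    have hPm : P ≠ maximalIdeal A := by
      rcases hfin.mem_toFinset.1 hP with h | h
      · exact hne u hu P h
      · exact hne v hv P h
    have hPp : P.IsPrime := by rcases hfin.mem_toFinset.1 hP with h | h <;> exact h.1.1
    exact hPm (le_antisymm (le_maximalIdeal hPp.ne_top) hle)
  suffices ∀ w, IsSop w → (∀ P ∈ (J w).minimalPrimes, x ∉ P) → IsSop (Function.update w j x) from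
    ⟨x, this u hu fun P hP => hxu P (.inl hP), this v hv fun P hP => hxu P (.inr hP)⟩
  intro w hw hxw
  refine ⟨fun i => ?_, ?_⟩
  · by_cases h : i = j
    · subst h; simpa using hx
    · simpa [h] using hw.1 i
  rw [span_update_eq, Ideal.radical_eq_sInf]
  refine le_sInf fun P ⟨hPle, hPp⟩ => ?_
  haveI := hPp
  obtain ⟨Q, hQ, hQP⟩ := Ideal.exists_minimalPrimes_le (le_sup_left.trans hPle)
  by_contra hPm
  have hxP : x ∈ P := hPle (Ideal.mem_sup_right (Ideal.mem_span_singleton_self x))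
  haveI := hQ.1.1
  have hlt : Q < P := lt_of_le_of_ne hQP (fun h => hxw Q hQ (h ▸ hxP))
  have hPlt : P < maximalIdeal A :=
    lt_of_le_of_ne (le_maximalIdeal hPp.ne_top) (fun h => hPm h.ge)
  -- the maximal ideal of `A/Q` has height at most one
  haveI : Nontrivial (A ⧸ Q) := Ideal.Quotient.nontrivial_iff.2 hQ.1.1.ne_top
  haveI : IsLocalRing (A ⧸ Q) := .of_surjective' _ Ideal.Quotient.mk_surjective
  have hmk : ∀ z, Ideal.Quotient.mk Q z = 0 ↔ z ∈ Q := fun z => Ideal.Quotient.eq_zero_iff_mem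
  have hrad : maximalIdeal (A ⧸ Q) ≤ (Ideal.span {Ideal.Quotient.mk Q (w j)}).radical := by
    intro z hz
    obtain ⟨z, rfl⟩ := Ideal.Quotient.mk_surjective z
    have hz' : z ∈ maximalIdeal A := by
      rw [mem_maximalIdeal, mem_nonunits_iff] at hz ⊢
      exact fun h => hz (h.map _)
    obtain ⟨n, hn⟩ := hw.2 hz'
    refine ⟨n, ?_⟩
    rw [← map_pow]
    have hsplit : Ideal.span (Set.range w) = J w ⊔ Ideal.span {w j} := by
      conv_lhs => rw [← Function.update_eq_self j w]
      rw [span_update_eq]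
    rw [hsplit, Submodule.mem_sup] at hn
    obtain ⟨a, ha, b, hb, hab⟩ := hn
    rw [← hab, map_add, (hmk a).2 (hQ.1.2 ha), zero_add]
    obtain ⟨c, rfl⟩ := Ideal.mem_span_singleton'.1 hb
    rw [map_mul]
    exact Ideal.mul_mem_left _ _ (Ideal.mem_span_singleton_self _)
  let P' := P.map (Ideal.Quotient.mk Q)
  haveI : P'.IsPrime := Ideal.map_isPrime_of_surjective Ideal.Quotient.mk_surjective
    (by rwa [Ideal.mk_ker])
  have hmin : maximalIdeal (A ⧸ Q) ∈ (Ideal.span {Ideal.Quotient.mk Q (w j)}).minimalPrimes := by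
    refine ⟨⟨inferInstance, ?_⟩, fun R hR _ => hrad.trans (hR.1.radical_le_iff.2 hR.2)⟩
    rw [Ideal.span_le, Set.singleton_subset_iff, SetLike.mem_coe, mem_maximalIdeal, mem_nonunits_iff]
    intro hu'
    haveI : IsLocalHom (Ideal.Quotient.mk Q) := .of_surjective _ Ideal.Quotient.mk_surjective
    exact (mem_maximalIdeal _).1 (hw.1 j) (isUnit_of_map_unit (Ideal.Quotient.mk Q) _ hu')
  have h1 : (maximalIdeal (A ⧸ Q)).height ≤ 1 :=
    Ideal.height_le_one_of_isPrincipal_of_mem_minimalPrimes _ _ hmin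
  have hP'm : P' < maximalIdeal (A ⧸ Q) := by
    refine lt_of_le_of_ne (le_maximalIdeal (Ideal.IsPrime.ne_top ‹_›)) fun h => hPm fun z hz => ?_
    have hzm : Ideal.Quotient.mk Q z ∈ P' := by
      rw [h, mem_maximalIdeal, mem_nonunits_iff]
      intro hu'
      haveI : IsLocalHom (Ideal.Quotient.mk Q) := .of_surjective _ Ideal.Quotient.mk_surjective
      exact (mem_maximalIdeal _).1 hz (isUnit_of_map_unit (Ideal.Quotient.mk Q) _ hu')
    rw [Ideal.mem_map_iff_of_surjective _ Ideal.Quotient.mk_surjective] at hzm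
    obtain ⟨y, hy, hyz⟩ := hzm
    have := hQP ((Ideal.Quotient.eq).1 hyz)
    simpa using sub_mem hy this
  have hP'0 : (⊥ : Ideal (A ⧸ Q)) < P' := by
    refine bot_lt_iff_ne_bot.2 fun h => hxw Q hQ ?_
    have := Ideal.mem_map_of_mem (Ideal.Quotient.mk Q) hxP
    rw [show P.map (Ideal.Quotient.mk Q) = ⊥ from h, Ideal.mem_bot, hmk] at this
    exact this
  haveI : (⊥ : Ideal (A ⧸ Q)).IsPrime := Ideal.isPrime_bot
  have h2 := Ideal.height_strict_mono_of_isPrime hP'0
  have h3 := Ideal.height_strict_mono_of_isPrime hP'm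
  have h4 : P'.height = 0 := ENat.lt_one_iff_eq_zero.1 (h3.trans_le h1)
  rw [h4] at h2
  exact not_lt_zero h2

theorem aux (A : Type u) [CommRing A] [LocCoh.IsCohenMacaulayLocalRing A]
    (d : ℕ) (hd : ringKrullDim A = d) (u v : Fin d → A) (hu : IsSop u) (hv : IsSop v) :
    ∃ (m : ℕ) (w : Fin (m + 1) → Fin d → A), w 0 = u ∧ w (Fin.last m) = v ∧
      (∀ k : Fin (m + 1), (∀ i, w k i ∈ maximalIdeal A) ∧
        maximalIdeal A ≤ (Ideal.span (Set.range (w k))).radical) ∧
      (∀ k : Fin m, ∃ i : Fin d, ∀ i' : Fin d, i' ≠ i → w k.castSucc i' = w k.succ i') := by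
  classical
  let R : (Fin d → A) → (Fin d → A) → Prop := fun a b =>
    IsSop a ∧ IsSop b ∧ ∃ i : Fin d, ∀ i', i' ≠ i → a i' = b i'
  have hsymm : ∀ a b, R a b → R b a := fun a b ⟨ha, hb, i, hi⟩ =>
    ⟨hb, ha, i, fun i' h => (hi i' h).symm⟩
  have key : ∀ j ≤ d, ∃ u' v', Relation.ReflTransGen R u u' ∧ Relation.ReflTransGen R v v' ∧
      IsSop u' ∧ IsSop v' ∧ ∀ i : Fin d, (i : ℕ) < j → u' i = v' i := by
    intro j hj
    induction j with
    | zero => exact ⟨u, v, .refl, .refl, hu, hv, fun i h => absurd h (Nat.not_lt_zero _)⟩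
    | succ j ih =>
      obtain ⟨u', v', h1, h2, h3, h4, h5⟩ := ih (by omega)
      obtain ⟨x, hxu, hxv⟩ := step hd u' v' h3 h4 ⟨j, hj⟩
      refine ⟨_, _, h1.tail ⟨h3, hxu, ⟨j, hj⟩, fun i hi => ?_⟩,
        h2.tail ⟨h4, hxv, ⟨j, hj⟩, fun i hi => ?_⟩, hxu, hxv, fun i hi => ?_⟩
      · simp [hi]
      · simp [hi]
      · by_cases h : i = ⟨j, hj⟩
        · subst h; simp
        · have : (i : ℕ) < j := lt_of_le_of_ne (Nat.le_of_lt_succ hi) (fun e => h (Fin.ext e))
          simp [h, h5 i this]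
  obtain ⟨u', v', h1, h2, -, -, h5⟩ := key d le_rfl
  obtain rfl : u' = v' := funext fun i => h5 i i.2
  have huv : Relation.ReflTransGen R u v := by
    have : Std.Symm R := ⟨hsymm⟩
    exact h1.trans (Std.Symm.symm _ _ h2)
  clear key h1 h2 h5
  induction huv with
  | refl => exact ⟨0, fun _ => u, rfl, rfl, fun _ => hu, fun k => k.elim0⟩
  | @tail b c _ hbc ih =>
    obtain ⟨m, w, hw0, hwl, hws, hwr⟩ := ih hbc.1
    refine ⟨m + 1, Fin.snoc w c, ?_, Fin.snoc_last _ _, fun k => ?_, fun k => ?_⟩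
    · rw [← Fin.castSucc_zero, Fin.snoc_castSucc, hw0]
    · induction k using Fin.lastCases with
      | last => rw [Fin.snoc_last]; exact hv
      | cast k => rw [Fin.snoc_castSucc]; exact hws k
    · induction k using Fin.lastCases with
      | last =>
        rw [Fin.succ_last, Fin.snoc_last, Fin.snoc_castSucc, hwl]
        exact hbc.2.2
      | cast k =>
        rw [Fin.succ_castSucc, Fin.snoc_castSucc, Fin.snoc_castSucc]
        exact hwr k

end Groth.Agent.S8586

namespace Groth.Agent.S8586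

/-- Suppose A is a Cohen–Macaulay local ring whose Krull dimension is d, and consider two systems of
parameters u = (u_1, ..., u_d) and v = (v_1, ..., v_d) of A (that is, d-tuples of elements of the
maximal ideal m such that the ideal they generate has radical m). Then one can find a finite
sequence w_0 = u, w_1, ..., w_m = v, each term a system of parameters of A, where w_{k+1} arises
from w_k by altering just one coordinate. -/
theorem result (A : Type u) [CommRing A] [LocCoh.IsCohenMacaulayLocalRing A]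
    (d : ℕ) (hd : ringKrullDim A = d) (u v : Fin d → A)
    (hu : ∀ i, u i ∈ IsLocalRing.maximalIdeal A) (hu' : IsLocalRing.maximalIdeal A ≤ (Ideal.span (Set.range u)).radical)
    (hv : ∀ i, v i ∈ IsLocalRing.maximalIdeal A) (hv' : IsLocalRing.maximalIdeal A ≤ (Ideal.span (Set.range v)).radical) :
    ∃ (m : ℕ) (w : Fin (m + 1) → Fin d → A), w 0 = u ∧ w (Fin.last m) = v ∧
      (∀ k : Fin (m + 1), (∀ i, w k i ∈ IsLocalRing.maximalIdeal A) ∧
        IsLocalRing.maximalIdeal A ≤ (Ideal.span (Set.range (w k))).radical) ∧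
      (∀ k : Fin m, ∃ i : Fin d, ∀ i' : Fin d, i' ≠ i → w k.castSucc i' = w k.succ i') := by
  exact aux A d hd u v ⟨hu, hu'⟩ ⟨hv, hv'⟩

end Groth.Agent.S8586
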