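import Groth.Statements.S8591
import Mathlib
-- import your own Groth.Agent.* helpers here

set_option autoImplicit false
universe u
open CAlg

namespace Groth.Agent.S8591

open Polynomial Matrix in
theorem map_aeval_mat {n : ℕ} {R S : Type u} [CommRing R] [CommRing S] (f : R →+* S)
    (M : Matrix (Fin n) (Fin n) R) (Q : R[X]) :
    f.mapMatrix (aeval M Q) = aeval (f.mapMatrix M) (Q.map f) := by
  refine map_aeval_eq_aeval_map (φ := f) (ψ := (f.mapMatrix : Matrix (Fin n) (Fin n) R →+* _)) ?_ _ _
  ext r i j
  by_cases hij : i = j <;> simp [Matrix.algebraMap_matrix_apply, hij]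

open Polynomial Matrix in
theorem det_aeval_monic (n : ℕ) :
    ∀ (N : ℕ) (R : Type u) [CommRing R] (A B : Matrix (Fin n) (Fin n) R), A.charpoly = B.charpoly →
      ∀ Q : R[X], Q.Monic → Q.natDegree = N → (aeval A Q).det = (aeval B Q).det := by
  intro N
  induction N with
  | zero =>
    intro R _ A B _ Q hQ hN
    rw [eq_one_of_monic_natDegree_zero hQ hN, map_one, map_one]
  | succ N ih =>
    intro R _ A B hAB Q hQ hN
    rcases subsingleton_or_nontrivial R with hsub | hnt
    · exact Subsingleton.elim _ _
    have : Nontrivial (AdjoinRoot Q) := by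
      let b := (AdjoinRoot.powerBasis' hQ).basis
      exact ⟨⟨b ⟨0, by simp [hN]⟩, 0, b.ne_zero _⟩⟩
    have : Module.Free R (AdjoinRoot Q) := hQ.free_adjoinRoot
    let f := algebraMap R (AdjoinRoot Q)
    have hf : Function.Injective f := FaithfulSMul.algebraMap_injective R (AdjoinRoot Q)
    apply hf
    rw [RingHom.map_det, RingHom.map_det]
    have hmap : ∀ M : Matrix (Fin n) (Fin n) R, f.mapMatrix (aeval M Q) = aeval (f.mapMatrix M) (Q.map f) := by
      exact fun M => map_aeval_mat f M Q
    rw [hmap, hmap]
    have hroot : (Q.map f).IsRoot (AdjoinRoot.root Q) := by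
      rw [IsRoot, eval_map]; exact AdjoinRoot.eval₂_root Q
    obtain ⟨Q1, hQ1⟩ := dvd_iff_isRoot.mpr hroot
    have hQ1m : Q1.Monic := (monic_X_sub_C _).of_mul_monic_left (hQ1 ▸ hQ.map f)
    have hdeg : Q1.natDegree = N := by
      have := congrArg natDegree hQ1
      rw [hQ.natDegree_map f, hN, (monic_X_sub_C _).natDegree_mul hQ1m, natDegree_X_sub_C] at this
      omega
    have hchar : (f.mapMatrix A).charpoly = (f.mapMatrix B).charpoly := by
      simp only [RingHom.mapMatrix_apply, charpoly_map, hAB]
    rw [hQ1, map_mul, map_mul, det_mul, det_mul, ih _ _ _ hchar Q1 hQ1m hdeg]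
    congr 1
    have hev : ∀ M : Matrix (Fin n) (Fin n) (AdjoinRoot Q), (aeval M (X - C (AdjoinRoot.root Q))).det =
        (-1) ^ n * M.charpoly.eval (AdjoinRoot.root Q) := by
      intro M
      rw [map_sub, aeval_X, aeval_C, eval_charpoly, ← neg_sub, det_neg, Fintype.card_fin]
      rfl
    rw [hev, hev, hchar]

open Polynomial Matrix in
theorem det_aeval_eq (n : ℕ) (R : Type u) [CommRing R] (A B : Matrix (Fin n) (Fin n) R)
    (h : A.charpoly = B.charpoly) (P : R[X]) : (aeval A P).det = (aeval B P).det := by
  nontriviality R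
  obtain ⟨f, hfC⟩ : ∃ f : R →+* R[X], f = C := ⟨C, rfl⟩
  let Q : R[X][X] := X ^ (P.natDegree + 1) + C (X : R[X]) * P.map f
  have hd : (C (X : R[X]) * P.map f).natDegree < P.natDegree + 1 :=
    ((natDegree_C_mul_le _ _).trans natDegree_map_le).trans_lt (Nat.lt_succ_self _)
  have hQ : Q.Monic := monic_X_pow_add (degree_le_natDegree.trans_lt (WithBot.coe_lt_coe.mpr hd))
  have hchar : (f.mapMatrix A).charpoly = (f.mapMatrix B).charpoly := by
    simp only [RingHom.mapMatrix_apply, charpoly_map, h]
  have key := det_aeval_monic n _ _ _ _ hchar Q hQ rfl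
  have e : ∀ M : Matrix (Fin n) (Fin n) R, aeval (f.mapMatrix M) Q =
      (f.mapMatrix (M ^ (P.natDegree + 1))) + (X : R[X]) • f.mapMatrix (aeval M P) := by
    intro M
    rw [map_add, map_pow, aeval_X, map_mul, aeval_C, ← Algebra.smul_def, map_pow]
    rw [map_aeval_mat]
  rw [e, e, add_comm, add_comm (f.mapMatrix (B ^ _))] at key
  have hc := congrArg (fun p => p.coeff (Fintype.card (Fin n))) key
  simp only [RingHom.mapMatrix_apply, hfC] at hc
  rw [coeff_det_X_add_C_card, coeff_det_X_add_C_card] at hc
  exact hc

/-- Let k be a commutative ring, M a finite free k-module, u an endomorphism of M with characteristic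
polynomial χ, and P a polynomial over k. Then the norm, from the k-algebra k[T]/(χ) (free of rank
the rank of M) down to k, of the class of P(T) equals det(P(u)). (The published statement writes the
quotient by det(u - T), which generates the same ideal as χ(T) = det(T - u).) -/
theorem result (k : Type u) [CommRing k] (M : Type u) [AddCommGroup M] [Module k M]
    [Module.Free k M] [Module.Finite k M] (u : M →ₗ[k] M) (P : Polynomial k) :
    Algebra.norm k (AdjoinRoot.mk u.charpoly P) = LinearMap.det (Polynomial.aeval u P) := by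
  classical
  let χ := u.charpoly
  have hχ : χ.Monic := u.charpoly_monic
  nontriviality k
  let b := Module.Free.chooseBasis k M
  let e : Fin χ.natDegree ≃ Module.Free.ChooseBasisIndex k M := (Fintype.equivFinOfCardEq (by
    rw [LinearMap.charpoly_natDegree, Module.finrank_eq_card_chooseBasisIndex])).symm
  let b' := b.reindex e.symm
  let pb := AdjoinRoot.powerBasis' hχ
  let A := LinearMap.toMatrix b' b' u
  let B := Algebra.leftMulMatrix pb.basis (AdjoinRoot.root χ)
  have hA : A.charpoly = χ := u.charpoly_toMatrix b'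
  have hB : B.charpoly = χ := by
    have h0 : Polynomial.aeval (AdjoinRoot.root χ) B.charpoly = 0 := by
      apply Algebra.leftMulMatrix_injective pb.basis
      rw [map_zero, ← Polynomial.aeval_algHom_apply]
      exact Matrix.aeval_self_charpoly B
    rw [AdjoinRoot.aeval_eq, AdjoinRoot.mk_eq_zero] at h0
    refine Polynomial.eq_of_monic_of_dvd_of_natDegree_le hχ B.charpoly_monic h0 (le_of_eq ?_)
    rw [B.charpoly_natDegree_eq_dim, Fintype.card_fin]
    rfl
  have := det_aeval_eq χ.natDegree k A B (hA.trans hB.symm) P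
  rw [Algebra.norm_eq_matrix_det pb.basis, ← AdjoinRoot.aeval_eq, ← Polynomial.aeval_algHom_apply,
    ← LinearMap.det_toMatrix b']
  rw [show LinearMap.toMatrix b' b' (Polynomial.aeval u P) = Polynomial.aeval A P from
    (Polynomial.aeval_algHom_apply (LinearMap.toMatrixAlgEquiv b').toAlgHom u P).symm]
  exact this.symm

end Groth.Agent.S8591
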