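import Groth.Statements.S8596
import Mathlib
import Groth.Agent.TorDetect.Basic
-- import your own Groth.Agent.* helpers here

set_option autoImplicit false
universe u
open CategoryTheory CategoryTheory.Limits
open CAlg

open CategoryTheory Limits MonoidalCategory in
lemma Groth.Agent.S8596.isZero_tor_iff {A : Type u} [CommRing A] {M : ModuleCat.{u} A}
    (P : ProjectiveResolution M) (X : ModuleCat.{u} A) (i : ℕ) :
    IsZero (((Tor (ModuleCat.{u} A) (i + 1)).obj X).obj M) ↔
      ∀ z : TensorProduct A X (P.complex.X (i + 1)), (P.complex.d (i + 1) i).hom.lTensor X z = 0 →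
        ∃ w, (P.complex.d (i + 1 + 1) (i + 1)).hom.lTensor X w = z := by
  rw [Tor_obj, (P.isoLeftDerivedObj ((tensoringLeft (ModuleCat.{u} A)).obj X) (i + 1)).isZero_iff]
  erw [← HomologicalComplex.exactAt_iff_isZero_homology]
  rw [HomologicalComplex.exactAt_iff' _ (i + 1 + 1) (i + 1) i (by simp) (by simp),
    ShortComplex.moduleCat_exact_iff]
  rfl

namespace Groth.Agent.S8596

/-- Case of a complex reduced to a single module in degree 0: let A be a commutative Noetherian ring, M
an A-module (not necessarily finitely generated) and n ≥ 0. Then M has tor-dimension at most n —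
Tor_i^A(N, M) = 0 for every A-module N and every i > n, the Tor being the left derived functors of N
⊗ - evaluated at M — if and only if Tor_i^A(k(x), M) = 0 for every prime ideal x of A, with residue
field k(x), and every i > n. (The published statement gives the equivalence for bounded-above
complexes K and the derived tensor product K ⊗^L k(x); this is the case K = M[0].) -/
theorem result (A : Type u) [CommRing A] [IsNoetherianRing A]
    (M : ModuleCat.{u} A) (n : ℕ) :
    (∀ (N : ModuleCat.{u} A) (i : ℕ), n < i → IsZero (((Tor (ModuleCat.{u} A) i).obj N).obj M)) ↔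
    (∀ (x : Ideal A) [x.IsPrime] (i : ℕ), n < i →
      IsZero (((Tor (ModuleCat.{u} A) i).obj (ModuleCat.of A x.ResidueField)).obj M)) := by
  let P := CategoryTheory.projectiveResolution M
  haveI : ∀ i, Module.Flat A (P.complex.X i) := fun i =>
    have : Module.Projective A (P.complex.X i) := (IsProjective.iff_projective _).2 (P.projective i)
    Module.Flat.of_projective
  constructor
  · intro h x _ i hi
    exact h _ i hi
  · intro h N i hi
    obtain ⟨j, rfl⟩ := Nat.exists_eq_succ_of_ne_zero (Nat.ne_zero_of_lt hi)
    rw [Groth.Agent.S8596.isZero_tor_iff P]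
    refine Groth.Agent.TorDetect.good_all (fun i => P.complex.X i) (fun i => (P.complex.d (i + 1) i).hom)
      (fun i x => ?_) (n := n) (fun x _ i hi' => ?_) N j (by omega)
    · exact congrArg (fun f => f.hom x) (P.complex.d_comp_d (i + 1 + 1) (i + 1) i)
    · exact (Groth.Agent.S8596.isZero_tor_iff P (ModuleCat.of A x.ResidueField) i).1 (h x (i + 1) (by omega))

end Groth.Agent.S8596
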