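import Groth.Statements.S8597
import Mathlib
import Groth.Agent.TorDetect.Basic
-- import your own Groth.Agent.* helpers here

set_option autoImplicit false
universe u
open CategoryTheory CategoryTheory.Limits
open CAlg

namespace Groth.Agent.S8597

open CategoryTheory Limits MonoidalCategory TensorProduct

variable {A : Type u} [CommRing A]

/-- Surjectivity part of `IsIso (homologyMap)`, elementwise. -/
lemma exists_of_epi {P Q : ChainComplex (ModuleCat.{u} A) ℕ} (φ : P ⟶ Q) (a b c : ℕ)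
    (ha : (ComplexShape.down ℕ).prev b = a) (hc : (ComplexShape.down ℕ).next b = c)
    [Epi (HomologicalComplex.homologyMap φ b)] (z : Q.X b) (hz : (Q.d b c).hom z = 0) :
    ∃ x : P.X b, (P.d b c).hom x = 0 ∧ ∃ y : Q.X a, z = (φ.f b).hom x + (Q.d a b).hom y := by
  obtain ⟨A', π, hπ, x₂, hx₂, y₁, h⟩ :=
    (HomologicalComplex.epi_homologyMap_iff_up_to_refinements (φ := φ) a b c ha hc).1 inferInstance
      (ModuleCat.ofHom (LinearMap.toSpanSingleton A (Q.X b) z)) (by
        ext; simpa using hz)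
  obtain ⟨t, ht⟩ := (ModuleCat.epi_iff_surjective π).1 hπ (1 : A)
  refine ⟨x₂.hom t, congrArg (fun f => f.hom t) hx₂, y₁.hom t, ?_⟩
  have := congrArg (fun f => f.hom t) h
  simp only [ModuleCat.hom_comp, ModuleCat.hom_add, ModuleCat.hom_ofHom, LinearMap.comp_apply, LinearMap.add_apply,
    LinearMap.toSpanSingleton_apply] at this
  rw [ht, one_smul] at this
  exact this

/-- Injectivity part of `IsIso (homologyMap)`, elementwise. -/
lemma exists_of_mono {P Q : ChainComplex (ModuleCat.{u} A) ℕ} (φ : P ⟶ Q) (a b c : ℕ)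
    (ha : (ComplexShape.down ℕ).prev b = a) (hc : (ComplexShape.down ℕ).next b = c)
    [Mono (HomologicalComplex.homologyMap φ b)] (x : P.X b) (hx : (P.d b c).hom x = 0) (y : Q.X a)
    (hxy : (φ.f b).hom x = (Q.d a b).hom y) :
    ∃ x' : P.X a, (P.d a b).hom x' = x := by
  obtain ⟨A', π, hπ, x₁, h⟩ :=
    (HomologicalComplex.mono_homologyMap_iff_up_to_refinements (φ := φ) a b c ha hc).1 inferInstance
      (ModuleCat.ofHom (LinearMap.toSpanSingleton A (P.X b) x)) (by ext; simpa using hx)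
      (ModuleCat.ofHom (LinearMap.toSpanSingleton A (Q.X a) y)) (by ext; simpa using hxy)
  obtain ⟨t, ht⟩ := (ModuleCat.epi_iff_surjective π).1 hπ (1 : A)
  refine ⟨x₁.hom t, ?_⟩
  have := congrArg (fun f => f.hom t) h
  simp only [ModuleCat.hom_comp, ModuleCat.hom_ofHom, LinearMap.comp_apply,
    LinearMap.toSpanSingleton_apply] at this
  rw [ht, one_smul] at this
  exact this.symm

variable {P Q : ChainComplex (ModuleCat.{u} A) ℕ} (φ : P ⟶ Q)

/-- The augmented cone, shifted by one. -/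
def C (P Q : ChainComplex (ModuleCat.{u} A) ℕ) : ℕ → ModuleCat.{u} A
  | 0 => ModuleCat.of A PUnit.{u + 1}
  | 1 => Q.X 0
  | i + 2 => ModuleCat.of A (Q.X (i + 1) × P.X i)

/-- Differential of the cone. -/
def dC : ∀ i, C P Q (i + 1) →ₗ[A] C P Q i
  | 0 => 0
  | 1 => (Q.d 1 0).hom ∘ₗ LinearMap.fst A _ _ + (φ.f 0).hom ∘ₗ LinearMap.snd A _ _
  | i + 2 => LinearMap.prod
      ((Q.d (i + 2) (i + 1)).hom ∘ₗ LinearMap.fst A _ _ + (φ.f (i + 1)).hom ∘ₗ LinearMap.snd A _ _)
      (-((P.d (i + 1) i).hom ∘ₗ LinearMap.snd A _ _))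

lemma dC_comp : ∀ i x, dC φ i (dC φ (i + 1) x) = 0
  | 0, _ => rfl
  | 1, ⟨q, p⟩ => by
    have h1 : ∀ q, (Q.d 1 0).hom ((Q.d 2 1).hom q) = 0 := fun q =>
      congrArg (fun f => f.hom q) (Q.d_comp_d 2 1 0)
    have h2 : (Q.d 1 0).hom ((φ.f 1).hom p) = (φ.f 0).hom ((P.d 1 0).hom p) :=
      congrArg (fun f => f.hom p) (φ.comm 1 0)
    change (Q.d 1 0).hom ((Q.d 2 1).hom q + (φ.f 1).hom p) + (φ.f 0).hom (-(P.d 1 0).hom p) = 0
    rw [map_add, h1, h2, map_neg]; abel
  | i + 2, ⟨q, p⟩ => by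
    have h1 : ∀ q, (Q.d (i + 2) (i + 1)).hom ((Q.d (i + 3) (i + 2)).hom q) = 0 := fun q =>
      congrArg (fun f => f.hom q) (Q.d_comp_d (i + 3) (i + 2) (i + 1))
    have h2 : (Q.d (i + 2) (i + 1)).hom ((φ.f (i + 2)).hom p) =
        (φ.f (i + 1)).hom ((P.d (i + 2) (i + 1)).hom p) :=
      congrArg (fun f => f.hom p) (φ.comm (i + 2) (i + 1))
    have h3 : ∀ p, (P.d (i + 1) i).hom ((P.d (i + 2) (i + 1)).hom p) = 0 := fun p =>
      congrArg (fun f => f.hom p) (P.d_comp_d (i + 2) (i + 1) i)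
    refine Prod.ext ?_ ?_
    · change (Q.d (i + 2) (i + 1)).hom ((Q.d (i + 3) (i + 2)).hom q + (φ.f (i + 2)).hom p) +
          (φ.f (i + 1)).hom (-(P.d (i + 2) (i + 1)).hom p) = 0
      rw [map_add, h1, h2, map_neg]; abel
    · change -(P.d (i + 1) i).hom (-(P.d (i + 2) (i + 1)).hom p) = 0
      rw [map_neg, h3, neg_zero, neg_zero]

lemma flat_prod (Y Z : Type u) [AddCommGroup Y] [Module A Y] [AddCommGroup Z] [Module A Z]
    [Module.Flat A Y] [Module.Flat A Z] : Module.Flat A (Y × Z) := by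
  rw [Module.Flat.iff_lTensor_preserves_injective_linearMap]
  intro N N' _ _ _ _ f hf
  rw [injective_iff_map_eq_zero]
  intro z hz
  have key : ∀ v : (Y × Z) ⊗[A] N, v = (LinearMap.inl A Y Z).rTensor N ((LinearMap.fst A Y Z).rTensor N v) +
      (LinearMap.inr A Y Z).rTensor N ((LinearMap.snd A Y Z).rTensor N v) := fun v => by
    induction v using TensorProduct.induction_on with
    | zero => simp
    | tmul a b => simp [← TensorProduct.add_tmul]
    | add a b ha hb => rw [map_add, map_add, map_add, map_add, add_add_add_comm, ← ha, ← hb]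
  have e1 : ∀ {W : Type u} [AddCommGroup W] [Module A W] (g : (Y × Z) →ₗ[A] W) (v : (Y × Z) ⊗[A] N),
      f.lTensor W (g.rTensor N v) = g.rTensor N' (f.lTensor (Y × Z) v) := fun g v => by
    induction v using TensorProduct.induction_on with
    | zero => simp
    | tmul a b => simp
    | add a b ha hb => simp [ha, hb]
  rw [key z,
    show (LinearMap.fst A Y Z).rTensor N z = 0 from Module.Flat.lTensor_preserves_injective_linearMap f hf
      (by rw [e1, hz, map_zero, map_zero]),
    show (LinearMap.snd A Y Z).rTensor N z = 0 from Module.Flat.lTensor_preserves_injective_linearMap f hf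
      (by rw [e1, hz, map_zero, map_zero]), map_zero, map_zero, add_zero]

lemma flat_C [∀ i, Module.Flat A (P.X i)] [∀ i, Module.Flat A (Q.X i)] :
    ∀ i, Module.Flat A (C P Q i)
  | 0 => inferInstanceAs (Module.Flat A PUnit.{u + 1})
  | 1 => inferInstanceAs (Module.Flat A (Q.X 0))
  | i + 2 => flat_prod (Q.X (i + 1)) (P.X i)

lemma eq_of_fst_snd {X Y Z : Type u} [AddCommGroup X] [Module A X] [AddCommGroup Y] [Module A Y]
    [AddCommGroup Z] [Module A Z] {z z' : X ⊗[A] (Y × Z)}
    (h1 : (LinearMap.fst A Y Z).lTensor X z = (LinearMap.fst A Y Z).lTensor X z')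
    (h2 : (LinearMap.snd A Y Z).lTensor X z = (LinearMap.snd A Y Z).lTensor X z') : z = z' := by
  have h : ∀ v, v = (LinearMap.inl A Y Z).lTensor X ((LinearMap.fst A Y Z).lTensor X v) +
      (LinearMap.inr A Y Z).lTensor X ((LinearMap.snd A Y Z).lTensor X v) := fun v => by
    rw [← LinearMap.lTensor_comp_apply, ← LinearMap.lTensor_comp_apply, ← LinearMap.add_apply,
      ← LinearMap.lTensor_add,
      show LinearMap.inl A Y Z ∘ₗ LinearMap.fst A Y Z + LinearMap.inr A Y Z ∘ₗ LinearMap.snd A Y Z =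
        LinearMap.id by ext <;> simp,
      LinearMap.lTensor_id, LinearMap.id_apply]
  rw [h z, h z', h1, h2]

section
variable {X Y Z : Type u} [AddCommGroup X] [Module A X] [AddCommGroup Y] [Module A Y]
  [AddCommGroup Z] [Module A Z]

lemma fst_inl (y : X ⊗[A] Y) :
    (LinearMap.fst A Y Z).lTensor X ((LinearMap.inl A Y Z).lTensor X y) = y := by
  rw [← LinearMap.lTensor_comp_apply, LinearMap.fst_comp_inl, LinearMap.lTensor_id, LinearMap.id_apply]

lemma fst_inr (y : X ⊗[A] Z) :
    (LinearMap.fst A Y Z).lTensor X ((LinearMap.inr A Y Z).lTensor X y) = 0 := by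
  rw [← LinearMap.lTensor_comp_apply, LinearMap.fst_comp_inr, LinearMap.lTensor_zero, LinearMap.zero_apply]

lemma snd_inl (y : X ⊗[A] Y) :
    (LinearMap.snd A Y Z).lTensor X ((LinearMap.inl A Y Z).lTensor X y) = 0 := by
  rw [← LinearMap.lTensor_comp_apply, LinearMap.snd_comp_inl, LinearMap.lTensor_zero, LinearMap.zero_apply]

lemma snd_inr (y : X ⊗[A] Z) :
    (LinearMap.snd A Y Z).lTensor X ((LinearMap.inr A Y Z).lTensor X y) = y := by
  rw [← LinearMap.lTensor_comp_apply, LinearMap.snd_comp_inr, LinearMap.lTensor_id, LinearMap.id_apply]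

end

section cone

variable (X : ModuleCat.{u} A)

/-- `X ⊗ φ`. -/
noncomputable abbrev tmap : (((tensoringLeft (ModuleCat.{u} A)).obj X).mapHomologicalComplex _).obj P ⟶
    (((tensoringLeft (ModuleCat.{u} A)).obj X).mapHomologicalComplex _).obj Q :=
  (((tensoringLeft (ModuleCat.{u} A)).obj X).mapHomologicalComplex _).map φ

/-- First component of the cone differential in degree `j + 1`. -/
noncomputable abbrev d1C (j : ℕ) : (Q.X (j + 1) × P.X j) →ₗ[A] Q.X j :=
  (Q.d (j + 1) j).hom ∘ₗ LinearMap.fst A (Q.X (j + 1)) (P.X j) +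
    (φ.f j).hom ∘ₗ LinearMap.snd A (Q.X (j + 1)) (P.X j)

/-- Second component of the cone differential in degree `j + 2`. -/
noncomputable abbrev d2C (j : ℕ) : (Q.X (j + 2) × P.X (j + 1)) →ₗ[A] P.X j :=
  -((P.d (j + 1) j).hom ∘ₗ LinearMap.snd A (Q.X (j + 2)) (P.X (j + 1)))

lemma d1C_apply (j : ℕ) (q : X ⊗[A] Q.X (j + 1)) (p : X ⊗[A] P.X j) :
    (d1C φ j).lTensor X ((LinearMap.inl A _ _).lTensor X q + (LinearMap.inr A _ _).lTensor X p) =
      (Q.d (j + 1) j).hom.lTensor X q + (φ.f j).hom.lTensor X p := by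
  rw [LinearMap.lTensor_add, LinearMap.add_apply, LinearMap.lTensor_comp_apply, LinearMap.lTensor_comp_apply]
  simp only [map_add, fst_inr, fst_inl, snd_inr, snd_inl, add_zero, map_zero, zero_add]

lemma d2C_apply (j : ℕ) (q : X ⊗[A] Q.X (j + 2)) (p : X ⊗[A] P.X (j + 1)) :
    (d2C (Q := Q) j).lTensor X ((LinearMap.inl A _ _).lTensor X q + (LinearMap.inr A _ _).lTensor X p) =
      -(P.d (j + 1) j).hom.lTensor X p := by
  rw [LinearMap.lTensor_neg, LinearMap.neg_apply, LinearMap.lTensor_comp_apply, map_add, snd_inr,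
    snd_inl, zero_add]

lemma exists_deg_zero [∀ i, IsIso (HomologicalComplex.homologyMap (tmap φ X) i)] (z : X ⊗[A] Q.X 0) :
    ∃ w : X ⊗[A] (Q.X 1 × P.X 0), (d1C φ 0).lTensor X w = z := by
  obtain ⟨x, _, y, hy⟩ := exists_of_epi (tmap φ X) 1 0 0 (by simp) (by simp) z (by
    change ((Q.d 0 0).hom.lTensor X) z = 0
    simp [Q.shape 0 0 (by simp)])
  refine ⟨(LinearMap.inl A _ _).lTensor X y + (LinearMap.inr A _ _).lTensor X x, ?_⟩
  rw [d1C_apply]
  exact (add_comm _ _).trans hy.symm

lemma exists_deg_succ [∀ i, IsIso (HomologicalComplex.homologyMap (tmap φ X) i)] (j : ℕ)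
    (z : X ⊗[A] (Q.X (j + 1) × P.X j)) (h1 : (d1C φ j).lTensor X z = 0)
    (h2 : ∀ k, j = k + 1 → (P.d j k).hom.lTensor X ((LinearMap.snd A _ _).lTensor X z) = 0) :
    ∃ w : X ⊗[A] (Q.X (j + 2) × P.X (j + 1)),
      (d1C φ (j + 1)).lTensor X w = (LinearMap.fst A _ _).lTensor X z ∧
      (d2C (Q := Q) j).lTensor X w = (LinearMap.snd A _ _).lTensor X z := by
  rw [LinearMap.lTensor_add, LinearMap.add_apply, LinearMap.lTensor_comp_apply, LinearMap.lTensor_comp_apply] at h1
  generalize (LinearMap.fst A (Q.X (j + 1)) (P.X j)).lTensor X z = q at h1 ⊢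
  generalize (LinearMap.snd A (Q.X (j + 1)) (P.X j)).lTensor X z = p at h1 h2 ⊢
  have hp : ((P.d j ((ComplexShape.down ℕ).next j)).hom.lTensor X) p = 0 := by
    cases j with
    | zero => simp [P.shape 0 _ (by simp)]
    | succ k =>
      have : (ComplexShape.down ℕ).next (k + 1) = k := by simp
      rw [this]; exact h2 k rfl
  obtain ⟨x₀, hx₀⟩ := exists_of_mono (tmap φ X) (j + 1) j _ (by simp) rfl p hp (-q) (by
    change (φ.f j).hom.lTensor X p = (Q.d (j + 1) j).hom.lTensor X (-q)
    rw [map_neg, eq_neg_iff_add_eq_zero, add_comm]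
    exact h1)
  obtain ⟨x', hx''⟩ : ∃ x' : X ⊗[A] P.X (j + 1), (P.d (j + 1) j).hom.lTensor X x' = p := ⟨x₀, hx₀⟩
  have hcomm : (Q.d (j + 1) j).hom.lTensor X ((φ.f (j + 1)).hom.lTensor X x') = (φ.f j).hom.lTensor X p := by
    rw [← hx'', ← LinearMap.lTensor_comp_apply, ← ModuleCat.hom_comp, φ.comm, ModuleCat.hom_comp,
      LinearMap.lTensor_comp_apply]
  obtain ⟨x₃, hx₃, y₃, hy₃⟩ := exists_of_epi (tmap φ X) (j + 1 + 1) (j + 1) j (by simp) (by simp)
    (q + (φ.f (j + 1)).hom.lTensor X x') (by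
      change (Q.d (j + 1) j).hom.lTensor X (q + (φ.f (j + 1)).hom.lTensor X x') = 0
      rw [map_add, hcomm]
      exact h1)
  obtain ⟨x₂, y₂, hy', hx₂'⟩ : ∃ (x₂ : X ⊗[A] P.X (j + 1)) (y₂ : X ⊗[A] Q.X (j + 2)),
      q + (φ.f (j + 1)).hom.lTensor X x' =
        (φ.f (j + 1)).hom.lTensor X x₂ + (Q.d (j + 2) (j + 1)).hom.lTensor X y₂ ∧
      (P.d (j + 1) j).hom.lTensor X x₂ = 0 := ⟨x₃, y₃, hy₃, hx₃⟩
  refine ⟨(LinearMap.inl A _ _).lTensor X y₂ + (LinearMap.inr A _ _).lTensor X (x₂ - x'), ?_, ?_⟩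
  · rw [d1C_apply, map_sub, eq_sub_of_add_eq hy']
    abel
  · rw [d2C_apply, map_sub, hx'', hx₂']
    abel

/-- If `X ⊗ φ` is a quasi-isomorphism, `X ⊗` cone is exact. -/
lemma good_cone (h : ∀ i, IsIso (HomologicalComplex.homologyMap (tmap φ X) i)) :
    TorDetect.Good (fun i => C P Q i) (dC φ) 0 X := by
  intro i _
  have := h
  cases i with
  | zero =>
    intro z _
    exact exists_deg_zero φ X z
  | succ j =>
    intro z hz
    cases j with
    | zero =>
      obtain ⟨w, hw1, hw2⟩ := exists_deg_succ φ X 0 z hz (fun k hk => absurd hk (by omega))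
      refine ⟨w, ?_⟩
      change (LinearMap.prod (d1C φ 1) (d2C (Q := Q) 0)).lTensor X w = z
      refine eq_of_fst_snd ?_ ?_
      · rw [← LinearMap.lTensor_comp_apply, LinearMap.fst_prod]; exact hw1
      · rw [← LinearMap.lTensor_comp_apply, LinearMap.snd_prod]; exact hw2
    | succ k =>
      have hz' : (LinearMap.prod (d1C φ (k + 1)) (d2C (Q := Q) k)).lTensor X z = 0 := hz
      have e1 := congrArg ((LinearMap.fst A _ _).lTensor X) hz'
      rw [← LinearMap.lTensor_comp_apply, LinearMap.fst_prod, map_zero] at e1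
      have e2 := congrArg ((LinearMap.snd A _ _).lTensor X) hz'
      rw [← LinearMap.lTensor_comp_apply, LinearMap.snd_prod, map_zero, LinearMap.lTensor_neg,
        LinearMap.neg_apply, neg_eq_zero, LinearMap.lTensor_comp_apply] at e2
      obtain ⟨w, hw1, hw2⟩ := exists_deg_succ φ X (k + 1) z e1 (fun l hl => by
        obtain rfl : l = k := by omega
        exact e2)
      refine ⟨w, ?_⟩
      change (LinearMap.prod (d1C φ (k + 2)) (d2C (Q := Q) (k + 1))).lTensor X w = z
      refine eq_of_fst_snd ?_ ?_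
      · rw [← LinearMap.lTensor_comp_apply, LinearMap.fst_prod]; exact hw1
      · rw [← LinearMap.lTensor_comp_apply, LinearMap.snd_prod]; exact hw2

end cone

end Groth.Agent.S8597

namespace Groth.Agent.S8597

/-- Case of modules placed in degree 0: let A be a commutative Noetherian ring and u : M -> N a
homomorphism of A-modules such that for every prime ideal x of A, with residue field k(x), and every
i ≥ 0, the induced map Tor_i^A(k(x), M) -> Tor_i^A(k(x), N) (left derived functors of k(x) ⊗ -) is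
an isomorphism. Then u is an isomorphism. (The published statement is for a morphism of
bounded-above complexes and the derived tensor products with k(x); this is the case of two modules.) -/
theorem result (A : Type u) [CommRing A] [IsNoetherianRing A]
    {M N : ModuleCat.{u} A} (u : M ⟶ N)
    (h : ∀ (x : Ideal A) [x.IsPrime] (i : ℕ),
      IsIso (((Tor (ModuleCat.{u} A) i).obj (ModuleCat.of A x.ResidueField)).map u)) :
    IsIso u := by
  let P := CategoryTheory.projectiveResolution M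
  let Q := CategoryTheory.projectiveResolution N
  let φ := CategoryTheory.ProjectiveResolution.lift u P Q
  haveI hP : ∀ i, Module.Flat A (P.complex.X i) := fun i =>
    have : Module.Projective A (P.complex.X i) := (IsProjective.iff_projective _).2 (P.projective i)
    Module.Flat.of_projective
  haveI hQ : ∀ i, Module.Flat A (Q.complex.X i) := fun i =>
    have : Module.Projective A (Q.complex.X i) := (IsProjective.iff_projective _).2 (Q.projective i)
    Module.Flat.of_projective
  have hcomm : φ.f 0 ≫ Q.π.f 0 = P.π.f 0 ≫ u :=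
    CategoryTheory.ProjectiveResolution.lift_commutes_zero u P Q
  haveI := Groth.Agent.S8597.flat_C (P := P.complex) (Q := Q.complex)
  have hgood := Groth.Agent.TorDetect.good_all (fun i => (Groth.Agent.S8597.C P.complex Q.complex i))
    (Groth.Agent.S8597.dC φ) (Groth.Agent.S8597.dC_comp φ) (n := 0) (fun x _ => by
      refine Groth.Agent.S8597.good_cone φ (ModuleCat.of A x.ResidueField) fun i => ?_
      let F := (CategoryTheory.MonoidalCategory.tensoringLeft (ModuleCat.{u} A)).obj (ModuleCat.of A x.ResidueField)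
      haveI : IsIso ((F.leftDerived i).map u) := h x i
      have e := CategoryTheory.ProjectiveResolution.isoLeftDerivedObj_hom_naturality u P Q φ hcomm F i
      have e2 : HomologicalComplex.homologyMap ((F.mapHomologicalComplex _).map φ) i =
          (P.isoLeftDerivedObj F i).inv ≫ (F.leftDerived i).map u ≫ (Q.isoLeftDerivedObj F i).hom := by
        rw [e, Iso.inv_hom_id_assoc]
        rfl
      rw [e2]
      exact IsIso.comp_isIso' inferInstance (IsIso.comp_isIso' (h x i) inferInstance)) A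
  have hlid : ∀ i (x : Groth.Agent.S8597.C P.complex Q.complex (i + 1)),
      Groth.Agent.S8597.dC φ i x = 0 → ∃ w, Groth.Agent.S8597.dC φ (i + 1) w = x := by
    intro i x hx
    obtain ⟨w, hw⟩ := hgood i (Nat.zero_le i) ((1 : A) ⊗ₜ[A] x) (by simp [hx])
    refine ⟨TensorProduct.lid A _ w, ?_⟩
    have : ∀ w, Groth.Agent.S8597.dC φ (i + 1) (TensorProduct.lid A _ w) =
        TensorProduct.lid A _ ((Groth.Agent.S8597.dC φ (i + 1)).lTensor A w) := fun w => by
      induction w using TensorProduct.induction_on with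
      | zero => simp
      | tmul a b => simp
      | add a b ha hb => simp [ha, hb]
    rw [this, hw]; simp
  have hexP := (CategoryTheory.ShortComplex.moduleCat_exact_iff _).1 P.exact₀
  have hexQ := (CategoryTheory.ShortComplex.moduleCat_exact_iff _).1 Q.exact₀
  have hπP : Function.Surjective (P.π.f 0).hom := (ModuleCat.epi_iff_surjective _).1 inferInstance
  have hπQ : Function.Surjective (Q.π.f 0).hom := (ModuleCat.epi_iff_surjective _).1 inferInstance
  have hc0 : ∀ p, (Q.π.f 0).hom ((φ.f 0).hom p) = u.hom ((P.π.f 0).hom p) := fun p =>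
    congrArg (fun f => f.hom p) hcomm
  have hdQ : ∀ q, (Q.π.f 0).hom ((Q.complex.d 1 0).hom q) = 0 := fun q =>
    congrArg (fun f => f.hom q) Q.complex_d_comp_π_f_zero
  have hdP : ∀ q, (P.π.f 0).hom ((P.complex.d 1 0).hom q) = 0 := fun q =>
    congrArg (fun f => f.hom q) P.complex_d_comp_π_f_zero
  rw [ConcreteCategory.isIso_iff_bijective]
  constructor
  · rw [injective_iff_map_eq_zero]
    intro m hm
    obtain ⟨p, rfl⟩ := hπP m
    obtain ⟨q', hq'⟩ := hexQ ((φ.f 0).hom p) ((hc0 p).trans hm)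
    obtain ⟨⟨q₂, p₁⟩, hw⟩ := hlid 1 (-q', p) (by
      change (Q.complex.d 1 0).hom (-q') + (φ.f 0).hom p = 0
      rw [map_neg, ← hq']
      exact neg_add_cancel _)
    have h2 : -(P.complex.d 1 0).hom p₁ = p := congrArg Prod.snd hw
    rw [← h2, map_neg, hdP, neg_zero]
    rfl
  · intro y
    obtain ⟨q, rfl⟩ := hπQ y
    obtain ⟨⟨q', p⟩, hw⟩ := hlid 0 q rfl
    refine ⟨(P.π.f 0).hom p, ?_⟩
    change (Q.complex.d 1 0).hom q' + (φ.f 0).hom p = q at hw
    rw [← hw, map_add, hdQ, zero_add]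
    exact (hc0 p).symm

end Groth.Agent.S8597
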