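import Groth.Statements.S8604
import Mathlib
import Groth.Agent.SigmaLin.Basic
-- import your own Groth.Agent.* helpers here

set_option autoImplicit false
universe u
open CAlg

namespace Groth.Agent.S8604

open Polynomial Groth.Agent.SigmaLin

theorem frob_iterate (p : ℕ) [Fact p.Prime] (k : Type u) [Field k] [CharP k p] (n : ℕ) (x : k) :
    (⇑(frobenius k p))^[n] x = x ^ p ^ n := by
  induction n with
  | zero => simp
  | succ n ih => rw [Function.iterate_succ_apply', ih, frobenius_def, ← pow_mul, ← pow_succ]

theorem hypSol_frob (p : ℕ) [Fact p.Prime] (k : Type u) [Field k] [IsAlgClosed k] [CharP k p] :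
    HypSol (frobenius k p) := by
  classical
  intro n b hb
  have h1 : 1 < p := (Fact.out : p.Prime).one_lt
  let c : Fin (n + 1) → k := fun i => b (Fin.rev i) ^ p ^ (i : ℕ)
  obtain ⟨i0, hi0⟩ : ∃ i, c i ≠ 0 := by
    by_contra h
    push Not at h
    exact hb (funext fun j => by
      have h' := h (Fin.rev j)
      simp only [c, Fin.rev_rev] at h'
      exact eq_zero_of_pow_eq_zero h')
  let q : k[X] := (∑ i, C (c i) * X ^ (p ^ ((i : ℕ) + 1) - 1)) - 1
  have hexp : ∀ i : Fin (n + 1), 0 < p ^ ((i : ℕ) + 1) - 1 := fun i => by
    have := Nat.one_lt_pow (by omega : (i : ℕ) + 1 ≠ 0) h1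
    omega
  have hcoeff : q.coeff (p ^ ((i0 : ℕ) + 1) - 1) = c i0 := by
    simp only [q, coeff_sub, finsetSum_coeff, coeff_C_mul, coeff_X_pow, coeff_one]
    rw [if_neg (hexp i0).ne', sub_zero, Finset.sum_eq_single i0]
    · simp
    · intro j _ hj
      rw [if_neg, mul_zero]
      intro h
      have h2 : p ^ ((i0 : ℕ) + 1) = p ^ ((j : ℕ) + 1) := by
        have := hexp j; have := hexp i0; omega
      exact hj (Fin.ext (by have := Nat.pow_right_injective h1 h2; omega))
    · simp
  have hdeg : q.degree ≠ 0 := fun h => hi0 (hcoeff ▸ coeff_eq_zero_of_degree_lt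
    (by rw [h]; exact_mod_cast hexp i0))
  obtain ⟨x, hx⟩ := IsAlgClosed.exists_root q hdeg
  have hxq : ∑ i, c i * x ^ (p ^ ((i : ℕ) + 1) - 1) = 1 := by
    simpa [q, eval_finsetSum, sub_eq_zero] using hx
  refine ⟨x, fun h0 => ?_, ?_⟩
  · subst h0
    rw [Finset.sum_eq_zero fun i _ => by rw [zero_pow (hexp i).ne', mul_zero]] at hxq
    exact zero_ne_one hxq
  · conv_lhs => rw [← one_mul x, ← hxq, Finset.sum_mul]
    refine Finset.sum_congr rfl fun i _ => ?_
    rw [frob_iterate, frob_iterate, mul_assoc, ← pow_succ,
      Nat.sub_add_cancel (Nat.one_le_pow _ _ (by omega)), mul_comm]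

theorem hypAS_frob (p : ℕ) [Fact p.Prime] (k : Type u) [Field k] [IsAlgClosed k] [CharP k p] :
    HypAS (frobenius k p) := by
  intro c
  have h1 : 1 < p := (Fact.out : p.Prime).one_lt
  have hdeg : (X ^ p - X + C c : k[X]).degree ≠ 0 := by
    intro h
    have h' := coeff_eq_zero_of_degree_lt (p := (X ^ p - X + C c : k[X])) (n := p)
      (by rw [h]; exact_mod_cast (by omega : 0 < p))
    have hp0 : ¬ p = 0 := by omega
    have hp1 : ¬ 1 = p := by omega
    simp [coeff_X, coeff_C, hp0, hp1] at h'
  obtain ⟨z, hz⟩ := IsAlgClosed.exists_root _ hdeg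
  exact ⟨z, by simpa [frobenius_def] using hz⟩

theorem aux (p : ℕ) [Fact p.Prime] (k : Type u) [Field k]
    [IsAlgClosed k] [CharP k p] (V : Type u) [AddCommGroup V] [Module k V] [FiniteDimensional k V]
    (F : V →+ V) (hF : ∀ (a : k) (v : V), F (a • v) = a ^ p • F v) :
    IsCompl (Submodule.span k {v : V | F v = v})
        (Submodule.span k {v : V | ∃ m : ℕ, (⇑F)^[m] v = 0}) ∧
      ∀ (s : Finset V), (∀ v ∈ s, F v = v) →
        (∀ c : s → ℤ, (∑ v : s, c v • (v : V)) = 0 → ∀ v : s, (p : ℤ) ∣ c v) →
          LinearIndependent k (fun v : s => (v : V)) := by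
  classical
  let T : V →ₛₗ[frobenius k p] V :=
    { toFun := F
      map_add' := map_add F
      map_smul' := fun a v => by rw [hF, frobenius_def] }
  have hσ : Function.Surjective (frobenius k p) := fun y => by
    obtain ⟨z, hz⟩ := IsAlgClosed.exists_pow_nat_eq y (Fact.out : p.Prime).pos
    exact ⟨z, hz⟩
  constructor
  · obtain ⟨b, hb⟩ := (surjective_sub_and_fixed_basis T hσ (hypSol_frob p k) (hypAS_frob p k)).2
    have h1 : Submodule.span k {v : V | F v = v} = ssPart T := by
      refine le_antisymm (Submodule.span_le.2 fun v hv => ?_) fun v hv => ?_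
      · rw [SetLike.mem_coe, ssPart, Submodule.mem_iInf]
        intro n
        refine Submodule.subset_span ⟨v, ?_⟩
        exact Function.iterate_fixed (f := ⇑T) hv n
      · have h3 := congrArg Subtype.val (b.sum_repr ⟨v, hv⟩)
        simp only [Submodule.coe_sum, Submodule.coe_smul] at h3
        rw [← h3]
        exact Submodule.sum_mem _ fun i _ => Submodule.smul_mem _ _ (Submodule.subset_span (hb i))
    have h2 : Submodule.span k {v : V | ∃ m : ℕ, (⇑F)^[m] v = 0} = nilPart T :=
      Submodule.span_eq (nilPart T)
    rw [h1, h2]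
    exact (isCompl_nilPart T hσ).1.symm
  · intro s
    induction s using Finset.induction_on with
    | empty => intro _ _; exact linearIndependent_empty_type
    | @insert a t hat ih =>
      intro hfix hindep
      have hfixt : ∀ v ∈ t, F v = v := fun v hv => hfix v (Finset.mem_insert_of_mem hv)
      have hindept : ∀ c : t → ℤ, (∑ v : t, c v • (v : V)) = 0 → ∀ v : t, (p : ℤ) ∣ c v := by
        intro c hc v
        let c' : ↥(insert a t : Finset V) → ℤ :=
          fun w => if hw : (w : V) ∈ t then c ⟨w, hw⟩ else 0
        let g : V → V := fun w => (if hw : w ∈ t then c ⟨w, hw⟩ else 0) • w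
        have h := hindep c' (by
          change ∑ v : (insert a t : Finset V), g v = 0
          rw [Finset.sum_coe_sort (insert a t) g, Finset.sum_insert hat, ← Finset.sum_coe_sort t g]
          simp only [g, hat, dite_false, zero_smul, zero_add]
          rw [← hc]
          exact Finset.sum_congr rfl fun w _ => by rw [dif_pos w.2]) ⟨v, Finset.mem_insert_of_mem v.2⟩
        simpa [c', v.2] using h
      have hli : LinearIndepOn k (id : V → V) (t : Set V) := ih hfixt hindept
      change LinearIndepOn k (id : V → V) ((insert a t : Finset V) : Set V)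
      rw [Finset.coe_insert, linearIndepOn_id_insert (by simpa using hat)]
      refine ⟨hli, fun ha => ?_⟩
      obtain ⟨c, -, hc⟩ := Submodule.mem_span_finset.1 ha
      have h2 : ∑ w ∈ t, (c w ^ p - c w) • w = 0 := by
        have h3 := congrArg F hc
        rw [map_sum, hfix a (Finset.mem_insert_self a t)] at h3
        simp only [sub_smul, Finset.sum_sub_distrib]
        rw [sub_eq_zero, hc]
        refine (Finset.sum_congr rfl fun w hw => ?_).trans h3
        rw [hF, hfixt w hw]
      have h4 : ∀ w ∈ t, c w ^ p - c w = 0 := linearIndepOn_finset_iff.1 hli _ h2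
      have hm : ∀ w ∈ t, ∃ m : ℤ, (m : k) = c w := by
        intro w hw
        exact (mem_bot_iff_intCast p k).1
          ((Subfield.mem_bot_iff_pow_eq_self k p).2 (sub_eq_zero.1 (h4 w hw)))
      choose! m hm' using hm
      let c' : ↥(insert a t : Finset V) → ℤ := fun w => if (w : V) = a then -1 else m w
      let g : V → V := fun w => (if w = a then (-1 : ℤ) else m w) • w
      have h5 := hindep c' (by
        change ∑ v : (insert a t : Finset V), g v = 0
        rw [Finset.sum_coe_sort (insert a t) g, Finset.sum_insert hat]
        simp only [g, if_true, neg_smul, one_smul]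
        rw [neg_add_eq_zero]
        refine hc.symm.trans (Finset.sum_congr rfl fun w hw => ?_)
        rw [if_neg (fun h : w = a => hat (h ▸ hw)), ← Int.cast_smul_eq_zsmul k, hm' w hw])
        ⟨a, Finset.mem_insert_self a t⟩
      simp only [c', if_true] at h5
      have h6 := Int.le_of_dvd one_pos ((dvd_neg).1 h5)
      have := (Fact.out : p.Prime).two_le
      omega

end Groth.Agent.S8604

namespace Groth.Agent.S8604

/-- Over an algebraically closed field: let k be an algebraically closed field of characteristic p > 0,
V a finite-dimensional k-vector space and F : V -> V a p-linear endomorphism (additive with F(a·v) =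
a^p·F(v)). Let V^F be the set of vectors fixed by F (an F_p-subspace), V_0 the k-span of V^F and V_n
the k-span of the vectors killed by some iterate of F (these already form an F-stable subspace on
which F is nilpotent). Then V = V_0 ⊕ V_n, and V^F ⊗ k -> V_0 is bijective in the sense that any
finitely many F-fixed vectors linearly independent over Z/p (every vanishing integer combination has
all coefficients divisible by p) are linearly independent over k. (The published statement asserts
this decomposition, with V^F ⊗ k ≅ V_0, for every PERFECT field k; that is false when k is not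
separably closed — for k = Z/3, V = k and F = multiplication by 2 there are no nonzero fixed vectors
although F is bijective — and the decomposition is stated here over an algebraically closed field,
the case in which it holds.) -/
theorem result (p : ℕ) [Fact p.Prime] (k : Type u) [Field k]
    [IsAlgClosed k] [CharP k p] (V : Type u) [AddCommGroup V] [Module k V] [FiniteDimensional k V]
    (F : V →+ V) (hF : ∀ (a : k) (v : V), F (a • v) = a ^ p • F v) :
    IsCompl (Submodule.span k {v : V | F v = v})
        (Submodule.span k {v : V | ∃ m : ℕ, (⇑F)^[m] v = 0}) ∧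
      ∀ (s : Finset V), (∀ v ∈ s, F v = v) →
        (∀ c : s → ℤ, (∑ v : s, c v • (v : V)) = 0 → ∀ v : s, (p : ℤ) ∣ c v) →
          LinearIndependent k (fun v : s => (v : V)) := by
  exact aux p k V F hF

end Groth.Agent.S8604
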