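import Groth.Statements.S8607
import Mathlib.AlgebraicGeometry.Morphisms.Proper

set_option autoImplicit false
universe u
open CategoryTheory CategoryTheory.Limits AlgebraicGeometry Opposite
open DEt

namespace Groth.Agent.S8607

/-- The equalizing half of 'the category of compactifications of f is cofiltering': let f : X -> Y be a
morphism of quasi-compact quasi-separated schemes, (Xbar_1, j_1, fbar_1) and (Xbar_2, j_2, fbar_2)
two compactifications of f, and r, s : Xbar_1 -> Xbar_2 two morphisms of compactifications (r ∘ j_1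
= j_2 = s ∘ j_1 and fbar_2 ∘ r = fbar_1 = fbar_2 ∘ s). Then there are a compactification (Xbar, j,
fbar) of f and a proper morphism t : Xbar -> Xbar_1 of compactifications (t ∘ j = j_1, fbar_1 ∘ t =
fbar) with r ∘ t = s ∘ t. -/
theorem result {X Y : Scheme.{u}} [CompactSpace ↥X] [QuasiSeparatedSpace ↥X]
    [CompactSpace ↥Y] [QuasiSeparatedSpace ↥Y] {f : X ⟶ Y} (c₁ c₂ : DEt.Compactification f)
    (r s : c₁.Xbar ⟶ c₂.Xbar) (hr : c₁.j ≫ r = c₂.j) (hs : c₁.j ≫ s = c₂.j)
    (hr' : r ≫ c₂.fbar = c₁.fbar) (hs' : s ≫ c₂.fbar = c₁.fbar) :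
    ∃ (c : DEt.Compactification f) (t : c.Xbar ⟶ c₁.Xbar), IsProper t ∧ c.j ≫ t = c₁.j ∧ t ≫ c₁.fbar = c.fbar ∧
      t ≫ r = t ≫ s := by
    obtain ⟨g, hg1, hg2⟩ : ∃ g : c₁.Xbar ⟶ pullback c₂.fbar c₂.fbar, g ≫ pullback.fst _ _ = r ∧ g ≫ pullback.snd _ _ = s :=
    ⟨pullback.lift r s (hr'.trans hs'.symm), pullback.lift_fst _ _ _, pullback.lift_snd _ _ _⟩
    let h : X ⟶ pullback (pullback.diagonal c₂.fbar) g := pullback.lift c₂.j c₁.j (by apply pullback.hom_ext <;> simp [hg1, hg2, hr, hs])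
    let q := pullback.snd (pullback.diagonal c₂.fbar) g
    haveI : IsImmersion (h ≫ q) := by rw [pullback.lift_snd]; infer_instance
    haveI : IsImmersion h := IsImmersion.of_comp h q
    haveI : QuasiCompact (h ≫ q ≫ c₁.fbar) := by rw [pullback.lift_snd_assoc, c₁.fac]; infer_instance
    haveI : QuasiCompact h := QuasiCompact.of_comp h (q ≫ c₁.fbar)
    refine ⟨⟨h.image, h.toImage, (h.imageι ≫ q) ≫ c₁.fbar, inferInstance, inferInstance, ?_⟩,
      h.imageι ≫ q, inferInstance, ?_, rfl, ?_⟩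
    · rw [Category.assoc, Scheme.Hom.toImage_imageι_assoc, pullback.lift_snd_assoc, c₁.fac]
    · rw [Scheme.Hom.toImage_imageι_assoc, pullback.lift_snd]
    · have e1 := congrArg (· ≫ pullback.fst c₂.fbar c₂.fbar) (pullback.condition (f := pullback.diagonal c₂.fbar) (g := g))
      have e2 := congrArg (· ≫ pullback.snd c₂.fbar c₂.fbar) (pullback.condition (f := pullback.diagonal c₂.fbar) (g := g))
      simp only [Category.assoc, pullback.diagonal_fst, pullback.diagonal_snd, hg1, hg2,
        Category.comp_id] at e1 e2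
      exact (Category.assoc _ _ _).trans ((congrArg (h.imageι ≫ ·) (e1.symm.trans e2)).trans (Category.assoc _ _ _).symm)

end Groth.Agent.S8607
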