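import Groth.Statements.S8611
import Mathlib.Algebra.Homology.ShortComplex.Ab
import Mathlib.Algebra.Category.Grp.EpiMono

set_option autoImplicit false
universe w v u
open CategoryTheory CategoryTheory.Limits
open SGA4h

namespace Groth.Agent.S8611

variable {C : Type u} [Category.{v} C] [Abelian C] {T T' : DeltaF.CohDeltaFunctor C AddCommGrpCat.{w} ℕ}

theorem isIso_iff_bij {X Y : AddCommGrpCat.{w}} (f : X ⟶ Y) : IsIso f ↔ Function.Bijective f :=
  ConcreteCategory.isIso_iff_bijective f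

theorem nat (φ : T ⟶ T') (q : ℕ) {A B : C} (f : A ⟶ B) (x : (T.F q).obj A) :
    (φ.app q).app B ((T.F q).map f x) = (T'.F q).map f ((φ.app q).app A x) :=
  ConcreteCategory.congr_hom ((φ.app q).naturality f) x

/-- short exact sequence of a monomorphism -/
noncomputable abbrev seq {A M : C} (u : A ⟶ M) : ShortComplex C :=
  ShortComplex.mk u (cokernel.π u) (cokernel.condition u)

theorem seq_exact {A M : C} (u : A ⟶ M) [Mono u] : (seq u).ShortExact :=
  { exact := (seq u).exact_of_g_is_cokernel (cokernelIsCokernel u)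
    mono_f := inferInstanceAs (Mono u)
    epi_g := inferInstanceAs (Epi (cokernel.π u)) }

/-- a class killed by a monomorphism is a coboundary -/
theorem exists_delta (T : DeltaF.CohDeltaFunctor C AddCommGrpCat.{w} ℕ) {A M : C} (u : A ⟶ M) [Mono u]
    (q : ℕ) (a : (T.F (q + 1)).obj A) (h : (T.F (q + 1)).map u a = 0) :
    ∃ x : (T.F q).obj (cokernel u), T.δ (seq u) (seq_exact u) q (q + 1) rfl x = a :=
  (ShortComplex.ab_exact_iff _).1 (T.exact₁ (seq u) (seq_exact u) q (q + 1) rfl) a h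

theorem injective_succ (φ : T ⟶ T') (hT : ∀ (q : ℕ) (A : C) (α : (T.F (q + 1)).obj A),
      ∃ (M : C) (u : A ⟶ M), Mono u ∧ (T.F (q + 1)).map u α = 0) (q : ℕ)
    (hq : ∀ A, Function.Bijective ((φ.app q).app A)) (A : C) :
    Function.Injective ((φ.app (q + 1)).app A) := by
  rw [injective_iff_map_eq_zero]
  intro a ha
  obtain ⟨M, u, _, hu⟩ := hT q A a
  obtain ⟨x, rfl⟩ := exists_delta T u q a hu
  have h1 : T'.δ (seq u) (seq_exact u) q (q + 1) rfl ((φ.app q).app _ x) = 0 :=
    (ConcreteCategory.congr_hom (φ.comm (seq u) (seq_exact u) q (q + 1) rfl) x).symm.trans ha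
  obtain ⟨y', hy'⟩ := (ShortComplex.ab_exact_iff _).1 (T'.exact₃ (seq u) (seq_exact u) q (q + 1) rfl) _ h1
  obtain ⟨y, rfl⟩ := (hq M).2 y'
  have hx : (T.F q).map (seq u).g y = x := (hq _).1 ((nat φ q (seq u).g y).trans hy')
  rw [← hx]
  exact ConcreteCategory.congr_hom (T.comp_δ (seq u) (seq_exact u) q (q + 1) rfl) y

theorem surjective_succ (φ : T ⟶ T') (q : ℕ) (hq : ∀ A, Function.Bijective ((φ.app q).app A)) {A : C}
    (a : (T'.F (q + 1)).obj A) {M : C} (u : A ⟶ M) [Mono u] (hu : (T'.F (q + 1)).map u a = 0) :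
    ∃ b, (φ.app (q + 1)).app A b = a := by
  obtain ⟨x', rfl⟩ := exists_delta T' u q a hu
  obtain ⟨x, rfl⟩ := (hq _).2 x'
  exact ⟨T.δ (seq u) (seq_exact u) q (q + 1) rfl x,
    ConcreteCategory.congr_hom (φ.comm (seq u) (seq_exact u) q (q + 1) rfl) x⟩

/-- Let C be an abelian category, T and T' cohomological delta-functors on C in degrees ≥ 0 with values
in abelian groups, both left exact in degree 0, with T effaceable in every degree q > 0 (every
element of T^q(A) is killed by T^q(u) for some monomorphism u : A → M, depending on the element),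
and φ : T → T' a morphism of delta-functors. Let E be a class of objects such that every object
admits a monomorphism into a member of E. Then the following are equivalent: (i) φ^q(A) is bijective
for all q and all A; (ii) φ^0(M) is bijective and φ^q(M) is surjective for q > 0, for all M in E;
(iii) φ^0(A) is bijective for all A and T' is effaceable in every degree > 0 (in the same
element-wise sense). Stated as (i) ⇔ (ii) together with (i) ⇔ (iii). -/
theorem result {C : Type u} [Category.{v} C] [Abelian C]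
    (T T' : DeltaF.CohDeltaFunctor C AddCommGrpCat.{w} ℕ) (hT0 : T.ZeroMono) (hT'0 : T'.ZeroMono)
    (hT : ∀ (q : ℕ) (A : C) (α : (T.F (q + 1)).obj A),
      ∃ (M : C) (u : A ⟶ M), Mono u ∧ (T.F (q + 1)).map u α = 0)
    (φ : T ⟶ T') (E : ObjectProperty C)
    (hE : ∀ A : C, ∃ (M : C) (i : A ⟶ M), Mono i ∧ E M) :
    ((∀ (q : ℕ) (A : C), IsIso ((φ.app q).app A)) ↔
      ((∀ M : C, E M → IsIso ((φ.app 0).app M)) ∧
        ∀ (q : ℕ) (M : C), E M → Epi ((φ.app (q + 1)).app M))) ∧
    ((∀ (q : ℕ) (A : C), IsIso ((φ.app q).app A)) ↔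
      ((∀ A : C, IsIso ((φ.app 0).app A)) ∧
        ∀ (q : ℕ) (A : C) (α : (T'.F (q + 1)).obj A),
          ∃ (M : C) (u : A ⟶ M), Mono u ∧ (T'.F (q + 1)).map u α = 0)) := by
  have fwd : (∀ (q : ℕ) (A : C), IsIso ((φ.app q).app A)) → ∀ (q : ℕ) (A : C) (α : (T'.F (q + 1)).obj A),
      ∃ (M : C) (u : A ⟶ M), Mono u ∧ (T'.F (q + 1)).map u α = 0 := fun h q A α => by
    obtain ⟨b, rfl⟩ := ((isIso_iff_bij _).1 (h (q + 1) A)).2 α
    obtain ⟨M, u, hu, hb⟩ := hT q A b
    exact ⟨M, u, hu, by rw [← nat, hb, map_zero]⟩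
  have main : (∀ A, Function.Bijective ((φ.app 0).app A)) → (∀ (q : ℕ) (A : C) (α : (T'.F (q + 1)).obj A),
      (∀ B, Function.Bijective ((φ.app q).app B)) →
      ∃ (M : C) (u : A ⟶ M), Mono u ∧ (T'.F (q + 1)).map u α = 0) → ∀ (q : ℕ) (A : C), IsIso ((φ.app q).app A) := by
    intro h00 heff q
    suffices ∀ A, Function.Bijective ((φ.app q).app A) from fun A => (isIso_iff_bij _).2 (this A)
    induction q with
    | zero => exact h00
    | succ q ih =>
      intro A
      refine ⟨injective_succ φ hT q ih A, fun a => ?_⟩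
      obtain ⟨M, u, _, hu⟩ := heff q A a ih
      exact surjective_succ φ q ih a u hu
  refine ⟨⟨fun h => ⟨fun M _ => h 0 M, fun q M _ => haveI := h (q + 1) M; inferInstance⟩, fun ⟨hz, hs⟩ => ?_⟩,
    ⟨fun h => ⟨h 0, fwd h⟩, fun ⟨hz, he⟩ => main (fun A => (isIso_iff_bij _).1 (hz A)) fun q A α _ => he q A α⟩⟩
  refine main (fun A => ?_) fun q A α ih => ?_
  · have hinj : ∀ A : C, Function.Injective ((φ.app 0).app A) := fun A a b hab => by
      obtain ⟨M, i, _, hM⟩ := hE A
      have hi : Function.Injective ((T.F 0).map i) := (AddCommGrpCat.mono_iff_injective _).1 (hT0 (seq i) (seq_exact i))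
      refine hi (((isIso_iff_bij _).1 (hz M hM)).1 ?_)
      rw [nat, nat, hab]
    refine ⟨hinj A, fun a' => ?_⟩
    obtain ⟨M, i, _, hM⟩ := hE A
    obtain ⟨m, hm⟩ := ((isIso_iff_bij _).1 (hz M hM)).2 ((T'.F 0).map i a')
    have hgm : (T.F 0).map (seq i).g m = 0 := hinj _ (by
      rw [nat, hm, map_zero, ← ConcreteCategory.comp_apply, ← Functor.map_comp, cokernel.condition, Functor.map_zero]
      rfl)
    obtain ⟨a, rfl⟩ := (ShortComplex.ab_exact_iff _).1 (T.exact₂ (seq i) (seq_exact i) 0) m hgm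
    have hi' : Function.Injective ((T'.F 0).map i) := (AddCommGrpCat.mono_iff_injective _).1 (hT'0 (seq i) (seq_exact i))
    exact ⟨a, hi' ((nat φ 0 i a).symm.trans hm)⟩
  · obtain ⟨M, i, _, hM⟩ := hE A
    obtain ⟨b, hb⟩ := (AddCommGrpCat.epi_iff_surjective _).1 (hs q M hM) ((T'.F (q + 1)).map i α)
    obtain ⟨M', v, _, hv⟩ := hT q M b
    exact ⟨M', i ≫ v, mono_comp i v, by
      rw [Functor.map_comp, ConcreteCategory.comp_apply, ← hb, ← nat, hv, map_zero]⟩

end Groth.Agent.S8611
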