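import Groth.Statements.S8612
import Groth.Agent.S8611
import Mathlib.Algebra.Category.Grp.Ulift
import Mathlib.Algebra.Category.Grp.FilteredColimits
import Mathlib.CategoryTheory.Limits.Types.Filtered

set_option autoImplicit false
universe w v u
open CategoryTheory CategoryTheory.Limits
open SGA4h

namespace Groth.Agent.S8612

open Groth.Agent.S8611

variable {C : Type u} [Category.{v} C] [Abelian C]

/-- filtered colimits in `AddCommGrpCat`, elementwise, in any universe -/
theorem filtered_colimit_elements {J : Type v} [SmallCategory J] [IsFiltered J] (K : J ⥤ AddCommGrpCat.{w})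
    (c : Cocone K) (hc : IsColimit c) :
    (∀ x : c.pt, ∃ (j : J) (y : K.obj j), c.ι.app j y = x) ∧
    ∀ (j : J) (y : K.obj j), c.ι.app j y = 0 → ∃ (k : J) (f : j ⟶ k), K.map f y = 0 := by
  let G : AddCommGrpCat.{w} ⥤ Type (max v w) :=
    AddCommGrpCat.uliftFunctor.{v, w} ⋙ forget AddCommGrpCat.{max v w}
  haveI : PreservesColimitsOfShape J AddCommGrpCat.uliftFunctor.{v, w} := inferInstance
  haveI : PreservesFilteredColimitsOfSize.{v, v} (forget AddCommGrpCat.{max v w}) :=
    PreservesFilteredColimitsOfSize.mk fun J' _ _ => by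
      let e : J' ≌ AsSmall.{max v w} J' := AsSmall.equiv
      haveI : IsFiltered (AsSmall.{max v w} J') := IsFiltered.of_equivalence e
      haveI : PreservesColimitsOfShape (AsSmall.{max v w} J') (forget AddCommGrpCat.{max v w}) :=
        PreservesFilteredColimitsOfSize.preserves_filtered_colimits _
      exact preservesColimitsOfShape_of_equiv e.symm _
  haveI : PreservesColimitsOfShape J (forget AddCommGrpCat.{max v w}) :=
    PreservesFilteredColimitsOfSize.preserves_filtered_colimits J
  have hG := isColimitOfPreserves G hc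
  refine ⟨fun x => ?_, fun j y hy => ?_⟩
  · obtain ⟨j, y, hy⟩ := Types.jointly_surjective _ hG (ULift.up x)
    exact ⟨j, y.down, congrArg ULift.down hy⟩
  · have h0 : (G.mapCocone c).ι.app j (ULift.up y) = (G.mapCocone c).ι.app j (ULift.up (0 : K.obj j)) := by
      show ULift.up (c.ι.app j y) = ULift.up (c.ι.app j (0 : K.obj j))
      rw [hy, map_zero]
    obtain ⟨k, f, g, hfg⟩ := (Types.FilteredColimit.isColimit_eq_iff _ hG).1 h0
    refine ⟨k, f, ?_⟩
    have h2 : K.map f y = K.map g (0 : K.obj j) := congrArg ULift.down hfg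
    rw [h2, map_zero]

theorem bij_colimit {T T' : DeltaF.CohDeltaFunctor C AddCommGrpCat.{w} ℕ} (φ : T ⟶ T') (q : ℕ)
    [PreservesFilteredColimitsOfSize.{v, v} (T.F q)] [PreservesFilteredColimitsOfSize.{v, v} (T'.F q)]
    {J : Type v} [SmallCategory J] [IsFiltered J] (K : J ⥤ C) (c : Cocone K) (hc : IsColimit c)
    (h : ∀ j, Function.Injective ((φ.app q).app (K.obj j))) :
    Function.Injective ((φ.app q).app c.pt) ∧
      ((∀ j, Function.Surjective ((φ.app q).app (K.obj j))) → Function.Surjective ((φ.app q).app c.pt)) := by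
  obtain ⟨s1, e1⟩ := filtered_colimit_elements _ _ (isColimitOfPreserves (T.F q) hc)
  obtain ⟨s2, e2⟩ := filtered_colimit_elements _ _ (isColimitOfPreserves (T'.F q) hc)
  refine ⟨(injective_iff_map_eq_zero _).2 fun x hx => ?_, fun hs x' => ?_⟩
  · obtain ⟨j, y, rfl⟩ := s1 x
    replace hx : (T'.F q).map (c.ι.app j) ((φ.app q).app (K.obj j) y) = 0 := (nat φ q (c.ι.app j) y).symm.trans hx
    obtain ⟨k, f, hk⟩ := e2 j _ hx
    have hk' : (T.F q).map (K.map f) y = 0 := h k ((nat φ q (K.map f) y).trans (hk.trans (map_zero _).symm))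
    show (T.F q).map (c.ι.app j) y = 0
    rw [← c.w f, Functor.map_comp, ConcreteCategory.comp_apply, hk', map_zero]
  · obtain ⟨j, y', rfl⟩ := s2 x'
    obtain ⟨y, rfl⟩ := hs j y'
    exact ⟨(T.F q).map (c.ι.app j) y, nat φ q (c.ι.app j) y⟩

/-- Let C be an abelian category with filtered colimits, T and T' cohomological delta-functors on C in
degrees ≥ 0 with values in abelian groups, both left exact in degree 0 and commuting with filtered
colimits in every degree, and φ : T → T' a morphism of delta-functors. Let D and E be classes of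
objects such that (a) every object of C is a filtered colimit of objects of D and (b) every object
of D admits a monomorphism into a member of E. Then φ^q(A) is bijective for all q and all A if and
only if φ^q(M) is bijective for all q and all M in E. -/
theorem result {C : Type u} [Category.{v} C] [Abelian C]
    [HasFilteredColimitsOfSize.{v, v} C]
    (T T' : DeltaF.CohDeltaFunctor C AddCommGrpCat.{w} ℕ) (hT0 : T.ZeroMono) (hT'0 : T'.ZeroMono)
    [∀ n, PreservesFilteredColimitsOfSize.{v, v} (T.F n)] [∀ n, PreservesFilteredColimitsOfSize.{v, v} (T'.F n)]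
    (φ : T ⟶ T') (D E : ObjectProperty C)
    (hD : ∀ A : C, ∃ (J : Type v) (_ : SmallCategory J) (_ : IsFiltered J) (K : J ⥤ C) (c : Cocone K)
      (_ : IsColimit c), (∀ j, D (K.obj j)) ∧ Nonempty (c.pt ≅ A))
    (hE : ∀ A : C, D A → ∃ (M : C) (i : A ⟶ M), Mono i ∧ E M) :
    (∀ (q : ℕ) (A : C), IsIso ((φ.app q).app A)) ↔
      ∀ (q : ℕ) (M : C), E M → IsIso ((φ.app q).app M) := by
  refine ⟨fun h q M _ => h q M, fun h q A => ?_⟩
  have hb : ∀ q M, E M → Function.Bijective ((φ.app q).app M) := fun q M hM => (isIso_iff_bij _).1 (h q M hM)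
  have ext_all : ∀ q, (∀ A, D A → Function.Injective ((φ.app q).app A)) →
      (∀ A, Function.Injective ((φ.app q).app A)) ∧ ((∀ A, D A → Function.Surjective ((φ.app q).app A)) →
        ∀ A, Function.Surjective ((φ.app q).app A)) := by
    intro q hi
    constructor
    · intro A
      obtain ⟨J, _, _, K, c, hc, hK, ⟨e⟩⟩ := hD A
      intro a b hab
      have h1 := (bij_colimit φ q K c hc fun j => hi _ (hK j)).1
      have h2 : (T.F q).map e.inv a = (T.F q).map e.inv b := h1 (by rw [nat, nat, hab])
      have h3 := congrArg ((T.F q).map e.hom) h2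
      simpa [← ConcreteCategory.comp_apply, ← Functor.map_comp] using h3
    · intro hs A a'
      obtain ⟨J, _, _, K, c, hc, hK, ⟨e⟩⟩ := hD A
      obtain ⟨b, hb⟩ := (bij_colimit φ q K c hc fun j => hi _ (hK j)).2 (fun j => hs _ (hK j)) ((T'.F q).map e.inv a')
      refine ⟨(T.F q).map e.hom b, ?_⟩
      rw [nat, hb]
      simp [← ConcreteCategory.comp_apply, ← Functor.map_comp]
  suffices ∀ q A, Function.Bijective ((φ.app q).app A) from (isIso_iff_bij _).2 (this q A)
  intro q
  -- surjectivity on `D` from injectivity everywhere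
  have surjD : ∀ q, (∀ A, Function.Injective ((φ.app q).app A)) →
      (∀ (A M : C) (u : A ⟶ M), Mono u → ∀ a : (T'.F q).obj A, ∀ a₀, (φ.app q).app M ((T.F q).map u a₀) = (T'.F q).map u a →
        ∃ b, (φ.app q).app A b = a) → ∀ A, D A → Function.Surjective ((φ.app q).app A) := by
    intro q hinj hfix A hA a'
    obtain ⟨M, i, _, hM⟩ := hE A hA
    obtain ⟨m, hm⟩ := (hb q M hM).2 ((T'.F q).map i a')
    have hgm : (T.F q).map (seq i).g m = 0 := hinj _ (by
      rw [nat, hm, map_zero, ← ConcreteCategory.comp_apply, ← Functor.map_comp, cokernel.condition, Functor.map_zero]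
      rfl)
    obtain ⟨a, rfl⟩ := (ShortComplex.ab_exact_iff _).1 (T.exact₂ (seq i) (seq_exact i) q) m hgm
    exact hfix A M i ‹_› a' a hm
  induction q with
  | zero =>
    have hi := (ext_all 0 fun A hA a b hab => by
      obtain ⟨M, i, _, hM⟩ := hE A hA
      have hi : Function.Injective ((T.F 0).map i) := (AddCommGrpCat.mono_iff_injective _).1 (hT0 (seq i) (seq_exact i))
      exact hi ((hb 0 M hM).1 (by rw [nat, nat, hab])))
    have hs := hi.2 (surjD 0 hi.1 fun A M u _ a a₀ e => ⟨a₀, (AddCommGrpCat.mono_iff_injective _).1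
      (hT'0 (seq u) (seq_exact u)) ((nat φ 0 u a₀).symm.trans e)⟩)
    exact fun A => ⟨hi.1 A, hs A⟩
  | succ q ih =>
    have hi := (ext_all (q + 1) fun A hA => by
      rw [injective_iff_map_eq_zero]
      intro a ha
      obtain ⟨M, i, _, hM⟩ := hE A hA
      have hu : (T.F (q + 1)).map i a = 0 := (hb (q + 1) M hM).1 (by rw [nat, ha, map_zero, map_zero])
      obtain ⟨x, rfl⟩ := exists_delta T i q a hu
      have h1 : T'.δ (seq i) (seq_exact i) q (q + 1) rfl ((φ.app q).app _ x) = 0 :=
        (ConcreteCategory.congr_hom (φ.comm (seq i) (seq_exact i) q (q + 1) rfl) x).symm.trans ha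
      obtain ⟨y', hy'⟩ := (ShortComplex.ab_exact_iff _).1 (T'.exact₃ (seq i) (seq_exact i) q (q + 1) rfl) _ h1
      obtain ⟨y, rfl⟩ := (ih M).2 y'
      have hx : (T.F q).map (seq i).g y = x := (ih _).1 ((nat φ q (seq i).g y).trans hy')
      rw [← hx]
      exact ConcreteCategory.congr_hom (T.comp_δ (seq i) (seq_exact i) q (q + 1) rfl) y)
    have hs := hi.2 (surjD (q + 1) hi.1 fun A M u _ a a₀ e => by
      obtain ⟨b, hb⟩ := surjective_succ φ q ih (a - (φ.app (q + 1)).app A a₀) u (by
        rw [map_sub, ← nat, e, sub_self])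
      exact ⟨b + a₀, by rw [map_add, hb, sub_add_cancel]⟩)
    exact fun A => ⟨hi.1 A, hs A⟩

end Groth.Agent.S8612
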