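import Groth.Statements.S8625
import Mathlib.Algebra.Group.Conj
import Mathlib.Tactic.Group

set_option autoImplicit false
universe u
open SGA4h

namespace Groth.Agent.S8625

/-- Let G be a group with an endomorphism F, and assume the Lang map g ↦ F(g)g⁻¹ is surjective (for
instance the geometric points of a connected algebraic group over F_q with its Frobenius, where the
surjectivity is the classical result of Lang; the other Lang map g ↦ g⁻¹F(g) is then surjective too,
by g ↦ g⁻¹). Let G^F be the subgroup of fixed points of F. (i) If F(g)g⁻¹ is fixed by F then so is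
g⁻¹F(g). (ii), (iii) There is a bijection of the set of conjugacy classes of G^F with itself
sending, for every g with F(g)g⁻¹ ∈ G^F, the class of F(g)g⁻¹ to the class of g⁻¹F(g) (in particular
the latter class depends only on the former). -/
theorem result {G : Type u} [Group G] (F : G →* G)
    (hL : Function.Surjective fun g : G => F g * g⁻¹) :
    (∀ g : G, F (F g * g⁻¹) = F g * g⁻¹ → F (g⁻¹ * F g) = g⁻¹ * F g) ∧
    ∃ φ : ConjClasses ↥(F.eqLocus (MonoidHom.id G)) → ConjClasses ↥(F.eqLocus (MonoidHom.id G)),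
      Function.Bijective φ ∧
      ∀ (g : G) (h : F (F g * g⁻¹) = F g * g⁻¹) (h' : F (g⁻¹ * F g) = g⁻¹ * F g),
        φ (ConjClasses.mk (⟨F g * g⁻¹, h⟩ : ↥(F.eqLocus (MonoidHom.id G)))) =
          ConjClasses.mk (⟨g⁻¹ * F g, h'⟩ : ↥(F.eqLocus (MonoidHom.id G))) := by
  classical
  have key : ∀ g : G, F (F g * g⁻¹) = F g * g⁻¹ → F (g⁻¹ * F g) = g⁻¹ * F g := by
    intro g h
    simp only [map_mul, map_inv] at h ⊢
    rw [mul_inv_eq_iff_eq_mul] at h
    rw [h]; group
  have key' : ∀ g : G, F (g⁻¹ * F g) = g⁻¹ * F g → F (F g * g⁻¹) = F g * g⁻¹ := by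
    intro g h
    simp only [map_mul, map_inv] at h ⊢
    rw [inv_mul_eq_iff_eq_mul] at h
    rw [h]; group
  let H : Subgroup G := F.eqLocus (MonoidHom.id G)
  have hch : ∀ a : H, ∃ g : G, F g * g⁻¹ = a := fun a => hL a
  let gc : H → G := fun a => (hch a).choose
  have hgc : ∀ a : H, F (gc a) * (gc a)⁻¹ = a := fun a => (hch a).choose_spec
  let f0 : H → ConjClasses H := fun a => ConjClasses.mk ⟨(gc a)⁻¹ * F (gc a), key _ (by rw [hgc a]; exact a.2)⟩
  have hf0 : ∀ (a : H) (g : G) (hb : F (g⁻¹ * F g) = g⁻¹ * F g), F g * g⁻¹ = a →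
      f0 a = ConjClasses.mk (⟨g⁻¹ * F g, hb⟩ : H) := by
    intro a g hb hg
    have e1 : F (gc a) = (a : G) * gc a := mul_inv_eq_iff_eq_mul.mp (hgc a)
    have e2 : F g = (a : G) * g := mul_inv_eq_iff_eq_mul.mp hg
    have hu : F (g⁻¹ * gc a) = g⁻¹ * gc a := by rw [map_mul, map_inv, e1, e2]; group
    refine ConjClasses.mk_eq_mk_iff_isConj.mpr (isConj_iff.mpr ⟨⟨g⁻¹ * gc a, hu⟩, Subtype.ext ?_⟩)
    show g⁻¹ * gc a * ((gc a)⁻¹ * F (gc a)) * (g⁻¹ * gc a)⁻¹ = g⁻¹ * F g
    rw [e1, e2]; group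
  let φ : ConjClasses H → ConjClasses H := Quotient.lift f0 (by
    intro a a' haa
    obtain ⟨c, hc⟩ := isConj_iff.mp (show IsConj a a' from haa)
    have hb := key (gc a) (by rw [hgc a]; exact a.2)
    have e : ((c : G) * gc a)⁻¹ * F ((c : G) * gc a) = (gc a)⁻¹ * F (gc a) := by
      rw [map_mul, show F (c : G) = c from c.2]; group
    rw [hf0 a (gc a) hb (hgc a)]
    rw [hf0 a' ((c : G) * gc a) (by rw [e]; exact hb) (by
      rw [← hc, map_mul, show F (c : G) = c from c.2, mul_inv_rev]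
      show (c : G) * F (gc a) * ((gc a)⁻¹ * (c : G)⁻¹) = (c : G) * a * (c : G)⁻¹
      rw [← hgc a]; group)]
    exact congrArg ConjClasses.mk (Subtype.ext e.symm))
  refine ⟨key, φ, ⟨?_, ?_⟩, fun g h h' => hf0 _ g h' rfl⟩
  · intro x y
    induction x using Quotient.inductionOn with
    | _ a =>
      induction y using Quotient.inductionOn with
      | _ a' =>
        intro hxy
        change f0 a = f0 a' at hxy
        obtain ⟨c, hc⟩ := isConj_iff.mp (ConjClasses.mk_eq_mk_iff_isConj.mp hxy)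
        have hc' := congrArg Subtype.val hc
        change (c : G) * ((gc a)⁻¹ * F (gc a)) * (c : G)⁻¹ = (gc a')⁻¹ * F (gc a') at hc'
        have e1 : F (gc a) = (a : G) * gc a := mul_inv_eq_iff_eq_mul.mp (hgc a)
        have e2 : F (gc a') = (a' : G) * gc a' := mul_inv_eq_iff_eq_mul.mp (hgc a')
        have hk : F (gc a' * ((c : G) * (gc a)⁻¹)) = gc a' * ((c : G) * (gc a)⁻¹) := by
          rw [map_mul, map_mul, map_inv, show F (c : G) = c from c.2, e1, e2]
          rw [e1, e2] at hc'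
          rw [inv_mul_eq_iff_eq_mul.mp hc'.symm]
          group
        refine Quotient.sound (isConj_iff.mpr ⟨⟨_, hk⟩, Subtype.ext ?_⟩)
        show gc a' * ((c : G) * (gc a)⁻¹) * a * (gc a' * ((c : G) * (gc a)⁻¹))⁻¹ = a'
        rw [← hgc a', inv_mul_eq_iff_eq_mul.mp hc'.symm, ← hgc a]
        group
  · intro x
    induction x using Quotient.inductionOn with
    | _ b =>
      obtain ⟨g, hg⟩ := hL ((b : G)⁻¹)
      have hgb : (g⁻¹)⁻¹ * F g⁻¹ = b := by
        apply inv_injective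
        rw [← hg, map_inv]; group
      have hb : F ((g⁻¹)⁻¹ * F g⁻¹) = (g⁻¹)⁻¹ * F g⁻¹ := by rw [hgb]; exact b.2
      refine ⟨ConjClasses.mk ⟨_, key' _ hb⟩, ?_⟩
      exact (hf0 _ g⁻¹ hb rfl).trans (congrArg ConjClasses.mk (Subtype.ext hgb))

end Groth.Agent.S8625
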