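import Groth.Statements.S8626
import Mathlib.Algebra.Homology.Augment
import Mathlib.CategoryTheory.Abelian.Refinements

set_option autoImplicit false
universe v v' u u'
open CategoryTheory CategoryTheory.Limits
open SGA4h

namespace Groth.Agent.S8626

set_option backward.isDefEq.respectTransparency.types false

section
variable {A : Type u} [Category.{v} A] [Abelian A] (𝒪 : ObjectProperty A)

/-- a retract of an object of the class -/
structure Ret where
  Y : A
  hY : 𝒪 Y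
  P : A
  inc : P ⟶ Y
  prj : Y ⟶ P
  inc_prj : inc ≫ prj = 𝟙 P

variable {𝒪}
variable (h0 : ∀ X Y : A, 𝒪 X → 𝒪 Y → 𝒪 (X ⊞ Y)) (C : CochainComplex A ℕ) (h00 : 𝒪 (C.X 0))
  (Z : ℕ → A) (hZ : ∀ n, 𝒪 (Z n)) (s : ∀ n, C.X (n + 1) ⟶ Z n) (r : ∀ n, Z n ⟶ C.X (n + 1))
  (hsr : ∀ n, s n ≫ r n = 𝟙 _)

variable {C} in
/-- next retract: complement of `C.X (n+1) ⊞ R.P` in `Z n ⊞ R.Y` -/
noncomputable def compl (R : Ret 𝒪) (n : ℕ) : Z n ⊞ R.Y ⟶ Z n ⊞ R.Y :=
  biprod.fst ≫ r n ≫ s n ≫ biprod.inl + biprod.snd ≫ R.prj ≫ R.inc ≫ biprod.inr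

include hsr in
theorem compl_idem (R : Ret 𝒪) (n : ℕ) : compl Z s r R n ≫ compl Z s r R n = compl Z s r R n := by
  simp [compl, reassoc_of% (hsr n), reassoc_of% R.inc_prj]

noncomputable def next (R : Ret 𝒪) (n : ℕ) : Ret 𝒪 where
  Y := Z n ⊞ R.Y
  hY := h0 _ _ (hZ n) R.hY
  P := kernel (compl Z s r R n)
  inc := kernel.ι _
  prj := kernel.lift _ (𝟙 _ - compl Z s r R n) (by
    rw [Preadditive.sub_comp, Category.id_comp, compl_idem C Z s r hsr, sub_self])
  inc_prj := by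
    rw [← cancel_mono (kernel.ι (compl Z s r R n)), Category.assoc, kernel.lift_ι, Preadditive.comp_sub,
      kernel.condition, Category.comp_id, sub_zero, Category.id_comp]

noncomputable def ret : ℕ → Ret 𝒪
  | 0 =>
    { Y := C.X 0, hY := h00, P := kernel (𝟙 (C.X 0)), inc := 0, prj := 0
      inc_prj := by
        rw [← cancel_mono (kernel.ι (𝟙 (C.X 0)))]
        simpa using (kernel.condition (𝟙 (C.X 0))).symm }
  | n + 1 => next h0 C Z hZ s r hsr (ret n) n

local notation "RR" => ret h0 C h00 Z hZ s r hsr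

noncomputable def sC : ∀ n, C.X n ⟶ (RR n).Y
  | 0 => 𝟙 (C.X 0)
  | n + 1 => s n ≫ biprod.inl

noncomputable def rC : ∀ n, (RR n).Y ⟶ C.X n
  | 0 => 𝟙 (C.X 0)
  | n + 1 => biprod.fst ≫ r n

noncomputable def sQ (n : ℕ) : (RR n).P ⟶ (RR (n + 1)).Y := (RR n).inc ≫ biprod.inr

noncomputable def rQ (n : ℕ) : (RR (n + 1)).Y ⟶ (RR n).P := biprod.snd ≫ (RR n).prj

local notation "sC'" => sC h0 C h00 Z hZ s r hsr
local notation "rC'" => rC h0 C h00 Z hZ s r hsr
local notation "sQ'" => sQ h0 C h00 Z hZ s r hsr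
local notation "rQ'" => rQ h0 C h00 Z hZ s r hsr

theorem sC_rC : ∀ n, sC' n ≫ rC' n = 𝟙 _
  | 0 => Category.comp_id _
  | n + 1 => by
    show (s n ≫ biprod.inl) ≫ biprod.fst ≫ r n = _
    simp [hsr n]

theorem sQ_rC (n : ℕ) : sQ' n ≫ rC' (n + 1) = 0 := by
  show ((RR n).inc ≫ biprod.inr) ≫ biprod.fst ≫ r n = _
  simp

theorem sQ_rQ (n : ℕ) : sQ' n ≫ rQ' n = 𝟙 _ := by
  show ((RR n).inc ≫ biprod.inr) ≫ biprod.snd ≫ (RR n).prj = _
  simp [(RR n).inc_prj]

theorem sC_rQ (n : ℕ) : sC' (n + 1) ≫ rQ' n = 0 := by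
  show (s n ≫ biprod.inl) ≫ biprod.snd ≫ (RR n).prj = _
  simp

theorem prj_inc (n : ℕ) : (RR (n + 1)).prj ≫ (RR (n + 1)).inc =
    𝟙 _ - rC' (n + 1) ≫ sC' (n + 1) - rQ' n ≫ sQ' n := by
  show kernel.lift _ _ _ ≫ kernel.ι _ = _
  rw [kernel.lift_ι, sub_sub]
  congr 1
  show compl Z s r (RR n) n = (biprod.fst ≫ r n) ≫ (s n ≫ biprod.inl) +
    (biprod.snd ≫ (RR n).prj) ≫ ((RR n).inc ≫ biprod.inr)
  simp [compl]
  rfl

theorem inc_rC : ∀ n, (RR n).inc ≫ rC' n = 0
  | 0 => zero_comp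
  | n + 1 => by
    haveI : Mono (sC' (n + 1)) := mono_of_mono_fac (sC_rC h0 C h00 Z hZ s r hsr (n + 1))
    rw [← cancel_mono (sC' (n + 1)), zero_comp, Category.assoc]
    have h : kernel.ι (compl Z s r (RR n) n) ≫ compl Z s r (RR n) n = 0 := kernel.condition _
    have h2 : compl Z s r (RR n) n ≫ (biprod.fst ≫ r n) = biprod.fst ≫ r n := by
      simp [compl, hsr n]
    show kernel.ι (compl Z s r (RR n) n) ≫ (biprod.fst ≫ r n) ≫ _ = 0
    rw [← h2, Category.assoc, reassoc_of% h, zero_comp]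

theorem sC_prj : ∀ n, sC' n ≫ (RR n).prj = 0
  | 0 => comp_zero
  | n + 1 => by
    haveI : Mono (RR (n + 1)).inc := mono_of_mono_fac (RR (n + 1)).inc_prj
    rw [← cancel_mono (RR (n + 1)).inc, zero_comp, Category.assoc, prj_inc, Preadditive.comp_sub,
      Preadditive.comp_sub, Category.comp_id, reassoc_of% (sC_rC h0 C h00 Z hZ s r hsr (n + 1)),
      reassoc_of% (sC_rQ h0 C h00 Z hZ s r hsr n)]
    simp

theorem sQ_prj (n : ℕ) : sQ' n ≫ (RR (n + 1)).prj = 0 := by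
  haveI : Mono (RR (n + 1)).inc := mono_of_mono_fac (RR (n + 1)).inc_prj
  rw [← cancel_mono (RR (n + 1)).inc, zero_comp, Category.assoc, prj_inc, Preadditive.comp_sub,
    Preadditive.comp_sub, Category.comp_id, reassoc_of% (sQ_rC h0 C h00 Z hZ s r hsr n),
    reassoc_of% (sQ_rQ h0 C h00 Z hZ s r hsr n)]
  simp

noncomputable def dK (n : ℕ) : (RR n).Y ⟶ (RR (n + 1)).Y :=
  rC' n ≫ C.d n (n + 1) ≫ sC' (n + 1) + (RR n).prj ≫ sQ' n

noncomputable def cplx : CochainComplex A ℕ :=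
  CochainComplex.of (fun n => (RR n).Y) (dK h0 C h00 Z hZ s r hsr) fun n => by
    simp [dK, reassoc_of% (sC_rC h0 C h00 Z hZ s r hsr (n + 1)), reassoc_of% (sQ_rC h0 C h00 Z hZ s r hsr n),
      reassoc_of% (sC_prj h0 C h00 Z hZ s r hsr (n + 1)), reassoc_of% (sQ_prj h0 C h00 Z hZ s r hsr n)]

local notation "KK" => cplx h0 C h00 Z hZ s r hsr

theorem cplx_d (n : ℕ) : (KK).d n (n + 1) = dK h0 C h00 Z hZ s r hsr n := CochainComplex.of_d (fun m => (RR m).Y) (dK h0 C h00 Z hZ s r hsr) n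

theorem sC_dK (n : ℕ) : sC' n ≫ dK h0 C h00 Z hZ s r hsr n = C.d n (n + 1) ≫ sC' (n + 1) := by
  simp [dK, reassoc_of% (sC_rC h0 C h00 Z hZ s r hsr n), reassoc_of% (sC_prj h0 C h00 Z hZ s r hsr n)]

theorem dK_rC (n : ℕ) : dK h0 C h00 Z hZ s r hsr n ≫ rC' (n + 1) = rC' n ≫ C.d n (n + 1) := by
  simp [dK, sC_rC h0 C h00 Z hZ s r hsr (n + 1), sQ_rC h0 C h00 Z hZ s r hsr n]

/-- inclusion of `C` -/
noncomputable def inK : C ⟶ KK where
  f n := sC' n
  comm' i j hij := by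
    obtain rfl : i + 1 = j := hij
    rw [cplx_d]
    exact sC_dK h0 C h00 Z hZ s r hsr i

/-- projection to `C` -/
noncomputable def prK : KK ⟶ C where
  f n := rC' n
  comm' i j hij := by
    obtain rfl : i + 1 = j := hij
    rw [cplx_d]
    exact (dK_rC h0 C h00 Z hZ s r hsr i).symm

theorem inK_prK : inK h0 C h00 Z hZ s r hsr ≫ prK h0 C h00 Z hZ s r hsr = 𝟙 C :=
  HomologicalComplex.Hom.ext (funext (sC_rC h0 C h00 Z hZ s r hsr))

theorem acyclic_cplx (hC : C.Acyclic) : (KK).Acyclic := by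
  intro m
  cases m with
  | zero =>
    have hC0 := (HomologicalComplex.exactAt_iff' C 0 0 1 CochainComplex.prev_nat_zero (CochainComplex.next ℕ 0)).1 (hC 0)
    have hm : Mono (C.d 0 1) := hC0.mono_g (C.shape 0 0 (by simp))
    rw [HomologicalComplex.exactAt_iff' _ 0 0 1 CochainComplex.prev_nat_zero (CochainComplex.next ℕ 0)]
    have : Mono ((KK).d 0 1) := by
      haveI : Mono ((KK).d 0 1 ≫ rC' 1) := by
        have e : (KK).d 0 1 ≫ rC' 1 = 𝟙 (C.X 0) ≫ C.d 0 1 :=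
          (congrArg (· ≫ rC' 1) (cplx_d h0 C h00 Z hZ s r hsr 0)).trans (dK_rC h0 C h00 Z hZ s r hsr 0)
        rw [e]
        exact (inferInstance : Mono (𝟙 (C.X 0) ≫ C.d 0 1))
      exact mono_of_mono _ (rC' 1)
    rw [ShortComplex.exact_iff_mono]
    · exact this
    · exact (KK).shape 0 0 (by simp)
  | succ n =>
    rw [HomologicalComplex.exactAt_iff' _ n (n + 1) (n + 2) (CochainComplex.prev_nat_succ n)
      (CochainComplex.next ℕ (n + 1)), ShortComplex.exact_iff_exact_up_to_refinements]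
    intro T (x : T ⟶ (RR (n + 1)).Y) hx
    replace hx : x ≫ dK h0 C h00 Z hZ s r hsr (n + 1) = 0 := by
      rw [← cplx_d]; exact hx
    have hC1 := (HomologicalComplex.exactAt_iff' C n (n + 1) (n + 2) (CochainComplex.prev_nat_succ n)
      (CochainComplex.next ℕ (n + 1))).1 (hC (n + 1))
    have hx1 : (x ≫ rC' (n + 1)) ≫ C.d (n + 1) (n + 1 + 1) = 0 := by
      rw [Category.assoc, ← dK_rC, ← Category.assoc, hx, zero_comp]
    obtain ⟨T', π, hπ, (y : T' ⟶ C.X n), (hy : π ≫ x ≫ rC' (n + 1) = y ≫ C.d n (n + 1))⟩ := (ShortComplex.exact_iff_exact_up_to_refinements _).1 hC1 _ hx1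
    refine ⟨T', π, hπ, y ≫ sC' n + π ≫ x ≫ rQ' n ≫ (RR n).inc, ?_⟩
    show π ≫ x = _ ≫ (KK).d n (n + 1)
    refine Eq.trans (?_ : π ≫ x = (y ≫ sC' n + π ≫ x ≫ rQ' n ≫ (RR n).inc) ≫ dK h0 C h00 Z hZ s r hsr n)
      (congrArg ((y ≫ sC' n + π ≫ x ≫ rQ' n ≫ (RR n).inc) ≫ ·) (cplx_d h0 C h00 Z hZ s r hsr n)).symm
    rw [Preadditive.add_comp, Category.assoc, sC_dK, ← Category.assoc y]
    rw [← hy]
    have h1 : (RR n).inc ≫ dK h0 C h00 Z hZ s r hsr n = sQ' n := by
      simp [dK, reassoc_of% (inc_rC h0 C h00 Z hZ s r hsr n), reassoc_of% (RR n).inc_prj]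
    have h2 : x ≫ (RR (n + 1)).prj = 0 := by
      have := congrArg (· ≫ rQ' (n + 1)) hx
      simpa [dK, sC_rQ h0 C h00 Z hZ s r hsr (n + 1), sQ_rQ h0 C h00 Z hZ s r hsr (n + 1)] using this
    have h3 : x = x ≫ rC' (n + 1) ≫ sC' (n + 1) + x ≫ rQ' n ≫ sQ' n := by
      have h := congrArg (· ≫ (RR (n + 1)).inc) h2
      simp only [Category.assoc, prj_inc, Preadditive.comp_sub, Category.comp_id, zero_comp, sub_sub,
        sub_eq_zero] at h
      exact h.trans (Preadditive.comp_add _ _ _ _ _ _)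
    simp only [Category.assoc, h1]
    rw [← Preadditive.comp_add, ← h3]

end

/-- Acyclicity assertion; A with enough injectives so that R^n f is the usual right derived functor: let
f : A → B be an additive functor between abelian categories and 𝒪 a class of objects of A, stable
under binary direct sums, such that (1) f carries every acyclic bounded-below cochain complex of
objects of 𝒪 (indexed by ℕ, exact in every degree, in degree 0 meaning the first differential is a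
monomorphism) to an acyclic complex, and (2) every object of A admits a monomorphism into a member
of 𝒪. Then every member of 𝒪 is right f-acyclic: R^n f(X) = 0 for all n > 0. -/
theorem result {A : Type u} [Category.{v} A] [Abelian A] [EnoughInjectives A]
    {B : Type u'} [Category.{v'} B] [Abelian B] (f : A ⥤ B) [f.Additive] (𝒪 : ObjectProperty A)
    (h0 : ∀ X Y : A, 𝒪 X → 𝒪 Y → 𝒪 (X ⊞ Y))
    (h1 : ∀ K : CochainComplex A ℕ, (∀ i, 𝒪 (K.X i)) → K.Acyclic →
      ((f.mapHomologicalComplex (ComplexShape.up ℕ)).obj K).Acyclic)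
    (h2 : ∀ X : A, ∃ (Y : A) (i : X ⟶ Y), 𝒪 Y ∧ Mono i)
    (X : A) (hX : 𝒪 X) (n : ℕ) (hn : 0 < n) :
    IsZero ((f.rightDerived n).obj X) := by
  let I := injectiveResolution X
  let C : CochainComplex A ℕ := CochainComplex.augment I.cocomplex (I.ι.f 0) I.ι_f_zero_comp_complex_d
  have hC : C.Acyclic := by
    intro m
    rcases m with _ | _ | m
    · rw [HomologicalComplex.exactAt_iff' _ 0 0 1 CochainComplex.prev_nat_zero (CochainComplex.next ℕ 0),
        ShortComplex.exact_iff_mono _ (C.shape 0 0 (by simp))]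
      exact (inferInstance : Mono (I.ι.f 0))
    · rw [HomologicalComplex.exactAt_iff' _ 0 1 2 (CochainComplex.prev_nat_succ 0) (CochainComplex.next ℕ 1)]
      exact I.exact₀
    · rw [HomologicalComplex.exactAt_iff' _ (m + 1) (m + 2) (m + 3) (CochainComplex.prev_nat_succ _)
        (CochainComplex.next ℕ _)]
      exact I.exact_succ m
  choose Z i hZ hi using fun m : ℕ => h2 (I.cocomplex.X m)
  haveI := hi
  let r : ∀ m, Z m ⟶ C.X (m + 1) := fun m => (Injective.factorThru (𝟙 (I.cocomplex.X m)) (i m) : Z m ⟶ I.cocomplex.X m)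
  have hsr : ∀ m, i m ≫ r m = 𝟙 (C.X (m + 1)) := fun m => Injective.comp_factorThru (𝟙 (I.cocomplex.X m)) (i m)
  let K := cplx h0 C hX Z hZ i r hsr
  have hK : K.Acyclic := acyclic_cplx h0 C hX Z hZ i r hsr hC
  have hfK := h1 K (fun m => (ret h0 C hX Z hZ i r hsr m).hY) hK
  have hfC : ((f.mapHomologicalComplex (ComplexShape.up ℕ)).obj C).Acyclic := fun m => by
    rw [HomologicalComplex.exactAt_iff_isZero_homology, IsZero.iff_id_eq_zero]
    have hz := (hfK m).isZero_homology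
    rw [← HomologicalComplex.homologyMap_id, ← (f.mapHomologicalComplex _).map_id,
      ← inK_prK h0 C hX Z hZ i r hsr, Functor.map_comp, HomologicalComplex.homologyMap_comp]
    exact (congrArg (· ≫ _) (hz.eq_of_tgt (HomologicalComplex.homologyMap _ m) 0)).trans zero_comp
  obtain ⟨n, rfl⟩ : ∃ m, n = m + 1 := ⟨n - 1, by omega⟩
  refine IsZero.of_iso ?_ (I.isoRightDerivedObj f (n + 1))
  refine HomologicalComplex.ExactAt.isZero_homology ?_
  rw [HomologicalComplex.exactAt_iff' _ n (n + 1) (n + 2) (CochainComplex.prev_nat_succ _) (CochainComplex.next ℕ _)]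
  exact (HomologicalComplex.exactAt_iff' _ (n + 1) (n + 2) (n + 3) (CochainComplex.prev_nat_succ _)
    (CochainComplex.next ℕ _)).1 (hfC (n + 2))

end Groth.Agent.S8626
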