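import Groth.Statements.S8630
import Mathlib

set_option autoImplicit false
open Zeta

namespace Groth.Agent.S8630

/-- Fatou's lemma: let P, Q ∈ ℚ[T] be coprime with constant coefficient 1, and suppose the power series
P/Q has integer coefficients, i.e. P = Q·Z in ℚ⟦T⟧ for a power series Z with coefficients in ℤ. Then
P and Q have integer coefficients. -/
theorem result (P Q : Polynomial ℚ)
    (hPQ : IsCoprime P Q) (hP : P.coeff 0 = 1) (hQ : Q.coeff 0 = 1) (Z : PowerSeries ℤ)
    (hZ : (P : PowerSeries ℚ) = (Q : PowerSeries ℚ) * PowerSeries.map (Int.castRingHom ℚ) Z) :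
    (∃ P₀ : Polynomial ℤ, P₀.map (Int.castRingHom ℚ) = P) ∧
      ∃ Q₀ : Polynomial ℤ, Q₀.map (Int.castRingHom ℚ) = Q := by
  classical
  set φ := Int.castRingHom ℚ with hφ
  obtain ⟨a, b, hab⟩ := hPQ
  obtain ⟨⟨m, hm⟩, hQm⟩ := IsLocalization.integerNormalization_map_to_map (nonZeroDivisors ℤ) Q
  set q₀ := IsLocalization.integerNormalization (nonZeroDivisors ℤ) Q
  have hm0 : m ≠ 0 := nonZeroDivisors.ne_zero hm
  have hQm' : q₀.map φ = (m : ℚ) • Q := by
    refine Eq.trans (congrArg (fun g : ℤ →+* ℚ => q₀.map g) (Subsingleton.elim _ _)) (hQm.trans ?_)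
    simp [Int.cast_smul_eq_zsmul]
  set q := q₀.primPart with hqdef
  set r : ℚ := (q₀.content : ℚ) / m with hr
  have hQr : Q = Polynomial.C r * q.map φ := by
    have h2 : Polynomial.C (q₀.content : ℚ) * q.map φ = Polynomial.C (m : ℚ) * Q := by
      rw [← Polynomial.smul_eq_C_mul (m : ℚ), ← hQm', q₀.eq_C_content_mul_primPart, Polynomial.map_mul, Polynomial.map_C,
        ← q₀.eq_C_content_mul_primPart]
      rfl
    rw [hr, div_eq_inv_mul, map_mul, mul_assoc, h2, ← mul_assoc, ← map_mul,
      inv_mul_cancel₀ (by exact_mod_cast hm0), map_one, one_mul]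
  have hq0 : r * (q.coeff 0 : ℚ) = 1 := by rw [← hQ, hQr]; simp [hφ]
  have hrne : r ≠ 0 := fun h => by rw [h, zero_mul] at hq0; exact zero_ne_one hq0
  have hinj : Function.Injective (PowerSeries.map φ) := PowerSeries.map_injective φ Int.cast_injective
  -- integral numerator
  obtain ⟨p', hp'⟩ : ∃ p' : Polynomial ℤ, P = Polynomial.C r * p'.map φ ∧
      (p' : PowerSeries ℤ) = (q : PowerSeries ℤ) * Z := by
    set p' : Polynomial ℤ := PowerSeries.trunc (P.natDegree + 1) ((q : PowerSeries ℤ) * Z)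
    have hPser : (P : PowerSeries ℚ) = PowerSeries.C r * PowerSeries.map φ ((q : PowerSeries ℤ) * Z) := by
      rw [hZ, map_mul, hQr, Polynomial.coe_mul, Polynomial.coe_C, Polynomial.polynomial_map_coe, mul_assoc]
    have hco : ∀ n, P.coeff n = r * ((PowerSeries.coeff n ((q : PowerSeries ℤ) * Z) : ℤ) : ℚ) := fun n => by
      rw [← Polynomial.coeff_coe, hPser, PowerSeries.coeff_C_mul, PowerSeries.coeff_map]; rfl
    refine ⟨p', ?_, ?_⟩
    · ext n
      rw [Polynomial.coeff_C_mul, Polynomial.coeff_map, PowerSeries.coeff_trunc, hco]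
      split_ifs with h
      · rfl
      · have := hco n
        rw [Polynomial.coeff_eq_zero_of_natDegree_lt (by omega)] at this
        rw [← this]; simp
    · ext n
      rw [Polynomial.coeff_coe, PowerSeries.coeff_trunc]
      split_ifs with h
      · rfl
      · have := hco n
        rw [Polynomial.coeff_eq_zero_of_natDegree_lt (by omega), eq_comm, mul_eq_zero] at this
        exact (Int.cast_eq_zero.1 (this.resolve_left hrne)).symm
  obtain ⟨⟨ma, hma⟩, hA⟩ := IsLocalization.integerNormalization_map_to_map (nonZeroDivisors ℤ) (a * Polynomial.C r)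
  obtain ⟨⟨mb, hmb⟩, hB⟩ := IsLocalization.integerNormalization_map_to_map (nonZeroDivisors ℤ) (b * Polynomial.C r)
  set A := IsLocalization.integerNormalization (nonZeroDivisors ℤ) (a * Polynomial.C r)
  set B := IsLocalization.integerNormalization (nonZeroDivisors ℤ) (b * Polynomial.C r)
  have hA' : A.map φ = Polynomial.C (ma : ℚ) * (a * Polynomial.C r) := by
    refine Eq.trans (congrArg (fun g : ℤ →+* ℚ => A.map g) (Subsingleton.elim _ _)) (hA.trans ?_)
    simp [Algebra.smul_def]
  have hB' : B.map φ = Polynomial.C (mb : ℚ) * (b * Polynomial.C r) := by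
    refine Eq.trans (congrArg (fun g : ℤ →+* ℚ => B.map g) (Subsingleton.elim _ _)) (hB.trans ?_)
    simp [Algebra.smul_def]
  have hN : Polynomial.C mb * A * p' + Polynomial.C ma * B * q = Polynomial.C (ma * mb) := by
    apply Polynomial.map_injective φ Int.cast_injective
    simp only [Polynomial.map_add, Polynomial.map_mul, Polynomial.map_C, hA', hB']
    simp only [hφ, eq_intCast, Int.cast_mul, map_mul]
    rw [hp'.1, hQr] at hab
    linear_combination (Polynomial.C (ma : ℚ) * Polynomial.C (mb : ℚ)) * hab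
  -- descent on the integer
  have key : ∀ N : ℕ, N ≠ 0 → ∀ H : PowerSeries ℤ, (q : PowerSeries ℤ) * H = PowerSeries.C (N : ℤ) → IsUnit (q.coeff 0) := by
    intro N
    induction N using Nat.strong_induction_on with
    | _ N ih =>
      intro hN0 H hH
      by_cases h1 : N = 1
      · refine IsUnit.of_mul_eq_one (a := q.coeff 0) (PowerSeries.coeff 0 H) ?_
        have := congrArg PowerSeries.constantCoeff hH
        rw [map_mul, Polynomial.constantCoeff_coe, PowerSeries.constantCoeff_C, h1] at this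
        simpa using this
      obtain ⟨ℓ, hℓ, M, rfl⟩ := Nat.exists_prime_and_dvd h1
      haveI := Fact.mk hℓ
      have hmod := congrArg (PowerSeries.map (Int.castRingHom (ZMod ℓ))) hH
      rw [map_mul, PowerSeries.map_C] at hmod
      simp only [eq_intCast, Nat.cast_mul] at hmod
      have hqne : PowerSeries.map (Int.castRingHom (ZMod ℓ)) (q : PowerSeries ℤ) ≠ 0 := by
        intro h
        have hdvd : Polynomial.C (ℓ : ℤ) ∣ q := by
          rw [Polynomial.C_dvd_iff_dvd_coeff]
          intro i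
          have := congrArg (PowerSeries.coeff i) h
          rw [PowerSeries.coeff_map, Polynomial.coeff_coe, map_zero] at this
          exact (ZMod.intCast_zmod_eq_zero_iff_dvd _ _).1 this
        exact (Nat.prime_iff_prime_int.1 hℓ).not_unit (q₀.isPrimitive_primPart _ hdvd)
      rw [Int.cast_mul, Int.cast_natCast, ZMod.natCast_self, zero_mul, map_zero, mul_eq_zero] at hmod
      have hH0 := hmod.resolve_left hqne
      have hdiv : ∀ i, (ℓ : ℤ) ∣ PowerSeries.coeff i H := fun i => by
        have := congrArg (PowerSeries.coeff i) hH0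
        rw [PowerSeries.coeff_map, map_zero] at this
        exact (ZMod.intCast_zmod_eq_zero_iff_dvd _ _).1 this
      choose c hc using hdiv
      have hM0 : M ≠ 0 := fun h => hN0 (by rw [h, mul_zero])
      refine ih M (lt_mul_left (Nat.pos_of_ne_zero hM0) hℓ.one_lt) hM0 (PowerSeries.mk c) ?_
      have hℓ0 : (PowerSeries.C (ℓ : ℤ)) ≠ 0 := fun h => hℓ.ne_zero (by
        simpa using congrArg PowerSeries.constantCoeff h)
      apply mul_left_cancel₀ hℓ0
      rw [← map_mul, ← Nat.cast_mul, ← hH, ← mul_assoc, mul_comm (PowerSeries.C (ℓ : ℤ)), mul_assoc]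
      congr 1
      ext i
      rw [PowerSeries.coeff_C_mul, PowerSeries.coeff_mk, ← hc]
  have hser : (q : PowerSeries ℤ) * (((Polynomial.C mb * A : Polynomial ℤ) : PowerSeries ℤ) * Z + ((Polynomial.C ma * B : Polynomial ℤ) : PowerSeries ℤ)) = PowerSeries.C (ma * mb) := by
    rw [← Polynomial.coe_C (ma * mb), ← hN, Polynomial.coe_add, Polynomial.coe_mul (Polynomial.C mb * A), Polynomial.coe_mul (Polynomial.C ma * B), hp'.2]
    ring
  have hmm : ma * mb ≠ 0 := mul_ne_zero (nonZeroDivisors.ne_zero hma) (nonZeroDivisors.ne_zero hmb)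
  obtain ⟨u, hu⟩ : IsUnit (q.coeff 0) := by
    rcases Int.natAbs_eq (ma * mb) with h | h
    · exact key _ (Int.natAbs_ne_zero.2 hmm) _ (by rw [hser, ← h])
    · refine key _ (Int.natAbs_ne_zero.2 hmm) (-((((Polynomial.C mb * A : Polynomial ℤ) : PowerSeries ℤ) * Z + ((Polynomial.C ma * B : Polynomial ℤ) : PowerSeries ℤ)))) ?_
      rw [mul_neg, hser, ← map_neg]; congr 1; omega
  have hru : r = ((u⁻¹ : ℤˣ) : ℤ) := by
    have h1 : ((u : ℤ) : ℚ) * (((u⁻¹ : ℤˣ) : ℤ) : ℚ) = 1 := by rw [← Int.cast_mul, Units.mul_inv, Int.cast_one]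
    rw [← hu] at hq0
    linear_combination ((((u⁻¹ : ℤˣ) : ℤ) : ℚ)) * hq0 - r * h1
  refine ⟨⟨Polynomial.C ((u⁻¹ : ℤˣ) : ℤ) * p', ?_⟩, ⟨Polynomial.C ((u⁻¹ : ℤˣ) : ℤ) * q, ?_⟩⟩
  · rw [Polynomial.map_mul, Polynomial.map_C, hp'.1, hru]; rfl
  · rw [Polynomial.map_mul, Polynomial.map_C, hQr, hru]; rfl

end Groth.Agent.S8630
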