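import Groth.Statements.S8637
import Mathlib

set_option autoImplicit false
open Zeta

namespace Groth.Agent.S8637

/-- First assertion, for a finite family: let (f_i) be finitely many formal power series with real
coefficients, each with constant term 1 and all coefficients ≥ 0, and let f be their product. Then
for every i and every n the n-th coefficient of f_i is at most the n-th coefficient of f (so the
radius of absolute convergence of f_i is at least that of f). (Stated for a finite family; for an
infinite product whose factors f_i - 1 have orders tending to infinity each coefficient is that of a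
finite sub-product, so the same inequality holds.) -/
theorem result {ι : Type} (s : Finset ι) (f : ι → PowerSeries ℝ)
    (h0 : ∀ i ∈ s, PowerSeries.constantCoeff (f i) = 1)
    (hpos : ∀ i ∈ s, ∀ n : ℕ, 0 ≤ PowerSeries.coeff n (f i)) (i : ι) (hi : i ∈ s) (n : ℕ) :
    PowerSeries.coeff n (f i) ≤ PowerSeries.coeff n (∏ j ∈ s, f j) := by
  classical
  have hg : ∀ t : Finset ι, t ⊆ s → (∀ m, 0 ≤ PowerSeries.coeff m (∏ j ∈ t, f j)) ∧
      PowerSeries.constantCoeff (∏ j ∈ t, f j) = 1 := by
    intro t ht
    induction t using Finset.induction_on with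
    | empty => exact ⟨fun m => by simp [PowerSeries.coeff_one]; split_ifs <;> norm_num, by simp⟩
    | @insert a t hat ih =>
      obtain ⟨h1, h2⟩ := ih (fun x hx => ht (Finset.mem_insert_of_mem hx))
      have ha := ht (Finset.mem_insert_self a t)
      refine ⟨fun m => ?_, by simp [Finset.prod_insert hat, h0 a ha, h2]⟩
      rw [Finset.prod_insert hat, PowerSeries.coeff_mul]
      exact Finset.sum_nonneg fun x _ => mul_nonneg (hpos a ha _) (h1 _)
  obtain ⟨h1, h2⟩ := hg (s.erase i) (Finset.erase_subset _ _)
  rw [← Finset.mul_prod_erase s f hi, PowerSeries.coeff_mul]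
  refine le_trans (le_of_eq ?_) (Finset.single_le_sum
    (f := fun x : ℕ × ℕ => PowerSeries.coeff x.1 (f i) * PowerSeries.coeff x.2 (∏ j ∈ s.erase i, f j))
    (fun x _ => mul_nonneg (hpos i hi _) (h1 _)) (a := ((n, 0) : ℕ × ℕ)) (by simp))
  simp [PowerSeries.coeff_zero_eq_constantCoeff_apply, h2]

end Groth.Agent.S8637
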