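import Groth.Statements.S8650
import Groth.Agent.Lam.Ops

set_option autoImplicit false
universe u
open Finset
open LambdaRing

namespace Groth.Agent.S8650

/-- Let K be a pre-λ-ring (λ^0 = 1, λ^1 = id, additive formula) in which λ^k(1) = 0 for all k ≥ 2. Then
for every x ∈ K and every n, λ^n(x + n − 1) = (−1)^n Σ_{i=0}^{n} (−1)^i λ^i(x + n). (The published
statement is for a λ-ring; its proof uses only additivity and λ_t(1) = 1 + t, the hypotheses taken
here.) -/
theorem result (K : Type u) [CommRing K] [LambdaRing.LambdaOps K]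
    (h1 : ∀ k : ℕ, 2 ≤ k → LambdaRing.LambdaOps.lam k (1 : K) = 0) (n : ℕ) (x : K) :
    LambdaRing.LambdaOps.lam n (x + (n : K) - 1) =
      (-1 : K) ^ n * ∑ i ∈ range (n + 1), (-1 : K) ^ i * LambdaRing.LambdaOps.lam i (x + (n : K)) := by
  have e := Groth.Agent.Lam.lamSeries_add (x + (n : K) - 1) (1 : K)
  rw [sub_add_cancel, Groth.Agent.Lam.lamSeries_linear h1, map_one, one_mul] at e
  suffices H : ∀ m : ℕ, LambdaRing.LambdaOps.lam m (x + (n : K) - 1) =
      (-1 : K) ^ m * ∑ i ∈ Finset.range (m + 1), (-1 : K) ^ i * LambdaRing.LambdaOps.lam i (x + (n : K)) from H n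
  intro m
  induction m with
  | zero => simp [LambdaRing.LambdaOps.lam_zero]
  | succ m ih =>
    have e' := congrArg (PowerSeries.coeff (m + 1)) e
    rw [Groth.Agent.Lam.coeff_lamSeries, mul_add, mul_one, map_add, Groth.Agent.Lam.coeff_lamSeries,
      PowerSeries.coeff_succ_mul_X, Groth.Agent.Lam.coeff_lamSeries] at e'
    have hsq : ((-1 : K) ^ m) * (-1) ^ m = 1 := by rw [← mul_pow]; simp
    rw [Finset.sum_range_succ, e', pow_succ]
    linear_combination (-(LambdaRing.LambdaOps.lam (m + 1) (x + (n : K) - 1) + LambdaRing.LambdaOps.lam m (x + (n : K) - 1))) * hsq - ih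

end Groth.Agent.S8650
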