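import Groth.Statements.S8652
import Groth.Agent.LCIMor.Descent
import Groth.Agent.LCIMor.Immersion


set_option autoImplicit false
universe u
open CategoryTheory CategoryTheory.Limits AlgebraicGeometry
open RegImm

namespace Groth.Agent.S8652

/-- Let i : Y ⟶ X be a Koszul-regular immersion (Koszul-regular: locally, in affine opens of X where the
image is closed, the ideal is generated by a sequence whose Koszul complex is acyclic in nonzero
degrees) and let g : X' ⟶ X be flat. For any cartesian square with i' : Y' ⟶ X' the base change of i
along g, i' is a Koszul-regular immersion. -/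
theorem result {X Y X' Y' : Scheme.{u}} (i : Y ⟶ X) (g : X' ⟶ X) [Flat g]
    (i' : Y' ⟶ X') (g' : Y' ⟶ Y) (hsq : IsPullback g' i' i g)
    (hi : RegImm.IsRegularImmersion .koszul i) : RegImm.IsRegularImmersion .koszul i' := by
  have := hi.1
  have : IsImmersion i' := MorphismProperty.of_isPullback hsq hi.1
  exact Groth.Agent.LCIMor.isRegularImmersion_of_lciMor i'
    (Groth.Agent.LCIMor.lciMor_baseChange i g i' g' hsq (Groth.Agent.LCIMor.lciMor_of_isRegularImmersion i hi))

end Groth.Agent.S8652
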