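import Groth.Statements.S8654
import Groth.Agent.LCIMor.Immersion


set_option autoImplicit false
universe u
open CategoryTheory CategoryTheory.Limits AlgebraicGeometry
open RegImm

namespace Groth.Agent.S8654

/-- Let i : Y ⟶ X and j : Z ⟶ Y be Koszul-regular immersions (not necessarily closed). Then the
composite Z ⟶ X is a Koszul-regular immersion. -/
theorem result {X Y Z : Scheme.{u}} (i : Y ⟶ X) (j : Z ⟶ Y)
    (hi : RegImm.IsRegularImmersion .koszul i) (hj : RegImm.IsRegularImmersion .koszul j) :
    RegImm.IsRegularImmersion .koszul (j ≫ i) := by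
  haveI := hi.1
  haveI := hj.1
  exact Groth.Agent.LCIMor.isRegularImmersion_of_lciMor _ (CategoryTheory.MorphismProperty.comp_mem _ j i
    (Groth.Agent.LCIMor.lciMor_of_isRegularImmersion j hj) (Groth.Agent.LCIMor.lciMor_of_isRegularImmersion i hi))

end Groth.Agent.S8654
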