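import Groth.Statements.S9729
import Groth.Agent.LCIPres.KoszulAt
-- import your own Groth.Agent.* helpers here

set_option autoImplicit false
universe u
open FlatMor

namespace Groth.Agent.S9729

open AlgebraicGeometry CategoryTheory Limits in
/-- Let f : X ⟶ Y and g : Y ⟶ S be morphisms with g smooth. If f ≫ g is a local complete intersection
morphism (Koszul at every point of X) then f is a local complete intersection morphism. -/
theorem result {X Y S : Scheme.{u}} (f : X ⟶ Y) (g : Y ⟶ S) [Smooth g]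
    (h : ∀ x : X, Synt.IsKoszulAt (f ≫ g) x) (x : X) : Synt.IsKoszulAt f x := by
  classical
  rw [LCIPres.isKoszulAt_iff]
  obtain ⟨U, W, e, hU, hW, hxU, hlci⟩ := (LCIPres.isKoszulAt_iff _ x).1 (h x)
  obtain ⟨V, hV, hfxV, hVW⟩ := TopologicalSpace.Opens.isBasis_iff_nbhd.1 Y.isBasis_affineOpens
    (show f x ∈ g ⁻¹ᵁ W from e hxU)
  obtain ⟨b, hbV, hxb⟩ := hU.exists_basicOpen_le (V := f ⁻¹ᵁ V) ⟨x, hfxV⟩ hxU
  have e' : X.basicOpen b ≤ (f ≫ g) ⁻¹ᵁ W := (X.basicOpen_le b).trans e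
  letI aWU : Algebra Γ(S, W) Γ(X, U) := ((f ≫ g).appLE W U e).hom.toAlgebra
  letI aUB : Algebra Γ(X, U) Γ(X, X.basicOpen b) := (X.presheaf.map (homOfLE (X.basicOpen_le b)).op).hom.toAlgebra
  letI aWB : Algebra Γ(S, W) Γ(X, X.basicOpen b) := ((f ≫ g).appLE W (X.basicOpen b) e').hom.toAlgebra
  haveI : IsScalarTower Γ(S, W) Γ(X, U) Γ(X, X.basicOpen b) := .of_algebraMap_eq' <| by
    show ((f ≫ g).appLE W (X.basicOpen b) e').hom = ((f ≫ g).appLE W U e ≫ X.presheaf.map _).hom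
    rw [Scheme.Hom.appLE_map]
  haveI : IsLocalization.Away b Γ(X, X.basicOpen b) := hU.isLocalization_basicOpen b
  have h2 : LCI.IsLCI Γ(S, W) Γ(X, X.basicOpen b) := LCIPres.isLCI_away hlci b _
  letI aWV : Algebra Γ(S, W) Γ(Y, V) := (g.appLE W V hVW).hom.toAlgebra
  haveI : Algebra.Smooth Γ(S, W) Γ(Y, V) := g.smooth_appLE hW hV hVW
  letI aVB : Algebra Γ(Y, V) Γ(X, X.basicOpen b) := (f.appLE V (X.basicOpen b) hbV).hom.toAlgebra
  haveI : IsScalarTower Γ(S, W) Γ(Y, V) Γ(X, X.basicOpen b) := .of_algebraMap_eq' <| by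
    show ((f ≫ g).appLE W (X.basicOpen b) e').hom = (g.appLE W V hVW ≫ f.appLE V (X.basicOpen b) hbV).hom
    rw [Scheme.Hom.appLE_comp_appLE]
  exact ⟨X.basicOpen b, V, hbV, hU.basicOpen b, hV, hxb, LCIPres.isLCI_cancel_smooth h2⟩
end Groth.Agent.S9729
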