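import Groth.Statements.S8657
import Groth.Agent.LCIMor.Immersion
import Groth.Agent.S9729


set_option autoImplicit false
universe u
open CategoryTheory CategoryTheory.Limits AlgebraicGeometry
open Synt

namespace Groth.Agent.S8657

/-- Let i : X ⟶ V and j : X ⟶ V' be immersions and p : V' ⟶ V a smooth morphism with j ≫ p = i. Then i
is a Koszul-regular immersion if and only if j is. -/
theorem result {X V V' : Scheme.{u}} (i : X ⟶ V) [IsImmersion i] (j : X ⟶ V') [IsImmersion j]
    (p : V' ⟶ V) [Smooth p] (h : j ≫ p = i) :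
    RegImm.IsRegularImmersion .koszul i ↔ RegImm.IsRegularImmersion .koszul j := by
  subst h
  rw [Groth.Agent.LCIMor.isRegularImmersion_iff_lciMor, Groth.Agent.LCIMor.isRegularImmersion_iff_lciMor]
  refine ⟨fun hc => (Groth.Agent.LCIMor.lciMor_iff_isKoszulAt j).2 fun x =>
    Groth.Agent.S9729.result j p ((Groth.Agent.LCIMor.lciMor_iff_isKoszulAt _).1 hc) x,
    fun hj => CategoryTheory.MorphismProperty.comp_mem _ j p hj fun U W hU hW e => ?_⟩
  letI := (p.appLE W U e).hom.toAlgebra
  haveI : Algebra.Smooth Γ(V, W) Γ(V', U) := p.smooth_appLE hW hU e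
  exact Groth.Agent.LCIPres.isLCI_of_smooth

end Groth.Agent.S8657
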