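import Groth.Statements.S8660
import Groth.Agent.CIPres.Scheme
import Groth.Agent.LCIPres.KoszulAt


set_option autoImplicit false
universe u
open CategoryTheory CategoryTheory.Limits AlgebraicGeometry
open Synt

namespace Groth.Agent.S8660

/-- Let f : X ⟶ Y be flat and locally of finite presentation. Then f is a local complete intersection
morphism in the factorisation sense (around each point of X, f is locally of finite type and factors
as a Koszul-regular immersion followed by a smooth morphism) if and only if f is a
complete-intersection morphism in the fibrewise sense: flat, locally of finite presentation, and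
every local ring of every fibre is a complete intersection (its completion is a regular local ring
modulo a regular sequence). -/
theorem result {X Y : Scheme.{u}} (f : X ⟶ Y) [Flat f] [LocallyOfFinitePresentation f] :
    (∀ x : X, Synt.IsKoszulAt f x) ↔ CInt.IsCIMorphism f := by
  have key : ∀ x : X, Synt.IsKoszulAt f x ↔ Pi1.IsCompleteIntersection (CInt.fiberStalk f x) := by
    intro x
    rw [Groth.Agent.LCIPres.isKoszulAt_iff, Groth.Agent.CIPres.isCI_fiberStalk_iff]
    constructor
    · rintro ⟨U, V, e, hU, hV, hx, h⟩
      refine ⟨⟨U, hU⟩, ⟨V, hV⟩, e, hx, ?_⟩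
      letI := (f.appLE V U e).hom.toAlgebra
      exact (Groth.Agent.SyntLCI.isSyntomic_iff _ _).2 ⟨f.flat_appLE hV hU e, h⟩
    · rintro ⟨⟨U, hU⟩, ⟨V, hV⟩, e, hx, h⟩
      refine ⟨U, V, e, hU, hV, hx, ?_⟩
      letI := (f.appLE V U e).hom.toAlgebra
      exact ((Groth.Agent.SyntLCI.isSyntomic_iff _ _).1 h).2
  exact ⟨fun h => ⟨inferInstance, inferInstance, fun x => (key x).1 (h x)⟩, fun h x => (key x).2 (h.2.2 x)⟩

end Groth.Agent.S8660
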