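import Groth.Statements.S8666
import Mathlib
-- import your own Groth.Agent.* helpers here

set_option autoImplicit false
universe u
open CAlg

namespace Groth.Agent.S8666

variable {A : Type u} [CommRing A] {M : Type u} [AddCommGroup M] [Module A M]

/-- `s` generates near `p` -/
def Gen (p : Ideal A) (s : M) : Prop := ∀ x : M, ∃ c ∉ p, ∃ a : A, c • x = a • s

theorem Gen.mono {p q : Ideal A} (h : q ≤ p) {s : M} (hs : Gen p s) : Gen q s := fun x => by
  obtain ⟨c, hc, a, ha⟩ := hs x
  exact ⟨c, fun hq => hc (h hq), a, ha⟩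

theorem Gen.span_eq_top {p : Ideal A} [p.IsPrime] {s : M} (hs : Gen p s) :
    Submodule.span (Localization.AtPrime p) {LocalizedModule.mkLinearMap p.primeCompl M s} = ⊤ := by
  refine top_unique fun y _ => ?_
  induction y using LocalizedModule.induction_on with
  | _ x t =>
    obtain ⟨c, hc, a, ha⟩ := hs x
    rw [Submodule.mem_span_singleton]
    refine ⟨Localization.mk a (⟨c, hc⟩ * t), ?_⟩
    rw [LocalizedModule.mkLinearMap_apply, LocalizedModule.mk_smul_mk, mul_one, LocalizedModule.mk_eq]
    refine ⟨1, ?_⟩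
    simp only [one_smul, Submonoid.smul_def, Submonoid.coe_mul, ← ha, smul_smul]
    rw [mul_comm]

theorem exists_unit_gen (p : Ideal A) [p.IsPrime] [Module.Invertible A M] :
    ∃ (f : M →ₗ[A] Localization.AtPrime p), (∃ s, IsUnit (f s)) ∧ ∀ s, IsUnit (f s) → Gen p s := by
  haveI : Module.Free (Localization.AtPrime p) (LocalizedModule p.primeCompl M) :=
    Module.free_of_flat_of_isLocalRing
  obtain ⟨e⟩ := Module.Invertible.free_iff_linearEquiv.1 ‹_›
  refine ⟨(e.toLinearMap.restrictScalars A) ∘ₗ LocalizedModule.mkLinearMap p.primeCompl M, ?_, fun s hs x => ?_⟩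
  · obtain ⟨⟨s, t⟩, hst⟩ := IsLocalizedModule.surj p.primeCompl (LocalizedModule.mkLinearMap p.primeCompl M) (e.symm 1)
    refine ⟨s, ?_⟩
    show IsUnit (e (LocalizedModule.mkLinearMap p.primeCompl M s))
    rw [← hst, Submonoid.smul_def, ← algebraMap_smul (Localization.AtPrime p) (t : A), map_smul, LinearEquiv.apply_symm_apply,
      smul_eq_mul, mul_one]
    exact IsLocalization.map_units _ t
  · obtain ⟨u, hu⟩ := hs
    set r := e (LocalizedModule.mkLinearMap p.primeCompl M x) * (↑u⁻¹ : Localization.AtPrime p)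
    obtain ⟨⟨a, t⟩, hat⟩ := IsLocalization.surj p.primeCompl r
    have h : (t : A) • LocalizedModule.mkLinearMap p.primeCompl M x = a • LocalizedModule.mkLinearMap p.primeCompl M s := by
      apply e.injective
      rw [← algebraMap_smul (Localization.AtPrime p) (t : A), ← algebraMap_smul (Localization.AtPrime p) a,
        map_smul, map_smul, smul_eq_mul, smul_eq_mul, ← hat]
      have : e (LocalizedModule.mkLinearMap p.primeCompl M x) = r * u := by simp [r, mul_assoc]
      rw [this, hu]
      simp only [LinearMap.comp_apply, LinearMap.coe_restrictScalars, LinearEquiv.coe_coe]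
      ring
    rw [← map_smul, ← map_smul, IsLocalizedModule.eq_iff_exists p.primeCompl] at h
    obtain ⟨c, hc⟩ := h
    refine ⟨c * t, mul_mem c.2 t.2, c * a, ?_⟩
    rw [mul_smul, mul_smul]
    exact hc

end Groth.Agent.S8666

namespace Groth.Agent.S8666

/-- Let A be a Noetherian ring, M an invertible A-module and p_1, …, p_k finitely many primes of A
(points of Spec A). Then there is a single element s ∈ M whose image generates M_{p_i} as an
A_{p_i}-module for every i, i.e. s is a basis of the stalk of M at each of the given points. -/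
theorem result (A : Type u) [CommRing A] [IsNoetherianRing A]
    (M : Type u) [AddCommGroup M] [Module A M] [Module.Invertible A M] (ι : Type) [Finite ι] (p : ι → PrimeSpectrum A) :
    ∃ s : M, ∀ i : ι, Submodule.span (Localization.AtPrime (p i).asIdeal)
      {LocalizedModule.mkLinearMap (p i).asIdeal.primeCompl M s} = ⊤ := by
  classical
  haveI := Fintype.ofFinite ι
  let P : Finset (PrimeSpectrum A) := Finset.univ.image p
  let Pm : Finset (PrimeSpectrum A) := P.filter fun x => ∀ y ∈ P, x ≤ y → x = y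
  have hmax : ∀ x ∈ P, ∃ y ∈ Pm, x ≤ y := by
    intro x hx
    obtain ⟨y, hy, hmx⟩ := (P.filter (x ≤ ·)).exists_maximal ⟨x, Finset.mem_filter.2 ⟨hx, le_rfl⟩⟩
    rw [Finset.mem_filter] at hy
    refine ⟨y, Finset.mem_filter.2 ⟨hy.1, fun z hz hyz => le_antisymm hyz ?_⟩, hy.2⟩
    exact hmx (Finset.mem_filter.2 ⟨hz, hy.2.trans hyz⟩) hyz
  choose f hf hgen using fun x : PrimeSpectrum A => exists_unit_gen (M := M) x.asIdeal
  choose t ht using hf
  have he : ∀ x ∈ Pm, ∃ e : A, e ∉ x.asIdeal ∧ ∀ y ∈ Pm, y ≠ x → e ∈ y.asIdeal := by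
    intro x hx
    have h : ¬ (Pm.erase x).inf (fun y => y.asIdeal) ≤ x.asIdeal := fun hle => by
      obtain ⟨y, hy, hyx⟩ := x.isPrime.inf_le'.1 hle
      obtain ⟨hne, hy'⟩ := Finset.mem_erase.1 hy
      exact hne ((Finset.mem_filter.1 hy').2 x (Finset.mem_filter.1 hx).1 hyx)
    obtain ⟨e, he, hex⟩ := SetLike.not_le_iff_exists.1 h
    exact ⟨e, hex, fun y hy hne => Finset.inf_le (f := fun y : PrimeSpectrum A => y.asIdeal) (Finset.mem_erase.2 ⟨hne, hy⟩) he⟩
  choose! e he1 he2 using he
  refine ⟨∑ x ∈ Pm, e x • t x, fun i => ?_⟩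
  obtain ⟨y, hy, hle⟩ := hmax (p i) (Finset.mem_image.2 ⟨i, Finset.mem_univ _, rfl⟩)
  refine Gen.span_eq_top (Gen.mono hle (hgen y _ ?_))
  rw [map_sum, ← Finset.add_sum_erase _ _ hy, map_smul, Algebra.smul_def]
  have hu : IsUnit (algebraMap A (Localization.AtPrime y.asIdeal) (e y) * f y (t y)) :=
    (IsLocalization.map_units (M := y.asIdeal.primeCompl) _ ⟨e y, he1 y hy⟩).mul (ht y)
  by_contra hnu
  have hsum : (∑ x ∈ Pm.erase y, f y (e x • t x)) ∈ IsLocalRing.maximalIdeal (Localization.AtPrime y.asIdeal) :=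
    Ideal.sum_mem _ fun x hx => by
      obtain ⟨hne, hx'⟩ := Finset.mem_erase.1 hx
      rw [map_smul, Algebra.smul_def]
      exact Ideal.mul_mem_right _ _ ((IsLocalization.AtPrime.to_map_mem_maximal_iff _ y.asIdeal (e x)).2 (he2 x hx' y hy hne.symm))
  have := Ideal.sub_mem _ ((IsLocalRing.mem_maximalIdeal _).2 hnu) hsum
  rw [add_sub_cancel_right] at this
  exact (IsLocalRing.mem_maximalIdeal _).1 this hu

end Groth.Agent.S8666
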