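import Groth.Statements.S8678
import Groth.Agent.Lam.Ops

set_option autoImplicit false
universe u
open Finset
open LambdaRing

namespace Groth.Agent.S8678
theorem telescope {K : Type*} [CommRing K] (f : PowerSeries K) (m : ℕ) :
    ∑ i ∈ Finset.range (m + 1), (-1 : K) ^ i * PowerSeries.coeff i (f * (1 + PowerSeries.X))
      = (-1 : K) ^ m * PowerSeries.coeff m f := by
  induction m with
  | zero => simp
  | succ m ih =>
    rw [Finset.sum_range_succ, ih, mul_add f, mul_one, map_add, PowerSeries.coeff_succ_mul_X, pow_succ]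
    ring


/-- As the identity it proves in the pre-λ-ring K(Y') of the exceptional divisor: let K be a pre-λ-ring
(λ^0 = 1, λ^1 = id, additive formula) with λ^k(1) = 0 for all k ≥ 2, let d ≥ 2, and let F, L, N' ∈ K
satisfy λ^j(L) = 0 for j ≥ 2 (L is the class of an invertible module), λ^i(N') = 0 for i ≥ d − 1 (N'
is the class of a bundle of rank d − 2) and F + L = N' + 2 (for the blowing up of a regular
immersion of codimension d: on the exceptional divisor the pulled-back conormal class is F + L, and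
N = N' + 2). Then 1 − L divides λ_{−1}(F) = Σ_{i<d} (−1)^i λ^i(F). (The published proof uses only
additivity of λ_t and λ_t(1) = 1 + t, the hypotheses taken here.) -/
theorem result (K : Type u) [CommRing K] [LambdaRing.LambdaOps K]
    (h1 : ∀ k : ℕ, 2 ≤ k → LambdaRing.LambdaOps.lam k (1 : K) = 0) (d : ℕ) (hd : 2 ≤ d) (F L N' : K)
    (hL : ∀ j : ℕ, 2 ≤ j → LambdaRing.LambdaOps.lam j L = 0) (hN' : ∀ i : ℕ, d - 1 ≤ i → LambdaRing.LambdaOps.lam i N' = 0)
    (hrel : F + L = N' + 2) :
    (1 - L) ∣ ∑ i ∈ range d, (-1 : K) ^ i * LambdaRing.LambdaOps.lam i F := by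
  let G := LambdaRing.lamSeries N' * (1 + PowerSeries.X)
  let J : PowerSeries K := PowerSeries.mk fun k => (-L) ^ k
  let H := G * J
  have hLJ : (1 + PowerSeries.C L * PowerSeries.X) * J = 1 := Groth.Agent.Lam.mk_neg_pow_mul L
  have h2 : LambdaRing.lamSeries F * LambdaRing.lamSeries L
      = LambdaRing.lamSeries N' * ((1 + PowerSeries.X) * (1 + PowerSeries.X)) := by
    rw [← Groth.Agent.Lam.lamSeries_add, hrel, Groth.Agent.Lam.lamSeries_add,
      show (2 : K) = 1 + 1 by norm_num, Groth.Agent.Lam.lamSeries_add, Groth.Agent.Lam.lamSeries_linear h1]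
    simp
  rw [Groth.Agent.Lam.lamSeries_linear hL] at h2
  have hF : LambdaRing.lamSeries F = H * (1 + PowerSeries.X) := by
    calc LambdaRing.lamSeries F = LambdaRing.lamSeries F * ((1 + PowerSeries.C L * PowerSeries.X) * J) := by rw [hLJ, mul_one]
      _ = _ := by rw [← mul_assoc, h2]; simp only [H, G]; ring
  obtain ⟨m, rfl⟩ : ∃ m, d = m + 1 := ⟨d - 1, by omega⟩
  have hsum : ∑ i ∈ Finset.range (m + 1), (-1 : K) ^ i * LambdaRing.LambdaOps.lam i F
      = (-1 : K) ^ m * PowerSeries.coeff m H := by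
    rw [← telescope H m]
    exact Finset.sum_congr rfl fun i _ => by rw [← hF, Groth.Agent.Lam.coeff_lamSeries]
  rw [hsum]
  refine Dvd.dvd.mul_left ?_ _
  rw [← Ideal.mem_span_singleton, ← Ideal.Quotient.eq_zero_iff_mem]
  have hL' : Ideal.Quotient.mk (Ideal.span {1 - L}) L = 1 := by
    have h0 : Ideal.Quotient.mk (Ideal.span {1 - L}) (1 - L) = 0 :=
      Ideal.Quotient.eq_zero_iff_mem.mpr (Ideal.mem_span_singleton_self _)
    rw [map_sub, map_one, sub_eq_zero] at h0
    exact h0.symm
  have hG := telescope (LambdaRing.lamSeries N') m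
  rw [Groth.Agent.Lam.coeff_lamSeries, hN' m (by omega), mul_zero] at hG
  have hG' := congrArg (Ideal.Quotient.mk (Ideal.span {1 - L})) hG
  simp only [map_sum, map_mul, map_pow, map_neg, map_one, map_zero] at hG'
  simp only [H, PowerSeries.coeff_mul, J, PowerSeries.coeff_mk,
    Finset.Nat.sum_antidiagonal_eq_sum_range_succ_mk, map_sum, map_mul, map_pow, map_neg, hL']
  have e : ∀ i ∈ Finset.range (m + 1),
      Ideal.Quotient.mk (Ideal.span {1 - L}) (PowerSeries.coeff i G) * (-1) ^ (m - i)
        = (-1) ^ m * ((-1) ^ i * Ideal.Quotient.mk (Ideal.span {1 - L}) (PowerSeries.coeff i G)) := by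
    intro i hi
    have hi' : i ≤ m := by simpa [Nat.lt_succ_iff] using hi
    rw [← mul_assoc, ← pow_add, show m + i = (m - i) + 2 * i by omega, pow_add, pow_mul]
    simp [mul_comm]
  rw [Finset.sum_congr rfl e, ← Finset.mul_sum, hG', mul_zero]

end Groth.Agent.S8678
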