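import Groth.Statements.S8697
import Groth.Agent.Lam.GammaFilFree

set_option autoImplicit false
universe u v
open Finset
open LambdaRing

namespace Groth.Agent.S8697

/-- Let K be a binomial ring with its binomial λ-structure and B a λ-ring in the strict sense which is
an augmented K-λ-algebra with augmentation ε. Let x ∈ B satisfy ε(x) = 0 and γ^k(x) = 0 for every k
> n, and assume that γ^1(x), …, γ^n(x) are algebraically independent over K and generate B as a
K-algebra — so B is the K-λ-algebra generated by one element subject to the relations γ^k = 0 for k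
> n, a polynomial ring K[γ^1 x, …, γ^n x]. Then for every k, the k-th ideal Fil^k B of the
γ-filtration (generated by the products of γ^{i}(z), ε(z) = 0, of total weight ≥ k) is the ideal
generated by the monomials ∏_j (γ^j x)^{e_j} with Σ_j j·e_j ≥ k: the λ-ring filtration is the
filtration by the weight in the γ^j x. (With λ in place of γ — relations λ^k x = 0 for k > n and
weights in the λ^j x — the assertion fails already for n = 1, where γ^i(x) = x for all i ≥ 1 puts x
in every Fil^k while x is not in the ideal (x²); the form with γ stated here is the one the proof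
establishes.) The hypotheses hP and hQ, existence of the universal polynomials, are true statements
carried so that the identities of B can be used at every index. -/
theorem result
    (K : Type u) [CommRing K] [LambdaRing.LambdaOps K] [BinomialRing K] (hKb : LambdaRing.IsBinomial K)
    (hK : LambdaRing.IsSpecial K)
    (B : Type v) [CommRing B] [LambdaRing.LambdaOps B] [Algebra K B] (hB : LambdaRing.IsSpecial B)
    (hP : ∀ n : ℕ, ∃ P : MvPolynomial (Fin n ⊕ Fin n) ℤ, LambdaRing.IsMulPoly n P)
    (hQ : ∀ i j : ℕ, ∃ Q : MvPolynomial (Fin (i * j)) ℤ, LambdaRing.IsCompPoly i j Q)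
    (ε : B →ₐ[K] K) (hε : LambdaRing.IsAugLambdaAlg K B ε)
    (n : ℕ) (x : B) (hx : ε x = 0) (hγ : ∀ k : ℕ, n < k → LambdaRing.gamma k x = 0)
    (hind : AlgebraicIndependent K (fun j : Fin n => LambdaRing.gamma ((j : ℕ) + 1) x))
    (hgen : Algebra.adjoin K (Set.range fun j : Fin n => LambdaRing.gamma ((j : ℕ) + 1) x) = ⊤)
    (k : ℕ) :
    LambdaRing.gammaFil (ε : B →+* K) k =
      Ideal.span {m : B | ∃ e : Fin n → ℕ, k ≤ ∑ j : Fin n, ((j : ℕ) + 1) * e j ∧
        m = ∏ j : Fin n, LambdaRing.gamma ((j : ℕ) + 1) x ^ e j} := by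
  have hid : LambdaRing.IsAugLambdaAlg K K (AlgHom.id K K) := ⟨fun _ _ => rfl, fun _ _ => rfl⟩
  have hgen' : Algebra.adjoin K (Set.range fun j : ℕ => LambdaRing.gamma (j + 1) x) = ⊤ := by
    rw [eq_top_iff, ← hgen]
    refine Algebra.adjoin_mono ?_
    rintro _ ⟨j, rfl⟩
    exact ⟨(j : ℕ), rfl⟩
  rw [Groth.Agent.Lam.freeFil_eq hKb hid hB hε.isLambdaAlg hε (fun a => by simp) x hx hgen' k]
  apply le_antisymm
  · rw [Groth.Agent.Lam.freeFil, Ideal.span_le]
    rintro _ ⟨e, a, ha, rfl⟩
    rcases Nat.eq_zero_or_pos (k - e.sum fun j m => (j + 1) * m) with h | h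
    · by_cases hbig : ∃ j ∈ e.support, n ≤ j
      · obtain ⟨j, hj, hnj⟩ := hbig
        rw [Finsupp.prod, Finset.prod_eq_zero hj, mul_zero]
        · exact zero_mem _
        · rw [hγ (j + 1) (by omega), zero_pow (Finsupp.mem_support_iff.mp hj)]
      · simp only [not_exists, not_and, not_le] at hbig
        refine Ideal.mul_mem_left _ _ (Ideal.subset_span ⟨fun j => e j, ?_, ?_⟩)
        · rw [Fin.sum_univ_eq_sum_range (fun j => (j + 1) * e j) n]
          have hs : (e.sum fun j m => (j + 1) * m) = ∑ j ∈ Finset.range n, (j + 1) * e j :=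
            Finsupp.sum_of_support_subset e (fun j hj => Finset.mem_range.mpr (hbig j hj)) _ (fun i _ => mul_zero _)
          omega
        · rw [Fin.prod_univ_eq_prod_range (fun j => LambdaRing.gamma (j + 1) x ^ e j) n]
          exact Finsupp.prod_of_support_subset e (fun j hj => Finset.mem_range.mpr (hbig j hj)) _ (fun i _ => pow_zero _)
    · have ha' : a ∈ LambdaRing.gammaFil (RingHom.id K) (k - e.sum fun j m => (j + 1) * m) := ha
      rw [Groth.Agent.Lam.gammaFil_id_pos h, Ideal.mem_bot] at ha'
      rw [ha', map_zero, zero_mul]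
      exact zero_mem _
  · rw [Ideal.span_le]
    rintro _ ⟨e, he, rfl⟩
    have hF := Groth.Agent.Lam.isMulFil_gammaFil (RingHom.id K)
    let e' : ℕ →₀ ℕ := (Finsupp.equivFunOnFinite.symm e).mapDomain (fun j : Fin n => (j : ℕ))
    refine Ideal.subset_span ⟨e', 1, ?_, ?_⟩
    · have : (e'.sum fun j m => (j + 1) * m) = ∑ j : Fin n, ((j : ℕ) + 1) * e j := by
        rw [Finsupp.sum_mapDomain_index (by simp) (by intros; ring), Finsupp.sum_fintype _ _ (by simp)]
        simp
      rw [this, show k - ∑ j : Fin n, ((j : ℕ) + 1) * e j = 0 by omega]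
      exact hF.top ▸ Submodule.mem_top
    · rw [map_one, one_mul, Finsupp.prod_mapDomain_index (by simp) (by intros; rw [pow_add]),
        Finsupp.prod_fintype _ _ (by simp)]
      simp

end Groth.Agent.S8697
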