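import Groth.Statements.S8699
import Groth.Agent.Lam.Special

set_option autoImplicit false
universe u
open LambdaRing

namespace Groth.Agent.S8699

/-- A binomial ring K (no additive torsion and all binomial coefficients C(x, n) defined) with its
binomial λ-structure λ^n(x) = C(x, n), i.e. λ_t(x) = (1 + t)^x, is a λ-ring in the strict sense:
λ_t(1) = 1 + t, λ^n(xy) = P_n(λ^1 x, …; λ^1 y, …) and λ^j(λ^i x) = Q_{i,j}(λ^1 x, …) for the
universal polynomials. In particular the integers with λ^n(m) = C(m, n) form a λ-ring. -/
theorem result (K : Type u) [CommRing K] [LambdaRing.LambdaOps K] [BinomialRing K]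
    (hKb : LambdaRing.IsBinomial K) : LambdaRing.IsSpecial K := by
  letI : IsAddTorsionFree K := BinomialRing.toIsAddTorsionFree
  have key : ∀ (k : ℕ) (x : K), LambdaRing.adamsOp (k + 1) x = x := by
    intro k x
    have hd : Groth.Agent.Lam.logD (LambdaRing.lamSeries x)
        = PowerSeries.C x * (PowerSeries.mk fun n => (-1 : K) ^ n) := by
      refine Groth.Agent.Lam.logD_eq_of_mul (Groth.Agent.Lam.constantCoeff_lamSeries x) ?_
      have h1 : PowerSeries.derivative K (LambdaRing.lamSeries x) * (1 + PowerSeries.X)
          = PowerSeries.C x * LambdaRing.lamSeries x := by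
        ext n
        rw [mul_add, mul_one, map_add, PowerSeries.coeff_C_mul, PowerSeries.coeff_derivative,
          Groth.Agent.Lam.coeff_lamSeries, hKb]
        have hstep : ∀ m : ℕ, Ring.choose x (m + 1) * ((m : K) + 1) = Ring.choose x m * (x - (m : K)) := by
          intro m
          apply nsmul_right_injective m.factorial_ne_zero
          show m.factorial • (_ : K) = m.factorial • (_ : K)
          have a := Ring.descPochhammer_eq_factorial_smul_choose x (m + 1)
          have b := Ring.descPochhammer_eq_factorial_smul_choose x m
          rw [descPochhammer_succ_right, Polynomial.smeval_mul, Polynomial.smeval_sub, Polynomial.smeval_X,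
            Polynomial.smeval_natCast, b, Nat.factorial_succ] at a
          simp only [nsmul_eq_mul, npow_one, npow_zero, mul_one, Nat.cast_mul, Nat.cast_succ] at a ⊢
          linear_combination -a
        rcases n with _ | n
        · rw [PowerSeries.coeff_zero_mul_X, Groth.Agent.Lam.coeff_lamSeries, hKb, hstep 0]
          simp [mul_comm]
        · rw [PowerSeries.coeff_succ_mul_X, PowerSeries.coeff_derivative,
            Groth.Agent.Lam.coeff_lamSeries, hKb, hstep]
          push_cast
          linear_combination
      have h2 := Groth.Agent.Lam.mk_neg_pow_mul (1 : K)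
      rw [map_one, one_mul] at h2
      calc PowerSeries.C x * (PowerSeries.mk fun n => (-1 : K) ^ n) * LambdaRing.lamSeries x
          = (PowerSeries.C x * LambdaRing.lamSeries x) * (PowerSeries.mk fun n => (-1 : K) ^ n) := by ring
        _ = _ := by rw [← h1, mul_assoc, h2, mul_one]
    rw [Groth.Agent.Lam.adamsOp_succ, Groth.Agent.Lam.psOp, hd, PowerSeries.coeff_C_mul,
      PowerSeries.coeff_mk, mul_left_comm, ← mul_pow]
    simp
  have key' : ∀ k : ℕ, 1 ≤ k → ∀ x : K, LambdaRing.adamsOp k x = x := fun k hk x => by
    obtain ⟨a, rfl⟩ : ∃ a, k = a + 1 := ⟨k - 1, by omega⟩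
    exact key a x
  refine Groth.Agent.Lam.isSpecial_of_adamsOp (fun k hk => key' k hk 1) (fun k hk x y => ?_)
    (fun k k' hk hk' x => ?_)
  · rw [key' k hk, key' k hk, key' k hk]
  · rw [key' k' hk', key' k hk, key' (k * k') (Nat.one_le_iff_ne_zero.mpr (Nat.mul_ne_zero (by omega) (by omega)))]

end Groth.Agent.S8699
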