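import Groth.Statements.S8702
import Groth.Agent.Lam.Special
import Mathlib.Algebra.Module.Rat

set_option autoImplicit false
universe u
open LambdaRing

namespace Groth.Agent.S8702
/-- coefficients of `exp ∫ Σ (-1)^k ψ^(k+1)(x) t^k` -/
noncomputable def cfun {K : Type*} [CommRing K] [Algebra ℚ K] (ψ : ℕ → K →+ K) (x : K) : ℕ → K
  | 0 => 1
  | n + 1 => algebraMap ℚ K (1 / (n + 1 : ℚ)) *
      ∑ i : Fin (n + 1), cfun ψ x i.1 * ((-1) ^ (n - i.1) * ψ (n - i.1 + 1) x)

theorem cfun_logD {K : Type*} [CommRing K] [Algebra ℚ K] (ψ : ℕ → K →+ K) (x : K) :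
    Groth.Agent.Lam.logD (PowerSeries.mk (cfun ψ x)) = PowerSeries.mk (fun k => (-1) ^ k * ψ (k + 1) x) := by
  refine Groth.Agent.Lam.logD_eq_of_mul ?_ ?_
  · rw [← PowerSeries.coeff_zero_eq_constantCoeff_apply, PowerSeries.coeff_mk, cfun]
  · ext n
    rw [mul_comm, PowerSeries.coeff_derivative, PowerSeries.coeff_mk, PowerSeries.coeff_mul,
      Finset.Nat.sum_antidiagonal_eq_sum_range_succ_mk, cfun, Fin.sum_univ_eq_sum_range
      (fun i => cfun ψ x i * ((-1) ^ (n - i) * ψ (n - i + 1) x)) (n + 1)]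
    simp only [PowerSeries.coeff_mk]
    have hh : algebraMap ℚ K (1 / (n + 1 : ℚ)) * ((n : K) + 1) = 1 := by
      rw [show ((n : K) + 1) = algebraMap ℚ K ((n : ℚ) + 1) by simp, ← map_mul]
      rw [one_div_mul_cancel (by positivity), map_one]
    linear_combination (-(∑ i ∈ Finset.range (n + 1), cfun ψ x i * ((-1) ^ (n - i) * ψ (n - i + 1) x))) * hh

theorem cfun_psOp {K : Type*} [CommRing K] [Algebra ℚ K] (ψ : ℕ → K →+ K) (x : K) (k : ℕ) :
    Groth.Agent.Lam.psOp (PowerSeries.mk (cfun ψ x)) k = ψ (k + 1) x := by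
  rw [Groth.Agent.Lam.psOp, cfun_logD, PowerSeries.coeff_mk, ← mul_assoc, ← mul_pow]
  simp

theorem cfun_const {K : Type*} [CommRing K] [Algebra ℚ K] (ψ : ℕ → K →+ K) (x : K) :
    PowerSeries.constantCoeff (PowerSeries.mk (cfun ψ x)) = 1 := by
  rw [← PowerSeries.coeff_zero_eq_constantCoeff_apply, PowerSeries.coeff_mk, cfun]


/-- Let K be a commutative ring which is an algebra over the rationals, and let ψ^k : K → K, k ≥ 1, be
additive maps with ψ^1 the identity. Then there is one and only one pre-λ-structure on K whose Adams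
operations (defined through the logarithmic derivative of λ_t) are the ψ^k for every k ≥ 1, namely
λ_t(x) = exp(Σ_{k ≥ 1} (−1)^{k−1} ψ^k(x) t^k / k): in characteristic zero, pre-λ-structures and
families of additive operations ψ^k with ψ^1 = id determine each other. (The value of the family at
k = 0 is ignored.) -/
theorem result (K : Type u) [CommRing K] [Algebra ℚ K]
    (ψ : ℕ → K →+ K) (hψ : ψ 1 = AddMonoidHom.id K) :
    ∃! L : LambdaRing.LambdaOps K, ∀ k : ℕ, 1 ≤ k → ∀ x : K, @LambdaRing.adamsOp K _ L k x = ψ k x := by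
  have : IsAddTorsionFree K := IsAddTorsionFree.of_module_rat K
  have hadd : ∀ x y : K, PowerSeries.mk (cfun ψ (x + y))
      = PowerSeries.mk (cfun ψ x) * PowerSeries.mk (cfun ψ y) := fun x y =>
    Groth.Agent.Lam.eq_of_psOp_eq (cfun_const ψ _) (by rw [map_mul, cfun_const, cfun_const, one_mul]) fun k => by
      rw [Groth.Agent.Lam.psOp_mul (cfun_const ψ x) (cfun_const ψ y), cfun_psOp, cfun_psOp, cfun_psOp,
        map_add]
  let L : LambdaRing.LambdaOps K :=
    { lam := fun i x => cfun ψ x i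
      lam_zero := fun x => cfun.eq_1 ψ x
      lam_one := fun x => by simp [cfun, hψ]
      lam_add := fun k x y => by
        have := congrArg (PowerSeries.coeff k) (hadd x y)
        rw [PowerSeries.coeff_mk, PowerSeries.coeff_mul,
          Finset.Nat.sum_antidiagonal_eq_sum_range_succ_mk] at this
        simpa using this }
  have hL : ∀ k : ℕ, 1 ≤ k → ∀ x : K, @LambdaRing.adamsOp K _ L k x = ψ k x := by
    intro k hk x
    obtain ⟨a, rfl⟩ : ∃ a, k = a + 1 := ⟨k - 1, by omega⟩
    exact cfun_psOp ψ x a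
  refine ⟨L, hL, fun L' hL' => ?_⟩
  have e : ∀ x : K, @LambdaRing.lamSeries K _ L' x = @LambdaRing.lamSeries K _ L x := fun x =>
    Groth.Agent.Lam.eq_of_psOp_eq (@Groth.Agent.Lam.constantCoeff_lamSeries K _ L' x)
      (@Groth.Agent.Lam.constantCoeff_lamSeries K _ L x) fun k =>
      (hL' (k + 1) (Nat.le_add_left 1 k) x).trans (hL (k + 1) (Nat.le_add_left 1 k) x).symm
  have el : L'.lam = L.lam := by
    funext i x
    have := congrArg (PowerSeries.coeff i) (e x)
    simpa [LambdaRing.lamSeries] using this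
  cases L'
  cases hLL : L
  rw [hLL] at el
  subst el
  rfl

end Groth.Agent.S8702
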