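import Groth.Statements.S8703
import Groth.Agent.Lam.Special
import Mathlib.Algebra.Module.Rat

set_option autoImplicit false
universe u
open LambdaRing

namespace Groth.Agent.S8703

/-- The Adams operations commute with λ-homomorphisms, and conversely, if K and K' are pre-λ-rings which
are algebras over the rationals, a ring homomorphism f : K → K' commuting with the ψ^k for all k ≥ 1
is a λ-homomorphism (commutes with all λ^i), the λ^i being expressible through the ψ^k in
characteristic zero. -/
theorem result (K K' : Type u) [CommRing K] [CommRing K']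
    [LambdaRing.LambdaOps K] [LambdaRing.LambdaOps K'] [Algebra ℚ K] [Algebra ℚ K'] (f : K →+* K') :
    LambdaRing.IsLambdaHom f ↔
      ∀ k : ℕ, 1 ≤ k → ∀ x : K, f (LambdaRing.adamsOp k x) = LambdaRing.adamsOp k (f x) := by
  constructor
  · intro h k hk x
    obtain ⟨a, rfl⟩ : ∃ a, k = a + 1 := ⟨k - 1, by omega⟩
    rw [Groth.Agent.Lam.adamsOp_succ, Groth.Agent.Lam.adamsOp_succ,
      Groth.Agent.Lam.map_psOp f (Groth.Agent.Lam.constantCoeff_lamSeries x)]
    congr 1
    ext n
    rw [PowerSeries.coeff_map, Groth.Agent.Lam.coeff_lamSeries, Groth.Agent.Lam.coeff_lamSeries, h]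
  · intro h i x
    have : IsAddTorsionFree K' := IsAddTorsionFree.of_module_rat K'
    have e : PowerSeries.map f (LambdaRing.lamSeries x) = LambdaRing.lamSeries (f x) :=
      Groth.Agent.Lam.eq_of_psOp_eq
        (Groth.Agent.Lam.constantCoeff_map_one f (Groth.Agent.Lam.constantCoeff_lamSeries x))
        (Groth.Agent.Lam.constantCoeff_lamSeries _) fun k => by
        rw [← Groth.Agent.Lam.map_psOp f (Groth.Agent.Lam.constantCoeff_lamSeries x)]
        exact h (k + 1) (Nat.le_add_left 1 k) x
    have := congrArg (PowerSeries.coeff i) e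
    rwa [PowerSeries.coeff_map, Groth.Agent.Lam.coeff_lamSeries, Groth.Agent.Lam.coeff_lamSeries] at this

end Groth.Agent.S8703
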