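import Groth.Statements.S8704
import Groth.Agent.Lam.Ops

set_option autoImplicit false
universe u v
open LambdaRing

namespace Groth.Agent.S8704
/-- the candidate -/
def M {K : Type u} {A : Type v} [CommRing K] [CommRing A] [LambdaRing.LambdaOps A] [Algebra K A]
    (ε : A →ₐ[K] K) (S : Set A) (n : ℕ) : Submodule K A :=
  Submodule.span K {y : A | ∃ l : List (ℕ × A), (∀ p ∈ l, p.2 ∈ S) ∧ n ≤ (l.map Prod.fst).sum ∧
        y = (l.map fun p => LambdaRing.gamma p.1 (p.2 - algebraMap K A (ε p.2))).prod}

theorem M_anti {K : Type u} {A : Type v} [CommRing K] [CommRing A] [LambdaRing.LambdaOps A] [Algebra K A]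
    (ε : A →ₐ[K] K) (S : Set A) {m n : ℕ} (h : n ≤ m) : M ε S m ≤ M ε S n :=
  Submodule.span_mono fun _ ⟨l, hl, hle, hy⟩ => ⟨l, hl, h.trans hle, hy⟩

theorem M_mul {K : Type u} {A : Type v} [CommRing K] [CommRing A] [LambdaRing.LambdaOps A] [Algebra K A]
    (ε : A →ₐ[K] K) (S : Set A) {m n : ℕ} {a b : A} (ha : a ∈ M ε S m) (hb : b ∈ M ε S n) :
    a * b ∈ M ε S (m + n) := by
  induction ha using Submodule.span_induction with
  | mem y hy =>
    induction hb using Submodule.span_induction with
    | mem z hz =>
      obtain ⟨l, hl, hle, rfl⟩ := hy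
      obtain ⟨l', hl', hle', rfl⟩ := hz
      refine Submodule.subset_span ⟨l ++ l', fun p hp => (List.mem_append.mp hp).elim (hl p) (hl' p), ?_, ?_⟩
      · simp only [List.map_append, List.sum_append]; omega
      · simp
    | zero => rw [mul_zero]; exact zero_mem _
    | add p q _ _ hp hq => rw [mul_add]; exact add_mem hp hq
    | smul c p _ hp => rw [mul_smul_comm]; exact Submodule.smul_mem _ c hp
  | zero => rw [zero_mul]; exact zero_mem _
  | add p q _ _ hp hq => rw [add_mul]; exact add_mem hp hq
  | smul c p _ hp => rw [smul_mul_assoc]; exact Submodule.smul_mem _ c hp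

theorem M_one {K : Type u} {A : Type v} [CommRing K] [CommRing A] [LambdaRing.LambdaOps A] [Algebra K A]
    (ε : A →ₐ[K] K) (S : Set A) : (1 : A) ∈ M ε S 0 :=
  Submodule.subset_span ⟨[], by simp, le_rfl, rfl⟩


/-- Let K and A be λ-rings in the strict sense, A an augmented K-λ-algebra with augmentation ε : A → K,
and Fil^n A its γ-filtration, the ideal generated by the products γ^{i_1}(x_1) ⋯ γ^{i_k}(x_k) with
i_1 + ⋯ + i_k ≥ n and all ε(x_r) = 0. If a subset S generates A as an abelian group, then Fil^n A,
as a K-submodule of A, is generated over K by the products γ^{i_1}(s_1 − ε(s_1)) ⋯ γ^{i_k}(s_k −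
ε(s_k)) with s_r ∈ S and i_1 + ⋯ + i_k ≥ n. -/
theorem result
    (K : Type u) [CommRing K] [LambdaRing.LambdaOps K] (hK : LambdaRing.IsSpecial K)
    (A : Type v) [CommRing A] [LambdaRing.LambdaOps A] [Algebra K A] (hA : LambdaRing.IsSpecial A)
    (ε : A →ₐ[K] K) (hε : LambdaRing.IsAugLambdaAlg K A ε)
    (S : Set A) (hS : AddSubgroup.closure S = ⊤) (n : ℕ) :
    (LambdaRing.gammaFil (ε : A →+* K) n).restrictScalars K =
      Submodule.span K {y : A | ∃ l : List (ℕ × A), (∀ p ∈ l, p.2 ∈ S) ∧ n ≤ (l.map Prod.fst).sum ∧
        y = (l.map fun p => LambdaRing.gamma p.1 (p.2 - algebraMap K A (ε p.2))).prod} := by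
  change _ = M ε S n
  have hgam : ∀ a : A, ∀ r, LambdaRing.gamma r (a - algebraMap K A (ε a)) ∈ M ε S r := by
    intro a
    have ha : a ∈ AddSubgroup.closure S := by rw [hS]; trivial
    induction ha using AddSubgroup.closure_induction with
    | mem s hs =>
      exact fun r => Submodule.subset_span ⟨[(r, s)], by simpa using hs, by simp, by simp⟩
    | zero =>
      intro r
      rw [map_zero, map_zero, sub_zero, ← Groth.Agent.Lam.coeff_gamSeries, Groth.Agent.Lam.gamSeries_zero,
        PowerSeries.coeff_one]
      split
      · next h => subst h; exact M_one ε S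
      · exact zero_mem _
    | add a b _ _ ha hb =>
      intro r
      rw [map_add, map_add, add_sub_add_comm, Groth.Agent.Lam.gamma_add']
      refine sum_mem fun i hi => ?_
      have hir : i + (r - i) = r := by simp at hi; omega
      have := M_mul ε S (ha i) (hb (r - i))
      rwa [hir] at this
    | neg a _ ha =>
      intro r
      rw [map_neg, map_neg, show -a - -(algebraMap K A (ε a)) = -(a - algebraMap K A (ε a)) by ring]
      set y := a - algebraMap K A (ε a) with hy
      induction r using Nat.strong_induction_on with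
      | _ r ih =>
        rcases r with _ | r
        · rw [Groth.Agent.Lam.gamma_zero]; exact M_one ε S
        · have h0 : ∑ i ∈ Finset.range (r + 1 + 1), LambdaRing.gamma i y * LambdaRing.gamma (r + 1 - i) (-y) = 0 := by
            rw [← Groth.Agent.Lam.gamma_add', add_neg_cancel, ← Groth.Agent.Lam.coeff_gamSeries,
              Groth.Agent.Lam.gamSeries_zero]
            simp
          rw [Finset.sum_range_succ', Groth.Agent.Lam.gamma_zero, one_mul, Nat.sub_zero, add_eq_zero_iff_eq_neg'] at h0
          rw [h0]
          refine neg_mem (sum_mem fun i hi => ?_)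
          have hir : i + 1 + (r + 1 - (i + 1)) = r + 1 := by simp at hi; omega
          have := M_mul ε S (ha (i + 1)) (ih (r + 1 - (i + 1)) (by omega))
          rwa [hir] at this
  have hleft : ∀ (k : ℕ) (a y : A), y ∈ M ε S k → a * y ∈ M ε S k := by
    intro k a y hy
    have h1 := hgam a 1
    rw [Groth.Agent.Lam.gamma_one] at h1
    have := add_mem (M_anti ε S (Nat.le_add_left k 1) (M_mul ε S h1 hy)) (Submodule.smul_mem _ (ε a) hy)
    rwa [Algebra.smul_def, ← add_mul, sub_add_cancel] at this
  refine le_antisymm ?_ (Submodule.span_le.mpr ?_)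
  · intro y hy
    simp only [Submodule.restrictScalars_mem, LambdaRing.gammaFil] at hy
    induction hy using Submodule.span_induction with
    | mem z hz =>
      obtain ⟨l, hl, hle, rfl⟩ := hz
      refine M_anti ε S hle ?_
      clear hle
      induction l with
      | nil => exact M_one ε S
      | cons a l ih =>
        simp only [List.map_cons, List.prod_cons, List.sum_cons]
        refine M_mul ε S ?_ (ih fun p hp => hl p (List.mem_cons_of_mem _ hp))
        have h0 : ε a.2 = 0 := hl a List.mem_cons_self
        simpa [h0] using hgam a.2 a.1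
    | zero => exact zero_mem _
    | add p q _ _ hp hq => exact add_mem hp hq
    | smul c p _ hp => rw [smul_eq_mul]; exact hleft n c p hp
  · rintro y ⟨l, hl, hle, rfl⟩
    simp only [SetLike.mem_coe, Submodule.restrictScalars_mem]
    refine Ideal.subset_span ⟨l.map fun p => (p.1, p.2 - algebraMap K A (ε p.2)), ?_, ?_, ?_⟩
    · intro p hp
      obtain ⟨q, hq, rfl⟩ := List.mem_map.mp hp
      simp
    · simpa [List.map_map, Function.comp_def] using hle
    · simp [List.map_map, Function.comp_def]

end Groth.Agent.S8704
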