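import Groth.Statements.S8705
import Mathlib

set_option autoImplicit false
universe u
open SGA7

namespace Groth.Agent.S8705


/-- The extension attached to a symmetric two-cocycle. -/
@[ext]
private structure CocycleExt {P Q : Type u} [AddCommGroup P] [AddCommGroup Q] (f : P → P → Q)
    (hs : ∀ p q, f p q = f q p) (hc : ∀ p q r, f p q + f (p + q) r = f q r + f p (q + r)) where
  fst : Q
  snd : P

namespace CocycleExt

variable {P Q : Type u} [AddCommGroup P] [AddCommGroup Q] {f : P → P → Q}
  {hs : ∀ p q, f p q = f q p} {hc : ∀ p q r, f p q + f (p + q) r = f q r + f p (q + r)}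

private theorem f_zero_left (hs : ∀ p q, f p q = f q p) (hc : ∀ p q r, f p q + f (p + q) r = f q r + f p (q + r))
    (r : P) : f 0 r = f 0 0 := by
  have h := hc 0 0 r
  rw [add_zero, zero_add] at h
  exact (add_right_cancel h).symm

private noncomputable instance : Zero (CocycleExt f hs hc) := ⟨⟨-f 0 0, 0⟩⟩
private noncomputable instance : Add (CocycleExt f hs hc) :=
  ⟨fun x y => ⟨x.fst + y.fst + f x.snd y.snd, x.snd + y.snd⟩⟩
private noncomputable instance : Neg (CocycleExt f hs hc) :=
  ⟨fun x => ⟨-x.fst - f (-x.snd) x.snd - f 0 0, -x.snd⟩⟩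

private noncomputable instance : AddCommGroup (CocycleExt f hs hc) where
  nsmul := nsmulRec
  zsmul := zsmulRec
  add_assoc x y z := by
    refine CocycleExt.ext ?_ (add_assoc _ _ _)
    show x.fst + y.fst + f x.snd y.snd + z.fst + f (x.snd + y.snd) z.snd =
      x.fst + (y.fst + z.fst + f y.snd z.snd) + f x.snd (y.snd + z.snd)
    linear_combination (norm := abel) hc x.snd y.snd z.snd
  zero_add x := by
    refine CocycleExt.ext ?_ (zero_add _)
    show -f 0 0 + x.fst + f 0 x.snd = x.fst
    rw [f_zero_left hs hc x.snd]; abel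
  add_zero x := by
    refine CocycleExt.ext ?_ (add_zero _)
    show x.fst + -f 0 0 + f x.snd 0 = x.fst
    rw [hs x.snd 0, f_zero_left hs hc x.snd]; abel
  neg_add_cancel x := by
    refine CocycleExt.ext ?_ (neg_add_cancel _)
    show -x.fst - f (-x.snd) x.snd - f 0 0 + x.fst + f (-x.snd) x.snd = -f 0 0
    abel
  add_comm x y := by
    refine CocycleExt.ext ?_ (add_comm _ _)
    show x.fst + y.fst + f x.snd y.snd = y.fst + x.fst + f y.snd x.snd
    rw [hs x.snd, add_comm x.fst]

private theorem add_def (x y : CocycleExt f hs hc) : x + y = ⟨x.fst + y.fst + f x.snd y.snd, x.snd + y.snd⟩ := rfl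

/-- The inclusion of the kernel. -/
private noncomputable def incl : Q →+ CocycleExt f hs hc where
  toFun a := ⟨a - f 0 0, 0⟩
  map_zero' := CocycleExt.ext (zero_sub _) rfl
  map_add' a b := by
    rw [add_def]
    refine CocycleExt.ext ?_ (add_zero _).symm
    show a + b - f 0 0 = a - f 0 0 + (b - f 0 0) + f 0 0
    abel

private theorem incl_injective : Function.Injective (incl : Q → CocycleExt f hs hc) := fun a b h => by
  simpa [incl] using congrArg CocycleExt.fst h

private theorem lift_eq (p q : P) :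
    (⟨0, p + q⟩ : CocycleExt f hs hc) - ⟨0, p⟩ - ⟨0, q⟩ = -incl (f p q) := by
  rw [sub_sub, add_def, sub_eq_iff_eq_add', ← sub_eq_add_neg, eq_sub_iff_add_eq']
  show incl (f p q) + _ = _
  rw [add_def]
  refine CocycleExt.ext ?_ (zero_add _)
  show f p q - f 0 0 + 0 + f 0 (p + q) = 0 + 0 + f p q
  rw [f_zero_left hs hc (p + q)]; abel

end CocycleExt

/-- In the case of the punctual topos (ordinary abelian groups): let P be an abelian group and consider
the complex of free abelian groups Z[P × P × P] ⊕ Z[P × P] → Z[P × P] → Z[P], augmented to P by [p]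
↦ p, with d₀[p, q] = [p + q] − [p] − [q], with d₁ on the first summand given by [p, q, r] ↦ [p + q,
r] − [p, q + r] + [p, q] − [q, r] and on the second summand by [p, q] ↦ [p, q] − [q, p]. Then the
augmentation is surjective with kernel the image of d₀ (so H₀ is P), and the kernel of d₀ is the sum
of the images of the two components of d₁ (so H₁ vanishes). (The published statement is for abelian
sheaves on an arbitrary topos; this row is its case of a one-point space.) -/
theorem result (P : Type u) [AddCommGroup P] :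
    letI ε : (P →₀ ℤ) →ₗ[ℤ] P := Finsupp.linearCombination ℤ (fun p : P => p)
    letI d₀ : (P × P →₀ ℤ) →ₗ[ℤ] (P →₀ ℤ) := Finsupp.linearCombination ℤ
      (fun pq : P × P => Finsupp.single (pq.1 + pq.2) 1 - Finsupp.single pq.1 1 - Finsupp.single pq.2 1)
    letI d₁ : (P × P × P →₀ ℤ) →ₗ[ℤ] (P × P →₀ ℤ) := Finsupp.linearCombination ℤ
      (fun t : P × P × P => Finsupp.single (t.1 + t.2.1, t.2.2) 1 - Finsupp.single (t.1, t.2.1 + t.2.2) 1
        + Finsupp.single (t.1, t.2.1) 1 - Finsupp.single (t.2.1, t.2.2) 1)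
    letI d₁' : (P × P →₀ ℤ) →ₗ[ℤ] (P × P →₀ ℤ) := Finsupp.linearCombination ℤ
      (fun pq : P × P => Finsupp.single pq 1 - Finsupp.single (pq.2, pq.1) 1)
    Function.Surjective ε ∧ LinearMap.ker ε = LinearMap.range d₀ ∧
      LinearMap.ker d₀ = LinearMap.range d₁ ⊔ LinearMap.range d₁' := by
  classical
  refine ⟨fun p => ⟨Finsupp.single p 1, by simp⟩, ?_, ?_⟩
  · refine le_antisymm (fun x hx => ?_) ?_
    · set ε := Finsupp.linearCombination ℤ (fun p : P => p)
      set d₀ := Finsupp.linearCombination ℤ
        (fun pq : P × P => Finsupp.single (pq.1 + pq.2) (1 : ℤ) - Finsupp.single pq.1 1 - Finsupp.single pq.2 1)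
      let R := LinearMap.range d₀
      have hgen : ∀ p q : P, R.mkQ (Finsupp.single (p + q) 1) = R.mkQ (Finsupp.single p 1) + R.mkQ (Finsupp.single q 1) := by
        intro p q
        rw [← sub_eq_zero, ← map_add, ← map_sub, Submodule.mkQ_apply, Submodule.Quotient.mk_eq_zero]
        exact ⟨Finsupp.single (p, q) 1, by simp [d₀, sub_sub]⟩
      let φ : P →+ (P →₀ ℤ) ⧸ R := AddMonoidHom.mk' (fun p => R.mkQ (Finsupp.single p 1)) hgen
      have key : φ.toIntLinearMap ∘ₗ ε = R.mkQ := Finsupp.lhom_ext' fun p => LinearMap.ext_ring (by simp [ε, φ])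
      have := LinearMap.congr_fun key x
      rw [LinearMap.mem_ker] at hx
      rw [LinearMap.comp_apply, hx, map_zero] at this
      exact (Submodule.Quotient.mk_eq_zero R).1 this.symm
    · rintro _ ⟨y, rfl⟩
      rw [LinearMap.mem_ker, ← LinearMap.comp_apply]
      have h0 : Finsupp.linearCombination ℤ (fun p : P => p) ∘ₗ Finsupp.linearCombination ℤ
          (fun pq : P × P => Finsupp.single (pq.1 + pq.2) (1 : ℤ) - Finsupp.single pq.1 1 - Finsupp.single pq.2 1) = 0 :=
        Finsupp.lhom_ext' fun p => LinearMap.ext_ring (by simp)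
      rw [h0, LinearMap.zero_apply]
  · set d₀ := Finsupp.linearCombination ℤ
      (fun pq : P × P => Finsupp.single (pq.1 + pq.2) (1 : ℤ) - Finsupp.single pq.1 1 - Finsupp.single pq.2 1) with hd₀
    set d₁ := Finsupp.linearCombination ℤ
      (fun t : P × P × P => Finsupp.single (t.1 + t.2.1, t.2.2) (1 : ℤ) - Finsupp.single (t.1, t.2.1 + t.2.2) 1
        + Finsupp.single (t.1, t.2.1) 1 - Finsupp.single (t.2.1, t.2.2) 1) with hd₁
    set d₁' := Finsupp.linearCombination ℤ
      (fun pq : P × P => Finsupp.single pq (1 : ℤ) - Finsupp.single (pq.2, pq.1) 1) with hd₁'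
    refine le_antisymm (fun x hx => ?_) ?_
    · let R := LinearMap.range d₁ ⊔ LinearMap.range d₁'
      let f : P → P → (P × P →₀ ℤ) ⧸ R := fun p q => R.mkQ (Finsupp.single (p, q) 1)
      have hs : ∀ p q, f p q = f q p := by
        intro p q
        simp only [f]
        rw [← sub_eq_zero, ← map_sub, Submodule.mkQ_apply, Submodule.Quotient.mk_eq_zero]
        exact Submodule.mem_sup_right ⟨Finsupp.single (p, q) 1, by simp [hd₁']⟩
      have hc : ∀ p q r, f p q + f (p + q) r = f q r + f p (q + r) := by
        intro p q r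
        simp only [f]
        rw [← sub_eq_zero, ← map_add, ← map_add, ← map_sub, Submodule.mkQ_apply, Submodule.Quotient.mk_eq_zero]
        exact Submodule.mem_sup_left ⟨Finsupp.single (p, q, r) 1, by simp [hd₁]; abel⟩
      let ψ : (P →₀ ℤ) →ₗ[ℤ] CocycleExt f hs hc :=
        Finsupp.linearCombination ℤ (fun p : P => (⟨0, p⟩ : CocycleExt f hs hc))
      have key : ψ ∘ₗ d₀ = -((CocycleExt.incl (hs := hs) (hc := hc)).toIntLinearMap ∘ₗ R.mkQ) := by
        refine Finsupp.lhom_ext' fun pq => LinearMap.ext_ring ?_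
        show ψ (d₀ (Finsupp.single pq 1)) = -(CocycleExt.incl (f pq.1 pq.2))
        rw [hd₀, Finsupp.linearCombination_single, one_smul, map_sub, map_sub]
        simp only [ψ, Finsupp.linearCombination_single, one_smul]
        exact CocycleExt.lift_eq pq.1 pq.2
      have h1 := LinearMap.congr_fun key x
      rw [LinearMap.mem_ker] at hx
      rw [LinearMap.comp_apply, hx, map_zero, LinearMap.neg_apply, LinearMap.comp_apply, eq_comm, neg_eq_zero] at h1
      exact (Submodule.Quotient.mk_eq_zero R).1 (CocycleExt.incl_injective (h1.trans (map_zero _).symm))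
    · rw [sup_le_iff]
      constructor <;> rintro _ ⟨y, rfl⟩ <;> rw [LinearMap.mem_ker, ← LinearMap.comp_apply]
      · have h0 : d₀ ∘ₗ d₁ = 0 := Finsupp.lhom_ext' fun t => LinearMap.ext_ring (by
          simp [hd₀, hd₁, add_assoc]; abel)
        rw [h0, LinearMap.zero_apply]
      · have h0 : d₀ ∘ₗ d₁' = 0 := Finsupp.lhom_ext' fun t => LinearMap.ext_ring (by
          simp [hd₀, hd₁', add_comm t.2 t.1]; abel)
        rw [h0, LinearMap.zero_apply]

end Groth.Agent.S8705
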