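import Groth.Statements.S8708
import Groth.Agent.ExtDesc.Basic
import Groth.Agent.ExtDesc.Local
import Groth.Agent.ExtDesc.Const
import Groth.Agent.GrpSyntomic.Local
import Groth.Agent.GrpSch.DenseMul
import Groth.Agent.EtSh.Point
-- import your own Groth.Agent.* helpers here

set_option autoImplicit false
universe u
open CategoryTheory CategoryTheory.Limits MonoidalCategory CartesianMonoidalCategory MonObj AlgebraicGeometry
open SGA7

set_option backward.isDefEq.respectTransparency false
set_option synthInstance.maxHeartbeats 200000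
set_option maxHeartbeats 1000000

namespace Groth.Agent.S8708

open ExtDesc

/-- Let k be a field, Z a group without non-trivial elements of finite order, P a connected k-group
scheme locally of finite type, G the constant k-group scheme Z_k (through the isomorphism eG), and u
: G → E, v : E → P homomorphisms of k-group schemes forming a sequence 1 → G → E → P → 1 which is
exact for the fppf topology. Then the extension is rigid and trivial: every automorphism of the
k-group scheme E compatible with u and v is the identity, and there is a homomorphism of k-group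
schemes s : P → E with s followed by v equal to the identity of P. (For P not connected the
published statement reduces extensions of P to extensions of its group of connected components; that
part is not stated.) -/
theorem result (k : Type u) [Field k]
    (Z : Type u) [Group Z] (hZ : ∀ z : Z, IsOfFinOrder z → z = 1)
    (P E G : Over (Spec (CommRingCat.of k))) [GrpObj P] [GrpObj E] [GrpObj G]
    [LocallyOfFiniteType P.hom] [ConnectedSpace ↥P.left]
    (eG : G ≅ TwC.const (Spec (CommRingCat.of k)) Z) (hG : TwC.IsConstGrp Z G eG)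
    (u : G ⟶ E) (v : E ⟶ P) (hex : NonAbH1.IsExactSeq Scheme.fppfPrecoverage u v) :
    (∀ φ : E ≅ E, IsMonHom φ.hom → u ≫ φ.hom = u → φ.hom ≫ v = v → φ.hom = 𝟙 E) ∧
      ∃ s : P ⟶ E, IsMonHom s ∧ s ≫ v = 𝟙 P := by
  classical
  obtain ⟨hum, hvm, -, -, -⟩ := id hex
  haveI := hum; haveI := hvm
  refine ⟨fun φ hφm hφu hφv => ?_, ?_⟩
  · haveI := hφm
    let D : E ⟶ E := φ.hom * (𝟙 E)⁻¹
    have hD : ∀ {T : Over (Spec (CommRingCat.of k))} (a : T ⟶ E), a ≫ D = (a ≫ φ.hom) * a⁻¹ := fun a => by
      simp only [D, MonObj.comp_mul, GrpObj.comp_inv, Category.comp_id]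
    have hDv : D ≫ v = 1 := by
      simp only [D, MonObj.mul_comp, GrpObj.inv_comp, hφv, Category.id_comp, mul_inv_cancel]
    obtain ⟨c, hc⟩ := exists_of_comp_eq_one hex hDv
    have hinv : ∀ (T : Over (Spec (CommRingCat.of k))) (x y : T ⟶ E), x ≫ v = y ≫ v → x ≫ c = y ≫ c := by
      intro T x y h
      obtain ⟨g, rfl⟩ := exists_eq_mul hex h
      apply injective_comp hex
      rw [Category.assoc, Category.assoc, hc, hD, hD, MonObj.mul_comp, Category.assoc, hφu]
      group
    obtain ⟨cb, hcb⟩ := exists_desc (cover_of_isExactSeq hex) c hinv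
    have h1 : cb = 1 := by
      refine eq_one_of_idx eG hG cb fun t => ?_
      have hlc : IsLocallyConstant fun p => idx (Spec (CommRingCat.of k)) Z ((cb ≫ eG.hom).left p) := by
        refine IsLocallyConstant.iff_exists_open _ |>.mpr fun p => ?_
        refine ⟨(cb ≫ eG.hom).left ⁻¹' Set.range (Sigma.ι (fun _ : Z => Spec (CommRingCat.of k))
          (idx _ Z ((cb ≫ eG.hom).left p))), (Scheme.Hom.isOpenEmbedding _).isOpen_range.preimage
          (cb ≫ eG.hom).left.continuous, exists_ι _, ?_⟩
        rintro q ⟨x, hx⟩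
        rw [← hx, idx_ι]
      rw [hlc.apply_eq_of_preconnectedSpace t ((η[P]).left (IsLocalRing.closedPoint k))]
      have h0 : η[P] ≫ cb ≫ eG.hom = TwC.pt (Spec (CommRingCat.of k)) Z 1 := by
        have h5 : η[P] ≫ cb = η[G] := by
          apply injective_comp hex
          rw [Category.assoc, IsMonHom.one_hom u, ← IsMonHom.one_hom v, Category.assoc,
            ← Category.assoc v, hcb, hc, hD, IsMonHom.one_hom φ.hom, mul_inv_cancel, Hom.one_def,
            toUnit_unique (toUnit _) (𝟙 _), Category.id_comp]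
        rw [← Category.assoc, h5, one_eq_pt eG hG]
        simp
      have h6 := congrArg (fun m => idx (Spec (CommRingCat.of k)) Z (m.left (IsLocalRing.closedPoint k))) h0
      exact h6.trans (idx_ι 1 _)
    have hD1 : D = 1 := by
      rw [← hc, ← hcb, h1, MonObj.comp_one, MonObj.one_comp]
    exact mul_inv_eq_one.mp hD1
  -- the section
  haveI : Etale G.hom := etale_const eG
  haveI : Etale v.left := property_of_isExactSeq hex @Etale inferInstance
  haveI : LocallyOfFiniteType E.hom := by rw [← Over.w v]; infer_instance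
  obtain ⟨E₀, _, i, hi, hio, -, -, hirr, -, hlft⟩ := GrpSch.exists_neutralComponent E
  haveI := hio; haveI := hirr; haveI := hlft
  haveI := GrpSyntomic.quasiCompact_of_irreducible E₀
  haveI : Mono i := Over.mono_of_mono_left i
  let v₀ : E₀ ⟶ P := i ≫ v
  haveI : Etale v₀.left := by rw [Over.comp_left]; infer_instance
  haveI : IsLocallyNoetherian P.left := LocallyOfFiniteType.isLocallyNoetherian P.hom
  haveI : CompactSpace ↥E₀.left := QuasiCompact.compactSpace_of_compactSpace E₀.hom
  haveI : QuasiCompact v₀.left := inferInstance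
  haveI : LocallyQuasiFinite v₀.left := EtSh.locallyQuasiFinite_of_etale v₀.left
  haveI : Mono u := ⟨fun a b h => injective_comp hex h⟩
  haveI : Mono u.left := inferInstance
  let t₀ := IsLocalRing.closedPoint k
  let pG : Z → (𝟙_ (Over (Spec (CommRingCat.of k))) ⟶ G) := fun m => TwC.pt _ Z m ≫ eG.inv
  let H : Subgroup Z :=
    { carrier := {m | ∃ a : 𝟙_ _ ⟶ E₀, a ≫ i = pG m ≫ u}
      one_mem' := ⟨η[E₀], by rw [IsMonHom.one_hom]; exact ((congrArg (· ≫ u) (one_eq_pt eG hG).symm).trans (IsMonHom.one_hom u)).symm⟩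
      mul_mem' := by
        rintro m n ⟨a, ha⟩ ⟨b, hb⟩
        refine ⟨a * b, ?_⟩
        rw [MonObj.mul_comp, ha, hb, ← MonObj.mul_comp]
        exact congrArg (· ≫ u) (hG m n)
      inv_mem' := by
        rintro m ⟨a, ha⟩
        refine ⟨a⁻¹, ?_⟩
        rw [GrpObj.inv_comp, ha, ← GrpObj.inv_comp]
        congr 1
        apply inv_eq_of_mul_eq_one_right
        change (TwC.pt _ Z m ≫ eG.inv) * (TwC.pt _ Z m⁻¹ ≫ eG.inv) = 1
        rw [hG, mul_inv_cancel, ← one_eq_pt eG hG, Hom.one_def, toUnit_unique (toUnit _) (𝟙 _),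
          Category.id_comp] }
  have hpG_inj : ∀ m n, (pG m ≫ u).left t₀ = (pG n ≫ u).left t₀ → m = n := by
    intro m n h
    have h3 : (pG m).left t₀ = (pG n).left t₀ := u.left.injective h
    have h4 := congrArg (fun y => idx (Spec (CommRingCat.of k)) Z (eG.hom.left y)) h3
    simp only [← Scheme.Hom.comp_apply, ← Over.comp_left] at h4
    simp [pG, TwC.pt] at h4
    exact (idx_ι m _).symm.trans (h4.trans (idx_ι n _))
  have hHfin : (H : Set Z).Finite := by
    let f : H → ↥(v₀.left ⁻¹' {η[P].left t₀}) := fun m => ⟨m.2.choose.left t₀, by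
      have h : m.2.choose ≫ v₀ = η[P] := by
        rw [← Category.assoc, m.2.choose_spec, Category.assoc, comp_eq_one hex, Hom.one_def,
          toUnit_unique (toUnit _) (𝟙 _), Category.id_comp]
      exact congrArg (fun z => z.left t₀) h⟩
    have hf : Function.Injective f := fun m n h => Subtype.ext (hpG_inj _ _ (by
      rw [← m.2.choose_spec, ← n.2.choose_spec]
      exact congrArg i.left (congrArg Subtype.val h)))
    haveI := (v₀.left.finite_preimage_singleton (η[P].left t₀)).to_subtype
    exact Set.finite_coe_iff.mp (Finite.of_injective f hf)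
  have hH : ∀ m ∈ H, m = 1 := by
    intro m hm
    haveI : Finite H := hHfin.to_subtype
    exact hZ m (H.subtype.isOfFinOrder (isOfFinOrder_of_finite (⟨m, hm⟩ : H)))
  have hker : ∀ {T : Over (Spec (CommRingCat.of k))} (g : T ⟶ G) (a : T ⟶ E₀), g ≫ u = a ≫ i → g = 1 := by
    intro T g a h
    refine eq_one_of_idx eG hG g fun t => ?_
    apply hH
    obtain ⟨x, hx⟩ := exists_ι ((g ≫ eG.hom).left t)
    have hx0 : x = t₀ := @Subsingleton.elim (PrimeSpectrum k) _ _ _
    have hr : Set.range (pG (idx _ Z ((g ≫ eG.hom).left t)) ≫ u).left ⊆ Set.range i.left := by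
      rintro _ ⟨w, rfl⟩
      rw [show w = t₀ from @Subsingleton.elim (PrimeSpectrum k) _ _ _]
      refine ⟨a.left t, ?_⟩
      rw [← Scheme.Hom.comp_apply, ← Over.comp_left, ← h]
      have e1 : (pG (idx _ Z ((g ≫ eG.hom).left t))).left t₀ = g.left t := by
        have h7 : g = (g ≫ eG.hom) ≫ eG.inv := by simp
        conv_rhs => rw [h7]
        change eG.inv.left ((Sigma.ι (fun _ : Z => Spec (CommRingCat.of k)) _) t₀) = eG.inv.left _
        rw [← hx0, hx]
        rfl
      change u.left (g.left t) = u.left _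
      rw [← e1]
      rfl
    refine ⟨Over.homMk (IsOpenImmersion.lift i.left _ hr) ?_, Over.OverMorphism.ext (IsOpenImmersion.lift_fac _ _ _)⟩
    rw [← Over.w i, IsOpenImmersion.lift_fac_assoc, Over.w]
  haveI : Mono v₀ := ⟨fun {T} a b h => by
    have h1 : (a⁻¹ * b) ≫ i ≫ v = 1 := by
      change (a⁻¹ * b) ≫ v₀ = 1
      rw [MonObj.mul_comp, GrpObj.inv_comp, h, inv_mul_cancel]
    rw [← Category.assoc] at h1
    obtain ⟨g, hg⟩ := exists_of_comp_eq_one hex h1
    have := hker g _ hg
    rw [this, MonObj.one_comp, ← MonObj.one_comp i, cancel_mono] at hg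
    exact inv_mul_eq_one.mp hg.symm⟩
  haveI : Mono v₀.left := inferInstance
  haveI : IsOpenImmersion v₀.left := IsOpenImmersion.of_flat_of_mono v₀.left
  haveI : Surjective v₀.left := by
    refine ⟨fun y => ?_⟩
    haveI : IrreducibleSpace ↥P.left := GrpSch.irreducibleSpace_of_connectedSpace P
    let U : Set ↥P.left := Set.range v₀.left
    have hU : IsOpen U := v₀.left.isOpenEmbedding.isOpen_range
    have hd : Dense U := hU.dense ⟨_, η[E₀].left t₀, rfl⟩
    obtain ⟨z, hz, rfl⟩ := (GrpSch.mul_image_dense_eq_univ P hU hd hd).symm ▸ Set.mem_univ y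
    have hr := Scheme.Pullback.range_map E₀.hom E₀.hom P.hom P.hom v₀.left v₀.left (𝟙 _)
      (by rw [Category.comp_id, Over.w v₀]) (by rw [Category.comp_id, Over.w v₀])
    obtain ⟨w, rfl⟩ : z ∈ Set.range (v₀ ⊗ₘ v₀).left :=
      hr.symm ▸ (show z ∈ (fst P P).left ⁻¹' U ∩ (snd P P).left ⁻¹' U from hz)
    refine ⟨μ[E₀].left w, ?_⟩
    rw [← Scheme.Hom.comp_apply, ← Over.comp_left, IsMonHom.mul_hom (f := v₀), Over.comp_left,
      Scheme.Hom.comp_apply]
  haveI : IsIso v₀.left := IsOpenImmersion.isIso v₀.left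
  haveI : IsIso v₀ := by
    haveI : IsIso ((Over.forget _).map v₀) := ‹IsIso v₀.left›
    exact isIso_of_reflects_iso v₀ (Over.forget _)
  refine ⟨inv v₀ ≫ i, ?_, ?_⟩
  · haveI : IsMonHom (inv v₀) := inferInstanceAs (IsMonHom (asIso v₀).inv)
    infer_instance
  · rw [Category.assoc]
    exact IsIso.inv_hom_id v₀

end Groth.Agent.S8708
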