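import Groth.Statements.S8709
import Groth.Agent.RosUnit.Basic
import Groth.Agent.Magnet.Points
-- import your own Groth.Agent.* helpers here

set_option autoImplicit false
universe u
open CategoryTheory CategoryTheory.Limits MonoidalCategory CartesianMonoidalCategory MonObj AlgebraicGeometry
open SGA7

namespace Groth.Agent.S8709

open Groth.Agent.RosUnit (val val_eq_one)

variable {k : Type u} [Field k]

/-- a point of the base change as a morphism over `k` -/
noncomputable def down {K : Type u} [Field K] (s : Spec (CommRingCat.of K) ⟶ Spec (CommRingCat.of k))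
    {X : Over (Spec (CommRingCat.of k))} (x : 𝟙_ (Over (Spec (CommRingCat.of K))) ⟶ Red.bc s X) :
    Over.mk s ⟶ X :=
  Over.homMk (x.left ≫ pullback.fst X.hom s) (by
    change (x.left ≫ pullback.fst X.hom s) ≫ X.hom = s
    have h1 : x.left ≫ pullback.snd X.hom s = 𝟙 _ := Over.w x
    rw [Category.assoc, pullback.condition, ← Category.assoc, h1, Category.id_comp])

/-- a morphism over `k` as a point of the base change -/
noncomputable def up {K : Type u} [Field K] (s : Spec (CommRingCat.of K) ⟶ Spec (CommRingCat.of k))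
    {X : Over (Spec (CommRingCat.of k))} (x : Over.mk s ⟶ X) :
    𝟙_ (Over (Spec (CommRingCat.of K))) ⟶ Red.bc s X :=
  Over.homMk (pullback.lift x.left (𝟙 _) (by
    change x.left ≫ X.hom = 𝟙 _ ≫ s
    rw [Category.id_comp]
    exact Over.w x)) (pullback.lift_snd _ _ _)

lemma down_up {K : Type u} [Field K] (s : Spec (CommRingCat.of K) ⟶ Spec (CommRingCat.of k))
    {X : Over (Spec (CommRingCat.of k))} (x : Over.mk s ⟶ X) : down s (up s x) = x := by
  apply Over.OverMorphism.ext
  exact pullback.lift_fst _ _ _

/-- The value of `f` at a pair of geometric points is `1`. -/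
lemma value_eq_one (X Y : Over (Spec (CommRingCat.of k)))
    [LocallyOfFiniteType X.hom] [QuasiCompact X.hom] [GeometricallyConnected X.hom]
    [LocallyOfFiniteType Y.hom] [QuasiCompact Y.hom] [GeometricallyConnected Y.hom]
    (eX : 𝟙_ (Over (Spec (CommRingCat.of k))) ⟶ X) (eY : 𝟙_ (Over (Spec (CommRingCat.of k))) ⟶ Y)
    (f : Γ((X ⊗ Y).left, ⊤)) (hf : IsUnit f)
    (hX : (lift (𝟙 X) (toUnit X ≫ eY)).left.appTop f = 1)
    (hY : (lift (toUnit Y ≫ eX) (𝟙 Y)).left.appTop f = 1)
    {K : Type u} [Field K] [IsAlgClosed K] (s : Spec (CommRingCat.of K) ⟶ Spec (CommRingCat.of k))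
    (x : Over.mk s ⟶ X) (y : Over.mk s ⟶ Y) : (lift x y).left.appTop f = 1 := by
  let X' := Red.bc s X
  let Y' := Red.bc s Y
  haveI : LocallyOfFiniteType X'.hom := inferInstanceAs (LocallyOfFiniteType (pullback.snd X.hom s))
  haveI : LocallyOfFiniteType Y'.hom := inferInstanceAs (LocallyOfFiniteType (pullback.snd Y.hom s))
  haveI : QuasiCompact X'.hom := inferInstanceAs (QuasiCompact (pullback.snd X.hom s))
  haveI : QuasiCompact Y'.hom := inferInstanceAs (QuasiCompact (pullback.snd Y.hom s))
  haveI : CompactSpace X'.left := QuasiCompact.compactSpace_of_compactSpace X'.hom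
  haveI : CompactSpace Y'.left := QuasiCompact.compactSpace_of_compactSpace Y'.hom
  haveI : ConnectedSpace X'.left :=
    GeometricallyConnected.geometrically_connectedSpace (f := X.hom) s (pullback.fst X.hom s)
      (pullback.snd X.hom s) (.of_hasPullback _ _)
  haveI : ConnectedSpace Y'.left :=
    GeometricallyConnected.geometrically_connectedSpace (f := Y.hom) s (pullback.fst Y.hom s)
      (pullback.snd Y.hom s) (.of_hasPullback _ _)
  let q : (X' ⊗ Y').left ⟶ (X ⊗ Y).left :=
    pullback.map X'.hom Y'.hom X.hom Y.hom (pullback.fst X.hom s) (pullback.fst Y.hom s) s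
      (by exact pullback.condition.symm) (by exact pullback.condition.symm)
  have hval : ∀ a b, val (q.appTop f) a b = (lift (down s a) (down s b)).left.appTop f := by
    intro a b
    have e : (lift a b).left ≫ q = (lift (down s a) (down s b)).left := by
      apply pullback.hom_ext
      · rw [Category.assoc, pullback.lift_fst, ← Category.assoc]
        change ((lift a b).left ≫ (fst X' Y').left) ≫ pullback.fst X.hom s =
          (lift (down s a) (down s b)).left ≫ (fst X Y).left
        rw [← Over.comp_left, ← Over.comp_left, lift_fst, lift_fst]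
        rfl
      · rw [Category.assoc, pullback.lift_snd, ← Category.assoc]
        change ((lift a b).left ≫ (snd X' Y').left) ≫ pullback.fst Y.hom s =
          (lift (down s a) (down s b)).left ≫ (snd X Y).left
        rw [← Over.comp_left, ← Over.comp_left, lift_snd, lift_snd]
        rfl
    rw [val, ← CommRingCat.comp_apply, ← Scheme.Hom.comp_appTop, e]
  have h1 : ∀ a, val (q.appTop f) a (up s (toUnit _ ≫ eY)) = 1 := fun a => by
    rw [hval, down_up]
    have e : lift (down s a) (toUnit (Over.mk s) ≫ eY) = down s a ≫ lift (𝟙 X) (toUnit X ≫ eY) := by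
      rw [comp_lift, Category.comp_id, ← Category.assoc, toUnit_unique (down s a ≫ toUnit X)]
    rw [e, Over.comp_left, Scheme.Hom.comp_appTop, CommRingCat.comp_apply, hX, map_one]
  have h2 : ∀ b, val (q.appTop f) (up s (toUnit _ ≫ eX)) b = 1 := fun b => by
    rw [hval, down_up]
    have e : lift (toUnit (Over.mk s) ≫ eX) (down s b) = down s b ≫ lift (toUnit Y ≫ eX) (𝟙 Y) := by
      rw [comp_lift, Category.comp_id, ← Category.assoc, toUnit_unique (down s b ≫ toUnit Y)]
    rw [e, Over.comp_left, Scheme.Hom.comp_appTop, CommRingCat.comp_apply, hY, map_one]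
  have := val_eq_one (q.appTop f) (hf.map q.appTop.hom) _ _ h1 h2 (up s x) (up s y)
  rw [hval, down_up, down_up] at this
  exact this

/-- Let k be a field and X, Y two k-schemes of finite type which are geometrically reduced and
geometrically connected, with rational points e_X and e_Y. Then every k-morphism u from X ×_k Y to
the multiplicative group whose restrictions to X × e_Y and to e_X × Y are trivial is trivial.
(Morphisms to the multiplicative group over k form a group; trivial means equal to its unit
element.) -/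
theorem result (k : Type u) [Field k]
    (X Y : Over (Spec (CommRingCat.of k)))
    [LocallyOfFiniteType X.hom] [QuasiCompact X.hom] [GeometricallyReduced X.hom] [GeometricallyConnected X.hom]
    [LocallyOfFiniteType Y.hom] [QuasiCompact Y.hom] [GeometricallyReduced Y.hom] [GeometricallyConnected Y.hom]
    (eX : 𝟙_ (Over (Spec (CommRingCat.of k))) ⟶ X) (eY : 𝟙_ (Over (Spec (CommRingCat.of k))) ⟶ Y)
    (u : X ⊗ Y ⟶ Red.Gm (Spec (CommRingCat.of k)))
    (huX : lift (𝟙 X) (toUnit X ≫ eY) ≫ u = 1) (huY : lift (toUnit Y ≫ eX) (𝟙 Y) ≫ u = 1) :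
    u = 1 := by
  let χ := Groth.Agent.Magnet.points (M := ℤ) u
  let f : Γ((X ⊗ Y).left, ⊤) := χ (Multiplicative.ofAdd 1)
  have hf : IsUnit f := (Group.isUnit (Multiplicative.ofAdd (1 : ℤ))).map χ
  have hX : (lift (𝟙 X) (toUnit X ≫ eY)).left.appTop f = 1 := by
    rw [← Groth.Agent.Magnet.points_comp (M := ℤ) (lift (𝟙 X) (toUnit X ≫ eY)) u, huX]
    exact DFunLike.congr_fun (map_one (Groth.Agent.Magnet.points (M := ℤ))) _
  have hY : (lift (toUnit Y ≫ eX) (𝟙 Y)).left.appTop f = 1 := by
    rw [← Groth.Agent.Magnet.points_comp (M := ℤ) (lift (toUnit Y ≫ eX) (𝟙 Y)) u, huY]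
    exact DFunLike.congr_fun (map_one (Groth.Agent.Magnet.points (M := ℤ))) _
  haveI : IsLocallyNoetherian Y.left := LocallyOfFiniteType.isLocallyNoetherian Y.hom
  haveI : IsReduced Y.left := GeometricallyReduced.isReduced_of_flat_of_isLocallyNoetherian Y.hom
  haveI : IsReduced (X ⊗ Y).left := inferInstanceAs (IsReduced (pullback X.hom Y.hom))
  have hf1 : f = 1 := by
    rw [← sub_eq_zero, ← basicOpen_eq_bot_iff]
    ext z
    simp only [TopologicalSpace.Opens.coe_bot, Set.mem_empty_iff_false, iff_false, SetLike.mem_coe,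
      Scheme.mem_basicOpen_top]
    intro hz
    let K := AlgebraicClosure ((X ⊗ Y).left.residueField z)
    let zK : Spec (CommRingCat.of K) ⟶ (X ⊗ Y).left :=
      Spec.map (CommRingCat.ofHom (algebraMap ((X ⊗ Y).left.residueField z) K)) ≫
        (X ⊗ Y).left.fromSpecResidueField z
    let w : Over.mk (zK ≫ (X ⊗ Y).hom) ⟶ X ⊗ Y := Over.homMk zK rfl
    have hw := value_eq_one X Y eX eY f hf hX hY (zK ≫ (X ⊗ Y).hom) (w ≫ fst X Y) (w ≫ snd X Y)
    rw [← comp_lift, lift_fst_snd, Category.comp_id] at hw
    have h0 : zK.appTop (f - 1) = 0 := by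
      rw [map_sub, map_one]; exact sub_eq_zero.mpr hw
    have hbot : zK ⁻¹ᵁ (X ⊗ Y).left.basicOpen (f - 1) = ⊥ := by
      rw [Scheme.preimage_basicOpen_top, h0, Scheme.basicOpen_zero]
    haveI : Nonempty ↥(Spec (CommRingCat.of K)) := inferInstanceAs (Nonempty (PrimeSpectrum K))
    obtain ⟨t⟩ := ‹Nonempty ↥(Spec (CommRingCat.of K))›
    have ht : t ∈ zK ⁻¹ᵁ (X ⊗ Y).left.basicOpen (f - 1) := by
      change zK t ∈ (X ⊗ Y).left.basicOpen (f - 1)
      have : zK t = z := by
        change (X ⊗ Y).left.fromSpecResidueField z _ = z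
        exact Scheme.fromSpecResidueField_apply _ _
      rw [this, Scheme.mem_basicOpen_top]
      exact hz
    rw [hbot] at ht
    exact ht
  apply Groth.Agent.Magnet.points_ext (M := ℤ)
  intro m
  have hm : χ = 1 := MonoidHom.ext_mint (by rw [MonoidHom.one_apply]; exact hf1)
  change χ m = _
  rw [hm]
  exact (DFunLike.congr_fun (map_one (Groth.Agent.Magnet.points (M := ℤ))) m).symm

end Groth.Agent.S8709
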