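import Groth.Statements.S8710
import Groth.Agent.CAlgH.TorBridge

set_option autoImplicit false
universe u
open CategoryTheory CategoryTheory.Limits
open SGA7

namespace Groth.Agent.S8710


open MonoidalCategory TensorProduct

variable {R : Type u} [CommRing R]

/-- Exactness in one degree of `X ⊗ P`. -/
private def ExAt {N : ModuleCat.{u} R} (Q : ProjectiveResolution N) (X : Type u) [AddCommGroup X] [Module R X]
    (i : ℕ) : Prop :=
  ∀ z : X ⊗[R] Q.complex.X (i + 1), (Q.complex.d (i + 1) i).hom.lTensor X z = 0 →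
    ∃ w, (Q.complex.d (i + 1 + 1) (i + 1)).hom.lTensor X w = z

private theorem isZero_tor_iff {N : ModuleCat.{u} R} (Q : ProjectiveResolution N) (X : Type u) [AddCommGroup X]
    [Module R X] (i : ℕ) :
    IsZero (((Tor (ModuleCat.{u} R) (i + 1)).obj (ModuleCat.of R X)).obj N) ↔ ExAt Q X i := by
  rw [Tor_obj, (Q.isoLeftDerivedObj ((tensoringLeft (ModuleCat.{u} R)).obj (ModuleCat.of R X)) (i + 1)).isZero_iff]
  erw [← HomologicalComplex.exactAt_iff_isZero_homology]
  rw [HomologicalComplex.exactAt_iff' _ (i + 1 + 1) (i + 1) i (by simp) (by simp),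
    ShortComplex.moduleCat_exact_iff]
  rfl

variable {N : ModuleCat.{u} R} (Q : ProjectiveResolution N)

private theorem dd (X : Type u) [AddCommGroup X] [Module R X] (i : ℕ) (y : X ⊗[R] Q.complex.X (i + 1 + 1)) :
    (Q.complex.d (i + 1) i).hom.lTensor X ((Q.complex.d (i + 1 + 1) (i + 1)).hom.lTensor X y) = 0 := by
  have h : (Q.complex.d (i + 1) i).hom ∘ₗ (Q.complex.d (i + 1 + 1) (i + 1)).hom = 0 :=
    LinearMap.ext fun x => congrArg (fun f => f.hom x) (Q.complex.d_comp_d (i + 1 + 1) (i + 1) i)
  rw [← LinearMap.lTensor_comp_apply, h, LinearMap.lTensor_zero, LinearMap.zero_apply]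

private theorem comm {X Y : Type u} [AddCommGroup X] [Module R X] [AddCommGroup Y] [Module R Y] (g : X →ₗ[R] Y)
    (j l : ℕ) (z : X ⊗[R] Q.complex.X j) :
    g.rTensor _ ((Q.complex.d j l).hom.lTensor X z) = (Q.complex.d j l).hom.lTensor Y (g.rTensor _ z) := by
  rw [← LinearMap.comp_apply, ← LinearMap.comp_apply, LinearMap.rTensor_comp_lTensor, LinearMap.lTensor_comp_rTensor]

private theorem flat_term (j : ℕ) : Module.Flat R (Q.complex.X j) :=
  haveI : Module.Projective R (Q.complex.X j) := (IsProjective.iff_projective _).2 (Q.projective j)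
  inferInstance

variable {X Y Z : Type u} [AddCommGroup X] [Module R X] [AddCommGroup Y] [Module R Y] [AddCommGroup Z] [Module R Z]
  {f : X →ₗ[R] Y} {g : Y →ₗ[R] Z}

/-- Dimension shifting at one degree. -/
private theorem exAt_shift [Module.Flat R Y] (hf : Function.Injective f) (he : Function.Exact f g)
    (hg : Function.Surjective g) {i : ℕ} (hZ : ExAt Q Z (i + 1)) : ExAt Q X i := by
  intro z hz
  haveI := fun j => flat_term Q j
  have hex : Function.Exact (Q.complex.d (i + 1 + 1) (i + 1)).hom (Q.complex.d (i + 1) i).hom :=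
    (ShortComplex.ShortExact.moduleCat_exact_iff_function_exact _).1
      ((HomologicalComplex.exactAt_iff' _ (i + 1 + 1) (i + 1) i (by simp) (by simp)).1 (Q.complex_exactAt_succ i))
  obtain ⟨w, hw⟩ := (Module.Flat.lTensor_exact Y hex (f.rTensor _ z)).1 (by rw [← comm, hz, map_zero])
  obtain ⟨v, hv⟩ := hZ (g.rTensor _ w) (by
    rw [← comm, hw, ← LinearMap.comp_apply, ← LinearMap.rTensor_comp, he.linearMap_comp_eq_zero,
      LinearMap.rTensor_zero, LinearMap.zero_apply])
  obtain ⟨v', rfl⟩ := LinearMap.rTensor_surjective _ hg v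
  obtain ⟨y, hy⟩ := ((rTensor_exact _ he hg) (w - (Q.complex.d (i + 1 + 1 + 1) (i + 1 + 1)).hom.lTensor Y v')).1
    (by rw [map_sub, comm, hv, sub_self])
  refine ⟨y, Module.Flat.rTensor_preserves_injective_linearMap f hf ?_⟩
  rw [comm, hy, map_sub, hw, dd, sub_zero]

/-- An extension of exact ones is exact. -/
private theorem exAt_extension (hf : Function.Injective f) (he : Function.Exact f g)
    (hg : Function.Surjective g) {i : ℕ} (hX : ExAt Q X i) (hZ : ExAt Q Z i) : ExAt Q Y i := by
  intro z hz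
  haveI := fun j => flat_term Q j
  obtain ⟨w, hw⟩ := hZ (g.rTensor _ z) (by rw [← comm, hz, map_zero])
  obtain ⟨w', rfl⟩ := LinearMap.rTensor_surjective _ hg w
  obtain ⟨x, hx⟩ := (rTensor_exact _ he hg (z - (Q.complex.d (i + 1 + 1) (i + 1)).hom.lTensor Y w')).1
    (by rw [map_sub, comm, hw, sub_self])
  have h2 : (Q.complex.d (i + 1) i).hom.lTensor X x = 0 := by
    apply Module.Flat.rTensor_preserves_injective_linearMap (M := Q.complex.X i) f hf
    rw [comm, hx, map_sub, hz, dd, sub_self, map_zero]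
  obtain ⟨v, hv⟩ := hX x h2
  exact ⟨w' + f.rTensor _ v, by rw [map_add, ← comm, hv, hx, add_sub_cancel]⟩

/-- Let f : B' → B be a surjective map of R-algebras with B' flat over R, g : C → B a map of R-algebras,
P = B' ×_B C their fibre product (the equalizer of f ∘ pr₁ and g ∘ pr₂ in B' × C), S an R-algebra
and n a natural number. If Tor_i^R(C, S) = 0 for 0 < i < n and Tor_i^R(B, S) = 0 for 0 < i ≤ n, then
Tor_i^R(P, S) = 0 for 0 < i < n. Here Tor_i^R(M, S) is the i-th left derived functor of M ⊗_R − on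
R-modules, evaluated at S. (The published statement asks the vanishing for B only in degrees 0 < i <
n; the published proof and the corollary following it use it in degrees 0 < i ≤ n, which this row
assumes.) -/
theorem result (R B' B C S : Type u) [CommRing R] [CommRing B'] [CommRing B]
    [CommRing C] [CommRing S] [Algebra R B'] [Algebra R B] [Algebra R C] [Algebra R S]
    (f : B' →ₐ[R] B) (hf : Function.Surjective f) (g : C →ₐ[R] B) [Module.Flat R B'] (n : ℕ)
    (hC : ∀ i : ℕ, 0 < i → i < n →
      IsZero (((Tor (ModuleCat.{u} R) i).obj (ModuleCat.of R C)).obj (ModuleCat.of R S)))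
    (hB : ∀ i : ℕ, 0 < i → i ≤ n →
      IsZero (((Tor (ModuleCat.{u} R) i).obj (ModuleCat.of R B)).obj (ModuleCat.of R S))) :
    letI P := AlgHom.equalizer (f.comp (AlgHom.fst R B' C)) (g.comp (AlgHom.snd R B' C))
    ∀ i : ℕ, 0 < i → i < n →
      IsZero (((Tor (ModuleCat.{u} R) i).obj (ModuleCat.of R ↥P)).obj (ModuleCat.of R S)) := by
  intro i hi hin
  obtain ⟨j, rfl⟩ : ∃ j, i = j + 1 := ⟨i - 1, by omega⟩
  set P := AlgHom.equalizer (f.comp (AlgHom.fst R B' C)) (g.comp (AlgHom.snd R B' C)) with hP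
  let Q := CategoryTheory.projectiveResolution (ModuleCat.of R S)
  rw [isZero_tor_iff Q]
  have hJ : ExAt Q (LinearMap.ker f.toLinearMap) j :=
    exAt_shift Q (f := (LinearMap.ker f.toLinearMap).subtype) (g := f.toLinearMap) Subtype.val_injective
      (LinearMap.exact_subtype_ker_map _) hf ((isZero_tor_iff Q B (j + 1)).1 (hB _ (by omega) (by omega)))
  let ι : LinearMap.ker f.toLinearMap →ₗ[R] P :=
    { toFun := fun b => ⟨(b.1, 0), by
        show f b.1 = g 0
        rw [map_zero]
        exact b.2⟩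
      map_add' := fun b b' => by ext <;> simp
      map_smul' := fun c b => by ext <;> simp }
  refine exAt_extension Q (f := ι) (g := ((AlgHom.snd R B' C).comp P.val).toLinearMap) ?_ ?_ ?_ hJ
    ((isZero_tor_iff Q C j).1 (hC _ (by omega) hin))
  · intro a b h
    exact Subtype.ext (congrArg (fun p : P => p.1.1) h)
  · intro p
    refine ⟨fun h => ?_, ?_⟩
    · refine ⟨⟨p.1.1, ?_⟩, ?_⟩
      · have h1 : f p.1.1 = g p.1.2 := p.2
        have h2 : p.1.2 = 0 := h
        rw [h2, map_zero] at h1
        exact h1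
      · exact Subtype.ext (Prod.ext rfl (Eq.symm h))
    · rintro ⟨b, rfl⟩
      rfl
  · intro c
    obtain ⟨b, hb⟩ := hf (g c)
    exact ⟨⟨(b, c), hb⟩, rfl⟩

end Groth.Agent.S8710
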