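import Groth.Statements.S8716
import Groth.Agent.ExtDesc.Basic
-- import your own Groth.Agent.* helpers here

set_option autoImplicit false
universe u
open CategoryTheory CategoryTheory.Limits MonoidalCategory CartesianMonoidalCategory MonObj AlgebraicGeometry
open SGA7

set_option backward.isDefEq.respectTransparency false
set_option synthInstance.maxHeartbeats 200000

namespace Groth.Agent.S8716

open ExtDesc

/-- A homomorphism from a quasi-compact group scheme to a constant torsion-free group is trivial. -/
theorem eq_one_of_constGrp {k : Type u} [Field k] {Z : Type u} [Group Z] (hZ : ∀ z : Z, IsOfFinOrder z → z = 1)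
    {P G : Over (Spec (CommRingCat.of k))} [GrpObj P] [GrpObj G] [QuasiCompact P.hom]
    (eG : G ≅ TwC.const (Spec (CommRingCat.of k)) Z) (hG : TwC.IsConstGrp Z G eG)
    (c : P ⟶ G) (hc : (fst P P * snd P P) ≫ c = (fst P P ≫ c) * (snd P P ≫ c)) : c = 1 := by
  classical
  let S := Spec (CommRingCat.of k)
  let ι' : Z → (S ⟶ (TwC.const S Z).left) := fun m => Sigma.ι (fun _ : Z => S) m
  let ix : ↥(TwC.const S Z).left → Z := fun y => ((sigmaMk (fun _ : Z => S)).symm y).1
  have hix : ∀ m (x : ↥S), ix (ι' m x) = m := fun m x => by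
    have h := sigmaMk_mk (fun _ : Z => S) m x
    change ((sigmaMk (fun _ : Z => S)).symm (ι' m x)).1 = m
    rw [show ι' m x = sigmaMk (fun _ : Z => S) ⟨m, x⟩ from h.symm, Homeomorph.symm_apply_apply]
  have hix' : ∀ y, ∃ x : ↥S, ι' (ix y) x = y := fun y => by
    refine ⟨((sigmaMk (fun _ : Z => S)).symm y).2, ?_⟩
    have h := sigmaMk_mk (fun _ : Z => S) (ix y) ((sigmaMk (fun _ : Z => S)).symm y).2
    exact h.symm.trans ((sigmaMk (fun _ : Z => S)).apply_symm_apply y)
  let pG : Z → (𝟙_ (Over S) ⟶ G) := fun m => TwC.pt S Z m ≫ eG.inv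
  have hη : η[G] = pG 1 := by
    have h := hG 1 1
    rw [_root_.one_mul] at h
    have h' : pG 1 = 1 := mul_eq_left.mp h
    rw [h', Hom.one_def, toUnit_unique (toUnit _) (𝟙 _), Category.id_comp]
  have hfac : ∀ {T : Over S} (a : T ⟶ TwC.const S Z) (m : Z), (∀ t, ix (a.left t) = m) →
      a = toUnit T ≫ TwC.pt S Z m := by
    intro T a m h
    have hr : Set.range a.left ⊆ Set.range (ι' m) := by
      rintro _ ⟨t, rfl⟩
      obtain ⟨x, hx⟩ := hix' (a.left t)
      rw [h t] at hx
      exact ⟨x, hx⟩
    have hl := IsOpenImmersion.lift_fac (ι' m) a.left hr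
    have h2 : IsOpenImmersion.lift (ι' m) a.left hr = T.hom := by
      have h3 : ι' m ≫ (TwC.const S Z).hom = 𝟙 S := Sigma.ι_desc _ _
      rw [← Category.comp_id (IsOpenImmersion.lift (ι' m) a.left hr), ← h3, ← Category.assoc, hl]
      exact Over.w a
    apply Over.OverMorphism.ext
    rw [← hl, h2]
    rfl
  let val : ↥P.left → Z := fun p => ix ((c ≫ eG.hom).left p)
  -- finitely many values
  haveI : CompactSpace ↥P.left := QuasiCompact.compactSpace_of_compactSpace P.hom
  have hfin : (Set.range val).Finite := by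
    obtain ⟨t, ht⟩ := isCompact_univ.elim_finite_subcover
      (fun m : Z => (c ≫ eG.hom).left ⁻¹' Set.range (ι' m))
      (fun m => (ι' m).isOpenEmbedding.isOpen_range.preimage (c ≫ eG.hom).left.continuous)
      (fun p _ => Set.mem_iUnion.mpr ⟨val p, (hix' _).choose, (hix' _).choose_spec⟩)
    refine t.finite_toSet.subset ?_
    rintro _ ⟨p, rfl⟩
    obtain ⟨m, hm, x, hx⟩ := Set.mem_iUnion₂.mp (ht (Set.mem_univ p))
    change ix ((c ≫ eG.hom).left p) ∈ (t : Set Z)
    rw [← hx, hix]
    exact hm
  have hval : ∀ p : ↥P.left, val p = 1 := by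
    intro p
    let K := P.left.residueField p
    let T : Over S := Over.mk (P.left.fromSpecResidueField p ≫ P.hom)
    let q : T ⟶ P := Over.homMk (P.left.fromSpecResidueField p) rfl
    haveI : Subsingleton ↥T.left := inferInstanceAs (Subsingleton (PrimeSpectrum K))
    let t₀ : ↥T.left := (⊥ : PrimeSpectrum K)
    let v : (T ⟶ P) → Z := fun a => val (a.left t₀)
    have hv : ∀ a : T ⟶ P, a ≫ c = toUnit T ≫ pG (v a) := fun a => by
      have h := hfac (a ≫ c ≫ eG.hom) (v a) fun t => by rw [Subsingleton.elim t t₀]; rfl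
      rw [← Category.assoc (toUnit T), ← h]
      simp
    have hinj : ∀ m n, toUnit T ≫ pG m = toUnit T ≫ pG n → m = n := fun m n h => by
      have h' := congrArg (fun z => ix ((z ≫ eG.hom).left t₀)) h
      simp [pG, TwC.pt] at h'
      exact (hix m _).symm.trans (h'.trans (hix n _))
    have hmul : ∀ a b : T ⟶ P, v (a * b) = v a * v b := fun a b => by
      apply hinj
      have h := congrArg (fun z => lift a b ≫ z) hc
      simp only [MonObj.comp_mul, ← Category.assoc, lift_fst, lift_snd] at h
      rw [← hv, h, hv, hv, ← MonObj.comp_mul, hG]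
    let φ : (T ⟶ P) →* Z := MonoidHom.mk' v hmul
    have hf : (φ.range : Set Z).Finite := by
      refine hfin.subset ?_
      rintro _ ⟨a, rfl⟩
      exact ⟨_, rfl⟩
    haveI : Finite φ.range := hf.to_subtype
    have h1 : IsOfFinOrder (φ q) :=
      φ.range.subtype.isOfFinOrder (isOfFinOrder_of_finite (⟨φ q, q, rfl⟩ : φ.range))
    have h2 := hZ _ h1
    have hq : q.left t₀ = p := P.left.fromSpecResidueField_apply p _
    change val (q.left t₀) = 1 at h2
    rwa [hq] at h2
  have h := hfac (c ≫ eG.hom) 1 hval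
  rw [← cancel_mono eG.hom, h, Hom.one_def, hη]
  simp [pG]

/-- Let k be a field, Z a commutative group without non-trivial elements of finite order, P a
commutative k-group scheme of finite type (so that its group of connected components is a finite,
hence torsion, group), G the constant k-group scheme Z_k (through the isomorphism eG), and u : G →
E, v : E → P homomorphisms of commutative k-group schemes forming a sequence 1 → G → E → P → 1 exact
for the fppf topology. Then the extension is rigid: every automorphism of the k-group scheme E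
compatible with u and v is the identity. (The published statement assumes only P locally of finite
type with torsion component group; this row takes P of finite type, the case it names.) -/
theorem result (k : Type u) [Field k]
    (Z : Type u) [CommGroup Z] (hZ : ∀ z : Z, IsOfFinOrder z → z = 1)
    (P E G : Over (Spec (CommRingCat.of k))) [GrpObj P] [GrpObj E] [GrpObj G]
    [IsCommMonObj P] [IsCommMonObj E]
    [LocallyOfFiniteType P.hom] [QuasiCompact P.hom]
    (eG : G ≅ TwC.const (Spec (CommRingCat.of k)) Z) (hG : TwC.IsConstGrp Z G eG)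
    (u : G ⟶ E) (v : E ⟶ P) (hex : NonAbH1.IsExactSeq Scheme.fppfPrecoverage u v)
    (φ : E ≅ E) [IsMonHom φ.hom] (hφu : u ≫ φ.hom = u) (hφv : φ.hom ≫ v = v) :
    φ.hom = 𝟙 E := by
  classical
  obtain ⟨hum, hvm, -, -, -⟩ := id hex
  haveI := hum; haveI := hvm
  let D : E ⟶ E := φ.hom * (𝟙 E)⁻¹
  have hD : ∀ {T : Over (Spec (CommRingCat.of k))} (a : T ⟶ E), a ≫ D = (a ≫ φ.hom) * a⁻¹ := fun a => by
    simp only [D, MonObj.comp_mul, GrpObj.comp_inv, Category.comp_id]
  have hDv : D ≫ v = 1 := by
    simp only [D, MonObj.mul_comp, GrpObj.inv_comp, hφv, Category.id_comp, mul_inv_cancel]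
  obtain ⟨c, hc⟩ := exists_of_comp_eq_one hex hDv
  have hinv : ∀ (T : Over (Spec (CommRingCat.of k))) (x y : T ⟶ E), x ≫ v = y ≫ v → x ≫ c = y ≫ c := by
    intro T x y h
    obtain ⟨g, rfl⟩ := exists_eq_mul hex h
    apply injective_comp hex
    rw [Category.assoc, Category.assoc, hc, hD, hD, MonObj.mul_comp, Category.assoc, hφu,
      mul_inv_rev]
    group
  obtain ⟨cb, hcb⟩ := exists_desc (cover_of_isExactSeq hex) c hinv
  have hmul : (fst P P * snd P P) ≫ cb = (fst P P ≫ cb) * (snd P P ≫ cb) := by
    apply over_hom_ext (cover_tensor (cover_of_isExactSeq hex))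
    have e1 : (v ▷ E ≫ P ◁ v) ≫ fst P P = fst E E ≫ v := by simp
    have e2 : (v ▷ E ≫ P ◁ v) ≫ snd P P = snd E E ≫ v := by simp
    have e3 : (v ▷ E ≫ P ◁ v) ≫ (fst P P * snd P P) = (fst E E * snd E E) ≫ v := by
      rw [MonObj.comp_mul, e1, e2, MonObj.mul_comp]
    rw [MonObj.comp_mul, ← Category.assoc, e3, ← Category.assoc, e1, ← Category.assoc, e2, Category.assoc,
      Category.assoc, Category.assoc, hcb]
    apply injective_comp hex
    simp only [MonObj.mul_comp, Category.assoc, hc, hD, mul_inv_rev]
    exact (mul_comm _ _).trans (by ac_rfl)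
  have h1 := eq_one_of_constGrp hZ eG hG cb hmul
  have hD1 : D = 1 := by
    rw [← hc, ← hcb, h1, MonObj.comp_one, MonObj.one_comp]
  exact mul_inv_eq_one.mp hD1

end Groth.Agent.S8716
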