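import Groth.Statements.S8718
import Groth.Agent.ExtDesc.Basic
-- import your own Groth.Agent.* helpers here

set_option autoImplicit false
universe u
open CategoryTheory CategoryTheory.Limits MonoidalCategory CartesianMonoidalCategory MonObj AlgebraicGeometry
open SGA7

set_option backward.isDefEq.respectTransparency false
set_option synthInstance.maxHeartbeats 200000

namespace Groth.Agent.S8718

open ExtDesc

theorem pts {S : Scheme.{u}} {P E : Over S} (v : E ⟶ P) {T : Over S} (a b : T ⟶ E) :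
    lift a b ≫ (v ▷ E ≫ P ◁ v) = lift (a ≫ v) (b ≫ v) := by
  ext <;> simp

theorem exists_lift {S : Scheme.{u}} {X Y : Over S} {T : Over S} (x : T ⟶ X ⊗ Y) :
    ∃ a b, x = lift a b := ⟨x ≫ fst X Y, x ≫ snd X Y, by ext <;> simp⟩

/-- For group schemes over a base scheme S (the representable case on the fppf site): let P and G be
S-group schemes with G commutative, and u : G → E, v : E → P homomorphisms of S-group schemes
forming a sequence 1 → G → E → P → 1 exact for the fppf topology. Suppose every morphism of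
S-schemes P ×_S G → G whose restrictions to P × e_G and to e_P × G are trivial is trivial. Then u(G)
is central in E: for all points g of G and x of E with values in any S-scheme, u(g) x = x u(g). If
moreover P is commutative and every morphism of S-schemes P ×_S P → G trivial on P × e_P and on e_P
× P is trivial, then E is commutative. (The published statement is for sheaves of groups on an
arbitrary topos; this row is its case of representable sheaves on the fppf site of S. Morphisms to G
form a group; trivial means equal to its unit.) -/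
theorem result (S : Scheme.{u})
    (P G E : Over S) [GrpObj P] [GrpObj G] [GrpObj E] [IsCommMonObj G]
    (u : G ⟶ E) (v : E ⟶ P) (hex : NonAbH1.IsExactSeq Scheme.fppfPrecoverage u v)
    (hPG : ∀ f : P ⊗ G ⟶ G, lift (𝟙 P) (toUnit P ≫ η[G]) ≫ f = 1 → lift (toUnit G ≫ η[P]) (𝟙 G) ≫ f = 1 → f = 1) :
    (∀ (T : Over S) (g : T ⟶ G) (x : T ⟶ E), (g ≫ u) * x = x * (g ≫ u)) ∧
      (IsCommMonObj P →
        (∀ f : P ⊗ P ⟶ G, lift (𝟙 P) (toUnit P ≫ η[P]) ≫ f = 1 → lift (toUnit P ≫ η[P]) (𝟙 P) ≫ f = 1 → f = 1) →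
          IsCommMonObj E) := by
  obtain ⟨hum, hvm, -, -, -⟩ := id hex
  haveI := hum; haveI := hvm
  have hucomm : ∀ {T : Over S} (g h : T ⟶ G), (g ≫ u) * (h ≫ u) = (h ≫ u) * (g ≫ u) := fun g h => by
    rw [← MonObj.mul_comp, ← MonObj.mul_comp, mul_comm]
  let F : E ⊗ G ⟶ E := fst E G * (snd E G ≫ u) * ((snd E G ≫ u) * fst E G)⁻¹
  have hF : ∀ {T : Over S} (a : T ⟶ E) (g : T ⟶ G),
      lift a g ≫ F = a * (g ≫ u) * ((g ≫ u) * a)⁻¹ := fun a g => by
    simp only [F, MonObj.comp_mul, GrpObj.comp_inv, ← Category.assoc, lift_fst, lift_snd]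
  have hFv : F ≫ v = 1 := by
    simp only [F, MonObj.mul_comp, GrpObj.inv_comp, Category.assoc, comp_eq_one hex, _root_.mul_one,
      _root_.one_mul, mul_inv_cancel]
  obtain ⟨c, hc⟩ := exists_of_comp_eq_one hex hFv
  have hinv : ∀ (T : Over S) (x y : T ⟶ E ⊗ G), x ≫ (v ▷ G) = y ≫ (v ▷ G) → x ≫ c = y ≫ c := by
    intro T x y h
    obtain ⟨a, g, rfl⟩ := exists_lift x
    obtain ⟨a', g', rfl⟩ := exists_lift y
    have hg : g = g' := by simpa using congrArg (· ≫ snd P G) h
    subst hg
    have ha : a ≫ v = a' ≫ v := by simpa using congrArg (· ≫ fst P G) h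
    obtain ⟨k, rfl⟩ := exists_eq_mul hex ha
    apply injective_comp hex
    rw [Category.assoc, Category.assoc, hc, hF, hF, _root_.mul_assoc a (k ≫ u), hucomm k g]
    group
  have hcov : Cover (v ▷ G) := cover_whiskerRight (cover_of_isExactSeq hex) G
  obtain ⟨cb, hcb⟩ := exists_desc hcov c hinv
  have hlft : ∀ {T : Over S} (a : T ⟶ E) (g : T ⟶ G), lift (a ≫ v) g ≫ cb = lift a g ≫ c := fun a g => by
    rw [← hcb, ← Category.assoc, lift_whiskerRight]
  have hcb1 : cb = 1 := by
    refine hPG cb ?_ ?_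
    · apply over_hom_ext (cover_of_isExactSeq hex)
      have h2 : v ≫ lift (𝟙 P) (toUnit P ≫ η[G]) = lift (𝟙 E ≫ v) (1 : E ⟶ G) := by
        rw [Hom.one_def]; ext <;> simp
      rw [← Category.assoc, h2, hlft, MonObj.comp_one]
      apply injective_comp hex
      rw [Category.assoc, hc, hF, MonObj.one_comp, _root_.mul_one, _root_.one_mul, mul_inv_cancel]
    · have h2 : lift (toUnit G ≫ η[P]) (𝟙 G) = lift ((1 : G ⟶ E) ≫ v) (𝟙 G) := by
        rw [MonObj.one_comp, Hom.one_def]
      rw [h2, hlft]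
      apply injective_comp hex
      rw [Category.assoc, hc, hF, MonObj.one_comp, _root_.mul_one, _root_.one_mul, mul_inv_cancel]
  have hF1 : F = 1 := by
    rw [← hc, ← hcb, hcb1, MonObj.comp_one, MonObj.one_comp]
  have hcentral : ∀ (T : Over S) (g : T ⟶ G) (x : T ⟶ E), (g ≫ u) * x = x * (g ≫ u) := fun T g x => by
    have h := hF x g
    rw [hF1, MonObj.comp_one] at h
    exact (mul_inv_eq_one.mp h.symm).symm
  refine ⟨hcentral, fun hP hPP => ?_⟩
  haveI := hP
  let D : E ⊗ E ⟶ E := fst E E * snd E E * (snd E E * fst E E)⁻¹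
  have hD : ∀ {T : Over S} (a b : T ⟶ E), lift a b ≫ D = a * b * (b * a)⁻¹ := fun a b => by
    simp only [D, MonObj.comp_mul, GrpObj.comp_inv, lift_fst, lift_snd]
  have hDv : D ≫ v = 1 := by
    simp only [D, MonObj.mul_comp, GrpObj.inv_comp]
    rw [mul_comm (fst E E ≫ v), mul_inv_cancel]
  obtain ⟨d, hd⟩ := exists_of_comp_eq_one hex hDv
  have hinvD : ∀ (T : Over S) (x y : T ⟶ E ⊗ E), x ≫ (v ▷ E ≫ P ◁ v) = y ≫ (v ▷ E ≫ P ◁ v) →
      x ≫ d = y ≫ d := by
    intro T x y h
    obtain ⟨a, b, rfl⟩ := exists_lift x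
    obtain ⟨a', b', rfl⟩ := exists_lift y
    rw [pts, pts] at h
    have ha : a ≫ v = a' ≫ v := by simpa using congrArg (· ≫ fst P P) h
    have hb : b ≫ v = b' ≫ v := by simpa using congrArg (· ≫ snd P P) h
    obtain ⟨k, rfl⟩ := exists_eq_mul hex ha
    obtain ⟨l, rfl⟩ := exists_eq_mul hex hb
    apply injective_comp hex
    rw [Category.assoc, Category.assoc, hd, hD, hD]
    have e1 : a * (k ≫ u) * (b * (l ≫ u)) = a * b * ((k ≫ u) * (l ≫ u)) := by
      rw [_root_.mul_assoc a, ← _root_.mul_assoc (k ≫ u), hcentral T k b]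
      group
    have e2 : b * (l ≫ u) * (a * (k ≫ u)) = b * a * ((k ≫ u) * (l ≫ u)) := by
      rw [_root_.mul_assoc b, ← _root_.mul_assoc (l ≫ u), hcentral T l a, hucomm k l]
      group
    rw [e1, e2]
    group
  obtain ⟨db, hdb⟩ := exists_desc (cover_tensor (cover_of_isExactSeq hex)) d hinvD
  have hlftD : ∀ (a b : E ⟶ E), lift (a ≫ v) (b ≫ v) ≫ db = lift a b ≫ d := fun a b => by
    rw [← pts, Category.assoc, hdb]
  have hdb1 : db = 1 := by
    refine hPP db ?_ ?_
    · apply over_hom_ext (cover_of_isExactSeq hex)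
      have h2 : v ≫ lift (𝟙 P) (toUnit P ≫ η[P]) = lift (𝟙 E ≫ v) ((1 : E ⟶ E) ≫ v) := by
        rw [MonObj.one_comp, Hom.one_def]; ext <;> simp
      rw [← Category.assoc, h2, hlftD, MonObj.comp_one]
      apply injective_comp hex
      rw [Category.assoc, hd, hD, MonObj.one_comp, _root_.mul_one, _root_.one_mul, mul_inv_cancel]
    · apply over_hom_ext (cover_of_isExactSeq hex)
      have h2 : v ≫ lift (toUnit P ≫ η[P]) (𝟙 P) = lift ((1 : E ⟶ E) ≫ v) (𝟙 E ≫ v) := by
        rw [MonObj.one_comp, Hom.one_def]; ext <;> simp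
      rw [← Category.assoc, h2, hlftD, MonObj.comp_one]
      apply injective_comp hex
      rw [Category.assoc, hd, hD, MonObj.one_comp, _root_.mul_one, _root_.one_mul, mul_inv_cancel]
  have hD1 : D = 1 := by
    rw [← hd, ← hdb, hdb1, MonObj.comp_one, MonObj.one_comp]
  have hcomm := mul_inv_eq_one.mp hD1
  constructor
  have h4 : (β_ E E).hom = lift (snd E E) (fst E E) := by ext <;> simp
  rw [h4, ← Hom.mul_def, ← hcomm, Hom.mul_def, lift_fst_snd, Category.id_comp]

end Groth.Agent.S8718
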