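import Groth.Statements.S8719
import Groth.Agent.MvPSLib.Basic
-- import your own Groth.Agent.* helpers here

set_option autoImplicit false
universe u
open VanCyc

namespace Groth.Agent.S8719

/-- The formal computation carried out in its proof: let k be a field and f a power series in k[[x_0,
..., x_n]] with vanishing constant and linear terms whose degree-two part is a non-degenerate
quadratic form (the Gram determinant of its polar bilinear form is a unit). Then the partial
derivatives of f generate the maximal ideal of k[[x_0, ..., x_n]] (so f together with its partial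
derivatives cut out the origin with multiplicity one). -/
theorem result (k : Type u) [Field k] (n : ℕ)
    (f : MvPowerSeries (Fin (n + 1)) k) (hf : VanCyc.NondegQuadSeries f) :
    Ideal.span (Set.range fun i : Fin (n + 1) => MvPowerSeries.pderiv k i f) =
      IsLocalRing.maximalIdeal (MvPowerSeries (Fin (n + 1)) k) := by
  classical
  obtain ⟨⟨hf0, hf1⟩, hdet⟩ := hf
  let M := VanCyc.polarMatrix (VanCyc.quadPart f)
  let g : Fin (n + 1) → MvPowerSeries (Fin (n + 1)) k := fun i => MvPowerSeries.pderiv k i f
  have hg0 : ∀ i, MvPowerSeries.constantCoeff (g i) = 0 := fun i => by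
    rw [← MvPowerSeries.coeff_zero_eq_constantCoeff_apply, MvPowerSeries.coeff_pderiv, zero_add, hf1 i,
      zero_mul]
  have hg1 : ∀ i j, MvPowerSeries.coeff (Finsupp.single j 1) (g i) = M i j := fun i j => by
    rw [MvPowerSeries.coeff_pderiv]
    simp only [M, VanCyc.polarMatrix, VanCyc.quadPart]
    rcases lt_trichotomy i j with h | rfl | h
    · rw [if_neg h.ne, if_pos h, if_pos h, if_neg h.ne, Finsupp.single_eq_of_ne h.ne, Nat.cast_zero,
        zero_add, mul_one, add_comm (Finsupp.single j 1) (Finsupp.single i 1)]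
    · simp only [if_true]
      rw [Finsupp.single_eq_same, ← Finsupp.single_add, Nat.cast_one]
      ring_nf
    · rw [if_neg h.ne', if_neg h.not_gt, if_pos h, if_neg h.ne, Finsupp.single_eq_of_ne h.ne',
        Nat.cast_zero, zero_add, mul_one]
  rw [Groth.Agent.MvPSLib.maximalIdeal_eq]
  refine le_antisymm ?_ ?_
  · rw [Ideal.span_le]
    rintro _ ⟨i, rfl⟩
    exact hg0 i
  refine Submodule.le_of_le_smul_of_le_jacobson_bot (I := Groth.Agent.FSAdic.augIdeal k (n + 1)) ?_ ?_ ?_
  · rw [Groth.Agent.FSAdic.augIdeal_eq_span]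
    exact Submodule.fg_span (Set.finite_range _)
  · rw [← Groth.Agent.MvPSLib.maximalIdeal_eq, IsLocalRing.jacobson_eq_maximalIdeal _ bot_ne_top]
  conv_lhs => rw [Groth.Agent.FSAdic.augIdeal_eq_span]
  rw [Ideal.span_le]
  rintro _ ⟨l, rfl⟩
  let h : MvPowerSeries (Fin (n + 1)) k := ∑ i, MvPowerSeries.C (M⁻¹ l i) * g i
  have hh : h ∈ Ideal.span (Set.range g) :=
    Ideal.sum_mem _ fun i _ => Ideal.mul_mem_left _ _ (Ideal.subset_span ⟨i, rfl⟩)
  have hd : MvPowerSeries.X l - h ∈ Groth.Agent.FSAdic.augIdeal k (n + 1) ^ 2 := by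
    rw [Groth.Agent.MvPSLib.mem_augIdeal_pow_iff]
    intro d hd
    rw [map_sub, map_sum]
    simp only [MvPowerSeries.coeff_C_mul]
    by_cases h0 : d = 0
    · subst h0
      simp [hg0]
    · obtain ⟨j, hj⟩ := Finsupp.support_nonempty_iff.2 h0
      have hle : Finsupp.single j 1 ≤ d :=
        Finsupp.single_le_iff.2 (Nat.one_le_iff_ne_zero.2 (Finsupp.mem_support_iff.1 hj))
      have heq : d = Finsupp.single j 1 := by
        have h2 := congrArg Finsupp.degree (tsub_add_cancel_of_le hle)
        rw [map_add, Finsupp.degree_single] at h2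
        have h3 : d - Finsupp.single j 1 = 0 := (Finsupp.degree_eq_zero_iff _).1 (by omega)
        exact le_antisymm (tsub_eq_zero_iff_le.1 h3) hle
      subst heq
      simp only [hg1]
      rw [← Matrix.mul_apply, Matrix.nonsing_inv_mul M hdet, MvPowerSeries.coeff_X, Matrix.one_apply]
      simp only [Finsupp.single_left_inj one_ne_zero]
      rw [sub_eq_zero]
      rcases eq_or_ne j l with rfl | hjl
      · simp
      · rw [if_neg hjl, if_neg hjl.symm]
  rw [← sub_add_cancel (MvPowerSeries.X l) h]
  refine add_mem (Submodule.mem_sup_right ?_) (Submodule.mem_sup_left hh)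
  rw [smul_eq_mul, ← pow_two]
  exact hd

end Groth.Agent.S8719
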