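import Groth.Statements.S8720
import Mathlib

set_option autoImplicit false
universe u
open VanCyc

namespace Groth.Agent.S8720

namespace Aux
open MvPowerSeries
variable {A : Type*} [CommRing A] {σ : Type*} [Fintype σ]

lemma mem_spanX_pow_aux [LinearOrder σ] {N : ℕ} {p : MvPowerSeries (σ) A}
    (h : ∀ d : σ →₀ ℕ, Finsupp.degree d < N → coeff d p = 0) :
    p ∈ Ideal.span (Set.range (X : σ → MvPowerSeries (σ) A)) ^ N := by
  classical
  induction N generalizing p with
  | zero => simp
  | succ N ih =>
    let q : σ → MvPowerSeries (σ) A := fun i d =>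
      if (∀ j < i, d j = 0) then coeff (d + Finsupp.single i 1) p else 0
    have hq : ∀ i, q i ∈ Ideal.span (Set.range (X : σ → MvPowerSeries (σ) A)) ^ N := fun i => ih fun d hd => by
      change (if _ then _ else _) = _
      split_ifs
      · exact h _ (by rw [map_add, Finsupp.degree_single]; omega)
      · rfl
    have hp : p = ∑ i, X i * q i := by
      ext e
      rw [map_sum]
      simp only [X_def, coeff_monomial_mul, one_mul]
      by_cases he : e = 0
      · subst he
        rw [h 0 (by simp)]
        refine (Finset.sum_eq_zero fun i _ => if_neg fun hle => ?_).symm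
        have := hle i
        simp at this
      · obtain ⟨i₀, hi₀, hmin⟩ : ∃ i, e i ≠ 0 ∧ ∀ j < i, e j = 0 := by
          have hne : (Finset.univ.filter fun i => e i ≠ 0).Nonempty := by
            obtain ⟨i, hi⟩ := Finsupp.support_nonempty_iff.mpr he
            exact ⟨i, Finset.mem_filter.mpr ⟨Finset.mem_univ _, Finsupp.mem_support_iff.mp hi⟩⟩
          refine ⟨(Finset.univ.filter fun i => e i ≠ 0).min' hne,
            (Finset.mem_filter.mp (Finset.min'_mem _ hne)).2, fun j hj => ?_⟩
          by_contra hne'
          exact (not_lt.mpr (Finset.min'_le _ j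
            (Finset.mem_filter.mpr ⟨Finset.mem_univ _, hne'⟩))) hj
        rw [Finset.sum_eq_single i₀]
        · have hle : Finsupp.single i₀ 1 ≤ e := Finsupp.single_le_iff.mpr (by omega)
          rw [if_pos hle]
          change _ = (if _ then _ else _)
          rw [if_pos, tsub_add_cancel_of_le hle]
          intro j hj
          simp [hmin j hj]
        · intro i _ hi
          split_ifs with hle
          · change (if _ then _ else _) = _
            rw [if_neg]
            intro hall
            have h1 : 1 ≤ e i := Finsupp.single_le_iff.mp hle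
            rcases lt_or_gt_of_ne hi with hlt | hgt
            · exact absurd (hmin i hlt) (by omega)
            · have := hall i₀ hgt
              rw [Finsupp.tsub_apply, Finsupp.single_eq_of_ne hgt.ne] at this
              omega
          · rfl
        · exact fun hni => absurd (Finset.mem_univ i₀) hni
    rw [hp]
    exact Ideal.sum_mem _ fun i _ => by
      rw [pow_succ']
      exact Ideal.mul_mem_mul (Ideal.subset_span ⟨i, rfl⟩) (hq i)

lemma mem_spanX_pow [DecidableEq σ] {N : ℕ} {p : MvPowerSeries σ A}
    (h : ∀ d : σ →₀ ℕ, Finsupp.degree d < N → coeff d p = 0) :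
    p ∈ Ideal.span (Set.range (X : σ → MvPowerSeries σ A)) ^ N :=
  @mem_spanX_pow_aux A _ σ _ (LinearOrder.lift' (Fintype.equivFin σ) (Fintype.equivFin σ).injective) N p h

end Aux

/-- The formal computation carried out in its proof: let k be a field of characteristic 2, m a natural
number, and f a power series over k in the variables x_0 and x_i, x_i' (i = 1, ..., m) whose terms
of degree less than 3 are exactly those of x_0^2 + x_1 x_1' + ... + x_m x_m'. Then the ideal
generated by f and all its partial derivatives is the ideal generated by x_0^2 and the x_i, x_i',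
and the quotient of the power series ring by this ideal is two-dimensional over k. (Characteristic 2
is what makes the derivative in x_0 lose its linear term.) -/
theorem result (k : Type u) [Field k] [CharP k 2] (m : ℕ)
    (f : MvPowerSeries (Option (Fin m ⊕ Fin m)) k)
    (hf : ∀ d : Option (Fin m ⊕ Fin m) →₀ ℕ, d.degree < 3 →
      MvPowerSeries.coeff d f = MvPowerSeries.coeff d
        (MvPowerSeries.X none ^ 2 +
          ∑ i : Fin m, MvPowerSeries.X (some (Sum.inl i)) * MvPowerSeries.X (some (Sum.inr i)))) :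
    Ideal.span ({f} ∪ Set.range fun i : Option (Fin m ⊕ Fin m) => MvPowerSeries.pderiv k i f) =
      Ideal.span ({MvPowerSeries.X none ^ 2} ∪
        Set.range fun j : Fin m ⊕ Fin m => (MvPowerSeries.X (some j) : MvPowerSeries (Option (Fin m ⊕ Fin m)) k)) ∧
    Module.finrank k (MvPowerSeries (Option (Fin m ⊕ Fin m)) k ⧸
      Ideal.span ({MvPowerSeries.X none ^ 2} ∪
        Set.range fun j : Fin m ⊕ Fin m => (MvPowerSeries.X (some j) : MvPowerSeries (Option (Fin m ⊕ Fin m)) k))) = 2 := by
  classical

  let x : Option (Fin m ⊕ Fin m) → (MvPowerSeries (Option (Fin m ⊕ Fin m)) k) := MvPowerSeries.X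
  set M : Ideal (MvPowerSeries (Option (Fin m ⊕ Fin m)) k) := Ideal.span (Set.range x) with hM
  set T : Ideal (MvPowerSeries (Option (Fin m ⊕ Fin m)) k) := Ideal.span ({MvPowerSeries.X none ^ 2} ∪ Set.range fun j : Fin m ⊕ Fin m => (MvPowerSeries.X (some j) : (MvPowerSeries (Option (Fin m ⊕ Fin m)) k))) with hT
  set J : Ideal (MvPowerSeries (Option (Fin m ⊕ Fin m)) k) := Ideal.span ({f} ∪ Set.range fun i : Option (Fin m ⊕ Fin m) => MvPowerSeries.pderiv k i f) with hJ
  set f₂ : (MvPowerSeries (Option (Fin m ⊕ Fin m)) k) := MvPowerSeries.X none ^ 2 + ∑ i : Fin m, MvPowerSeries.X (some (Sum.inl i)) * MvPowerSeries.X (some (Sum.inr i)) with hf₂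
  have h0T : x none ^ 2 ∈ T := Ideal.subset_span (Or.inl rfl)
  have hjT : ∀ j, x (some j) ∈ T := fun j => Ideal.subset_span (Or.inr ⟨j, rfl⟩)
  have hTM : T ≤ M := by
    refine Ideal.span_le.2 ?_
    rintro _ (rfl | ⟨j, rfl⟩)
    · rw [sq]; exact M.mul_mem_left _ (Ideal.subset_span ⟨_, rfl⟩)
    · exact Ideal.subset_span ⟨_, rfl⟩
  have hM2 : M ^ 2 ≤ Ideal.span {x none ^ 2} ⊔ M * T := by
    rw [hM, sq, Ideal.span_mul_span', Ideal.span_le]
    rintro _ ⟨_, ⟨a, rfl⟩, _, ⟨b, rfl⟩, rfl⟩
    show x a * x b ∈ _
    rcases a with _ | a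
    · rcases b with _ | b
      · exact Ideal.mem_sup_left (by rw [← sq]; exact Ideal.mem_span_singleton_self _)
      · exact Ideal.mem_sup_right (Ideal.mul_mem_mul (Ideal.subset_span ⟨_, rfl⟩) (hjT b))
    · exact Ideal.mem_sup_right (by rw [mul_comm (x (some a))]; exact Ideal.mul_mem_mul (Ideal.subset_span ⟨_, rfl⟩) (hjT a))
  have hM2T : M ^ 2 ≤ T := hM2.trans (sup_le ((Ideal.span_singleton_le_iff_mem _).2 h0T) Ideal.mul_le_right)
  have hlow : ∀ d : Option (Fin m ⊕ Fin m) →₀ ℕ, d.degree < 3 → MvPowerSeries.coeff d (f - f₂) = 0 := fun d hd => by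
    rw [map_sub, hf d hd, sub_self]
  have hr : f - f₂ ∈ M ^ 3 := Aux.mem_spanX_pow hlow
  have hdr : ∀ i, MvPowerSeries.pderiv k i (f - f₂) ∈ M ^ 2 := fun i => Aux.mem_spanX_pow fun d hd => by
    rw [MvPowerSeries.coeff_pderiv, hlow _ (by rw [map_add, Finsupp.degree_single]; omega), zero_mul]
  have hx : ∀ i j, MvPowerSeries.pderiv k i (x j) = if j = i then 1 else 0 := by
    intro i j
    by_cases h : j = i
    · subst h; simp [x, MvPowerSeries.pderiv_X_self]
    · simp [x, MvPowerSeries.pderiv_X_of_ne (Ne.symm h), h]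
  have hd2 : ∀ i, MvPowerSeries.pderiv k i f₂ = match i with
      | none => 0
      | some (Sum.inl i) => x (some (Sum.inr i))
      | some (Sum.inr i) => x (some (Sum.inl i)) := by
    intro i
    rw [hf₂, map_add, map_sum, Derivation.leibniz_pow]
    simp only [Derivation.leibniz, smul_eq_mul]
    change (2 : ℕ) • (x none ^ (2 - 1) * MvPowerSeries.pderiv k i (x none)) + ∑ j : Fin m, (x _ * MvPowerSeries.pderiv k i (x _) + x _ * MvPowerSeries.pderiv k i (x _)) = _
    simp only [hx]
    haveI : CharP (MvPowerSeries (Option (Fin m ⊕ Fin m)) k) 2 := charP_of_injective_algebraMap (algebraMap k (MvPowerSeries (Option (Fin m ⊕ Fin m)) k)).injective 2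
    rw [two_smul, CharTwo.add_self_eq_zero, zero_add]
    rcases i with _ | (i | i) <;> simp [Finset.sum_ite_eq', eq_comm]
  have hdf : ∀ i, MvPowerSeries.pderiv k i f = MvPowerSeries.pderiv k i f₂ + MvPowerSeries.pderiv k i (f - f₂) := fun i => by
    rw [← map_add, add_sub_cancel]
  have hJT : J ≤ T := by
    refine Ideal.span_le.2 ?_
    rintro z (hz | ⟨i, rfl⟩)
    · rw [Set.mem_singleton_iff.1 hz]
      show f ∈ T
      rw [← add_sub_cancel f₂ f]
      refine T.add_mem (T.add_mem h0T (T.sum_mem fun j _ => T.mul_mem_right _ (hjT _))) ?_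
      exact hM2T (Ideal.pow_le_pow_right (by omega) hr)
    · show MvPowerSeries.pderiv k i f ∈ T
      rw [hdf, hd2]
      refine T.add_mem ?_ (hM2T (hdr i))
      rcases i with _ | (i | i)
      · exact T.zero_mem
      · exact hjT _
      · exact hjT _
  have h0' : x none ^ 2 ∈ J ⊔ M * T := by
    have e : x none ^ 2 = f - (∑ i : Fin m, x (some (Sum.inl i)) * x (some (Sum.inr i))) - (f - f₂) := by
      rw [hf₂]; ring
    rw [e]
    refine sub_mem (sub_mem (Ideal.mem_sup_left (Ideal.subset_span (Or.inl rfl))) (Ideal.mem_sup_right ?_)) (Ideal.mem_sup_right ?_)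
    · exact Ideal.sum_mem _ fun i _ => Ideal.mul_mem_mul (Ideal.subset_span ⟨_, rfl⟩) (hjT _)
    · rw [pow_succ'] at hr
      exact Ideal.mul_mono_right hM2T hr
  have hM2' : M ^ 2 ≤ J ⊔ M * T := hM2.trans (sup_le ((Ideal.span_singleton_le_iff_mem _).2 h0') le_sup_right)
  have hle : T ≤ J ⊔ M • T := by
    rw [smul_eq_mul]
    refine Ideal.span_le.2 ?_
    rintro _ (rfl | ⟨j, rfl⟩)
    · exact h0'
    · rcases j with i | i
      · have e : x (some (Sum.inl i)) = MvPowerSeries.pderiv k (some (Sum.inr i)) f - MvPowerSeries.pderiv k (some (Sum.inr i)) (f - f₂) := by rw [hdf, hd2, add_sub_cancel_right]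
        show x (some (Sum.inl i)) ∈ _
        rw [e]
        exact sub_mem (Ideal.mem_sup_left (Ideal.subset_span (Or.inr ⟨_, rfl⟩))) (hM2' (hdr _))
      · have e : x (some (Sum.inr i)) = MvPowerSeries.pderiv k (some (Sum.inl i)) f - MvPowerSeries.pderiv k (some (Sum.inl i)) (f - f₂) := by rw [hdf, hd2, add_sub_cancel_right]
        show x (some (Sum.inr i)) ∈ _
        rw [e]
        exact sub_mem (Ideal.mem_sup_left (Ideal.subset_span (Or.inr ⟨_, rfl⟩))) (hM2' (hdr _))
  have hMjac : M ≤ (⊥ : Ideal (MvPowerSeries (Option (Fin m ⊕ Fin m)) k)).jacobson := by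
    rw [hM, Ideal.span_le]
    rintro _ ⟨i, rfl⟩
    show x i ∈ (⊥ : Ideal (MvPowerSeries (Option (Fin m ⊕ Fin m)) k)).jacobson
    rw [Ideal.mem_jacobson_bot]
    intro y
    rw [MvPowerSeries.isUnit_iff_constantCoeff]
    simp [x]
  have hTJ : T = J := le_antisymm (Submodule.le_of_le_smul_of_le_jacobson_bot ((Submodule.fg_span ((Set.finite_singleton _).union (Set.finite_range _)))) hMjac hle) hJT
  refine ⟨hTJ.symm, ?_⟩
  let φ : (MvPowerSeries (Option (Fin m ⊕ Fin m)) k) →ₗ[k] k × k := (MvPowerSeries.coeff 0).prod (MvPowerSeries.coeff (Finsupp.single none 1))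
  have hφs : Function.Surjective φ := fun ab => ⟨MvPowerSeries.C ab.1 + MvPowerSeries.C ab.2 * MvPowerSeries.X none, by
    refine Prod.ext ?_ ?_ <;> simp [φ, MvPowerSeries.coeff_C, MvPowerSeries.coeff_X]⟩
  have hker : LinearMap.ker φ = T.restrictScalars k := by
    apply le_antisymm
    · intro g hg
      have hg0 : MvPowerSeries.coeff 0 g = 0 := congrArg Prod.fst hg
      have hg1 : MvPowerSeries.coeff (Finsupp.single none 1) g = 0 := congrArg Prod.snd hg
      let g' : (MvPowerSeries (Option (Fin m ⊕ Fin m)) k) := g - ∑ j : Fin m ⊕ Fin m, MvPowerSeries.C (MvPowerSeries.coeff (Finsupp.single (some j) 1) g) * x (some j)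
      have hcx : ∀ (d : Option (Fin m ⊕ Fin m) →₀ ℕ) (c : k) (i : Option (Fin m ⊕ Fin m)), MvPowerSeries.coeff d (MvPowerSeries.C c * x i) = if d = Finsupp.single i 1 then c else 0 := fun d c i => by
        show MvPowerSeries.coeff d (MvPowerSeries.C c * (MvPowerSeries.X i : MvPowerSeries (Option (Fin m ⊕ Fin m)) k)) = _
        rw [MvPowerSeries.coeff_C_mul, MvPowerSeries.coeff_X, mul_ite, mul_one, mul_zero]
      have hg' : g' ∈ M ^ 2 := Aux.mem_spanX_pow fun d hd => by
        simp only [g', map_sub, map_sum, hcx]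
        rcases Nat.eq_zero_or_pos d.degree with h | h
        · rw [(Finsupp.degree_eq_zero_iff d).1 h, hg0, Finset.sum_eq_zero, sub_zero]
          intro j _
          exact if_neg (Finsupp.single_ne_zero.2 one_ne_zero).symm
        · obtain ⟨i, rfl⟩ : ∃ i, d = Finsupp.single i 1 := by
            obtain ⟨i, hi⟩ := Finsupp.support_nonempty_iff.2 (fun h0 : d = 0 => by simp [h0] at h)
            refine ⟨i, ?_⟩
            have hle : Finsupp.single i 1 ≤ d := Finsupp.single_le_iff.2 (Nat.one_le_iff_ne_zero.2 (Finsupp.mem_support_iff.1 hi))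
            have hdeg := congrArg Finsupp.degree (tsub_add_cancel_of_le hle)
            rw [map_add, Finsupp.degree_single] at hdeg
            have h0 : (d - Finsupp.single i 1).degree = 0 := by omega
            rw [← tsub_add_cancel_of_le hle, (Finsupp.degree_eq_zero_iff _).1 h0, zero_add]
          rcases i with _ | i
          · rw [hg1, Finset.sum_eq_zero, sub_zero]
            intro j _
            exact if_neg fun he => by simp [Finsupp.single_left_inj] at he
          · rw [Finset.sum_eq_single i, if_pos rfl, sub_self]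
            · intro j _ hj
              exact if_neg fun he => hj (Option.some_injective _ ((Finsupp.single_left_inj one_ne_zero).1 he)).symm
            · simp
      show g ∈ T
      rw [← sub_add_cancel g (∑ j : Fin m ⊕ Fin m, MvPowerSeries.C (MvPowerSeries.coeff (Finsupp.single (some j) 1) g) * x (some j))]
      exact T.add_mem (hM2T hg') (T.sum_mem fun j _ => T.mul_mem_left _ (hjT j))
    · intro g hg
      refine Submodule.span_induction ?_ (map_zero φ) (fun a b _ _ ha hb => by rw [LinearMap.mem_ker] at *; rw [map_add, ha, hb, add_zero]) ?_ hg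
      · rintro _ (rfl | ⟨j, rfl⟩) <;> simp [φ, MvPowerSeries.coeff_X, MvPowerSeries.coeff_X_pow, Finsupp.single_left_inj, eq_comm] <;>
        first | exact ⟨fun h => by simpa using congrArg Finsupp.degree h, fun h => by simpa using congrArg Finsupp.degree h⟩ | exact fun h => by simpa using congrArg Finsupp.degree h
      · intro c a _ ha
        rw [LinearMap.mem_ker] at *
        have ha0 : MvPowerSeries.coeff 0 a = 0 := congrArg Prod.fst ha
        have ha1 : MvPowerSeries.coeff (Finsupp.single none 1) a = 0 := congrArg Prod.snd ha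
        refine Prod.ext ?_ ?_
        · show MvPowerSeries.coeff 0 (c * a) = 0
          rw [MvPowerSeries.coeff_mul, Finset.HasAntidiagonal.antidiagonal_zero, Finset.sum_singleton, ha0, mul_zero]
        · show MvPowerSeries.coeff (Finsupp.single none 1) (c * a) = 0
          rw [MvPowerSeries.coeff_mul]
          refine Finset.sum_eq_zero fun p hp => ?_
          rw [Finset.HasAntidiagonal.mem_antidiagonal] at hp
          have hdeg : p.1.degree + p.2.degree = 1 := by rw [← map_add, hp, Finsupp.degree_single]
          rcases Nat.eq_zero_or_pos p.2.degree with h | h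
          · rw [(Finsupp.degree_eq_zero_iff p.2).1 h, ha0, mul_zero]
          · rw [(Finsupp.degree_eq_zero_iff p.1).1 (by omega), zero_add] at hp
            rw [hp, ha1, mul_zero]
  rw [show Module.finrank k ((MvPowerSeries (Option (Fin m ⊕ Fin m)) k) ⧸ T) = Module.finrank k (k × k) from (((Submodule.Quotient.restrictScalarsEquiv k T).symm.trans (Submodule.quotEquivOfEq _ _ hker.symm)).trans (φ.quotKerEquivOfSurjective hφs)).finrank_eq]
  simp

end Groth.Agent.S8720
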