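import Groth.Statements.S8724
import Mathlib

set_option autoImplicit false
open LefPen

namespace Groth.Agent.S8724

/-- The algebraic identity established in its proof: let a >= 1 and work in Z[y, z]. Then (1+y)^(a-1) -
(1+z)^(a-1) = (y - z) * (sum over i, j >= 0 with i + j + 1 <= a - 1 of C(a-1, i+j+1) y^i z^j), and
(1+y)^a z - (1+z)^a y = (y - z) * (-1 + sum over i, j >= 1 with i + j <= a of C(a, i+j) y^i z^j).
Consequently the rational function -((1+y)^(a-1) - (1+z)^(a-1)) / ((1+y)^a z - (1+z)^a y), the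
generating series of the primitive middle Hodge numbers of smooth hypersurfaces of degree a, equals
(sum_{i,j >= 0} C(a-1, i+j+1) y^i z^j) / (1 - sum_{i,j >= 1} C(a, i+j) y^i z^j). -/
theorem result (a : ℕ) (ha : 1 ≤ a) :
    let y : MvPolynomial (Fin 2) ℤ := MvPolynomial.X 0
    let z : MvPolynomial (Fin 2) ℤ := MvPolynomial.X 1
    ((1 + y) ^ (a - 1) - (1 + z) ^ (a - 1) =
      (y - z) * ∑ i ∈ Finset.range a, ∑ j ∈ Finset.range a,
        if i + j + 1 ≤ a - 1 then ((a - 1).choose (i + j + 1) : MvPolynomial (Fin 2) ℤ) * y ^ i * z ^ j else 0) ∧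
    ((1 + y) ^ a * z - (1 + z) ^ a * y =
      (y - z) * (-1 + ∑ i ∈ Finset.range (a + 1), ∑ j ∈ Finset.range (a + 1),
        if 1 ≤ i ∧ 1 ≤ j ∧ i + j ≤ a then (a.choose (i + j) : MvPolynomial (Fin 2) ℤ) * y ^ i * z ^ j else 0)) := by
  intro y z
  have one : ∀ (n b : ℕ), n ≤ b → (1 + y) ^ n - (1 + z) ^ n = (y - z) * ∑ i ∈ Finset.range b, ∑ j ∈ Finset.range b,
      if i + j + 1 ≤ n then (n.choose (i + j + 1) : MvPolynomial (Fin 2) ℤ) * y ^ i * z ^ j else 0 := by
    intro n b hb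
    have h1 : ∑ i ∈ Finset.range b, ∑ j ∈ Finset.range b,
        (if i + j + 1 ≤ n then (n.choose (i + j + 1) : MvPolynomial (Fin 2) ℤ) * y ^ i * z ^ j else 0) =
        ∑ m ∈ Finset.range n, (n.choose (m + 1) : MvPolynomial (Fin 2) ℤ) * ∑ i ∈ Finset.range (m + 1), y ^ i * z ^ (m - i) := by
      rw [← Finset.sum_product', ← Finset.sum_filter]
      simp only [Finset.mul_sum]
      rw [Finset.sum_sigma']
      refine Finset.sum_nbij' (fun q => ⟨q.1 + q.2, q.1⟩) (fun s => (s.2, s.1 - s.2)) ?_ ?_ ?_ ?_ ?_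
      · intro q hq; simp at hq ⊢; omega
      · intro s hs; simp at hs ⊢; omega
      · intro q hq; simp
      · intro s hs; simp at hs ⊢; obtain ⟨s1, s2⟩ := s; simp at hs ⊢; omega
      · intro q hq; simp [mul_assoc]
    rw [h1, add_comm 1 y, add_comm 1 z, add_pow, add_pow, ← Finset.sum_sub_distrib, Finset.sum_range_succ', Finset.mul_sum]
    simp only [pow_zero, one_mul, one_pow, mul_one, sub_self, add_zero]
    refine Finset.sum_congr rfl fun m _ => ?_
    have hg := geom_sum₂_mul y z (m + 1)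
    simp only [Nat.add_sub_cancel] at hg
    rw [← sub_mul, ← hg]
    ring
  refine ⟨one (a - 1) a (by omega), ?_⟩
  let G : ℕ → ℕ → MvPolynomial (Fin 2) ℤ := fun i j =>
    if i + j ≤ a then (a.choose (i + j) : MvPolynomial (Fin 2) ℤ) * y ^ i * z ^ j else 0
  have hQ := one a a le_rfl
  have e1 : z * (∑ i ∈ Finset.range a, ∑ j ∈ Finset.range a,
      if i + j + 1 ≤ a then (a.choose (i + j + 1) : MvPolynomial (Fin 2) ℤ) * y ^ i * z ^ j else 0) =
      ∑ i ∈ Finset.range (a + 1), ∑ j ∈ Finset.range a, G i (j + 1) := by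
    rw [Finset.sum_range_succ, Finset.sum_eq_zero (f := fun j => G a (j + 1)) (fun j _ => if_neg (by omega)), add_zero, Finset.mul_sum]
    refine Finset.sum_congr rfl fun i _ => ?_
    rw [Finset.mul_sum]
    refine Finset.sum_congr rfl fun j _ => ?_
    simp only [G, ← add_assoc]
    split_ifs <;> ring
  have e2 : ∑ i ∈ Finset.range (a + 1), ∑ j ∈ Finset.range a, G i (j + 1) =
      ((1 + z) ^ a - 1) + ∑ i ∈ Finset.range (a + 1), ∑ j ∈ Finset.range (a + 1),
        if 1 ≤ i ∧ 1 ≤ j ∧ i + j ≤ a then (a.choose (i + j) : MvPolynomial (Fin 2) ℤ) * y ^ i * z ^ j else 0 := by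
    rw [Finset.sum_range_succ' (fun i => ∑ j ∈ Finset.range a, G i (j + 1)),
      Finset.sum_range_succ' (fun i => ∑ j ∈ Finset.range (a + 1),
        if 1 ≤ i ∧ 1 ≤ j ∧ i + j ≤ a then (a.choose (i + j) : MvPolynomial (Fin 2) ℤ) * y ^ i * z ^ j else 0)]
    have e3 : ∑ j ∈ Finset.range a, G 0 (j + 1) = (1 + z) ^ a - 1 := by
      rw [add_comm 1 z, add_pow, Finset.sum_range_succ']
      simp only [pow_zero, one_pow, Nat.choose_zero_right, Nat.cast_one, mul_one, add_sub_cancel_right]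
      refine Finset.sum_congr rfl fun j hj => ?_
      simp only [G, zero_add, pow_zero, mul_one]
      rw [if_pos (by simp at hj; omega)]
      ring
    rw [e3, add_comm, Finset.sum_eq_zero (f := fun j => if 1 ≤ 0 ∧ 1 ≤ j ∧ 0 + j ≤ a then (a.choose (0 + j) : MvPolynomial (Fin 2) ℤ) * y ^ 0 * z ^ j else 0) (fun j _ => if_neg (by omega)), add_zero]
    congr 1
    refine Finset.sum_congr rfl fun i _ => ?_
    rw [Finset.sum_range_succ' (fun j => if 1 ≤ i + 1 ∧ 1 ≤ j ∧ i + 1 + j ≤ a then (a.choose (i + 1 + j) : MvPolynomial (Fin 2) ℤ) * y ^ (i + 1) * z ^ j else 0), if_neg (by omega), add_zero]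
    refine Finset.sum_congr rfl fun j _ => ?_
    simp only [G]
    split_ifs <;> first | rfl | omega
  linear_combination z * hQ + (y - z) * e1 + (y - z) * e2

end Groth.Agent.S8724
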