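import Groth.Statements.S8738
import Mathlib

set_option autoImplicit false
universe u
open SGA7II

namespace Groth.Agent.S8738

open Finset in
lemma key_identity {K : Type u} [CommRing K] (δ : Derivation ℤ K K) (x : K) :
    ∀ (r : ℕ) (m : ℕ) (f : K), r ≤ m →
      ∑ j ∈ range (m + 1), (m.choose j : K) * (-x) ^ (m - j) * (δ^[r]) (f * x ^ j) =
        if m = r then (r.factorial : K) * δ x ^ r * f else 0 := by
  intro r
  induction r with
  | zero =>
    intro m f _
    have h : ∑ j ∈ range (m + 1), (m.choose j : K) * (-x) ^ (m - j) * (f * x ^ j) =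
        f * (x + -x) ^ m := by
      rw [add_pow, mul_sum]
      exact sum_congr rfl fun j _ => by ring
    simp only [Function.iterate_zero, id_eq, h, add_neg_cancel]
    split_ifs with hm
    · subst hm; simp
    · rw [zero_pow hm, mul_zero]
  | succ r ih =>
    intro m f hm
    obtain ⟨m, rfl⟩ : ∃ m', m = m' + 1 := ⟨m - 1, by omega⟩
    have h1 := ih (m + 1) f (by omega)
    rw [if_neg (by omega)] at h1
    have h2 := congrArg δ h1
    rw [map_zero, map_sum] at h2
    have hterm : ∀ j ∈ range (m + 1 + 1),
        δ (((m + 1).choose j : K) * (-x) ^ (m + 1 - j) * (δ^[r]) (f * x ^ j)) =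
        ((m + 1).choose j : K) * (-x) ^ (m + 1 - j) * (δ^[r + 1]) (f * x ^ j) -
          ((m + 1 : ℕ) : K) * δ x * ((m.choose j : K) * (-x) ^ (m - j) * (δ^[r]) (f * x ^ j)) := by
      intro j _
      have hc : (((m + 1).choose j : K)) * ((m + 1 - j : ℕ) : K) = (m.choose j : K) * ((m + 1 : ℕ) : K) := by
        rw [← Nat.cast_mul, ← Nat.cast_mul, Nat.choose_mul_succ_eq]
      rw [Function.iterate_succ_apply' δ r]
      simp only [Derivation.leibniz, Derivation.leibniz_pow, map_neg, Derivation.map_natCast,
        smul_eq_mul, nsmul_eq_mul, mul_zero, add_zero]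
      rw [show m + 1 - j - 1 = m - j by omega]
      linear_combination (-(δ x) * (-x) ^ (m - j) * (δ^[r]) (f * x ^ j)) * hc
    rw [sum_congr rfl hterm, sum_sub_distrib, ← mul_sum, sub_eq_zero] at h2
    rw [h2, sum_range_succ _ (m + 1), Nat.choose_succ_self, Nat.cast_zero, zero_mul, zero_mul, add_zero,
      ih m f (by omega)]
    by_cases hmr : m = r
    · subst hmr
      simp only [if_true, Nat.factorial_succ, Nat.cast_mul, pow_succ]
      ring
    · rw [if_neg hmr, if_neg (by omega), mul_zero]

lemma exists_denominator (A K : Type u) [CommRing A] [CommRing K] [Algebra A K] [IsLocalization (nonZeroDivisors A) K] {x : K} (hx : IsIntegral A x) :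
    ∃ d : nonZeroDivisors A, ∀ j : ℕ, ∃ a : A,
      algebraMap A K a = algebraMap A K (d : A) * x ^ j := by
  obtain ⟨G, hG⟩ := hx.fg_adjoin_singleton
  obtain ⟨d, hd⟩ := IsLocalization.exist_integer_multiples_of_finset (nonZeroDivisors A) G
  refine ⟨d, fun j => ?_⟩
  have hj : x ^ j ∈ Submodule.span A (G : Set K) := by
    rw [hG]
    exact pow_mem (Algebra.subset_adjoin (Set.mem_singleton x)) j
  revert hj
  generalize x ^ j = z
  intro hj
  induction hj using Submodule.span_induction with
  | mem g hg =>
    obtain ⟨a, ha⟩ := hd g hg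
    exact ⟨a, by rw [ha, Algebra.smul_def]⟩
  | zero => exact ⟨0, by simp⟩
  | add a b _ _ ha hb =>
    obtain ⟨a', ha'⟩ := ha
    obtain ⟨b', hb'⟩ := hb
    exact ⟨a' + b', by rw [map_add, ha', hb', mul_add]⟩
  | smul r a _ ha =>
    obtain ⟨a', ha'⟩ := ha
    exact ⟨r * a', by rw [map_mul, ha', Algebra.smul_def, mul_left_comm]⟩

lemma isIntegral_of_pow_bounded (A K : Type u) [CommRing A] [CommRing K] [Algebra A K] [IsNoetherianRing A] {y : K}
    (d : A) (hd : IsUnit (algebraMap A K d))
    (h : ∀ m : ℕ, ∃ a : A, algebraMap A K a = algebraMap A K d * y ^ m) :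
    IsIntegral A y := by
  refine IsIntegral.of_mem_of_fg (Algebra.adjoin A {y}) ?_ y (Algebra.subset_adjoin (Set.mem_singleton y))
  have hle : Subalgebra.toSubmodule (Algebra.adjoin A {y}) ≤
      Submodule.span A {(↑hd.unit⁻¹ : K)} := by
    rw [Algebra.adjoin_eq_span, Submodule.span_le]
    intro z hz
    obtain ⟨m, rfl⟩ := Submonoid.mem_closure_singleton.mp hz
    obtain ⟨a, ha⟩ := h m
    refine Submodule.mem_span_singleton.mpr ⟨a, ?_⟩
    rw [Algebra.smul_def, ha, mul_comm, ← mul_assoc, IsUnit.val_inv_mul, one_mul]
  haveI := isNoetherian_of_fg_of_noetherian (Submodule.span A {(↑hd.unit⁻¹ : K)})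
    (Submodule.fg_span_singleton _)
  have hN := IsNoetherian.noetherian
    (Submodule.comap (Submodule.span A {(↑hd.unit⁻¹ : K)}).subtype
      (Subalgebra.toSubmodule (Algebra.adjoin A {y})))
  have := hN.map (Submodule.span A {(↑hd.unit⁻¹ : K)}).subtype
  rwa [Submodule.map_comap_subtype, inf_eq_right.mpr hle] at this

lemma extend_derivation (k : Type u) [Field k] [CharZero k] (A K : Type u) [CommRing A]
    [Algebra k A] [IsNoetherianRing A] [CommRing K] [Algebra A K] [Algebra k K] [IsScalarTower k A K]
    [IsLocalization (nonZeroDivisors A) K] (D : Derivation k A A) :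
    ∃ D' : Derivation k ↥(integralClosure A K) ↥(integralClosure A K),
      ∀ a : A, (D' (algebraMap A ↥(integralClosure A K) a) : K) =
        algebraMap A K (D a) := by
  have hfk : ∀ c : k, (algebraMap k (TrivSqZeroExt K K) c).fst = algebraMap k K c := fun c =>
    (TrivSqZeroExt.fstHom k K K).commutes c
  have hsk : ∀ c : k, (algebraMap k (TrivSqZeroExt K K) c).snd = 0 := fun c => rfl
  let pr : A → TrivSqZeroExt K K := fun a => (algebraMap A K a, algebraMap A K (D a))
  let φr : A →+* TrivSqZeroExt K K :=
    { toFun := pr
      map_one' := TrivSqZeroExt.ext (map_one (algebraMap A K)) (by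
        show algebraMap A K (D 1) = 0
        rw [Derivation.map_one_eq_zero, map_zero])
      map_mul' := fun a b => TrivSqZeroExt.ext (map_mul (algebraMap A K) a b) (by
        show algebraMap A K (D (a * b)) = algebraMap A K a * algebraMap A K (D b) +
          algebraMap A K (D a) * algebraMap A K b
        rw [Derivation.leibniz, map_add, smul_eq_mul, smul_eq_mul, map_mul, map_mul]
        ring)
      map_zero' := TrivSqZeroExt.ext (map_zero (algebraMap A K)) (by
        show algebraMap A K (D 0) = 0
        rw [map_zero, map_zero])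
      map_add' := fun a b => TrivSqZeroExt.ext (map_add (algebraMap A K) a b) (by
        show algebraMap A K (D (a + b)) = algebraMap A K (D a) + algebraMap A K (D b)
        rw [map_add, map_add]) }
  let φ : A →ₐ[k] TrivSqZeroExt K K :=
    { φr with
      commutes' := fun c => TrivSqZeroExt.ext
        ((IsScalarTower.algebraMap_apply k A K c).symm.trans (hfk c).symm) (by
        show algebraMap A K (D (algebraMap k A c)) = _
        rw [Derivation.map_algebraMap, map_zero, hsk]) }
  have hu : ∀ s : nonZeroDivisors A, IsUnit (φ s) := fun s => by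
    rw [TrivSqZeroExt.isUnit_iff_isUnit_fst]
    exact IsLocalization.map_units K s
  let Φ : K →ₐ[k] TrivSqZeroExt K K := IsLocalization.liftAlgHom (f := φ) hu
  have hΦ : ∀ a : A, Φ (algebraMap A K a) = φ a := fun a => IsLocalization.lift_eq _ a
  have hfst : ∀ z, (Φ z).fst = z := by
    have h : (TrivSqZeroExt.fstHom k K K).toRingHom.comp Φ.toRingHom = RingHom.id K :=
      IsLocalization.ringHom_ext (nonZeroDivisors A) (RingHom.ext fun a => congrArg TrivSqZeroExt.fst (hΦ a))
    exact fun z => RingHom.congr_fun h z
  let δ : Derivation k K K := Derivation.mk'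
    { toFun := fun z => (Φ z).snd
      map_add' := fun a b => by rw [map_add, TrivSqZeroExt.snd_add]
      map_smul' := fun c a => by rw [map_smul, TrivSqZeroExt.snd_smul, RingHom.id_apply] }
    (fun a b => by
      show (Φ (a * b)).snd = a * (Φ b).snd + b * (Φ a).snd
      rw [map_mul, TrivSqZeroExt.snd_mul, hfst, hfst, smul_eq_mul, op_smul_eq_smul, smul_eq_mul])
  have hδ : ∀ a, δ (algebraMap A K a) = algebraMap A K (D a) := fun a => by
    show (Φ _).snd = _
    rw [hΦ]
    rfl
  have hint : ∀ x : K, IsIntegral A x → IsIntegral A (δ x) := by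
    intro x hx
    obtain ⟨d, hd⟩ := exists_denominator A K hx
    choose a ha using hd
    refine isIntegral_of_pow_bounded A K ((d : A) * d) ?_ fun m => ?_
    · rw [map_mul]
      exact (IsLocalization.map_units K d).mul (IsLocalization.map_units K d)
    have hk := key_identity (δ.restrictScalars ℤ) x m m (algebraMap A K (d : A)) le_rfl
    rw [if_pos rfl] at hk
    simp only [Derivation.restrictScalars_apply] at hk
    have hco : ∀ r, ((δ.restrictScalars ℤ : K → K))^[r] = (δ : K → K)^[r] := fun r => rfl
    have hit : ∀ (r : ℕ) (b : A), (δ : K → K)^[r] (algebraMap A K b) = algebraMap A K ((D : A → A)^[r] b) := by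
      intro r
      induction r with
      | zero => simp
      | succ r ih => intro b; rw [Function.iterate_succ_apply', ih, hδ, Function.iterate_succ_apply']
    have hfac : IsUnit ((m.factorial : ℕ) : k) :=
      (Nat.cast_ne_zero.mpr m.factorial_ne_zero).isUnit
    refine ⟨algebraMap k A (↑hfac.unit⁻¹ : k) * ∑ j ∈ Finset.range (m + 1),
      (m.choose j : A) * (-1) ^ (m - j) * a (m - j) * (D : A → A)^[m] (a j), ?_⟩
    rw [map_mul, map_sum]
    have hterm : ∀ j ∈ Finset.range (m + 1), algebraMap A K ((m.choose j : A) * (-1) ^ (m - j) *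
        a (m - j) * (D : A → A)^[m] (a j)) = algebraMap A K (d : A) *
        ((m.choose j : K) * (-x) ^ (m - j) * ((δ.restrictScalars ℤ : K → K))^[m] (algebraMap A K (d : A) * x ^ j)) := by
      intro j _
      rw [map_mul, map_mul, map_mul, map_natCast, map_pow, map_neg, map_one, ha, hco, ← hit, ha,
        neg_pow x]
      ring
    rw [Finset.sum_congr rfl hterm, ← Finset.mul_sum, hk, ← map_natCast (algebraMap k K) m.factorial,
      ← IsScalarTower.algebraMap_apply]
    have h1 : algebraMap k K (↑hfac.unit⁻¹ : k) * algebraMap k K (m.factorial : k) = 1 := by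
      rw [← map_mul, IsUnit.val_inv_mul, map_one]
    rw [map_mul]
    linear_combination (algebraMap A K (d : A) * algebraMap A K (d : A) * δ x ^ m) * h1
  let D' : Derivation k ↥(integralClosure A K) ↥(integralClosure A K) := Derivation.mk'
    { toFun := fun x => ⟨δ x.1, hint x.1 x.2⟩
      map_add' := fun a b => by ext; simp
      map_smul' := fun c a => by ext; simp }
    (fun a b => by ext; simp)
  exact ⟨D', fun a => hδ a⟩


/-- Let k be a field of characteristic zero and A a reduced Noetherian local k-algebra of Krull
dimension one, essentially of finite type over k (the local ring of a reduced curve over k at one of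
its points), and let A' be the integral closure of A in its total ring of fractions (the
normalization). Then every k-derivation D of A extends to a k-derivation D' of A', i.e. D' agrees
with D on the image of A. -/
theorem result (k : Type u) [Field k] [CharZero k] (A : Type u) [CommRing A]
    [Algebra k A] [IsReduced A] [IsNoetherianRing A] [IsLocalRing A] [Algebra.EssFiniteType k A]
    (hdim : ringKrullDim A = 1) (D : Derivation k A A) :
    ∃ D' : Derivation k ↥(integralClosure A (FractionRing A)) ↥(integralClosure A (FractionRing A)),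
      ∀ a : A, (D' (algebraMap A ↥(integralClosure A (FractionRing A)) a) : FractionRing A) =
        algebraMap A (FractionRing A) (D a) := by
  haveI : Nontrivial A := inferInstance
  exact extend_derivation k A (FractionRing A) D
end Groth.Agent.S8738
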