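import Groth.Statements.S8740
import Mathlib.Algebra.Category.ModuleCat.Presheaf.Sheafification
import Mathlib.Algebra.Category.ModuleCat.Presheaf.Limits
import Mathlib.RingTheory.Flat.Basic
import Mathlib.Algebra.Homology.ShortComplex.ExactFunctor
-- import your own Groth.Agent.* helpers here

set_option autoImplicit false
universe u
open CategoryTheory Limits
open Adeq

namespace Groth.Agent.S8740

open CategoryTheory CategoryTheory.Limits TensorProduct

lemma preservesFiniteLimits_of_preservesMono {A B : Type*} [Category* A] [Category* B] [Abelian A]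
    [Abelian B] (F : A ⥤ B) [hF : PreservesFiniteColimits F] [F.PreservesMonomorphisms] :
    PreservesFiniteLimits F := by
  have := preservesBinaryBiproducts_of_preservesBinaryCoproducts F
  have : F.Additive := Functor.additive_of_preservesBinaryBiproducts F
  have h : ∀ S : ShortComplex A, S.ShortExact → (S.map F).Exact ∧ Epi (F.map S.g) :=
    ((Functor.preservesFiniteColimits_tfae F).out 3 0).mp hF
  refine ((Functor.preservesFiniteLimits_tfae F).out 0 3).mp
    (show ∀ S : ShortComplex A, S.ShortExact → (S.map F).Exact ∧ Mono (F.map S.f) from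
      fun S hS => ⟨(h S hS).1, ?_⟩)
  haveI := hS.mono_f
  exact F.map_mono _

variable {A : Type u} [CommRing A] {B B' : Adeq.Alg A}

lemma extend_left_exact (f : B ⟶ B') (hf : f.hom.toRingHom.Flat) :
    PreservesFiniteLimits (ModuleCat.extendScalars.{u, u, u + 1} f.hom.toRingHom) := by
  haveI := (ModuleCat.extendRestrictScalarsAdj.{u + 1, u, u} f.hom.toRingHom).leftAdjoint_preservesColimits
  haveI : (ModuleCat.extendScalars.{u, u, u + 1} f.hom.toRingHom).PreservesMonomorphisms := ⟨fun g hg => by
    rw [ModuleCat.mono_iff_injective] at hg ⊢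
    algebraize [f.hom.toRingHom]
    exact Module.Flat.lTensor_preserves_injective_linearMap (M := (B' : Type u)) g.hom hg⟩
  exact preservesFiniteLimits_of_preservesMono _

noncomputable def bcNat (f : B ⟶ B') :
    PresheafOfModules.evaluation.{u + 1} (Adeq.ringOf A) (Adeq.pt B) ⋙
      ModuleCat.extendScalars.{u, u, u + 1} f.hom.toRingHom ⟶
    PresheafOfModules.evaluation.{u + 1} (Adeq.ringOf A) (Adeq.pt B') where
  app F := Adeq.MVF.bc F f
  naturality F G φ := by
    refine ((ModuleCat.extendRestrictScalarsAdj.{u + 1, u, u} f.hom.toRingHom).homEquiv _ _).injective ?_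
    refine ((ModuleCat.extendRestrictScalarsAdj.{u + 1, u, u} f.hom.toRingHom).homEquiv_naturality_left _ _).trans ?_
    refine (congrArg (fun z => φ.app (Adeq.pt B) ≫ z) (Equiv.apply_symm_apply _ _)).trans ?_
    refine Eq.trans ?_ ((ModuleCat.extendRestrictScalarsAdj.{u + 1, u, u} f.hom.toRingHom).homEquiv_naturality_right _ _).symm
    refine Eq.trans ?_ (congrArg (fun z => z ≫ (ModuleCat.restrictScalars f.hom.toRingHom).map (φ.app (Adeq.pt B'))) (Equiv.apply_symm_apply _ _)).symm
    exact (φ.naturality (Adeq.ptHom f)).symm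

lemma isIso_bc_underline (f : B ⟶ B') (M : ModuleCat.{u + 1} A) :
    IsIso (Adeq.MVF.bc ((Adeq.underline A).obj M) f) := by
  rw [ConcreteCategory.isIso_iff_bijective]
  algebraize [f.hom.toRingHom]
  haveI : IsScalarTower A B B' := IsScalarTower.of_algebraMap_eq (fun a => (f.hom.commutes a).symm)
  have e : ∀ x : B' ⊗[B] (B ⊗[A] M), (Adeq.MVF.bc ((Adeq.underline A).obj M) f) x =
      TensorProduct.AlgebraTensorModule.cancelBaseChange A B B' B' M x := by
    intro x
    induction x using TensorProduct.induction_on with
    | zero => exact (map_zero _).trans (map_zero _).symm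
    | tmul c y =>
      induction y using TensorProduct.induction_on with
      | zero => rw [TensorProduct.tmul_zero]; exact (map_zero _).trans (map_zero _).symm
      | tmul b m =>
        rw [TensorProduct.AlgebraTensorModule.cancelBaseChange_tmul]
        exact congrArg (· ⊗ₜ[A] m) (mul_comm c (f.hom b))
      | add y z hy hz =>
        rw [TensorProduct.tmul_add]
        exact (map_add _ _ _).trans ((congrArg₂ (· + ·) hy hz).trans (map_add _ _ _).symm)
    | add y z hy hz => exact (map_add _ y z).trans ((congrArg₂ (· + ·) hy hz).trans (map_add _ y z).symm)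
  exact (congrArg Function.Bijective (funext e)).mpr (LinearEquiv.bijective _)

/-- For an adequate functor `F` on `A`-algebras and a flat map of `A`-algebras `f : B → B'`, the
canonical map `B' ⊗_B F(B) → F(B')` is an isomorphism. -/
theorem result (A : Type u) [CommRing A] (F : Adeq.MVF A) (hF : Adeq.adequate A F)
    {B B' : Adeq.Alg A} (f : B ⟶ B') (hf : f.hom.toRingHom.Flat) : IsIso (F.bc f) := by
  obtain ⟨M, N, φ, ⟨e⟩⟩ := hF
  haveI := extend_left_exact f hf
  let Φ := PresheafOfModules.evaluation.{u + 1} (Adeq.ringOf A) (Adeq.pt B) ⋙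
      ModuleCat.extendScalars.{u, u, u + 1} f.hom.toRingHom
  let Ψ := PresheafOfModules.evaluation.{u + 1} (Adeq.ringOf A) (Adeq.pt B')
  let d := (Adeq.underline A).map φ
  haveI : PreservesFiniteLimits (PresheafOfModules.evaluation.{u + 1} (Adeq.ringOf A) (Adeq.pt B)) :=
    PresheafOfModules.evaluation_preservesFiniteLimits.{u + 1} _ _
  haveI : PreservesFiniteLimits Φ := comp_preservesFiniteLimits _ _
  haveI : PreservesFiniteLimits Ψ :=
    PresheafOfModules.evaluation_preservesFiniteLimits.{u + 1} _ _
  haveI : Φ.PreservesZeroMorphisms :=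
    have := preservesBinaryBiproducts_of_preservesBinaryProducts Φ
    have := Functor.preservesZeroMorphisms_of_preserves_terminal_object (F := Φ)
    inferInstance
  haveI : Ψ.PreservesZeroMorphisms := ⟨fun X Y => rfl⟩
  haveI h1 : IsIso ((bcNat f).app ((Adeq.underline A).obj M)) := isIso_bc_underline f M
  haveI h2 : IsIso ((bcNat f).app ((Adeq.underline A).obj N)) := isIso_bc_underline f N
  haveI h3 : IsIso ((bcNat f).app (kernel d)) := by
    have : (bcNat f).app (kernel d) = (PreservesKernel.iso Φ d).hom ≫
        (kernel.mapIso _ _ (asIso ((bcNat f).app _)) (asIso ((bcNat f).app _))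
          ((bcNat f).naturality d)).hom ≫ (PreservesKernel.iso Ψ d).inv := by
      rw [← Category.assoc, Iso.eq_comp_inv, ← cancel_mono (kernel.ι (Ψ.map d))]
      simp only [Category.assoc, PreservesKernel.iso_hom, kernel.mapIso, kernel.map, kernel.lift_ι, kernelComparison_comp_ι, asIso_hom, kernelComparison_comp_ι_assoc]
      erw [kernel.lift_ι, kernelComparison_comp_ι_assoc]
      exact ((bcNat f).naturality (kernel.ι d)).symm
    rw [this]; infer_instance
  exact (NatTrans.isIso_app_iff_of_iso (bcNat f) e).mpr h3

end Groth.Agent.S8740
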