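import Groth.Statements.S8749
import Mathlib.Algebra.Category.ModuleCat.Presheaf.Sheafification
import Mathlib.Algebra.Category.ModuleCat.Presheaf.Limits
-- import your own Groth.Agent.* helpers here

set_option autoImplicit false
universe u
open CategoryTheory Limits
open Adeq

namespace Groth.Agent.S8749
open CategoryTheory CategoryTheory.Limits TensorProduct

noncomputable def eB {A A' : Type u} [CommRing A] [CommRing A'] [Algebra A A'] (B : Adeq.Alg A')
    (M : ModuleCat.{u + 1} A) :
    letI : Algebra A B := ((algebraMap A' B).comp (algebraMap A A')).toAlgebra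
    (B ⊗[A] M) ≃ₗ[B] (B ⊗[A'] (A' ⊗[A] M)) :=
  letI : Algebra A B := ((algebraMap A' B).comp (algebraMap A A')).toAlgebra
  haveI : IsScalarTower A A' B := IsScalarTower.of_algebraMap_eq (fun _ => rfl)
  (TensorProduct.AlgebraTensorModule.cancelBaseChange A A' B B M).symm

noncomputable def restrUnderline {A A' : Type u} [CommRing A] [CommRing A'] [Algebra A A']
    (M : ModuleCat.{u + 1} A) :
    (Adeq.restr A A').obj ((Adeq.underline A).obj M) ≅
      (Adeq.underline A').obj (ModuleCat.of A' (A' ⊗[A] M)) :=
  PresheafOfModules.isoMk (fun X => (eB X.unop.unop M).toModuleIso) (by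
    intro X Y f
    refine ModuleCat.hom_ext (LinearMap.ext fun x => ?_)
    letI : Algebra A X.unop.unop :=
      ((algebraMap A' X.unop.unop).comp (algebraMap A A')).toAlgebra
    letI : Algebra A Y.unop.unop :=
      ((algebraMap A' Y.unop.unop).comp (algebraMap A A')).toAlgebra
    change (X.unop.unop ⊗[A] M) at x
    induction x using TensorProduct.induction_on with
    | zero => exact (map_zero _).trans (map_zero _).symm
    | tmul b m => rfl
    | add x y hx hy => exact (map_add _ x y).trans ((congrArg₂ (· + ·) hx hy).trans (map_add _ x y).symm))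

/-- For a ring map `A → A'` the restriction of an adequate functor on `A`-algebras to `A'`-algebras is
an adequate functor on `A'`-algebras. -/
theorem result (A A' : Type u) [CommRing A] [CommRing A'] [Algebra A A'] (F : Adeq.MVF A)
    (hF : Adeq.adequate A F) : Adeq.adequate A' ((Adeq.restr A A').obj F) := by
  obtain ⟨M, N, φ, ⟨e⟩⟩ := hF
  haveI : PreservesFiniteLimits (Adeq.restr A A') := by
    haveI : ReflectsFiniteLimits (PresheafOfModules.toPresheaf.{u + 1} (Adeq.ringOf A')) :=
      ⟨fun J _ _ => reflectsLimitsOfShape_of_reflectsIsomorphisms⟩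
    haveI : PreservesFiniteLimits (Adeq.restr A A' ⋙ PresheafOfModules.toPresheaf.{u + 1} _) := by
      refine preservesFiniteLimits_of_natIso
        (F := PresheafOfModules.toPresheaf.{u + 1} _ ⋙ (Functor.whiskeringLeft _ _ Ab.{u + 1}).obj (Adeq.Alg.restr A A').op.op) ?_
      exact (PresheafOfModules.pushforwardCompToPresheaf _).symm
    exact preservesFiniteLimits_of_reflects_of_preserves _ (PresheafOfModules.toPresheaf _)
  refine ⟨ModuleCat.of A' (A' ⊗[A] M), ModuleCat.of A' (A' ⊗[A] N),
    ModuleCat.ofHom (φ.hom.baseChange A'), ⟨?_⟩⟩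
  refine (Adeq.restr A A').mapIso e ≪≫ PreservesKernel.iso (Adeq.restr A A') _ ≪≫
    kernel.mapIso _ _ (restrUnderline M) (restrUnderline N) ?_
  refine PresheafOfModules.Hom.ext (funext fun X => ?_)
  refine ModuleCat.hom_ext (LinearMap.ext fun x => ?_)
  letI : Algebra A X.unop.unop :=
    ((algebraMap A' X.unop.unop).comp (algebraMap A A')).toAlgebra
  change (X.unop.unop ⊗[A] M) at x
  induction x using TensorProduct.induction_on with
  | zero => exact (map_zero _).trans (map_zero _).symm
  | tmul b m => rfl
  | add x y hx hy => exact (map_add _ x y).trans ((congrArg₂ (· + ·) hx hy).trans (map_add _ x y).symm)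

end Groth.Agent.S8749
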