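import Groth.Statements.S8750
import Mathlib.Algebra.Category.ModuleCat.Presheaf.Sheafification
import Mathlib.Algebra.Category.ModuleCat.Presheaf.Limits
-- import your own Groth.Agent.* helpers here

set_option autoImplicit false
universe u
open CategoryTheory Limits
open Adeq

namespace Groth.Agent.S8750

open CategoryTheory CategoryTheory.Limits TensorProduct

variable {A A' : Type u} [CommRing A] [CommRing A'] [Algebra A A']

noncomputable abbrev res (M : ModuleCat.{u + 1} A') : ModuleCat.{u + 1} A :=
  (ModuleCat.restrictScalars (algebraMap A A')).obj M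

abbrev toRes (M : ModuleCat.{u + 1} A') (m : M) : (res (A := A) M : ModuleCat.{u + 1} A) := m

noncomputable def eP (B : Adeq.Alg A) (M : ModuleCat.{u + 1} A') :
    ((A' ⊗[A] B) ⊗[A'] M) ≃+ (B ⊗[A] (res (A := A) M : ModuleCat.{u + 1} A)) :=
  letI : Module A M := Module.compHom M (algebraMap A A')
  haveI : IsScalarTower A A' M := IsScalarTower.of_algebraMap_smul (fun _ _ => rfl)
  (TensorProduct.comm A' (A' ⊗[A] B) M).toAddEquiv.trans
    ((TensorProduct.AlgebraTensorModule.cancelBaseChange A A' A' M B).toAddEquiv.trans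
      (TensorProduct.comm A M B).toAddEquiv)

theorem eP_tmul (B : Adeq.Alg A) (M : ModuleCat.{u + 1} A') (a : A') (b : B) (m : M) :
    eP B M ((a ⊗ₜ[A] b) ⊗ₜ[A'] m) = b ⊗ₜ[A] toRes M (a • m) := by
  let : Module A M := Module.compHom M (algebraMap A A')
  haveI : IsScalarTower A A' M := IsScalarTower.of_algebraMap_smul (fun _ _ => rfl)
  simp [eP]
  rfl

noncomputable def ePlin (B : Adeq.Alg A) (M : ModuleCat.{u + 1} A') :
    letI : Module B ((A' ⊗[A] B) ⊗[A'] M) :=
      Module.compHom _ (Algebra.TensorProduct.includeRight (R := A) (A := A') (B := B)).toRingHom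
    ((A' ⊗[A] B) ⊗[A'] M) ≃ₗ[B] (B ⊗[A] (res (A := A) M : ModuleCat.{u + 1} A)) :=
  letI : Module B ((A' ⊗[A] B) ⊗[A'] M) :=
    Module.compHom _ (Algebra.TensorProduct.includeRight (R := A) (A := A') (B := B)).toRingHom
  { eP B M with
    map_smul' := fun r x => by
      change eP B M (((1 : A') ⊗ₜ[A] r) • x) = r • eP B M x
      induction x using TensorProduct.induction_on with
      | zero => rw [smul_zero, map_zero, smul_zero]
      | tmul y m =>
        induction y using TensorProduct.induction_on with
        | zero => rw [TensorProduct.zero_tmul, smul_zero, map_zero, smul_zero]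
        | tmul a b =>
          rw [TensorProduct.smul_tmul', smul_eq_mul, Algebra.TensorProduct.tmul_mul_tmul, one_mul,
            eP_tmul, eP_tmul, TensorProduct.smul_tmul', smul_eq_mul]
        | add y z hy hz => rw [TensorProduct.add_tmul, smul_add, map_add, map_add, hy, hz, smul_add]
      | add y z hy hz => rw [smul_add, map_add, map_add, hy, hz, smul_add] }

noncomputable def pushUnderline (M : ModuleCat.{u + 1} A') :
    (Adeq.push A A').obj ((Adeq.underline A').obj M) ≅ (Adeq.underline A).obj (res (A := A) M) :=
  PresheafOfModules.isoMk (fun X => (ePlin X.unop.unop M).toModuleIso) (by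
    intro X Y f
    refine ModuleCat.hom_ext (LinearMap.ext fun x => ?_)
    change ((A' ⊗[A] X.unop.unop) ⊗[A'] M) at x
    induction x using TensorProduct.induction_on with
    | zero => exact (map_zero _).trans (map_zero _).symm
    | tmul y m =>
      induction y using TensorProduct.induction_on with
      | zero => rw [TensorProduct.zero_tmul]; exact (map_zero _).trans (map_zero _).symm
      | tmul a b =>
        change eP Y.unop.unop M ((a ⊗ₜ[A] f.unop.unop.hom b) ⊗ₜ[A'] m) =
          f.unop.unop.hom.toLinearMap.rTensor _ (eP X.unop.unop M ((a ⊗ₜ[A] b) ⊗ₜ[A'] m))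
        rw [eP_tmul, eP_tmul]; rfl
      | add y z hy hz =>
        rw [TensorProduct.add_tmul]
        exact (map_add _ _ _).trans ((congrArg₂ (· + ·) hy hz).trans (map_add _ _ _).symm)
    | add y z hy hz => exact (map_add _ y z).trans ((congrArg₂ (· + ·) hy hz).trans (map_add _ y z).symm))

/-- For a ring map `A → A'` and an adequate functor `F'` on `A'`-algebras, the functor `B ↦ F'(A' ⊗_A
B)` on `A`-algebras is adequate. -/
theorem result (A A' : Type u) [CommRing A] [CommRing A'] [Algebra A A'] (F' : Adeq.MVF A')
    (hF' : Adeq.adequate A' F') : Adeq.adequate A ((Adeq.push A A').obj F') := by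
  obtain ⟨M, N, φ, ⟨e⟩⟩ := hF'
  haveI : PreservesFiniteLimits (Adeq.push A A') := by
    haveI : ReflectsFiniteLimits (PresheafOfModules.toPresheaf.{u + 1} (Adeq.ringOf A)) :=
      ⟨fun J _ _ => reflectsLimitsOfShape_of_reflectsIsomorphisms⟩
    haveI : PreservesFiniteLimits (Adeq.push A A' ⋙ PresheafOfModules.toPresheaf.{u + 1} _) := by
      refine preservesFiniteLimits_of_natIso
        (F := PresheafOfModules.toPresheaf.{u + 1} _ ⋙ (Functor.whiskeringLeft _ _ Ab.{u + 1}).obj (Adeq.Alg.baseChange A A').op.op) ?_
      exact (PresheafOfModules.pushforwardCompToPresheaf _).symm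
    exact preservesFiniteLimits_of_reflects_of_preserves _ (PresheafOfModules.toPresheaf _)
  refine ⟨res M, res N, (ModuleCat.restrictScalars (algebraMap A A')).map φ, ⟨?_⟩⟩
  refine (Adeq.push A A').mapIso e ≪≫ PreservesKernel.iso (Adeq.push A A') _ ≪≫
    kernel.mapIso _ _ (pushUnderline M) (pushUnderline N) ?_
  refine PresheafOfModules.Hom.ext (funext fun X => ?_)
  refine ModuleCat.hom_ext (LinearMap.ext fun x => ?_)
  change ((A' ⊗[A] X.unop.unop) ⊗[A'] M) at x
  induction x using TensorProduct.induction_on with
  | zero => exact (map_zero _).trans (map_zero _).symm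
  | tmul y m =>
    induction y using TensorProduct.induction_on with
    | zero => rw [TensorProduct.zero_tmul]; exact (map_zero _).trans (map_zero _).symm
    | tmul a b =>
      change eP X.unop.unop N ((a ⊗ₜ[A] b) ⊗ₜ[A'] φ.hom m) =
        (LinearMap.baseChange X.unop.unop ((ModuleCat.restrictScalars (algebraMap A A')).map φ).hom)
          (eP X.unop.unop M ((a ⊗ₜ[A] b) ⊗ₜ[A'] m))
      rw [eP_tmul, eP_tmul, LinearMap.baseChange_tmul]
      exact congrArg (fun z => b ⊗ₜ[A] toRes N z) (φ.hom.map_smul a m).symm
    | add y z hy hz =>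
      rw [TensorProduct.add_tmul]
      exact (map_add _ _ _).trans ((congrArg₂ (· + ·) hy hz).trans (map_add _ _ _).symm)
  | add y z hy hz => exact (map_add _ y z).trans ((congrArg₂ (· + ·) hy hz).trans (map_add _ y z).symm)

end Groth.Agent.S8750
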