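import Groth.Statements.S8782
import Groth.Agent.AdeqTFLib.Basic
import Mathlib

set_option autoImplicit false
universe u
open CategoryTheory Limits
open AdeqTF

namespace Groth.Agent.S8782

/-- If `0 → F → G → H → 0` is a short exact sequence of module-valued functors on `A`-algebras and `F`,
`H` have right exact tangent functors (for every `A`-algebra `B` and short exact `0 → N₁ → N → N₂ →
0` of `B`-modules, `T(B, N₁) → T(B, N) → T(B, N₂) → 0` is exact), so does `G`. -/
theorem result (A : Type u) [CommRing A] (C : ShortComplex (Adeq.MVF A))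
    (hC : C.ShortExact)
    (h₁ : (∀ (B : Adeq.Alg A) (S : ShortComplex (ModuleCat.{u} B)), S.ShortExact →
        Function.Surjective (AdeqTF.tangentMap B C.X₁ S.g) ∧
          (AdeqTF.tangentMap B C.X₁ S.g).ker = (AdeqTF.tangentMap B C.X₁ S.f).range))
    (h₃ : (∀ (B : Adeq.Alg A) (S : ShortComplex (ModuleCat.{u} B)), S.ShortExact →
        Function.Surjective (AdeqTF.tangentMap B C.X₃ S.g) ∧
          (AdeqTF.tangentMap B C.X₃ S.g).ker = (AdeqTF.tangentMap B C.X₃ S.f).range)) :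
    (∀ (B : Adeq.Alg A) (S : ShortComplex (ModuleCat.{u} B)), S.ShortExact →
        Function.Surjective (AdeqTF.tangentMap B C.X₂ S.g) ∧
          (AdeqTF.tangentMap B C.X₂ S.g).ker = (AdeqTF.tangentMap B C.X₂ S.f).range) := by
  intro B S hS
  obtain ⟨s1, e1⟩ := h₁ B S hS
  obtain ⟨s3, e3⟩ := h₃ B S hS
  refine ⟨fun y => ?_, AdeqTFLib.ker_eq_range_of_le B _ S fun x hx => ?_⟩
  · obtain ⟨z, hz⟩ := s3 (AdeqTFLib.app B C.g _ y)
    obtain ⟨x, rfl⟩ := AdeqTFLib.app_surjective B hC _ z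
    obtain ⟨w, hw⟩ := AdeqTFLib.exists_app_eq B hC _ (y - AdeqTF.tangentMap B C.X₂ S.g x) (by
      rw [map_sub, ← AdeqTFLib.app_natural, hz, sub_self])
    obtain ⟨v, rfl⟩ := s1 w
    refine ⟨x + AdeqTFLib.app B C.f _ v, ?_⟩
    rw [map_add, AdeqTFLib.app_natural, hw, add_sub_cancel]
  · have h : AdeqTFLib.app B C.g _ x ∈ (AdeqTF.tangentMap B C.X₃ S.g).ker := by
      show AdeqTF.tangentMap B C.X₃ S.g (AdeqTFLib.app B C.g _ x) = 0
      rw [AdeqTFLib.app_natural, hx, map_zero]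
    rw [e3] at h
    obtain ⟨w, hw⟩ := h
    obtain ⟨w', rfl⟩ := AdeqTFLib.app_surjective B hC _ w
    obtain ⟨x', hx'⟩ := AdeqTFLib.exists_app_eq B hC _ (x - AdeqTF.tangentMap B C.X₂ S.f w') (by
      rw [map_sub, ← AdeqTFLib.app_natural, hw, sub_self])
    have h' : x' ∈ (AdeqTF.tangentMap B C.X₁ S.g).ker := by
      refine AdeqTFLib.app_injective B hC _ ?_
      rw [← AdeqTFLib.app_natural, hx', map_sub, hx, AdeqTFLib.tangentMap_comp, S.zero,
        AdeqTFLib.tangentMap_zero, sub_zero, map_zero]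
    rw [e1] at h'
    obtain ⟨v, rfl⟩ := h'
    refine ⟨w' + AdeqTFLib.app B C.f _ v, ?_⟩
    rw [map_add, AdeqTFLib.app_natural, hx', add_sub_cancel]
end Groth.Agent.S8782
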