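import Groth.Statements.S8783
import Groth.Agent.AdeqTFLib.Basic
import Mathlib

set_option autoImplicit false
universe u
open CategoryTheory Limits
open AdeqTF

namespace Groth.Agent.S8783

/-- Let `F` be a module-valued functor on `A`-algebras with right exact tangent functors (for every
`A`-algebra `B` and short exact `0 → N₁ → N → N₂ → 0` of `B`-modules, `TF(B, N₁) → TF(B, N) → TF(B,
N₂) → 0` is exact). Then `TF(B, N₁ ⊕ N₂) = TF(B, N₁) ⊕ TF(B, N₂)`: the map from the product induced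
by the two inclusions is bijective. -/
theorem result (A : Type u) [CommRing A] (F : Adeq.MVF A)
    (hF : (∀ (B : Adeq.Alg A) (S : ShortComplex (ModuleCat.{u} B)), S.ShortExact →
        Function.Surjective (AdeqTF.tangentMap B F S.g) ∧
          (AdeqTF.tangentMap B F S.g).ker = (AdeqTF.tangentMap B F S.f).range))
    (B : Adeq.Alg A) (N₁ N₂ : ModuleCat.{u} B) :
    Function.Bijective ((AdeqTF.tangentMap B F (biprod.inl : N₁ ⟶ N₁ ⊞ N₂)).coprod
      (AdeqTF.tangentMap B F (biprod.inr : N₂ ⟶ N₁ ⊞ N₂))) := by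
  let S : ShortComplex (ModuleCat.{u} B) := ShortComplex.mk (biprod.inl : N₁ ⟶ N₁ ⊞ N₂) biprod.snd (by simp)
  have hS : S.ShortExact :=
    ({ r := biprod.fst, s := biprod.inr, f_r := by simp [S], s_g := by simp [S], id := by simp [S] } :
      S.Splitting).shortExact
  obtain ⟨-, e⟩ := hF B S hS
  refine ⟨(injective_iff_map_eq_zero _).mpr fun ⟨a, b⟩ h => ?_, fun x => ?_⟩
  · simp only [AddMonoidHom.coprod_apply] at h
    have h1 := congrArg (AdeqTF.tangentMap B F (biprod.fst : N₁ ⊞ N₂ ⟶ N₁)) h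
    have h2 := congrArg (AdeqTF.tangentMap B F (biprod.snd : N₁ ⊞ N₂ ⟶ N₂)) h
    rw [map_add, AdeqTFLib.tangentMap_comp, AdeqTFLib.tangentMap_comp, biprod.inl_fst, biprod.inr_fst,
      AdeqTFLib.tangentMap_id, AdeqTFLib.tangentMap_zero, map_zero, add_zero] at h1
    rw [map_add, AdeqTFLib.tangentMap_comp, AdeqTFLib.tangentMap_comp, biprod.inl_snd, biprod.inr_snd,
      AdeqTFLib.tangentMap_id, AdeqTFLib.tangentMap_zero, map_zero, zero_add] at h2
    rw [h1, h2]; rfl
  · let b := AdeqTF.tangentMap B F (biprod.snd : N₁ ⊞ N₂ ⟶ N₂) x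
    have hk : x - AdeqTF.tangentMap B F biprod.inr b ∈ (AdeqTF.tangentMap B F S.g).ker := by
      show AdeqTF.tangentMap B F (biprod.snd : N₁ ⊞ N₂ ⟶ N₂) _ = 0
      rw [map_sub, AdeqTFLib.tangentMap_comp, biprod.inr_snd, AdeqTFLib.tangentMap_id, sub_self]
    rw [e] at hk
    obtain ⟨a, ha⟩ := hk
    refine ⟨(a, b), ?_⟩
    rw [AddMonoidHom.coprod_apply]
    show AdeqTF.tangentMap B F S.f a + _ = x
    rw [ha, sub_add_cancel]
end Groth.Agent.S8783
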