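import Groth.Statements.S8799
import Groth.Agent.LocCohBasic.Artinian
import Mathlib.RingTheory.Artinian.Module
-- import your own Groth.Agent.* helpers here

set_option autoImplicit false
universe u
open CategoryTheory Opposite
open LocCoh

namespace Groth.Agent.S8799

/-- Let (A, m) be a Noetherian local ring, (M_n) an inverse system of finite A-modules, and M a finite
A-module with a compatible system of maps M → M_n. Suppose that for some i the induced map H^i_m(M)
→ lim H^i_m(M_n) on local cohomology is bijective, in the sense that an element of H^i_m(M)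
vanishing in every H^i_m(M_n) is zero and every compatible family in the H^i_m(M_n) comes from
H^i_m(M). We conclude that, taking the cone formed by the given maps, essential constancy holds for
the local cohomology system (H^i_m(M_n))_n, and the value it stabilizes at is H^i_m(M). -/
theorem result (A : Type u) [CommRing A] [IsNoetherianRing A] [IsLocalRing A] (Msys : ℕᵒᵖ ⥤ ModuleCat.{u} A) (hfin : ∀ n : ℕᵒᵖ, Module.Finite A (Msys.obj n)) (M : Type u) [AddCommGroup M] [Module A M] [Module.Finite A M] (c : (Functor.const ℕᵒᵖ).obj (ModuleCat.of A M) ⟶ Msys) (i : ℕ) (Hc : (Functor.const ℕᵒᵖ).obj ((localCohomology (IsLocalRing.maximalIdeal A) i).obj (ModuleCat.of A M)) ⟶ Msys ⋙ localCohomology (IsLocalRing.maximalIdeal A) i) (hHc : ∀ n : ℕᵒᵖ, Hc.app n = (localCohomology (IsLocalRing.maximalIdeal A) i).map (c.app n)) (hinj : ∀ x : (localCohomology (IsLocalRing.maximalIdeal A) i).obj (ModuleCat.of A M), (∀ n : ℕᵒᵖ, (Hc.app n) x = 0) → x = 0) (hsurj : ∀ y : (∀ n : ℕ, (localCohomology (IsLocalRing.maximalIdeal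 A) i).obj (Msys.obj (op n))), (∀ (n m : ℕ) (h : n ≤ m), ((localCohomology (IsLocalRing.maximalIdeal A) i).map (Msys.map (homOfLE h).op)) (y m) = y n) → ∃ x : (localCohomology (IsLocalRing.maximalIdeal A) i).obj (ModuleCat.of A M), ∀ n : ℕ, (Hc.app (op n)) x = y n) : DerCA.IsEssConstant (Msys ⋙ localCohomology (IsLocalRing.maximalIdeal A) i) ((localCohomology (IsLocalRing.maximalIdeal A) i).obj (ModuleCat.of A M)) Hc := by
  classical
  let P := Msys ⋙ localCohomology (IsLocalRing.maximalIdeal A) i
  let L := (localCohomology (IsLocalRing.maximalIdeal A) i).obj (ModuleCat.of A M)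
  haveI : IsArtinian A L := Groth.Agent.LocCohBasic.isArtinian_localCohomology i (ModuleCat.of A M)
  haveI : ∀ n : ℕ, IsArtinian A (P.obj (op n)) := fun n => by
    haveI := hfin (op n)
    exact Groth.Agent.LocCohBasic.isArtinian_localCohomology i (Msys.obj (op n))
  let tr : ∀ {a b : ℕ}, a ≤ b → (P.obj (op b) →ₗ[A] P.obj (op a)) := fun h => (P.map (homOfLE h).op).hom
  have tr_tr : ∀ {a b c : ℕ} (h : a ≤ b) (h' : b ≤ c) (x : P.obj (op c)), tr h (tr h' x) = tr (h.trans h') x := by
    intro a b c h h' x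
    show _ = (P.map (homOfLE (h.trans h')).op).hom x
    rw [show (homOfLE (h.trans h')).op = (homOfLE h').op ≫ (homOfLE h).op from rfl, P.map_comp]
    rfl
  let γ : ∀ n : ℕ, L →ₗ[A] P.obj (op n) := fun n => (Hc.app (op n)).hom
  have hnat : ∀ {a b : ℕ} (h : a ≤ b) (w : L), tr h (γ b w) = γ a w := fun h w =>
    (ConcreteCategory.congr_hom (Hc.naturality (homOfLE h).op) w).symm
  -- the kernels of the projections stabilise at zero
  obtain ⟨I, hI⟩ : ∃ I, LinearMap.ker (γ I) = ⊥ := by
    obtain ⟨I, hI⟩ := IsArtinian.monotone_stabilizes (R := A) (M := L)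
      ⟨fun n => OrderDual.toDual (LinearMap.ker (γ n)), fun a b h => by
        intro x hx
        show γ a x = 0
        rw [← hnat h x, show γ b x = 0 from hx, map_zero]⟩
    refine ⟨I, eq_bot_iff.2 fun x hx => (Submodule.mem_bot A).2 (hinj x fun n => ?_)⟩
    have hmax : LinearMap.ker (γ I) = LinearMap.ker (γ (max I n.unop)) := hI _ (le_max_left _ _)
    have hx' : γ (max I n.unop) x = 0 := LinearMap.mem_ker.1 (hmax ▸ hx)
    show γ n.unop x = 0
    rw [← hnat (le_max_right I n.unop), hx', map_zero]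
  have hIinj : Function.Injective (γ I) := LinearMap.ker_eq_bot.1 hI
  -- Mittag-Leffler
  have stable : ∀ a : ℕ, ∃ (b : ℕ) (h : a ≤ b), ∀ c (h' : b ≤ c),
      LinearMap.range (tr (h.trans h')) = LinearMap.range (tr h) := by
    intro a
    obtain ⟨m, hm⟩ := IsArtinian.monotone_stabilizes (R := A) (M := P.obj (op a))
      ⟨fun k => OrderDual.toDual (LinearMap.range (tr (Nat.le_add_right a k))), fun k l h => by
        rintro _ ⟨x, rfl⟩
        exact ⟨tr (Nat.add_le_add_left h a) x, tr_tr _ _ x⟩⟩
    refine ⟨a + m, Nat.le_add_right a m, fun c h' => ?_⟩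
    obtain ⟨d, rfl⟩ := Nat.exists_eq_add_of_le ((Nat.le_add_right a m).trans h')
    exact (hm d (by omega)).symm
  choose j hj hjs using stable
  -- the stable image is the image of the limit
  have surjOn : ∀ (n : ℕ) (x : P.obj (op n)), (∀ c (h : n ≤ c), x ∈ LinearMap.range (tr h)) → ∃ w, γ n w = x := by
    intro n x hx
    have step : ∀ a (z : P.obj (op a)), (∀ c (h : a ≤ c), z ∈ LinearMap.range (tr h)) →
        ∃ z' : P.obj (op (a + 1)), (∀ c (h : a + 1 ≤ c), z' ∈ LinearMap.range (tr h)) ∧ tr (Nat.le_succ a) z' = z := by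
      intro a z hz
      obtain ⟨v, hv⟩ := hz _ ((Nat.le_succ a).trans (hj (a + 1)))
      refine ⟨tr (hj (a + 1)) v, fun c h => ?_, (tr_tr _ _ v).trans hv⟩
      have h1 : tr (hj (a + 1)) v ∈ LinearMap.range (tr ((hj (a + 1)).trans (le_max_left (j (a + 1)) c))) := by
        rw [hjs _ _ (le_max_left _ _)]; exact ⟨v, rfl⟩
      obtain ⟨u, hu⟩ := h1
      exact ⟨tr (le_max_right _ _) u, (tr_tr _ _ u).trans hu⟩
    choose up hup hup' using step
    let z : ∀ m : ℕ, {z : P.obj (op (n + m)) // ∀ c (h : n + m ≤ c), z ∈ LinearMap.range (tr h)} := fun m =>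
      Nat.rec ⟨x, hx⟩ (fun m w => ⟨up (n + m) w.1 w.2, hup (n + m) w.1 w.2⟩) m
    let y : ∀ k, P.obj (op k) := fun k => tr (Nat.le_add_left k n) (z k).1
    have hz : ∀ a b (h : a ≤ b), tr (Nat.add_le_add_left h n) (z b).1 = (z a).1 := by
      intro a b h
      induction h with
      | refl => exact ConcreteCategory.congr_hom (P.map_id (op (n + a))) _
      | @step b hab ih =>
        rw [← ih, ← tr_tr (Nat.add_le_add_left hab n) (Nat.le_succ (n + b))]
        exact congrArg _ (hup' (n + b) (z b).1 (z b).2)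
    obtain ⟨w, hw⟩ := hsurj y fun a b h => by
      show tr h (tr (Nat.le_add_left b n) (z b).1) = tr (Nat.le_add_left a n) (z a).1
      rw [← hz a b h, tr_tr, tr_tr]
    refine ⟨w, (hw n).trans ?_⟩
    show tr (Nat.le_add_left n n) (z n).1 = x
    exact hz 0 n (Nat.zero_le n)
  have hfac : ∀ z : P.obj (op (j I)), ∃ w, γ I w = tr (hj I) z := fun z => surjOn I _ fun c h => by
    have h1 : tr (hj I) z ∈ LinearMap.range (tr ((hj I).trans (le_max_left (j I) c))) := by rw [hjs _ _ (le_max_left _ _)]; exact ⟨z, rfl⟩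
    obtain ⟨u, hu⟩ := h1
    exact ⟨tr (le_max_right _ _) u, (tr_tr _ _ u).trans hu⟩
  choose s hs using hfac
  let S : P.obj (op (j I)) →ₗ[A] L :=
    { toFun := s
      map_add' := fun a b => hIinj (by rw [map_add, hs, hs, hs, map_add])
      map_smul' := fun r a => hIinj (by rw [RingHom.id_apply, map_smul, hs, hs, map_smul]) }
  refine ⟨j I, ModuleCat.ofHom S, ?_, fun n => ?_⟩
  · refine ModuleCat.hom_ext (LinearMap.ext fun w => hIinj ?_)
    show γ I (s (γ (j I) w)) = γ I w
    rw [hs, hnat]
  · refine ⟨max (j I) (j n), le_max_left _ _, (hj n).trans (le_max_right _ _), ?_⟩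
    refine ModuleCat.hom_ext (LinearMap.ext fun z => ?_)
    show tr ((hj n).trans (le_max_right (j I) (j n))) z = γ n (s (tr (le_max_left (j I) (j n)) z))
    rcases le_total n I with hn | hn
    · rw [← hnat hn, hs, tr_tr, tr_tr]
    · obtain ⟨w, hw⟩ := surjOn n (tr ((hj n).trans (le_max_right (j I) (j n))) z) fun c h => by
        have h1 : tr (hj n) (tr (le_max_right (j I) (j n)) z) ∈
            LinearMap.range (tr ((hj n).trans (le_max_left (j n) c))) := by rw [hjs _ _ (le_max_left _ _)]; exact ⟨_, rfl⟩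
        obtain ⟨u, hu⟩ := h1
        exact ⟨tr (le_max_right _ _) u, (tr_tr _ _ u).trans (hu.trans (tr_tr _ _ z))⟩
      rw [← hw]
      refine congrArg (γ n) (hIinj ?_)
      rw [hs, ← hnat hn w, hw, tr_tr, tr_tr]

end Groth.Agent.S8799
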