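import Groth.Statements.S8803
import Groth.Agent.LocCohBasic.Artinian
import Mathlib.Algebra.Category.ModuleCat.Subobject
-- import your own Groth.Agent.* helpers here

set_option autoImplicit false
universe u
open CategoryTheory
open LocCoh

namespace Groth.Agent.S8803

/-- Let (A, m) be a Noetherian local ring and (M_n) an inverse system of finite A-modules. Then for
every i the inverse system H^i_m(M_n) of local cohomology modules satisfies the Mittag-Leffler
condition. -/
theorem result (A : Type u) [CommRing A] [IsNoetherianRing A] [IsLocalRing A] (Msys : ℕᵒᵖ ⥤ ModuleCat.{u} A) (hfin : ∀ n : ℕᵒᵖ, Module.Finite A (Msys.obj n)) (i : ℕ) : ARSys.IsML (Msys ⋙ localCohomology (IsLocalRing.maximalIdeal A) i) := by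
  intro n
  have : Module.Finite A (Msys.obj (Opposite.op n)) := hfin _
  let X := Msys ⋙ localCohomology (IsLocalRing.maximalIdeal A) i
  have hart : IsArtinian A (X.obj (Opposite.op n)) :=
    LocCohBasic.isArtinian_localCohomology i (Msys.obj (Opposite.op n))
  let e := ModuleCat.subobjectModule (X.obj (Opposite.op n))
  have hanti : Antitone (fun s : ℕ => e (Limits.imageSubobject (ARSys.shiftMap X s n))) := by
    refine antitone_nat_of_succ_le fun s => e.monotone ?_
    have h : ARSys.shiftMap X (s + 1) n =
        X.map (homOfLE (Nat.le_succ (n + s))).op ≫ ARSys.shiftMap X s n := by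
      exact (congrArg X.map (Subsingleton.elim _ _)).trans (X.map_comp _ _)
    rw [h]
    exact Limits.imageSubobject_comp_le _ _
  obtain ⟨r, hr⟩ := IsArtinian.monotone_stabilizes (R := A) (M := X.obj (Opposite.op n))
    ⟨fun s => OrderDual.toDual (e (Limits.imageSubobject (ARSys.shiftMap X s n))), hanti⟩
  exact ⟨r, fun s hs => e.injective (hr s hs).symm⟩

end Groth.Agent.S8803
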