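import Groth.Statements.S8806
import Groth.Agent.NLAmp.Compare


set_option autoImplicit false
set_option linter.style.haveILetI false
universe u
open CategoryTheory
attribute [local instance] HasDerivedCategory.standard
open LCI

namespace Groth.Agent.S8806

open CategoryTheory Groth.Agent.DRingTwoTerm MvPolynomial

attribute [local instance] HasDerivedCategory.standard

/-- The tautological generators of a quotient of a polynomial ring. -/
noncomputable abbrev qgen {A : Type u} [CommRing A] {n : ℕ} (I : Ideal (MvPolynomial (Fin n) A)) :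
    Algebra.Generators A (MvPolynomial (Fin n) A ⧸ I) (Fin n) := Algebra.Generators.naive

set_option maxHeartbeats 1000000 in
theorem exists_homotopy (A : Type u) [CommRing A] (n m : ℕ) (hmn : m ≤ n) (f : Fin m → MvPolynomial (Fin n) A) :
    ∃ h : (qgen (Ideal.span (Set.range f))).toExtension.CotangentSpace →ₗ[MvPolynomial (Fin n) A ⧸ Ideal.span (Set.range f)]
        (qgen (Ideal.span (Set.range f))).toExtension.Cotangent,
      (∀ x, h ((qgen (Ideal.span (Set.range f))).toExtension.cotangentComplex x) =
        (Ideal.Quotient.mk (Ideal.span (Set.range f)) (Matrix.det (Matrix.of (fun i j : Fin m => pderiv (Fin.castLE hmn i) (f j))))) • x) ∧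
      (n = m → ∀ y, (qgen (Ideal.span (Set.range f))).toExtension.cotangentComplex (h y) =
        (Ideal.Quotient.mk (Ideal.span (Set.range f)) (Matrix.det (Matrix.of (fun i j : Fin m => pderiv (Fin.castLE hmn i) (f j))))) • y) := by
  classical
  let I := Ideal.span (Set.range f)
  let G := qgen (Ideal.span (Set.range f))
  let B := MvPolynomial (Fin n) A ⧸ I
  let M₀ : Matrix (Fin m) (Fin m) (MvPolynomial (Fin n) A) :=
    Matrix.of (fun i j : Fin m => pderiv (Fin.castLE hmn i) (f j))
  let M : Matrix (Fin m) (Fin m) B := M₀.map (Ideal.Quotient.mk I)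
  have hdet : M.det = Ideal.Quotient.mk I M₀.det := ((Ideal.Quotient.mk I).map_det M₀).symm
  have hae : ∀ p : MvPolynomial (Fin n) A, aeval G.val p = Ideal.Quotient.mk I p := fun p => by
    have : (aeval G.val : MvPolynomial (Fin n) A →ₐ[A] B) = Ideal.Quotient.mkₐ A I := by
      ext i; simp [G]; rfl
    exact DFunLike.congr_fun this p
  have hker : G.toExtension.ker = I := Algebra.Generators.ker_naive _ _
  let z : Fin m → G.toExtension.Cotangent := fun k =>
    Algebra.Extension.Cotangent.mk ⟨f k, hker.ge (Ideal.subset_span ⟨k, rfl⟩)⟩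
  let b := G.cotangentSpaceBasis
  let v : Fin n → G.toExtension.Cotangent := fun j =>
    if hj : (j : ℕ) < m then ∑ k, M.adjugate k ⟨j, hj⟩ • z k else 0
  let h : G.toExtension.CotangentSpace →ₗ[B] G.toExtension.Cotangent := b.constr B v
  have hd : ∀ k i, b.repr (G.toExtension.cotangentComplex (z k)) i = Ideal.Quotient.mk I (pderiv i (f k)) := fun k i => by
    refine (G.cotangentSpaceBasis_repr_tmul 1 (f k) i).trans ?_
    rw [one_mul, hae]
  have hv : ∀ i : Fin m, v (Fin.castLE hmn i) = ∑ k, M.adjugate k i • z k := fun i => by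
    simp only [v, Fin.val_castLE, i.isLt, dif_pos, Fin.eta]
  have hM : ∀ i j, M i j = Ideal.Quotient.mk I (pderiv (Fin.castLE hmn i) (f j)) := fun i j => rfl
  have h1 : ∀ l, h (G.toExtension.cotangentComplex (z l)) = M.det • z l := by
    intro l
    rw [← b.sum_repr (G.toExtension.cotangentComplex (z l)), map_sum]
    simp only [h, map_smul, Module.Basis.constr_basis, hd]
    rw [← Finset.sum_subset (s₁ := Finset.univ.map ⟨Fin.castLE hmn, Fin.castLE_injective hmn⟩) (Finset.subset_univ _)
      (fun j _ hj => by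
        have : ¬ (j : ℕ) < m := fun hlt => hj (Finset.mem_map.2 ⟨⟨j, hlt⟩, Finset.mem_univ _, by ext; rfl⟩)
        simp only [v, this, dif_neg, not_false_eq_true, smul_zero]), Finset.sum_map]
    simp only [Function.Embedding.coeFn_mk, hv, ← hM, Finset.smul_sum, smul_smul]
    rw [Finset.sum_comm]
    calc ∑ k, ∑ i, (M i l * M.adjugate k i) • z k
        = ∑ k, ((M.adjugate * M) k l) • z k := Finset.sum_congr rfl fun k _ => by
          rw [Matrix.mul_apply, Finset.sum_smul]
          exact Finset.sum_congr rfl fun i _ => by rw [mul_comm]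
      _ = _ := by rw [Matrix.adjugate_mul]; simp [Matrix.smul_apply, Matrix.one_apply, ite_smul]
  refine ⟨h, fun x => ?_, fun hnm y => ?_⟩
  · obtain ⟨⟨p, hp⟩, rfl⟩ := Algebra.Extension.Cotangent.mk_surjective x
    rw [show Ideal.Quotient.mk I _ = M.det from hdet.symm]
    have hp' : p ∈ I := hker.le hp
    let T : G.toExtension.ker →ₗ[G.toExtension.Ring] G.toExtension.Cotangent :=
      ((h.comp G.toExtension.cotangentComplex - M.det • LinearMap.id).restrictScalars G.toExtension.Ring).comp
        Algebra.Extension.Cotangent.mk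
    suffices hT : T ⟨p, hp⟩ = 0 from sub_eq_zero.1 hT
    obtain ⟨r, hr⟩ := (Ideal.mem_span_range_iff_exists_fun).1 hp'
    let w : Fin m → G.toExtension.ker := fun k => ⟨f k, hker.ge (Ideal.subset_span ⟨k, rfl⟩)⟩
    have hpw : (⟨p, hp⟩ : G.toExtension.ker) = ∑ k, (r k : G.toExtension.Ring) • w k := Subtype.ext (by
      rw [Submodule.coe_sum]
      exact hr.symm)
    rw [hpw, map_sum]
    refine Finset.sum_eq_zero fun k _ => ?_
    rw [map_smul, show T (w k) = 0 from sub_eq_zero.2 (h1 k), smul_zero]
  · subst hnm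
    rw [show Ideal.Quotient.mk I _ = M.det from hdet.symm]
    have : G.toExtension.cotangentComplex.comp h = M.det • LinearMap.id := by
      refine b.ext fun j => b.repr.injective ?_
      ext i
      simp only [LinearMap.comp_apply, h, Module.Basis.constr_basis, LinearMap.smul_apply, LinearMap.id_apply]
      have := hv j
      rw [show (Fin.castLE hmn j) = j from rfl] at this
      rw [this, map_sum, map_sum, Finsupp.finset_sum_apply, map_smul, Module.Basis.repr_self]
      simp only [map_smul, Finsupp.smul_apply, hd, smul_eq_mul, Finsupp.single_apply]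
      calc ∑ k, M.adjugate k j * Ideal.Quotient.mk I (pderiv i (f k))
          = (M * M.adjugate) i j := by
            rw [Matrix.mul_apply]
            exact Finset.sum_congr rfl fun k _ => mul_comm _ _
        _ = _ := by rw [Matrix.mul_adjugate]; simp [Matrix.smul_apply, Matrix.one_apply, eq_comm]
    exact LinearMap.congr_fun this y


open CategoryTheory Groth.Agent.DRingTwoTerm in
set_option maxHeartbeats 1000000 in
/-- Let A be a ring, m ≤ n, f_1, …, f_m ∈ A[x_1, …, x_n], B = A[x_1, …, x_n]/(f_1, …, f_m), and g ∈ B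
the image of the determinant of the m × m matrix of partial derivatives ∂f_j/∂x_i with i, j ≤ m (the
first m variables). Then: (1) for every B-module N, g annihilates Ext^1_B(NL_{B/A}, N), i.e. every
morphism NL_{B/A} → N[1] in D(B) is killed by g; (2) if n = m then multiplication by g on NL_{B/A}
is the zero endomorphism in D(B). -/
theorem result (A : Type u) [CommRing A] (n m : ℕ) (hmn : m ≤ n) (f : Fin m → MvPolynomial (Fin n) A) : (∀ (N : Type u) [AddCommGroup N] [Module (MvPolynomial (Fin n) A ⧸ Ideal.span (Set.range f)) N] (φ : LCI.NL A (MvPolynomial (Fin n) A ⧸ Ideal.span (Set.range f)) ⟶ (Dual.inD (MvPolynomial (Fin n) A ⧸ Ideal.span (Set.range f)) N)⟦(1 : ℤ)⟧), (Ideal.Quotient.mk (Ideal.span (Set.range f)) (Matrix.det (Matrix.of (fun i j : Fin m => MvPolynomial.pderiv (Fin.castLE hmn i) (f j))))) • φ = 0) ∧ (n = m → (Ideal.Quotient.mk (Ideal.span (Set.range f)) (Matrix.det (Matrix.of (fun i j : Fin m => MvPolynomial.pderiv (Fin.castLE hmn i) (f j))))) • 𝟙 (LCI.NL A (MvPolynomial (Fin n) A ⧸ Ideal.span (Set.range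 f))) = 0) := by
  let I := Ideal.span (Set.range f)
  let G := qgen (Ideal.span (Set.range f))
  obtain ⟨h, hh, hh'⟩ := exists_homotopy A n m hmn f
  obtain ⟨a, ha⟩ := NLAmp.quasiIso_map
    (Algebra.Generators.defaultHom G (Algebra.Generators.self A (MvPolynomial (Fin n) A ⧸ I))).toExtensionHom
    (Algebra.Generators.defaultHom (Algebra.Generators.self A (MvPolynomial (Fin n) A ⧸ I)) G).toExtensionHom
  let e : DRing.toD (NLAmp.extCx G.toExtension) ≅ LCI.NL A (MvPolynomial (Fin n) A ⧸ I) :=
    @asIso _ _ _ _ (DerivedCategory.Q.map a) ((DerivedCategory.isIso_Q_map_iff_quasiIso _ a).2 ha)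
  let F := ModuleCat.ofHom G.toExtension.cotangentComplex
  let ι₀ := ttIso₀ F
  let ι₁ := ttIso₁ F
  haveI : Module.Free (MvPolynomial (Fin n) A ⧸ I) G.toExtension.CotangentSpace :=
    Module.Free.of_basis G.cotangentSpaceBasis
  haveI : Module.Projective (MvPolynomial (Fin n) A ⧸ I) ((NLAmp.extCx G.toExtension).X 0) :=
    Module.Projective.of_equiv ι₁.toLinearEquiv.symm
  let k := ι₀.toLinearEquiv.symm.toLinearMap ∘ₗ h ∘ₗ ι₁.toLinearEquiv.toLinearMap
  have hd : ∀ x, ι₁.hom ((NLAmp.extCx G.toExtension).d (-1) 0 x) = G.toExtension.cotangentComplex (ι₀.hom x) :=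
    fun x => tt_d F x
  have hk : ∀ x, k ((NLAmp.extCx G.toExtension).d (-1) 0 x) = (Ideal.Quotient.mk I (Matrix.det (Matrix.of (fun i j : Fin m => MvPolynomial.pderiv (Fin.castLE hmn i) (f j))))) • x := fun x => by
    show ι₀.toLinearEquiv.symm (h (ι₁.hom _)) = _
    rw [hd, hh]
    rw [LinearEquiv.map_smul]
    congr 1
    exact ι₀.toLinearEquiv.symm_apply_apply x
  refine ⟨fun N _ _ φ => (kills_of_iso e ((kills_iff (tt_outside F) _).2 ⟨k, hk⟩)) N φ, fun hnm => ?_⟩
  rw [← cancel_epi e.hom, Linear.comp_smul, Category.comp_id, Limits.comp_zero]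
  have h0 := Q_map_eq_zero_of_null (above_of_outside (tt_outside F)) (below_of_outside (tt_outside F))
    ((Ideal.Quotient.mk I (Matrix.det (Matrix.of (fun i j : Fin m => MvPolynomial.pderiv (Fin.castLE hmn i) (f j))))) • 𝟙 (NLAmp.extCx G.toExtension))
    ⟨k, fun x => (hk x).symm, fun x => by
      refine ι₁.toLinearEquiv.injective ?_
      show ι₁.toLinearEquiv ((Ideal.Quotient.mk I (Matrix.det (Matrix.of (fun i j : Fin m => MvPolynomial.pderiv (Fin.castLE hmn i) (f j))))) • x) = ι₁.hom ((NLAmp.extCx G.toExtension).d (-1) 0 _)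
      rw [hd, LinearEquiv.map_smul]
      show _ = G.toExtension.cotangentComplex (ι₀.toLinearEquiv (ι₀.toLinearEquiv.symm (h _)))
      rw [LinearEquiv.apply_symm_apply, hh' hnm]
      rfl⟩
  have h1 : (Ideal.Quotient.mk I (Matrix.det (Matrix.of (fun i j : Fin m => MvPolynomial.pderiv (Fin.castLE hmn i) (f j))))) • 𝟙 (DRing.toD (NLAmp.extCx G.toExtension)) = 0 := by
    rw [← DerivedCategory.Q.map_id]
    exact (Functor.map_smul _ _ _).symm.trans h0
  rw [← Category.id_comp e.hom, ← Linear.smul_comp, h1, Limits.zero_comp]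

end Groth.Agent.S8806
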