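import Groth.Statements.S8812
-- import your own Groth.Agent.* helpers here

set_option autoImplicit false
universe u
open CategoryTheory AlgebraicGeometry
open Algz

namespace Groth.Agent.S8812

/-- Let Y be a Noetherian scheme and Z ⊆ Y a closed subset. If y specializes to y' then δ_Z(y') ≤
δ_Z(y); equivalently each set {y | δ_Z(y) ≤ k} is stable under specialization. -/
theorem result (Y : Scheme.{u}) [IsNoetherian Y] (Z : Set Y) (hZ : IsClosed Z) (y y' : Y) (h : y ⤳ y') : Algz.deltaZ Z y' ≤ Algz.deltaZ Z y := by
  classical
  refine le_iInf₂ fun k S => ?_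
  have hcod : ∀ (v : Y), Algz.codimPt v v (specializes_refl v) = 0 := fun v => by
    rw [Algz.codimPt, Order.height_eq_zero]
    exact fun b _ => b.2
  set term : Fin (k + 1) → ℕ∞ := fun i => (∑ j ∈ Finset.univ.filter (fun j : Fin (k + 1) => i ≤ j), S.c j) -
      ∑ j ∈ Finset.univ.filter (fun j : Fin k => i.val ≤ j.val), S.b j with hterm
  have hM : S.delta = (k : ℕ∞) + Finset.univ.sup term := rfl
  by_cases hy : y = y'
  · subst hy; exact iInf₂_le k S
  by_cases hck : S.c (Fin.last k) = 0
  · -- replace the last pair by y'
    have heq : S.v (Fin.last k) ⤳ y ∧ y ⤳ S.v (Fin.last k) := by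
      rw [Algz.DSystem.c, Algz.codimPt, Order.height_eq_zero] at hck
      have h1 := S.spec (Fin.last k)
      refine ⟨?_, by rw [S.last_eq] at h1; exact h1⟩
      have := hck (b := ⟨Specialization.toEquiv (S.v (Fin.last k)), Set.self_mem_Ici⟩)
        (show Specialization.toEquiv (S.v (Fin.last k)) ≤ _ from Specialization.toEquiv_le_toEquiv.2 h1)
      have h2 : S.v (Fin.last k) ⤳ S.w (Fin.last k) := this
      rwa [S.last_eq] at h2
    let T : Algz.DSystem Z y' k :=
      { v := Function.update S.v (Fin.last k) y'
        w := Function.update S.w (Fin.last k) y'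
        spec := fun i => by
          by_cases hi : i = Fin.last k
          · subst hi; rw [Function.update_self, Function.update_self]
          · rw [Function.update_of_ne hi, Function.update_of_ne hi]; exact S.spec i
        spec_succ := fun i => by
          rw [Function.update_of_ne (Fin.castSucc_lt_last i).ne]
          by_cases hi : i.succ = Fin.last k
          · rw [hi, Function.update_self]
            exact ((hi ▸ S.spec_succ i : S.w i.castSucc ⤳ S.v (Fin.last k)).trans heq.1).trans h
          · rw [Function.update_of_ne hi]; exact S.spec_succ i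
        start_mem := by
          by_cases h0 : (0 : Fin (k + 1)) = Fin.last k
          · rw [← h0, Function.update_self]
            exact h.mem_closed hZ ((h0 ▸ heq.1 : S.v 0 ⤳ y).mem_closed hZ S.start_mem)
          · rw [Function.update_of_ne h0]; exact S.start_mem
        last_eq := Function.update_self .. }
    refine (iInf₂_le k T).trans ?_
    rw [hM]
    refine add_le_add le_rfl (Finset.sup_mono_fun fun i _ => tsub_le_tsub (Finset.sum_le_sum fun j _ => ?_) (Finset.sum_le_sum fun j _ => ?_))
    · by_cases hj : j = Fin.last k
      · subst hj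
        have hz : T.c (Fin.last k) = 0 := by
          show Algz.codimPt _ _ _ = 0
          have h1 : T.w (Fin.last k) = y' := Function.update_self ..
          have h2 : T.v (Fin.last k) = y' := Function.update_self ..
          simp only [h1, h2, hcod]
        simp [hz]
      · refine le_of_eq ?_
        show Algz.codimPt _ _ _ = Algz.codimPt _ _ _
        have h1 : T.w j = S.w j := Function.update_of_ne hj ..
        have h2 : T.v j = S.v j := Function.update_of_ne hj ..
        simp only [h1, h2]
    · have h1 : T.w j.castSucc = S.w j.castSucc := Function.update_of_ne (Fin.castSucc_lt_last j).ne ..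
      show Algz.codimPt _ _ _ ≤ Algz.codimPt _ _ _
      by_cases hj : j.succ = Fin.last k
      · have h2 : T.v j.succ = y' := by show Function.update S.v (Fin.last k) y' j.succ = y'; rw [hj, Function.update_self]
        simp only [h1, h2]
        have hspec : S.v j.succ ⤳ y' := (hj ▸ heq.1 : S.v j.succ ⤳ y).trans h
        let f : Set.Ici (Specialization.toEquiv (S.v j.succ)) → Set.Ici (Specialization.toEquiv y') :=
          fun a => ⟨a.1, le_trans (Specialization.toEquiv_le_toEquiv.2 hspec) a.2⟩
        exact Order.height_le_height_apply_of_strictMono f (fun _ _ h => h)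
          ⟨Specialization.toEquiv (S.w j.castSucc), Specialization.toEquiv_le_toEquiv.mpr (S.spec_succ j)⟩
      · have h2 : T.v j.succ = S.v j.succ := Function.update_of_ne hj ..
        simp only [h1, h2, le_refl]
  · let T : Algz.DSystem Z y' (k + 1) :=
      { v := Fin.snoc S.v y'
        w := Fin.snoc S.w y'
        spec := fun i => by
          induction i using Fin.lastCases with
          | last => rw [Fin.snoc_last, Fin.snoc_last]
          | cast i => rw [Fin.snoc_castSucc, Fin.snoc_castSucc]; exact S.spec i
        spec_succ := fun i => by
          induction i using Fin.lastCases with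
          | last => rw [Fin.snoc_castSucc, Fin.succ_last, Fin.snoc_last, S.last_eq]; exact h
          | cast i => rw [Fin.succ_castSucc, Fin.snoc_castSucc, Fin.snoc_castSucc]; exact S.spec_succ i
        start_mem := by rw [← Fin.castSucc_zero, Fin.snoc_castSucc]; exact S.start_mem
        last_eq := Fin.snoc_last .. }
    refine (iInf₂_le (k + 1) T).trans ?_
    rw [hM]
    have hc : ∀ j : Fin (k + 1), T.c j.castSucc = S.c j := fun j => by
      show Algz.codimPt _ _ _ = Algz.codimPt _ _ _
      have h1 : T.w j.castSucc = S.w j := Fin.snoc_castSucc (α := fun _ => Y) ..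
      have h2 : T.v j.castSucc = S.v j := Fin.snoc_castSucc (α := fun _ => Y) ..
      simp only [h1, h2]
    have hclast : T.c (Fin.last (k + 1)) = 0 := by
      show Algz.codimPt _ _ _ = 0
      have h1 : T.w (Fin.last (k + 1)) = y' := Fin.snoc_last (α := fun _ => Y) ..
      have h2 : T.v (Fin.last (k + 1)) = y' := Fin.snoc_last (α := fun _ => Y) ..
      simp only [h1, h2, hcod]
    have hb : ∀ j : Fin k, T.b j.castSucc = S.b j := fun j => by
      show Algz.codimPt _ _ _ = Algz.codimPt _ _ _
      have h1 : T.w j.castSucc.castSucc = S.w j.castSucc := Fin.snoc_castSucc (α := fun _ => Y) ..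
      have h2 : T.v j.castSucc.succ = S.v j.succ := by
        show Fin.snoc (α := fun _ => Y) S.v y' j.castSucc.succ = _
        rw [Fin.succ_castSucc, Fin.snoc_castSucc]
      simp only [h1, h2]
    have hblast : 1 ≤ T.b (Fin.last k) := by
      show (1 : ℕ∞) ≤ Algz.codimPt _ _ _
      have h1 : T.w (Fin.last k).castSucc = y := (Fin.snoc_castSucc (α := fun _ => Y) ..).trans S.last_eq
      have h2 : T.v (Fin.last k).succ = y' := by
        show Fin.snoc (α := fun _ => Y) S.v y' (Fin.last k).succ = _
        rw [Fin.succ_last, Fin.snoc_last]
      simp only [h1, h2]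
      rw [Algz.codimPt, Order.one_le_iff_ne_zero, ne_eq, Order.height_eq_zero]
      intro hmin
      have := hmin (b := ⟨Specialization.toEquiv y', Set.self_mem_Ici⟩) (show Specialization.toEquiv y' ≤ Specialization.toEquiv y from Specialization.toEquiv_le_toEquiv.2 h)
      exact hy (h.antisymm (show y' ⤳ y from this)).eq
    have hM1 : 1 ≤ Finset.univ.sup term := by
      refine le_trans ?_ (Finset.le_sup (Finset.mem_univ (Fin.last k)))
      have e1 : Finset.univ.filter (fun j : Fin (k + 1) => Fin.last k ≤ j) = {Fin.last k} := by
        ext j; simp [Fin.last_le_iff]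
      have e2 : Finset.univ.filter (fun j : Fin k => (Fin.last k).val ≤ j.val) = ∅ := by
        ext j; simp
      simp only [hterm, e1, e2, Finset.sum_singleton, Finset.sum_empty, tsub_zero]
      exact Order.one_le_iff_ne_zero.2 hck
    calc T.delta ≤ ((k + 1 : ℕ) : ℕ∞) + (Finset.univ.sup term - 1) := by
          refine add_le_add le_rfl (Finset.sup_le fun i _ => ?_)
          induction i using Fin.lastCases with
          | last =>
            refine le_trans (le_trans tsub_le_self (le_of_eq ?_)) zero_le
            refine Finset.sum_eq_zero fun j hj => ?_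
            rw [Fin.last_le_iff.1 (Finset.mem_filter.1 hj).2, hclast]
          | cast i =>
            have e1 : ∑ j ∈ Finset.univ.filter (fun j : Fin (k + 1 + 1) => i.castSucc ≤ j), T.c j =
                ∑ j ∈ Finset.univ.filter (fun j : Fin (k + 1) => i ≤ j), S.c j := by
              rw [Finset.sum_filter, Fin.sum_univ_castSucc, Finset.sum_filter]
              simp [hclast, hc, Fin.le_last]
            have e2 : ∑ j ∈ Finset.univ.filter (fun j : Fin (k + 1) => i.castSucc.val ≤ j.val), T.b j =
                (∑ j ∈ Finset.univ.filter (fun j : Fin k => i.val ≤ j.val), S.b j) + T.b (Fin.last k) := by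
              rw [Finset.sum_filter, Fin.sum_univ_castSucc, Finset.sum_filter]
              simp [hb, Fin.is_le i]
            rw [e1, e2, ← tsub_tsub]
            exact tsub_le_tsub (Finset.le_sup (f := term) (Finset.mem_univ i)) hblast
      _ = _ := by
          rw [Nat.cast_add, Nat.cast_one, add_assoc, add_tsub_cancel_of_le hM1]

end Groth.Agent.S8812
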