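import Groth.Statements.S8813
import Mathlib.RingTheory.Spectrum.Prime.Topology
-- import your own Groth.Agent.* helpers here

set_option autoImplicit false
universe u
open CategoryTheory AlgebraicGeometry
open Algz

namespace Groth.Agent.S8813

/-- Let Y be a Noetherian scheme, Z ⊆ Y a closed subset, y a point of Y and z a point of Z lying in the
closure of y. Then δ_Z(y) is at most the dimension of the local ring at z of the closure of y with
its reduced structure, that is, the Krull dimension of O_{Y,z}/𝔭 where 𝔭 is the prime ideal of the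
local ring O_{Y,z} given by the point of Spec O_{Y,z} that maps to y. -/
theorem result (Y : Scheme.{u}) [IsNoetherian Y] (Z : Set Y) (hZ : IsClosed Z) (y z : Y) (h : y ⤳ z) (hz : z ∈ Z) (P : PrimeSpectrum (Y.presheaf.stalk z)) (hP : (Y.fromSpecStalk z).base P = y) : ((Algz.deltaZ Z y : ℕ∞) : WithBot ℕ∞) ≤ ringKrullDim (↥(Y.presheaf.stalk z) ⧸ P.asIdeal) := by
  obtain ⟨g, hg⟩ : ∃ S : Algz.DSystem Z y 0, S.delta = Algz.codimPt y z h := by
    refine ⟨⟨fun _ => z, fun _ => y, fun _ => h, fun i => i.elim0, hz, rfl⟩, ?_⟩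
    simp [Algz.DSystem.delta, Algz.DSystem.c]
  refine le_trans (WithBot.coe_le_coe.2 ((iInf₂_le 0 g).trans hg.le)) ?_
  have : Nontrivial (↥(Y.presheaf.stalk z) ⧸ P.asIdeal) := Ideal.Quotient.nontrivial_iff.2 P.isPrime.ne_top
  obtain ⟨d, hd⟩ : ∃ d : ℕ∞, ringKrullDim (↥(Y.presheaf.stalk z) ⧸ P.asIdeal) = d := by
    obtain ⟨d, hd⟩ := WithBot.ne_bot_iff_exists.1
      (show ringKrullDim (↥(Y.presheaf.stalk z) ⧸ P.asIdeal) ≠ ⊥ from
        fun hb => by simpa [hb] using (ringKrullDim_nonneg_of_nontrivial (R := ↥(Y.presheaf.stalk z) ⧸ P.asIdeal)))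
    exact ⟨d, hd.symm⟩
  rw [hd, WithBot.coe_le_coe]
  refine Order.height_le fun p hp => ?_
  have hemb := (Y.fromSpecStalk z).isEmbedding
  have hle : ∀ i, p i ≤ (⟨Specialization.toEquiv y, Specialization.toEquiv_le_toEquiv.mpr h⟩ :
      Set.Ici (Specialization.toEquiv z)) := fun i => hp ▸ p.monotone (Fin.le_last i)
  have hq : ∀ i, ∃ Q : PrimeSpectrum (Y.presheaf.stalk z),
      (Y.fromSpecStalk z).base Q = Specialization.ofEquiv (p i).1 := by
    intro i
    have : Specialization.ofEquiv (p i).1 ∈ Set.range (Y.fromSpecStalk z) := by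
      rw [AlgebraicGeometry.Scheme.range_fromSpecStalk]
      exact (p i).2
    exact this
  choose Q hQ using hq
  have hmono : ∀ i j, Q i ≤ Q j ↔ p j ≤ p i := by
    intro i j
    rw [PrimeSpectrum.le_iff_specializes]
    refine hemb.toIsInducing.specializes_iff.symm.trans ?_
    show (Y.fromSpecStalk z).base (Q i) ⤳ (Y.fromSpecStalk z).base (Q j) ↔ _
    rw [hQ, hQ]
    rfl
  have hP' : ∀ i, P.asIdeal ≤ (Q i).asIdeal := by
    intro i
    refine (PrimeSpectrum.le_iff_specializes P (Q i)).2 (hemb.toIsInducing.specializes_iff.1 ?_)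
    show (Y.fromSpecStalk z).base P ⤳ (Y.fromSpecStalk z).base (Q i)
    rw [hP, hQ]
    exact hle i
  let q : Fin (p.length + 1) → PrimeSpectrum (↥(Y.presheaf.stalk z) ⧸ P.asIdeal) := fun i =>
    ⟨(Q i.rev).asIdeal.map (Ideal.Quotient.mk P.asIdeal),
      Ideal.map_isPrime_of_surjective Ideal.Quotient.mk_surjective (by rw [Ideal.mk_ker]; exact hP' _)⟩
  have hcomap : ∀ i, (q i).asIdeal.comap (Ideal.Quotient.mk P.asIdeal) = (Q i.rev).asIdeal := fun i => by
    show ((Q i.rev).asIdeal.map (Ideal.Quotient.mk P.asIdeal)).comap _ = _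
    rw [Ideal.comap_map_of_surjective' _ Ideal.Quotient.mk_surjective, Ideal.mk_ker]
    exact sup_eq_left.2 (hP' _)
  have hsm : StrictMono q := by
    intro i j hij
    have hlt : Q i.rev < Q j.rev := by
      have h1 : p j.rev < p i.rev := p.strictMono (Fin.rev_lt_rev.2 hij)
      rw [lt_iff_le_not_ge, hmono, hmono]
      exact lt_iff_le_not_ge.1 h1
    refine lt_iff_le_not_ge.2 ⟨Ideal.map_mono hlt.le, fun hc => hlt.not_ge ?_⟩
    show (Q j.rev).asIdeal ≤ (Q i.rev).asIdeal
    rw [← hcomap, ← hcomap]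
    exact Ideal.comap_mono hc
  have := Order.LTSeries.length_le_krullDim (LTSeries.mk p.length q hsm)
  have h2 : ((p.length : ℕ∞) : WithBot ℕ∞) ≤ ringKrullDim (↥(Y.presheaf.stalk z) ⧸ P.asIdeal) := this
  rw [hd, WithBot.coe_le_coe] at h2
  exact h2

end Groth.Agent.S8813
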