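import Groth.Statements.S8814
import Groth.Agent.Algz.DeltaLib
-- import your own Groth.Agent.* helpers here

set_option autoImplicit false
universe u
open CategoryTheory AlgebraicGeometry
open Algz

namespace Groth.Agent.S8814

/-- Let Y be a Noetherian scheme, Z ⊆ Y a closed subset and δ a dimension function on Y. If δ_Z(y) is a
natural number n, then δ(y) ≤ n + δ(z) for some z ∈ Z; in other words δ(y) ≤ δ_Z(y) + δ_max with
δ_max the maximum of δ on Z. -/
theorem result (Y : Scheme.{u}) [IsNoetherian Y] (Z : Set Y) (hZ : IsClosed Z) (δ : Y → ℤ) (hδ : Cyc.IsDimFun Y δ) (y : Y) (n : ℕ) (hn : Algz.deltaZ Z y = n) : ∃ z ∈ Z, δ y ≤ n + δ z := by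
  have hlt : Algz.deltaZ Z y < (((n + 1 : ℕ)) : ℕ∞) := by
    rw [hn]; exact Nat.cast_lt.mpr (Nat.lt_succ_self n)
  obtain ⟨k, S, hS⟩ : ∃ k, ∃ S : Algz.DSystem Z y k, S.delta < (((n + 1 : ℕ)) : ℕ∞) := by
    simpa only [Algz.deltaZ, iInf_lt_iff] using hlt
  refine ⟨S.v 0, S.start_mem, Algz.DeltaLib.dimFun_le_of_delta_le δ
    (fun a b h1 h2 => (hδ a b h1 h2).1) (fun a b h1 h2 => (hδ a b h1 h2).2) S n ?_⟩
  exact Order.le_of_lt_add_one (by push_cast at hS; exact hS)

end Groth.Agent.S8814
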