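import Groth.Statements.S8815
import Groth.Agent.Algz.DeltaLib
import Mathlib.RingTheory.KrullDimension.NonZeroDivisors
-- import your own Groth.Agent.* helpers here

set_option autoImplicit false
universe u
open CategoryTheory AlgebraicGeometry
open Algz

namespace Groth.Agent.S8815

/-- Let A be a catenary Noetherian local ring, Y = Spec A and Z the closed point. Then δ_Z(y) equals the
dimension of the closure of y, i.e. dim(A/p_y), for every point y. -/
theorem result (A : Type u) [CommRing A] [IsNoetherianRing A] [IsLocalRing A] (hA : CAlg.IsCatenary A) (y : Spec (CommRingCat.of A)) : ((Algz.deltaZ ({IsLocalRing.closedPoint A} : Set (Spec (CommRingCat.of A))) y : ℕ∞) : WithBot ℕ∞) = ringKrullDim (A ⧸ y.asIdeal) := by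
  classical
  let P := PrimeSpectrum A
  let δ : P → ℤ := fun p => ((Order.coheight p).toNat : ℤ)
  have hfin : ∀ p : P, Order.coheight p ≠ ⊤ := fun p => (Order.coheight_lt_top p).ne
  have h1 : ∀ a b : P, a ⤳ b → a ≠ b → δ b < δ a := by
    intro a b hab hne
    have hlt : a < b := lt_of_le_of_ne ((PrimeSpectrum.le_iff_specializes a b).mpr hab) hne
    have h := Order.coheight_add_one_le hlt
    rw [← ENat.natCast_toNat (hfin a), ← ENat.natCast_toNat (hfin b), ← Nat.cast_one, ← Nat.cast_add, Nat.cast_le] at h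
    simp only [δ]
    omega
  have h2 : ∀ a b : P, a ⤳ b → a ≠ b → (∀ z, a ⤳ z → z ⤳ b → z = a ∨ z = b) → δ a = δ b + 1 := by
    intro a b hab hne himm
    have hlt : a < b := lt_of_le_of_ne ((PrimeSpectrum.le_iff_specializes a b).mpr hab) hne
    have hcov : a ⋖ b := ⟨hlt, fun z hz1 hz2 => by
      rcases himm z ((PrimeSpectrum.le_iff_specializes a z).mp hz1.le) ((PrimeSpectrum.le_iff_specializes z b).mp hz2.le) with e | e
      · exact hz1.ne' e
      · exact hz2.ne e⟩
    have := Algz.DeltaLib.coheight_covBy A hA.2 a b hcov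
    simp only [δ]
    omega
  let m : P := IsLocalRing.closedPoint A
  let y' : P := y
  have hm : Order.coheight m = 0 := Order.coheight_eq_zero.mpr fun b _ =>
    IsLocalRing.le_maximalIdeal b.2.ne_top
  have hym : y' ⤳ m := (PrimeSpectrum.le_iff_specializes y' m).mp (IsLocalRing.le_maximalIdeal y'.2.ne_top)
  have hub : Algz.deltaZ ({m} : Set P) y' ≤ Order.coheight y' := by
    refine (Algz.DeltaLib.deltaZ_le_codimPt ({m} : Set P) m y' (Set.mem_singleton m) hym).trans (le_of_eq ?_)
    rw [Algz.DeltaLib.codimPt_eq_toNat δ h1 h2]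
    simp only [δ, hm, ENat.toNat_zero, Nat.cast_zero, sub_zero, Int.toNat_natCast]
    exact ENat.natCast_toNat (hfin y')
  have heq : Algz.deltaZ ({m} : Set P) y' = Order.coheight y' := by
    refine le_antisymm hub ?_
    have hne : Algz.deltaZ ({m} : Set P) y' ≠ ⊤ := ne_top_of_le_ne_top (hfin y') hub
    obtain ⟨n, hn⟩ := ENat.ne_top_iff_exists.mp hne
    rw [← hn]
    have hlt : Algz.deltaZ ({m} : Set P) y' < (((n + 1 : ℕ)) : ℕ∞) := by
      rw [← hn]; exact Nat.cast_lt.mpr (Nat.lt_succ_self n)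
    obtain ⟨k, S, hS⟩ : ∃ k, ∃ S : Algz.DSystem ({m} : Set P) y' k, S.delta < (((n + 1 : ℕ)) : ℕ∞) := by
      simpa only [Algz.deltaZ, iInf_lt_iff] using hlt
    have h := Algz.DeltaLib.dimFun_le_of_delta_le δ h1 h2 S n
      (Order.le_of_lt_add_one (by push_cast at hS; exact hS))
    rw [Set.mem_singleton_iff.mp S.start_mem] at h
    simp only [δ, hm, ENat.toNat_zero, Nat.cast_zero, add_zero, Nat.cast_le] at h
    rw [← ENat.natCast_toNat (hfin y')]
    exact Nat.cast_le.mpr h
  show ((Algz.deltaZ ({m} : Set P) y' : ℕ∞) : WithBot ℕ∞) = _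
  rw [heq, Order.coheight_eq_krullDim_Ici, ringKrullDim_quotient]
  exact Order.krullDim_eq_of_orderIso (OrderIso.setCongr _ _ (Set.ext fun z => Iff.rfl))

end Groth.Agent.S8815
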