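import Groth.Statements.S8816
-- import your own Groth.Agent.* helpers here

set_option autoImplicit false
universe u
open CategoryTheory AlgebraicGeometry
open Algz

namespace Groth.Agent.S8816

/-- Let Y be a Noetherian scheme and Z ⊆ Y closed. Given points y_0, …, y_k and y'_0, …, y'_{k-1} of Y
with y_0 ∈ Z such that each y'_i specializes to y_{i+1} with y'_i ≠ y_{i+1}, and each y'_i ⤳ y_i is
an immediate specialization (y'_i ≠ y_i and no point strictly between), one has δ_Z(y_k) ≤ k. (The
published statement also allows y'_i = y_{i+1}. In that generality the bound needs catenarity: for a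
Noetherian local domain of dimension 3 having a saturated chain of primes (0) ⊂ 𝔭 ⊂ 𝔪 of length 2,
with Z the closed point and the pattern y_0 = 𝔪, y'_0 = y_1 = 𝔭, y'_1 = y_2 = (0), one has k = 2 but
δ_Z((0)) = 3. The published proof handles nontrivial specializations y'_i ⤳ y_{i+1}, for which the
closures of the y_i and y'_i form a system of value k, and reduces to that case by shortening the
chain, which does not preserve immediacy; this row states the case the proof establishes.) -/
theorem result (Y : Scheme.{u}) [IsNoetherian Y] (Z : Set Y) (hZ : IsClosed Z) (k : ℕ) (y : Fin (k + 1) → Y) (y' : Fin k → Y) (h0 : y 0 ∈ Z) (hdown : ∀ i : Fin k, y' i ⤳ y i.castSucc ∧ y' i ≠ y i.castSucc ∧ ∀ z : Y, y' i ⤳ z → z ⤳ y i.castSucc → z = y' i ∨ z = y i.castSucc) (hup : ∀ i : Fin k, y' i ⤳ y i.succ ∧ y' i ≠ y i.succ) : Algz.deltaZ Z (y (Fin.last k)) ≤ k := by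
  classical
  let S : Algz.DSystem Z (y (Fin.last k)) k :=
    { v := y
      w := fun i => Fin.lastCases (y (Fin.last k)) y' i
      spec := fun i => by
        induction i using Fin.lastCases with
        | last => rw [Fin.lastCases_last]
        | cast i => rw [Fin.lastCases_castSucc]; exact (hdown i).1
      spec_succ := fun i => by rw [Fin.lastCases_castSucc]; exact (hup i).1
      start_mem := h0
      last_eq := Fin.lastCases_last }
  refine (iInf₂_le k S).trans ?_
  have hclast : S.c (Fin.last k) = 0 := by
    show Algz.codimPt _ _ _ = 0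
    have e : S.w (Fin.last k) = y (Fin.last k) := Fin.lastCases_last (motive := fun _ => Y)
    simp only [Algz.codimPt, e]
    rw [Order.height_eq_zero]
    exact fun b _ => b.2
  have hc : ∀ i : Fin k, S.c i.castSucc ≤ 1 := by
    intro i
    show Algz.codimPt _ _ _ ≤ 1
    have e : S.w i.castSucc = y' i := Fin.lastCases_castSucc (motive := fun _ => Y) i
    simp only [Algz.codimPt, e]
    rw [← Nat.cast_one, Order.height_le_coe_iff]
    intro b hb
    rw [Nat.cast_one, ENat.lt_one_iff_eq_zero, Order.height_eq_zero]
    have hb1 : y' i ⤳ Specialization.ofEquiv b.1 := hb.le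
    have hb2 : Specialization.ofEquiv b.1 ⤳ y i.castSucc := b.2
    rcases (hdown i).2.2 _ hb1 hb2 with h | h
    · exact absurd (Subtype.ext (Specialization.ofEquiv.injective h)) hb.ne
    · intro c _
      show b.1 ≤ c.1
      rw [show b.1 = Specialization.toEquiv (y i.castSucc) from Specialization.ofEquiv.injective h]
      exact c.2
  have hb : ∀ i : Fin k, 1 ≤ S.b i := by
    intro i
    show 1 ≤ Algz.codimPt _ _ _
    have e : S.w i.castSucc = y' i := Fin.lastCases_castSucc (motive := fun _ => Y) i
    simp only [Algz.codimPt, e]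
    rw [Order.one_le_iff_ne_zero, ne_eq, Order.height_eq_zero]
    intro hmin
    have h := hmin (b := ⟨Specialization.toEquiv (y i.succ), Set.self_mem_Ici⟩)
      (show Specialization.toEquiv (y i.succ) ≤ Specialization.toEquiv (y' i) from
        Specialization.toEquiv_le_toEquiv.2 (hup i).1)
    exact (hup i).2 ((hup i).1.antisymm (show y i.succ ⤳ y' i from h)).eq
  show (k : ℕ∞) + _ ≤ k
  refine le_trans (add_le_add le_rfl (Finset.sup_le fun i _ => ?_)) (le_of_eq (add_zero _))
  rw [tsub_nonpos, Finset.sum_filter, Finset.sum_filter, Fin.sum_univ_castSucc, hclast]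
  simp only [ite_self, add_zero]
  refine Finset.sum_le_sum fun j _ => ?_
  by_cases hij : i ≤ j.castSucc
  · rw [if_pos hij, if_pos (show i.val ≤ j.val from hij)]
    exact (hc j).trans (hb j)
  · rw [if_neg hij]; exact zero_le

end Groth.Agent.S8816
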