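import Groth.Statements.S8817
-- import your own Groth.Agent.* helpers here

set_option autoImplicit false
universe u
open CategoryTheory AlgebraicGeometry
open Algz

namespace Groth.Agent.S8817

/-- Let Y be a Noetherian scheme, Z ⊆ Y a closed subset and Y' ⊆ Y an open subscheme. For a point y' of
Y' the distance function of Y' relative to Y' ∩ Z at y' is at least the distance function of Y
relative to Z at y'. -/
theorem result (Y : Scheme.{u}) [IsNoetherian Y] (Z : Set Y) (hZ : IsClosed Z) (Y' : Y.Opens) (y' : (↑Y' : Scheme.{u})) : Algz.deltaZ Z (Y'.ι.base y') ≤ Algz.deltaZ ((fun x : (↑Y' : Scheme.{u}) => Y'.ι.base x) ⁻¹' Z) y' := by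
  refine le_iInf₂ fun k S => ?_
  let T : Algz.DSystem Z (Y'.ι.base y') k :=
    { v := fun i => Y'.ι.base (S.v i)
      w := fun i => Y'.ι.base (S.w i)
      spec := fun i => (S.spec i).map Y'.ι.continuous
      spec_succ := fun i => (S.spec_succ i).map Y'.ι.continuous
      start_mem := S.start_mem
      last_eq := by rw [S.last_eq] }
  refine (iInf₂_le k T).trans_eq ?_
  have hemb : Topology.IsEmbedding Y'.ι.base := Y'.ι.isOpenEmbedding.isEmbedding
  have hcod : ∀ (w v : (↑Y' : Scheme.{u})) (h : w ⤳ v) (h' : Y'.ι.base w ⤳ Y'.ι.base v),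
      Algz.codimPt (Y'.ι.base w) (Y'.ι.base v) h' = Algz.codimPt w v h := by
    intro w v h h'
    have hmem : ∀ a : Set.Ici (Specialization.toEquiv (Y'.ι.base v)),
        ∃ b : (↑Y' : Scheme.{u}), Y'.ι.base b = Specialization.ofEquiv a.1 := by
      intro a
      have : Specialization.ofEquiv a.1 ∈ Set.range Y'.ι := by
        refine (Specializes.mem_open (show Specialization.ofEquiv a.1 ⤳ Y'.ι.base v from a.2)
          Y'.ι.isOpenEmbedding.isOpen_range ⟨v, rfl⟩)
      exact this
    choose g hg using hmem
    let e : Set.Ici (Specialization.toEquiv v) ≃o Set.Ici (Specialization.toEquiv (Y'.ι.base v)) :=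
      { toFun := fun a => ⟨Specialization.toEquiv (Y'.ι.base (Specialization.ofEquiv a.1)),
          Specialization.toEquiv_le_toEquiv.2 ((show Specialization.ofEquiv a.1 ⤳ v from a.2).map Y'.ι.continuous)⟩
        invFun := fun a => ⟨Specialization.toEquiv (g a), Specialization.toEquiv_le_toEquiv.2
          (hemb.toIsInducing.specializes_iff.1 (by rw [hg]; exact a.2))⟩
        left_inv := fun a => Subtype.ext (hemb.injective (hg _))
        right_inv := fun a => Subtype.ext (hg a)
        map_rel_iff' := fun {a b} => hemb.toIsInducing.specializes_iff }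
    exact Order.height_orderIso e ⟨Specialization.toEquiv w, Specialization.toEquiv_le_toEquiv.mpr h⟩
  simp only [Algz.DSystem.delta, Algz.DSystem.c, Algz.DSystem.b]
  congr 1
  refine Finset.sup_congr rfl fun i _ => ?_
  congr 1
  · exact Finset.sum_congr rfl fun j _ => hcod _ _ (S.spec j) _
  · exact Finset.sum_congr rfl fun j _ => hcod _ _ (S.spec_succ j) _

end Groth.Agent.S8817
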