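import Groth.Statements.S8825
import Groth.Agent.AdicRingLib.RigTfae
import Groth.Agent.CAlgGRing.FiniteType
import Groth.Agent.CAlgGRing.IdealCpl
import Groth.Agent.S19379
import Groth.Agent.S9294

set_option autoImplicit false
universe u
open AdicRing

namespace Groth.Agent.S8825

/-- Let A be a Noetherian ring which is complete for the adic topology of an ideal I, let p be a
rig-closed prime of A (I ⊄ p and p is maximal among the primes not containing I), and let n ≥ 1.
Then the ring map from A/p to the restricted power series ring (A/p){x_1, …, x_n}, i.e. the I-adic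
completion of the polynomial ring (A/p)[x_1, …, x_n], is a regular ring map (flat, with Noetherian
and geometrically regular fibres). (The consequence for the fibre over the fraction field is not
stated.) -/
theorem result (A : Type u) [CommRing A] [IsNoetherianRing A] (I : Ideal A) [IsAdicComplete I A] (p : PrimeSpectrum A) (hp : ¬ I ≤ p.asIdeal ∧ ∀ q : PrimeSpectrum A, p ≤ q → ¬ I ≤ q.asIdeal → q = p) (n : ℕ) (hn : 1 ≤ n) : CAlg.IsRegularHom (A ⧸ p.asIdeal) (AdicCompletion (I.map (algebraMap A (MvPolynomial (Fin n) (A ⧸ p.asIdeal)))) (MvPolynomial (Fin n) (A ⧸ p.asIdeal))) := by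
  let D := A ⧸ p.asIdeal
  have hd : ringKrullDim D = 1 := Groth.Agent.AdicRingLib.RigTfae.dim_one_of_rigClosed (I := I) hp
  obtain ⟨hrad, hc⟩ := Groth.Agent.AdicRingLib.RigTfae.max_eq_radical_of_dim_one (I := I) hd hp.1
  haveI : IsLocalRing D := by
    refine IsLocalRing.of_unique_max_ideal ?_
    obtain ⟨m, hm⟩ := Ideal.exists_maximal D
    exact ⟨m, hm, fun n hn => (hrad n hn).trans (hrad m hm).symm⟩
  haveI : IsAdicComplete (IsLocalRing.maximalIdeal D) D := by
    rw [hrad _ (IsLocalRing.maximalIdeal.isMaximal D)]
    exact hc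
  have hD : CAlg.IsGRing D := Groth.Agent.CAlgGRing.isGRing_of_complete D
  let P := MvPolynomial (Fin n) D
  let J : Ideal P := I.map (algebraMap A P)
  have hP : CAlg.IsGRing P := Groth.Agent.CAlgGRing.isGRing_finiteType D hD P
  haveI : IsNoetherianRing (AdicCompletion J P) := Groth.Agent.AdicNoeth.isNoetherianRing_adicCompletion _
  exact Groth.Agent.S9294.result D P (AdicCompletion J P) (Groth.Agent.S19379.result D P)
    (Groth.Agent.CAlgGRing.isRegularHom_idealCpl P hP J)
    fun q _ => Groth.Agent.RegLocus.isNoetherianRing_fiber D (AdicCompletion J P) q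

end Groth.Agent.S8825
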