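import Groth.Statements.S8833
import Groth.Agent.Algz.GradedLift
import Groth.Agent.LocCohBasic.Cd
-- import your own Groth.Agent.* helpers here

set_option autoImplicit false
universe u
open scoped BigOperators TensorProduct
open LocCoh

namespace Groth.Agent.S8833

/-- Let A be a Noetherian ring, f_1, …, f_r ∈ A and I = (f_1, …, f_r) with cd(A, I) = 1; let c ≥ 1 and
φ_j : I^c → A be A-linear maps with x = Σ_j f_j φ_j(x) for all x ∈ I^c. Let B be a Noetherian
A-algebra and N a finite B-module. Then there is c' ≥ c with the following property. Write φ_j again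
for the restrictions of the φ_j to I^{c'} and let Φ be a graded A-algebra homomorphism from ⊕_{n ≥
0} I^{nc'} to A[T_1, …, T_r] with Φ(g) = Σ_j φ_j(g) T_j for g ∈ I^{c'} (there is exactly one; it is
encoded by functions Φ_n : A → A[T_1, …, T_r] whose values on I^{nc'} are additive, A-homogeneous,
homogeneous of degree n and multiplicative across degrees, with Φ_0 the structure map and Φ_1 as
prescribed). Then for every n there is a unique B-linear map Ψ_n from the submodule I^{nc'}N of N to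
N[T_1, …, T_r] = B[T_1, …, T_r] ⊗_B N with Ψ_n(g x) = Φ_n(g) ⊗ x for g ∈ I^{nc'} and x ∈ N; that is,
the Ψ_n form the unique graded B-module map from ⊕_n I^{nc'}N to N[T_1, …, T_r] with this property.
Moreover substituting T_j ↦ f_j after Ψ_n gives back the inclusion of I^{nc'}N into N. -/
theorem result (A : Type u) [CommRing A] [IsNoetherianRing A] (r : ℕ) (f : Fin r → A) (I : Ideal A) (hI : I = Ideal.span (Set.range f)) (h1 : LocCoh.CdLE A I 1) (h0 : ¬ LocCoh.CdLE A I 0) (c : ℕ) (hc : 1 ≤ c) (φ : Fin r → (↥(I ^ c) →ₗ[A] A)) (hφ : ∀ x : ↥(I ^ c), (x : A) = ∑ j, f j * φ j x) (B : Type u) [CommRing B] [Algebra A B] [IsNoetherianRing B] (N : Type u) [AddCommGroup N] [Module B N] [Module.Finite B N] : ∃ c' : ℕ, ∃ hcc' : c ≤ c', ∀ Φ : ℕ → A → MvPolynomial (Fin r) A, ((∀ n : ℕ, ∀ g ∈ I ^ (n * c'), ∀ h ∈ I ^ (n * c'), Φ n (g + h) = Φ n g + Φ n h) ∧ (∀ (n : ℕ) (a : A), ∀ g ∈ I ^ (n * c'), Φ n (a * g) = a • Φ n g) ∧ (∀ n : ℕ, ∀ g ∈ I ^ (n * c'),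 (Φ n g).IsHomogeneous n) ∧ (∀ n m : ℕ, ∀ g ∈ I ^ (n * c'), ∀ h ∈ I ^ (m * c'), Φ (n + m) (g * h) = Φ n g * Φ m h) ∧ (∀ a : A, Φ 0 a = MvPolynomial.C a) ∧ (∀ (g : A) (hg : g ∈ I ^ c'), Φ 1 g = ∑ j, MvPolynomial.C (φ j ⟨g, Ideal.pow_le_pow_right hcc' hg⟩) * MvPolynomial.X j)) → ∀ n : ℕ, ∃ Ψ : ↥(Submodule.span B {y : N | ∃ g ∈ I ^ (n * c'), ∃ x : N, y = algebraMap A B g • x}) →ₗ[B] (MvPolynomial (Fin r) B ⊗[B] N), (∀ (g : A) (hg : g ∈ I ^ (n * c')) (x : N), Ψ ⟨algebraMap A B g • x, Submodule.subset_span ⟨g, hg, x, rfl⟩⟩ = MvPolynomial.map (algebraMap A B) (Φ n g) ⊗ₜ[B] x) ∧ (∀ y : ↥(Submodule.span B {y : N | ∃ g ∈ I ^ (n * c'), ∃ x : N, y = algebraMap A B g • x}), TensorProduct.lift ((LinearMap.lsmul B N).comp (MvPolynomial.aeval (fun j ↦ algebraMap A B (f j))).toLinearMap) (Ψ y) = (y : N)) ∧ (∀ Ψ' : ↥(Submodule.span B {y : N | ∃ g ∈ I ^ (n * c'), ∃ x : N, y = algebraMap A B g • x}) →ₗ[B] (MvPolynomial (Fin r) B ⊗[B] N), (∀ (g : A) (hg : g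 ∈ I ^ (n * c')) (x : N), Ψ' ⟨algebraMap A B g • x, Submodule.subset_span ⟨g, hg, x, rfl⟩⟩ = MvPolynomial.map (algebraMap A B) (Φ n g) ⊗ₜ[B] x) → Ψ' = Ψ) := by
  classical
  let J : Ideal B := I.map (algebraMap A B)
  obtain ⟨e, he⟩ := LocCohBasic.exists_uniform_pow J (DRing.torsionSub J N) (IsNoetherian.noetherian _) le_rfl
  obtain ⟨c₀, hc₀⟩ := Ideal.exists_pow_inf_eq_pow_smul (M := N) J (DRing.torsionSub J N)
  have hAR : ∀ w : N, w ∈ J ^ (e + c₀) • (⊤ : Submodule B N) → w ∈ DRing.torsionSub J N → w = 0 := by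
    intro w hw hw'
    have h : w ∈ J ^ (e + c₀) • (⊤ : Submodule B N) ⊓ DRing.torsionSub J N := ⟨hw, hw'⟩
    rw [hc₀ _ (Nat.le_add_left _ _), Nat.add_sub_cancel] at h
    refine Submodule.smul_induction_on h (fun a ha x hx => he a ha x hx.2) ?_
    rintro x y rfl rfl
    exact add_zero 0
  refine ⟨c + (e + c₀), Nat.le_add_right _ _, fun Φ hΦ n => ?_⟩
  let φ' : Fin r → (↥(I ^ (c + (e + c₀))) →ₗ[A] A) := fun j =>
    (φ j).comp (Submodule.inclusion (Ideal.pow_le_pow_right (Nat.le_add_right _ _)))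
  have hφ' : ∀ x : ↥(I ^ (c + (e + c₀))), (x : A) = ∑ j, f j * φ' j x := fun x => hφ (Submodule.inclusion (Ideal.pow_le_pow_right (Nat.le_add_right _ _)) x)
  have hL : Algz.IsLift φ' Φ := hΦ
  have hk : ∀ (j : Fin r) (x : ↥(I ^ (c + (e + c₀)))), φ' j x ∈ I ^ (e + c₀) := by
    rintro j ⟨x, hx⟩
    suffices h : x ∈ I ^ c ∧ ∀ h' : x ∈ I ^ c, φ j ⟨x, h'⟩ ∈ I ^ (e + c₀) from h.2 _
    rw [pow_add, mul_comm] at hx
    induction hx using Submodule.mul_induction_on' with
    | mem_mul_mem a ha b hb =>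
      exact ⟨Ideal.mul_mem_left _ a hb, fun h' => by
        rw [Algz.phi_mul φ j a hb]; exact Ideal.mul_mem_right _ _ ha⟩
    | add x _ y _ hx hy =>
      refine ⟨add_mem hx.1 hy.1, fun h' => ?_⟩
      rw [show (⟨x + y, h'⟩ : ↥(I ^ c)) = ⟨x, hx.1⟩ + ⟨y, hy.1⟩ from rfl, map_add]
      exact add_mem (hx.2 _) (hy.2 _)
  let P : A → MvPolynomial (Fin r) B := fun g => MvPolynomial.map (algebraMap A B) (Φ n g)
  have hP : ∀ a : A, ∀ g ∈ I ^ (n * (c + (e + c₀))), P (a * g) = algebraMap A B a • P g := fun a g hg => by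
    simp only [P, hL.2.1 n a g hg, MvPolynomial.smul_eq_C_mul, map_mul, MvPolynomial.map_C]
  let S : Set N := {y : N | ∃ g ∈ I ^ (n * (c + (e + c₀))), ∃ x : N, y = algebraMap A B g • x}
  let G : Submodule B (N × (MvPolynomial (Fin r) B ⊗[B] N)) := Submodule.span B
    {p | ∃ g ∈ I ^ (n * (c + (e + c₀))), ∃ x : N, p = (algebraMap A B g • x, P g ⊗ₜ[B] x)}
  have hGa : ∀ h ∈ I ^ (n * (c + (e + c₀))), ∀ p ∈ G, algebraMap A B h • p.2 = P h ⊗ₜ[B] p.1 := by
    intro h hh p hp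
    induction hp using Submodule.span_induction with
    | mem p hp =>
      obtain ⟨g, hg, x, rfl⟩ := hp
      show algebraMap A B h • (P g ⊗ₜ[B] x) = P h ⊗ₜ[B] (algebraMap A B g • x)
      rw [TensorProduct.tmul_smul, TensorProduct.smul_tmul', TensorProduct.smul_tmul',
        ← hP h g hg, mul_comm, hP g h hh]
    | zero => simp
    | add p q _ _ hp hq => simp only [Prod.snd_add, Prod.fst_add, smul_add, TensorProduct.tmul_add, hp, hq]
    | smul b p _ hp => simp only [Prod.smul_snd, Prod.smul_fst, TensorProduct.tmul_smul, smul_comm _ b, hp]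
  have hPJ : ∀ g ∈ I ^ (n * (c + (e + c₀))), P g ∈ J ^ (n * (e + c₀)) • (⊤ : Submodule B (MvPolynomial (Fin r) B)) := by
    intro g hg
    rw [Ideal.smul_top_eq_map, Submodule.restrictScalars_mem, MvPolynomial.algebraMap_eq]
    have h1 := Algz.lift_mem_map_C φ' hk n g hg
    rw [← Algz.IsLift.eq_lift φ' hL n g hg] at h1
    have h2 := Ideal.mem_map_of_mem (MvPolynomial.map (algebraMap A B)) h1
    rw [Ideal.map_map] at h2
    rw [← Ideal.map_pow, Ideal.map_map]
    have hc' : (MvPolynomial.map (algebraMap A B)).comp MvPolynomial.C =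
        (MvPolynomial.C (σ := Fin r)).comp (algebraMap A B) :=
      RingHom.ext fun a => MvPolynomial.map_C _ a
    rwa [hc'] at h2
  have hGb : G ≤ Submodule.comap (LinearMap.snd B N (MvPolynomial (Fin r) B ⊗[B] N))
      (J ^ (n * (e + c₀)) • ⊤) := by
    refine Submodule.span_le.2 ?_
    rintro p ⟨g, hg, x, rfl⟩
    have h := Submodule.mem_map_of_mem
      (f := (TensorProduct.mk B (MvPolynomial (Fin r) B) N).flip x) (hPJ g hg)
    rw [Submodule.map_smul''] at h
    exact Submodule.smul_mono le_rfl le_top h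
  have hfun : ∀ p ∈ G, p.1 = 0 → p.2 = 0 := by
    intro p hp hp1
    have hkill : ∀ b ∈ (I ^ (n * (c + (e + c₀)))).map (algebraMap A B), b • p.2 = 0 := by
      intro b hb
      have : (I ^ (n * (c + (e + c₀)))).map (algebraMap A B) ≤ LinearMap.ker (LinearMap.toSpanSingleton B _ p.2) := by
        refine Ideal.map_le_iff_le_comap.2 fun h hh => ?_
        show algebraMap A B h • p.2 = 0
        rw [hGa h hh p hp, hp1, TensorProduct.tmul_zero]
      exact this hb
    rcases Nat.eq_zero_or_pos n with hn | hn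
    · have := hkill 1 (by rw [hn, Nat.zero_mul, pow_zero, Ideal.one_eq_top, Ideal.map_top]; trivial)
      rwa [one_smul] at this
    refine (TensorProduct.equivFinsuppOfBasisLeft (MvPolynomial.basisMonomials (Fin r) B)).injective ?_
    rw [map_zero]
    refine Finsupp.ext fun d => hAR _ ?_ ⟨n * (c + (e + c₀)), fun b hb => ?_⟩
    · have h := Submodule.mem_map_of_mem (f := (Finsupp.lapply d).comp
        (TensorProduct.equivFinsuppOfBasisLeft (MvPolynomial.basisMonomials (Fin r) B)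
          (N := N)).toLinearMap) (show p.2 ∈ J ^ (n * (e + c₀)) • (⊤ : Submodule B _) from hGb hp)
      rw [Submodule.map_smul''] at h
      exact Submodule.smul_mono (Ideal.pow_le_pow_right (Nat.le_mul_of_pos_left _ hn)) le_top h
    · rw [← Finsupp.smul_apply, ← map_smul, hkill b (by rw [Ideal.map_pow]; exact hb), map_zero,
        Finsupp.zero_apply]
  let q : G →ₗ[B] Submodule.span B S := (LinearMap.fst B N _ ∘ₗ G.subtype).codRestrict _ fun p => by
    have : G ≤ (Submodule.span B S).comap (LinearMap.fst B N _) := Submodule.span_le.2 (by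
      rintro p ⟨g, hg, x, rfl⟩; exact Submodule.subset_span ⟨g, hg, x, rfl⟩)
    exact this p.2
  have hq : Function.Bijective q := by
    refine ⟨fun p p' hpp => ?_, fun y => ?_⟩
    · have hp1 : p.1.1 = p'.1.1 := congrArg Subtype.val hpp
      have hd := hfun (p.1 - p'.1) (sub_mem p.2 p'.2) (sub_eq_zero.2 hp1)
      exact Subtype.ext (Prod.ext hp1 (sub_eq_zero.1 hd))
    · have : Submodule.span B S ≤ G.map (LinearMap.fst B N _) := Submodule.span_le.2 (by
        rintro y ⟨g, hg, x, rfl⟩; exact ⟨_, Submodule.subset_span ⟨g, hg, x, rfl⟩, rfl⟩)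
      obtain ⟨p, hp, hpy⟩ := this y.2
      exact ⟨⟨p, hp⟩, Subtype.ext hpy⟩
  let E := LinearEquiv.ofBijective q hq
  let Ψ : Submodule.span B S →ₗ[B] (MvPolynomial (Fin r) B ⊗[B] N) :=
    LinearMap.snd B N _ ∘ₗ G.subtype ∘ₗ E.symm.toLinearMap
  have hΨ : ∀ (g : A) (hg : g ∈ I ^ (n * (c + (e + c₀)))) (x : N),
      Ψ ⟨algebraMap A B g • x, Submodule.subset_span ⟨g, hg, x, rfl⟩⟩ = P g ⊗ₜ[B] x := fun g hg x => by
    exact congrArg (fun z : G => z.1.2) ((E.symm_apply_eq (y := ⟨(algebraMap A B g • x, P g ⊗ₜ[B] x),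
      Submodule.subset_span ⟨g, hg, x, rfl⟩⟩)).2 (Subtype.ext rfl))
  refine ⟨Ψ, hΨ, fun y => ?_, fun Ψ' hΨ' => ?_⟩
  · let ev := TensorProduct.lift ((LinearMap.lsmul B N).comp
      (MvPolynomial.aeval (fun j ↦ algebraMap A B (f j))).toLinearMap)
    have : G ≤ LinearMap.eqLocus (ev ∘ₗ LinearMap.snd B N _) (LinearMap.fst B N _) :=
      Submodule.span_le.2 (by
        rintro p ⟨g, hg, x, rfl⟩
        show MvPolynomial.aeval (fun j ↦ algebraMap A B (f j))
          (MvPolynomial.map (algebraMap A B) (Φ n g)) • x = algebraMap A B g • x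
        congr 1
        rw [MvPolynomial.aeval_map_algebraMap, ← Function.comp_def, MvPolynomial.aeval_algebraMap_apply,
          Algz.IsLift.eq_lift φ' hL n g hg, Algz.aeval_lift φ' f hφ' n g hg])
    exact (this (E.symm y).2).trans (congrArg Subtype.val (E.apply_symm_apply y))
  · refine LinearMap.ext fun y => ?_
    obtain ⟨y, hy⟩ := y
    induction hy using Submodule.span_induction with
    | mem y hy => obtain ⟨g, hg, x, rfl⟩ := hy; exact (hΨ' g hg x).trans (hΨ g hg x).symm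
    | zero => exact (map_zero Ψ').trans (map_zero Ψ).symm
    | add a b ha hb iha ihb =>
      exact (map_add Ψ' ⟨a, ha⟩ ⟨b, hb⟩).trans ((congrArg₂ (· + ·) iha ihb).trans (map_add Ψ _ _).symm)
    | smul t a ha iha =>
      exact (map_smul Ψ' t ⟨a, ha⟩).trans ((congrArg (t • ·) iha).trans (map_smul Ψ _ _).symm)

end Groth.Agent.S8833
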