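import Groth.Statements.S8834
import Groth.Agent.AdicRingLib.RigTfae

set_option autoImplicit false
universe u
open AdicRing

namespace Groth.Agent.S8834

/-- Let A be a Noetherian ring complete for the adic topology of an ideal I and B a Noetherian ring
complete for the adic topology of an ideal J, with an algebra map A → B sending I into the radical
of J (a continuous homomorphism of adic Noetherian topological rings; the radicals of I and J are
the ideals of topologically nilpotent elements). Assume B/√J is of finite type over A, equivalently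
over A/√I. Then B is topologically of finite type over A: there are b_1, …, b_s ∈ B such that the
A-algebra map A[x_1, …, x_s] → B with x_i ↦ b_i has dense image for the J-adic topology, that is,
for every y ∈ B and every n there is a polynomial whose value at b differs from y by an element of
J^n. -/
theorem result (A : Type u) [CommRing A] [IsNoetherianRing A] (I : Ideal A) [IsAdicComplete I A] (B : Type u) [CommRing B] [Algebra A B] [IsNoetherianRing B] (J : Ideal B) [IsAdicComplete J B] (hIJ : I.map (algebraMap A B) ≤ J.radical) (hft : Algebra.FiniteType A (B ⧸ J.radical)) : ∃ s : ℕ, ∃ b : Fin s → B, ∀ (y : B) (n : ℕ), ∃ p : MvPolynomial (Fin s) A, y - MvPolynomial.aeval b p ∈ J ^ n := by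
  classical
  set R := J.radical with hR
  obtain ⟨S, hS⟩ := hft.1
  choose g hg using fun x : B ⧸ R => Ideal.Quotient.mk_surjective x
  obtain ⟨C, hC⟩ : R.FG := IsNoetherian.noetherian R
  let G : Finset B := S.image g ∪ C
  let b : Fin G.card → B := fun i => (G.equivFin.symm i).1
  have hbr : Set.range b = (G : Set B) := by
    ext x
    exact ⟨fun ⟨i, hi⟩ => hi ▸ (G.equivFin.symm i).2, fun hx => ⟨G.equivFin ⟨x, hx⟩, by simp [b]⟩⟩
  let T : Subalgebra A B := (MvPolynomial.aeval b).range
  have hT : ∀ x ∈ G, x ∈ T := fun x hx => by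
    obtain ⟨i, rfl⟩ : x ∈ Set.range b := hbr ▸ hx
    exact ⟨MvPolynomial.X i, MvPolynomial.aeval_X _ _⟩
  have h0 : ∀ y : B, ∃ t ∈ T, y - t ∈ R := by
    intro y
    have hy : Ideal.Quotient.mk R y ∈ T.map (Ideal.Quotient.mkₐ A R) := by
      have hle : Algebra.adjoin A (S : Set (B ⧸ R)) ≤ T.map (Ideal.Quotient.mkₐ A R) :=
        Algebra.adjoin_le fun x hx => ⟨g x, hT _ (Finset.mem_union_left _ (Finset.mem_image_of_mem _ hx)), hg x⟩
      exact hle (hS.symm ▸ Algebra.mem_top)
    obtain ⟨t, ht, hty⟩ := hy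
    exact ⟨t, ht, Ideal.Quotient.eq.1 hty.symm⟩
  have h1 : ∀ r ∈ R, ∃ t ∈ T, t ∈ R ∧ r - t ∈ R ^ 2 := by
    intro r hr
    have hr' : r ∈ Submodule.span B (C : Set B) := by change r ∈ Ideal.span _; rw [hC]; exact hr
    induction hr' using Submodule.span_induction with
    | mem x hx => exact ⟨x, hT _ (Finset.mem_union_right _ hx), hC ▸ Submodule.subset_span hx, by simp⟩
    | zero => exact ⟨0, zero_mem _, zero_mem _, by simp⟩
    | add x y hx hy ihx ihy =>
      obtain ⟨t, ht, htR, h⟩ := ihx (hC ▸ hx)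
      obtain ⟨t', ht', htR', h'⟩ := ihy (hC ▸ hy)
      exact ⟨t + t', add_mem ht ht', add_mem htR htR', by rw [add_sub_add_comm]; exact add_mem h h'⟩
    | smul w x hx ihx =>
      obtain ⟨t, ht, htR, h⟩ := ihx (hC ▸ hx)
      obtain ⟨u, hu, hwu⟩ := h0 w
      refine ⟨u * t, mul_mem hu ht, R.mul_mem_left _ htR, ?_⟩
      rw [smul_eq_mul, show w * x - u * t = w * (x - t) + (w - u) * t by ring]
      exact add_mem (Ideal.mul_mem_left _ _ h) (pow_two R ▸ Ideal.mul_mem_mul hwu htR)
  have h2 : ∀ k, ∀ z ∈ R ^ k, ∃ t ∈ T, t ∈ R ^ k ∧ z - t ∈ R ^ (k + 1) := by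
    intro k
    induction k with
    | zero =>
      intro z _
      obtain ⟨t, ht, h⟩ := h0 z
      exact ⟨t, ht, by simp, by simpa using h⟩
    | succ k ih =>
      intro z hz
      rw [pow_succ] at hz
      refine Submodule.mul_induction_on hz (fun a ha r hr => ?_) fun x y hx hy => ?_
      · obtain ⟨t, ht, htk, ha'⟩ := ih a ha
        obtain ⟨t', ht', ht'R, hr'⟩ := h1 r hr
        refine ⟨t * t', mul_mem ht ht', pow_succ R k ▸ Ideal.mul_mem_mul htk ht'R, ?_⟩
        rw [show a * r - t * t' = t * (r - t') + (a - t) * r by ring]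
        refine add_mem ?_ (pow_succ R (k + 1) ▸ Ideal.mul_mem_mul ha' hr)
        rw [show k + 1 + 1 = k + 2 from rfl, pow_add]
        exact Ideal.mul_mem_mul htk hr'
      · obtain ⟨t, ht, htR, h⟩ := hx
        obtain ⟨t', ht', htR', h'⟩ := hy
        exact ⟨t + t', add_mem ht ht', add_mem htR htR', by rw [add_sub_add_comm]; exact add_mem h h'⟩
  have h3 : ∀ (y : B) (k : ℕ), ∃ t ∈ T, y - t ∈ R ^ k := by
    intro y k
    induction k with
    | zero => exact ⟨0, zero_mem _, by simp⟩
    | succ k ih =>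
      obtain ⟨t, ht, h⟩ := ih
      obtain ⟨t', ht', -, h'⟩ := h2 k _ h
      exact ⟨t + t', add_mem ht ht', by rwa [← sub_sub]⟩
  obtain ⟨k0, hk0⟩ := Ideal.exists_pow_le_of_le_radical_of_fg (le_refl R) (IsNoetherian.noetherian R)
  refine ⟨_, b, fun y n => ?_⟩
  obtain ⟨t, ⟨p, rfl⟩, h⟩ := h3 y (k0 * n)
  refine ⟨p, ?_⟩
  rw [pow_mul] at h
  exact Ideal.pow_right_mono hk0 n h

end Groth.Agent.S8834
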