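import Groth.Statements.S8836
import Groth.Agent.AdicRingLib.RigTfae

set_option autoImplicit false
universe u
open AdicRing

namespace Groth.Agent.S8836

/-- Let A be a Noetherian ring complete for the adic topology of an ideal I, and B a Noetherian
A-algebra complete for the IB-adic topology, flat over A, with B/IB of finite type over A (a flat
adic morphism, topologically of finite type, of adic Noetherian topological rings). Let p be a prime
of A which is rig-closed (I ⊄ p and p maximal among the primes not containing I). The following are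
equivalent: (1) the maximal ideal of the local ring A/p lies in the image of Spec(B/√(IB)) →
Spec(A/√I), stated as: some prime Q of B containing IB lies over a maximal ideal of A containing p;
(2) there is a rig-closed prime q of B (IB ⊄ q, q maximal among the primes not containing IB) whose
inverse image in A is p. (The published statement adds that, when these hold, A/p ⊆ B/q is a finite
extension of rings and the residue field of the local ring B/q is finite over A/√I; this is not
restated here.) -/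
theorem result (A : Type u) [CommRing A] [IsNoetherianRing A] (I : Ideal A) [IsAdicComplete I A] (B : Type u) [CommRing B] [Algebra A B] [IsNoetherianRing B] [IsAdicComplete (I.map (algebraMap A B)) B] (hft : Algebra.FiniteType A (B ⧸ (I.map (algebraMap A B)))) [Module.Flat A B] (p : PrimeSpectrum A) (hp : (¬ I ≤ p.asIdeal ∧ ∀ y : PrimeSpectrum A, p ≤ y → ¬ I ≤ y.asIdeal → y = p)) : (∃ Q : PrimeSpectrum B, (I.map (algebraMap A B)) ≤ Q.asIdeal ∧ p.asIdeal ≤ (PrimeSpectrum.comap (algebraMap A B) Q).asIdeal ∧ (PrimeSpectrum.comap (algebraMap A B) Q).asIdeal.IsMaximal) ↔ (∃ q : PrimeSpectrum B, (¬ (I.map (algebraMap A B)) ≤ q.asIdeal ∧ ∀ y : PrimeSpectrum B, q ≤ y → ¬ (I.map (algebraMap A B)) ≤ y.asIdeal → y = q) ∧ PrimeSpectrum.comap (algebraMap A B) q = p) := by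
  have key : ∀ n : Ideal A, n.IsPrime → p.asIdeal ≤ n → I ≤ n → n.IsMaximal := by
    intro n hn hpn hIn
    haveI : Ring.KrullDimLE 1 (A ⧸ p.asIdeal) :=
      (Ring.krullDimLE_iff (n := 1)).2 (Groth.Agent.AdicRingLib.RigTfae.dim_one_of_rigClosed hp).le
    have hne : n.map (Ideal.Quotient.mk p.asIdeal) ≠ ⊥ := fun h0 => hp.1 (by
      rw [Ideal.map_eq_bot_iff_le_ker, Ideal.mk_ker] at h0
      exact hIn.trans h0)
    haveI hP : (n.map (Ideal.Quotient.mk p.asIdeal)).IsPrime :=
      Ideal.map_isPrime_of_surjective Ideal.Quotient.mk_surjective (by rwa [Ideal.mk_ker])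
    haveI := hP.isMaximal_of_ne_bot hne
    have hu := Ideal.comap_isMaximal_of_surjective (Ideal.Quotient.mk p.asIdeal) Ideal.Quotient.mk_surjective
      (K := n.map (Ideal.Quotient.mk p.asIdeal))
    rwa [Ideal.comap_map_of_surjective _ Ideal.Quotient.mk_surjective, ← RingHom.ker_eq_comap_bot, Ideal.mk_ker,
      sup_eq_left.2 hpn] at hu
  constructor
  · rintro ⟨Q, hQI, hpQ, hQmax⟩
    haveI : Algebra.HasGoingDown A B := inferInstance
    haveI : Q.asIdeal.LiesOver (PrimeSpectrum.comap (algebraMap A B) Q).asIdeal := ⟨rfl⟩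
    obtain ⟨P, hPQ, hP, hPp⟩ := Ideal.exists_ideal_le_liesOver_of_le
      (p := p.asIdeal) (q := (PrimeSpectrum.comap (algebraMap A B) Q).asIdeal) Q.asIdeal hpQ
    let S := {y : PrimeSpectrum B | P ≤ y.asIdeal ∧ ¬ I.map (algebraMap A B) ≤ y.asIdeal}
    have hS : S.Nonempty := ⟨⟨P, hP⟩, le_rfl, fun hle => hp.1 (by
      rw [hPp.over]
      exact Ideal.map_le_iff_le_comap.1 hle)⟩
    obtain ⟨J, ⟨q, hqS, rfl⟩, hmax⟩ := exists_maximal_of_wellFoundedGT
      (fun J : Ideal B => ∃ y ∈ S, y.asIdeal = J) ⟨_, _, hS.some_mem, rfl⟩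
    refine ⟨q, ⟨hqS.2, fun y hy hyI => le_antisymm (hmax ⟨y, ⟨hqS.1.trans hy, hyI⟩, rfl⟩ hy) hy⟩, ?_⟩
    refine hp.2 _ ?_ fun hle => hqS.2 (Ideal.map_le_iff_le_comap.2 hle)
    intro x hx
    rw [hPp.over] at hx
    exact hqS.1 hx
  · rintro ⟨q, ⟨hqI, hqmax⟩, hqp⟩
    obtain ⟨m, hm, hqm⟩ := Ideal.exists_le_maximal q.asIdeal q.2.ne_top
    have hIm : I.map (algebraMap A B) ≤ m :=
      (IsAdicComplete.le_jacobson_bot (I := I.map (algebraMap A B))).trans (sInf_le ⟨bot_le, hm⟩)
    have hpm : p.asIdeal ≤ m.comap (algebraMap A B) := by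
      rw [← hqp]
      exact Ideal.comap_mono hqm
    exact ⟨⟨m, hm.isPrime⟩, hIm, hpm, key _ (Ideal.comap_isPrime _ _) hpm (Ideal.map_le_iff_le_comap.1 hIm)⟩

end Groth.Agent.S8836
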