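import Groth.Statements.S8837
import Groth.Agent.CplFin.Basic

set_option autoImplicit false
universe u
open AdicRing

namespace Groth.Agent.S8837

/-- Let A be a Noetherian ring complete for the adic topology of an ideal I (an adic Noetherian
topological ring), p a prime ideal of A, and f ∈ A an element mapping to a unit in A/p. Let A_{f}
denote the completed principal localization, i.e. the I-adic completion of A_f = A[1/f]. Then the
ideal p A_{f} generated by p is prime, and the canonical map A/p → A_{f}/p A_{f} is bijective (so p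
A_{f} = p ⊗_A A_{f} is the completion of p_f, with quotient A/p). -/
theorem result (A : Type u) [CommRing A] [IsNoetherianRing A] (I : Ideal A) [IsAdicComplete I A] (p : Ideal A) [p.IsPrime] (f : A) (hf : IsUnit (Ideal.Quotient.mk p f)) : (p.map (algebraMap A (AdicCompletion (I.map (algebraMap A (Localization.Away f))) (Localization.Away f)))).IsPrime ∧ Function.Bijective (Ideal.quotientMap (p.map (algebraMap A (AdicCompletion (I.map (algebraMap A (Localization.Away f))) (Localization.Away f)))) (algebraMap A (AdicCompletion (I.map (algebraMap A (Localization.Away f))) (Localization.Away f))) Ideal.le_comap_map) := by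
  let R := Localization.Away f
  let J := I.map (algebraMap A R)
  let P := p.map (algebraMap A R)
  have hdisj : Disjoint (Submonoid.powers f : Set A) p := Set.disjoint_left.2 fun x hx hxp => by
    obtain ⟨n, rfl⟩ := hx
    have h0 : Ideal.Quotient.mk p f ^ n = 0 := by rw [← map_pow]; exact Ideal.Quotient.eq_zero_iff_mem.2 hxp
    exact not_isUnit_zero (h0 ▸ hf.pow n)
  have hcomap : P.comap (algebraMap A R) = p :=
    IsLocalization.comap_map_of_isPrime_disjoint (Submonoid.powers f) R (inferInstance) hdisj
  let e : (A ⧸ p) →ₗ[A] R ⧸ P :=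
    Submodule.mapQ p (P.restrictScalars A) (Algebra.linearMap A R) hcomap.ge
  have he_mk : ∀ a, e (Ideal.Quotient.mk p a) = Ideal.Quotient.mk P (algebraMap A R a) := fun _ => rfl
  have he : Function.Bijective e := by
    constructor
    · rw [injective_iff_map_eq_zero]
      intro x hx
      obtain ⟨a, rfl⟩ := Ideal.Quotient.mk_surjective x
      rw [he_mk, Ideal.Quotient.eq_zero_iff_mem, ← Ideal.mem_comap, hcomap] at hx
      exact Ideal.Quotient.eq_zero_iff_mem.2 hx
    · intro y
      obtain ⟨r, rfl⟩ := Ideal.Quotient.mk_surjective y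
      obtain ⟨a, s, rfl⟩ := IsLocalization.exists_mk'_eq (Submonoid.powers f) r
      obtain ⟨n, hn⟩ := s.2
      obtain ⟨b, hb⟩ := Ideal.Quotient.mk_surjective ((hf.pow n).unit⁻¹ : (A ⧸ p)ˣ).1
      refine ⟨Ideal.Quotient.mk p (a * b), ?_⟩
      have hu : IsUnit (Ideal.Quotient.mk P (algebraMap A R s.1)) :=
        (IsLocalization.map_units R s).map (Ideal.Quotient.mk P)
      refine hu.mul_left_injective ?_
      change _ * _ = _ * _
      rw [he_mk, ← map_mul, ← map_mul, ← map_mul, IsLocalization.mk'_spec]
      refine Ideal.Quotient.eq.2 ?_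
      rw [← map_sub]
      refine Ideal.mem_map_of_mem _ (Ideal.Quotient.eq_zero_iff_mem.1 ?_)
      have h1 : Ideal.Quotient.mk p s.1 * Ideal.Quotient.mk p b = 1 := by
        rw [hb, ← hn, map_pow]
        exact (hf.pow n).mul_val_inv
      rw [map_sub, map_mul, map_mul]
      linear_combination Ideal.Quotient.mk p a * h1
  haveI : Module.Finite A (A ⧸ p) := Module.Finite.of_surjective (Submodule.mkQ p) (Submodule.mkQ_surjective p)
  haveI := Groth.Agent.CplFin.isAdicComplete_of_finite A I (A ⧸ p)
  haveI hM : IsAdicComplete I (R ⧸ P) := CAlgH.Decay.isAdicComplete_of_equiv I (LinearEquiv.ofBijective e he)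
  haveI : IsAdicComplete J (R ⧸ P) := (IsAdicComplete.map_algebraMap_iff _ _).2 hM
  haveI : IsNoetherianRing R := IsLocalization.isNoetherianRing (Submonoid.powers f) R inferInstance
  let C := AdicCompletion J R
  let T := Algebra.TensorProduct.quotIdealMapEquivTensorQuot C P
  have hT : Function.Bijective (fun m : R ⧸ P => (1 : C) ⊗ₜ[R] m) := by
    have hb := AdicCompletion.ofTensorProduct_bijective_of_finite_of_isNoetherian J (R ⧸ P)
    refine (Function.Bijective.of_comp_iff' hb _).1 ?_
    rw [show (AdicCompletion.ofTensorProduct J (R ⧸ P)) ∘ (fun m : R ⧸ P => (1 : C) ⊗ₜ[R] m) =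
      AdicCompletion.of J (R ⧸ P) from funext fun m =>
        (AdicCompletion.ofTensorProduct_tmul J (R ⧸ P) 1 m).trans (one_smul C _)]
    exact AdicCompletion.of_bijective J (R ⧸ P)
  have hβ : Function.Bijective (Ideal.quotientMap (P.map (algebraMap R C)) (algebraMap R C) Ideal.le_comap_map) := by
    refine (Function.Bijective.of_comp_iff' T.bijective _).1 ?_
    convert hT using 2 with m
    obtain ⟨r, rfl⟩ := Ideal.Quotient.mk_surjective m
    simp only [Function.comp_apply, Ideal.quotientMap_mk, T]
    rw [Algebra.TensorProduct.quotIdealMapEquivTensorQuot_mk, Algebra.algebraMap_eq_smul_one,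
      TensorProduct.smul_tmul, ← Algebra.algebraMap_eq_smul_one]
    rfl
  have hPC : P.map (algebraMap R C) = p.map (algebraMap A C) := by
    rw [Ideal.map_map, ← IsScalarTower.algebraMap_eq]
  have hbij : Function.Bijective (Ideal.quotientMap (p.map (algebraMap A C)) (algebraMap A C) Ideal.le_comap_map) := by
    have h := (Ideal.quotEquivOfEq hPC).bijective.comp (hβ.comp he)
    convert h using 1
    funext x
    obtain ⟨a, rfl⟩ := Ideal.Quotient.mk_surjective x
    simp [he_mk]
    rfl
  refine ⟨?_, hbij⟩
  rw [← Ideal.Quotient.isDomain_iff_prime]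
  exact MulEquiv.isDomain (A ⧸ p) (RingEquiv.ofBijective _ hbij).symm.toMulEquiv

end Groth.Agent.S8837
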