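import Groth.Statements.S8838
import Groth.Agent.AdicRingLib.UnramifiedRed
import Groth.Agent.AdicRingLib.RigTfae
import Groth.Agent.CAlgCompl.Basic

set_option autoImplicit false
universe u
open AdicRing

namespace Groth.Agent.S8838

/-- Suppose A is a Noetherian ring that is I-adically complete for an ideal I, and B is a Noetherian
A-algebra that is complete with respect to the IB-adic topology, with B/IB of finite type over A (so
A → B is an adic morphism of adic Noetherian topological rings that is topologically of finite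
type). Assume further that A → B is flat and that the induced map A/I → B/IB is étale (with I as the
chosen ideal of definition). Consider a prime q of B that is rig-closed (q does not contain IB, and
q is maximal among primes of B not containing IB), and suppose its preimage p in A is rig-closed as
well (p does not contain I, and p is maximal among primes of A not containing I). Then the extension
of p to the localization B_q equals its maximal ideal, that is, p B_q = q B_q. -/
theorem result (A : Type u) [CommRing A] [IsNoetherianRing A] (I : Ideal A) [IsAdicComplete I A] (B : Type u) [CommRing B] [Algebra A B] [IsNoetherianRing B] [IsAdicComplete (I.map (algebraMap A B)) B] (hft : Algebra.FiniteType A (B ⧸ (I.map (algebraMap A B)))) [Module.Flat A B] [Algebra.Etale (A ⧸ I) (B ⧸ (I.map (algebraMap A B)))] (q : PrimeSpectrum B) (hq : (¬ (I.map (algebraMap A B)) ≤ q.asIdeal ∧ ∀ y : PrimeSpectrum B, q ≤ y → ¬ (I.map (algebraMap A B)) ≤ y.asIdeal → y = q)) (hp : (¬ I ≤ (PrimeSpectrum.comap (algebraMap A B) q).asIdeal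 ∧ ∀ y : PrimeSpectrum A, (PrimeSpectrum.comap (algebraMap A B) q) ≤ y → ¬ I ≤ y.asIdeal → y = (PrimeSpectrum.comap (algebraMap A B) q))) : ((PrimeSpectrum.comap (algebraMap A B) q).asIdeal.map (algebraMap A B)).map (algebraMap B (Localization.AtPrime q.asIdeal)) = IsLocalRing.maximalIdeal (Localization.AtPrime q.asIdeal) := by
  classical
  set p := PrimeSpectrum.comap (algebraMap A B) q with hpdef
  have key : ∀ n : Ideal A, n.IsPrime → p.asIdeal ≤ n → I ≤ n → n.IsMaximal := by
    intro n hn hpn hIn
    haveI : Ring.KrullDimLE 1 (A ⧸ p.asIdeal) :=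
      (Ring.krullDimLE_iff (n := 1)).2 (Groth.Agent.AdicRingLib.RigTfae.dim_one_of_rigClosed hp).le
    have hne : n.map (Ideal.Quotient.mk p.asIdeal) ≠ ⊥ := fun h0 => hp.1 (by
      rw [Ideal.map_eq_bot_iff_le_ker, Ideal.mk_ker] at h0
      exact hIn.trans h0)
    haveI hP : (n.map (Ideal.Quotient.mk p.asIdeal)).IsPrime :=
      Ideal.map_isPrime_of_surjective Ideal.Quotient.mk_surjective (by rwa [Ideal.mk_ker])
    haveI := hP.isMaximal_of_ne_bot hne
    have hu := Ideal.comap_isMaximal_of_surjective (Ideal.Quotient.mk p.asIdeal) Ideal.Quotient.mk_surjective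
      (K := n.map (Ideal.Quotient.mk p.asIdeal))
    rwa [Ideal.comap_map_of_surjective _ Ideal.Quotient.mk_surjective, ← RingHom.ker_eq_comap_bot, Ideal.mk_ker,
      sup_eq_left.2 hpn] at hu
  set J := I.map (algebraMap A B) with hJ
  set pB := p.asIdeal.map (algebraMap A B) with hpB
  have hpq : pB ≤ q.asIdeal := Ideal.map_le_iff_le_comap.2 le_rfl
  haveI : Algebra.FormallyUnramified A (A ⧸ I) := inferInstance
  haveI : Algebra.FormallyUnramified A (B ⧸ J) := Algebra.FormallyUnramified.comp A (A ⧸ I) _
  haveI : Algebra.FiniteType A (B ⧸ J) := hft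
  haveI := Groth.Agent.AdicRingLib.RigTfae.isAdicComplete_quotient J pB
  have hJD : J.map (Ideal.Quotient.mk pB) = I.map (algebraMap A (B ⧸ pB)) := by
    rw [hJ, Ideal.map_map]; rfl
  haveI hDc : IsAdicComplete (I.map (algebraMap A (B ⧸ pB))) (B ⧸ pB) := hJD ▸ inferInstance
  haveI : IsHausdorff I (B ⧸ pB) := (IsHausdorff.map_algebraMap_iff (S := B ⧸ pB)).1 inferInstance
  let f : (B ⧸ J) →ₐ[A] (B ⧸ pB) ⧸ I.map (algebraMap A (B ⧸ pB)) :=
    Ideal.quotientMapₐ (I := J) (I.map (algebraMap A (B ⧸ pB))) (Ideal.Quotient.mkₐ A pB) (by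
      rw [← hJD]; exact Ideal.le_comap_map)
  have hf : Function.Surjective f := by
    intro y
    obtain ⟨y, rfl⟩ := Ideal.Quotient.mk_surjective y
    obtain ⟨y, rfl⟩ := Ideal.Quotient.mk_surjective y
    exact ⟨Ideal.Quotient.mk J y, rfl⟩
  haveI : Algebra.FormallyUnramified A ((B ⧸ pB) ⧸ I.map (algebraMap A (B ⧸ pB))) :=
    Algebra.FormallyUnramified.of_surjective f hf
  haveI : Algebra.FiniteType A ((B ⧸ pB) ⧸ I.map (algebraMap A (B ⧸ pB))) := hft.of_surjective f hf
  have hfin : Module.Finite A (B ⧸ pB) := by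
    refine Groth.Agent.CAlgCompl.finite_of_finite_quotient I (B ⧸ pB) ?_
    suffices h : Module.Finite A ((B ⧸ pB) ⧸ I.map (algebraMap A (B ⧸ pB))) from
      Module.Finite.equiv (((Submodule.quotEquivOfEq _ _ (Ideal.smul_top_eq_map (R := A) (S := B ⧸ pB) I)).trans
        (Submodule.Quotient.restrictScalarsEquiv A _)).symm)
    refine Groth.Agent.AdicRingLib.RigTfae.finite_of_forall_prime_quotient fun P hP => ?_
    haveI := hP
    let R := ((B ⧸ pB) ⧸ I.map (algebraMap A (B ⧸ pB))) ⧸ P
    let n : Ideal A := RingHom.ker (algebraMap A R)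
    haveI : IsDomain R := Ideal.Quotient.isDomain P
    haveI hnp : n.IsPrime := RingHom.ker_isPrime _
    haveI : n.IsMaximal := by
      refine key n hnp (fun x hx => ?_) (fun x hx => ?_)
      · rw [RingHom.mem_ker, IsScalarTower.algebraMap_apply A (B ⧸ pB) R,
          show algebraMap A (B ⧸ pB) x = 0 from Ideal.Quotient.eq_zero_iff_mem.2 (Ideal.mem_map_of_mem _ hx), map_zero]
      · rw [RingHom.mem_ker, IsScalarTower.algebraMap_apply A ((B ⧸ pB) ⧸ I.map (algebraMap A (B ⧸ pB))) R,
          show algebraMap A ((B ⧸ pB) ⧸ I.map (algebraMap A (B ⧸ pB))) x = 0 from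
            Ideal.Quotient.eq_zero_iff_mem.2 (Ideal.mem_map_of_mem _ hx), map_zero]
    letI := Ideal.Quotient.field n
    letI : Algebra (A ⧸ n) R := (Ideal.Quotient.lift n (algebraMap A R) fun x hx => hx).toAlgebra
    haveI : IsScalarTower A (A ⧸ n) R := IsScalarTower.of_algebraMap_eq fun _ => rfl
    haveI : Algebra.FiniteType A R := (inferInstance : Algebra.FiniteType A ((B ⧸ pB) ⧸ I.map (algebraMap A (B ⧸ pB)))).of_surjective
      (Ideal.Quotient.mkₐ A P) (Ideal.Quotient.mkₐ_surjective A P)
    haveI : Algebra.FiniteType (A ⧸ n) R := Algebra.FiniteType.of_restrictScalars_finiteType A _ _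
    haveI : Algebra.FormallyUnramified A R := Algebra.FormallyUnramified.quotient P
    haveI : Algebra.FormallyUnramified (A ⧸ n) R := Algebra.FormallyUnramified.of_restrictScalars A _ _
    haveI : Module.Finite (A ⧸ n) R := Algebra.FormallyUnramified.finite_of_free _ _
    haveI : Module.Finite A (A ⧸ n) := Module.Finite.of_surjective (Submodule.mkQ n) (Submodule.mkQ_surjective n)
    exact Module.Finite.trans (A ⧸ n) R
  haveI := hfin
  haveI : Algebra.FormallyUnramified A (B ⧸ pB) :=
    Groth.Agent.AdicRingLib.UnramifiedRed.formallyUnramified_of_quotient I (IsAdicComplete.le_jacobson_bot _)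
  set qb := q.asIdeal.map (Ideal.Quotient.mk pB) with hqb
  haveI : qb.IsPrime := Ideal.map_isPrime_of_surjective Ideal.Quotient.mk_surjective (by rwa [Ideal.mk_ker])
  have hqc : qb.comap (Ideal.Quotient.mk pB) = q.asIdeal := by
    rw [hqb, Ideal.comap_map_of_surjective _ Ideal.Quotient.mk_surjective, ← RingHom.ker_eq_comap_bot, Ideal.mk_ker,
      sup_eq_left.2 hpq]
  haveI : qb.LiesOver p.asIdeal := ⟨by
    show p.asIdeal = qb.comap (algebraMap A (B ⧸ pB))
    rw [show algebraMap A (B ⧸ pB) = (Ideal.Quotient.mk pB).comp (algebraMap A B) from rfl, ← Ideal.comap_comap, hqc]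
    rfl⟩
  letI := Localization.AtPrime.algebraOfLiesOver p.asIdeal qb
  haveI : Algebra.IsUnramifiedAt A qb := by
    haveI : Algebra.FormallyUnramified (B ⧸ pB) (Localization.AtPrime qb) := .of_isLocalization qb.primeCompl
    exact Algebra.FormallyUnramified.comp A (B ⧸ pB) _
  have hmax := ((Algebra.isUnramifiedAt_iff_map_eq A p.asIdeal qb).mp ‹_›).2
  have hzero : p.asIdeal.map (algebraMap A (Localization.AtPrime qb)) = ⊥ := by
    rw [IsScalarTower.algebraMap_eq A (B ⧸ pB) (Localization.AtPrime qb), ← Ideal.map_map,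
      show p.asIdeal.map (algebraMap A (B ⧸ pB)) = ⊥ by
        rw [show algebraMap A (B ⧸ pB) = (Ideal.Quotient.mk pB).comp (algebraMap A B) from rfl, ← Ideal.map_map]
        exact Ideal.map_quotient_self pB,
      Ideal.map_bot]
  rw [← Localization.AtPrime.map_eq_maximalIdeal]
  refine le_antisymm (Ideal.map_mono hpq) (Ideal.map_le_iff_le_comap.2 fun x hx => ?_)
  have h0 : algebraMap (B ⧸ pB) (Localization.AtPrime qb) (Ideal.Quotient.mk pB x) = 0 := by
    rw [← Submodule.mem_bot (Localization.AtPrime qb), ← hzero, hmax, ← Localization.AtPrime.map_eq_maximalIdeal]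
    exact Ideal.mem_map_of_mem _ (Ideal.mem_map_of_mem _ hx)
  obtain ⟨⟨s, hs⟩, hsx⟩ := (IsLocalization.map_eq_zero_iff qb.primeCompl _ _).1 h0
  obtain ⟨s, rfl⟩ := Ideal.Quotient.mk_surjective s
  rw [← map_mul] at hsx
  have hsq : s ∈ q.asIdeal.primeCompl := fun h => hs (hqc ▸ h :)
  rw [Ideal.mem_comap, IsLocalization.algebraMap_mem_map_algebraMap_iff q.asIdeal.primeCompl]
  exact ⟨s, hsq, Ideal.Quotient.eq_zero_iff_mem.1 hsx⟩

end Groth.Agent.S8838
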