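import Groth.Statements.S8851
import Groth.Agent.S1682
import Groth.Agent.ModPairLib.Basic
-- import your own Groth.Agent.* helpers here

set_option autoImplicit false
universe u
open CategoryTheory CategoryTheory.Limits AlgebraicGeometry TopologicalSpace
open SDiv

namespace Groth.Agent.S8851

/-- Let X be a reduced scheme, 𝓘 a quasi-coherent ideal sheaf on X and b : X' ⟶ X a blowing up of X in
𝓘. Then X' is reduced. -/
theorem result {X X' : Scheme.{u}} [IsReduced X] (𝓘 : X.IdealSheafData) (b : X' ⟶ X)
    (hb : BlowUp.IsBlowUp b 𝓘) : IsReduced X' := by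
  let U : X'.Opens := ModPair.interior (𝓘.comap b)
  have hU : U = b ⁻¹ᵁ ModPair.interior 𝓘 := Groth.Agent.ModPairLib.interior_comap 𝓘 b
  haveI : IsIso (b ∣_ ModPair.interior 𝓘) := Groth.Agent.S1682.result 𝓘 b hb
  haveI : IsReduced (U : Scheme.{u}) := by
    rw [hU]
    exact isReduced_of_isOpenImmersion (b ∣_ ModPair.interior 𝓘)
  haveI := Groth.Agent.ModPairLib.std_interior hb.1
  haveI := Groth.Agent.ModPairLib.isAffineHom_interior hb.1
  refine ⟨fun V => ⟨fun s hs => ?_⟩⟩
  apply U.ι.app_injective V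
  rw [map_zero]
  exact IsReduced.eq_zero _ (hs.map (U.ι.app V).hom)

end Groth.Agent.S8851
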