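import Groth.Statements.S8853
import Mathlib.AlgebraicGeometry.Morphisms.Affine
-- import your own Groth.Agent.* helpers here

set_option autoImplicit false
universe u
open CategoryTheory CategoryTheory.Limits AlgebraicGeometry TopologicalSpace
open SDiv

namespace Groth.Agent.S8853

/-- Let Z be a locally principal closed subscheme of a scheme S, with ideal sheaf 𝓘 generated by a
single section on some affine open neighbourhood of each point of its support, and let U be the open
complement of Z. Then the inclusion U ⟶ S is an affine morphism. -/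
theorem result {S : Scheme.{u}} (𝓘 : S.IdealSheafData) (h : Curv2.IsLocPrincipal 𝓘) :
    IsAffineHom (Scheme.Opens.ι 𝓘.support.compl) := by
  choose U hxU f hgen using fun x : {x : S // x ∈ 𝓘.support} => h x.1 x.2
  choose W hW hxW hWC using fun x : {x : S // x ∈ 𝓘.support.compl} =>
    exists_isAffineOpen_mem_and_subset (U := 𝓘.support.compl) (x := x.1) x.2
  let V : {x : S // x ∈ 𝓘.support} ⊕ {x : S // x ∈ 𝓘.support.compl} → S.Opens := Sum.elim (fun x => (U x).1) W
  refine isAffineHom_of_forall_exists_isAffineOpen _ fun x => ?_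
  obtain ⟨i, hxi⟩ : ∃ i, x ∈ V i := by
    by_cases hx : x ∈ 𝓘.support
    · exact ⟨.inl ⟨x, hx⟩, hxU ⟨x, hx⟩⟩
    · exact ⟨.inr ⟨x, hx⟩, hxW ⟨x, hx⟩⟩
  have hVi : IsAffineOpen (V i) := by
    rcases i with x | x
    · exact (U x).2
    · exact hW x
  have hpre : IsAffineOpen ((Scheme.Opens.ι 𝓘.support.compl) ⁻¹ᵁ V i) := by
    refine ((Scheme.Opens.ι 𝓘.support.compl).isAffineOpen_iff_of_isOpenImmersion (U := (Scheme.Opens.ι 𝓘.support.compl) ⁻¹ᵁ V i)).1 ?_
    rw [Scheme.Hom.image_preimage_eq_opensRange_inf, Scheme.Opens.opensRange_ι]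
    rcases i with x | x
    · have heq : 𝓘.support.compl ⊓ V (.inl x) = S.basicOpen (f x) := by
        ext y
        constructor
        · rintro ⟨hy, hyU⟩
          by_contra hny
          refine hy ((Scheme.IdealSheafData.mem_supportSet_iff_of_mem hyU).2 ?_)
          rw [Scheme.mem_zeroLocus_iff]
          intro a ha hya
          rw [hgen x, SetLike.mem_coe, Ideal.mem_span_singleton] at ha
          obtain ⟨c, rfl⟩ := ha
          rw [Scheme.basicOpen_mul] at hya
          exact hny hya.1
        · intro hy
          refine ⟨fun hsupp => ?_, S.basicOpen_le (f x) hy⟩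
          have h1 := (Scheme.IdealSheafData.mem_supportSet_iff_of_mem (S.basicOpen_le (f x) hy)).1 hsupp
          rw [Scheme.mem_zeroLocus_iff] at h1
          exact h1 (f x) (by rw [hgen x]; exact Ideal.mem_span_singleton_self _) hy
      rw [heq]
      exact (U x).2.basicOpen (f x)
    · rw [inf_eq_right.2 (show V (.inr x) ≤ 𝓘.support.compl from hWC x)]
      exact hW x
  exact ⟨V i, hxi, hVi, hpre⟩

end Groth.Agent.S8853
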