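import Groth.Statements.S8863
import Mathlib
import Groth.Agent.AssPtsMore.Basic

set_option autoImplicit false
universe u
open CategoryTheory CategoryTheory.Limits AlgebraicGeometry TopologicalSpace
open SDiv

namespace Groth.Agent.S8863

/-- Let X be a locally Noetherian scheme and x a point of X. Then the monoid S_x of germs at x of
regular sections of O_X (sections whose germ at every point of their open of definition is a
nonzerodivisor) is the whole monoid of nonzerodivisors of O_{X,x}; consequently K_{X,x} is the total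
ring of fractions of O_{X,x}. -/
theorem result (X : Scheme.{u}) [IsLocallyNoetherian X] (x : ↥X) :
    Mero.regStalk X x = nonZeroDivisors ↑(X.presheaf.stalk x) := by
  classical
  refine le_antisymm (Mero.regStalk_le_nonZeroDivisors x) fun z hz => ?_
  obtain ⟨U, hU, hxU⟩ := AssPtsMore.exists_affine x
  haveI : IsNoetherianRing Γ(X, U) := IsLocallyNoetherian.component_noetherian ⟨U, hU⟩
  obtain ⟨g, r, hg, hr⟩ := AssPts.exists_ringGerm_mul_eq hU x hxU z
  have hgu := (AssPts.notMem_prime_iff hU x hxU g).1 hg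
  letI := (X.presheaf.germ U x hxU).hom.toAlgebra
  haveI : IsLocalization.AtPrime (X.presheaf.stalk x) (hU.primeIdealOf ⟨x, hxU⟩).asIdeal :=
    hU.isLocalization_stalk ⟨x, hxU⟩
  let A0 : Ideal Γ(X, U) := (Submodule.span Γ(X, U) {r}).annihilator
  obtain ⟨S, hS⟩ := IsNoetherian.noetherian A0
  have hann : ∀ a : Γ(X, U), a ∈ A0 ↔ a * r = 0 := fun a => Submodule.mem_annihilator_span_singleton r a
  have hker : ∀ a ∈ A0, ∃ t, t ∉ (hU.primeIdealOf ⟨x, hxU⟩).asIdeal ∧ t * a = 0 := by
    intro a ha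
    have h1 : X.presheaf.germ U x hxU a * (z * X.presheaf.germ U x hxU g) = 0 := by
      rw [hr, ← map_mul, (hann a).1 ha, map_zero]
    rw [← mul_assoc, mul_comm _ z, mul_assoc] at h1
    have h2 := (mem_nonZeroDivisors_iff_left.1 hz) _ h1
    rw [hgu.mul_left_eq_zero] at h2
    obtain ⟨⟨t, ht⟩, h3⟩ := (IsLocalization.map_eq_zero_iff (hU.primeIdealOf ⟨x, hxU⟩).asIdeal.primeCompl
      (X.presheaf.stalk x) a).1 h2
    exact ⟨t, ht, h3⟩
  choose! t ht hta using hker
  have hSA : ∀ a ∈ S, a ∈ A0 := fun a ha => hS ▸ Submodule.subset_span ha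
  let T := ∏ a ∈ S, t a
  have hT : T ∉ (hU.primeIdealOf ⟨x, hxU⟩).asIdeal := fun h => by
    obtain ⟨a, ha, hta'⟩ := (hU.primeIdealOf ⟨x, hxU⟩).isPrime.prod_mem_iff.1 h
    exact ht a (hSA a ha) hta'
  have hTA : ∀ a ∈ A0, T * a = 0 := by
    intro a ha
    rw [← hS] at ha
    induction ha using Submodule.span_induction with
    | mem b hb =>
      obtain ⟨c, hc⟩ := Finset.dvd_prod_of_mem t hb
      rw [show T = t b * c from hc, mul_right_comm, hta b (hSA b hb), zero_mul]
    | zero => rw [mul_zero]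
    | add b c _ _ hb hc => rw [mul_add, hb, hc, add_zero]
    | smul c b _ hb => rw [smul_eq_mul, mul_left_comm, hb, mul_zero]
  have hxW : x ∈ X.basicOpen (T * g) := (X.mem_basicOpen _ x hxU).2 (by
    rw [map_mul]; exact ((AssPts.notMem_prime_iff hU x hxU T).1 hT).mul hgu)
  let i : X.basicOpen (T * g) ⟶ U := homOfLE (X.basicOpen_le _)
  obtain ⟨G, hG⟩ : IsUnit (X.presheaf.map i.op g) := by
    have := (X.toRingedSpace.isUnit_res_basicOpen (T * g))
    rw [map_mul] at this
    exact (IsUnit.mul_iff.1 this).2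
  refine ⟨X.basicOpen (T * g), hxW, X.presheaf.map i.op r * ↑G⁻¹, fun y => ?_, ?_⟩
  · have hyU : y.1 ∈ U := X.basicOpen_le _ y.2
    rw [map_mul, TopCat.Presheaf.germ_res_apply]
    refine Submonoid.mul_mem _ ?_ (IsUnit.mem_nonZeroDivisors ((Units.isUnit _).map _))
    letI := (X.presheaf.germ U y.1 hyU).hom.toAlgebra
    haveI : IsLocalization.AtPrime (X.presheaf.stalk y.1) (hU.primeIdealOf ⟨y.1, hyU⟩).asIdeal :=
      hU.isLocalization_stalk ⟨y.1, hyU⟩
    have hTu : IsUnit (X.presheaf.germ U y.1 hyU T) := by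
      have := (X.mem_basicOpen _ y.1 hyU).1 y.2
      rw [map_mul] at this
      exact (IsUnit.mul_iff.1 this).1
    refine mem_nonZeroDivisors_iff_right.2 fun w hw => ?_
    obtain ⟨a, s, rfl⟩ := IsLocalization.exists_mk'_eq (hU.primeIdealOf ⟨y.1, hyU⟩).asIdeal.primeCompl w
    rw [show X.presheaf.germ U y.1 _ r = algebraMap Γ(X, U) (X.presheaf.stalk y.1) r from rfl,
      mul_comm (IsLocalization.mk' (X.presheaf.stalk y.1) a s), IsLocalization.mul_mk'_eq_mk'_of_mul, IsLocalization.mk'_eq_zero_iff] at hw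
    obtain ⟨u, hu⟩ := hw
    have h4 : (u : Γ(X, U)) * a ∈ A0 := (hann _).2 (by rw [mul_assoc, mul_comm a r]; exact hu)
    rw [IsLocalization.mk'_eq_zero_iff]
    have hTp : T ∉ (hU.primeIdealOf ⟨y.1, hyU⟩).asIdeal := (AssPts.notMem_prime_iff hU y.1 hyU T).2 hTu
    exact ⟨⟨T, hTp⟩ * u, (mul_assoc T (u : Γ(X, U)) a).trans (hTA _ h4)⟩
  · rw [map_mul, TopCat.Presheaf.germ_res_apply]
    have h5 : X.presheaf.germ (X.basicOpen (T * g)) x hxW ↑G = X.presheaf.germ U x hxU g := by
      rw [hG, TopCat.Presheaf.germ_res_apply]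
    rw [← hr, ← h5, mul_assoc, ← map_mul, Units.mul_inv, map_one, mul_one]

end Groth.Agent.S8863
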