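import Groth.Statements.S8864
import Groth.Agent.MeroFrac.Basic
-- import your own Groth.Agent.* helpers here

set_option autoImplicit false
universe u
open CategoryTheory CategoryTheory.Limits AlgebraicGeometry TopologicalSpace
open SDiv

namespace Groth.Agent.S8864

/-- Let X be a locally Noetherian scheme and U an affine open of X. Then K_X(U), viewed as an
O_X(U)-algebra through the canonical map r ↦ r/1, is the total ring of fractions of O_X(U): it is a
localization of O_X(U) at the monoid of nonzerodivisors. -/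
theorem result (X : Scheme.{u}) [IsLocallyNoetherian X] (U : X.affineOpens) :
    @IsLocalization Γ(X, U.1) _ (nonZeroDivisors Γ(X, U.1)) Γ(Mero.kmod X, U.1) _ (Mero.toK X U.1).toAlgebra := by
  haveI : IsNoetherianRing Γ(X, U.1) := IsLocallyNoetherian.component_noetherian U
  haveI := Groth.Agent.AssPts.isQuasicoherent_structureModule X
  refine Groth.Agent.MeroFrac.isLocalization_of_finite U.2 ?_
  have hfinite : Module.Finite Γ(X, U.1) Γ(Coh.structureModule X, U.1) := inferInstanceAs (Module.Finite Γ(X, U.1) Γ(X, U.1))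
  rw [← Set.finite_coe_iff]
  haveI := (associatedPrimes.finite Γ(X, U.1) Γ(Coh.structureModule X, U.1)).to_subtype
  let f : Groth.Agent.MeroFrac.wass U.1 → associatedPrimes Γ(X, U.1) Γ(Coh.structureModule X, U.1) := fun z =>
    ⟨(U.2.primeIdealOf ⟨z.1, z.2.1⟩).asIdeal, by
      obtain ⟨hp, m, hm⟩ := (Groth.Agent.AssPts.mem_ass_iff (Coh.structureModule X) U.2 z.1 z.2.1).1
        ((Groth.Agent.AssPts.isAssPoint_iff_isWeakAssPoint _ z.1).2 z.2.2)
      refine ⟨hp, m, ?_⟩
      rw [Submodule.bot_colon', ← hm, hp.radical]⟩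
  refine Finite.of_injective f fun a b hab => ?_
  have h := congrArg Subtype.val hab
  refine Subtype.ext ?_
  rw [← U.2.fromSpec_primeIdealOf ⟨a.1, a.2.1⟩, ← U.2.fromSpec_primeIdealOf ⟨b.1, b.2.1⟩, PrimeSpectrum.ext h]

end Groth.Agent.S8864
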