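import Groth.Statements.S8865
import Mathlib.AlgebraicGeometry.AffineScheme
-- import your own Groth.Agent.* helpers here

set_option autoImplicit false
universe u
open CategoryTheory CategoryTheory.Limits AlgebraicGeometry TopologicalSpace
open SDiv

namespace Groth.Agent.S8865

/-- Let X be a quasi-compact scheme, h a global section of O_X and f a global section of the sheaf of
meromorphic functions K_X whose restriction to the open X_h where h is invertible vanishes. Then h^n
f = 0 in K_X(X) for some natural number n. -/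
theorem result (X : Scheme.{u}) [CompactSpace ↥X] (h : Γ(X, ⊤))
    (f : Γ(Mero.kmod X, ⊤)) (hf : (Mero.kmod X).presheaf.map (homOfLE (le_top : X.basicOpen h ≤ ⊤)).op f = 0) :
    ∃ n : ℕ, Mero.toK X ⊤ h ^ n * f = 0 := by
  have key : ∀ x : X, ∃ (W : X.Opens), x ∈ W ∧ ∃ n : ℕ, ∀ y : X, ∀ _ : y ∈ W,
      X.presheaf.germ ⊤ y trivial h ^ n • f.1 ⟨y, trivial⟩ = 0 := by
    intro x
    obtain ⟨V, hxV, i, a, b, w⟩ := f.2 ⟨x, trivial⟩
    obtain ⟨W, hW, hxW, hWV⟩ := exists_isAffineOpen_mem_and_subset (U := V) (x := x) hxV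
    have hWV : W ≤ V := hWV
    let a' : Γ(X, W) := X.presheaf.map (homOfLE hWV).op a
    let h' : Γ(X, W) := X.presheaf.map (homOfLE (le_top : W ≤ ⊤)).op h
    have ha : X.presheaf.map (homOfLE (X.basicOpen_le h')).op a' = 0 := by
      refine TopCat.Presheaf.section_ext X.sheaf _ _ _ fun y hy => ?_
      refine Eq.trans ?_ (map_zero _).symm
      refine (TopCat.Presheaf.germ_res_apply X.presheaf (homOfLE (X.basicOpen_le h')) y hy a').trans ?_
      refine (TopCat.Presheaf.germ_res_apply X.presheaf (homOfLE hWV) y (X.basicOpen_le h' hy) a).trans ?_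
      have hyh : y ∈ X.basicOpen h := by
        have hu := (X.mem_basicOpen h' y (X.basicOpen_le h' hy)).1 hy
        rw [show X.presheaf.germ W y (X.basicOpen_le h' hy) h' = X.presheaf.germ ⊤ y trivial h from
          TopCat.Presheaf.germ_res_apply X.presheaf (homOfLE (le_top : W ≤ ⊤)) y (X.basicOpen_le h' hy) h] at hu
        exact (X.mem_basicOpen h y trivial).2 hu
      have h0 : f.1 ⟨y, trivial⟩ = 0 := congrFun (congrArg Subtype.val hf) ⟨y, hyh⟩
      have h1 := w ⟨y, hWV (X.basicOpen_le h' hy)⟩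
      dsimp only at h1
      rw [show f.1 (i ⟨y, hWV (X.basicOpen_le h' hy)⟩) = f.1 ⟨y, trivial⟩ from rfl, h0, eq_comm] at h1
      rw [← LocalizedModule.zero_mk (1 : Mero.regStalk X y), LocalizedModule.mk_eq] at h1
      obtain ⟨t, ht⟩ := h1
      simp only [smul_zero, one_smul] at ht
      obtain ⟨U', hU', f', hf', e⟩ := t.2
      have := hf' ⟨y, hU'⟩
      rw [e] at this
      exact (mem_nonZeroDivisors_iff.1 this).1 _ (by rw [Submonoid.smul_def, smul_eq_mul] at ht; exact ht)
    haveI : IsLocalization.Away h' Γ(X, X.basicOpen h') := hW.isLocalization_basicOpen h'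
    obtain ⟨⟨_, n, rfl⟩, hn⟩ := (IsLocalization.map_eq_zero_iff (Submonoid.powers h') Γ(X, X.basicOpen h') a').1 ha
    refine ⟨W, hxW, n, fun y hy => ?_⟩
    have h1 := w ⟨y, hWV hy⟩
    dsimp only at h1
    rw [show f.1 (i ⟨y, hWV hy⟩) = f.1 ⟨y, trivial⟩ from rfl] at h1
    rw [h1, LocalizedModule.smul'_mk]
    have h3 := congrArg (X.presheaf.germ W y hy) hn
    rw [map_mul, map_pow, map_zero] at h3
    rw [show X.presheaf.germ W y hy h' = X.presheaf.germ ⊤ y trivial h from
        TopCat.Presheaf.germ_res_apply X.presheaf (homOfLE (le_top : W ≤ ⊤)) y hy h,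
      show X.presheaf.germ W y hy a' = X.presheaf.germ V y (hWV hy) a from
        TopCat.Presheaf.germ_res_apply X.presheaf (homOfLE hWV) y hy a] at h3
    rw [smul_eq_mul]
    exact (congrArg (fun z => LocalizedModule.mk z _) h3).trans (LocalizedModule.zero_mk _)
  choose W hxW n hn using key
  obtain ⟨S, hS⟩ := (isCompact_univ (X := X)).elim_finite_subcover (fun x => (W x : Set X)) (fun x => (W x).isOpen)
    (fun x _ => Set.mem_iUnion.2 ⟨x, hxW x⟩)
  refine ⟨S.sup n, Subtype.ext (funext fun y => ?_)⟩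
  obtain ⟨x, hxS, hy⟩ := Set.mem_iUnion₂.1 (hS (Set.mem_univ y.1))
  rw [← map_pow, Mero.kmod_mul_apply, Mero.toK_apply, map_pow]
  obtain ⟨d, hd⟩ := Nat.exists_eq_add_of_le (Finset.le_sup (f := n) hxS)
  rw [hd, pow_add, mul_comm (X.presheaf.germ ⊤ y.1 y.2 h ^ n x)]
  show _ = (0 : Mero.KStalk X y.1)
  have hz := hn x y.1 hy
  have e : ∀ (c : X.presheaf.stalk y.1) (z : Mero.KStalk X y.1),
      (LocalizedModule.mk c 1 : Mero.KStalk X y.1) * z = c • z := by
    intro c z
    rw [Algebra.smul_def]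
    rfl
  rw [e, mul_smul, hz, smul_zero]

end Groth.Agent.S8865
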