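import Groth.Statements.S8867
import Groth.Agent.MeroFrac.Regular
-- import your own Groth.Agent.* helpers here

set_option autoImplicit false
universe u
open CategoryTheory CategoryTheory.Limits AlgebraicGeometry TopologicalSpace
open SDiv

namespace Groth.Agent.S8867

/-- Let X be a locally Noetherian scheme with no embedded points, i.e. every associated point of O_X is
maximal among the associated points of O_X under specialization, and L an invertible O_X-module.
Then some meromorphic section of L is regular. -/
theorem result (X : Scheme.{u}) [IsLocallyNoetherian X]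
    (hne : ∀ x : ↥X, Curv2.IsAssPoint (Coh.structureModule X) x →
      ∀ y : ↥X, Curv2.IsAssPoint (Coh.structureModule X) y → y ⤳ x → y = x)
    (L : X.Modules) (hL : PicF.IsInvertible L) : Mero.HasRegularMero L := by
  haveI := Groth.Agent.AssPts.isQuasicoherent_structureModule X
  refine Groth.Agent.MeroFrac.hasRegularMero hL (fun x hx y hy => ?_) fun U hU =>
    Groth.Agent.MeroFrac.finite_wass hU
  obtain ⟨g, hg, hgmax⟩ := Groth.Agent.MeroFrac.exists_maximal_generization y
  have hgx : g = x := hne x ((Groth.Agent.AssPts.isAssPoint_iff_isWeakAssPoint _ x).2 hx) g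
    ((Groth.Agent.AssPts.isAssPoint_iff_isWeakAssPoint _ g).2 (Groth.Agent.MeroFrac.wass_of_maximal hgmax))
    (hg.trans hy)
  subst hgx
  exact (hy.antisymm hg).eq

end Groth.Agent.S8867
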