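import Groth.Statements.S8870
import Groth.Agent.AssPts.Basic
import Groth.Agent.DCohBridge.StalkExact
-- import your own Groth.Agent.* helpers here

set_option autoImplicit false
universe u
open CategoryTheory CategoryTheory.Limits AlgebraicGeometry TopologicalSpace
open SDiv

namespace Groth.Agent.S8870

/-- Let X be a scheme and 0 → F₁ → F₂ → F₃ → 0 a short exact sequence of quasi-coherent O_X-modules.
Then WeakAss(F₂) ⊆ WeakAss(F₁) ∪ WeakAss(F₃) and WeakAss(F₁) ⊆ WeakAss(F₂). -/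
theorem result (X : Scheme.{u}) (S : ShortComplex X.Modules) (hS : S.ShortExact)
    (h₁ : Coh.IsQCoh S.X₁) (h₂ : Coh.IsQCoh S.X₂) (h₃ : Coh.IsQCoh S.X₃) :
    (∀ x : ↥X, Curv2.IsWeakAssPoint S.X₂ x → Curv2.IsWeakAssPoint S.X₁ x ∨ Curv2.IsWeakAssPoint S.X₃ x) ∧
      (∀ x : ↥X, Curv2.IsWeakAssPoint S.X₁ x → Curv2.IsWeakAssPoint S.X₂ x) := by
  let F := DerSch.stalkFunctor X
  have hSx : ∀ x : X, (S.map (F x)).ShortExact := fun x => hS.map_of_exact (F x)
  refine ⟨fun x h => ?_, fun x h => ?_⟩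
  · rw [AssPts.isWeakAssPoint_iff', AssPts.isWeakAssPoint_iff']
    obtain ⟨z, hz, hnil⟩ := (AssPts.isWeakAssPoint_iff' S.X₂ x).1 h
    by_cases hg : ((F x).map S.g).hom z = 0
    · left
      obtain ⟨y, hy⟩ := (ShortComplex.moduleCat_exact_iff _).1 (hSx x).exact z hg
      change ((F x).map S.f).hom y = z at hy
      refine ⟨y, fun h0 => hz (by rw [← hy, show y = 0 from h0]; exact map_zero _), fun a ha => ?_⟩
      obtain ⟨n, hn⟩ := hnil a ha
      refine ⟨n, (ModuleCat.mono_iff_injective _).1 (hSx x).mono_f ?_⟩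
      show ((F x).map S.f).hom (a ^ n • y) = ((F x).map S.f).hom 0
      exact (map_smul ((F x).map S.f).hom (a ^ n) y).trans
        (((congrArg (a ^ n • ·) hy).trans hn).trans (map_zero _).symm)
    · right
      refine ⟨((F x).map S.g).hom z, hg, fun a ha => ?_⟩
      obtain ⟨n, hn⟩ := hnil a ha
      exact ⟨n, (map_smul ((F x).map S.g).hom (a ^ n) z).symm.trans ((congrArg _ hn).trans (map_zero _))⟩
  · rw [AssPts.isWeakAssPoint_iff']
    obtain ⟨y, hy, hnil⟩ := (AssPts.isWeakAssPoint_iff' S.X₁ x).1 h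
    refine ⟨((F x).map S.f).hom y, fun h0 => hy ((ModuleCat.mono_iff_injective _).1 (hSx x).mono_f
      (h0.trans (map_zero _).symm)), fun a ha => ?_⟩
    obtain ⟨n, hn⟩ := hnil a ha
    exact ⟨n, (map_smul ((F x).map S.f).hom (a ^ n) y).symm.trans ((congrArg _ hn).trans (map_zero _))⟩

end Groth.Agent.S8870
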