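import Groth.Statements.S8871
import Groth.Agent.ZClosLib.Depth
-- import your own Groth.Agent.* helpers here

set_option autoImplicit false
universe u
open CategoryTheory CategoryTheory.Limits AlgebraicGeometry TopologicalSpace
open SDiv

namespace Groth.Agent.S8871

open Groth.Agent.QCohBase Groth.Agent.AssPts TopologicalSpace

theorem mem_support_iff {R M : Type u} [CommRing R] [AddCommGroup M] [Module R M] (P : PrimeSpectrum R) :
    P ∈ Module.support R M ↔ ∃ z : M, ∀ a : R, a • z = 0 → a ∈ P.asIdeal := by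
  rw [Module.mem_support_iff_exists_annihilator]
  refine exists_congr fun z => ⟨fun h a ha => h ?_, fun h a ha => h a ?_⟩
  · rw [Submodule.mem_annihilator_span_singleton]; exact ha
  · rw [Submodule.mem_annihilator_span_singleton] at ha; exact ha

/-- the support of the stalk is a single point iff no strict generization lies in the support -/
theorem main (X : Scheme.{u}) [IsLocallyNoetherian X] (F : X.Modules) (hF : Coh.IsCoh F) (x : X)
    (hx : x ∈ AssSch.Ass F) :
    Module.supportDim (X.presheaf.stalk x) (F.presheaf.stalk x) ≤ 0 ↔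
      ∀ y : X, Curv2.IsAssPoint F y → y ⤳ x → y = x := by
  haveI := hF.1
  obtain ⟨_, ⟨(U : X.Opens), hU, rfl⟩, hxU, -⟩ :=
    X.isBasis_affineOpens.exists_subset_of_mem_open (Set.mem_univ x) isOpen_univ
  letI := (X.presheaf.germ U x hxU).hom.toAlgebra
  haveI hloc : IsLocalization.AtPrime (X.presheaf.stalk x) (hU.primeIdealOf ⟨x, hxU⟩).asIdeal :=
    hU.isLocalization_stalk ⟨x, hxU⟩
  constructor
  · intro hdim y hy hyx
    by_contra hne
    have hyU : y ∈ U := hyx.mem_open U.isOpen hxU
    let q := (hU.primeIdealOf ⟨y, hyU⟩).asIdeal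
    have hle : q ≤ (hU.primeIdealOf ⟨x, hxU⟩).asIdeal := ZClosLib.prime_le_of_specializes hU hyU hxU hyx
    have hdisj : Disjoint ((hU.primeIdealOf ⟨x, hxU⟩).asIdeal.primeCompl : Set Γ(X, U)) (q : Set Γ(X, U)) :=
      Set.disjoint_left.2 fun a ha hq => ha (hle hq)
    let P : PrimeSpectrum (X.presheaf.stalk x) := ⟨q.map (algebraMap Γ(X, U) (X.presheaf.stalk x)),
      IsLocalization.isPrime_of_isPrime_disjoint (hU.primeIdealOf ⟨x, hxU⟩).asIdeal.primeCompl _ _
        (hU.primeIdealOf ⟨y, hyU⟩).isPrime hdisj⟩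
    obtain ⟨z, hz, -⟩ := (isWeakAssPoint_iff' F y).1 ((isAssPoint_iff_isWeakAssPoint F y).1 hy)
    obtain ⟨g, s, hg, hgs⟩ := exists_germ_smul_eq F hU y hyU z
    have hsy : F.presheaf.germ U y hyU s ≠ 0 := fun h => hz (by
      rw [h] at hgs
      exact ((notMem_prime_iff hU y hyU g).1 hg).smul_eq_zero.1 hgs)
    have hP : P ∈ Module.support (X.presheaf.stalk x) (F.presheaf.stalk x) := by
      refine (mem_support_iff P).2 ⟨F.presheaf.germ U x hxU s, fun a ha => ?_⟩
      obtain ⟨g, r, hg, har⟩ := exists_ringGerm_mul_eq hU x hxU a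
      have h0 : F.presheaf.germ U x hxU (r • s) = 0 := by
        rw [germ_smul', ← har, mul_comm, mul_smul, ha, smul_zero]
      obtain ⟨g', hg', h'⟩ := (germ_eq_zero_iff F hU x hxU _).1 h0
      have hr : r ∈ q := by
        by_contra hr
        exact hsy ((germ_eq_zero_iff F hU y hyU s).2 ⟨g' * r,
          fun h => ((hU.primeIdealOf ⟨y, hyU⟩).isPrime.mem_or_mem h).elim (fun h => hg' (hle h)) hr,
          by rw [mul_smul]; exact h'⟩)
      refine (Ideal.mul_unit_mem_iff_mem _ ((notMem_prime_iff hU x hxU g).1 hg)).1 ?_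
      rw [har]
      exact Ideal.mem_map_of_mem _ hr
    have hm : IsLocalRing.closedPoint (X.presheaf.stalk x) ∈
        Module.support (X.presheaf.stalk x) (F.presheaf.stalk x) :=
      Module.mem_support_mono (IsLocalRing.le_maximalIdeal P.isPrime.ne_top) hP
    have hlt : (⟨P, hP⟩ : Module.support (X.presheaf.stalk x) (F.presheaf.stalk x)) < ⟨_, hm⟩ := by
      refine lt_of_le_of_ne (IsLocalRing.le_maximalIdeal P.isPrime.ne_top) fun h => hne ?_
      have hP' : P.asIdeal = IsLocalRing.maximalIdeal (X.presheaf.stalk x) :=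
        congrArg (fun t => t.1.asIdeal) h
      have hq : q = (hU.primeIdealOf ⟨x, hxU⟩).asIdeal := by
        refine le_antisymm hle fun a ha => ?_
        have hc := IsLocalization.comap_map_of_isPrime_disjoint (hU.primeIdealOf ⟨x, hxU⟩).asIdeal.primeCompl
          (X.presheaf.stalk x) (hU.primeIdealOf ⟨y, hyU⟩).isPrime hdisj
        change a ∈ (hU.primeIdealOf ⟨y, hyU⟩).asIdeal
        rw [← hc]
        show algebraMap _ _ a ∈ P.asIdeal
        rw [hP']
        exact (mem_prime_iff hU x hxU a).1 ha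
      have hxy : x ⤳ y := (AssPts.specializes_iff hU y hyU hxU).2 hq.ge
      exact (hyx.antisymm hxy).eq
    exact (Order.krullDim_nonpos_iff_forall_isMax.1 hdim ⟨P, hP⟩).not_lt hlt
  · intro h
    refine (Order.krullDim_nonpos_iff_forall_isMax).2 fun ⟨P, hP⟩ ⟨Q, hQ⟩ hPQ => ?_
    suffices hPm : P.asIdeal = IsLocalRing.maximalIdeal (X.presheaf.stalk x) by
      show Q.asIdeal ≤ P.asIdeal
      rw [hPm]
      exact IsLocalRing.le_maximalIdeal Q.isPrime.ne_top
    obtain ⟨z, hz⟩ := (mem_support_iff P).1 hP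
    obtain ⟨g, s, hg, hgs⟩ := exists_germ_smul_eq F hU x hxU z
    let p : PrimeSpectrum Γ(X, U) := PrimeSpectrum.comap (algebraMap Γ(X, U) (X.presheaf.stalk x)) P
    obtain ⟨y, hyU, hyp⟩ := exists_point hU p
    have hsy : F.presheaf.germ U y hyU s ≠ 0 := fun h0 => by
      obtain ⟨r, hr, hrs⟩ := (germ_eq_zero_iff F hU y hyU s).1 h0
      rw [hyp] at hr
      refine hr ?_
      have h1 : (X.presheaf.germ U x hxU r * X.presheaf.germ U x hxU g) • z = 0 := by
        rw [mul_smul, hgs, ← germ_smul', hrs, map_zero]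
      rcases P.isPrime.mem_or_mem (hz _ h1) with h | h
      · exact h
      · exact absurd (IsLocalRing.le_maximalIdeal P.isPrime.ne_top h)
          (fun h => hg ((mem_prime_iff hU x hxU g).2 h))
    obtain ⟨y', hy'U, hy'y, hy', -⟩ := ZClosLib.exists_ass F hU hyU s hsy
    have hyx : y ⤳ x := (AssPts.specializes_iff hU x hxU hyU).2 (by
      rw [hyp]
      exact fun a ha => (mem_prime_iff hU x hxU a).2 (IsLocalRing.le_maximalIdeal P.isPrime.ne_top ha))
    have hxy : x ⤳ y := (h y' hy' (hy'y.trans hyx)) ▸ hy'y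
    have hpx : (hU.primeIdealOf ⟨x, hxU⟩).asIdeal ≤ (hU.primeIdealOf ⟨y, hyU⟩).asIdeal :=
      ZClosLib.prime_le_of_specializes hU hxU hyU hxy
    refine le_antisymm (IsLocalRing.le_maximalIdeal P.isPrime.ne_top) fun a ha => ?_
    obtain ⟨g', r, hg', har⟩ := exists_ringGerm_mul_eq hU x hxU a
    refine (Ideal.mul_unit_mem_iff_mem _ ((notMem_prime_iff hU x hxU g').1 hg')).1 ?_
    rw [har]
    have hr : r ∈ (hU.primeIdealOf ⟨x, hxU⟩).asIdeal := (mem_prime_iff hU x hxU r).2 (by
      rw [← har]; exact Ideal.mul_mem_right _ _ ha)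
    have := hpx hr
    rw [hyp] at this
    exact this

/-- Let X be a locally Noetherian scheme and F a coherent O_X-module. Then F has no embedded associated
points (every associated point of F is maximal among the associated points of F under
specialization) if and only if F has property (S_1): for every point x, depth F_x ≥ min(1, dim Supp
F_x), where dim Supp F_x is the Krull dimension of the support of the O_{X,x}-module F_x (for F_x =
0 the depth is infinite and the support empty, so the condition holds). -/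
theorem result (X : Scheme.{u}) [IsLocallyNoetherian X] (F : X.Modules) (hF : Coh.IsCoh F) :
    (∀ x : ↥X, Curv2.IsAssPoint F x → ∀ y : ↥X, Curv2.IsAssPoint F y → y ⤳ x → y = x) ↔
      ∀ x : ↥X, min (1 : WithBot ℕ∞) (Module.supportDim ↑(X.presheaf.stalk x) ↑(F.presheaf.stalk x)) ≤
        ((LocCoh.depth (X.presheaf.stalk x) (F.presheaf.stalk x) : ℕ∞) : WithBot ℕ∞) := by
  constructor
  · intro h x
    by_cases hx : x ∈ AssSch.Ass F
    · exact (min_le_right _ _).trans (((main X F hF x hx).2 (h x hx)).trans (by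
        exact_mod_cast zero_le))
    · exact (min_le_left _ _).trans (by exact_mod_cast (ZClosLib.one_le_depth_iff F hF x).2 hx)
  · intro h x hx
    refine (main X F hF x hx).1 ?_
    by_contra hd
    have h1 : (1 : ℕ∞) ≤ LocCoh.depth (X.presheaf.stalk x) (F.presheaf.stalk x) := by
      have h2 := h x
      have h3 : (1 : WithBot ℕ∞) ≤ Module.supportDim (X.presheaf.stalk x) (F.presheaf.stalk x) :=
        by
        obtain ⟨a, ha⟩ := WithBot.ne_bot_iff_exists.1 (fun h => hd (h ▸ bot_le) :
          Module.supportDim (X.presheaf.stalk x) (F.presheaf.stalk x) ≠ ⊥)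
        rw [← ha] at hd ⊢
        have : a ≠ 0 := fun h => hd (by rw [h]; exact le_rfl)
        exact_mod_cast (Order.one_le_iff_ne_zero.2 this)
      rw [min_eq_left h3] at h2
      exact_mod_cast h2
    exact (ZClosLib.one_le_depth_iff F hF x).1 h1 hx

end Groth.Agent.S8871
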