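import Groth.Statements.S8872
import Groth.Agent.FittSheaf.Basic
import Groth.Agent.QCohPull.Affine
import Groth.Agent.QCohBase.FiniteTypePullback
import Groth.Agent.FpqcDescent.IdealComap
-- import your own Groth.Agent.* helpers here

set_option autoImplicit false
universe u
open CategoryTheory CategoryTheory.Limits AlgebraicGeometry TopologicalSpace
open SDiv

namespace Groth.Agent.S8872

/-- Let f : T ⟶ S be a morphism of schemes and F a quasi-coherent O_S-module of finite type. Then for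
every i the inverse image ideal sheaf on T of the i-th Fitting ideal of F is the i-th Fitting ideal
of f^*F. -/
theorem result {T S : Scheme.{u}} (f : T ⟶ S) (F : S.Modules) (hF : Coh.IsQCoh F) (hft : CohB1.IsFT F)
    (i : ℕ) : (Fitt.sheafIdeal F i).comap f = Fitt.sheafIdeal ((Scheme.Modules.pullback f).obj F) i := by
  haveI : F.IsQuasicoherent := hF
  let ι := {VU : T.affineOpens × S.affineOpens // VU.1.1 ≤ f ⁻¹ᵁ VU.2.1}
  refine Scheme.IdealSheafData.ext_of_iSup_eq_top (fun VU : ι => VU.1.1) ?_ fun ⟨⟨V, U⟩, e⟩ => ?_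
  · refine eq_top_iff.2 fun t _ => ?_
    obtain ⟨U, hU, htU, -⟩ := exists_isAffineOpen_mem_and_subset (U := ⊤) (x := f t) trivial
    obtain ⟨V, hV, htV, hVU⟩ := exists_isAffineOpen_mem_and_subset (U := f ⁻¹ᵁ U) (x := t) htU
    exact TopologicalSpace.Opens.mem_iSup.2 ⟨⟨(⟨V, hV⟩, ⟨U, hU⟩), hVU⟩, htV⟩
  · haveI : Module.Finite Γ(S, U.1) Γ(F, U.1) := QCohBase.isFiniteType_toFinite ⟨hF, hft⟩ U.2
    letI := (f.appLE U.1 V.1 e).hom.toAlgebra
    obtain ⟨E⟩ := QCohPull.nonempty_sections_pullback f F V.2 U.2 e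
    rw [FpqcDescent.ideal_comap _ f U V e, FittSheaf.ideal_eq F hF hft i U,
      FittSheaf.ideal_eq _ (QCohPull.isQuasicoherent_pullback f F) (QCohBase.isFT_pullback f hft) i V,
      ← FittLib.ideal_congr E i, FittLib.baseChange i]
    rfl

end Groth.Agent.S8872
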