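import Groth.Statements.S8873
import Groth.Agent.FittSheaf.Basic
import Groth.Agent.FinLocFreeSections.FP
-- import your own Groth.Agent.* helpers here

set_option autoImplicit false
universe u
open CategoryTheory CategoryTheory.Limits AlgebraicGeometry TopologicalSpace
open SDiv

namespace Groth.Agent.S8873

/-- Let S be a scheme and F a finitely presented O_S-module. Then for every r the Fitting ideal sheaf
Fit_r(F) is of finite type: its ideal of sections over every affine open is finitely generated. -/
theorem result (S : Scheme.{u}) (F : S.Modules) (hF : CohB1.IsFP F) (r : ℕ) :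
    BlowUp.IsFiniteTypeIdeal (Fitt.sheafIdeal F r) := by
  intro U
  haveI : SheafOfModules.IsFinitePresentation (R := S.ringCatSheaf) F := hF
  obtain ⟨σ, hσ⟩ := @SheafOfModules.IsFinitePresentation.exists_quasicoherentData _ _ _ _ _ _ F hF
  have hq : Coh.IsQCoh F := @SheafOfModules.IsQuasicoherent.mk _ _ _ _ _ _ F ⟨σ⟩
  haveI : F.IsQuasicoherent := hq
  have hft : CohB1.IsFT F := ((QCohBase.isCoh_iff F).2 ⟨hq, fun V hV =>
    haveI := FinLocFreeSections.finitePresentation_sections F hF hV; inferInstance⟩).2
  haveI : F.IsQuasicoherent := hq
  haveI : Module.FinitePresentation Γ(S, U.1) Γ(F, U.1) := FinLocFreeSections.finitePresentation_sections F hF U.2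
  rw [FittSheaf.ideal_eq F hq hft r U]
  exact FittLib.fg_of_finitePresentation r

end Groth.Agent.S8873
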