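import Groth.Statements.S8874
import Groth.Agent.FittSheaf.Basic
import Groth.Agent.TensorMod.FinLocFree
-- import your own Groth.Agent.* helpers here

set_option autoImplicit false
universe u
open CategoryTheory CategoryTheory.Limits AlgebraicGeometry TopologicalSpace
open SDiv

namespace Groth.Agent.S8874

theorem epi_restrict {X Y : Scheme.{u}} (j : X ⟶ Y) [IsOpenImmersion j] {A B : Y.Modules} (p : A ⟶ B) [Epi p] :
    Epi ((Scheme.Modules.restrictFunctor j).map p) := by
  have hnat := (Scheme.Modules.restrictFunctorIsoPullback j).hom.naturality p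
  haveI := (Scheme.Modules.pullbackPushforwardAdjunction j).leftAdjoint_preservesColimits
  haveI : Epi ((Scheme.Modules.pullback j).map p) := inferInstance
  have h : (Scheme.Modules.restrictFunctor j).map p =
      (Scheme.Modules.restrictFunctorIsoPullback j).hom.app A ≫ (Scheme.Modules.pullback j).map p ≫
        (Scheme.Modules.restrictFunctorIsoPullback j).inv.app B := by
    rw [← Category.assoc, ← hnat, Category.assoc, Iso.hom_inv_id_app, Category.comp_id]
  rw [h]
  infer_instance

variable {X : Scheme.{u}} (F : X.Modules) {V : X.Opens}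

noncomputable abbrev N (hV : IsAffineOpen V) : ModuleCat.{u} Γ(X, V) :=
  (modulesSpecToSheaf.obj (F.restrict hV.fromSpec)).presheaf.obj (Opposite.op ⊤)

noncomputable abbrev M₀ (V : X.Opens) (r : ℕ) : ModuleCat.{u} Γ(X, V) := ModuleCat.of Γ(X, V) (ULift.{u} (Fin r) →₀ Γ(X, V))

noncomputable def specRestrict (hV : IsAffineOpen V) : F.restrict hV.fromSpec ≅ (F.restrict V.ι).restrict hV.isoSpec.inv :=
  ((Scheme.Modules.restrictFunctorCongr hV.isoSpec_inv_ι.symm) ≪≫
    Scheme.Modules.restrictFunctorComp hV.isoSpec.inv V.ι).app F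

noncomputable def specFree (hV : IsAffineOpen V) (r : ℕ) : (FlatMod.freeMod (V : Scheme.{u}) r).restrict hV.isoSpec.inv ≅ tilde (M₀ V r) :=
  TensorMod.restrictFreeModIso hV.isoSpec.inv r ≪≫ TensorMod.freeModIso _ r ≪≫ (tildeFinsupp _).symm

/-- generators of the sections from an epimorphism -/
theorem exists_generators [F.IsQuasicoherent] (hV : IsAffineOpen V) (r : ℕ) (p : FlatMod.freeMod (V : Scheme.{u}) r ⟶ F.restrict V.ι) [Epi p] :
    ∃ x : Fin r → Γ(F, V), Submodule.span Γ(X, V) (Set.range x) = ⊤ := by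
  haveI hi : IsIso (F.restrict hV.fromSpec).fromTildeΓ := inferInstance
  let eN : tilde (N F hV) ≅ F.restrict hV.fromSpec := @asIso _ _ _ _ (F.restrict hV.fromSpec).fromTildeΓ hi
  have hp := epi_restrict hV.isoSpec.inv p
  let q : tilde (M₀ V r) ⟶ tilde (N F hV) :=
    (specFree hV r).inv ≫ (Scheme.Modules.restrictFunctor hV.isoSpec.inv).map p ≫
      (specRestrict F hV).inv ≫ eN.inv
  have h1 : Epi (specFree hV r).inv := inferInstance
  have h2 : Epi (specRestrict F hV).inv := inferInstance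
  have h3 : Epi eN.inv := inferInstance
  haveI hq : Epi q := @epi_comp _ _ _ _ _ _ h1 _ (@epi_comp _ _ _ _ _ _ hp _ (@epi_comp _ _ _ _ _ _ h2 _ h3))
  obtain ⟨g, hg⟩ : ∃ g, (tilde.functor Γ(X, V)).map g = q := (tilde.functor Γ(X, V)).map_surjective q
  haveI : Epi ((tilde.functor Γ(X, V)).map g) := by rw [hg]; exact hq
  haveI : Epi g := (tilde.functor Γ(X, V)).epi_of_epi_map inferInstance
  have hs : Function.Surjective g := (ModuleCat.epi_iff_surjective g).1 inferInstance
  let E : N F hV ≃ₗ[Γ(X, V)] Γ(F, V) := QCohBase.sectionsEquiv F hV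
  let G : (ULift.{u} (Fin r) →₀ Γ(X, V)) →ₗ[Γ(X, V)] Γ(F, V) := E.toLinearMap.comp g.hom
  refine ⟨fun i => G (Finsupp.single ⟨i⟩ 1), eq_top_iff.2 fun y hy => ?_⟩
  clear hy
  obtain ⟨w, rfl⟩ : ∃ w, G w = y := by
    obtain ⟨w, hw⟩ := hs (E.symm y)
    exact ⟨w, by show E (g w) = y; rw [hw, LinearEquiv.apply_symm_apply]⟩
  induction w using Finsupp.induction_linear with
  | zero => rw [map_zero]; exact zero_mem _
  | add a b ha hb => rw [map_add]; exact add_mem ha hb
  | single i c =>
    rw [show Finsupp.single i c = c • Finsupp.single i (1 : Γ(X, V)) by rw [Finsupp.smul_single', mul_one], map_smul]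
    exact Submodule.smul_mem _ _ (Submodule.subset_span ⟨i.down, rfl⟩)

/-- an epimorphism from generators of the sections -/
theorem exists_epi [F.IsQuasicoherent] (hV : IsAffineOpen V) (r : ℕ) (x : Fin r → Γ(F, V)) (hx : Submodule.span Γ(X, V) (Set.range x) = ⊤) :
    ∃ π : FlatMod.freeMod (V : Scheme.{u}) r ⟶ F.restrict V.ι, Epi π := by
  haveI hi : IsIso (F.restrict hV.fromSpec).fromTildeΓ := inferInstance
  let eN : tilde (N F hV) ≅ F.restrict hV.fromSpec := @asIso _ _ _ _ (F.restrict hV.fromSpec).fromTildeΓ hi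
  let E : N F hV ≃ₗ[Γ(X, V)] Γ(F, V) := QCohBase.sectionsEquiv F hV
  let eE : N F hV ≅ ModuleCat.of Γ(X, V) Γ(F, V) := E.toModuleIso
  let g₀ : M₀ V r ⟶ ModuleCat.of Γ(X, V) Γ(F, V) :=
    ModuleCat.ofHom (Finsupp.linearCombination Γ(X, V) (x ∘ ULift.down))
  haveI hg₀ : Epi g₀ := (ModuleCat.epi_iff_surjective g₀).2 fun z => by
    obtain ⟨c, hc⟩ := (Finsupp.mem_span_range_iff_exists_finsupp).1 (hx.ge (Submodule.mem_top (x := z)))
    refine ⟨Finsupp.mapDomain ULift.up c, ?_⟩
    show Finsupp.linearCombination Γ(X, V) (x ∘ ULift.down) (Finsupp.mapDomain ULift.up c) = z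
    rw [Finsupp.linearCombination_mapDomain]
    exact (Finsupp.linearCombination_apply _ c).trans hc
  let g : M₀ V r ⟶ N F hV := g₀ ≫ eE.inv
  haveI : Epi g := @epi_comp _ _ _ _ _ _ hg₀ _ inferInstance
  have hmap : Epi ((tilde.functor Γ(X, V)).map g) := ((tilde.functor Γ(X, V))).map_epi g
  let q : (FlatMod.freeMod (V : Scheme.{u}) r).restrict hV.isoSpec.inv ⟶ (F.restrict V.ι).restrict hV.isoSpec.inv :=
    (specFree hV r).hom ≫ (tilde.functor Γ(X, V)).map g ≫ eN.hom ≫ (specRestrict F hV).hom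
  have h1 : Epi (specFree hV r).hom := inferInstance
  have h2 : Epi (specRestrict F hV).hom := inferInstance
  have h3 : Epi eN.hom := inferInstance
  haveI : Epi q := @epi_comp _ _ _ _ _ _ h1 _ (@epi_comp _ _ _ _ _ _ hmap _ (@epi_comp _ _ _ _ _ _ h3 _ h2))
  haveI := epi_restrict hV.isoSpec.hom q
  let c : ∀ M : (V : Scheme.{u}).Modules, (M.restrict hV.isoSpec.inv).restrict hV.isoSpec.hom ≅ M := fun M =>
    ((Scheme.Modules.restrictFunctorComp hV.isoSpec.hom hV.isoSpec.inv).symm ≪≫
      Scheme.Modules.restrictFunctorCongr hV.isoSpec.hom_inv_id ≪≫ Scheme.Modules.restrictFunctorId).app M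
  exact ⟨(c _).inv ≫ (Scheme.Modules.restrictFunctor hV.isoSpec.hom).map q ≫ (c _).hom, inferInstance⟩

/-- Let S be a scheme, F a quasi-coherent O_S-module of finite type, s a point of S and r a natural
number. Then F can be generated by r sections over some open neighbourhood of s if and only if the
r-th Fitting ideal of F is the unit ideal at s, i.e. s does not lie in the closed subset cut out by
Fit_r(F). -/
theorem result (S : Scheme.{u}) (F : S.Modules) (hF : Coh.IsQCoh F) (hft : CohB1.IsFT F)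
    (s : ↥S) (r : ℕ) :
    (∃ U : S.Opens, s ∈ U ∧ ∃ π : FlatMod.freeMod (↑U) r ⟶ F.restrict U.ι, Epi π) ↔
      s ∉ (Fitt.sheafIdeal F r).support := by
  haveI : F.IsQuasicoherent := hF
  constructor
  · rintro ⟨U, hsU, π, hπ⟩ hmem
    obtain ⟨V, hV, hsV, hVU⟩ := exists_isAffineOpen_mem_and_subset (U := U) (x := s) hsU
    haveI := hπ
    have hVU : V ≤ U := hVU
    haveI := epi_restrict (S.homOfLE hVU) π
    let p : FlatMod.freeMod (V : Scheme.{u}) r ⟶ F.restrict V.ι :=
      (TensorMod.restrictFreeModIso (S.homOfLE hVU) r).inv ≫ (Scheme.Modules.restrictFunctor (S.homOfLE hVU)).map π ≫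
        (TensorMod.restrictLEIso hVU F).hom
    obtain ⟨x, hx⟩ := exists_generators F hV r p
    have h := (FittSheaf.mem_support_iff F hF hft r ⟨V, hV⟩ s hsV).1 hmem
    rw [FittLib.eq_top_of_le x hx (Fintype.card_fin r).le] at h
    exact (hV.primeIdealOf ⟨s, hsV⟩).isPrime.ne_top (top_le_iff.1 h)
  · intro hs
    obtain ⟨U, hU, hsU, -⟩ := exists_isAffineOpen_mem_and_subset (U := ⊤) (x := s) trivial
    haveI : Module.Finite Γ(S, U) Γ(F, U) := QCohBase.isFiniteType_toFinite ⟨hF, hft⟩ hU
    haveI := (hU.primeIdealOf ⟨s, hsU⟩).isPrime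
    have hnot : ¬ Fitt.ideal Γ(S, U) Γ(F, U) r ≤ (hU.primeIdealOf ⟨s, hsU⟩).asIdeal := fun h =>
      hs ((FittSheaf.mem_support_iff F hF hft r ⟨U, hU⟩ s hsU).2 h)
    obtain ⟨f, hf, g, hg⟩ := FittLib.exists_away_generators _ hnot
    let D := S.basicOpen f
    have hsD : s ∈ D := (S.mem_basicOpen f s hsU).2 ((AssPts.notMem_prime_iff hU s hsU f).1 hf)
    letI : Module Γ(S, U) Γ(F, D) := Module.compHom _ (QCohBase.ores (S.basicOpen_le f))
    let φ : Γ(F, U) →ₗ[Γ(S, U)] Γ(F, D) :=
      { toFun := QCohBase.mres F (S.basicOpen_le f)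
        map_add' := map_add _
        map_smul' := QCohBase.mres_smul F (S.basicOpen_le f) }
    haveI : IsLocalizedModule (Submonoid.powers f) φ := FlatOverBC.isLocalizedModule_mres F hU f
    let e := IsLocalizedModule.iso (Submonoid.powers f) φ
    let y : Fin r → Γ(F, D) := fun i => e (g i)
    have hu : IsUnit (QCohBase.ores (S.basicOpen_le f) f) := S.toRingedSpace.isUnit_res_basicOpen f
    have hsp : Submodule.span Γ(S, D) (Set.range y) = ⊤ := by
      refine eq_top_iff.2 fun z hz => ?_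
      clear hz
      obtain ⟨w, rfl⟩ := e.surjective z
      induction (hg.ge (Submodule.mem_top (x := w))) using Submodule.span_induction with
      | mem w hw => obtain ⟨i, rfl⟩ := hw; exact Submodule.subset_span ⟨i, rfl⟩
      | zero => rw [map_zero]; exact zero_mem _
      | add a b _ _ ha hb => rw [map_add]; exact add_mem ha hb
      | smul a w _ hw =>
        obtain ⟨⟨r₀, ⟨_, N, rfl⟩⟩, ha⟩ := IsLocalization.surj (Submonoid.powers f) a
        rw [← Submodule.smul_mem_iff_of_isUnit _ (hu.pow N), ← map_pow]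
        show (f ^ N) • e (a • w) ∈ _
        rw [← map_smul, show f ^ N • a • w = r₀ • w by
          rw [← algebraMap_smul (Localization.Away f) (f ^ N), smul_smul, mul_comm, ha, algebraMap_smul],
          map_smul]
        exact Submodule.smul_mem _ (QCohBase.ores (S.basicOpen_le f) r₀) hw
    exact ⟨D, hsD, exists_epi F (hU.basicOpen f) r y hsp⟩

end Groth.Agent.S8874
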