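import Groth.Statements.S8875
import Groth.Agent.FittSheaf.Basic
import Groth.Agent.FinLocFreeSections.Basic
-- import your own Groth.Agent.* helpers here

set_option autoImplicit false
universe u
open CategoryTheory CategoryTheory.Limits AlgebraicGeometry TopologicalSpace
open SDiv

namespace Groth.Agent.S8875

/-- Free modules have a basis of sections on affine opens. -/
theorem nonempty_basis {X : Scheme.{u}} (M : X.Modules) [M.IsQuasicoherent] {W : X.Opens} (hW : IsAffineOpen W) {n : ℕ}
    (t : M.restrict W.ι ≅ FlatMod.freeMod (W : Scheme.{u}) n) :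
    Nonempty (Module.Basis (Fin n) Γ(X, W) Γ(M, W)) := by
  let e₁ : M.restrict hW.fromSpec ≅ tilde (ModuleCat.of Γ(X, W) (ULift.{u} (Fin n) →₀ Γ(X, W))) :=
    ((Scheme.Modules.restrictFunctorCongr hW.isoSpec_inv_ι.symm) ≪≫
        Scheme.Modules.restrictFunctorComp hW.isoSpec.inv W.ι).app M ≪≫
      (Scheme.Modules.restrictFunctor hW.isoSpec.inv).mapIso t ≪≫
      TensorMod.restrictFreeModIso hW.isoSpec.inv n ≪≫ TensorMod.freeModIso _ n ≪≫
      (tildeFinsupp _).symm
  let E := ((tilde.isoTop _).toLinearEquiv.trans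
      ((moduleSpecΓFunctor (R := Γ(X, W))).mapIso e₁).symm.toLinearEquiv).trans (QCohBase.sectionsEquiv M hW)
  exact ⟨Module.Basis.ofRepr (E.symm.trans (Finsupp.domLCongr Equiv.ulift))⟩

theorem rel_eq_bot {R M : Type*} [CommRing R] [AddCommGroup M] [Module R M] {r : ℕ} (x : Fin r → M)
    (h : ∀ k, k < r → FittLib.F R x k = ⊥) : LinearIndependent R x := by
  rw [Fintype.linearIndependent_iff]
  intro w hw i
  have h1 := h (r - 1) (by have := i.2; omega)
  rw [FittLib.F, Fintype.card_fin, show r - (r - 1) = 1 by have := i.2; omega] at h1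
  have h2 := FittLib.det_mem_I (N := FittLib.rel (R := R) x) (fun _ : Fin 1 => w) (fun _ => i)
    fun _ => (FittLib.mem_rel x).2 hw
  rw [h1, Ideal.mem_bot] at h2
  simpa using h2

/-- (1) ⇔ (3): let S be a scheme, F a quasi-coherent O_S-module of finite type and r ≥ 0. Then F is
finite locally free of rank r if and only if Fit_k(F) = 0 for every k < r and Fit_k(F) = O_S for
every k ≥ r. -/
theorem result (S : Scheme.{u}) (F : S.Modules) (hF : Coh.IsQCoh F) (hft : CohB1.IsFT F)
    (r : ℕ) :
    FlatMod.IsFinLocFreeOfRank r F ↔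
      (∀ k : ℕ, k < r → Fitt.sheafIdeal F k = ⊥) ∧ (∀ k : ℕ, r ≤ k → Fitt.sheafIdeal F k = ⊤) := by
  haveI : F.IsQuasicoherent := hF
  constructor
  · intro hfree
    choose U hxU t using hfree
    choose V hV hxV hVU using fun x => exists_isAffineOpen_mem_and_subset (U := U x) (x := x) (hxU x)
    have hb : ∀ x, Nonempty (Module.Basis (Fin r) Γ(S, V x) Γ(F, V x)) := fun x =>
      nonempty_basis F (hV x) (TensorMod.freeRestrict (hVU x) (t x).some)
    have hcov : ⨆ x, V x = ⊤ := eq_top_iff.2 fun x _ => TopologicalSpace.Opens.mem_iSup.2 ⟨x, hxV x⟩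
    refine ⟨fun k hk => ?_, fun k hk => ?_⟩ <;>
      refine Scheme.IdealSheafData.ext_of_iSup_eq_top (fun x => ⟨V x, hV x⟩) hcov fun x => ?_ <;>
      obtain ⟨b⟩ := hb x <;>
      rw [FittSheaf.ideal_eq F hF hft, FittLib.ideal_eq_F b b.span_eq]
    · rw [FittLib.F_of_rel_eq_bot _ (FittLib.rel_eq_bot _ b.linearIndependent) (by simpa using hk)]
      rfl
    · rw [FittLib.F_eq_top _ (by simpa using hk)]
      rfl
  · rintro ⟨hbot, htop⟩ x
    obtain ⟨U, hU, hxU, -⟩ := exists_isAffineOpen_mem_and_subset (U := ⊤) (x := x) trivial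
    haveI : Module.Finite Γ(S, U) Γ(F, U) := QCohBase.isFiniteType_toFinite ⟨hF, hft⟩ hU
    haveI := (hU.primeIdealOf ⟨x, hxU⟩).isPrime
    have hnot : ¬ Fitt.ideal Γ(S, U) Γ(F, U) r ≤ (hU.primeIdealOf ⟨x, hxU⟩).asIdeal := by
      rw [show Fitt.ideal Γ(S, U) Γ(F, U) r = ⊤ by
        rw [← FittSheaf.ideal_eq F hF hft r ⟨U, hU⟩, htop r le_rfl]; rfl]
      exact fun h => (hU.primeIdealOf ⟨x, hxU⟩).isPrime.ne_top (top_le_iff.1 h)
    obtain ⟨f, hf, g, hg⟩ := FittLib.exists_away_generators _ hnot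
    let R := Γ(S, U)
    let D := S.basicOpen f
    have hxD : x ∈ D := (S.mem_basicOpen f x hxU).2 ((AssPts.notMem_prime_iff hU x hxU f).1 hf)
    letI : Module R Γ(F, D) := Module.compHom _ (QCohBase.ores (S.basicOpen_le f))
    let φ : Γ(F, U) →ₗ[R] Γ(F, D) :=
      { toFun := QCohBase.mres F (S.basicOpen_le f)
        map_add' := map_add _
        map_smul' := QCohBase.mres_smul F (S.basicOpen_le f) }
    haveI : IsLocalizedModule (Submonoid.powers f) φ := FlatOverBC.isLocalizedModule_mres F hU f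
    let e := IsLocalizedModule.iso (Submonoid.powers f) φ
    let y : Fin r → Γ(F, D) := fun i => e (g i)
    have hu : IsUnit (QCohBase.ores (S.basicOpen_le f) f) := S.toRingedSpace.isUnit_res_basicOpen f
    have hsp : Submodule.span Γ(S, D) (Set.range y) = ⊤ := by
      refine eq_top_iff.2 fun z hz => ?_
      clear hz
      obtain ⟨w, rfl⟩ := e.surjective z
      induction (hg.ge (Submodule.mem_top (x := w))) using Submodule.span_induction with
      | mem w hw => obtain ⟨i, rfl⟩ := hw; exact Submodule.subset_span ⟨i, rfl⟩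
      | zero => rw [map_zero]; exact zero_mem _
      | add a b _ _ ha hb => rw [map_add]; exact add_mem ha hb
      | smul a w _ hw =>
        obtain ⟨⟨r₀, ⟨_, N, rfl⟩⟩, ha⟩ := IsLocalization.surj (Submonoid.powers f) a
        rw [← Submodule.smul_mem_iff_of_isUnit _ (hu.pow N), ← map_pow]
        show (f ^ N) • e (a • w) ∈ _
        rw [← map_smul, show f ^ N • a • w = r₀ • w by
          rw [← algebraMap_smul (Localization.Away f) (f ^ N), smul_smul, mul_comm, ha, algebraMap_smul],
          map_smul]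
        exact Submodule.smul_mem _ (QCohBase.ores (S.basicOpen_le f) r₀) hw
    have hli : LinearIndependent Γ(S, D) y := rel_eq_bot y fun k hk => by
      rw [← FittLib.ideal_eq_F y hsp, ← FittSheaf.ideal_eq F hF hft k ⟨D, hU.basicOpen f⟩, hbot k hk]
      rfl
    exact ⟨D, hxD, FlatOverBC.nonempty_iso_freeMod_of_basis F (hU.basicOpen f) (Module.Basis.mk hli hsp.ge)⟩

end Groth.Agent.S8875
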