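import Groth.Statements.S8876
import Groth.Agent.FittSheaf.Basic
-- import your own Groth.Agent.* helpers here

set_option autoImplicit false
universe u
open CategoryTheory CategoryTheory.Limits AlgebraicGeometry TopologicalSpace
open SDiv

namespace Groth.Agent.S8876

/-- Let S be a scheme and F a quasi-coherent O_S-module of finite type. Then the closed subset of S cut
out by Fit_0(F) equals the support of F (the scheme-theoretic support and the Fit_0 subscheme have
the same underlying set). -/
theorem result (S : Scheme.{u}) (F : S.Modules) (hF : Coh.IsQCoh F) (hft : CohB1.IsFT F) :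
    ((Fitt.sheafIdeal F 0).support : Set ↥S) = CohB1.support F := by
  haveI : F.IsQuasicoherent := hF
  ext s
  obtain ⟨U, hU, hs, -⟩ := exists_isAffineOpen_mem_and_subset (U := ⊤) (x := s) trivial
  haveI : Module.Finite Γ(S, U) Γ(F, U) := QCohBase.isFiniteType_toFinite ⟨hF, hft⟩ hU
  let p := hU.primeIdealOf ⟨s, hs⟩
  refine (FittSheaf.mem_support_iff F hF hft 0 ⟨U, hU⟩ s hs).trans ?_
  refine (Iff.trans (Iff.of_eq rfl) (Set.ext_iff.1 FittLib.zeroLocus_zero p)).trans ?_
  rw [Module.mem_support_iff_exists_annihilator]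
  constructor
  · rintro ⟨m, hm⟩ hsub
    obtain ⟨g, hg, hgm⟩ := (AssPts.germ_eq_zero_iff F hU s hs m).1 (hsub.elim _ _)
    exact hg (hm (Submodule.mem_annihilator_span_singleton _ _ |>.2 hgm))
  · intro hne
    by_contra! hall
    refine hne (subsingleton_of_forall_eq 0 fun z => ?_)
    obtain ⟨g, m, hg, hm⟩ := AssPts.exists_germ_smul_eq F hU s hs z
    obtain ⟨a, ha, hap⟩ := SetLike.not_le_iff_exists.1 (hall m)
    rw [(AssPts.germ_eq_zero_iff F hU s hs m).2 ⟨a, hap, (Submodule.mem_annihilator_span_singleton _ _).1 ha⟩] at hm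
    exact ((AssPts.notMem_prime_iff hU s hs g).1 hg).smul_eq_zero.1 hm

end Groth.Agent.S8876
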