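import Groth.Statements.S8877
import Groth.Agent.FittSheaf.Basic
-- import your own Groth.Agent.* helpers here

set_option autoImplicit false
universe u
open CategoryTheory CategoryTheory.Limits AlgebraicGeometry TopologicalSpace
open SDiv

namespace Groth.Agent.S8877

/-- Let S be a scheme and F a quasi-coherent O_S-module of finite type, and let Z_r ⊆ S be the closed
subset cut out by the r-th Fitting ideal of F. Then the intersection of all the Z_r is empty. -/
theorem result (S : Scheme.{u}) (F : S.Modules) (hF : Coh.IsQCoh F) (hft : CohB1.IsFT F)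
    (s : ↥S) : ∃ r : ℕ, s ∉ (Fitt.sheafIdeal F r).support := by
  haveI : F.IsQuasicoherent := hF
  obtain ⟨U, hU, hs, -⟩ := exists_isAffineOpen_mem_and_subset (U := ⊤) (x := s) trivial
  haveI : Module.Finite Γ(S, U) Γ(F, U) := QCohBase.isFiniteType_toFinite ⟨hF, hft⟩ hU
  obtain ⟨n, x, hx⟩ := Module.Finite.exists_fin (R := Γ(S, U)) (M := Γ(F, U))
  refine ⟨n, fun h => ?_⟩
  have h' := (FittSheaf.mem_support_iff F hF hft n ⟨U, hU⟩ s hs).1 h
  rw [FittLib.eq_top_of_le x hx (Fintype.card_fin n).le] at h'
  exact (hU.primeIdealOf ⟨s, hs⟩).isPrime.ne_top (top_le_iff.1 h')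

end Groth.Agent.S8877
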