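import Groth.Statements.S8886
import Groth.Agent.FlatLocalDepth.FibreStalk
import Mathlib.RingTheory.Flat.TorsionFree

set_option autoImplicit false
universe u
open CategoryTheory CategoryTheory.Limits AlgebraicGeometry TopologicalSpace
open SDiv

namespace Groth.Agent.S8886

theorem eq_zero_of_forall {R A : Type u} [CommRing R] [IsDomain R] [CommRing A] [Algebra R A]
    [Module.Flat R A] (a : A)
    (h : ∀ (P : Ideal A) [P.IsPrime], P.under R = ⊥ → ∃ s ∉ P, s * a = 0) : a = 0 := by
  let J : Ideal A := (⊥ : Ideal A).colon (Ideal.span {a})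
  have hJ : ∀ s, s ∈ J ↔ s * a = 0 := fun s => by simp [J, Submodule.mem_colon_singleton]
  by_cases hd : Disjoint (J : Set A) (Algebra.algebraMapSubmonoid A (nonZeroDivisors R) : Set A)
  · obtain ⟨P, hP, hJP, hPd⟩ := J.exists_le_prime_disjoint _ hd
    obtain ⟨s, hs, hsa⟩ := h P (by
      refine (Submodule.eq_bot_iff _).2 fun r hr => by_contra fun hr0 => ?_
      exact Set.disjoint_left.1 hPd hr ⟨r, mem_nonZeroDivisors_of_ne_zero hr0, rfl⟩)
    exact absurd (hJP ((hJ s).2 hsa)) hs
  · obtain ⟨_, hx, r, hr, rfl⟩ := Set.not_disjoint_iff.1 hd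
    have h1 : r • a = r • (0 : A) := by
      rw [smul_zero, Algebra.smul_def]; exact (hJ _).1 hx
    exact (Module.Flat.isSMulRegular_of_nonZeroDivisors hr) h1

theorem isReduced_stalk {X Y : Scheme.{u}} (f : X ⟶ Y) [IsIntegral Y]
    [IsReduced (f.fiber (genericPoint Y))] (z : X) (hz : f z = genericPoint Y) :
    _root_.IsReduced (X.presheaf.stalk z) := by
  obtain ⟨w, hw⟩ : z ∈ Set.range (f.fiberι (genericPoint Y)) := by rw [f.range_fiberι]; exact hz
  obtain ⟨e⟩ := Groth.Agent.FlatLocalDepth.nonempty_fibre_stalk_equiv f _ w z hw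
  have hfield : IsField (Y.presheaf.stalk (f z)) := by
    rw [hz]
    exact Field.toIsField Y.functionField
  rw [IsLocalRing.isField_iff_maximalIdeal_eq.1 hfield, Ideal.map_bot] at e
  exact isReduced_of_injective ((RingEquiv.quotientBot _).symm.trans e) (RingEquiv.injective _)

theorem eq_zero_of_isNilpotent {X Y : Scheme.{u}} (f : X ⟶ Y) [Flat f] [IsIntegral Y]
    [IsReduced (f.fiber (genericPoint Y))] {U : X.Opens} {V : Y.Opens} (hU : IsAffineOpen U)
    (hV : IsAffineOpen V) [Nonempty V] (e : U ≤ f ⁻¹ᵁ V) (a : Γ(X, U)) (ha : IsNilpotent a) : a = 0 := by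
  have hflat : (f.appLE V U e).hom.Flat := f.flat_appLE hV hU e
  algebraize [(f.appLE V U e).hom]
  refine eq_zero_of_forall (R := Γ(Y, V)) a fun P hP hP0 => ?_
  let q : PrimeSpectrum Γ(X, U) := ⟨P, hP⟩
  have hzU : hU.fromSpec q ∈ U := hU.range_fromSpec.subset ⟨q, rfl⟩
  have hz : f (hU.fromSpec q) = genericPoint Y := by
    have h1 := congr($(IsAffineOpen.SpecMap_appLE_fromSpec f hV hU e) q)
    refine Eq.trans h1.symm ?_
    show hV.fromSpec (Spec.map (f.appLE V U e) q) = _
    have h3 : Spec.map (f.appLE V U e) q = (⟨⊥, Ideal.isPrime_bot⟩ : PrimeSpectrum Γ(Y, V)) :=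
      PrimeSpectrum.ext hP0
    have h4 := genericPoint_eq_of_isOpenImmersion hV.fromSpec
    rw [genericPoint_eq_bot_of_affine] at h4
    exact (congrArg (fun p => hV.fromSpec p) h3).trans h4
  have := isReduced_stalk f _ hz
  let _ := (X.presheaf.germ U (hU.fromSpec q) hzU).hom.toAlgebra
  have : IsLocalization.AtPrime (X.presheaf.stalk (hU.fromSpec q)) P := hU.isLocalization_stalk' q hzU
  obtain ⟨s, hs⟩ := (IsLocalization.map_eq_zero_iff P.primeCompl (X.presheaf.stalk (hU.fromSpec q)) a).1
    (ha.map (algebraMap _ _)).eq_zero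
  exact ⟨s.1, s.2, hs⟩


/-- Let f : X ⟶ Y be a flat morphism of schemes with Y integral. If the scheme-theoretic fibre of f over
the generic point of Y is integral, then X is integral. -/
theorem result {X Y : Scheme.{u}} (f : X ⟶ Y) [Flat f] [IsIntegral Y]
    (h : IsIntegral (f.fiber (genericPoint ↥Y))) : IsIntegral X := by
  have : IrreducibleSpace X := by
    have hne : Nonempty (f.fiber (genericPoint Y)) := inferInstance
    have hd : closure (Set.range (f.fiberι (genericPoint Y))) = Set.univ := by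
      refine Set.eq_univ_of_forall fun x => ?_
      obtain ⟨ξ, hξ, hfξ⟩ := Flat.generalizingMap f (genericPoint_specializes (f x))
      refine hξ.mem_closed isClosed_closure (subset_closure ?_)
      rw [f.range_fiberι]; exact hfξ
    have hi := (IsIrreducible.image (IrreducibleSpace.isIrreducible_univ (f.fiber (genericPoint Y)))
      (f.fiberι (genericPoint Y)) (f.fiberι _).continuous.continuousOn).closure
    rw [Set.image_univ, hd] at hi
    exact irreducibleSpace_def _ |>.2 hi
  have : IsReduced X := by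
    suffices ∀ x : X, _root_.IsReduced (X.presheaf.stalk x) from isReduced_of_isReduced_stalk X
    intro x
    obtain ⟨V, hV, hxV, -⟩ := exists_isAffineOpen_mem_and_subset (U := ⊤) (x := f x) (by simp)
    obtain ⟨U, hU, hxU, hUV⟩ :=
      exists_isAffineOpen_mem_and_subset (show x ∈ (f ⁻¹ᵁ V : X.Opens) from hxV)
    have : Nonempty V := ⟨⟨_, hxV⟩⟩
    have hred : _root_.IsReduced Γ(X, U) := ⟨fun a ha => eq_zero_of_isNilpotent f hU hV hUV a ha⟩
    let _ := (X.presheaf.germ U x hxU).hom.toAlgebra
    have := hU.isLocalization_stalk ⟨x, hxU⟩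
    exact isReduced_localizationPreserves (hU.primeIdealOf ⟨x, hxU⟩).asIdeal.primeCompl _ hred
  exact isIntegral_of_irreducibleSpace_of_isReduced X

end Groth.Agent.S8886
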