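import Groth.Statements.S8887
import Groth.Agent.FlatOverBC.Free
import Groth.Agent.AssPts.Basic
import Groth.Agent.QCohBase.CohProps
import Mathlib.AlgebraicGeometry.FunctionField
-- import your own Groth.Agent.* helpers here

set_option autoImplicit false
universe u
open CategoryTheory CategoryTheory.Limits AlgebraicGeometry TopologicalSpace
open SDiv

namespace Groth.Agent.S8887

/-- Let X be an integral scheme and F a quasi-coherent O_X-module of finite type, of rank r (r being the
finite dimension of the generic stalk of F as a vector space over the function field of X). Then one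
can find an open subset U of X, not empty, on which the restriction of F is isomorphic to the free
module of rank r. -/
theorem result (X : Scheme.{u}) [IsIntegral X] (F : X.Modules) (hF : Coh.IsQCoh F)
    (hft : CohB1.IsFT F) :
    ∃ U : X.Opens, (U : Set ↥X).Nonempty ∧
      Nonempty (F.restrict U.ι ≅ FlatMod.freeMod (↑U)
        (Module.finrank ↑(X.presheaf.stalk (genericPoint ↥X)) ↑(F.presheaf.stalk (genericPoint ↥X)))) := by
  classical
  haveI : F.IsQuasicoherent := hF
  set ξ := genericPoint ↥X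
  obtain ⟨_, ⟨(U : X.Opens), hU, rfl⟩, hξ, -⟩ :=
    X.isBasis_affineOpens.exists_subset_of_mem_open (Set.mem_univ ξ) isOpen_univ
  haveI : Nonempty U := ⟨⟨ξ, hξ⟩⟩
  haveI : Module.Finite Γ(X, U) Γ(F, U) :=
    QCohBase.isFiniteType_toFinite ⟨hF, hft⟩ hU
  letI : Field ↑(X.presheaf.stalk ξ) := inferInstanceAs (Field X.functionField)
  have hp : ∀ g : Γ(X, U), g ∉ (hU.primeIdealOf ⟨ξ, hξ⟩).asIdeal ↔ g ≠ 0 := fun g => by
    rw [AssPts.notMem_prime_iff hU ξ hξ g, isUnit_iff_ne_zero]
    exact not_congr ⟨fun h => germ_injective_of_isIntegral X ξ hξ (h.trans (map_zero _).symm),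
      fun h => by rw [h, map_zero]⟩
  obtain ⟨k, m, hm⟩ := Module.Finite.exists_fin (R := Γ(X, U)) (M := Γ(F, U))
  haveI : Module.Finite ↑(X.presheaf.stalk ξ) ↑(F.presheaf.stalk ξ) := by
    refine ⟨⟨Finset.univ.image (fun j => F.presheaf.germ U ξ hξ (m j)), eq_top_iff.2 fun z _ => ?_⟩⟩
    obtain ⟨g, y, hg, hy⟩ := AssPts.exists_germ_smul_eq F hU ξ hξ z
    rw [← Submodule.smul_mem_iff_of_isUnit _ ((AssPts.notMem_prime_iff hU ξ hξ g).1 hg), hy]
    obtain ⟨c, rfl⟩ := (Submodule.mem_span_range_iff_exists_fun _).1 (hm.ge (Submodule.mem_top (x := y)))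
    rw [map_sum]
    refine Submodule.sum_mem _ fun j _ => ?_
    rw [AssPts.germ_smul']
    exact Submodule.smul_mem _ _ (Submodule.subset_span (by simp))
  let n := Module.finrank ↑(X.presheaf.stalk ξ) ↑(F.presheaf.stalk ξ)
  let b₀ := Module.finBasis ↑(X.presheaf.stalk ξ) ↑(F.presheaf.stalk ξ)
  choose g s hg hgs using fun i => AssPts.exists_germ_smul_eq F hU ξ hξ (b₀ i)
  let u : ∀ i : Fin n, (↑(X.presheaf.stalk ξ))ˣ := fun i => ((AssPts.notMem_prime_iff hU ξ hξ (g i)).1 (hg i)).unit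
  let b := b₀.unitsSMul u
  have hb : ∀ i, b i = F.presheaf.germ U ξ hξ (s i) := fun i => by
    rw [Module.Basis.unitsSMul_apply, ← hgs i]; rfl
  have key : ∀ y : Γ(F, U), ∃ f : Γ(X, U), f ≠ 0 ∧ f • y ∈ Submodule.span Γ(X, U) (Set.range s) := by
    intro y
    choose g' r hg' hr using fun i => AssPts.exists_ringGerm_mul_eq hU ξ hξ (b.repr (F.presheaf.germ U ξ hξ y) i)
    let G := ∏ i, g' i
    have h0 : F.presheaf.germ U ξ hξ (G • y - ∑ i, ((∏ j ∈ Finset.univ.erase i, g' j) * r i) • s i) = 0 := by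
      rw [map_sub, AssPts.germ_smul', sub_eq_zero]
      conv_lhs => rw [← b.sum_repr (F.presheaf.germ U ξ hξ y), Finset.smul_sum]
      rw [map_sum]
      refine Finset.sum_congr rfl fun i _ => ?_
      rw [AssPts.germ_smul', map_mul, ← hr, smul_smul, hb,
        show G = (∏ j ∈ Finset.univ.erase i, g' j) * g' i from (Finset.prod_erase_mul _ _ (Finset.mem_univ i)).symm,
        map_mul]
      congr 1
      ring
    obtain ⟨g'', hg'', h⟩ := (AssPts.germ_eq_zero_iff F hU ξ hξ _).1 h0
    refine ⟨g'' * G, mul_ne_zero ((hp _).1 hg'') (Finset.prod_ne_zero_iff.2 fun i _ => (hp _).1 (hg' i)), ?_⟩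
    rw [smul_sub, sub_eq_zero] at h
    rw [mul_smul, h]
    exact Submodule.smul_mem _ _ (Submodule.sum_mem _ fun i _ =>
      Submodule.smul_mem _ _ (Submodule.subset_span ⟨i, rfl⟩))
  choose f hf0 hf using fun j => key (m j)
  let f₀ := ∏ j, f j
  have hf₀ : ∀ y : Γ(F, U), f₀ • y ∈ Submodule.span Γ(X, U) (Set.range s) := by
    intro y
    obtain ⟨c, rfl⟩ := (Submodule.mem_span_range_iff_exists_fun _).1 (hm.ge (Submodule.mem_top (x := y)))
    rw [Finset.smul_sum]
    refine Submodule.sum_mem _ fun j _ => ?_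
    rw [show f₀ = (∏ i ∈ Finset.univ.erase j, f i) * f j from (Finset.prod_erase_mul _ _ (Finset.mem_univ j)).symm,
      smul_comm, mul_smul]
    exact Submodule.smul_mem _ _ (Submodule.smul_mem _ _ (hf j))
  let D := X.basicOpen f₀
  have hξD : ξ ∈ D := (AssPts.notMem_prime_iff hU ξ hξ f₀).1
    ((hp _).2 (Finset.prod_ne_zero_iff.2 fun j _ => hf0 j)) |> fun h => (X.mem_basicOpen f₀ ξ hξ).2 h
  haveI : Nonempty D := ⟨⟨ξ, hξD⟩⟩
  let v : Fin n → Γ(F, D) := fun i => QCohBase.mres F (X.basicOpen_le f₀) (s i)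
  have hli : LinearIndependent Γ(X, D) v := by
    rw [Fintype.linearIndependent_iff]
    intro c hc i
    have h1 := congrArg (F.presheaf.germ D ξ hξD) hc
    rw [map_zero, map_sum] at h1
    have h2 := Fintype.linearIndependent_iff.1 b.linearIndependent (fun i => X.presheaf.germ D ξ hξD (c i)) (by
      refine Eq.trans (Finset.sum_congr rfl fun i _ => ?_) h1
      rw [AssPts.germ_smul', hb]
      exact congrArg _ (AssPts.germ_mres F ξ (X.basicOpen_le f₀) hξD (s i)).symm) i
    exact germ_injective_of_isIntegral X ξ hξD (h2.trans (map_zero _).symm)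
  have hsp : ⊤ ≤ Submodule.span Γ(X, D) (Set.range v) := by
    intro z _
    obtain ⟨N, y, hy⟩ := QCohBase.exists_pow_smul_eq_mres F hU f₀ rfl (X.basicOpen_le f₀) z
    have hu : IsUnit (QCohBase.ores (X.basicOpen_le f₀) f₀) := X.toRingedSpace.isUnit_res_basicOpen f₀
    rw [← Submodule.smul_mem_iff_of_isUnit _ (hu.pow (N + 1)), pow_succ', mul_smul, ← hy, ← QCohBase.mres_smul]
    obtain ⟨c, hc⟩ := (Submodule.mem_span_range_iff_exists_fun _).1 (hf₀ y)
    rw [← hc, map_sum]
    refine Submodule.sum_mem _ fun i _ => ?_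
    rw [QCohBase.mres_smul]
    exact Submodule.smul_mem _ _ (Submodule.subset_span ⟨i, rfl⟩)
  exact ⟨D, ⟨ξ, hξD⟩, FlatOverBC.nonempty_iso_freeMod_of_basis F (hU.basicOpen f₀) (Module.Basis.mk hli hsp)⟩

end Groth.Agent.S8887
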