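import Groth.Statements.S8888
import Groth.Agent.DCohBridge.StalkPull
import Mathlib.LinearAlgebra.Dimension.Constructions
import Mathlib.AlgebraicGeometry.FunctionField
-- import your own Groth.Agent.* helpers here

set_option autoImplicit false
universe u
open CategoryTheory CategoryTheory.Limits AlgebraicGeometry TopologicalSpace
open SDiv

namespace Groth.Agent.S8888

theorem rank_pull {X Y : Scheme.{u}} [IsIntegral Y] (f : X ⟶ Y) (G : Y.Modules) (x : X) (y : Y)
    (hy : f.base x = y) (hgen : y = genericPoint ↥Y) [Nontrivial (X.presheaf.stalk x)] :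
    Module.rank ↑(X.presheaf.stalk x) ↑(((Scheme.Modules.pullback f).obj G).presheaf.stalk x) =
      Module.rank ↑(Y.presheaf.stalk y) ↑(G.presheaf.stalk y) := by
  subst hy
  have hF : IsField ↑(Y.presheaf.stalk (f.base x)) := by
    rw [hgen]
    exact @Field.toIsField ↑(Y.presheaf.stalk (genericPoint ↥Y))
      (inferInstance : Field ↑Y.functionField)
  letI : Module.Free ↑(Y.presheaf.stalk (f.base x)) ↑(G.presheaf.stalk (f.base x)) :=
    letI := hF.toField
    Module.Free.of_divisionRing _ _
  letI := (Groth.Agent.DCohBridge.stφ f x).toAlgebra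
  have e : ↑(((Scheme.Modules.pullback f).obj G).presheaf.stalk x) ≃ₗ[↑(X.presheaf.stalk x)]
      TensorProduct ↑(Y.presheaf.stalk (f.base x)) ↑(X.presheaf.stalk x) ↑(G.presheaf.stalk (f.base x)) :=
    ((Groth.Agent.DCohBridge.stalkPullIso f x).app G).toLinearEquiv
  rw [e.rank_eq, Module.rank_baseChange, Cardinal.lift_id]

/-- Let f : X ⟶ Y be a dominant morphism of integral schemes and G a quasi-coherent O_Y-module. Then the
rank of f^*G on X, the dimension of its stalk at the generic point of X over the function field of
X, equals the rank of G on Y. -/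
theorem result {X Y : Scheme.{u}} [IsIntegral X] [IsIntegral Y] (f : X ⟶ Y) [IsDominant f]
    (G : Y.Modules) (hG : Coh.IsQCoh G) :
    Module.rank ↑(X.presheaf.stalk (genericPoint ↥X)) ↑(((Scheme.Modules.pullback f).obj G).presheaf.stalk (genericPoint ↥X)) =
      Module.rank ↑(Y.presheaf.stalk (genericPoint ↥Y)) ↑(G.presheaf.stalk (genericPoint ↥Y)) := by
  refine rank_pull f G _ _ ?_ rfl
  refine ((genericPoint_spec Y).eq ?_).symm
  have h := (genericPoint_spec X).image f.continuous
  rwa [Set.image_univ, f.denseRange.closure_range] at h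

end Groth.Agent.S8888
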