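import Groth.Statements.S8889
import Groth.Agent.AssPts.Basic
import Groth.Agent.ZClosLib.Points
import Groth.Agent.ZClosLib.Basic
-- import your own Groth.Agent.* helpers here

set_option autoImplicit false
universe u
open CategoryTheory CategoryTheory.Limits AlgebraicGeometry TopologicalSpace
open SDiv

namespace Groth.Agent.S8889

/-- Let X be a scheme and φ : F ⟶ G a morphism of quasi-coherent O_X-modules. Assume that for every
point x of X either the stalk map F_x → G_x is injective or x is not a weakly associated point of F.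
Then φ is injective. -/
theorem result (X : Scheme.{u}) {F G : X.Modules} (φ : F ⟶ G) (hF : Coh.IsQCoh F)
    (hG : Coh.IsQCoh G)
    (h : ∀ x : ↥X, Function.Injective ((TopCat.Presheaf.stalkFunctor AddCommGrpCat.{u} x).map (Scheme.Modules.Hom.mapPresheaf φ)) ∨ ¬ Curv2.IsWeakAssPoint F x) :
    Mono φ := by
  haveI : F.IsQuasicoherent := hF
  refine ZClosLib.mono_of_app_injective φ fun V _ => (injective_iff_map_eq_zero _).2 fun t ht => ?_
  refine ZClosLib.eq_zero_of_germ t fun x hx => ?_
  by_contra hne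
  obtain ⟨_, ⟨(W : X.Opens), hW, rfl⟩, hxW, hWV⟩ :=
    X.isBasis_affineOpens.exists_subset_of_mem_open hx V.isOpen
  let s := QCohBase.mres F hWV t
  let I : Ideal Γ(X, W) := LinearMap.ker (LinearMap.toSpanSingleton Γ(X, W) Γ(F, W) s)
  have hI : I ≤ (hW.primeIdealOf ⟨x, hxW⟩).asIdeal := fun a ha => by
    by_contra hna
    refine hne ?_
    rw [← AssPts.germ_mres F x hWV hxW t]
    exact (AssPts.germ_eq_zero_iff F hW x hxW s).2 ⟨a, hna, ha⟩
  haveI := (hW.primeIdealOf ⟨x, hxW⟩).isPrime
  obtain ⟨P, hPmin, hPx⟩ := Ideal.exists_minimalPrimes_le hI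
  haveI hP : P.IsPrime := hPmin.1.1
  obtain ⟨y, hyW, hyP⟩ := AssPts.exists_point hW P
  obtain ⟨hIP, hPn⟩ := WeakAss.mem_minimalPrimes_iff_exists_mul_pow_mem.1 hPmin
  have hy : Curv2.IsWeakAssPoint F y := by
    refine (AssPts.isWeakAssPoint_iff F hW y hyW).2 ?_
    rw [hyP]
    exact WeakAss.mem_weakAss_iff.2 ⟨hP, s, fun r hr => hIP hr, fun a ha => hPn a ha⟩
  have hsy : F.presheaf.germ W y hyW s ≠ 0 := fun h0 => by
    obtain ⟨g, hg, hgs⟩ := (AssPts.germ_eq_zero_iff F hW y hyW s).1 h0
    rw [hyP] at hg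
    exact hg (hIP hgs)
  rcases h y with hinj | hn
  · refine hsy (hinj (Eq.trans ?_ (map_zero _).symm))
    refine (TopCat.Presheaf.stalkFunctor_map_germ_apply W y hyW φ.mapPresheaf s).trans ?_
    show G.presheaf.germ W y hyW (φ.app W s) = 0
    rw [show φ.app W s = G.presheaf.map (homOfLE hWV).op (φ.app V t) from
      NatTrans.naturality_apply φ.mapPresheaf (homOfLE hWV).op t, ht, map_zero, map_zero]
  · exact hn hy

end Groth.Agent.S8889
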