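import Groth.Statements.S8890
import Groth.Agent.ZClosLib.Depth
import Groth.Agent.RefDiv.Model
-- import your own Groth.Agent.* helpers here

set_option autoImplicit false
universe u
open CategoryTheory CategoryTheory.Limits AlgebraicGeometry TopologicalSpace
open SDiv

namespace Groth.Agent.S8890

open Groth.Agent.QCohBase Groth.Agent.AssPts TopologicalSpace

theorem alg {R : Type u} [CommRing R] [IsLocalRing R] {M N : Type u} [AddCommGroup M] [Module R M]
    [Module.Finite R M] [AddCommGroup N] [Module R N] (f : M →ₗ[R] N) (hf : Function.Injective f)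
    (hd : (2 : ℕ∞) ≤ LocCoh.depth R M)
    (hN : ¬ ∃ z : N, z ≠ 0 ∧ ∀ a ∈ IsLocalRing.maximalIdeal R, ∃ n : ℕ, a ^ n • z = 0) (n : N)
    (hn : ∀ r ∈ IsLocalRing.maximalIdeal R, r • n ∈ LinearMap.range f) : n ∈ LinearMap.range f := by
  by_contra hn'
  rcases subsingleton_or_nontrivial M with h | h
  · refine hN ⟨n, fun h0 => hn' ⟨0, by rw [map_zero, h0]⟩, fun a ha => ⟨1, ?_⟩⟩
    obtain ⟨u, hu⟩ := hn a ha
    rw [pow_one, ← hu, Subsingleton.elim u 0, map_zero]
  obtain ⟨rs, hl, hmem, hreg⟩ := (Depth.le_idealDepth_iff_exists (n := 2)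
    Depth.maximalIdeal_smul_top_ne_top).1 hd
  match rs, hl with
  | [a, b], _ =>
    obtain ⟨ha, hb⟩ := (RingTheory.Sequence.isWeaklyRegular_cons_iff M a [b]).1 hreg
    have hb' := ((RingTheory.Sequence.isWeaklyRegular_cons_iff _ b []).1 hb).1
    obtain ⟨u, hu⟩ := hn a (hmem a (by simp))
    obtain ⟨v, hv⟩ := hn b (hmem b (by simp))
    have huv : b • u = a • v := hf (by rw [map_smul, map_smul, hu, hv, smul_comm])
    have hu0 : (Submodule.Quotient.mk u : QuotSMulTop a M) = 0 := by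
      apply hb'
      show b • Submodule.Quotient.mk u = b • (0 : QuotSMulTop a M)
      rw [smul_zero, ← Submodule.Quotient.mk_smul, huv, Submodule.Quotient.mk_eq_zero]
      exact Submodule.smul_mem_pointwise_smul _ _ _ Submodule.mem_top
    rw [Submodule.Quotient.mk_eq_zero] at hu0
    obtain ⟨w, -, rfl⟩ := (Submodule.mem_smul_pointwise_iff_exists _ _ _).1 hu0
    refine hN ⟨n - f w, fun h0 => hn' ⟨w, (sub_eq_zero.1 h0).symm⟩, fun r hr => ⟨1, ?_⟩⟩
    obtain ⟨u', hu'⟩ := hn r hr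
    rw [pow_one, smul_sub, ← hu', ← map_smul, ← map_sub]
    have h0 : a • (n - f w) = 0 := by rw [smul_sub, ← map_smul, hu, sub_self]
    have h1 : a • (u' - r • w) = 0 := hf (by
      rw [map_smul, map_sub, hu', map_smul, ← smul_sub, smul_comm, h0, smul_zero, map_zero])
    have h2 : u' - r • w = 0 := ha (by show a • _ = a • _; rw [h1, smul_zero])
    rw [h2, map_zero]

/-- Let X be a locally Noetherian scheme and φ : F ⟶ G a morphism of quasi-coherent O_X-modules with F
coherent. Assume that for every point x of X either the stalk map F_x → G_x is an isomorphism, or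
depth(F_x) ≥ 2 and x is not an associated point of G. Then φ is an isomorphism. -/
theorem result (X : Scheme.{u}) [IsLocallyNoetherian X] {F G : X.Modules} (φ : F ⟶ G)
    (hF : Coh.IsCoh F) (hG : Coh.IsQCoh G)
    (h : ∀ x : ↥X, Function.Bijective ((TopCat.Presheaf.stalkFunctor AddCommGrpCat.{u} x).map (Scheme.Modules.Hom.mapPresheaf φ)) ∨
      ((2 : ℕ∞) ≤ LocCoh.depth (X.presheaf.stalk x) (F.presheaf.stalk x) ∧ ¬ Curv2.IsAssPoint G x)) :
    IsIso φ := by
  haveI := hF.1
  haveI : G.IsQuasicoherent := hG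
  have hinj : ∀ x, Function.Injective (RefHull.stalkMapₗ φ x) := by
    intro x
    rw [injective_iff_map_eq_zero]
    intro z hz
    by_contra hne
    obtain ⟨V, hxV, t, rfl⟩ := TopCat.Presheaf.exists_germ_eq F.presheaf z
    rw [RefHull.stalkMapₗ_germ] at hz
    obtain ⟨V', hxV', i₁, i₂, hV'⟩ := TopCat.Presheaf.germ_eq G.presheaf x hxV hxV _ 0 (hz.trans (map_zero _).symm)
    obtain ⟨_, ⟨(W : X.Opens), hW, rfl⟩, hxW, hWV⟩ :=
      X.isBasis_affineOpens.exists_subset_of_mem_open hxV' V'.isOpen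
    have hWV₁ : W ≤ V := fun p hp => i₁.le (hWV hp)
    obtain ⟨y, hyW, -, hy, hsy⟩ := ZClosLib.exists_ass F hW hxW (mres F hWV₁ t) (by rwa [germ_mres])
    rcases h y with hb | ⟨hd, -⟩
    · refine hsy (hb.1 ?_)
      show (RefHull.stalkMapₗ φ y) _ = (RefHull.stalkMapₗ φ y) 0
      rw [map_zero, germ_mres, RefHull.stalkMapₗ_germ,
        ← TopCat.Presheaf.germ_res_apply G.presheaf i₁ y (hWV hyW), hV', map_zero, map_zero]
    · exact (ZClosLib.one_le_depth_iff F hF y).1 (le_trans (by norm_num) hd) hy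
  refine RefDiv.isIso_of_stalkMap_bijective φ fun x => ⟨hinj x, fun n => ?_⟩
  show n ∈ LinearMap.range (RefHull.stalkMapₗ φ x)
  obtain ⟨_, ⟨(U : X.Opens), hU, rfl⟩, hxU, -⟩ :=
    X.isBasis_affineOpens.exists_subset_of_mem_open (Set.mem_univ x) isOpen_univ
  obtain ⟨g, s, hg, hgs⟩ := exists_germ_smul_eq G hU x hxU n
  suffices hs : G.presheaf.germ U x hxU s ∈ LinearMap.range (RefHull.stalkMapₗ φ x) by
    rw [← hgs] at hs
    exact (Submodule.smul_mem_iff_of_isUnit _ ((notMem_prime_iff hU x hxU g).1 hg)).1 hs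
  by_contra hs
  let I : Ideal Γ(X, U) :=
    { carrier := {a | G.presheaf.germ U x hxU (a • s) ∈ LinearMap.range (RefHull.stalkMapₗ φ x)}
      zero_mem' := by rw [Set.mem_setOf_eq, zero_smul, map_zero]; exact zero_mem _
      add_mem' := fun ha hb => by rw [Set.mem_setOf_eq, add_smul, map_add]; exact add_mem ha hb
      smul_mem' := fun c a ha => by
        rw [Set.mem_setOf_eq, smul_eq_mul, mul_smul, germ_smul']; exact Submodule.smul_mem _ _ ha }
  have hI : I ≤ (hU.primeIdealOf ⟨x, hxU⟩).asIdeal := fun a ha => by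
    by_contra hna
    refine hs ((Submodule.smul_mem_iff_of_isUnit _ ((notMem_prime_iff hU x hxU a).1 hna)).1 ?_)
    rw [← germ_smul']; exact ha
  haveI := isNoetherianRing_sections hU
  obtain ⟨b, P, hP, hPx, -, hPb⟩ := FlatCodim.exists_prime_colon hI
  obtain ⟨y, hyU, hyP⟩ := exists_point hU P
  have hyP' : ∀ a, a ∈ (hU.primeIdealOf ⟨y, hyU⟩).asIdeal ↔ a * b ∈ I := fun a => by rw [hyP, hPb]
  have hle : (hU.primeIdealOf ⟨y, hyU⟩).asIdeal ≤ (hU.primeIdealOf ⟨x, hxU⟩).asIdeal := by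
    rw [hyP]; exact hPx
  -- `b • s` is not in the image at `y`
  have hny : G.presheaf.germ U y hyU (b • s) ∉ LinearMap.range (RefHull.stalkMapₗ φ y) := by
    rintro ⟨z, hz⟩
    obtain ⟨h', t, hh', ht⟩ := exists_germ_smul_eq F hU y hyU z
    have h1 : G.presheaf.germ U y hyU (h' • b • s - φ.app U t) = 0 := by
      rw [map_sub, germ_smul', ← hz, ← map_smul, ht, RefHull.stalkMapₗ_germ, sub_self]
    obtain ⟨g', hg', h2⟩ := (germ_eq_zero_iff G hU y hyU _).1 h1
    rw [smul_sub, sub_eq_zero, ← Scheme.Modules.Hom.app_smul, smul_smul, smul_smul] at h2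
    exact ((hU.primeIdealOf ⟨y, hyU⟩).isPrime.mul_notMem hg' hh') ((hyP' _).2
      ⟨F.presheaf.germ U x hxU (g' • t), by rw [RefHull.stalkMapₗ_germ, ← h2]⟩)
  -- but `m_y` moves it into the image
  have hmy : ∀ r ∈ IsLocalRing.maximalIdeal (X.presheaf.stalk y),
      r • G.presheaf.germ U y hyU (b • s) ∈ LinearMap.range (RefHull.stalkMapₗ φ y) := by
    intro r hr
    obtain ⟨g₁, a, hg₁, har⟩ := exists_ringGerm_mul_eq hU y hyU r
    have ha : a ∈ (hU.primeIdealOf ⟨y, hyU⟩).asIdeal := (mem_prime_iff hU y hyU a).2 (by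
      rw [← har]; exact Ideal.mul_mem_right _ _ hr)
    obtain ⟨z, hz⟩ := (hyP' a).1 ha
    obtain ⟨h', t, hh', ht⟩ := exists_germ_smul_eq F hU x hxU z
    have h1 : G.presheaf.germ U x hxU (h' • (a * b) • s - φ.app U t) = 0 := by
      rw [map_sub, germ_smul', ← hz, ← map_smul, ht, RefHull.stalkMapₗ_germ, sub_self]
    obtain ⟨g', hg', h2⟩ := (germ_eq_zero_iff G hU x hxU _).1 h1
    rw [smul_sub, sub_eq_zero, ← Scheme.Modules.Hom.app_smul, smul_smul] at h2
    have hgh : IsUnit (X.presheaf.germ U y hyU (g' * h')) :=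
      (notMem_prime_iff hU y hyU _).1 fun hm =>
        ((hU.primeIdealOf ⟨x, hxU⟩).isPrime.mul_notMem hg' hh') (hle hm)
    refine (Submodule.smul_mem_iff_of_isUnit _ (hgh.mul ((notMem_prime_iff hU y hyU g₁).1 hg₁))).1 ?_
    refine ⟨F.presheaf.germ U y hyU (g' • t), ?_⟩
    rw [RefHull.stalkMapₗ_germ, ← h2, mul_smul _ (X.presheaf.germ U y hyU g₁),
      smul_smul (X.presheaf.germ U y hyU g₁) r, mul_comm _ r, har, ← germ_smul', ← germ_smul',
      smul_smul, smul_smul]
    simp only [smul_smul]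
    congr 2
    ring
  rcases h y with hb | ⟨hd, hass⟩
  · exact hny (hb.2 _)
  · haveI := ZClosLib.finite_stalk F hF y
    exact hny (alg (RefHull.stalkMapₗ φ y) (hinj y) hd (fun hz => hass
      ((isAssPoint_iff_isWeakAssPoint G y).2 ((isWeakAssPoint_iff' G y).2 hz))) _ hmy)

end Groth.Agent.S8890
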