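import Groth.Statements.S8891
import Groth.Agent.S8890
import Mathlib.AlgebraicGeometry.FunctionField
-- import your own Groth.Agent.* helpers here

set_option autoImplicit false
universe u
open CategoryTheory CategoryTheory.Limits AlgebraicGeometry TopologicalSpace
open SDiv

namespace Groth.Agent.S8891

/-- Let X be an integral locally Noetherian scheme and φ : F ⟶ G a morphism of quasi-coherent
O_X-modules with F coherent and G torsion free. Assume that for every point x either the stalk map
F_x → G_x is an isomorphism, or depth(F_x) ≥ 2 and x is not the generic point of X. Then φ is an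
isomorphism. (The published statement allows the second alternative at the generic point as well;
since the zero module has infinite depth, F = 0 and G = O_X then satisfy every hypothesis while 0 →
O_X is not an isomorphism. The general criterion this is a special case of requires x not to be
associated to G, which for torsion-free G ≠ 0 fails exactly at the generic point; so the generic
point is excluded from the second alternative here.) -/
theorem result (X : Scheme.{u}) [IsIntegral X] [IsLocallyNoetherian X] {F G : X.Modules}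
    (φ : F ⟶ G) (hF : Coh.IsCoh F) (hG : Coh.IsQCoh G)
    (htf : ∀ x : ↥X, NoZeroSMulDivisors ↑(X.presheaf.stalk x) ↑(G.presheaf.stalk x))
    (h : ∀ x : ↥X, Function.Bijective ((TopCat.Presheaf.stalkFunctor AddCommGrpCat.{u} x).map (Scheme.Modules.Hom.mapPresheaf φ)) ∨
      ((2 : ℕ∞) ≤ LocCoh.depth (X.presheaf.stalk x) (F.presheaf.stalk x) ∧ x ≠ genericPoint ↥X)) :
    IsIso φ := by
  refine Groth.Agent.S8890.result X φ hF hG fun x => (h x).imp_right fun ⟨hd, hx⟩ => ⟨hd, fun hass => ?_⟩
  obtain ⟨z, hz, hz'⟩ := (Groth.Agent.AssPts.isWeakAssPoint_iff' G x).1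
    ((Groth.Agent.AssPts.isAssPoint_iff_isWeakAssPoint G x).1 hass)
  obtain ⟨_, ⟨(U : X.Opens), hU, rfl⟩, hxU, -⟩ :=
    X.isBasis_affineOpens.exists_subset_of_mem_open (Set.mem_univ x) isOpen_univ
  have hgx : genericPoint ↥X ⤳ x := (genericPoint_spec ↥X).specializes (Set.mem_univ x)
  have hgU : genericPoint ↥X ∈ U := hgx.mem_open U.isOpen hxU
  obtain ⟨a, ha, ha0⟩ : ∃ a ∈ (hU.primeIdealOf ⟨x, hxU⟩).asIdeal, a ≠ 0 := by
    by_contra! hall
    refine hx ((((Groth.Agent.AssPts.specializes_iff hU _ hgU hxU).2 fun a ha => ?_).antisymm hgx).eq)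
    rw [hall a ha]
    exact zero_mem _
  obtain ⟨n, hn⟩ := hz' _ ((Groth.Agent.AssPts.mem_prime_iff hU x hxU a).1 ha)
  haveI := htf x
  haveI : Nonempty U := ⟨⟨x, hxU⟩⟩
  refine hz ((eq_zero_or_eq_zero_of_smul_eq_zero hn).resolve_left (pow_ne_zero _ fun h0 => ha0 ?_))
  exact germ_injective_of_isIntegral X x hxU (h0.trans (map_zero _).symm)

end Groth.Agent.S8891
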