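import Groth.Statements.S8893
import Groth.Agent.RegImmStalk.Basic
import Groth.Agent.QRFlat.Basic
import Groth.Agent.SymGr.WeaklyReg
import Mathlib

set_option autoImplicit false
universe u
open CategoryTheory CategoryTheory.Limits AlgebraicGeometry TopologicalSpace
open SDiv

open AlgebraicGeometry CategoryTheory Groth.Agent

namespace Groth.Agent.S8893

open TensorProduct in
theorem flat_of_smulRegular {R B : Type u} [CommRing R] [CommRing B] [Algebra R B] [IsLocalRing B]
    [IsNoetherianRing B] {r : B} (hr : r ∈ IsLocalRing.maximalIdeal B) (hreg : IsSMulRegular B r)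
    [Module.Flat R (B ⧸ Ideal.span {r})] : Module.Flat R B := by
  rw [Module.Flat.iff_lTensor_injective]
  intro a ha
  haveI : Module.Finite R a := Module.Finite.iff_fg.2 ha
  let T := a.subtype.baseChange B
  have hq : Function.Injective (LinearMap.lTensor (B ⧸ Ideal.span {r}) a.subtype) :=
    Module.Flat.lTensor_preserves_injective_linearMap _ Subtype.val_injective
  suffices h : LinearMap.ker T = ⊥ by
    intro x y hxy
    exact LinearMap.ker_eq_bot.1 h (a₁ := x) (a₂ := y) hxy
  refine Submodule.eq_bot_of_le_smul_of_le_jacobson_bot (Ideal.span {r}) _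
    (IsNoetherian.noetherian _) ?_ ?_
  · intro x hx
    let q : B →ₗ[R] B ⧸ Ideal.span {r} := (Ideal.Quotient.mkₐ R (Ideal.span {r})).toLinearMap
    let m : B →ₗ[R] B := LinearMap.mulLeft R r
    have hex : Function.Exact m q := by
      intro b
      show Ideal.Quotient.mk _ b = 0 ↔ _
      rw [Ideal.Quotient.eq_zero_iff_mem, Ideal.mem_span_singleton]
      exact ⟨fun ⟨c, hc⟩ => ⟨c, hc.symm⟩, fun ⟨c, hc⟩ => ⟨c, hc.symm⟩⟩
    have hx' : LinearMap.rTensor a q x = 0 := by
      apply hq
      rw [map_zero, ← LinearMap.comp_apply, LinearMap.lTensor_comp_rTensor,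
        ← LinearMap.rTensor_comp_lTensor, LinearMap.comp_apply]
      rw [show LinearMap.lTensor B a.subtype x = 0 from LinearMap.mem_ker.1 hx, map_zero]
    obtain ⟨y, hy⟩ := (rTensor_exact a hex (Ideal.Quotient.mk_surjective) x).1 hx'
    have hmy : ∀ y : B ⊗[R] a, LinearMap.rTensor a m y = r • y := fun y => by
      induction y using TensorProduct.induction_on with
      | zero => simp
      | tmul b c => rw [LinearMap.rTensor_tmul, TensorProduct.smul_tmul']; rfl
      | add u v hu hv => rw [map_add, hu, hv, smul_add]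
    rw [← hy, hmy]
    refine Submodule.smul_mem_smul (Ideal.mem_span_singleton_self r) ?_
    rw [LinearMap.mem_ker]
    have h2 : r • T y = 0 := by
      rw [← map_smul, ← hmy, hy]; exact hx
    apply (TensorProduct.AlgebraTensorModule.rid R B B).injective
    rw [map_zero]
    refine hreg.right_eq_zero_of_smul ?_
    rw [← map_smul, h2, map_zero]
  · rw [IsLocalRing.jacobson_eq_maximalIdeal ⊥ bot_ne_top, Ideal.span_singleton_le_iff_mem]
    exact hr

theorem flat_of_weaklyRegular {R : Type u} [CommRing R] : ∀ (n : ℕ) (B : Type u) [CommRing B]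
    [Algebra R B] [IsLocalRing B] [IsNoetherianRing B] (rs : List B), rs.length = n →
    RingTheory.Sequence.IsWeaklyRegular B rs → (∀ r ∈ rs, r ∈ IsLocalRing.maximalIdeal B) →
    Module.Flat R (B ⧸ Ideal.ofList rs) → Module.Flat R B := by
  intro n
  induction n with
  | zero =>
    intro B _ _ _ _ rs hl _ _ h
    rw [List.length_eq_zero_iff] at hl
    subst hl
    exact Module.Flat.of_linearEquiv
      (((Ideal.quotientEquivAlgOfEq R (Ideal.ofList_nil)).trans (AlgEquiv.quotientBot R B)).symm.toLinearEquiv)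
  | succ n ih =>
    intro B _ _ _ _ rs hl hreg hm h
    obtain ⟨r, rs, rfl⟩ := List.exists_cons_of_length_eq_add_one hl
    obtain ⟨h1, h2⟩ := (RingTheory.Sequence.isWeaklyRegular_cons_iff B r rs).1 hreg
    have hrm : r ∈ IsLocalRing.maximalIdeal B := hm r (List.mem_cons_self ..)
    have hne : Ideal.span {r} ≠ ⊤ := fun h => by
      rw [Ideal.span_singleton_eq_top] at h; exact hrm h
    haveI : Nontrivial (B ⧸ Ideal.span {r}) := Ideal.Quotient.nontrivial_iff.2 hne
    haveI : IsLocalRing (B ⧸ Ideal.span {r}) :=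
      IsLocalRing.of_surjective' (Ideal.Quotient.mk _) Ideal.Quotient.mk_surjective
    have e : QuotSMulTop r B ≃ₗ[B] B ⧸ Ideal.span {r} :=
      Submodule.quotEquivOfEq _ _ (by rw [← Submodule.ideal_span_singleton_smul, smul_eq_mul, Ideal.mul_top])
    haveI : Module.Flat R ((B ⧸ Ideal.span {r}) ⧸ Ideal.ofList (rs.map (algebraMap B (B ⧸ Ideal.span {r})))) := by
      rw [Ideal.ofList_cons] at h
      exact Module.Flat.of_linearEquiv (((Ideal.quotientEquivAlgOfEq R (by rw [← Ideal.map_ofList]; rfl)).trans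
        (DoubleQuot.quotQuotEquivQuotSupₐ R (Ideal.span {r}) (Ideal.ofList rs))).toLinearEquiv)
    haveI := ih (B ⧸ Ideal.span {r}) (rs.map (algebraMap B (B ⧸ Ideal.span {r}))) (by simpa using hl)
      ((RingTheory.Sequence.isWeaklyRegular_map_algebraMap_iff _ _ rs).2 ((e.isWeaklyRegular_congr rs).1 h2))
      (fun x hx => by
        obtain ⟨y, hy, rfl⟩ := List.mem_map.1 hx
        intro hu
        haveI := Ideal.Quotient.mk_surjective.isLocalHom (Ideal.Quotient.mk (Ideal.span {r}))
        exact hm y (List.mem_cons_of_mem _ hy)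
          (isUnit_of_map_unit (Ideal.Quotient.mk (Ideal.span {r})) y hu))
      inferInstance
    exact flat_of_smulRegular hrm h1


/-- Let f : X ⟶ S be a morphism of schemes and i : Z ⟶ X a relative quasi-regular immersion (a
quasi-regular immersion with Z flat over S). If z is a point of Z such that O_{X, i z} is
Noetherian, then f is flat at i z. -/
theorem result {Z X S : Scheme.{u}} (f : X ⟶ S) (i : Z ⟶ X)
    (hi : RegImm.IsRelRegularImmersion RegImm.Kind.quasi f i) (z : ↥Z) [IsNoetherianRing ↑(X.presheaf.stalk (i z))] :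
    (f.stalkMap (i z)).hom.Flat := by
  obtain ⟨⟨hIm, hreg⟩, hfl⟩ := hi
  obtain ⟨U, hzU, hcl, rs, hrs, hker⟩ := hreg z
  haveI := hcl
  haveI := hIm
  haveI : IsAffine U.1.toScheme := U.2
  have hp : IsAffineOpen (i ⁻¹ᵁ U.1) := isAffine_of_isAffineHom (i ∣_ U.1)
  letI := TopCat.Presheaf.algebra_section_stalk X.presheaf (U := U.1) ⟨i z, hzU⟩
  haveI := U.2.isLocalization_stalk ⟨i z, hzU⟩
  let γ := algebraMap Γ(X, U.1) (X.presheaf.stalk (i z))
  have hk : RingHom.ker (i.stalkMap z).hom = Ideal.ofList (rs.map γ) := by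
    rw [RegImmStalk.ker_stalkMap_eq_map i U hp (LCIMor.app_surjective_of_restrict i U.2).1 z hzU, hker,
      ← Ideal.map_ofList]
    rfl
  have hmem : ∀ x ∈ rs.map γ, x ∈ IsLocalRing.maximalIdeal (X.presheaf.stalk (i z)) := fun x hx =>
    IsLocalRing.le_maximalIdeal (RingHom.ker_ne_top (i.stalkMap z).hom) (hk ▸ Ideal.subset_span hx)
  have hq := QRFlat.isQuasiRegular_localization (L := X.presheaf.stalk (i z))
    (U.2.primeIdealOf ⟨i z, hzU⟩).asIdeal.primeCompl (hrs : CAlgX.IsQuasiRegular rs.get)
  have hwr : RingTheory.Sequence.IsWeaklyRegular (X.presheaf.stalk (i z)) (rs.map γ) := by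
    have h2 := SymGr.isWeaklyRegular_of_isQuasiRegular _ _ _ (fun j => by
      rw [IsLocalRing.ringJacobson_eq_maximalIdeal]
      exact hmem _ (List.mem_map_of_mem (List.get_mem rs j))) hq
    convert h2 using 2
    conv_lhs => rw [← List.ofFn_get rs, List.map_ofFn]
    rfl
  algebraize [(f.stalkMap (i z)).hom]
  have hflq : ((i.stalkMap z).hom.comp (f.stalkMap (i z)).hom).Flat := by
    have h := Flat.stalkMap (i ≫ f) z
    rw [Scheme.Hom.stalkMap_comp] at h
    exact h
  letI : Algebra (S.presheaf.stalk (f (i z))) (Z.presheaf.stalk z) :=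
    ((i.stalkMap z).hom.comp (f.stalkMap (i z)).hom).toAlgebra
  haveI : Module.Flat (S.presheaf.stalk (f (i z))) (Z.presheaf.stalk z) := hflq
  let e : X.presheaf.stalk (i z) →ₐ[S.presheaf.stalk (f (i z))] Z.presheaf.stalk z :=
    ⟨(i.stalkMap z).hom, fun _ => rfl⟩
  exact flat_of_weaklyRegular _ _ (rs.map γ) rfl hwr hmem
    (Module.Flat.of_linearEquiv ((Ideal.quotientEquivAlgOfEq _ hk.symm).trans
      (Ideal.quotientKerAlgEquivOfSurjective (f := e) (i.stalkMap_surjective z))).toLinearEquiv)

end Groth.Agent.S8893
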