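import Groth.Statements.S8898
import Groth.Agent.S1682
import Groth.Agent.ModPairLib.Basic
import Groth.Agent.FpqcDescent.IdealComap
-- import your own Groth.Agent.* helpers here

set_option autoImplicit false
universe u
open CategoryTheory CategoryTheory.Limits AlgebraicGeometry TopologicalSpace
open SDiv

namespace Groth.Agent.S8898

/-- Let X be a scheme, 𝓘 a quasi-coherent ideal sheaf and b : X' ⟶ X a blowing up of X in 𝓘. Then the
pullback b⁻¹D is defined for every effective Cartier divisor D ⊆ X (the inverse image ideal of the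
ideal of D is again the ideal of an effective Cartier divisor), and pullbacks of meromorphic
functions are defined for b (b carries regular sections of O_X, i.e. sections whose germs are
nonzerodivisors, to regular sections of O_{X'}). -/
theorem result {X X' : Scheme.{u}} (𝓘 : X.IdealSheafData) (b : X' ⟶ X) (hb : BlowUp.IsBlowUp b 𝓘) :
    (∀ 𝓓 : X.IdealSheafData, BlowUp.IsEffCartierIdeal 𝓓 → BlowUp.IsEffCartierIdeal (𝓓.comap b)) ∧
      ∀ (U : X.Opens) (s : Γ(X, U)), s ∈ Mero.regSub X U → b.app U s ∈ Mero.regSub X' (b ⁻¹ᵁ U) := by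
  haveI : IsIso (b ∣_ ModPair.interior 𝓘) := Groth.Agent.S1682.result 𝓘 b hb
  haveI := Groth.Agent.ModPairLib.std_interior hb.1
  haveI := Groth.Agent.ModPairLib.isAffineHom_interior hb.1
  let U' : X'.Opens := ModPair.interior (𝓘.comap b)
  have hU' : U' = b ⁻¹ᵁ ModPair.interior 𝓘 := Groth.Agent.ModPairLib.interior_comap 𝓘 b
  have part2 : ∀ (U : X.Opens) (s : Γ(X, U)), s ∈ Mero.regSub X U → b.app U s ∈ Mero.regSub X' (b ⁻¹ᵁ U) := by
    intro U s hs x
    rw [mem_nonZeroDivisors_iff_right]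
    intro z hz
    obtain ⟨V, hxV, g, rfl⟩ := TopCat.Presheaf.exists_germ_eq X'.presheaf z
    let W : X'.Opens := V ⊓ b ⁻¹ᵁ U
    have hxW : x.1 ∈ W := ⟨hxV, x.2⟩
    let g' : Γ(X', W) := X'.presheaf.map (homOfLE inf_le_left).op g
    let s' : Γ(X', W) := X'.presheaf.map (homOfLE inf_le_right).op (b.app U s)
    have hgx : X'.presheaf.germ W x.1 hxW g' = X'.presheaf.germ V x.1 hxV g :=
      TopCat.Presheaf.germ_res_apply X'.presheaf (homOfLE inf_le_left) x.1 hxW g
    have hsx : X'.presheaf.germ W x.1 hxW s' = X'.presheaf.germ (b ⁻¹ᵁ U) x.1 x.2 (b.app U s) :=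
      TopCat.Presheaf.germ_res_apply X'.presheaf (homOfLE inf_le_right) x.1 hxW _
    rw [← hgx, ← hsx, ← map_mul] at hz
    rw [← hgx]
    obtain ⟨W₀, hxW₀, i₁, i₂, he⟩ := TopCat.Presheaf.germ_eq X'.presheaf x.1 hxW hxW _ 0 (hz.trans (map_zero _).symm)
    rw [← TopCat.Presheaf.germ_res_apply X'.presheaf i₁ x.1 hxW₀ g',
      show X'.presheaf.map i₁.op g' = 0 from ?_, map_zero]
    apply U'.ι.app_injective W₀
    rw [map_zero]
    refine TopCat.Presheaf.section_ext (U' : Scheme.{u}).sheaf _ _ _ fun y hy => ?_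
    refine Eq.trans ?_ (map_zero _).symm
    refine (U'.ι.germ_stalkMap_apply W₀ y hy (X'.presheaf.map i₁.op g')).symm.trans ?_
    refine (congrArg (U'.ι.stalkMap y) (show X'.presheaf.germ W₀ (U'.ι y) hy (X'.presheaf.map i₁.op g') = 0 from ?_)).trans (map_zero _)
    have hyb : U'.ι y ∈ b ⁻¹ᵁ ModPair.interior 𝓘 := hU' ▸ y.2
    haveI : IsIso (b.stalkMap (U'.ι y)) :=
      ((MorphismProperty.isomorphisms CommRingCat).arrow_mk_iso_iff
        (morphismRestrictStalkMap b (ModPair.interior 𝓘) ⟨U'.ι y, hyb⟩)).1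
        (MorphismProperty.isomorphisms.iff _ |>.2 (((isIso_iff_isIso_stalkMap (b ∣_ ModPair.interior 𝓘)).1 inferInstance).2 _))
    have hbU : b (U'.ι y) ∈ U := (i₁.le hy).2
    let e : X.presheaf.stalk (b (U'.ι y)) ≃+* X'.presheaf.stalk (U'.ι y) :=
      (asIso (b.stalkMap (U'.ι y))).commRingCatIsoToRingEquiv
    have h0 : X'.presheaf.germ W (U'.ι y) (i₁.le hy) (g' * s') = 0 := by
      rw [← TopCat.Presheaf.germ_res_apply X'.presheaf i₁ (U'.ι y) hy (g' * s'), he, map_zero, map_zero]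
    rw [map_mul, show X'.presheaf.germ W (U'.ι y) (i₁.le hy) s' = e (X.presheaf.germ U (b (U'.ι y)) hbU s) from
      (TopCat.Presheaf.germ_res_apply X'.presheaf (homOfLE inf_le_right) (U'.ι y) (i₁.le hy) (b.app U s)).trans
        (b.germ_stalkMap_apply U (U'.ι y) hbU s).symm] at h0
    rw [TopCat.Presheaf.germ_res_apply X'.presheaf i₁ (U'.ι y) hy g']
    apply e.symm.injective
    rw [map_zero]
    refine (mem_nonZeroDivisors_iff.1 (hs ⟨b (U'.ι y), hbU⟩)).2 _ ?_
    have h1 := congrArg e.symm h0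
    rwa [map_mul, map_zero, RingEquiv.symm_apply_apply] at h1
  refine ⟨fun 𝓓 hD x => ?_, part2⟩
  obtain ⟨W, hxW, f, hf, hgen⟩ := hD (b x)
  obtain ⟨W', hW', hxW', hle⟩ := exists_isAffineOpen_mem_and_subset (U := b ⁻¹ᵁ W.1) (x := x) hxW
  have hle : W' ≤ b ⁻¹ᵁ W.1 := hle
  have hreg : f ∈ Mero.regSub X W.1 := fun y => by
    letI := (X.presheaf.germ W.1 y.1 y.2).hom.toAlgebra
    haveI : IsLocalization.AtPrime (X.presheaf.stalk y.1) (W.2.primeIdealOf ⟨y.1, y.2⟩).asIdeal :=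
      W.2.isLocalization_stalk ⟨y.1, y.2⟩
    exact IsLocalization.nonZeroDivisors_le_comap (W.2.primeIdealOf ⟨y.1, y.2⟩).asIdeal.primeCompl
      (X.presheaf.stalk y.1) hf
  refine ⟨⟨W', hW'⟩, hxW', b.appLE W.1 W' hle f, ?_, ?_⟩
  · have h2 : b.appLE W.1 W' hle f ∈ Mero.regSub X' W' := Mero.regSub_res (homOfLE hle) (part2 W.1 f hreg)
    rw [mem_nonZeroDivisors_iff_right]
    intro g hg
    refine TopCat.Presheaf.section_ext X'.sheaf _ _ _ fun y hy => ?_
    refine Eq.trans ?_ (map_zero _).symm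
    refine (mem_nonZeroDivisors_iff.1 (h2 ⟨y, hy⟩)).2 _ ?_
    exact ((map_mul (X'.presheaf.germ W' y hy).hom g (b.appLE W.1 W' hle f)).symm.trans
      (congrArg (X'.presheaf.germ W' y hy) hg)).trans (map_zero _)
  · rw [Groth.Agent.FpqcDescent.ideal_comap 𝓓 b W ⟨W', hW'⟩ hle, hgen, Ideal.map_span, Set.image_singleton]

end Groth.Agent.S8898
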