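import Groth.Statements.S8901
import Groth.Agent.AssPts.Basic
import Groth.Agent.TensorMod.Invertible
-- import your own Groth.Agent.* helpers here

set_option autoImplicit false
universe u
open CategoryTheory CategoryTheory.Limits AlgebraicGeometry TopologicalSpace
open SDiv

namespace Groth.Agent.S8901

/-- Let f : X ⟶ Y be a morphism of schemes under which each weakly associated point of X (of O_X) goes
to a point of Y with no proper generization (the generic point of some irreducible component of Y).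
Then pullbacks of meromorphic functions are defined for f: for every open U ⊆ Y and every regular
section s of O_Y over U, the pulled-back section of O_X over f⁻¹U is regular. -/
theorem result {X Y : Scheme.{u}} (f : X ⟶ Y)
    (h : ∀ x : ↥X, Curv2.IsWeakAssPoint (Coh.structureModule X) x → ∀ y : ↥Y, y ⤳ f x → y = f x)
    (U : Y.Opens) (s : Γ(Y, U)) (hs : s ∈ Mero.regSub Y U) : f.app U s ∈ Mero.regSub X (f ⁻¹ᵁ U) := by
  intro x
  haveI : (Coh.structureModule X).IsQuasicoherent := TensorMod.isQCoh_structureModule X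
  set M := Coh.structureModule X
  rw [mem_nonZeroDivisors_iff_right]
  intro z hz
  by_contra hne
  obtain ⟨_, ⟨(W : X.Opens), hW, rfl⟩, hxW, hWV⟩ :=
    X.isBasis_affineOpens.exists_subset_of_mem_open x.2 (f ⁻¹ᵁ U).isOpen
  let r : Γ(X, W) := X.presheaf.map (homOfLE hWV).op (f.app U s)
  have hr : X.presheaf.germ W x.1 hxW r = X.presheaf.germ (f ⁻¹ᵁ U) x.1 x.2 (f.app U s) :=
    TopCat.Presheaf.germ_res_apply X.presheaf (homOfLE hWV) x.1 hxW (f.app U s)
  obtain ⟨g, t, hg, hgt⟩ := AssPts.exists_ringGerm_mul_eq hW x.1 hxW z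
  have ht : X.presheaf.germ W x.1 hxW t ≠ 0 := fun h0 => hne (by
    rw [h0] at hgt
    exact ((AssPts.notMem_prime_iff hW x.1 hxW g).1 hg).mul_left_eq_zero.1 hgt)
  let I : Ideal Γ(X, W) := LinearMap.ker (LinearMap.toSpanSingleton Γ(X, W) Γ(M, W) (t : Γ(X, W)))
  have hI : I ≤ (hW.primeIdealOf ⟨x.1, hxW⟩).asIdeal := fun a ha => by
    by_contra hna
    have ha' : a * t = 0 := ha
    have h1 := congrArg (X.presheaf.germ W x.1 hxW) ha'
    rw [map_mul, map_zero] at h1
    exact ht (((AssPts.notMem_prime_iff hW x.1 hxW a).1 hna).mul_right_eq_zero.1 h1)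
  haveI := (hW.primeIdealOf ⟨x.1, hxW⟩).isPrime
  obtain ⟨P, hPmin, hPx⟩ := Ideal.exists_minimalPrimes_le hI
  haveI hP : P.IsPrime := hPmin.1.1
  obtain ⟨y, hyW, hyP⟩ := AssPts.exists_point hW P
  obtain ⟨hIP, hPn⟩ := WeakAss.mem_minimalPrimes_iff_exists_mul_pow_mem.1 hPmin
  have hy : Curv2.IsWeakAssPoint M y := by
    refine (AssPts.isWeakAssPoint_iff M hW y hyW).2 ?_
    rw [hyP]
    exact WeakAss.mem_weakAss_iff.2 ⟨hP, (t : Γ(X, W)), fun a ha => hIP ha, fun a ha => hPn a ha⟩
  -- `r` is a unit at `y`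
  have hyU : f y ∈ U := hWV hyW
  have hu : IsUnit (Y.presheaf.germ U (f y) hyU s) := by
    by_contra hnu
    have huniq : ∀ q : PrimeSpectrum (Y.presheaf.stalk (f y)),
        q.asIdeal = IsLocalRing.maximalIdeal (Y.presheaf.stalk (f y)) := by
      intro q
      have hq : (Y.fromSpecStalk (f y)) q ⤳ f y := by
        have hm : (Y.fromSpecStalk (f y)) q ∈ Set.range (Y.fromSpecStalk (f y)) := ⟨q, rfl⟩
        rwa [Scheme.range_fromSpecStalk] at hm
      have h1 := h y hy _ hq
      have h2 : q = IsLocalRing.closedPoint (Y.presheaf.stalk (f y)) :=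
        (Y.fromSpecStalk (f y)).injective (h1.trans Scheme.fromSpecStalk_closedPoint.symm)
      rw [h2]; rfl
    have hnil : IsNilpotent (Y.presheaf.germ U (f y) hyU s) := by
      rw [nilpotent_iff_mem_prime]
      intro J hJ
      rw [show J = _ from huniq ⟨J, hJ⟩]
      exact (IsLocalRing.mem_maximalIdeal _).2 hnu
    obtain ⟨n, hn⟩ := hnil
    exact zero_notMem_nonZeroDivisors (hn ▸ pow_mem (hs ⟨f y, hyU⟩) n)
  have hru : IsUnit (X.presheaf.germ W y hyW r) := by
    have hry : X.presheaf.germ W y hyW r = X.presheaf.germ (f ⁻¹ᵁ U) y hyU (f.app U s) :=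
      TopCat.Presheaf.germ_res_apply X.presheaf (homOfLE hWV) y hyW (f.app U s)
    rw [hry]
    have := hu.map (f.stalkMap y).hom
    rwa [f.germ_stalkMap_apply U y hyU s] at this
  -- but `r` kills `t` near `x`
  have h0 : X.presheaf.germ W x.1 hxW (r * t) = 0 := by
    rw [map_mul, ← hgt, hr, ← mul_assoc, mul_comm _ z, hz, zero_mul]
  letI := (X.presheaf.germ W x.1 hxW).hom.toAlgebra
  haveI : IsLocalization.AtPrime (X.presheaf.stalk x.1) (hW.primeIdealOf ⟨x.1, hxW⟩).asIdeal :=
    hW.isLocalization_stalk ⟨x.1, hxW⟩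
  obtain ⟨⟨a, ha⟩, hat⟩ := (IsLocalization.map_eq_zero_iff
    (hW.primeIdealOf ⟨x.1, hxW⟩).asIdeal.primeCompl (X.presheaf.stalk x.1) (r * t)).1 h0
  have hmem : a * r ∈ P := hIP (show (a * r) * t = 0 from (mul_assoc a r t).trans hat)
  have hyx : (hW.primeIdealOf ⟨y, hyW⟩).asIdeal ≤ (hW.primeIdealOf ⟨x.1, hxW⟩).asIdeal := by
    rw [hyP]; assumption
  rcases hP.mem_or_mem hmem with h1 | h1
  · exact ha (hyx (hyP.ge h1))
  · exact (AssPts.notMem_prime_iff hW y hyW r).2 hru (hyP.ge h1)

end Groth.Agent.S8901
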