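import Groth.Statements.S8902
import Mathlib.AlgebraicGeometry.Morphisms.Flat
-- import your own Groth.Agent.* helpers here

set_option autoImplicit false
universe u
open CategoryTheory CategoryTheory.Limits AlgebraicGeometry TopologicalSpace
open SDiv

namespace Groth.Agent.S8902

/-- Let f : X ⟶ Y be a flat morphism of schemes. Then pullbacks of meromorphic functions are defined for
f: for every open U ⊆ Y and every regular section s of O_Y over U, the pulled-back section of O_X
over f⁻¹U is regular. -/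
theorem result {X Y : Scheme.{u}} (f : X ⟶ Y) [Flat f] (U : Y.Opens) (s : Γ(Y, U))
    (hs : s ∈ Mero.regSub Y U) : f.app U s ∈ Mero.regSub X (f ⁻¹ᵁ U) := by
  intro x
  have hreg := hs ⟨f x.1, x.2⟩
  have hflat : (f.stalkMap x.1).hom.Flat := Flat.stalkMap f x.1
  rw [← f.germ_stalkMap_apply U x.1 x.2 s]
  letI := (f.stalkMap x.1).hom.toAlgebra
  haveI : Module.Flat (Y.presheaf.stalk (f x.1)) (X.presheaf.stalk x.1) := hflat
  set a := Y.presheaf.germ U (f x.1) x.2 s
  have hinj : Function.Injective (LinearMap.lsmul (Y.presheaf.stalk (f x.1)) (Y.presheaf.stalk (f x.1)) a) :=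
    fun u v h => (mul_cancel_left_mem_nonZeroDivisors hreg).1 h
  have h2 := Module.Flat.rTensor_preserves_injective_linearMap (M := X.presheaf.stalk x.1) _ hinj
  rw [mem_nonZeroDivisors_iff_right]
  intro z hz
  have h3 : (LinearMap.lsmul (Y.presheaf.stalk (f x.1)) (X.presheaf.stalk x.1) a) z = 0 := by
    show a • z = 0
    rw [Algebra.smul_def, mul_comm]
    exact hz
  apply (TensorProduct.lid (Y.presheaf.stalk (f x.1)) (X.presheaf.stalk x.1)).symm.injective
  rw [map_zero]
  apply h2
  rw [map_zero, TensorProduct.lid_symm_apply, LinearMap.rTensor_tmul]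
  show (a • (1 : Y.presheaf.stalk (f x.1))) ⊗ₜ[Y.presheaf.stalk (f x.1)] z = 0
  rw [TensorProduct.smul_tmul]
  show (1 : Y.presheaf.stalk (f x.1)) ⊗ₜ[Y.presheaf.stalk (f x.1)] (LinearMap.lsmul _ _ a z) = 0
  rw [h3, TensorProduct.tmul_zero]

end Groth.Agent.S8902
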