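import Groth.Statements.S8903
import Groth.Agent.MeroFrac.Regular
import Groth.Agent.TensorMod.FinLocFree
import Groth.Agent.QCohBase.Localization
-- import your own Groth.Agent.* helpers here

set_option autoImplicit false
universe u
open CategoryTheory CategoryTheory.Limits AlgebraicGeometry TopologicalSpace
open SDiv

namespace Groth.Agent.S8903

open Groth.Agent.GenLocus Groth.Agent.QCohBase

/-- Near each point a relation `g · s = m` can be tested after inverting, up to a power. -/
theorem local_pow {X : Scheme.{u}} {L : X.Modules} (hL : PicF.IsInvertible L) (s : Γ(Mero.merMod L, ⊤))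
    {U : X.Opens} (f : Γ(X, U)) (g : Γ(X, U)) (m : Γ(L, U))
    (h : ∀ (x : X) (hx : x ∈ X.basicOpen f), X.presheaf.germ U x (X.basicOpen_le f hx) g • s.1 ⟨x, trivial⟩ =
      LocalizedModule.mkLinearMap (Mero.regStalk X x) _ (L.presheaf.germ U x (X.basicOpen_le f hx) m))
    (y : U) :
    ∃ (N : ℕ) (W : X.Opens), y.1 ∈ W ∧ ∀ (x : X) (_ : x ∈ W) (hxU : x ∈ U),
      X.presheaf.germ U x hxU (f ^ N * g) • s.1 ⟨x, trivial⟩ =
        LocalizedModule.mkLinearMap (Mero.regStalk X x) _ (L.presheaf.germ U x hxU (f ^ N • m)) := by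
  obtain ⟨V, hyV, i, a, b, w⟩ := s.2 ⟨y.1, trivial⟩
  obtain ⟨W, hW, hyW, hWle, e, he⟩ := exists_isFrame hL (W := V ⊓ U) (x := y.1) ⟨hyV, y.2⟩
  have hWV : W ≤ V := hWle.trans inf_le_left
  have hWU : W ≤ U := hWle.trans inf_le_right
  let d : Γ(L, W) := X.presheaf.map (homOfLE hWU).op g • L.presheaf.map (homOfLE hWV).op a -
    X.presheaf.map (homOfLE hWV).op b.1 • L.presheaf.map (homOfLE hWU).op m
  obtain ⟨c, hc⟩ := he.bijective.2 d
  let f' : Γ(X, W) := X.presheaf.map (homOfLE hWU).op f
  have hcf : X.presheaf.map (homOfLE (X.basicOpen_le f')).op c = 0 := by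
    refine TopCat.Presheaf.section_ext X.sheaf _ _ _ fun x hx => ?_
    refine Eq.trans ?_ (map_zero _).symm
    refine (TopCat.Presheaf.germ_res_apply X.presheaf (homOfLE (X.basicOpen_le f')) x hx c).trans ?_
    have hxW : x ∈ W := X.basicOpen_le f' hx
    have hxf : x ∈ X.basicOpen f := by
      have := (X.mem_basicOpen f' x hxW).1 hx
      rw [TopCat.Presheaf.germ_res_apply] at this
      exact (X.mem_basicOpen f x (hWU hxW)).2 this
    have h1 := h x hxf
    have h2 := w ⟨x, hWV hxW⟩
    dsimp only at h2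
    rw [show s.1 (i ⟨x, hWV hxW⟩) = s.1 ⟨x, trivial⟩ from rfl] at h2
    rw [h2, LocalizedModule.smul'_mk, LocalizedModule.mkLinearMap_apply, LocalizedModule.mk_eq] at h1
    obtain ⟨u, hu⟩ := h1
    rw [one_smul, Submonoid.smul_def, Submonoid.smul_def, Submonoid.smul_def] at hu
    have h3 : (u : X.presheaf.stalk x) • L.presheaf.germ W x hxW d = 0 := by
      show (u : X.presheaf.stalk x) • L.presheaf.germ W x hxW (_ - _) = 0
      rw [map_sub, Mero.germ_smul, Mero.germ_smul, smul_sub, sub_eq_zero]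
      simp only [TopCat.Presheaf.germ_res_apply]
      exact hu
    rw [← hc, Mero.germ_smul, smul_smul] at h3
    have h4 := Groth.Agent.MeroFrac.smul_germ_frame_eq_zero he hxW _ h3
    rw [mul_comm] at h4
    exact (mem_nonZeroDivisors_iff_right.1 (Mero.regStalk_le_nonZeroDivisors x u.2)) _ h4
  haveI := hW.isLocalization_basicOpen f'
  obtain ⟨⟨_, N, rfl⟩, hN⟩ := (IsLocalization.map_eq_zero_iff (Submonoid.powers f') Γ(X, X.basicOpen f') c).1 hcf
  refine ⟨N, W, hyW, fun x hxW hxU => ?_⟩
  have h2 := w ⟨x, hWV hxW⟩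
  dsimp only at h2
  rw [show s.1 (i ⟨x, hWV hxW⟩) = s.1 ⟨x, trivial⟩ from rfl] at h2
  rw [h2, LocalizedModule.smul'_mk, LocalizedModule.mkLinearMap_apply, LocalizedModule.mk_eq]
  refine ⟨1, ?_⟩
  rw [one_smul, one_smul, one_smul, Submonoid.smul_def]
  have h3 : L.presheaf.germ W x hxW (f' ^ N • d) = 0 := by
    rw [← hc]
    dsimp only
    rw [smul_smul, hN, zero_smul, map_zero]
  rw [Mero.germ_smul] at h3
  change X.presheaf.germ W x hxW (f' ^ N) • L.presheaf.germ W x hxW (_ - _) = 0 at h3
  rw [map_sub, Mero.germ_smul, Mero.germ_smul, smul_sub, sub_eq_zero, map_pow] at h3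
  simp only [f', TopCat.Presheaf.germ_res_apply] at h3
  rw [map_mul, map_pow, Mero.germ_smul, map_pow, mul_smul]
  exact h3.trans (smul_comm _ _ _)

/-- Suppose X is a scheme, L is an O_X-module that is invertible, and s is a meromorphic section of L
which is regular. Then the ideal of denominators of s, U ↦ {f ∈ O_X(U) | f·s ∈ L(U)}, is a
quasi-coherent ideal sheaf: there is a quasi-coherent ideal sheaf I whose ideal on every affine open
U is the ideal of denominators over U; and the closed subset of X cut out by I (the support of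
O_X/I) is nowhere dense. The published statement also asserts that the cokernel of the map I → L
given by s is supported on a closed nowhere dense subset; this row does not state that part. -/
theorem result (X : Scheme.{u}) (L : X.Modules) (hL : PicF.IsInvertible L)
    (s : Γ(Mero.merMod L, ⊤)) (hs : Mero.IsRegularMero L s) :
    ∃ I : X.IdealSheafData, (∀ U : X.affineOpens, I.ideal U = Mero.denomIdeal L s U.1) ∧
      interior (I.support : Set ↥X) = ∅ := by
  haveI : L.IsQuasicoherent := Groth.Agent.TensorMod.isQCoh_of_isFinLocFree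
    (Groth.Agent.TensorMod.isFinLocFree_of_isInvertible hL)
  refine ⟨{ ideal := fun U => Mero.denomIdeal L s U.1, map_ideal_basicOpen := fun U f => ?_ }, fun U => rfl, ?_⟩
  · refine le_antisymm (Ideal.map_le_iff_le_comap.2 ?_) ?_
    · rintro g ⟨m, hm⟩
      refine ⟨L.presheaf.map (homOfLE (X.basicOpen_le f)).op m, fun x => ?_⟩
      have := hm ⟨x.1, X.basicOpen_le f x.2⟩
      rw [← TopCat.Presheaf.germ_res_apply L.presheaf (homOfLE (X.basicOpen_le f)) x.1 x.2 m,
        ← TopCat.Presheaf.germ_res_apply X.presheaf (homOfLE (X.basicOpen_le f)) x.1 x.2 g] at this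
      exact this
    · rintro g' ⟨m', hm'⟩
      obtain ⟨n, m₀, hm₀⟩ := exists_pow_smul_eq_mres L U.2 f rfl (X.basicOpen_le f) m'
      haveI := U.2.isLocalization_basicOpen f
      obtain ⟨⟨g₀, _, n', rfl⟩, hg₀⟩ := IsLocalization.surj (Submonoid.powers f) g'
      have hrel : ∀ (x : X) (hx : x ∈ X.basicOpen f),
          X.presheaf.germ U.1 x (X.basicOpen_le f hx) (f ^ n * g₀) • s.1 ⟨x, trivial⟩ =
            LocalizedModule.mkLinearMap (Mero.regStalk X x) _
              (L.presheaf.germ U.1 x (X.basicOpen_le f hx) (f ^ n' • m₀)) := by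
        intro x hx
        have e1 := congrArg (X.presheaf.germ (X.basicOpen f) x hx) hg₀
        rw [map_mul] at e1
        simp only [RingHom.algebraMap_toAlgebra] at e1
        rw [TopCat.Presheaf.germ_res_apply, TopCat.Presheaf.germ_res_apply] at e1
        have e2 := congrArg (L.presheaf.germ (X.basicOpen f) x hx) hm₀
        replace e2 := e2.trans (Mero.germ_smul L (X.basicOpen f) x hx _ _)
        rw [map_pow] at e2
        unfold mres ores at e2
        rw [TopCat.Presheaf.germ_res_apply, TopCat.Presheaf.germ_res_apply] at e2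
        have e3 : X.presheaf.germ (X.basicOpen f) x hx g' • s.1 ⟨x, trivial⟩ =
            LocalizedModule.mkLinearMap (Mero.regStalk X x) _ (L.presheaf.germ (X.basicOpen f) x hx m') := hm' ⟨x, hx⟩
        rw [map_mul, ← e1, map_pow, map_pow, Mero.germ_smul, map_pow, e2, map_smul, map_smul, ← e3,
          smul_smul, smul_smul]
        congr 1
        ring
      choose N W hyW hN using local_pow hL s f (f ^ n * g₀) (f ^ n' • m₀) hrel
      obtain ⟨S, hS⟩ := U.2.isCompact.elim_finite_subcover (fun y : U.1 => (W y : Set X)) (fun y => (W y).2)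
        (fun y hy => Set.mem_iUnion.2 ⟨⟨y, hy⟩, hyW _⟩)
      have hmem : f ^ S.sup N * (f ^ n * g₀) ∈ Mero.denomIdeal L s U.1 := by
        refine ⟨f ^ S.sup N • (f ^ n' • m₀), fun x => ?_⟩
        obtain ⟨y, hyS, hxy⟩ := Set.mem_iUnion₂.1 (hS x.2)
        obtain ⟨d, hd⟩ := Nat.exists_eq_add_of_le (Finset.le_sup (f := N) hyS)
        have := congrArg (fun q => X.presheaf.germ U.1 x.1 x.2 (f ^ d) • q) (hN y x.1 hxy x.2)
        simp only [← map_smul, smul_smul, ← map_mul, ← Mero.germ_smul] at this
        rw [show f ^ S.sup N * (f ^ n * g₀) = f ^ d * (f ^ N y * (f ^ n * g₀)) by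
            rw [hd, pow_add]; ring,
          show f ^ S.sup N • (f ^ n' • m₀) = (f ^ d * f ^ N y) • (f ^ n' • m₀) by
            rw [hd, pow_add, mul_comm]]
        simp only [smul_smul, mul_assoc] at this ⊢
        exact this
      have hu : IsUnit (X.presheaf.map (homOfLE (X.basicOpen_le f)).op f) := X.toRingedSpace.isUnit_res_basicOpen f
      have hmap := Ideal.mem_map_of_mem (X.presheaf.map (homOfLE (X.basicOpen_le f)).op).hom hmem
      simp only [RingHom.algebraMap_toAlgebra] at hg₀
      rw [map_mul, map_mul, map_pow, map_pow, ← hg₀, map_pow,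
        Ideal.unit_mul_mem_iff_mem _ (hu.pow _), Ideal.unit_mul_mem_iff_mem _ (hu.pow _),
        Ideal.mul_unit_mem_iff_mem _ (hu.pow _)] at hmap
      exact hmap
  · refine Set.eq_empty_iff_forall_notMem.2 fun y hy => ?_
    obtain ⟨V, hyV, i, a, b, w⟩ := s.2 ⟨y, trivial⟩
    obtain ⟨O, hOsub, hO, hyO⟩ := mem_interior.1 hy
    obtain ⟨W, hW, hyW, hWle⟩ := exists_isAffineOpen_mem_and_subset (U := V ⊓ (⟨O, hO⟩ : X.Opens)) (x := y) ⟨hyV, hyO⟩
    have hWV : W ≤ V := fun z hz => (hWle hz).1
    let b' : Γ(X, W) := X.presheaf.map (homOfLE hWV).op b.1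
    have hb' : b' ∈ Mero.denomIdeal L s W := by
      refine ⟨L.presheaf.map (homOfLE hWV).op a, fun x => ?_⟩
      have h2 := w ⟨x.1, hWV x.2⟩
      dsimp only at h2
      rw [show s.1 (i ⟨x.1, hWV x.2⟩) = s.1 ⟨x.1, trivial⟩ from rfl] at h2
      rw [TopCat.Presheaf.germ_res_apply, TopCat.Presheaf.germ_res_apply, h2, LocalizedModule.smul'_mk,
        LocalizedModule.mkLinearMap_apply, LocalizedModule.mk_eq]
      exact ⟨1, by rw [one_smul, one_smul, one_smul]; rfl⟩
    obtain ⟨k, hk⟩ : IsNilpotent b' := by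
      rw [nilpotent_iff_mem_prime]
      intro J hJ
      haveI := hJ
      obtain ⟨z, hzW, rfl⟩ := Groth.Agent.AssPts.exists_point hW J
      by_contra hz'
      have hzb : z ∈ X.basicOpen b' := (X.mem_basicOpen b' z hzW).2 ((Groth.Agent.AssPts.notMem_prime_iff hW z hzW b').1 hz')
      have hzs := hOsub (hWle hzW).2
      rw [SetLike.mem_coe, Scheme.IdealSheafData.mem_support_iff_of_mem (U := ⟨W, hW⟩) hzW,
        Scheme.mem_zeroLocus_iff] at hzs
      exact hzs b' hb' hzb
    have hreg : X.presheaf.germ W y hyW b' ∈ nonZeroDivisors (X.presheaf.stalk y) := by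
      rw [TopCat.Presheaf.germ_res_apply]
      exact b.2 ⟨y, hWV hyW⟩
    have h0 := Submonoid.pow_mem _ hreg k
    rw [← map_pow, hk, map_zero] at h0
    exact zero_notMem_nonZeroDivisors h0

end Groth.Agent.S8903
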