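import Groth.Statements.S8904
import Groth.Agent.MeroFrac.Basic
-- import your own Groth.Agent.* helpers here

set_option autoImplicit false
universe u
open CategoryTheory CategoryTheory.Limits AlgebraicGeometry TopologicalSpace
open SDiv

namespace Groth.Agent.S8904

/-- Let X be a scheme such that (a) each weakly associated point of X (of O_X) has no proper
generization, i.e. is the generic point of some irreducible component, and (b) every quasi-compact
open of X has finitely many irreducible components. Then for every point x the monoid S_x of germs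
of regular sections is the set of all nonzerodivisors of O_{X,x} (so K_{X,x} is the total ring of
fractions of O_{X,x}), and for every affine open U the ring K_X(U) is the total ring of fractions of
O_X(U). -/
theorem result (X : Scheme.{u})
    (ha : ∀ x : ↥X, Curv2.IsWeakAssPoint (Coh.structureModule X) x → ∀ y : ↥X, y ⤳ x → y = x)
    (hb : ∀ U : X.Opens, IsCompact (U : Set ↥X) → (irreducibleComponents ↥(U : Scheme.{u})).Finite) :
    (∀ x : ↥X, Mero.regStalk X x = nonZeroDivisors ↑(X.presheaf.stalk x)) ∧
      ∀ U : X.affineOpens,
        @IsLocalization Γ(X, U.1) _ (nonZeroDivisors Γ(X, U.1)) Γ(Mero.kmod X, U.1) _ (Mero.toK X U.1).toAlgebra := by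
  have hfin : ∀ U : X.Opens, IsAffineOpen U → (Groth.Agent.MeroFrac.wass U).Finite := by
    intro U hU
    haveI := (hb U hU.isCompact).to_subtype
    let f : Groth.Agent.MeroFrac.wass U → irreducibleComponents ↥(U : Scheme.{u}) := fun z =>
      ⟨closure {(⟨z.1, z.2.1⟩ : ↥(U : Scheme.{u}))}, isIrreducible_singleton.closure, fun T hT hle => by
        obtain ⟨g, hg⟩ := QuasiSober.sober hT.closure isClosed_closure
        have hgz : g ⤳ (⟨z.1, z.2.1⟩ : ↥(U : Scheme.{u})) :=
          hg.specializes (subset_closure (hle (subset_closure rfl)))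
        have he : g = (⟨z.1, z.2.1⟩ : ↥(U : Scheme.{u})) :=
          Subtype.ext (ha z.1 z.2.2 g.1 (hgz.map continuous_subtype_val))
        subst he
        intro w hw
        exact specializes_iff_mem_closure.1 (hg.specializes (subset_closure hw))⟩
    rw [← Set.finite_coe_iff]
    refine Finite.of_injective f fun a b hab => ?_
    have h : closure {(⟨a.1, a.2.1⟩ : ↥(U : Scheme.{u}))} = closure {(⟨b.1, b.2.1⟩ : ↥(U : Scheme.{u}))} :=
      congrArg Subtype.val hab
    exact Subtype.ext (congrArg (fun w : ↥(U : Scheme.{u}) => w.1) (inseparable_iff_closure_eq.2 h).eq :)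
  refine ⟨fun x => ?_, fun U => Groth.Agent.MeroFrac.isLocalization_of_finite U.2 (hfin U.1 U.2)⟩
  obtain ⟨U, hU, hxU, -⟩ := exists_isAffineOpen_mem_and_subset (U := (⊤ : X.Opens)) (x := x) trivial
  exact Groth.Agent.MeroFrac.regStalk_eq hU (hfin U hU) hxU

end Groth.Agent.S8904
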