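import Groth.Statements.S8907
import Groth.Agent.BlowExist.Mul

set_option autoImplicit false
universe u
open CategoryTheory CategoryTheory.Limits AlgebraicGeometry TopologicalSpace
open SDiv

namespace Groth.Agent.S8907

/-- Let S be a scheme, Z ⊆ S a closed subscheme with quasi-coherent ideal sheaf 𝓘, D ⊆ S an effective
Cartier divisor with ideal sheaf 𝓓, and Z' the closed subscheme cut out by the product 𝓘𝓓. Then a
blowing up b : S' ⟶ S of S in Z is also a blowing up of S in Z'. -/
theorem result {S S' : Scheme.{u}} (𝓘 𝓓 : S.IdealSheafData) (h𝓓 : BlowUp.IsEffCartierIdeal 𝓓)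
    (b : S' ⟶ S) (hb : BlowUp.IsBlowUp b 𝓘) : BlowUp.IsBlowUp b (𝓘 * 𝓓) := by
  refine ⟨?_, fun Y g hg => hb.2 Y g (Groth.Agent.BlowExist.isEffCartier_of_mul_left (B := 𝓓.comap g) ?_)⟩
  · rw [Groth.Agent.ModPairLib.comap_mul]
    exact Groth.Agent.BlowExist.isEffCartier_mul hb.1
      (Groth.Agent.BlowExist.isEffCartier_comap_blowUp hb h𝓓)
  · rwa [← Groth.Agent.ModPairLib.comap_mul]

end Groth.Agent.S8907
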