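import Groth.Statements.S8925
import Groth.Agent.InjHullBasic.Noetherian
-- import your own Groth.Agent.* helpers here

set_option autoImplicit false
universe u
open InjHull

namespace Groth.Agent.S8925

/-- If S is a flat R-algebra and E is an injective S-module, then E, viewed as an R-module by
restriction of scalars, is an injective R-module. -/
theorem result (R S : Type u) [CommRing R] [CommRing S] [Algebra R S] [Module.Flat R S] (E : Type u) [AddCommGroup E] [Module S E] [Module R E] [IsScalarTower R S E] [Module.Injective S E] : Module.Injective R E := by
  refine Module.Baer.injective fun a g => ?_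
  let ι : TensorProduct R S a →ₗ[S] TensorProduct R S R := a.subtype.baseChange S
  have hι : Function.Injective ι :=
    Module.Flat.lTensor_preserves_injective_linearMap a.subtype Subtype.val_injective
  obtain ⟨Φ, hΦ⟩ := Module.Injective.extension_property S E _ _ ι hι (g.liftBaseChange S)
  refine ⟨(Φ.restrictScalars R) ∘ₗ TensorProduct.mk R S R 1, fun x hx => ?_⟩
  have := LinearMap.congr_fun hΦ (TensorProduct.tmul R (1 : S) (⟨x, hx⟩ : a))
  simpa [ι] using this

end Groth.Agent.S8925
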