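import Groth.Statements.S8926
import Groth.Agent.InjHullBasic.Noetherian
-- import your own Groth.Agent.* helpers here

set_option autoImplicit false
universe u
open InjHull

namespace Groth.Agent.S8926

/-- Suppose R → S is an epimorphism of rings and E is an S-module whose underlying R-module (via
restriction of scalars) is injective; then E is injective as an S-module as well. -/
theorem result (R S : Type u) [CommRing R] [CommRing S] [Algebra R S] [Algebra.IsEpi R S] (E : Type u) [AddCommGroup E] [Module S E] [Module R E] [IsScalarTower R S E] [Module.Injective R E] : Module.Injective S E := by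
  refine ⟨fun X Y _ _ _ _ i hi φ => ?_⟩
  let _ : Module R X := Module.compHom X (algebraMap R S)
  let _ : Module R Y := Module.compHom Y (algebraMap R S)
  have : IsScalarTower R S X := IsScalarTower.of_algebraMap_smul fun _ _ => rfl
  have : IsScalarTower R S Y := IsScalarTower.of_algebraMap_smul fun _ _ => rfl
  obtain ⟨h, hh⟩ := Module.Injective.extension_property R E X Y (i.restrictScalars R) hi
    (φ.restrictScalars R)
  refine ⟨{ h with map_smul' := fun s y => ?_ }, LinearMap.congr_fun hh⟩
  let B : S →ₗ[R] S →ₗ[R] E := LinearMap.mk₂ R (fun a b => a • h (b • y))
    (fun a₁ a₂ b => add_smul a₁ a₂ _) (fun r a b => smul_assoc r a _)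
    (fun a b₁ b₂ => by simp only [add_smul, map_add, smul_add])
    (fun r a b => by rw [smul_assoc, map_smul, smul_comm])
  have := congrArg (TensorProduct.lift B)
    ((Algebra.isEpi_iff_forall_one_tmul_eq R S).mp inferInstance s)
  simpa [B] using this

end Groth.Agent.S8926
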