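import Groth.Statements.S8930
import Mathlib


set_option autoImplicit false
set_option linter.style.haveILetI false
universe u
open AlgebraicGeometry
open Disc

namespace Groth.Agent.S8930

open AlgebraicGeometry CategoryTheory in
theorem bijective_away {R S : Type u} [CommRing R] [CommRing S] (φ : R →+* S)
    (h : IsOpenImmersion (Spec.map (CommRingCat.ofHom φ))) (f : R)
    (hf : ∀ p : PrimeSpectrum R, f ∉ p.asIdeal → ∃ q : PrimeSpectrum S, PrimeSpectrum.comap φ q = p) :
    Function.Bijective (IsLocalization.Away.map (Localization.Away f) (Localization.Away (φ f)) φ f) := by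
  set ψ := IsLocalization.Away.map (Localization.Away f) (Localization.Away (φ f)) φ f
  set i := Spec.map (CommRingCat.ofHom (algebraMap R (Localization.Away f)))
  set g := Spec.map (CommRingCat.ofHom ψ)
  have hc : ψ.comp (algebraMap R (Localization.Away f)) = (algebraMap S (Localization.Away (φ f))).comp φ :=
    IsLocalization.map_comp _
  haveI : IsOpenImmersion i := IsOpenImmersion.of_isLocalization f
  haveI : IsOpenImmersion (Spec.map (CommRingCat.ofHom (algebraMap S (Localization.Away (φ f))))) :=
    IsOpenImmersion.of_isLocalization (φ f)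
  have hgi : g ≫ i = Spec.map (CommRingCat.ofHom (algebraMap S (Localization.Away (φ f)))) ≫
      Spec.map (CommRingCat.ofHom φ) := by
    rw [← Spec.map_comp, ← Spec.map_comp, ← CommRingCat.ofHom_comp, ← CommRingCat.ofHom_comp, hc]
  haveI : IsOpenImmersion (g ≫ i) := hgi ▸ inferInstance
  haveI : IsOpenImmersion g := IsOpenImmersion.of_comp g i
  haveI : Surjective g := ⟨fun p => by
    have hpf : f ∉ (PrimeSpectrum.comap (algebraMap R (Localization.Away f)) p).asIdeal := fun h =>
      p.2.ne_top (Ideal.eq_top_of_isUnit_mem _ h (IsLocalization.Away.algebraMap_isUnit f))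
    obtain ⟨q, hq⟩ := hf _ hpf
    have hqf : φ f ∉ q.asIdeal := fun h => hpf (hq ▸ h)
    obtain ⟨r, hr⟩ : q ∈ Set.range (PrimeSpectrum.comap (algebraMap S (Localization.Away (φ f)))) := by
      rw [PrimeSpectrum.localization_away_comap_range _ (φ f)]; exact hqf
    refine ⟨r, PrimeSpectrum.localization_comap_injective (Localization.Away f) (Submonoid.powers f) ?_⟩
    show PrimeSpectrum.comap _ (PrimeSpectrum.comap ψ r) = _
    rw [← hq, ← hr, ← PrimeSpectrum.comap_comp_apply, ← PrimeSpectrum.comap_comp_apply, hc]⟩
  haveI : IsIso g := (isIso_iff_isOpenImmersion_and_epi_base g).2 ⟨inferInstance,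
    (TopCat.epi_iff_surjective _).2 g.surjective⟩
  haveI : IsIso (Scheme.Spec.map (CommRingCat.ofHom ψ).op) := ‹IsIso g›
  haveI := isIso_of_reflects_iso (CommRingCat.ofHom ψ).op Scheme.Spec
  haveI := isIso_of_op (CommRingCat.ofHom ψ)
  exact ConcreteCategory.bijective_of_isIso (CommRingCat.ofHom ψ)


open CategoryTheory in
/-- Given two factorizations A → B' → B and A → B'' → B of a ring map with A → B' and A → B'' finite and
Spec(B) → Spec(B'), Spec(B) → Spec(B'') open immersions, there is an A-subalgebra C of B which is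
finite over A, contains the images of B' and B'', and is such that Spec(B) → Spec(C) is an open
immersion. (Such an A → B is quasi-finite; that hypothesis of the published statement is implied by
the factorizations and is not repeated.) -/
theorem result (A B B' B'' : Type u) [CommRing A] [CommRing B] [CommRing B'] [CommRing B''] [Algebra A B] [Algebra A B'] [Algebra A B''] [Algebra B' B] [Algebra B'' B] [IsScalarTower A B' B] [IsScalarTower A B'' B] [Module.Finite A B'] [Module.Finite A B''] (h' : IsOpenImmersion (Spec.map (CommRingCat.ofHom (algebraMap B' B)))) (h'' : IsOpenImmersion (Spec.map (CommRingCat.ofHom (algebraMap B'' B)))) : ∃ C : Subalgebra A B, Module.Finite A C ∧ Set.range (algebraMap B' B) ⊆ (C : Set B) ∧ Set.range (algebraMap B'' B) ⊆ (C : Set B) ∧ IsOpenImmersion (Spec.map (CommRingCat.ofHom C.val.toRingHom)) := by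
  let f₁ : B' →ₐ[A] B := IsScalarTower.toAlgHom A B' B
  let f₂ : B'' →ₐ[A] B := IsScalarTower.toAlgHom A B'' B
  let C : Subalgebra A B := f₁.range ⊔ f₂.range
  haveI : Module.Finite A f₁.range := Module.Finite.of_surjective f₁.rangeRestrict.toLinearMap f₁.rangeRestrict_surjective
  haveI : Module.Finite A f₂.range := Module.Finite.of_surjective f₂.rangeRestrict.toLinearMap f₂.rangeRestrict_surjective
  refine ⟨C, Subalgebra.finite_sup _ _, ?_, ?_, ?_⟩
  · rintro _ ⟨x, rfl⟩
    exact (show f₁.range ≤ C from le_sup_left) ⟨x, rfl⟩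
  · rintro _ ⟨x, rfl⟩
    exact (show f₂.range ≤ C from le_sup_right) ⟨x, rfl⟩
  let φ : B' →+* C := (f₁.codRestrict C fun x => (show f₁.range ≤ C from le_sup_left) ⟨x, rfl⟩).toRingHom
  have hφ : C.val.toRingHom.comp φ = algebraMap B' B := rfl
  set j := Spec.map (CommRingCat.ofHom (algebraMap B' B))
  have hinj : Function.Injective (Spec.map (CommRingCat.ofHom C.val.toRingHom)) := fun x y hxy => by
    haveI := h'
    refine j.isOpenEmbedding.injective ?_
    show PrimeSpectrum.comap (algebraMap B' B) x = PrimeSpectrum.comap (algebraMap B' B) y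
    rw [← hφ, PrimeSpectrum.comap_comp_apply, PrimeSpectrum.comap_comp_apply]
    exact congrArg (PrimeSpectrum.comap φ) hxy
  refine IsOpenImmersion.of_forall_source_exists _ hinj fun x => ?_
  obtain ⟨_, ⟨f, rfl⟩, hxf, hsub⟩ := PrimeSpectrum.isTopologicalBasis_basic_opens.exists_subset_of_mem_open
    (show j x ∈ Set.range j from ⟨x, rfl⟩) (haveI := h'; j.isOpenEmbedding.isOpen_range)
  let c : C := φ f
  let ρ := IsLocalization.Away.map (Localization.Away c) (Localization.Away (C.val.toRingHom c)) C.val.toRingHom c
  have hρ : Function.Bijective ρ := by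
    have hb := bijective_away (algebraMap B' B) h' f fun p hp => hsub hp
    refine ⟨(injective_iff_map_eq_zero ρ).2 fun z hz => ?_, fun z => ?_⟩
    · obtain ⟨b, n, rfl⟩ := IsLocalization.exists_mk'_eq (Submonoid.powers c) z
      simp only [ρ, IsLocalization.Away.map, IsLocalization.map_mk', IsLocalization.mk'_eq_zero_iff] at hz
      obtain ⟨⟨_, k, rfl⟩, hk⟩ := hz
      exact (IsLocalization.mk'_eq_zero_iff _ _).2 ⟨⟨c ^ k, k, rfl⟩, Subtype.ext (by simpa using hk)⟩
    obtain ⟨w, rfl⟩ := hb.2 z
    obtain ⟨b, n, rfl⟩ := IsLocalization.exists_mk'_eq (Submonoid.powers f) w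
    obtain ⟨k, hk⟩ := n.2
    refine ⟨IsLocalization.mk' _ (φ b) (⟨c ^ k, k, rfl⟩ : Submonoid.powers c), ?_⟩
    simp only [ρ, IsLocalization.Away.map, IsLocalization.map_mk']
    congr 1
    refine Subtype.ext ?_
    show C.val.toRingHom (c ^ k) = algebraMap B' B (n : B')
    rw [map_pow, ← show f ^ k = (n : B') from hk, map_pow]
    rfl
  refine ⟨Spec (.of (Localization.Away (C.val.toRingHom c))),
    Spec.map (CommRingCat.ofHom (algebraMap B _)), IsOpenImmersion.of_isLocalization (C.val.toRingHom c), ?_, ?_⟩
  · show x ∈ Set.range _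
    exact (PrimeSpectrum.localization_away_comap_range _ (C.val.toRingHom c)).ge hxf
  · haveI : IsIso (CommRingCat.ofHom ρ) := (ConcreteCategory.isIso_iff_bijective _).2 hρ
    haveI : IsOpenImmersion (Spec.map (CommRingCat.ofHom (algebraMap C (Localization.Away c)))) :=
      IsOpenImmersion.of_isLocalization c
    rw [← Spec.map_comp, ← CommRingCat.ofHom_comp,
      ← show ρ.comp (algebraMap C (Localization.Away c)) = (algebraMap B _).comp C.val.toRingHom from
        IsLocalization.map_comp _, CommRingCat.ofHom_comp, Spec.map_comp]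
    infer_instance

end Groth.Agent.S8930
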