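import Groth.Statements.S8933
import Groth.Agent.RGammaLib.Torsion
-- import your own Groth.Agent.* helpers here

set_option autoImplicit false
universe u
open CategoryTheory CategoryTheory.Limits
attribute [local instance] HasDerivedCategory.standard
open LocCoh

namespace Groth.Agent.S8933

/-- For a ring A, a finitely generated ideal I and a complex K of A-modules such that multiplication by
some f ∈ I is bijective on every term of K, the object RΓ_I(K) of D(A) is zero; here RΓ_I is the
right derived functor of the I-power torsion functor, assumed to exist. -/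
theorem result (A : Type u) [CommRing A] (I : Ideal A) (hI : I.FG) [DRing.HasRgammaI I] (K : CochainComplex (ModuleCat.{u} A) ℤ) (f : A) (hf : f ∈ I) (hK : ∀ n : ℤ, Function.Bijective (fun x : K.X n => f • x)) : IsZero ((DRing.RgammaI I).obj (DerivedCategory.Q.obj K)) := by
  obtain ⟨C, j, hC, hj, -, -⟩ := Groth.Agent.S0476.result K
  haveI := hj
  haveI := RGammaLib.isIso_eta_kInj I C hC
  haveI : IsIso (f • 𝟙 K) := by
    haveI : ∀ n, IsIso ((f • 𝟙 K).f n) := fun n =>
      (ConcreteCategory.isIso_iff_bijective _).2 (hK n)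
    exact HomologicalComplex.Hom.isIso_of_components _
  have hcomm : DerivedCategory.Q.map (f • 𝟙 K) ≫ DerivedCategory.Q.map j =
      DerivedCategory.Q.map j ≫ DerivedCategory.Q.map (f • 𝟙 C) := by
    rw [← Functor.map_comp, ← Functor.map_comp, Linear.smul_comp, Linear.comp_smul, Category.id_comp, Category.comp_id]
  haveI : IsIso (DerivedCategory.Q.map j ≫ DerivedCategory.Q.map (f • 𝟙 C)) := hcomm ▸ inferInstance
  haveI := IsIso.of_isIso_comp_left (DerivedCategory.Q.map j) (DerivedCategory.Q.map (f • 𝟙 C))
  have hnat := RGammaLib.eta_natural I (f • 𝟙 C)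
  haveI : IsIso (DerivedCategory.Q.map ((RGammaLib.gammaC I).map (f • 𝟙 C)) ≫ RGammaLib.eta I C) := hnat ▸ inferInstance
  haveI := IsIso.of_isIso_comp_right (DerivedCategory.Q.map ((RGammaLib.gammaC I).map (f • 𝟙 C))) (RGammaLib.eta I C)
  let G := (RGammaLib.gammaC I).obj C
  have hG : (RGammaLib.gammaC I).map (f • 𝟙 C) = f • 𝟙 G :=
    HomologicalComplex.hom_ext _ _ fun _ => ModuleCat.hom_ext (LinearMap.ext fun _ => Subtype.ext rfl)
  haveI hq : QuasiIso (f • 𝟙 G) := by
    rw [← hG]; exact (DerivedCategory.isIso_Q_map_iff_quasiIso _ _).1 inferInstance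
  have hex : ∀ n, G.ExactAt n := fun n => by
    have h1 : IsIso (ShortComplex.homologyMap (f • 𝟙 (G.sc n))) := by
      have := (quasiIsoAt_iff_isIso_homologyMap (f • 𝟙 G) n).1 inferInstance
      exact this
    rw [ShortComplex.homologyMap_smul, ShortComplex.homologyMap_id] at h1
    have hinj := ((ConcreteCategory.isIso_iff_bijective _).1 h1).1
    rw [HomologicalComplex.exactAt_iff_isZero_homology]
    let e := Iso.toLinearEquiv ((DerivedCategory.homologyFunctorFactors (ModuleCat.{u} A) n).app G)
    refine ModuleCat.isZero_of_iff_subsingleton.2 (subsingleton_of_forall_eq 0 fun y => ?_)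
    obtain ⟨m, hm⟩ := (RGammaLib.tors_iff I G).1 (RGammaLib.tors_gammaC I C) n (e.symm y)
    have hy : f ^ m • y = 0 := by
      have h2 := congrArg e (hm _ (Ideal.pow_mem_pow hf m))
      rwa [map_smul, map_zero, LinearEquiv.apply_symm_apply] at h2
    clear hm
    induction m generalizing y with
    | zero => simpa using hy
    | succ m ih =>
      refine ih y (hinj ?_)
      show f • (f ^ m • y) = f • (0 : G.homology n)
      exact ((smul_smul f (f ^ m) y).trans ((congrArg (fun c : A => c • y) (pow_succ' f m).symm).trans hy)).trans (smul_zero f).symm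
  haveI : QuasiIso (0 : G ⟶ G) := ⟨fun n => (quasiIsoAt_iff_exactAt _ _ (hex n)).2 (hex n)⟩
  have h0 : Limits.IsZero (DerivedCategory.Q.obj G) := by
    haveI : IsIso (0 : DerivedCategory.Q.obj G ⟶ DerivedCategory.Q.obj G) := by
      rw [← Functor.map_zero DerivedCategory.Q]; infer_instance
    rw [Limits.IsZero.iff_id_eq_zero, ← cancel_mono (0 : DerivedCategory.Q.obj G ⟶ DerivedCategory.Q.obj G)]
    simp
  exact h0.of_iso ((DRing.RgammaI I).mapIso (asIso (DerivedCategory.Q.map j)) ≪≫ (asIso (RGammaLib.eta I C)).symm)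

end Groth.Agent.S8933
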