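import Groth.Statements.S8936
import Groth.Agent.InjHullBasic.Noetherian
-- import your own Groth.Agent.* helpers here

set_option autoImplicit false
universe u v
open InjHull

namespace Groth.Agent.S8936

/-- For a directed system (E_i) of R-modules over a nonempty directed preorder and a compatible family
of essential injections M → E_i, the induced map from M to the direct limit of the E_i is an
essential injection. -/
theorem result (R : Type u) [CommRing R] (ι : Type v) [Preorder ι] [IsDirectedOrder ι] [DecidableEq ι] (i₀ : ι) (E : ι → Type v) [∀ i, AddCommGroup (E i)] [∀ i, Module R (E i)] (f : ∀ i j, i ≤ j → E i →ₗ[R] E j) [DirectedSystem E fun i j h => f i j h] (M : Type v) [AddCommGroup M] [Module R M] (g : ∀ i, M →ₗ[R] E i) (hg : ∀ i j (h : i ≤ j), f i j h ∘ₗ g i = g j) (he : ∀ i, InjHull.IsEssentialInj (g i)) : InjHull.IsEssentialInj (Module.DirectLimit.of R ι E f i₀ ∘ₗ g i₀) := by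
  have hof : ∀ (j : ι) (h : i₀ ≤ j) (x : M), Module.DirectLimit.of R ι E f j (g j x) =
      Module.DirectLimit.of R ι E f i₀ (g i₀ x) := fun j h x => by
    rw [← hg i₀ j h, LinearMap.comp_apply, Module.DirectLimit.of_f]
  have hinj : Function.Injective (Module.DirectLimit.of R ι E f i₀ ∘ₗ g i₀) := fun x y hxy => by
    obtain ⟨j, hij, hj⟩ := Module.DirectLimit.exists_eq_of_of_eq hxy
    rw [← LinearMap.comp_apply, ← LinearMap.comp_apply, hg i₀ j hij] at hj
    exact (he j).injective hj
  have : Nonempty ι := ⟨i₀⟩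
  refine ⟨hinj, fun N hN hbot => ?_⟩
  obtain ⟨z, hz, hz0⟩ := Submodule.exists_mem_ne_zero_of_ne_bot hN
  obtain ⟨i, e, rfl⟩ := Module.DirectLimit.exists_of z
  obtain ⟨k, hik, hk⟩ := exists_ge_ge i i₀
  have he0 : f i k hik e ≠ 0 := fun h => hz0 (by rw [← Module.DirectLimit.of_f (hij := hik), h, map_zero])
  obtain ⟨y, ⟨hy, x, rfl⟩, hy0⟩ := Submodule.exists_mem_ne_zero_of_ne_bot
    ((he k).essential (R ∙ f i k hik e) (by simpa using he0))
  obtain ⟨r, hr⟩ := Submodule.mem_span_singleton.mp hy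
  have hmem : (Module.DirectLimit.of R ι E f i₀ ∘ₗ g i₀) x ∈ N := by
    rw [LinearMap.comp_apply, ← hof k hk x, ← hr, map_smul, Module.DirectLimit.of_f]
    exact N.smul_mem r hz
  have h0 : (Module.DirectLimit.of R ι E f i₀ ∘ₗ g i₀) x = 0 :=
    (Submodule.mem_bot R).mp (hbot ▸ ⟨hmem, x, rfl⟩)
  exact hy0 (by rw [(map_eq_zero_iff _ hinj).mp h0, map_zero])

end Groth.Agent.S8936
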