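import Groth.Statements.S8972
import Mathlib


set_option autoImplicit false
set_option backward.isDefEq.respectTransparency false
open Synt

namespace Groth.Agent.S8972

section Pre

open MvPolynomial

variable (n d : ℕ)

private def zeroIdx : UnivIdx n d := ⟨fun _ => 0, by simp⟩

private lemma exponent_zero : (zeroIdx n d).exponent = 0 := by
  ext i
  simp [UnivIdx.exponent, zeroIdx]

private abbrev J : Type := (Fin n × {E : UnivIdx n d // E ≠ zeroIdx n d}) ⊕ Fin n

private noncomputable def solved (i : Fin n) : MvPolynomial (J n d) ℤ :=
  - ∑ E : {E : UnivIdx n d // E ≠ zeroIdx n d},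
      X (Sum.inl (i, E)) * E.1.exponent.prod fun k e => (X (Sum.inr k)) ^ e

private noncomputable def subst : UnivBase n d →+* MvPolynomial (J n d) ℤ :=
  eval₂Hom (Int.castRingHom _) fun p =>
    if h : p.2 = zeroIdx n d then solved n d p.1 else X (Sum.inl (p.1, ⟨p.2, h⟩))

private noncomputable def toPoly :
    MvPolynomial (Fin n) (UnivBase n d) →+* MvPolynomial (J n d) ℤ :=
  eval₂Hom (subst n d) fun k => X (Sum.inr k)

private lemma toPoly_univPoly (i : Fin n) : toPoly n d (univPoly n d i) = 0 := by
  rw [univPoly, map_sum, ← Finset.add_sum_erase _ _ (Finset.mem_univ (zeroIdx n d))]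
  have h1 : toPoly n d (monomial (zeroIdx n d).exponent (X (i, zeroIdx n d))) = solved n d i := by
    simp [toPoly, subst, exponent_zero]
  rw [h1, solved, neg_add_eq_zero]
  symm
  rw [Finset.sum_subtype (Finset.univ.erase (zeroIdx n d)) (p := fun E => E ≠ zeroIdx n d)
    (fun E => by simp) (fun E => toPoly n d (monomial E.exponent (X (i, E))))]
  refine Finset.sum_congr rfl fun E _ => ?_
  simp [toPoly, subst, E.2, eval₂Hom_monomial]

private noncomputable def fromPoly : MvPolynomial (J n d) ℤ →+* UnivAlg n d :=
  eval₂Hom (Int.castRingHom _) fun j => match j with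
    | Sum.inl (i, E) => UnivAlg.mk n d (C (X (i, E.1)))
    | Sum.inr k => UnivAlg.mk n d (X k)

private noncomputable def equiv : UnivAlg n d ≃+* MvPolynomial (J n d) ℤ :=
  RingEquiv.ofRingHom
    (Ideal.Quotient.lift (univIdeal n d) (toPoly n d) fun a ha => by
      have : univIdeal n d ≤ RingHom.ker (toPoly n d) := Ideal.span_le.2 (by
        rintro _ ⟨i, rfl⟩
        exact toPoly_univPoly n d i)
      exact this ha)
    (fromPoly n d)
    (by
      refine MvPolynomial.ringHom_ext (fun r => by simp) fun j => ?_
      rcases j with ⟨i, E⟩ | k
      · rw [RingHom.comp_apply]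
        simp only [fromPoly, eval₂Hom_X']
        refine (Ideal.Quotient.lift_mk _ _ _).trans ?_
        simp [toPoly, subst, E.2]
      · rw [RingHom.comp_apply]
        simp only [fromPoly, eval₂Hom_X']
        refine (Ideal.Quotient.lift_mk _ _ _).trans ?_
        simp [toPoly])
    (by
      refine Ideal.Quotient.ringHom_ext ?_
      refine MvPolynomial.ringHom_ext ?_ fun k => ?_
      · intro a
        show fromPoly n d (toPoly n d (C a)) = UnivAlg.mk n d (C a)
        rw [toPoly, eval₂Hom_C]
        suffices (fromPoly n d).comp (subst n d) = (UnivAlg.mk n d : MvPolynomial (Fin n) (UnivBase n d) →+* UnivAlg n d).comp C from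
          RingHom.congr_fun this a
        refine MvPolynomial.ringHom_ext (fun r => by simp) fun p => ?_
        obtain ⟨i, E⟩ := p
        by_cases hE : E = zeroIdx n d
        · subst hE
          show fromPoly n d (subst n d (X (i, zeroIdx n d))) = UnivAlg.mk n d (C (X (i, zeroIdx n d)))
          have h0 : UnivAlg.mk n d (univPoly n d i) = 0 :=
            Ideal.Quotient.eq_zero_iff_mem.2 (Ideal.subset_span ⟨i, rfl⟩)
          rw [univPoly, map_sum, ← Finset.add_sum_erase _ _ (Finset.mem_univ (zeroIdx n d)),
            exponent_zero, ← C_apply, add_eq_zero_iff_eq_neg] at h0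
          simp only [subst, eval₂Hom_X', dif_pos, solved, map_neg, map_sum, map_mul]
          rw [h0, neg_inj]
          symm
          rw [Finset.sum_subtype (Finset.univ.erase (zeroIdx n d)) (p := fun E => E ≠ zeroIdx n d)
            (fun E => by simp) (fun E => UnivAlg.mk n d (monomial E.exponent (X (i, E))))]
          refine Finset.sum_congr rfl fun E _ => ?_
          rw [monomial_eq, map_mul, map_finsuppProd, map_finsuppProd]
          simp [fromPoly]
        · show fromPoly n d (subst n d (X (i, E))) = UnivAlg.mk n d (C (X (i, E)))
          simp [subst, fromPoly, hE]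
      · show fromPoly n d (toPoly n d (X k)) = UnivAlg.mk n d (X k)
        simp [toPoly, fromPoly])

end Pre

/-- Let n, d ≥ 1 and let B = A[x_1, …, x_n]/(f_1, …, f_n) be the universal algebra over A = ℤ[a_{i,E}],
f_i = Σ_E a_{i,E} x^E summed over exponent vectors E with |E| ≤ d. Then B is an integral domain and
every localization of B at a prime ideal is a regular local ring. (The published statement says that
X_{n,d} = Spec A and the quasi-finite locus Y_{n,d} ⊆ Spec B are regular and irreducible; for A, a
polynomial ring over ℤ, this is standard, and for the open Y_{n,d} it follows from the assertion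
about all of Spec B made here, which is what the printed argument shows. The published statement
also asserts that Y_{n,d} → X_{n,d} is locally quasi-finite and syntomic, an instance of the general
characterisation of quasi-finite syntomic maps; that clause is not part of this row.) -/
theorem result (n d : ℕ) (hn : 1 ≤ n) (hd : 1 ≤ d) : IsDomain (Synt.UnivAlg n d) ∧ ∀ q : PrimeSpectrum (Synt.UnivAlg n d), IsRegularLocalRing (Localization.AtPrime q.asIdeal) := by
  let e := equiv n d
  haveI : Finite (J n d) := inferInstance
  haveI := IsRegularRing.of_ringEquiv e.symm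
  exact ⟨e.toMulEquiv.isDomain, fun q => IsRegularRing.isRegularLocalRing_localization q.asIdeal⟩

end Groth.Agent.S8972
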