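import Groth.Statements.S8973
import Mathlib


set_option autoImplicit false
set_option backward.isDefEq.respectTransparency false
set_option maxHeartbeats 800000
set_option synthInstance.maxHeartbeats 100000
open Synt

namespace Groth.Agent.S8973

section Pre

open MvPolynomial

variable (n d : ℕ)

/-- The specialisation `a_{i,E} ↦ [E = e_i]`, `x ↦ 0`. -/
private noncomputable def ev : MvPolynomial (Fin n) (UnivBase n d) →+* ℤ :=
  eval₂Hom (eval₂Hom (Int.castRingHom ℤ)
    fun p => if p.2.exponent = Finsupp.single p.1 1 then 1 else 0) fun _ => 0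

private lemma ev_monomial (E : UnivIdx n d) (i : Fin n) :
    ev n d (monomial E.exponent (X (i, E))) = 0 := by
  rw [ev, eval₂Hom_monomial, eval₂Hom_X']
  split_ifs with h
  · simp only at h
    rw [h, Finsupp.prod_single_index] <;> simp
  · simp

private lemma ev_univPoly (i : Fin n) : ev n d (univPoly n d i) = 0 := by
  rw [univPoly, map_sum]
  exact Finset.sum_eq_zero fun E _ => ev_monomial n d E i

private lemma exponent_injective : Function.Injective (UnivIdx.exponent : UnivIdx n d → Fin n →₀ ℕ) := by
  intro E F h
  exact Subtype.ext (funext fun k => Fin.ext (DFunLike.congr_fun h k))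

private lemma ev_pderiv (hd : 1 ≤ d) (i k : Fin n) :
    ev n d (pderiv k (univPoly n d i)) = if i = k then 1 else 0 := by
  classical
  let U : UnivIdx n d := ⟨fun l => if l = i then ⟨1, by omega⟩ else 0, by
    rw [Finset.sum_eq_single i (fun b _ hb => by simp [hb]) (by simp)]
    simpa using hd⟩
  have hU : U.exponent = Finsupp.single i 1 := by
    ext l
    by_cases hl : l = i
    · subst hl; simp [U, UnivIdx.exponent]
    · simp [U, UnivIdx.exponent, hl, Finsupp.single_eq_of_ne hl]
  rw [univPoly, map_sum, map_sum, Finset.sum_eq_single U]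
  · rw [pderiv_monomial, hU]
    by_cases hik : i = k
    · subst hik
      simp [ev, eval₂Hom_monomial, hU]
    · simp [ev, eval₂Hom_monomial, Finsupp.single_eq_of_ne (Ne.symm hik), hik]
  · intro E _ hE
    rw [pderiv_monomial, ev, eval₂Hom_monomial, map_mul, eval₂Hom_X',
      if_neg fun h => hE (exponent_injective n d (h.trans hU.symm))]
    simp
  · simp

private lemma etale_of_jacobian {A B : Type} [CommRing A] [CommRing B] [Algebra A B] {m : ℕ}
    (P0 : Algebra.PreSubmersivePresentation A B (Fin m) (Fin m)) (q : Ideal B) [q.IsPrime]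
    (hgq : P0.jacobian ∉ q) : Algebra.QuasiFiniteAt A q ∧ Algebra.IsEtaleAt A q := by
  let T := Localization.Away P0.jacobian
  let Q := Algebra.PreSubmersivePresentation.localizationAway T P0.jacobian
  let P : Algebra.SubmersivePresentation A T (Unit ⊕ Fin m) (Unit ⊕ Fin m) :=
    { Q.comp P0 with
      jacobian_isUnit := by
        rw [Algebra.PreSubmersivePresentation.comp_jacobian_eq_jacobian_smul_jacobian,
          Algebra.smul_def]
        exact (IsLocalization.Away.algebraMap_isUnit P0.jacobian).mul
          (Algebra.SubmersivePresentation.localizationAway T P0.jacobian).jacobian_isUnit }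
  haveI : Algebra.IsStandardSmoothOfRelativeDimension 0 A T :=
    P.isStandardSmoothOfRelativeDimension (by
      simp [Algebra.Presentation.dimension])
  haveI : Algebra.Etale A T := inferInstance
  have hu : IsUnit (algebraMap B (Localization.AtPrime q) P0.jacobian) :=
    IsLocalization.map_units (M := q.primeCompl) (Localization.AtPrime q) ⟨P0.jacobian, hgq⟩
  letI : Algebra T (Localization.AtPrime q) := (IsLocalization.Away.lift P0.jacobian hu).toAlgebra
  haveI : IsScalarTower B T (Localization.AtPrime q) :=
    IsScalarTower.of_algebraMap_eq fun x => (IsLocalization.Away.lift_eq P0.jacobian hu x).symm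
  haveI : IsScalarTower A T (Localization.AtPrime q) :=
    IsScalarTower.to₁₃₄ A B T (Localization.AtPrime q)
  haveI : IsLocalization (q.primeCompl.map (algebraMap B T)) (Localization.AtPrime q) :=
    IsLocalization.isLocalization_of_submonoid_le T (Localization.AtPrime q)
      (Submonoid.powers P0.jacobian) q.primeCompl (Submonoid.powers_le.2 hgq)
  haveI : Algebra.FormallyEtale T (Localization.AtPrime q) :=
    Algebra.FormallyEtale.of_isLocalization (q.primeCompl.map (algebraMap B T))
  have h1 : Algebra.FormallyEtale A (Localization.AtPrime q) :=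
    Algebra.FormallyEtale.comp A T (Localization.AtPrime q)
  haveI : Algebra.QuasiFinite A T := inferInstance
  haveI : Algebra.QuasiFinite T (Localization.AtPrime q) :=
    Algebra.QuasiFinite.of_isLocalization (q.primeCompl.map (algebraMap B T))
  have h2 : Algebra.QuasiFinite A (Localization.AtPrime q) :=
    Algebra.QuasiFinite.trans (R := A) (S := T) (T := Localization.AtPrime q)
  exact ⟨h2, h1⟩


private lemma etale_point {A : Type} [CommRing A] {m : ℕ} (v : Fin m → MvPolynomial (Fin m) A)
    (ev : MvPolynomial (Fin m) A →+* ℤ) (h0 : ∀ i, ev (v i) = 0)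
    (hJ : ∀ i k, ev (pderiv k (v i)) = if i = k then 1 else 0) :
    ∃ q : PrimeSpectrum (MvPolynomial (Fin m) A ⧸ Ideal.span (Set.range v)),
      Algebra.QuasiFiniteAt A q.asIdeal ∧ Algebra.IsEtaleAt A q.asIdeal := by
  classical
  let P0 : Algebra.PreSubmersivePresentation A (MvPolynomial (Fin m) A ⧸ Ideal.span (Set.range v)) (Fin m) (Fin m) :=
    Algebra.PreSubmersivePresentation.naive (v := v) id Function.injective_id
  let evB : MvPolynomial (Fin m) A ⧸ Ideal.span (Set.range v) →+* ℤ := Ideal.Quotient.lift (Ideal.span (Set.range v)) ev fun a ha => by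
    have : Ideal.span (Set.range v) ≤ RingHom.ker ev := Ideal.span_le.2 (by
      rintro _ ⟨i, rfl⟩
      exact h0 i)
    exact this ha
  have hval : ∀ p : MvPolynomial (Fin m) A, evB (Ideal.Quotient.mk _ p) = ev p := fun p => rfl
  have hg : evB P0.jacobian = 1 := by
    rw [Algebra.PreSubmersivePresentation.jacobian_eq_jacobiMatrix_det, RingHom.map_det]
    refine (RingHom.map_det evB _).trans ?_
    rw [show evB.mapMatrix ((algebraMap P0.Ring _).mapMatrix P0.jacobiMatrix) = 1 from ?_,
      Matrix.det_one]
    ext i k
    simp only [RingHom.mapMatrix_apply, Matrix.map_apply]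
    rw [show P0.jacobiMatrix i k = MvPolynomial.pderiv (id i) ((v k)) from
      Algebra.PreSubmersivePresentation.jacobiMatrix_apply _ _ _]
    show ev (MvPolynomial.pderiv i ((v k))) = _
    rw [hJ, Matrix.one_apply]
    simp [eq_comm]
  haveI hq : (RingHom.ker evB).IsPrime := RingHom.ker_isPrime evB
  exact ⟨⟨RingHom.ker evB, hq⟩,
    etale_of_jacobian P0 (RingHom.ker evB) fun h => one_ne_zero (hg.symm.trans h)⟩

end Pre

/-- Let n, d ≥ 1 and let B = A[x_1, …, x_n]/(f_1, …, f_n) be the universal algebra over A = ℤ[a_{i,E}],
f_i = Σ_E a_{i,E} x^E summed over exponent vectors E with |E| ≤ d. Then there is a prime q of B at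
which B is quasi-finite over A and étale over A (that is, B_q is quasi-finite and formally étale
over A). (The published statement asserts a dense open V of the quasi-finite locus Y_{n,d} ⊆ Spec B
that is étale over Spec A; as Spec B is irreducible and the étale locus is open, that amounts to the
existence of one such point, which is what is stated here and what the printed argument exhibits.) -/
theorem result (n d : ℕ) (hn : 1 ≤ n) (hd : 1 ≤ d) : ∃ q : PrimeSpectrum (Synt.UnivAlg n d), Algebra.QuasiFiniteAt (Synt.UnivBase n d) q.asIdeal ∧ Algebra.IsEtaleAt (Synt.UnivBase n d) q.asIdeal := by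
  exact etale_point (Synt.univPoly n d) (ev n d) (ev_univPoly n d) (ev_pderiv n d hd)

end Groth.Agent.S8973
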