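import Groth.Statements.S8980
import Groth.Agent.VCov.Basic

set_option autoImplicit false
universe u
open HTop

namespace Groth.Agent.S8980

open CategoryTheory CategoryTheory.Limits AlgebraicGeometry in
/-- A family of morphisms T_i → T, indexed by a type in the universe of T and all locally of finite
presentation, is an h covering if and only if the one-member family given by the induced morphism
from the coproduct of the T_i to T is an h covering. (The published statement also lists, as a
further equivalent condition, that some h covering refines the family; that equivalence is immediate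
from the definitions and is not restated here.) -/
theorem result {T : Scheme.{u}} (E : PreZeroHypercover.{u} T) (hE : ∀ i, LocallyOfFinitePresentation (E.f i)) : HTop.IsHCover E ↔ HTop.IsHCover (PreZeroHypercover.singleton.{0} (Sigma.desc E.f)) := by
  refine ⟨fun h => ⟨fun _ => ?_, ?_⟩, fun h => ⟨hE, ?_⟩⟩
  · exact IsZariskiLocalAtSource.sigmaDesc hE
  · refine Groth.Agent.VCov.isVCover_of_refines (F := E) (fun i => ⟨PUnit.unit, Sigma.ι E.X i, ?_⟩) h.2
    exact (Sigma.ι_desc _ _).trans (Category.comp_id _).symm
  · refine Groth.Agent.VCov.isVCover_of_refines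
      (F := (PreZeroHypercover.singleton.{0} (Sigma.desc E.f)).bind fun _ => { I₀ := E.I₀, X := E.X, f := Sigma.ι E.X })
      (fun k => ⟨k.2, 𝟙 _, ?_⟩)
      (Groth.Agent.VCov.isVCover_bind h.2 fun _ => Groth.Agent.VCov.isVCover_sigmaι E.X)
    show 𝟙 _ ≫ E.f k.2 = (Sigma.ι E.X k.2 ≫ Sigma.desc E.f) ≫ 𝟙 T
    rw [Category.id_comp, Category.comp_id, Sigma.ι_desc]

end Groth.Agent.S8980
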