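import Groth.Statements.S8992
import Groth.Agent.AWN.SchemeLocal
import Mathlib.FieldTheory.Perfect
import Mathlib.Algebra.Field.ZMod

set_option autoImplicit false
universe u
open HTop

namespace Groth.Agent.S8992
open Groth.Agent

open Groth.Agent

lemma isReduced_perfect {B : Type u} [CommRing B] (p : ℕ) [Fact p.Prime] [CharP B p] [PerfectRing B p] :
    IsReduced B :=
  isReduced_iff_pow_one_lt p (Fact.out : p.Prime).one_lt |>.mpr fun a ha =>
    (bijective_frobenius B p).1 (by rw [map_zero]; exact ha)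

lemma pow_root_sq {B : Type u} [CommRing B] (p : ℕ) [Fact p.Prime] [CharP B p] [PerfectRing B p] {x y : B}
    (hxy : x ^ 3 = y ^ 2) : ∃ a : B, x = a ^ 2 ∧ y = a ^ 3 := by
  haveI := isReduced_perfect (B := B) p
  by_cases hp2 : p = 2
  · subst hp2
    obtain ⟨a, ha⟩ := (bijective_frobenius B 2).2 x
    rw [frobenius_def] at ha
    refine ⟨a, ha.symm, frobenius_inj B 2 ?_⟩
    simp only [frobenius_def]
    rw [← hxy, ← ha]; ring
  · have hp := (Fact.out : p.Prime).two_le
    obtain ⟨m, hm⟩ : ∃ m, p = m + 3 := ⟨p - 3, by omega⟩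
    obtain ⟨l, hl⟩ : Even m := by
      rcases (Fact.out : p.Prime).eq_two_or_odd' with h | ⟨k, hk⟩
      · exact absurd h hp2
      · exact ⟨k - 1, by omega⟩
    obtain ⟨a, ha⟩ := (bijective_frobenius B p).2 (x ^ l * y)
    rw [frobenius_def] at ha
    refine ⟨a, frobenius_inj B p ?_, frobenius_inj B p ?_⟩
    · simp only [frobenius_def]
      rw [← pow_mul, mul_comm 2 p, pow_mul, ha, mul_pow, ← hxy, hm, hl]; ring
    · simp only [frobenius_def]
      rw [← pow_mul, mul_comm 3 p, pow_mul, ha, hm, hl]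
      calc _ = (y ^ 2) ^ l * y ^ 3 := by ring
        _ = (x ^ 3) ^ l * y ^ 3 := by rw [hxy]
        _ = _ := by ring

lemma isAWNRing_of_perfect {B : Type u} [CommRing B] (p : ℕ) [Fact p.Prime] [CharP B p] [PerfectRing B p] :
    HTop.IsAWNRing B := by
  haveI := isReduced_perfect (B := B) p
  exact ⟨fun x y hxy => by
    obtain ⟨a, h2, h3⟩ := pow_root_sq p hxy
    exact ⟨a, ⟨h2, h3⟩, fun b hb => AWN.eq_of_sq_cube (hb.1.symm.trans h2) (hb.2.symm.trans h3)⟩, fun q hq x y hxy => by
    suffices h : ∃ a : B, x = a ^ q ∧ y = (q : B) * a by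
      obtain ⟨a, h1, h2⟩ := h
      exact ⟨a, ⟨h1, h2⟩, fun b hb => AWN.eq_of_pow_prime hq (hb.1.symm.trans h1) (hb.2.symm.trans h2)⟩
    by_cases hqp : q = p
    · subst hqp
      obtain ⟨a, ha⟩ := (bijective_frobenius B q).2 x
      refine ⟨a, ha.symm, ?_⟩
      rw [CharP.cast_eq_zero, zero_pow hq.ne_zero, zero_mul] at hxy
      rw [CharP.cast_eq_zero, zero_mul]
      exact frobenius_inj B q (by simp only [frobenius_def]; rw [← hxy, zero_pow hq.ne_zero])
    · have hu : IsUnit (q : B) := by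
        rw [← map_natCast (ZMod.castHom (dvd_refl p) B) q]
        refine RingHom.isUnit_map _ ((isUnit_iff_ne_zero).mpr fun h => hqp ?_)
        exact ((Nat.prime_dvd_prime_iff_eq (Fact.out : p.Prime) hq).mp ((CharP.cast_eq_zero_iff (ZMod p) p q).mp h)).symm
      obtain ⟨v, hv⟩ := hu.exists_right_inv
      exact ⟨v * y, by rw [mul_pow, ← hxy, ← mul_assoc, ← mul_pow, mul_comm v, hv, one_pow, one_mul],
        by rw [← mul_assoc, hv, one_mul]⟩⟩


/-- An algebra over the prime field with p elements is absolutely weakly normal if and only if its p-th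
power map is bijective (the algebra is perfect). -/
theorem result (p : ℕ) [Fact p.Prime] (A : Type u) [CommRing A] [Algebra (ZMod p) A] : HTop.IsAWNRing A ↔ PerfectRing A p := by
  rcases subsingleton_or_nontrivial A with hsub | hnt
  · refine ⟨fun _ => ?_, fun _ => ?_⟩
    · exact ⟨⟨fun a b _ => Subsingleton.elim a b, fun a => ⟨a, Subsingleton.elim _ _⟩⟩⟩
    · exact ⟨fun x y _ => ⟨0, ⟨Subsingleton.elim _ _, Subsingleton.elim _ _⟩, fun b _ => Subsingleton.elim _ _⟩,
        fun p _ x y _ => ⟨0, ⟨Subsingleton.elim _ _, Subsingleton.elim _ _⟩, fun b _ => Subsingleton.elim _ _⟩⟩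
  haveI : CharP A p := charP_of_injective_algebraMap (RingHom.injective (algebraMap (ZMod p) A)) p
  refine ⟨fun h => ?_, fun h => isAWNRing_of_perfect p⟩
  haveI := AWN.isReduced_of_seminormal h.1
  refine PerfectRing.ofSurjective A p fun x => ?_
  obtain ⟨a, ⟨ha, -⟩, -⟩ := h.2 p Fact.out x 0
    (by rw [CharP.cast_eq_zero, zero_pow (Fact.out : p.Prime).ne_zero, zero_mul])
  exact ⟨a, ha.symm⟩

end Groth.Agent.S8992
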