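import Groth.Statements.S8995
import Mathlib
import Groth.Agent.WEtale.Basic
-- import your own Groth.Agent.* helpers here

set_option autoImplicit false
universe v u
open FlatMor

namespace Groth.Agent.S8995

open CategoryTheory CategoryTheory.Limits AlgebraicGeometry in
/-- For an etale morphism T → S and a point t of T over s, a module over the local ring of T at t is
flat over the local ring of S at s (through the stalk map) if and only if it is flat over the local
ring of T at t. -/
theorem result {T S : Scheme.{u}} (g : T ⟶ S) [Etale g] (t : T) (M : Type v) [AddCommGroup M] [Module (T.presheaf.stalk t) M] [Algebra (S.presheaf.stalk (g.base t)) (T.presheaf.stalk t)] [Module (S.presheaf.stalk (g.base t)) M] [IsScalarTower (S.presheaf.stalk (g.base t)) (T.presheaf.stalk t) M] (halg : algebraMap (S.presheaf.stalk (g.base t)) (T.presheaf.stalk t) = (g.stalkMap t).hom) : Module.Flat (S.presheaf.stalk (g.base t)) M ↔ Module.Flat (T.presheaf.stalk t) M := by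
  constructor
  · intro hM
    have hu : (g.stalkMap t).hom.FormallyUnramified := FormallyUnramified.stalkMap g t
    have he : (g.stalkMap t).hom.EssFiniteType := LocallyOfFiniteType.stalkMap g t
    rw [← halg, RingHom.formallyUnramified_algebraMap] at hu
    rw [← halg, RingHom.essFiniteType_algebraMap] at he
    let A := S.presheaf.stalk (g.base t)
    let B := T.presheaf.stalk t
    let μ := Algebra.TensorProduct.lmul' A (S := B)
    have hfg : (KaehlerDifferential.ideal A B).FG := KaehlerDifferential.ideal_fg A B
    have hid : IsIdempotentElem (KaehlerDifferential.ideal A B) :=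
      (Ideal.cotangent_subsingleton_iff _).mp (inferInstanceAs (Subsingleton (KaehlerDifferential A B)))
    obtain ⟨e, he', hI⟩ := (Ideal.isIdempotentElem_iff_of_fg _ hfg).mp hid
    have hflat : μ.Flat := by
      letI := μ.toRingHom.toAlgebra
      have hs : Function.Surjective μ := fun b => ⟨b ⊗ₜ 1, by simp [μ]⟩
      haveI : IsLocalization.Away (1 - e) B :=
        IsLocalization.away_of_isIdempotentElem he'.one_sub (by rw [sub_sub_cancel]; exact hI) hs
      exact IsLocalization.flat B (Submonoid.powers (1 - e))
    exact Groth.Agent.WEtale.flat_of_flat_lmul' (A := A) (B := B) (N := M) hflat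
  · intro hM
    haveI : Module.Flat (S.presheaf.stalk (g.base t)) (T.presheaf.stalk t) := by
      have h := Flat.stalkMap g t
      rw [← halg] at h
      exact RingHom.flat_algebraMap_iff.mp h
    exact Module.Flat.trans _ (T.presheaf.stalk t) M
end Groth.Agent.S8995
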