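import Groth.Statements.S9007
import Mathlib.AlgebraicGeometry.Morphisms.Proper

set_option autoImplicit false
universe u
open FlatMor

namespace Groth.Agent.S9007

open CategoryTheory CategoryTheory.Limits AlgebraicGeometry in
/-- For a morphism f of compactifications of X over a quasi-compact quasi-separated S whose source
contains X as a dense open, the preimage under f of the image of X in the target is the image of X
in the source. -/
theorem result {X S : Scheme.{u}} [CompactSpace S] [QuasiSeparatedSpace S] (p : X ⟶ S) [IsSeparated p] [QuasiCompact p] [LocallyOfFiniteType p] {Y Y' : Scheme.{u}} (j : X ⟶ Y) (q : Y ⟶ S) [IsOpenImmersion j] [IsProper q] (h : j ≫ q = p) (j' : X ⟶ Y') (q' : Y' ⟶ S) [IsOpenImmersion j'] [IsProper q'] (h' : j' ≫ q' = p) (f : Y' ⟶ Y) (hf : f ≫ q = q') (hfj : j' ≫ f = j) (hd : Dense (Set.range j'.base)) : f ⁻¹ᵁ j.opensRange = j'.opensRange := by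
  have hsep : IsSeparated f := by
    have : IsSeparated (f ≫ q) := by rw [hf]; infer_instance
    exact IsSeparated.of_comp f q
  let σ : X ⟶ pullback f j := pullback.lift j' (𝟙 X) (by rw [hfj, Category.id_comp])
  have : IsClosedImmersion σ := by
    have : IsClosedImmersion (σ ≫ pullback.snd f j) := by rw [pullback.lift_snd]; infer_instance
    exact IsClosedImmersion.of_comp σ (pullback.snd f j)
  have hσ : σ ≫ pullback.fst f j = j' := pullback.lift_fst ..
  apply TopologicalSpace.Opens.ext
  apply Set.Subset.antisymm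
  · rintro y ⟨x, hx⟩
    obtain ⟨z, hz, -⟩ := Scheme.Pullback.exists_preimage_pullback y x hx.symm
    have hd' : Dense ((pullback.fst f j) ⁻¹' Set.range j') :=
      hd.preimage (pullback.fst f j).isOpenEmbedding.isOpenMap
    have hsub : (pullback.fst f j) ⁻¹' Set.range j' ⊆ Set.range σ := by
      rintro w ⟨v, hv⟩
      refine ⟨v, (pullback.fst f j).isOpenEmbedding.injective ?_⟩
      rw [← Scheme.Hom.comp_apply, hσ, hv]
    obtain ⟨v, rfl⟩ : z ∈ Set.range σ :=
      closure_minimal hsub σ.isClosedEmbedding.isClosed_range (hd' z)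
    rw [← hz, ← Scheme.Hom.comp_apply, hσ]
    exact ⟨v, rfl⟩
  · rintro y ⟨x, rfl⟩
    refine ⟨x, ?_⟩
    rw [← hfj]
    rfl

end Groth.Agent.S9007
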