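import Groth.Statements.S9012
import Groth.Agent.FlatFunLib.GenSheaf
import Groth.Agent.FlatFunLib.FlatAtIso
import Groth.Agent.FlatOverBC.Scheme
import Groth.Agent.FlatFunLib.TrdegFibre

set_option autoImplicit false
universe u
open FlatMor

namespace Groth.Agent.S9012

open CategoryTheory CategoryTheory.Limits AlgebraicGeometry Opposite in
/-- For f : X → S and a quasi-coherent O_X-module F, the functor F_flat on schemes over S (one point on
T when the base change F_T on X_T = X ×_S T is flat over T, empty otherwise; written as the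
subfunctor of the final functor generated by that condition, which agrees with it because flatness
is preserved by base change) satisfies the sheaf condition for the fpqc topology. -/
theorem result {X S : Scheme.{u}} (f : X ⟶ S) (F : X.Modules) [Coh.IsQCoh F] :
    Presheaf.IsSheaf (QuotSh.J Scheme.fpqcPrecoverage S)
      (FlatFun.genPSp S (fun T => FlatMod.IsFlatOver (PicF.XTproj f T) (FGA.ET f F T))) := by
  have hiso : ∀ {T' T : Over S} (g : T' ⟶ T) (x' : ↥(pullback f T'.hom)),
      FlatMod.IsFlatOverAt (pullback.snd f T'.hom) (FGA.ET f F T') x' ↔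
      FlatMod.IsFlatOverAt (pullback.snd f T'.hom)
        ((Scheme.Modules.pullback (Groth.Agent.FlatFunLib.bcMap f g)).obj (FGA.ET f F T)) x' := by
    intro T' T g x'
    let e : FGA.ET f F T' ≅ (Scheme.Modules.pullback (Groth.Agent.FlatFunLib.bcMap f g)).obj (FGA.ET f F T) :=
      (Scheme.Modules.pullbackCongr (Groth.Agent.FlatFunLib.bcMap_fst f g).symm ≪≫
        (Scheme.Modules.pullbackComp _ _).symm).app F
    exact ⟨Groth.Agent.FlatFunLib.isFlatOverAt_of_iso _ e x', Groth.Agent.FlatFunLib.isFlatOverAt_of_iso _ e.symm x'⟩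
  refine Groth.Agent.FlatFunLib.isSheaf_genPSp (fun T T₀ g h x' => ?_) (fun {T ι U} v hv hs h x => ?_)
  · exact (hiso g x').2 (Groth.Agent.FlatOverBC.isFlatOverAt_baseChange
      (Groth.Agent.FlatFunLib.isPullback_bcMap f g) _ x' (h _))
  · obtain ⟨i, t', ht'⟩ := hs (pullback.snd f T.hom x)
    have hc := Groth.Agent.FlatFunLib.isPullback_bcMap f (v i)
    obtain ⟨x', rfl, hx'⟩ := Scheme.exists_preimage_of_isPullback hc x t' ht'.symm
    haveI := hv i
    exact Groth.Agent.FlatOverBC.isFlatOverAt_of_baseChange hc _ _ (Flat.stalkMap (v i).left _) ((hiso (v i) _).1 (h i _))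

end Groth.Agent.S9012
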