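import Groth.Statements.S9013
import Groth.Agent.FlatStage.Global
import Groth.Agent.FlatFunLib.GenLimit
import Groth.Agent.ModStA.Fib

set_option autoImplicit false
set_option linter.style.haveILetI false
universe u
open FlatMor

namespace Groth.Agent.S9013

open CategoryTheory CategoryTheory.Limits AlgebraicGeometry Opposite in
/-- For f : X → S quasi-compact and locally of finite presentation and F a quasi-coherent O_X-module of
finite presentation, the functor F_flat on schemes over S (one point on T when F_T is flat over T,
empty otherwise; the subfunctor of the final functor generated by that condition) is limit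
preserving: its value on a directed limit of affine schemes over S is the colimit of its values. -/
theorem result {X S : Scheme.{u}} (f : X ⟶ S) [QuasiCompact f] [LocallyOfFinitePresentation f]
    (F : X.Modules) [Coh.IsQCoh F] (hF : CohB1.IsFP F) :
    AlgSp.IsLimitPreserving
      (FlatFun.genPSp S (fun T => FlatMod.IsFlatOver (PicF.XTproj f T) (FGA.ET f F T))) := by
  haveI : F.IsQuasicoherent := ‹Coh.IsQCoh F›
  refine FlatFunLib.isLimitPreserving_genPSp (fun T T₀ k h x => ?_) (fun I _ _ D c hc hD hpt h => ?_)
  · exact FlatStage.isFlatOverAt_of_square (FlatFunLib.isPullback_bcMap f k) F (FlatFunLib.bcMap_fst f k) x (h _)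
  obtain ⟨i⟩ := IsCofiltered.nonempty (C := I)
  let E : I ⥤ Scheme.{u} := D ⋙ Over.forget S
  haveI : ∀ (a b : I) (φ : a ⟶ b), IsAffineHom (E.map φ) := fun a b φ => by
    have : IsAffine (E.obj a) := hD a
    have : IsAffine (E.obj b) := hD b
    infer_instance
  haveI : CompactSpace (E.obj i) := by
    have : IsAffine (E.obj i) := hD i
    infer_instance
  haveI : @QuasiCompact (pullback f (D.obj i).hom) (E.obj i) (pullback.snd f (D.obj i).hom) :=
    MorphismProperty.of_isPullback (P := @QuasiCompact) (IsPullback.of_hasPullback f (D.obj i).hom) ‹_›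
  haveI : @LocallyOfFinitePresentation (pullback f (D.obj i).hom) (E.obj i) (pullback.snd f (D.obj i).hom) :=
    MorphismProperty.of_isPullback (P := @LocallyOfFinitePresentation) (IsPullback.of_hasPullback f (D.obj i).hom) ‹_›
  haveI : CompactSpace ↥(pullback f (D.obj i).hom) :=
    QuasiCompact.compactSpace_of_compactSpace (Y := E.obj i) (pullback.snd f (D.obj i).hom)
  haveI := QCohPull.isQuasicoherent_pullback (pullback.fst f (D.obj i).hom) F
  obtain ⟨j, hj⟩ := FlatStage.exists_stage_flat_global E ((Over.forget S).mapCone c) hc
    (i := i) (pullback.snd f (D.obj i).hom) (qX := FlatFunLib.bcMap f (c.π.app i))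
    (f := pullback.snd f c.pt.hom) (FlatFunLib.isPullback_bcMap f (c.π.app i))
    (ModStA.isFP_pullback (pullback.fst f (D.obj i).hom) hF) (fun x =>
      FlatStage.isFlatOverAt_congr_iso _ (((Scheme.Modules.pullbackComp _ _).app F ≪≫
        (Scheme.Modules.pullbackCongr (FlatFunLib.bcMap_fst f (c.π.app i))).app F).symm) x (h x))
  refine ⟨j.left, fun x => FlatStage.isFlatOverAt_congr_iso _ (((Scheme.Modules.pullbackComp _ _).app F ≪≫
    (Scheme.Modules.pullbackCongr (FlatFunLib.bcMap_fst f (D.map j.hom))).app F)) x
    (hj _ (FlatFunLib.bcMap f (D.map j.hom)) (pullback.snd f (D.obj j.left).hom)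
      (FlatFunLib.isPullback_bcMap f (D.map j.hom)) x)⟩

end Groth.Agent.S9013
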