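import Groth.Statements.S9021
import Groth.Agent.FlatFunLib.GenSheaf
import Groth.Agent.FlatFunLib.GenFree
import Groth.Agent.QCohBase.FiniteTypePullback
import Groth.Agent.QCohPull.Affine
import Groth.Agent.TensorMod.FinLocFree
-- import your own Groth.Agent.* helpers here

set_option autoImplicit false
universe u
open FlatMor

namespace Groth.Agent.S9021

open CategoryTheory CategoryTheory.Limits AlgebraicGeometry Opposite in
/-- For f : X → S smooth with geometrically irreducible fibres, F a quasi-coherent O_X-module of finite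
type and an integer p ≥ 0, the functor H_p on schemes over S (one point on T when, for every point t
of T, the base change F_T is free of rank p on some neighbourhood of the generic point of the fibre
of X_T = X ×_S T over t; empty otherwise; written as the subfunctor of the final functor generated
by that condition) satisfies the sheaf condition for the fpqc topology. -/
theorem result {X S : Scheme.{u}} (f : X ⟶ S) [Smooth f] [GeometricallyIrreducible f] (F : X.Modules) [Coh.IsQCoh F]
    (hF : CohB1.IsFT F) (p : ℕ) :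
    Presheaf.IsSheaf (QuotSh.J Scheme.fpqcPrecoverage S) (FlatFun.genPSp S (fun T => FlatFun.FreeAtGenericPts (PicF.XTproj f T) (FGA.ET f F T) p)) := by
  haveI : F.IsQuasicoherent := ‹Coh.IsQCoh F›
  have hET : ∀ {T' T : Over S} (g : T' ⟶ T), Nonempty (FGA.ET f F T' ≅
      (Scheme.Modules.pullback (Groth.Agent.FlatFunLib.bcMap f g)).obj (FGA.ET f F T)) := fun {T' T} g =>
    ⟨(Scheme.Modules.pullbackCongr (Groth.Agent.FlatFunLib.bcMap_fst f g).symm ≪≫
      (Scheme.Modules.pullbackComp _ _).symm).app F⟩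
  have hfree : ∀ {T' T : Over S} (g : T' ⟶ T) (U : (pullback f T.hom).Opens),
      Nonempty ((FGA.ET f F T).restrict U.ι ≅ FlatMod.freeMod (U : Scheme.{u}) p) →
      Nonempty ((FGA.ET f F T').restrict (Groth.Agent.FlatFunLib.bcMap f g ⁻¹ᵁ U).ι ≅
        FlatMod.freeMod ((Groth.Agent.FlatFunLib.bcMap f g ⁻¹ᵁ U) : Scheme.{u}) p) := fun {T' T} g U ⟨t⟩ =>
    (hET g).map fun e => (Scheme.Modules.restrictFunctor _).mapIso e ≪≫
      Groth.Agent.TensorMod.pullbackRestrictIso (Groth.Agent.FlatFunLib.bcMap f g) U (FGA.ET f F T) ≪≫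
      (Scheme.Modules.pullback (Groth.Agent.FlatFunLib.bcMap f g ∣_ U)).mapIso t ≪≫
      Groth.Agent.TensorMod.pullbackFreeModIso _ p
  refine Groth.Agent.FlatFunLib.isSheaf_genPSp (fun T' T g h => ?_) (fun {T ι U} v hv hs h => ?_)
  · intro t'
    haveI : GeometricallyIrreducible (pullback.snd f T'.hom) := inferInstance
    obtain ⟨ξ', hξt, hξg⟩ := Groth.Agent.FlatFunLib.exists_isGenericPtOfFibre (pullback.snd f T'.hom) t'
    obtain ⟨ξ, hξ, -, W, hξW, hW⟩ := h (g.left t')
    obtain ⟨z, hz, hzt⟩ := Scheme.exists_preimage_of_isPullback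
      (Groth.Agent.FlatFunLib.isPullback_bcMap f g) ξ t' hξ
    refine ⟨ξ', hξt, hξg, Groth.Agent.FlatFunLib.bcMap f g ⁻¹ᵁ W, ?_, hfree g W hW⟩
    refine (hξg z (hzt.trans hξt.symm)).mem_open (Groth.Agent.FlatFunLib.bcMap f g ⁻¹ᵁ W).isOpen ?_
    show Groth.Agent.FlatFunLib.bcMap f g z ∈ W
    rw [hz]; exact hξW
  · haveI : Smooth (pullback.snd f T.hom) := inferInstance
    haveI : GeometricallyIrreducible (pullback.snd f T.hom) := inferInstance
    haveI : (FGA.ET f F T).IsQuasicoherent := Groth.Agent.QCohPull.isQuasicoherent_pullback _ F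
    refine Groth.Agent.FlatFunLib.isFreeOfRankNear_of_stalks _ _
      (Groth.Agent.QCohBase.isFT_pullback _ hF) p fun t => ?_
    obtain ⟨i, t', rfl⟩ := hs t
    obtain ⟨ξ', hξt, hξg, hnear⟩ := h i t'
    have hc := Groth.Agent.FlatFunLib.isPullback_bcMap f (v i)
    refine ⟨Groth.Agent.FlatFunLib.bcMap f (v i) ξ', ?_, ?_, ?_⟩
    · rw [← Scheme.Hom.comp_apply, hc.w, Scheme.Hom.comp_apply]
      exact congrArg _ hξt
    · intro x hx
      obtain ⟨z, hz, hzt⟩ := Scheme.exists_preimage_of_isPullback hc x t' (hx.trans (by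
        rw [← Scheme.Hom.comp_apply, hc.w, Scheme.Hom.comp_apply]
        exact congrArg _ hξt))
      exact hz ▸ (hξg z (hzt.trans hξt.symm)).map (Groth.Agent.FlatFunLib.bcMap f (v i)).continuous
    · obtain ⟨e⟩ := hET (v i)
      haveI : (FGA.ET f F (U i)).IsQuasicoherent := Groth.Agent.QCohPull.isQuasicoherent_pullback _ F
      haveI := hv i
      haveI : Flat (Groth.Agent.FlatFunLib.bcMap f (v i)) := MorphismProperty.of_isPullback hc.flip (hv i)
      refine Groth.Agent.FlatFunLib.free_stalk_of_pullback _ ξ' (Flat.stalkMap _ ξ') _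
        (Groth.Agent.QCohBase.isFT_pullback _ hF) p ?_
      exact (Groth.Agent.FlatFunLib.nonempty_basis_stalk _ p ξ' hnear).map fun b =>
        b.map ((DerSch.stalkFunctor _ ξ').mapIso e).toLinearEquiv
end Groth.Agent.S9021
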