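import Groth.Statements.S9022
import Groth.Agent.FlatFunLib.GenLimit
import Groth.Agent.FlatFunLib.GenTrdeg
import Groth.Agent.FlatFunLib.GenFree
import Groth.Agent.FlatStage.Scheme
import Groth.Agent.FlatFunLib.FlatAtIso
import Groth.Agent.FlatOverBC.Free
import Groth.Agent.TensorMod.FinLocFree

set_option autoImplicit false
universe u
open FlatMor

namespace Groth.Agent.S9022

open CategoryTheory CategoryTheory.Limits AlgebraicGeometry Opposite in
/-- For f : X → S smooth with geometrically irreducible fibres, F a quasi-coherent O_X-module of finite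
presentation and p ≥ 0, the functor H_p on schemes over S (one point on T when F_T is free of rank p
near the generic point of every fibre of X ×_S T → T, empty otherwise; the subfunctor of the final
functor generated by that condition) is limit preserving. -/
theorem result {X S : Scheme.{u}} (f : X ⟶ S) [Smooth f] [GeometricallyIrreducible f] (F : X.Modules) [Coh.IsQCoh F]
    (hF : CohB1.IsFP F) (p : ℕ) :
    AlgSp.IsLimitPreserving (FlatFun.genPSp S (fun T => FlatFun.FreeAtGenericPts (PicF.XTproj f T) (FGA.ET f F T) p)) := by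
  classical
  haveI : F.IsQuasicoherent := ‹Coh.IsQCoh F›
  have hET : ∀ {T' T : Over S} (g : T' ⟶ T), Nonempty (FGA.ET f F T' ≅
      (Scheme.Modules.pullback (Groth.Agent.FlatFunLib.bcMap f g)).obj (FGA.ET f F T)) := fun {T' T} g =>
    ⟨(Scheme.Modules.pullbackCongr (Groth.Agent.FlatFunLib.bcMap_fst f g).symm ≪≫
      (Scheme.Modules.pullbackComp _ _).symm).app F⟩
  haveI hqc : ∀ T : Over S, (FGA.ET f F T).IsQuasicoherent := fun T =>
    Groth.Agent.QCohPull.isQuasicoherent_pullback _ F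
  have hfree : ∀ {T' T : Over S} (g : T' ⟶ T) (x : ↥(pullback f T'.hom)) (n : ℕ),
      FlatFun.IsFreeOfRankNear (FGA.ET f F T) n (Groth.Agent.FlatFunLib.bcMap f g x) →
      FlatFun.IsFreeOfRankNear (FGA.ET f F T') n x := fun {T' T} g x n ⟨U, hx, ⟨t⟩⟩ =>
    ⟨Groth.Agent.FlatFunLib.bcMap f g ⁻¹ᵁ U, hx, (hET g).map fun e => (Scheme.Modules.restrictFunctor _).mapIso e ≪≫
      Groth.Agent.TensorMod.pullbackRestrictIso (Groth.Agent.FlatFunLib.bcMap f g) U (FGA.ET f F T) ≪≫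
      (Scheme.Modules.pullback (Groth.Agent.FlatFunLib.bcMap f g ∣_ U)).mapIso t ≪≫
      Groth.Agent.TensorMod.pullbackFreeModIso _ n⟩
  let U : ∀ T : Over S, (pullback f T.hom).Opens := fun T =>
    ⟨{y | FlatFun.IsFreeOfRankNear (FGA.ET f F T) p y}, isOpen_iff_forall_mem_open.2
      fun y ⟨W, hy, hW⟩ => ⟨W, fun z hz => ⟨W, hz, hW⟩, W.isOpen, hy⟩⟩
  refine Groth.Agent.FlatFunLib.isLimitPreserving_genPSp (fun T' T g h t' => ?_) ?_
  · obtain ⟨ξ', hξt, hξg⟩ := Groth.Agent.FlatFunLib.exists_isGenericPtOfFibre (pullback.snd f T'.hom) t'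
    obtain ⟨ξ, hξ, -, hξW⟩ := h (g.left t')
    obtain ⟨z, hz, hzt⟩ := Scheme.exists_preimage_of_isPullback
      (Groth.Agent.FlatFunLib.isPullback_bcMap f g) ξ t' hξ
    refine ⟨ξ', hξt, hξg, hfree g ξ' p ?_⟩
    refine (hξg z (hzt.trans hξt.symm)).mem_open (Groth.Agent.FlatFunLib.bcMap f g ⁻¹ᵁ U T).isOpen ?_
    show Groth.Agent.FlatFunLib.bcMap f g z ∈ U T
    rw [hz]; exact hξW
  intro I _ _ D c hc hD hT h
  haveI := Groth.Agent.FlatFunLib.isAffineHom_xSys f D hD
  have hpt : ∀ x : ↥(pullback f c.pt.hom), FlatFun.IsFreeOfRankNear (FGA.ET f F c.pt) p x →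
      ∃ j, Groth.Agent.FlatFunLib.bcMap f (c.π.app j) x ∈ U (D.obj j) := by
    intro x hx
    obtain ⟨i₀⟩ := IsCofiltered.nonempty (C := I)
    let π₀ := Groth.Agent.FlatFunLib.bcMap f (c.π.app i₀)
    obtain ⟨e₀⟩ := hET (c.π.app i₀)
    have hX : IsPullback π₀ (𝟙 (pullback f c.pt.hom)) (𝟙 (pullback f (D.obj i₀).hom)) π₀ :=
      IsPullback.of_id_snd
    haveI : ((Scheme.Modules.pullback π₀).obj (FGA.ET f F (D.obj i₀))).IsQuasicoherent :=
      Groth.Agent.QCohPull.isQuasicoherent_pullback _ _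
    have hu : FlatMod.IsFlatOverAt (𝟙 (pullback f c.pt.hom))
        ((Scheme.Modules.pullback π₀).obj (FGA.ET f F (D.obj i₀))) x :=
      Groth.Agent.FlatFunLib.isFlatOverAt_of_iso _ e₀ x
        (Groth.Agent.FlatFunLib.isFlatOverAt_of_isFreeOfRankNear _ _ p x hx)
    haveI : SheafOfModules.IsQuasicoherent (R := ((Groth.Agent.FlatFunLib.xSys f D).obj i₀).ringCatSheaf) (FGA.ET f F (D.obj i₀)) := hqc _
    obtain ⟨j, hj⟩ := Groth.Agent.FlatStage.exists_stage_flat (Groth.Agent.FlatFunLib.xSys f D)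
      (Groth.Agent.FlatFunLib.xCone f D c) (Groth.Agent.FlatFunLib.isLimitXCone f D c hc) (i := i₀)
      (𝟙 _) hX (F := FGA.ET f F (D.obj i₀)) (Groth.Agent.ModStA.isFP_pullback _ hF) x hu
    let y := Groth.Agent.FlatFunLib.bcMap f (c.π.app j.left) x
    let pj := Groth.Agent.FlatFunLib.bcMap f (D.map j.hom)
    have hy := hj _ pj (𝟙 _) IsPullback.of_id_snd (Groth.Agent.FlatFunLib.bcMap f (c.π.app j.left))
      ((Groth.Agent.FlatFunLib.xCone f D c).w j.hom) (by simp; rfl)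
    obtain ⟨e₁⟩ := hET (D.map j.hom)
    have hy' := Groth.Agent.FlatFunLib.isFlatOverAt_of_iso _ e₁.symm y hy
    have hflat : Module.Flat ((pullback f (D.obj j.left).hom).presheaf.stalk y)
        ((FGA.ET f F (D.obj j.left)).presheaf.stalk y) := by
      have : @Module.Flat ((pullback f (D.obj j.left).hom).presheaf.stalk y)
          ((FGA.ET f F (D.obj j.left)).presheaf.stalk y) _ _
          (FlatMod.moduleStalkOver (𝟙 (pullback f (D.obj j.left).hom)) (FGA.ET f F (D.obj j.left)) y) := hy'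
      convert this using 1
      refine Module.ext' _ _ fun r m => ?_
      show r • m = ((Scheme.Hom.stalkMap (𝟙 _) y).hom r) • m
      rw [Scheme.Hom.stalkMap_id]; rfl
    obtain ⟨W, n, hyW, hW⟩ := Groth.Agent.FlatOverBC.exists_iso_freeMod _
      (Groth.Agent.ModStA.isFP_pullback _ hF) y hflat
    refine ⟨j.left, ?_⟩
    obtain ⟨b⟩ := Groth.Agent.FlatFunLib.nonempty_basis_stalk _ p x hx
    obtain ⟨b'⟩ := Groth.Agent.FlatFunLib.nonempty_basis_stalk _ n x (hfree (c.π.app j.left) x n ⟨W, hyW, hW⟩)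
    have hnp : n = p := by simpa using Nat.card_congr (b'.indexEquiv b)
    subst hnp
    exact ⟨W, hyW, hW⟩
  have hopen : ∀ T : Over S, IsOpenMap (pullback.snd f T.hom) := fun T => Scheme.Hom.isOpenMap _
  have hmono : ∀ {j k : I} (a : k ⟶ j),
      Groth.Agent.FlatFunLib.bcMap f (D.map a) ⁻¹ᵁ U (D.obj j) ≤ U (D.obj k) :=
    fun a y hy => hfree _ y p hy
  haveI := hT
  obtain ⟨s, hs⟩ := isCompact_univ.elim_finite_subcover
    (fun j => pullback.snd f c.pt.hom '' ((Groth.Agent.FlatFunLib.bcMap f (c.π.app j) ⁻¹ᵁ U (D.obj j) : (pullback f c.pt.hom).Opens) : Set ↥(pullback f c.pt.hom)))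
    (fun j => hopen _ _ (Groth.Agent.FlatFunLib.bcMap f (c.π.app j) ⁻¹ᵁ U (D.obj j)).isOpen)
    (fun t _ => by
      obtain ⟨x, hxt, -, hx⟩ := h t
      obtain ⟨j, hj⟩ := hpt x hx
      exact Set.mem_iUnion.2 ⟨j, x, hj, hxt⟩)
  obtain ⟨k, hk⟩ := IsCofiltered.inf_objs_exists s
  let V : (D.obj k).left.Opens := ⟨pullback.snd f (D.obj k).hom '' (U (D.obj k) : Set _),
    hopen _ _ (U (D.obj k)).isOpen⟩
  have htop : (c.π.app k).left ⁻¹ᵁ V = ⊤ := eq_top_iff.mpr fun t _ => by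
    obtain ⟨j, hj, x, hx, hxt⟩ := Set.mem_iUnion₂.1 (hs (Set.mem_univ t))
    refine ⟨Groth.Agent.FlatFunLib.bcMap f (c.π.app k) x, hmono (hk hj).some ?_, ?_⟩
    · show (Groth.Agent.FlatFunLib.bcMap f (c.π.app k) ≫ Groth.Agent.FlatFunLib.bcMap f (D.map (hk hj).some)) x ∈ U (D.obj j)
      rw [← Groth.Agent.FlatFunLib.bcMap_comp, c.w]
      exact hx
    · rw [← Scheme.Hom.comp_apply, Groth.Agent.FlatFunLib.bcMap_snd, Scheme.Hom.comp_apply]
      exact congrArg _ hxt
  haveI : ∀ {a b : I} (φ : a ⟶ b), IsAffineHom ((D ⋙ Over.forget S).map φ) := fun {a b} φ => by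
    haveI := hD a; haveI := hD b
    show IsAffineHom (D.map φ).left
    infer_instance
  haveI : ∀ a, CompactSpace ↥((D ⋙ Over.forget S).obj a) := fun a => by
    haveI := hD a
    show CompactSpace ↥(D.obj a).left
    infer_instance
  obtain ⟨l, a, hl⟩ := AlgebraicGeometry.exists_map_eq_top (D ⋙ Over.forget S) _ hc (i := k) V htop
  refine ⟨l, fun t => ?_⟩
  obtain ⟨y, hy, hyt⟩ : (D.map a).left t ∈ V := hl.ge (Set.mem_univ t)
  obtain ⟨z, hz, hzt⟩ := Scheme.exists_preimage_of_isPullback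
    (Groth.Agent.FlatFunLib.isPullback_bcMap f (D.map a)) y t hyt
  obtain ⟨ξ, hξt, hξg⟩ := Groth.Agent.FlatFunLib.exists_isGenericPtOfFibre (pullback.snd f (D.obj l).hom) t
  refine ⟨ξ, hξt, hξg, (hξg z (hzt.trans hξt.symm)).mem_open (U (D.obj l)).isOpen (hmono a ?_)⟩
  show Groth.Agent.FlatFunLib.bcMap f (D.map a) z ∈ U (D.obj k)
  rw [hz]; exact hy

end Groth.Agent.S9022
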