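import Groth.Statements.S9023
import Groth.Agent.FlatFunLib.GenSheaf
import Groth.Agent.FlatFunLib.TrdegFibre
import Groth.Agent.FlatFunLib.FlatAtIso
import Groth.Agent.FlatOverBC.Scheme
-- import your own Groth.Agent.* helpers here

set_option autoImplicit false
universe u
open FlatMor

namespace Groth.Agent.S9023

open CategoryTheory CategoryTheory.Limits AlgebraicGeometry Opposite in
/-- For f : X → S locally of finite type, F a quasi-coherent O_X-module of finite type and n ≥ 0, the
functor F_n on schemes over S (one point on T when the base change F_T on X_T = X ×_S T is flat over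
T in dimensions ≥ n, that is every point of X_T at which F_T is not flat over T has residue field of
transcendence degree less than n over the residue field of its image in T; empty otherwise; written
as the subfunctor of the final functor generated by that condition) satisfies the sheaf condition
for the fpqc topology. -/
theorem result {X S : Scheme.{u}} (f : X ⟶ S) [LocallyOfFiniteType f] (F : X.Modules) [Coh.IsQCoh F] (hF : CohB1.IsFT F)
    (n : ℕ) :
    Presheaf.IsSheaf (QuotSh.J Scheme.fpqcPrecoverage S)
      (FlatFun.genPSp S (fun T => FlatFun.DimFibresLT n (PicF.XTproj f T)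
        {x | ¬ FlatMod.IsFlatOverAt (PicF.XTproj f T) (FGA.ET f F T) x})) := by
  have hiso : ∀ {T' T : Over S} (g : T' ⟶ T) (x' : ↥(pullback f T'.hom)),
      FlatMod.IsFlatOverAt (pullback.snd f T'.hom) (FGA.ET f F T') x' ↔
      FlatMod.IsFlatOverAt (pullback.snd f T'.hom)
        ((Scheme.Modules.pullback (Groth.Agent.FlatFunLib.bcMap f g)).obj (FGA.ET f F T)) x' := by
    intro T' T g x'
    let e : FGA.ET f F T' ≅ (Scheme.Modules.pullback (Groth.Agent.FlatFunLib.bcMap f g)).obj (FGA.ET f F T) :=
      (Scheme.Modules.pullbackCongr (Groth.Agent.FlatFunLib.bcMap_fst f g).symm ≪≫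
        (Scheme.Modules.pullbackComp _ _).symm).app F
    exact ⟨Groth.Agent.FlatFunLib.isFlatOverAt_of_iso _ e x', Groth.Agent.FlatFunLib.isFlatOverAt_of_iso _ e.symm x'⟩
  refine Groth.Agent.FlatFunLib.isSheaf_genPSp (fun T T₀ g h => ?_) (fun {T ι U} v hv hs h => ?_)
  · intro x' hx'
    have hc := Groth.Agent.FlatFunLib.isPullback_bcMap f g
    exact lt_of_le_of_lt (Groth.Agent.FlatFunLib.trdeg_baseChange_le hc x')
      (h _ fun hflat => hx' ((hiso g x').2 (Groth.Agent.FlatOverBC.isFlatOverAt_baseChange hc _ x' hflat)))
  · intro x hx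
    obtain ⟨i, t', ht'⟩ := hs (pullback.snd f T.hom x)
    have hc := Groth.Agent.FlatFunLib.isPullback_bcMap f (v i)
    obtain ⟨x', rfl, rfl, hle⟩ := Groth.Agent.FlatFunLib.exists_trdeg_le_baseChange hc x t' ht'.symm
    haveI := hv i
    exact lt_of_le_of_lt hle (h i x' fun hflat =>
      hx (Groth.Agent.FlatOverBC.isFlatOverAt_of_baseChange hc _ x' (Flat.stalkMap (v i).left _) ((hiso (v i) x').1 hflat)))
end Groth.Agent.S9023
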