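import Groth.Statements.S9029
import Groth.Agent.FlatFunLib.GenTrdeg
import Groth.Agent.FlatFunLib.FlatAtIso
import Groth.Agent.FlatOverBC.Free
import Groth.Agent.QCohPull.Affine
import Groth.Agent.ModStA.Fib
-- import your own Groth.Agent.* helpers here

set_option autoImplicit false
universe u
open FlatMor

open scoped TensorProduct
namespace Groth.Agent.S9029

open CategoryTheory CategoryTheory.Limits AlgebraicGeometry Opposite in
/-- Let X → S be a morphism of affine schemes which is smooth of relative dimension d with geometrically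
irreducible fibres, and F a quasi-coherent O_X-module of finite presentation. Then the functor F_d
(F_T flat over T in dimensions ≥ d) is the disjoint union, as a sheaf, of the functors H_p for p =
0, …, c for some c ≥ 0: there is c such that for every scheme T over S, the base change F_T on X ×_S
T is flat over T in dimensions ≥ d (every point where it is not flat over T has residue field of
transcendence degree less than d over that of its image) if and only if every point of T has an open
neighbourhood V in T and an integer p ≤ c such that F_V is free of rank p on a neighbourhood of the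
generic point of every fibre of X ×_S V → V. -/
theorem result {X S : Scheme.{u}} [IsAffine X] [IsAffine S] (f : X ⟶ S) (d : ℕ) [SmoothOfRelativeDimension d f]
    [GeometricallyIrreducible f] (F : X.Modules) [Coh.IsQCoh F] (hF : CohB1.IsFP F) :
    ∃ c : ℕ, ∀ T : Over S,
      (FlatFun.DimFibresLT d (PicF.XTproj f T)
        {x | ¬ FlatMod.IsFlatOverAt (PicF.XTproj f T) (FGA.ET f F T) x}) ↔
      ∀ t : T.left, ∃ (V : T.left.Opens) (p : ℕ), t ∈ V ∧ p ≤ c ∧
        FlatFun.FreeAtGenericPts (PicF.XTproj f (Over.mk (V.ι ≫ T.hom)))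
          (FGA.ET f F (Over.mk (V.ι ≫ T.hom))) p := by
  haveI : F.IsQuasicoherent := ‹Coh.IsQCoh F›
  have hFT : CohB1.IsFT F := by
    haveI : SheafOfModules.IsFinitePresentation (R := X.ringCatSheaf) F := hF
    exact (inferInstance : SheafOfModules.IsFiniteType (R := X.ringCatSheaf) F)
  haveI : Smooth f := SmoothOfRelativeDimension.smooth d f
  have htop : IsAffineOpen (⊤ : X.Opens) := isAffineOpen_top X
  haveI : Module.Finite Γ(X, ⊤) Γ(F, ⊤) := Groth.Agent.QCohBase.finite_sections F hFT htop
  obtain ⟨c, s, hs⟩ := Module.Finite.exists_fin (R := Γ(X, ⊤)) (M := Γ(F, ⊤))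
  refine ⟨c, fun T => ?_⟩
  haveI : Smooth (pullback.snd f T.hom) := inferInstance
  haveI : GeometricallyIrreducible (pullback.snd f T.hom) := inferInstance
  haveI := @smoothOfRelativeDimension_isStableUnderBaseChange d
  haveI : SmoothOfRelativeDimension d (pullback.snd f T.hom) :=
    MorphismProperty.pullback_snd (P := @SmoothOfRelativeDimension d) _ _ ‹_›
  haveI : (FGA.ET f F T).IsQuasicoherent := Groth.Agent.QCohPull.isQuasicoherent_pullback _ F
  have hFP' : CohB1.IsFP (FGA.ET f F T) := Groth.Agent.ModStA.isFP_pullback _ hF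
  have hgv : ∀ V : T.left.Opens, Over.Hom.left (Over.homMk V.ι (rfl : V.ι ≫ T.hom = V.ι ≫ T.hom) :
      Over.mk (V.ι ≫ T.hom) ⟶ T) = V.ι := fun _ => rfl
  constructor
  · intro h t
    obtain ⟨ξ, hξt, hξg⟩ := Groth.Agent.FlatFunLib.exists_isGenericPtOfFibre (pullback.snd f T.hom) t
    have hfl : FlatMod.IsFlatOverAt (pullback.snd f T.hom) (FGA.ET f F T) ξ := by
      by_contra hn
      exact (Groth.Agent.FlatFunLib.not_resTrdeg_lt_iff (pullback.snd f T.hom) d ξ).2 hξg (h ξ hn)
    have hfs := Groth.Agent.FlatFunLib.flat_stalk_of_isGenericPtOfFibre (pullback.snd f T.hom) _ hFP' hξg hfl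
    obtain ⟨W, p, hξW, hW⟩ := Groth.Agent.FlatOverBC.exists_iso_freeMod _ hFP' ξ hfs
    let V : T.left.Opens := ⟨pullback.snd f T.hom '' (W : Set ↑(pullback f T.hom)),
      (pullback.snd f T.hom).isOpenMap _ W.isOpen⟩
    refine ⟨V, p, ⟨ξ, hξW, hξt⟩, ?_, ?_⟩
    · obtain ⟨b⟩ := Groth.Agent.FlatFunLib.nonempty_basis_stalk _ p ξ ⟨W, hξW, hW⟩
      let x := pullback.fst f T.hom ξ
      let O := X.presheaf.stalk x
      let O' := (pullback f T.hom).presheaf.stalk ξ
      letI : Algebra O O' := ((pullback.fst f T.hom).stalkMap ξ).hom.toAlgebra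
      let e : (FGA.ET f F T).presheaf.stalk ξ ≃ₗ[O'] O' ⊗[O] F.presheaf.stalk x :=
        ((Groth.Agent.DCohBridge.stalkPullIso (pullback.fst f T.hom) ξ).app F).toLinearEquiv
      have hsp := Groth.Agent.FinLocFreeSections.span_germ_eq_top F htop s hs (y := x) trivial
      let φ : (Fin c → O) →ₗ[O] F.presheaf.stalk x :=
        Fintype.linearCombination O fun j => F.presheaf.germ ⊤ x trivial (s j)
      have hφ : Function.Surjective φ := by
        rw [← LinearMap.range_eq_top, Fintype.range_linearCombination]; exact hsp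
      let ψ : O' ⊗[O] (Fin c → O) →ₗ[O'] O' ⊗[O] F.presheaf.stalk x := φ.baseChange O'
      have hψ : Function.Surjective ψ := LinearMap.lTensor_surjective O' hφ
      have h1 := LinearMap.finrank_le_finrank_of_surjective (f := (e.symm.toLinearMap ∘ₗ ψ))
        (e.symm.surjective.comp hψ)
      rw [Module.finrank_baseChange, Module.finrank_fin_fun, Module.finrank_eq_nat_card_basis b] at h1
      simpa using h1
    · intro t'
      let g : Over.mk (V.ι ≫ T.hom) ⟶ T := Over.homMk V.ι rfl
      have hc := Groth.Agent.FlatFunLib.isPullback_bcMap f g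
      obtain ⟨ξ', hξ't, hξ'g⟩ := Groth.Agent.FlatFunLib.exists_isGenericPtOfFibre
        (pullback.snd f (Over.mk (V.ι ≫ T.hom)).hom) t'
      obtain ⟨ξ₁, hξ₁W, hξ₁⟩ := (show g.left t' ∈ V from t'.2)
      obtain ⟨z, hz, hzt⟩ := Scheme.exists_preimage_of_isPullback hc ξ₁ t' hξ₁
      refine ⟨ξ', hξ't, hξ'g, Groth.Agent.FlatFunLib.bcMap f g ⁻¹ᵁ W, ?_, ?_⟩
      · refine (hξ'g z (hzt.trans hξ't.symm)).mem_open (Groth.Agent.FlatFunLib.bcMap f g ⁻¹ᵁ W).isOpen ?_
        show Groth.Agent.FlatFunLib.bcMap f g z ∈ W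
        rw [hz]; exact hξ₁W
      · exact hW.map fun w => (Scheme.Modules.restrictFunctor _).mapIso
          ((Scheme.Modules.pullbackCongr (Groth.Agent.FlatFunLib.bcMap_fst f g).symm ≪≫
            (Scheme.Modules.pullbackComp _ _).symm).app F) ≪≫
          Groth.Agent.TensorMod.pullbackRestrictIso (Groth.Agent.FlatFunLib.bcMap f g) W (FGA.ET f F T) ≪≫
          (Scheme.Modules.pullback (Groth.Agent.FlatFunLib.bcMap f g ∣_ W)).mapIso w ≪≫
          Groth.Agent.TensorMod.pullbackFreeModIso _ p
  · intro h x hx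
    by_contra hlt
    have hxg := (Groth.Agent.FlatFunLib.not_resTrdeg_lt_iff (pullback.snd f T.hom) d x).1 hlt
    obtain ⟨V, p, htV, -, hV⟩ := h (pullback.snd f T.hom x)
    obtain ⟨ξ', hξ't, hξ'g, hnear⟩ := hV ⟨pullback.snd f T.hom x, htV⟩
    let g : Over.mk (V.ι ≫ T.hom) ⟶ T := Over.homMk V.ι rfl
    have hc := Groth.Agent.FlatFunLib.isPullback_bcMap f g
    haveI : (FGA.ET f F (Over.mk (V.ι ≫ T.hom))).IsQuasicoherent :=
      Groth.Agent.QCohPull.isQuasicoherent_pullback _ F
    haveI : Flat (pullback.snd f (Over.mk (V.ι ≫ T.hom)).hom) := inferInstance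
    have hfl := Groth.Agent.FlatFunLib.isFlatOverAt_of_isFreeOfRankNear
      (pullback.snd f (Over.mk (V.ι ≫ T.hom)).hom) _ p ξ' hnear
    have hfl' := Groth.Agent.FlatFunLib.isFlatOverAt_of_iso (pullback.snd f (Over.mk (V.ι ≫ T.hom)).hom)
      ((Scheme.Modules.pullbackCongr (Groth.Agent.FlatFunLib.bcMap_fst f g).symm ≪≫
            (Scheme.Modules.pullbackComp _ _).symm).app F) ξ' hfl
    haveI : Flat g.left := inferInstanceAs (Flat V.ι)
    have hdown := Groth.Agent.FlatOverBC.isFlatOverAt_of_baseChange hc (FGA.ET f F T) ξ'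
      (Flat.stalkMap g.left _) hfl'
    have hsame : pullback.snd f T.hom (Groth.Agent.FlatFunLib.bcMap f g ξ') = pullback.snd f T.hom x := by
      rw [← Scheme.Hom.comp_apply, hc.w, Scheme.Hom.comp_apply, hξ't]
      rfl
    obtain ⟨z, hz, hzt⟩ := Scheme.exists_preimage_of_isPullback hc x (⟨pullback.snd f T.hom x, htV⟩ : V) rfl
    have h2 : Groth.Agent.FlatFunLib.bcMap f g ξ' ⤳ x :=
      hz ▸ (hξ'g z (hzt.trans hξ't.symm)).map (Groth.Agent.FlatFunLib.bcMap f g).continuous
    rw [(Specializes.antisymm h2 (hxg _ hsame)).eq] at hdown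
    exact hx hdown
end Groth.Agent.S9029
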