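import Groth.Statements.S9033
import Mathlib.CategoryTheory.Localization.CalculusOfFractions
import Mathlib.AlgebraicGeometry.Morphisms.Separated
-- import your own Groth.Agent.* helpers here

set_option autoImplicit false
universe u
open CategoryTheory CategoryTheory.Limits AlgebraicGeometry Cpct

namespace Groth.Agent.S9033

open Cpct

set_option backward.isDefEq.respectTransparency false

theorem mem_iff {S : Scheme.{u}} {A B : Pair S} (f : A ⟶ B) : isoOpen S f ↔ IsIso (openOver.map f).left := Iff.rfl

theorem restr_ι {S : Scheme.{u}} {A B : Pair S} (f : A ⟶ B) : restr f ≫ B.U.ι = A.U.ι ≫ (Pair.Hom.bar f).left :=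
  Scheme.Hom.resLE_comp_ι _ _

/-- A morphism from a proper scheme over a pair whose open part is carried isomorphically gives an arrow of `isoOpen`. -/
theorem mk_arrow {S : Scheme.{u}} (A : Pair S) {P : Scheme.{u}} (q : P ⟶ A.bar.left) [IsProper q] (O : P.Opens)
    (hO : O ≤ q ⁻¹ᵁ A.U) (σ : (A.U : Scheme.{u}) ⟶ O) (h1 : σ ≫ O.ι ≫ q = A.U.ι) (h2 : q.resLE A.U O hO ≫ σ = 𝟙 _) :
    ∃ (hP : IsProper (Over.mk (q ≫ A.bar.hom)).hom) (hc : IsCompact (O : Set P)),
      isoOpen S (⟨Over.homMk q rfl, fun x hx => hO hx⟩ : (⟨Over.mk (q ≫ A.bar.hom), O, hP, hc⟩ : Pair S) ⟶ A) := by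
  have := A.isProper
  have h3 : σ ≫ q.resLE A.U O hO = 𝟙 _ := by
    rw [← cancel_mono A.U.ι, Category.assoc, Scheme.Hom.resLE_comp_ι, h1, Category.id_comp]
  haveI : IsIso (q.resLE A.U O hO) := ⟨σ, h2, h3⟩
  have hc : IsCompact (O : Set P) := by
    haveI : CompactSpace A.U := isCompact_iff_compactSpace.1 A.isCompact
    haveI : CompactSpace O := (TopCat.homeoOfIso (Scheme.forgetToTop.mapIso (asIso (q.resLE A.U O hO)))).symm.compactSpace
    exact isCompact_iff_compactSpace.2 ‹_›
  exact ⟨inferInstanceAs (IsProper (q ≫ A.bar.hom)), hc, show IsIso (q.resLE A.U O hO) from inferInstance⟩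

open CategoryTheory CategoryTheory.Limits AlgebraicGeometry Opposite in
/-- Let S be a quasi-compact and quasi-separated scheme. In the category of compactifications over S —
objects the pairs (X, X̄) with X̄ proper over S and X a quasi-compact open of X̄, morphisms the
morphisms X̄' → X̄ over S mapping X' into X — the collection of morphisms (u, ū) : (X', X̄') → (X,
X̄) with u : X' → X an isomorphism is a right multiplicative system: it contains the identities and
is closed under composition; for f : (Y, Ȳ) → (X, X̄) and (u, ū) : (X', X̄') → (X, X̄) in the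
collection there are (v, v̄) : (Y', Ȳ') → (Y, Ȳ) in the collection and g : (Y', Ȳ') → (X', X̄') with
f ∘ (v, v̄) = (u, ū) ∘ g; and if two morphisms (X, X̄) → (Y, Ȳ) become equal after composing with
some (Y, Ȳ) → (Y', Ȳ') of the collection, they become equal after precomposing with some (X', X̄') →
(X, X̄) of the collection. -/
theorem result (S : Scheme.{u}) [CompactSpace S] [QuasiSeparatedSpace S] :
    (Cpct.isoOpen S).HasRightCalculusOfFractions := by
  have hmem : ∀ {A B : Cpct.Pair S} (f : A ⟶ B), Cpct.isoOpen S f ↔ IsIso (openOver.map f).left := fun f => Iff.rfl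
  haveI : (Cpct.isoOpen S).IsMultiplicative :=
    { id_mem := fun A => (hmem _).2 (by rw [openOver.map_id]; infer_instance)
      comp_mem := fun f g hf hg => (hmem _).2 (by
        rw [openOver.map_comp, Over.comp_left]
        have := (hmem f).1 hf; have := (hmem g).1 hg; infer_instance) }
  refine ⟨fun {A B} φ => ?_, fun A B C f₁ f₂ s hs heq => ?_⟩
  · rcases φ with @⟨C, f, s, hs⟩
    haveI : IsIso (restr s) := hs
    have := A.isProper; have := B.isProper; have := C.isProper
    let a := (Pair.Hom.bar f).left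
    let c := (Pair.Hom.bar s).left
    haveI : IsProper c := MorphismProperty.of_postcomp (W' := @IsSeparated) (W := @IsProper) c C.bar.hom inferInstance
      (by rw [Over.w]; exact B.isProper)
    let p := pullback.fst a c
    let r := pullback.snd a c
    haveI : IsProper p := MorphismProperty.pullback_fst _ _ ‹_›
    let O : (pullback a c).Opens := p ⁻¹ᵁ A.U ⊓ r ⁻¹ᵁ B.U
    have w : A.U.ι ≫ a = (restr f ≫ inv (restr s) ≫ B.U.ι) ≫ c := by
      simp only [Category.assoc, a, c, ← restr_ι, IsIso.inv_hom_id_assoc]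
    let l := pullback.lift A.U.ι (restr f ≫ inv (restr s) ≫ B.U.ι) w
    have hl : Set.range l ⊆ Set.range O.ι := by
      rw [Scheme.Opens.range_ι]
      rintro _ ⟨x, rfl⟩
      refine ⟨?_, ?_⟩
      · change p (l x) ∈ A.U
        rw [← Scheme.Hom.comp_apply, show l ≫ p = A.U.ι from pullback.lift_fst ..]
        exact x.2
      · change r (l x) ∈ B.U
        rw [← Scheme.Hom.comp_apply, show l ≫ r = _ from pullback.lift_snd _ _ w,
          ← Category.assoc, Scheme.Hom.comp_apply]
        exact Subtype.prop _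
    let σ := IsOpenImmersion.lift O.ι l hl
    have hσ : σ ≫ O.ι = l := IsOpenImmersion.lift_fac _ _ hl
    have h1 : σ ≫ O.ι ≫ p = A.U.ι := by rw [reassoc_of% hσ]; exact pullback.lift_fst ..
    have hr : r.resLE B.U O inf_le_right ≫ restr s = p.resLE A.U O inf_le_left ≫ restr f := by
      rw [← cancel_mono C.U.ι]
      simp only [Category.assoc, restr_ι, Scheme.Hom.resLE_comp_ι_assoc]
      exact congrArg (O.ι ≫ ·) pullback.condition.symm
    have h2 : p.resLE A.U O inf_le_left ≫ σ = 𝟙 _ := by
      rw [← cancel_mono O.ι, Category.assoc, hσ, Category.id_comp]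
      refine pullback.hom_ext ?_ ?_
      · simp [l, p]
      · simp only [l, Category.assoc, pullback.lift_snd, ← reassoc_of% hr, IsIso.hom_inv_id_assoc]
        exact Scheme.Hom.resLE_comp_ι _ _
    obtain ⟨hP, hc, hW⟩ := mk_arrow A p O inf_le_left σ h1 h2
    refine ⟨⟨_, hW, ⟨Over.homMk r ?_, fun x hx => hx.2⟩⟩, Pair.Hom.ext ?_⟩
    · change r ≫ B.bar.hom = p ≫ A.bar.hom
      rw [← Over.w (Pair.Hom.bar f), ← Over.w (Pair.Hom.bar s)]
      exact (pullback.condition_assoc _).symm
    · ext1
      exact pullback.condition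
  · haveI : IsIso (restr s) := hs
    have := A.isProper; have := B.isProper
    have e1 : restr f₁ = restr f₂ := by
      rw [← cancel_mono (restr s), ← cancel_mono C.U.ι]
      simp only [Category.assoc, restr_ι]
      rw [← Category.assoc, restr_ι, ← Category.assoc (restr f₂), restr_ι, Category.assoc, Category.assoc]
      exact congrArg (fun φ => A.U.ι ≫ (Pair.Hom.bar φ).left) heq
    let a := (Pair.Hom.bar f₁).left
    let c := (Pair.Hom.bar f₂).left
    let E := (equalizer (Pair.Hom.bar f₁) (Pair.Hom.bar f₂)).left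
    let q : E ⟶ A.bar.left := (equalizer.ι (Pair.Hom.bar f₁) (Pair.Hom.bar f₂)).left
    haveI : IsClosedImmersion q := isClosedImmersion_equalizer_ι_left (Pair.Hom.bar f₁) (Pair.Hom.bar f₂)
    let O : E.Opens := q ⁻¹ᵁ A.U
    have w : A.U.ι ≫ a = A.U.ι ≫ c := by simp only [a, c, ← restr_ι, e1]
    let l : (A.U : Scheme.{u}) ⟶ E :=
      (equalizer.lift (Over.homMk A.U.ι rfl : Over.mk (A.U.ι ≫ A.bar.hom) ⟶ A.bar) (by ext1; exact w)).left
    have hlq : l ≫ q = A.U.ι := by
      simp only [l, q, ← Over.comp_left, equalizer.lift_ι]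
      rfl
    have hl : Set.range l ⊆ Set.range O.ι := by
      rw [Scheme.Opens.range_ι]
      rintro _ ⟨x, rfl⟩
      change q _ ∈ A.U
      rw [← Scheme.Hom.comp_apply, hlq]
      exact x.2
    let σ := IsOpenImmersion.lift O.ι _ hl
    have h1 : σ ≫ O.ι ≫ q = A.U.ι := by rw [IsOpenImmersion.lift_fac_assoc, hlq]
    have h2 : q.resLE A.U O le_rfl ≫ σ = 𝟙 _ := by
      rw [← cancel_mono O.ι, ← cancel_mono q, Category.assoc, Category.assoc, Category.id_comp, h1,
        Scheme.Hom.resLE_comp_ι]
    obtain ⟨hP, hc, hW⟩ := mk_arrow A q O le_rfl σ h1 h2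
    refine ⟨_, _, hW, Pair.Hom.ext ?_⟩
    ext1
    have h := congrArg (fun φ => φ.left) (equalizer.condition (Pair.Hom.bar f₁) (Pair.Hom.bar f₂))
    simp only [Over.comp_left] at h
    simp only [Pair.comp_bar, Over.comp_left, Over.homMk_left]
    exact h

end Groth.Agent.S9033
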