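import Groth.Statements.S9034
import Groth.Agent.S9033
import Mathlib.AlgebraicGeometry.Morphisms.SchemeTheoreticallyDominant
-- import your own Groth.Agent.* helpers here

set_option autoImplicit false
universe u
open Cpct

namespace Groth.Agent.S9034

open CategoryTheory CategoryTheory.Limits AlgebraicGeometry Cpct Groth.Agent.S9033

set_option backward.isDefEq.respectTransparency false

theorem exists_eq_of_restr_eq {S : Scheme.{u}} {A B : Pair S} (f₁ f₂ : A ⟶ B) (e1 : restr f₁ = restr f₂) :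
    ∃ (D : Pair S) (v : D ⟶ A) (_ : isoOpen S v), v ≫ f₁ = v ≫ f₂ := by
  have := A.isProper; have := B.isProper
  let a := (Pair.Hom.bar f₁).left
  let c := (Pair.Hom.bar f₂).left
  let E := (equalizer (Pair.Hom.bar f₁) (Pair.Hom.bar f₂)).left
  let q : E ⟶ A.bar.left := (equalizer.ι (Pair.Hom.bar f₁) (Pair.Hom.bar f₂)).left
  haveI : IsClosedImmersion q := isClosedImmersion_equalizer_ι_left (Pair.Hom.bar f₁) (Pair.Hom.bar f₂)
  let O : E.Opens := q ⁻¹ᵁ A.U
  have w : A.U.ι ≫ a = A.U.ι ≫ c := by simp only [a, c, ← restr_ι, e1]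
  let l : (A.U : Scheme.{u}) ⟶ E :=
    (equalizer.lift (Over.homMk A.U.ι rfl : Over.mk (A.U.ι ≫ A.bar.hom) ⟶ A.bar) (by ext1; exact w)).left
  have hlq : l ≫ q = A.U.ι := by
    simp only [l, q, ← Over.comp_left, equalizer.lift_ι]
    rfl
  have hl : Set.range l ⊆ Set.range O.ι := by
    rw [Scheme.Opens.range_ι]
    rintro _ ⟨x, rfl⟩
    change q _ ∈ A.U
    rw [← Scheme.Hom.comp_apply, hlq]
    exact x.2
  let σ := IsOpenImmersion.lift O.ι _ hl
  have h1 : σ ≫ O.ι ≫ q = A.U.ι := by rw [IsOpenImmersion.lift_fac_assoc, hlq]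
  have h2 : q.resLE A.U O le_rfl ≫ σ = 𝟙 _ := by
    rw [← cancel_mono O.ι, ← cancel_mono q, Category.assoc, Category.assoc, Category.id_comp, h1,
      Scheme.Hom.resLE_comp_ι]
  obtain ⟨hP, hc, hW⟩ := mk_arrow A q O le_rfl σ h1 h2
  refine ⟨_, _, hW, Pair.Hom.ext ?_⟩
  ext1
  have h := congrArg (fun φ => φ.left) (equalizer.condition (Pair.Hom.bar f₁) (Pair.Hom.bar f₂))
  simp only [Over.comp_left] at h
  simp only [Pair.comp_bar, Over.comp_left, Over.homMk_left]
  exact h

theorem isSTD_toImage {X Y : Scheme.{u}} (l : X ⟶ Y) [QuasiCompact l] : IsSchemeTheoreticallyDominant l.toImage := by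
  refine ⟨Scheme.IdealSheafData.ext_of_iSup_eq_top
    (fun U : Y.affineOpens => ⟨l.imageι ⁻¹ᵁ U, U.2.preimage l.imageι⟩) ?_ fun U => ?_⟩
  · change ⨆ U : Y.affineOpens, l.imageι ⁻¹ᵁ (U : Y.Opens) = ⊤
    rw [← Scheme.Hom.preimage_iSup, iSup_affineOpens_eq_top, Scheme.Hom.preimage_top]
  · rw [Scheme.Hom.ker_apply, Scheme.IdealSheafData.ideal_bot, Pi.bot_apply]
    exact (RingHom.injective_iff_ker_eq_bot _).1 (l.toImage_app_injective U)

theorem exists_roof {S : Scheme.{u}} [CompactSpace S] [QuasiSeparatedSpace S] (A B : Pair S) (h : openOver.obj A ⟶ openOver.obj B) :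
    ∃ (D : Pair S) (v : D ⟶ A) (_ : isoOpen S v) (g : D ⟶ B), openOver.map v ≫ h = openOver.map g := by
  have := A.isProper; have := B.isProper
  let P := pullback A.bar.hom B.bar.hom
  let h0 : (A.U : Scheme.{u}) ⟶ (B.U : Scheme.{u}) := h.left
  let l : (A.U : Scheme.{u}) ⟶ P := pullback.lift A.U.ι (h0 ≫ B.U.ι)
    (by rw [Category.assoc]; exact (Over.w h).symm)
  haveI : IsProper (pullback.fst A.bar.hom B.bar.hom) := MorphismProperty.pullback_fst _ _ ‹_›
  haveI : CompactSpace A.U := isCompact_iff_compactSpace.1 A.isCompact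
  haveI : QuasiSeparatedSpace P :=
    quasiSeparatedSpace_of_quasiSeparated (pullback.fst A.bar.hom B.bar.hom ≫ A.bar.hom)
  haveI : QuasiCompact l := quasiCompact_of_compactSpace l
  haveI := isSTD_toImage l
  let q : l.image ⟶ A.bar.left := l.imageι ≫ pullback.fst _ _
  let r : l.image ⟶ B.bar.left := l.imageι ≫ pullback.snd _ _
  have hq : l.toImage ≫ q = A.U.ι := by simp [q, l]
  have hr : l.toImage ≫ r = h0 ≫ B.U.ι := by simp [r, l]
  let O : l.image.Opens := q ⁻¹ᵁ A.U ⊓ r ⁻¹ᵁ B.U
  have hl : ∀ x, l.toImage x ∈ O := fun x => ⟨by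
      change q (l.toImage x) ∈ A.U
      rw [← Scheme.Hom.comp_apply, hq]; exact x.2, by
      change r (l.toImage x) ∈ B.U
      rw [← Scheme.Hom.comp_apply, hr, Scheme.Hom.comp_apply]; exact Subtype.prop _⟩
  let σ := IsOpenImmersion.lift O.ι l.toImage (by rw [Scheme.Opens.range_ι]; rintro _ ⟨x, rfl⟩; exact hl x)
  have hσ : σ ≫ O.ι = l.toImage := IsOpenImmersion.lift_fac _ _ _
  have h1 : σ ≫ O.ι ≫ q = A.U.ι := by rw [reassoc_of% hσ, hq]
  have h3 : σ ≫ q.resLE A.U O inf_le_left = 𝟙 _ := by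
    rw [← cancel_mono A.U.ι, Category.assoc, Scheme.Hom.resLE_comp_ι, h1, Category.id_comp]
  haveI : IsProper q := inferInstanceAs (IsProper (l.imageι ≫ pullback.fst _ _))
  haveI : IsSeparated (q.resLE A.U O inf_le_left) := by
    have : IsSeparated (q.resLE A.U O inf_le_left ≫ A.U.ι) := by rw [Scheme.Hom.resLE_comp_ι]; infer_instance
    exact IsSeparated.of_comp _ A.U.ι
  haveI : IsClosedImmersion σ := by
    haveI : IsClosedImmersion (σ ≫ q.resLE A.U O inf_le_left) := h3 ▸ inferInstance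
    exact IsClosedImmersion.of_comp σ (q.resLE A.U O inf_le_left)
  have sq : IsPullback (𝟙 _) σ l.toImage O.ι := IsPullback.mk' (by simp [hσ]) (fun T φ φ' e _ => by simpa using e)
    (fun T x y e => ⟨x, Category.comp_id x, by rw [← cancel_mono O.ι, Category.assoc, hσ, e]⟩)
  haveI : IsSchemeTheoreticallyDominant σ := IsSchemeTheoreticallyDominant.of_isPullback sq
  haveI : IsIso σ := IsClosedImmersion.isIso_iff_ker_eq_bot.2 σ.ker_eq_bot
  have h2 : q.resLE A.U O inf_le_left ≫ σ = 𝟙 _ := by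
    rw [IsIso.eq_inv_of_hom_inv_id h3, IsIso.inv_hom_id]
  obtain ⟨hP, hc, hW⟩ := mk_arrow A q O inf_le_left σ h1 h2
  refine ⟨_, _, hW, ⟨Over.homMk r ?_, fun x hx => hx.2⟩, ?_⟩
  · change r ≫ B.bar.hom = q ≫ A.bar.hom
    simp [q, r, pullback.condition]
  · ext1
    change q.resLE A.U O inf_le_left ≫ h0 = r.resLE B.U O inf_le_right
    rw [← cancel_mono B.U.ι, Category.assoc, Scheme.Hom.resLE_comp_ι, ← hr, ← hσ, Category.assoc,
      reassoc_of% h2]

open CategoryTheory CategoryTheory.Limits AlgebraicGeometry Opposite in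
/-- Fix a scheme S which is quasi-separated and quasi-compact. Sending a pair (X, X̄) to X gives a
functor from the category of compactifications over S (pairs of a scheme X̄ proper over S and a
quasi-compact open X ⊆ X̄, with morphisms the S-morphisms X̄' → X̄ sending X' into X) to the
category of compactifyable schemes over S (the full subcategory of schemes over S that are the open
part of such a pair), and this functor is a localization functor for the class of morphisms whose
open part X' → X is an isomorphism: it inverts that class and the induced functor from the localized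
category is an equivalence. -/
theorem result (S : Scheme.{u}) [CompactSpace S] [QuasiSeparatedSpace S] :
    (Cpct.openFunctor S).IsLocalization (Cpct.isoOpen S) := by
  haveI := Groth.Agent.S9033.result S
  let L := openFunctor S
  let W := isoOpen S
  have hinv : W.IsInvertedBy L := fun A B f hf => by
    haveI : IsIso ((Over.forget S).map (openOver.map f)) := hf
    haveI : IsIso (openOver.map f) := CategoryTheory.Functor.ReflectsIsomorphisms.reflects (Over.forget S) _
    haveI : IsIso ((ObjectProperty.ι (IsCompactifyable S)).map (L.map f)) := ‹IsIso (openOver.map f)›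
    exact isIso_of_reflects_iso (L.map f) (ObjectProperty.ι (IsCompactifyable S))
  let G := Localization.Construction.lift L hinv
  have hG : ∀ {A B : Pair S} (g : A ⟶ B), G.map (W.Q.map g) = L.map g := fun g => by
    simp only [G, Localization.Construction.lift, MorphismProperty.Q]; rfl
  refine ⟨hinv, ?_⟩
  change G.IsEquivalence
  have hsurj : ∀ X : W.Localization, ∃ A, W.Q.obj A = X := fun X =>
    ⟨(Localization.Construction.objEquiv W).symm X, (Localization.Construction.objEquiv W).apply_symm_apply X⟩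
  haveI : G.Faithful := ⟨fun {X Y} a b hab => by
    obtain ⟨A, rfl⟩ := hsurj X
    obtain ⟨B, rfl⟩ := hsurj Y
    obtain ⟨φ, rfl⟩ := Localization.exists_rightFraction W.Q W a
    obtain ⟨ψ, rfl⟩ := Localization.exists_rightFraction W.Q W b
    obtain ⟨χ, hχ⟩ := (MorphismProperty.LeftFraction.mk φ.s ψ.s ψ.hs).exists_rightFraction
    have hm : W (χ.s ≫ φ.s) := W.comp_mem _ _ χ.hs φ.hs
    haveI := Localization.inverts W.Q W _ hm
    rw [← cancel_epi (W.Q.map (χ.s ≫ φ.s))]
    have ea : W.Q.map (χ.s ≫ φ.s) ≫ φ.map W.Q (Localization.inverts _ _) = W.Q.map (χ.s ≫ φ.f) := by simp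
    have eb : W.Q.map (χ.s ≫ φ.s) ≫ ψ.map W.Q (Localization.inverts _ _) = W.Q.map (χ.f ≫ ψ.f) := by
      rw [show χ.s ≫ φ.s = χ.f ≫ ψ.s from hχ]; simp
    have e := congrArg (G.map (W.Q.map (χ.s ≫ φ.s)) ≫ ·) hab
    simp only [← G.map_comp] at e
    rw [ea, eb, hG, hG] at e
    rw [ea, eb]
    obtain ⟨D, v, hv, he⟩ := exists_eq_of_restr_eq _ _ (congrArg (fun φ => φ.hom.left) e)
    haveI := Localization.inverts W.Q W v hv
    rw [← cancel_epi (W.Q.map v), ← W.Q.map_comp, ← W.Q.map_comp, he]⟩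
  haveI : G.Full := ⟨fun {X Y} h => by
    obtain ⟨A, rfl⟩ := hsurj X
    obtain ⟨B, rfl⟩ := hsurj Y
    obtain ⟨D, v, hv, g, hg⟩ := exists_roof A B ((ObjectProperty.ι (IsCompactifyable S)).map h)
    haveI := Localization.inverts W.Q W v hv
    haveI := hinv v hv
    refine ⟨inv (W.Q.map v) ≫ W.Q.map g, ?_⟩
    rw [G.map_comp, Functor.map_inv, IsIso.inv_comp_eq, hG, hG]
    exact (ObjectProperty.ι (IsCompactifyable S)).map_injective hg.symm⟩
  haveI : G.EssSurj := ⟨fun X => by
    obtain ⟨A, ⟨e⟩⟩ := X.property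
    exact ⟨W.Q.obj A, ⟨(ObjectProperty.ι (IsCompactifyable S)).preimageIso e⟩⟩⟩
  exact {}

end Groth.Agent.S9034
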