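import Groth.Statements.S9041
import Groth.Agent.SiteBase.ModColimits
import Mathlib.CategoryTheory.Sites.EpiMono
import Mathlib.CategoryTheory.Abelian.GrothendieckCategory.EnoughInjectives
-- import your own Groth.Agent.* helpers here

set_option autoImplicit false
universe u
open CategoryTheory CategoryTheory.Limits Opposite
open ModSite

namespace Groth.Agent.S9041

open CategoryTheory Limits Opposite

variable {C : Type u} [SmallCategory C] {J : GrothendieckTopology C} {O : Sheaf J CommRingCat.{u}}

theorem exists_lift_sect {G F : ModSite.Mod O} (p : G ⟶ F) (ψ : SheafOfModules.unit (ModSite.ringSh O) ⟶ F)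
    (W : C) (a : G.val.obj (op W))
    (ha : (p.val.app (op W)).hom a = (SheafOfModules.unitHomEquiv F ψ).val (op W)) :
    ∃ l : (ModSite.restr O W).obj (SheafOfModules.unit (ModSite.ringSh O)) ⟶ (ModSite.restr O W).obj G,
      l ≫ (ModSite.restr O W).map p = (ModSite.restr O W).map ψ := by
  let σ : ((ModSite.restr O W).obj G).sections :=
    PresheafOfModules.sectionsMk (fun Z => G.val.map Z.unop.hom.op a) (by
      intro Z Z' g
      show G.val.map g.unop.left.op (G.val.map Z.unop.hom.op a) = G.val.map Z'.unop.hom.op a
      rw [← PresheafOfModules.map_comp_apply, ← op_comp, Over.w])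
  refine ⟨((ModSite.restr O W).obj G).unitHomEquiv.symm σ, ?_⟩
  apply ((ModSite.restr O W).obj F).unitHomEquiv.injective
  refine Eq.trans (SheafOfModules.unitHomEquiv_comp_apply _ _) ?_
  apply Subtype.ext
  funext Z
  rw [Equiv.apply_symm_apply]
  show (p.val.app (op Z.unop.left)).hom (G.val.map Z.unop.hom.op a) =
    (SheafOfModules.unitHomEquiv F ψ).val (op Z.unop.left)
  refine (PresheafOfModules.naturality_apply p.val Z.unop.hom.op a).trans ?_
  rw [ha]
  exact (SheafOfModules.unitHomEquiv F ψ).property Z.unop.hom.op

theorem exists_local_lift_free (n : ℕ) {G F : ModSite.Mod O} (p : G ⟶ F) [Epi p]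
    (ψ : SheafOfModules.free (R := ModSite.ringSh O) (ULift.{u} (Fin n)) ⟶ F) (V : C) :
    ∃ R ∈ J V, ∀ ⦃W : C⦄ (g : W ⟶ V), R g →
      ∃ l : (ModSite.restr O W).obj (SheafOfModules.free (R := ModSite.ringSh O) (ULift.{u} (Fin n))) ⟶
          (ModSite.restr O W).obj G,
        l ≫ (ModSite.restr O W).map p = (ModSite.restr O W).map ψ := by
  have hsurj : Sheaf.IsLocallySurjective ((SheafOfModules.toSheaf (ModSite.ringSh O)).map p) := by
    rw [Sheaf.isLocallySurjective_iff_epi']
    haveI : PreservesColimitsOfSize.{u, u} (SheafOfModules.toSheaf.{u} (ModSite.ringSh O)) := inferInstance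
    haveI : PreservesFiniteColimits (SheafOfModules.toSheaf (ModSite.ringSh O)) := PreservesColimitsOfSize.preservesFiniteColimits.{u, u} _
    exact Functor.map_epi _ p
  let s := fun j => SheafOfModules.unitHomEquiv F (SheafOfModules.ιFree j ≫ ψ)
  refine ⟨Finset.univ.inf (fun j => Presheaf.imageSieve ((SheafOfModules.toSheaf (ModSite.ringSh O)).map p).hom ((s j).val (op V))), ?_, ?_⟩
  · exact Finset.inf_induction (J.top_mem V) (fun _ h1 _ h2 => J.intersection_covering h1 h2)
      (fun j _ => hsurj.imageSieve_mem _)
  intro W g hg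
  have hl : ∀ j, ∃ l : (ModSite.restr O W).obj (SheafOfModules.unit (ModSite.ringSh O)) ⟶ (ModSite.restr O W).obj G,
      l ≫ (ModSite.restr O W).map p = (ModSite.restr O W).map (SheafOfModules.ιFree j ≫ ψ) := by
    intro j
    obtain ⟨a, ha⟩ := (Finset.inf_le (Finset.mem_univ j) : Finset.univ.inf (fun j => Presheaf.imageSieve ((SheafOfModules.toSheaf (ModSite.ringSh O)).map p).hom ((s j).val (op V))) ≤ _) _ hg
    exact exists_lift_sect p _ W a (Eq.trans ha ((s j).property g.op))
  choose l hl using hl
  haveI : (ModSite.restr O W).Additive := Functor.additive_of_preserves_binary_products _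
  haveI := preservesBiproductsOfShape_of_preservesProductsOfShape (ModSite.restr O W) (J := ULift.{u} (Fin n))
  haveI := preservesCoproductsOfShape_of_preservesBiproductsOfShape (ModSite.restr O W) (J := ULift.{u} (Fin n))
  have c := isColimitCofanMkObjOfIsColimit (ModSite.restr O W) _ _
    (SheafOfModules.isColimitFreeCofan (R := ModSite.ringSh O) (ULift.{u} (Fin n)))
  refine ⟨Cofan.IsColimit.desc c l, Cofan.IsColimit.hom_ext c _ _ fun j => ?_⟩
  rw [← Category.assoc, Cofan.IsColimit.fac, hl j, Functor.map_comp]
  rfl

/-- On a ringed site (C, O), let E be a direct summand of a finite free O-module, p : G → F a surjection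
of O-modules and φ : E → F a morphism. Then locally φ lifts through p: every object V has a covering
sieve such that over each of its arrows W → V there is a morphism E|_W → G|_W whose composite with
p|_W is φ|_W. (The published statement is phrased for modules over the localisation (C/U, O_U) at an
object U and a covering of U; a localised ringed site is again a ringed site, and this row states
the conclusion at every object of an arbitrary ringed site.) -/
theorem result
    {C : Type u} [SmallCategory C] {J : GrothendieckTopology C} (O : Sheaf J CommRingCat.{u})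
    (E F G : ModSite.Mod O) (hE : DCoh.IsFinFreeSummandMod (ModSite.ringSh O) E)
    (p : G ⟶ F) [Epi p] (φ : E ⟶ F) (V : C) :
    ∃ R ∈ J V, ∀ ⦃W : C⦄ (g : W ⟶ V), R g →
      ∃ l : (ModSite.restr O W).obj E ⟶ (ModSite.restr O W).obj G,
        l ≫ (ModSite.restr O W).map p = (ModSite.restr O W).map φ := by
  obtain ⟨n, i, q, hiq⟩ := hE
  obtain ⟨R, hR, h⟩ := exists_local_lift_free n p (q ≫ φ) V
  refine ⟨R, hR, fun W g hg => ?_⟩
  obtain ⟨l, hl⟩ := h g hg
  refine ⟨(ModSite.restr O W).map i ≫ l, ?_⟩
  rw [Category.assoc, hl, ← Functor.map_comp, reassoc_of% hiq]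

end Groth.Agent.S9041
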