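import Groth.Statements.S9042
import Groth.Agent.SiteRlim.Tower
import Groth.Agent.SiteRlim.Sites

set_option autoImplicit false
universe u
open CategoryTheory CategoryTheory.Limits Opposite
open ModSite

namespace Groth.Agent.S9042

/-- Let (C, O) be a ringed site, E an object of D(O), B a class of objects such that every object has a
covering by members of B, and p : ℤ → ℤ a function such that H^k(V, H^{m-k}(E)) = 0 for every V in
B, every m and every k > p(m). Then the canonical map from E to the derived limit of its truncations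
τ_{≥ -n} E is an isomorphism, i.e. E is a derived limit of that tower through the canonical maps.
The derived category of O-modules and the product of the truncations are instance hypotheses; H^k(V,
-) of an O-module is the cohomology of its underlying abelian sheaf. -/
theorem result
    {C : Type u} [SmallCategory C] {J : GrothendieckTopology C} (O : Sheaf J CommRingCat.{u})
    [HasDerivedCategory.{u} (ModSite.Mod O)] (E : DerivedCategory (ModSite.Mod O))
    [HasProduct (CohCx.truncTower E)] (B : Set C)
    (hB : ∀ U : C, ∃ (ι : Type u) (Y : ι → C) (f : ∀ i, Y i ⟶ U), Sieve.ofArrows Y f ∈ J U ∧ ∀ i, Y i ∈ B)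
    (p : ℤ → ℤ)
    (h : ∀ V ∈ B, ∀ (m : ℤ) (k : ℕ), p m < k →
      Subsingleton (ModSite.HU O ((DerivedCategory.homologyFunctor (ModSite.Mod O) (m - k)).obj E) k V)) :
    CohCx.IsRlimVia (CohCx.truncTower E) (CohCx.truncTowerMap E) E (CohCx.toTruncTower E) := by
  haveI := CategoryTheory.hasExt_of_hasDerivedCategory (C := ModSite.Mod O)
  refine SiteRlim.isRlimVia_truncTower (SiteRlim.modTestSys (ModSite.ringSh O)) hB E fun V hV => ⟨p, fun R hR => ?_⟩
  choose ι Y f hf hY using fun W : C => hB W
  refine ⟨Σ (W : C) (g : {g : W ⟶ V // R g}), ι W, fun a => Y a.1 a.2.2, fun a => f a.1 a.2.2 ≫ a.2.1.1,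
    fun a => R.downward_closed a.2.1.2 _, ?_, fun a m k hk _ => ?_⟩
  · refine J.superset_covering ?_ (J.bind_covering hR (R := fun W g _ => Sieve.ofArrows (Y W) (f W)) fun W g _ => hf W)
    intro X e he
    obtain ⟨W, b, g, hg, hb, rfl⟩ := he
    obtain ⟨i, c, rfl⟩ := (Sieve.mem_ofArrows_iff _ _ b).1 hb
    exact (Sieve.mem_ofArrows_iff _ _ _).2 ⟨(⟨W, ⟨g, hg⟩, i⟩ : Σ (W : C) (g : {g : W ⟶ V // R g}), ι W), c, Category.assoc _ _ _⟩
  · exact SiteRlim.subsingleton_ext_mod _ _ k _ (h _ (hY a.1 a.2.2) m k hk)

end Groth.Agent.S9042
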