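import Groth.Statements.S9059
import Groth.Agent.SiteBase.KFlat.Basic

set_option autoImplicit false
universe u
open CategoryTheory CategoryTheory.Limits Opposite
attribute [local instance] HasDerivedCategory.standard
open ModSite

namespace Groth.Agent.S9059

/-- On a ringed site (C, O), the colimit of a sequence K₁ → K₂ → … of K-flat complexes of O-modules is
K-flat. -/
theorem result
    {C : Type u} [SmallCategory C] {J : GrothendieckTopology C} (O : Sheaf J CommRingCat.{u})
    (K : ℕ ⥤ CochainComplex (ModSite.Mod O) ℤ) (hK : ∀ n : ℕ, ModSite.IsKFlat (K.obj n)) :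
    ModSite.IsKFlat (colimit K) := by
  haveI : CategoryTheory.HasExactColimitsOfShape ℕ (ModSite.Mod O) := inferInstance
  exact Groth.Agent.SiteBase.KFlat.isKFlat_colimit K hK (CategoryTheory.Limits.colimit.isColimit K)

end Groth.Agent.S9059
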