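import Groth.Statements.S9062
import Groth.Agent.FlatRel.PullKFlat
-- import your own Groth.Agent.* helpers here

set_option autoImplicit false
universe u
open CategoryTheory CategoryTheory.Limits Opposite
attribute [local instance] HasDerivedCategory.standard
open ModSite

attribute [local instance] IsFiltered.isConnected

namespace Groth.Agent.S9062

open Groth.Agent.SiteBase.KFlat

/-- the covers by flat modules -/
noncomputable def flatCovers {D : Type u} [SmallCategory D] {K : GrothendieckTopology D}
    (O : Sheaf K CommRingCat.{u}) :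
    CoverSys.Covers (A := ModSite.Mod O) (fun M => ModSite.IsFlat M) where
  obj M := cov M
  π M := covπ M
  prop M := isFlat_cov M
  epi M := epi_covπ M

/-- Let f be a morphism from the ringed site (C, O_C) to the ringed site (D, O_D) and K a K-flat complex
of O_D-modules whose terms are flat O_D-modules. Then f^*K (module pullback applied termwise) is a
K-flat complex of O_C-modules whose terms are flat O_C-modules. Stated for morphisms of ringed
sites; the published statement is for morphisms of ringed topoi. -/
theorem result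
    {C : Type u} [SmallCategory C] {J : GrothendieckTopology C} {O_C : Sheaf J CommRingCat.{u}}
    {D : Type u} [SmallCategory D] {K : GrothendieckTopology D} {O_D : Sheaf K CommRingCat.{u}}
    (f : ModSite.RMor O_C O_D) (L : CochainComplex (ModSite.Mod O_D) ℤ)
    (hL : ModSite.IsKFlat L) (hfl : ∀ n : ℤ, ModSite.IsFlat (L.X n)) :
    ModSite.IsKFlat ((f.pull.mapHomologicalComplex (ComplexShape.up ℤ)).obj L) ∧
      ∀ n : ℤ, ModSite.IsFlat (((f.pull.mapHomologicalComplex (ComplexShape.up ℤ)).obj L).X n) := by
  haveI : f.pull.IsLeftAdjoint := ⟨_, ⟨f.adj⟩⟩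
  refine ⟨?_, fun n => FlatRel.isFlat_pull f (hfl n)⟩
  haveI : ObjectProperty.IsClosedUnderIsomorphisms (C := ModSite.Mod O_D) (fun M => ModSite.IsFlat M) :=
    ⟨fun e h => SiteBase.isFlat_of_iso e h⟩
  obtain ⟨Kc, π, -, -, hle, hP, -, c, -, hq⟩ :=
    CoverSys.exists_system (flatCovers O_D) (fun Z hZ => isFlat_of_isZero hZ) L
      (fun X Y hX hY => isFlat_of_splitting (ShortComplex.Splitting.ofHasBinaryBiproduct X Y) hX hY)
  let N := colimit Kc
  have hNX : ∀ n, ModSite.IsFlat (N.X n) := fun n =>
    isFlat_colimit' (Kc ⋙ HomologicalComplex.eval _ _ n) (fun j => hP j n)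
      (isColimitOfPreserves (HomologicalComplex.eval _ _ n) (colimit.isColimit Kc))
  have hbdd : ∀ (j : ℕ) (q : ℤ), ((j : ℤ) + 1) < q → IsZero ((Kc.obj j).X q) := fun j q hlt =>
    haveI := hle j
    (Kc.obj j).isZero_of_isStrictlyLE ((j : ℤ) + 1) q hlt
  have hN : ModSite.IsKFlat N :=
    isKFlat_colimit Kc (fun j => isKFlat_of_bddAbove (fun q => hP j q) _ (hbdd j)) (colimit.isColimit Kc)
  let P := f.pull.mapHomologicalComplex (ComplexShape.up ℤ)
  have hPN : ModSite.IsKFlat (P.obj N) :=
    isKFlat_colimit (Kc ⋙ P)
      (fun j => isKFlat_of_bddAbove (fun q => FlatRel.isFlat_pull f (hP j q)) _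
        (fun q hlt => f.pull.map_isZero (hbdd j q hlt)))
      (c := P.mapCocone (colimit.cocone Kc))
      (HomologicalComplex.isColimitOfEval _ _ fun q =>
        isColimitOfPreserves (HomologicalComplex.eval _ _ q ⋙ f.pull) (colimit.isColimit Kc))
  haveI := hq
  have hac := (GrothSS.quasiIso_iff_acyclic_mappingCone c).1 inferInstance
  have hCK := isKFlat_cone c hN hL
  have hCX := fun n => isFlat_cone c hNX hfl n
  have hZ := fun n => isFlat_cycles hCK hac hCX n
  have hPC := FlatRel.isKFlat_pull_of_flat_cycles f hac hCX hZ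
  haveI : f.pull.Additive := f.adj.left_adjoint_additive
  exact isKFlat_tgt_of_cone (P.map c) hPN
    (isKFlat_of_iso (CochainComplex.mappingCone.mapHomologicalComplexIso c f.pull) hPC)

end Groth.Agent.S9062
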