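import Groth.Statements.S9065
import Groth.Agent.SiteRlim.Equiv
import Groth.Agent.SiteRlim.Ringed
import Groth.Agent.SiteDer.Push
import Groth.Agent.SiteBase.ModGrothendieck

set_option autoImplicit false
universe u
open CategoryTheory CategoryTheory.Limits Opposite
attribute [local instance] HasDerivedCategory.standard
open SiteCmp

namespace Groth.Agent.S9065

/-- Let f be a morphism from the ringed site (C, O_C) to the ringed site (D, O_D), A ⊂ Mod(O_C) and A' ⊂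
Mod(O_D) weak Serre subcategories and N an integer such that (1) C, O_C, A and (2) D, O_D, A' each
admit a set of objects covering everything, every member V of which has an integer d_V and a cofinal
system of coverings {V_i → V} with H^p(V_i, F) = 0 for F in the subcategory and p > d_V; (3) R^p f_*
F ∈ A' for p ≥ 0 and F ∈ A; (4) R^p f_* F = 0 for p > N and F ∈ A. Then for K in D_A(O_C): (a) Rf_*K
lies in D_{A'}(O_D), and (b) H^j(Rf_*K) → H^j(Rf_*(τ_{≥ -n}K)) is an isomorphism for j ≥ N - n.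
Stated for morphisms of ringed sites (the published statement is for ringed topoi); Rf_* is the
unbounded total derived direct image, under its existence binder, and R^p f_* the right derived
functors of f_*. -/
theorem result
    {C : Type u} [SmallCategory C] {J : GrothendieckTopology C} {O_C : Sheaf J CommRingCat.{u}}
    {D : Type u} [SmallCategory D] {K : GrothendieckTopology D} {O_D : Sheaf K CommRingCat.{u}}
    (f : ModSite.RMor O_C O_D) [HasInjectiveResolutions (ModSite.Mod O_C)] [SiteCmp.HasRpushD f]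
    (A : ObjectProperty (ModSite.Mod O_C)) [WSerre.IsWeakSerre A]
    (A' : ObjectProperty (ModSite.Mod O_D)) [WSerre.IsWeakSerre A']
    (B : Set C) (B' : Set D)
    (hB : ∀ U : C, ∃ (ι : Type u) (Y : ι → C) (g : ∀ i, Y i ⟶ U), Sieve.ofArrows Y g ∈ J U ∧ ∀ i, Y i ∈ B)
    (hA : ∀ V ∈ B, ∃ d : ℕ, ∀ T ∈ J V, ∃ (ι : Type u) (Y : ι → C) (g : ∀ i, Y i ⟶ V),
      (∀ i, T.arrows (g i)) ∧ Sieve.ofArrows Y g ∈ J V ∧
      ∀ (i : ι) (F : ModSite.Mod O_C), A F → ∀ k : ℕ, d < k → Subsingleton (ModSite.HU O_C F k (Y i)))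
    (hB' : ∀ U : D, ∃ (ι : Type u) (Y : ι → D) (g : ∀ i, Y i ⟶ U), Sieve.ofArrows Y g ∈ K U ∧ ∀ i, Y i ∈ B')
    (hA' : ∀ V ∈ B', ∃ d : ℕ, ∀ T ∈ K V, ∃ (ι : Type u) (Y : ι → D) (g : ∀ i, Y i ⟶ V),
      (∀ i, T.arrows (g i)) ∧ Sieve.ofArrows Y g ∈ K V ∧
      ∀ (i : ι) (F : ModSite.Mod O_D), A' F → ∀ k : ℕ, d < k → Subsingleton (ModSite.HU O_D F k (Y i)))
    (N : ℤ)
    (h3 : ∀ F : ModSite.Mod O_C, A F → ∀ p : ℕ, A' ((f.Rpush p).obj F))
    (h4 : ∀ F : ModSite.Mod O_C, A F → ∀ p : ℕ, N < (p : ℤ) → IsZero ((f.Rpush p).obj F))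
    (X : DerivedCategory (ModSite.Mod O_C)) (hX : WSerre.cohIn A X) :
    WSerre.cohIn A' ((SiteCmp.RpushD f).obj X) ∧
      ∀ (n : ℕ) (j : ℤ), N - (n : ℤ) ≤ j →
        IsIso ((DerivedCategory.homologyFunctor (ModSite.Mod O_D) j).map
          ((SiteCmp.RpushD f).map ((DerivedCategory.TStructure.t.truncGEπ (-(n : ℤ))).app X))) := by
  haveI : IsGrothendieckAbelian.{u} (ModSite.Mod O_C) := inferInstance
  haveI : HasExt.{u} (ModSite.Mod O_C) := hasExt_of_enoughInjectives _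
  haveI : IsGrothendieckAbelian.{u} (ModSite.Mod O_D) := inferInstance
  haveI : HasExt.{u} (ModSite.Mod O_D) := hasExt_of_enoughInjectives _
  haveI : f.push.Additive := f.adj.right_adjoint_additive
  have hd : ∀ V ∈ B, ∃ d : ℕ, ∀ S ∈ J V, ∃ (ι : Type u) (Y : ι → C) (g : ∀ i, Y i ⟶ V),
      (∀ i, S.arrows (g i)) ∧ Sieve.ofArrows Y g ∈ J V ∧
      ∀ (i : ι) (M : ModSite.Mod O_C), A M → ∀ k : ℕ, d < k →
        Subsingleton (Abelian.Ext.{u} ((SiteRlim.modTestSys (ModSite.ringSh O_C)).P.obj (Y i)) M k) := fun V hV => by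
    obtain ⟨d, hd⟩ := hA V hV
    refine ⟨d, fun S hS => ?_⟩
    obtain ⟨ι, Y, g, h1, h2, h3⟩ := hd S hS
    exact ⟨ι, Y, g, h1, h2, fun i M hM k hk => SiteRlim.subsingleton_ext_mod _ _ k _ (h3 i M hM k hk)⟩
  have hd' : ∀ V ∈ B', ∃ d : ℕ, ∀ S ∈ K V, ∃ (ι : Type u) (Y : ι → D) (g : ∀ i, Y i ⟶ V),
      (∀ i, S.arrows (g i)) ∧ Sieve.ofArrows Y g ∈ K V ∧
      ∀ (i : ι) (M : ModSite.Mod O_D), A' M → ∀ k : ℕ, d < k →
        Subsingleton (Abelian.Ext.{u} ((SiteRlim.modTestSys (ModSite.ringSh O_D)).P.obj (Y i)) M k) := fun V hV => by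
    obtain ⟨d, hd⟩ := hA' V hV
    refine ⟨d, fun S hS => ?_⟩
    obtain ⟨ι, Y, g, h1, h2, h3⟩ := hd S hS
    exact ⟨ι, Y, g, h1, h2, fun i M hM k hk => SiteRlim.subsingleton_ext_mod _ _ k _ (h3 i M hM k hk)⟩
  let η := (SiteCmp.pushKh f).totalRightDerivedUnit DerivedCategory.Qh
    (HomotopyCategory.quasiIso (ModSite.Mod O_C) (ComplexShape.up ℤ))
  have hη : ∀ P, SiteDer.kInjP P → IsIso (η.app P) := fun P hP => SiteDer.isIso_unit f.push hP
  have hε := SiteRlim.exists_testEquiv f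
  have hlim : ∀ (Kt : ℕ → DerivedCategory (ModSite.Mod O_C)) (t : ∀ n, Kt (n + 1) ⟶ Kt n) [HasProduct Kt]
      [HasProduct fun n => (SiteCmp.RpushD f).obj (Kt n)] (L : DerivedCategory (ModSite.Mod O_C)) (a : ∀ n, L ⟶ Kt n),
      CohCx.IsRlimVia Kt t L a → CohCx.IsRlimVia (fun n => (SiteCmp.RpushD f).obj (Kt n))
        (fun n => (SiteCmp.RpushD f).map (t n)) ((SiteCmp.RpushD f).obj L) (fun n => (SiteCmp.RpushD f).map (a n)) :=
    fun Kt t _ _ L a hL => by
      obtain ⟨c, hc⟩ := hL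
      exact SiteDer.isRlimVia_rightDerived f.push (fun I hIp hI Z _ e => SiteDer.exists_iso_pi f (Z := Z) I hI e)
        Kt t (SiteCmp.RpushD f) η hη L a c hc
  exact SiteRlim.cohIn_and_isIso_homology_push _ _ f.fn.obj (SiteCmp.RpushD f) hε f.push η hη A N h4 hB hd hB' hlim
    X hX A' h3 hd'

end Groth.Agent.S9065
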