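import Groth.Statements.S9066
import Groth.Agent.SiteRlim.Equiv
import Groth.Agent.SiteRlim.Ringed
import Groth.Agent.SiteDer.Push
import Groth.Agent.SiteBase.ModGrothendieck

set_option autoImplicit false
universe u
open CategoryTheory CategoryTheory.Limits Opposite
attribute [local instance] HasDerivedCategory.standard
open SiteCmp

namespace Groth.Agent.S9066

/-- Let f be a morphism from the ringed site (C, O_C) to the ringed site (D, O_D) with underlying
continuous functor u : D → C, A ⊂ Mod(O_C) a weak Serre subcategory and N an integer such that (1)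
C, O_C, A admit a set B of objects covering everything, every V ∈ B having an integer d_V and a
cofinal system of coverings {V_i → V} with H^p(V_i, F) = 0 for F ∈ A and p > d_V; (2) there is a set
B' of objects of D covering everything, every V' ∈ B' having an integer d_{V'} and a cofinal system
of coverings {V'_i → V'} with H^p(u(V'_i), F) = 0 for F ∈ A and p > d_{V'}; (3) R^p f_* F = 0 for p
> N and F ∈ A. Then for K in D_A(O_C) the map H^j(Rf_*K) → H^j(Rf_*(τ_{≥ -n}K)) is an isomorphism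
for j ≥ N - n. Rf_* is the unbounded total derived direct image under its existence binder and R^p
f_* the right derived functors of f_*. -/
theorem result
    {C : Type u} [SmallCategory C] {J : GrothendieckTopology C} {O_C : Sheaf J CommRingCat.{u}}
    {D : Type u} [SmallCategory D] {K : GrothendieckTopology D} {O_D : Sheaf K CommRingCat.{u}}
    (f : ModSite.RMor O_C O_D) [HasInjectiveResolutions (ModSite.Mod O_C)] [SiteCmp.HasRpushD f]
    (A : ObjectProperty (ModSite.Mod O_C)) [WSerre.IsWeakSerre A]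
    (B : Set C) (B' : Set D)
    (hB : ∀ U : C, ∃ (ι : Type u) (Y : ι → C) (g : ∀ i, Y i ⟶ U), Sieve.ofArrows Y g ∈ J U ∧ ∀ i, Y i ∈ B)
    (hA : ∀ V ∈ B, ∃ d : ℕ, ∀ T ∈ J V, ∃ (ι : Type u) (Y : ι → C) (g : ∀ i, Y i ⟶ V),
      (∀ i, T.arrows (g i)) ∧ Sieve.ofArrows Y g ∈ J V ∧
      ∀ (i : ι) (F : ModSite.Mod O_C), A F → ∀ k : ℕ, d < k → Subsingleton (ModSite.HU O_C F k (Y i)))
    (hB' : ∀ U : D, ∃ (ι : Type u) (Y : ι → D) (g : ∀ i, Y i ⟶ U), Sieve.ofArrows Y g ∈ K U ∧ ∀ i, Y i ∈ B')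
    (hA' : ∀ V ∈ B', ∃ d : ℕ, ∀ T ∈ K V, ∃ (ι : Type u) (Y : ι → D) (g : ∀ i, Y i ⟶ V),
      (∀ i, T.arrows (g i)) ∧ Sieve.ofArrows Y g ∈ K V ∧
      ∀ (i : ι) (F : ModSite.Mod O_C), A F → ∀ k : ℕ, d < k → Subsingleton (ModSite.HU O_C F k (f.fn.obj (Y i))))
    (N : ℤ)
    (h3 : ∀ F : ModSite.Mod O_C, A F → ∀ p : ℕ, N < (p : ℤ) → IsZero ((f.Rpush p).obj F))
    (X : DerivedCategory (ModSite.Mod O_C)) (hX : WSerre.cohIn A X) (n : ℕ) (j : ℤ) (hj : N - (n : ℤ) ≤ j) :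
    IsIso ((DerivedCategory.homologyFunctor (ModSite.Mod O_D) j).map
      ((SiteCmp.RpushD f).map ((DerivedCategory.TStructure.t.truncGEπ (-(n : ℤ))).app X))) := by
  haveI : IsGrothendieckAbelian.{u} (ModSite.Mod O_C) := inferInstance
  haveI : HasExt.{u} (ModSite.Mod O_C) := hasExt_of_enoughInjectives _
  haveI : IsGrothendieckAbelian.{u} (ModSite.Mod O_D) := inferInstance
  haveI : HasExt.{u} (ModSite.Mod O_D) := hasExt_of_enoughInjectives _
  haveI : f.push.Additive := f.adj.right_adjoint_additive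
  have hd : ∀ V ∈ B, ∃ d : ℕ, ∀ S ∈ J V, ∃ (ι : Type u) (Y : ι → C) (g : ∀ i, Y i ⟶ V),
      (∀ i, S.arrows (g i)) ∧ Sieve.ofArrows Y g ∈ J V ∧
      ∀ (i : ι) (M : ModSite.Mod O_C), A M → ∀ k : ℕ, d < k →
        Subsingleton (Abelian.Ext.{u} ((SiteRlim.modTestSys (ModSite.ringSh O_C)).P.obj (Y i)) M k) := fun V hV => by
    obtain ⟨d, hd⟩ := hA V hV
    refine ⟨d, fun S hS => ?_⟩
    obtain ⟨ι, Y, g, h1, h2, h3⟩ := hd S hS
    exact ⟨ι, Y, g, h1, h2, fun i M hM k hk => SiteRlim.subsingleton_ext_mod _ _ k _ (h3 i M hM k hk)⟩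
  have hd' : ∀ V ∈ B', ∃ d : ℕ, ∀ S ∈ K V, ∃ (ι : Type u) (Y : ι → D) (g : ∀ i, Y i ⟶ V),
      (∀ i, S.arrows (g i)) ∧ Sieve.ofArrows Y g ∈ K V ∧
      ∀ (i : ι) (M : ModSite.Mod O_C), A M → ∀ k : ℕ, d < k →
        Subsingleton (Abelian.Ext.{u} ((SiteRlim.modTestSys (ModSite.ringSh O_C)).P.obj (f.fn.obj (Y i))) M k) := fun V hV => by
    obtain ⟨d, hd⟩ := hA' V hV
    refine ⟨d, fun S hS => ?_⟩
    obtain ⟨ι, Y, g, h1, h2, h3⟩ := hd S hS
    exact ⟨ι, Y, g, h1, h2, fun i M hM k hk => SiteRlim.subsingleton_ext_mod _ _ k _ (h3 i M hM k hk)⟩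
  let η := (SiteCmp.pushKh f).totalRightDerivedUnit DerivedCategory.Qh
    (HomotopyCategory.quasiIso (ModSite.Mod O_C) (ComplexShape.up ℤ))
  have hη : ∀ P, SiteDer.kInjP P → IsIso (η.app P) := fun P hP => SiteDer.isIso_unit f.push hP
  have hε := SiteRlim.exists_testEquiv f
  have hlim : ∀ (Kt : ℕ → DerivedCategory (ModSite.Mod O_C)) (t : ∀ n, Kt (n + 1) ⟶ Kt n) [HasProduct Kt]
      [HasProduct fun n => (SiteCmp.RpushD f).obj (Kt n)] (L : DerivedCategory (ModSite.Mod O_C)) (a : ∀ n, L ⟶ Kt n),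
      CohCx.IsRlimVia Kt t L a → CohCx.IsRlimVia (fun n => (SiteCmp.RpushD f).obj (Kt n))
        (fun n => (SiteCmp.RpushD f).map (t n)) ((SiteCmp.RpushD f).obj L) (fun n => (SiteCmp.RpushD f).map (a n)) :=
    fun Kt t _ _ L a hL => by
      obtain ⟨c, hc⟩ := hL
      exact SiteDer.isRlimVia_rightDerived f.push (fun I hIp hI Z _ e => SiteDer.exists_iso_pi f (Z := Z) I hI e)
        Kt t (SiteCmp.RpushD f) η hη L a c hc
  exact SiteRlim.isIso_homology_push_of_upstairs _ _ f.fn.obj (SiteCmp.RpushD f) hε f.push η hη A N h3 hB hd hB' hlim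
    X hX hd' n j hj

end Groth.Agent.S9066
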