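import Groth.Statements.S9071
import Groth.Agent.SiteRlim.EpsPush
import Groth.Agent.SiteRlim.Eps

set_option autoImplicit false
universe u
open CategoryTheory CategoryTheory.Limits Opposite
attribute [local instance] HasDerivedCategory.standard
open SiteCmp

namespace Groth.Agent.S9071

/-- Let τ' be a coarser topology than τ on a category C, O a τ-sheaf of rings and ε the comparison
morphism from (C_τ, O) to (C_τ', O). Let B be a set of objects and A a full subcategory of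
presheaves of O-modules such that (1) every object of A is a τ-sheaf, (2) A forms a weak Serre
subcategory inside Mod(O_τ), (3) each object of C admits a τ'-covering by members of B, and (4)
H^p_τ(U, F) = 0 for U ∈ B, F ∈ A, p > 0. Then the essential image of A under ε_* forms a weak Serre
subcategory inside Mod(O_τ') and ε^*, Rε_* are quasi-inverse equivalences between D_A(O_τ') and
D_A(O_τ): on objects with cohomology sheaves in the respective subcategory, ε^* and Rε_* preserve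
that condition and the unit and counit are isomorphisms. In the order of topologies used here the
finer topology τ is the larger one, J, and τ' is J' ≤ J; A is given as a property of τ-sheaves of
modules (condition (1) built in); flatness of ε, existence of the unbounded Rε_* and an adjunction
ε^* ⊣ Rε_* are hypotheses. -/
theorem result
    {C : Type u} [SmallCategory C] {J J' : GrothendieckTopology C} (h : J' ≤ J) (O : Sheaf J CommRingCat.{u})
    [PreservesFiniteLimits (SiteCmp.eps h O).pull] [SiteCmp.HasRpushD (SiteCmp.eps h O)]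
    (adj : SiteCmp.pullD (SiteCmp.eps h O) ⊣ SiteCmp.RpushD (SiteCmp.eps h O))
    (A : ObjectProperty (ModSite.Mod O)) [WSerre.IsWeakSerre A] (B : Set C)
    (h3 : ∀ U : C, ∃ (ι : Type u) (Y : ι → C) (g : ∀ i, Y i ⟶ U), Sieve.ofArrows Y g ∈ J' U ∧ ∀ i, Y i ∈ B)
    (h4 : ∀ U ∈ B, ∀ F : ModSite.Mod O, A F → ∀ p : ℕ, 0 < p → Subsingleton (ModSite.HU O F p U)) :
    WSerre.IsWeakSerre (A.map (SiteCmp.eps h O).push) ∧
    (∀ Y : DerivedCategory (ModSite.Mod (SiteCmp.epsRing h O)), WSerre.cohIn (A.map (SiteCmp.eps h O).push) Y →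
      WSerre.cohIn A ((SiteCmp.pullD (SiteCmp.eps h O)).obj Y) ∧ IsIso (adj.unit.app Y)) ∧
    (∀ X : DerivedCategory (ModSite.Mod O), WSerre.cohIn A X →
      WSerre.cohIn (A.map (SiteCmp.eps h O).push) ((SiteCmp.RpushD (SiteCmp.eps h O)).obj X) ∧
      IsIso (adj.counit.app X)) := by
  haveI : IsGrothendieckAbelian.{u} (ModSite.Mod O) := inferInstance
  haveI : HasExt.{u} (ModSite.Mod O) := hasExt_of_enoughInjectives _
  haveI : IsGrothendieckAbelian.{u} (ModSite.Mod (SiteCmp.epsRing h O)) := inferInstance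
  let f := SiteCmp.eps h O
  haveI : f.pull.Additive := f.adj.left_adjoint_additive
  let T := SiteRlim.modTestSys (ModSite.ringSh O)
  let T' := SiteRlim.modTestSys (ModSite.ringSh (SiteCmp.epsRing h O))
  have hff := SiteRlim.isIso_eps_counit h O
  have hvan : ∀ W ∈ B, ∀ F, A F → ∀ p : ℕ, 0 < p →
      Subsingleton (Abelian.Ext.{u} (T.P.obj (f.fn.obj W)) F p) := fun W hW F hF p hp =>
    SiteRlim.subsingleton_ext_mod _ _ p _ (h4 W hW F hF p hp)
  have hW : WSerre.IsWeakSerre (SiteRlim.pushA f A) := SiteRlim.isWeakSerre_pushA f A h3 hvan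
  rw [SiteRlim.map_eq_pushA f A hff]
  refine ⟨hW, ?_⟩
  have h2a : ∀ M, SiteRlim.pushA f A M → A (f.pull.obj M) := fun M hM => hM.1
  have h2b : ∀ M N, SiteRlim.pushA f A M → SiteRlim.pushA f A N →
      Function.Bijective (fun φ : M ⟶ N => f.pull.map φ) := fun M N _ hN => by
    haveI := hN.2
    have h1 : (fun φ : M ⟶ N => f.pull.map φ) =
        (f.adj.homEquiv M (f.pull.obj N)).symm ∘ (Iso.homToEquiv (asIso (f.adj.unit.app N))) := by
      funext ψ
      simp [Adjunction.homEquiv_counit]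
    rw [h1]
    exact (f.adj.homEquiv _ _).symm.bijective.comp (Iso.homToEquiv _).bijective
  have h2c : ∀ F, A F → ∃ M, SiteRlim.pushA f A M ∧ Nonempty (f.pull.obj M ≅ F) := fun F hF => by
    haveI := hff F
    refine ⟨f.push.obj F, ?_, ⟨asIso (f.adj.counit.app F)⟩⟩
    rw [← SiteRlim.map_eq_pushA f A hff]
    exact ⟨F, hF, ⟨Iso.refl _⟩⟩
  have h3' := SiteRlim.isIso_derived_unit f A h3 hvan adj
  choose ι Y g hg hY using h3
  have hJ : ∀ U : C, ∃ (ι : Type u) (Y : ι → C) (g : ∀ i, Y i ⟶ U), Sieve.ofArrows Y g ∈ J U ∧ ∀ i, Y i ∈ B :=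
    fun U => ⟨ι U, Y U, g U, h U (hg U), hY U⟩
  have href : ∀ (K : GrothendieckTopology C), J' ≤ K → ∀ V : C, ∀ S ∈ K V,
      ∃ (κ : Type u) (Z : κ → C) (z : ∀ i, Z i ⟶ V), (∀ i, S.arrows (z i)) ∧ Sieve.ofArrows Z z ∈ K V ∧
        ∀ i, Z i ∈ B := by
    intro K hK V S hS
    refine ⟨Σ (W : C) (k : {k : W ⟶ V // S k}), ι W, fun a => Y a.1 a.2.2, fun a => g a.1 a.2.2 ≫ a.2.1.1,
      fun a => S.downward_closed a.2.1.2 _, ?_, fun a => hY a.1 a.2.2⟩
    refine K.superset_covering ?_ (K.bind_covering hS (R := fun W k _ => Sieve.ofArrows (Y W) (g W))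
      fun W k _ => hK W (hg W))
    intro X e he
    obtain ⟨W, b, k, hk, hb, rfl⟩ := he
    obtain ⟨i, c, rfl⟩ := (Sieve.mem_ofArrows_iff _ _ b).1 hb
    exact (Sieve.mem_ofArrows_iff _ _ _).2
      ⟨(⟨W, ⟨k, hk⟩, i⟩ : Σ (W : C) (k : {k : W ⟶ V // S k}), ι W), c, Category.assoc _ _ _⟩
  have hd : ∀ V ∈ B, ∃ d : ℕ, ∀ S ∈ J V, ∃ (κ : Type u) (Z : κ → C) (z : ∀ i, Z i ⟶ V),
      (∀ i, S.arrows (z i)) ∧ Sieve.ofArrows Z z ∈ J V ∧
      ∀ (i : κ) (M : ModSite.Mod O), A M → ∀ k : ℕ, d < k → Subsingleton (Abelian.Ext.{u} (T.P.obj (Z i)) M k) :=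
    fun V _ => ⟨0, fun S hS => by
      obtain ⟨κ, Z, z, a, b, c⟩ := href J h V S hS
      exact ⟨κ, Z, z, a, b, fun i M hM k hk => hvan (Z i) (c i) M hM k hk⟩⟩
  have hd' : ∀ V ∈ B, ∃ d : ℕ, ∀ S ∈ J' V, ∃ (κ : Type u) (Z : κ → C) (z : ∀ i, Z i ⟶ V),
      (∀ i, S.arrows (z i)) ∧ Sieve.ofArrows Z z ∈ J' V ∧
      ∀ (i : κ) (M : ModSite.Mod O), A M → ∀ k : ℕ, d < k →
        Subsingleton (Abelian.Ext.{u} (T.P.obj (f.fn.obj (Z i))) M k) :=
    fun V _ => ⟨0, fun S hS => by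
      obtain ⟨κ, Z, z, a, b, c⟩ := href J' le_rfl V S hS
      exact ⟨κ, Z, z, a, b, fun i M hM k hk => hvan (Z i) (c i) M hM k hk⟩⟩
  have hJ' : ∀ U : C, ∃ (ι : Type u) (Y : ι → C) (g : ∀ i, Y i ⟶ U), Sieve.ofArrows Y g ∈ J' U ∧ ∀ i, Y i ∈ B :=
    fun U => ⟨ι U, Y U, g U, hg U, hY U⟩
  have hpull : ∀ W, Nonempty (f.pull.obj (T'.P.obj W) ≅ T.P.obj (f.fn.obj W)) := fun W => ⟨SiteRlim.pullTestIso f W⟩
  have hR : ∀ X : DerivedCategory (ModSite.Mod O), WSerre.cohIn A X →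
      WSerre.cohIn (SiteRlim.pushA f A) ((SiteCmp.RpushD f).obj X) ∧ IsIso (adj.counit.app X) := fun X hX =>
    SiteRlim.cohIn_and_isIso_counit T T' adj A (SiteRlim.pushA f A) h2a h2b h2c h3' hJ hd hJ' X hX
      (SiteRlim.hb_upstairs T T' f.fn.obj adj hpull A (SiteRlim.pushA f A) h2a h2b h2c h3' hJ hd hJ' X hX hd')
  refine ⟨fun Y' hY' => ?_, hR⟩
  have hFY := SiteDer.cohIn_mapDerived f.pull (SiteRlim.pushA f A) A h2a Y' hY'
  exact ⟨hFY, SiteRlim.isIso_unit_of_counit adj (SiteRlim.pushA f A) h2b Y' hY' (hR _ hFY).1 (hR _ hFY).2⟩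

end Groth.Agent.S9071
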