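import Groth.Statements.S9089

set_option autoImplicit false
universe u
open CategoryTheory Opposite
open ModSite

namespace Groth.Agent.S9089

/-- Part (1): ⇔ (2), for a ringed site (C, O) with C small and O a sheaf of commutative rings: the
following are equivalent. (1) For every object U and every section f of O over U there is a covering
sieve on U on each of whose arrows either f or 1 - f restricts to a unit. (2) For every object U,
every n ≥ 1 and all sections f₁, …, fₙ of O over U generating the unit ideal of O(U), there is a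
covering sieve on U on each of whose arrows some fᵢ restricts to a unit. -/
theorem result {C : Type u} [SmallCategory C] (J : GrothendieckTopology C)
    (O : Sheaf J CommRingCat.{u}) :
    (∀ (U : C) (f : O.obj.obj (op U)), ∃ S ∈ J U, ∀ ⦃V : C⦄ (g : V ⟶ U), S g →
        IsUnit ((O.obj.map g.op).hom f) ∨ IsUnit ((O.obj.map g.op).hom (1 - f))) ↔
    (∀ (U : C) (n : ℕ) (f : Fin n → O.obj.obj (op U)), 1 ≤ n → Ideal.span (Set.range f) = ⊤ →
        ∃ S ∈ J U, ∀ ⦃V : C⦄ (g : V ⟶ U), S g → ∃ i, IsUnit ((O.obj.map g.op).hom (f i))) := by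
  constructor
  · intro h U n f hn hf
    have key : ∀ (n : ℕ) (U : C) (f : Fin (n + 1) → O.obj.obj (op U)), IsUnit (∑ i, f i) →
        ∃ S ∈ J U, ∀ ⦃V : C⦄ (g : V ⟶ U), S g → ∃ i, IsUnit ((O.obj.map g.op).hom (f i)) := by
      intro n
      induction n with
      | zero =>
        intro U f hu
        exact ⟨⊤, J.top_mem _, fun V g _ => ⟨0, (by simpa using hu : IsUnit (f 0)).map _⟩⟩
      | succ n ih =>
        intro U f hu
        obtain ⟨u, hu⟩ := hu
        obtain ⟨S, hS, h1⟩ := h U (f 0 * ↑u⁻¹)
        let T : Sieve U :=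
          { arrows := fun V g => ∃ i, IsUnit ((O.obj.map g.op).hom (f i))
            downward_closed := by
              rintro V W g ⟨i, hi⟩ k
              refine ⟨i, ?_⟩
              rw [op_comp, Functor.map_comp, CommRingCat.hom_comp, RingHom.comp_apply]
              exact hi.map _ }
        refine ⟨T, J.transitive hS T fun V g hg => ?_, fun V g hg => hg⟩
        rcases h1 g hg with hl | hr
        · convert J.top_mem V
          refine (Sieve.mem_iff_pullback_eq_top g).mp ⟨0, ?_⟩
          rw [map_mul] at hl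
          exact (IsUnit.mul_iff.mp hl).1
        · have hsum : IsUnit (∑ i : Fin (n + 1), (O.obj.map g.op).hom (f i.succ)) := by
            have h2 : (1 : O.obj.obj (op U)) - f 0 * ↑u⁻¹ = (∑ i : Fin (n + 1), f i.succ) * ↑u⁻¹ := by
              rw [← Units.mul_inv u, hu, Fin.sum_univ_succ]; ring
            rw [h2, map_mul] at hr
            simpa [map_sum] using (IsUnit.mul_iff.mp hr).1
          obtain ⟨S', hS', h3⟩ := ih V (fun i => (O.obj.map g.op).hom (f i.succ)) hsum
          refine J.superset_covering (fun W k hk => ?_) hS'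
          obtain ⟨i, hi⟩ := h3 k hk
          refine ⟨i.succ, ?_⟩
          rw [op_comp, Functor.map_comp, CommRingCat.hom_comp, RingHom.comp_apply]
          exact hi
    obtain ⟨m, rfl⟩ : ∃ m, n = m + 1 := ⟨n - 1, by omega⟩
    obtain ⟨a, ha⟩ := (Ideal.mem_span_range_iff_exists_fun (R := O.obj.obj (op U))).mp ((Ideal.eq_top_iff_one _).mp hf)
    obtain ⟨S, hS, h1⟩ := key m U (fun i => a i * f i) (by rw [ha]; exact isUnit_one)
    refine ⟨S, hS, fun V g hg => ?_⟩
    obtain ⟨i, hi⟩ := h1 g hg
    rw [map_mul] at hi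
    exact ⟨i, (IsUnit.mul_iff.mp hi).2⟩
  · intro h U f
    obtain ⟨S, hS, h2⟩ := h U 2 ![f, 1 - f] (by norm_num) (by
      rw [Ideal.eq_top_iff_one]
      have := add_mem (Ideal.subset_span (s := Set.range ![f, 1 - f]) ⟨0, rfl⟩) (Ideal.subset_span (s := Set.range ![f, 1 - f]) ⟨1, rfl⟩)
      simpa using this)
    refine ⟨S, hS, fun V g hg => ?_⟩
    obtain ⟨i, hi⟩ := h2 g hg
    fin_cases i
    · exact Or.inl hi
    · exact Or.inr hi

end Groth.Agent.S9089
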