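import Groth.Statements.S9091
-- import your own Groth.Agent.* helpers here

set_option autoImplicit false
universe u
open CategoryTheory Opposite
open ModSite

namespace Groth.Agent.S9091

theorem exists_isUnit_map {C : Type u} [SmallCategory C] {J : GrothendieckTopology C}
    (P : Cᵒᵖ ⥤ CommRingCat.{u}) (p : GrothendieckTopology.Point.{u} J) {U : C} (x : p.fiber.obj U) (f : P.obj (op U))
    (hf : IsUnit ((p.toPresheafFiber U x P).hom f)) :
    ∃ (Y : C) (g : Y ⟶ U) (y : p.fiber.obj Y), p.fiber.map g y = x ∧ IsUnit ((P.map g.op).hom f) := by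
  obtain ⟨b, hb⟩ := isUnit_iff_exists_inv.1 hf
  obtain ⟨X, x', z, rfl⟩ := p.toPresheafFiber_jointly_surjective (P := P) b
  obtain ⟨W, l, r, w, hl, hr⟩ : ∃ (W : C) (l : W ⟶ U) (r : W ⟶ X) (w : p.fiber.obj W),
      p.fiber.map l w = x ∧ p.fiber.map r w = x' :=
    ⟨_, (IsCofiltered.minToLeft (p.fiber.elementsMk U x) (p.fiber.elementsMk X x')).val,
      (IsCofiltered.minToRight (p.fiber.elementsMk U x) (p.fiber.elementsMk X x')).val, _,
      (IsCofiltered.minToLeft (p.fiber.elementsMk U x) (p.fiber.elementsMk X x')).property,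
      (IsCofiltered.minToRight (p.fiber.elementsMk U x) (p.fiber.elementsMk X x')).property⟩
  subst hl hr
  have el : (p.toPresheafFiber W w P).hom ((P.map l.op).hom f) = (p.toPresheafFiber U (p.fiber.map l w) P).hom f :=
    ConcreteCategory.congr_hom (p.toPresheafFiber_w l w P) f
  have er : (p.toPresheafFiber W w P).hom ((P.map r.op).hom z) = (p.toPresheafFiber X (p.fiber.map r w) P).hom z :=
    ConcreteCategory.congr_hom (p.toPresheafFiber_w r w P) z
  have e : (p.toPresheafFiber W w P).hom ((P.map l.op).hom f * (P.map r.op).hom z) =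
      (p.toPresheafFiber W w P).hom 1 := by
    rw [map_mul, el, er, map_one]; exact hb
  obtain ⟨Y, g, y, hy, hg⟩ := (p.toPresheafFiber_eq_iff' _ _ _ _).1 e
  have hg' : (P.map g.op).hom ((P.map l.op).hom f) * (P.map g.op).hom ((P.map r.op).hom z) = 1 :=
    (((P.map g.op).hom.map_mul _ _).symm.trans hg).trans (P.map g.op).hom.map_one
  refine ⟨Y, g ≫ l, y, ?_, ?_⟩
  · rw [Functor.map_comp_apply, hy]
  · rw [op_comp, Functor.map_comp]
    exact isUnit_iff_exists_inv.2 ⟨_, hg'⟩

/-- Part (2): ⇒ (1) when the site has enough points, for a ringed site (C, O) with C small and O a sheaf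
of commutative rings: if at every point p of the site the stalk O_p is the zero ring or is local,
then for every object U and every section f of O over U there is a covering sieve on U on each of
whose arrows either f or 1 - f restricts to a unit. -/
theorem result {C : Type u} [SmallCategory C] {J : GrothendieckTopology C}
    (O : Sheaf J CommRingCat.{u}) [GrothendieckTopology.HasEnoughPoints.{u} J]
    (h : ∀ p : GrothendieckTopology.Point.{u} J, Subsingleton (ModSite.stalkRing p O) ∨ IsLocalRing (ModSite.stalkRing p O))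
    (U : C) (f : O.obj.obj (op U)) :
    ∃ S ∈ J U, ∀ ⦃V : C⦄ (g : V ⟶ U), S g →
        IsUnit ((O.obj.map g.op).hom f) ∨ IsUnit ((O.obj.map g.op).hom (1 - f)) := by
  obtain ⟨P, hPs, hP⟩ := GrothendieckTopology.HasEnoughPoints.exists_objectProperty.{u} J
  let I := {q : (V : C) × (V ⟶ U) // IsUnit ((O.obj.map q.2.op).hom f) ∨ IsUnit ((O.obj.map q.2.op).hom (1 - f))}
  refine ⟨Sieve.ofArrows (fun i : I => i.1.1) (fun i => i.1.2), ?_, ?_⟩
  · rw [hP.jointly_reflect_ofArrows_mem]
    intro Φ x
    let a : ModSite.stalkRing Φ.obj O := (Φ.obj.toPresheafFiber U x O.obj).hom f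
    have ha : IsUnit a ∨ IsUnit (1 - a) := by
      rcases h Φ.obj with hs | hl
      · exact Or.inl ⟨1, hs.elim _ _⟩
      · exact IsLocalRing.isUnit_or_isUnit_one_sub_self a
    rcases ha with ha | ha
    · obtain ⟨Y, g, y, hy, hu⟩ := exists_isUnit_map O.obj Φ.obj x f ha
      exact ⟨⟨⟨Y, g⟩, Or.inl hu⟩, y, hy⟩
    · have ha' : IsUnit ((Φ.obj.toPresheafFiber U x O.obj).hom (1 - f)) := by
        rw [map_sub, map_one]; exact ha
      obtain ⟨Y, g, y, hy, hu⟩ := exists_isUnit_map O.obj Φ.obj x (1 - f) ha'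
      exact ⟨⟨⟨Y, g⟩, Or.inr hu⟩, y, hy⟩
  · rintro V g ⟨Z, k, _, ⟨i⟩, rfl⟩
    rw [op_comp, Functor.map_comp]
    exact i.2.imp (fun hu => hu.map (O.obj.map k.op).hom) (fun hu => hu.map (O.obj.map k.op).hom)

end Groth.Agent.S9091
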