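import Groth.Statements.S9097
import Groth.Agent.SiteCoh.ConstH1
import Mathlib.Algebra.Homology.ShortComplex.ExactFunctor

set_option autoImplicit false
universe u
open CategoryTheory CategoryTheory.Limits Opposite
open CohSite

namespace Groth.Agent.S9097

/-- If 0 → A → B → C → 0 is short exact in the category of abelian groups then, for every object U, the
sequence 0 → A̲(U) → B̲(U) → C̲(U) → 0 of sections of the constant abelian sheaves is short exact;
in other words the sequence of constant sheaves is exact even as a sequence of abelian presheaves.
The instance binder on the sections-of-constant-sheaf functor (it preserves zero morphisms) always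
holds and is only needed to form the complex. -/
theorem result {C : Type u} [SmallCategory C] (J : GrothendieckTopology C)
    (S : ShortComplex AddCommGrpCat.{u}) (hS : S.ShortExact) (U : C)
    [(constantSheaf J AddCommGrpCat.{u} ⋙ (sheafSections J AddCommGrpCat.{u}).obj (op U)).PreservesZeroMorphisms] :
    (S.map (constantSheaf J AddCommGrpCat.{u} ⋙ (sheafSections J AddCommGrpCat.{u}).obj (op U))).ShortExact := by
  haveI : PreservesFiniteLimits (constantSheaf J AddCommGrpCat.{u}) := comp_preservesFiniteLimits _ _
  haveI : PreservesLimitsOfSize.{0, 0} (sheafToPresheaf J AddCommGrpCat.{u}) := (sheafificationAdjunction J AddCommGrpCat.{u}).rightAdjoint_preservesLimits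
  haveI : PreservesFiniteLimits (sheafToPresheaf J AddCommGrpCat.{u}) := PreservesLimitsOfSize.preservesFiniteLimits.{0, 0} _
  haveI : PreservesFiniteLimits ((sheafSections J AddCommGrpCat.{u}).obj (op U)) :=
    inferInstanceAs (PreservesFiniteLimits (sheafToPresheaf J AddCommGrpCat.{u} ⋙ (evaluation _ _).obj (op U)))
  let F := constantSheaf J AddCommGrpCat.{u} ⋙ (sheafSections J AddCommGrpCat.{u}).obj (op U)
  haveI : PreservesFiniteLimits F := comp_preservesFiniteLimits _ _
  haveI : F.Additive := Functor.additive_of_preserves_binary_products _
  have h := ((Functor.preservesFiniteLimits_tfae F).out 3 0 : PreservesFiniteLimits F ↔ ∀ T : ShortComplex AddCommGrpCat.{u}, T.ShortExact → (T.map F).Exact ∧ Mono (F.map T.f)).1 inferInstance S hS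
  exact { exact := h.1, mono_f := h.2, epi_g := (AddCommGrpCat.epi_iff_surjective (F.map S.g)).2 (Groth.Agent.SiteCoh.surjective_const_app S.g ((AddCommGrpCat.epi_iff_surjective S.g).1 hS.epi_g) (op U)) }

end Groth.Agent.S9097
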