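import Mathlib.Algebra.Category.Grp.AB
import Groth.Statements.S9109

set_option autoImplicit false
universe u
open CategoryTheory CategoryTheory.Limits
open CohSite

namespace Groth.Agent.S9109

/-- Part (1): on a small site (C, J) with a point p: the skyscraper functor p_* from abelian groups to
abelian sheaves on C (right adjoint to the stalk functor at p; its value on A is the sheaf U ↦ ∏_{x
∈ p⁻¹U} A) is exact. As a right adjoint it preserves limits; the statement here is that it also
preserves finite colimits. -/
theorem result {C : Type u} [SmallCategory C] {J : GrothendieckTopology C}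
    (p : GrothendieckTopology.Point.{u} J) :
    PreservesFiniteColimits (p.skyscraperSheafFunctor (A := AddCommGrpCat.{u})) := by
  have : (p.skyscraperSheafFunctor (A := AddCommGrpCat.{u})).Additive :=
    Functor.additive_of_preserves_binary_products _
  have : (p.skyscraperSheafFunctor (A := AddCommGrpCat.{u})).PreservesEpimorphisms := by
    constructor
    intro A B f hf
    have h : ∀ U, Epi (((p.skyscraperSheafFunctor (A := AddCommGrpCat.{u})).map f).hom.app U) := fun U => by
      haveI : Epi (Discrete.natTrans (F := Discrete.functor fun _ : p.fiber.obj U.unop => A)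
          (G := Discrete.functor fun _ : p.fiber.obj U.unop => B) fun _ => f) :=
        (NatTrans.epi_iff_epi_app _).mpr fun _ => hf
      show Epi (lim.map (Discrete.natTrans (F := Discrete.functor fun _ : p.fiber.obj U.unop => A)
          (G := Discrete.functor fun _ : p.fiber.obj U.unop => B) fun _ => f))
      infer_instance
    have : Epi ((p.skyscraperSheafFunctor (A := AddCommGrpCat.{u})).map f).hom := NatTrans.epi_of_epi_app _
    exact (sheafToPresheaf J _).epi_of_epi_map this
  have hlim : PreservesFiniteLimits (p.skyscraperSheafFunctor (A := AddCommGrpCat.{u})) :=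
    have := (p.skyscraperSheafAdjunction (A := AddCommGrpCat.{u})).isRightAdjoint
    inferInstance
  have h1 : ∀ S : ShortComplex AddCommGrpCat.{u}, S.ShortExact →
      (S.map (p.skyscraperSheafFunctor (A := AddCommGrpCat.{u}))).Exact ∧
        Mono ((p.skyscraperSheafFunctor (A := AddCommGrpCat.{u})).map S.f) :=
    ((Functor.preservesFiniteLimits_tfae _).out 3 0).mp hlim
  refine ((Functor.preservesFiniteColimits_tfae (p.skyscraperSheafFunctor (A := AddCommGrpCat.{u}))).out 0 3).mp
    (show ∀ S : ShortComplex AddCommGrpCat.{u}, S.ShortExact → (S.map (p.skyscraperSheafFunctor (A := AddCommGrpCat.{u}))).Exact ∧ Epi ((p.skyscraperSheafFunctor (A := AddCommGrpCat.{u})).map S.g) from fun S hS => ⟨(h1 S hS).1, ?_⟩)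
  have := hS.epi_g
  exact Functor.map_epi _ _

end Groth.Agent.S9109
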