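import Groth.Statements.S9121
import Mathlib.CategoryTheory.Sites.EpiMono
import Mathlib.Algebra.Homology.ShortComplex.ExactFunctor
import Mathlib.CategoryTheory.Sites.LocallyBijective

set_option autoImplicit false
universe u
open CategoryTheory CategoryTheory.Limits
open CohSite

namespace Groth.Agent.S9121

/-- Part (1): for the morphism of topoi f : Sh(C) → Sh(D) attached to a continuous functor u : D ⥤ C
between small sites whose induced pullback of sheaves of sets is exact (f_* is restriction along u):
if f_* transforms epimorphisms of sheaves of sets into epimorphisms, then f_* on abelian sheaves is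
exact; being a right adjoint it preserves finite limits, and the statement is that it also preserves
finite colimits. -/
theorem result {C D : Type u} [SmallCategory C] [SmallCategory D]
    (J : GrothendieckTopology C) (K : GrothendieckTopology D) (u : D ⥤ C) [u.IsContinuous K J]
    [PreservesFiniteLimits (u.sheafPullback (Type u) K J)]
    [(u.sheafPushforwardContinuous (Type u) K J).PreservesEpimorphisms] :
    PreservesFiniteColimits (u.sheafPushforwardContinuous AddCommGrpCat.{u} K J) := by
  let P := u.sheafPushforwardContinuous AddCommGrpCat.{u} K J
  have hadd : P.Additive := ⟨rfl⟩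
  have : P.IsRightAdjoint := ⟨_, ⟨u.sheafAdjunctionContinuous AddCommGrpCat.{u} K J⟩⟩
  have : PreservesFiniteLimits P := inferInstance
  have : P.PreservesEpimorphisms := ⟨fun {A B} φ hφ => by
    have hs : Sheaf.IsLocallySurjective φ := (Sheaf.isLocallySurjective_iff_epi' AddCommGrpCat.{u} φ).2 hφ
    let φ' := (sheafCompose J (forget AddCommGrpCat.{u})).map φ
    have : Sheaf.IsLocallySurjective φ' := ⟨fun s => hs.imageSieve_mem s⟩
    have : Epi φ' := (Sheaf.isLocallySurjective_iff_epi' (Type u) φ').1 this
    have h : Sheaf.IsLocallySurjective ((u.sheafPushforwardContinuous (Type u) K J).map φ') :=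
      (Sheaf.isLocallySurjective_iff_epi' (Type u) _).2 inferInstance
    exact (Sheaf.isLocallySurjective_iff_epi' AddCommGrpCat.{u} (P.map φ)).1 ⟨fun s => h.imageSieve_mem s⟩⟩
  have : P.PreservesHomology := Functor.preservesHomology_of_preservesEpis_and_kernels _
  exact Functor.preservesFiniteColimits_of_preservesHomology P

end Groth.Agent.S9121
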