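import Groth.Statements.S9129
import Mathlib
import Groth.Agent.FlatLocalDepth.Basic
import Groth.Agent.FormalFibCM.Core
-- import your own Groth.Agent.* helpers here

set_option autoImplicit false
universe u
open CAlg

namespace Groth.Agent.S9129

/-- Suppose R → S is a flat local homomorphism between Noetherian local rings, with R Cohen–Macaulay.
Assume either that S is finite over R or that the Krull dimension of S is at most that of R. Then
the two rings have equal dimension and S is itself Cohen–Macaulay. -/
theorem result (R S : Type u) [CommRing R] [CommRing S]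
    [LocCoh.IsCohenMacaulayLocalRing R] [IsNoetherianRing S] [IsLocalRing S] [Algebra R S]
    [IsLocalHom (algebraMap R S)] [Module.Flat R S]
    (h : Module.Finite R S ∨ ringKrullDim S ≤ ringKrullDim R) :
    LocCoh.IsCohenMacaulayLocalRing S ∧ ringKrullDim R = ringKrullDim S := by
  haveI := Groth.Agent.FlatLocalDepth.nontrivial_fibre R S
  let F := S ⧸ (IsLocalRing.maximalIdeal R).map (algebraMap R S)
  haveI : IsLocalRing F := IsLocalRing.of_surjective' (Ideal.Quotient.mk _) Ideal.Quotient.mk_surjective
  have hadd := Groth.Agent.FlatLocalDepth.ringKrullDim_eq_add R S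
  have hF : IsArtinianRing F := by
    rcases h with hfin | hle
    · haveI : Module.Finite (R ⧸ IsLocalRing.maximalIdeal R) F :=
        Module.Finite.of_restrictScalars_finite R _ _
      letI := Ideal.Quotient.field (IsLocalRing.maximalIdeal R)
      exact IsArtinianRing.of_finite (R ⧸ IsLocalRing.maximalIdeal R) F
    · refine isArtinianRing_iff_isNoetherianRing_krullDimLE_zero.2 ⟨inferInstance, Ring.krullDimLE_iff.2 ?_⟩
      obtain ⟨a, ha⟩ := Groth.Agent.CAlgReg.exists_dim (R := R)
      obtain ⟨b, hb⟩ := Groth.Agent.CAlgReg.exists_dim (R := F)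
      have h1 : ringKrullDim R + ringKrullDim F ≤ ringKrullDim R := hadd ▸ hle
      rw [ha, hb] at h1
      rw [hb]
      have h2 : a + b ≤ a := by exact_mod_cast h1
      exact_mod_cast (by omega : b ≤ 0)
  have hFdim : ringKrullDim F = 0 := by
    haveI := hF
    exact ringKrullDimZero_iff_ringKrullDim_eq_zero.1 inferInstance
  have hCM : LocCoh.IsCohenMacaulayLocalRing F := by
    haveI := hF
    exact Groth.Agent.FormalFibCM.isCohenMacaulayLocalRing_of_artinian F
  exact ⟨(Groth.Agent.FlatLocalDepth.isCohenMacaulayLocalRing_iff R S).2 ⟨inferInstance, hCM⟩,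
    by rw [hadd, hFdim, add_zero]⟩
end Groth.Agent.S9129
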