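import Groth.Statements.S9130
import Mathlib
import Groth.Agent.S0554
-- import your own Groth.Agent.* helpers here

set_option autoImplicit false
universe u
open CAlg

namespace Groth.Agent.S9130

/-- Let A ⊆ B be domains with B of finite type over A and A Noetherian, and assume every element of B is
algebraic over A. For a height-one prime p of A, only finitely many primes of B lie over p and each
of them has height one. (The published statement assumes that Frac(B) is finite over Frac(A); this
row assumes B algebraic over A, which is equivalent for a finite type extension of domains.) -/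
theorem result (A B : Type u) [CommRing A] [IsDomain A]
    [IsNoetherianRing A] [CommRing B] [IsDomain B] [Algebra A B] [FaithfulSMul A B]
    [Algebra.FiniteType A B] [Algebra.IsAlgebraic A B] (p : Ideal A) [p.IsPrime]
    (hp : p.height = 1) :
    (p.primesOver B).Finite ∧ ∀ q ∈ p.primesOver B, q.height = 1 := by
  haveI : IsNoetherianRing B := Algebra.FiniteType.isNoetherianRing A B
  have hinj : Function.Injective (algebraMap A B) := FaithfulSMul.algebraMap_injective A B
  have hh : ∀ q ∈ p.primesOver B, q.height = 1 := by
    rintro q ⟨hq, hlo⟩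
    haveI := hq
    haveI := hlo
    have h := Groth.Agent.S0554.result A B p q
    rw [(trdeg_eq_zero : Algebra.trdeg A B = 0), add_zero, hp] at h
    have h1 : (q.height : Cardinal.{u}) ≤ ((1 : ℕ∞) : Cardinal.{u}) := le_self_add.trans h
    have hle : q.height ≤ 1 := Cardinal.ofENat_le_ofENat.1 h1
    refine le_antisymm hle (Order.one_le_iff_pos.2 (pos_iff_ne_zero.2 fun h0 => ?_))
    have hq0 : q ∈ minimalPrimes B := Ideal.height_eq_zero_iff.1 h0
    rw [IsDomain.minimalPrimes_eq_singleton_bot, Set.mem_singleton_iff] at hq0
    have : p = ⊥ := by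
      rw [hlo.over, hq0]
      exact Ideal.comap_bot_of_injective _ hinj
    rw [this, Ideal.height_bot] at hp
    exact zero_ne_one hp
  refine ⟨?_, hh⟩
  refine (Ideal.finite_minimalPrimes_of_isNoetherianRing B (p.map (algebraMap A B))).subset fun q hq => ?_
  haveI := hq.1
  refine ⟨⟨hq.1, Ideal.map_le_iff_le_comap.2 (le_of_eq hq.2.over)⟩, ?_⟩
  rintro q' ⟨hq', hpq'⟩ hle
  haveI := hq'
  have hlo' : q'.LiesOver p := ⟨le_antisymm (Ideal.map_le_iff_le_comap.1 hpq') ((Ideal.comap_mono hle).trans (le_of_eq hq.2.over.symm))⟩
  by_contra hne
  have hlt : q' < q := lt_of_le_not_ge hle hne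
  haveI : q.FiniteHeight := Ideal.finiteHeight_of_isNoetherianRing q
  have := Ideal.height_strict_mono_of_isPrime hlt
  rw [hh q' ⟨hq', hlo'⟩, hh q hq] at this
  exact lt_irrefl _ this
end Groth.Agent.S9130
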