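import Groth.Statements.S9133
import Groth.Agent.CAlgT1.Misc6
import Mathlib
-- import your own Groth.Agent.* helpers here

set_option autoImplicit false
universe u
open CAlg

open Pointwise
set_option linter.style.haveILetI false

namespace Groth.Agent.S9133

/-- Let R → S be a homomorphism of domains compatible with field maps K → L of their fraction fields (so
R → S is injective), where R is Noetherian local of dimension one and L is finite over K. Then each
prime n of S whose contraction to R is the maximal ideal of R is a maximal ideal of S, only finitely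
many such n exist, and each quotient S/n is a finite R-module (its residue field is a finite
extension of that of R). -/
theorem result (R S K L : Type u)
    [CommRing R] [IsDomain R] [IsNoetherianRing R] [IsLocalRing R] (hdim : ringKrullDim R = 1)
    [CommRing S] [IsDomain S] [Algebra R S] [Field K] [Field L] [Algebra R K] [IsFractionRing R K]
    [Algebra S L] [IsFractionRing S L] [Algebra K L] [Algebra R L] [IsScalarTower R K L]
    [IsScalarTower R S L] [FiniteDimensional K L] :
    (∀ n ∈ (IsLocalRing.maximalIdeal R).primesOver S, n.IsMaximal) ∧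
      ((IsLocalRing.maximalIdeal R).primesOver S).Finite ∧
      ∀ n ∈ (IsLocalRing.maximalIdeal R).primesOver S, Module.Finite R (S ⧸ n) := by
  classical
  haveI : Ring.KrullDimLE 1 R := (Ring.krullDimLE_iff).2 (by rw [hdim]; norm_num)
  have hSinj : Function.Injective (algebraMap S L) := IsFractionRing.injective S L
  have hRinj : Function.Injective (algebraMap R L) := by
    rw [IsScalarTower.algebraMap_eq R K L]
    exact (algebraMap K L).injective.comp (IsFractionRing.injective R K)
  obtain ⟨x, hx, hx0⟩ : ∃ x ∈ IsLocalRing.maximalIdeal R, x ≠ 0 := by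
    refine Submodule.exists_mem_ne_zero_of_ne_bot fun h => ?_
    rw [ringKrullDim_eq_zero_of_isField (IsLocalRing.isField_iff_maximalIdeal_eq.2 h)] at hdim
    exact zero_ne_one hdim
  let bL := Module.finBasis K L
  let emb : S →ₗ[R] (Fin (Module.finrank K L) → K) :=
    (bL.equivFun.toLinearMap.restrictScalars R) ∘ₗ (IsScalarTower.toAlgHom R S L).toLinearMap
  let I : Ideal S := Ideal.span {algebraMap R S x}
  have hIeq : x • (⊤ : Submodule R S) = I.restrictScalars R := by
    ext z
    rw [Submodule.mem_smul_pointwise_iff_exists, Submodule.restrictScalars_mem, Ideal.mem_span_singleton]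
    constructor
    · rintro ⟨w, -, rfl⟩; exact ⟨w, by rw [Algebra.smul_def]⟩
    · rintro ⟨w, rfl⟩; exact ⟨w, trivial, by rw [Algebra.smul_def]⟩
  have hlen : Module.length R (S ⧸ I) ≠ ⊤ := by
    rw [← ((Submodule.quotEquivOfEq _ _ hIeq).trans (Submodule.Quotient.restrictScalarsEquiv R I)).length_eq]
    exact ne_top_of_le_ne_top
      (WithTop.mul_ne_top (ENat.natCast_ne_top (Module.finrank K L)) (Ring.ord_ne_top (mem_nonZeroDivisors_of_ne_zero hx0)))
      (CAlgT1.length_quotient_le_mul hx0 _ emb (bL.equivFun.injective.comp hSinj))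
  obtain ⟨hN, hAr⟩ := isFiniteLength_iff_isNoetherian_isArtinian.1 (Module.length_ne_top_iff.1 hlen)
  haveI : Module.Finite R (S ⧸ I) := ⟨IsNoetherian.noetherian _⟩
  haveI : IsArtinian S (S ⧸ I) := isArtinian_of_tower R hAr
  haveI : IsArtinianRing (S ⧸ I) := isArtinian_of_tower S (inferInstance : IsArtinian S (S ⧸ I))
  have hxn : ∀ n ∈ (IsLocalRing.maximalIdeal R).primesOver S, I ≤ n := fun n hn => by
    rw [Ideal.span_singleton_le_iff_mem, ← Ideal.mem_comap, ← Ideal.under_def, ← hn.2.over]
    exact hx
  have hmax : ∀ n ∈ (IsLocalRing.maximalIdeal R).primesOver S, (n.map (Ideal.Quotient.mk I)).IsMaximal := fun n hn => by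
    haveI := hn.1
    haveI : (n.map (Ideal.Quotient.mk I)).IsPrime :=
      Ideal.map_isPrime_of_surjective Ideal.Quotient.mk_surjective (Ideal.mk_ker.trans_le (hxn n hn))
    exact IsArtinianRing.isMaximal_of_isPrime _
  have hcm : ∀ n ∈ (IsLocalRing.maximalIdeal R).primesOver S,
      (n.map (Ideal.Quotient.mk I)).comap (Ideal.Quotient.mk I) = n := fun n hn => by
    rw [Ideal.comap_map_quotientMk, sup_eq_right.2 (hxn n hn)]
  refine ⟨fun n hn => ?_, ?_, fun n hn => ?_⟩
  · haveI := hmax n hn
    rw [← hcm n hn]
    exact Ideal.comap_isMaximal_of_surjective _ Ideal.Quotient.mk_surjective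
  · let F : Ideal S → Ideal (S ⧸ I) := Ideal.map (Ideal.Quotient.mk I)
    have himg : F '' (IsLocalRing.maximalIdeal R).primesOver S ⊆ {m : Ideal (S ⧸ I) | m.IsMaximal} :=
      Set.image_subset_iff.2 fun n hn => hmax n hn
    refine Set.Finite.of_finite_image ((IsArtinianRing.setOf_isMaximal_finite (S ⧸ I)).subset himg) (fun a ha b hb h => ?_)
    rw [← hcm a ha, ← hcm b hb]
    exact congrArg (Ideal.comap (Ideal.Quotient.mk I)) h
  · exact Module.Finite.of_surjective ((Submodule.factor (hxn n hn)).restrictScalars R)
      (Submodule.factor_surjective (hxn n hn))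
end Groth.Agent.S9133
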