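import Groth.Statements.S9135
import Mathlib
-- import your own Groth.Agent.* helpers here

set_option autoImplicit false
universe u
open CAlg

namespace Groth.Agent.S9135

/-- Let R → S be of finite type and p a minimal prime of R over which only finitely many primes of S
lie. Then for some g ∈ R outside p the localized map R_g → S_g is finite. -/
theorem result (R S : Type u) [CommRing R] [CommRing S]
    [Algebra R S] [Algebra.FiniteType R S] (p : Ideal R) (hp : p ∈ minimalPrimes R)
    (hfin : (p.primesOver S).Finite) :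
    ∃ g : R, g ∉ p ∧ (Localization.awayMap (algebraMap R S) g).Finite := by
  classical
  haveI := hp.1.1
  haveI : Nontrivial R := nontrivial_of_ne (0 : R) 1 fun h ↦ hp.1.1.ne_top ((Ideal.eq_top_iff_one p).mpr (h ▸ p.zero_mem))
  let Rp := Localization.AtPrime p
  let T := Localization (Algebra.algebraMapSubmonoid S p.primeCompl)
  letI : Algebra Rp T := (IsLocalization.map T (algebraMap R S)
    (show p.primeCompl ≤ (Algebra.algebraMapSubmonoid S p.primeCompl).comap (algebraMap R S) from fun x hx ↦ Algebra.mem_algebraMapSubmonoid_of_mem ⟨x, hx⟩)).toAlgebra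
  haveI : IsScalarTower R Rp T := IsScalarTower.of_algebraMap_eq fun x ↦ by
    rw [RingHom.algebraMap_toAlgebra, IsLocalization.map_eq, ← IsScalarTower.algebraMap_apply]
  haveI : Algebra.FiniteType Rp T := by
    obtain ⟨s, hs⟩ := Algebra.FiniteType.out (R := R) (A := S)
    refine ⟨⟨s.image (algebraMap S T), ?_⟩⟩
    set U := Algebra.adjoin Rp ((s.image (algebraMap S T) : Finset T) : Set T)
    have hU : ∀ y : S, algebraMap S T y ∈ U := by
      intro y
      have hy : y ∈ Algebra.adjoin R (s : Set S) := hs ▸ trivial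
      induction hy using Algebra.adjoin_induction with
      | mem z hz => exact Algebra.subset_adjoin (by simp only [Finset.coe_image]; exact ⟨z, hz, rfl⟩)
      | algebraMap c =>
        rw [← IsScalarTower.algebraMap_apply, IsScalarTower.algebraMap_apply R Rp T]
        exact U.algebraMap_mem _
      | add z w _ _ hz hw => rw [map_add]; exact add_mem hz hw
      | mul z w _ _ hz hw => rw [map_mul]; exact mul_mem hz hw
    rw [eq_top_iff]
    intro z _
    obtain ⟨y, ⟨_, c, hc, rfl⟩, rfl⟩ := IsLocalization.exists_mk'_eq (Algebra.algebraMapSubmonoid S p.primeCompl) z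
    have hu : IsUnit (algebraMap R Rp c) := IsLocalization.map_units Rp (⟨c, hc⟩ : p.primeCompl)
    have : IsLocalization.mk' T y (⟨algebraMap R S c, c, hc, rfl⟩ : Algebra.algebraMapSubmonoid S p.primeCompl) =
        algebraMap Rp T ↑hu.unit⁻¹ * algebraMap S T y := by
      rw [IsLocalization.mk'_eq_iff_eq_mul]
      show algebraMap S T y = algebraMap Rp T ↑hu.unit⁻¹ * algebraMap S T y * algebraMap S T (algebraMap R S c)
      rw [← IsScalarTower.algebraMap_apply R S T, IsScalarTower.algebraMap_apply R Rp T, mul_right_comm,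
        ← map_mul, IsUnit.val_inv_mul, map_one, one_mul]
    rw [this]
    exact mul_mem (U.algebraMap_mem _) (hU y)
  have hfinT : Finite (PrimeSpectrum T) := by
    haveI := hfin.to_subtype
    refine Finite.of_injective (β := p.primesOver S) (fun Q ↦ ⟨Q.asIdeal.comap (algebraMap S T), inferInstance, ⟨?_⟩⟩) ?_
    · have hle : (Q.asIdeal.comap (algebraMap S T)).under R ≤ p := by
        intro x hx
        by_contra hxp
        exact Q.2.ne_top (Ideal.eq_top_of_isUnit_mem _ hx (IsLocalization.map_units T
          (⟨algebraMap R S x, x, hxp, rfl⟩ : Algebra.algebraMapSubmonoid S p.primeCompl)))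
      exact le_antisymm (hp.2 ⟨inferInstance, bot_le⟩ hle) hle
    · intro Q Q' h
      exact PrimeSpectrum.localization_comap_injective T (Algebra.algebraMapSubmonoid S p.primeCompl)
        (PrimeSpectrum.ext (congrArg Subtype.val h))
  let J := (IsLocalRing.maximalIdeal Rp).map (algebraMap Rp T)
  letI : Field (Rp ⧸ IsLocalRing.maximalIdeal Rp) := Ideal.Quotient.field _
  letI : Algebra (Rp ⧸ IsLocalRing.maximalIdeal Rp) (T ⧸ J) :=
    (Ideal.quotientMap J (algebraMap Rp T) Ideal.le_comap_map).toAlgebra
  haveI : IsScalarTower Rp (Rp ⧸ IsLocalRing.maximalIdeal Rp) (T ⧸ J) := IsScalarTower.of_algebraMap_eq fun _ ↦ rfl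
  haveI : Algebra.FiniteType (Rp ⧸ IsLocalRing.maximalIdeal Rp) (T ⧸ J) :=
    Algebra.FiniteType.of_restrictScalars_finiteType Rp _ _
  haveI : IsJacobsonRing (T ⧸ J) := isJacobsonRing_of_finiteType (A := Rp ⧸ IsLocalRing.maximalIdeal Rp)
  haveI : IsNoetherianRing (T ⧸ J) := Algebra.FiniteType.isNoetherianRing (Rp ⧸ IsLocalRing.maximalIdeal Rp) _
  haveI : Finite (PrimeSpectrum (T ⧸ J)) :=
    Finite.of_injective _ (PrimeSpectrum.comap_injective_of_surjective (Ideal.Quotient.mk J) Ideal.Quotient.mk_surjective)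
  haveI : Ring.KrullDimLE 0 (T ⧸ J) := (PrimeSpectrum.discreteTopology_iff_finite_and_krullDimLE_zero.mp inferInstance).2
  haveI : IsArtinianRing (T ⧸ J) := isArtinianRing_iff_isNoetherianRing_krullDimLE_zero.mpr ⟨inferInstance, inferInstance⟩
  haveI : Module.Finite (Rp ⧸ IsLocalRing.maximalIdeal Rp) (T ⧸ J) := (Module.finite_iff_isArtinianRing _ _).mpr inferInstance
  haveI : Module.Finite Rp (T ⧸ J) := Module.Finite.trans (Rp ⧸ IsLocalRing.maximalIdeal Rp) _
  have hnil : J ≤ nilradical T := by
    rw [Ideal.map_le_iff_le_comap]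
    intro c hc
    have : IsNilpotent c := by
      rw [← mem_nilradical, nilradical_eq_sInf]
      refine Ideal.mem_sInf.mpr fun {P} hP ↦ ?_
      haveI : P.IsPrime := hP
      have h1 : P.under R ≤ p := by
        intro x hx
        by_contra hxp
        exact (inferInstance : P.IsPrime).ne_top (Ideal.eq_top_of_isUnit_mem P hx (IsLocalization.map_units Rp (⟨x, hxp⟩ : p.primeCompl)))
      have h2 : P.under R = p := le_antisymm h1 (hp.2 ⟨inferInstance, bot_le⟩ h1)
      have h3 : P = IsLocalRing.maximalIdeal Rp := by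
        rw [← IsLocalization.map_comap p.primeCompl Rp P, ← Localization.AtPrime.map_eq_maximalIdeal]
        exact congrArg (Ideal.map _) h2
      exact h3 ▸ hc
    exact this.map _
  have hint : ∀ x : S, ∃ g : R, g ∉ p ∧ IsIntegral R (algebraMap R S g * x) := by
    intro x
    obtain ⟨P, hP, hPx⟩ := Algebra.IsIntegral.isIntegral (R := Rp) (Ideal.Quotient.mk J (algebraMap S T x))
    have h0 : Polynomial.aeval (algebraMap S T x) P ∈ J := by
      rw [← Ideal.Quotient.eq_zero_iff_mem, ← Ideal.Quotient.mkₐ_eq_mk Rp, ← Polynomial.aeval_algHom_apply]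
      exact hPx
    obtain ⟨N, hN⟩ := hnil h0
    have hT : IsIntegral Rp (algebraMap S T x) := ⟨P ^ N, hP.pow N, by
      rw [← Polynomial.aeval_def, map_pow]; exact hN⟩
    obtain ⟨⟨g, hg⟩, hgi⟩ := IsIntegral.exists_multiple_integral_of_isLocalization (R := R) (Rₘ := Rp) p.primeCompl _ hT
    obtain ⟨Q, hQ, hQx⟩ := hgi
    have hz : algebraMap S T (Polynomial.aeval (algebraMap R S g * x) Q) = 0 := by
      rw [← Polynomial.aeval_algebraMap_apply]
      rw [Submonoid.smul_def, Algebra.smul_def, IsScalarTower.algebraMap_apply R S T, ← map_mul] at hQx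
      exact hQx
    obtain ⟨⟨_, c, hc, rfl⟩, hcz⟩ := (IsLocalization.map_eq_zero_iff (Algebra.algebraMapSubmonoid S p.primeCompl) T _).mp hz
    refine ⟨c * g, fun h ↦ (Ideal.IsPrime.mem_or_mem inferInstance h).elim hc hg, ?_⟩
    refine ⟨Polynomial.scaleRoots (Q * Polynomial.X) c, (Polynomial.monic_scaleRoots_iff c).mpr (hQ.mul Polynomial.monic_X), ?_⟩
    rw [map_mul, mul_assoc, Polynomial.scaleRoots_eval₂_mul, ← Polynomial.aeval_def, map_mul,
      Polynomial.natDegree_mul_X hQ.ne_zero, pow_succ, mul_assoc, ← mul_assoc (algebraMap R S c), hcz, zero_mul, mul_zero]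
  choose gg hgp hgi using hint
  obtain ⟨s, hs⟩ := Algebra.FiniteType.out (R := R) (A := S)
  let g := ∏ x ∈ s, gg x
  refine ⟨g, fun h ↦ ?_, ?_⟩
  · obtain ⟨x, -, hx⟩ := (Ideal.IsPrime.prod_mem_iff).mp h
    exact hgp x hx
  let Rg := Localization.Away g
  let Sg := Localization.Away (algebraMap R S g)
  letI : Algebra Rg Sg := (Localization.awayMap (algebraMap R S) g).toAlgebra
  haveI : IsScalarTower R Rg Sg := IsScalarTower.of_algebraMap_eq fun x ↦ by
    rw [RingHom.algebraMap_toAlgebra, Localization.awayMap, IsLocalization.Away.map, IsLocalization.map_eq, ← IsScalarTower.algebraMap_apply]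
  have hgu : IsUnit (algebraMap R Rg g) := IsLocalization.Away.algebraMap_isUnit g
  have hall : ∀ y : S, IsIntegral Rg (algebraMap S Sg y) := by
    intro y
    have hy : y ∈ Algebra.adjoin R (s : Set S) := hs ▸ trivial
    induction hy using Algebra.adjoin_induction with
    | mem x hx =>
      obtain ⟨d, hd⟩ : gg x ∣ g := Finset.dvd_prod_of_mem _ hx
      have h1 : IsIntegral Rg (algebraMap S Sg (algebraMap R S (gg x) * x)) :=
        ((hgi x).map (IsScalarTower.toAlgHom R S Sg)).tower_top
      have e : algebraMap S Sg x = algebraMap Rg Sg (algebraMap R Rg d * ↑hgu.unit⁻¹) * algebraMap S Sg (algebraMap R S (gg x) * x) := by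
        rw [map_mul (algebraMap S Sg), ← IsScalarTower.algebraMap_apply R S Sg, IsScalarTower.algebraMap_apply R Rg Sg, ← mul_assoc,
          ← map_mul (algebraMap Rg Sg), mul_right_comm, ← map_mul (algebraMap R Rg), mul_comm d, ← hd, IsUnit.mul_val_inv, map_one, one_mul]
      rw [e]
      exact isIntegral_algebraMap.mul h1
    | algebraMap c =>
      rw [← IsScalarTower.algebraMap_apply, IsScalarTower.algebraMap_apply R Rg Sg]
      exact isIntegral_algebraMap
    | add z w _ _ hz hw => rw [map_add]; exact hz.add hw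
    | mul z w _ _ hz hw => rw [map_mul]; exact hz.mul hw
  haveI : Algebra.IsIntegral Rg Sg := ⟨fun z ↦ by
    obtain ⟨y, ⟨_, n, rfl⟩, rfl⟩ := IsLocalization.exists_mk'_eq (Submonoid.powers (algebraMap R S g)) z
    have e : IsLocalization.mk' Sg y (⟨algebraMap R S g ^ n, n, rfl⟩ : Submonoid.powers (algebraMap R S g)) =
        algebraMap Rg Sg (↑hgu.unit⁻¹ ^ n) * algebraMap S Sg y := by
      rw [IsLocalization.mk'_eq_iff_eq_mul]
      show algebraMap S Sg y = algebraMap Rg Sg (↑hgu.unit⁻¹ ^ n) * algebraMap S Sg y * algebraMap S Sg (algebraMap R S g ^ n)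
      rw [← map_pow (algebraMap R S), ← IsScalarTower.algebraMap_apply R S Sg, IsScalarTower.algebraMap_apply R Rg Sg, mul_right_comm,
        ← map_mul, map_pow (algebraMap R Rg), ← mul_pow, IsUnit.val_inv_mul, one_pow, map_one, one_mul]
    rw [e]
    exact isIntegral_algebraMap.mul (hall y)⟩
  haveI : Algebra.FiniteType R Sg := Algebra.FiniteType.trans (S := S) inferInstance (IsLocalization.finiteType_of_monoid_fg (Submonoid.powers (algebraMap R S g)) Sg)
  haveI : Algebra.FiniteType Rg Sg := Algebra.FiniteType.of_restrictScalars_finiteType R Rg Sg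
  exact RingHom.finite_algebraMap.mpr (Algebra.IsIntegral.finite)
end Groth.Agent.S9135
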