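import Groth.Statements.S9136
import Groth.Agent.LatticeOrd.Basic
import Groth.Agent.CAlgT1.LengthLoc
import Mathlib
-- import your own Groth.Agent.* helpers here

set_option autoImplicit false
universe u
open CAlg

open Pointwise
set_option linter.style.haveILetI false

namespace Groth.Agent.S9136

/-- Let A ⊆ B be a finite type extension of domains, A Noetherian local of dimension one, with
compatible fraction fields K ⊆ L and L finite over K. Then B has finitely many maximal ideals, and
for a nonzero x in the maximal ideal of A the sum over the maximal ideals m of B of (length of B/m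
over A, i.e. the residue degree) times (length of B_m / x B_m over B_m) is at most the degree of L
over K times the length of A/xA; equality holds exactly when B is a finite A-module. -/
theorem result (A B K L : Type u)
    [CommRing A] [IsDomain A] [IsNoetherianRing A] [IsLocalRing A] (hdim : ringKrullDim A = 1)
    [CommRing B] [IsDomain B] [Algebra A B] [FaithfulSMul A B] [Algebra.FiniteType A B]
    [Field K] [Field L] [Algebra A K] [IsFractionRing A K] [Algebra B L] [IsFractionRing B L]
    [Algebra K L] [Algebra A L] [IsScalarTower A K L] [IsScalarTower A B L] [FiniteDimensional K L]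
    (x : A) (hx : x ∈ IsLocalRing.maximalIdeal A) (hx0 : x ≠ 0) :
    Finite (MaximalSpectrum B) ∧
      (∑ᶠ m : MaximalSpectrum B,
          Module.length A (B ⧸ m.asIdeal) *
            Module.length (Localization.AtPrime m.asIdeal)
              (Localization.AtPrime m.asIdeal ⧸
                Ideal.span ({algebraMap A (Localization.AtPrime m.asIdeal) x} : Set _)) ≤
        (Module.finrank K L : ℕ∞) * Module.length A (A ⧸ Ideal.span ({x} : Set A))) ∧
      ((∑ᶠ m : MaximalSpectrum B,
          Module.length A (B ⧸ m.asIdeal) *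
            Module.length (Localization.AtPrime m.asIdeal)
              (Localization.AtPrime m.asIdeal ⧸
                Ideal.span ({algebraMap A (Localization.AtPrime m.asIdeal) x} : Set _)) =
        (Module.finrank K L : ℕ∞) * Module.length A (A ⧸ Ideal.span ({x} : Set A))) ↔ Module.Finite A B) := by
  classical
  haveI : Ring.KrullDimLE 1 A := (Ring.krullDimLE_iff).2 (by rw [hdim]; norm_num)
  haveI : Ring.DimensionLEOne A := ⟨fun hne hp => ((Ring.krullDimLE_one_iff).1 inferInstance _ hp).resolve_left
    fun h => hne ((IsDomain.minimalPrimes_eq_singleton_bot A ▸ h : _ ∈ ({⊥} : Set (Ideal A))))⟩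
  have hAinj : Function.Injective (algebraMap A B) := FaithfulSMul.algebraMap_injective A B
  have hBinj : Function.Injective (algebraMap B L) := IsFractionRing.injective B L
  have halg : ∀ b : B, IsAlgebraic A b := fun b =>
    (isAlgebraic_algebraMap_iff hBinj).1
      ((IsFractionRing.isAlgebraic_iff A K L).2 (Algebra.IsAlgebraic.isAlgebraic (algebraMap B L b)))
  have hbot : ∀ p : Ideal B, p.IsPrime → p.comap (algebraMap A B) = ⊥ → p = ⊥ := by
    intro p _ hp
    by_contra hne
    obtain ⟨b, hb, hb0⟩ := Submodule.exists_mem_ne_zero_of_ne_bot hne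
    exact Ideal.comap_ne_bot_of_algebraic_mem hb0 hb (halg b) hp
  have hmax : ∀ p : Ideal B, p.IsPrime → p ≠ ⊥ → p.comap (algebraMap A B) = IsLocalRing.maximalIdeal A := by
    intro p hp hne
    haveI : (p.comap (algebraMap A B)).IsMaximal :=
      Ideal.IsPrime.isMaximal (Ideal.comap_isPrime _ p) fun h => hne (hbot p hp h)
    exact IsLocalRing.eq_maximalIdeal this
  let d := Module.finrank K L
  let bL := Module.finBasis K L
  let emb : B →ₗ[A] (Fin d → K) :=
    (bL.equivFun.toLinearMap.restrictScalars A) ∘ₗ (IsScalarTower.toAlgHom A B L).toLinearMap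
  have hemb : Function.Injective emb := bL.equivFun.injective.comp hBinj
  have hK : ∀ (M : Type u) [AddCommGroup M] [Module A M] (f : M →ₗ[A] B), Function.Injective f →
      Module.length A (M ⧸ (x • (⊤ : Submodule A M))) ≤ (d : ℕ∞) * Ring.ord A x := fun M _ _ f hf =>
    CAlgT1.length_quotient_le_mul hx0 d (emb ∘ₗ f) (hemb.comp hf)
  let y := algebraMap A B x
  have hy0 : y ≠ 0 := fun h => hx0 (hAinj (h.trans (map_zero _).symm))
  let I : Ideal B := Ideal.span {y}
  have hIeq : x • (⊤ : Submodule A B) = I.restrictScalars A := by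
    ext z
    rw [Submodule.mem_smul_pointwise_iff_exists, Submodule.restrictScalars_mem, Ideal.mem_span_singleton]
    constructor
    · rintro ⟨w, -, rfl⟩; exact ⟨w, by rw [Algebra.smul_def]⟩
    · rintro ⟨w, rfl⟩; exact ⟨w, trivial, by rw [Algebra.smul_def]⟩
  have hlenI : Module.length A (B ⧸ I) = Module.length A (B ⧸ (x • (⊤ : Submodule A B))) :=
    ((Submodule.quotEquivOfEq _ _ hIeq).trans (Submodule.Quotient.restrictScalarsEquiv A I)).length_eq.symm
  have hle : Module.length A (B ⧸ I) ≤ (d : ℕ∞) * Ring.ord A x := hlenI.trans_le (hK B LinearMap.id fun _ _ h => h)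
  have hdtop : (d : ℕ∞) * Ring.ord A x ≠ ⊤ :=
    WithTop.mul_ne_top (ENat.coe_ne_top d) (Ring.ord_ne_top (mem_nonZeroDivisors_of_ne_zero hx0))
  have hfl : IsFiniteLength A (B ⧸ I) := Module.length_ne_top_iff.1 (ne_top_of_le_ne_top hdtop hle)
  obtain ⟨hN, hAr⟩ := isFiniteLength_iff_isNoetherian_isArtinian.1 hfl
  haveI : Module.Finite A (B ⧸ I) := ⟨IsNoetherian.noetherian _⟩
  haveI : IsArtinian B (B ⧸ I) := isArtinian_of_tower A hAr
  haveI : IsNoetherian B (B ⧸ I) := isNoetherian_of_tower A hN
  haveI : IsArtinianRing (B ⧸ I) := isArtinian_of_tower B (inferInstance : IsArtinian B (B ⧸ I))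
  have hxI : ∀ p : Ideal B, p.IsMaximal → p ≠ ⊥ → I ≤ p := fun p hp hne => by
    rw [Ideal.span_singleton_le_iff_mem, ← Ideal.mem_comap, hmax p hp.isPrime hne]
    exact hx
  haveI hfinite : Finite (MaximalSpectrum B) := by
    let F : {m : MaximalSpectrum B // m.asIdeal ≠ ⊥} → MaximalSpectrum (B ⧸ I) := fun m =>
      haveI := m.1.isMaximal
      ⟨m.1.asIdeal.map (Ideal.Quotient.mk I),
        (Ideal.map_eq_top_or_isMaximal_of_surjective _ Ideal.Quotient.mk_surjective m.1.isMaximal).resolve_left fun h => by
          have h1 := congrArg (Ideal.comap (Ideal.Quotient.mk I)) h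
          rw [Ideal.comap_map_quotientMk, Ideal.comap_top, sup_eq_right.2 (hxI _ m.1.isMaximal m.2)] at h1
          exact m.1.isMaximal.ne_top h1⟩
    have hF : Function.Injective F := fun a b h => by
      have h1 := congrArg (fun m : MaximalSpectrum (B ⧸ I) => m.asIdeal.comap (Ideal.Quotient.mk I)) h
      simp only [F, Ideal.comap_map_quotientMk, sup_eq_right.2 (hxI _ a.1.isMaximal a.2),
        sup_eq_right.2 (hxI _ b.1.isMaximal b.2)] at h1
      exact Subtype.ext (MaximalSpectrum.ext h1)
    have h2 : {m : MaximalSpectrum B | m.asIdeal ≠ ⊥}.Finite :=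
      Set.finite_coe_iff.1 (Finite.of_injective F hF : Finite {m : MaximalSpectrum B // m.asIdeal ≠ ⊥})
    have h3 : {m : MaximalSpectrum B | m.asIdeal = ⊥}.Finite :=
      Set.Subsingleton.finite fun a ha b hb => MaximalSpectrum.ext (ha.trans hb.symm)
    exact Set.finite_univ_iff.1 ((h2.union h3).subset fun m _ => (em (m.asIdeal = ⊥)).symm.imp id id)
  refine ⟨hfinite, ?_⟩
  set S := ∑ᶠ m : MaximalSpectrum B,
    Module.length A (B ⧸ m.asIdeal) * Module.length (Localization.AtPrime m.asIdeal)
      (Localization.AtPrime m.asIdeal ⧸ Ideal.span ({algebraMap A (Localization.AtPrime m.asIdeal) x} : Set _))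
    with hS
  have hsum : S = Module.length A (B ⧸ I) := by
    by_cases hf : (⊥ : Ideal B).IsMaximal
    · have hB : IsField B := by
        by_contra hB
        exact (Ring.not_isField_iff_exists_ideal_bot_lt_and_lt_top.1 hB).elim fun J hJ =>
          hJ.2.ne (hf.1.2 J hJ.1)
      letI := hB.toField
      have hyu : IsUnit y := IsUnit.mk0 y hy0
      haveI : Subsingleton (B ⧸ I) := Ideal.Quotient.subsingleton_iff.2 (Ideal.span_singleton_eq_top.2 hyu)
      rw [hS, Module.length_eq_zero]
      refine finsum_eq_zero_of_forall_eq_zero fun m => ?_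
      have h1 : IsUnit (algebraMap A (Localization.AtPrime m.asIdeal) x) := by
        rw [IsScalarTower.algebraMap_apply A B]; exact hyu.map _
      haveI : Subsingleton (Localization.AtPrime m.asIdeal ⧸
          Ideal.span ({algebraMap A (Localization.AtPrime m.asIdeal) x} : Set _)) :=
        Ideal.Quotient.subsingleton_iff.2 (Ideal.span_singleton_eq_top.2 h1)
      exact mul_eq_zero_of_right _ Module.length_eq_zero
    · have hne : ∀ m : MaximalSpectrum B, m.asIdeal ≠ ⊥ := fun m h => hf (h ▸ m.isMaximal)
      have hover : ∀ m : MaximalSpectrum B, m.asIdeal.comap (algebraMap A B) = IsLocalRing.maximalIdeal A :=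
        fun m => hmax _ m.isMaximal.isPrime (hne m)
      have hres : ∀ m : MaximalSpectrum B, Module.Finite A (B ⧸ m.asIdeal) := fun m =>
        Module.Finite.of_surjective ((Submodule.factor (hxI _ m.isMaximal (hne m))).restrictScalars A)
          (Submodule.factor_surjective (hxI _ m.isMaximal (hne m)))
      have hfin : ∀ m : MaximalSpectrum B, Module.Finite (A ⧸ m.asIdeal.comap (algebraMap A B)) (B ⧸ m.asIdeal) :=
        fun m =>
          haveI := hres m
          haveI : IsScalarTower A (A ⧸ m.asIdeal.comap (algebraMap A B)) (B ⧸ m.asIdeal) :=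
            .of_algebraMap_eq fun _ => rfl
          Module.Finite.of_restrictScalars_finite A _ _
      rw [hS, CAlgT1.length_eq_sum hover hfin (B ⧸ I) (isFiniteLength_iff_isNoetherian_isArtinian.2 ⟨inferInstance, inferInstance⟩)]
      refine finsum_congr fun m => ?_
      congr 1
      · haveI := hres m
        haveI := hfin m
        haveI : (m.asIdeal.comap (algebraMap A B)).IsMaximal := by
          rw [hover m]; exact IsLocalRing.maximalIdeal.isMaximal A
        letI := Ideal.Quotient.field (m.asIdeal.comap (algebraMap A B))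
        haveI : IsScalarTower A (A ⧸ m.asIdeal.comap (algebraMap A B)) (B ⧸ m.asIdeal) :=
          .of_algebraMap_eq fun _ => rfl
        rw [Module.length_eq_of_surjective (R := A ⧸ m.asIdeal.comap (algebraMap A B)) (S := A) (M := B ⧸ m.asIdeal)
          Ideal.Quotient.mk_surjective, Module.length_eq_finrank]
      · let Bm := Localization.AtPrime m.asIdeal
        have hloc : Submodule.localized' Bm m.asIdeal.primeCompl (Algebra.linearMap B Bm) I =
            Ideal.span ({algebraMap A Bm x} : Set Bm) := by
          rw [Ideal.localized'_eq_map]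
          show I.map (algebraMap B Bm) = _
          rw [Ideal.map_span, Set.image_singleton, ← IsScalarTower.algebraMap_apply]
        let e := (IsLocalizedModule.iso m.asIdeal.primeCompl
          (Submodule.toLocalizedQuotient' Bm m.asIdeal.primeCompl (Algebra.linearMap B Bm) I)).extendScalarsOfIsLocalization
            m.asIdeal.primeCompl Bm
        exact (e.trans (Submodule.quotEquivOfEq _ _ hloc)).length_eq.symm
  refine ⟨hsum.trans_le hle, ?_⟩
  rw [hsum]
  haveI : Module.IsTorsionFree A L := Module.IsTorsionFree.trans_faithfulSMul A K L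
  haveI : Module.IsTorsionFree A B := hBinj.moduleIsTorsionFree _ fun a z => (IsScalarTower.toAlgHom A B L).toLinearMap.map_smul a z
  -- a free lattice inside `B`
  have hden : ∀ z : L, ∃ b : B, ∃ a : A, a ≠ 0 ∧ algebraMap B L b = a • z := by
    intro z
    obtain ⟨n, s, hs, rfl⟩ := IsFractionRing.div_surjective B z
    obtain ⟨t, ht0, u, hu⟩ := (halg s).exists_nonzero_dvd (mem_nonZeroDivisors_iff_ne_zero.1 hs |> fun h => mem_nonZeroDivisors_iff_ne_zero.2 h)
    refine ⟨n * u, t, ht0, ?_⟩
    rw [Algebra.smul_def, IsScalarTower.algebraMap_apply A B L, hu, map_mul, map_mul]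
    field_simp [IsFractionRing.to_map_ne_zero_of_mem_nonZeroDivisors hs]
  choose bb aa haa hbb using fun i => hden (bL i)
  let ι : (Fin d → A) →ₗ[A] B := Fintype.linearCombination A bb
  have hι' : ∀ v, algebraMap B L (ι v) = ∑ i, (algebraMap A K (v i * aa i)) • bL i := fun v => by
    simp only [ι, Fintype.linearCombination_apply, map_sum]
    refine Finset.sum_congr rfl fun i _ => ?_
    rw [Algebra.smul_def, map_mul, hbb, ← IsScalarTower.algebraMap_apply, algebraMap_smul, mul_smul,
      Algebra.smul_def (v i)]
  have hι : Function.Injective ι := by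
    intro v w h
    have h1 := congrArg (algebraMap B L) h
    rw [hι', hι'] at h1
    funext i
    have h2 := congrFun (congrArg bL.equivFun h1) i
    simp only [map_sum, map_smul, Module.Basis.equivFun_self, Finset.sum_apply, Pi.smul_apply, smul_eq_mul,
      mul_ite, mul_one, mul_zero, Finset.sum_ite_eq', Finset.mem_univ, if_true] at h2
    exact mul_right_cancel₀ (haa i) (IsFractionRing.injective A K h2)
  have hcol : ∀ b : B, ∃ c : A, c ≠ 0 ∧ c • b ∈ LinearMap.range ι := by
    intro b
    let q : Fin d → K := fun i => bL.repr (algebraMap B L b) i / algebraMap A K (aa i)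
    obtain ⟨c, hc⟩ := IsLocalization.exist_integer_multiples (nonZeroDivisors A) (Finset.univ : Finset (Fin d)) q
    choose w hw using fun i => hc i (Finset.mem_univ i)
    refine ⟨c, nonZeroDivisors.coe_ne_zero c, w, hBinj ?_⟩
    rw [hι', Algebra.smul_def (c : A), map_mul, ← IsScalarTower.algebraMap_apply, ← Algebra.smul_def]
    conv_rhs => rw [← bL.sum_repr (algebraMap B L b), Finset.smul_sum]
    refine Finset.sum_congr rfl fun i _ => ?_
    rw [map_mul, show algebraMap A K (w i) = (c : A) • q i from hw i, ← algebraMap_smul K (c : A) (_ • bL i), ← mul_smul]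
    congr 1
    rw [Algebra.smul_def]
    field_simp [q, (map_ne_zero_iff _ (IsFractionRing.injective A K)).2 (haa i)]
    simp only [q]
    field_simp [(map_ne_zero_iff _ (IsFractionRing.injective A K)).2 (haa i)]
  constructor
  · intro heq
    obtain ⟨T, hT⟩ := Module.Finite.fg_top (R := A) (M := B ⧸ I)
    let T' : Finset B := T.image (Function.surjInv Ideal.Quotient.mk_surjective)
    let M : Submodule A B := LinearMap.range ι ⊔ Submodule.span A (T' : Set B)
    haveI : Module.Finite A M := Module.Finite.iff_fg.2 <| by
      refine Submodule.FG.sup ?_ (Submodule.fg_span T'.finite_toSet)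
      rw [LinearMap.range_eq_map]
      exact Module.Finite.fg_top.map _
    have hlenM : Module.length A (M ⧸ (x • (⊤ : Submodule A M))) = (d : ℕ∞) * Ring.ord A x :=
      LatticeOrd.length_quotient_smul_eq (ι.codRestrict M fun v => Submodule.mem_sup_left ⟨v, rfl⟩)
        (fun v w h => hι (congrArg Subtype.val h)) (fun m => by
          obtain ⟨c, hc, v, hv⟩ := hcol (m : B)
          exact ⟨c, hc, v, Subtype.ext hv⟩) hx0
    let q : M →ₗ[A] B ⧸ I := (Ideal.Quotient.mkₐ A I).toLinearMap ∘ₗ M.subtype
    have hq : Function.Surjective q := by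
      intro z
      have hz : z ∈ Submodule.span A (T : Set (B ⧸ I)) := hT.symm ▸ Submodule.mem_top
      induction hz using Submodule.span_induction with
      | mem z hz => exact ⟨⟨_, Submodule.mem_sup_right (Submodule.subset_span (Finset.mem_coe.2 (Finset.mem_image_of_mem _ hz)))⟩,
          Function.surjInv_eq Ideal.Quotient.mk_surjective z⟩
      | zero => exact ⟨0, map_zero q⟩
      | add a b _ _ ha hb =>
        obtain ⟨a', rfl⟩ := ha
        obtain ⟨b', rfl⟩ := hb
        exact ⟨a' + b', map_add q a' b'⟩
      | smul r a _ ha =>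
        obtain ⟨a', rfl⟩ := ha
        exact ⟨r • a', map_smul q r a'⟩
    let q' : M ⧸ (x • (⊤ : Submodule A M)) →ₗ[A] B ⧸ I := Submodule.liftQ _ q fun m hm => by
      obtain ⟨m', -, rfl⟩ := (Submodule.mem_smul_pointwise_iff_exists _ _ _).1 hm
      show Ideal.Quotient.mk I (x • (m' : B)) = 0
      rw [Ideal.Quotient.eq_zero_iff_mem, Algebra.smul_def]
      exact Ideal.mul_mem_right _ _ (Ideal.mem_span_singleton_self y)
    have hq' : Function.Surjective q' := fun z => by
      obtain ⟨m, hm⟩ := hq z
      exact ⟨Submodule.Quotient.mk m, hm⟩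
    have hqi : LinearMap.ker q' = ⊥ := by
      have h1 := Module.length_eq_add_of_exact (LinearMap.ker q').subtype q' (Submodule.injective_subtype _) hq'
        (LinearMap.exact_subtype_ker_map q')
      rw [hlenM, heq] at h1
      have h2 : Module.length A (LinearMap.ker q') = 0 :=
        (WithTop.add_right_cancel hdtop ((zero_add _).trans h1)).symm
      exact Submodule.subsingleton_iff_eq_bot.1 (Module.length_eq_zero_iff.1 h2)
    have hdesc : ∀ (k : ℕ) (b : B), x ^ k • b ∈ M → b ∈ M := by
      intro k
      induction k with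
      | zero => intro b hb; rwa [pow_zero, one_smul] at hb
      | succ k ih =>
        intro b hb
        refine ih b ?_
        have h1 : (Submodule.Quotient.mk (⟨_, hb⟩ : M) : M ⧸ (x • (⊤ : Submodule A M))) ∈ LinearMap.ker q' := by
          show Ideal.Quotient.mk I (x ^ (k + 1) • b) = 0
          rw [Ideal.Quotient.eq_zero_iff_mem, Algebra.smul_def, map_pow, pow_succ', mul_assoc]
          exact Ideal.mul_mem_right _ _ (Ideal.mem_span_singleton_self y)
        rw [hqi, Submodule.mem_bot, Submodule.Quotient.mk_eq_zero] at h1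
        obtain ⟨m, -, hm⟩ := (Submodule.mem_smul_pointwise_iff_exists _ _ _).1 h1
        have h2 : x • (m : B) = x • (x ^ k • b) := (congrArg Subtype.val hm).trans (by rw [← mul_smul, ← pow_succ'])
        exact smul_right_injective B hx0 h2 ▸ m.2
    refine Module.Finite.of_surjective M.subtype fun b => ?_
    obtain ⟨c, hc, hcb⟩ := hcol b
    obtain ⟨k, t, ht⟩ : ∃ k t, x ^ k = t * c := by
      have h1 : IsLocalRing.maximalIdeal A ≤ (Ideal.span {c}).radical := by
        rw [Ideal.radical_eq_sInf]
        refine le_sInf fun p hp => ?_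
        haveI := hp.2
        haveI : p.IsMaximal := Ideal.IsPrime.isMaximal hp.2 fun h => hc (by
          have h2 := hp.1 (Ideal.mem_span_singleton_self c)
          rwa [h, Ideal.mem_bot] at h2)
        exact (IsLocalRing.eq_maximalIdeal this).ge
      obtain ⟨k, hk⟩ := h1 hx
      obtain ⟨t, ht⟩ := Ideal.mem_span_singleton'.1 hk
      exact ⟨k, t, ht.symm⟩
    have h3 : x ^ k • b ∈ M := by
      rw [ht, mul_smul]
      exact M.smul_mem t (Submodule.mem_sup_left hcb)
    exact ⟨⟨b, hdesc k b h3⟩, rfl⟩
  · intro hB
    rw [hlenI]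
    exact LatticeOrd.length_quotient_smul_eq ι hι hcol hx0
end Groth.Agent.S9136
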