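import Groth.Statements.S9137
import Mathlib
-- import your own Groth.Agent.* helpers here

set_option autoImplicit false
universe u
open CAlg

namespace Groth.Agent.S9137

open PrimeSpectrum

/-- A point of a noetherian spectrum which is both minimal and maximal is open. -/
lemma isOpen_singleton {F : Type*} [CommRing F] [IsNoetherianRing F] (Q : PrimeSpectrum F)
    (hmax : ∀ P : PrimeSpectrum F, Q ≤ P → P = Q) (hmin : ∀ P : PrimeSpectrum F, P ≤ Q → P = Q) :
    IsOpen ({Q} : Set (PrimeSpectrum F)) := by
  let C : Set (PrimeSpectrum F) := ⋃ P ∈ minimalPrimes F \ {Q.asIdeal}, zeroLocus (P : Set F)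
  have hC : IsClosed C := ((minimalPrimes.finite_of_isNoetherianRing F).subset Set.diff_subset).isClosed_biUnion
    fun P _ => isClosed_zeroLocus _
  have : ({Q} : Set (PrimeSpectrum F)) = Cᶜ := by
    ext x
    simp only [Set.mem_singleton_iff, Set.mem_compl_iff, C, Set.mem_iUnion, mem_zeroLocus,
      SetLike.coe_subset_coe, not_exists]
    constructor
    · rintro rfl P ⟨hP, hne⟩ hle
      exact hne (congrArg PrimeSpectrum.asIdeal (hmin ⟨P, hP.1.1⟩ hle))
    · intro h
      obtain ⟨P, hP, hle⟩ := Ideal.exists_minimalPrimes_le (I := (⊥ : Ideal F)) (J := x.asIdeal) bot_le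
      by_cases hPQ : P = Q.asIdeal
      · exact hmax x (show Q.asIdeal ≤ x.asIdeal from hPQ ▸ hle)
      · exact absurd hle (h P ⟨hP, hPQ⟩)
  exact this ▸ hC.isOpen_compl

end Groth.Agent.S9137

namespace Groth.Agent.S9137

/-- Let R → S be a local ring homomorphism between local rings, essentially of finite type, such that
the residue field of S is finite over that of R and S/m_R S has dimension zero. Then S is, as an
R-algebra, the localization of a finite R-algebra at a prime. -/
theorem result (R S : Type u) [CommRing R] [CommRing S]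
    [IsLocalRing R] [IsLocalRing S] [Algebra R S] [IsLocalHom (algebraMap R S)]
    [Algebra.EssFiniteType R S]
    (hres : Module.Finite (IsLocalRing.ResidueField R) (IsLocalRing.ResidueField S))
    (hdim : ringKrullDim (S ⧸ (IsLocalRing.maximalIdeal R).map (algebraMap R S)) = 0) :
    ∃ (S' : Type u) (_ : CommRing S') (_ : Algebra R S') (_ : Algebra S' S) (_ : IsScalarTower R S' S)
      (q : Ideal S') (_ : q.IsPrime), Module.Finite R S' ∧ IsLocalization.AtPrime S q := by
  classical
  let T := Algebra.EssFiniteType.subalgebra R S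
  let M := Algebra.EssFiniteType.submonoid R S
  let q : Ideal T := (IsLocalRing.maximalIdeal S).comap (algebraMap T S)
  have hM : ∀ t : T, t ∈ M ↔ t ∉ q := fun t => by
    simp [M, Algebra.EssFiniteType.submonoid, q, IsUnit.mem_submonoid_iff]
  let m := IsLocalRing.maximalIdeal R
  have hqm : q.comap (algebraMap R T) = m := by
    rw [Ideal.comap_comap, ← IsScalarTower.algebraMap_eq]
    exact IsLocalRing.maximalIdeal_comap _
  -- minimality in the fibre
  have hmin : ∀ q' : Ideal T, q'.IsPrime → q' ≤ q → q'.comap (algebraMap R T) = m → q' = q := by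
    intro q' hq' hle hm
    have hdisj : Disjoint (M : Set T) (q' : Set T) :=
      Set.disjoint_left.2 fun t ht ht' => (hM t).1 ht (hle ht')
    have hP : (q'.map (algebraMap T S)).IsPrime := IsLocalization.isPrime_of_isPrime_disjoint M S q' hq' hdisj
    have hmP : m.map (algebraMap R S) ≤ q'.map (algebraMap T S) := by
      rw [IsScalarTower.algebraMap_eq R T S, ← Ideal.map_map]
      exact Ideal.map_mono (Ideal.map_le_iff_le_comap.2 hm.ge)
    haveI : Ring.KrullDimLE 0 (S ⧸ m.map (algebraMap R S)) :=
      ⟨hdim.le⟩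
    haveI : (q'.map (algebraMap T S)).IsPrime := hP
    have hP' : ((q'.map (algebraMap T S)).map (Ideal.Quotient.mk (m.map (algebraMap R S)))).IsMaximal := by
      haveI := Ideal.map_isPrime_of_surjective (Ideal.Quotient.mk_surjective (I := m.map (algebraMap R S)))
        (I := q'.map (algebraMap T S)) (by rwa [Ideal.mk_ker])
      exact Ideal.IsPrime.isMaximal' inferInstance
    have hmax : (q'.map (algebraMap T S)).IsMaximal := by
      have := Ideal.comap_isMaximal_of_surjective _ (Ideal.Quotient.mk_surjective (I := m.map (algebraMap R S))) (H := hP')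
      rwa [Ideal.comap_map_of_surjective _ Ideal.Quotient.mk_surjective, ← RingHom.ker_eq_comap_bot,
        Ideal.mk_ker, sup_of_le_left hmP] at this
    calc q' = (q'.map (algebraMap T S)).comap (algebraMap T S) :=
          (IsLocalization.comap_map_of_isPrime_disjoint M S hq' hdisj).symm
      _ = q := by rw [IsLocalRing.eq_maximalIdeal hmax]
  -- maximality in the fibre
  have hqmax : q.IsMaximal := by
    let f : (T ⧸ q) →+* IsLocalRing.ResidueField S := Ideal.Quotient.lift q
      ((IsLocalRing.residue S).comp (algebraMap T S)) fun t ht => (IsLocalRing.residue_eq_zero_iff _).2 ht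
    let g : IsLocalRing.ResidueField R →+* T ⧸ q := Ideal.Quotient.lift m
      ((Ideal.Quotient.mk q).comp (algebraMap R T)) fun r hr => by
        rw [RingHom.comp_apply, Ideal.Quotient.eq_zero_iff_mem, ← Ideal.mem_comap, hqm]; exact hr
    let := g.toAlgebra
    have hfg : f.comp g = algebraMap (IsLocalRing.ResidueField R) (IsLocalRing.ResidueField S) := by
      apply Ideal.Quotient.ringHom_ext
      ext r
      rfl
    have hf : Function.Injective f := by
      rw [injective_iff_map_eq_zero]
      intro x hx
      obtain ⟨t, rfl⟩ := Ideal.Quotient.mk_surjective x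
      rw [Ideal.Quotient.eq_zero_iff_mem]
      exact (IsLocalRing.residue_eq_zero_iff _).1 hx
    haveI : Algebra.IsIntegral (IsLocalRing.ResidueField R) (T ⧸ q) := ⟨fun x => by
      have hx : IsIntegral (IsLocalRing.ResidueField R) (f x) := Algebra.IsIntegral.isIntegral _
      exact (isIntegral_algHom_iff (⟨f, fun r => RingHom.congr_fun hfg r⟩ :
        (T ⧸ q) →ₐ[IsLocalRing.ResidueField R] IsLocalRing.ResidueField S) hf).1 hx⟩
    exact Ideal.Quotient.maximal_of_isField q
      (isField_of_isIntegral_of_isField' (Semifield.toIsField (IsLocalRing.ResidueField R)))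
  -- quasi-finite at `q`
  let qp : PrimeSpectrum T := ⟨q, inferInstance⟩
  haveI : Algebra.QuasiFiniteAt R q := by
    refine Algebra.QuasiFiniteAt.of_isOpen_singleton_fiber qp ?_
    let p := qp.comap (algebraMap R T)
    let e := PrimeSpectrum.preimageOrderIsoFiber R T p
    let e' := PrimeSpectrum.preimageHomeomorphFiber R T p
    haveI : IsNoetherianRing (p.asIdeal.Fiber T) := Algebra.FiniteType.isNoetherianRing p.asIdeal.ResidueField _
    have hp : ∀ x : PrimeSpectrum.comap (algebraMap R T) ⁻¹' {p}, x.1.asIdeal.comap (algebraMap R T) = m := fun x =>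
      (congrArg PrimeSpectrum.asIdeal x.2).trans hqm
    refine (e'.isOpen_image).1 ?_
    rw [Set.image_singleton]
    refine Groth.Agent.S9137.isOpen_singleton _ (fun P hP => ?_) fun P hP => ?_
    · obtain ⟨x, rfl⟩ := e'.surjective P
      have hle : qp ≤ x.1 := (e.le_iff_le (x := ⟨qp, rfl⟩) (y := x)).1 hP
      exact congrArg e' (Subtype.ext (PrimeSpectrum.ext (hqmax.eq_of_le x.1.2.ne_top hle).symm))
    · obtain ⟨x, rfl⟩ := e'.surjective P
      have hle : x.1 ≤ qp := (e.le_iff_le (x := x) (y := ⟨qp, rfl⟩)).1 hP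
      exact congrArg e' (Subtype.ext (PrimeSpectrum.ext (hmin _ x.1.2 hle (hp x))))
  obtain ⟨S', hS', r, hr, hbij⟩ := Algebra.QuasiFiniteAt.exists_fg_and_exists_notMem_and_awayMap_bijective (R := R) q
  have hS'f : Module.Finite R S' := ⟨(Submodule.fg_top _).mpr hS'⟩
  let q0 : Ideal S' := q.comap S'.val.toRingHom
  have hden : ∀ t : T, ∃ (n : ℕ) (a : S'), t * r.1 ^ n = a.1 := by
    intro t
    obtain ⟨z, hz⟩ := hbij.2 (algebraMap T (Localization.Away r.1) t)
    obtain ⟨n, a, ha⟩ := IsLocalization.Away.surj r z
    have := congrArg (Localization.awayMap S'.val.toRingHom r) ha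
    rw [map_mul, map_pow, hz] at this
    simp only [Localization.awayMap, IsLocalization.Away.map, IsLocalization.map_eq] at this
    change algebraMap T (Localization.Away r.1) t * algebraMap T _ r.1 ^ n = algebraMap T _ a.1 at this
    rw [← map_pow, ← map_mul] at this
    obtain ⟨⟨_, j, rfl⟩, hj⟩ := (IsLocalization.eq_iff_exists (Submonoid.powers r.1) _).1 this
    refine ⟨n + j, r ^ j * a, ?_⟩
    rw [MulMemClass.coe_mul, SubmonoidClass.coe_pow, pow_add, ← mul_assoc, mul_comm]
    exact hj
  refine ⟨S', inferInstance, inferInstance, inferInstance, inferInstance, q0, inferInstance, hS'f, ?_⟩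
  have hpow : ∀ n, r.1 ^ n ∉ q := fun n h => hr ((inferInstance : q.IsPrime).mem_of_pow_mem n h)
  constructor; constructor
  · intro y
    exact IsLocalization.map_units S (⟨(y : S').1, (hM _).2 y.2⟩ : M)
  · intro x
    obtain ⟨⟨t, u⟩, htu⟩ := IsLocalization.surj M x
    obtain ⟨n, a, ha⟩ := hden t
    obtain ⟨n', b, hb⟩ := hden u.1
    have hb0 : b * r ^ n ∈ q0.primeCompl := fun hmem => by
      have h1 : u.1 * r.1 ^ n' * r.1 ^ n ∈ q := by
        rw [hb]; exact hmem
      rcases (inferInstance : q.IsPrime).mem_or_mem h1 with h2 | h2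
      · rcases (inferInstance : q.IsPrime).mem_or_mem h2 with h3 | h3
        · exact (hM _).1 u.2 h3
        · exact hpow _ h3
      · exact hpow _ h2
    refine ⟨(a * r ^ n', ⟨b * r ^ n, hb0⟩), ?_⟩
    change x * algebraMap T S (b.1 * r.1 ^ n) = algebraMap T S (a.1 * r.1 ^ n')
    rw [← ha, ← hb]
    simp only [map_mul]
    rw [← htu]
    ring
  · intro a b hab
    obtain ⟨c, hc⟩ := (IsLocalization.eq_iff_exists M S).1 hab
    obtain ⟨n, c', hc'⟩ := hden c.1
    refine ⟨⟨c', fun hmem => ?_⟩, ?_⟩
    · have h1 : c.1 * r.1 ^ n ∈ q := by rw [hc']; exact hmem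
      exact ((inferInstance : q.IsPrime).mem_or_mem h1).elim ((hM _).1 c.2) (hpow _)
    · apply Subtype.ext
      change c'.1 * a.1 = c'.1 * b.1
      have hc2 : c.1 * a.1 = c.1 * b.1 := hc
      rw [← hc', mul_assoc, mul_comm (r.1 ^ n) a.1, ← mul_assoc, hc2, mul_assoc, mul_comm b.1 (r.1 ^ n), ← mul_assoc]

end Groth.Agent.S9137
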