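import Groth.Statements.S9139
import Mathlib
-- import your own Groth.Agent.* helpers here

set_option autoImplicit false
universe u
open CAlg

namespace Groth.Agent.S9139

/-- Let I be a locally nilpotent ideal of a ring R (every element of I is nilpotent) and S → S' a map of
R-algebras with S' of finite type over R. If S → S'/IS' is surjective then so is S → S'. -/
theorem result (R S S' : Type u) [CommRing R] [CommRing S]
    [CommRing S'] [Algebra R S] [Algebra R S'] [Algebra.FiniteType R S'] (I : Ideal R)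
    (hI : ∀ x ∈ I, IsNilpotent x) (f : S →ₐ[R] S')
    (hf : Function.Surjective ((Ideal.Quotient.mk (I.map (algebraMap R S'))).comp f.toRingHom)) :
    Function.Surjective f := by
  classical
  obtain ⟨G, hG⟩ := (inferInstance : Algebra.FiniteType R S').out
  have hmem : ∀ g : S', ∃ s : S, g - f s ∈ I.map (algebraMap R S') := fun g => by
    obtain ⟨s, hs⟩ := hf (Ideal.Quotient.mk _ g)
    exact ⟨s, Ideal.Quotient.eq.1 hs.symm⟩
  choose σ hσ using hmem
  have hfin : ∀ g : S', ∃ T : Finset R, ↑T ⊆ (I : Set R) ∧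
      g - f (σ g) ∈ (Ideal.span (T : Set R)).map (algebraMap R S') := by
    intro g
    have h1 := hσ g
    rw [Ideal.map, Ideal.span] at h1
    obtain ⟨T, hT, h2⟩ := Submodule.mem_span_finite_of_mem_span h1
    choose pre hpre hpre' using fun x : T => hT x.2
    refine ⟨Finset.univ.image pre, ?_, ?_⟩
    · rintro y hy
      obtain ⟨x, -, rfl⟩ := Finset.mem_image.1 hy
      exact hpre x
    · rw [Ideal.map_span]
      refine Submodule.span_mono (fun x hx => ?_) h2
      exact ⟨pre ⟨x, hx⟩, Finset.mem_image_of_mem _ (Finset.mem_univ _), hpre' ⟨x, hx⟩⟩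
  choose T hTI hT using hfin
  set J := Ideal.span ((G.biUnion T : Finset R) : Set R) with hJ
  obtain ⟨N, hN⟩ : ∃ N, J ^ N = ⊥ := by
    have hle : J ≤ nilradical R := by
      refine Ideal.span_le.2 fun r hr => ?_
      obtain ⟨g, -, hr'⟩ := Finset.mem_biUnion.1 hr
      exact hI r (hTI g hr')
    exact (Ideal.FG.isNilpotent_iff_le_nilradical (Submodule.fg_span (Finset.finite_toSet _))).2 hle
  set J' := J.map (algebraMap R S') with hJ'
  let U : Subalgebra R S' :=
    { carrier := {y | ∃ s, y - f s ∈ J'}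
      mul_mem' := by
        rintro a b ⟨s, hs⟩ ⟨t, ht⟩
        refine ⟨s * t, ?_⟩
        rw [map_mul, show a * b - f s * f t = a * (b - f t) + (a - f s) * f t by ring]
        exact add_mem (J'.mul_mem_left _ ht) (J'.mul_mem_right _ hs)
      add_mem' := by
        rintro a b ⟨s, hs⟩ ⟨t, ht⟩
        exact ⟨s + t, by rw [map_add, add_sub_add_comm]; exact add_mem hs ht⟩
      algebraMap_mem' := fun r => ⟨algebraMap R S r, by rw [f.commutes, sub_self]; exact zero_mem _⟩ }
  have hU : ∀ y : S', ∃ s, y - f s ∈ J' := by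
    intro y
    have : y ∈ U := by
      have h1 : Algebra.adjoin R (G : Set S') ≤ U := by
        refine Algebra.adjoin_le fun g hg => ⟨σ g, ?_⟩
        refine Ideal.map_mono ?_ (hT g)
        exact Ideal.span_mono (Finset.coe_subset.2 (Finset.subset_biUnion_of_mem T hg))
      exact h1 (hG ▸ Algebra.mem_top)
    exact this
  have step : ∀ n, ∀ y : S', ∃ s, y - f s ∈ J' ^ n := by
    intro n
    induction n with
    | zero => intro y; exact ⟨0, by simp⟩
    | succ n ih =>
      intro y
      obtain ⟨s, hs⟩ := ih y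
      have h1 : ∀ z ∈ J' ^ n, ∃ s, z - f s ∈ J' ^ (n + 1) := by
        intro z hz
        rw [hJ', ← Ideal.map_pow, Ideal.map] at hz
        refine Submodule.span_induction ?_ ⟨0, by simp⟩ ?_ ?_ hz
        · rintro _ ⟨r, hr, rfl⟩
          exact ⟨algebraMap R S r, by rw [f.commutes, sub_self]; exact zero_mem _⟩
        · rintro a b ha hb ⟨s, hs⟩ ⟨t, ht⟩
          exact ⟨s + t, by rw [map_add, add_sub_add_comm]; exact add_mem hs ht⟩
        · rintro c a ha ⟨s, hs⟩
          obtain ⟨t, ht⟩ := hU c
          refine ⟨t * s, ?_⟩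
          rw [smul_eq_mul, map_mul, show c * a - f t * f s = (c - f t) * a + f t * (a - f s) by ring]
          refine add_mem ?_ ((J' ^ (n + 1)).mul_mem_left _ hs)
          rw [pow_succ']
          refine Ideal.mul_mem_mul ht ?_
          rw [hJ', ← Ideal.map_pow, Ideal.map]
          exact ha
      obtain ⟨t, ht⟩ := h1 _ hs
      exact ⟨s + t, by rw [map_add, ← sub_sub]; exact ht⟩
  intro y
  obtain ⟨s, hs⟩ := step N y
  rw [hJ', ← Ideal.map_pow, hN, Ideal.map_bot, Ideal.mem_bot, sub_eq_zero] at hs
  exact ⟨s, hs.symm⟩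

end Groth.Agent.S9139
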