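import Groth.Statements.S9140
import Groth.Agent.S9139
import Groth.Agent.NodeLift.Flat
-- import your own Groth.Agent.* helpers here

set_option autoImplicit false
universe u
open CAlg

namespace Groth.Agent.S9140

/-- Let I be a locally nilpotent ideal of a ring R and S → S' a map of R-algebras with S of finite type
over R and S' of finite presentation and flat over R. If the induced map S/IS → S'/IS' is bijective
(stated as: S → S'/IS' is surjective with kernel IS), then S → S' is bijective. -/
theorem result (R S S' : Type u)
    [CommRing R] [CommRing S] [CommRing S'] [Algebra R S] [Algebra R S'] [Algebra.FiniteType R S]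
    [Algebra.FinitePresentation R S'] [Module.Flat R S'] (I : Ideal R) (hI : ∀ x ∈ I, IsNilpotent x)
    (f : S →ₐ[R] S')
    (hsurj : Function.Surjective ((Ideal.Quotient.mk (I.map (algebraMap R S'))).comp f.toRingHom))
    (hker : ∀ s : S, f s ∈ I.map (algebraMap R S') → s ∈ I.map (algebraMap R S)) :
    Function.Bijective f := by
  have hsurj' : Function.Surjective f := S9139.result R S S' I hI f hsurj
  refine ⟨?_, hsurj'⟩
  obtain ⟨n, φ, hφ⟩ := Algebra.FiniteType.iff_quotient_mvPolynomial''.1 ‹Algebra.FiniteType R S›
  have h1 : (RingHom.ker (f.comp φ).toRingHom).FG :=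
    Algebra.FinitePresentation.ker_fG_of_surjective (f.comp φ) (hsurj'.comp hφ)
  have hK : (RingHom.ker f).FG := by
    have := h1.map φ.toRingHom
    have e : (RingHom.ker (f.comp φ).toRingHom).map φ.toRingHom = RingHom.ker f := by
      show ((RingHom.ker f).comap φ.toRingHom).map φ.toRingHom = _
      exact Ideal.map_comap_of_surjective _ hφ _
    rwa [e] at this
  have hle : RingHom.ker f ≤ I.map (algebraMap R S) := fun s hs => hker s (by
    rw [show f s = 0 from hs]; exact zero_mem _)
  have hbot : RingHom.ker f = ⊥ := by
    refine Submodule.eq_bot_of_le_smul_of_le_jacobson_bot (I.map (algebraMap R S)) _ hK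
      ((le_inf le_rfl hle).trans (NodeLift.inf_map_le_mul f hsurj' I)) ?_
    refine le_trans (Ideal.map_le_iff_le_comap.2 fun x hx => ?_) ((nilradical_le_jacobson S).trans_eq Ideal.jacobson_bot.symm)
    exact (hI x hx).map _
  exact (RingHom.injective_iff_ker_eq_bot f.toRingHom).2 hbot
end Groth.Agent.S9140
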