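import Groth.Statements.S9143
import Groth.Agent.SyntLCI.Field


set_option autoImplicit false
universe u
open Synt

namespace Groth.Agent.S9143

/-- For a local k-algebra S which is essentially of finite type over a field k, being a complete
intersection over k is equivalent to each of: (2) whenever a regular local ring R, essentially of
finite type over k, maps onto S by a surjective k-algebra map, the kernel is generated by a regular
sequence; (3) some regular local ring R, essentially of finite type over k, maps onto S by a
surjective k-algebra map whose kernel is generated by a list of dim R − dim S elements (stated as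
dim R = dim S + the length of the list); (4) S is isomorphic over k to a localization at a prime of
a global complete intersection over k; (5) the same with a local complete intersection over k. -/
theorem result (k S : Type u) [Field k] [CommRing S]
    [IsLocalRing S] [Algebra k S] [Algebra.EssFiniteType k S] :
    (Synt.IsCIOver k S ↔
        ∀ (R : Type u) [CommRing R] [IsRegularLocalRing R] [Algebra k R], Algebra.EssFiniteType k R →
          ∀ π : R →ₐ[k] S, Function.Surjective π →
            ∃ rs : List R, RingTheory.Sequence.IsRegular R rs ∧ RingHom.ker π.toRingHom = Ideal.ofList rs) ∧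
      (Synt.IsCIOver k S ↔
        ∃ (R : Type u) (_ : CommRing R) (_ : IsRegularLocalRing R) (_ : Algebra k R),
          Algebra.EssFiniteType k R ∧ ∃ π : R →ₐ[k] S, Function.Surjective π ∧
            ∃ rs : List R, RingHom.ker π.toRingHom = Ideal.ofList rs ∧
              ringKrullDim R = ringKrullDim S + (rs.length : WithBot ℕ∞)) ∧
      (Synt.IsCIOver k S ↔
        ∃ (A : Type u) (_ : CommRing A) (_ : Algebra k A) (a : Ideal A) (_ : a.IsPrime),
          Algebra.FiniteType k A ∧ Synt.IsGlobalCI k A ∧ Nonempty (S ≃ₐ[k] Localization.AtPrime a)) ∧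
      (Synt.IsCIOver k S ↔
        ∃ (A : Type u) (_ : CommRing A) (_ : Algebra k A) (a : Ideal A) (_ : a.IsPrime),
          Synt.IsLCIOver k A ∧ Nonempty (S ≃ₐ[k] Localization.AtPrime a)) := by
  obtain ⟨N, f, hf⟩ := SyntLCI.exists_genUnits (k := k) S
  let M : Ideal (MvPolynomial (Fin N) k) :=
    (IsLocalRing.maximalIdeal S).comap ((AlgHom.id k S).comp (MvPolynomial.aeval f)).toRingHom
  have : M.IsPrime := Ideal.comap_isPrime _ _
  obtain ⟨ρ, hρ, -⟩ := SyntLCI.exists_cover (AlgHom.id k S) Function.surjective_id f hf M rfl
  have hP : Algebra.EssFiniteType k (Localization.AtPrime M) :=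
    have := Algebra.EssFiniteType.of_isLocalization (Localization.AtPrime M) M.primeCompl
    Algebra.EssFiniteType.comp k (MvPolynomial (Fin N) k) _
  let A := Algebra.EssFiniteType.subalgebra k S
  let a : Ideal A := (IsLocalRing.maximalIdeal S).comap (algebraMap A S)
  have ha : a.IsPrime := Ideal.comap_isPrime _ _
  have heq : a.primeCompl = Algebra.EssFiniteType.submonoid k S := by
    ext x
    show x ∉ a ↔ IsUnit (algebraMap A S x)
    rw [Ideal.mem_comap, IsLocalRing.mem_maximalIdeal, mem_nonunits_iff, not_not]
  have : IsLocalization.AtPrime S a := by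
    rw [IsLocalization.AtPrime, heq]
    exact Algebra.EssFiniteType.isLocalization k S
  have e : Localization.AtPrime a ≃ₐ[k] S :=
    (IsLocalization.algEquiv a.primeCompl (Localization.AtPrime a) S).restrictScalars k
  refine ⟨⟨fun h R _ _ _ hR π hπ => ?_, fun h => ?_⟩, ⟨fun h => ?_, ?_⟩, ⟨fun h => ?_, ?_⟩, ⟨fun h => ?_, ?_⟩⟩
  · obtain ⟨hne, l, hl, hreg⟩ := (SyntLCI.isCIOver_iff π hπ).1 h
    refine ⟨l, ⟨hreg, ?_⟩, hl.symm⟩
    rw [smul_eq_mul, Ideal.mul_top, hl]
    exact hne.symm
  · obtain ⟨rs, hreg, hker⟩ := h (Localization.AtPrime M) hP ρ hρ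
    exact (SyntLCI.isCIOver_iff ρ hρ).2 ⟨RingHom.ker_ne_top _, rs, hker.symm, hreg.toIsWeaklyRegular⟩
  · obtain ⟨-, l, hl, hreg⟩ := (SyntLCI.isCIOver_iff ρ hρ).1 h
    obtain ⟨d, hd⟩ := CAlgReg.exists_dim (R := Localization.AtPrime M)
    have hne : Ideal.ofList l ≠ ⊤ := hl ▸ RingHom.ker_ne_top _
    obtain ⟨e', he⟩ := SyntLCI.exists_dim_quotient hne
    refine ⟨_, inferInstance, inferInstance, inferInstance, hP, ρ, hρ, l, hl.symm, ?_⟩
    rw [← ringKrullDim_eq_of_ringEquiv ((Ideal.quotEquivOfEq hl).trans (RingHom.quotientKerEquivOfSurjective (f := ρ.toRingHom) hρ)),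
      hd, he, ← (SyntLCI.isWeaklyRegular_iff_dim hne hd he).1 hreg, Nat.cast_add]
  · rintro ⟨R, _, _, _, hR, π, hπ, rs, hker, hdim⟩
    have := hR
    obtain ⟨d, hd⟩ := CAlgReg.exists_dim (R := R)
    have hne : Ideal.ofList rs ≠ ⊤ := hker ▸ RingHom.ker_ne_top _
    obtain ⟨e', he⟩ := SyntLCI.exists_dim_quotient hne
    rw [← ringKrullDim_eq_of_ringEquiv ((Ideal.quotEquivOfEq hker.symm).trans (RingHom.quotientKerEquivOfSurjective (f := π.toRingHom) hπ)),
      hd, he] at hdim
    refine (SyntLCI.isCIOver_iff π hπ).2 ⟨RingHom.ker_ne_top _, rs, hker.symm,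
      (SyntLCI.isWeaklyRegular_iff_dim hne hd he).2 ?_⟩
    exact_mod_cast hdim.symm
  · obtain ⟨g, hg, hci⟩ := (SyntLCI.isCIOver_atPrime_iff_exists k A a).1 (SyntLCI.isCIOver_congr e.symm h)
    have hd : Disjoint (Submonoid.powers g : Set A) (a : Set A) :=
      (Ideal.disjoint_powers_iff_notMem g ha.isRadical).2 hg
    have : (a.map (algebraMap A (Localization.Away g))).IsPrime :=
      IsLocalization.isPrime_of_isPrime_disjoint _ _ _ ha hd
    have hft : Algebra.FinitePresentation A (Localization.Away g) := IsLocalization.Away.finitePresentation g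
    have hc := IsLocalization.comap_map_of_isPrime_disjoint (Submonoid.powers g) (Localization.Away g) (hI := ha) hd
    have := IsLocalization.isLocalization_isLocalization_atPrime_isLocalization (Submonoid.powers g)
      (Localization.AtPrime (a.map (algebraMap A (Localization.Away g)))) (a.map (algebraMap A (Localization.Away g)))
    have : IsLocalization a.primeCompl (Localization.AtPrime (a.map (algebraMap A (Localization.Away g)))) := by
      have key : ∀ (q : Ideal A) [q.IsPrime] (L : Type u) [CommRing L] [Algebra A L], q = a →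
          IsLocalization.AtPrime L q → IsLocalization a.primeCompl L := by
        rintro q _ L _ _ rfl h; exact h
      exact key _ _ hc this
    refine ⟨_, inferInstance, inferInstance, a.map (algebraMap A (Localization.Away g)), ‹_›,
      Algebra.FiniteType.trans (S := A) inferInstance inferInstance, hci, ⟨?_⟩⟩
    exact ((IsLocalization.algEquiv a.primeCompl S
      (Localization.AtPrime (a.map (algebraMap A (Localization.Away g))))).restrictScalars k)
  · rintro ⟨A', _, _, a', _, -, hci, ⟨e'⟩⟩
    exact SyntLCI.isCIOver_congr e'.symm (SyntLCI.isCIOver_of_isGlobalCI hci _)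
  · obtain ⟨g, hg, hci⟩ := (SyntLCI.isCIOver_atPrime_iff_exists k A a).1 (SyntLCI.isCIOver_congr e.symm h)
    have hd : Disjoint (Submonoid.powers g : Set A) (a : Set A) :=
      (Ideal.disjoint_powers_iff_notMem g ha.isRadical).2 hg
    have : (a.map (algebraMap A (Localization.Away g))).IsPrime :=
      IsLocalization.isPrime_of_isPrime_disjoint _ _ _ ha hd
    have hft : Algebra.FinitePresentation A (Localization.Away g) := IsLocalization.Away.finitePresentation g
    have hc := IsLocalization.comap_map_of_isPrime_disjoint (Submonoid.powers g) (Localization.Away g) (hI := ha) hd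
    have := IsLocalization.isLocalization_isLocalization_atPrime_isLocalization (Submonoid.powers g)
      (Localization.AtPrime (a.map (algebraMap A (Localization.Away g)))) (a.map (algebraMap A (Localization.Away g)))
    have : IsLocalization a.primeCompl (Localization.AtPrime (a.map (algebraMap A (Localization.Away g)))) := by
      have key : ∀ (q : Ideal A) [q.IsPrime] (L : Type u) [CommRing L] [Algebra A L], q = a →
          IsLocalization.AtPrime L q → IsLocalization a.primeCompl L := by
        rintro q _ L _ _ rfl h; exact h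
      exact key _ _ hc this
    have hft' : Algebra.FiniteType k (Localization.Away g) := Algebra.FiniteType.trans (S := A) inferInstance inferInstance
    refine ⟨_, inferInstance, inferInstance, a.map (algebraMap A (Localization.Away g)), ‹_›,
      (SyntLCI.isLCIOver_iff_atPrime k _).2 ⟨hft', fun p => SyntLCI.isCIOver_of_isGlobalCI hci _⟩, ⟨?_⟩⟩
    exact ((IsLocalization.algEquiv a.primeCompl S
      (Localization.AtPrime (a.map (algebraMap A (Localization.Away g))))).restrictScalars k)
  · rintro ⟨A', _, _, a', _, hci, ⟨e'⟩⟩
    exact SyntLCI.isCIOver_congr e'.symm (SyntLCI.isCIOver_of_isLCIOver hci _)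

end Groth.Agent.S9143
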