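import Groth.Statements.S9144
import Groth.Agent.SyntLCI.Field


set_option autoImplicit false
universe u
open Synt

namespace Groth.Agent.S9144

/-- For a finite type algebra S over a field k and a prime q of S, the local ring S_q is a complete
intersection over k if and only if some basic open neighbourhood S_g (g ∉ q) is a local complete
intersection over k, if and only if some S_g (g ∉ q) is a global complete intersection over k. -/
theorem result (k S : Type u) [Field k] [CommRing S] [Algebra k S]
    [Algebra.FiniteType k S] (q : Ideal S) [q.IsPrime] :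
    (Synt.IsCIOver k (Localization.AtPrime q) ↔ ∃ g : S, g ∉ q ∧ Synt.IsLCIOver k (Localization.Away g)) ∧
      (Synt.IsCIOver k (Localization.AtPrime q) ↔
        ∃ g : S, g ∉ q ∧ Synt.IsGlobalCI k (Localization.Away g)) := by
  refine ⟨⟨fun h => ?_, ?_⟩, SyntLCI.isCIOver_atPrime_iff_exists k S q⟩
  · obtain ⟨g, hg, hci⟩ := (SyntLCI.isCIOver_atPrime_iff_exists k S q).1 h
    have : Algebra.FinitePresentation S (Localization.Away g) := IsLocalization.Away.finitePresentation g
    have hft : Algebra.FiniteType k (Localization.Away g) := Algebra.FiniteType.trans (S := S) ‹_› inferInstance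
    exact ⟨g, hg, (SyntLCI.isLCIOver_iff_atPrime k _).2 ⟨hft, fun p => SyntLCI.isCIOver_of_isGlobalCI hci _⟩⟩
  · rintro ⟨g, hg, h⟩
    have hd : Disjoint (Submonoid.powers g : Set S) (q : Set S) :=
      (Ideal.disjoint_powers_iff_notMem g (Ideal.IsPrime.isRadical ‹_›)).2 hg
    have : (q.map (algebraMap S (Localization.Away g))).IsPrime :=
      IsLocalization.isPrime_of_isPrime_disjoint _ _ _ ‹_› hd
    exact (SyntLCI.isCIOver_localRing_congr (Submonoid.powers g) _ q
      (IsLocalization.comap_map_of_isPrime_disjoint _ _ (hI := ‹_›) hd)).1 (SyntLCI.isCIOver_of_isLCIOver h _)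

end Groth.Agent.S9144
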