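import Groth.Statements.S9149
import Groth.Agent.SyntLCI.Square
import Groth.Agent.SyntLCI.SmoothOver
import Groth.Agent.SyntLCI.Comp


set_option autoImplicit false
universe u
open Synt

namespace Groth.Agent.S9149

open Polynomial in
/-- A monic polynomial over a ring A splits into linear factors over some A-algebra A' that is syntomic,
finite free and faithfully flat over A. -/
theorem result (A : Type u) [CommRing A] (P : A[X]) (hP : P.Monic) :
    ∃ (A' : Type u) (_ : CommRing A') (_ : Algebra A A'),
      Synt.IsSyntomic A A' ∧ Module.Finite A A' ∧ Module.Free A A' ∧ Module.FaithfullyFlat A A' ∧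
        ∃ s : Multiset A', P.map (algebraMap A A') = (s.map fun b => X - C b).prod := by
  classical
  have hsplit : ∀ (N : ℕ) (A : Type u) [CommRing A] (P : A[X]), P.Monic → P.natDegree = N →
      ∃ (A' : Type u) (_ : CommRing A') (_ : Algebra A A'), Synt.IsSyntomic A A' ∧ Module.Finite A A' ∧ Module.Free A A' ∧
        Module.FaithfullyFlat A A' ∧ ∃ s : Multiset A', P.map (algebraMap A A') = (s.map fun b => X - C b).prod := by
    intro N
    induction N with
    | zero =>
      intro A _ P hP hd
      refine ⟨A, inferInstance, inferInstance, Groth.Agent.SyntLCI.isSyntomic_of_smooth_over A A A, inferInstance,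
        inferInstance, inferInstance, 0, ?_⟩
      simp [eq_one_of_monic_natDegree_zero hP hd]
    | succ N ih =>
      intro A _ P hP hd
      have := hP.finite_adjoinRoot
      have := hP.free_adjoinRoot
      let E : MvPolynomial (Fin 1) A ≃ₐ[A] A[X] := MvPolynomial.uniqueAlgEquiv A (Fin 1)
      let F : Fin 1 → MvPolynomial (Fin 1) A := fun _ => E.symm P
      have e : AdjoinRoot P ≃ₐ[A] Synt.RelGCIRing A 1 1 F :=
        Ideal.quotientEquivAlg _ _ E.symm (by rw [Ideal.map_span, Set.image_singleton, Set.range_const]; rfl)
      have hs₁ : Synt.IsSyntomic A (AdjoinRoot P) := Groth.Agent.SyntLCI.isSyntomic_of_square F e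
      have hff : Module.FaithfullyFlat A (AdjoinRoot P) := by
        have : Nonempty (Fin (AdjoinRoot.powerBasis' hP).dim) := ⟨⟨0, by rw [AdjoinRoot.powerBasis'_dim, hd]; exact N.succ_pos⟩⟩
        rcases subsingleton_or_nontrivial A with hA | hA
        · exact ⟨fun m hm => absurd (Subsingleton.elim m ⊤) hm.ne_top⟩
        exact Module.FaithfullyFlat.of_linearEquiv A _ (AdjoinRoot.powerBasis' hP).basis.repr
      rcases subsingleton_or_nontrivial (AdjoinRoot P) with hA₁ | hA₁
      · refine ⟨AdjoinRoot P, inferInstance, inferInstance, hs₁, inferInstance, inferInstance, hff, 0, Subsingleton.elim _ _⟩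
      have hroot : (P.map (algebraMap A (AdjoinRoot P))).IsRoot (AdjoinRoot.root P) := by
        rw [Polynomial.IsRoot, Polynomial.eval_map, ← AdjoinRoot.eval₂_root P]
        rfl
      obtain ⟨Q, hQ⟩ := dvd_iff_isRoot.2 hroot
      have hQm : Q.Monic := (monic_X_sub_C _).of_mul_monic_left (hQ ▸ hP.map _)
      have hQd : Q.natDegree = N := by
        have h := congrArg natDegree hQ
        rw [(monic_X_sub_C _).natDegree_mul hQm, natDegree_X_sub_C, hP.natDegree_map, hd] at h
        omega
      obtain ⟨A', _, _, hs, hfin, hfree, hff', s, hfac⟩ := ih (AdjoinRoot P) Q hQm hQd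
      let := ((algebraMap (AdjoinRoot P) A').comp (algebraMap A (AdjoinRoot P))).toAlgebra
      have : IsScalarTower A (AdjoinRoot P) A' := .of_algebraMap_eq fun x => rfl
      refine ⟨A', inferInstance, inferInstance, Groth.Agent.SyntLCI.isSyntomic_trans A (AdjoinRoot P) A' hs₁ hs,
        Module.Finite.trans (AdjoinRoot P) A', Module.Free.trans (S := AdjoinRoot P), Module.FaithfullyFlat.trans A (AdjoinRoot P) A',
        algebraMap _ A' (AdjoinRoot.root P) ::ₘ s, ?_⟩
      rw [IsScalarTower.algebraMap_eq A (AdjoinRoot P) A', ← Polynomial.map_map, hQ, Polynomial.map_mul, Multiset.map_cons,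
        Multiset.prod_cons, hfac, Polynomial.map_sub, Polynomial.map_X, Polynomial.map_C]
  exact hsplit _ A P hP rfl

end Groth.Agent.S9149
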