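import Groth.Statements.S9172
import Groth.Agent.SyntLCI.Dim


set_option autoImplicit false
universe u
open Synt

namespace Groth.Agent.S9172

open MvPolynomial in
/-- Let S = R[x_1, …, x_n]/(F_1, …, F_c) over a ring R. Let I be an ideal of R such that the reduction
R/I[x]/(F mod I) = S/IS is a relative global complete intersection over R/I (its nonempty fibres
have dimension n − c). Then some h in the polynomial ring, with image g in S, satisfies: g maps to 1
in S/IS, and the presentation S_g = R[x_1, …, x_{n+1}]/(F_1, …, F_c, h·x_{n+1} − 1) is a relative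
global complete intersection over R (with S_g isomorphic to it over R). -/
theorem result (R : Type u) [CommRing R] (n c : ℕ) (F : Fin c → MvPolynomial (Fin n) R)
    (I : Ideal R)
    (hI : Synt.IsRelGCI (R ⧸ I) n c (fun i => MvPolynomial.map (Ideal.Quotient.mk I) (F i))) :
    ∃ h : MvPolynomial (Fin n) R,
      Ideal.Quotient.mk (I.map (algebraMap R (Synt.RelGCIRing R n c F)))
        (Ideal.Quotient.mk (Ideal.span (Set.range F)) h) = 1 ∧
      Synt.IsRelGCI R (n + 1) (c + 1)
        (Fin.snoc (fun i => rename Fin.castSucc (F i)) (rename Fin.castSucc h * X (Fin.last n) - 1)) ∧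
      Nonempty (Localization.Away (Ideal.Quotient.mk (Ideal.span (Set.range F)) h) ≃ₐ[R]
        Synt.RelGCIRing R (n + 1) (c + 1)
          (Fin.snoc (fun i => rename Fin.castSucc (F i)) (rename Fin.castSucc h * X (Fin.last n) - 1))) := by
  have key := SyntLCI.exists_relGCI_locus F (I.map (algebraMap R (MvPolynomial (Fin n) R))) ⊥
  obtain ⟨h, ⟨s, hs, hsub⟩, hgci, e⟩ := key (by
    intro q _ hle _
    have hIp : I ≤ q.comap (algebraMap R (MvPolynomial (Fin n) R)) := fun x hx =>
      hle (Submodule.mem_sup_right (Ideal.mem_map_of_mem _ hx))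
    let p := q.comap (algebraMap R (MvPolynomial (Fin n) R))
    have hker : RingHom.ker (Ideal.Quotient.mk I) ≤ p := by rw [Ideal.mk_ker]; exact hIp
    have : (p.map (Ideal.Quotient.mk I)).IsPrime := Ideal.map_isPrime_of_surjective Ideal.Quotient.mk_surjective hker
    have hcomap : (p.map (Ideal.Quotient.mk I)).comap (Ideal.Quotient.mk I) = p := by
      rw [Ideal.comap_map_of_surjective _ Ideal.Quotient.mk_surjective, ← RingHom.ker_eq_comap_bot]
      exact sup_eq_left.2 hker
    refine SyntLCI.fibre_regular_of_dim F p ?_ q rfl (le_sup_left.trans hle)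
    rw [SyntLCI.fibre_quotient_dim_reduce F I p _ hcomap, SyntLCI.fibre_quotient_dim]
    rcases subsingleton_or_nontrivial ((p.map (Ideal.Quotient.mk I)).Fiber
        (Synt.RelGCIRing (R ⧸ I) n c (fun i => MvPolynomial.map (Ideal.Quotient.mk I) (F i)))) with hs | hnt
    · rw [ringKrullDim_eq_bot_of_subsingleton, WithBot.bot_add]
      exact bot_le
    · obtain ⟨hcn, hdim⟩ := hI ⟨_, ‹_›⟩ hnt
      calc _ = ((n - c : ℕ) : WithBot ℕ∞) + (c : WithBot ℕ∞) := congrArg (· + (c : WithBot ℕ∞)) hdim
        _ ≤ _ := by exact_mod_cast (Nat.sub_add_cancel hcn).le)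
  refine ⟨h, ?_, hgci, e⟩
  rw [Submonoid.mem_bot] at hs
  subst hs
  obtain ⟨a, ha, b, hb, hab⟩ := Submodule.mem_sup.1 hsub
  rw [← map_one (Ideal.Quotient.mk (I.map (algebraMap R (Synt.RelGCIRing R n c F)))), Ideal.Quotient.eq,
    ← map_one (Ideal.Quotient.mk (Ideal.span (Set.range F))), ← map_sub, ← hab, map_add,
    Ideal.Quotient.eq_zero_iff_mem.2 ha, zero_add,
    IsScalarTower.algebraMap_eq R (MvPolynomial (Fin n) R) (Synt.RelGCIRing R n c F), ← Ideal.map_map]
  exact Ideal.mem_map_of_mem _ hb

end Groth.Agent.S9172
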