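import Groth.Statements.S9150
import Groth.Agent.S9172
import Groth.Agent.SyntLCI.Nhd
import Groth.Agent.SyntLCI.Reduce


set_option autoImplicit false
universe u
open Synt

namespace Groth.Agent.S9150

/-- Let I be an ideal of a ring R and S̄ an R-algebra killed by I which is syntomic over R/I. Then S̄ is
covered by finitely many basic opens S̄_g each isomorphic, as an R-algebra, to S/IS for some
relative global complete intersection S over R. -/
theorem result (R : Type u) [CommRing R] (I : Ideal R) (Sb : Type u) [CommRing Sb]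
    [Algebra R Sb] [Algebra (R ⧸ I) Sb] [IsScalarTower R (R ⧸ I) Sb] (h : Synt.IsSyntomic (R ⧸ I) Sb) :
    ∃ s : Finset Sb, Ideal.span (s : Set Sb) = ⊤ ∧ ∀ g ∈ s,
      ∃ (n c : ℕ) (F : Fin c → MvPolynomial (Fin n) R), Synt.IsRelGCI R n c F ∧
        Nonempty (Localization.Away g ≃ₐ[R]
          (Synt.RelGCIRing R n c F ⧸ I.map (algebraMap R (Synt.RelGCIRing R n c F)))) := by
  classical
  let good : Set Sb := {g | ∃ (n c : ℕ) (F : Fin c → MvPolynomial (Fin n) R), Synt.IsRelGCI R n c F ∧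
    Nonempty (Localization.Away g ≃ₐ[R] (Synt.RelGCIRing R n c F ⧸ I.map (algebraMap R (Synt.RelGCIRing R n c F))))}
  suffices hgood : Ideal.span good = ⊤ by
    obtain ⟨s, hs, hspan⟩ := (Ideal.span_eq_top_iff_finite good).1 hgood
    exact ⟨s, hspan, fun g hg => hs hg⟩
  by_contra hne
  obtain ⟨q, hq, hle⟩ := Ideal.exists_le_maximal _ hne
  obtain ⟨g, hg, m, c, G, hG, -, ⟨e⟩⟩ := SyntLCI.exists_relGCI_nhd_of_isSyntomic h q
  refine hg (hle (Ideal.subset_span ?_))
  let μ : MvPolynomial (Fin m) R →ₐ[R] MvPolynomial (Fin m) (R ⧸ I) := MvPolynomial.mapAlgHom (Ideal.Quotient.mkₐ R I)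
  have hμs : Function.Surjective μ := MvPolynomial.map_surjective _ Ideal.Quotient.mk_surjective
  choose F hF using fun i => hμs (G i)
  have hF' : (fun i => MvPolynomial.map (Ideal.Quotient.mk I) (F i)) = G := funext hF
  obtain ⟨f, hf, hgci, ⟨e'⟩⟩ := S9172.result R m c F I (hF'.symm ▸ hG)
  let ψ : MvPolynomial (Fin m) R →ₐ[R] Synt.RelGCIRing (R ⧸ I) m c G :=
    ((Ideal.Quotient.mkₐ (R ⧸ I) (Ideal.span (Set.range G))).restrictScalars R).comp μ
  have hψs : Function.Surjective ψ := Ideal.Quotient.mk_surjective.comp hμs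
  have hψk : RingHom.ker ψ.toRingHom = Ideal.span (Set.range F) ⊔ I.map (algebraMap R (MvPolynomial (Fin m) R)) := by
    have h2 : Ideal.span (Set.range G) = (Ideal.span (Set.range F)).map μ.toRingHom := by
      rw [Ideal.map_span, ← Set.range_comp, ← funext hF]; rfl
    rw [show RingHom.ker ψ.toRingHom = (RingHom.ker (Ideal.Quotient.mk (Ideal.span (Set.range G)))).comap μ.toRingHom from
        (RingHom.comap_ker _ _).symm, Ideal.mk_ker, h2, Ideal.comap_map_of_surjective μ.toRingHom hμs,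
      ← RingHom.ker_eq_comap_bot, show RingHom.ker μ.toRingHom = I.map (algebraMap R (MvPolynomial (Fin m) R)) from
        (MvPolynomial.ker_map _).trans (congrArg _ Ideal.mk_ker)]
  let τ : Synt.RelGCIRing R m c F →ₐ[R] Synt.RelGCIRing (R ⧸ I) m c G :=
    Ideal.Quotient.liftₐ _ ψ fun x hx => hψk.ge (Submodule.mem_sup_left hx)
  have hτ : ∀ x, τ (Ideal.Quotient.mk _ x) = ψ x := fun x => rfl
  have hτk : RingHom.ker τ.toRingHom = I.map (algebraMap R (Synt.RelGCIRing R m c F)) := by
    rw [IsScalarTower.algebraMap_eq R (MvPolynomial (Fin m) R) (Synt.RelGCIRing R m c F), ← Ideal.map_map]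
    show _ = (I.map (algebraMap R (MvPolynomial (Fin m) R))).map (Ideal.Quotient.mk (Ideal.span (Set.range F)))
    refine le_antisymm (fun x hx => ?_) (Ideal.map_le_iff_le_comap.2 fun x hx => ?_)
    · obtain ⟨x, rfl⟩ := Ideal.Quotient.mk_surjective x
      obtain ⟨a, ha, b, hb, rfl⟩ := Submodule.mem_sup.1 (hψk.le hx)
      rw [map_add, Ideal.Quotient.eq_zero_iff_mem.2 ha, zero_add]
      exact Ideal.mem_map_of_mem _ hb
    · exact hψk.ge (Submodule.mem_sup_right hx)
  have hτ1 : τ (Ideal.Quotient.mk (Ideal.span (Set.range F)) f) = 1 := by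
    have h1 := Ideal.Quotient.eq.1 (hf.trans (map_one _).symm)
    rw [← hτk, RingHom.mem_ker] at h1
    exact sub_eq_zero.1 ((by simpa [map_sub] using h1))
  obtain ⟨τ', hτ's, -, hτ'k⟩ := SyntLCI.exists_away_reduction I τ (fun t => by
      obtain ⟨x, rfl⟩ := hψs t
      exact ⟨_, hτ x⟩) hτk.ge _ hτ1 fun x hx => Ideal.mul_mem_left _ _ (hτk.le hx)
  let τ'' : Synt.RelGCIRing R (m + 1) (c + 1) _ →ₐ[R] Synt.RelGCIRing (R ⧸ I) m c G := τ'.comp e'.symm.toAlgHom
  have hk : RingHom.ker τ''.toRingHom = I.map (algebraMap R _) := by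
    rw [show RingHom.ker τ''.toRingHom = (RingHom.ker τ'.toRingHom).comap e'.symm.toRingEquiv.toRingHom from
        (RingHom.comap_ker _ _).symm, hτ'k]
    rw [show (algebraMap R (Localization.Away (Ideal.Quotient.mk (Ideal.span (Set.range F)) f))) =
        e'.symm.toRingEquiv.toRingHom.comp (algebraMap R _) from (e'.symm.toAlgHom.comp_algebraMap).symm, ← Ideal.map_map]
    exact Ideal.comap_map_of_bijective _ e'.symm.bijective
  exact ⟨_, _, _, hgci, ⟨(e.restrictScalars R).trans ((Ideal.quotientKerAlgEquivOfSurjective (f := τ'')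
    (hτ's.comp e'.symm.surjective)).symm.trans (Ideal.quotientEquivAlgOfEq R hk))⟩⟩

end Groth.Agent.S9150
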