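import Groth.Statements.S9153
import Groth.Agent.DimTheory.Algebra
import Mathlib
-- import your own Groth.Agent.* helpers here

set_option autoImplicit false
universe u
open CAlg

namespace Groth.Agent.S9153

/-- In a polynomial ring in finitely many variables over a field, every saturated chain of primes
between two primes p ⊆ q has length equal to the difference of their heights (stated additively:
length + height p = height q). -/
theorem result (k : Type u) [Field k] (n : ℕ)
    (s : LTSeries (PrimeSpectrum (MvPolynomial (Fin n) k)))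
    (hsat : ∀ i : Fin s.length, s (Fin.castSucc i) ⋖ s (Fin.succ i)) :
    (s.length : ℕ∞) + s.head.asIdeal.height = s.last.asIdeal.height := by
  let P := MvPolynomial (Fin n) k
  have key : ∀ x : PrimeSpectrum P, ringKrullDim (P ⧸ x.asIdeal) + (x.asIdeal.height : WithBot ℕ∞) = (n : WithBot ℕ∞) := fun x => by
    obtain ⟨h, hh⟩ := ENat.ne_top_iff_exists.1 (Ideal.height_ne_top (I := x.asIdeal) Ideal.IsPrime.ne_top')
    rw [← hh]
    exact (Groth.Agent.DimTheory.height_add_ringKrullDim_quotient k h x.asIdeal hh.symm).trans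
      (Groth.Agent.DimTheory.ringKrullDim_mvPolynomial_fin k n)
  have step : ∀ m : ℕ, ∀ hm : m ≤ s.length,
      ringKrullDim (P ⧸ (s ⟨m, Nat.lt_succ_of_le hm⟩).asIdeal) + (m : WithBot ℕ∞) =
        ringKrullDim (P ⧸ s.head.asIdeal) := by
    intro m
    induction m with
    | zero => intro hm; simp; rfl
    | succ m ih =>
      intro hm
      rw [← ih (Nat.le_of_succ_le hm)]
      have hc := hsat ⟨m, hm⟩
      rw [← Groth.Agent.DimTheory.ringKrullDim_quotient_covBy k (A := P) (q := (s ⟨m, Nat.lt_succ_of_le (Nat.le_of_succ_le hm)⟩).asIdeal)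
        (p := (s ⟨m + 1, Nat.lt_succ_of_le hm⟩).asIdeal) hc.1
        (fun r hr h1 h2 => hc.2 (c := ⟨r, hr⟩) h1 h2)]
      push_cast
      rw [add_assoc, add_comm (m : WithBot ℕ∞) 1]
  have e := step s.length le_rfl
  have h1 := key s.head
  have h2 := key s.last
  rw [← e] at h1
  rw [← h1] at h2
  have hlast : (s ⟨s.length, Nat.lt_succ_of_le le_rfl⟩) = s.last := rfl
  rw [hlast, add_assoc] at h2
  obtain ⟨d, hd⟩ := Groth.Agent.DimTheory.exists_ringKrullDim_eq k (P ⧸ s.last.asIdeal)
  rw [hd, ENat.WithBot.natCast_add_cancel] at h2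
  exact_mod_cast h2.symm

end Groth.Agent.S9153
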