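import Groth.Statements.S9154
import Groth.Agent.FibreRegular.Basic
import Groth.Agent.FlatLocalDepth.CMAt
-- import your own Groth.Agent.* helpers here

set_option autoImplicit false
universe u
open CAlg

namespace Groth.Agent.S9154

/-- Let S be a Cohen–Macaulay finite type algebra over a field k, equidimensional of dimension d, and
f_1, …, f_i elements (i ≤ d) generating a proper ideal whose zero locus has dimension at most d − i.
Then that dimension equals d − i and the f_j form a regular sequence in S_q for every prime q
containing them. (The published statement also allows the f_j to generate the unit ideal, where the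
zero locus is empty and the equality fails, e.g. f_1 = 1 in k[x]; this row assumes the ideal is
proper.) -/
theorem result (k S : Type u) [Field k] [CommRing S] [Algebra k S]
    [Algebra.FiniteType k S] [LocCoh.IsCohenMacaulayRing S] (d : ℕ)
    (heq : ∀ p ∈ minimalPrimes S, ringKrullDim (S ⧸ p) = d) (f : List S) (hi : f.length ≤ d)
    (hne : Ideal.ofList f ≠ ⊤)
    (hle : ringKrullDim (S ⧸ Ideal.ofList f) ≤ ((d - f.length : ℕ) : WithBot ℕ∞)) :
    ringKrullDim (S ⧸ Ideal.ofList f) = ((d - f.length : ℕ) : WithBot ℕ∞) ∧
      ∀ (q : Ideal S) [q.IsPrime], Ideal.ofList f ≤ q →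
        RingTheory.Sequence.IsRegular (Localization.AtPrime q)
          (f.map (algebraMap S (Localization.AtPrime q))) := by
  haveI : IsNoetherianRing S := Algebra.FiniteType.isNoetherianRing k S
  let I := Ideal.ofList f
  have key : ∀ (q : Ideal S) [q.IsPrime], Ideal.ofList f ≤ q →
      RingTheory.Sequence.IsRegular (Localization.AtPrime q) (f.map (algebraMap S (Localization.AtPrime q))) ∧
        ((d - f.length : ℕ) : WithBot ℕ∞) ≤ ringKrullDim (S ⧸ Ideal.ofList f) := by
    intro q _ hq
    let L := Localization.AtPrime q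
    haveI : LocCoh.IsCohenMacaulayLocalRing L :=
      ‹LocCoh.IsCohenMacaulayRing S›.isCohenMacaulayLocalRing_localization q
    haveI hqb : (q.map (Ideal.Quotient.mk I)).IsPrime :=
      Ideal.map_isPrime_of_surjective Ideal.Quotient.mk_surjective (by rwa [Ideal.mk_ker])
    let qb := q.map (Ideal.Quotient.mk I)
    have hqq : q = qb.comap (Ideal.Quotient.mk I) := by
      rw [Ideal.comap_map_of_surjective _ Ideal.Quotient.mk_surjective, ← RingHom.ker_eq_comap_bot, Ideal.mk_ker,
        sup_eq_left.2 hq]
    obtain ⟨hs, hk⟩ := FibreRegular.ker_localRingHom_mk I qb q hqq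
    have hJ : Ideal.ofList (f.map (algebraMap S L)) = I.map (algebraMap S L) := (Ideal.map_ofList _ _).symm
    have hne' : Ideal.ofList (f.map (algebraMap S L)) ≠ ⊤ := by
      rw [hJ]
      intro h
      have := (Ideal.map_mono hq).trans_eq (Localization.AtPrime.map_eq_maximalIdeal (I := q))
      rw [h] at this
      exact (IsLocalRing.maximalIdeal.isMaximal L).ne_top (top_le_iff.1 this)
    obtain ⟨dF, hdF⟩ := CAlgReg.exists_dim (R := L)
    obtain ⟨e, he⟩ := SyntLCI.exists_dim_quotient hne'
    obtain ⟨r, -, hr⟩ := CMLocus.exists_trdeg_residue k S q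
    have hd := FibreRegular.localDim_of_equidim k d heq q
    rw [hdF, hr] at hd
    have hd' : dF + r = d := by exact_mod_cast hd
    have he' : ringKrullDim (Localization.AtPrime qb) = e := by
      rw [← ringKrullDim_eq_of_ringEquiv (RingHom.quotientKerEquivOfSurjective hs),
        ringKrullDim_eq_of_ringEquiv (Ideal.quotEquivOfEq (hk.trans hJ.symm))]
      exact he
    have hrb : ringKrullDim ((S ⧸ I) ⧸ qb) = r := by
      rw [ringKrullDim_eq_of_ringEquiv (DoubleQuot.quotQuotEquivQuotOfLE hq)]
      exact hr
    have h1 : ((e + r : ℕ) : WithBot ℕ∞) ≤ ringKrullDim (S ⧸ I) := by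
      rw [← PrimeSpectrum.topologicalKrullDim_eq_ringKrullDim]
      refine le_trans (le_of_eq ?_) (TopDimLib.localDim_le_dim (⟨qb, hqb⟩ : PrimeSpectrum (S ⧸ I)))
      rw [CMLocus.localDim_eq k (S ⧸ I) ⟨qb, hqb⟩, he', hrb]
      push_cast; rfl
    have hK := SyntLCI.dim_le_add_length hne' hdF he
    rw [List.length_map] at hK
    have h2 : e + r ≤ d - f.length := by exact_mod_cast h1.trans hle
    refine ⟨(FibreRegular.isRegular_iff_dim hne' hdF he).2 (by rw [List.length_map]; omega), le_trans ?_ h1⟩
    have : d - f.length ≤ e + r := by omega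
    exact_mod_cast this
  refine ⟨le_antisymm hle ?_, fun q _ hq => (key q hq).1⟩
  obtain ⟨m, hm, hle'⟩ := Ideal.exists_le_maximal _ hne
  exact (key m hle').2
end Groth.Agent.S9154
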