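import Groth.Statements.S9157
import Mathlib
-- import your own Groth.Agent.* helpers here

set_option autoImplicit false
universe u
open CAlg

namespace Groth.Agent.S9157

theorem main (R : Type u) [CommRing R] (S : Submonoid R)
    (M : Type u) [AddCommGroup M] [Module R M]
    [Module.FinitePresentation (Localization S) (LocalizedModule S M)] :
    ∃ (M' : Type u) (_ : AddCommGroup M') (_ : Module R M') (φ : M' →ₗ[R] M),
      Module.FinitePresentation R M' ∧ Function.Bijective (LocalizedModule.map S φ) := by
  classical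
  let L := Localization S
  let l := LocalizedModule.mkLinearMap S M
  obtain ⟨n, g, hg⟩ := Module.Finite.exists_fin (R := L) (M := LocalizedModule S M)
  choose ms hms using fun i => IsLocalizedModule.surj S l (g i)
  let m : Fin n → M := fun i => (ms i).1
  let φ₀ : (Fin n → R) →ₗ[R] M := Fintype.linearCombination R m
  let Φ : (Fin n → L) →ₗ[L] LocalizedModule S M := Fintype.linearCombination L fun i => l (m i)
  let ι : (Fin n → R) →ₗ[R] (Fin n → L) := (Algebra.linearMap R L).compLeft (Fin n)
  have hcomp : ∀ v, Φ (ι v) = l (φ₀ v) := fun v => by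
    simp only [Φ, φ₀, ι, Fintype.linearCombination_apply, map_sum, LinearMap.compLeft_apply, Function.comp_apply,
      Algebra.linearMap_apply, algebraMap_smul, map_smul]
  have hlm : ∀ i, l (m i) ∈ Set.range Φ := fun i => ⟨Pi.single i 1, by simp [Φ, Fintype.linearCombination_apply_single]⟩
  have hΦ : Function.Surjective Φ := by
    rw [← LinearMap.range_eq_top, eq_top_iff, ← hg, Submodule.span_le]
    rintro _ ⟨i, rfl⟩
    obtain ⟨v, hv⟩ := hlm i
    have hu : IsUnit (algebraMap R L (ms i).2) := IsLocalization.map_units L (ms i).2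
    have : algebraMap R L (ms i).2 • g i ∈ LinearMap.range Φ := ⟨v, by rw [hv, algebraMap_smul]; exact (hms i).symm⟩
    have h2 := Submodule.smul_mem _ (↑hu.unit⁻¹ : L) this
    rwa [smul_smul, IsUnit.val_inv_mul, one_smul] at h2
  obtain ⟨K, hK⟩ := Module.FinitePresentation.fg_ker Φ hΦ
  have hscale : ∀ k : Fin n → L, ∃ (t : S) (v : Fin n → R), ι v = (t : R) • k := fun k => by
    obtain ⟨⟨t, ht⟩, h⟩ := IsLocalization.exist_integer_multiples_of_finite S k
    choose v hv using h
    exact ⟨⟨t, ht⟩, v, funext fun i => hv i⟩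
  have hker : ∀ k ∈ K, ∃ (t : S) (v : Fin n → R), φ₀ v = 0 ∧ ι v = (t : R) • k := fun k hk => by
    obtain ⟨t, v, hv⟩ := hscale k
    have h0 : l (φ₀ v) = 0 := by
      rw [← hcomp, hv, ← algebraMap_smul L, map_smul]
      have : k ∈ LinearMap.ker Φ := hK ▸ Submodule.subset_span hk
      rw [LinearMap.mem_ker.1 this, smul_zero]
    obtain ⟨u, hu⟩ := (IsLocalizedModule.eq_zero_iff S l).1 h0
    refine ⟨u * t, (u : R) • v, ?_, ?_⟩
    · rw [map_smul]; exact hu
    · rw [map_smul, hv, smul_smul]; rfl
  choose t w hw0 hwι using hker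
  let W : Set (Fin n → R) := Set.range fun k : K => w k.1 k.2
  let P : Submodule R (Fin n → R) := Submodule.span R W
  have hPle : P ≤ LinearMap.ker φ₀ := Submodule.span_le.2 (by rintro _ ⟨k, rfl⟩; exact hw0 _ _)
  have hkey : ∀ v, φ₀ v = 0 → ∃ s : S, (s : R) • v ∈ P := by
    intro v hv
    have h1 : ι v ∈ LinearMap.ker Φ := by rw [LinearMap.mem_ker, hcomp, hv, map_zero]
    rw [← hK] at h1
    have h2 : ∀ z ∈ Submodule.span L (K : Set (Fin n → L)), ∃ (s : S), ∃ p ∈ P, (s : R) • z = ι p := by
      intro z hz
      induction hz using Submodule.span_induction with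
      | mem k hk => exact ⟨t k hk, w k hk, Submodule.subset_span ⟨⟨k, hk⟩, rfl⟩, (hwι k hk).symm⟩
      | zero => exact ⟨1, 0, zero_mem _, by simp⟩
      | add a b _ _ ha hb =>
        obtain ⟨s, p, hp, e⟩ := ha
        obtain ⟨s', p', hp', e'⟩ := hb
        refine ⟨s * s', (s' : R) • p + (s : R) • p', add_mem (P.smul_mem _ hp) (P.smul_mem _ hp'), ?_⟩
        rw [map_add, map_smul, map_smul, ← e, ← e', Submonoid.coe_mul, smul_smul, smul_smul, smul_add, mul_comm (s' : R)]
      | smul c a _ ha =>
        obtain ⟨s, p, hp, e⟩ := ha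
        obtain ⟨⟨c', t'⟩, hc⟩ := IsLocalization.surj S c
        refine ⟨s * t', c' • p, P.smul_mem _ hp, ?_⟩
        have e2 : (t' : R) • c = algebraMap R L c' := by rw [Algebra.smul_def, mul_comm]; exact hc
        rw [map_smul, ← e, Submonoid.coe_mul, mul_smul, ← smul_assoc (t' : R) c a, e2, algebraMap_smul, smul_comm]
    obtain ⟨s, p, hp, e⟩ := h2 _ h1
    rw [← map_smul] at e
    choose u hu using fun i => (IsLocalization.eq_iff_exists S L).1 (congrFun e i)
    refine ⟨(∏ i, u i) * s, ?_⟩
    have : ((∏ i, u i : S) : R) • ((s : R) • v) = ((∏ i, u i : S) : R) • p := by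
      funext i
      simp only [Pi.smul_apply, smul_eq_mul]
      rw [← Finset.prod_erase_mul _ _ (Finset.mem_univ i), Submonoid.coe_mul, mul_assoc, mul_assoc]
      congr 1
      exact hu i
    rw [Submonoid.coe_mul, mul_smul, this]
    exact P.smul_mem _ hp
  let φ : ((Fin n → R) ⧸ P) →ₗ[R] M := P.liftQ φ₀ hPle
  refine ⟨(Fin n → R) ⧸ P, inferInstance, inferInstance, φ, ?_, ?_, ?_⟩
  · exact Module.finitePresentation_of_surjective P.mkQ P.mkQ_surjective (by
      rw [Submodule.ker_mkQ]; exact Submodule.fg_span (Set.finite_range _))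
  · rw [injective_iff_map_eq_zero]
    intro x hx
    induction x using LocalizedModule.induction_on with
    | h a s =>
      obtain ⟨v, rfl⟩ := Submodule.Quotient.mk_surjective P a
      rw [LocalizedModule.map_mk] at hx
      obtain ⟨u, hu⟩ := LocalizedModule.mk_eq.1 (hx.trans (LocalizedModule.zero_mk (1 : S)).symm)
      have h3 : φ₀ ((u : R) • v) = 0 := by
        rw [map_smul]
        simpa [φ, Submonoid.smul_def] using hu
      obtain ⟨s', hs'⟩ := hkey _ h3
      rw [← LocalizedModule.zero_mk (1 : S), LocalizedModule.mk_eq]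
      refine ⟨s' * u, ?_⟩
      simp only [one_smul, smul_zero, Submonoid.smul_def, Submonoid.coe_mul, ← Submodule.Quotient.mk_smul, Submodule.Quotient.mk_eq_zero]
      rwa [mul_smul]
  · intro y
    induction y using LocalizedModule.induction_on with
    | h a s =>
      obtain ⟨c, hc⟩ := hΦ (l a)
      obtain ⟨t', v, hv⟩ := hscale c
      have h4 : l ((t' : R) • a) = l (φ₀ v) := by
        rw [← hcomp, hv, LinearMap.map_smul_of_tower, LinearMap.map_smul_of_tower, hc]
      obtain ⟨u, hu⟩ := (IsLocalizedModule.eq_iff_exists S l).1 h4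
      refine ⟨LocalizedModule.mk (Submodule.Quotient.mk ((u : R) • v)) (u * t' * s), ?_⟩
      rw [LocalizedModule.map_mk, LocalizedModule.mk_eq]
      refine ⟨1, ?_⟩
      simp only [one_smul, φ, Submodule.liftQ_apply, map_smul]
      simp only [Submonoid.smul_def, Submonoid.coe_mul] at hu ⊢
      rw [← hu, smul_smul, smul_smul]
      congr 1
      ring

end Groth.Agent.S9157

namespace Groth.Agent.S9157

/-- If the localization S⁻¹M of an R-module M is finitely presented over S⁻¹R, then some finitely
presented R-module M' maps to M inducing an isomorphism S⁻¹M' → S⁻¹M. -/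
theorem result (R : Type u) [CommRing R] (S : Submonoid R)
    (M : Type u) [AddCommGroup M] [Module R M]
    [Module.FinitePresentation (Localization S) (LocalizedModule S M)] :
    ∃ (M' : Type u) (_ : AddCommGroup M') (_ : Module R M') (φ : M' →ₗ[R] M),
      Module.FinitePresentation R M' ∧ Function.Bijective (LocalizedModule.map S φ) := by
  exact Groth.Agent.S9157.main R S M

end Groth.Agent.S9157
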