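import Groth.Statements.S9158
import Groth.Agent.GenFree.Algebra


set_option autoImplicit false
universe u
open CAlg

namespace Groth.Agent.S9158

/-- Generic freeness over a reduced ring: let R → S be of finite type with R reduced and M a finite
S-module. There is a dense open subset U of Spec R such that each point of U lies in a basic open
D(f) ⊆ U with M_f and S_f free over R_f, S_f of finite presentation over R_f, and M_f of finite
presentation over S_f. -/
theorem result (R S : Type u) [CommRing R] [IsReduced R] [CommRing S]
    [Algebra R S] [Algebra.FiniteType R S] (M : Type u) [AddCommGroup M] [Module S M] [Module R M]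
    [IsScalarTower R S M] [Module.Finite S M] :
    ∃ U : Set (PrimeSpectrum R), IsOpen U ∧ Dense U ∧ ∀ u ∈ U, ∃ f : R, f ∉ u.asIdeal ∧
      (PrimeSpectrum.basicOpen f : Set (PrimeSpectrum R)) ⊆ U ∧
      Module.Free (Localization.Away f) (LocalizedModule (Submonoid.powers f) M) ∧
      Module.Free (Localization.Away f) (LocalizedModule (Submonoid.powers f) S) ∧
      (Localization.awayMap (algebraMap R S) f).FinitePresentation ∧
      Module.FinitePresentation (Localization.Away (algebraMap R S f))
        (LocalizedModule (Submonoid.powers (algebraMap R S f)) M) := by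
  let good : R → Prop := fun f =>
    Module.Free (Localization.Away f) (LocalizedModule (Submonoid.powers f) M) ∧
    Module.Free (Localization.Away f) (LocalizedModule (Submonoid.powers f) S) ∧
    (Localization.awayMap (algebraMap R S) f).FinitePresentation ∧
    Module.FinitePresentation (Localization.Away (algebraMap R S f))
      (LocalizedModule (Submonoid.powers (algebraMap R S f)) M)
  refine ⟨⋃ f ∈ {f | good f}, (PrimeSpectrum.basicOpen f : Set (PrimeSpectrum R)),
    isOpen_biUnion fun f _ => (PrimeSpectrum.basicOpen f).isOpen, ?_, fun u hu => ?_⟩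
  · rw [dense_iff_inter_open]
    rintro V hV ⟨x, hx⟩
    obtain ⟨_, ⟨g, rfl⟩, hxg, hgV⟩ := PrimeSpectrum.isTopologicalBasis_basic_opens.exists_subset_of_mem_open hx hV
    have hg : g ≠ 0 := fun h => hxg (h ▸ x.asIdeal.zero_mem)
    obtain ⟨f, ⟨e, rfl⟩, hf, hM, hS, hfp, hMfp⟩ :=
      Groth.Agent.GenFree.exists_generic_freeness (R := R) S M hg
    obtain ⟨p, hp⟩ : ∃ p : PrimeSpectrum R, g * e ∉ p.asIdeal := by
      by_contra! h
      apply hf
      have : g * e ∈ nilradical R := by
        rw [nilradical_eq_sInf, Ideal.mem_sInf]
        exact fun {I} hI => h ⟨I, hI⟩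
      rwa [nilradical_eq_zero, Ideal.zero_eq_bot, Ideal.mem_bot] at this
    exact ⟨p, hgV fun h => hp (p.asIdeal.mul_mem_right e h), Set.mem_biUnion
      (show good (g * e) from ⟨hM, hS, Groth.Agent.GenFree.finitePresentation_awayMap S _ hfp, hMfp⟩) hp⟩
  · obtain ⟨f, hf, huf⟩ := Set.mem_iUnion₂.1 hu
    exact ⟨f, huf, fun y hy => Set.mem_biUnion hf hy, hf⟩

end Groth.Agent.S9158
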