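import Groth.Statements.S9161
import Mathlib
-- import your own Groth.Agent.* helpers here

set_option autoImplicit false
universe u
open CAlg

namespace Groth.Agent.S9161

/-- If two two-term complexes of R-modules A₁ → A₀ and B₁ → B₀ are homotopy equivalent (maps of
complexes both ways whose composites are homotopic to the identity maps), then A₁ ⊕ B₀ and B₁ ⊕ A₀
are isomorphic R-modules. -/
theorem result (R : Type u) [CommRing R]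
    (A₁ A₀ B₁ B₀ : Type u) [AddCommGroup A₁] [Module R A₁] [AddCommGroup A₀] [Module R A₀]
    [AddCommGroup B₁] [Module R B₁] [AddCommGroup B₀] [Module R B₀]
    (dA : A₁ →ₗ[R] A₀) (dB : B₁ →ₗ[R] B₀) (φ₁ : A₁ →ₗ[R] B₁) (φ₀ : A₀ →ₗ[R] B₀)
    (ψ₁ : B₁ →ₗ[R] A₁) (ψ₀ : B₀ →ₗ[R] A₀) (hφ : dB ∘ₗ φ₁ = φ₀ ∘ₗ dA) (hψ : dA ∘ₗ ψ₁ = ψ₀ ∘ₗ dB)
    (h : A₀ →ₗ[R] A₁) (hh₁ : LinearMap.id - ψ₁ ∘ₗ φ₁ = h ∘ₗ dA) (hh₀ : LinearMap.id - ψ₀ ∘ₗ φ₀ = dA ∘ₗ h)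
    (h' : B₀ →ₗ[R] B₁) (hh'₁ : LinearMap.id - φ₁ ∘ₗ ψ₁ = h' ∘ₗ dB)
    (hh'₀ : LinearMap.id - φ₀ ∘ₗ ψ₀ = dB ∘ₗ h') :
    Nonempty ((A₁ × B₀) ≃ₗ[R] (B₁ × A₀)) := by
  let f : (A₁ × B₀) →ₗ[R] (B₁ × A₀) :=
    (φ₁ ∘ₗ LinearMap.fst R A₁ B₀ - h' ∘ₗ LinearMap.snd R A₁ B₀).prod
      (dA ∘ₗ LinearMap.fst R A₁ B₀ + ψ₀ ∘ₗ LinearMap.snd R A₁ B₀)
  let g : (B₁ × A₀) →ₗ[R] (A₁ × B₀) :=
    (ψ₁ ∘ₗ LinearMap.fst R B₁ A₀ + h ∘ₗ LinearMap.snd R B₁ A₀).prod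
      (φ₀ ∘ₗ LinearMap.snd R B₁ A₀ - dB ∘ₗ LinearMap.fst R B₁ A₀)
  have e1 : ∀ x, h (dA x) = x - ψ₁ (φ₁ x) := fun x => (LinearMap.congr_fun hh₁ x).symm
  have e0 : ∀ x, dA (h x) = x - ψ₀ (φ₀ x) := fun x => (LinearMap.congr_fun hh₀ x).symm
  have f1 : ∀ x, h' (dB x) = x - φ₁ (ψ₁ x) := fun x => (LinearMap.congr_fun hh'₁ x).symm
  have f0 : ∀ x, dB (h' x) = x - φ₀ (ψ₀ x) := fun x => (LinearMap.congr_fun hh'₀ x).symm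
  have p : ∀ x, dB (φ₁ x) = φ₀ (dA x) := fun x => LinearMap.congr_fun hφ x
  have q : ∀ x, dA (ψ₁ x) = ψ₀ (dB x) := fun x => LinearMap.congr_fun hψ x
  have gf : ∀ x, g (f x) = (x.1 + (h (ψ₀ x.2) - ψ₁ (h' x.2)), x.2) := fun x => by
    simp only [f, g, LinearMap.prod_apply, Function.prod_apply, LinearMap.add_apply, LinearMap.sub_apply,
      LinearMap.comp_apply, LinearMap.fst_apply, LinearMap.snd_apply, map_add, map_sub, e1, f0, p]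
    ext <;> abel
  have fg : ∀ x, f (g x) = (x.1 + (φ₁ (h x.2) - h' (φ₀ x.2)), x.2) := fun x => by
    simp only [f, g, LinearMap.prod_apply, Function.prod_apply, LinearMap.add_apply, LinearMap.sub_apply,
      LinearMap.comp_apply, LinearMap.fst_apply, LinearMap.snd_apply, map_add, map_sub, f1, e0, q]
    ext <;> abel
  refine ⟨LinearEquiv.ofBijective f ⟨fun x y hxy => ?_, fun z => ?_⟩⟩
  · have h1 := congrArg g hxy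
    rw [gf, gf, Prod.mk.injEq] at h1
    obtain ⟨h1, h2⟩ := h1
    rw [h2] at h1
    exact Prod.ext (add_right_cancel h1) h2
  · exact ⟨g (z.1 - (φ₁ (h z.2) - h' (φ₀ z.2)), z.2), by rw [fg]; simp⟩

end Groth.Agent.S9161
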