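import Groth.Statements.S9162
import Mathlib
import Groth.Agent.H2Cot.Schanuel
-- import your own Groth.Agent.* helpers here

set_option autoImplicit false
universe u
open CAlg

open TensorProduct Algebra Algebra.Extension

namespace Groth.Agent.S9162

variable {R S : Type u} [CommRing R] [CommRing S] [Algebra R S] {n : ℕ}
  (α : MvPolynomial (Fin n) R →ₐ[R] S) (hα : Function.Surjective α)

noncomputable def spaceEquiv : (Extension.ofSurjective α hα).CotangentSpace ≃ₗ[S] (Fin n → S) :=
  letI := α.toAlgebra
  ((KaehlerDifferential.mvPolynomialBasis R (Fin n)).baseChange S).equivFun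

noncomputable def lift {m : ℕ} (β : MvPolynomial (Fin m) R →ₐ[R] S) (hβ : Function.Surjective β) :
    (Extension.ofSurjective α hα).Hom (Extension.ofSurjective β hβ) :=
  Extension.Hom.ofAlgHom (MvPolynomial.aeval fun i ↦ (hβ (α (MvPolynomial.X i))).choose) <|
    MvPolynomial.algHom_ext fun i ↦ by
      change β (MvPolynomial.aeval _ (MvPolynomial.X i)) = α (MvPolynomial.X i)
      rw [MvPolynomial.aeval_X]
      exact (hβ (α (MvPolynomial.X i))).choose_spec

end Groth.Agent.S9162

namespace Groth.Agent.S9162

/-- Let S be an R-algebra and α : R[x_1, …, x_n] → S, β : R[y_1, …, y_m] → S surjective R-algebra maps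
(presentations by polynomial rings in finitely many variables; the kernels I and J need not be
finitely generated). Then I/I² ⊕ S^m and J/J² ⊕ S^n are isomorphic S-modules. -/
theorem result (R S : Type u) [CommRing R] [CommRing S]
    [Algebra R S] (n m : ℕ) (α : MvPolynomial (Fin n) R →ₐ[R] S) (hα : Function.Surjective α)
    (β : MvPolynomial (Fin m) R →ₐ[R] S) (hβ : Function.Surjective β) :
    Nonempty (((Algebra.Extension.ofSurjective α hα).Cotangent × (Fin m → S)) ≃ₗ[S]
      ((Algebra.Extension.ofSurjective β hβ).Cotangent × (Fin n → S))) := by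
  obtain ⟨e⟩ := Groth.Agent.H2Cot.exists_equiv (Groth.Agent.S9162.lift α hα β hβ)
    (Groth.Agent.S9162.lift β hβ α hα)
  exact ⟨((LinearEquiv.refl S _).prodCongr (Groth.Agent.S9162.spaceEquiv β hβ).symm).trans
    (e.trans ((LinearEquiv.refl S _).prodCongr (Groth.Agent.S9162.spaceEquiv α hα)))⟩

end Groth.Agent.S9162
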