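import Groth.Statements.S9163
import Mathlib
-- import your own Groth.Agent.* helpers here

set_option autoImplicit false
universe u
open CAlg

namespace Groth.Agent.S9163

/-- If S is integral over R, then any finitely many elements of R and of S lie in a pair R₀ ⊆ R, S₀ ⊆ S
with R₀ a finite type ℤ-subalgebra, S₀ an R₀-subalgebra of S, and S₀ finite as an R₀-module; so R →
S is the directed colimit of finite maps between finite type ℤ-algebras. -/
theorem result (R S : Type u) [CommRing R] [CommRing S] [Algebra R S]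
    [Algebra.IsIntegral R S] (E : Finset R) (F : Finset S) :
    ∃ (R₀ : Subalgebra ℤ R) (S₀ : Subalgebra R₀ S), Algebra.FiniteType ℤ R₀ ∧ (E : Set R) ⊆ R₀ ∧
      (F : Set S) ⊆ S₀ ∧ Module.Finite R₀ S₀ := by
  classical
  choose P hPm hP using fun s : F => Algebra.IsIntegral.isIntegral (R := R) (s : S)
  let T : Finset R := E ∪ F.attach.biUnion fun s => (P s).coeffs
  let R₀ : Subalgebra ℤ R := Algebra.adjoin ℤ (T : Set R)
  let S₀ : Subalgebra R₀ S := Algebra.adjoin R₀ (F : Set S)
  refine ⟨R₀, S₀, (Subalgebra.fg_iff_finiteType R₀).1 (Subalgebra.fg_adjoin_finset T),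
    fun e he => Algebra.subset_adjoin (Finset.mem_union_left _ he), Algebra.subset_adjoin, ?_⟩
  refine Module.Finite.iff_fg.2 (fg_adjoin_of_finite F.finite_toSet fun s hs => ?_)
  rcases subsingleton_or_nontrivial R with hR | hR
  · haveI := (algebraMap R S).codomain_trivial
    exact ⟨Polynomial.X, Polynomial.monic_X, Subsingleton.elim _ _⟩
  have hlift : P ⟨s, hs⟩ ∈ Polynomial.lifts (algebraMap R₀ R) := by
    rw [Polynomial.lifts_iff_coeff_lifts]
    intro n
    by_cases h0 : (P ⟨s, hs⟩).coeff n = 0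
    · rw [h0]; exact ⟨0, map_zero _⟩
    · refine ⟨⟨_, Algebra.subset_adjoin (Finset.mem_union_right _ ?_)⟩, rfl⟩
      exact Finset.mem_biUnion.2 ⟨⟨s, hs⟩, Finset.mem_attach _ _, Polynomial.coeff_mem_coeffs h0⟩
  obtain ⟨q, hq, -, hqm⟩ := Polynomial.lifts_and_degree_eq_and_monic hlift (hPm _)
  refine ⟨q, hqm, ?_⟩
  rw [IsScalarTower.algebraMap_eq R₀ R S, ← Polynomial.eval₂_map, hq]
  exact hP ⟨s, hs⟩

end Groth.Agent.S9163
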