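import Groth.Statements.S9164
import Mathlib
-- import your own Groth.Agent.* helpers here

set_option autoImplicit false
universe u
open CAlg

namespace Groth.Agent.S9164

variable {R : Type u} [CommRing R] [IsNoetherianRing R]

theorem length_ne_top_of_killed [IsDomain R] [IsLocalRing R] (hdim : ringKrullDim R = 1) {Q : Type u} [AddCommGroup Q] [Module R Q]
    [Module.Finite R Q] (r : R) (hr : r ≠ 0) (hkill : ∀ q : Q, r • q = 0) : Module.length R Q ≠ ⊤ := by
  rw [Module.length_ne_top_iff, isFiniteLength_iff_isNoetherian_isArtinian]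
  refine ⟨inferInstance, ?_⟩
  haveI : IsArtinianRing (R ⧸ Ideal.span {r}) := by
    rw [isArtinianRing_iff_isNoetherianRing_krullDimLE_zero]
    refine ⟨inferInstance, Ring.krullDimLE_zero_iff.2 fun P hP => ?_⟩
    haveI := hP
    have h1 : (P.comap (Ideal.Quotient.mk (Ideal.span {r}))).IsMaximal := by
      haveI : Ring.DimensionLEOne R := by
        constructor
        intro I hI hprime
        haveI := hprime
        haveI : Ring.KrullDimLE 1 R := Ring.krullDimLE_iff.2 (by rw [hdim]; rfl)
        exact (Ideal.IsPrime.isMaximal_of_ne_bot hprime hI)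
      refine Ideal.IsPrime.isMaximal (Ideal.IsPrime.comap _) fun h => hr ?_
      have : r ∈ P.comap (Ideal.Quotient.mk (Ideal.span {r})) := by
        rw [Ideal.mem_comap, Ideal.Quotient.eq_zero_iff_mem.2 (Ideal.mem_span_singleton_self r)]
        exact zero_mem _
      rw [h] at this
      exact this
    haveI := h1
    rcases Ideal.map_eq_top_or_isMaximal_of_surjective (Ideal.Quotient.mk (Ideal.span {r})) Ideal.Quotient.mk_surjective h1 with h | h
    · rw [Ideal.map_comap_of_surjective _ Ideal.Quotient.mk_surjective] at h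
      exact absurd h hP.ne_top
    · rwa [Ideal.map_comap_of_surjective _ Ideal.Quotient.mk_surjective] at h
  have ht : Module.IsTorsionBySet R Q (Ideal.span {r} : Ideal R) := by
    intro q a
    obtain ⟨c, hc⟩ := Ideal.mem_span_singleton'.1 a.2
    show (a : R) • q = 0
    rw [← hc, mul_smul, hkill, smul_zero]
  letI := ht.module
  haveI : IsScalarTower R (R ⧸ Ideal.span {r}) Q := ht.isScalarTower
  haveI : Module.Finite (R ⧸ Ideal.span {r}) Q := Module.Finite.of_restrictScalars_finite R _ _
  haveI : IsArtinian (R ⧸ Ideal.span {r}) Q := inferInstance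
  exact isArtinian_of_surjective_algebraMap (S := R) (R := R ⧸ Ideal.span {r}) (M := Q) Ideal.Quotient.mk_surjective

theorem fg_of_length {V : Type u} [AddCommGroup V] [Module R V] {M M' : Submodule R V} (hM : M.FG) (hle : M ≤ M')
    (h : Module.length R (M' ⧸ Submodule.comap M'.subtype M) ≠ ⊤) : M'.FG := by
  rw [Module.length_ne_top_iff, isFiniteLength_iff_isNoetherian_isArtinian] at h
  haveI := h.1
  haveI : Module.Finite R (M' ⧸ Submodule.comap M'.subtype M) := inferInstance
  haveI : Module.Finite R M := Module.Finite.iff_fg.2 hM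
  haveI : Module.Finite R (Submodule.comap M'.subtype M) := Module.Finite.equiv (Submodule.comapSubtypeEquivOfLe hle).symm
  exact Module.Finite.iff_fg.1 (Module.Finite.of_submodule_quotient (Submodule.comap M'.subtype M))

theorem exists_mul_mem {K V : Type u} [IsDomain R] [Field K] [Algebra R K] [IsFractionRing R K] [AddCommGroup V] [Module K V] [Module R V]
    [IsScalarTower R K V] (M : Submodule R V) (hspan : Submodule.span K (M : Set V) = ⊤) (v : V) : ∃ r : R, r ≠ 0 ∧ r • v ∈ M := by
  have hv : v ∈ Submodule.span K (M : Set V) := hspan ▸ Submodule.mem_top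
  induction hv using Submodule.span_induction with
  | mem x hx => exact ⟨1, one_ne_zero, by rwa [one_smul]⟩
  | zero => exact ⟨1, one_ne_zero, by simp⟩
  | add x y _ _ hx hy =>
    obtain ⟨r, hr, hrx⟩ := hx
    obtain ⟨s, hs, hsy⟩ := hy
    refine ⟨r * s, mul_ne_zero hr hs, ?_⟩
    rw [smul_add]
    refine add_mem ?_ ?_
    · rw [mul_comm, mul_smul]; exact M.smul_mem _ hrx
    · rw [mul_smul]; exact M.smul_mem _ hsy
  | smul c x _ hx =>
    obtain ⟨r, hr, hrx⟩ := hx
    obtain ⟨⟨a, s⟩, hc⟩ := IsLocalization.surj (nonZeroDivisors R) c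
    refine ⟨r * s, mul_ne_zero hr (nonZeroDivisors.ne_zero s.2), ?_⟩
    have e : (s : R) • c = algebraMap R K a := by rw [Algebra.smul_def, mul_comm]; exact hc
    rw [mul_smul, ← smul_assoc (s : R) c x, e, algebraMap_smul, smul_comm]
    exact M.smul_mem _ hrx

theorem exists_kill {K V : Type u} [IsDomain R] [Field K] [Algebra R K] [IsFractionRing R K] [AddCommGroup V] [Module K V] [Module R V]
    [IsScalarTower R K V] (M M' : Submodule R V) (hspan : Submodule.span K (M : Set V) = ⊤) (h : M'.FG) :
    ∃ r : R, r ≠ 0 ∧ ∀ x ∈ M', r • x ∈ M := by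
  classical
  obtain ⟨s, rfl⟩ := h
  choose r hr hrM using fun v => exists_mul_mem (K := K) M hspan v
  refine ⟨∏ v ∈ s, r v, Finset.prod_ne_zero_iff.2 fun v _ => hr v, fun x hx => ?_⟩
  refine (Submodule.span_le (p := M.comap (LinearMap.lsmul R V (∏ v ∈ s, r v)))).2 ?_ hx
  intro v hv
  show (∏ w ∈ s, r w) • v ∈ M
  rw [← Finset.prod_erase_mul _ _ hv, mul_smul]
  exact M.smul_mem _ (hrM v)

end Groth.Agent.S9164

namespace Groth.Agent.S9164

/-- Let R be a one-dimensional Noetherian local domain with fraction field K and V a finite-dimensional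
K-vector space; a lattice is a finitely generated R-submodule of V spanning V over K. (1) For a
lattice M and an R-submodule M' ⊇ M: M' is a lattice iff M'/M has finite length over R iff M' is
finitely generated. (2) For a lattice M and M' ⊆ M: M' is a lattice iff M/M' has finite length. (3)
The intersection of two lattices is a lattice. (The published statement also asserts that the sum M
+ M' of two lattices is a lattice and two identities between lengths of quotients of nested
lattices; this row states (1), (2) and the intersection half of (3).) -/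
theorem result (R K V : Type u) [CommRing R] [IsDomain R]
    [IsNoetherianRing R] [IsLocalRing R] (hdim : ringKrullDim R = 1) [Field K] [Algebra R K]
    [IsFractionRing R K] [AddCommGroup V] [Module K V] [Module R V] [IsScalarTower R K V]
    [FiniteDimensional K V] (M : Submodule R V) [Submodule.IsLattice K M] :
    (∀ M' : Submodule R V, M ≤ M' →
        (Submodule.IsLattice K M' ↔ Module.length R (M' ⧸ Submodule.comap M'.subtype M) ≠ ⊤) ∧
          (Submodule.IsLattice K M' ↔ M'.FG)) ∧
      (∀ M' : Submodule R V, M' ≤ M →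
        (Submodule.IsLattice K M' ↔ Module.length R (M ⧸ Submodule.comap M.subtype M') ≠ ⊤)) ∧
      ∀ M' : Submodule R V, Submodule.IsLattice K M' → Submodule.IsLattice K (M ⊓ M') := by
  classical
  have hM : M.FG := Submodule.IsLattice.fg (A := K)
  have hMs : Submodule.span K (M : Set V) = ⊤ := Submodule.IsLattice.span_eq_top
  refine ⟨fun M' hle => ?_, fun M' hle => ?_, fun M' hM' => ?_⟩
  · have up : M'.FG → Submodule.IsLattice K M' := fun h => ⟨h, eq_top_iff.2 (hMs ▸ Submodule.span_mono hle)⟩
    refine ⟨⟨fun h => ?_, fun h => up (Groth.Agent.S9164.fg_of_length hM hle h)⟩, ⟨fun h => h.fg, up⟩⟩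
    haveI : Module.Finite R M' := Module.Finite.iff_fg.2 h.fg
    obtain ⟨r, hr, hrM⟩ := Groth.Agent.S9164.exists_kill (K := K) M M' hMs h.fg
    refine Groth.Agent.S9164.length_ne_top_of_killed hdim r hr fun q => ?_
    obtain ⟨x, rfl⟩ := Submodule.Quotient.mk_surjective _ q
    rw [← Submodule.Quotient.mk_smul, Submodule.Quotient.mk_eq_zero]
    exact hrM x.1 x.2
  · haveI : Module.Finite R M := Module.Finite.iff_fg.2 hM
    haveI : IsNoetherian R M := isNoetherian_of_isNoetherianRing_of_finite R M
    have hfg : M'.FG := by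
      rw [← Submodule.map_comap_eq_of_le (f := M.subtype) (p := M') (by rwa [Submodule.range_subtype])]
      exact (IsNoetherian.noetherian _).map _
    constructor
    · intro h
      obtain ⟨r, hr, hrM⟩ := Groth.Agent.S9164.exists_kill (K := K) M' M h.span_eq_top hM
      refine Groth.Agent.S9164.length_ne_top_of_killed hdim r hr fun q => ?_
      obtain ⟨x, rfl⟩ := Submodule.Quotient.mk_surjective _ q
      rw [← Submodule.Quotient.mk_smul, Submodule.Quotient.mk_eq_zero]
      exact hrM x.1 x.2
    · intro h
      rw [Module.length_ne_top_iff, isFiniteLength_iff_isNoetherian_isArtinian] at h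
      haveI := h.2
      refine ⟨hfg, eq_top_iff.2 (hMs ▸ Submodule.span_le.2 fun v hv => ?_)⟩
      obtain ⟨ϖ, hϖ⟩ : ∃ ϖ ∈ IsLocalRing.maximalIdeal R, ϖ ≠ 0 := by
        apply Submodule.exists_mem_ne_zero_of_ne_bot
        intro hb
        have := IsLocalRing.isField_iff_maximalIdeal_eq.2 hb
        rw [ringKrullDim_eq_zero_of_isField this] at hdim
        exact zero_ne_one hdim
      have key : ∀ z : (M ⧸ Submodule.comap M.subtype M'), ∃ k : ℕ, ϖ ^ k • z = 0 := by
        intro z
        obtain ⟨N, hN⟩ : ∃ N, ∀ j, N ≤ j → LinearMap.range (LinearMap.lsmul R (M ⧸ Submodule.comap M.subtype M') (ϖ ^ j)) = LinearMap.range (LinearMap.lsmul R (M ⧸ Submodule.comap M.subtype M') (ϖ ^ N)) := by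
          obtain ⟨N, hN⟩ := IsArtinian.monotone_stabilizes (R := R) (M := M ⧸ Submodule.comap M.subtype M')
            ⟨fun j => OrderDual.toDual (LinearMap.range (LinearMap.lsmul R (M ⧸ Submodule.comap M.subtype M') (ϖ ^ j))), fun a b hab => by
              rintro _ ⟨x, rfl⟩
              exact ⟨ϖ ^ (b - a) • x, by
                simp only [LinearMap.lsmul_apply, smul_smul, ← pow_add]
                rw [Nat.add_sub_cancel' hab]⟩⟩
          exact ⟨N, fun j hj => (hN j hj).symm⟩
        let T := LinearMap.range (LinearMap.lsmul R (M ⧸ Submodule.comap M.subtype M') (ϖ ^ N))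
        have hT : T = ⊥ := by
          refine Submodule.eq_bot_of_le_smul_of_le_jacobson_bot (IsLocalRing.maximalIdeal R) T (IsNoetherian.noetherian T) ?_
            (IsLocalRing.maximalIdeal_le_jacobson ⊥)
          intro t ht
          rw [show T = _ from (hN (N + 1) (Nat.le_succ N)).symm] at ht
          obtain ⟨x, rfl⟩ := ht
          rw [LinearMap.lsmul_apply, pow_succ', mul_smul]
          exact Submodule.smul_mem_smul hϖ.1 ⟨x, rfl⟩
        exact ⟨N, (Submodule.mem_bot R).1 (hT ▸ ⟨z, rfl⟩)⟩
      obtain ⟨k, hk⟩ := key (Submodule.Quotient.mk ⟨v, hv⟩)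
      rw [← Submodule.Quotient.mk_smul, Submodule.Quotient.mk_eq_zero] at hk
      have hne : algebraMap R K (ϖ ^ k) ≠ 0 := (map_ne_zero_iff _ (IsFractionRing.injective R K)).2 (pow_ne_zero _ hϖ.2)
      have h3 : algebraMap R K (ϖ ^ k) • v ∈ Submodule.span K (M' : Set V) := by
        rw [algebraMap_smul]; exact Submodule.subset_span hk
      have h4 := Submodule.smul_mem _ (algebraMap R K (ϖ ^ k))⁻¹ h3
      rwa [smul_smul, inv_mul_cancel₀ hne, one_smul] at h4
  · haveI := hM'
    refine ⟨?_, eq_top_iff.2 fun v _ => ?_⟩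
    · haveI : Module.Finite R M := Module.Finite.iff_fg.2 hM
      haveI : IsNoetherian R M := isNoetherian_of_isNoetherianRing_of_finite R M
      rw [← Submodule.map_comap_eq_of_le (f := M.subtype) (p := M ⊓ M') (by rw [Submodule.range_subtype]; exact inf_le_left)]
      exact (IsNoetherian.noetherian _).map _
    · obtain ⟨r, hr, hrv⟩ := Groth.Agent.S9164.exists_mul_mem (K := K) M hMs v
      obtain ⟨s, hs', hsv⟩ := Groth.Agent.S9164.exists_mul_mem (K := K) M' hM'.span_eq_top v
      have hne : algebraMap R K (r * s) ≠ 0 := (map_ne_zero_iff _ (IsFractionRing.injective R K)).2 (mul_ne_zero hr hs')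
      have h3 : algebraMap R K (r * s) • v ∈ Submodule.span K ((M ⊓ M' : Submodule R V) : Set V) := by
        rw [algebraMap_smul]
        refine Submodule.subset_span ⟨?_, ?_⟩
        · rw [mul_comm, mul_smul]; exact M.smul_mem _ hrv
        · rw [mul_smul]; exact M'.smul_mem _ hsv
      have h4 := Submodule.smul_mem _ (algebraMap R K (r * s))⁻¹ h3
      rwa [smul_smul, inv_mul_cancel₀ hne, one_smul] at h4

end Groth.Agent.S9164
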