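import Groth.Statements.S9165
import Groth.Agent.FibreDimConst.Basic
import Groth.Agent.RelDim.Open
-- import your own Groth.Agent.* helpers here

set_option autoImplicit false
universe u
open CAlg

namespace Groth.Agent.S9165

/-- A flat, finitely presented ring map R → S whose fibre rings κ(p) ⊗ S are Cohen–Macaulay decomposes S
as a finite product of R-algebras S_d (d = 0, …, N), each again flat, finitely presented with
Cohen–Macaulay fibres, and with every irreducible component of every fibre of S_d of dimension d. -/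
theorem result (R S : Type u) [CommRing R]
    [CommRing S] [Algebra R S] [Module.Flat R S] [Algebra.FinitePresentation R S]
    (hCM : ∀ p : PrimeSpectrum R, LocCoh.IsCohenMacaulayRing (p.asIdeal.Fiber S)) :
    ∃ (N : ℕ) (T : Fin (N + 1) → Type u) (_ : ∀ d, CommRing (T d)) (_ : ∀ d, Algebra R (T d)),
      Nonempty (S ≃ₐ[R] ((d : Fin (N + 1)) → T d)) ∧
        ∀ d : Fin (N + 1), Module.Flat R (T d) ∧ Algebra.FinitePresentation R (T d) ∧
          (∀ p : PrimeSpectrum R, LocCoh.IsCohenMacaulayRing (p.asIdeal.Fiber (T d))) ∧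
          ∀ (p : PrimeSpectrum R), ∀ P ∈ minimalPrimes (p.asIdeal.Fiber (T d)),
            ringKrullDim (p.asIdeal.Fiber (T d) ⧸ P) = ((d : ℕ) : WithBot ℕ∞) := by
  classical
  choose g n hg hn using FibreDimConst.exists_nhd hCM
  -- the fibre dimension at a point
  have hex : ∀ q : PrimeSpectrum S, ∃ d : ℕ, ∀ (p : Ideal R) [p.IsPrime] (Q : PrimeSpectrum (p.Fiber S)),
      Q.asIdeal.comap (Algebra.TensorProduct.includeRight : S →ₐ[R] p.Fiber S).toRingHom = q.asIdeal →
      FlatMor.localDim (PrimeSpectrum (p.Fiber S)) Q = (d : WithBot ℕ∞) :=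
    fun q => ⟨n q, fun p _ Q hQ => hn q p Q (by rw [hQ]; exact hg q)⟩
  choose d hd using hex
  have hloc : IsLocallyConstant d := by
    refine IsLocallyConstant.iff_exists_open _ |>.2 fun q => ⟨_, (PrimeSpectrum.basicOpen (g q)).2, hg q, fun q' hq' => ?_⟩
    have key : ∀ z : PrimeSpectrum S, g q ∉ z.asIdeal → d z = n q := by
      intro z hz
      obtain ⟨Q, hQ⟩ := RelDim.exists_fibre_point R S z
      have h1 := hd z (z.asIdeal.under R) Q hQ
      rw [hn q (z.asIdeal.under R) Q (by rw [hQ]; exact hz)] at h1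
      exact_mod_cast h1.symm
    rw [key q' hq', key q (hg q)]
  obtain ⟨N, hN⟩ := hloc.range_finite.bddAbove
  have hN' : ∀ z, d z ≤ N := fun z => hN ⟨z, rfl⟩
  choose e he hU using fun i : Fin (N + 1) =>
    PrimeSpectrum.isClopen_iff.1 (hloc.isClopen_fiber (i : ℕ))
  have hmem : ∀ i (z : PrimeSpectrum S), e i ∉ z.asIdeal ↔ d z = (i : ℕ) := fun i z =>
    (Set.ext_iff.1 (hU i) z).symm
  have hnil : ∀ x : S, IsIdempotentElem x → (∀ z : PrimeSpectrum S, x ∈ z.asIdeal) → x = 0 := by
    intro x hx h
    obtain ⟨k, hk⟩ := nilpotent_iff_mem_prime.2 fun J hJ => h ⟨J, hJ⟩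
    rcases k with _ | k
    · simp only [pow_zero] at hk
      have := subsingleton_of_zero_eq_one hk.symm
      exact Subsingleton.elim _ _
    · exact (hx.pow_succ_eq k).symm.trans hk
  have hortho : Pairwise fun i j => e i * e j = 0 := by
    intro i j hij
    refine hnil _ ((he i).mul (he j)) fun z => ?_
    by_contra h
    have h1 := (hmem i z).1 fun h' => h (Ideal.mul_mem_right _ _ h')
    have h2 := (hmem j z).1 fun h' => h (Ideal.mul_mem_left _ _ h')
    exact hij (Fin.ext (h1.symm.trans h2))
  have ho : OrthogonalIdempotents e := ⟨he, hortho⟩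
  have hc : CompleteOrthogonalIdempotents e := by
    refine ⟨ho, ?_⟩
    have hs := ho.isIdempotentElem_sum (s := Finset.univ)
    refine eq_of_sub_eq_zero ?_ |>.symm
    refine hnil _ hs.one_sub fun z => ?_
    let i : Fin (N + 1) := ⟨d z, Nat.lt_succ_of_le (hN' z)⟩
    have hi : e i ∉ z.asIdeal := (hmem i z).2 rfl
    have h0 : (∑ j, e j) * e i = e i := by
      rw [Finset.sum_mul, Finset.sum_eq_single i (fun j _ hj => hortho hj) (by simp), (he i).eq]
    have h1 : (1 - ∑ j, e j) * e i = 0 := by rw [sub_mul, one_mul, h0, sub_self]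
    exact (z.isPrime.mem_or_mem (h1 ▸ z.asIdeal.zero_mem)).resolve_right hi
  let T := fun i : Fin (N + 1) => Localization.Away (e i)
  refine ⟨N, T, fun i => inferInstance, fun i => inferInstance, ⟨?_⟩, fun i => ⟨?_, ?_, ?_⟩⟩
  · have : ∀ i, IsLocalization.Away (e i) (S ⧸ Ideal.span {1 - e i}) := fun i =>
      IsLocalization.Away.quotient_of_isIdempotentElem (he i)
    let E : ∀ i, (S ⧸ Ideal.span {1 - e i}) ≃ₐ[S] T i := fun i =>
      IsLocalization.algEquiv (Submonoid.powers (e i)) _ _
    refine AlgEquiv.ofBijective (Pi.algHom R _ fun i => IsScalarTower.toAlgHom R S (T i)) ?_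
    have h2 : Function.Bijective fun (x : S) (i : Fin (N + 1)) => E i (Ideal.Quotient.mk _ x) :=
      (Equiv.piCongrRight fun i => (E i).toEquiv).bijective.comp hc.bijective_pi
    convert h2 using 1
    funext x i
    exact ((E i).commutes x).symm
  · exact Module.Flat.trans R S (T i)
  · haveI : Algebra.FinitePresentation S (T i) := IsLocalization.Away.finitePresentation (e i)
    exact Algebra.FinitePresentation.trans R S (T i)
  -- fibres of the factors are open in the fibres of `S`
  suffices H : ∀ (p : Ideal R) [p.IsPrime] (P : PrimeSpectrum (p.Fiber (T i))),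
      ∃ Q : PrimeSpectrum (p.Fiber S),
        Nonempty (Localization.AtPrime Q.asIdeal ≃+* Localization.AtPrime P.asIdeal) ∧
        FlatMor.localDim (PrimeSpectrum (p.Fiber (T i))) P = ((i : ℕ) : WithBot ℕ∞) by
    have : Algebra.FinitePresentation R (T i) :=
      have : Algebra.FinitePresentation S (T i) := IsLocalization.Away.finitePresentation (e i)
      Algebra.FinitePresentation.trans R S (T i)
    refine ⟨fun p => ?_, fun p P hP => ?_⟩
    · have hn : IsNoetherianRing (p.asIdeal.Fiber (T i)) :=
        Algebra.FiniteType.isNoetherianRing p.asIdeal.ResidueField _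
      refine ⟨fun P _ => ?_⟩
      obtain ⟨Q, ⟨E⟩, -⟩ := H p.asIdeal ⟨P, inferInstance⟩
      exact @FlatLocalDepth.isCohenMacaulayLocalRing_of_ringEquiv _ _ _ _
        ((hCM p).isCohenMacaulayLocalRing_localization Q.asIdeal) E
    · obtain ⟨Q, -, h⟩ := H p.asIdeal ⟨P, hP.1.1⟩
      rw [← h, FibreDimConst.localDim_minimal p.asIdeal.ResidueField _ ⟨P, hP.1.1⟩ hP]
  intro p _ P
  let : Algebra (p.Fiber S) (p.Fiber (T i)) :=
    (Algebra.TensorProduct.map (AlgHom.id p.ResidueField p.ResidueField) (IsScalarTower.toAlgHom R S (T i))).toAlgebra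
  have hinc : (algebraMap (p.Fiber S) (p.Fiber (T i))).comp
      (Algebra.TensorProduct.includeRight : S →ₐ[R] p.Fiber S).toRingHom =
      (Algebra.TensorProduct.includeRight : T i →ₐ[R] p.Fiber (T i)).toRingHom.comp (algebraMap S (T i)) :=
    RingHom.ext fun x => rfl
  have : IsScalarTower p.ResidueField (p.Fiber S) (p.Fiber (T i)) := IsScalarTower.of_algebraMap_eq fun x =>
    ((Algebra.TensorProduct.map (AlgHom.id p.ResidueField p.ResidueField) (IsScalarTower.toAlgHom R S (T i))).commutes x).symm
  have : IsLocalization ((Submonoid.powers (e i)).map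
      (Algebra.TensorProduct.includeRight (R := R) (A := p.ResidueField))) (p.Fiber (T i)) :=
    IsLocalization.tensorProduct_tensorProduct_right R p.ResidueField (Submonoid.powers (e i)) (T i) hinc
  let e' : p.Fiber S := (Algebra.TensorProduct.includeRight (R := R) (A := p.ResidueField)) (e i)
  have hpow : (Submonoid.powers (e i)).map (Algebra.TensorProduct.includeRight (R := R) (A := p.ResidueField)) =
      Submonoid.powers e' := Submonoid.map_powers _ _
  have : IsLocalization.Away e' (p.Fiber (T i)) := by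
    show IsLocalization (Submonoid.powers _) _
    exact hpow ▸ ‹_›
  let ι : PrimeSpectrum (p.Fiber (T i)) → PrimeSpectrum (p.Fiber S) := PrimeSpectrum.comap (algebraMap _ _)
  have hι : Topology.IsOpenEmbedding ι := PrimeSpectrum.localization_away_isOpenEmbedding (p.Fiber (T i)) e'
  refine ⟨ι P, ?_, ?_⟩
  · have : IsLocalization (ι P).asIdeal.primeCompl (Localization.AtPrime P.asIdeal) :=
      IsLocalization.isLocalization_isLocalization_atPrime_isLocalization
        (Submonoid.powers e') (Localization.AtPrime P.asIdeal) P.asIdeal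
    exact ⟨(IsLocalization.algEquiv (ι P).asIdeal.primeCompl (Localization.AtPrime (ι P).asIdeal)
      (Localization.AtPrime P.asIdeal)).toRingEquiv⟩
  · rw [← FieldExtLD.localDim_of_isOpenEmbedding hι P]
    have hz : d ⟨(ι P).asIdeal.comap (Algebra.TensorProduct.includeRight : S →ₐ[R] p.Fiber S).toRingHom,
        inferInstance⟩ = (i : ℕ) := (hmem i _).1 fun h =>
      P.isPrime.ne_top (Ideal.eq_top_of_isUnit_mem _ h (IsLocalization.Away.algebraMap_isUnit e'))
    rw [← hz]
    exact hd _ p (ι P) rfl
end Groth.Agent.S9165
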