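import Groth.Statements.S9166
import Mathlib
-- import your own Groth.Agent.* helpers here

set_option autoImplicit false
universe u
open CAlg

namespace Groth.Agent.S9166

theorem ker_smul_eq {R S S' : Type u} [CommRing R] [CommRing S] [CommRing S'] [Algebra R S]
    [Algebra R S'] (I : Ideal R) (f : S →ₐ[R] S') (hf : Function.Surjective f) (q : Ideal S)
    [q.IsPrime]
    (hflat : letI : Module S S' := f.toRingHom.toModule
      Module.Flat R (LocalizedModule q.primeCompl S'))
    (j : S) (hj : f j = 0)
    (hker : algebraMap S (Localization.AtPrime q) j ∈ I.map (algebraMap R (Localization.AtPrime q))) :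
    ∃ t : S, t ∉ q ∧ t * j ∈ I.map (algebraMap R S) * RingHom.ker f.toRingHom := by
  classical
  letI : Module S S' := f.toRingHom.toModule
  haveI : IsScalarTower R S S' := ⟨fun r s z ↦ by
    show f (r • s) * z = r • (f s * z)
    rw [map_smul, smul_mul_assoc]⟩
  have hsm : ∀ (s : S) (z : S'), s • z = f s * z := fun _ _ ↦ rfl
  rw [IsScalarTower.algebraMap_eq R S (Localization.AtPrime q), ← Ideal.map_map,
    IsLocalization.algebraMap_mem_map_algebraMap_iff q.primeCompl] at hker
  obtain ⟨t, ht, htj⟩ := hker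
  rw [Ideal.map, Submodule.mem_span_set'] at htj
  obtain ⟨l, c, x, hx⟩ := htj
  have hx' : ∀ i, ∃ a ∈ I, algebraMap R S a = (x i : S) := fun i ↦ (x i).2
  choose a ha ha' using hx'
  have hsum : ∑ i, a i • c i = t * j := by
    rw [← hx]
    refine Finset.sum_congr rfl fun i _ ↦ ?_
    rw [Algebra.smul_def, ha', smul_eq_mul, mul_comm]
  let μ := LocalizedModule.mkLinearMap q.primeCompl S'
  have h0 : ∑ i, a i • μ (f (c i)) = 0 := by
    simp only [← LinearMap.map_smul_of_tower, ← map_smul, ← map_sum, hsum, map_mul, hj, mul_zero,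
      map_zero]
  obtain ⟨k, cc, y, hy, hc⟩ := Module.Flat.isTrivialRelation_of_sum_smul_eq_zero (R := R)
    (M := LocalizedModule q.primeCompl S') (f := a) (x := fun i ↦ μ (f (c i))) h0
  choose yy hyy using fun j ↦ IsLocalizedModule.surj q.primeCompl μ (y j)
  let W : S := ∏ j, ((yy j).2 : S)
  choose uu huu using fun z : S' ↦ hf z
  let u : Fin k → S := fun j ↦ uu (yy j).1 * ∏ j' ∈ Finset.univ.erase j, ((yy j').2 : S)
  have hu : ∀ j, W • y j = μ (f (u j)) := by
    intro j
    have : μ (f (u j)) = (∏ j' ∈ Finset.univ.erase j, ((yy j').2 : S)) • μ ((yy j).1) := by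
      rw [← μ.map_smul, hsm, map_mul, huu, mul_comm]
    rw [this, ← hyy j, Submonoid.smul_def, smul_smul,
      Finset.prod_erase_mul _ _ (Finset.mem_univ j)]
  have hi : ∀ i, μ (f (W * c i)) = μ (f (∑ j, cc i j • u j)) := by
    intro i
    rw [map_mul, ← hsm, μ.map_smul, show μ (f (c i)) = _ from hy i, Finset.smul_sum, map_sum, map_sum]
    refine Finset.sum_congr rfl fun j _ ↦ ?_
    rw [smul_comm, hu, map_smul, LinearMap.map_smul_of_tower]
  choose w hw using fun i ↦ IsLocalizedModule.exists_of_eq (S := q.primeCompl) (hi i)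
  let W' : S := ∏ i, (w i : S)
  refine ⟨W' * W * t, ?_, ?_⟩
  · intro hm
    rcases Ideal.IsPrime.mem_or_mem ‹_› hm with hm | hm
    rcases Ideal.IsPrime.mem_or_mem ‹_› hm with hm | hm
    · obtain ⟨i, -, hi⟩ := (Ideal.IsPrime.prod_mem_iff).mp hm
      exact (w i).2 hi
    · obtain ⟨i, -, hi⟩ := (Ideal.IsPrime.prod_mem_iff).mp hm
      exact (yy i).2.2 hi
    · exact ht hm
  · have key : W' * W * t * j = ∑ i, algebraMap R S (a i) *
        (W' * (W * c i - ∑ j, cc i j • u j)) := by
      have : ∑ i, algebraMap R S (a i) * (∑ j, cc i j • u j) = 0 := by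
        simp only [Finset.mul_sum, Algebra.smul_def]
        rw [Finset.sum_comm]
        refine Finset.sum_eq_zero fun j _ ↦ ?_
        simp only [← mul_assoc, ← Finset.sum_mul, ← map_mul, ← map_sum, hc j, map_zero, zero_mul]
      calc W' * W * t * j = W' * W * (t * j) := by ring
        _ = ∑ i, W' * W * (a i • c i) - W' * ∑ i, algebraMap R S (a i) * (∑ j, cc i j • u j) := by
            rw [this, mul_zero, sub_zero, ← Finset.mul_sum, hsum]
        _ = _ := by
            rw [Finset.mul_sum (s := Finset.univ) (a := W'), ← Finset.sum_sub_distrib]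
            refine Finset.sum_congr rfl fun i _ ↦ ?_
            rw [Algebra.smul_def]
            ring
    rw [key]
    refine Ideal.sum_mem _ fun i _ ↦ Ideal.mul_mem_mul (Ideal.mem_map_of_mem _ (ha i)) ?_
    rw [RingHom.mem_ker]
    show f (W' * _) = 0
    have := hw i
    rw [Submonoid.smul_def, Submonoid.smul_def, hsm, hsm] at this
    rw [map_mul, map_sub, show W' = (∏ i' ∈ Finset.univ.erase i, (w i' : S)) * w i from
      (Finset.prod_erase_mul _ _ (Finset.mem_univ i)).symm, map_mul, mul_assoc, mul_sub, this, sub_self,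
      mul_zero]

end Groth.Agent.S9166

namespace Groth.Agent.S9166

/-- Let I be an ideal of a ring R, S → S' a surjective homomorphism of R-algebras with S of finite type
and S' of finite presentation over R, and q a prime of S containing IS. Assume S'_q is flat over R
and that S_q/IS_q → S'_q/IS'_q is an isomorphism, which for a surjection says: every element of the
kernel of S → S' maps into I·S_q. Then for some g ∉ q the localized map S_g → S'_g is bijective. -/
theorem result (R S S' : Type u) [CommRing R] [CommRing S]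
    [CommRing S'] [Algebra R S] [Algebra R S'] [Algebra.FiniteType R S] [Algebra.FinitePresentation R S']
    (I : Ideal R) (f : S →ₐ[R] S') (hf : Function.Surjective f) (q : Ideal S) [q.IsPrime]
    (hq : I.map (algebraMap R S) ≤ q)
    (hker : ∀ j : S, f j = 0 →
      algebraMap S (Localization.AtPrime q) j ∈ I.map (algebraMap R (Localization.AtPrime q)))
    (hflat : letI : Module S S' := f.toRingHom.toModule
      Module.Flat R (LocalizedModule q.primeCompl S')) :
    ∃ g : S, g ∉ q ∧ Function.Bijective (Localization.awayMap f.toRingHom g) := by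
  classical
  have hK : (RingHom.ker f.toRingHom).FG := by
    obtain ⟨n, g, hg⟩ := Algebra.FiniteType.iff_quotient_mvPolynomial''.mp ‹Algebra.FiniteType R S›
    have h := (Algebra.FinitePresentation.ker_fG_of_surjective (f.comp g) (hf.comp hg)).map g.toRingHom
    convert h using 1
    apply le_antisymm
    · intro x hx
      obtain ⟨p, rfl⟩ := hg x
      exact Ideal.mem_map_of_mem _ hx
    · rw [Ideal.map_le_iff_le_comap]
      exact fun p hp ↦ hp
  let L := Localization.AtPrime q
  have hbot : (RingHom.ker f.toRingHom).map (algebraMap S L) = ⊥ := by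
    refine Submodule.eq_bot_of_le_smul_of_le_jacobson_bot (IsLocalRing.maximalIdeal L) _ (hK.map _) ?_
      (IsLocalRing.maximalIdeal_le_jacobson ⊥)
    rw [Ideal.map_le_iff_le_comap]
    intro j hj
    obtain ⟨t, ht, htj⟩ := Groth.Agent.S9166.ker_smul_eq I f hf q hflat j hj (hker j hj)
    have h := Ideal.mem_map_of_mem (algebraMap S L) htj
    rw [Ideal.map_mul, map_mul] at h
    have h' : algebraMap S L j ∈ (I.map (algebraMap R S)).map (algebraMap S L) *
        (RingHom.ker f.toRingHom).map (algebraMap S L) :=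
      (Ideal.unit_mul_mem_iff_mem _ (IsLocalization.map_units L (⟨t, ht⟩ : q.primeCompl))).mp h
    exact Ideal.mul_mono_left ((Ideal.map_mono hq).trans (Localization.AtPrime.map_eq_maximalIdeal).le) h'
  obtain ⟨s, hs⟩ := hK
  have hann : ∀ x ∈ s, ∃ g : S, g ∉ q ∧ g * x = 0 := by
    intro x hx
    have : algebraMap S L x = 0 := by
      rw [← Ideal.mem_bot, ← hbot]
      exact Ideal.mem_map_of_mem _ (hs ▸ Submodule.subset_span hx)
    obtain ⟨g, hg⟩ := (IsLocalization.map_eq_zero_iff q.primeCompl L x).mp this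
    exact ⟨g, g.2, hg⟩
  choose g hg hgx using hann
  let G := ∏ x ∈ s.attach, g x.1 x.2
  refine ⟨G, fun h ↦ ?_, ?_⟩
  · obtain ⟨x, -, hx⟩ := (Ideal.IsPrime.prod_mem_iff).mp h
    exact hg _ _ hx
  have hG : ∀ y ∈ RingHom.ker f.toRingHom, G * y = 0 := by
    intro y hy
    rw [← hs] at hy
    induction hy using Submodule.span_induction with
    | mem x hx =>
      obtain ⟨d, hd⟩ := Finset.dvd_prod_of_mem (fun x : {x // x ∈ s} ↦ g x.1 x.2) (Finset.mem_attach s ⟨x, hx⟩)
      rw [show G = g x hx * d from hd, mul_right_comm, hgx, zero_mul]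
    | zero => rw [mul_zero]
    | add a b _ _ ha hb => rw [mul_add, ha, hb, add_zero]
    | smul c a _ ha => rw [smul_eq_mul, mul_left_comm, ha, mul_zero]
  constructor
  · rw [injective_iff_map_eq_zero]
    intro x hx
    obtain ⟨y, ⟨_, n, rfl⟩, rfl⟩ := IsLocalization.exists_mk'_eq (Submonoid.powers G) x
    rw [Localization.awayMap, IsLocalization.Away.map, IsLocalization.map_mk',
      IsLocalization.mk'_eq_zero_iff] at hx
    obtain ⟨⟨_, m, rfl⟩, hm⟩ := hx
    rw [IsLocalization.mk'_eq_zero_iff]
    refine ⟨⟨G ^ (m + 1), m + 1, rfl⟩, ?_⟩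
    show G ^ (m + 1) * y = 0
    rw [pow_succ', mul_assoc]
    exact hG _ (by rw [RingHom.mem_ker, map_mul, map_pow]; exact hm)
  · intro z
    obtain ⟨y, ⟨_, n, rfl⟩, rfl⟩ := IsLocalization.exists_mk'_eq (Submonoid.powers (f.toRingHom G)) z
    obtain ⟨y, rfl⟩ := hf y
    refine ⟨IsLocalization.mk' _ y (⟨G ^ n, n, rfl⟩ : Submonoid.powers G), ?_⟩
    rw [Localization.awayMap, IsLocalization.Away.map, IsLocalization.map_mk']
    congr 1
    ext
    simp

end Groth.Agent.S9166
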