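import Groth.Statements.S9167
import Mathlib

set_option autoImplicit false
universe u
open CAlg

namespace Groth.Agent.S9167

/-- With R' = S⁻¹(R/I), every finitely presented R'-module is of the form S⁻¹(M/IM) for some finitely
presented R-module M. -/
theorem result (R : Type u) [CommRing R] (I : Ideal R)
    (S : Submonoid R) (M' : Type u) [AddCommGroup M']
    [Module (Localization (S.map (Ideal.Quotient.mk I))) M']
    [Module.FinitePresentation (Localization (S.map (Ideal.Quotient.mk I))) M'] :
    ∃ (M : Type u) (_ : AddCommGroup M) (_ : Module R M), Module.FinitePresentation R M ∧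
      Nonempty (LocalizedModule (S.map (Ideal.Quotient.mk I)) (M ⧸ (I • ⊤ : Submodule R M))
        ≃ₗ[Localization (S.map (Ideal.Quotient.mk I))] M') := by
  classical
  let T := R ⧸ I
  let W := S.map (Ideal.Quotient.mk I)
  let L := Localization W
  haveI : Module.Finite L M' :=
    inferInstanceAs (Module.Finite (Localization (S.map (Ideal.Quotient.mk I))) M')
  obtain ⟨n, g, hg⟩ := Module.Finite.exists_fin' L M'
  obtain ⟨m, w, hw⟩ := Submodule.fg_iff_exists_fin_generating_family.1
    (Module.FinitePresentation.fg_ker g hg)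
  let ι : (Fin n → R) →+ (Fin n → L) :=
    { toFun := fun z i => algebraMap T L (Ideal.Quotient.mk I (z i))
      map_zero' := by ext; simp
      map_add' := fun a b => by ext; simp }
  have hclear : ∀ x : Fin n → L, ∃ (s : S) (v : Fin n → R), algebraMap T L (Ideal.Quotient.mk I s) • x = ι v := by
    intro x
    obtain ⟨⟨s, hs⟩, hx⟩ := IsLocalization.exist_integer_multiples_of_finite W x
    obtain ⟨s₀, hs₀, rfl⟩ := hs
    choose a ha using hx
    choose v hv using fun i => Ideal.Quotient.mk_surjective (a i)
    refine ⟨⟨s₀, hs₀⟩, v, funext fun i => ?_⟩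
    show _ = algebraMap T L (Ideal.Quotient.mk I (v i))
    rw [hv, ha, Algebra.smul_def]
    rfl
  choose s v hv using fun j => hclear (w j)
  let K : Submodule R (Fin n → R) := Submodule.span R (Set.range v)
  letI : Module R M' := Module.compHom M' ((algebraMap T L).comp (Ideal.Quotient.mk I))
  letI : Module T M' := Module.compHom M' (algebraMap T L)
  haveI : IsScalarTower T L M' := ⟨fun a b c => by
    show (a • b) • c = algebraMap T L a • (b • c); rw [Algebra.smul_def, mul_smul]⟩
  have hsmul : ∀ (r : R) (y : M'), r • y = algebraMap T L (Ideal.Quotient.mk I r) • y := fun r y => rfl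
  haveI : IsScalarTower R T M' := ⟨fun r t y => by
    obtain ⟨t, rfl⟩ := Ideal.Quotient.mk_surjective t
    show algebraMap T L (r • Ideal.Quotient.mk I t) • y = algebraMap T L (Ideal.Quotient.mk I r) • algebraMap T L (Ideal.Quotient.mk I t) • y
    rw [Algebra.smul_def, map_mul, mul_smul]; rfl⟩
  let φ₀ : (Fin n → R) →ₗ[R] M' :=
    { toFun := fun z => g (ι z)
      map_add' := fun a b => by simp
      map_smul' := fun r z => by
        rw [RingHom.id_apply, hsmul, ← map_smul]
        congr 1
        ext i; simp [ι] }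
  have hK : K ≤ LinearMap.ker φ₀ := by
    rw [Submodule.span_le]
    rintro _ ⟨j, rfl⟩
    show g (ι (v j)) = 0
    rw [← hv, map_smul, LinearMap.mem_ker.1 (hw ▸ Submodule.subset_span ⟨j, rfl⟩ : w j ∈ LinearMap.ker g), smul_zero]
  let φ₁ : ((Fin n → R) ⧸ K) →ₗ[R] M' := K.liftQ φ₀ hK
  have hI : I • ⊤ ≤ LinearMap.ker φ₁ := by
    refine Submodule.smul_le.2 fun r hr y _ => ?_
    rw [LinearMap.mem_ker, map_smul, hsmul, Ideal.Quotient.eq_zero_iff_mem.2 hr, map_zero, zero_smul]
  set M := (Fin n → R) ⧸ K
  let φ : (M ⧸ (I • ⊤ : Submodule R M)) →ₗ[T] M' :=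
    LinearMap.extendScalarsOfSurjective Ideal.Quotient.mk_surjective ((I • ⊤ : Submodule R M).liftQ φ₁ hI)
  have hφ : ∀ z : Fin n → R, φ (Submodule.Quotient.mk (Submodule.Quotient.mk z)) = g (ι z) := fun z => rfl
  haveI : IsLocalizedModule W φ := by
    refine ⟨fun x => ?_, fun y => ?_, fun {a b} h => ?_⟩
    · rw [Module.End.isUnit_iff]
      have hu := IsLocalization.map_units L x
      constructor
      · intro a b hab
        exact hu.smul_left_cancel.1 hab
      · intro b
        refine ⟨((hu.unit⁻¹ : Lˣ) : L) • b, ?_⟩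
        show algebraMap T L x • ((hu.unit⁻¹ : Lˣ) : L) • b = b
        rw [← mul_smul, IsUnit.mul_val_inv, one_smul]
    · obtain ⟨x, rfl⟩ := hg y
      obtain ⟨s', z, hz⟩ := hclear x
      refine ⟨⟨Submodule.Quotient.mk (Submodule.Quotient.mk z), ⟨_, s'.1, s'.2, rfl⟩⟩, ?_⟩
      rw [hφ, ← hz, map_smul]
      rfl
    · obtain ⟨a, rfl⟩ := Submodule.Quotient.mk_surjective _ a
      obtain ⟨a, rfl⟩ := Submodule.Quotient.mk_surjective _ a
      obtain ⟨b, rfl⟩ := Submodule.Quotient.mk_surjective _ b
      obtain ⟨b, rfl⟩ := Submodule.Quotient.mk_surjective _ b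
      rw [hφ, hφ, ← sub_eq_zero, ← map_sub, ← map_sub] at h
      have hmem : ι (a - b) ∈ LinearMap.ker g := h
      rw [← hw] at hmem
      obtain ⟨c, hc⟩ := (Submodule.mem_span_range_iff_exists_fun L).1 hmem
      obtain ⟨⟨t, t₀, ht₀, rfl⟩, hd⟩ := IsLocalization.exist_integer_multiples_of_finite W
        (fun j => c j * ((IsLocalization.map_units L (⟨_, (s j).1, (s j).2, rfl⟩ : W)).unit⁻¹ : Lˣ))
      choose d hd using hd
      choose e he using fun j => Ideal.Quotient.mk_surjective (d j)
      have key : ι (t₀ • (a - b)) = ι (∑ j, e j • v j) := by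
        rw [map_sum]
        have h1 : ∀ j, ι (e j • v j) = algebraMap T L (Ideal.Quotient.mk I (e j)) • ι (v j) := fun j => by
          ext i; simp [ι]
        have h2 : ι (t₀ • (a - b)) = algebraMap T L (Ideal.Quotient.mk I t₀) • ι (a - b) := by
          ext i; simp [ι]
        rw [h2, ← hc, Finset.smul_sum]
        refine Finset.sum_congr rfl fun j _ => ?_
        rw [h1, ← hv, he, hd, Algebra.smul_def, smul_smul, smul_smul]
        congr 1
        rw [mul_assoc, mul_assoc, IsUnit.val_inv_mul, mul_one]
      have : ∀ i, ∃ u : W, (u : T) * Ideal.Quotient.mk I ((t₀ • (a - b)) i) = (u : T) * Ideal.Quotient.mk I ((∑ j, e j • v j) i) :=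
        fun i => IsLocalization.exists_of_eq (S := L) (M := W) (congrFun key i)
      choose u hu using this
      obtain ⟨q, hq, hqe⟩ := (∏ i, u i : W).2
      refine ⟨⟨_, q * t₀, S.mul_mem hq ht₀, rfl⟩, ?_⟩
      rw [← sub_eq_zero, ← smul_sub]
      rw [Submonoid.smul_def, ← Submodule.Quotient.mk_sub, ← Submodule.Quotient.mk_sub]
      show Submodule.Quotient.mk ((q * t₀) • (Submodule.Quotient.mk (a - b) : M)) = 0
      rw [Submodule.Quotient.mk_eq_zero, ← Submodule.Quotient.mk_smul]
      have hz : (q * t₀) • (a - b) - q • (∑ j, e j • v j) ∈ I • (⊤ : Submodule R (Fin n → R)) := by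
        rw [show ((q * t₀) • (a - b) - q • (∑ j, e j • v j)) =
          ∑ i, (q * ((t₀ • (a - b)) i - (∑ j, e j • v j) i)) • Pi.single i (1 : R) from ?_]
        · refine Submodule.sum_mem _ fun i _ => Submodule.smul_mem_smul ?_ trivial
          rw [← Ideal.Quotient.eq_zero_iff_mem, map_mul, map_sub, hqe, Submonoid.coe_finsetProd,
            ← Finset.prod_erase_mul _ _ (Finset.mem_univ i), mul_assoc, mul_sub, hu i, sub_self, mul_zero]
        · ext i
          simp [Finset.sum_apply, Pi.single_apply, mul_sub, mul_assoc]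
      have h3 : (Submodule.Quotient.mk ((q * t₀) • (a - b)) : M) =
          Submodule.Quotient.mk ((q * t₀) • (a - b) - q • (∑ j, e j • v j)) := by
        rw [eq_comm, Submodule.Quotient.eq]
        rw [sub_sub_cancel_left]
        exact neg_mem (Submodule.smul_mem _ _ (Submodule.sum_mem _ fun j _ => Submodule.smul_mem _ _ (Submodule.subset_span ⟨j, rfl⟩)))
      rw [h3]
      have := Submodule.mem_map_of_mem (f := K.mkQ) hz
      rw [Submodule.map_smul''] at this
      exact Submodule.smul_mono le_rfl le_top this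
  exact ⟨M, inferInstance, inferInstance, Module.finitePresentation_of_surjective K.mkQ K.mkQ_surjective
      (by rw [Submodule.ker_mkQ]; exact Submodule.fg_span (Set.finite_range v)),
    ⟨LinearEquiv.extendScalarsOfIsLocalization W L (IsLocalizedModule.iso W φ)⟩⟩

end Groth.Agent.S9167
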