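import Groth.Statements.S9168
import Mathlib
-- import your own Groth.Agent.* helpers here

set_option autoImplicit false
universe u
open CAlg

namespace Groth.Agent.S9168

variable {R : Type u} [CommRing R] [IsLocalRing R]

/-- Localization of a subring inside a local ring. -/
def loc (C : Subring R) : Subring R where
  carrier := {x | ∃ a ∈ C, ∃ b ∈ C, IsUnit b ∧ x * b = a}
  mul_mem' := by
    rintro x y ⟨a, ha, b, hb, hu, h⟩ ⟨a', ha', b', hb', hu', h'⟩
    exact ⟨a * a', mul_mem ha ha', b * b', mul_mem hb hb', hu.mul hu', by rw [← h, ← h']; ring⟩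
  one_mem' := ⟨1, one_mem C, 1, one_mem C, isUnit_one, one_mul 1⟩
  add_mem' := by
    rintro x y ⟨a, ha, b, hb, hu, h⟩ ⟨a', ha', b', hb', hu', h'⟩
    exact ⟨a * b' + a' * b, add_mem (mul_mem ha hb') (mul_mem ha' hb), b * b', mul_mem hb hb', hu.mul hu', by rw [← h, ← h']; ring⟩
  zero_mem' := ⟨0, zero_mem C, 1, one_mem C, isUnit_one, mul_one 0⟩
  neg_mem' := by
    rintro x ⟨a, ha, b, hb, hu, h⟩
    exact ⟨-a, neg_mem ha, b, hb, hu, by rw [← h]; ring⟩

theorem le_loc (C : Subring R) : C ≤ loc C := fun x hx ↦ ⟨x, hx, 1, one_mem C, isUnit_one, mul_one x⟩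

theorem isLocalHom_subtype (C : Subring R) : IsLocalHom (loc C).subtype := by
  refine ⟨fun x hx ↦ ?_⟩
  obtain ⟨a, ha, b, hb, hu, h⟩ := x.2
  change IsUnit (x : R) at hx
  obtain ⟨v, hv⟩ := hx
  have hua : IsUnit a := h ▸ (show IsUnit ((x : R) * b) from (hv ▸ v.isUnit).mul hu)
  have hmem : (↑v⁻¹ : R) ∈ loc C := ⟨b, hb, a, ha, hua, by rw [← h, ← hv, Units.inv_mul_cancel_left]⟩
  exact isUnit_iff_exists_inv.mpr ⟨⟨_, hmem⟩, Subtype.ext (by
    show (x : R) * ↑v⁻¹ = 1
    rw [← hv, Units.mul_inv])⟩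

theorem isLocalRing (C : Subring R) : IsLocalRing (loc C) :=
  haveI := isLocalHom_subtype C
  RingHom.domain_isLocalRing (loc C).subtype

theorem isLocalHom_restrict {S : Type u} [CommRing S] [IsLocalRing S] (φ : R →+* S) [IsLocalHom φ]
    (C : Subring R) (D : Subring S) (h : ∀ x ∈ loc C, φ x ∈ loc D) : IsLocalHom (φ.restrict (loc C) (loc D) h) := by
  refine ⟨fun x hx ↦ ?_⟩
  exact (isLocalHom_subtype C).1 x (isUnit_of_map_unit φ (x : R) (hx.map (loc D).subtype))

theorem essFiniteType {k : Type*} [CommRing k] (ψ : k →+* R) (t : Finset R) (C : Subring R)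
    (hψ : ∀ a, ψ a ∈ C) (hC : C ≤ Subring.closure (Set.range ψ ∪ t)) (ht : (t : Set R) ⊆ C)
    (h : ∀ a, ψ a ∈ loc C) : (ψ.codRestrict (loc C) h).EssFiniteType := by
  letI : Algebra k C := (ψ.codRestrict C hψ).toAlgebra
  letI : Algebra k (loc C) := (ψ.codRestrict (loc C) h).toAlgebra
  letI : Algebra C (loc C) := (Subring.inclusion (le_loc C)).toAlgebra
  haveI : IsScalarTower k C (loc C) := IsScalarTower.of_algebraMap_eq fun _ ↦ rfl
  haveI : Algebra.FiniteType k C := by
    classical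
    refine ⟨⟨t.attach.image fun x ↦ (⟨x.1, ht x.2⟩ : C), ?_⟩⟩
    set T := Algebra.adjoin k ((t.attach.image fun x ↦ (⟨x.1, ht x.2⟩ : C) : Finset C) : Set C)
    rw [eq_top_iff]
    rintro ⟨x, hx⟩ -
    have : x ∈ T.toSubring.map C.subtype := by
      refine Subring.closure_le.mpr ?_ (hC hx)
      rintro y (⟨a, rfl⟩ | hy)
      · exact ⟨algebraMap k C a, T.algebraMap_mem a, rfl⟩
      · exact ⟨⟨y, ht hy⟩, Algebra.subset_adjoin (by
          simp only [Finset.coe_image, Set.mem_image, Finset.mem_coe, Finset.mem_attach, true_and]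
          exact ⟨⟨y, hy⟩, rfl⟩), rfl⟩
    obtain ⟨z, hz, hzx⟩ := this
    rwa [show (⟨x, hx⟩ : C) = z from Subtype.ext hzx.symm]
  let M : Submonoid C := (IsUnit.submonoid R).comap C.subtype
  haveI : IsLocalization M (loc C) := by
    refine (isLocalization_iff _ _).mpr ⟨?_, ?_, ?_⟩
    · rintro ⟨y, hy⟩
      exact (isLocalHom_subtype C).1 _ (show IsUnit (y : R) from hy)
    · rintro ⟨x, a, ha, b, hb, hu, h⟩
      exact ⟨⟨⟨a, ha⟩, ⟨⟨b, hb⟩, hu⟩⟩, Subtype.ext h⟩
    · intro x y hxy
      exact ⟨1, by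
        have : (x : R) = y := congrArg (fun z : loc C ↦ (z : R)) hxy
        rw [Subtype.ext this]⟩
  haveI : Algebra.EssFiniteType C (loc C) := Algebra.EssFiniteType.of_isLocalization _ M
  exact RingHom.essFiniteType_algebraMap.mpr (Algebra.EssFiniteType.comp k C (loc C))

end Groth.Agent.S9168

namespace Groth.Agent.S9168

/-- For a local homomorphism of local rings R → S and finite subsets E ⊆ R, F ⊆ S there are local
subrings R₀ ⊆ R and S₀ ⊆ S containing E and F, with R → S mapping R₀ into S₀, such that the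
inclusions and the induced map R₀ → S₀ are local homomorphisms, R₀ is essentially of finite type
over ℤ and S₀ is essentially of finite type over R₀. (So R → S is the directed colimit of such R₀ →
S₀.) -/
theorem result (R S : Type u) [CommRing R] [CommRing S] [IsLocalRing R]
    [IsLocalRing S] [Algebra R S] [IsLocalHom (algebraMap R S)] (E : Finset R) (F : Finset S) :
    ∃ (R₀ : Subring R) (S₀ : Subring S) (h : ∀ x ∈ R₀, algebraMap R S x ∈ S₀),
      (E : Set R) ⊆ R₀ ∧ (F : Set S) ⊆ S₀ ∧ ∃ (_ : IsLocalRing R₀) (_ : IsLocalRing S₀),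
        IsLocalHom R₀.subtype ∧ IsLocalHom S₀.subtype ∧
          IsLocalHom ((algebraMap R S).restrict R₀ S₀ h) ∧
          (algebraMap ℤ R₀).EssFiniteType ∧ ((algebraMap R S).restrict R₀ S₀ h).EssFiniteType := by
  classical
  let C : Subring R := Subring.closure (E : Set R)
  let R₀ := Groth.Agent.S9168.loc C
  let ψ : R₀ →+* S := (algebraMap R S).comp R₀.subtype
  let D : Subring S := Subring.closure (Set.range ψ ∪ F)
  let S₀ := Groth.Agent.S9168.loc D
  have h : ∀ x ∈ R₀, algebraMap R S x ∈ S₀ := fun x hx ↦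
    Groth.Agent.S9168.le_loc D (Subring.subset_closure (Or.inl ⟨⟨x, hx⟩, rfl⟩))
  refine ⟨R₀, S₀, h, fun x hx ↦ Groth.Agent.S9168.le_loc C (Subring.subset_closure hx),
    fun x hx ↦ Groth.Agent.S9168.le_loc D (Subring.subset_closure (Or.inr hx)),
    Groth.Agent.S9168.isLocalRing C, Groth.Agent.S9168.isLocalRing D,
    Groth.Agent.S9168.isLocalHom_subtype C, Groth.Agent.S9168.isLocalHom_subtype D,
    Groth.Agent.S9168.isLocalHom_restrict _ C D h, ?_, ?_⟩
  · have he := Groth.Agent.S9168.essFiniteType (Int.castRingHom R) E C (fun a ↦ intCast_mem C a)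
      (Subring.closure_mono Set.subset_union_right) Subring.subset_closure
      (fun a ↦ Groth.Agent.S9168.le_loc C (intCast_mem C a))
    convert he using 1
    exact RingHom.ext_int _ _
  · exact Groth.Agent.S9168.essFiniteType ψ F D (fun a ↦ Subring.subset_closure (Or.inl ⟨a, rfl⟩))
      le_rfl (fun x hx ↦ Subring.subset_closure (Or.inr hx)) (fun a ↦ h a.1 a.2)

end Groth.Agent.S9168
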