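import Groth.Statements.S9169
import Groth.Agent.SyntLCI.Point


set_option autoImplicit false
universe u
open Synt

namespace Groth.Agent.S9169

open TensorProduct in
/-- Let R → S be a ring map and q a prime of S lying over p; write Q for the prime of the fibre ring
κ(p) ⊗ S that pulls back to q. Equivalent: (1) some basic open neighbourhood S_g of q is syntomic
over R; (2) some S_g is isomorphic over R to a relative global complete intersection; (3) some S_g
is of finite presentation over R, the local ring S_q is flat over R (equivalently over R_p), and the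
fibre local ring (κ(p) ⊗ S)_Q is a complete intersection over κ(p). Stated as (1) ↔ (2) and (1) ↔
(3). -/
theorem result (R S : Type u) [CommRing R] [CommRing S] [Algebra R S]
    (p : Ideal R) [p.IsPrime] (q : Ideal S) [q.IsPrime] [q.LiesOver p]
    (Q : Ideal (p.Fiber S)) [Q.IsPrime]
    (hQ : Q.comap (Algebra.TensorProduct.includeRight.toRingHom) = q) :
    ((∃ g : S, g ∉ q ∧ Synt.IsSyntomic R (Localization.Away g)) ↔
        ∃ g : S, g ∉ q ∧ ∃ (n c : ℕ) (F : Fin c → MvPolynomial (Fin n) R), Synt.IsRelGCI R n c F ∧
          Nonempty (Localization.Away g ≃ₐ[R] Synt.RelGCIRing R n c F)) ∧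
      ((∃ g : S, g ∉ q ∧ Synt.IsSyntomic R (Localization.Away g)) ↔
        ∃ g : S, g ∉ q ∧ Algebra.FinitePresentation R (Localization.Away g) ∧
          Module.Flat R (Localization.AtPrime q) ∧
          Synt.IsCIOver p.ResidueField (Localization.AtPrime Q)) := by
  refine ⟨⟨fun ⟨g, hg, h⟩ => ?_, fun ⟨g, hg, n, c, F, hF, ⟨e⟩⟩ => ⟨g, hg, SyntLCI.isRelGCI_congr hF e.symm⟩⟩,
    ⟨fun ⟨g, hg, h⟩ => ⟨g, hg, h.2.1, ?_, SyntLCI.isCIOver_of_syntomic_nhd g h p Q (fun hmem => hg (hQ ▸ hmem))⟩,
      fun ⟨g, hg, hfp, hflat, hci⟩ => SyntLCI.exists_syntomic_nhd_of_local p Q q hQ g hg hci⟩⟩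
  · have hd : Disjoint (Submonoid.powers g : Set S) (q : Set S) :=
      (Ideal.disjoint_powers_iff_notMem g (Ideal.IsPrime.isRadical ‹_›)).2 hg
    have : (q.map (algebraMap S (Localization.Away g))).IsPrime :=
      IsLocalization.isPrime_of_isPrime_disjoint _ _ _ ‹_› hd
    obtain ⟨g₁, hg₁, m, c, F, hF, -, ⟨e⟩⟩ :=
      SyntLCI.exists_relGCI_nhd_of_isSyntomic h (q.map (algebraMap S (Localization.Away g)))
    obtain ⟨⟨h₀, s⟩, hs⟩ := IsLocalization.surj (Submonoid.powers g) g₁
    have hh₀ : g * h₀ ∉ q := by
      refine fun hmem => ((‹q.IsPrime›).mem_or_mem hmem).elim hg fun h0 => ?_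
      have h1 := Ideal.mem_map_of_mem (algebraMap S (Localization.Away g)) h0
      rw [← hs] at h1
      exact (Ideal.IsPrime.mem_or_mem ‹_› h1).elim hg₁ fun h' =>
        Ideal.IsPrime.ne_top ‹_› (Ideal.eq_top_of_isUnit_mem _ h' (IsLocalization.map_units _ s))
    have : IsLocalization.Away (algebraMap S (Localization.Away g) h₀) (Localization.Away g₁) := by
      rw [← hs]
      exact IsLocalization.Away.of_associated (Associated.symm (associated_mul_unit_left _ _ (IsLocalization.map_units _ s)))
    have : IsLocalization.Away (g * h₀) (Localization.Away g₁) :=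
      IsLocalization.Away.mul' (Localization.Away g) (Localization.Away g₁) g h₀
    exact ⟨g * h₀, hh₀, m, c, F, hF, ⟨((IsLocalization.algEquiv (Submonoid.powers (g * h₀)) (Localization.Away (g * h₀))
      (Localization.Away g₁)).restrictScalars R).trans e⟩⟩
  · have := h.1
    let _ : Algebra (Localization.Away g) (Localization.AtPrime q) :=
      (IsLocalization.Away.lift g (IsLocalization.map_units (Localization.AtPrime q) (⟨g, hg⟩ : q.primeCompl))).toAlgebra
    have : IsScalarTower S (Localization.Away g) (Localization.AtPrime q) :=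
      .of_algebraMap_eq fun z => (IsLocalization.Away.lift_eq g _ z).symm
    have : IsScalarTower R (Localization.Away g) (Localization.AtPrime q) := .of_algebraMap_eq fun z => by
      rw [IsScalarTower.algebraMap_apply R S (Localization.AtPrime q), IsScalarTower.algebraMap_apply S (Localization.Away g) (Localization.AtPrime q),
        ← IsScalarTower.algebraMap_apply R S (Localization.Away g)]
    have : Module.Flat S (Localization.AtPrime q) := IsLocalization.flat _ q.primeCompl
    have : Module.Flat (Localization.Away g) (Localization.AtPrime q) :=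
      (Module.flat_iff_of_isLocalization (Localization.Away g) (Submonoid.powers g) (Localization.AtPrime q)).2 inferInstance
    exact Module.Flat.trans R (Localization.Away g) _

end Groth.Agent.S9169
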