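import Groth.Statements.S9170
import Groth.Agent.SyntLCI.RelGCI


set_option autoImplicit false
universe u
open Synt

namespace Groth.Agent.S9170

/-- For a relative global complete intersection S = R[x_1, …, x_n]/(f_1, …, f_c) over a ring R and a
prime q' of the polynomial ring containing the ideal (f_1, …, f_c): (1) f_1, …, f_c is a regular
sequence in the localization R[x]_{q'} (a local ring); (2) every quotient R[x]_{q'}/(f_1, …, f_i) is
flat over R; (3) the conormal module (f)/(f)² is free over S with basis the classes of the f_i
(stated as: these classes are linearly independent over S and span). -/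
theorem result (R : Type u) [CommRing R] (n c : ℕ)
    (F : Fin c → MvPolynomial (Fin n) R) (h : Synt.IsRelGCI R n c F)
    (q' : Ideal (MvPolynomial (Fin n) R)) [q'.IsPrime] (hq' : Ideal.span (Set.range F) ≤ q') :
    RingTheory.Sequence.IsRegular (Localization.AtPrime q')
        ((List.ofFn F).map (algebraMap (MvPolynomial (Fin n) R) (Localization.AtPrime q'))) ∧
      (∀ i ≤ c, Module.Flat R (Localization.AtPrime q' ⧸ Ideal.ofList
        (((List.ofFn F).take i).map (algebraMap (MvPolynomial (Fin n) R) (Localization.AtPrime q'))))) ∧
      LinearIndependent (Synt.RelGCIRing R n c F)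
        (fun i : Fin c => (Ideal.span (Set.range F)).toCotangent ⟨F i, Ideal.subset_span (Set.mem_range_self i)⟩) ∧
      Submodule.span (Synt.RelGCIRing R n c F) (Set.range
        (fun i : Fin c => (Ideal.span (Set.range F)).toCotangent ⟨F i, Ideal.subset_span (Set.mem_range_self i)⟩)) = ⊤ := by
  classical
  refine ⟨⟨SyntLCI.isWeaklyRegular_atPrime h q' hq', ?_⟩, fun i hi => SyntLCI.flat_take h q' hq' i, ?_⟩
  · rw [smul_eq_mul, Ideal.mul_top]
    intro htop
    refine (IsLocalRing.maximalIdeal.isMaximal (Localization.AtPrime q')).ne_top (top_le_iff.1 ?_)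
    rw [htop, ← Ideal.map_ofList, NLAmp.ofList_ofFn]
    exact Ideal.map_le_iff_le_comap.2 fun a ha => by
      rw [Ideal.mem_comap, IsLocalization.AtPrime.to_map_mem_maximal_iff (Localization.AtPrime q') q' a]
      exact hq' ha
  · obtain ⟨B, hB⟩ := KoszulExt.exists_basis_cotangent (I := Ideal.span (Set.range F))
      (fun i => ⟨F i, Ideal.subset_span (Set.mem_range_self i)⟩)
      ((KoszulExt.isExact_iff _).2 (SyntLCI.isKoszulRegularSeq_relGCI h)) rfl
    have : (fun i => (Ideal.span (Set.range F)).toCotangent ⟨F i, Ideal.subset_span (Set.mem_range_self i)⟩) = B :=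
      funext fun i => (hB i).symm
    rw [this]
    exact ⟨B.linearIndependent, B.span_eq⟩

end Groth.Agent.S9170
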