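import Groth.Statements.S9171
import Groth.Agent.SyntLCI.Codim


set_option autoImplicit false
universe u
open Synt

namespace Groth.Agent.S9171

/-- Let S = k[x_1, …, x_n]/I over a field k, q a prime of S, q' the corresponding prime of the
polynomial ring and c the integer with c + ht(q) = ht(q'). Equivalent: (1) S_g is a global complete
intersection over k for some g ∉ q; (2) the extension of I to the local ring k[x]_{q'} is generated
by c elements; (5) that extension is generated by a regular sequence. Stated as (1) ↔ (2) and (1) ↔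
(5). -/
theorem result (k : Type u) [Field k] (n : ℕ)
    (I : Ideal (MvPolynomial (Fin n) k)) (q : Ideal (MvPolynomial (Fin n) k ⧸ I)) [q.IsPrime] (c : ℕ)
    (hc : (c : ℕ∞) + q.height = (q.comap (Ideal.Quotient.mk I)).height) :
    ((∃ g : MvPolynomial (Fin n) k ⧸ I, g ∉ q ∧ Synt.IsGlobalCI k (Localization.Away g)) ↔
        ∃ s : Finset (Localization.AtPrime (q.comap (Ideal.Quotient.mk I))), s.card = c ∧
          Ideal.span (s : Set _) =
            I.map (algebraMap _ (Localization.AtPrime (q.comap (Ideal.Quotient.mk I))))) ∧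
      ((∃ g : MvPolynomial (Fin n) k ⧸ I, g ∉ q ∧ Synt.IsGlobalCI k (Localization.Away g)) ↔
        ∃ rs : List (Localization.AtPrime (q.comap (Ideal.Quotient.mk I))),
          RingTheory.Sequence.IsRegular (Localization.AtPrime (q.comap (Ideal.Quotient.mk I))) rs ∧
          Ideal.ofList rs =
            I.map (algebraMap _ (Localization.AtPrime (q.comap (Ideal.Quotient.mk I))))) := by
  obtain ⟨d, e, hde, hne, hd, he⟩ := SyntLCI.exists_dims I q c hc
  have hft : Algebra.FiniteType k (MvPolynomial (Fin n) k ⧸ I) := inferInstance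
  have key : (∃ g : MvPolynomial (Fin n) k ⧸ I, g ∉ q ∧ Synt.IsGlobalCI k (Localization.Away g)) ↔
      SyntLCI.IsCIIdeal (I.map (algebraMap _ (Localization.AtPrime (q.comap (Ideal.Quotient.mk I))))) := by
    rw [← SyntLCI.isCIOver_atPrime_iff_exists, SyntLCI.isCIOver_atPrime_iff (Ideal.Quotient.mkₐ k I)
      Ideal.Quotient.mk_surjective q]
    have : RingHom.ker (Ideal.Quotient.mkₐ k I).toRingHom = I := Ideal.mk_ker
    rw [this]
    rfl
  refine ⟨key.trans ⟨fun h => ?_, fun ⟨s, hs, hspan⟩ => ?_⟩, key.trans ⟨fun h => ?_, fun ⟨rs, hreg, hspan⟩ => ?_⟩⟩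
  · obtain ⟨-, l, hl, hreg⟩ := h
    have hlen : l.length = c := by
      have := (SyntLCI.isWeaklyRegular_iff_dim (hl ▸ hne) hd (hl ▸ he)).1 hreg
      omega
    classical
    refine ⟨l.toFinset, ?_, by rw [← hl, Ideal.ofList]; congr 1; ext; simp⟩
    have h1 : l.toFinset.card ≤ c := hlen ▸ l.toFinset_card_le
    have h2 := SyntLCI.dim_le_add_length (l := l.toFinset.toList) (d := d) (e := e) (by
      rw [show Ideal.ofList l.toFinset.toList = I.map _ by rw [← hl, Ideal.ofList, Ideal.ofList]; congr 1; ext; simp]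
      exact hne) hd (by
      rw [show Ideal.ofList l.toFinset.toList = I.map _ by rw [← hl, Ideal.ofList, Ideal.ofList]; congr 1; ext; simp]
      exact he)
    rw [Finset.length_toList] at h2
    omega
  · refine (SyntLCI.isCIIdeal_iff_dim hne hd he).2 ⟨s.card, fun i => (s.equivFin.symm i).1, ?_, by omega⟩
    rw [← hspan]
    congr 1
    ext x
    exact ⟨fun ⟨i, hi⟩ => hi ▸ (s.equivFin.symm i).2, fun hx => ⟨s.equivFin ⟨x, hx⟩, by simp⟩⟩
  · obtain ⟨-, l, hl, hreg⟩ := h
    refine ⟨l, ⟨hreg, ?_⟩, hl⟩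
    rw [smul_eq_mul, Ideal.mul_top, hl]
    exact hne.symm
  · exact ⟨hne, rs, hspan, hreg.toIsWeaklyRegular⟩

end Groth.Agent.S9171
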