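import Groth.Statements.S9173
import Groth.Agent.SyntLCI.Dim


set_option autoImplicit false
universe u
open Synt

namespace Groth.Agent.S9173

open MvPolynomial TensorProduct in
/-- Let S = R[x_1, …, x_n]/(F_1, …, F_c) over a ring R. Let p be a prime of R whose fibre ring κ(p) ⊗ S
has Krull dimension n − c (with c ≤ n). Then some h in the polynomial ring, with image g in S,
satisfies: g maps to a unit of κ(p) ⊗ S, and the presentation S_g = R[x_1, …, x_{n+1}]/(F_1, …, F_c,
h·x_{n+1} − 1) is a relative global complete intersection over R (with S_g isomorphic to it over R). -/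
theorem result (R : Type u) [CommRing R] (n c : ℕ) (F : Fin c → MvPolynomial (Fin n) R)
    (p : Ideal R) [p.IsPrime]
    (hp : c ≤ n ∧ ringKrullDim (p.Fiber (Synt.RelGCIRing R n c F)) = ((n - c : ℕ) : WithBot ℕ∞)) :
    ∃ h : MvPolynomial (Fin n) R,
      IsUnit ((1 : p.ResidueField) ⊗ₜ[R] (Ideal.Quotient.mk (Ideal.span (Set.range F)) h) :
        p.Fiber (Synt.RelGCIRing R n c F)) ∧
      Synt.IsRelGCI R (n + 1) (c + 1)
        (Fin.snoc (fun i => rename Fin.castSucc (F i)) (rename Fin.castSucc h * X (Fin.last n) - 1)) ∧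
      Nonempty (Localization.Away (Ideal.Quotient.mk (Ideal.span (Set.range F)) h) ≃ₐ[R]
        Synt.RelGCIRing R (n + 1) (c + 1)
          (Fin.snoc (fun i => rename Fin.castSucc (F i)) (rename Fin.castSucc h * X (Fin.last n) - 1))) := by
  have key := SyntLCI.exists_relGCI_locus F (p.map (algebraMap R (MvPolynomial (Fin n) R))) (p.primeCompl.map (algebraMap R (MvPolynomial (Fin n) R)))
  obtain ⟨h, ⟨s, hs, hsub⟩, hgci, e⟩ := key (by
    intro q _ hle hdis
    have hqp : q.comap (algebraMap R (MvPolynomial (Fin n) R)) = p := by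
      refine le_antisymm (fun a ha => ?_) fun a ha => hle (Submodule.mem_sup_right (Ideal.mem_map_of_mem _ ha))
      by_contra hap
      exact Set.disjoint_left.1 hdis ha (Submonoid.mem_map_of_mem (f := (algebraMap R (MvPolynomial (Fin n) R) : R →* MvPolynomial (Fin n) R)) hap)
    refine SyntLCI.fibre_regular_of_dim F p ?_ q hqp (le_sup_left.trans hle)
    rw [SyntLCI.fibre_quotient_dim]
    calc _ = ((n - c : ℕ) : WithBot ℕ∞) + (c : WithBot ℕ∞) := by rw [hp.2]
      _ ≤ _ := by exact_mod_cast (Nat.sub_add_cancel hp.1).le)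
  refine ⟨h, ?_, hgci, e⟩
  obtain ⟨s, hs, rfl⟩ := hs
  let ι :=
    (Algebra.TensorProduct.includeRight (R := R) (A := p.ResidueField) (B := Synt.RelGCIRing R n c F)).toRingHom.comp
      (Ideal.Quotient.mk (Ideal.span (Set.range F)))
  have hι : ∀ a, ι (algebraMap R _ a) = algebraMap p.ResidueField (p.Fiber (Synt.RelGCIRing R n c F)) (algebraMap R p.ResidueField a) :=
    fun a => (AlgHom.commutes (Algebra.TensorProduct.includeRight (R := R) (A := p.ResidueField) (B := Synt.RelGCIRing R n c F)) a).trans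
      (IsScalarTower.algebraMap_apply R p.ResidueField _ a)
  have h0 : ι (h - algebraMap R _ s) = 0 := by
    have hle : Ideal.span (Set.range F) ⊔ p.map (algebraMap R (MvPolynomial (Fin n) R)) ≤ RingHom.ker ι := by
      refine sup_le (fun x hx => ?_) (Ideal.map_le_iff_le_comap.2 fun a ha => ?_)
      · rw [RingHom.mem_ker, RingHom.comp_apply, Ideal.Quotient.eq_zero_iff_mem.2 hx, map_zero]
      · rw [Ideal.mem_comap, RingHom.mem_ker, hι, Ideal.algebraMap_residueField_eq_zero.2 ha, map_zero]
    exact hle hsub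
  rw [map_sub, sub_eq_zero, hι] at h0
  show IsUnit (ι h)
  rw [h0]
  exact (isUnit_iff_ne_zero.2 fun hs0 => hs (Ideal.algebraMap_residueField_eq_zero.1 hs0)).map _

end Groth.Agent.S9173
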