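import Groth.Statements.S9174
import Groth.Agent.FibreRegular.Basic
import Groth.Agent.RelDim.Open
import Groth.Agent.FlatLocalDepth.CMAt
-- import your own Groth.Agent.* helpers here

set_option autoImplicit false
universe u
open CAlg
set_option maxHeartbeats 400000

open TensorProduct

namespace Groth.Agent.S9174

/-- Let R → S be of finite type with every fibre ring κ(p) ⊗ S Cohen–Macaulay and equidimensional of
dimension d, and let f_1, …, f_i ∈ S. The primes q ⊇ (f_1, …, f_i) at which the f_j form a regular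
sequence in the fibre local ring S_q/pS_q (p = q ∩ R) form an open subset of V(f_1, …, f_i): there
is an open U of Spec S whose trace on V(f_1, …, f_i) is exactly this set. -/
theorem result (R S : Type u) [CommRing R] [CommRing S]
    [Algebra R S] [Algebra.FiniteType R S] (d : ℕ)
    (hCM : ∀ p : PrimeSpectrum R, LocCoh.IsCohenMacaulayRing (p.asIdeal.Fiber S))
    (heq : ∀ p : PrimeSpectrum R, ∀ P ∈ minimalPrimes (p.asIdeal.Fiber S),
      ringKrullDim (p.asIdeal.Fiber S ⧸ P) = (d : WithBot ℕ∞))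
    (f : List S) :
    ∃ U : Set (PrimeSpectrum S), IsOpen U ∧ ∀ q : PrimeSpectrum S, Ideal.ofList f ≤ q.asIdeal →
      (q ∈ U ↔ RingTheory.Sequence.IsRegular (EGA4.FibLocRing R S q.asIdeal)
        (f.map (algebraMap S (EGA4.FibLocRing R S q.asIdeal)))) := by
  classical
  let I := Ideal.ofList f
  let V : Set (PrimeSpectrum (S ⧸ I)) :=
    if f.length ≤ d then RelDim.dimLocus R (S ⧸ I) (d - f.length) else ∅
  have hV : IsOpen V := by
    simp only [V]
    split_ifs
    · exact RelDim.isOpen_dimLocus R (S ⧸ I) _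
    · exact isOpen_empty
  have hind := (PrimeSpectrum.isClosedEmbedding_comap_of_surjective _ (Ideal.Quotient.mk I)
    Ideal.Quotient.mk_surjective).isInducing
  obtain ⟨U, hU, hUV⟩ := hind.isOpen_iff.1 hV
  refine ⟨U, hU, fun q hq => ?_⟩
  haveI hqb' : (q.asIdeal.map (Ideal.Quotient.mk I)).IsPrime :=
    Ideal.map_isPrime_of_surjective Ideal.Quotient.mk_surjective (by rwa [Ideal.mk_ker])
  let qb : PrimeSpectrum (S ⧸ I) := ⟨q.asIdeal.map (Ideal.Quotient.mk I), inferInstance⟩
  have hqq : qb.asIdeal.comap (Ideal.Quotient.mk I) = q.asIdeal := by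
    show (q.asIdeal.map (Ideal.Quotient.mk I)).comap _ = _
    rw [Ideal.comap_map_of_surjective _ Ideal.Quotient.mk_surjective, ← RingHom.ker_eq_comap_bot, Ideal.mk_ker,
      sup_eq_left.2 hq]
  have hmemV : q ∈ U ↔ qb ∈ V := by
    rw [← hUV, Set.mem_preimage, show PrimeSpectrum.comap (Ideal.Quotient.mk I) qb = q from PrimeSpectrum.ext hqq]
  rw [hmemV]
  let p := qb.asIdeal.under R
  have hpq : q.asIdeal.comap (algebraMap R S) = p := by
    show _ = qb.asIdeal.comap (algebraMap R (S ⧸ I))
    rw [← hqq, Ideal.comap_comap]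
    rfl
  obtain ⟨Qb, hQb⟩ := RelDim.exists_fibre_point R (S ⧸ I) qb
  obtain ⟨π, hπ, hπc⟩ := FibreRegular.exists_fibreMap (Ideal.Quotient.mkₐ R I) Ideal.Quotient.mk_surjective p
  let P : Ideal (p.Fiber S) := Qb.asIdeal.comap π
  haveI : P.IsPrime := Ideal.IsPrime.comap π
  have hP : P.comap (Algebra.TensorProduct.includeRight : S →ₐ[R] p.Fiber S) = q.asIdeal := by
    refine Eq.trans ?_ hqq
    have h := congrArg (fun φ => Ideal.comap φ Qb.asIdeal) hπc
    refine h.trans ?_
    rw [← Ideal.comap_comap]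
    exact congrArg (Ideal.comap (Ideal.Quotient.mk I)) hQb
  obtain ⟨e₁⟩ := FibreRegular.fibLoc_equiv p P q.asIdeal hP
  obtain ⟨e₂⟩ := FibreRegular.fibLoc_equiv p Qb.asIdeal qb.asIdeal hQb
  let F := EGA4.FibLocRing R S q.asIdeal
  let J : Ideal F := Ideal.ofList (f.map (algebraMap S F))
  let L := Localization.AtPrime q.asIdeal
  let Lb := Localization.AtPrime qb.asIdeal
  obtain ⟨hψs, hψk⟩ := FibreRegular.ker_localRingHom_mk I qb.asIdeal q.asIdeal hqq.symm
  let ψ : L →+* Lb := Localization.localRingHom q.asIdeal qb.asIdeal (Ideal.Quotient.mk I) hqq.symm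
  let χ : L →+* EGA4.FibLocRing R (S ⧸ I) qb.asIdeal := (Ideal.Quotient.mk _).comp ψ
  have hχs : Function.Surjective χ := Ideal.Quotient.mk_surjective.comp hψs
  have hψR : ψ.comp (algebraMap R L) = algebraMap R Lb := by
    rw [IsScalarTower.algebraMap_eq R S L, ← RingHom.comp_assoc, IsScalarTower.algebraMap_eq R (S ⧸ I) Lb]
    refine RingHom.ext fun r => ?_
    exact Localization.localRingHom_to_map q.asIdeal qb.asIdeal (Ideal.Quotient.mk I) hqq.symm (algebraMap R S r)
  have hχk : RingHom.ker χ = (q.asIdeal.comap (algebraMap R S)).map (algebraMap R L) ⊔ I.map (algebraMap S L) := by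
    rw [← hψk, ← RingHom.comap_ker, Ideal.mk_ker]
    rw [show (qb.asIdeal.comap (algebraMap R (S ⧸ I))).map (algebraMap R Lb) =
      ((q.asIdeal.comap (algebraMap R S)).map (algebraMap R L)).map ψ by rw [Ideal.map_map, hψR, hpq],
      Ideal.comap_map_of_surjective _ hψs, RingHom.ker_eq_comap_bot]
  have hJ : J = (I.map (algebraMap S L)).map (Ideal.Quotient.mk _) := by
    rw [Ideal.map_map, Ideal.map_ofList]
    rfl
  let e₃ : F ⧸ J ≃+* EGA4.FibLocRing R (S ⧸ I) qb.asIdeal :=
    ((Ideal.quotEquivOfEq hJ).trans (DoubleQuot.quotQuotEquivQuotSup _ _)).trans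
      ((Ideal.quotEquivOfEq hχk.symm).trans (RingHom.quotientKerEquivOfSurjective hχs))
  haveI : IsLocalRing F := e₁.isLocalRing
  haveI hnt : Nontrivial (F ⧸ J) := (e₃.trans e₂.symm).toEquiv.nontrivial
  have hJne : J ≠ ⊤ := Ideal.Quotient.nontrivial_iff.1 hnt
  haveI : IsNoetherianRing (p.Fiber S) := Algebra.FiniteType.isNoetherianRing p.ResidueField _
  haveI : IsNoetherianRing (p.Fiber (S ⧸ I)) := Algebra.FiniteType.isNoetherianRing p.ResidueField _
  haveI : LocCoh.IsCohenMacaulayLocalRing F :=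
    @FlatLocalDepth.isCohenMacaulayLocalRing_of_ringEquiv _ _ _ _
      ((hCM ⟨p, inferInstance⟩).isCohenMacaulayLocalRing_localization P) e₁
  obtain ⟨dF, hdF⟩ := CAlgReg.exists_dim (R := F)
  obtain ⟨e, he⟩ := SyntLCI.exists_dim_quotient hJne
  have hdF' : ringKrullDim (Localization.AtPrime P) = dF := by rw [ringKrullDim_eq_of_ringEquiv e₁]; exact hdF
  have he' : ringKrullDim (Localization.AtPrime Qb.asIdeal) = e := by
    rw [ringKrullDim_eq_of_ringEquiv e₂, ← ringKrullDim_eq_of_ringEquiv (R := F ⧸ J) e₃]; exact he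
  obtain ⟨r, -, hr⟩ := CMLocus.exists_trdeg_residue p.ResidueField (p.Fiber S) P
  have hrb : ringKrullDim (p.Fiber (S ⧸ I) ⧸ Qb.asIdeal) = r := by
    rw [← hr]
    have hs : Function.Surjective ((Ideal.Quotient.mk Qb.asIdeal).comp π) :=
      Ideal.Quotient.mk_surjective.comp hπ
    refine (ringKrullDim_eq_of_ringEquiv ((Ideal.quotEquivOfEq ?_).trans
      (RingHom.quotientKerEquivOfSurjective hs))).symm
    rw [← RingHom.comap_ker, Ideal.mk_ker]
  have hd := FibreRegular.localDim_of_equidim p.ResidueField d (heq ⟨p, inferInstance⟩) P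
  rw [hdF', hr] at hd
  have hd' : dF + r = d := by exact_mod_cast hd
  have hK := SyntLCI.dim_le_add_length hJne hdF he
  rw [List.length_map] at hK
  have hloc : FlatMor.localDim (PrimeSpectrum (p.Fiber (S ⧸ I))) Qb = ((e + r : ℕ) : WithBot ℕ∞) := by
    rw [CMLocus.localDim_eq p.ResidueField (p.Fiber (S ⧸ I)) Qb, he', hrb]
    push_cast; rfl
  rw [FibreRegular.isRegular_iff_dim hJne hdF he, List.length_map]
  simp only [V]
  split_ifs with hfd
  · constructor
    · intro h
      have h2 := h Qb hQb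
      rw [hloc] at h2
      have : e + r ≤ d - f.length := by exact_mod_cast h2
      omega
    · intro h Q hQ
      have hQQ : Q = Qb := by
        apply (PrimeSpectrum.preimageOrderIsoFiber R (S ⧸ I) ⟨p, inferInstance⟩).symm.injective
        exact Subtype.ext (PrimeSpectrum.ext (hQ.trans hQb.symm))
      rw [hQQ, hloc]
      have : e + r ≤ d - f.length := by omega
      exact_mod_cast this
  · constructor
    · intro h; exact h.elim
    · intro h; exfalso; omega
end Groth.Agent.S9174
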