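import Groth.Statements.S9177
import Groth.Agent.EtSmColim.Basic
import Mathlib

set_option autoImplicit false
universe u
open CAlg

namespace Groth.Agent.S9177

open TensorProduct in
/-- Let R = colim R_i be a directed colimit of A-algebras (compatible transition maps), B and C
A-algebras. (1) If B is of finite type over A, two A-algebra maps B → C whose base changes to R
coincide already have equal base changes to some R_i. (2) If C is of finite type over A and u : B →
C has surjective base change to R, then its base change to some R_i is surjective. (The A-algebra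
structure on R is through any stage R_l; it does not depend on l.) -/
theorem result {ι : Type u} [Preorder ι]
    [Nonempty ι] [IsDirectedOrder ι] (G : ι → Type u) [∀ i, CommRing (G i)]
    (f : ∀ i j, i ≤ j → G i →+* G j) [DirectedSystem G (fun i j h => f i j h)]
    (A : Type u) [CommRing A] [∀ i, Algebra A (G i)]
    (hf : ∀ i j (h : i ≤ j), (f i j h).comp (algebraMap A (G i)) = algebraMap A (G j)) (l : ι)
    (B C : Type u) [CommRing B] [CommRing C] [Algebra A B] [Algebra A C] :
    letI : Algebra A (Ring.DirectLimit G (fun i j h => f i j h)) :=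
      ((Ring.DirectLimit.of G (fun i j h => f i j h) l).comp (algebraMap A (G l))).toAlgebra
    (Algebra.FiniteType A B → ∀ u u' : B →ₐ[A] C,
        Algebra.TensorProduct.map (AlgHom.id A (Ring.DirectLimit G (fun i j h => f i j h))) u =
            Algebra.TensorProduct.map (AlgHom.id A (Ring.DirectLimit G (fun i j h => f i j h))) u' →
          ∃ i : ι, Algebra.TensorProduct.map (AlgHom.id A (G i)) u =
            Algebra.TensorProduct.map (AlgHom.id A (G i)) u') ∧
      (Algebra.FiniteType A C → ∀ u : B →ₐ[A] C,
        Function.Surjective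
            (Algebra.TensorProduct.map (AlgHom.id A (Ring.DirectLimit G (fun i j h => f i j h))) u) →
          ∃ i : ι, Function.Surjective (Algebra.TensorProduct.map (AlgHom.id A (G i)) u)) := by
  classical
  let L := Ring.DirectLimit G (fun i j h => f i j h)
  letI : Algebra A L := ((Ring.DirectLimit.of G (fun i j h => f i j h) l).comp (algebraMap A (G l))).toAlgebra
  let g : ∀ i, G i →ₐ[A] L := fun i =>
    { Ring.DirectLimit.of G (fun i j h => f i j h) i with
      commutes' := fun a => by
        obtain ⟨k, hik, hlk⟩ := exists_ge_ge i l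
        show Ring.DirectLimit.of G (fun i j h => f i j h) i (algebraMap A (G i) a) =
          Ring.DirectLimit.of G (fun i j h => f i j h) l (algebraMap A (G l) a)
        rw [← Ring.DirectLimit.of_f hik, ← Ring.DirectLimit.of_f hlk, ← RingHom.comp_apply (f i k hik), hf,
          ← RingHom.comp_apply (f l k hlk), hf] }
  let step : ∀ i j, i ≤ j → EtSmColim.Step g i j := fun i j h =>
    ⟨{ f i j h with commutes' := fun a => RingHom.congr_fun (hf i j h) a },
      AlgHom.ext fun x => Ring.DirectLimit.of_f h x⟩
  have hd : EtSmColim.Directed g := fun i j =>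
    let ⟨k, h1, h2⟩ := exists_ge_ge i j
    ⟨k, ⟨step i k h1⟩, ⟨step j k h2⟩⟩
  have hs : ∀ a : L, ∃ j, ∃ x : G j, g j x = a := Ring.DirectLimit.exists_of
  have hk : ∀ j (x : G j), g j x = 0 → ∃ m, ∃ a : EtSmColim.Step g j m, a.hom x = 0 := fun j x hx => by
    obtain ⟨m, hm, h0⟩ := Ring.DirectLimit.of.zero_exact (f' := f) hx
    exact ⟨m, step j m hm, h0⟩
  let S := (EtSmColim.baseSys hs hk).tensor hd C
  let τ := fun (X : Type u) [CommRing X] [Algebra A X] => (Algebra.TensorProduct.comm A X C : X ⊗[A] C ≃ₐ[A] C ⊗[A] X)
  have hsym : ∀ (i : ι) (w : G i ⊗[A] C), S.ψ i (τ (G i) w) = τ L (Algebra.TensorProduct.map (g i) (AlgHom.id A C) w) := by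
    intro i w
    induction w using TensorProduct.induction_on with
    | zero => simp
    | tmul x c => rfl
    | add x y hx hy => simp only [map_add, hx, hy]
  have hact : ∀ {i j : ι} (a : EtSmColim.Step g i j) (w : G i ⊗[A] C),
      S.act a (τ (G i) w) = τ (G j) (Algebra.TensorProduct.map a.hom (AlgHom.id A C) w) := by
    intro i j a w
    induction w using TensorProduct.induction_on with
    | zero => simp
    | tmul x c => rfl
    | add x y hx hy => simp only [map_add, hx, hy]
  refine ⟨fun hB u u' huu' => ?_, fun hC u hu => ?_⟩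
  · obtain ⟨s, hs'⟩ := hB.out
    let x : B → C ⊗[A] G l := fun b => (u b - u' b) ⊗ₜ 1
    obtain ⟨j, a, ha⟩ := S.kill_finset s (i := l) x (fun b _ => by
      have h := AlgHom.congr_fun huu' ((1 : L) ⊗ₜ[A] b)
      simp only [Algebra.TensorProduct.map_tmul, AlgHom.id_apply] at h
      show (u b - u' b) ⊗ₜ[A] (g l 1) = (0 : C ⊗[A] L)
      rw [map_one, TensorProduct.sub_tmul, sub_eq_zero]
      exact congrArg (τ L) h)
    refine ⟨j, Algebra.TensorProduct.ext (AlgHom.ext fun r => by simp) ?_⟩
    have : ((Algebra.TensorProduct.includeRight : C →ₐ[A] G j ⊗[A] C).comp u) = Algebra.TensorProduct.includeRight.comp u' := by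
      refine AlgHom.ext_of_adjoin_eq_top hs' fun b hb => ?_
      have h := congrArg (τ (G j)).symm (ha b hb)
      rw [map_zero] at h
      change (a.hom 1) ⊗ₜ[A] (u b - u' b) = (0 : G j ⊗[A] C) at h
      rw [map_one, TensorProduct.tmul_sub, sub_eq_zero] at h
      exact h
    exact AlgHom.ext fun b => by simpa using AlgHom.congr_fun this b
  · obtain ⟨s, hs'⟩ := hC.out
    let SB := (EtSmColim.baseSys hs hk).tensor hd B
    -- every generator is hit at some stage
    have hgen : ∀ c ∈ s, ∃ i, ∀ j, i ≤ j → (1 : G j) ⊗ₜ[A] c ∈
        (Algebra.TensorProduct.map (AlgHom.id A (G j)) u).range := by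
      intro c _
      obtain ⟨y, hy⟩ := hu ((1 : L) ⊗ₜ[A] c)
      obtain ⟨i, y₀, hy₀⟩ := SB.surj (Algebra.TensorProduct.comm A L B y)
      let z := Algebra.TensorProduct.map (AlgHom.id A (G i)) u ((Algebra.TensorProduct.comm A (G i) B).symm y₀) - 1 ⊗ₜ c
      have hSB : ∀ w : G i ⊗[A] B, SB.ψ i (Algebra.TensorProduct.comm A (G i) B w) =
          Algebra.TensorProduct.comm A L B (Algebra.TensorProduct.map (g i) (AlgHom.id A B) w) := by
        intro w
        induction w using TensorProduct.induction_on with
        | zero => simp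
        | tmul x c => rfl
        | add x y hx hy => simp only [map_add, hx, hy]
      have hlift : Algebra.TensorProduct.map (g i) (AlgHom.id A B) ((Algebra.TensorProduct.comm A (G i) B).symm y₀) = y := by
        apply (Algebra.TensorProduct.comm A L B).injective
        rw [← hSB, AlgEquiv.apply_symm_apply, hy₀]
      have hcomm : ∀ w : G i ⊗[A] B, Algebra.TensorProduct.map (g i) (AlgHom.id A C) (Algebra.TensorProduct.map (AlgHom.id A (G i)) u w) =
          Algebra.TensorProduct.map (AlgHom.id A L) u (Algebra.TensorProduct.map (g i) (AlgHom.id A B) w) := by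
        intro w
        induction w using TensorProduct.induction_on with
        | zero => simp
        | tmul x c => rfl
        | add x y hx hy => simp only [map_add, hx, hy]
      have hz : S.ψ i (τ (G i) z) = 0 := by
        rw [hsym, map_sub, hcomm, hlift, hy, Algebra.TensorProduct.map_tmul, map_one, AlgHom.id_apply, sub_self, map_zero]
      obtain ⟨m, a, ha⟩ := S.kill i _ hz
      rw [hact] at ha
      have ha' : Algebra.TensorProduct.map a.hom (AlgHom.id A C) z = 0 := (τ (G m)).injective (by rw [ha, map_zero])
      refine ⟨m, fun j hmj => ?_⟩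
      let φ : G i →ₐ[A] G j := (step m j hmj).hom.comp a.hom
      refine ⟨Algebra.TensorProduct.map φ (AlgHom.id A B) ((Algebra.TensorProduct.comm A (G i) B).symm y₀), ?_⟩
      have h2 : Algebra.TensorProduct.map (step m j hmj).hom (AlgHom.id A C) (Algebra.TensorProduct.map a.hom (AlgHom.id A C) z) = 0 := by
        rw [ha', map_zero]
      rw [← AlgHom.comp_apply, ← Algebra.TensorProduct.map_comp, map_sub, sub_eq_zero] at h2
      simp only [Algebra.TensorProduct.map_tmul, map_one, AlgHom.id_apply, AlgHom.id_comp] at h2
      refine Eq.trans ?_ h2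
      show ((Algebra.TensorProduct.map (AlgHom.id A (G j)) u).comp (Algebra.TensorProduct.map φ (AlgHom.id A B))) _ =
        ((Algebra.TensorProduct.map φ (AlgHom.id A C)).comp (Algebra.TensorProduct.map (AlgHom.id A (G i)) u)) _
      rw [← Algebra.TensorProduct.map_comp, ← Algebra.TensorProduct.map_comp]
      simp
    choose! i hi using hgen
    obtain ⟨j, hj⟩ := Finset.exists_le (s.image i)
    refine ⟨j, ?_⟩
    have hall : ∀ c : C, (1 : G j) ⊗ₜ[A] c ∈ (Algebra.TensorProduct.map (AlgHom.id A (G j)) u).range := by
      intro c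
      have : Algebra.adjoin A (s : Set C) ≤
          ((Algebra.TensorProduct.map (AlgHom.id A (G j)) u).range).comap Algebra.TensorProduct.includeRight :=
        Algebra.adjoin_le fun c hc => hi c hc j (hj _ (Finset.mem_image_of_mem i hc))
      exact this (hs' ▸ Algebra.mem_top)
    intro w
    induction w using TensorProduct.induction_on with
    | zero => exact ⟨0, map_zero _⟩
    | tmul x c =>
      obtain ⟨y, hy⟩ := hall c
      refine ⟨(x ⊗ₜ 1) * y, ?_⟩
      rw [map_mul]
      rw [show (Algebra.TensorProduct.map (AlgHom.id A (G j)) u) y = 1 ⊗ₜ c from hy]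
      simp
    | add x y hx hy =>
      obtain ⟨a, rfl⟩ := hx
      obtain ⟨b, rfl⟩ := hy
      exact ⟨a + b, map_add _ _ _⟩

end Groth.Agent.S9177
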