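import Groth.Statements.S9178
import Mathlib
-- import your own Groth.Agent.* helpers here

set_option autoImplicit false
universe u
open CAlg

open TensorProduct
namespace Groth.Agent.S9178

variable (A B C : Type u) [CommRing A] [CommRing B]
    [CommRing C] [Algebra A B] [Algebra B C] [Algebra A C] [IsScalarTower A B C]

theorem main (hAC : Function.Surjective (algebraMap A C))
    (h : RingHom.ker (algebraMap A C) ≤ (RingHom.ker (algebraMap B C)).comap (Algebra.ofId A B)) :
    Function.Exact
      (Ideal.mapCotangent (RingHom.ker (algebraMap A C)) (RingHom.ker (algebraMap B C)) (Algebra.ofId A B) h)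
      (KaehlerDifferential.kerCotangentToTensor A B C) := by
  set I := RingHom.ker (algebraMap A C) with hI
  set J := RingHom.ker (algebraMap B C) with hJ
  have hBC : Function.Surjective (algebraMap B C) := fun c => by
    obtain ⟨a, rfl⟩ := hAC c
    exact ⟨algebraMap A B a, (IsScalarTower.algebraMap_apply A B C a).symm⟩
  intro y
  obtain ⟨⟨x, hx⟩, rfl⟩ := Ideal.toCotangent_surjective J y
  constructor
  · intro hy
    rw [KaehlerDifferential.kerCotangentToTensor_toCotangent] at hy
    let Q : Ideal B := J ^ 2 ⊔ I.map (algebraMap A B)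
    let q : B →+* B ⧸ Q := Ideal.Quotient.mk Q
    let rC : C → A := Function.surjInv hAC
    have hrC : ∀ c, algebraMap A C (rC c) = c := Function.surjInv_eq hAC
    have hIq : ∀ a ∈ I, q (algebraMap A B a) = 0 := fun a ha =>
      Ideal.Quotient.eq_zero_iff_mem.2 (le_sup_right (a := J ^ 2) (Ideal.mem_map_of_mem _ ha))
    have wd : ∀ a a' : A, algebraMap A C a = algebraMap A C a' → q (algebraMap A B a) = q (algebraMap A B a') := fun a a' e => by
      have := hIq (a - a') (by rw [hI, RingHom.mem_ker, map_sub, e, sub_self])
      rwa [map_sub, map_sub, sub_eq_zero] at this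
    let s : C →+* B ⧸ Q :=
      { toFun := fun c => q (algebraMap A B (rC c))
        map_one' := (wd _ 1 (by rw [hrC, map_one])).trans (by rw [map_one, map_one])
        map_mul' := fun c d => (wd _ (rC c * rC d) (by rw [hrC, map_mul, hrC, hrC])).trans (by rw [map_mul, map_mul])
        map_zero' := (wd _ 0 (by rw [hrC, map_zero])).trans (by rw [map_zero, map_zero])
        map_add' := fun c d => (wd _ (rC c + rC d) (by rw [hrC, map_add, hrC, hrC])).trans (by rw [map_add, map_add]) }
    let σ : B →+* B ⧸ Q := s.comp (algebraMap B C)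
    have hσA : ∀ a, σ (algebraMap A B a) = q (algebraMap A B a) := fun a =>
      wd _ a (by rw [hrC, ← IsScalarTower.algebraMap_apply A B C a])
    have hmem : ∀ b, ∃ j ∈ J, q b - σ b = q j := fun b => by
      refine ⟨b - algebraMap A B (rC (algebraMap B C b)), ?_, ?_⟩
      · rw [hJ, RingHom.mem_ker, map_sub, ← IsScalarTower.algebraMap_apply A B C, hrC, sub_self]
      · show q b - q (algebraMap A B (rC (algebraMap B C b))) = q (b - _)
        rw [map_sub]
    let δl : B →ₗ[A] B ⧸ Q :=
      { toFun := fun b => q b - σ b
        map_add' := fun b c => by rw [map_add, map_add]; ring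
        map_smul' := fun a b => by
          rw [Algebra.smul_def, map_mul, map_mul, hσA, RingHom.id_apply, Algebra.smul_def]
          show _ = q (algebraMap A B a) * _
          ring }
    have hJJ : ∀ j ∈ J, ∀ j' ∈ J, q j * q j' = 0 := fun j hj j' hj' => by
      rw [← map_mul]
      exact Ideal.Quotient.eq_zero_iff_mem.2 (le_sup_left (b := I.map (algebraMap A B)) (by rw [pow_two]; exact Ideal.mul_mem_mul hj hj'))
    let δ : Derivation A B (B ⧸ Q) := Derivation.mk' δl fun b c => by
      show q (b * c) - σ (b * c) = q b * (q c - σ c) + q c * (q b - σ b)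
      obtain ⟨j, hj, ej⟩ := hmem b
      obtain ⟨j', hj', ej'⟩ := hmem c
      have h0 := hJJ j hj j' hj'
      rw [← ej, ← ej'] at h0
      rw [map_mul, map_mul]
      linear_combination -h0
    let L := δ.liftKaehlerDifferential
    have hval : ∀ ω, ∃ j ∈ J, L ω = q j := by
      intro ω
      have : ω ∈ Submodule.span B (Set.range (KaehlerDifferential.D A B)) := by
        rw [KaehlerDifferential.span_range_derivation]; trivial
      induction this using Submodule.span_induction with
      | mem z hz => obtain ⟨b, rfl⟩ := hz; rw [Derivation.liftKaehlerDifferential_comp_D]; exact hmem b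
      | zero => exact ⟨0, zero_mem _, by simp⟩
      | add z w _ _ hz hw =>
        obtain ⟨j, hj, e⟩ := hz; obtain ⟨j', hj', e'⟩ := hw
        exact ⟨j + j', add_mem hj hj', by rw [map_add, e, e', map_add]⟩
      | smul c z _ hz =>
        obtain ⟨j, hj, e⟩ := hz
        exact ⟨c * j, J.mul_mem_left _ hj, by rw [map_smul, e, map_mul]; rfl⟩
    have hJ0 : ∀ ω ∈ J • (⊤ : Submodule B (Ω[B⁄A])), L ω = 0 := by
      intro ω hω
      refine Submodule.smul_induction_on hω (fun j hj z _ => ?_) (fun z w hz hw => by rw [map_add, hz, hw, add_zero])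
      obtain ⟨j', hj', e⟩ := hval z
      rw [map_smul, e]
      exact hJJ j hj j' hj'
    have hdx : KaehlerDifferential.D A B x ∈ J • (⊤ : Submodule B (Ω[B⁄A])) := by
      have h1 := congrArg ((TensorProduct.quotTensorEquivQuotSMul (Ω[B⁄A]) J) ∘
        (TensorProduct.congr (Ideal.quotientKerAlgEquivOfSurjective (f := Algebra.ofId B C) hBC).symm.toLinearEquiv
          (LinearEquiv.refl B _))) hy
      simp only [Function.comp_apply, map_zero, TensorProduct.congr_tmul, LinearEquiv.refl_apply] at h1
      rw [show (Ideal.quotientKerAlgEquivOfSurjective (f := Algebra.ofId B C) hBC).symm.toLinearEquiv (1 : C) = Ideal.Quotient.mk _ 1 from map_one (Ideal.quotientKerAlgEquivOfSurjective (f := Algebra.ofId B C) hBC).symm] at h1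
      have h2 : TensorProduct.quotTensorEquivQuotSMul (Ω[B⁄A]) J (Ideal.Quotient.mk J 1 ⊗ₜ[B] KaehlerDifferential.D A B x) = 0 :=
        h1.trans (map_zero _)
      rw [TensorProduct.quotTensorEquivQuotSMul_mk_tmul, one_smul] at h2
      exact (Submodule.Quotient.mk_eq_zero _).1 h2
    have := hJ0 _ hdx
    rw [Derivation.liftKaehlerDifferential_comp_D] at this
    have hσx : σ x = 0 := by
      show s (algebraMap B C x) = 0
      rw [show algebraMap B C x = 0 from hx, map_zero]
    have hxQ : x ∈ Q := by
      refine Ideal.Quotient.eq_zero_iff_mem.1 ?_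
      have h2 : q x - σ x = 0 := this
      rwa [hσx, sub_zero] at h2
    obtain ⟨u, hu, v, hv, rfl⟩ := Submodule.mem_sup.1 hxQ
    have hIJ : I.map (algebraMap A B) ≤ J := Ideal.map_le_iff_le_comap.2 h
    suffices hs : ∃ i : I, v - algebraMap A B i ∈ J ^ 2 by
      obtain ⟨i, hi⟩ := hs
      refine ⟨Ideal.toCotangent I i, ?_⟩
      rw [Ideal.mapCotangent_toCotangent, Ideal.toCotangent_eq]
      show algebraMap A B (i : A) - (u + v) ∈ J ^ 2
      rw [show algebraMap A B (i : A) - (u + v) = -u - (v - algebraMap A B (i : A)) by ring]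
      exact sub_mem (neg_mem hu) hi
    clear this hdx hxQ hσx hy hx
    rw [Ideal.map] at hv
    induction hv using Submodule.span_induction with
    | mem z hz =>
      obtain ⟨i, hi, rfl⟩ := hz
      exact ⟨⟨i, hi⟩, by rw [sub_self]; exact zero_mem _⟩
    | zero => exact ⟨0, by simp⟩
    | add z w _ _ hz hw =>
      obtain ⟨i, hi⟩ := hz; obtain ⟨i', hi'⟩ := hw
      exact ⟨i + i', by rw [Submodule.coe_add, map_add, add_sub_add_comm]; exact add_mem hi hi'⟩
    | smul c z hzm hz =>
      obtain ⟨i, hi⟩ := hz
      obtain ⟨a, ha⟩ := hAC (algebraMap B C c)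
      refine ⟨a • i, ?_⟩
      show c • z - algebraMap A B (a * (i : A)) ∈ J ^ 2
      rw [smul_eq_mul, map_mul, show c * z - algebraMap A B a * algebraMap A B (i : A) =
        (c - algebraMap A B a) * algebraMap A B (i : A) + c * (z - algebraMap A B (i : A)) by ring]
      refine add_mem ?_ (Ideal.mul_mem_left _ _ hi)
      rw [pow_two]
      refine Ideal.mul_mem_mul ?_ (h i.2)
      rw [hJ, RingHom.mem_ker, map_sub, ← IsScalarTower.algebraMap_apply A B C, ha, sub_self]
  · rintro ⟨z, hz⟩
    rw [← hz]
    obtain ⟨i, rfl⟩ := Ideal.toCotangent_surjective I z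
    rw [Ideal.mapCotangent_toCotangent, KaehlerDifferential.kerCotangentToTensor_toCotangent]
    show (1 : C) ⊗ₜ[B] KaehlerDifferential.D A B (algebraMap A B i) = 0
    rw [Derivation.map_algebraMap, TensorProduct.tmul_zero]

end Groth.Agent.S9178

open TensorProduct
namespace Groth.Agent.S9178

/-- For ring maps A → B → C with A → C surjective, writing I = ker(A → C) and J = ker(B → C), the
sequence I/I² → J/J² → C ⊗_B Ω_{B/A} → 0 is exact. Stated: the image of I/I² in J/J² is exactly the
kernel of J/J² → C ⊗_B Ω_{B/A} (surjectivity of the latter map is the standard conormal sequence for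
the surjection B → C). -/
theorem result (A B C : Type u) [CommRing A] [CommRing B]
    [CommRing C] [Algebra A B] [Algebra B C] [Algebra A C] [IsScalarTower A B C]
    (hAC : Function.Surjective (algebraMap A C))
    (h : RingHom.ker (algebraMap A C) ≤ (RingHom.ker (algebraMap B C)).comap (Algebra.ofId A B)) :
    Function.Exact
      (Ideal.mapCotangent (RingHom.ker (algebraMap A C)) (RingHom.ker (algebraMap B C)) (Algebra.ofId A B) h)
      (KaehlerDifferential.kerCotangentToTensor A B C) := by
  exact Groth.Agent.S9178.main A B C hAC h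

end Groth.Agent.S9178
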