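import Groth.Statements.S9179
import Mathlib
import Groth.Agent.H2FP.Colim
-- import your own Groth.Agent.* helpers here

set_option autoImplicit false
universe u
open CategoryTheory CategoryTheory.Limits
open CAlg

namespace Groth.Agent.S9179

/-- An R-algebra of finite type is the colimit of a filtered system of finitely presented R-algebras
whose transition maps are all surjective. -/
theorem result (R A : Type u) [CommRing R] [CommRing A]
    [Algebra R A] [Algebra.FiniteType R A] :
    ∃ (I : Type u) (_ : SmallCategory I) (_ : IsFiltered I) (D : I ⥤ Under (CommRingCat.of R))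
      (c : Cocone D) (_ : IsColimit c),
      (∀ i, (D.obj i).hom.hom.FinitePresentation) ∧
      (∀ (i j : I) (φ : i ⟶ j), Function.Surjective (D.map φ).right.hom) ∧
      Nonempty (c.pt ≅ Under.mk (CommRingCat.ofHom (algebraMap R A))) := by
  obtain ⟨s, hs⟩ := Algebra.FiniteType.out (R := R) (A := A)
  obtain ⟨hf, ⟨hc⟩⟩ := Groth.Agent.H2FP.exists_colimit (A := R) (B := A) (P := fun E ↦ E = s)
    (fun E E' h h' ↦ ⟨s, rfl, h ▸ Finset.Subset.refl _, h' ▸ Finset.Subset.refl _⟩)
    (fun b ↦ ⟨s, rfl, hs ▸ trivial⟩)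
  exact ⟨_, inferInstance, hf, Groth.Agent.H2FP.diagram R A _, Groth.Agent.H2FP.cocone R A _, hc,
    fun i ↦ Groth.Agent.H2FP.finitePresentation i,
    fun i j φ ↦ Groth.Agent.H2FP.surjective_map φ (j.pE.trans i.pE.symm ▸ Finset.Subset.refl _),
    ⟨Iso.refl _⟩⟩
end Groth.Agent.S9179
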