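import Groth.Statements.S9180
import Groth.Agent.FlatLocalDepth.Basic
import Groth.Agent.CAlgT1.LocalDim
import Groth.Agent.FieldExtLD.Scheme
import Groth.Agent.CAlgReg.Basic
-- import your own Groth.Agent.* helpers here

set_option autoImplicit false
universe u
open CAlg

open TensorProduct

namespace Groth.Agent.S9180

open TensorProduct in
/-- Let S be of finite type over a field k, K an extension field of k, S_K = S ⊗_k K, q a prime of S
whose residue field has transcendence degree r over k, and q_K a prime of S_K lying over q whose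
residue field has transcendence degree r_K over K. Then the local ring at q_K of the fibre of S →
S_K over q has dimension dim (S_K)_{q_K} − dim S_q = r − r_K (stated additively), and there is a
prime of S_K over q for which this dimension is zero. -/
theorem result (k S K : Type u) [Field k] [CommRing S] [Algebra k S]
    [Algebra.FiniteType k S] [Field K] [Algebra k K] (q : Ideal S) [q.IsPrime] (r : ℕ)
    (hr : Algebra.trdeg k q.ResidueField = r) (qK : Ideal (S ⊗[k] K)) [qK.IsPrime] [qK.LiesOver q]
    (rK : ℕ)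
    (hrK : letI : Algebra K (S ⊗[k] K) := Algebra.TensorProduct.rightAlgebra
      Algebra.trdeg K qK.ResidueField = rK) :
    ringKrullDim (EGA4.FibLocRing S (S ⊗[k] K) qK) + ringKrullDim (Localization.AtPrime q) =
        ringKrullDim (Localization.AtPrime qK) ∧
      ringKrullDim (EGA4.FibLocRing S (S ⊗[k] K) qK) + (rK : WithBot ℕ∞) = (r : WithBot ℕ∞) ∧
      ∃ (q' : Ideal (S ⊗[k] K)) (_ : q'.IsPrime), q'.LiesOver q ∧
        ringKrullDim (EGA4.FibLocRing S (S ⊗[k] K) q') = 0 := by
  letI algK : Algebra K (S ⊗[k] K) := Algebra.TensorProduct.rightAlgebra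
  haveI : IsNoetherianRing S := Algebra.FiniteType.isNoetherianRing k S
  let e : (K ⊗[k] S) ≃ₐ[K] (S ⊗[k] K) :=
    { (Algebra.TensorProduct.comm k K S).toRingEquiv with
      commutes' := fun c => rfl }
  haveI hft : Algebra.FiniteType K (S ⊗[k] K) := Algebra.FiniteType.equiv inferInstance e
  haveI : IsNoetherianRing (S ⊗[k] K) := Algebra.FiniteType.isNoetherianRing K _
  haveI : Module.Flat S (S ⊗[k] K) := inferInstance
  have hadd : ∀ (Q : Ideal (S ⊗[k] K)) [Q.IsPrime] [Q.LiesOver q],
      ringKrullDim (Localization.AtPrime Q) =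
        ringKrullDim (Localization.AtPrime q) + ringKrullDim (EGA4.FibLocRing S (S ⊗[k] K) Q) := by
    intro Q _ _
    letI := Localization.AtPrime.algebraOfLiesOver q Q
    haveI : Localization.AtPrime.IsLiesOverAlgebra q Q := ⟨rfl⟩
    haveI : IsLocalHom (algebraMap (Localization.AtPrime q) (Localization.AtPrime Q)) :=
      Localization.isLocalHom_localRingHom q Q _ _
    rw [FlatLocalDepth.ringKrullDim_eq_add (Localization.AtPrime q) (Localization.AtPrime Q)]
    congr 1
    refine ringKrullDim_eq_of_ringEquiv (Ideal.quotEquivOfEq ?_)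
    rw [← Localization.AtPrime.map_eq_maximalIdeal, Ideal.map_map, ← IsScalarTower.algebraMap_eq]
    exact congrArg (Ideal.map _) Ideal.LiesOver.over
  have h1 := hadd qK
  have hB := CAlgT1.localDim_eq_dim_add_trdeg (k := K) (S := S ⊗[k] K) qK rK hrK
  have hS := CAlgT1.localDim_eq_dim_add_trdeg (k := k) (S := S) q r hr
  let h : PrimeSpectrum (K ⊗[k] S) ≃ₜ PrimeSpectrum (S ⊗[k] K) :=
    PrimeSpectrum.homeomorphOfRingEquiv e.toRingEquiv
  let Q' : PrimeSpectrum (K ⊗[k] S) := h.symm ⟨qK, inferInstance⟩
  have hloc := FieldExtLD.localDim_tensor (k := k) (K := K) Q'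
  have hcomap : PrimeSpectrum.comap (Algebra.TensorProduct.includeRight : S →ₐ[k] K ⊗[k] S).toRingHom Q' =
      ⟨q, inferInstance⟩ := by
    apply PrimeSpectrum.ext
    show (qK.comap e.toRingEquiv.toRingHom).comap _ = q
    rw [Ideal.comap_comap]
    refine Eq.trans ?_ (Ideal.LiesOver.over (p := q) (P := qK)).symm
    exact congrArg (fun φ => Ideal.comap φ qK) (RingHom.ext fun s => rfl)
  rw [hcomap, ← FieldExtLD.localDim_of_isOpenEmbedding h.isOpenEmbedding Q', h.apply_symm_apply] at hloc
  rw [hB, hS, h1] at hloc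
  haveI : Nontrivial (EGA4.FibLocRing S (S ⊗[k] K) qK) := Ideal.Quotient.nontrivial_iff.2 fun he => by
    have hle : (qK.comap (algebraMap S (S ⊗[k] K))).map (algebraMap S (Localization.AtPrime qK)) ≤
        IsLocalRing.maximalIdeal (Localization.AtPrime qK) := by
      rw [IsScalarTower.algebraMap_eq S (S ⊗[k] K) (Localization.AtPrime qK), ← Ideal.map_map,
        ← Localization.AtPrime.map_eq_maximalIdeal]
      exact Ideal.map_mono Ideal.map_comap_le
    exact (IsLocalRing.maximalIdeal.isMaximal _).ne_top (top_le_iff.1 (he ▸ hle))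
  refine ⟨by rw [h1, add_comm], ?_, ?_⟩
  · obtain ⟨a, ha⟩ := CAlgReg.exists_dim (R := Localization.AtPrime q)
    haveI : IsLocalRing (EGA4.FibLocRing S (S ⊗[k] K) qK) :=
      IsLocalRing.of_surjective' (Ideal.Quotient.mk _) Ideal.Quotient.mk_surjective
    obtain ⟨b, hb⟩ := CAlgReg.exists_dim (R := EGA4.FibLocRing S (S ⊗[k] K) qK)
    rw [ha, hb] at hloc
    rw [hb]
    norm_cast at hloc ⊢
    omega
  · have hle : q.map (algebraMap S (S ⊗[k] K)) ≤ qK :=
      Ideal.map_le_iff_le_comap.2 (Ideal.LiesOver.over (p := q) (P := qK)).le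
    obtain ⟨P, hP, -⟩ := Ideal.exists_minimalPrimes_le hle
    haveI hPp : P.IsPrime := hP.1.1
    haveI : P.LiesOver q := by
      refine ⟨le_antisymm (Ideal.map_le_iff_le_comap.1 hP.1.2) ?_⟩
      obtain ⟨P'', hP''le, hP''p, hP''o⟩ :=
        Ideal.exists_ideal_le_liesOver_of_le (p := q) (q := P.comap (algebraMap S (S ⊗[k] K))) P
          (Ideal.map_le_iff_le_comap.1 hP.1.2)
      have h2 := hP.2 ⟨hP''p, Ideal.map_le_iff_le_comap.2 hP''o.over.le⟩ hP''le
      exact (Ideal.comap_mono h2).trans hP''o.over.ge
    refine ⟨P, hPp, ‹_›, ?_⟩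
    haveI : IsLocalRing (Localization.AtPrime P) := inferInstance
    haveI : Nontrivial (EGA4.FibLocRing S (S ⊗[k] K) P) := Ideal.Quotient.nontrivial_iff.2 fun he => by
      have hle : (P.comap (algebraMap S (S ⊗[k] K))).map (algebraMap S (Localization.AtPrime P)) ≤
          IsLocalRing.maximalIdeal (Localization.AtPrime P) := by
        rw [IsScalarTower.algebraMap_eq S (S ⊗[k] K) (Localization.AtPrime P), ← Ideal.map_map,
          ← Localization.AtPrime.map_eq_maximalIdeal]
        exact Ideal.map_mono Ideal.map_comap_le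
      exact (IsLocalRing.maximalIdeal.isMaximal _).ne_top (top_le_iff.1 (he ▸ hle))
    haveI : Ring.KrullDimLE 0 (EGA4.FibLocRing S (S ⊗[k] K) P) :=
      Ring.KrullDimLE.mk₀ fun J hJ => by
        haveI := hJ
        let φ := (Ideal.Quotient.mk ((P.comap (algebraMap S (S ⊗[k] K))).map
          (algebraMap S (Localization.AtPrime P))))
        have hJ' : J.comap φ = IsLocalRing.maximalIdeal (Localization.AtPrime P) := by
          refine le_antisymm (IsLocalRing.le_maximalIdeal (Ideal.IsPrime.comap φ).ne_top) ?_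
          rw [← Localization.AtPrime.map_eq_maximalIdeal, Ideal.map_le_iff_le_comap]
          refine hP.2 ⟨inferInstance, Ideal.map_le_iff_le_comap.2 fun s hs => ?_⟩ ?_
          · rw [Ideal.mem_comap, Ideal.mem_comap, Ideal.mem_comap, ← IsScalarTower.algebraMap_apply,
              Ideal.Quotient.eq_zero_iff_mem.2 (Ideal.mem_map_of_mem _ ?_)]
            · exact zero_mem _
            · exact (SetLike.ext_iff.1 (Ideal.LiesOver.over (p := q) (P := P)) s).1 hs
          · intro y hy
            by_contra hyP
            exact (Ideal.IsPrime.comap φ : (J.comap φ).IsPrime).ne_top (Ideal.eq_top_of_isUnit_mem _ hy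
              (IsLocalization.map_units _ (⟨y, hyP⟩ : P.primeCompl)))
        have he := Ideal.map_comap_of_surjective φ Ideal.Quotient.mk_surjective J
        rw [hJ'] at he
        rw [← he]
        exact (Ideal.map_eq_top_or_isMaximal_of_surjective φ Ideal.Quotient.mk_surjective
          (IsLocalRing.maximalIdeal.isMaximal _)).resolve_left (he ▸ hJ.ne_top)
    exact ringKrullDimZero_iff_ringKrullDim_eq_zero.1 inferInstance
end Groth.Agent.S9180
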