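import Groth.Statements.S9181
import Mathlib
import Groth.Agent.RelDim.Basic
import Groth.Agent.S2100
-- import your own Groth.Agent.* helpers here

set_option autoImplicit false
universe u
open CAlg

open MvPolynomial

set_option maxHeartbeats 1000000

namespace Groth.Agent.S9181

section

variable {R : Type u} [CommRing R] (p : Ideal R) [p.IsPrime] {n : ℕ}

/-- reduction to the residue field at `p` -/
noncomputable abbrev μ (n : ℕ) : MvPolynomial (Fin n) R →+* MvPolynomial (Fin n) p.ResidueField :=
  MvPolynomial.map (algebraMap R p.ResidueField)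

theorem algebraMap_ne_zero {c : R} (hc : c ∉ p) : algebraMap R p.ResidueField c ≠ 0 :=
  fun h => hc (Ideal.algebraMap_residueField_eq_zero.1 h)

theorem exists_mul_map (a : MvPolynomial (Fin n) p.ResidueField) :
    ∃ c : R, c ∉ p ∧ ∃ b : MvPolynomial (Fin n) R, μ p n (C c) * a = μ p n b := by
  induction a using MvPolynomial.induction_on with
  | C x =>
    obtain ⟨a, s, hs, rfl⟩ := IsFractionRing.div_surjective (R ⧸ p) x
    obtain ⟨a, rfl⟩ := Ideal.Quotient.mk_surjective a
    obtain ⟨s, rfl⟩ := Ideal.Quotient.mk_surjective s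
    have hs' : s ∉ p := fun h => nonZeroDivisors.ne_zero hs (Ideal.Quotient.eq_zero_iff_mem.2 h)
    refine ⟨s, hs', C a, ?_⟩
    rw [μ, map_C, map_C, ← C_mul]
    congr 1
    show algebraMap R p.ResidueField s * (algebraMap R p.ResidueField a / algebraMap R p.ResidueField s) = _
    exact mul_div_cancel₀ _ (algebraMap_ne_zero p hs')
  | add f g hf hg =>
    obtain ⟨c, hc, b, hb⟩ := hf
    obtain ⟨d, hd, e, he⟩ := hg
    refine ⟨c * d, fun h => (‹p.IsPrime›.mem_or_mem h).elim hc hd, C d * b + C c * e, ?_⟩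
    simp only [map_mul, map_add, ← hb, ← he]
    ring
  | mul_X f j hf =>
    obtain ⟨c, hc, b, hb⟩ := hf
    refine ⟨c, hc, b * X j, ?_⟩
    rw [← mul_assoc, hb, map_mul]
    simp [μ]

theorem le_of_comap_le {Z Z' : Ideal (MvPolynomial (Fin n) p.ResidueField)} [Z'.IsPrime]
    (h : Z.comap (μ p n) ≤ Z'.comap (μ p n)) : Z ≤ Z' := by
  intro a ha
  obtain ⟨c, hc, b, hb⟩ := exists_mul_map p a
  have hb' : b ∈ Z'.comap (μ p n) := h (by show μ p n b ∈ Z; rw [← hb]; exact Z.mul_mem_left _ ha)
  have : μ p n (C c) * a ∈ Z' := by rw [hb]; exact hb'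
  refine (Ideal.IsPrime.mem_or_mem ‹_› this).resolve_left fun h' => ?_
  refine (‹Z'.IsPrime›).ne_top (Z'.eq_top_of_isUnit_mem h' ?_)
  rw [μ, map_C]
  exact (isUnit_iff_ne_zero.2 (algebraMap_ne_zero p hc)).map C

theorem exists_lift (z : Ideal (MvPolynomial (Fin n) R)) [z.IsPrime] (hz : z.comap C = p) :
    ∃ Z : Ideal (MvPolynomial (Fin n) p.ResidueField), Z.IsPrime ∧ Z.comap (μ p n) = z := by
  haveI : z.LiesOver p := ⟨by rw [Ideal.under, MvPolynomial.algebraMap_eq, hz]⟩
  letI := Localization.AtPrime.algebraOfLiesOver p z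
  let χ : MvPolynomial (Fin n) p.ResidueField →+* z.ResidueField :=
    (aeval fun i => algebraMap (MvPolynomial (Fin n) R) z.ResidueField (X i) :
      MvPolynomial (Fin n) p.ResidueField →ₐ[p.ResidueField] z.ResidueField).toRingHom
  have hχ : χ.comp (μ p n) = algebraMap (MvPolynomial (Fin n) R) z.ResidueField := by
    refine MvPolynomial.ringHom_ext (fun c => ?_) (fun i => ?_)
    · show χ (μ p n (C c)) = _
      rw [μ, map_C]
      simp only [χ, AlgHom.toRingHom_eq_coe, RingHom.coe_coe, aeval_C]
      rw [← IsScalarTower.algebraMap_apply R p.ResidueField z.ResidueField, ← MvPolynomial.algebraMap_eq,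
        ← IsScalarTower.algebraMap_apply R (MvPolynomial (Fin n) R) z.ResidueField]
    · simp [χ, μ]
  refine ⟨RingHom.ker χ, RingHom.ker_isPrime χ, ?_⟩
  rw [RingHom.comap_ker, hχ, Ideal.ker_algebraMap_residueField]

theorem comap_span (s : Fin n → Prop) :
    (Ideal.span (Set.range fun i : {i // s i} => (X i.1 : MvPolynomial (Fin n) p.ResidueField))).comap (μ p n) =
      p.map (algebraMap R (MvPolynomial (Fin n) R)) ⊔
        Ideal.span (Set.range fun i : {i // s i} => (X i.1 : MvPolynomial (Fin n) R)) := by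
  classical
  refine le_antisymm (fun a ha => ?_) (sup_le ?_ (Ideal.span_le.2 ?_))
  · let π : MvPolynomial (Fin n) R →ₐ[R] MvPolynomial (Fin n) R := aeval fun i => if s i then 0 else X i
    let π' : MvPolynomial (Fin n) p.ResidueField →ₐ[p.ResidueField] MvPolynomial (Fin n) p.ResidueField :=
      aeval fun i => if s i then 0 else X i
    have hcomm : (μ p n).comp π.toRingHom = π'.toRingHom.comp (μ p n) := by
      refine MvPolynomial.ringHom_ext (fun c => by simp [π, π', μ]) (fun i => ?_)
      simp only [π, π', μ, RingHom.comp_apply, AlgHom.toRingHom_eq_coe, RingHom.coe_coe, aeval_X, map_X]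
      split_ifs <;> simp
    set J := Ideal.span (Set.range fun i : {i // s i} => (X i.1 : MvPolynomial (Fin n) R))
    have hd : a - π a ∈ J := by
      rw [← Ideal.Quotient.eq]
      suffices Ideal.Quotient.mkₐ R J = (Ideal.Quotient.mkₐ R J).comp π from congr($this a)
      refine MvPolynomial.algHom_ext fun i => ?_
      by_cases hi : s i
      · simpa [π, hi] using Ideal.Quotient.eq_zero_iff_mem.2 (Ideal.subset_span ⟨⟨i, hi⟩, rfl⟩ : X i ∈ J)
      · simp [π, hi]
    have h0 : μ p n (π a) = 0 := by
      have h1 : (μ p n).comp π.toRingHom a = π'.toRingHom.comp (μ p n) a := by rw [hcomm]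
      refine h1.trans ?_
      have h2 : Ideal.span (Set.range fun i : {i // s i} => (X i.1 : MvPolynomial (Fin n) p.ResidueField)) ≤
          RingHom.ker π'.toRingHom := by
        rw [Ideal.span_le]
        rintro _ ⟨⟨i, hi⟩, rfl⟩
        simp [π', hi]
      exact h2 ha
    have h3 : π a ∈ p.map (algebraMap R (MvPolynomial (Fin n) R)) := by
      rw [MvPolynomial.algebraMap_eq, mem_map_C_iff]
      intro m
      rw [← Ideal.algebraMap_residueField_eq_zero, ← coeff_map]
      show coeff m (μ p n (π a)) = 0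
      rw [h0, coeff_zero]
    have := add_mem (Ideal.mem_sup_right (S := p.map (algebraMap R (MvPolynomial (Fin n) R))) hd)
      (Ideal.mem_sup_left (T := J) h3)
    rwa [sub_add_cancel] at this
  · rw [Ideal.map_le_iff_le_comap]
    intro c hc
    rw [Ideal.mem_comap, Ideal.mem_comap]
    rw [MvPolynomial.algebraMap_eq, μ, map_C, Ideal.algebraMap_residueField_eq_zero.2 hc, map_zero]
    exact zero_mem _
  · rintro _ ⟨i, rfl⟩
    rw [SetLike.mem_coe, Ideal.mem_comap]
    rw [μ, map_X]
    exact Ideal.subset_span ⟨i, rfl⟩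

/-- a polynomial map which is finite on the fibre over `p` is quasi-finite at the primes over `p` -/
theorem quasiFiniteAt_of_fibre {m : ℕ} (θ : MvPolynomial (Fin m) R →ₐ[R] MvPolynomial (Fin n) R)
    (θb : MvPolynomial (Fin m) p.ResidueField →+* MvPolynomial (Fin n) p.ResidueField) (hθb : θb.Finite)
    (hcomp : θb.comp (μ p m) = (μ p n).comp θ.toRingHom)
    (z : Ideal (MvPolynomial (Fin n) R)) [z.IsPrime] (hz : z.comap C = p) :
    ((algebraMap (MvPolynomial (Fin n) R) (Localization.AtPrime z)).comp θ.toRingHom).QuasiFinite := by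
  let Q := MvPolynomial (Fin m) R
  let P := MvPolynomial (Fin n) R
  let Qk := MvPolynomial (Fin m) p.ResidueField
  let Pk := MvPolynomial (Fin n) p.ResidueField
  letI aP : Algebra Q P := θ.toRingHom.toAlgebra
  haveI : IsScalarTower R Q P := IsScalarTower.of_algHom θ
  haveI : Algebra.FiniteType Q P := Algebra.FiniteType.of_restrictScalars_finiteType R Q P
  let x : PrimeSpectrum P := ⟨z, inferInstance⟩
  let y : PrimeSpectrum Q := PrimeSpectrum.comap θ.toRingHom x
  let Fib := PrimeSpectrum.comap θ.toRingHom ⁻¹' {y}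
  have hC : θ.toRingHom.comp C = C := θ.comp_algebraMap
  have hover : ∀ w : Fib, w.1.asIdeal.comap C = p := fun w => by
    have h1 : w.1.asIdeal.comap θ.toRingHom = z.comap θ.toRingHom := congrArg PrimeSpectrum.asIdeal w.2
    have h2 := congrArg (Ideal.comap C) h1
    rw [Ideal.comap_comap, Ideal.comap_comap, hC] at h2
    exact h2.trans hz
  choose L hLp hLc using fun w : Fib => exists_lift p w.1.asIdeal (hover w)
  let ι : Fib → PrimeSpectrum Pk := fun w => ⟨L w, hLp w⟩
  have hι : Function.Injective ι := fun a b hab => Subtype.ext (PrimeSpectrum.ext (by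
    rw [← hLc a, ← hLc b, show L a = L b from congrArg PrimeSpectrum.asIdeal hab]))
  have hle : ∀ a b : Fib, a.1 ≤ b.1 → ι a ≤ ι b := fun a b hab => by
    haveI := hLp b
    refine le_of_comap_le p ?_
    rw [hLc, hLc]
    exact hab
  have hιF : ∀ a b : Fib, PrimeSpectrum.comap θb (ι a) = PrimeSpectrum.comap θb (ι b) := by
    have h3 : ∀ a : Fib, (PrimeSpectrum.comap θb (ι a)).asIdeal.comap (μ p m) = y.asIdeal := fun a => by
      show ((L a).comap θb).comap (μ p m) = _
      rw [Ideal.comap_comap, hcomp, ← Ideal.comap_comap, hLc]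
      exact congrArg PrimeSpectrum.asIdeal a.2
    intro a b
    exact PrimeSpectrum.ext (le_antisymm (le_of_comap_le p ((h3 a).trans (h3 b).symm).le)
      (le_of_comap_le p ((h3 b).trans (h3 a).symm).le))
  letI aPk : Algebra Qk Pk := θb.toAlgebra
  haveI : Module.Finite Qk Pk := hθb
  let x0 : Fib := ⟨x, rfl⟩
  have hfin : Finite Fib := by
    have := (Algebra.QuasiFinite.finite_comap_preimage_singleton (R := Qk) (S := Pk)
      (PrimeSpectrum.comap θb (ι x0))).to_subtype
    exact Finite.of_injective (fun w => (⟨ι w, hιF w x0⟩ :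
      (PrimeSpectrum.comap (algebraMap Qk Pk) ⁻¹' {PrimeSpectrum.comap θb (ι x0)} : Set _)))
      fun a b h => hι (congrArg Subtype.val h)
  haveI : T1Space Fib := by
    rw [t1Space_iff_specializes_imp_eq]
    intro a b hab
    have h1 : a.1 ≤ b.1 := (PrimeSpectrum.le_iff_specializes _ _).2 (hab.map continuous_subtype_val)
    refine hι (PrimeSpectrum.ext (Algebra.QuasiFinite.eq_of_le_of_under_eq (R := Qk) (ι a).asIdeal
      (ι b).asIdeal (hle a b h1) ?_))
    exact congrArg PrimeSpectrum.asIdeal (hιF a b)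
  have h := Algebra.QuasiFiniteAt.of_isOpen_singleton_fiber (R := Q) x (isOpen_discrete _)
  rw [← RingHom.algebraMap_toAlgebra θ.toRingHom, ← IsScalarTower.algebraMap_eq, RingHom.quasiFinite_algebraMap]
  exact h

theorem trdeg_range {k A K : Type u} [Field k] [CommRing A] [IsDomain A] [Field K] [Algebra k A] [Algebra k K]
    [Algebra A K] [IsScalarTower k A K] [FaithfulSMul A K] [Algebra.IsAlgebraic A K] :
    Algebra.trdeg k A = Algebra.trdeg k K := by
  haveI : FaithfulSMul k A := (faithfulSMul_iff_algebraMap_injective k A).2 (RingHom.injective _)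
  rw [← trdeg_add_eq k A (A := K), trdeg_eq_zero (R := A) (A := K), add_zero]

variable {S : Type u} [CommRing S] [Algebra R S] (q : Ideal S) [q.IsPrime]

/-- the evaluation of a localization at the residue field of `q` -/
noncomputable def toκ (g : S) (hg : g ∉ q) : Localization.Away g →+* q.ResidueField :=
  IsLocalization.Away.lift g (g := algebraMap S q.ResidueField)
    (isUnit_iff_ne_zero.2 fun h => hg (Ideal.algebraMap_residueField_eq_zero.1 h))

theorem toκ_comp (g : S) (hg : g ∉ q) :
    (toκ q g hg).comp (algebraMap S (Localization.Away g)) = algebraMap S q.ResidueField :=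
  IsLocalization.Away.lift_comp g _

theorem toκ_apply (g : S) (hg : g ∉ q) (s : S) :
    toκ q g hg (algebraMap S (Localization.Away g) s) = algebraMap S q.ResidueField s :=
  congr($(toκ_comp q g hg) s)

theorem ker_toκ (g : S) (hg : g ∉ q) :
    RingHom.ker (toκ q g hg) = q.map (algebraMap S (Localization.Away g)) := by
  conv_lhs => rw [← IsLocalization.map_comap (Submonoid.powers g) (Localization.Away g) (RingHom.ker (toκ q g hg))]
  rw [Ideal.under, RingHom.comap_ker, toκ_comp, Ideal.ker_algebraMap_residueField]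

end

section Generic

theorem trdeg_quotient_ker {k P Pk T K : Type u} [Field k] [CommRing P] [CommRing Pk] [Algebra k Pk]
    [CommRing T] [Field K] [Algebra k K] (μ' : P →+* Pk) (χ : Pk →ₐ[k] K) (φ : P →+* T) (l : T →+* K)
    (hφ : φ.QuasiFinite) (hcomp : χ.toRingHom.comp μ' = l.comp φ)
    (hfrac : ∀ x : K, ∃ a s : T, l s ≠ 0 ∧ l a = x * l s) :
    Algebra.trdeg k (Pk ⧸ RingHom.ker χ.toRingHom) = Algebra.trdeg k K := by
  haveI : (RingHom.ker χ.toRingHom).IsPrime := RingHom.ker_isPrime _
  let A := Pk ⧸ RingHom.ker χ.toRingHom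
  let χA : A →ₐ[k] K := Ideal.Quotient.liftₐ _ χ fun a ha => ha
  have hinj : Function.Injective χA := RingHom.kerLift_injective χ.toRingHom
  letI := χA.toRingHom.toAlgebra
  haveI : IsScalarTower k A K := IsScalarTower.of_algHom χA
  haveI : FaithfulSMul A K := (faithfulSMul_iff_algebraMap_injective A K).2 hinj
  let F := FractionRing A
  letI : Algebra F K := FractionRing.liftAlgebra A K
  letI : Algebra P T := φ.toAlgebra
  haveI : Algebra.QuasiFinite P T := hφ
  letI : Algebra P A := ((Ideal.Quotient.mk _).comp μ').toAlgebra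
  letI : Algebra P K := (l.comp φ).toAlgebra
  haveI : IsScalarTower P F K := IsScalarTower.of_algebraMap_eq fun a => by
    rw [IsScalarTower.algebraMap_apply P A F, ← IsScalarTower.algebraMap_apply A F K]
    exact (congr($hcomp a)).symm
  let lAlg : T →ₐ[P] K := { l with commutes' := fun _ => rfl }
  haveI : Algebra.QuasiFinite P K := Algebra.QuasiFinite.of_forall_exists_mul_mem_range lAlg fun x => by
    obtain ⟨a, s, hs, ha⟩ := hfrac x
    exact ⟨s, isUnit_iff_ne_zero.2 hs, a, ha⟩
  haveI : Algebra.QuasiFinite F K := Algebra.QuasiFinite.of_restrictScalars P F K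
  haveI : Module.Finite F K := Module.Finite.of_quasiFinite
  haveI : Algebra.IsAlgebraic A F := IsLocalization.isAlgebraic _ (nonZeroDivisors A)
  haveI : Algebra.IsAlgebraic A K := Algebra.IsAlgebraic.trans A F K
  exact trdeg_range

theorem qf_comp_at {Q P T : Type u} [CommRing Q] [CommRing P] [CommRing T] (θ : Q →+* P) (φ : P →+* T)
    (z : Ideal T) [z.IsPrime] (P1 : Ideal P) [P1.IsPrime] (hP1 : P1 = z.comap φ)
    (hθ : ((algebraMap P (Localization.AtPrime P1)).comp θ).QuasiFinite) (hφ : φ.QuasiFinite) :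
    ((algebraMap T (Localization.AtPrime z)).comp (φ.comp θ)).QuasiFinite := by
  let f2 := Localization.localRingHom P1 z φ hP1
  have e0 : f2.comp (algebraMap P (Localization.AtPrime P1)) = (algebraMap T (Localization.AtPrime z)).comp φ :=
    RingHom.ext (Localization.localRingHom_to_map P1 z φ hP1)
  have h2 : f2.QuasiFinite := by
    refine RingHom.QuasiFinite.of_comp (g := algebraMap P (Localization.AtPrime P1)) ?_
    rw [e0]
    refine RingHom.QuasiFinite.comp ?_ hφ
    rw [RingHom.quasiFinite_algebraMap]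
    exact Algebra.QuasiFinite.of_isLocalization z.primeCompl
  have h3 := h2.comp hθ
  rwa [← RingHom.comp_assoc, e0, RingHom.comp_assoc] at h3

end Generic

section Rescale

variable {R k : Type u} [CommRing R] [Field k] {n : ℕ}

theorem scale_comp (u v : Fin n → k) (h : ∀ i, v i * u i = 1) (a : MvPolynomial (Fin n) k) :
    aeval (fun i => C (u i) * X i) (aeval (fun i => C (v i) * X i) a : MvPolynomial (Fin n) k) = a := by
  suffices (aeval (fun i => C (u i) * X i)).comp (aeval (fun i => C (v i) * X i) :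
      MvPolynomial (Fin n) k →ₐ[k] MvPolynomial (Fin n) k) = AlgHom.id k _ from congr($this a)
  refine MvPolynomial.algHom_ext fun i => ?_
  rw [AlgHom.comp_apply, aeval_X, map_mul, aeval_C, aeval_X, MvPolynomial.algebraMap_eq, ← mul_assoc, ← C_mul,
    h i, C_1, one_mul, AlgHom.id_apply]

theorem scale_span_le (u : Fin n → k) (s : Fin n → Prop) :
    Ideal.span (Set.range fun i : {i // s i} => (X i.1 : MvPolynomial (Fin n) k)) ≤
      (Ideal.span (Set.range fun i : {i // s i} => (X i.1 : MvPolynomial (Fin n) k))).comap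
        (aeval (fun i => C (u i) * X i) : MvPolynomial (Fin n) k →ₐ[k] MvPolynomial (Fin n) k) := by
  rw [Ideal.span_le]
  rintro _ ⟨i, rfl⟩
  rw [SetLike.mem_coe, Ideal.mem_comap, aeval_X]
  exact Ideal.mul_mem_left _ _ (Ideal.subset_span (Set.mem_range_self i))

theorem rescale_aux (f : R →+* k) (I : Ideal (MvPolynomial (Fin n) k))
    (φ' : MvPolynomial (Fin n) k →ₐ[k] MvPolynomial (Fin n) k) (hφ' : φ'.toRingHom.Finite) (s : Fin n → Prop)
    (hI : I.comap φ' = Ideal.span (Set.range fun i : {i // s i} => (X i.1 : MvPolynomial (Fin n) k)))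
    (u : Fin n → k) (hu : ∀ i, u i ≠ 0) (b : Fin n → MvPolynomial (Fin n) R)
    (hb : ∀ i, MvPolynomial.map f (b i) = C (u i) * φ' (X i)) :
    ∃ (θ : MvPolynomial (Fin n) R →ₐ[R] MvPolynomial (Fin n) R)
      (θb : MvPolynomial (Fin n) k →+* MvPolynomial (Fin n) k),
      θb.Finite ∧ θb.comp (MvPolynomial.map f) = (MvPolynomial.map f).comp θ.toRingHom ∧
        I.comap θb = Ideal.span (Set.range fun i : {i // s i} => (X i.1 : MvPolynomial (Fin n) k)) := by
  let σ : MvPolynomial (Fin n) k →ₐ[k] MvPolynomial (Fin n) k := aeval fun i => C (u i) * X i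
  refine ⟨aeval b, (φ'.comp σ).toRingHom, RingHom.Finite.comp hφ' (RingHom.Finite.of_surjective _ fun a => ?_), ?_, ?_⟩
  · exact ⟨_, scale_comp u (fun i => (u i)⁻¹) (fun i => inv_mul_cancel₀ (hu i)) a⟩
  · refine MvPolynomial.ringHom_ext (fun c => ?_) (fun i => ?_)
    · show φ' (σ (map f (C c))) = map f (aeval b (C c))
      rw [map_C, aeval_C, aeval_C, MvPolynomial.algebraMap_eq, MvPolynomial.algebraMap_eq, map_C]
      exact φ'.commutes _
    · show φ' (σ (map f (X i))) = map f (aeval b (X i))
      rw [map_X, aeval_X, aeval_X, hb, map_mul]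
      congr 1
      exact φ'.commutes _
  · show I.comap ((φ' : MvPolynomial (Fin n) k →+* MvPolynomial (Fin n) k).comp (σ : MvPolynomial (Fin n) k →+* MvPolynomial (Fin n) k)) = _
    rw [← Ideal.comap_comap]
    refine (congrArg (Ideal.comap (σ : MvPolynomial (Fin n) k →+* MvPolynomial (Fin n) k)) hI).trans
      (le_antisymm (fun a ha => ?_) (scale_span_le u s))
    have := scale_span_le (fun i => (u i)⁻¹) s ha
    rw [Ideal.mem_comap] at this
    have e := scale_comp (fun i => (u i)⁻¹) u (fun i => mul_inv_cancel₀ (hu i)) a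
    exact e ▸ this

end Rescale

section

variable {R : Type u} [CommRing R] (p : Ideal R) [p.IsPrime] {n : ℕ}

theorem rescale (I : Ideal (MvPolynomial (Fin n) p.ResidueField))
    (φ' : MvPolynomial (Fin n) p.ResidueField →ₐ[p.ResidueField] MvPolynomial (Fin n) p.ResidueField)
    (hφ' : φ'.toRingHom.Finite) (r : ℕ)
    (hI : I.comap φ' = Ideal.span (Set.range fun i : {i : Fin n // r ≤ (i : ℕ)} => X (i : Fin n))) :
    ∃ (θ : MvPolynomial (Fin n) R →ₐ[R] MvPolynomial (Fin n) R)
      (θb : MvPolynomial (Fin n) p.ResidueField →+* MvPolynomial (Fin n) p.ResidueField),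
      θb.Finite ∧ θb.comp (μ p n) = (μ p n).comp θ.toRingHom ∧
        I.comap θb = Ideal.span (Set.range fun i : {i : Fin n // r ≤ (i : ℕ)} => X (i : Fin n)) := by
  choose c hc b hb using fun i : Fin n => exists_mul_map p (φ' (X i))
  exact rescale_aux (algebraMap R p.ResidueField) I φ' hφ' (fun i : Fin n => r ≤ (i : ℕ)) hI
    (fun i => algebraMap R p.ResidueField (c i)) (fun i => algebraMap_ne_zero p (hc i)) b
    (fun i => by rw [← hb i, μ, map_C])

variable {S : Type u} [CommRing S] [Algebra R S] (q : Ideal S) [q.IsPrime]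

theorem shrink [Algebra.FiniteType R S] (g : S) (hg : g ∉ q)
    (ψ : MvPolynomial (Fin n) R →ₐ[R] Localization.Away g) (qT : Ideal (Localization.Away g)) [qT.IsPrime]
    (hqT : qT = RingHom.ker (toκ q g hg))
    (hqf : ((algebraMap (Localization.Away g) (Localization.AtPrime qT)).comp ψ.toRingHom).QuasiFinite) :
    ∃ (g' : S) (hg' : g' ∉ q) (ψ' : MvPolynomial (Fin n) R →ₐ[R] Localization.Away g'),
      ψ'.toRingHom.FiniteType ∧ ψ'.toRingHom.QuasiFinite ∧
      (toκ q g' hg').comp ψ'.toRingHom = (toκ q g hg).comp ψ.toRingHom := by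
  let P := MvPolynomial (Fin n) R
  let T := Localization.Away g
  letI algψ : Algebra P T := ψ.toRingHom.toAlgebra
  haveI : IsScalarTower R P T := IsScalarTower.of_algHom ψ
  haveI : Algebra.FiniteType R T := Algebra.FiniteType.trans (S := S) ‹_›
    (IsLocalization.finiteType_of_monoid_fg (Submonoid.powers g) _)
  haveI : Algebra.FiniteType P T := Algebra.FiniteType.of_restrictScalars_finiteType R P T
  have hqfψ : Algebra.QuasiFiniteAt P qT := by
    rw [Algebra.QuasiFiniteAt, ← RingHom.quasiFinite_algebraMap, IsScalarTower.algebraMap_eq P T]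
    exact hqf
  obtain ⟨_, ⟨g1, rfl⟩, hg1, hg1sub⟩ := PrimeSpectrum.isTopologicalBasis_basic_opens.exists_subset_of_mem_open
    (show (⟨qT, inferInstance⟩ : PrimeSpectrum T) ∈ {z : PrimeSpectrum T | Algebra.QuasiFiniteAt P z.asIdeal}
      from hqfψ) Hensel.isOpen_quasiFiniteAt
  obtain ⟨a, ⟨_, k, rfl⟩, ha⟩ := IsLocalization.exists_mk'_eq (Submonoid.powers g) g1
  have hbo' : PrimeSpectrum.basicOpen (algebraMap S T a) = PrimeSpectrum.basicOpen g1 := by
    rw [← ha, ← IsLocalization.mk'_spec (M := Submonoid.powers g) T a ⟨g ^ k, k, rfl⟩, mul_comm]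
    exact RelDim.basicOpen_unit_mul (IsLocalization.map_units T (⟨g ^ k, k, rfl⟩ : Submonoid.powers g)) _
  have haq : a ∉ q := fun hm => by
    have h4 : (⟨qT, inferInstance⟩ : PrimeSpectrum T) ∈ PrimeSpectrum.basicOpen (algebraMap S T a) := hbo' ▸ hg1
    refine h4 ?_
    show algebraMap S T a ∈ qT
    rw [hqT, RingHom.mem_ker, toκ_apply]
    exact Ideal.algebraMap_residueField_eq_zero.2 hm
  let a' := algebraMap S T a
  have hQF : Algebra.QuasiFinite P (Localization.Away a') := Hensel.quasiFinite_away_of_forall a' fun z =>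
    hg1sub (show PrimeSpectrum.comap (algebraMap T (Localization.Away a')) z ∈ PrimeSpectrum.basicOpen g1 by
      rw [← hbo']
      exact (PrimeSpectrum.localization_away_comap_range (Localization.Away a') a').le ⟨z, rfl⟩)
  let e : Localization.Away a' ≃ₐ[S] Localization.Away (g * a) :=
    IsLocalization.algEquiv (Submonoid.powers (g * a)) _ _
  let ψ2 : P →ₐ[R] Localization.Away (g * a) :=
    ((e.toAlgHom.restrictScalars R).comp (IsScalarTower.toAlgHom R T (Localization.Away a'))).comp ψ
  have hga : g * a ∉ q := fun h => (‹q.IsPrime›.mem_or_mem h).elim hg haq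
  refine ⟨g * a, hga, ψ2, ?_, ?_, ?_⟩
  · have h1 : (algebraMap R (Localization.Away (g * a))).FiniteType := by
      rw [RingHom.finiteType_algebraMap]
      exact Algebra.FiniteType.trans (S := S) ‹_› (IsLocalization.finiteType_of_monoid_fg (Submonoid.powers (g * a)) _)
    rw [← ψ2.comp_algebraMap] at h1
    exact RingHom.FiniteType.of_comp_finiteType h1
  · letI : Algebra P (Localization.Away (g * a)) := ψ2.toRingHom.toAlgebra
    exact (Algebra.QuasiFinite.iff_of_algEquiv (AlgEquiv.ofRingEquiv (f := e.toRingEquiv) fun _ => rfl :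
      Localization.Away a' ≃ₐ[P] Localization.Away (g * a))).1 hQF
  · have h5 : (toκ q (g * a) hga).comp
        ((e.toAlgHom.restrictScalars R).comp (IsScalarTower.toAlgHom R T (Localization.Away a'))).toRingHom =
          toκ q g hg := by
      refine IsLocalization.ringHom_ext (Submonoid.powers g) (RingHom.ext fun s => ?_)
      show toκ q (g * a) hga (e (algebraMap T (Localization.Away a') (algebraMap S T s))) = toκ q g hg (algebraMap S T s)
      rw [← IsScalarTower.algebraMap_apply S T (Localization.Away a'), AlgEquiv.commutes, toκ_apply, toκ_apply]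
    rw [← h5]
    rfl

theorem core [Algebra.FiniteType R S] [q.LiesOver p]
    [Algebra (Localization.AtPrime p) (Localization.AtPrime q)]
    [Localization.AtPrime.IsLiesOverAlgebra p q] (g : S) (hg : g ∉ q)
    (φ : MvPolynomial (Fin n) R →ₐ[R] Localization.Away g) (hφ : φ.toRingHom.QuasiFinite)
    (r : ℕ) (hr : Algebra.trdeg p.ResidueField q.ResidueField = r) :
    ∃ (g' : S) (hg' : g' ∉ q) (ψ : MvPolynomial (Fin n) R →ₐ[R] Localization.Away g'),
      ψ.toRingHom.FiniteType ∧ ψ.toRingHom.QuasiFinite ∧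
      RingHom.ker ((toκ q g' hg').comp ψ.toRingHom) =
          p.map (algebraMap R (MvPolynomial (Fin n) R)) ⊔
            Ideal.span (Set.range fun i : {i : Fin n // r ≤ (i : ℕ)} => (X (i : Fin n) : MvPolynomial (Fin n) R)) := by
  classical
  let K := q.ResidueField
  let P := MvPolynomial (Fin n) R
  let Pk := MvPolynomial (Fin n) p.ResidueField
  let T := Localization.Away g
  let l := toκ q g hg
  let χ : Pk →ₐ[p.ResidueField] K := aeval fun i => l (φ (X i))
  have hRK : ∀ c : R, algebraMap p.ResidueField K (algebraMap R p.ResidueField c) =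
      algebraMap S K (algebraMap R S c) := fun c => by
    rw [← IsScalarTower.algebraMap_apply R p.ResidueField K, ← IsScalarTower.algebraMap_apply R S K]
  have hχ : χ.toRingHom.comp (μ p n) = l.comp φ.toRingHom := by
    refine MvPolynomial.ringHom_ext (fun c => ?_) (fun i => ?_)
    swap
    · show χ (μ p n (X i)) = _
      rw [μ, map_X]
      exact aeval_X _ i
    show χ (μ p n (C c)) = l (φ (C c))
    rw [μ, map_C, ← MvPolynomial.algebraMap_eq, ← MvPolynomial.algebraMap_eq, AlgHom.commutes, AlgHom.commutes,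
      hRK, IsScalarTower.algebraMap_apply R S T, toκ_apply]
  haveI : (RingHom.ker χ.toRingHom).IsPrime := RingHom.ker_isPrime _
  have hfrac : ∀ x : K, ∃ a s : T, l s ≠ 0 ∧ l a = x * l s := fun x => by
    obtain ⟨a, s, hs, rfl⟩ := IsFractionRing.div_surjective (S ⧸ q) x
    obtain ⟨a, rfl⟩ := Ideal.Quotient.mk_surjective a
    obtain ⟨s, rfl⟩ := Ideal.Quotient.mk_surjective s
    have hs' : algebraMap S K s ≠ 0 := fun h => nonZeroDivisors.ne_zero hs
      (Ideal.Quotient.eq_zero_iff_mem.2 (Ideal.algebraMap_residueField_eq_zero.1 h))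
    refine ⟨algebraMap S T a, algebraMap S T s, by rw [toκ_apply]; exact hs', ?_⟩
    show l _ = (algebraMap S K a / algebraMap S K s) * l _
    rw [toκ_apply, toκ_apply, div_mul_cancel₀ _ hs']
  have hAK := trdeg_quotient_ker (μ p n) χ φ.toRingHom l hφ hχ hfrac
  obtain ⟨φ', hφ', hφ'c⟩ := S2100.main n r (RingHom.ker χ.toRingHom) (hAK.trans hr)
  obtain ⟨θ, θb, hθbfin, hθ, hθI⟩ := rescale p (RingHom.ker χ.toRingHom) φ' hφ' r hφ'c
  let qT := RingHom.ker l
  haveI : qT.IsPrime := RingHom.ker_isPrime _
  let P1 := qT.comap φ.toRingHom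
  haveI : P1.IsPrime := Ideal.IsPrime.comap _
  have hP1 : P1.comap C = p := by
    show ((RingHom.ker l).comap φ.toRingHom).comap C = p
    rw [RingHom.comap_ker, ← hχ, RingHom.comap_ker]
    refine Ideal.ext fun c => ?_
    show χ (μ p n (C c)) = 0 ↔ c ∈ p
    rw [μ, map_C, ← MvPolynomial.algebraMap_eq, AlgHom.commutes, map_eq_zero_iff _ (RingHom.injective _),
      Ideal.algebraMap_residueField_eq_zero]
  have hker : RingHom.ker (l.comp (φ.comp θ).toRingHom) =
      p.map (algebraMap R P) ⊔ Ideal.span (Set.range fun i : {i : Fin n // r ≤ (i : ℕ)} => (X (i : Fin n) : P)) := by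
    rw [← comap_span p (fun i : Fin n => r ≤ (i : ℕ)), ← hθI, Ideal.comap_comap, hθ, RingHom.comap_ker,
      ← RingHom.comp_assoc, hχ]
    rfl
  have hqf := qf_comp_at θ.toRingHom φ.toRingHom qT P1 rfl (quasiFiniteAt_of_fibre p θ θb hθbfin hθ P1 hP1) hφ
  obtain ⟨g', hg', ψ', h1, h2, h3⟩ := shrink q g hg (φ.comp θ) qT rfl hqf
  exact ⟨g', hg', ψ', h1, h2, by rw [h3]; exact hker⟩

end

end Groth.Agent.S9181

namespace Groth.Agent.S9181

/-- Let R → S be of finite type, q a prime of S over p, Q the prime of κ(p) ⊗ S over q, with the fibre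
of local dimension n at Q and κ(q) of transcendence degree r over κ(p). Then for some f ∉ p and g ∉
q there is an R-algebra map φ : R_f[x_1, …, x_n] → S_g, of finite type and quasi-finite, such that
the inverse image of q S_g under φ is the ideal generated by p and the variables x_{r+1}, …, x_n. -/
theorem result (R S : Type u) [CommRing R] [CommRing S]
    [Algebra R S] [Algebra.FiniteType R S] (p : Ideal R) [p.IsPrime] (q : Ideal S) [q.IsPrime] [q.LiesOver p]
    [Algebra (Localization.AtPrime p) (Localization.AtPrime q)]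
    [Localization.AtPrime.IsLiesOverAlgebra p q] (Q : PrimeSpectrum (p.Fiber S))
    (hQ : Q.asIdeal.comap (Algebra.TensorProduct.includeRight.toRingHom) = q) (n r : ℕ)
    (hdim : FlatMor.localDim (PrimeSpectrum (p.Fiber S)) Q = (n : WithBot ℕ∞))
    (hr : Algebra.trdeg p.ResidueField q.ResidueField = r) :
    ∃ (f : R) (g : S), f ∉ p ∧ g ∉ q ∧
      ∃ φ : MvPolynomial (Fin n) (Localization.Away f) →ₐ[R] Localization.Away g,
        φ.toRingHom.FiniteType ∧ φ.toRingHom.QuasiFinite ∧
        (q.map (algebraMap S (Localization.Away g))).comap φ =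
          p.map (algebraMap R (MvPolynomial (Fin n) (Localization.Away f))) ⊔
            Ideal.span (Set.range fun i : {i : Fin n // r ≤ (i : ℕ)} =>
              (MvPolynomial.X (i : Fin n) : MvPolynomial (Fin n) (Localization.Away f))) := by
  obtain ⟨g, hg, φ, -, hφ⟩ := Groth.Agent.RelDim.exists_quasiFinite p q Q hQ n hdim
  obtain ⟨g', hg', ψ, hft, hqf, hker⟩ := core p q g hg φ hφ r hr
  let e1 : R ≃ₐ[R] Localization.Away (1 : R) := IsLocalization.atUnit R (Localization.Away (1 : R)) 1 isUnit_one
  let ρ : MvPolynomial (Fin n) (Localization.Away (1 : R)) ≃ₐ[R] MvPolynomial (Fin n) R :=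
    MvPolynomial.mapAlgEquiv (Fin n) e1.symm
  refine ⟨1, g', fun h => (‹p.IsPrime›).ne_top ((Ideal.eq_top_iff_one p).2 h), hg', ψ.comp ρ.toAlgHom,
    hft.comp (RingHom.FiniteType.of_surjective _ ρ.surjective),
    hqf.comp (RingHom.QuasiFinite.of_finite (RingHom.Finite.of_surjective _ ρ.surjective)), ?_⟩
  rw [← ker_toκ q g' hg']
  show (RingHom.ker (toκ q g' hg')).comap (ψ.toRingHom.comp ρ.toAlgHom.toRingHom) = _
  rw [← Ideal.comap_comap, RingHom.comap_ker, hker]
  refine (Ideal.comap_symm (I := p.map (algebraMap R (MvPolynomial (Fin n) R)) ⊔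
    Ideal.span (Set.range fun i : {i : Fin n // r ≤ (i : ℕ)} => (MvPolynomial.X (i : Fin n) : MvPolynomial (Fin n) R)))
      ρ.symm.toRingEquiv).trans ?_
  rw [Ideal.map_sup, show Ideal.map ρ.symm.toRingEquiv (p.map (algebraMap R (MvPolynomial (Fin n) R))) =
    p.map ((ρ.symm : MvPolynomial (Fin n) R →+* _).comp (algebraMap R _)) from Ideal.map_map _ _, Ideal.map_span,
    ← Set.range_comp]
  congr 2
  · exact RingHom.ext fun c => ρ.symm.commutes c
  · refine congrArg _ (funext fun i => ?_)
    show ρ.symm (MvPolynomial.X (i : Fin n)) = _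
    rw [AlgEquiv.symm_apply_eq]
    simp [ρ]

end Groth.Agent.S9181
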