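import Groth.Statements.S9182
import Mathlib
import Groth.Agent.H2Cot.Loc
-- import your own Groth.Agent.* helpers here

set_option autoImplicit false
universe u
open CAlg

open TensorProduct Algebra Algebra.Extension

namespace Groth.Agent.S9182

variable {R S : Type u} [CommRing R] [CommRing S] [Algebra R S] {n : ℕ}

noncomputable def spaceEquiv (α : MvPolynomial (Fin n) R →ₐ[R] S) (hα : Function.Surjective α) :
    (Extension.ofSurjective α hα).CotangentSpace ≃ₗ[S] (Fin n → S) :=
  letI := α.toAlgebra
  ((KaehlerDifferential.mvPolynomialBasis R (Fin n)).baseChange S).equivFun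

theorem main (g : S) (n m : ℕ) (α : MvPolynomial (Fin n) R →ₐ[R] S) (hα : Function.Surjective α)
    (β : MvPolynomial (Fin m) R →ₐ[R] Localization.Away g) (hβ : Function.Surjective β) :
    Nonempty ((LocalizedModule (Submonoid.powers g) (Algebra.Extension.ofSurjective α hα).Cotangent ×
        (Fin m → Localization.Away g)) ≃ₗ[Localization.Away g]
      ((Algebra.Extension.ofSurjective β hβ).Cotangent × (Fin n → Localization.Away g))) := by
  classical
  let T := Localization.Away g
  let M : Submonoid S := (IsUnit.submonoid T).comap (algebraMap S T)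
  haveI : IsLocalization M T := by
    refine IsLocalization.isLocalization_of_is_exists_mul_mem (M := Submonoid.powers g) T M
      (fun x hx ↦ IsLocalization.map_units T (⟨x, hx⟩ : Submonoid.powers g)) ?_
    rintro ⟨s, hs⟩
    obtain ⟨t, ht⟩ := (show IsUnit (algebraMap S T s) from hs).exists_left_inv
    obtain ⟨a, k, rfl⟩ := IsLocalization.exists_mk'_eq (Submonoid.powers g) t
    have h : algebraMap S T (a * s) = algebraMap S T k := by
      rw [map_mul]
      rw [← IsLocalization.mk'_spec T a k]
      linear_combination (algebraMap S T k) * ht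
    obtain ⟨c, hc⟩ := IsLocalization.exists_of_eq (M := Submonoid.powers g) h
    exact ⟨(c : S) * a, by rw [mul_assoc, hc]; exact mul_mem c.2 k.2⟩
  let N : Submonoid T := IsUnit.submonoid T
  haveI : IsLocalization N T := IsLocalization.of_le_isUnit (fun x hx ↦ hx)
  let P : Extension.{u} R S := Extension.ofSurjective α hα
  let Q : Extension.{u} R T := Extension.ofSurjective β hβ
  let u' : P.Ring →ₐ[R] Q.Ring :=
    MvPolynomial.aeval fun i ↦ (hβ (algebraMap S T (α (MvPolynomial.X i)))).choose
  let v' : Q.Ring →ₐ[R] Localization (M.comap (algebraMap P.Ring S)) :=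
    MvPolynomial.aeval fun j ↦ (H2Cot.locHom_surjective P M (β (MvPolynomial.X j))).choose
  have hu : ∀ x, algebraMap T T (algebraMap Q.Ring T (u' x)) =
      algebraMap S T (algebraMap P.Ring S x) := by
    have : (β.comp u') = (IsScalarTower.toAlgHom R S T).comp α :=
      MvPolynomial.algHom_ext fun i ↦ by
        change β (MvPolynomial.aeval _ (MvPolynomial.X i)) = algebraMap S T (α (MvPolynomial.X i))
        rw [MvPolynomial.aeval_X]
        exact (hβ (algebraMap S T (α (MvPolynomial.X i)))).choose_spec
    exact fun x ↦ DFunLike.congr_fun this x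
  let uh := H2Cot.locMap P M Q N u' hu (fun y hy ↦ hy)
  have hv : (H2Cot.locHom (T := T) P M).comp v' = β := MvPolynomial.algHom_ext fun j ↦ by
    change H2Cot.locHom P M (MvPolynomial.aeval _ (MvPolynomial.X j)) = β (MvPolynomial.X j)
    rw [MvPolynomial.aeval_X]
    exact (H2Cot.locHom_surjective P M (β (MvPolynomial.X j))).choose_spec
  have hv' : ∀ y : N.comap (algebraMap Q.Ring T), IsUnit (v' y) := by
    rintro ⟨y, hy⟩
    obtain ⟨a, k, hak⟩ := IsLocalization.exists_mk'_eq (M.comap (algebraMap P.Ring S)) (v' y)
    have h1 : IsUnit (H2Cot.locHom (T := T) P M (v' y)) := by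
      rw [← AlgHom.comp_apply, hv]
      exact hy
    have h2 := congrArg (H2Cot.locHom (T := T) P M)
      (IsLocalization.mk'_spec (Localization (M.comap (algebraMap P.Ring S))) a k)
    rw [hak, map_mul] at h2
    have h3 : IsUnit (algebraMap S T (algebraMap P.Ring S a)) := by
      have e : ∀ x, H2Cot.locHom (T := T) P M (algebraMap P.Ring _ x) =
          algebraMap S T (algebraMap P.Ring S x) := fun x ↦ (H2Cot.toLoc T P M).algebraMap_toRingHom x
      rw [← e, ← h2, e]
      exact h1.mul (show IsUnit (algebraMap S T (algebraMap P.Ring S k)) from k.2)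
    show IsUnit (v' y)
    rw [← hak, IsLocalization.mk'_eq_mul_mk'_one]
    exact (IsLocalization.map_units _ (⟨a, h3⟩ : M.comap (algebraMap P.Ring S))).mul
      (isUnit_iff_exists_inv.mpr ⟨algebraMap P.Ring _ (k : P.Ring), by
        rw [IsLocalization.mk'_spec, map_one]⟩)
  let vl : Localization (N.comap (algebraMap Q.Ring T)) →ₐ[R]
      Localization (M.comap (algebraMap P.Ring S)) :=
    IsLocalization.liftAlgHom (M := N.comap (algebraMap Q.Ring T)) (f := v') hv'
  let vh : (H2Cot.loc T Q N).Hom (H2Cot.loc T P M) :=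
    Extension.Hom.ofAlgHom (P := H2Cot.loc T Q N) (P' := H2Cot.loc T P M) vl (by
      have key : (H2Cot.locHom (T := T) P M).comp vl = H2Cot.locHom (T := T) Q N := by
        refine IsLocalization.algHom_ext (N.comap (algebraMap Q.Ring T)) ?_
        ext x
        have := DFunLike.congr_fun hv x
        simp [vl, H2Cot.locHom, Algebra.algHom, IsScalarTower.toAlgHom] at this ⊢
        exact this
      exact key)
  obtain ⟨e⟩ := H2Cot.exists_equiv uh vh
  obtain ⟨⟨eP⟩, ⟨eP'⟩⟩ := H2Cot.nonempty_cotangentEquiv T P M
  obtain ⟨⟨eQ⟩, ⟨eQ'⟩⟩ := H2Cot.nonempty_cotangentEquiv T Q N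
  let a1 := ((LocalizedModule.equivTensorProduct (Submonoid.powers g) P.Cotangent).trans eP).prodCongr
    ((spaceEquiv β hβ).symm.trans ((TensorProduct.lid T Q.CotangentSpace).symm.trans eQ'))
  let a2 := (eQ.symm.trans (TensorProduct.lid T Q.Cotangent)).prodCongr
    (eP'.symm.trans ((LinearEquiv.baseChange S T _ _ (spaceEquiv α hα)).trans
      (TensorProduct.piScalarRight S T T (Fin n))))
  exact ⟨a1.trans (e.trans a2)⟩

end Groth.Agent.S9182

namespace Groth.Agent.S9182

/-- For presentations α : R[x_1, …, x_n] → S and β : R[y_1, …, y_m] → S_g (g ∈ S) with kernels I and J,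
the S_g-modules (I/I²)_g ⊕ S_g^m and J/J² ⊕ S_g^n are isomorphic. -/
theorem result (R S : Type u) [CommRing R] [CommRing S] [Algebra R S]
    (g : S) (n m : ℕ) (α : MvPolynomial (Fin n) R →ₐ[R] S) (hα : Function.Surjective α)
    (β : MvPolynomial (Fin m) R →ₐ[R] Localization.Away g) (hβ : Function.Surjective β) :
    Nonempty ((LocalizedModule (Submonoid.powers g) (Algebra.Extension.ofSurjective α hα).Cotangent ×
        (Fin m → Localization.Away g)) ≃ₗ[Localization.Away g]
      ((Algebra.Extension.ofSurjective β hβ).Cotangent × (Fin n → Localization.Away g))) := by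
  exact Groth.Agent.S9182.main g n m α hα β hβ

end Groth.Agent.S9182
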