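import Groth.Statements.S9185
import Mathlib.RingTheory.TensorProduct.Basic
import Groth.Agent.DiffOp.Basic

set_option autoImplicit false
universe u
open Diff16

namespace Groth.Agent.S9185

/-- For a ring map R → S, an S-module M and k ≥ 0 there is an S-module P together with a differential
operator D : M → P of order at most k (relative to R → S) such that every differential operator of
order at most k from M to an S-module N is α ∘ D for a unique S-linear map α : P → N; that is,
differential operators of order ≤ k out of M are represented by P. (Target modules N are taken in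
the same universe.) -/
theorem result (R S : Type u) [CommRing R] [CommRing S] [Algebra R S] (M : Type u)
    [AddCommGroup M] [Module S M] [Module R M] [IsScalarTower R S M] (k : ℕ) :
    ∃ (P : Type u) (_ : AddCommGroup P) (_ : Module S P) (_ : Module R P) (_ : IsScalarTower R S P)
      (D : M →ₗ[R] P), Diff16.IsDiffOpLE R S M P k D ∧
        ∀ (N : Type u) [AddCommGroup N] [Module S N] [Module R N] [IsScalarTower R S N] (D' : M →ₗ[R] N),
          Diff16.IsDiffOpLE R S M N k D' → ∃! α : P →ₗ[S] N, α.restrictScalars R ∘ₗ D = D' := by
  classical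
  let K : Submodule S (TensorProduct R S M) := Submodule.span S (Set.range fun bt : (Fin (k + 1) → S) × M =>
    ∑ H : Finset (Fin (k + 1)), ((-1 : ℤ) ^ H.card) •
      TensorProduct.tmul R (∏ i ∈ H, bt.1 i) ((∏ i ∈ Hᶜ, bt.1 i) • bt.2))
  let D : M →ₗ[R] (TensorProduct R S M ⧸ K) := K.mkQ.restrictScalars R ∘ₗ TensorProduct.mk R S M 1
  have hD : ∀ (b : S) (m : M), b • D m = Submodule.Quotient.mk (TensorProduct.tmul R b m) := fun b m => by
    change Submodule.Quotient.mk (b • TensorProduct.tmul R (1 : S) m) = _
    rw [TensorProduct.smul_tmul', smul_eq_mul, mul_one]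
  refine ⟨TensorProduct R S M ⧸ K, inferInstance, inferInstance, inferInstance, inferInstance, D, ?_, ?_⟩
  · rw [DiffOp.ord_iff_prod]
    intro b
    ext t
    rw [DiffOp.phi_prod_zeta, LinearMap.zero_apply]
    simp only [hD, ← Submodule.mkQ_apply, ← map_zsmul, ← map_sum]
    exact (Submodule.Quotient.mk_eq_zero K).2 (Submodule.subset_span ⟨(b, t), rfl⟩)
  · intro N _ _ _ _ D' hD'
    have hK : K ≤ LinearMap.ker (LinearMap.liftBaseChange S D') := by
      rw [Submodule.span_le]
      rintro _ ⟨⟨b, t⟩, rfl⟩
      have h0 := LinearMap.congr_fun (DiffOp.ord_iff_prod.1 hD' b) t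
      rw [DiffOp.phi_prod_zeta, LinearMap.zero_apply] at h0
      rw [SetLike.mem_coe, LinearMap.mem_ker, map_sum]
      simpa only [map_zsmul, LinearMap.liftBaseChange_tmul] using h0
    refine ⟨K.liftQ _ hK, ?_, fun β hβ => ?_⟩
    · ext m
      change LinearMap.liftBaseChange S D' (TensorProduct.tmul R (1 : S) m) = D' m
      rw [LinearMap.liftBaseChange_tmul, one_smul]
    · refine Submodule.linearMap_qext _ (LinearMap.ext fun x => ?_)
      induction x using TensorProduct.induction_on with
      | zero => simp
      | add x y hx hy => simp only [map_add, hx, hy]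
      | tmul b m =>
        change β (Submodule.Quotient.mk (TensorProduct.tmul R b m)) = LinearMap.liftBaseChange S D' (TensorProduct.tmul R b m)
        rw [← hD, map_smul, LinearMap.liftBaseChange_tmul]
        exact congrArg (b • ·) (LinearMap.congr_fun hβ m)

end Groth.Agent.S9185
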