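import Groth.Statements.S9200
set_option linter.style.haveILetI false
-- import your own Groth.Agent.* helpers here

set_option autoImplicit false
universe u
open CategoryTheory AlgebraicGeometry
open Lim

namespace Groth.Agent.S9200

/-- Let S be a scheme and X = lim X_i a cofiltered limit of S-schemes X_i (a diagram with a compatible
family of structure maps to S) with affine transition morphisms, every X_i quasi-compact and
quasi-separated; the structure map X → S is the composite X → X_{i₀} → S for any index i₀. Assume S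
is quasi-compact and quasi-separated. If X → S is affine, then X_i → S is affine for all i beyond
some index i₁. -/
theorem result {I : Type u} [SmallCategory I] [IsCofiltered I] (S : Scheme.{u}) [CompactSpace S] [QuasiSeparatedSpace S]
    (D : I ⥤ Scheme.{u}) (t : D ⟶ (Functor.const I).obj S) (c : Limits.Cone D) (hc : Limits.IsLimit c)
    [∀ (i j : I) (a : i ⟶ j), IsAffineHom (D.map a)]
    [∀ i, CompactSpace (D.obj i)] [∀ i, QuasiSeparatedSpace (D.obj i)] (i₀ : I)
    [IsAffineHom (c.π.app i₀ ≫ t.app i₀)] :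
    ∃ i₁ : I, ∀ (i : I) (_ : i ⟶ i₁), IsAffineHom (t.app i) := by
  classical
  haveI : ∀ {i j : I} (a : i ⟶ j), IsAffineHom (D.map a) := fun a => inferInstance
  have ht : ∀ {i j : I} (a : i ⟶ j), D.map a ≫ t.app j = t.app i := fun a => by simpa using t.naturality a
  haveI hqc : ∀ i, QuasiCompact (t.app i) := fun i => by
    haveI : QuasiCompact (t.app i ≫ Limits.terminal.from S) :=
      (quasiCompact_iff_compactSpace _).2 (inferInstance : CompactSpace (D.obj i))
    haveI : QuasiSeparated (Limits.terminal.from S) :=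
      (quasiSeparatedSpace_iff_quasiSeparated _).1 (inferInstance : QuasiSeparatedSpace S)
    exact QuasiCompact.of_comp (t.app i) (Limits.terminal.from S)
  have key : ∀ V : S.affineOpens, ∃ k : I, ∀ (i : I) (_ : i ⟶ k), IsAffineOpen (t.app i ⁻¹ᵁ V.1) := fun V => by
    let U := t.app i₀ ⁻¹ᵁ V.1
    have hU : IsCompact (U : Set (D.obj i₀)) := (t.app i₀).isCompact_preimage V.2.isCompact
    have (j : Over i₀) : CompactSpace ((opensDiagram D i₀ U).obj j) :=
      isCompact_iff_compactSpace.mp ((D.map j.hom).isCompact_preimage hU)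
    have (j : Over i₀) : QuasiSeparatedSpace ((opensDiagram D i₀ U).obj j) :=
      (isQuasiSeparated_iff_quasiSeparatedSpace _ (D.map _ ⁻¹ᵁ _).2).mp (.of_quasiSeparatedSpace _)
    have : IsAffine (opensCone D c i₀ U).pt :=
      V.2.preimage (c.π.app i₀ ≫ t.app i₀)
    obtain ⟨k, hk⟩ := Scheme.exists_isAffine_of_isLimit _ _ (isLimitOpensCone D c hc i₀ U)
    refine ⟨k.left, fun i a => ?_⟩
    have h2 : IsAffineOpen (D.map k.hom ⁻¹ᵁ U) := hk
    have e : t.app i ⁻¹ᵁ V.1 = D.map a ⁻¹ᵁ (D.map k.hom ⁻¹ᵁ U) := by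
      simp only [U, ← Scheme.Hom.comp_preimage, ← Functor.map_comp, ht]
    exact e ▸ h2.preimage (D.map a)
  choose k hk using key
  have hcov : (Set.univ : Set S) ⊆ ⋃ V : S.affineOpens, (V.1 : Set S) := fun s _ => by
    obtain ⟨_, ⟨V, hV, rfl⟩, hsV, -⟩ := S.isBasis_affineOpens.exists_subset_of_mem_open (Set.mem_univ s) isOpen_univ
    exact Set.mem_iUnion.2 ⟨⟨V, hV⟩, hsV⟩
  obtain ⟨T, hT⟩ := isCompact_univ.elim_finite_subcover (fun V : S.affineOpens => (V.1 : Set S)) (fun V => V.1.2) hcov
  obtain ⟨i₁, hi₁⟩ := IsCofiltered.inf_objs_exists (T.image k)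
  refine ⟨i₁, fun i a => isAffineHom_of_forall_exists_isAffineOpen (t.app i) (fun s => ?_)⟩
  obtain ⟨V, hV, hsV⟩ := Set.mem_iUnion₂.1 (hT (Set.mem_univ s))
  exact ⟨V.1, hsV, V.2, hk V i (a ≫ (hi₁ (Finset.mem_image_of_mem k hV)).some)⟩

end Groth.Agent.S9200
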