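import Groth.Statements.S9205
import Groth.Agent.DVRDom.AffineTest

set_option autoImplicit false
universe u
open CategoryTheory CategoryTheory.Limits AlgebraicGeometry
open Lim

namespace Groth.Agent.S9205

/-- Let f : X → S be a quasi-compact morphism of schemes. Then: f is universally closed if and only if,
whenever g : S' → S is a morphism locally of finite presentation, the projection X ×_S S' → S' is a
closed map; and f is universally closed if and only if for every natural number n the base change X
×_S A^n_S → A^n_S to affine n-space over S is closed. -/
theorem result {X S : Scheme.{u}} (f : X ⟶ S) [QuasiCompact f] :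
    (UniversallyClosed f ↔ ∀ (S' : Scheme.{u}) (g : S' ⟶ S), LocallyOfFinitePresentation g →
        IsClosedMap (pullback.snd f g).base) ∧
      (UniversallyClosed f ↔ ∀ n : ℕ, IsClosedMap (pullback.snd f (𝔸(ULift.{u} (Fin n); S) ↘ S)).base) := by
  refine ⟨⟨fun h S' g _ => ?_, fun h => ?_⟩, ⟨fun h n => ?_, fun h => Groth.Agent.DVRDom.universallyClosed_of_forall_affineSpace f h⟩⟩
  · exact (pullback.snd f g).isClosedMap
  · exact Groth.Agent.DVRDom.universallyClosed_of_forall_affineSpace f fun n => h _ _ inferInstance
  · exact (pullback.snd f _).isClosedMap

end Groth.Agent.S9205
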