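import Groth.Statements.S9212
import Groth.Agent.LimSch.DVRGeneric

set_option autoImplicit false
universe u
open CategoryTheory CategoryTheory.Limits AlgebraicGeometry
open Lim

namespace Groth.Agent.S9212

/-- Let S be a locally Noetherian scheme and f : X → S a morphism of finite type. Then f is proper if
and only if: for every generic point η of an irreducible component of X, every discrete valuation
ring A contained in the residue field κ(η) with fraction field κ(η) (a valuation subring of κ(η)
which is a discrete valuation ring), and every morphism Spec A → S whose restriction to Spec κ(η) is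
the canonical morphism Spec κ(η) → X followed by f, there is exactly one morphism Spec A → X over S
restricting to the canonical morphism on Spec κ(η). -/
theorem result {X S : Scheme.{u}} [IsLocallyNoetherian S] (f : X ⟶ S)
    [LocallyOfFiniteType f] [QuasiCompact f] :
    IsProper f ↔ ∀ (η : X), closure {η} ∈ irreducibleComponents (X : Type u) →
      ∀ (A : ValuationSubring (X.residueField η)), IsDiscreteValuationRing A →
        ∀ y : Spec (CommRingCat.of A) ⟶ S,
          Spec.map (CommRingCat.ofHom A.subtype) ≫ y = X.fromSpecResidueField η ≫ f →
          ∃! l : Spec (CommRingCat.of A) ⟶ X,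
            l ≫ f = y ∧ Spec.map (CommRingCat.ofHom A.subtype) ≫ l = X.fromSpecResidueField η := by
  constructor
  · intro hp η _ A hA y hy
    let e : X.residueField η ≃ₐ[A] FractionRing A := (FractionRing.algEquiv A (X.residueField η)).symm
    have he : CommRingCat.ofHom A.subtype ≫ CommRingCat.ofHom (e : X.residueField η →+* FractionRing A) =
        CommRingCat.ofHom (algebraMap A (FractionRing A)) :=
      CommRingCat.hom_ext (RingHom.ext fun a => e.commutes a)
    let eS := Spec.map (CommRingCat.ofHom (e : X.residueField η →+* FractionRing A))
    have : IsIso (CommRingCat.ofHom (e : X.residueField η →+* FractionRing A)) :=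
      inferInstanceAs (IsIso e.toRingEquiv.toCommRingCatIso.hom)
    obtain ⟨h1, h2⟩ := (Groth.Agent.DVRDom.isProper_iff_dvr f).mp hp
    obtain ⟨l, hl, hl'⟩ := h1 A (eS ≫ X.fromSpecResidueField η) y (by
      rw [← he, Spec.map_comp, Category.assoc, Category.assoc, hy])
    rw [← he, Spec.map_comp, Category.assoc, cancel_epi] at hl'
    refine ⟨l, ⟨hl, hl'⟩, fun l' ⟨hl₁, hl₂⟩ => h2 A l' l (hl₁.trans hl.symm) ?_⟩
    rw [← he, Spec.map_comp, Category.assoc, Category.assoc, hl₂, hl']
  · intro H
    have hu : IsSeparated f := Groth.Agent.LimSch.isSeparated_of_generic_dvr f fun η hη A hA l₁ l₂ h12 h1 h2 =>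
      (H η (Groth.Agent.LimSch.closure_mem_irreducibleComponents hη) A hA (l₁ ≫ f)
        (by rw [reassoc_of% h1])).unique ⟨rfl, h1⟩ ⟨h12.symm, h2⟩
    have : UniversallyClosed f := Groth.Agent.LimSch.GenericDVRExistence.universallyClosed fun η hη A hA y hy =>
      (H η (Groth.Agent.LimSch.closure_mem_irreducibleComponents hη) A hA y hy).exists
    exact {}

end Groth.Agent.S9212
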