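import Groth.Statements.S9227
import Groth.Agent.RegNormal.DerCrit
-- import your own Groth.Agent.* helpers here

set_option autoImplicit false
universe u
open CAlg

namespace Groth.Agent.S9227

/-- Let R be a regular ring, f an element of R and D a derivation of R with D(f) a unit of R. Then for
every polynomial p with integer coefficients the ring R[z]/(p(z) - f) is regular; in particular
R[z]/(z^n - f) is regular for every n ≥ 1. -/
theorem result (R : Type u) [CommRing R]
    [IsRegularRing R] (f : R) (D : Derivation ℤ R R) (hD : IsUnit (D f)) (p : Polynomial ℤ) :
    IsRegularRing (Polynomial R ⧸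
      Ideal.span ({Polynomial.map (Int.castRingHom R) p - Polynomial.C f} : Set (Polynomial R))) := by
  letI : Differential R := ⟨D⟩
  refine RegNormal.isRegularRing_quotient _ (Differential.mapCoeffs (A := R)) ?_
  refine IsUnit.map _ ?_
  have h : Differential.mapCoeffs (p.map (Int.castRingHom R)) = 0 := by
    ext n
    rw [Differential.coeff_mapCoeffs, Polynomial.coeff_map, Polynomial.coeff_zero, eq_intCast]
    exact D.map_intCast _
  rw [map_sub]; erw [h]; rw [zero_sub, IsUnit.neg_iff]; erw [Differential.mapCoeffs_C]
  exact (show IsUnit (D f) from hD).map Polynomial.C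

end Groth.Agent.S9227
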