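import Groth.Statements.S9232
import Mathlib
import Groth.Agent.EtLocalLib.ComplCrit
-- import your own Groth.Agent.* helpers here

set_option autoImplicit false
universe u
open CAlg

namespace Groth.Agent.S9232

/-- Suppose A → B is a flat local ring map between Noetherian local rings, the maximal ideal of A
generates that of B, and the residue field map is bijective. Then the induced map between the
completions of A and B (a ring map of the completions compatible with A → B; it is unique since A is
Noetherian) is an isomorphism. -/
theorem result (A B : Type u) [CommRing A]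
    [CommRing B] [IsLocalRing A] [IsLocalRing B] [IsNoetherianRing A] [IsNoetherianRing B]
    [Algebra A B] [IsLocalHom (algebraMap A B)] [Module.Flat A B]
    (hm : Ideal.map (algebraMap A B) (IsLocalRing.maximalIdeal A) = IsLocalRing.maximalIdeal B)
    (hk : Function.Bijective (IsLocalRing.ResidueField.map (algebraMap A B)))
    (ψ : AdicCompletion (IsLocalRing.maximalIdeal A) A →+* AdicCompletion (IsLocalRing.maximalIdeal B) B)
    (hψ : ψ.comp (algebraMap A (AdicCompletion (IsLocalRing.maximalIdeal A) A)) =
      (algebraMap B (AdicCompletion (IsLocalRing.maximalIdeal B) B)).comp (algebraMap A B)) :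
    Function.Bijective ψ := by
  haveI := Groth.Agent.EtLocalLib.completion_isLocalHom ψ hψ
  haveI : IsNoetherianRing (AdicCompletion (IsLocalRing.maximalIdeal B) B) :=
    Groth.Agent.AdicNoeth.isNoetherianRing_adicCompletion _
  have hmψ := (Groth.Agent.EtLocalLib.completion_map_eq_iff ψ hψ).1 hm
  have hres : Function.Bijective (IsLocalRing.ResidueField.map ψ) := by
    refine ⟨RingHom.injective _, fun x => ?_⟩
    obtain ⟨y, rfl⟩ := (AdicCompletion.residueField_map_bijective B).2 x
    obtain ⟨z, rfl⟩ := hk.2 y
    obtain ⟨a, rfl⟩ := IsLocalRing.residue_surjective z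
    refine ⟨IsLocalRing.residue _ (algebraMap A (AdicCompletion (IsLocalRing.maximalIdeal A) A) a), ?_⟩
    exact congrArg (IsLocalRing.residue _) (RingHom.congr_fun hψ a)
  have hfin : ψ.Finite := Groth.Agent.EtLocalLib.finite_of_map_maximalIdeal' ψ hmψ
    (RingHom.Finite.of_surjective _ hres.2)
  refine ⟨?_, ?_⟩
  · letI := ψ.toAlgebra
    haveI : Module.Flat (AdicCompletion (IsLocalRing.maximalIdeal A) A) (AdicCompletion (IsLocalRing.maximalIdeal B) B) :=
      Groth.Agent.EtLocalLib.completion_flat ψ hψ
    haveI : IsLocalHom (algebraMap (AdicCompletion (IsLocalRing.maximalIdeal A) A)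
      (AdicCompletion (IsLocalRing.maximalIdeal B) B)) := Groth.Agent.EtLocalLib.completion_isLocalHom ψ hψ
    haveI : Module.FaithfullyFlat (AdicCompletion (IsLocalRing.maximalIdeal A) A) (AdicCompletion (IsLocalRing.maximalIdeal B) B) :=
      Module.FaithfullyFlat.of_flat_of_isLocalHom
    exact FaithfulSMul.algebraMap_injective (AdicCompletion (IsLocalRing.maximalIdeal A) A) (AdicCompletion (IsLocalRing.maximalIdeal B) B)
  · letI := ψ.toAlgebra
    haveI : Module.Finite (AdicCompletion (IsLocalRing.maximalIdeal A) A) (AdicCompletion (IsLocalRing.maximalIdeal B) B) := hfin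
    have htop : (⊤ : Submodule (AdicCompletion (IsLocalRing.maximalIdeal A) A) (AdicCompletion (IsLocalRing.maximalIdeal B) B)) ≤
        LinearMap.range (Algebra.linearMap _ _) := by
      refine Submodule.le_of_le_smul_of_le_jacobson_bot Module.Finite.fg_top
        (IsLocalRing.maximalIdeal_le_jacobson _) fun x _ => ?_
      obtain ⟨z, hz⟩ := hres.2 (IsLocalRing.residue _ x)
      obtain ⟨a, rfl⟩ := IsLocalRing.residue_surjective z
      have hmem : x - ψ a ∈ IsLocalRing.maximalIdeal (AdicCompletion (IsLocalRing.maximalIdeal B) B) :=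
        Ideal.Quotient.eq.1 hz.symm
      rw [← hmψ] at hmem
      refine Submodule.mem_sup.2 ⟨ψ a, ⟨a, rfl⟩, x - ψ a, ?_, by ring⟩
      rw [Ideal.smul_top_eq_map]
      exact hmem
    intro x
    exact htop (Submodule.mem_top (x := x))
end Groth.Agent.S9232
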