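import Groth.Statements.S9235
import Groth.Agent.Branch.Main

set_option autoImplicit false
universe u
open Brnch

namespace Groth.Agent.S9235

/-- A local ring A has exactly one branch if and only if it is unibranch. Here the number of branches is
computed as the number of maximal ideals of the integral closure of A_red in its total ring of
fractions (infinity when A has infinitely many minimal primes). -/
theorem result (A : Type u) [CommRing A] [IsLocalRing A] :
    Brnch.numBranches A = 1 ↔ CAlg2.IsUnibranch A := by
  constructor
  · intro h
    unfold Brnch.numBranches at h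
    split_ifs at h with hfin
    · haveI := hfin.to_subtype
      rw [ENat.card_eq_one_iff_unique] at h
      obtain ⟨hU⟩ := h
      let M := hU.default
      haveI : IsLocalRing (CAlg2.normRed A) := IsLocalRing.of_unique_max_ideal
        ⟨M.asIdeal, M.isMaximal, fun J hJ => congrArg MaximalSpectrum.asIdeal (hU.uniq ⟨J, hJ⟩)⟩
      exact Groth.Agent.Branch.isUnibranch_of_isLocalRing_normRed
    · simp at h
  · rintro ⟨h1, h2⟩
    haveI := h1; haveI := h2
    have hfin : (minimalPrimes A).Finite :=
      Set.finite_coe_iff.1 (Groth.Agent.Branch.finite_of_unique (Groth.Agent.Branch.unique_of_isDomain_red (A := A)))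
    unfold Brnch.numBranches
    rw [if_pos hfin, ENat.card_eq_one_iff_unique]
    exact ⟨⟨⟨⟨IsLocalRing.maximalIdeal _, inferInstance⟩⟩,
      fun M => MaximalSpectrum.ext (IsLocalRing.eq_maximalIdeal M.isMaximal)⟩⟩

end Groth.Agent.S9235
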