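import Groth.Statements.S9243
import Groth.Agent.BranchCount.Fibre
import Groth.Agent.Hensel.CplEquiv
import Groth.Agent.Branch.Completion
import Groth.Agent.S2772

set_option autoImplicit false
universe u
open Brnch

namespace Groth.Agent.S9243

/-- Let A be a Noetherian local ring with henselization S and completion A^, and ψ : S → A^ the ring map
compatible with the structure maps from A. Then A and A^ have the same number of branches if and
only if, for every minimal prime q of S, the radical of the extension of q along ψ is a prime ideal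
of A^. -/
theorem result (A S : Type u) [CommRing A] [IsLocalRing A]
    [IsNoetherianRing A] [CommRing S] [IsLocalRing S] [Algebra A S] [IsLocalHom (algebraMap A S)]
    [Hensel.IsHenselization A S] (ψ : S →+* AdicCompletion (IsLocalRing.maximalIdeal A) A)
    (hψ : ψ.comp (algebraMap A S) = algebraMap A (AdicCompletion (IsLocalRing.maximalIdeal A) A)) :
    Brnch.numBranches A = Brnch.numBranches (AdicCompletion (IsLocalRing.maximalIdeal A) A) ↔
      ∀ q ∈ minimalPrimes S, (Ideal.map ψ q).radical.IsPrime := by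
  let C := AdicCompletion (IsLocalRing.maximalIdeal A) A
  haveI : IsNoetherianRing S := Groth.Agent.Hensel.henselization_isNoetherianRing (R := A)
  haveI : IsNoetherianRing C := Groth.Agent.AdicNoeth.isNoetherianRing_adicCompletion _
  haveI : HenselianLocalRing C := Groth.Agent.Branch.henselianLocalRing_cpl A
  haveI : IsLocalHom (algebraMap A C) :=
    ((IsLocalRing.local_hom_TFAE _).out 2 0).1 (AdicCompletion.maximalIdeal_eq_map (R := A)).ge
  obtain ⟨e⟩ := Groth.Agent.Hensel.henselization_cpl_equiv (R := A) (S := S)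
  let g0 : S →+* C := e.symm.toRingEquiv.toRingHom.comp (algebraMap S (EGA4.Cpl S))
  have hg0 : g0.comp (algebraMap A S) = algebraMap A C := RingHom.ext fun a => by
    show e.symm (algebraMap S (EGA4.Cpl S) (algebraMap A S a)) = _
    rw [← IsScalarTower.algebraMap_apply]
    exact e.symm.commutes a
  have hψ0 : ψ = g0 :=
    (_root_.Hensel.IsHenselization.universal (R := A) (S := S) C (algebraMap A C) inferInstance).unique hψ hg0
  haveI : Module.Flat S (EGA4.Cpl S) := AdicCompletion.flat_of_isNoetherian _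
  letI : Algebra S C := ψ.toAlgebra
  haveI : Module.Flat S C := by
    refine RingHom.flat_algebraMap_iff.1 ?_
    show ψ.Flat
    rw [hψ0]
    exact RingHom.Flat.comp (RingHom.flat_algebraMap_iff.2 inferInstance)
      (RingHom.Flat.of_bijective e.symm.toRingEquiv.bijective)
  haveI : IsLocalHom (algebraMap C C) := ⟨fun c hc => by simpa using hc⟩
  haveI : _root_.Hensel.IsHenselization C C := ⟨inferInstance, fun T _ _ f hf => ⟨f, RingHom.ext fun _ => rfl,
    fun g hg => by rw [← hg]; exact RingHom.ext fun _ => rfl⟩⟩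
  rw [← BranchCount.card_henselization (A := A) (S := S), ← BranchCount.card_henselization (A := C) (S := C)]
  obtain ⟨hmaps, hsurj⟩ := BranchCount.completion_minimalPrimes S ψ hψ
  let Φ : minimalPrimes C → minimalPrimes S := fun P => ⟨_, hmaps P.2⟩
  have hΦ : Function.Surjective Φ := fun q => by
    obtain ⟨P, hP, hPq⟩ := hsurj q.2
    exact ⟨⟨P, hP⟩, Subtype.ext hPq⟩
  have hfib : ∀ q ∈ minimalPrimes S, ∀ R : Ideal C,
      R ∈ (Ideal.map ψ q).minimalPrimes ↔ R ∈ minimalPrimes C ∧ R.comap ψ = q := by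
    intro q hq R
    constructor
    · intro hR
      have h1 : R.comap ψ ∈ q.minimalPrimes := BranchCount.comap_mem_minimalPrimes_map (R := S) (T := C) q hR
      haveI := hq.1.1
      rw [Ideal.minimalPrimes_eq_subsingleton_self] at h1
      haveI := hR.1.1
      obtain ⟨P0, hP0, hle⟩ := Ideal.exists_minimalPrimes_le (I := (⊥ : Ideal C)) (J := R) bot_le
      have h3 : P0.comap ψ ≤ q := (Ideal.comap_mono hle).trans h1.le
      have h4 : q ≤ P0.comap ψ := (hq.2 ⟨(hmaps hP0).1.1, bot_le⟩ h3)
      have h5 : P0 = R := le_antisymm hle (hR.2 ⟨hP0.1.1, Ideal.map_le_iff_le_comap.2 h4⟩ hle)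
      exact ⟨h5 ▸ hP0, h1⟩
    · rintro ⟨hR, rfl⟩
      exact ⟨⟨hR.1.1, Ideal.map_comap_le⟩, fun P hP hle => hR.2 ⟨hP.1, bot_le⟩ hle⟩
  have hinj : Function.Injective Φ ↔ ∀ q ∈ minimalPrimes S, (Ideal.map ψ q).radical.IsPrime := by
    constructor
    · intro h q hq
      obtain ⟨⟨P, hP⟩, hPq⟩ := hΦ ⟨q, hq⟩
      have hq' : P.comap ψ = q := congrArg Subtype.val hPq
      have hone : (Ideal.map ψ q).minimalPrimes = {P} := by
        ext R
        rw [hfib q hq R, Set.mem_singleton_iff]
        refine ⟨fun hR => ?_, fun hR => hR ▸ ⟨hP, hq'⟩⟩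
        exact congrArg Subtype.val (h (a₁ := ⟨R, hR.1⟩) (a₂ := ⟨P, hP⟩) (Subtype.ext (hR.2.trans hq'.symm)))
      rw [← Ideal.sInf_minimalPrimes, hone, sInf_singleton]
      exact hP.1.1
    · intro h P P' hPP'
      have hq : P.1.comap ψ ∈ minimalPrimes S := hmaps P.2
      have h1 := ((hfib _ hq P.1).2 ⟨P.2, rfl⟩)
      have h2 := ((hfib _ hq P'.1).2 ⟨P'.2, (congrArg Subtype.val hPP').symm⟩)
      have key : ∀ R ∈ (Ideal.map ψ (P.1.comap ψ)).minimalPrimes, R = (Ideal.map ψ (P.1.comap ψ)).radical :=
        fun R hR => le_antisymm (hR.2 ⟨h _ hq, Ideal.le_radical⟩ (hR.1.1.radical_le_iff.2 hR.1.2))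
          (hR.1.1.radical_le_iff.2 hR.1.2)
      exact Subtype.ext ((key _ h1).trans (key _ h2).symm)
  haveI : Finite (minimalPrimes C) := (minimalPrimes.finite_of_isNoetherianRing C).to_subtype
  haveI : Finite (minimalPrimes S) := (minimalPrimes.finite_of_isNoetherianRing S).to_subtype
  rw [← hinj, ENat.card_eq_coe_natCard, ENat.card_eq_coe_natCard, Nat.cast_inj]
  exact ⟨fun h => ((Nat.bijective_iff_surjective_and_card Φ).2 ⟨hΦ, h.symm⟩).1,
    fun h => (Nat.card_eq_of_bijective Φ ⟨h, hΦ⟩).symm⟩

end Groth.Agent.S9243
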