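import Groth.Statements.S9248
import Mathlib
import Groth.Agent.FibrePd.Basic
import Groth.Agent.CAlgMisc.SmallE

set_option autoImplicit false
universe u
open CAlg

namespace Groth.Agent.S9248

open scoped TensorProduct
open CAlgReg CategoryTheory

set_option linter.style.haveILetI false
set_option maxSynthPendingDepth 4

lemma stablyFree_of_fibre {V A T : Type u} [CommRing V] [IsDomain V] [ValuationRing V] [CommRing A]
    [IsLocalRing A] [Algebra V A] [IsLocalHom (algebraMap V A)] [Algebra.EssFiniteType V A]
    [Module.Flat V A] [CommRing T] [Algebra A T] [Module.Flat A T] :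
    ∀ (k : ℕ) (M : Type u) [AddCommGroup M] [Module A M] [Module V M] [IsScalarTower V A M]
      [Module.Finite A M] [Module.Flat V M], PdLT A M (k + 1) → Module.Projective T (T ⊗[A] M) →
      Module.IsStablyFree T (T ⊗[A] M) := by
  intro k
  induction k with
  | zero =>
    intro M _ _ _ _ _ _ h _
    haveI : Module.Projective A M :=
      (IsProjective.iff_projective _).2 (projective_iff_hasProjectiveDimensionLT_one.2 h)
    haveI : Module.Free A M := Module.free_of_flat_of_isLocalRing
    infer_instance
  | succ k ih =>
    intro M _ _ _ _ _ _ h hproj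
    haveI : Module.FinitePresentation A M := S2049.result (A := V)
    obtain ⟨r, g, hg, -⟩ := FibrePd.exists_minimal A M
    let K := LinearMap.ker g
    haveI : Module.Finite A K := Module.Finite.iff_fg.2 (Module.FinitePresentation.fg_ker g hg)
    haveI : Module.Flat V K := FibrePd.flat_submodule V A K
    let ι := K.subtype.baseChange T
    let γ := g.baseChange T
    have hγ : Function.Surjective γ := LinearMap.lTensor_surjective T hg
    have hι : Function.Injective ι :=
      Module.Flat.lTensor_preserves_injective_linearMap (M := T) K.subtype K.injective_subtype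
    have hex : Function.Exact ι γ := lTensor_exact T (LinearMap.exact_subtype_ker_map g) hg
    obtain ⟨s, hs⟩ := Module.projective_lifting_property γ LinearMap.id hγ
    let e := LinearEquiv.ofInjective ι hι
    let ρ : T ⊗[A] (Fin r → A) →ₗ[T] T ⊗[A] K :=
      e.symm.toLinearMap ∘ₗ (LinearMap.id - s ∘ₗ γ).codRestrict (LinearMap.range ι) fun x => (hex _).1 (by
        have h1 : γ (s (γ x)) = γ x := LinearMap.congr_fun hs _
        simp [h1])
    have hρ : ρ ∘ₗ ι = LinearMap.id := LinearMap.ext fun y => hι (by
      have h1 : γ (ι y) = 0 := (hex _).2 ⟨y, rfl⟩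
      show ι (e.symm _) = ι y
      rw [← LinearEquiv.ofInjective_apply (h := hι), LinearEquiv.apply_symm_apply]
      simp [h1])
    haveI : Module.Projective T (T ⊗[A] (Fin r → A)) := inferInstance
    haveI : Module.Projective T (T ⊗[A] K) := Module.Projective.of_split ι ρ hρ
    have hK := ih K (pdLT_left K.subtype g Subtype.val_injective (LinearMap.exact_subtype_ker_map g) hg h)
      inferInstance
    exact (CAlgMisc.isStablyFree_two_out_of_three ι γ hι hγ hex).1 hK inferInstance


/-- Let R be a valuation ring, K its field of fractions and κ its residue field, and let A be a local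
ring with a flat, local homomorphism R → A essentially of finite type such that κ ⊗_R A is a regular
ring. Then K ⊗_R A has trivial Picard group. -/
theorem result (R A : Type u) [CommRing R] [IsDomain R]
    [ValuationRing R] [CommRing A] [IsLocalRing A] [Algebra R A] [IsLocalHom (algebraMap R A)]
    [Module.Flat R A] [Algebra.EssFiniteType R A]
    (hreg : IsRegularRing (TensorProduct R (IsLocalRing.ResidueField R) A)) :
    Subsingleton (CommRing.Pic (TensorProduct R (FractionRing R) A)) := by
  classical
  let K := FractionRing R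
  let T := TensorProduct R K A
  letI : Algebra A T := Algebra.TensorProduct.rightAlgebra
  haveI : IsScalarTower R A T := Algebra.TensorProduct.right_isScalarTower
  let S := Algebra.algebraMapSubmonoid A (nonZeroDivisors R)
  haveI : IsLocalization S T := IsLocalization.tensorRight (S := A) K (nonZeroDivisors R)
  haveI : Module.Flat A T := IsLocalization.flat T S
  -- the closed fibre is regular local of finite dimension
  let e0 : (TensorProduct R (IsLocalRing.ResidueField R) A) ≃+* A ⧸ FibrePd.fib R A :=
    ((Algebra.TensorProduct.comm R (IsLocalRing.ResidueField R) A).toRingEquiv.trans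
      (Algebra.TensorProduct.quotIdealMapEquivTensorQuot A (IsLocalRing.maximalIdeal R)).symm.toRingEquiv)
  haveI : Nontrivial (A ⧸ FibrePd.fib R A) :=
    Ideal.Quotient.nontrivial_iff.2 fun h =>
      (IsLocalRing.maximalIdeal.isMaximal A).ne_top (top_le_iff.1 (h.ge.trans (FibrePd.fib_le R A)))
  haveI : IsLocalRing (A ⧸ FibrePd.fib R A) :=
    IsLocalRing.of_surjective' (Ideal.Quotient.mk _) Ideal.Quotient.mk_surjective
  haveI : IsRegularRing (A ⧸ FibrePd.fib R A) := IsRegularRing.of_ringEquiv e0
  haveI : IsLocalization (IsLocalRing.maximalIdeal (A ⧸ FibrePd.fib R A)).primeCompl (A ⧸ FibrePd.fib R A) :=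
    IsLocalization.self fun x hx => IsLocalRing.notMem_maximalIdeal.1 hx
  haveI : IsRegularLocalRing (A ⧸ FibrePd.fib R A) := IsRegularLocalRing.of_ringEquiv
    (IsLocalization.algEquiv (IsLocalRing.maximalIdeal (A ⧸ FibrePd.fib R A)).primeCompl
      (Localization.AtPrime (IsLocalRing.maximalIdeal (A ⧸ FibrePd.fib R A))) (A ⧸ FibrePd.fib R A)).toRingEquiv
  obtain ⟨n, hn⟩ : ∃ n : ℕ, ringKrullDim (A ⧸ FibrePd.fib R A) = n :=
    ⟨_, (IsRegularLocalRing.spanFinrank_maximalIdeal (R := A ⧸ FibrePd.fib R A)).symm⟩
  rw [CommRing.Pic.subsingleton_iff]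
  intro N _ _ hN
  haveI := hN
  letI : Module A N := Module.compHom N (algebraMap A T)
  haveI : IsScalarTower A T N := IsScalarTower.of_algebraMap_smul fun _ _ => rfl
  letI : Module R N := Module.compHom N (algebraMap R A)
  haveI : IsScalarTower R A N := IsScalarTower.of_algebraMap_smul fun _ _ => rfl
  obtain ⟨G, hG⟩ := Module.Finite.fg_top (R := T) (M := N)
  let M : Submodule A N := Submodule.span A (G : Set N)
  haveI : Module.Finite A M := Module.Finite.span_of_finite A G.finite_toSet
  have hunit : ∀ c : nonZeroDivisors R, IsUnit (algebraMap A T (algebraMap R A c)) := fun c =>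
    IsLocalization.map_units T (⟨_, Algebra.mem_algebraMapSubmonoid_of_mem c⟩ : S)
  haveI : Module.Flat R M := by
    rw [Module.Flat.flat_iff_torsion_eq_bot_of_isBezout, eq_bot_iff]
    rintro x ⟨c, hx⟩
    have h1 : algebraMap A T (algebraMap R A c) • (x : N) = 0 := congrArg Subtype.val hx
    exact Subtype.ext ((hunit c).smul_eq_zero.1 h1)
  haveI hloc : IsLocalizedModule S M.subtype := by
    refine ⟨fun s => ?_, fun y => ?_, fun {x₁ x₂} h => ⟨1, by simpa using Subtype.ext h⟩⟩
    · have hu : IsUnit (algebraMap A T s.1) := IsLocalization.map_units T s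
      refine (Module.End.isUnit_iff _).2 ⟨fun a b hab => ?_, fun z => ⟨hu.unit⁻¹.1 • z, ?_⟩⟩
      · simp only [Module.algebraMap_end_apply] at hab
        exact hu.smul_left_cancel.1 hab
      · simp only [Module.algebraMap_end_apply]
        show algebraMap A T s.1 • _ = z
        rw [smul_smul, IsUnit.mul_val_inv, one_smul]
    · have hy : y ∈ Submodule.span T (G : Set N) := hG.ge Submodule.mem_top
      induction hy using Submodule.span_induction with
      | mem g hg => exact ⟨⟨⟨g, Submodule.subset_span hg⟩, 1⟩, one_smul _ _⟩
      | zero => exact ⟨⟨0, 1⟩, by simp⟩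
      | add a b _ _ ha hb =>
        obtain ⟨⟨a', s⟩, ha⟩ := ha
        obtain ⟨⟨b', t⟩, hb⟩ := hb
        refine ⟨⟨(t : A) • a' + (s : A) • b', s * t⟩, ?_⟩
        simp only [Submonoid.smul_def, Submodule.subtype_apply, Submodule.coe_add, Submodule.coe_smul] at ha hb ⊢
        rw [← ha, ← hb, Submonoid.coe_mul, smul_add, mul_smul, mul_smul, smul_comm (t : A) (s : A)]
      | smul b a _ ha =>
        obtain ⟨⟨a', s⟩, ha⟩ := ha
        obtain ⟨⟨c, t⟩, hc⟩ := IsLocalization.surj S b
        refine ⟨⟨c • a', s * t⟩, ?_⟩
        simp only [Submonoid.smul_def, Submodule.subtype_apply, Submodule.coe_smul] at ha ⊢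
        rw [← ha, ← algebraMap_smul T c, ← algebraMap_smul T (s : A) a, ← hc,
          ← algebraMap_smul T ((s * t : S) : A), Submonoid.coe_mul, map_mul, smul_smul, smul_smul]
        congr 1
        ring
  let e : T ⊗[A] M ≃ₗ[T] N := (IsLocalizedModule.isBaseChange S T M.subtype).equiv
  haveI : Module.Projective T (T ⊗[A] M) := Module.Projective.of_equiv e.symm
  haveI := stablyFree_of_fibre (V := R) (A := A) (T := T) n M (FibrePd.pdLT_flat R A hn M) inferInstance
  haveI : Module.IsStablyFree T N := Module.IsStablyFree.equiv e
  exact Module.free_of_isStablyFree_of_invertible T N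

end Groth.Agent.S9248
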