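import Groth.Statements.S9249
import Groth.Agent.CMAux.FlatDepth
import Groth.Agent.CAlgCompl.Local
import Groth.Agent.Depth.CM
-- import your own Groth.Agent.* helpers here

set_option autoImplicit false
universe u
open CAlg

namespace Groth.Agent.S9249

/-- A Noetherian local ring is Cohen-Macaulay if and only if its completion is. -/
theorem result (A : Type u) [CommRing A] [IsLocalRing A]
    [IsNoetherianRing A] :
    LocCoh.IsCohenMacaulayLocalRing A ↔
      LocCoh.IsCohenMacaulayLocalRing (AdicCompletion (IsLocalRing.maximalIdeal A) A) := by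
  haveI : IsNoetherianRing (AdicCompletion (IsLocalRing.maximalIdeal A) A) :=
    AdicNoeth.isNoetherianRing_adicCompletion _
  haveI : Module.FaithfullyFlat A (AdicCompletion (IsLocalRing.maximalIdeal A) A) :=
    Module.FaithfullyFlat.of_flat_of_isLocalHom
  rw [Depth.isCohenMacaulayLocalRing_iff, Depth.isCohenMacaulayLocalRing_iff, CAlgCompl.ringKrullDim_adicCompletion,
    ← Depth.depth_congr (TensorProduct.AlgebraTensorModule.rid A (AdicCompletion (IsLocalRing.maximalIdeal A) A)
      (AdicCompletion (IsLocalRing.maximalIdeal A) A)),
    CMAux.depth_baseChange_eq A (AdicCompletion (IsLocalRing.maximalIdeal A) A) AdicCompletion.maximalIdeal_eq_map.symm A]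
end Groth.Agent.S9249
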