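import Groth.Statements.S9250
import Groth.Agent.CAlgAndre.Global
import Groth.Agent.RegLocus.Basic

set_option autoImplicit false
universe u
open CAlg

namespace Groth.Agent.S9250

/-- Let R → S be a regular ring map with S Noetherian and R regular. Then S is regular. -/
theorem result (R S : Type u) [CommRing R] [CommRing S] [Algebra R S]
    [IsRegularRing R] [IsNoetherianRing S] (h : CAlg.IsRegularHom R S) : IsRegularRing S := by
  haveI := h.1
  refine isRegularRing_iff.2 fun q hq => ?_
  let p := q.comap (algebraMap R S)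
  let Rp := Localization.AtPrime p
  let Sq := Localization.AtPrime q
  letI : Algebra Rp Sq := (Localization.localRingHom p q (algebraMap R S) rfl).toAlgebra
  haveI : IsScalarTower R Rp Sq := IsScalarTower.of_algebraMap_eq fun a => by
    rw [IsScalarTower.algebraMap_apply R S Sq]
    exact (Localization.localRingHom_to_map p q (algebraMap R S) rfl a).symm
  haveI : IsLocalHom (algebraMap Rp Sq) := Localization.isLocalHom_localRingHom _ _ _ _
  haveI : IsNoetherianRing Sq := IsLocalization.isNoetherianRing q.primeCompl _ inferInstance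
  have h1 : CAlg.IsRegularHom Rp Sq :=
    Groth.Agent.FormalFibreQF.isRegularHom_localization R S Rp Sq p.primeCompl q.primeCompl h
  haveI := h1.1
  let I := (IsLocalRing.maximalIdeal Rp).map (algebraMap Rp Sq)
  haveI : IsLocalRing (Sq ⧸ I) := Groth.Agent.CAlgAndre.isLocalRing_quotient_map Rp Sq
  have h2 := (Groth.Agent.CAlgAndre.fibre_iff Rp Sq).2 (h1.2 (IsLocalRing.maximalIdeal Rp)).2
  rw [IsLocalRing.map_maximalIdeal_of_surjective _ Ideal.Quotient.mk_surjective] at h2
  letI : Field (Rp ⧸ IsLocalRing.maximalIdeal Rp) := Ideal.Quotient.field _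
  haveI : IsRegularLocalRing (Sq ⧸ I) := (Groth.Agent.SymGr.isAdicFormallySmooth_field_iff_regular.1 h2).1
  refine Groth.Agent.RegLocus.regular_ascend R S q ((isRegularRing_iff.1 ‹IsRegularRing R›) p) ?_
  refine IsRegularLocalRing.of_ringEquiv (R := Sq ⧸ I) (Ideal.quotEquivOfEq ?_)
  show (IsLocalRing.maximalIdeal Rp).map (algebraMap Rp Sq) = p.map (algebraMap R Sq)
  rw [← IsLocalization.AtPrime.map_eq_maximalIdeal p Rp, Ideal.map_map, ← IsScalarTower.algebraMap_eq]

end Groth.Agent.S9250
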