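import Groth.Statements.S9255
import Groth.Agent.GenFree.Algebra
import Groth.Agent.RegLocus.Smooth

set_option autoImplicit false
universe u
open EGA4

namespace Groth.Agent.S9255

open TensorProduct

theorem regular_of_localization (R : Type u) [CommRing R] (M : Submonoid R) (S : Type u) [CommRing S] [Algebra R S]
    [IsLocalization M S] (P : Ideal S) [P.IsPrime]
    (h : IsRegularLocalRing (Localization.AtPrime (P.comap (algebraMap R S)))) :
    IsRegularLocalRing (Localization.AtPrime P) := by
  haveI := IsLocalization.isLocalization_isLocalization_atPrime_isLocalization M (Localization.AtPrime P) P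
  exact IsRegularLocalRing.of_ringEquiv (R := Localization.AtPrime (P.comap (algebraMap R S)))
    (IsLocalization.algEquiv (P.comap (algebraMap R S)).primeCompl _ (Localization.AtPrime P)).toRingEquiv


/-- Let R be a Noetherian domain and R → S an injective ring map of finite type with S a domain. If the
regular locus of Spec S contains a nonempty open subset, then the regular locus of Spec R contains a
nonempty open subset. -/
theorem result (R S : Type u) [CommRing R]
    [IsDomain R] [IsNoetherianRing R] [CommRing S] [IsDomain S] [Algebra R S] [Algebra.FiniteType R S]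
    (hinj : Function.Injective (algebraMap R S))
    (hS : ∃ U : Set (PrimeSpectrum S), IsOpen U ∧ U.Nonempty ∧ U ⊆ EGA4.regLocus S) :
    ∃ U : Set (PrimeSpectrum R), IsOpen U ∧ U.Nonempty ∧ U ⊆ EGA4.regLocus R := by
  obtain ⟨U, hU, ⟨x, hx⟩, hUreg⟩ := hS
  obtain ⟨_, ⟨f, rfl⟩, hxf, hfU⟩ := (PrimeSpectrum.isTopologicalBasis_basic_opens.isOpen_iff.1 hU) x hx
  have hf0 : f ≠ 0 := fun e => hxf (e ▸ Ideal.zero_mem _)
  let T := Localization.Away f
  haveI : IsDomain T := IsLocalization.isDomain_localization (powers_le_nonZeroDivisors_of_noZeroDivisors hf0)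
  haveI : Algebra.FiniteType R T := Algebra.FiniteType.trans ‹Algebra.FiniteType R S› inferInstance
  have hinjT : Function.Injective (algebraMap R T) := by
    rw [IsScalarTower.algebraMap_eq R S T]
    exact (IsLocalization.injective T (powers_le_nonZeroDivisors_of_noZeroDivisors hf0)).comp hinj
  obtain ⟨g, -, hg, -, hfree, -, -⟩ := GenFree.exists_generic_freeness (R := R) T T one_ne_zero
  let Rg := Localization.Away g
  let Tg := Rg ⊗[R] T
  let e : Tg ≃ₗ[Rg] LocalizedModule.Away g T :=
    (IsLocalizedModule.isBaseChange (Submonoid.powers g) Rg (LocalizedModule.mkLinearMap (Submonoid.powers g) T)).equiv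
  haveI : Module.Free Rg Tg := Module.Free.of_equiv e.symm
  letI : Algebra T Tg := Algebra.TensorProduct.rightAlgebra
  haveI : IsLocalization (Algebra.algebraMapSubmonoid T (Submonoid.powers g)) Tg := inferInstance
  haveI : Nontrivial Tg := by
    refine (IsLocalization.injective (S := Tg) (M := Algebra.algebraMapSubmonoid T (Submonoid.powers g)) ?_).nontrivial
    rintro _ ⟨_, ⟨k, rfl⟩, rfl⟩
    exact mem_nonZeroDivisors_of_ne_zero ((map_ne_zero_iff _ hinjT).2 (pow_ne_zero _ hg))
  haveI : Module.Flat Rg Tg := Module.Flat.of_free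
  haveI : Module.FaithfullyFlat Rg Tg := Module.FaithfullyFlat.instOfNontrivialOfFree Rg Tg
  haveI : IsNoetherianRing Rg := IsLocalization.isNoetherianRing (Submonoid.powers g) _ inferInstance
  refine ⟨PrimeSpectrum.basicOpen g, (PrimeSpectrum.basicOpen g).isOpen,
    ⟨⟨⊥, Ideal.isPrime_bot⟩, fun h0 => hg ((Ideal.mem_bot).1 h0)⟩, fun p hp => ?_⟩
  have hdis : Disjoint (Submonoid.powers g : Set R) (p.asIdeal : Set R) :=
    (Ideal.disjoint_powers_iff_notMem_of_isPrime _).mpr hp
  let p' := p.asIdeal.map (algebraMap R Rg)
  haveI : p'.IsPrime := IsLocalization.isPrime_of_isPrime_disjoint (Submonoid.powers g) _ _ p.isPrime hdis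
  have hp' : p'.comap (algebraMap R Rg) = p.asIdeal :=
    IsLocalization.under_map_of_isPrime_disjoint (Submonoid.powers g) _ p.isPrime hdis
  obtain ⟨Q, hQ⟩ := PrimeSpectrum.comap_surjective_of_faithfullyFlat (A := Rg) (B := Tg) ⟨p', ‹_›⟩
  have hregQ : IsRegularLocalRing (Localization.AtPrime Q.asIdeal) := by
    refine regular_of_localization T (Algebra.algebraMapSubmonoid T (Submonoid.powers g)) Tg Q.asIdeal ?_
    refine regular_of_localization S (Submonoid.powers f) T _ ?_
    refine hUreg (hfU (show (⟨(Q.asIdeal.comap (algebraMap T Tg)).comap (algebraMap S T), inferInstance⟩ : PrimeSpectrum S) ∈ _ from ?_))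
    intro hmem
    exact (inferInstance : (Q.asIdeal.comap (algebraMap T Tg)).IsPrime).ne_top
      (Ideal.eq_top_of_isUnit_mem _ hmem (IsLocalization.Away.algebraMap_isUnit f))
  have h1 : IsRegularLocalRing (Localization.AtPrime p') :=
    RegLocus.regular_congr (congrArg PrimeSpectrum.asIdeal hQ) (RegLocus.regular_descend Rg Tg Q.asIdeal hregQ)
  haveI := IsLocalization.isLocalization_isLocalization_atPrime_isLocalization (Submonoid.powers g) (Localization.AtPrime p') p'
  show IsRegularLocalRing (Localization.AtPrime p.asIdeal)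
  refine RegLocus.regular_congr hp' ?_
  exact IsRegularLocalRing.of_ringEquiv (R := Localization.AtPrime p')
    (IsLocalization.algEquiv (p'.comap (algebraMap R Rg)).primeCompl (Localization.AtPrime p') _).toRingEquiv

end Groth.Agent.S9255
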