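import Groth.Statements.S9260
import Mathlib
-- import your own Groth.Agent.* helpers here

set_option autoImplicit false
universe u
open CAlg

open Polynomial

namespace Groth.Agent.S9260

theorem main (A R G : Type u) [CommRing A]
    [CommRing R] [Algebra A R] [Group G] [Fintype G] [MulSemiringAction G R] [SMulCommClass G A R]
    [Algebra.IsInvariant A R G] (J : Ideal A) (x : R) (hx : x ∈ Ideal.map (algebraMap A R) J) :
    ∃ P : Polynomial A, P.Monic ∧ P.natDegree ≤ Fintype.card G ∧
      (∀ i : ℕ, i < Fintype.card G → P.coeff i ∈ J) ∧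
      Polynomial.map (algebraMap A R) P = ∏ σ : G, (Polynomial.X - Polynomial.C (σ • x)) := by
  classical
  obtain ⟨c, hc⟩ := Submodule.mem_span_set'.1 hx |>.imp fun L h => h
  obtain ⟨r, v, hv⟩ := hc
  choose j hjJ hj using fun l => (v l).2
  set n := Fintype.card G with hn
  let T := MvPolynomial (Fin c) R
  let y : T := ∑ l, MvPolynomial.C (r l) * MvPolynomial.X l
  let φ : G → T →+* T := fun σ => MvPolynomial.map (MulSemiringAction.toRingHom G R σ)
  let Q : T[X] := ∏ σ : G, (X - C (φ σ y))
  have hφ : ∀ σ τ, φ σ (φ τ y) = φ (σ * τ) y := fun σ τ => by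
    have hcomp : (MulSemiringAction.toRingHom G R σ).comp (MulSemiringAction.toRingHom G R τ) =
        MulSemiringAction.toRingHom G R (σ * τ) := RingHom.ext fun a => (mul_smul σ τ a).symm
    simp only [φ]
    rw [MvPolynomial.map_map, hcomp]
  have hinv : ∀ σ, Q.map (φ σ) = Q := fun σ => by
    simp only [Q, Polynomial.map_prod, Polynomial.map_sub, map_X, map_C, hφ]
    exact Fintype.prod_equiv (Equiv.mulLeft σ) _ _ fun τ => rfl
  have hcoef : ∀ i e, ∃ a : A, algebraMap A R a = MvPolynomial.coeff e (Q.coeff i) := fun i e => by
    refine Algebra.IsInvariant.isInvariant (G := G) _ fun σ => ?_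
    conv_rhs => rw [← hinv σ, coeff_map, MvPolynomial.coeff_map]
    rfl
  choose a ha using hcoef
  let ev : T →+* R := MvPolynomial.eval fun l => algebraMap A R (j l)
  let Qc : ℕ → MvPolynomial (Fin c) A := fun i => ∑ e ∈ (Q.coeff i).support, MvPolynomial.monomial e (a i e)
  let b : ℕ → A := fun i => MvPolynomial.eval j (Qc i)
  have hb : ∀ i, algebraMap A R (b i) = ev (Q.coeff i) := fun i => by
    conv_rhs => rw [(Q.coeff i).as_sum]
    simp only [b, Qc, ev, map_sum, MvPolynomial.eval_monomial, map_mul, ha, Finsupp.prod, map_prod, map_pow]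
    refine Finset.sum_congr rfl fun e _ => ?_
    erw [MvPolynomial.eval_monomial]
    rfl
  have hmonic : Q.Monic := monic_prod_of_monic _ _ fun σ _ => monic_X_sub_C _
  have hdeg : Q.natDegree ≤ n := by
    refine (natDegree_prod_le _ _).trans ?_
    refine (Finset.sum_le_sum fun σ _ => natDegree_X_sub_C_le _).trans ?_
    simp [hn]
  have hzero : ∀ i, i < n → MvPolynomial.constantCoeff (Q.coeff i) = 0 := fun i hi => by
    rw [← coeff_map]
    simp only [Q, Polynomial.map_prod, Polynomial.map_sub, map_X, map_C, φ]
    have : ∀ σ : G, MvPolynomial.constantCoeff (MvPolynomial.map (MulSemiringAction.toRingHom G R σ) y) = 0 := fun σ => by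
      simp [y, map_sum]
    simp only [this, C_0, sub_zero, Finset.prod_const, Finset.card_univ, coeff_X_pow]
    exact if_neg hi.ne
  have hbJ : ∀ i, i < n → b i ∈ J := fun i hi => by
    simp only [b, Qc, map_sum, MvPolynomial.eval_monomial]
    refine sum_mem fun e he => ?_
    have he0 : e ≠ 0 := by
      rintro rfl
      exact MvPolynomial.mem_support_iff.1 he (hzero i hi)
    obtain ⟨l, hl⟩ := Finsupp.support_nonempty_iff.2 he0
    rw [Finsupp.prod, ← Finset.mul_prod_erase _ _ hl]
    exact J.mul_mem_left _ (J.mul_mem_right _ (Ideal.pow_mem_of_mem J (hjJ l) _ (Nat.pos_of_ne_zero (Finsupp.mem_support_iff.1 hl))))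
  have hevy : ∀ σ, ev (φ σ y) = σ • x := fun σ => by
    simp only [ev, φ, y, map_sum, map_mul, MvPolynomial.map_C, MvPolynomial.map_X, MvPolynomial.eval_C, MvPolynomial.eval_X]
    rw [← hv, Finset.smul_sum]
    refine Finset.sum_congr rfl fun l _ => ?_
    rw [smul_eq_mul, smul_mul', ← hj l, smul_algebraMap]
    erw [MvPolynomial.map_C, MvPolynomial.map_X, MvPolynomial.eval_C, MvPolynomial.eval_X]
    rfl
  have hQev : Q.map ev = ∏ σ : G, (X - C (σ • x)) := by
    simp only [Q, Polynomial.map_prod, Polynomial.map_sub, map_X, map_C, hevy]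
  refine ⟨X ^ n + ∑ i ∈ Finset.range n, C (b i) * X ^ i, ?_, ?_, ?_, ?_⟩
  · refine monic_X_pow_add ?_
    exact (degree_sum_fin_lt fun i : Fin n => b i).trans_le' (le_of_eq (by rw [Finset.sum_range]))
  · refine natDegree_add_le_of_degree_le ?_ (natDegree_sum_le_of_forall_le _ _ fun i hi => ?_)
    · exact natDegree_X_pow_le n
    · exact (natDegree_C_mul_X_pow_le _ _).trans (Finset.mem_range.1 hi).le
  · intro i hi
    simp only [coeff_add, coeff_X_pow, if_neg hi.ne, zero_add, finsetSum_coeff, coeff_C_mul_X_pow]
    simp only [Finset.sum_ite_eq, Finset.mem_range, hi, if_true]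
    exact hbJ i hi
  · rw [← hQev]
    ext i
    simp only [coeff_map, coeff_add, coeff_X_pow, finsetSum_coeff, coeff_C_mul_X_pow, Finset.sum_ite_eq, Finset.mem_range]
    rcases lt_trichotomy i n with h | h | h
    · simp [h.ne, h, hb]
    · subst h
      have : Q.coeff n = 1 := by
        have h2 : Q.natDegree = n ∨ Subsingleton T := by
          rcases subsingleton_or_nontrivial T with h | h
          · exact Or.inr h
          · left
            simp only [Q]
            rw [natDegree_prod_of_monic _ _ fun σ _ => monic_X_sub_C _]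
            simp [hn]
        rcases h2 with h2 | h2
        · rw [← h2]; exact hmonic.coeff_natDegree
        · exact Subsingleton.elim _ _
      simp [this]
    · rw [coeff_eq_zero_of_natDegree_lt (hdeg.trans_lt h)]
      simp [h.ne', not_lt.2 h.le]

end Groth.Agent.S9260

namespace Groth.Agent.S9260

/-- Suppose a finite group G with n elements acts on a ring R by ring automorphisms, A → R is a ring map
compatible with the action whose image contains the invariants (so that A maps onto R^G), J is an
ideal of A, and x lies in JR. Then ∏_σ (T - σ(x)) is the image of a monic polynomial over A of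
degree at most n whose coefficients below degree n all lie in J. (The published statement takes A =
R^G and a polynomial of degree n; this row allows any such A mapping onto R^G and asks degree at
most n, which is the same when A is nonzero.) -/
theorem result (A R G : Type u) [CommRing A]
    [CommRing R] [Algebra A R] [Group G] [Fintype G] [MulSemiringAction G R] [SMulCommClass G A R]
    [Algebra.IsInvariant A R G] (J : Ideal A) (x : R) (hx : x ∈ Ideal.map (algebraMap A R) J) :
    ∃ P : Polynomial A, P.Monic ∧ P.natDegree ≤ Fintype.card G ∧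
      (∀ i : ℕ, i < Fintype.card G → P.coeff i ∈ J) ∧
      Polynomial.map (algebraMap A R) P = ∏ σ : G, (Polynomial.X - Polynomial.C (σ • x)) := by
  exact Groth.Agent.S9260.main A R G J x hx

end Groth.Agent.S9260
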