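import Groth.Statements.S9261
import Mathlib
-- import your own Groth.Agent.* helpers here

set_option autoImplicit false
universe u
open CAlg

namespace Groth.Agent.S9261

/-- Let G be a finite group acting on a ring R, S = R^G its ring of invariants (here: S → R injective
with image the invariants) and A a flat S-algebra. Then the map A → A ⊗_S R is injective with image
the invariants of G acting on A ⊗_S R through the second factor; that is, A → (A ⊗_S R)^G is an
isomorphism. -/
theorem result (S R A G : Type u) [CommRing S] [CommRing R] [Algebra S R]
    [FaithfulSMul S R] [Group G] [Finite G] [MulSemiringAction G R] [SMulCommClass G S R]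
    [Algebra.IsInvariant S R G] [CommRing A] [Algebra S A] [Module.Flat S A] :
    Function.Injective (algebraMap A (TensorProduct S A R)) ∧
      ∀ x : TensorProduct S A R,
        (∀ σ : G, Algebra.TensorProduct.map (AlgHom.id S A) (MulSemiringAction.toAlgHom S R σ) x = x) →
          x ∈ Set.range (algebraMap A (TensorProduct S A R)) := by
  classical
  have := Fintype.ofFinite G
  let d : R →ₗ[S] (G → R) := LinearMap.pi fun σ => (MulSemiringAction.toAlgHom S R σ).toLinearMap - LinearMap.id
  have hex : Function.Exact (Algebra.linearMap S R) d := fun r => by
    constructor
    · intro h
      obtain ⟨s, hs⟩ := Algebra.IsInvariant.isInvariant (A := S) (G := G) r fun σ => by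
        have := congr_fun h σ
        simpa [d, sub_eq_zero] using this
      exact ⟨s, hs⟩
    · rintro ⟨s, rfl⟩
      funext σ
      simp [d]
  have hinj : Function.Injective (Algebra.linearMap S R) := FaithfulSMul.algebraMap_injective S R
  refine ⟨?_, fun x hx => ?_⟩
  · have h := (Module.Flat.lTensor_preserves_injective_linearMap (M := A) _ hinj).comp (TensorProduct.rid S A).symm.injective
    convert h using 1
    funext a
    simp [Algebra.TensorProduct.algebraMap_apply]
  · have hz : d.lTensor A x = 0 := by
      apply (TensorProduct.piRight S S A (fun _ : G => R)).injective
      rw [map_zero]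
      funext σ
      have key : ∀ y : TensorProduct S A R, TensorProduct.piRight S S A (fun _ : G => R) (d.lTensor A y) σ
          = Algebra.TensorProduct.map (AlgHom.id S A) (MulSemiringAction.toAlgHom S R σ) y - y := by
        intro y
        induction y using TensorProduct.induction_on with
        | zero => simp
        | tmul a r => simp [d, TensorProduct.tmul_sub]
        | add y z hy hz => simp only [map_add, Pi.add_apply, hy, hz]; abel
      rw [key, hx σ, sub_self]; rfl
    obtain ⟨y, rfl⟩ := (Module.Flat.lTensor_exact A hex x).1 hz
    refine ⟨TensorProduct.rid S A y, ?_⟩
    clear hx hz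
    induction y using TensorProduct.induction_on with
    | zero => simp
    | tmul a s =>
      rw [TensorProduct.rid_tmul, LinearMap.lTensor_tmul, Algebra.linearMap_apply,
        Algebra.algebraMap_eq_smul_one (R := S) (A := R), ← TensorProduct.smul_tmul]
      exact Algebra.TensorProduct.algebraMap_apply (R := S) (S := A) (A := A) (B := R) (s • a)
    | add y z hy hz => simp [map_add, hy, hz]
end Groth.Agent.S9261
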