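import Groth.Statements.S9264
import Groth.Agent.KoszulCech.ExtCechTors
set_option autoImplicit false
universe u
attribute [local instance] HasDerivedCategory.standard
open CategoryTheory
open DerCA


namespace Groth.Agent.S9264

set_option backward.isDefEq.respectTransparency false
set_option backward.defeqAttrib.useBackward true

/-- The cohomology of the extended alternating Cech complex of a module M with respect to f_1, ..., f_r
vanishes in degrees outside [0, r]. -/
theorem result (R : Type u) [CommRing R] (fs : List R)
    (M : ModuleCat.{u} R) (q : ℤ) (hq : q < 0 ∨ (fs.length : ℤ) < q) :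
    Limits.IsZero (DerCA.extCechH fs M q) := by
  refine (KoszulCech.ExtCech.exactAt_of_ex ?_).isZero_homology
  rcases hq with hq | hq
  · exact (KoszulCech.ExtCech.spec M fs).neg q hq
  · exact KoszulCech.ExtCech.ex_of_subsingleton (KoszulCech.ExtCech.subsingleton_X_gt M fs q hq)

end Groth.Agent.S9264
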