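import Groth.Statements.S9265
import Groth.Agent.KoszulCech.ExtCechTors
set_option autoImplicit false
universe u
attribute [local instance] HasDerivedCategory.standard
open CategoryTheory
open DerCA


namespace Groth.Agent.S9265

set_option backward.isDefEq.respectTransparency false
set_option backward.defeqAttrib.useBackward true

/-- Every element of the cohomology of the extended alternating Cech complex of M with respect to f_1,
..., f_r is killed by a common power of the f_i; in particular these cohomology modules are
supported on V(f_1, ..., f_r). -/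
theorem result (R : Type u) [CommRing R] (fs : List R) (M : ModuleCat.{u} R)
    (q : ℤ) (x : DerCA.extCechH fs M q) :
    ∃ n : ℕ, 1 ≤ n ∧ ∀ f ∈ fs, (f ^ n) • x = 0 := by
  obtain ⟨z, rfl⟩ := (ModuleCat.epi_iff_surjective ((DerCA.extCech M fs).homologyπ q)).1 inferInstance x
  have hd : (DerCA.extCech M fs).d q (q + 1) ((DerCA.extCech M fs).iCycles q z) = 0 :=
    congrArg (fun t => t.hom z) ((DerCA.extCech M fs).iCycles_d q (q + 1))
  have hk : ∀ g ∈ fs, ∃ n : ℕ, g ^ n • ((DerCA.extCech M fs).homologyπ q z) = 0 := by
    intro g hg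
    obtain ⟨n, w, hw⟩ := KoszulCech.ExtCech.exists_pow_kills M fs q _ hd g hg
    refine ⟨n, ?_⟩
    have hz : g ^ n • z = (DerCA.extCech M fs).toCycles (q - 1) q w := by
      refine (ModuleCat.mono_iff_injective ((DerCA.extCech M fs).iCycles q)).1 inferInstance ?_
      rw [map_smul, ← CategoryTheory.ConcreteCategory.comp_apply, HomologicalComplex.toCycles_i, hw]
    rw [← map_smul, hz, ← CategoryTheory.ConcreteCategory.comp_apply, HomologicalComplex.toCycles_comp_homologyπ]
    rfl
  choose n hn using hk
  clear hd
  suffices h : ∀ l : List R, (∀ g ∈ l, g ∈ fs) → ∃ N, 1 ≤ N ∧ ∀ g ∈ l,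
      g ^ N • ((DerCA.extCech M fs).homologyπ q z) = 0 from h fs fun g hg => hg
  intro l
  induction l with
  | nil => exact fun _ => ⟨1, le_rfl, fun g hg => absurd hg List.not_mem_nil⟩
  | cons c l ih =>
    intro hl
    obtain ⟨N, hN, h⟩ := ih fun g hg => hl g (List.mem_cons_of_mem c hg)
    have hc := hl c List.mem_cons_self
    refine ⟨N + n c hc, by omega, fun g hg => ?_⟩
    rcases List.mem_cons.1 hg with rfl | hg'
    · rw [pow_add, mul_smul, hn, smul_zero]
    · rw [pow_add, mul_comm, mul_smul, h g hg', smul_zero]

end Groth.Agent.S9265
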