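import Groth.Statements.S9266
import Groth.Agent.KoszulCech.ExtCechTors
import Groth.Agent.S17777
set_option autoImplicit false
universe u
attribute [local instance] HasDerivedCategory.standard
open CategoryTheory
open DerCA


namespace Groth.Agent.S9266

set_option backward.isDefEq.respectTransparency false
set_option backward.defeqAttrib.useBackward true

/-- If some element f of the ideal (f_1, ..., f_r) acts invertibly on the module M, then the extended
alternating Cech complex of M with respect to f_1, ..., f_r has zero cohomology in every degree. -/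
theorem result (R : Type u) [CommRing R] (fs : List R)
    (M : ModuleCat.{u} R) (f : R) (hf : f ∈ Ideal.span {a : R | a ∈ fs})
    (hbij : Function.Bijective (fun m : M => f • m)) (q : ℤ) :
    Limits.IsZero (DerCA.extCechH fs M q) := by
  refine (KoszulCech.ExtCech.exactAt_of_ex ?_).isZero_homology
  rw [KoszulCech.ExtCech.ex_iff_kills]
  intro x hx
  let K := DerCA.extCech M fs
  have hle : Ideal.span {a : R | a ∈ fs} ≤ (KoszulCech.ExtCech.killIdeal K q x).radical :=
    Ideal.span_le.2 fun g hg => KoszulCech.ExtCech.exists_pow_kills M fs q x hx g hg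
  obtain ⟨n, w, hw⟩ := hle hf
  have h1 := S17777.result R (f :: fs) M f List.mem_cons_self hbij q
  have hex : KoszulCech.ExtCech.Ex (DerCA.extCech M (f :: fs)) q :=
    KoszulCech.ExtCech.ex_of_exactAt ((HomologicalComplex.exactAt_iff_isZero_homology _ _).2 h1)
  let φ := DerCA.locCxUnit (Submonoid.powers f) K
  let L := (DerCA.locCx (Submonoid.powers f)).obj K
  have e1 : q + -1 + 1 = q := by omega
  obtain ⟨w', hw'⟩ : ∃ w' : K.X (q + -1), K.d (q + -1) q w' = f ^ n • x := by
    rw [show q + -1 = q - 1 by omega]; exact ⟨w, hw⟩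
  obtain ⟨v, hv⟩ := KoszulCech.ExtCech.pow_surj f K n (KoszulCech.ExtCech.li f K (q + -1) w')
  have hLv : L.d (q + -1) q v = KoszulCech.ExtCech.li f K q x := KoszulCech.ExtCech.pow_inj f K n (by
    rw [← map_smul, hv, KoszulCech.ExtCech.li_d, hw', map_smul])
  let z : (CochainComplex.mappingCone φ).X (q + -1) := KoszulCech.ExtCech.mk φ e1 x (-v)
  obtain ⟨p, hp⟩ : ∃ p, p + 1 = q := ⟨q - 1, by omega⟩
  have hz : (DerCA.extCech M (f :: fs)).d q (q + 1) z = 0 := by
    refine (KoszulCech.ExtCech.cocone_d φ q (q + 1) z).trans (neg_eq_zero.2 ?_)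
    have e2 : q + 1 + -1 = q := by omega
    suffices h0 : ∀ r, r = q → (CochainComplex.mappingCone φ).d (q + -1) r z = 0 from h0 _ e2
    rintro r rfl
    refine KoszulCech.ExtCech.ext φ (rfl : r + 1 = r + 1) ?_ ?_
    · rw [KoszulCech.ExtCech.pf_d φ (r + -1) r (r + 1) e1 rfl, KoszulCech.ExtCech.pf_mk, hx, neg_zero, map_zero]
    · rw [KoszulCech.ExtCech.ps_d φ (r + -1) r e1, KoszulCech.ExtCech.pf_mk, KoszulCech.ExtCech.ps_mk, map_zero,
        map_neg]
      exact add_neg_eq_zero.2 hLv.symm
  obtain ⟨y, hy⟩ := hex p (q + 1) hp rfl z hz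
  have hp1 : p = q + -1 := by omega
  subst hp1
  have h2 : q + -1 + -1 + 1 = q + -1 := by omega
  let y' : (CochainComplex.mappingCone φ).X (q + -1 + -1) := y
  have hy' : -((CochainComplex.mappingCone φ).d (q + -1 + -1) (q + -1) y') = z :=
    (KoszulCech.ExtCech.cocone_d φ (q + -1) q y).symm.trans hy
  have h3 := congrArg (KoszulCech.ExtCech.pf φ (q + -1) q e1) hy'
  rw [map_neg, KoszulCech.ExtCech.pf_d φ _ _ _ h2 e1, neg_neg, KoszulCech.ExtCech.pf_mk] at h3
  obtain ⟨a, ha⟩ : ∃ a : K.X (q - 1), K.d (q - 1) q a = x := by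
    rw [show q - 1 = q + -1 by omega]; exact ⟨_, h3⟩
  exact ⟨a, by rw [ha, one_smul]⟩

end Groth.Agent.S9266
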