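import Groth.Statements.S9267
import Groth.Agent.KoszulCech.ExtCechTors
set_option autoImplicit false
universe u
attribute [local instance] HasDerivedCategory.standard
open CategoryTheory
open DerCA


namespace Groth.Agent.S9267

set_option backward.isDefEq.respectTransparency false
set_option backward.defeqAttrib.useBackward true

/-- For a Koszul-regular sequence f_1, ..., f_r in a ring R, the extended alternating Cech complex R → ⊕
R_{f_i} → ... → R_{f_1 ... f_r} has cohomology only in degree r. -/
theorem result (R : Type u) [CommRing R] (fs : List R)
    (hfs : LCI.IsKoszulRegularSeq R fs) (q : ℤ) (hq : q ≠ (fs.length : ℤ)) :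
    Limits.IsZero (DerCA.extCechH fs (ModuleCat.of R R) q) := by
  refine (KoszulCech.ExtCech.exactAt_of_ex ?_).isZero_homology
  rcases lt_or_gt_of_ne hq with h | h
  · exact KoszulCech.ExtCech.ex_of_koszulRegular fs hfs q h
  · exact KoszulCech.ExtCech.ex_of_subsingleton (KoszulCech.ExtCech.subsingleton_X_gt _ fs q h)

end Groth.Agent.S9267
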