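import Groth.Statements.S9268
import Mathlib
import Groth.Agent.FSAdic.Discrete
import Groth.Agent.FSAdic.Basic
-- import your own Groth.Agent.* helpers here

set_option autoImplicit false
universe u
open CAlg

namespace Groth.Agent.S9268

/-- Suppose A is a Noetherian ring and B is a finitely generated A-algebra, and consider a prime q of B
lying over p in A. Then A → B is smooth at q (meaning some g not in q makes A → B_g smooth) exactly
when the induced map A_p → B_q is formally smooth with respect to the adic topology defined by the
maximal ideal of B_q. -/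
theorem result (A B : Type u) [CommRing A] [IsNoetherianRing A]
    [CommRing B] [Algebra A B] [Algebra.FiniteType A B] (q : Ideal B) [q.IsPrime] :
    (∃ g : B, g ∉ q ∧ Algebra.Smooth A (Localization.Away g)) ↔
      letI := (Localization.localRingHom (Ideal.comap (algebraMap A B) q) q (algebraMap A B) rfl).toAlgebra
      CAlgX.IsAdicFormallySmooth (Localization.AtPrime (Ideal.comap (algebraMap A B) q))
        (Localization.AtPrime q) (IsLocalRing.maximalIdeal (Localization.AtPrime q)) := by
  let p := Ideal.comap (algebraMap A B) q
  let Ap := Localization.AtPrime p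
  let Bq := Localization.AtPrime q
  let _ : Algebra Ap Bq := (Localization.localRingHom p q (algebraMap A B) rfl).toAlgebra
  have : IsScalarTower A Ap Bq := IsScalarTower.of_algebraMap_eq fun r => by
    change _ = Localization.localRingHom p q (algebraMap A B) rfl _
    rw [Localization.localRingHom_to_map, ← IsScalarTower.algebraMap_apply A B Bq]
  have : IsLocalHom (algebraMap Ap Bq) := Localization.isLocalHom_localRingHom _ _ _ _
  have : Algebra.FinitePresentation A B := Algebra.FinitePresentation.of_finiteType.mp ‹_›
  have : Algebra.EssFiniteType B Bq := Algebra.EssFiniteType.of_isLocalization Bq q.primeCompl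
  have : Algebra.EssFiniteType A Bq := Algebra.EssFiniteType.comp A B Bq
  have : Algebra.EssFiniteType Ap Bq := Algebra.EssFiniteType.of_comp A Ap Bq
  constructor
  · rintro ⟨g, hg, hs⟩
    have hsub : (PrimeSpectrum.basicOpen g : Set (PrimeSpectrum B)) ⊆ Algebra.smoothLocus A B :=
      Algebra.basicOpen_subset_smoothLocus_iff_smooth.mpr hs
    have : Algebra.FormallySmooth A Bq := hsub (show (⟨q, ‹_›⟩ : PrimeSpectrum B) ∈ _ from hg)
    have : Algebra.FormallySmooth Ap Bq := Algebra.FormallySmooth.localization_base p.primeCompl
    intro C _ _ J hJ ψ _
    exact Algebra.FormallySmooth.exists_lift J ⟨2, hJ⟩ ψ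
  · intro h
    have : Algebra.FormallySmooth Ap Bq :=
      Groth.Agent.FSAdicDiscrete.formallySmooth_of_isFormallySmoothAdic Ap Bq
        (Groth.Agent.FSAdic.of_sq_zero _ _ fun C _ _ J hJ _ u hu => h C J hJ u hu)
    have : Algebra.FormallySmooth A Ap := Algebra.FormallySmooth.of_isLocalization p.primeCompl
    have : Algebra.IsSmoothAt A q := Algebra.FormallySmooth.comp A Ap Bq
    exact Algebra.IsSmoothAt.exists_notMem_smooth A q

end Groth.Agent.S9268
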