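import Groth.Statements.S9271
import Groth.Agent.QRFlat.Basic
import Mathlib
-- import your own Groth.Agent.* helpers here

set_option autoImplicit false
universe u
open CAlg

open TensorProduct in
theorem S9271_aux {A' Q Q0 : Type u} [CommRing A'] [CommRing Q] [Algebra A' Q] [Algebra.FinitePresentation A' Q]
    [Module.Flat A' Q] (I : Ideal A') (hI : ∀ x ∈ I, IsNilpotent x) [CommRing Q0] [Algebra (A' ⧸ I) Q0]
    [Algebra.Smooth (A' ⧸ I) Q0] (e : Q ⧸ I.map (algebraMap A' Q) ≃+* Q0)
    (he : ∀ a : A', e (algebraMap A' _ a) = algebraMap (A' ⧸ I) Q0 (Ideal.Quotient.mk I a)) :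
    Algebra.Smooth A' Q := by
  refine Algebra.Smooth.of_formallySmooth_fiber fun p _ => ?_
  have hIp : I ≤ p := fun x hx => (hI x hx).elim fun n hn =>
    (inferInstance : p.IsPrime).mem_of_pow_mem n (hn ▸ p.zero_mem)
  let A := A' ⧸ I
  let e1 : Q0 ≃+* A ⊗[A'] Q := (e.symm.trans
    (Algebra.TensorProduct.quotIdealMapEquivTensorQuot Q I).toRingEquiv).trans
      (Algebra.TensorProduct.comm A' Q A).toRingEquiv
  let e2 : Q0 ≃ₐ[A] A ⊗[A'] Q := AlgEquiv.ofRingEquiv (f := e1) (fun a => by
    obtain ⟨a, rfl⟩ := Ideal.Quotient.mk_surjective a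
    show (Algebra.TensorProduct.comm A' Q A) ((Algebra.TensorProduct.quotIdealMapEquivTensorQuot Q I)
      (e.symm (algebraMap A Q0 (Ideal.Quotient.mk I a)))) = _
    rw [← he, RingEquiv.symm_apply_apply, IsScalarTower.algebraMap_apply A' Q (Q ⧸ I.map (algebraMap A' Q)),
      AlgEquiv.commutes, ← IsScalarTower.algebraMap_apply A' Q, AlgEquiv.commutes,
      IsScalarTower.algebraMap_apply A' A (A ⊗[A'] Q)]
    rfl)
  have : Algebra.Smooth A (A ⊗[A'] Q) := Algebra.Smooth.of_equiv e2
  let k := p.ResidueField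
  letI : Algebra A k := (Ideal.Quotient.lift I (algebraMap A' k) (fun x hx => by
    rw [Ideal.algebraMap_residueField_eq_zero]; exact hIp hx)).toAlgebra
  have : IsScalarTower A' A k := IsScalarTower.of_algebraMap_eq fun a => rfl
  exact Algebra.FormallySmooth.of_equiv (Algebra.TensorProduct.cancelBaseChange A' A k k Q)

namespace Groth.Agent.S9271

/-- Suppose A' → B' is a flat ring map of finite presentation (smooth maps being one example), and let I
be a locally nilpotent ideal of A', with A = A'/I and B = B'/IB'. Let f'_1, ..., f'_r be elements of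
B' whose images f_1, ..., f_r in B form a quasi-regular sequence with B/(f_1, ..., f_r) smooth over
A. Then B'/(f'_1, ..., f'_r) is smooth over A'. -/
theorem result (A' B' : Type u) [CommRing A']
    [CommRing B'] [Algebra A' B'] [Module.Flat A' B'] [Algebra.FinitePresentation A' B']
    (I : Ideal A') (hI : ∀ x ∈ I, IsNilpotent x) (r : ℕ) (f' : Fin r → B')
    (hq : CAlgX.IsQuasiRegular
      (fun i => Ideal.Quotient.mk (Ideal.map (algebraMap A' B') I) (f' i)))
    (hsm : Algebra.Smooth (A' ⧸ I)
      ((B' ⧸ Ideal.map (algebraMap A' B') I) ⧸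
        Ideal.span (Set.range (fun i => Ideal.Quotient.mk (Ideal.map (algebraMap A' B') I) (f' i))))) :
    Algebra.Smooth A' (B' ⧸ Ideal.span (Set.range f')) := by
  have hflat : Module.Flat (A' ⧸ I) ((B' ⧸ Ideal.map (algebraMap A' B') I) ⧸
        Ideal.span (Set.range (fun i => Ideal.Quotient.mk (Ideal.map (algebraMap A' B') I) (f' i)))) := inferInstance
  have := Groth.Agent.QRFlat.flat_quotient A' B' I hI r f' hq hflat
  have : Algebra.FinitePresentation A' (B' ⧸ Ideal.span (Set.range f')) :=
    Algebra.FinitePresentation.quotient ⟨(Set.finite_range f').toFinset, by simp⟩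
  let K := I.map (algebraMap A' B')
  let J := Ideal.span (Set.range f')
  have h1 : I.map (algebraMap A' (B' ⧸ J)) = K.map (Ideal.Quotient.mk J) := by
    rw [Ideal.map_map]; rfl
  have h2 : J.map (Ideal.Quotient.mk K) =
      Ideal.span (Set.range fun i => Ideal.Quotient.mk K (f' i)) := by
    rw [Ideal.map_span, ← Set.range_comp]; rfl
  let e : (B' ⧸ J) ⧸ I.map (algebraMap A' (B' ⧸ J)) ≃+*
      (B' ⧸ K) ⧸ Ideal.span (Set.range fun i => Ideal.Quotient.mk K (f' i)) :=
    ((Ideal.quotEquivOfEq h1).trans (DoubleQuot.quotQuotEquivComm J K)).trans (Ideal.quotEquivOfEq h2)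
  exact S9271_aux I hI e (fun a => by rfl)

end Groth.Agent.S9271
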