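import Groth.Statements.S9272
import Mathlib
import Groth.Agent.QRFlat.Basic

set_option autoImplicit false
universe u
open CAlgX

namespace Groth.Agent.S9272

open scoped TensorProduct

/-- Let A → B and A → A' be ring maps and B' = A' ⊗_A B. If f_1, ..., f_r is a quasi-regular sequence in
B with B/(f_1, ..., f_r) flat over A, then the images of the f_i in B' form a quasi-regular
sequence. -/
theorem result (A B A' : Type u) [CommRing A] [CommRing B]
    [CommRing A'] [Algebra A B] [Algebra A A'] (r : ℕ) (f : Fin r → B)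
    (hflat : Module.Flat A (B ⧸ Ideal.span (Set.range f))) (hq : CAlgX.IsQuasiRegular f) :
    CAlgX.IsQuasiRegular (fun i => ((1 : A') ⊗ₜ[A] f i : TensorProduct A A' B)) := by
  classical
  let _i1 : Algebra (MvPolynomial A' A) (MvPolynomial A' B) := MvPolynomial.algebraMvPolynomial
  let I : Ideal B := Ideal.span (Set.range f)
  let f' : Fin r → MvPolynomial A' B := fun i => MvPolynomial.C (f i)
  have hI : Ideal.span (Set.range f') = I.map (MvPolynomial.C : B →+* MvPolynomial A' B) := by
    rw [Ideal.map_span, ← Set.range_comp]; rfl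
  -- (1) quasi-regular over the polynomial ring
  have hq' : CAlgX.IsQuasiRegular f' := by
    intro n R hR he d
    rw [hI, MvPolynomial.mem_map_C_iff]
    intro m
    let Rm : MvPolynomial (Fin r) B := ∑ e ∈ R.support, MvPolynomial.monomial e ((R.coeff e).coeff m)
    have hRm : Rm.IsHomogeneous n := MvPolynomial.IsHomogeneous.sum _ _ _ fun e he => by
      refine MvPolynomial.isHomogeneous_monomial _ ?_
      have := hR (MvPolynomial.mem_support_iff.mp he)
      rw [← this]; simp [Finsupp.weight_apply, Finsupp.degree, Finsupp.sum]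
    have hev : MvPolynomial.eval f Rm = (MvPolynomial.eval f' R).coeff m := by
      rw [MvPolynomial.eval_eq f' R, MvPolynomial.coeff_sum, map_sum]
      refine Finset.sum_congr rfl fun e _ => ?_
      rw [MvPolynomial.eval_monomial, show (∏ i ∈ e.support, f' i ^ e i) = MvPolynomial.C (∏ i ∈ e.support, f i ^ e i) by
        simp [f'], mul_comm (R.coeff e), MvPolynomial.coeff_C_mul, mul_comm]
      rfl
    have h1 : Rm.coeff d = (R.coeff d).coeff m := by
      simp only [Rm, MvPolynomial.coeff_sum, MvPolynomial.coeff_monomial, Finset.sum_ite_eq']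
      split_ifs with h
      · rfl
      · rw [MvPolynomial.notMem_support_iff.mp h, MvPolynomial.coeff_zero]
    rw [← h1]
    refine hq n Rm hRm ?_ d
    rw [hev]
    rw [hI, ← Ideal.map_pow] at he
    exact MvPolynomial.mem_map_C_iff.mp he m
  -- (2) flatness over the polynomial ring
  haveI : Module.Flat (MvPolynomial A' A) (MvPolynomial A' B ⧸ Ideal.span (Set.range f')) := by
    let _i2 : Algebra (MvPolynomial A' A) (MvPolynomial A' (B ⧸ I)) := MvPolynomial.algebraMvPolynomial
    haveI : Module.Flat A (B ⧸ I) := hflat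
    haveI : Module.Flat (MvPolynomial A' A) (MvPolynomial A' (B ⧸ I)) :=
      Module.Flat.isBaseChange A (MvPolynomial A' A) (B ⧸ I) (MvPolynomial A' (B ⧸ I))
        (Algebra.IsPushout.out (R := A) (S := MvPolynomial A' A) (R' := B ⧸ I) (S' := MvPolynomial A' (B ⧸ I)))
    let F : MvPolynomial A' B →ₐ[MvPolynomial A' A] MvPolynomial A' (B ⧸ I) :=
      { MvPolynomial.map (Ideal.Quotient.mk I) with
        commutes' := fun p => by
          show MvPolynomial.map (Ideal.Quotient.mk I) (MvPolynomial.map (algebraMap A B) p) = MvPolynomial.map (algebraMap A (B ⧸ I)) p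
          rw [MvPolynomial.map_map]; rfl }
    have hF : Function.Surjective F := MvPolynomial.map_surjective _ Ideal.Quotient.mk_surjective
    have hk : RingHom.ker F = Ideal.span (Set.range f') := by
      rw [hI]
      show RingHom.ker (MvPolynomial.map (Ideal.Quotient.mk I)) = _
      rw [MvPolynomial.ker_map, Ideal.mk_ker]
    exact Module.Flat.of_linearEquiv
      ((Ideal.quotientEquivAlgOfEq (MvPolynomial A' A) hk.symm).trans (Ideal.quotientKerAlgEquivOfSurjective hF)).toLinearEquiv
  -- (3) specialise along A[T] → A'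
  let π : MvPolynomial A' B →+* A' ⊗[A] B :=
    MvPolynomial.eval₂Hom (Algebra.TensorProduct.includeRight : B →ₐ[A] A' ⊗[A] B).toRingHom (fun a => a ⊗ₜ[A] (1 : B))
  let ρ : MvPolynomial A' A →ₐ[A] A' := MvPolynomial.aeval id
  have hAM : ∀ p, algebraMap (MvPolynomial A' A) (MvPolynomial A' B) p = MvPolynomial.map (algebraMap A B) p := fun _ => rfl
  have hπρ : ∀ p, π (algebraMap (MvPolynomial A' A) (MvPolynomial A' B) p) = ρ p ⊗ₜ[A] (1 : B) := by
    intro p
    induction p using MvPolynomial.induction_on with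
    | C c => simp [π, ρ, hAM, Algebra.algebraMap_eq_smul_one, TensorProduct.smul_tmul]
    | add p q hp hq => rw [map_add, map_add, map_add, hp, hq, TensorProduct.add_tmul]
    | mul_X p a hp =>
      rw [map_mul, map_mul, map_mul, hp]
      simp [π, ρ, hAM, Algebra.TensorProduct.tmul_mul_tmul]
  have hπ : Function.Surjective π := by
    intro z
    induction z using TensorProduct.induction_on with
    | zero => exact ⟨0, map_zero _⟩
    | tmul a b => exact ⟨MvPolynomial.X a * MvPolynomial.C b, by simp [π, Algebra.TensorProduct.tmul_mul_tmul]⟩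
    | add x y hx hy => obtain ⟨u, rfl⟩ := hx; obtain ⟨v, rfl⟩ := hy; exact ⟨u + v, map_add _ _ _⟩
  let Q := MvPolynomial A' B ⧸ (RingHom.ker ρ).map (algebraMap (MvPolynomial A' A) (MvPolynomial A' B))
  let σ : MvPolynomial A' A →+* Q := (Ideal.Quotient.mk _).comp (algebraMap (MvPolynomial A' A) (MvPolynomial A' B))
  have hσ : ∀ p q, ρ p = ρ q → σ p = σ q := fun p q h => by
    refine (Ideal.Quotient.mk_eq_mk_iff_sub_mem _ _).mpr ?_
    rw [← map_sub]
    exact Ideal.mem_map_of_mem _ (by rw [RingHom.mem_ker, map_sub, h, sub_self])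
  have hρX : ∀ a, ρ (MvPolynomial.X a) = a := fun a => by simp [ρ]
  let ψ : A' →ₐ[A] Q :=
    { toFun := fun a => σ (MvPolynomial.X a)
      map_one' := by rw [← map_one σ]; exact hσ _ _ (by simp [hρX])
      map_mul' := fun a b => by rw [← map_mul]; exact hσ _ _ (by simp [hρX])
      map_zero' := by rw [← map_zero σ]; exact hσ _ _ (by simp [hρX])
      map_add' := fun a b => by rw [← map_add]; exact hσ _ _ (by simp [hρX])
      commutes' := fun c => by
        show σ (MvPolynomial.X (algebraMap A A' c)) = _
        rw [hσ _ (MvPolynomial.C c) (by simp [hρX, ρ])]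
        show Ideal.Quotient.mk _ (MvPolynomial.map (algebraMap A B) (MvPolynomial.C c)) = Ideal.Quotient.mk _ (algebraMap A (MvPolynomial A' B) c)
        rw [MvPolynomial.map_C, MvPolynomial.algebraMap_apply] }
  let χ : B →ₐ[A] Q := (Ideal.Quotient.mkₐ A _).comp (IsScalarTower.toAlgHom A B (MvPolynomial A' B))
  let τ : A' ⊗[A] B →ₐ[A] Q := Algebra.TensorProduct.lift ψ χ (fun _ _ => Commute.all _ _)
  have hτ : τ.toRingHom.comp π = Ideal.Quotient.mk _ := by
    refine MvPolynomial.ringHom_ext (fun b => ?_) (fun a => ?_)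
    · show τ (π (MvPolynomial.C b)) = Ideal.Quotient.mk _ (MvPolynomial.C b)
      rw [show π (MvPolynomial.C b) = (1 : A') ⊗ₜ[A] b from MvPolynomial.eval₂_C _ _ _, Algebra.TensorProduct.lift_tmul, map_one, one_mul]
      rfl
    · show τ (π (MvPolynomial.X a)) = Ideal.Quotient.mk _ (MvPolynomial.X a)
      rw [show π (MvPolynomial.X a) = a ⊗ₜ[A] (1 : B) from MvPolynomial.eval₂_X _ _ _, Algebra.TensorProduct.lift_tmul, map_one, mul_one]
      show Ideal.Quotient.mk _ (MvPolynomial.map (algebraMap A B) (MvPolynomial.X a)) = _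
      rw [MvPolynomial.map_X]
  have hker : RingHom.ker π = (RingHom.ker ρ).map (algebraMap (MvPolynomial A' A) (MvPolynomial A' B)) := by
    refine le_antisymm (fun x hx => ?_) (Ideal.map_le_iff_le_comap.mpr fun p hp => ?_)
    · rw [← Ideal.Quotient.eq_zero_iff_mem, ← hτ, RingHom.comp_apply, RingHom.mem_ker.mp hx, map_zero]
    · rw [Ideal.mem_comap, RingHom.mem_ker, hπρ, RingHom.mem_ker.mp hp, TensorProduct.zero_tmul]
  have := QRFlat.isQuasiRegular_of_surjective hq' π hπ (RingHom.ker ρ) hker
  have e : (fun i => π (f' i)) = fun i => ((1 : A') ⊗ₜ[A] f i : A' ⊗[A] B) := funext fun i => by simp [π, f']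
  rwa [e] at this

end Groth.Agent.S9272
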