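import Groth.Statements.S9273
import Mathlib

set_option autoImplicit false
universe u
open CAlgX

namespace Groth.Agent.S9273

open scoped TensorProduct

/-- Let A → B and A → A' be ring maps and B' = A' ⊗_A B. If f_1, ..., f_r is an H_1-regular sequence in
B with B/(f_1, ..., f_r) flat over A, then the images of the f_i in B' form an H_1-regular sequence. -/
theorem result (A B A' : Type u) [CommRing A] [CommRing B]
    [CommRing A'] [Algebra A B] [Algebra A A'] (r : ℕ) (f : Fin r → B)
    (hflat : Module.Flat A (B ⧸ Ideal.span (Set.range f))) (hq : CAlgX.IsH1Regular f) :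
    CAlgX.IsH1Regular (fun i => ((1 : A') ⊗ₜ[A] f i : TensorProduct A A' B)) := by
  classical
  intro a ha
  let g : (Fin r → B) →ₗ[A] B := (Fintype.linearCombination B f).restrictScalars A
  have hg : ∀ v, g v = ∑ i, v i * f i := fun v => by simp [g, Fintype.linearCombination_apply, smul_eq_mul]
  let J : Submodule A B := LinearMap.range g
  have hJ : J = (Ideal.span (Set.range f)).restrictScalars A := by
    ext x
    simp only [J, LinearMap.mem_range, Submodule.restrictScalars_mem, Ideal.mem_span_range_iff_exists_fun, hg]
  let φ := g.rangeRestrict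
  have hinj : Function.Injective ((J.subtype).lTensor A') := by
    haveI : Module.Flat A (B ⧸ Ideal.span (Set.range f)) := hflat
    refine LinearMap.lTensor_injective_of_exact_of_flat ((Ideal.Quotient.mkₐ A (Ideal.span (Set.range f))).toLinearMap)
      Ideal.Quotient.mk_surjective J.subtype J.subtype_injective ?_ A'
    intro x
    show Ideal.Quotient.mk _ x = 0 ↔ _
    rw [Ideal.Quotient.eq_zero_iff_mem, Submodule.coe_subtype, Subtype.range_coe_subtype]
    exact (SetLike.ext_iff.mp hJ x).symm
  have hex : Function.Exact ((LinearMap.ker φ).subtype.lTensor A') (φ.lTensor A') :=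
    lTensor_exact A' (LinearMap.exact_subtype_ker_map φ) g.surjective_rangeRestrict
  let e := TensorProduct.piRight A A A' (fun _ : Fin r => B)
  obtain ⟨z, rfl⟩ := e.surjective a
  have hez : ∀ w : A' ⊗[A] (Fin r → B), ∑ i, e w i * ((1 : A') ⊗ₜ[A] f i) = g.lTensor A' w := fun w => by
    induction w using TensorProduct.induction_on with
    | zero => simp
    | tmul x v => simp [e, hg, TensorProduct.tmul_sum]
    | add x y hx hy =>
      rw [map_add, map_add, ← hx, ← hy, ← Finset.sum_add_distrib]
      exact Finset.sum_congr rfl fun i _ => by rw [Pi.add_apply, add_mul]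
  have h0 : φ.lTensor A' z = 0 := hinj (by
    rw [map_zero, ← LinearMap.comp_apply, ← LinearMap.lTensor_comp, show J.subtype ∘ₗ φ = g from LinearMap.ext fun _ => rfl, ← hez]
    exact ha)
  obtain ⟨w, rfl⟩ := (hex z).mp h0
  induction w using TensorProduct.induction_on with
  | zero => simp
  | add x y hx hy =>
    have hadd : ∀ u v : A' ⊗[A] ↥(LinearMap.ker φ), e ((LinearMap.ker φ).subtype.lTensor A' (u + v)) =
        e ((LinearMap.ker φ).subtype.lTensor A' u) + e ((LinearMap.ker φ).subtype.lTensor A' v) := fun u v => by rw [map_add, map_add]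
    have hsub : ∀ u, ∑ i, e ((LinearMap.ker φ).subtype.lTensor A' u) i * ((1 : A') ⊗ₜ[A] f i) = 0 := fun u => by
      rw [hez, ← LinearMap.comp_apply, ← LinearMap.lTensor_comp,
        show g ∘ₗ (LinearMap.ker φ).subtype = 0 from LinearMap.ext fun v => congrArg Subtype.val (LinearMap.mem_ker.mp v.2),
        LinearMap.lTensor_zero, LinearMap.zero_apply]
    rw [hadd]
    exact Submodule.add_mem _ (hx (hsub x) ((hex _).mpr ⟨x, rfl⟩)) (hy (hsub y) ((hex _).mpr ⟨y, rfl⟩))
  | tmul x v =>
    let ι₀ : B →ₐ[A] A' ⊗[A] B := Algebra.TensorProduct.includeRight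
    have hv : (v : Fin r → B) ∈ Submodule.span B {w : Fin r → B | ∃ i j : Fin r, w = Pi.single i (f j) - Pi.single j (f i)} :=
      hq _ (by rw [← hg]; exact congrArg Subtype.val (LinearMap.mem_ker.mp v.2))
    have key : ∀ w ∈ Submodule.span B {w : Fin r → B | ∃ i j : Fin r, w = Pi.single i (f j) - Pi.single j (f i)},
        (fun i => ι₀ (w i)) ∈ Submodule.span (A' ⊗[A] B) {w : Fin r → A' ⊗[A] B | ∃ i j : Fin r,
          w = Pi.single i ((1 : A') ⊗ₜ[A] f j) - Pi.single j ((1 : A') ⊗ₜ[A] f i)} := fun w hw => by
      induction hw using Submodule.span_induction with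
      | mem w hw =>
        obtain ⟨i, j, rfl⟩ := hw
        refine Submodule.subset_span ⟨i, j, funext fun l => ?_⟩
        simp only [Pi.sub_apply, map_sub, Pi.single_apply, apply_ite ι₀, map_zero]
        rfl
      | zero => simp only [Pi.zero_apply, map_zero]; exact Submodule.zero_mem _
      | add u w _ _ hu hw =>
        have := Submodule.add_mem _ hu hw
        simp only [Pi.add_def] at this
        simpa only [Pi.add_apply, map_add] using this
      | smul b u _ hu =>
        have := Submodule.smul_mem _ (ι₀ b) hu
        simp only [Pi.smul_def, smul_eq_mul] at this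
        simpa only [Pi.smul_apply, smul_eq_mul, map_mul] using this
    have := Submodule.smul_mem _ ((x ⊗ₜ[A] (1 : B)) : A' ⊗[A] B) (key _ hv)
    convert this using 1
    funext i
    simp [e, ι₀, Algebra.TensorProduct.tmul_mul_tmul]

end Groth.Agent.S9273
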