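import Groth.Statements.S9275
import Mathlib

set_option autoImplicit false
universe u
open EtAlg

namespace Groth.Agent.S9275

/-- Let A → B be a ring map and J an ideal of B such that A → B is étale at every prime of V(J), in the
sense that every prime q ⊇ J has some h ∉ q with A → B_h étale. Then there is g ∈ B mapping to a
unit of B/J such that A → B_g is étale. -/
theorem result (A B : Type u) [CommRing A] [CommRing B]
    [Algebra A B] (J : Ideal B)
    (h : ∀ (q : Ideal B) [q.IsPrime], J ≤ q → ∃ h : B, h ∉ q ∧ Algebra.Etale A (Localization.Away h)) :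
    ∃ g : B, IsUnit (Ideal.Quotient.mk J g) ∧ Algebra.Etale A (Localization.Away g) := by
  classical
  let G : Set B := {h | Algebra.Etale A (Localization.Away h)}
  have htop : J ⊔ Ideal.span G = ⊤ := by
    by_contra hne
    obtain ⟨m, hm, hle⟩ := Ideal.exists_le_maximal _ hne
    obtain ⟨x, hx, hxe⟩ := h m (le_sup_left.trans hle)
    exact hx (hle (Ideal.mem_sup_right (Ideal.subset_span hxe)))
  obtain ⟨j, hj, g, hg, hjg⟩ := Submodule.mem_sup.mp (show (1 : B) ∈ J ⊔ Ideal.span G from htop ▸ Submodule.mem_top)
  refine ⟨g, ?_, ?_⟩
  · rw [show Ideal.Quotient.mk J g = 1 from ?_]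
    · exact isUnit_one
    rw [← map_one (Ideal.Quotient.mk J), ← hjg, map_add, Ideal.Quotient.eq_zero_iff_mem.mpr hj, zero_add]
  let Bg := Localization.Away g
  rw [← RingHom.etale_algebraMap]
  refine RingHom.Etale.ofLocalizationSpanTarget (algebraMap A Bg) (algebraMap B Bg '' G) ?_ ?_
  · rw [← Ideal.map_span, Ideal.eq_top_iff_one]
    exact (Ideal.eq_top_iff_one _).mp (Ideal.eq_top_of_isUnit_mem _ (Ideal.mem_map_of_mem _ hg) (IsLocalization.Away.algebraMap_isUnit g))
  · rintro ⟨_, x, hx, rfl⟩
    rw [← IsScalarTower.algebraMap_eq A Bg (Localization.Away (algebraMap B Bg x)), RingHom.etale_algebraMap]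
    haveI : Algebra.Etale A (Localization.Away x) := hx
    let C' := Localization.Away (algebraMap B (Localization.Away x) g)
    haveI : Algebra.Etale (Localization.Away x) C' := Algebra.Etale.of_isLocalizationAway (algebraMap B (Localization.Away x) g)
    haveI : Algebra.Etale A C' := Algebra.Etale.comp A (Localization.Away x) C'
    haveI : IsLocalization.Away (x * g) C' := IsLocalization.Away.mul' (Localization.Away x) C' x g
    haveI : IsLocalization.Away (x * g) (Localization.Away (algebraMap B Bg x)) :=
      IsLocalization.Away.mul Bg _ g x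
    exact Algebra.Etale.of_equiv ((IsLocalization.algEquiv (Submonoid.powers (x * g)) C' (Localization.Away (algebraMap B Bg x))).restrictScalars A)

end Groth.Agent.S9275
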