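import Groth.Statements.S9278
import Groth.Agent.McCoy.Basic

set_option autoImplicit false
universe u
open CAlgX

namespace Groth.Agent.S9278

/-- Let R be a Noetherian local ring and φ : R^m → R^n a map of finite free modules with matrix M. Then
φ is injective if and only if the rank of M is m and the determinantal ideal I(M) is the unit ideal
or contains a nonzerodivisor. -/
theorem result (R : Type u) [CommRing R]
    [IsLocalRing R] [IsNoetherianRing R] (m n : ℕ) (M : Matrix (Fin n) (Fin m) R) :
    Function.Injective (Matrix.mulVecLin M) ↔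
      CAlgX.matrixRank M = m ∧ (CAlgX.detIdeal M = ⊤ ∨ ∃ a ∈ CAlgX.detIdeal M, IsRegular a) := by
  constructor
  · intro h
    have h' := (Groth.Agent.McCoy.injective_iff M).1 h
    have hr := Groth.Agent.McCoy.matrixRank_eq_of_annihilator h'
    obtain ⟨a, ha, ha'⟩ := Groth.Agent.McCoy.exists_nonZeroDivisor_of_annihilator h'
    refine ⟨hr, Or.inr ⟨a, by rw [CAlgX.detIdeal, hr]; exact ha, ?_⟩⟩
    exact isRegular_iff_mem_nonZeroDivisors.2 ha'
  · rintro ⟨hr, h⟩
    refine (Groth.Agent.McCoy.injective_iff M).2 ?_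
    rw [CAlgX.detIdeal, hr] at h
    obtain h | ⟨a, ha, ha'⟩ := h
    · exact Groth.Agent.McCoy.annihilator_eq_bot_of_mem (h ▸ Submodule.mem_top : (1 : R) ∈ _) (one_mem _)
    · exact Groth.Agent.McCoy.annihilator_eq_bot_of_mem ha (isRegular_iff_mem_nonZeroDivisors.1 ha')

end Groth.Agent.S9278
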