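import Groth.Statements.S9280
import Groth.Agent.N2Lib.Basic
import Groth.Agent.RegLocus.NagataCrit
import Groth.Agent.RegLocus.J0

set_option autoImplicit false
universe u
open EGA4

namespace Groth.Agent.S9280


theorem key (A : Type u) [CommRing A] [IsDomain A] [IsNoetherianRing A] (hN : CAlg.IsN2 A) [Ring.KrullDimLE 1 A]
    (A' : Type u) [CommRing A'] [IsDomain A'] [Algebra A A'] [FaithfulSMul A A'] [Module.Finite A A'] :
    RegLocus.J0 A' := by
  haveI : Ring.DimensionLEOne A := ⟨fun {p} hne hp => (Ring.krullDimLE_one_iff_of_isPrime_bot.1 inferInstance) p hne hp⟩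
  let L := FractionRing A'
  have hinj : Function.Injective (algebraMap A L) := by
    rw [IsScalarTower.algebraMap_eq A A' L]
    exact (IsFractionRing.injective A' L).comp (FaithfulSMul.algebraMap_injective A A')
  haveI : FaithfulSMul A L := (faithfulSMul_iff_algebraMap_injective A L).2 hinj
  letI : Algebra (FractionRing A) L := FractionRing.liftAlgebra A L
  haveI : FiniteDimensional (FractionRing A) L := by
    obtain ⟨n, g, hg⟩ := Module.Finite.exists_fin (R := A) (M := A')
    let E : IntermediateField (FractionRing A) L :=
      IntermediateField.adjoin _ (Set.range fun i => algebraMap A' L (g i))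
    haveI : FiniteDimensional (FractionRing A) E :=
      IntermediateField.finiteDimensional_adjoin (S := Set.range fun i => algebraMap A' L (g i)) (by
        rintro _ ⟨i, rfl⟩
        exact ((Algebra.IsIntegral.isIntegral (R := A) (g i)).map (IsScalarTower.toAlgHom A A' L)).tower_top)
    have hD : ∀ d : A', algebraMap A' L d ∈ E := by
      intro d
      obtain ⟨c, rfl⟩ := (Submodule.mem_span_range_iff_exists_fun A).1 (hg ▸ Submodule.mem_top (x := d))
      rw [map_sum]
      refine sum_mem fun i _ => ?_
      rw [Algebra.smul_def, map_mul, ← IsScalarTower.algebraMap_apply,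
        IsScalarTower.algebraMap_apply A (FractionRing A) L]
      exact mul_mem (E.algebraMap_mem _) (IntermediateField.subset_adjoin _ _ ⟨i, rfl⟩)
    have hE : E = ⊤ := by
      refine eq_top_iff.2 fun z _ => ?_
      obtain ⟨a, b, -, rfl⟩ := IsFractionRing.div_surjective A' z
      exact div_mem (hD a) (hD b)
    haveI : FiniteDimensional (FractionRing A) (⊤ : IntermediateField (FractionRing A) L) :=
      hE ▸ ‹FiniteDimensional (FractionRing A) E›
    exact Module.Finite.equiv (IntermediateField.topEquiv (F := FractionRing A) (E := L)).toLinearEquiv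
  let T := integralClosure A L
  haveI hT : Module.Finite A T := hN L inferInstance
  haveI : IsFractionRing T L := integralClosure.isFractionRing_of_finite_extension (FractionRing A) L
  haveI : IsIntegrallyClosed T := integralClosure.isIntegrallyClosedOfFiniteExtension (FractionRing A)
  haveI : IsNoetherianRing T := IsNoetherianRing.of_finite A T
  haveI : IsDedekindRing T := (isDedekindRing_iff T L).2
    ⟨inferInstance, inferInstance, fun {x} hx => (isIntegrallyClosed_iff L).1 inferInstance hx⟩
  haveI : IsDedekindDomain T := {}
  let φ : A' →+* T := (algebraMap A' L).codRestrict T.toSubring fun a =>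
    (Algebra.IsIntegral.isIntegral (R := A) a).map (IsScalarTower.toAlgHom A A' L)
  letI : Algebra A' T := φ.toAlgebra
  haveI : IsScalarTower A A' T := IsScalarTower.of_algebraMap_eq fun a =>
    Subtype.ext (IsScalarTower.algebraMap_apply A A' L a)
  haveI : FaithfulSMul A' T := (faithfulSMul_iff_algebraMap_injective A' T).2
    fun a b h => IsFractionRing.injective A' L (congrArg Subtype.val h)
  haveI : Module.Finite A' T := Module.Finite.of_restrictScalars_finite A A' T
  haveI : IsNoetherianRing A' := IsNoetherianRing.of_finite A A'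
  exact RegLocus.j0_of_finite A' T ⟨1, one_ne_zero, fun P _ _ => IsRegularRing.isRegularLocalRing_localization P⟩


/-- A Nagata ring of dimension 1 is J-2, that is, every finite type algebra over it has open regular
locus. -/
theorem result (R : Type u) [CommRing R] (hR : CAlg.IsNagata R)
    (hdim : ringKrullDim R = 1) : EGA4.IsJ2 R := by
  haveI := hR.1
  intro S _ _ hft
  haveI := hft
  haveI : IsNoetherianRing S := Algebra.FiniteType.isNoetherianRing R S
  refine RegLocus.isOpen_regLocus fun q _ => ?_
  refine RegLocus.J0.isOpen ?_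
  let p := q.asIdeal.comap (algebraMap R S)
  letI : Algebra (R ⧸ p) (S ⧸ q.asIdeal) := (Ideal.quotientMap q.asIdeal (algebraMap R S) le_rfl).toAlgebra
  haveI : IsScalarTower R (R ⧸ p) (S ⧸ q.asIdeal) := IsScalarTower.of_algebraMap_eq fun _ => rfl
  haveI : FaithfulSMul (R ⧸ p) (S ⧸ q.asIdeal) :=
    (faithfulSMul_iff_algebraMap_injective _ _).2 Ideal.quotientMap_injective
  haveI : Algebra.FiniteType R (S ⧸ q.asIdeal) := Algebra.FiniteType.trans hft inferInstance
  haveI : Algebra.FiniteType (R ⧸ p) (S ⧸ q.asIdeal) := Algebra.FiniteType.of_restrictScalars_finiteType R _ _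
  haveI : Ring.KrullDimLE 1 (R ⧸ p) :=
    Ring.krullDimLE_iff.2 ((ringKrullDim_quotient_le p).trans hdim.le)
  exact RegLocus.j0_of_finiteType (R ⧸ p) (fun A' _ _ _ _ _ => key (R ⧸ p) (hR.2 p) A') (S ⧸ q.asIdeal)

end Groth.Agent.S9280
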