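import Groth.Statements.S9282
import Mathlib
-- import your own Groth.Agent.* helpers here

set_option autoImplicit false
universe u
open CAlg

open TensorProduct

namespace Groth.Agent.S9282Aux

open IsLocalRing

/-- the core: a kernel element with vanishing differential and value in `m²` lies in `J²` -/
theorem mem_sq (A B P : Type u) [CommRing A] [CommRing B] [IsLocalRing B] [CommRing P]
    [Algebra A B] [Algebra A P] (π : P →ₐ[A] B) (hπ : Function.Surjective π)
    (hfs : CAlgX.IsAdicFormallySmooth A B (maximalIdeal B))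
    (z : P) (hzB : π z ∈ maximalIdeal B ^ 2)
    (hzD : KaehlerDifferential.D A P z ∈
      ((maximalIdeal B).comap π.toRingHom • ⊤ : Submodule P (Ω[P⁄A]))) :
    z ∈ (maximalIdeal B).comap π.toRingHom ^ 2 := by
  set J := (maximalIdeal B).comap π.toRingHom with hJ
  let I : Ideal (P ⧸ J ^ 2) := J.map (Ideal.Quotient.mk (J ^ 2))
  have hI : I ^ 2 = ⊥ := by rw [← Ideal.map_pow, Ideal.map_quotient_self]
  have hle : J ^ 2 ≤ RingHom.ker ((Ideal.Quotient.mkₐ A (maximalIdeal B ^ 2)).comp π) := by
    intro x hx
    refine Ideal.Quotient.eq_zero_iff_mem.2 ?_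
    have := Ideal.mem_map_of_mem π.toRingHom hx
    rw [Ideal.map_pow] at this
    exact Ideal.pow_right_mono Ideal.map_comap_le 2 this
  let π' : P ⧸ J ^ 2 →ₐ[A] B ⧸ maximalIdeal B ^ 2 :=
    Ideal.Quotient.liftₐ (J ^ 2) ((Ideal.Quotient.mkₐ A (maximalIdeal B ^ 2)).comp π) hle
  have hπ' : Function.Surjective π' := fun x => by
    obtain ⟨b, rfl⟩ := Ideal.Quotient.mk_surjective x
    obtain ⟨p, rfl⟩ := hπ b
    exact ⟨Ideal.Quotient.mk _ p, rfl⟩
  have hker : ∀ q : P ⧸ J ^ 2, ∀ b ∈ maximalIdeal B, π' q = Ideal.Quotient.mk _ b → q ∈ I := by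
    intro q b hb hq
    obtain ⟨p, rfl⟩ := Ideal.Quotient.mk_surjective q
    refine Ideal.mem_map_of_mem _ (show π p ∈ maximalIdeal B from ?_)
    have h := Ideal.pow_le_self (I := maximalIdeal B) two_ne_zero (Ideal.Quotient.eq.mp hq)
    simpa using Ideal.add_mem _ h hb
  let e := Ideal.quotientKerAlgEquivOfSurjective hπ'
  have hker2 : (RingHom.ker π') ^ 2 = ⊥ := by
    refine le_bot_iff.1 ((Ideal.pow_right_mono (fun q hq => hker q 0 (zero_mem _) ?_) 2).trans hI.le)
    rw [map_zero]; exact hq
  obtain ⟨σ, hσ⟩ := hfs (P ⧸ J ^ 2) (RingHom.ker π') hker2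
    (e.symm.toAlgHom.comp (Ideal.Quotient.mkₐ A (maximalIdeal B ^ 2))) ⟨2, fun x hx => by
      show e.symm (Ideal.Quotient.mk _ x) = 0
      rw [Ideal.Quotient.eq_zero_iff_mem.2 hx, map_zero]⟩
  have hσ' : ∀ b, π' (σ b) = Ideal.Quotient.mk _ b := fun b => by
    have h := congrArg e (AlgHom.congr_fun hσ b)
    simp only [AlgHom.comp_apply, AlgEquiv.coe_toAlgHom,
      AlgEquiv.apply_symm_apply] at h
    exact h
  have hσI : ∀ b ∈ maximalIdeal B, σ b ∈ I := fun b hb => hker _ b hb (hσ' b)
  have hagree : (Ideal.Quotient.mkₐ A I).comp (σ.comp π) = IsScalarTower.toAlgHom A P ((P ⧸ J ^ 2) ⧸ I) := by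
    ext p
    show Ideal.Quotient.mk I (σ (π p)) = Ideal.Quotient.mk I (Ideal.Quotient.mk _ p)
    rw [Ideal.Quotient.eq]
    refine hker _ 0 (zero_mem _) ?_
    rw [map_sub, hσ', map_zero, sub_eq_zero]
    rfl
  let δ := derivationToSquareZeroOfLift I hI (σ.comp π) hagree
  have h0 : (δ.liftKaehlerDifferential (KaehlerDifferential.D A P z) : P ⧸ J ^ 2) = 0 := by
    have : ∀ w ∈ (J • ⊤ : Submodule P (Ω[P⁄A])), ((δ.liftKaehlerDifferential w : I) : P ⧸ J ^ 2) = 0 := by
      intro w hw
      refine Submodule.smul_induction_on hw ?_ ?_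
      · intro j hj ω _
        rw [map_smul]
        have : Ideal.Quotient.mk (J ^ 2) j * ((δ.liftKaehlerDifferential ω : I) : P ⧸ J ^ 2) ∈ I ^ 2 := by
          refine (sq I).symm ▸ ?_
          exact Ideal.mul_mem_mul (Ideal.mem_map_of_mem _ hj) (δ.liftKaehlerDifferential ω).2
        rw [hI] at this
        exact this
      · intro x y hx hy
        simp [map_add, hx, hy]
    exact this _ hzD
  rw [Derivation.liftKaehlerDifferential_comp_D] at h0
  have h1 : σ (π z) - Ideal.Quotient.mk (J ^ 2) z = 0 := h0
  have h2 : σ (π z) = 0 := by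
    have : σ (π z) ∈ I ^ 2 :=
      Ideal.pow_right_mono (Ideal.map_le_iff_le_comap.2 hσI) 2 (by
        rw [← Ideal.map_pow]; exact Ideal.mem_map_of_mem σ.toRingHom hzB)
    rw [hI] at this
    exact this
  rw [h2, zero_sub, neg_eq_zero, Ideal.Quotient.eq_zero_iff_mem] at h1
  exact h1

end Groth.Agent.S9282Aux


namespace Groth.Agent.S9282

/-- Let A → B be a local ring map between Noetherian local rings that is formally smooth for the adic
topology of the maximal ideal of B, and write K for the residue field of B. In the Jacobi–Zariski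
sequence attached to A → B → K, the map from H_1(NL_{K/A}) to H_1(NL_{K/B}), which is m_B/m_B^2, is
injective; the remaining terms are exact in general, so that sequence starts with a zero. -/
theorem result (A B : Type u) [CommRing A]
    [CommRing B] [IsLocalRing A] [IsLocalRing B] [IsNoetherianRing A] [IsNoetherianRing B]
    [Algebra A B] [IsLocalHom (algebraMap A B)]
    (hfs : CAlgX.IsAdicFormallySmooth A B (IsLocalRing.maximalIdeal B)) :
    Function.Injective
      (Algebra.H1Cotangent.map A B (IsLocalRing.ResidueField B) (IsLocalRing.ResidueField B)) := by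
  let res : MvPolynomial B A →ₐ[A] IsLocalRing.ResidueField B :=
    (IsScalarTower.toAlgHom A B _).comp (MvPolynomial.aeval id)
  have hπ : Function.Surjective (MvPolynomial.aeval id : MvPolynomial B A →ₐ[A] B) :=
    fun b => ⟨MvPolynomial.X b, by simp⟩
  have hres : Function.Surjective res := IsLocalRing.residue_surjective.comp hπ
  let P2 : Algebra.Extension A (IsLocalRing.ResidueField B) := Algebra.Extension.ofSurjective res hres
  let E : Algebra.Extension B (IsLocalRing.ResidueField B) :=
    Algebra.Extension.ofSurjective (IsScalarTower.toAlgHom B B _) IsLocalRing.residue_surjective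
  let G := (Algebra.Generators.self A (IsLocalRing.ResidueField B)).toExtension
  let G' := (Algebra.Generators.self B (IsLocalRing.ResidueField B)).toExtension
  let back : P2.Hom G := Algebra.Extension.Hom.ofAlgHom
    (MvPolynomial.aeval fun b => MvPolynomial.X (IsLocalRing.residue B b))
    (by refine MvPolynomial.algHom_ext fun b => ?_
        show MvPolynomial.aeval id (MvPolynomial.aeval (R := A)
          (fun b => (MvPolynomial.X (IsLocalRing.residue B b) : MvPolynomial (IsLocalRing.ResidueField B) A))
          (MvPolynomial.X b)) = res (MvPolynomial.X b)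
        simp [res, IsLocalRing.ResidueField.algebraMap_eq])
  let toE : P2.Hom E :=
    { toRingHom := (MvPolynomial.aeval id : MvPolynomial B A →ₐ[A] B).toRingHom
      toRingHom_algebraMap := fun a => (MvPolynomial.aeval id : MvPolynomial B A →ₐ[A] B).commutes a
      algebraMap_toRingHom := fun x => rfl }
  rw [injective_iff_map_eq_zero]
  intro x hx
  have h1 : Algebra.Extension.H1Cotangent.map (E.defaultHom) (Algebra.H1Cotangent.map A B _ _ x) = 0 := by
    rw [hx, map_zero]
  set y := Algebra.Extension.H1Cotangent.map P2.defaultHom x with hydef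
  have h2 : Algebra.Extension.H1Cotangent.map toE y = 0 := by
    rw [← h1, hydef, Algebra.H1Cotangent.map]
    exact ((Algebra.Extension.H1Cotangent.map_comp_apply P2.defaultHom toE x).symm.trans
      (LinearMap.congr_fun (Algebra.Extension.H1Cotangent.map_eq _ _) x)).trans
      (Algebra.Extension.H1Cotangent.map_comp_apply
        (Algebra.Generators.defaultHom (Algebra.Generators.self A (IsLocalRing.ResidueField B))
          (Algebra.Generators.self B (IsLocalRing.ResidueField B))).toExtensionHom E.defaultHom x)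
  have hy : y = 0 := by
    obtain ⟨⟨z, hz⟩, hzy⟩ := Algebra.Extension.Cotangent.mk_surjective y.1
    refine Algebra.Extension.h1Cotangentι_ext _ _ ?_
    rw [← hzy, Algebra.Extension.H1Cotangent.val_zero, Algebra.Extension.Cotangent.mk_eq_zero_iff]
    have h2' : Algebra.Extension.Cotangent.map toE (Algebra.Extension.Cotangent.mk ⟨z, hz⟩) = 0 := by
      rw [hzy]
      exact congrArg Subtype.val h2
    rw [Algebra.Extension.Cotangent.map_mk, Algebra.Extension.Cotangent.mk_eq_zero_iff] at h2'
    have hzB : (MvPolynomial.aeval id : MvPolynomial B A →ₐ[A] B) z ∈ IsLocalRing.maximalIdeal B ^ 2 := by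
      have h6 : (MvPolynomial.aeval id : MvPolynomial B A →ₐ[A] B) z ∈
          RingHom.ker (IsLocalRing.residue B) ^ 2 := h2'
      rwa [IsLocalRing.ker_residue] at h6
    have hJ : P2.ker = (IsLocalRing.maximalIdeal B).comap
        (MvPolynomial.aeval id : MvPolynomial B A →ₐ[A] B).toRingHom := by
      rw [← IsLocalRing.ker_residue, RingHom.comap_ker]
      rfl
    have hzD : KaehlerDifferential.D A P2.Ring z ∈
        (P2.ker • ⊤ : Submodule P2.Ring (Ω[P2.Ring⁄A])) := by
      have hy2 : P2.cotangentComplex y.1 = 0 := y.2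
      rw [← hzy, Algebra.Extension.cotangentComplex_mk] at hy2
      let e : (P2.Ring ⧸ P2.ker) ≃ₐ[P2.Ring] IsLocalRing.ResidueField B :=
        Ideal.quotientKerAlgEquivOfSurjective (f := Algebra.ofId P2.Ring (IsLocalRing.ResidueField B)) hres
      have h3 := congrArg (e.symm.toLinearMap.rTensor (Ω[P2.Ring⁄A])) hy2
      rw [map_zero, LinearMap.rTensor_tmul, AlgEquiv.toLinearMap_apply, map_one] at h3
      have h4 := congrArg (TensorProduct.quotTensorEquivQuotSMul (Ω[P2.Ring⁄A]) P2.ker) h3
      rw [map_zero, ← map_one (Ideal.Quotient.mk P2.ker), TensorProduct.quotTensorEquivQuotSMul_mk_tmul,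
        one_smul, Submodule.Quotient.mk_eq_zero] at h4
      exact h4
    show z ∈ P2.ker ^ 2
    rw [hJ] at hzD ⊢
    exact Groth.Agent.S9282Aux.mem_sq A B (MvPolynomial B A) (MvPolynomial.aeval id) hπ hfs z hzB hzD
  have h5 : Algebra.Extension.H1Cotangent.map back y = x := by
    rw [hydef, ← Algebra.Extension.H1Cotangent.map_comp_apply,
      Algebra.Extension.H1Cotangent.map_eq _ (Algebra.Extension.Hom.id _),
      Algebra.Extension.H1Cotangent.map_id]
    rfl
  rw [← h5, hy, map_zero]

end Groth.Agent.S9282
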