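import Groth.Statements.S9283
import Mathlib
-- import your own Groth.Agent.* helpers here

set_option autoImplicit false
universe u
open CAlg

namespace Groth.Agent.S9283

/-- Let R be an auto-associated ring, that is, a local ring whose maximal ideal is weakly associated to
R: some nonzero x ∈ R is killed by a power of every element of the maximal ideal. Then every proper
finitely generated ideal of R has a nonzero annihilator. -/
theorem result (R : Type u) [CommRing R] [IsLocalRing R]
    (h : ∃ x : R, x ≠ 0 ∧ ∀ f ∈ IsLocalRing.maximalIdeal R, ∃ n : ℕ, f ^ n * x = 0)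
    (I : Ideal R) (hI : I.FG) (hI' : I ≠ ⊤) : I.annihilator ≠ ⊥ := by
  classical
  obtain ⟨s, rfl⟩ := hI
  have key : ∀ t : Finset R, (∀ f ∈ t, f ∈ IsLocalRing.maximalIdeal R) →
      ∃ y : R, y ≠ 0 ∧ (∀ f ∈ IsLocalRing.maximalIdeal R, ∃ n : ℕ, f ^ n * y = 0) ∧ ∀ f ∈ t, f * y = 0 := by
    intro t
    induction t using Finset.induction_on with
    | empty =>
      obtain ⟨x, hx, hx'⟩ := h
      exact fun _ => ⟨x, hx, hx', by simp⟩
    | @insert a t _ ih =>
      intro ht
      obtain ⟨y, hy, hyn, hyt⟩ := ih fun f hf => ht f (Finset.mem_insert_of_mem hf)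
      have hex := hyn a (ht a (Finset.mem_insert_self a t))
      have hn := Nat.find_spec hex
      have h1 : Nat.find hex ≠ 0 := fun h0 => hy (by simpa [h0] using hn)
      refine ⟨a ^ (Nat.find hex - 1) * y, Nat.find_min hex (by omega), fun f hf => ?_, fun f hf => ?_⟩
      · obtain ⟨n, hn⟩ := hyn f hf
        exact ⟨n, by rw [mul_left_comm, hn, mul_zero]⟩
      · rcases Finset.mem_insert.mp hf with rfl | hf
        · rw [← mul_assoc, ← pow_succ', Nat.sub_add_cancel (by omega)]; exact hn
        · rw [mul_left_comm, hyt f hf, mul_zero]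
  obtain ⟨y, hy, -, hys⟩ := key s fun f hf =>
    IsLocalRing.le_maximalIdeal hI' (Ideal.subset_span hf)
  refine fun h0 => hy ?_
  have : y ∈ (Ideal.span (s : Set R)).annihilator :=
    Submodule.mem_annihilator_span _ _ |>.mpr fun f => by rw [smul_eq_mul, mul_comm]; exact hys f f.2
  exact (Submodule.mem_bot R).mp (h0 ▸ this)

end Groth.Agent.S9283
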