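import Groth.Statements.S9285
import Mathlib
-- import your own Groth.Agent.* helpers here

set_option autoImplicit false
universe u
open CAlg

namespace Groth.Agent.S9285

/-- A ring R has the property that every proper finitely generated ideal has a nonzero annihilator if
and only if every injective linear map R → R^n admits a retraction. -/
theorem result (R : Type u) [CommRing R] :
    (∀ I : Ideal R, I.FG → I ≠ ⊤ → I.annihilator ≠ ⊥) ↔
      ∀ (n : ℕ) (u : R →ₗ[R] (Fin n → R)), Function.Injective u →
        ∃ v : (Fin n → R) →ₗ[R] R, v.comp u = LinearMap.id := by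
  constructor
  · intro h n u hu
    by_cases hI : Ideal.span (Set.range (u 1)) = ⊤
    · obtain ⟨c, hc⟩ := Ideal.mem_span_range_iff_exists_fun.mp (hI ▸ Submodule.mem_top : (1 : R) ∈ Ideal.span (Set.range (u 1)))
      refine ⟨∑ i, c i • LinearMap.proj i, LinearMap.ext_ring ?_⟩
      simpa [LinearMap.sum_apply] using hc
    · exfalso
      refine h _ (Submodule.fg_span (Set.finite_range _)) hI ((Submodule.eq_bot_iff _).mpr fun r hr => hu ?_)
      rw [map_zero]
      funext i
      have h1 : r • u 1 = u r := by rw [← map_smul]; simp
      rw [← h1]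
      exact Submodule.mem_annihilator.mp hr _ (Ideal.subset_span ⟨i, rfl⟩)
  · intro h I hI hne hann
    obtain ⟨n, g, rfl⟩ := Submodule.fg_iff_exists_fin_generating_family.mp hI
    let u : R →ₗ[R] (Fin n → R) := LinearMap.toSpanSingleton R _ g
    have hu : Function.Injective u := by
      refine (injective_iff_map_eq_zero u).mpr fun r hr => ?_
      have h2 : r ∈ (Submodule.span R (Set.range g)).annihilator := by
        refine (Submodule.mem_annihilator_span _ _).mpr ?_
        rintro ⟨-, i, rfl⟩
        exact congrFun hr i
      rw [hann] at h2; exact (Submodule.mem_bot R).mp h2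
    obtain ⟨v, hv⟩ := h n u hu
    apply hne
    rw [Ideal.eq_top_iff_one]
    have h1 : v g = 1 := by simpa [u] using LinearMap.congr_fun hv 1
    rw [← h1]
    have hg : g = ∑ i, g i • (Pi.single i 1 : Fin n → R) := by
      funext j; simp [Finset.sum_apply, Pi.single_apply]
    rw [hg, map_sum]
    refine Submodule.sum_mem _ fun i _ => ?_
    rw [map_smul, smul_eq_mul, ← hg]
    exact Ideal.mul_mem_right _ _ (Ideal.subset_span ⟨i, rfl⟩)

end Groth.Agent.S9285
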