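import Groth.Statements.S9284
import Mathlib
import Groth.Agent.S9285

set_option autoImplicit false
universe u
open CAlgX

namespace Groth.Agent.S9284

/-- Let R be a ring such that every proper finitely generated ideal of R has a nonzero annihilator, and
let u : N → M be an R-linear map between projective R-modules. Then u stays injective after
tensoring with every R-module exactly when u is injective. -/
theorem result (R : Type u) [CommRing R]
    (hP : (∀ I : Ideal R, I.FG → I ≠ ⊤ → I.annihilator ≠ ⊥))
    (N M : Type u) [AddCommGroup N] [Module R N] [Module.Projective R N] [AddCommGroup M]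
    [Module R M] [Module.Projective R M] (u : N →ₗ[R] M) :
    CAlgX.UniversallyInjective R u ↔ Function.Injective u := by
  refine ⟨fun h => ?_, fun hu Q _ _ => ?_⟩
  · intro x y hxy
    apply (TensorProduct.rid R N).symm.injective
    apply h R
    simp [hxy]
  · have key : ∀ (n m : ℕ) (w : (Fin n → R) →ₗ[R] (Fin m → R)), Function.Injective w →
        ∃ v : (Fin m → R) →ₗ[R] (Fin n → R), v ∘ₗ w = LinearMap.id := by
      intro n
      induction n with
      | zero => intro m w _; exact ⟨0, LinearMap.ext fun x => Subsingleton.elim _ _⟩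
      | succ n ih =>
        intro m w hw
        let i0 : R →ₗ[R] (Fin (n + 1) → R) := LinearMap.single R (fun _ => R) 0
        let i1 : (Fin n → R) →ₗ[R] (Fin (n + 1) → R) :=
          { toFun := fun a => Fin.cons 0 a
            map_add' := fun a b => by ext k; refine Fin.cases ?_ (fun k => ?_) k <;> simp
            map_smul' := fun r a => by ext k; refine Fin.cases ?_ (fun k => ?_) k <;> simp }
        have hi : ∀ x : Fin (n + 1) → R, i0 (x 0) + i1 (fun k => x k.succ) = x := fun x => by
          ext k; refine Fin.cases ?_ (fun k => ?_) k <;> simp [i0, i1]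
        have hi0 : Function.Injective i0 := fun a b h => by simpa [i0] using congrFun h 0
        obtain ⟨v0, hv0⟩ := (S9285.result R).mp hP m (w ∘ₗ i0) (hw.comp hi0)
        have hv0' : ∀ r, v0 (w (i0 r)) = r := fun r => LinearMap.congr_fun hv0 r
        let π : (Fin m → R) →ₗ[R] (Fin m → R) := LinearMap.id - (w ∘ₗ i0) ∘ₗ v0
        have hπ0 : ∀ r, π (w (i0 r)) = 0 := fun r => by simp [π, hv0']
        have hw1 : Function.Injective (π ∘ₗ w ∘ₗ i1) := by
          refine (injective_iff_map_eq_zero _).mpr fun a ha => ?_
          have h1 : w (i1 a) = w (i0 (v0 (w (i1 a)))) := by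
            simpa [π, sub_eq_zero] using ha
          have h2 := hw h1
          ext k
          simpa [i0, i1] using congrFun h2 k.succ
        obtain ⟨v1, hv1⟩ := ih m _ hw1
        refine ⟨i0 ∘ₗ (v0 - v0 ∘ₗ w ∘ₗ i1 ∘ₗ v1 ∘ₗ π) + i1 ∘ₗ v1 ∘ₗ π, LinearMap.ext fun x => ?_⟩
        have hx1 : v1 (π (w x)) = fun k => x k.succ := by
          conv_lhs => rw [← hi x]
          rw [map_add, map_add, hπ0, zero_add]
          exact LinearMap.congr_fun hv1 _
        have hx0 : v0 (w x) = x 0 + v0 (w (i1 fun k => x k.succ)) := by
          conv_lhs => rw [← hi x]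
          rw [map_add, map_add, hv0']
        simp only [LinearMap.comp_apply, LinearMap.add_apply, LinearMap.sub_apply, LinearMap.id_apply, hx1, hx0]
        rw [add_sub_cancel_right]
        exact hi x
    classical
    rw [injective_iff_map_eq_zero]
    intro z hz
    obtain ⟨S₁, hS₁⟩ := TensorProduct.exists_finset (R := R) z
    obtain ⟨s, hs⟩ := Module.projective_def'.mp (inferInstance : Module.Projective R N)
    obtain ⟨t, ht⟩ := Module.projective_def'.mp (inferInstance : Module.Projective R M)
    let S0 : Finset N := S₁.biUnion fun a => (s a.1).support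
    let n := S0.card
    let el : Fin n → N := fun i => (S0.equivFin.symm i : N)
    let φ : (Fin n → R) →ₗ[R] N := Fintype.linearCombination R el
    let ψ : N →ₗ[R] (Fin n → R) := LinearMap.pi fun i => (Finsupp.lapply (el i)) ∘ₗ s
    have hφψ : ∀ a ∈ S₁, φ (ψ a.1) = a.1 := by
      intro a ha
      have hsub : (s a.1).support ⊆ S0 := Finset.subset_biUnion_of_mem (fun b : N × Q => (s b.1).support) ha
      conv_rhs => rw [← LinearMap.id_apply (R := R) a.1, ← hs, LinearMap.comp_apply,
        Finsupp.linearCombination_apply, Finsupp.sum_of_support_subset _ hsub (fun x c => c • id x)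
          (fun i _ => zero_smul R _), ← Finset.sum_coe_sort S0]
      simp only [φ, ψ, Fintype.linearCombination_apply, LinearMap.pi_apply, LinearMap.comp_apply, Finsupp.lapply_apply, id]
      exact Fintype.sum_equiv S0.equivFin.symm _ (fun x : S0 => (s a.1) (x : N) • (x : N)) fun i => rfl
    let T0 : Finset M := Finset.univ.biUnion fun i : Fin n => (t (u (el i))).support
    let pr : (M →₀ R) →ₗ[R] (Fin T0.card → R) :=
      LinearMap.pi fun j => Finsupp.lapply ((T0.equivFin.symm j : M))
    have hpr : ∀ a, pr (t (u (φ a))) = 0 → t (u (φ a)) = 0 := by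
      intro a ha
      ext x
      by_cases hx : x ∈ T0
      · have := congrFun ha (T0.equivFin ⟨x, hx⟩)
        simpa [pr] using this
      · simp only [φ, Fintype.linearCombination_apply, map_sum, map_smul, Finsupp.finsetSum_apply,
          Finsupp.smul_apply, Finsupp.coe_zero, Pi.zero_apply]
        refine Finset.sum_eq_zero fun i _ => ?_
        rw [Finsupp.notMem_support_iff.mp fun h => hx (Finset.mem_biUnion.mpr ⟨i, Finset.mem_univ _, h⟩), smul_zero]
    let e := (LinearEquiv.sumArrowLequivProdArrow (Fin T0.card) (Fin n) R R).symm ≪≫ₗ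
      LinearEquiv.funCongrLeft R R finSumFinEquiv.symm
    let w : (Fin n → R) →ₗ[R] (Fin (T0.card + n) → R) :=
      e.toLinearMap ∘ₗ LinearMap.prod (pr ∘ₗ t ∘ₗ u ∘ₗ φ) (LinearMap.id - ψ ∘ₗ φ)
    have ht' : Function.Injective t := Function.LeftInverse.injective (g := Finsupp.linearCombination R id)
      fun x => LinearMap.congr_fun ht x
    have hwinj : Function.Injective w := by
      refine e.injective.comp ((injective_iff_map_eq_zero _).mpr fun a ha => ?_)
      simp only [LinearMap.prod_apply, Function.prod_apply, Prod.mk_eq_zero, LinearMap.comp_apply, LinearMap.sub_apply,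
        LinearMap.id_apply, sub_eq_zero] at ha
      have h1 : φ a = 0 := hu (ht' (by rw [hpr a ha.1, map_zero, map_zero]))
      rw [ha.2, h1, map_zero]
    obtain ⟨v, hv⟩ := key n (T0.card + n) w hwinj
    have hz' : φ.rTensor Q (ψ.rTensor Q z) = z := by
      rw [hS₁, map_sum, map_sum]
      exact Finset.sum_congr rfl fun a ha => by rw [LinearMap.rTensor_tmul, LinearMap.rTensor_tmul, hφψ a ha]
    have h0 : w.rTensor Q (ψ.rTensor Q z) = 0 := by
      have h1 : w = e.toLinearMap ∘ₗ (LinearMap.inl R _ _ ∘ₗ pr ∘ₗ t ∘ₗ u ∘ₗ φ + LinearMap.inr R _ _ ∘ₗ (LinearMap.id - ψ ∘ₗ φ)) :=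
        congrArg (e.toLinearMap ∘ₗ ·) (LinearMap.ext fun a => by simp)
      rw [h1]
      simp only [LinearMap.rTensor_comp, LinearMap.rTensor_add, LinearMap.rTensor_sub, LinearMap.comp_apply,
        LinearMap.add_apply, LinearMap.sub_apply, LinearMap.rTensor_id, LinearMap.id_apply, hz', hz, map_zero,
        sub_self, add_zero]
    have : ψ.rTensor Q z = 0 := by
      rw [← LinearMap.id_apply (R := R) (ψ.rTensor Q z), ← LinearMap.rTensor_id (M := Q), ← hv,
        LinearMap.rTensor_comp, LinearMap.comp_apply, h0, map_zero]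
    rw [← hz', this, map_zero]

end Groth.Agent.S9284
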