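import Groth.Statements.S9286
import Mathlib
import Groth.Agent.S9285
-- import your own Groth.Agent.* helpers here

set_option autoImplicit false
universe u
open CAlg

namespace Groth.Agent.S9286

/-- Let R be a ring in which every proper finitely generated ideal has a nonzero annihilator. Given an
injective R-linear map u : N → M, where both N and M are finite and projective over R, the quotient
Coker(u) = M/u(N) is again projective as an R-module. -/
theorem result (R : Type u) [CommRing R]
    (hP : (∀ I : Ideal R, I.FG → I ≠ ⊤ → I.annihilator ≠ ⊥))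
    (N M : Type u) [AddCommGroup N] [Module R N] [Module.Finite R N] [Module.Projective R N]
    [AddCommGroup M] [Module R M] [Module.Finite R M] [Module.Projective R M]
    (u : N →ₗ[R] M) (hu : Function.Injective u) :
    Module.Projective R (M ⧸ LinearMap.range u) := by
  have key : ∀ (n m : ℕ) (w : (Fin n → R) →ₗ[R] (Fin m → R)), Function.Injective w →
      ∃ v : (Fin m → R) →ₗ[R] (Fin n → R), v ∘ₗ w = LinearMap.id := by
    intro n
    induction n with
    | zero => intro m w _; exact ⟨0, LinearMap.ext fun x => Subsingleton.elim _ _⟩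
    | succ n ih =>
      intro m w hw
      let i0 : R →ₗ[R] (Fin (n + 1) → R) := LinearMap.single R (fun _ => R) 0
      let i1 : (Fin n → R) →ₗ[R] (Fin (n + 1) → R) :=
        { toFun := fun a => Fin.cons 0 a
          map_add' := fun a b => by ext k; refine Fin.cases ?_ (fun k => ?_) k <;> simp
          map_smul' := fun r a => by ext k; refine Fin.cases ?_ (fun k => ?_) k <;> simp }
      have hi : ∀ x : Fin (n + 1) → R, i0 (x 0) + i1 (fun k => x k.succ) = x := fun x => by
        ext k; refine Fin.cases ?_ (fun k => ?_) k <;> simp [i0, i1]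
      have hi0 : Function.Injective i0 := fun a b h => by simpa [i0] using congrFun h 0
      obtain ⟨v0, hv0⟩ := (S9285.result R).mp hP m (w ∘ₗ i0) (hw.comp hi0)
      have hv0' : ∀ r, v0 (w (i0 r)) = r := fun r => LinearMap.congr_fun hv0 r
      let π : (Fin m → R) →ₗ[R] (Fin m → R) := LinearMap.id - (w ∘ₗ i0) ∘ₗ v0
      have hπ0 : ∀ r, π (w (i0 r)) = 0 := fun r => by simp [π, hv0']
      have hw1 : Function.Injective (π ∘ₗ w ∘ₗ i1) := by
        refine (injective_iff_map_eq_zero _).mpr fun a ha => ?_
        have h1 : w (i1 a) = w (i0 (v0 (w (i1 a)))) := by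
          simpa [π, sub_eq_zero] using ha
        have h2 := hw h1
        ext k
        simpa [i0, i1] using congrFun h2 k.succ
      obtain ⟨v1, hv1⟩ := ih m _ hw1
      refine ⟨i0 ∘ₗ (v0 - v0 ∘ₗ w ∘ₗ i1 ∘ₗ v1 ∘ₗ π) + i1 ∘ₗ v1 ∘ₗ π, LinearMap.ext fun x => ?_⟩
      have hx1 : v1 (π (w x)) = fun k => x k.succ := by
        conv_lhs => rw [← hi x]
        rw [map_add, map_add, hπ0, zero_add]
        exact LinearMap.congr_fun hv1 _
      have hx0 : v0 (w x) = x 0 + v0 (w (i1 fun k => x k.succ)) := by
        conv_lhs => rw [← hi x]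
        rw [map_add, map_add, hv0']
      simp only [LinearMap.comp_apply, LinearMap.add_apply, LinearMap.sub_apply, LinearMap.id_apply, hx1, hx0]
      rw [add_sub_cancel_right]
      exact hi x
  obtain ⟨n, p, hp⟩ := Module.Finite.exists_fin' R N
  obtain ⟨m, q, hq⟩ := Module.Finite.exists_fin' R M
  obtain ⟨s, hs⟩ := Module.projective_lifting_property p LinearMap.id hp
  obtain ⟨t, ht⟩ := Module.projective_lifting_property q LinearMap.id hq
  have hs' : ∀ x, p (s x) = x := fun x => LinearMap.congr_fun hs x
  have ht' : ∀ x, q (t x) = x := fun x => LinearMap.congr_fun ht x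
  let e := (LinearEquiv.sumArrowLequivProdArrow (Fin m) (Fin n) R R).symm ≪≫ₗ
    LinearEquiv.funCongrLeft R R finSumFinEquiv.symm
  let w : (Fin n → R) →ₗ[R] (Fin (m + n) → R) :=
    e.toLinearMap ∘ₗ LinearMap.prod (t ∘ₗ u ∘ₗ p) (LinearMap.id - s ∘ₗ p)
  have hwinj : Function.Injective w := by
    refine e.injective.comp ((injective_iff_map_eq_zero _).mpr fun a ha => ?_)
    simp only [LinearMap.prod_apply, Function.prod_apply, Prod.mk_eq_zero, LinearMap.comp_apply, LinearMap.sub_apply,
      LinearMap.id_apply, sub_eq_zero] at ha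
    have h1 : p a = 0 := hu (by rw [map_zero, ← ht' (u (p a)), ha.1, map_zero])
    rw [ha.2, h1, map_zero]
  obtain ⟨v, hv⟩ := key n (m + n) w hwinj
  let r : M →ₗ[R] N := p ∘ₗ v ∘ₗ e.toLinearMap ∘ₗ LinearMap.inl R _ _ ∘ₗ t
  have hr : ∀ x, r (u x) = x := fun x => by
    have h1 : e ((t (u x), 0)) = w (s x) := by simp [w, hs']
    show p (v (e (t (u x), 0))) = x
    rw [h1, show v (w (s x)) = s x from LinearMap.congr_fun hv _, hs']
  let g : (M ⧸ LinearMap.range u) →ₗ[R] M :=
    Submodule.liftQ _ (LinearMap.id - u ∘ₗ r) (by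
      rintro - ⟨x, rfl⟩; simp [hr])
  exact Module.Projective.of_split g (LinearMap.range u).mkQ (by
    refine Submodule.linearMap_qext _ (LinearMap.ext fun y => ?_)
    simp only [LinearMap.comp_apply, Submodule.mkQ_apply, LinearMap.id_apply, g, Submodule.liftQ_apply,
      LinearMap.sub_apply, Submodule.Quotient.eq]
    exact ⟨-(r y), by simp⟩)

end Groth.Agent.S9286
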