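import Groth.Statements.S9291
import Mathlib

set_option autoImplicit false
universe u
open EtAlg

namespace Groth.Agent.S9291

theorem away_quot_bijective (A : Type u) [CommRing A] (I : Ideal A) (s : A) (hs : IsUnit (Ideal.Quotient.mk I s)) :
    Function.Bijective (Ideal.quotientMap (I.map (algebraMap A (Localization.Away s))) (algebraMap A (Localization.Away s))
      Ideal.le_comap_map) := by
  have hu : ∀ y : Submonoid.powers s, IsUnit (Ideal.Quotient.mk I y) := by
    rintro ⟨_, n, rfl⟩
    rw [map_pow]; exact hs.pow n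
  refine ⟨(injective_iff_map_eq_zero _).mpr fun x => ?_, fun z => ?_⟩
  · obtain ⟨a, rfl⟩ := Ideal.Quotient.mk_surjective x
    rw [Ideal.quotientMap_mk, Ideal.Quotient.eq_zero_iff_mem, Ideal.Quotient.eq_zero_iff_mem]
    intro h
    obtain ⟨⟨⟨i, hi⟩, y⟩, h⟩ := (IsLocalization.mem_map_algebraMap_iff (Submonoid.powers s) _).mp h
    rw [← map_mul] at h
    obtain ⟨c, hc⟩ := IsLocalization.exists_of_eq (M := Submonoid.powers s) h
    rw [← Ideal.Quotient.eq_zero_iff_mem] at hi ⊢
    have := congrArg (Ideal.Quotient.mk I) hc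
    simp only [map_mul, hi, mul_zero] at this
    exact ((hu y).mul_left_eq_zero).mp (((hu c).mul_right_eq_zero).mp this)
  · obtain ⟨z, rfl⟩ := Ideal.Quotient.mk_surjective z
    obtain ⟨a, y, rfl⟩ := IsLocalization.exists_mk'_eq (Submonoid.powers s) z
    obtain ⟨b, hb⟩ := Ideal.Quotient.mk_surjective ((((hu y).unit⁻¹ : (A ⧸ I)ˣ) : A ⧸ I) * Ideal.Quotient.mk I a)
    refine ⟨Ideal.Quotient.mk I b, ?_⟩
    have hmem : a - b * y ∈ I := by
      rw [← Ideal.Quotient.eq_zero_iff_mem, map_sub, map_mul, hb]
      linear_combination (-(Ideal.Quotient.mk I a)) * (hu y).val_inv_mul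
    rw [Ideal.quotientMap_mk, Ideal.Quotient.mk_eq_mk_iff_sub_mem]
    have : algebraMap A _ b - IsLocalization.mk' (Localization.Away s) a y =
        - (IsLocalization.mk' (Localization.Away s) (1 : A) y * algebraMap A _ (a - b * y)) := by
      have h1 : IsLocalization.mk' (Localization.Away s) (1 : A) y * algebraMap A _ (y : A) = 1 := by
        rw [IsLocalization.mk'_spec, map_one]
      rw [map_sub, map_mul, IsLocalization.mk'_eq_mul_mk'_one a y]
      linear_combination (-(algebraMap A (Localization.Away s) b)) * h1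
    rw [this]
    exact neg_mem (Ideal.mul_mem_left _ _ (Ideal.mem_map_of_mem _ hmem))


/-- Let A be a ring, I an ideal and u a unit of A/I. Then there is an étale ring map A → A' such that
A/I → A'/IA' is an isomorphism, together with a unit of A' mapping to the image of u. -/
theorem result (A : Type u) [CommRing A] (I : Ideal A) (u : (A ⧸ I)ˣ) :
    ∃ (A' : Type u) (_ : CommRing A') (_ : Algebra A A'), Algebra.Etale A A' ∧
      Function.Bijective (Ideal.quotientMap (Ideal.map (algebraMap A A') I) (algebraMap A A')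
        Ideal.le_comap_map) ∧
      ∃ u' : A'ˣ, Ideal.Quotient.mk (Ideal.map (algebraMap A A') I) (u' : A') =
        Ideal.quotientMap (Ideal.map (algebraMap A A') I) (algebraMap A A') Ideal.le_comap_map
          (u : A ⧸ I) := by
  obtain ⟨s, hs⟩ := Ideal.Quotient.mk_surjective (u : A ⧸ I)
  haveI : Algebra.Etale A (Localization.Away s) := Algebra.Etale.of_isLocalizationAway s
  refine ⟨Localization.Away s, inferInstance, inferInstance, inferInstance, away_quot_bijective A I s (hs ▸ u.isUnit),
    (IsLocalization.Away.algebraMap_isUnit s).unit, ?_⟩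
  rw [IsUnit.unit_spec, ← hs, Ideal.quotientMap_mk]

end Groth.Agent.S9291
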