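import Groth.Statements.S9292
import Mathlib

set_option autoImplicit false
universe u
open EtAlg

namespace Groth.Agent.S9292

theorem mem_map_pi {A : Type u} [CommRing A] (I : Ideal A) {κ : Type} [Fintype κ] [DecidableEq κ] (T : κ → Type u)
    [∀ j, CommRing (T j)] [∀ j, Algebra A (T j)] (z : ∀ j, T j) :
    z ∈ I.map (algebraMap A (∀ j, T j)) ↔ ∀ j, z j ∈ I.map (algebraMap A (T j)) := by
  refine ⟨fun h j => ?_, fun h => ?_⟩
  · have := Ideal.mem_map_of_mem (Pi.evalAlgHom A T j).toRingHom h
    rw [Ideal.map_map, AlgHom.toRingHom_eq_coe, AlgHom.comp_algebraMap] at this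
    exact this
  · rw [← Finset.univ_sum_single z]
    refine Ideal.sum_mem _ fun j _ => ?_
    generalize z j = t, h j = ht at *
    induction ht using Submodule.span_induction with
    | mem x hx =>
      obtain ⟨i, hi, rfl⟩ := hx
      have : Pi.single j (algebraMap A (T j) i) = algebraMap A (∀ j, T j) i * Pi.single j 1 := by
        funext k
        rcases eq_or_ne k j with rfl | hk
        · simp
        · simp [hk]
      rw [this]
      exact Ideal.mul_mem_right _ _ (Ideal.mem_map_of_mem _ hi)
    | zero => simp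
    | add x y _ _ hx hy => rw [Pi.single_add]; exact add_mem hx hy
    | smul r x _ hx =>
      rw [smul_eq_mul, Pi.single_mul]
      exact Ideal.mul_mem_left _ _ hx


/-- Let A be a ring, I an ideal, and e_1, ..., e_n a complete system of orthogonal idempotents of A/I
(equivalently a finite disjoint open covering of Spec(A/I)). Then one can find an A-algebra A' that
is étale over A, such that the induced map A/I → A'/IA' is bijective, together with a complete
system of orthogonal idempotents of A' lifting the e_j. -/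
theorem result (A : Type u) [CommRing A] (I : Ideal A)
    (n : ℕ) (e : Fin n → A ⧸ I) (he : CompleteOrthogonalIdempotents e) :
    ∃ (A' : Type u) (_ : CommRing A') (_ : Algebra A A'), Algebra.Etale A A' ∧
      Function.Bijective (Ideal.quotientMap (Ideal.map (algebraMap A A') I) (algebraMap A A')
        Ideal.le_comap_map) ∧
      ∃ e' : Fin n → A', CompleteOrthogonalIdempotents e' ∧
        ∀ j, Ideal.Quotient.mk (Ideal.map (algebraMap A A') I) (e' j) =
          Ideal.quotientMap (Ideal.map (algebraMap A A') I) (algebraMap A A') Ideal.le_comap_map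
            (e j) := by
  classical
  choose a ha using fun j => Ideal.Quotient.mk_surjective (e j)
  let T := fun j => Localization.Away (a j)
  haveI : ∀ j, Algebra.Etale A (T j) := fun j => Algebra.Etale.of_isLocalizationAway (a j)
  have hpow : ∀ j (y : Submonoid.powers (a j)), e j * Ideal.Quotient.mk I y = e j := by
    rintro j ⟨_, n, rfl⟩
    rw [map_pow, ha, ← pow_succ', (he.idem j).pow_succ_eq]
  have hq : ∀ (b : A), (∀ j, algebraMap A (T j) b ∈ I.map (algebraMap A (T j))) → b ∈ I := fun b hb => by
    rw [← Ideal.Quotient.eq_zero_iff_mem, ← one_mul (Ideal.Quotient.mk I b), ← he.complete, Finset.sum_mul]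
    refine Finset.sum_eq_zero fun j _ => ?_
    obtain ⟨⟨⟨i, hi⟩, y⟩, h⟩ := (IsLocalization.mem_map_algebraMap_iff (Submonoid.powers (a j)) _).mp (hb j)
    rw [← map_mul] at h
    obtain ⟨c, hc⟩ := IsLocalization.exists_of_eq (M := Submonoid.powers (a j)) h
    have := congrArg (fun t => e j * Ideal.Quotient.mk I t) hc
    simp only [map_mul, Ideal.Quotient.eq_zero_iff_mem.mpr hi, mul_zero] at this
    linear_combination this - Ideal.Quotient.mk I b * hpow j y - Ideal.Quotient.mk I (b * y) * hpow j c +
      (Ideal.Quotient.mk I b * Ideal.Quotient.mk I y * e j - e j * Ideal.Quotient.mk I b * Ideal.Quotient.mk I y) +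
      (map_mul (Ideal.Quotient.mk I) b y) * (e j * Ideal.Quotient.mk I c - e j)
  refine ⟨∀ j, T j, inferInstance, inferInstance, inferInstance, ⟨(injective_iff_map_eq_zero _).mpr fun x => ?_, fun z => ?_⟩,
    fun j => Pi.single j 1, ?_, fun j => ?_⟩
  · obtain ⟨b, rfl⟩ := Ideal.Quotient.mk_surjective x
    rw [Ideal.quotientMap_mk, Ideal.Quotient.eq_zero_iff_mem, Ideal.Quotient.eq_zero_iff_mem, mem_map_pi]
    exact hq b
  · obtain ⟨z, rfl⟩ := Ideal.Quotient.mk_surjective z
    choose c y hcy using fun j => IsLocalization.exists_mk'_eq (Submonoid.powers (a j)) (z j)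
    choose v hv using fun j => (⟨(y j : A), rfl⟩ : ∃ v, v = (y j : A))
    obtain ⟨b, hb⟩ := Ideal.Quotient.mk_surjective (∑ j, e j * Ideal.Quotient.mk I (c j))
    refine ⟨Ideal.Quotient.mk I b, ?_⟩
    rw [Ideal.quotientMap_mk, Ideal.Quotient.mk_eq_mk_iff_sub_mem, mem_map_pi]
    intro j
    have h1 : e j * Ideal.Quotient.mk I b = e j * Ideal.Quotient.mk I (c j) := by
      rw [hb, Finset.mul_sum, Finset.sum_eq_single j (fun k _ hk => by rw [← mul_assoc, he.ortho (Ne.symm hk), zero_mul])
        (fun h => absurd (Finset.mem_univ j) h), ← mul_assoc, (he.idem j).eq]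
    have hmem : a j * (b * y j - c j) ∈ I := by
      rw [← Ideal.Quotient.eq_zero_iff_mem, map_mul, map_sub, map_mul, ha]
      linear_combination h1 + Ideal.Quotient.mk I b * hpow j (y j)
    show (algebraMap A (∀ j, T j) b - z) j ∈ _
    rw [Pi.sub_apply, Pi.algebraMap_apply, ← hcy j]
    obtain ⟨u, hu⟩ := IsLocalization.Away.algebraMap_isUnit (S := T j) (a j)
    have h2 : algebraMap A (T j) b - IsLocalization.mk' (T j) (c j) (y j) =
        IsLocalization.mk' (T j) (1 : A) (y j) * (↑u⁻¹ * algebraMap A (T j) (a j * (b * y j - c j))) := by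
      rw [map_mul, ← mul_assoc (↑u⁻¹ : T j), ← hu, Units.inv_mul, one_mul, map_sub, map_mul,
        IsLocalization.mk'_eq_mul_mk'_one (c j) (y j)]
      have h0 : IsLocalization.mk' (T j) (1 : A) (y j) * algebraMap A _ (y j : A) = 1 := by
        rw [IsLocalization.mk'_spec, map_one]
      linear_combination (-(algebraMap A (T j) b)) * h0
    rw [h2]
    exact Ideal.mul_mem_left _ _ (Ideal.mul_mem_left _ _ (Ideal.mem_map_of_mem _ hmem))
  · exact CompleteOrthogonalIdempotents.single T
  · rw [← ha j, Ideal.quotientMap_mk, Ideal.Quotient.mk_eq_mk_iff_sub_mem, mem_map_pi]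
    intro k
    show (Pi.single j (1 : T j) : ∀ i, T i) k - algebraMap A (T k) (a j) ∈ _
    obtain ⟨u, hu⟩ := IsLocalization.Away.algebraMap_isUnit (S := T k) (a k)
    rcases eq_or_ne k j with rfl | hk
    · have hmem : a k * (1 - a k) ∈ I := by
        rw [← Ideal.Quotient.eq_zero_iff_mem, map_mul, map_sub, map_one, ha, mul_sub, mul_one, (he.idem k).eq, sub_self]
      have := Ideal.mem_map_of_mem (algebraMap A (T k)) hmem
      rw [map_mul, ← hu, Ideal.unit_mul_mem_iff_mem _ u.isUnit, map_sub, map_one, ← hu] at this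
      rwa [Pi.single_eq_same, ← hu]
    · have hmem : a k * a j ∈ I := by
        rw [← Ideal.Quotient.eq_zero_iff_mem, map_mul, ha, ha, he.ortho hk]
      have := Ideal.mem_map_of_mem (algebraMap A (T k)) hmem
      rw [map_mul, ← hu, Ideal.unit_mul_mem_iff_mem _ u.isUnit] at this
      rw [Pi.single_eq_of_ne hk, zero_sub]
      exact neg_mem this

end Groth.Agent.S9292
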