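import Groth.Statements.S9293
import Mathlib
import Groth.Agent.RegLocus.GeomBaseChange
-- import your own Groth.Agent.* helpers here

set_option autoImplicit false
universe u
open CAlg

namespace Groth.Agent.S9293

open TensorProduct in
/-- If R → Λ is a regular ring map and R' is an R-algebra of finite type, then R' → R' ⊗_R Λ is again
regular. -/
theorem result (R Λ R' : Type u) [CommRing R] [CommRing Λ] [CommRing R']
    [Algebra R Λ] [Algebra R R'] [Algebra.FiniteType R R'] (h : CAlg.IsRegularHom R Λ) :
    CAlg.IsRegularHom R' (TensorProduct R R' Λ) := by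
  obtain ⟨hflat, hfib⟩ := h
  refine ⟨inferInstance, fun p' _ => ?_⟩
  let p := p'.comap (algebraMap R R')
  letI : Algebra p.ResidueField p'.ResidueField :=
    (Ideal.ResidueField.map p p' (algebraMap R R') rfl).toAlgebra
  haveI : IsScalarTower R p.ResidueField p'.ResidueField := IsScalarTower.of_algebraMap_eq fun a =>
    ((Ideal.ResidueField.map_algebraMap p p' (algebraMap R R') rfl a).trans (by
      rw [← IsScalarTower.algebraMap_apply R R' p'.ResidueField])).symm
  haveI := (hfib p).1
  haveI : Algebra.EssFiniteType R R' := inferInstance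
  haveI : Algebra.EssFiniteType R' p'.ResidueField := inferInstance
  haveI : Algebra.EssFiniteType R p'.ResidueField := Algebra.EssFiniteType.comp R R' _
  haveI : Algebra.EssFiniteType p.ResidueField p'.ResidueField := Algebra.EssFiniteType.of_comp R _ _
  have hN0 : IsNoetherianRing (p.Fiber Λ ⊗[p.ResidueField] p'.ResidueField) :=
    Algebra.EssFiniteType.isNoetherianRing (p.Fiber Λ) (p.Fiber Λ ⊗[p.ResidueField] p'.ResidueField)
  have e : p.Fiber Λ ⊗[p.ResidueField] p'.ResidueField ≃+* p'.Fiber (TensorProduct R R' Λ) :=
    (Algebra.TensorProduct.comm p.ResidueField (p.Fiber Λ) p'.ResidueField).toRingEquiv.trans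
      ((Algebra.TensorProduct.cancelBaseChange R p.ResidueField p.ResidueField p'.ResidueField Λ).toRingEquiv.trans
        (Algebra.TensorProduct.cancelBaseChange R R' R' p'.ResidueField Λ).symm.toRingEquiv)
  have hN : IsNoetherianRing (p'.Fiber (TensorProduct R R' Λ)) := isNoetherianRing_of_ringEquiv _ e
  refine ⟨hN, Groth.Agent.RegLocus.fibre_baseChange (fun R _ => IsRegularRing R)
    Groth.Agent.RegLocus.isRegularRing_of_ringEquiv' R Λ R' p' hN ?_⟩
  intro K _ _ _
  exact Groth.Agent.RegLocus.isRegularRing_any _ _ (hfib _).2 K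
end Groth.Agent.S9293
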