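import Groth.Statements.S9295
import Groth.Agent.RegLocus.CplDescendHom
import Groth.Agent.RegNormal.Basic
-- import your own Groth.Agent.* helpers here

set_option autoImplicit false
universe u
open CAlg

namespace Groth.Agent.RegLocus
universe v
open TensorProduct IsLocalRing

theorem isRegularHom_descend' (A B C : Type u) [CommRing A] [CommRing B] [CommRing C] [Algebra A B] [Algebra B C] [Algebra A C] [IsScalarTower A B C] [Module.FaithfullyFlat B C]
    (hAC : CAlg.IsRegularHom A C) : CAlg.IsRegularHom A B := by
  haveI := hAC.1
  refine ⟨flat_of_comp_faithfullyFlat A B C, fun p _ => ?_⟩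
  suffices key : ∀ (k' : Type u) [Field k'] [Algebra p.ResidueField k'], Module.Finite p.ResidueField k' →
      IsRegularRing (k' ⊗[p.ResidueField] p.Fiber B) by
    refine ⟨?_, fun k' _ _ hfin => key k' hfin⟩
    haveI := (key p.ResidueField inferInstance)
    exact @isNoetherianRing_of_ringEquiv _ _ _ _ (Algebra.TensorProduct.lid p.ResidueField (p.Fiber B)).toRingEquiv (key p.ResidueField inferInstance).toIsNoetherian
  intro k' _ _ hfin
  haveI := hfin
  letI : Algebra A k' := ((algebraMap p.ResidueField k').comp (algebraMap A p.ResidueField)).toAlgebra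
  haveI : IsScalarTower A p.ResidueField k' := IsScalarTower.of_algebraMap_eq fun _ => rfl
  let R := k' ⊗[A] B
  letI : Algebra B R := Algebra.TensorProduct.rightAlgebra
  have : IsScalarTower A B R := IsScalarTower.of_algebraMap_eq fun a => by
    simp only [RingHom.algebraMap_toAlgebra]
    exact ((Algebra.TensorProduct.includeRight : B →ₐ[A] R).commutes a).symm
  let e : R ⊗[B] C ≃+* k' ⊗[A] C :=
    ((Algebra.TensorProduct.comm B R C).toRingEquiv.trans
      ((Algebra.TensorProduct.congr (AlgEquiv.refl : C ≃ₐ[B] C)
        ({ (Algebra.TensorProduct.comm A k' B).toRingEquiv with commutes' := fun b => Algebra.TensorProduct.comm_tmul A (1 : k') b } :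
          R ≃ₐ[B] B ⊗[A] k')).toRingEquiv.trans
        ((Algebra.TensorProduct.cancelBaseChange A B B C k').toRingEquiv.trans
          (Algebra.TensorProduct.comm A C k').toRingEquiv)))
  have h1 : IsRegularRing (k' ⊗[A] C) :=
    isRegularRing_of_ringEquiv' (Algebra.TensorProduct.cancelBaseChange A p.ResidueField p.ResidueField k' C).toRingEquiv
      ((hAC.2 p).2 k' hfin)
  have h3 : IsRegularRing (R ⊗[B] C) := isRegularRing_of_ringEquiv' e.symm h1
  haveI : IsNoetherianRing R := Groth.Agent.RegNormal.isNoetherianRing_of_faithfullyFlat R (R ⊗[B] C)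
  have h2 : IsRegularRing R := isRegularRing_descend R (R ⊗[B] C) h3
  exact isRegularRing_of_ringEquiv'
    (Algebra.TensorProduct.cancelBaseChange A p.ResidueField p.ResidueField k' B).toRingEquiv.symm h2

end Groth.Agent.RegLocus

namespace Groth.Agent.S9295

/-- For ring maps A → B → C, if the composite A → C is a regular map and C is flat over B with every
prime of B lying under a prime of C (that is, B → C is faithfully flat), then A → B is a regular
map. -/
theorem result (A B C : Type u) [CommRing A] [CommRing B] [CommRing C]
    [Algebra A B] [Algebra B C] [Algebra A C] [IsScalarTower A B C]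
    (hAC : CAlg.IsRegularHom A C) [Module.Flat B C]
    (hsurj : Function.Surjective (PrimeSpectrum.comap (algebraMap B C))) :
    CAlg.IsRegularHom A B := by
  haveI : Module.FaithfullyFlat B C := Module.FaithfullyFlat.of_comap_surjective hsurj
  exact Groth.Agent.RegLocus.isRegularHom_descend' A B C hAC

end Groth.Agent.S9295
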