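import Groth.Statements.S9296
import Groth.Agent.RegLocus.Basic

set_option autoImplicit false
universe u
open EGA4

namespace Groth.Agent.S9296

/-- For a Noetherian ring R, the set of primes at which R is regular is open in Spec R (R is J-1)
exactly when, for each such prime p, some nonempty open part of the closed set V(p) consists of
primes at which R is regular. Stated with an open U of Spec R whose trace on V(p) is nonempty and
contained in the regular locus. -/
theorem result (R : Type u) [CommRing R] [IsNoetherianRing R] :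
    IsOpen (EGA4.regLocus R) ↔
      ∀ p ∈ EGA4.regLocus R, ∃ U : Set (PrimeSpectrum R), IsOpen U ∧
        (U ∩ PrimeSpectrum.zeroLocus (p.asIdeal : Set R)).Nonempty ∧
        U ∩ PrimeSpectrum.zeroLocus (p.asIdeal : Set R) ⊆ EGA4.regLocus R := by
  refine ⟨fun h p hp => ⟨EGA4.regLocus R, h, ⟨p, hp, fun _ hx => hx⟩, fun x hx => hx.1⟩, fun h => ?_⟩
  refine RegLocus.isOpen_of_forall _ (fun p q hle hp => RegLocus.regular_of_le p.asIdeal q.asIdeal hle hp) fun p hp => ?_
  obtain ⟨U, hU, ⟨x, hxU, hxp⟩, hsub⟩ := h p hp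
  obtain ⟨_, ⟨f, rfl⟩, hxf, hfU⟩ := (PrimeSpectrum.isTopologicalBasis_basic_opens.isOpen_iff.1 hU) x hxU
  exact ⟨f, fun hf => hxf (hxp hf), fun q hpq hfq => hsub ⟨hfU hfq, hpq⟩⟩

end Groth.Agent.S9296
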