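import Groth.Statements.S9300
-- import your own Groth.Agent.* helpers here

set_option autoImplicit false
universe u
open CAlg

namespace Groth.Agent.S9300

/-- Let A and B be domains and A → B a ring map for which the generic point of Spec(A) has a unique
preimage in Spec(B). Then every nonzero ideal of B has nonzero preimage in A. -/
theorem result (A B : Type u) [CommRing A] [IsDomain A]
    [CommRing B] [IsDomain B] (φ : A →+* B)
    (h : ∃! q : PrimeSpectrum B, Ideal.comap φ q.asIdeal = ⊥) (J : Ideal B) (hJ : J ≠ ⊥) :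
    Ideal.comap φ J ≠ ⊥ := by
  obtain ⟨q, hq, huniq⟩ := h
  intro hJc
  have hinj : Function.Injective φ := by
    rw [RingHom.injective_iff_ker_eq_bot, eq_bot_iff]
    intro a ha
    rw [← hq, Ideal.mem_comap, RingHom.mem_ker.mp ha]
    exact zero_mem _
  let M : Submonoid B := (nonZeroDivisors A).map φ.toMonoidHom
  have hd : Disjoint (J : Set B) M := by
    rw [Set.disjoint_left]
    rintro _ hb ⟨a, ha, rfl⟩
    have : a ∈ Ideal.comap φ J := hb
    rw [hJc, Ideal.mem_bot] at this
    exact (mem_nonZeroDivisors_iff_ne_zero.mp ha) this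
  obtain ⟨p, hp, hJp, hpd⟩ := Ideal.exists_le_prime_disjoint J M hd
  have hpc : Ideal.comap φ p = ⊥ := by
    rw [eq_bot_iff]
    intro a ha
    by_contra h0
    exact Set.disjoint_left.mp hpd ha ⟨a, mem_nonZeroDivisors_iff_ne_zero.mpr h0, rfl⟩
  have h1 := huniq ⟨p, hp⟩ hpc
  have h2 := huniq ⟨⊥, Ideal.isPrime_bot⟩ ((RingHom.ker_eq_comap_bot φ).symm.trans ((RingHom.injective_iff_ker_eq_bot φ).mp hinj))
  have : p = ⊥ := congrArg PrimeSpectrum.asIdeal (h1.trans h2.symm)
  exact hJ (le_bot_iff.mp (this ▸ hJp))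

end Groth.Agent.S9300
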