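import Groth.Statements.S9301
import Mathlib
open scoped TensorProduct
-- import your own Groth.Agent.* helpers here

set_option autoImplicit false
universe u
open CAlg

namespace Groth.Agent.S9301

/-- Let A and B be domains and A → B a flat ring map which is the localization of a quasi-finite ring
map A → B₀ (of finite type with finite fibres). Then every nonzero ideal of B has nonzero preimage
in A. -/
theorem result (A B₀ B : Type u) [CommRing A] [IsDomain A]
    [CommRing B₀] [CommRing B] [IsDomain B] [Algebra A B₀] [Algebra.FiniteType A B₀]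
    [Algebra.QuasiFinite A B₀] (S : Submonoid B₀) [Algebra B₀ B] [IsLocalization S B] [Algebra A B]
    [IsScalarTower A B₀ B] [Module.Flat A B] (J : Ideal B) (hJ : J ≠ ⊥) :
    Ideal.comap (algebraMap A B) J ≠ ⊥ := by
  classical
  haveI : Algebra.QuasiFinite A B := Algebra.QuasiFinite.of_isLocalization (R := A) (S := B₀) S
  let K := FractionRing A
  let L := FractionRing B
  have hinj : Function.Injective (algebraMap A B) := by
    rw [injective_iff_map_eq_zero]
    intro a ha
    by_contra ha0
    have h1 := Module.Flat.isSMulRegular_of_isRegular (M := B)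
      (isRegular_iff_ne_zero.2 ha0)
    refine one_ne_zero (α := B) (h1 ?_)
    simp only [Algebra.smul_def, ha, zero_mul]
  have hinjL : Function.Injective (algebraMap A L) := by
    rw [IsScalarTower.algebraMap_eq A B L]
    exact (IsFractionRing.injective B L).comp hinj
  letI : Algebra K L := (IsFractionRing.lift hinjL).toAlgebra
  haveI : IsScalarTower A K L := IsScalarTower.of_algebraMap_eq fun a => by
    rw [RingHom.algebraMap_toAlgebra, IsFractionRing.lift_algebraMap]
  haveI : Module.Finite K (K ⊗[A] B) := Module.Finite.of_quasiFinite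
  let ψ : K ⊗[A] B →ₐ[K] L := Algebra.TensorProduct.lift (Algebra.ofId K L)
    (IsScalarTower.toAlgHom A B L) (fun _ _ => Commute.all _ _)
  obtain ⟨b, hbJ, hb0⟩ := Submodule.exists_mem_ne_zero_of_ne_bot hJ
  have hint : IsIntegral K (algebraMap B L b) := by
    have := (Algebra.IsIntegral.isIntegral (R := K) ((1 : K) ⊗ₜ[A] b)).map ψ
    simpa [ψ] using this
  have halg : IsAlgebraic A b := by
    refine (isAlgebraic_algebraMap_iff (IsFractionRing.injective B L)).1 ?_
    exact (IsFractionRing.isAlgebraic_iff A K L).2 hint.isAlgebraic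
  intro hbot
  obtain ⟨r, hr0, hr⟩ := halg.exists_nonzero_dvd (mem_nonZeroDivisors_of_ne_zero hb0)
  refine hr0 ?_
  rw [← Ideal.mem_bot, ← hbot, Ideal.mem_comap]
  obtain ⟨q, hq⟩ := hr
  rw [hq]
  exact J.mul_mem_right _ hbJ

end Groth.Agent.S9301
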