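import Groth.Statements.S9302
import Mathlib

set_option autoImplicit false
universe u
open CategoryTheory
open EtAlg

namespace Groth.Agent.S9302

/-- Henselian pairs are preserved under limits: for an inverse system (A_j, I_j) of henselian pairs over
a preordered set J, the limit A = lim A_j with the ideal I = lim I_j (elements all of whose
projections lie in the I_j) is a henselian pair. -/
theorem result (J : Type u) [Preorder J] (F : J ⥤ CommRingCat.{u})
    (I : ∀ j : J, Ideal (F.obj j))
    (hI : ∀ (i j : J) (φ : i ⟶ j), Ideal.map (F.map φ).hom (I i) ≤ I j)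
    (h : ∀ j : J, HenselianRing (F.obj j) (I j)) :
    HenselianRing ((Limits.limit F : CommRingCat.{u}) : Type u)
      (⨅ j : J, Ideal.comap (Limits.limit.π F j).hom (I j)) := by
  let π : ∀ j, (↥(Limits.limit F)) →+* F.obj j := fun j => (Limits.limit.π F j).hom
  have hext : ∀ x y : ↥(Limits.limit F), (∀ j, π j x = π j y) → x = y := fun x y hxy =>
    Limits.Concrete.limit_ext F x y hxy
  have hcomp : ∀ {i j : J} (φ : i ⟶ j) (x : ↥(Limits.limit F)), (F.map φ).hom (π i x) = π j x := by
    intro i j φ x
    rw [← CommRingCat.comp_apply, Limits.limit.w]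
  have hex : ∀ s : ∀ j, F.obj j, (∀ {i j : J} (φ : i ⟶ j), (F.map φ).hom (s i) = s j) →
      ∃ x : ↥(Limits.limit F), ∀ j, π j x = s j := by
    intro s hs
    let t : (F ⋙ forget CommRingCat.{u}).sections := ⟨fun j => s j, fun φ => hs φ⟩
    exact ⟨(Limits.Types.isLimitEquivSections
      (Limits.isLimitOfPreserves (forget CommRingCat.{u}) (Limits.limit.isLimit F))).symm t,
      fun j => Limits.Types.isLimitEquivSections_symm_apply
        (Limits.isLimitOfPreserves (forget CommRingCat.{u}) (Limits.limit.isLimit F)) t j⟩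
  have hunit : ∀ j (x : F.obj j), IsUnit (Ideal.Quotient.mk (I j) x) → IsUnit x := by
    intro j x hx
    haveI := h j
    obtain ⟨y, hy⟩ := hx.exists_right_inv
    obtain ⟨y, rfl⟩ := Ideal.Quotient.mk_surjective y
    rw [← map_mul, ← map_one (Ideal.Quotient.mk (I j)), Ideal.Quotient.eq] at hy
    have h1 : IsUnit (x * y) := by
      have := Ideal.mem_jacobson_bot.1 ((h j).jac hy) 1
      simpa using this
    exact isUnit_of_mul_isUnit_left h1
  constructor
  · intro x hx
    rw [Ideal.mem_jacobson_bot]
    intro y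
    have hu : ∀ j, IsUnit (π j (x * y + 1)) := fun j => by
      rw [map_add, map_mul, map_one]
      exact Ideal.mem_jacobson_bot.1 ((h j).jac (Ideal.mem_iInf.1 hx j)) _
    obtain ⟨z, hz⟩ := hex (fun j => ↑(hu j).unit⁻¹) (fun {i j} φ => by
      refine (hu j).mul_left_cancel ?_
      rw [IsUnit.mul_val_inv]
      conv_lhs => rw [← hcomp φ]
      rw [← map_mul, IsUnit.mul_val_inv, map_one])
    refine IsUnit.of_mul_eq_one z (hext _ _ fun j => ?_)
    rw [map_mul, hz, IsUnit.mul_val_inv, map_one]
  · intro f hf a₀ hfa hunitA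
    have hdu : ∀ j (a : F.obj j), a - π j a₀ ∈ I j → IsUnit ((f.map (π j)).derivative.eval a) := by
      intro j a ha
      refine hunit j _ ?_
      rw [← Polynomial.eval₂_at_apply, Ideal.Quotient.eq.2 ha, Polynomial.eval₂_at_apply,
        Polynomial.derivative_map, Polynomial.eval_map_apply]
      obtain ⟨y, hy⟩ := hunitA.exists_right_inv
      obtain ⟨y, rfl⟩ := Ideal.Quotient.mk_surjective y
      rw [← map_mul, ← map_one (Ideal.Quotient.mk _), Ideal.Quotient.eq, Ideal.mem_iInf] at hy
      refine IsUnit.of_mul_eq_one (Ideal.Quotient.mk (I j) (π j y)) ?_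
      rw [← map_mul, ← map_mul, ← map_one (Ideal.Quotient.mk (I j)), Ideal.Quotient.eq]
      have := hy j
      rwa [Ideal.mem_comap, map_sub, map_one] at this
    have huniq : ∀ j (a b : F.obj j), (f.map (π j)).IsRoot a → (f.map (π j)).IsRoot b →
        a - π j a₀ ∈ I j → b - π j a₀ ∈ I j → a = b := by
      intro j a b ha hb haI hbI
      obtain ⟨k, hk⟩ := (f.map (π j)).binomExpansion a (b - a)
      rw [add_sub_cancel, hb.eq_zero, ha.eq_zero, zero_add] at hk
      have hu : IsUnit ((f.map (π j)).derivative.eval a + k * (b - a)) := by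
        refine hunit j _ ?_
        rw [map_add, map_mul, show Ideal.Quotient.mk (I j) (b - a) = 0 from
          Ideal.Quotient.eq_zero_iff_mem.2 (by simpa using sub_mem hbI haI), mul_zero, add_zero]
        exact (hdu j a haI).map _
      exact (sub_eq_zero.1 (hu.mul_right_eq_zero.1 (by linear_combination -hk))).symm
    have hroot : ∀ j, ∃ a : F.obj j, (f.map (π j)).IsRoot a ∧ a - π j a₀ ∈ I j := fun j => by
      refine (h j).is_henselian _ (hf.map _) _ ?_ ((hdu j _ (by simp)).map _)
      rw [Polynomial.eval_map_apply]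
      exact Ideal.mem_iInf.1 hfa j
    choose a ha haI using hroot
    obtain ⟨z, hz⟩ := hex a (fun {i j} φ => by
      refine huniq j _ _ ?_ (ha j) ?_ (haI j)
      · rw [show f.map (π j) = (f.map (π i)).map (F.map φ).hom by
          rw [Polynomial.map_map]; congr 1; exact RingHom.ext fun x => (hcomp φ x).symm]
        exact (ha i).map
      · have := hI i j φ (Ideal.mem_map_of_mem _ (haI i))
        rwa [map_sub, hcomp] at this)
    refine ⟨z, hext _ _ fun j => ?_, Ideal.mem_iInf.2 fun j => ?_⟩
    · rw [map_zero, ← Polynomial.eval_map_apply, hz]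
      exact ha j
    · rw [Ideal.mem_comap, map_sub]
      change π j z - π j a₀ ∈ I j
      rw [hz]
      exact haI j

end Groth.Agent.S9302
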