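import Groth.Statements.S9303
import Mathlib
-- import your own Groth.Agent.* helpers here

set_option autoImplicit false
universe u
open CAlg

namespace Groth.Agent.S9303Aux

variable {A : Type u} [CommRing A] {C : Type u} [CommRing C] [Algebra A C]

/-- elementwise consequences of the hypothesis at one element `f` -/
theorem data (f : A) (e : Localization.Away f) (he : IsIdempotentElem e)
    (hl : IsLocalization.Away e (Localization (Algebra.algebraMapSubmonoid C (Submonoid.powers f)))) :
    (∀ c : C, ∃ (n : ℕ) (a : A), algebraMap A C (f ^ n) * c = algebraMap A C a) ∧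
      ∃ (k : ℕ) (x : A), algebraMap A C x = 0 ∧ (∀ z : A, algebraMap A C z = 0 →
        ∃ n, f ^ n * ((f ^ k - x) * z) = 0) ∧
        ∀ z : A, algebraMap A C z = 0 → ∃ n b, f ^ n * z = b * x := by
  let M := Localization (Algebra.algebraMapSubmonoid C (Submonoid.powers f))
  let S := Submonoid.powers f
  have he1 : algebraMap (Localization.Away f) M e = 1 := by
    have hu : IsUnit (algebraMap (Localization.Away f) M e) := IsLocalization.Away.algebraMap_isUnit e
    exact hu.mul_left_cancel (by rw [← map_mul, he.eq, mul_one])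
  have hcompat : ∀ a : A, algebraMap (Localization.Away f) M (algebraMap A _ a) = algebraMap C M (algebraMap A C a) :=
    fun a => by rw [← IsScalarTower.algebraMap_apply A (Localization.Away f) M, IsScalarTower.algebraMap_apply A C M]
  have hpow : ∀ s : Algebra.algebraMapSubmonoid C S, ∃ n : ℕ, (s : C) = algebraMap A C (f ^ n) := fun s => by
    obtain ⟨_, ⟨n, rfl⟩, hs⟩ := s.2
    exact ⟨n, hs.symm⟩
  refine ⟨fun c => ?_, ?_⟩
  · obtain ⟨⟨l, ⟨_, n, rfl⟩⟩, hn⟩ := IsLocalization.surj (Submonoid.powers e) (algebraMap C M c)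
    simp only [map_pow, he1, one_pow, mul_one] at hn
    obtain ⟨⟨a, ⟨_, m, rfl⟩⟩, hm⟩ := IsLocalization.surj S l
    have h : algebraMap C M (algebraMap A C (f ^ m) * c) = algebraMap C M (algebraMap A C a) := by
      rw [map_mul, hn, ← hcompat, ← hcompat, ← map_mul, mul_comm, hm]
    obtain ⟨s, hs⟩ := (IsLocalization.eq_iff_exists (Algebra.algebraMapSubmonoid C S) M).1 h
    obtain ⟨r, hr⟩ := hpow s
    refine ⟨r + m, f ^ r * a, ?_⟩
    rw [hr] at hs
    rw [pow_add, map_mul, mul_assoc, hs, map_mul]
  · obtain ⟨⟨x0, ⟨_, k0, rfl⟩⟩, hx0⟩ := IsLocalization.surj S (1 - e)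
    have hx0M : algebraMap C M (algebraMap A C x0) = algebraMap C M 0 := by
      rw [← hcompat, ← hx0, map_mul, map_sub, map_one, he1, sub_self, zero_mul, map_zero]
    obtain ⟨s, hs⟩ := (IsLocalization.eq_iff_exists (Algebra.algebraMapSubmonoid C S) M).1 hx0M
    obtain ⟨r, hr⟩ := hpow s
    rw [hr, mul_zero, ← map_mul] at hs
    have hxL : algebraMap A (Localization.Away f) (f ^ r * x0) = algebraMap A _ (f ^ (r + k0)) * (1 - e) := by
      rw [map_mul, ← hx0, pow_add, map_mul]
      ring
    have hz : ∀ z : A, algebraMap A C z = 0 → algebraMap A (Localization.Away f) z * e = 0 := by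
      intro z hz
      have h1 : algebraMap (Localization.Away f) M (algebraMap A _ z) = algebraMap (Localization.Away f) M 0 := by
        rw [hcompat, hz, map_zero, map_zero]
      obtain ⟨⟨_, n, rfl⟩, hn⟩ := (IsLocalization.eq_iff_exists (Submonoid.powers e) M).1 h1
      simp only [mul_zero] at hn
      rcases n with _ | n
      · rw [pow_zero, one_mul] at hn; rw [hn, zero_mul]
      · rw [he.pow_succ_eq n] at hn; rw [mul_comm]; exact hn
    refine ⟨r + k0, f ^ r * x0, hs, fun z hzC => ?_, fun z hzC => ?_⟩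
    · have h : algebraMap A (Localization.Away f) ((f ^ (r + k0) - f ^ r * x0) * z) = 0 := by
        rw [map_mul, map_sub, hxL, mul_sub, mul_one, sub_sub_cancel, mul_assoc, mul_comm e, hz z hzC, mul_zero]
      obtain ⟨⟨_, n, rfl⟩, hn⟩ := (IsLocalization.map_eq_zero_iff S _ _).1 h
      exact ⟨n, hn⟩
    · have h : algebraMap A (Localization.Away f) (f ^ (r + k0) * z) =
          algebraMap A (Localization.Away f) (z * (f ^ r * x0)) := by
        rw [map_mul, map_mul _ z, hxL]
        linear_combination (algebraMap A (Localization.Away f) (f ^ (r + k0))) * hz z hzC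
      obtain ⟨⟨_, n, rfl⟩, hn⟩ := (IsLocalization.eq_iff_exists S _).1 h
      exact ⟨n + (r + k0), f ^ n * z, by rw [pow_add, mul_assoc, hn, mul_assoc]⟩

end Groth.Agent.S9303Aux


namespace Groth.Agent.S9303

/-- Let A be a ring, I a finitely generated ideal and A → C a ring map such that for every f ∈ I the map
A_f → C_f is the localization of A_f at an idempotent. Then there is a surjection A → C' (C' = A/K
for an ideal K) such that A_f → (C × C')_f is an isomorphism for every f ∈ I. -/
theorem result (A : Type u) [CommRing A]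
    (I : Ideal A) (hI : I.FG) (C : Type u) [CommRing C] [Algebra A C]
    (h : ∀ f ∈ I, ∃ e : Localization.Away f, IsIdempotentElem e ∧
      IsLocalization.Away e (Localization (Algebra.algebraMapSubmonoid C (Submonoid.powers f)))) :
    ∃ K : Ideal A, ∀ f ∈ I, Function.Bijective
      (algebraMap (Localization.Away f)
        (Localization (Algebra.algebraMapSubmonoid (C × (A ⧸ K)) (Submonoid.powers f)))) := by
  classical
  obtain ⟨G, hG⟩ := hI
  have hd := fun f hf => Groth.Agent.S9303Aux.data (C := C) f _ (h f hf).choose_spec.1 (h f hf).choose_spec.2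
  let K : Ideal A :=
    { carrier := {a | ∀ x : A, algebraMap A C x = 0 → ∀ g ∈ I, ∃ n, g ^ n * (a * x) = 0}
      add_mem' := by
        intro a b ha hb x hx g hg
        obtain ⟨n, hn⟩ := ha x hx g hg
        obtain ⟨m, hm⟩ := hb x hx g hg
        refine ⟨n + m, ?_⟩
        rw [add_mul, mul_add, pow_add, mul_assoc, mul_left_comm (g ^ n), hn, mul_zero, zero_add,
          mul_assoc, hm, mul_zero]
      zero_mem' := fun x _ g _ => ⟨0, by simp⟩
      smul_mem' := by
        intro c a ha x hx g hg
        obtain ⟨n, hn⟩ := ha x hx g hg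
        exact ⟨n, by rw [smul_eq_mul, mul_assoc, mul_left_comm, hn, mul_zero]⟩ }
  refine ⟨K, fun f hf => ?_⟩
  obtain ⟨hsurjC, k, x, hx, hkill, hgen⟩ := hd f hf
  -- an element of `K` congruent to a power of `f` modulo `ker (A → C)`
  obtain ⟨m, y, hy, hyK⟩ : ∃ (m : ℕ) (y : A), algebraMap A C y = algebraMap A C (f ^ m) ∧ y ∈ K := by
    have hG' : ∀ g : G, (g : A) ∈ I := fun g => hG ▸ Submodule.subset_span g.2
    choose kg xg hxg _ hgg using fun g : G => (hd g (hG' g)).2
    choose n hn using fun g : G => hkill (xg g) (hxg g)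
    obtain ⟨N, hN⟩ := Finite.exists_le n
    refine ⟨N + k, f ^ N * (f ^ k - x), ?_, fun z hz g hg => ?_⟩
    · rw [map_mul, map_sub, hx, sub_zero, pow_add, map_mul]
    · let Ann : Ideal A :=
        { carrier := {r | r * (f ^ N * (f ^ k - x) * z) = 0}
          add_mem' := fun {a b} (ha : a * _ = 0) (hb : b * _ = 0) => show (a + b) * _ = 0 by
            rw [add_mul, ha, hb, add_zero]
          zero_mem' := show (0 : A) * _ = 0 from zero_mul _
          smul_mem' := fun c a (ha : a * _ = 0) => show (c • a) * _ = 0 by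
            rw [smul_eq_mul, mul_assoc, ha, mul_zero] }
      have hle : I ≤ Ann.radical := by
        rw [← hG, Ideal.span_le]
        intro a ha
        obtain ⟨p, b, hp⟩ := hgg ⟨a, ha⟩ z hz
        refine ⟨p, ?_⟩
        show a ^ p * (f ^ N * (f ^ k - x) * z) = 0
        rw [mul_left_comm, hp, mul_left_comm, mul_assoc,
          show f ^ N = f ^ (N - n ⟨a, ha⟩) * f ^ n ⟨a, ha⟩ by
            rw [← pow_add, Nat.sub_add_cancel (hN _)], mul_assoc, hn, mul_zero, mul_zero]
      exact hle hg
  have hint : ∀ a, algebraMap A C a = 0 → a ∈ K → ∃ n, f ^ n * a = 0 := by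
    intro a ha haK
    obtain ⟨n, b, hn⟩ := hgen a ha
    obtain ⟨p, hp⟩ := haK x hx f hf
    obtain ⟨q, hq⟩ := haK a ha f hf
    obtain ⟨r, hr⟩ := hkill a ha
    refine ⟨p + r + k, ?_⟩
    have e : f ^ (p + r + k) * a = f ^ p * (f ^ r * ((f ^ k - x) * a)) + f ^ r * (f ^ p * (a * x)) := by ring
    rw [e, hr, hp, mul_zero, mul_zero, add_zero]
  let P := C × (A ⧸ K)
  let S := Submonoid.powers f
  let M := Localization (Algebra.algebraMapSubmonoid P S)
  have hcompat : ∀ a : A, algebraMap (Localization.Away f) M (algebraMap A _ a) = algebraMap P M (algebraMap A P a) :=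
    fun a => by rw [← IsScalarTower.algebraMap_apply A (Localization.Away f) M, IsScalarTower.algebraMap_apply A P M]
  have hfu : ∀ n : ℕ, IsUnit (algebraMap A (Localization.Away f) (f ^ n)) := fun n =>
    IsLocalization.map_units (Localization.Away f) (⟨f ^ n, n, rfl⟩ : S)
  constructor
  · rw [injective_iff_map_eq_zero]
    intro z hz
    obtain ⟨⟨a, s⟩, hs⟩ := IsLocalization.surj S z
    have h0 : algebraMap P M (algebraMap A P a) = algebraMap P M 0 := by
      rw [← hcompat, ← hs, map_mul, hz, zero_mul, map_zero]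
    obtain ⟨⟨_, _, ⟨n, rfl⟩, rfl⟩, hn⟩ := (IsLocalization.eq_iff_exists (Algebra.algebraMapSubmonoid P S) M).1 h0
    simp only [mul_zero, ← map_mul] at hn
    obtain ⟨q, hq⟩ := hint (f ^ n * a) (congrArg Prod.fst hn)
      (Ideal.Quotient.eq_zero_iff_mem.1 (congrArg Prod.snd hn))
    have ha0 : algebraMap A (Localization.Away f) a = 0 := by
      rw [← (hfu (q + n)).mul_right_eq_zero, ← map_mul, pow_add, mul_assoc, hq, map_zero]
    rw [← hs] at ha0
    exact (IsLocalization.map_units (Localization.Away f) s).mul_left_eq_zero.1 ha0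
  · intro z
    obtain ⟨⟨⟨c, b'⟩, ⟨_, _, ⟨l, rfl⟩, rfl⟩⟩, hl⟩ := IsLocalization.surj (Algebra.algebraMapSubmonoid P S) z
    obtain ⟨b, rfl⟩ := Ideal.Quotient.mk_surjective b'
    obtain ⟨n, a, ha⟩ := hsurjC c
    have key : algebraMap A P (a * y + f ^ n * b * (f ^ m - y)) =
        algebraMap A P (f ^ (n + m)) * (c, Ideal.Quotient.mk K b) := by
      refine Prod.ext ?_ ?_
      · show algebraMap A C (a * y + f ^ n * b * (f ^ m - y)) = algebraMap A C (f ^ (n + m)) * c
        rw [map_add, map_mul, map_mul _ _ (f ^ m - y), map_sub, hy, sub_self, mul_zero, add_zero,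
          ← ha, pow_add, map_mul]
        ring
      · show Ideal.Quotient.mk K (a * y + f ^ n * b * (f ^ m - y)) =
          Ideal.Quotient.mk K (f ^ (n + m)) * Ideal.Quotient.mk K b
        rw [← map_mul, Ideal.Quotient.eq]
        have : a * y + f ^ n * b * (f ^ m - y) - f ^ (n + m) * b = (a - f ^ n * b) * y := by ring
        rw [this]
        exact K.mul_mem_left _ hyK
    obtain ⟨u, hu⟩ := hfu (n + m + l)
    refine ⟨algebraMap A _ (a * y + f ^ n * b * (f ^ m - y)) * ↑u⁻¹, ?_⟩
    have hu' : IsUnit (algebraMap (Localization.Away f) M (u : Localization.Away f)) := u.isUnit.map _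
    rw [← hu'.mul_left_inj, ← map_mul, mul_assoc, Units.inv_mul, mul_one, hu, hcompat, key, map_mul, ← hl,
      hcompat, pow_add f (n + m) l, map_mul, map_mul]
    ring

end Groth.Agent.S9303
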