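import Groth.Statements.S9308
import Groth.Agent.GeomRegH.Basic
import Groth.Agent.GeomRegH.Colim
import Groth.Agent.CAlgResExt.DirectLimit
import Mathlib
-- import your own Groth.Agent.* helpers here

set_option autoImplicit false
universe u
open CAlg

open TensorProduct

namespace Groth.Agent.S9308Aux

section
variable {R : Type u} [CommRing R] {ι : Type u} [Preorder ι] [IsDirectedOrder ι] [Nonempty ι]
  {G : ι → Type u} [∀ i, AddCommGroup (G i)] [∀ i, Module R (G i)]
  (f : ∀ i j, i ≤ j → (G i →ₗ[R] G j)) [DirectedSystem G (fun i j h => f i j h)]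

theorem exists_stage_tensor (K : Type u) [AddCommGroup K] [Module R K] (i : ι) (z : K ⊗[R] G i)
    (hz : (DirectLimit.Module.of R ι G f i).lTensor K z = 0) :
    ∃ j, ∃ h : i ≤ j, (f i j h).lTensor K z = 0 := by
  classical
  let e := Module.DirectLimit.linearEquiv G f
  have hcomp : (DirectLimit.Module.of R ι G f i) = e.toLinearMap.comp (Module.DirectLimit.of R ι G f i) :=
    LinearMap.ext fun x => by simp [e]
  rw [hcomp, LinearMap.lTensor_comp_apply] at hz
  have hz' : (Module.DirectLimit.of R ι G f i).lTensor K z = 0 :=
    (LinearEquiv.lTensor K e).injective (by rw [map_zero]; exact hz)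
  have h : ∀ w : K ⊗[R] G i, TensorProduct.directLimitRight f K ((Module.DirectLimit.of R ι G f i).lTensor K w)
      = Module.DirectLimit.of R ι _ _ i w := fun w => by
    induction w using TensorProduct.induction_on with
    | zero => simp
    | tmul k g => simp
    | add a b ha hb => simp only [map_add, ha, hb]
  have h2 := h z
  rw [hz', map_zero] at h2
  obtain ⟨j, hij, hj⟩ := Module.DirectLimit.of.zero_exact h2.symm
  exact ⟨j, hij, hj⟩

end

end Groth.Agent.S9308Aux


namespace Groth.Agent.S9308

/-- Let R be a ring and (A_i, φ_ii') a directed system of smooth R-algebras with colimit Λ (the index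
type is taken in the universe of the rings). Suppose that for every prime p of R the ring Λ ⊗_R κ(p)
is Noetherian. Then R → Λ is a regular ring map. -/
theorem result (R : Type u) [CommRing R] {ι : Type u} [Preorder ι]
    [IsDirectedOrder ι] [Nonempty ι] (G : ι → Type u) [∀ i, CommRing (G i)] [∀ i, Algebra R (G i)]
    (f : ∀ i j : ι, i ≤ j → (G i →ₐ[R] G j)) [DirectedSystem G (fun i j h => f i j h)]
    (hs : ∀ i, Algebra.Smooth R (G i))
    (hN : ∀ (p : Ideal R) [p.IsPrime], IsNoetherianRing (p.Fiber (DirectLimit G f))) :
    CAlg.IsRegularHom R (DirectLimit G f) := by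
  classical
  let ψ0 : ∀ i, G i →ₐ[R] DirectLimit G f := fun i => DirectLimit.Algebra.of G f i
  have hψ0 : ∀ i j (h : i ≤ j) (x : G i), ψ0 j (f i j h x) = ψ0 i x := fun i j h x =>
    DirectLimit.Algebra.of_f h x
  have hsurj0 : ∀ z : DirectLimit G f, ∃ i x, ψ0 i x = z := fun z => by
    obtain ⟨i, x, rfl⟩ := DirectLimit.exists_eq_mk _ z
    exact ⟨i, x, rfl⟩
  refine ⟨?_, fun p _ => ⟨hN p, fun K _ _ hK => ?_⟩⟩
  · refine Groth.Agent.CAlgResExt.flat_of_flat_pieces fun l r x hx => ?_
    choose st rep hrep using hsurj0
    obtain ⟨i, hi⟩ := Finite.exists_le fun m => st (x m)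
    let x' : Fin l → G i := fun m => f _ _ (hi m) (rep (x m))
    have hx' : ∀ m, ψ0 i (x' m) = x m := fun m => by rw [hψ0, hrep]
    have h0 : ψ0 i (∑ m, r m • x' m) = ψ0 i 0 := by simp [map_sum, map_smul, hx', hx]
    obtain ⟨j, h1, h2, h3⟩ := Quotient.exact h0
    refine ⟨G j, inferInstance, inferInstance, ?_, (ψ0 j).toLinearMap, fun m => f i j h1 (x' m),
      fun m => (hψ0 i j h1 _).trans (hx' m), ?_⟩
    · have := hs j; infer_instance
    · simpa [map_sum, map_smul] using h3
  · have := hN p
    letI : Algebra R K := ((algebraMap p.ResidueField K).comp (algebraMap R p.ResidueField)).toAlgebra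
    have : IsScalarTower R p.ResidueField K := IsScalarTower.of_algebraMap_eq' rfl
    let e2 : K ⊗[R] DirectLimit G f ≃+* K ⊗[p.ResidueField] p.Fiber (DirectLimit G f) :=
      (Algebra.TensorProduct.cancelBaseChange R p.ResidueField p.ResidueField K _).symm.toRingEquiv
    suffices IsRegularRing (K ⊗[R] DirectLimit G f) from IsRegularRing.of_ringEquiv e2
    have : IsNoetherianRing (K ⊗[R] DirectLimit G f) := by
      have : IsNoetherianRing (p.Fiber (DirectLimit G f) ⊗[p.ResidueField] K) :=
        Algebra.FiniteType.isNoetherianRing (p.Fiber (DirectLimit G f)) (p.Fiber (DirectLimit G f) ⊗[p.ResidueField] K)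
      exact isNoetherianRing_of_ringEquiv _
        ((Algebra.TensorProduct.comm p.ResidueField (p.Fiber (DirectLimit G f)) K).toRingEquiv.trans e2.symm)
    have : ∀ i, IsRegularRing (K ⊗[R] G i) := fun i => by
      have := hs i
      exact Groth.Agent.GeomRegH.isRegularRing_of_smooth K _
    refine Groth.Agent.GeomRegH.isRegularRing_of_colim _ (fun i => K ⊗[R] G i)
      (fun i j h => (Algebra.TensorProduct.map (AlgHom.id R K) (f i j h)).toRingHom)
      (fun i => (Algebra.TensorProduct.map (AlgHom.id R K) (ψ0 i)).toRingHom) ?_ ?_ ?_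
    · intro i j h z
      induction z using TensorProduct.induction_on with
      | zero => simp only [map_zero]
      | tmul k g => simp [hψ0 i j h g]
      | add a b ha hb => simp only [map_add, ha, hb]
    · intro t
      induction t using TensorProduct.induction_on with
      | zero => exact ⟨Classical.arbitrary ι, 0, map_zero _⟩
      | tmul k z =>
        obtain ⟨i, x, rfl⟩ := hsurj0 z
        exact ⟨i, k ⊗ₜ x, by simp⟩
      | add a b ha hb =>
        obtain ⟨i, za, rfl⟩ := ha
        obtain ⟨j, zb, rfl⟩ := hb
        obtain ⟨m, him, hjm⟩ := exists_ge_ge i j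
        refine ⟨m, Algebra.TensorProduct.map (AlgHom.id R K) (f i m him) za +
          Algebra.TensorProduct.map (AlgHom.id R K) (f j m hjm) zb, ?_⟩
        have hc : ∀ a b (h : a ≤ b) (z : K ⊗[R] G a),
            Algebra.TensorProduct.map (AlgHom.id R K) (ψ0 b) (Algebra.TensorProduct.map (AlgHom.id R K) (f a b h) z)
              = Algebra.TensorProduct.map (AlgHom.id R K) (ψ0 a) z := by
          intro a b h z
          induction z using TensorProduct.induction_on with
          | zero => simp only [map_zero]
          | tmul k g => simp [hψ0 a b h g]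
          | add x y hx hy => simp only [map_add, hx, hy]
        show Algebra.TensorProduct.map (AlgHom.id R K) (ψ0 m) _ = _
        rw [map_add, hc, hc]; rfl
    · intro i z hz
      have : DirectedSystem G (fun i j h => (f i j h).toLinearMap) :=
        ⟨fun i x => DirectedSystem.map_self' (fun i j h => f i j h) x,
          fun k j i hij hjk x => DirectedSystem.map_map' (fun i j h => f i j h) hij hjk x⟩
      exact Groth.Agent.S9308Aux.exists_stage_tensor (fun i j h => (f i j h).toLinearMap) K i z hz

end Groth.Agent.S9308
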