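import Groth.Statements.S9310
import Groth.Agent.MvPSLib.Eval
-- import your own Groth.Agent.* helpers here

set_option autoImplicit false
universe u
open CAlg

namespace Groth.Agent.S9310

/-- Let K be a field, A = K[[x_1, ..., x_n]], and y_1, ..., y_n ∈ A a regular system of parameters (n
elements generating the maximal ideal). Then the substitution map K[[y_1, ..., y_n]] → A is an
isomorphism: f ↦ f(y_1, ..., y_n) is a bijection of K[[x_1, ..., x_n]] onto itself. -/
theorem result (K : Type u) [Field K] (n : ℕ)
    (y : Fin n → MvPowerSeries (Fin n) K)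
    (hy : Ideal.span (Set.range y) = IsLocalRing.maximalIdeal (MvPowerSeries (Fin n) K)) :
    Function.Bijective (MvPowerSeries.subst y : MvPowerSeries (Fin n) K → MvPowerSeries (Fin n) K) := by
  have hy0 : ∀ i, MvPowerSeries.constantCoeff (y i) = 0 := fun i => by
    have : y i ∈ IsLocalRing.maximalIdeal (MvPowerSeries (Fin n) K) := hy ▸ Ideal.subset_span ⟨i, rfl⟩
    rwa [MvPSLib.maximalIdeal_eq] at this
  have hs := MvPowerSeries.hasSubst_of_constantCoeff_zero hy0
  rw [← MvPowerSeries.coe_substAlgHom hs]
  refine MvPSLib.bijective_of_span (MvPowerSeries.substAlgHom hs) ?_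
  rw [MvPSLib.map_augIdeal, ← MvPSLib.maximalIdeal_eq, ← hy]
  simp only [MvPowerSeries.substAlgHom_X]

end Groth.Agent.S9310
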