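import Groth.Statements.S9311
import Groth.Agent.MvPSLib.Eval
import Groth.Agent.CAlgCohen.Structure
-- import your own Groth.Agent.* helpers here

set_option autoImplicit false
universe u
open CAlg

namespace Groth.Agent.S9311

/-- Let Λ be a Cohen ring (a complete discrete valuation ring whose maximal ideal is generated by a
prime number p), B = Λ[[x_1, ..., x_n]], and y_1, ..., y_n ∈ B with zero constant terms such that p,
y_1, ..., y_n is a regular system of parameters of B (these n + 1 elements generate the maximal
ideal). Then the substitution map Λ[[y_1, ..., y_n]] → B is an isomorphism: f ↦ f(y_1, ..., y_n) is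
a bijection of Λ[[x_1, ..., x_n]] onto itself. (The published statement allows the y_i to have
constant terms in pΛ, the substitution being defined through the (p, x)-adic topology of B; this row
asks the constant terms to vanish, the case in which substitution is defined coefficientwise with no
topology on Λ.) -/
theorem result (Λ : Type u) [CommRing Λ] [IsDomain Λ]
    [IsDiscreteValuationRing Λ] [IsAdicComplete (IsLocalRing.maximalIdeal Λ) Λ] (p : ℕ) (hp : p.Prime)
    (hm : IsLocalRing.maximalIdeal Λ = Ideal.span {(p : Λ)}) (n : ℕ)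
    (y : Fin n → MvPowerSeries (Fin n) Λ) (hy0 : ∀ i, MvPowerSeries.constantCoeff (y i) = 0)
    (hy : Ideal.span (insert (p : MvPowerSeries (Fin n) Λ) (Set.range y)) =
      IsLocalRing.maximalIdeal (MvPowerSeries (Fin n) Λ)) :
    Function.Bijective (MvPowerSeries.subst y : MvPowerSeries (Fin n) Λ → MvPowerSeries (Fin n) Λ) := by
  classical
  let φ := MvPowerSeries.substAlgHom (MvPowerSeries.hasSubst_of_constantCoeff_zero hy0) (R := Λ)
  suffices h : (Groth.Agent.FSAdic.augIdeal Λ n).map φ = Groth.Agent.FSAdic.augIdeal Λ n by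
    have := Groth.Agent.MvPSLib.bijective_of_span φ h
    rwa [MvPowerSeries.coe_substAlgHom] at this
  rw [Groth.Agent.MvPSLib.map_augIdeal]
  simp only [φ, MvPowerSeries.substAlgHom_X]
  let J : Ideal (MvPowerSeries (Fin n) Λ) := Ideal.span (Set.range y)
  have hle : J ≤ Groth.Agent.FSAdic.augIdeal Λ n := Ideal.span_le.2 (by
    rintro _ ⟨i, rfl⟩; exact hy0 i)
  refine le_antisymm hle ?_
  refine Submodule.le_of_le_smul_of_le_jacobson_bot
    (I := Ideal.span {(p : MvPowerSeries (Fin n) Λ)}) ?_ ?_ ?_
  · rw [Groth.Agent.FSAdic.augIdeal_eq_span]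
    exact Submodule.fg_span (Set.finite_range _)
  · refine le_trans ?_ (IsLocalRing.maximalIdeal_le_jacobson _)
    rw [← hy]
    exact Ideal.span_mono (Set.singleton_subset_iff.2 (Set.mem_insert _ _))
  · intro x hx
    have hxm : x ∈ Ideal.span (insert (p : MvPowerSeries (Fin n) Λ) (Set.range y)) := by
      rw [hy, Groth.Agent.CAlgCohen.maximalIdeal_mvPowerSeries]
      exact Submodule.mem_sup_right hx
    obtain ⟨a, z, hz, rfl⟩ := Ideal.mem_span_insert.1 hxm
    refine Submodule.mem_sup.2 ⟨z, hz, a * (p : MvPowerSeries (Fin n) Λ), ?_, add_comm _ _⟩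
    rw [mul_comm]
    refine Submodule.smul_mem_smul (Ideal.mem_span_singleton_self _) ?_
    have h1 : MvPowerSeries.constantCoeff (a * (p : MvPowerSeries (Fin n) Λ) + z) = 0 := hx
    have hz0 : MvPowerSeries.constantCoeff z = 0 := hle hz
    rw [map_add, map_mul, map_natCast, hz0, add_zero, mul_eq_zero] at h1
    have hp0 : (p : Λ) ≠ 0 := fun h => IsDiscreteValuationRing.not_a_field Λ
      (hm.trans (Ideal.span_singleton_eq_bot.2 h))
    exact h1.resolve_right hp0

end Groth.Agent.S9311
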