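import Groth.Statements.S9312
import Mathlib

set_option autoImplicit false
universe u
open CAlg

namespace Groth.Agent.S9312
open scoped TensorProduct


theorem core {B B0 : Type u} [CommRing B] [CommRing B0] (ι : B0 →+* B) {G : Type u} [Group G] [Fintype G]
    (S : G → B →+* B) (hS : ∀ σ τ x, S σ (S τ x) = S (σ * τ) x) (hSι : ∀ σ x, S σ (ι x) = ι x)
    (hfix : ∀ z, (∀ σ, S σ z = z) → z ∈ Set.range ι)
    (J : Ideal B0) (f : B0) (hfJ : ι f ∈ J.map ι) (i : ℕ) (hi : i < Fintype.card G) :
    ∃ q ∈ J, ι q = ((Polynomial.X - Polynomial.C (ι f)) ^ Fintype.card G).coeff i := by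
  classical
  rw [Ideal.map, Ideal.span, Finsupp.mem_span_image_iff_linearCombination] at hfJ
  obtain ⟨c, hc, hce⟩ := hfJ
  let W : Polynomial (MvPolynomial ↥c.support B) :=
    ∏ σ : G, (Polynomial.X - Polynomial.C (∑ j : ↥c.support, MvPolynomial.C (S σ (c j.1)) * MvPolynomial.X j))
  let ev : MvPolynomial ↥c.support B →+* B := MvPolynomial.eval₂Hom (RingHom.id _) (fun j => ι j.1)
  have hev : W.map ev = (Polynomial.X - Polynomial.C (ι f)) ^ Fintype.card G := by
    simp only [W, Polynomial.map_prod, Polynomial.map_sub, Polynomial.map_X, Polynomial.map_C]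
    rw [Finset.prod_eq_pow_card (b := Polynomial.X - Polynomial.C (ι f)) (fun σ _ => ?_), Finset.card_univ]
    congr 2
    rw [← hSι σ f, ← hce, Finsupp.linearCombination_apply, Finsupp.sum, map_sum, map_sum, ← Finset.sum_coe_sort c.support]
    refine Finset.sum_congr rfl fun j _ => ?_
    rw [smul_eq_mul, map_mul (S σ), hSι, map_mul]
    simp [ev]
  have hWinv : ∀ τ, W.map (MvPolynomial.map (S τ)) = W := fun τ => by
    simp only [W, Polynomial.map_prod, Polynomial.map_sub, Polynomial.map_X, Polynomial.map_C, Polynomial.map_sum, Polynomial.map_mul, map_sum, map_mul,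
      MvPolynomial.map_C, MvPolynomial.map_X, hS]
    exact Fintype.prod_equiv (Equiv.mulLeft τ) _ _ fun σ => rfl
  have hW0 : MvPolynomial.constantCoeff (W.coeff i) = 0 := by
    rw [← Polynomial.coeff_map]
    simp [W, Polynomial.map_prod, Polynomial.map_sum, Polynomial.coeff_X_pow, Nat.ne_of_lt hi]
  choose r hr using fun d => hfix (MvPolynomial.coeff d (W.coeff i)) (fun σ => by
    rw [← MvPolynomial.coeff_map, ← Polynomial.coeff_map, hWinv])
  refine ⟨∑ d ∈ (W.coeff i).support, r d * ∏ j ∈ d.support, j.1 ^ d j, Ideal.sum_mem _ fun d hd => ?_, ?_⟩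
  · obtain ⟨j, hj⟩ : d.support.Nonempty := by
      rw [Finsupp.support_nonempty_iff]
      exact fun h0 => MvPolynomial.mem_support_iff.1 hd (by rw [h0]; exact hW0)
    exact Ideal.mul_mem_left _ _ (J.mem_of_dvd (Finset.dvd_prod_of_mem _ hj) (Ideal.pow_mem_of_mem _ (hc j.2) _ (Nat.pos_of_ne_zero (Finsupp.mem_support_iff.1 hj))))
  · rw [← hev, Polynomial.coeff_map, map_sum]
    show _ = MvPolynomial.eval₂ (RingHom.id _) (fun j : ↥c.support => ι j.1) (W.coeff i)
    rw [MvPolynomial.eval₂_eq]
    exact Finset.sum_congr rfl fun d _ => by rw [map_mul, map_prod, hr]; simp only [map_pow, RingHom.id_apply]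

/-- Let a finite group G with n elements act on a ring R by ring automorphisms, with invariant ring R^G,
and let A be an algebra over R^G; G acts on A ⊗ R through the factor R. (1) For every G-invariant b
∈ A ⊗ R there is a monic polynomial over A whose image in (A ⊗ R)[T] is (T - b)^n. (2) For every a
in the kernel of A → A ⊗ R, all coefficients of (T - a)^n below degree n vanish, that is (T - a)^n =
T^n in A[T]. -/
theorem result (R G A : Type u) [CommRing R] [Group G] [Fintype G]
    [MulSemiringAction G R] [CommRing A] [Algebra (FixedPoints.subring R G) A] :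
    (∀ b : TensorProduct (FixedPoints.subring R G) A R,
      (∀ σ : G, Algebra.TensorProduct.map (AlgHom.id (FixedPoints.subring R G) A)
        (MulSemiringAction.toAlgHom (FixedPoints.subring R G) R σ) b = b) →
      ∃ P : Polynomial A, P.Monic ∧
        Polynomial.map (algebraMap A (TensorProduct (FixedPoints.subring R G) A R)) P =
          (Polynomial.X - Polynomial.C b) ^ Fintype.card G) ∧
    (∀ a : A, algebraMap A (TensorProduct (FixedPoints.subring R G) A R) a = 0 →
      ∀ i : ℕ, i < Fintype.card G → ((Polynomial.X - Polynomial.C a) ^ Fintype.card G).coeff i = 0) := by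
  classical
  let R0 := FixedPoints.subring R G
  let S := fun σ : G => MvPolynomial.map (σ := A) (MulSemiringAction.toRingHom G R σ)
  let ι : MvPolynomial A R0 →+* MvPolynomial A R := MvPolynomial.map R0.subtype
  have hιinj : Function.Injective ι := MvPolynomial.map_injective _ Subtype.val_injective
  let π₀ : MvPolynomial A R0 →ₐ[R0] A := MvPolynomial.aeval id
  have hπ₀ : Function.Surjective π₀ := fun a => ⟨MvPolynomial.X a, by simp [π₀]⟩
  let πR : MvPolynomial A R →+* A ⊗[R0] R :=
    MvPolynomial.eval₂Hom (Algebra.TensorProduct.includeRight : R →ₐ[R0] A ⊗[R0] R).toRingHom (fun a => a ⊗ₜ 1)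
  have hcompat : πR.comp ι = (algebraMap A (A ⊗[R0] R)).comp π₀.toRingHom := by
    refine MvPolynomial.ringHom_ext (fun r => ?_) (fun a => ?_)
    · simp [πR, ι, π₀]
      rw [Algebra.algebraMap_eq_smul_one, TensorProduct.smul_tmul]
      congr 1
      exact (mul_one _).symm
    · simp [πR, ι, π₀]
  have hfix : ∀ z : MvPolynomial A R, (∀ σ, S σ z = z) → z ∈ Set.range ι := by
    intro z hz
    refine ⟨∑ d ∈ z.support, MvPolynomial.monomial d (⟨MvPolynomial.coeff d z, fun σ => ?_⟩ : R0), ?_⟩
    · conv_rhs => rw [← hz σ, MvPolynomial.coeff_map]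
      rfl
    · rw [map_sum]
      conv_rhs => rw [z.as_sum]
      exact Finset.sum_congr rfl fun d _ => MvPolynomial.map_monomial _ _ _
  let Q : MvPolynomial A R → Polynomial (MvPolynomial A R) := fun f => ∏ σ : G, (Polynomial.X - Polynomial.C (S σ f))
  have hS : ∀ σ τ f, S σ (S τ f) = S (σ * τ) f := fun σ τ f => by
    show MvPolynomial.map _ (MvPolynomial.map _ f) = MvPolynomial.map _ f
    rw [MvPolynomial.map_map]
    congr 2
    exact RingHom.ext fun r => (mul_smul σ τ r).symm
  have hQmon : ∀ f, (Q f).Monic := fun f => Polynomial.monic_prod_of_monic _ _ fun σ _ => Polynomial.monic_X_sub_C _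
  have hQinv : ∀ f τ, (Q f).map (S τ) = Q f := fun f τ => by
    simp only [Q, Polynomial.map_prod, Polynomial.map_sub, Polynomial.map_X, Polynomial.map_C, hS]
    exact Fintype.prod_equiv (Equiv.mulLeft τ) _ _ fun σ => rfl
  have hSι : ∀ σ f, S σ (ι f) = ι f := fun σ f => by
    show MvPolynomial.map _ (MvPolynomial.map _ f) = MvPolynomial.map _ f
    rw [MvPolynomial.map_map]
    congr 2
    exact RingHom.ext fun r => r.2 σ
  have hπRsurj : Function.Surjective πR := by
    intro t
    induction t using TensorProduct.induction_on with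
    | zero => exact ⟨0, map_zero _⟩
    | tmul a r => exact ⟨MvPolynomial.C r * MvPolynomial.X a, by simp [πR]⟩
    | add x y hx hy => obtain ⟨p, rfl⟩ := hx; obtain ⟨q, rfl⟩ := hy; exact ⟨p + q, map_add _ _ _⟩
  refine ⟨fun b hb => ?_, fun a ha i hi => ?_⟩
  · obtain ⟨f, rfl⟩ := hπRsurj b
    have hl : Q f ∈ Polynomial.lifts ι := by
      rw [Polynomial.lifts_iff_coeff_lifts]
      exact fun i => hfix _ fun σ => by rw [← Polynomial.coeff_map, hQinv]
    obtain ⟨P₀, hP₀, -, hP₀m⟩ := Polynomial.lifts_and_natDegree_eq_and_monic hl (hQmon f)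
    refine ⟨P₀.map π₀.toRingHom, hP₀m.map _, ?_⟩
    rw [Polynomial.map_map, ← hcompat, ← Polynomial.map_map, hP₀]
    have heq : ∀ σ f, πR (S σ f) = Algebra.TensorProduct.map (AlgHom.id R0 A) (MulSemiringAction.toAlgHom R0 R σ) (πR f) := by
      intro σ f
      refine RingHom.congr_fun (?_ : πR.comp (S σ) = (Algebra.TensorProduct.map (AlgHom.id R0 A) (MulSemiringAction.toAlgHom R0 R σ)).toRingHom.comp πR) f
      refine MvPolynomial.ringHom_ext (fun r => ?_) (fun a => ?_)
      · simp [πR, S]
      · simp [πR, S]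
    simp only [Q, Polynomial.map_prod, Polynomial.map_sub, Polynomial.map_X, Polynomial.map_C, heq]
    rw [Finset.prod_congr rfl fun σ _ => by rw [hb σ], Finset.prod_const, Finset.card_univ]
  · set J := RingHom.ker π₀.toRingHom with hJ
    let θ₁ : (MvPolynomial A R0 ⧸ J) →ₐ[R0] MvPolynomial A R ⧸ J.map ι :=
      (Ideal.Quotient.liftₐ J ((Ideal.Quotient.mkₐ R0 (J.map ι)).comp
        { ι with commutes' := fun r => by simp [ι, MvPolynomial.algebraMap_eq]; rfl })
        (fun z hz => Ideal.Quotient.eq_zero_iff_mem.2 (Ideal.mem_map_of_mem _ hz)))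
    let θA : A →ₐ[R0] MvPolynomial A R ⧸ J.map ι := θ₁.comp (Ideal.quotientKerAlgEquivOfSurjective hπ₀).symm.toAlgHom
    let θ : A ⊗[R0] R →ₐ[R0] MvPolynomial A R ⧸ J.map ι :=
      Algebra.TensorProduct.lift θA ((Ideal.Quotient.mkₐ R0 (J.map ι)).comp (IsScalarTower.toAlgHom R0 R (MvPolynomial A R)))
        (fun _ _ => Commute.all _ _)
    have hθA : ∀ z, θA (π₀ z) = Ideal.Quotient.mk _ (ι z) := fun z => by
      have e : (Ideal.quotientKerAlgEquivOfSurjective hπ₀).symm (π₀ z) = Ideal.Quotient.mk _ z :=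
        (AlgEquiv.symm_apply_eq _).2 rfl
      show θ₁ ((Ideal.quotientKerAlgEquivOfSurjective hπ₀).symm (π₀ z)) = _
      exact (congrArg _ e).trans rfl
    obtain ⟨f, rfl⟩ := hπ₀ a
    have hfJ : ι f ∈ J.map ι := by
      rw [← Ideal.Quotient.eq_zero_iff_mem, ← hθA]
      have : θ ((π₀ f) ⊗ₜ 1) = θA (π₀ f) := by simp [θ]
      rw [← this, show (π₀ f) ⊗ₜ[R0] (1 : R) = 0 from ha, map_zero]
    obtain ⟨q, hq, hqe⟩ := core ι S hS hSι hfix J f hfJ i hi
    rw [← Polynomial.map_C, ← Polynomial.map_X ι, ← Polynomial.map_sub, ← Polynomial.map_pow, Polynomial.coeff_map] at hqe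
    have h2 : π₀.toRingHom q = 0 := hq
    rw [hιinj hqe, ← Polynomial.coeff_map] at h2
    simpa using h2


end Groth.Agent.S9312
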