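import Groth.Statements.S9313
import Mathlib
-- import your own Groth.Agent.* helpers here

set_option autoImplicit false
universe u
open CAlg

namespace Groth.Agent.S9313

lemma away_bijective {R B : Type u} [CommRing R] [CommRing B] [Algebra R B]
    (hinj : Function.Injective (algebraMap R B)) (h : R)
    (hK : ∀ x : B, ∃ n : ℕ, algebraMap R B h ^ n * x ∈ Set.range (algebraMap R B)) :
    Function.Bijective (algebraMap (Localization.Away h)
      (Localization (Algebra.algebraMapSubmonoid B (Submonoid.powers h)))) := by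
  let M := Localization (Algebra.algebraMapSubmonoid B (Submonoid.powers h))
  have hcompat : ∀ a : R, algebraMap (Localization.Away h) M (algebraMap R _ a) = algebraMap B M (algebraMap R B a) :=
    fun a => by
      rw [← IsScalarTower.algebraMap_apply R (Localization.Away h) M, IsScalarTower.algebraMap_apply R B M]
  constructor
  · rw [injective_iff_map_eq_zero]
    intro z hz
    obtain ⟨⟨a, s⟩, hs⟩ := IsLocalization.surj (Submonoid.powers h) z
    have h0 : algebraMap B M (algebraMap R B a) = 0 := by rw [← hcompat, ← hs, map_mul, hz, zero_mul]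
    obtain ⟨⟨_, _, ⟨i, rfl⟩, rfl⟩, hi⟩ := (IsLocalization.map_eq_zero_iff (Algebra.algebraMapSubmonoid B (Submonoid.powers h)) M _).1 h0
    have ha : algebraMap R (Localization.Away h) a = 0 :=
      (IsLocalization.map_eq_zero_iff (Submonoid.powers h) _ _).2 ⟨⟨_, i, rfl⟩, hinj ((map_mul _ _ _).trans (hi.trans (map_zero _).symm))⟩
    rw [← hs] at ha
    exact (IsLocalization.map_units (Localization.Away h) s).mul_left_eq_zero.1 ha
  · intro z
    obtain ⟨⟨b, ⟨_, _, ⟨l, rfl⟩, rfl⟩⟩, hl⟩ := IsLocalization.surj (Algebra.algebraMapSubmonoid B (Submonoid.powers h)) z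
    obtain ⟨i, b', hi⟩ := hK b
    obtain ⟨u, hu⟩ : IsUnit (algebraMap R (Localization.Away h) (h ^ (i + l))) :=
      IsLocalization.map_units (Localization.Away h) (⟨_, i + l, rfl⟩ : Submonoid.powers h)
    refine ⟨algebraMap R _ b' * ↑u⁻¹, ?_⟩
    have hu' : IsUnit (algebraMap (Localization.Away h) M (u : Localization.Away h)) := u.isUnit.map _
    rw [← hu'.mul_left_inj, ← map_mul, mul_assoc, Units.inv_mul, mul_one, hu, hcompat, hcompat]
    dsimp only at hl
    simp only [map_pow] at hl
    simp only [hi, map_mul, map_pow]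
    rw [← hl]
    ring

end Groth.Agent.S9313

namespace Groth.Agent.S9313

/-- Let A be a ring with an ideal I and A → B a ring map of finite type, and suppose B/IB = C_1 × C_2
(given by an idempotent e of B/IB with C_1 = (B/IB)/(1 - e)) where C_1 is finite over A/I. Writing
B' for the integral closure of A in B, some g ∈ B' has idempotent image in B'/IB' lifting e (so
B'/IB' = C_1' × C_2' compatibly with the decomposition of B/IB), and the map B'_g → B_g is an
isomorphism (whence C_1' = C_1). -/
theorem result (A B : Type u) [CommRing A] [CommRing B]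
    [Algebra A B] [Algebra.FiniteType A B] (I : Ideal A) (e : B ⧸ Ideal.map (algebraMap A B) I)
    (he : IsIdempotentElem e)
    (hfin : Module.Finite (A ⧸ I) ((B ⧸ Ideal.map (algebraMap A B) I) ⧸ Ideal.span {1 - e})) :
    ∃ g : integralClosure A B,
      IsIdempotentElem (Ideal.Quotient.mk (Ideal.map (algebraMap A (integralClosure A B)) I) g) ∧
      Ideal.Quotient.mk (Ideal.map (algebraMap A B) I) (g : B) = e ∧
      Function.Bijective (algebraMap (Localization.Away g)
        (Localization (Algebra.algebraMapSubmonoid B (Submonoid.powers g)))) := by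
  classical
  let B' := integralClosure A B
  let IB := Ideal.map (algebraMap A B) I
  let IB' : Ideal B' := Ideal.map (algebraMap A B') I
  obtain ⟨b0, hb0⟩ := Ideal.Quotient.mk_surjective e
  let π : B →+* (B ⧸ IB) ⧸ Ideal.span {1 - e} := (Ideal.Quotient.mk _).comp (Ideal.Quotient.mk IB)
  let J : Ideal B := RingHom.ker π
  have hπ : Function.Surjective π := Ideal.Quotient.mk_surjective.comp Ideal.Quotient.mk_surjective
  have hJI : IB ≤ J := fun x hx => by
    show Ideal.Quotient.mk _ (Ideal.Quotient.mk IB x) = 0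
    rw [Ideal.Quotient.eq_zero_iff_mem.2 hx, map_zero]
  have hJb : 1 - b0 ∈ J := by
    show Ideal.Quotient.mk _ (Ideal.Quotient.mk IB (1 - b0)) = 0
    rw [map_sub, map_one, hb0]
    exact Ideal.Quotient.eq_zero_iff_mem.2 (Ideal.mem_span_singleton_self _)
  have hJchar : ∀ x ∈ J, Ideal.Quotient.mk IB (x * b0) = 0 := fun x hx => by
    obtain ⟨t, ht⟩ := Ideal.mem_span_singleton'.1 (Ideal.Quotient.eq_zero_iff_mem.1 hx)
    rw [map_mul, hb0, ← ht, mul_assoc, sub_mul, one_mul, he.eq, sub_self, mul_zero]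
  -- `B / J` is integral over `A`
  have hint : ∀ x : B, IsIntegral A (Ideal.Quotient.mk J x) := by
    have : Module.Finite A ((B ⧸ IB) ⧸ Ideal.span {1 - e}) := Module.Finite.trans (A ⧸ I) _
    intro x
    let ε : (B ⧸ J) →ₐ[A] ((B ⧸ IB) ⧸ Ideal.span {1 - e}) :=
      Ideal.Quotient.liftₐ J ((Ideal.Quotient.mkₐ A _).comp (Ideal.Quotient.mkₐ A IB)) fun a ha => ha
    exact (isIntegral_algHom_iff ε (RingHom.lift_injective_of_ker_le_ideal J _ le_rfl)).1 (Algebra.IsIntegral.isIntegral _)
  have : Algebra.IsIntegral A (B ⧸ J) := ⟨fun x => by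
    obtain ⟨y, rfl⟩ := Ideal.Quotient.mk_surjective x; exact hint y⟩
  -- the radical ideal of good denominators
  let K : Ideal B' :=
    { carrier := {g | ∀ x : B, ∃ n : ℕ, (g : B) ^ n * x ∈ B'}
      zero_mem' := fun x => ⟨1, by simp⟩
      add_mem' := by
        intro a b ha hb x
        obtain ⟨n, hn⟩ := ha x
        obtain ⟨m, hm⟩ := hb x
        refine ⟨n + m, ?_⟩
        rw [AddMemClass.coe_add, add_pow, Finset.sum_mul]
        refine sum_mem fun i hi => ?_
        by_cases h : n ≤ i
        · rw [show (a : B) ^ i * (b : B) ^ (n + m - i) * ((n + m).choose i : B) * x =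
            ((a : B) ^ (i - n) * (b : B) ^ (n + m - i) * ((n + m).choose i : B)) * ((a : B) ^ n * x) by
              rw [← pow_sub_mul_pow (a : B) h]; ring]
          exact mul_mem (mul_mem (mul_mem (pow_mem a.2 _) (pow_mem b.2 _)) (natCast_mem _ _)) hn
        · rw [show (a : B) ^ i * (b : B) ^ (n + m - i) * ((n + m).choose i : B) * x =
            ((a : B) ^ i * (b : B) ^ (n + m - i - m) * ((n + m).choose i : B)) * ((b : B) ^ m * x) by
              rw [← pow_sub_mul_pow (b : B) (show m ≤ n + m - i by omega)]; ring]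
          exact mul_mem (mul_mem (mul_mem (pow_mem a.2 _) (pow_mem b.2 _)) (natCast_mem _ _)) hm
      smul_mem' := by
        intro c a ha x
        obtain ⟨n, hn⟩ := ha x
        refine ⟨n, ?_⟩
        rw [smul_eq_mul, MulMemClass.coe_mul, mul_pow, mul_assoc]
        exact mul_mem (pow_mem c.2 _) hn }
  -- some element of `K` is `1` modulo `J`
  have key : ∀ q : Ideal B, q.IsPrime → J ≤ q → ∃ g ∈ K, (g : B) ∉ q := by
    intro q hq hJq
    have hqf : Algebra.QuasiFiniteAt A q := by
      refine Algebra.QuasiFiniteAt.of_isOpen_singleton_fiber ⟨q, hq⟩ ?_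
      set p := PrimeSpectrum.comap (algebraMap A B) ⟨q, hq⟩
      let V : Set (PrimeSpectrum.comap (algebraMap A B) ⁻¹' {p}) := {z | J ≤ z.1.asIdeal}
      have hV : V = {z | b0 ∉ z.1.asIdeal} := by
        ext z
        refine ⟨fun h hb => z.1.isPrime.ne_top ((Ideal.eq_top_iff_one _).2 ?_), fun hb x hx => ?_⟩
        · simpa using add_mem (h hJb) hb
        · have hIz : IB ≤ z.1.asIdeal := Ideal.map_le_iff_le_comap.2 (by
            rw [show z.1.asIdeal.comap (algebraMap A B) = q.comap (algebraMap A B) from congrArg PrimeSpectrum.asIdeal z.2]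
            exact Ideal.map_le_iff_le_comap.1 (hJI.trans hJq))
          exact (z.1.isPrime.mem_or_mem (hIz (Ideal.Quotient.eq_zero_iff_mem.1 (hJchar x hx)))).resolve_right hb
      have hVopen : IsOpen V := by
        rw [hV]
        exact (PrimeSpectrum.basicOpen b0).2.preimage continuous_subtype_val
      have hle : ∀ z w : V, z.1.1.asIdeal ≤ w.1.1.asIdeal → z = w := fun z w h => by
        have h1 : (z.1.1.asIdeal.map (Ideal.Quotient.mk J)).comap (Ideal.Quotient.mk J) = z.1.1.asIdeal := by
          rw [Ideal.comap_map_of_surjective _ Ideal.Quotient.mk_surjective, ← RingHom.ker_eq_comap_bot, Ideal.mk_ker]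
          exact sup_eq_left.2 z.2
        have h2 : (w.1.1.asIdeal.map (Ideal.Quotient.mk J)).comap (Ideal.Quotient.mk J) = w.1.1.asIdeal := by
          rw [Ideal.comap_map_of_surjective _ Ideal.Quotient.mk_surjective, ← RingHom.ker_eq_comap_bot, Ideal.mk_ker]
          exact sup_eq_left.2 w.2
        have := Ideal.map_isPrime_of_surjective (f := Ideal.Quotient.mk J) Ideal.Quotient.mk_surjective
          (I := z.1.1.asIdeal) (by rw [Ideal.mk_ker]; exact z.2)
        refine Subtype.ext (Subtype.ext (PrimeSpectrum.ext (eq_of_le_of_not_lt h fun hlt => ?_)))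
        have hlt' : z.1.1.asIdeal.map (Ideal.Quotient.mk J) < w.1.1.asIdeal.map (Ideal.Quotient.mk J) :=
          lt_of_le_of_ne (Ideal.map_mono h) fun e => hlt.ne (by rw [← h1, ← h2, e])
        have := (Ideal.IsIntegral.comap_lt_comap (R := A) hlt').ne
        apply this
        rw [show (algebraMap A (B ⧸ J)) = (Ideal.Quotient.mk J).comp (algebraMap A B) from rfl,
          ← Ideal.comap_comap, ← Ideal.comap_comap, h1, h2]
        exact congrArg PrimeSpectrum.asIdeal (z.1.2.trans w.1.2.symm)
      have hfin : V.Finite := by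
        have : Module.Finite A ((B ⧸ IB) ⧸ Ideal.span {1 - e}) := Module.Finite.trans (A ⧸ I) _
        refine Set.Finite.of_finite_image (f := fun z => z.1) ?_ Subtype.val_injective.injOn
        refine ((Algebra.QuasiFinite.finite_comap_preimage_singleton
          (R := A) (S := (B ⧸ IB) ⧸ Ideal.span {1 - e}) p).image (PrimeSpectrum.comap π)).subset ?_
        rintro _ ⟨z, hz, rfl⟩
        obtain ⟨y, hy⟩ : z.1 ∈ Set.range (PrimeSpectrum.comap π) := by
          rw [range_comap_of_surjective _ _ hπ]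
          exact hz
        refine ⟨y, ?_, hy⟩
        show PrimeSpectrum.comap (algebraMap A _) y = p
        rw [show algebraMap A ((B ⧸ IB) ⧸ Ideal.span {1 - e}) = π.comp (algebraMap A B) from rfl,
          PrimeSpectrum.comap_comp_apply, hy]
        exact z.2
      have hsing : ({⟨⟨q, hq⟩, rfl⟩} : Set (PrimeSpectrum.comap (algebraMap A B) ⁻¹' {p})) =
          V \ closure (V \ {⟨⟨q, hq⟩, rfl⟩}) := by
        ext z
        constructor
        · rintro rfl
          refine ⟨hJq, fun hcl => ?_⟩
          rw [← Set.biUnion_of_singleton (V \ _), Set.Finite.closure_biUnion (hfin.subset Set.diff_subset)] at hcl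
          obtain ⟨w, hw, hwcl⟩ := Set.mem_iUnion₂.1 hcl
          have hsp : w.1 ⤳ (⟨q, hq⟩ : PrimeSpectrum B) :=
            (specializes_iff_mem_closure.2 hwcl).map continuous_subtype_val
          exact hw.2 (congrArg Subtype.val (hle ⟨w, hw.1⟩ ⟨⟨⟨q, hq⟩, rfl⟩, hJq⟩ ((PrimeSpectrum.le_iff_specializes _ _).2 hsp)))
        · rintro ⟨hz, hn⟩
          by_contra hne
          exact hn (subset_closure ⟨hz, hne⟩)
      show IsOpen ({⟨⟨q, hq⟩, rfl⟩} : Set (PrimeSpectrum.comap (algebraMap A B) ⁻¹' {p}))
      rw [hsing]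
      exact hVopen.sdiff isClosed_closure
    obtain ⟨r, hr, hri, hrm⟩ := Algebra.zariskisMainProperty_iff.1 (Algebra.ZariskisMainProperty.of_finiteType (R := A) q)
    exact ⟨⟨r, hri⟩, fun x => hrm x, hr⟩
  let φ : B' →+* B ⧸ J := (Ideal.Quotient.mk J).comp B'.val.toRingHom
  obtain ⟨g, hgK, hgJ⟩ : ∃ g ∈ K, φ g = 1 := by
    have htop : K ⊔ RingHom.ker φ = ⊤ := by
      by_contra hne
      obtain ⟨P, hP, hPle⟩ := Ideal.exists_le_maximal _ hne
      have hφi : φ.IsIntegral := RingHom.IsIntegral.tower_top (algebraMap A B') φ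
        (fun x => (inferInstance : Algebra.IsIntegral A (B ⧸ J)).isIntegral x)
      letI := φ.toAlgebra
      haveI : Algebra.IsIntegral B' (B ⧸ J) := ⟨hφi⟩
      obtain ⟨Q, -, hQ, hQc⟩ := Ideal.exists_ideal_over_prime_of_isIntegral (R := B') (S := B ⧸ J) P ⊥
        (by rw [← RingHom.ker_eq_comap_bot]; exact le_sup_right.trans hPle)
      obtain ⟨g, hg, hgq⟩ := key (Q.comap (Ideal.Quotient.mk J)) inferInstance (fun x hx => by
        show Ideal.Quotient.mk J x ∈ Q
        rw [Ideal.Quotient.eq_zero_iff_mem.2 hx]; exact zero_mem _)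
      exact hgq (show φ g ∈ Q from (hQc ▸ hPle (Ideal.mem_sup_left hg) : g ∈ Q.comap φ))
    obtain ⟨g, hg, k, hk, hgk⟩ := Submodule.mem_sup.1 ((Ideal.eq_top_iff_one _).1 htop)
    exact ⟨g, hg, by rw [← map_one φ, ← hgk, map_add, RingHom.mem_ker.1 hk, add_zero]⟩
  -- membership in `IB'` after multiplication by a power of `g`
  have hIB' : ∀ (z : B') (_ : (z : B) ∈ IB), ∃ m, g ^ m * z ∈ IB' := by
    have : ∀ y ∈ IB, ∃ (m : ℕ) (w : B'), w ∈ IB' ∧ (g : B) ^ m * y = w := by
      intro y hy
      induction hy using Submodule.span_induction with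
      | mem y hy =>
        obtain ⟨i, hi, rfl⟩ := hy
        exact ⟨0, algebraMap A B' i, Ideal.mem_map_of_mem _ hi, by simp⟩
      | zero => exact ⟨0, 0, zero_mem _, by simp⟩
      | add y y' _ _ ih ih' =>
        obtain ⟨m, w, hw, h⟩ := ih
        obtain ⟨m', w', hw', h'⟩ := ih'
        refine ⟨m + m', g ^ m' * w + g ^ m * w', add_mem (Ideal.mul_mem_left _ _ hw) (Ideal.mul_mem_left _ _ hw'), ?_⟩
        push_cast
        rw [← h, ← h']; ring
      | smul c y _ ih =>
        obtain ⟨m, w, hw, h⟩ := ih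
        obtain ⟨n, hn⟩ := hgK c
        refine ⟨n + m, ⟨_, hn⟩ * w, Ideal.mul_mem_left _ _ hw, ?_⟩
        push_cast
        rw [← h, smul_eq_mul]; ring
    intro z hz
    obtain ⟨m, w, hw, h⟩ := this _ hz
    refine ⟨m, ?_⟩
    convert hw using 1
    exact Subtype.ext (by push_cast; exact h)
  have hge : Ideal.Quotient.mk IB (g : B) * e = e := by
    have h1 : Ideal.Quotient.mk J ((g : B) - 1) = 0 := by rw [map_sub, map_one]; exact sub_eq_zero.2 hgJ
    have h2 := hJchar _ (Ideal.Quotient.eq_zero_iff_mem.1 h1)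
    rw [map_mul, hb0, map_sub, map_one, sub_mul, one_mul, sub_eq_zero] at h2
    exact h2
  have hgen : ∀ n, Ideal.Quotient.mk IB ((g : B) ^ n * b0) = e := fun n => by
    induction n with
    | zero => rw [pow_zero, one_mul, hb0]
    | succ n ih => rw [pow_succ', mul_assoc, map_mul, ih, hge]
  obtain ⟨n, hn⟩ := hgK b0
  let c : B' := ⟨_, hn⟩
  have hc : Ideal.Quotient.mk IB (c : B) = e := hgen n
  let x : B' := c * g
  have hx : Ideal.Quotient.mk IB (x : B) = e := by
    show Ideal.Quotient.mk IB ((c : B) * g) = e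
    rw [map_mul, hc, mul_comm, hge]
  obtain ⟨m, hm⟩ := hIB' ((1 - x) * c) (by
    rw [← Ideal.Quotient.eq_zero_iff_mem]
    push_cast
    rw [map_mul, map_sub, map_one, hx, hc, sub_mul, one_mul, he.eq, sub_self])
  let k := m + 1
  have hkill : (1 - x) * x ^ k ∈ IB' := by
    rw [show (1 - x) * x ^ k = (c ^ m * g) * (g ^ m * ((1 - x) * c)) by simp only [x, k]; ring]
    exact Ideal.mul_mem_left _ _ hm
  have hpow : ∀ j, x ^ k - x ^ (k + j) ∈ IB' := fun j => by
    induction j with
    | zero => simp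
    | succ j ih =>
      rw [show x ^ k - x ^ (k + (j + 1)) = (x ^ k - x ^ (k + j)) + x ^ j * ((1 - x) * x ^ k) by ring]
      exact add_mem ih (Ideal.mul_mem_left _ _ hkill)
  refine ⟨x ^ k, ?_, ?_, ?_⟩
  · rw [IsIdempotentElem, ← map_mul, ← pow_add, eq_comm, Ideal.Quotient.eq]
    exact hpow k
  · rw [SubmonoidClass.coe_pow, map_pow, hx, he.pow_succ_eq]
  · have hK : x ^ k ∈ K := Ideal.pow_mem_of_mem _ (Ideal.mul_mem_left _ _ hgK) k (Nat.succ_pos m)
    exact Groth.Agent.S9313.away_bijective Subtype.val_injective _ fun y =>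
      (hK y).imp fun n hn => ⟨⟨_, hn⟩, rfl⟩

end Groth.Agent.S9313
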