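import Groth.Statements.S9317
import Groth.Agent.FSAdic.Transfer
import Groth.Agent.FSAdic.Basic
-- import your own Groth.Agent.* helpers here

set_option autoImplicit false
universe u
open CAlg

namespace Groth.Agent.S9317

/-- Let `R → S` be a ring map, let `𝔪 ⊆ R` and `𝔫 ⊆ S` be finitely generated ideals such that some power
of `𝔪` maps into `𝔫`, and let `R^`, `S^` be the `𝔪`-adic and `𝔫`-adic completions. Let `ψ : R^ → S^`
be a ring map whose composite with `R → R^` is the composite `R → S → S^` (there is exactly one such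
map, the canonical one, since any such map is continuous for the adic topologies). Then `R → S` is
formally smooth for the `𝔫`-adic topology if and only if `R^ → S^`, i.e. `S^` viewed as an
`R^`-algebra through `ψ`, is formally smooth for the adic topology of the extension of `𝔫` to `S^`. -/
theorem result {R S : Type u} [CommRing R] [CommRing S]
    [Algebra R S] (𝔪 : Ideal R) (𝔫 : Ideal S) (h𝔪 : 𝔪.FG) (h𝔫 : 𝔫.FG)
    (hc : ∃ c : ℕ, (𝔪 ^ c).map (algebraMap R S) ≤ 𝔫)
    (ψ : AdicCompletion 𝔪 R →+* AdicCompletion 𝔫 S)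
    (hψ : ψ.comp (algebraMap R (AdicCompletion 𝔪 R)) =
      (algebraMap S (AdicCompletion 𝔫 S)).comp (algebraMap R S)) :
    CAlgX.IsAdicFormallySmooth R S 𝔫 ↔
      letI : Algebra (AdicCompletion 𝔪 R) (AdicCompletion 𝔫 S) := ψ.toAlgebra
      CAlgX.IsAdicFormallySmooth (AdicCompletion 𝔪 R) (AdicCompletion 𝔫 S)
        (𝔫.map (algebraMap S (AdicCompletion 𝔫 S))) := by
  let Rh := AdicCompletion 𝔪 R
  let Sh := AdicCompletion 𝔫 S
  let 𝔫' := 𝔫.map (algebraMap S Sh)
  let _ : Algebra Rh Sh := ψ.toAlgebra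
  obtain ⟨c, hc⟩ := hc
  have htower : IsScalarTower R Rh Sh := IsScalarTower.of_algebraMap_eq fun r => by
    change _ = ψ _
    rw [← RingHom.comp_apply ψ, hψ, RingHom.comp_apply, ← IsScalarTower.algebraMap_apply R S Sh]
  have hcl : ∀ n : ℕ, ((𝔪 ^ (c * n)).map (algebraMap R S)).map (algebraMap S Sh) ≤ 𝔫' ^ n := by
    intro n
    rw [pow_mul, Ideal.map_pow, Ideal.map_pow]
    exact Ideal.pow_right_mono (Ideal.map_mono hc) n
  have hsurj : ∀ (n : ℕ) (y : Sh), ∃ x : S, y - algebraMap S Sh x ∈ 𝔫' ^ n := by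
    intro n y
    obtain ⟨x, hx⟩ := Ideal.Quotient.mk_surjective (AdicCompletion.evalₐ 𝔫 n y)
    refine ⟨x, ?_⟩
    rw [← Groth.Agent.FSAdic.ker_evalₐ 𝔫 h𝔫, RingHom.mem_ker]
    change AdicCompletion.evalₐ 𝔫 n (y - algebraMap S Sh x) = 0
    rw [map_sub, AlgHom.commutes, ← hx, Ideal.Quotient.algebraMap_eq, sub_self]
  have hkerS : ∀ (n : ℕ) (x : S), algebraMap S Sh x ∈ 𝔫' ^ n ↔ x ∈ 𝔫 ^ n := by
    intro n x
    rw [← Groth.Agent.FSAdic.ker_evalₐ 𝔫 h𝔫, RingHom.mem_ker]
    change AdicCompletion.evalₐ 𝔫 n (algebraMap S Sh x) = 0 ↔ _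
    rw [AlgHom.commutes, Ideal.Quotient.algebraMap_eq, Ideal.Quotient.eq_zero_iff_mem]
  have hsurjR : ∀ (n : ℕ) (y : Rh), ∃ x : R, y - algebraMap R Rh x ∈
      (𝔪 ^ n).map (algebraMap R Rh) := by
    intro n y
    obtain ⟨x, hx⟩ := Ideal.Quotient.mk_surjective (AdicCompletion.evalₐ 𝔪 n y)
    refine ⟨x, ?_⟩
    rw [Ideal.map_pow, ← Groth.Agent.FSAdic.ker_evalₐ 𝔪 h𝔪, RingHom.mem_ker]
    change AdicCompletion.evalₐ 𝔪 n (y - algebraMap R Rh x) = 0
    rw [map_sub, AlgHom.commutes, ← hx, Ideal.Quotient.algebraMap_eq, sub_self]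
  constructor
  · intro h A _ _ J hJ u hu
    obtain ⟨k, hk⟩ := hu
    let _ : Algebra R A := ((algebraMap Rh A).comp (algebraMap R Rh)).toAlgebra
    have : IsScalarTower R Rh A := IsScalarTower.of_algebraMap_eq fun _ => rfl
    obtain ⟨χ, hχ⟩ := h A J hJ ((u.restrictScalars R).comp (IsScalarTower.toAlgHom R S Sh))
      ⟨k, fun x hx => hk _ (by rw [← Ideal.map_pow]; exact Ideal.mem_map_of_mem _ hx)⟩
    have hχk : ∀ x ∈ 𝔫 ^ (k * 2), χ x = 0 := Groth.Agent.FSAdic.vanish_of_maps_into hJ χ.toRingHom 𝔫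
      (fun x hx => Ideal.Quotient.eq_zero_iff_mem.1 (by
        change Ideal.Quotient.mk J (χ x) = 0
        rw [← Ideal.Quotient.mkₐ_eq_mk R, show (Ideal.Quotient.mkₐ R J) (χ x) =
          (u.restrictScalars R) (algebraMap S Sh x) from DFunLike.congr_fun hχ x]
        exact hk _ (by rw [← Ideal.map_pow]; exact Ideal.mem_map_of_mem _ hx)))
    obtain ⟨w, hw, hwk⟩ := Groth.Agent.FSAdic.exists_factor (IsScalarTower.toAlgHom R S Sh) 𝔫 𝔫'
      (k * 2) (hsurj _) (hkerS _) χ hχk
    let N := c * (k * 2)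
    have hR1 : ∀ z ∈ (𝔪 ^ N).map (algebraMap R Rh), w (ψ z) = 0 := fun z hz => by
      refine hwk _ (hcl _ ?_)
      rw [Ideal.map_map, ← hψ, ← Ideal.map_map]
      exact Ideal.mem_map_of_mem ψ hz
    have hR2 : ∀ z ∈ (𝔪 ^ N).map (algebraMap R Rh), algebraMap Rh A z = 0 := fun z hz => by
      have : (𝔪 ^ N).map (algebraMap R Rh) ≤ RingHom.ker (algebraMap Rh A) :=
        Ideal.map_le_iff_le_comap.2 fun r hr => by
          rw [Ideal.mem_comap, RingHom.mem_ker, ← IsScalarTower.algebraMap_apply R Rh A, ← w.commutes,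
            IsScalarTower.algebraMap_apply R Rh Sh]
          exact hR1 _ (Ideal.mem_map_of_mem _ hr)
      exact this hz
    have hcomm : ∀ z : Rh, w (ψ z) = algebraMap Rh A z := fun z => by
      obtain ⟨r, hr⟩ := hsurjR N z
      have h1 := hR1 _ hr
      have h2 := hR2 _ hr
      rw [map_sub, map_sub, sub_eq_zero] at h1
      rw [map_sub, sub_eq_zero] at h2
      rw [h1, h2, ← IsScalarTower.algebraMap_apply R Rh A, ← w.commutes r,
        IsScalarTower.algebraMap_apply R Rh Sh]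
      rfl
    refine ⟨{ w with commutes' := hcomm }, AlgHom.ext fun y => ?_⟩
    obtain ⟨x, hx⟩ := hsurj (k * 2) y
    change Ideal.Quotient.mk J (w y) = u y
    have h1 := hwk _ hx
    rw [map_sub, sub_eq_zero] at h1
    have h2 := hk _ (Ideal.pow_le_pow_right (show k ≤ k * 2 by omega) hx)
    rw [map_sub, sub_eq_zero] at h2
    rw [h1, h2]
    exact (congrArg (Ideal.Quotient.mk J) (DFunLike.congr_fun hw x)).trans (DFunLike.congr_fun hχ x)
  · intro h A _ _ J hJ u hu
    obtain ⟨k, hk⟩ := hu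
    obtain ⟨w, hw, hwk⟩ := Groth.Agent.FSAdic.exists_factor (IsScalarTower.toAlgHom R S Sh) 𝔫 𝔫'
      k (hsurj _) (hkerS _) u hk
    let K := (k * c) * 2
    have hJ' : (J : Ideal A) ^ 2 = ⊥ := hJ
    have hvan : ∀ r ∈ 𝔪 ^ K, algebraMap R A r = 0 := by
      intro r hr
      refine Groth.Agent.FSAdic.vanish_of_maps_into hJ' (algebraMap R A) 𝔪 (fun r hr => ?_) r hr
      rw [← Ideal.Quotient.eq_zero_iff_mem, ← Ideal.Quotient.algebraMap_eq,
        ← IsScalarTower.algebraMap_apply R A (A ⧸ J), ← u.commutes]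
      refine hk _ (((Ideal.map_pow (algebraMap R S) _ k).le.trans (Ideal.pow_right_mono hc k)) ?_)
      rw [← pow_mul, mul_comm c k]
      exact Ideal.mem_map_of_mem _ hr
    let f : Rh →+* A := (Ideal.Quotient.lift (𝔪 ^ K) (algebraMap R A) hvan).comp
      (AdicCompletion.evalₐ 𝔪 K).toRingHom
    let _ : Algebra Rh A := f.toAlgebra
    have : IsScalarTower R Rh A := IsScalarTower.of_algebraMap_eq fun r => by
      change _ = f _
      simp [f]
    have hcomm : ∀ z : Rh, w (ψ z) = algebraMap Rh (A ⧸ J) z := fun z => by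
      obtain ⟨r, hr⟩ := hsurjR (max K (c * k)) z
      have h1 : w (ψ (z - algebraMap R Rh r)) = 0 := by
        refine hwk _ (hcl _ ?_)
        rw [Ideal.map_map, ← hψ, ← Ideal.map_map]
        exact Ideal.mem_map_of_mem ψ (Ideal.map_mono (Ideal.pow_le_pow_right (le_max_right _ _)) hr)
      have h2 : algebraMap Rh A (z - algebraMap R Rh r) = 0 := by
        have : (𝔪 ^ K).map (algebraMap R Rh) ≤ RingHom.ker (algebraMap Rh A) :=
          Ideal.map_le_iff_le_comap.2 fun r hr => by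
            rw [Ideal.mem_comap, RingHom.mem_ker, ← IsScalarTower.algebraMap_apply R Rh A]
            exact hvan r hr
        exact this (Ideal.map_mono (Ideal.pow_le_pow_right (le_max_left _ _)) hr)
      rw [map_sub, map_sub, sub_eq_zero] at h1
      rw [map_sub, sub_eq_zero] at h2
      rw [h1, IsScalarTower.algebraMap_apply Rh A (A ⧸ J), h2,
        ← IsScalarTower.algebraMap_apply R Rh A, ← IsScalarTower.algebraMap_apply R A (A ⧸ J),
        ← w.commutes r, IsScalarTower.algebraMap_apply R Rh Sh]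
      rfl
    obtain ⟨χ, hχ⟩ := h A J hJ { w with commutes' := hcomm } ⟨k, hwk⟩
    refine ⟨(χ.restrictScalars R).comp (IsScalarTower.toAlgHom R S Sh), AlgHom.ext fun x => ?_⟩
    exact (DFunLike.congr_fun hχ (algebraMap S Sh x)).trans (DFunLike.congr_fun hw x)

end Groth.Agent.S9317
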