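import Groth.Statements.S9319
import Mathlib
import Groth.Agent.PBasis.Separable
-- import your own Groth.Agent.* helpers here

set_option autoImplicit false
universe u
open CAlg

namespace Groth.Agent.S9319

open TensorProduct

theorem perfectField_bot (K : Type u) [Field K] : PerfectField (⊥ : Subfield K) := by
  obtain _ | ⟨p, hp, hk⟩ := CharP.exists' K
  · haveI : CharZero (⊥ : Subfield K) := ⟨fun a b h => Nat.cast_injective (R := K) (by
      simpa using congrArg Subtype.val h)⟩
    infer_instance
  · haveI := hk
    letI := Subfield.fintypeBot K p
    infer_instance

theorem subsingleton_h1_bot (K L : Type u) [Field K] [Field L] [Algebra K L] :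
    Subsingleton (Algebra.H1Cotangent (⊥ : Subfield K) L) := by
  haveI := perfectField_bot K
  haveI : Algebra.FormallySmooth (⊥ : Subfield K) L :=
    Groth.Agent.PBasis.formallySmooth_iff_isGeometricallyReduced.2 (by
      rw [Algebra.isGeometricallyReduced_field_iff]
      exact Groth.Agent.GeomRed.isReduced_baseChange_algebraic L (AlgebraicClosure (⊥ : Subfield K)))
  infer_instance

variable {P K L M : Type u} [CommRing P] [CommRing K] [CommRing L] [CommRing M] [Algebra P K]
  [Algebra P L] [Algebra P M] [Algebra K L] [Algebra L M] [Algebra K M] [IsScalarTower K L M]
  [IsScalarTower P K L] [IsScalarTower P K M] [IsScalarTower P L M]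

set_option backward.isDefEq.respectTransparency.types true in
open Algebra Generators in
theorem δ_map_base (x : Algebra.H1Cotangent K L) :
    Algebra.H1Cotangent.δ P K M (Algebra.H1Cotangent.map K K L M x) =
      (IsScalarTower.toAlgHom K L M).toLinearMap.rTensor _ (Algebra.H1Cotangent.δ P K L x) := by
  obtain ⟨x, hx⟩ := x
  obtain ⟨⟨y, hy⟩, rfl⟩ := Extension.Cotangent.mk_surjective x
  unfold Algebra.H1Cotangent.δ
  change Generators.H1Cotangent.δ _ _ ⟨_, _⟩ = _
  simp only [LinearMap.domRestrict_apply, Extension.Cotangent.map_mk,
    Generators.H1Cotangent.δ_eq_δAux]
  have key : ∀ q : (Generators.self K L).Ring,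
      Generators.H1Cotangent.δAux P (Generators.self K M)
        ((Generators.defaultHom (Generators.self K L) (Generators.self K M)).toAlgHom q) =
      (IsScalarTower.toAlgHom K L M).toLinearMap.rTensor _
        (Generators.H1Cotangent.δAux P (Generators.self K L) q) := by
    intro q
    induction q using MvPolynomial.induction_on with
    | C a =>
      rw [Generators.Hom.toAlgHom_C, Generators.H1Cotangent.δAux_C,
        Generators.H1Cotangent.δAux_C, LinearMap.rTensor_tmul, AlgHom.toLinearMap_apply, map_one]
      simp
    | add p q hp hq => simp only [map_add, hp, hq]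
    | mul_X p i hp =>
      rw [map_mul, Generators.H1Cotangent.δAux_mul, Generators.H1Cotangent.δAux_mul,
        Generators.H1Cotangent.δAux_X, smul_zero, zero_add, hp, Generators.Hom.toAlgHom_X]
      have hv : (Generators.defaultHom (Generators.self K L) (Generators.self K M)).val i =
          MvPolynomial.X (algebraMap L M i) := rfl
      rw [hv, Generators.H1Cotangent.δAux_X, smul_zero, zero_add]
      generalize Generators.H1Cotangent.δAux P (Generators.self K L) p = z
      induction z using TensorProduct.induction_on with
      | zero => simp
      | add a b ha hb => simp only [map_add, smul_add, ha, hb]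
      | tmul l w =>
        simp only [LinearMap.rTensor_tmul, AlgHom.toLinearMap_apply, IsScalarTower.coe_toAlgHom',
          smul_tmul']
        congr 1
        rw [Algebra.smul_def, Algebra.smul_def, Generators.algebraMap_apply,
          Generators.algebraMap_apply, MvPolynomial.aeval_X, MvPolynomial.aeval_X]
        simp [Generators.self]
  exact (Generators.H1Cotangent.δ_eq_δAux (Generators.self K M) (Generators.self P K) _ _).trans
    ((key y).trans (congrArg _
      (Generators.H1Cotangent.δ_eq_δAux (Generators.self K L) (Generators.self P K) ⟨y, hy⟩ hx).symm))

theorem aux {K L M : Type u} [Field K] [Field L] [Field M] [Algebra K L] [Algebra L M] [Algebra K M]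
    [IsScalarTower K L M] :
    Function.Injective ((Algebra.H1Cotangent.map K K L M).liftBaseChange M) := by
  let P := (⊥ : Subfield K)
  haveI : IsScalarTower P L M := IsScalarTower.of_algebraMap_eq fun x =>
    IsScalarTower.algebraMap_apply K L M (algebraMap P K x)
  haveI : Subsingleton (Algebra.H1Cotangent P L) := by
    haveI := perfectField_bot K
    haveI : Algebra.FormallySmooth P L :=
      Groth.Agent.PBasis.formallySmooth_iff_isGeometricallyReduced.2 (by
        rw [Algebra.isGeometricallyReduced_field_iff]
        exact Groth.Agent.GeomRed.isReduced_baseChange_algebraic L (AlgebraicClosure P))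
    infer_instance
  have hδ : Function.Injective (Algebra.H1Cotangent.δ P K L) := by
    rw [injective_iff_map_eq_zero]
    intro z hz
    obtain ⟨w, rfl⟩ := (Algebra.H1Cotangent.exact_map_δ P K L z).1 hz
    rw [Subsingleton.elim w 0, map_zero]
  let c := AlgebraTensorModule.cancelBaseChange K L M M (KaehlerDifferential P K)
  have h : ∀ z, Algebra.H1Cotangent.δ P K M ((Algebra.H1Cotangent.map K K L M).liftBaseChange M z) =
      c ((Algebra.H1Cotangent.δ P K L).lTensor M z) := by
    intro z
    induction z using TensorProduct.induction_on with
    | zero => simp
    | add a b ha hb => simp only [map_add, ha, hb]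
    | tmul m x =>
      rw [LinearMap.liftBaseChange_tmul, map_smul, δ_map_base, LinearMap.lTensor_tmul]
      generalize Algebra.H1Cotangent.δ P K L x = w
      induction w using TensorProduct.induction_on with
      | zero => simp
      | add a b ha hb => simp only [map_add, smul_add, tmul_add, ha, hb]
      | tmul l u =>
        simp [c, smul_tmul', Algebra.smul_def, mul_comm]
  intro a b hab
  have h1 := congrArg (Algebra.H1Cotangent.δ P K M) hab
  rw [h, h] at h1
  exact Module.Flat.lTensor_preserves_injective_linearMap _ hδ (c.injective h1)

end Groth.Agent.S9319

namespace Groth.Agent.S9319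

open TensorProduct in
/-- For a tower of fields `K ⊆ L ⊆ M`, the first map of the Jacobi–Zariski sequence, from `H_1(L_{L/K})
⊗_L M` to `H_1(L_{M/K})`, is injective; here `H_1(L)` denotes the first homology of the naive
cotangent complex and the map is the `M`-linear extension of the functoriality map. (The rest of the
six-term sequence is exact for any three rings, so for fields it is exact with a zero on the left.) -/
theorem result {K L M : Type u} [Field K] [Field L]
    [Field M] [Algebra K L] [Algebra L M] [Algebra K M] [IsScalarTower K L M] :
    Function.Injective ((Algebra.H1Cotangent.map K K L M).liftBaseChange M) := by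
  exact aux

end Groth.Agent.S9319
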