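import Groth.Statements.S9320
import Groth.Agent.FieldIndex.General
import Groth.Agent.FieldIndex.Ladder
import Groth.Agent.S9319
import Mathlib
-- import your own Groth.Agent.* helpers here

set_option autoImplicit false
universe u
open CAlg

namespace Groth.Agent.S9320
open TensorProduct Groth.Agent.FieldIndex

section Gen
variable {R R1 R2 S S1 S2 : Type u} [CommRing R] [CommRing R1] [CommRing R2] [CommRing S] [CommRing S1] [CommRing S2]

open Algebra in
theorem map_trans [Algebra R R1] [Algebra R R2] [Algebra R1 R2] [IsScalarTower R R1 R2]
    [Algebra S S1] [Algebra S S2] [Algebra S1 S2] [IsScalarTower S S1 S2]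
    [Algebra R S] [Algebra R1 S1] [Algebra R2 S2] [Algebra R S1] [Algebra R S2] [Algebra R1 S2]
    [IsScalarTower R R1 S1] [IsScalarTower R S S1] [IsScalarTower R R2 S2] [IsScalarTower R S S2]
    [IsScalarTower R1 R2 S2] [IsScalarTower R1 S1 S2] [IsScalarTower R R1 S2] [IsScalarTower R S1 S2]
    (x : Algebra.H1Cotangent R S) :
    Algebra.H1Cotangent.map R R2 S S2 x =
      Algebra.H1Cotangent.map R1 R2 S1 S2 (Algebra.H1Cotangent.map R R1 S S1 x) := by
  unfold Algebra.H1Cotangent.map
  rw [← Extension.H1Cotangent.map_comp_apply]
  exact congr($(Extension.H1Cotangent.map_eq _ _) x)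

end Gen

section N
variable (k k' K K' : Type u) [CommRing k] [CommRing k'] [CommRing K] [CommRing K'] [Algebra k k'] [Algebra k K]
  [Algebra k K'] [Algebra k' K'] [Algebra K K'] [IsScalarTower k k' K'] [IsScalarTower k K K']

/-- the functoriality map `K ⊗ Ω_k → K' ⊗ Ω_k'` -/
noncomputable def nmap : K ⊗[k] Ω[k⁄ℤ] →ₗ[K] K' ⊗[k'] Ω[k'⁄ℤ] :=
  LinearMap.liftBaseChange K (((TensorProduct.mk k' K' Ω[k'⁄ℤ] 1).restrictScalars k).comp
    (KaehlerDifferential.map ℤ ℤ k k'))

theorem nmap_tmul (c : K) (x : Ω[k⁄ℤ]) :
    nmap k k' K K' (c ⊗ₜ x) = algebraMap K K' c ⊗ₜ KaehlerDifferential.map ℤ ℤ k k' x := by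
  simp [nmap, TensorProduct.smul_tmul', Algebra.smul_def]

set_option backward.isDefEq.respectTransparency.types true in
open Algebra Generators in
theorem δ_natural (x : Algebra.H1Cotangent k K) :
    Algebra.H1Cotangent.δ ℤ k' K' (Algebra.H1Cotangent.map k k' K K' x) =
      nmap k k' K K' (Algebra.H1Cotangent.δ ℤ k K x) := by
  obtain ⟨x, hx⟩ := x
  obtain ⟨⟨y, hy⟩, rfl⟩ := Extension.Cotangent.mk_surjective x
  unfold Algebra.H1Cotangent.δ
  change Generators.H1Cotangent.δ _ _ ⟨_, _⟩ = _
  simp only [LinearMap.domRestrict_apply, Extension.Cotangent.map_mk,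
    Generators.H1Cotangent.δ_eq_δAux]
  have key : ∀ q : (Generators.self k K).Ring,
      Generators.H1Cotangent.δAux ℤ (Generators.self k' K')
        ((Generators.defaultHom (Generators.self k K) (Generators.self k' K')).toAlgHom q) =
      nmap k k' K K' (Generators.H1Cotangent.δAux ℤ (Generators.self k K) q) := by
    intro q
    induction q using MvPolynomial.induction_on with
    | C a =>
      rw [Generators.Hom.toAlgHom_C, Generators.H1Cotangent.δAux_C, Generators.H1Cotangent.δAux_C,
        nmap_tmul, map_one, KaehlerDifferential.map_D]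
    | add p q hp hq => simp only [map_add, hp, hq]
    | mul_X p i hp =>
      rw [map_mul, Generators.H1Cotangent.δAux_mul, Generators.H1Cotangent.δAux_mul,
        Generators.H1Cotangent.δAux_X, smul_zero, zero_add, hp, Generators.Hom.toAlgHom_X]
      have hv : (Generators.defaultHom (Generators.self k K) (Generators.self k' K')).val i =
          MvPolynomial.X (algebraMap K K' i) := rfl
      rw [hv, Generators.H1Cotangent.δAux_X, smul_zero, zero_add]
      generalize Generators.H1Cotangent.δAux ℤ (Generators.self k K) p = z
      induction z using TensorProduct.induction_on with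
      | zero => simp
      | add a b ha hb => simp only [map_add, smul_add, ha, hb]
      | tmul l w =>
        simp only [smul_tmul', nmap_tmul]
        congr 1
        rw [Algebra.smul_def, Algebra.smul_def, Generators.algebraMap_apply,
          Generators.algebraMap_apply, MvPolynomial.aeval_X, MvPolynomial.aeval_X]
        simp [Generators.self]
  exact (Generators.H1Cotangent.δ_eq_δAux (Generators.self k' K') (Generators.self ℤ k') _ _).trans
    ((key y).trans (congrArg _
      (Generators.H1Cotangent.δ_eq_δAux (Generators.self k K) (Generators.self ℤ k) ⟨y, hy⟩ hx).symm))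

end N

theorem δ_injective (k K : Type u) [Field k] [Field K] [Algebra k K] :
    Function.Injective (Algebra.H1Cotangent.δ ℤ k K) := by
  let P := (⊥ : Subfield k)
  haveI := Groth.Agent.S9319.subsingleton_h1_bot k K
  rw [injective_iff_map_eq_zero]
  intro z hz
  obtain ⟨w, rfl⟩ := (Algebra.H1Cotangent.exact_map_δ ℤ k K z).1 hz
  have h : Algebra.H1Cotangent.map ℤ k K K w =
      Algebra.H1Cotangent.map P k K K (Algebra.H1Cotangent.map ℤ P K K w) := by
    unfold Algebra.H1Cotangent.map
    rw [← Algebra.Extension.H1Cotangent.map_comp_apply]
    exact congr($(Algebra.Extension.H1Cotangent.map_eq _ _) w)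
  rw [h, Subsingleton.elim (Algebra.H1Cotangent.map ℤ P K K w) 0, map_zero]

variable (k k' K K' : Type u) [Field k] [Field k'] [Field K] [Field K'] [Algebra k k'] [Algebra k K]
  [Algebra k K'] [Algebra k' K'] [Algebra K K'] [IsScalarTower k k' K'] [IsScalarTower k K K']

theorem main [Algebra.EssFiniteType k k'] [Algebra.EssFiniteType K K'] :
    IsFred ((KaehlerDifferential.map k k' K K').liftBaseChange K') ∧
    IsFred ((Algebra.H1Cotangent.map k k' K K').liftBaseChange K') ∧
    idx ((Algebra.H1Cotangent.map k k' K K').liftBaseChange K') -
      idx ((KaehlerDifferential.map k k' K K').liftBaseChange K') =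
        (Cardinal.toNat (Algebra.trdeg k k') : ℤ) - Cardinal.toNat (Algebra.trdeg K K') := by
  obtain ⟨hk, nk, tk, ik⟩ := good_of_essFiniteType (K := k) (L := k')
  obtain ⟨hK, nK, tK, iK⟩ := good_of_essFiniteType (K := K) (L := K')
  rw [tk, tK, Cardinal.toNat_natCast, Cardinal.toNat_natCast]
  let p := (nmap k k' K K').liftBaseChange K'
  let e := (AlgebraTensorModule.cancelBaseChange k K K' K' Ω[k⁄ℤ]).trans
    (AlgebraTensorModule.cancelBaseChange k k' K' K' Ω[k⁄ℤ]).symm
  let B := AlgebraTensorModule.lTensor K' K' (fmap k k')
  obtain ⟨hB, iB⟩ := isFred_baseChange K' hk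
  have hp0 : p = (fmap k k').baseChange K' ∘ₗ e.toLinearMap := by
    refine LinearMap.ext fun z => ?_
    induction z using TensorProduct.induction_on with
    | zero => simp
    | add a b ha hb => simp only [map_add, ha, hb]
    | tmul m y =>
      induction y using TensorProduct.induction_on with
      | zero => simp
      | add a b ha hb => simp only [tmul_add, map_add, ha, hb]
      | tmul c w =>
        simp [p, e, nmap_tmul, fmap, smul_tmul', Algebra.smul_def, mul_comm]
  obtain ⟨he, ie⟩ := isFred_of_bijective (f := e.toLinearMap) e.bijective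
  obtain ⟨hp, ip⟩ := isFred_comp hB he
  rw [← hp0] at hp ip
  rw [iB, ik, ie, add_zero] at ip
  let u := (fmap k K).baseChange K'
  let v := fmap k' K'
  let q := fmap K K'
  have hsq : ∀ z, q (u z) = v (p z) := fun z => by
    induction z using TensorProduct.induction_on with
    | zero => simp
    | add a b ha hb => simp only [map_add, ha, hb]
    | tmul m y =>
      induction y using TensorProduct.induction_on with
      | zero => simp
      | add a b ha hb => simp only [tmul_add, map_add, ha, hb]
      | tmul c w =>
        have hw : KaehlerDifferential.map ℤ ℤ K K' (KaehlerDifferential.map ℤ ℤ k K w) =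
            KaehlerDifferential.map ℤ ℤ k' K' (KaehlerDifferential.map ℤ ℤ k k' w) := by
          induction (KaehlerDifferential.span_range_derivation ℤ k ▸ Submodule.mem_top :
              w ∈ Submodule.span k (Set.range (KaehlerDifferential.D ℤ k))) using Submodule.span_induction with
          | mem x hx =>
            obtain ⟨a, rfl⟩ := hx
            simp only [KaehlerDifferential.map_D]
            rw [← IsScalarTower.algebraMap_apply, ← IsScalarTower.algebraMap_apply]
          | zero => simp
          | add x y _ _ hx hy => simp only [map_add, hx, hy]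
          | smul a x _ hx =>
            simp only [map_smul, LinearMap.map_smul_of_tower, hx]
        simp [q, u, v, p, fmap, nmap_tmul, hw, smul_tmul', Algebra.smul_def, mul_smul]
        exact smul_comm _ _ _
  obtain ⟨hβ, hα, h⟩ := square (K := K') (u := u) (v := v) (p := p) (q := q)
    (i := (Algebra.H1Cotangent.δ ℤ k K).baseChange K') (i' := Algebra.H1Cotangent.δ ℤ k' K')
    (π := (KaehlerDifferential.map ℤ k K K).baseChange K') (π' := KaehlerDifferential.map ℤ k' K' K')
    (β := (Algebra.H1Cotangent.map k k' K K').liftBaseChange K')
    (α := (KaehlerDifferential.map k k' K K').liftBaseChange K')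
    hsq hp hK (Module.Flat.lTensor_preserves_injective_linearMap _ (δ_injective k K))
    (fun z => Module.Flat.lTensor_exact (R := K) K' (Algebra.H1Cotangent.exact_δ_mapBaseChange ℤ k K) z)
    (δ_injective k' K') (Algebra.H1Cotangent.exact_δ_mapBaseChange ℤ k' K')
    (LinearMap.lTensor_surjective K' (KaehlerDifferential.map_surjective_of_surjective ℤ k K K Function.surjective_id))
    (fun z => lTensor_exact K' (KaehlerDifferential.exact_mapBaseChange_map ℤ k K)
        (KaehlerDifferential.map_surjective_of_surjective ℤ k K K Function.surjective_id) z)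
    (KaehlerDifferential.map_surjective_of_surjective ℤ k' K' K' Function.surjective_id)
    (KaehlerDifferential.exact_mapBaseChange_map ℤ k' K')
    (fun z => by
      induction z using TensorProduct.induction_on with
      | zero => simp
      | add a b ha hb => simp only [map_add, ha, hb]
      | tmul m y =>
        simp only [p, LinearMap.baseChange_tmul, LinearMap.liftBaseChange_tmul, map_smul]
        rw [δ_natural])
    (fun z => by
      induction z using TensorProduct.induction_on with
      | zero => simp
      | add a b ha hb => simp only [map_add, ha, hb]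
      | tmul m y =>
        simp only [q, fmap, LinearMap.baseChange_tmul, LinearMap.liftBaseChange_tmul,
          KaehlerDifferential.mapBaseChange_tmul, map_smul]
        congr 1
        induction (KaehlerDifferential.span_range_derivation ℤ K ▸ Submodule.mem_top :
            y ∈ Submodule.span K (Set.range (KaehlerDifferential.D ℤ K))) using Submodule.span_induction with
        | mem x hx =>
          obtain ⟨a, rfl⟩ := hx
          simp [KaehlerDifferential.map_D]
        | zero => simp
        | add x y _ _ hx hy => simp only [map_add, hx, hy]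
        | smul a x _ hx => simp only [map_smul, LinearMap.map_smul_of_tower, hx])
  refine ⟨hα, hβ, ?_⟩
  rw [show idx q = nK from iK, ip] at h
  omega

end Groth.Agent.S9320

namespace Groth.Agent.S9320

open TensorProduct in
/-- Consider a commutative square of fields with maps `k → K`, `k → k'`, `k' → K'` and `K → K'`, where
`k'` is a finitely generated field extension of `k` and `K'` is a finitely generated field extension
of `K`. Let `α : Ω_{K/k} ⊗_K K' → Ω_{K'/k'}` and `β : H_1(L_{K/k}) ⊗_K K' → H_1(L_{K'/k'})` be the
comparison maps (`H_1(L)` the first homology of the naive cotangent complex). Then the kernels and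
cokernels of `α` and `β` are finite-dimensional `K'`-vector spaces, and the difference of
transcendence degrees trdeg_k(k') − trdeg_K(K') equals (dim Ker α + dim Coker β) − (dim Coker α +
dim Ker β). -/
theorem result {k k' K K' : Type u} [Field k] [Field k']
    [Field K] [Field K'] [Algebra k k'] [Algebra k K] [Algebra k K'] [Algebra k' K'] [Algebra K K']
    [IsScalarTower k k' K'] [IsScalarTower k K K']
    [Algebra.EssFiniteType k k'] [Algebra.EssFiniteType K K'] :
    Module.Finite K' (LinearMap.ker ((KaehlerDifferential.map k k' K K').liftBaseChange K')) ∧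
      Module.Finite K' (Ω[K'⁄k'] ⧸ LinearMap.range ((KaehlerDifferential.map k k' K K').liftBaseChange K')) ∧
      Module.Finite K' (LinearMap.ker ((Algebra.H1Cotangent.map k k' K K').liftBaseChange K')) ∧
      Module.Finite K' (Algebra.H1Cotangent k' K' ⧸ LinearMap.range ((Algebra.H1Cotangent.map k k' K K').liftBaseChange K')) ∧
      ((Module.finrank K' (LinearMap.ker ((KaehlerDifferential.map k k' K K').liftBaseChange K')) : ℤ)
          - Module.finrank K' (Ω[K'⁄k'] ⧸ LinearMap.range ((KaehlerDifferential.map k k' K K').liftBaseChange K'))
          - Module.finrank K' (LinearMap.ker ((Algebra.H1Cotangent.map k k' K K').liftBaseChange K'))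
          + Module.finrank K' (Algebra.H1Cotangent k' K' ⧸ LinearMap.range ((Algebra.H1Cotangent.map k k' K K').liftBaseChange K'))
        = (Cardinal.toNat (Algebra.trdeg k k') : ℤ) - Cardinal.toNat (Algebra.trdeg K K')) := by
  obtain ⟨hα, hβ, h⟩ := main k k' K K'
  refine ⟨hα.1, hα.2, hβ.1, hβ.2, ?_⟩
  simp only [Groth.Agent.FieldIndex.idx] at h
  omega

end Groth.Agent.S9320
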