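import Groth.Statements.S9323
import Groth.Agent.CAlgCohen.Structure
import Groth.Agent.CplFin.Basic
-- import your own Groth.Agent.* helpers here

set_option autoImplicit false
open CAlg

namespace Groth.Agent.S9323

/-- Let `Λ` be a Cohen ring (a complete discrete valuation ring whose maximal ideal is generated by a
prime number) and `n ≥ 0`. Then `ℤ → Λ[[x_1, …, x_n]]` is formally smooth for the adic topology of
the maximal ideal of the power series ring. (`Λ` is taken in the lowest universe, where `ℤ` lives.) -/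
theorem result (Λ : Type) [CommRing Λ] [IsLocalRing Λ]
    (hΛ : CAlg.IsCohenRing Λ) (n : ℕ) :
    CAlgX.IsAdicFormallySmooth ℤ (MvPowerSeries (Fin n) Λ)
      (IsLocalRing.maximalIdeal (MvPowerSeries (Fin n) Λ)) := by
  classical
  obtain ⟨_, _, hc, p, hp, hm⟩ := hΛ
  intro A _ _ J hJ ψ hψ
  obtain ⟨k, hk⟩ := hψ
  let B := MvPowerSeries (Fin n) Λ
  let q : A →+* A ⧸ J := Ideal.Quotient.mk J
  have hmem : ∀ x : Λ, x ∈ IsLocalRing.maximalIdeal Λ →
      (MvPowerSeries.C x : B) ∈ IsLocalRing.maximalIdeal B := fun x hx => by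
    rw [Groth.Agent.CAlgCohen.maximalIdeal_mvPowerSeries]
    exact Submodule.mem_sup_left (Ideal.mem_map_of_mem _ hx)
  have haug : Groth.Agent.FSAdic.augIdeal Λ n ≤ IsLocalRing.maximalIdeal B := by
    rw [Groth.Agent.CAlgCohen.maximalIdeal_mvPowerSeries]
    exact le_sup_right
  have hpA : (p : A) ^ k ∈ J := by
    rw [← Ideal.Quotient.eq_zero_iff_mem, map_pow, map_natCast, ← map_natCast ψ, ← map_pow]
    refine hk _ (Ideal.pow_mem_pow ?_ k)
    rw [← map_natCast (MvPowerSeries.C : Λ →+* B)]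
    exact hmem _ (hm ▸ Ideal.mem_span_singleton_self _)
  have hJsq : ∀ x y : A, x ∈ J → y ∈ J → x * y = 0 := fun x y hx hy =>
    (Ideal.mem_bot (R := A)).1 (hJ ▸ pow_two J ▸ Ideal.mul_mem_mul hx hy)
  have hker : RingHom.ker q = J := Ideal.mk_ker
  obtain ⟨F, hF⟩ := Groth.Agent.CAlgCohen.exists_lift_step hp hm q Ideal.Quotient.mk_surjective
    ⟨2, by rw [hker]; exact hJ⟩ (2 * k + 1) (by omega)
    (by rw [pow_succ, two_mul, pow_add, hJsq _ _ hpA hpA, zero_mul])
    (ψ.toRingHom.comp MvPowerSeries.C)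
  choose z hz using fun i => Ideal.Quotient.mk_surjective (I := J) (ψ (MvPowerSeries.X i))
  let Z : Ideal A := Ideal.span (Set.range z)
  have hZ : Z ^ k ≤ J := by
    have h1 : (Z ^ k).map q = ((Groth.Agent.FSAdic.augIdeal Λ n) ^ k).map ψ.toRingHom := by
      rw [Ideal.map_pow, Ideal.map_pow, Groth.Agent.FSAdic.augIdeal_eq_span, Ideal.map_span,
        Ideal.map_span, ← Set.range_comp, ← Set.range_comp]
      congr 3
      exact funext hz
    rw [← hker, ← Ideal.map_eq_bot_iff_le_ker, h1, eq_bot_iff, Ideal.map_le_iff_le_comap]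
    exact fun x hx => Ideal.mem_bot.2 (hk x (Ideal.pow_right_mono haug k hx))
  have : IsAdicComplete Z A := Groth.Agent.CplFin.isAdicComplete_of_le_of_pow_le A ⊥ Z bot_le
    (2 * k + 1) (by omega) (by
      refine (Ideal.pow_le_pow_right (Nat.le_succ _)).trans ?_
      rw [← hJ, two_mul, pow_add, pow_two]
      exact Ideal.mul_mono hZ hZ)
  let _ : Algebra Λ A := F.toAlgebra
  obtain ⟨χ, hχ⟩ := Groth.Agent.MvPSLib.exists_algHom (A := Λ) Z z
    (fun i => Ideal.subset_span ⟨i, rfl⟩)
  refine ⟨{ χ.toRingHom with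
      commutes' := fun r =>
        RingHom.congr_fun (RingHom.ext_int (χ.toRingHom.comp (algebraMap ℤ B)) (algebraMap ℤ A)) r },
    AlgHom.ext fun x => ?_⟩
  change q (χ x) = ψ x
  let π : MvPolynomial (Fin n) Λ →+* B := MvPolynomial.coeToMvPowerSeries.ringHom
  have hpoly : (q.comp χ.toRingHom).comp π = ψ.toRingHom.comp π := by
    refine MvPolynomial.ringHom_ext (fun a => ?_) fun i => ?_
    · change q (χ (MvPolynomial.C a : MvPolynomial (Fin n) Λ)) = ψ (MvPolynomial.C a : MvPolynomial (Fin n) Λ)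
      rw [MvPolynomial.coe_C, show (MvPowerSeries.C a : B) = algebraMap Λ B a from rfl, χ.commutes]
      exact DFunLike.congr_fun hF a
    · change q (χ (MvPolynomial.X i : MvPolynomial (Fin n) Λ)) = ψ (MvPolynomial.X i : MvPolynomial (Fin n) Λ)
      rw [MvPolynomial.coe_X, hχ]
      exact hz i
  have h1 := Groth.Agent.FSAdic.sub_truncTotal_mem (A := Λ) (n := n) k x
  have h2 : q (χ (x - (MvPowerSeries.truncTotal k x : MvPolynomial (Fin n) Λ))) = 0 := by
    refine Ideal.Quotient.eq_zero_iff_mem.2 (hZ ?_)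
    have h3 := Ideal.mem_map_of_mem χ h1
    rw [Ideal.map_pow, Groth.Agent.MvPSLib.map_augIdeal] at h3
    simp only [hχ] at h3
    exact h3
  have h4 : ψ (x - (MvPowerSeries.truncTotal k x : MvPolynomial (Fin n) Λ)) = 0 :=
    hk _ (Ideal.pow_right_mono haug k h1)
  rw [map_sub, map_sub, sub_eq_zero] at h2
  rw [map_sub, sub_eq_zero] at h4
  rw [h2, h4]
  exact DFunLike.congr_fun hpoly _

end Groth.Agent.S9323
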