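import Groth.Statements.S9324
import Groth.Agent.Hensel.PairHens
import Groth.Agent.Hensel.Pairs

set_option autoImplicit false
universe u
open Hensel

namespace Groth.Agent.S9324

open TensorProduct in
/-- Let `(A, I) → (B, J)` be a map of pairs, i.e. `I B ⊆ J`, such that `J` and `I B` have the same
radical, and suppose `A → B` is integral. Let `A^h` be a henselization of the pair `(A, I)`, `B^h` a
henselization of the pair `(B, J)`, and `φ : A^h → B^h` an `A`-algebra homomorphism (there is
exactly one, by the universal property of `A^h`). Then the induced map `A^h ⊗_A B → B^h` is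
bijective: henselization commutes with integral base change. -/
theorem result {A B Ah Bh : Type u} [CommRing A]
    [CommRing B] [CommRing Ah] [CommRing Bh] [Algebra A B] (I : Ideal A) (J : Ideal B)
    (hIJ : I.map (algebraMap A B) ≤ J) (hrad : J.radical = (I.map (algebraMap A B)).radical)
    [Algebra.IsIntegral A B] [Algebra A Ah] (hA : Hens2.IsPairHenselization A I Ah)
    [Algebra B Bh] [Algebra A Bh] [IsScalarTower A B Bh] (hB : Hens2.IsPairHenselization B J Bh)
    (φ : Ah →ₐ[A] Bh) :
    Function.Bijective (Algebra.TensorProduct.productMap φ (IsScalarTower.toAlgHom A B Bh)) := by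
  let _ := hA.1
  let e := Algebra.TensorProduct.productMap φ (IsScalarTower.toAlgHom A B Bh)
  let ι : B →ₐ[A] Ah ⊗[A] B := Algebra.TensorProduct.includeRight
  have hint : Algebra.IsIntegral Ah (Ah ⊗[A] B) := inferInstance
  have h1 : HenselianRing (Ah ⊗[A] B) ((I.map (algebraMap A Ah)).map (algebraMap Ah (Ah ⊗[A] B))) :=
    Groth.Agent.Hensel.henselianRing_of_isIntegral _
  have hJeq : (I.map (algebraMap A Ah)).map (algebraMap Ah (Ah ⊗[A] B)) =
      (I.map (algebraMap A B)).map ι.toRingHom := by
    rw [Ideal.map_map, Ideal.map_map, AlgHom.toRingHom_eq_coe, ι.comp_algebraMap,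
      ← IsScalarTower.algebraMap_eq]
  rw [hJeq] at h1
  have h2 : HenselianRing (Ah ⊗[A] B) (J.map ι.toRingHom) := by
    have := (Groth.Agent.Hensel.henselianRing_radical_iff
      (I := (I.map (algebraMap A B)).map ι.toRingHom)).mpr h1
    refine Groth.Agent.Hensel.henselianRing_of_le (J := ((I.map (algebraMap A B)).map ι.toRingHom).radical) ?_
    calc J.map ι.toRingHom ≤ J.radical.map ι.toRingHom := Ideal.map_mono Ideal.le_radical
      _ ≤ _ := by rw [hrad]; exact Ideal.map_radical_le _
  let _ : Algebra B (Ah ⊗[A] B) := ι.toRingHom.toAlgebra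
  have hpair : Hens2.IsPairHenselization B J (Ah ⊗[A] B) := by
    refine ⟨h2, fun C _ K f hC hf ↦ ?_⟩
    let := (f.comp (algebraMap A B)).toAlgebra
    have hIK : I.map (f.comp (algebraMap A B)) ≤ K := by
      rw [← Ideal.map_map]
      exact (Ideal.map_mono hIJ).trans hf
    obtain ⟨g₀, hg₀, hu₀⟩ := hA.2 C K (f.comp (algebraMap A B)) hC hIK
    let g₀' : Ah →ₐ[A] C := { toRingHom := g₀, commutes' := DFunLike.congr_fun hg₀ }
    let f' : B →ₐ[A] C := { toRingHom := f, commutes' := fun a ↦ rfl }
    refine ⟨(Algebra.TensorProduct.productMap g₀' f').toRingHom, RingHom.ext fun b ↦ ?_, fun g hg ↦ ?_⟩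
    · exact Algebra.TensorProduct.productMap_right_apply g₀' f' b
    · let g' : Ah ⊗[A] B →ₐ[A] C :=
        { toRingHom := g
          commutes' := fun a ↦ by
            change g (algebraMap A (Ah ⊗[A] B) a) = f (algebraMap A B a)
            rw [← ι.commutes a, ← hg]
            rfl }
      refine congrArg AlgHom.toRingHom (?_ : g' = Algebra.TensorProduct.productMap g₀' f')
      refine Algebra.TensorProduct.ext' fun x b ↦ ?_
      have hx : g (x ⊗ₜ[A] 1) = g₀ x := by
        refine DFunLike.congr_fun (hu₀ (g.comp Algebra.TensorProduct.includeLeftRingHom) ?_) x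
        refine RingHom.ext fun a ↦ ?_
        exact g'.commutes a
      have hb : g (1 ⊗ₜ[A] b) = f b := DFunLike.congr_fun hg b
      rw [Algebra.TensorProduct.productMap_apply_tmul]
      change g (x ⊗ₜ[A] b) = g₀ x * f b
      rw [← hx, ← hb, ← map_mul, Algebra.TensorProduct.tmul_mul_tmul, mul_one, one_mul]
  obtain ⟨ψ⟩ := Groth.Agent.Hensel.exists_algEquiv_of_isPairHenselization hpair hB
  have heq : e.toRingHom = ψ.toAlgHom.toRingHom := by
    have := hB.1
    refine Groth.Agent.Hensel.pairHenselization_ringHom_ext (C := Bh) (J := J.map (algebraMap B Bh)) hpair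
      ?_ ?_
    · refine le_of_eq (congrArg (fun k : B →+* Bh ↦ J.map k) (RingHom.ext fun b ↦ ?_))
      exact Algebra.TensorProduct.productMap_right_apply φ (IsScalarTower.toAlgHom A B Bh) b
    · refine RingHom.ext fun b ↦ ?_
      exact (Algebra.TensorProduct.productMap_right_apply φ (IsScalarTower.toAlgHom A B Bh) b).trans
        (ψ.commutes b).symm
  have : ⇑e = ⇑ψ := funext fun x ↦ DFunLike.congr_fun heq x
  exact this ▸ ψ.bijective

end Groth.Agent.S9324
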