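import Groth.Statements.S9325
import Mathlib
-- import your own Groth.Agent.* helpers here

set_option autoImplicit false
universe u
open CAlg

namespace Groth.Agent.S9325

theorem core {B C : Type u} [CommRing B] [CommRing C] (π : B →+* C) (hπ : Function.Surjective π)
    (J : Ideal B) (hJ : RingHom.ker π ≤ J) {c : ℕ} (f : Fin c → C) (hf : CAlgX.IsH1Regular f)
    (hfJ : Ideal.span (Set.range f) = J.map π) :
    RingHom.ker π ⊓ J ^ 2 ≤ RingHom.ker π * J := by
  choose t ht using fun i ↦ hπ (f i)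
  let F := Ideal.span (Set.range t)
  have hFJ : J = RingHom.ker π ⊔ F := by
    have h1 : F.map π = J.map π := by
      rw [Ideal.map_span, ← hfJ, ← Set.range_comp]
      exact congrArg _ (congrArg _ (funext ht))
    apply le_antisymm
    · intro x hx
      have := Ideal.mem_map_of_mem π hx
      rw [← h1, Ideal.mem_map_iff_of_surjective π hπ] at this
      obtain ⟨y, hy, hxy⟩ := this
      exact Submodule.mem_sup.mpr ⟨x - y, by rw [RingHom.mem_ker, map_sub, hxy, sub_self], y, hy, by ring⟩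
    · refine sup_le hJ ?_
      intro x hx
      have := Ideal.mem_map_of_mem π hx
      rw [h1, Ideal.mem_map_iff_of_surjective π hπ] at this
      obtain ⟨y, hy, hxy⟩ := this
      have hk : x - y ∈ J := hJ (by rw [RingHom.mem_ker, map_sub, hxy, sub_self])
      simpa using add_mem hk hy
  rintro x ⟨hx1, hx2⟩
  have hle : J ^ 2 ≤ RingHom.ker π * J ⊔ F := by
    rw [sq]
    conv_lhs => arg 1; rw [hFJ]
    rw [Ideal.sup_mul]
    exact sup_le le_sup_left ((show F * J ≤ F from Ideal.mul_le.mpr fun r hr s _ ↦ F.mul_mem_right s hr).trans le_sup_right)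
  obtain ⟨y, hy, z, hz, rfl⟩ := Submodule.mem_sup.mp (hle hx2)
  refine add_mem hy ?_
  obtain ⟨b, rfl⟩ := Ideal.mem_span_range_iff_exists_fun.mp hz
  have hrel : ∑ i, π (b i) * f i = 0 := by
    have h0 : π (y + ∑ i, b i * t i) = 0 := hx1
    have hy0 : π y = 0 := Ideal.mul_le_left hy
    simpa [map_sum, map_mul, ht, hy0] using h0
  have key : ∀ v ∈ Submodule.span C {v : Fin c → C | ∃ i j : Fin c, v = Pi.single i (f j) - Pi.single j (f i)},
      ∃ w : Fin c → B, (∀ i, π (w i) = v i) ∧ ∑ i, w i * t i = 0 := by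
    intro v hv
    induction hv using Submodule.span_induction with
    | mem v hv =>
      obtain ⟨i, j, rfl⟩ := hv
      refine ⟨Pi.single i (t j) - Pi.single j (t i), fun k ↦ ?_, ?_⟩
      · by_cases hki : k = i <;> by_cases hkj : k = j <;>
          simp_all [Pi.single_apply]
      · simp [sub_mul, Finset.sum_sub_distrib, Pi.single_apply, ite_mul, mul_comm, mul_sub, mul_ite]
    | zero => exact ⟨0, by simp, by simp⟩
    | add a b _ _ ha hb =>
      obtain ⟨w, h1, h2⟩ := ha
      obtain ⟨w', h1', h2'⟩ := hb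
      exact ⟨w + w', by simp [h1, h1'], by simp [add_mul, Finset.sum_add_distrib, h2, h2']⟩
    | smul a v _ hv =>
      obtain ⟨w, h1, h2⟩ := hv
      obtain ⟨a', rfl⟩ := hπ a
      exact ⟨a' • w, by simp [h1], by simp [mul_assoc, ← Finset.mul_sum, h2]⟩
  obtain ⟨w, hw, hw0⟩ := key _ (hf (fun i ↦ π (b i)) hrel)
  have : ∑ i, b i * t i = ∑ i, (b i - w i) * t i := by
    simp [sub_mul, Finset.sum_sub_distrib, hw0]
  rw [this]
  refine Ideal.sum_mem _ fun i _ ↦ Ideal.mul_mem_mul (by simp [RingHom.mem_ker, hw]) ?_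
  rw [hFJ]
  exact Submodule.mem_sup_right (Ideal.subset_span ⟨i, rfl⟩)

end Groth.Agent.S9325

namespace Groth.Agent.S9325

/-- Let `A` be a ring and `I ⊆ J` ideals of `A` such that the ideal `J/I` of `A/I` is `H_1`-regular: for
every prime `𝔮` of `A/I` containing `J/I` there is `g ∉ 𝔮` such that the extension of `J/I` to
`(A/I)_g` is generated by an `H_1`-regular sequence (a finite sequence all of whose linear relations
are combinations of the trivial ones). Then `I ∩ J² = I J`. -/
theorem result {A : Type u} [CommRing A] (I J : Ideal A)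
    (hIJ : I ≤ J)
    (h : ∀ (𝔮 : Ideal (A ⧸ I)) [𝔮.IsPrime], J.map (Ideal.Quotient.mk I) ≤ 𝔮 →
      ∃ g : A ⧸ I, g ∉ 𝔮 ∧ ∃ (c : ℕ) (f : Fin c → Localization.Away g),
        CAlgX.IsH1Regular f ∧
          Ideal.span (Set.range f) =
            (J.map (Ideal.Quotient.mk I)).map (algebraMap (A ⧸ I) (Localization.Away g))) :
    I ⊓ J ^ 2 = I * J := by
  refine le_antisymm (fun x hx ↦ ?_) (le_inf Ideal.mul_le_left ?_)
  swap
  · rw [sq]; exact Ideal.mul_mono_left hIJ
  let K : Ideal A := (I * J).colon {x}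
  suffices hK : K = ⊤ by
    have : (1 : A) ∈ K := hK ▸ trivial
    simpa [K, Submodule.mem_colon_singleton] using this
  by_contra hne
  obtain ⟨P, hP, hKP⟩ := Ideal.exists_le_maximal K hne
  suffices ∃ s, s ∉ P ∧ s * x ∈ I * J by
    obtain ⟨s, hs, hsx⟩ := this
    exact hs (hKP (Submodule.mem_colon_singleton.mpr hsx))
  by_cases hJP : J ≤ P
  swap
  · obtain ⟨s, hs, hsP⟩ := SetLike.not_le_iff_exists.mp hJP
    exact ⟨s, hsP, mul_comm s x ▸ Ideal.mul_mem_mul hx.1 hs⟩
  let mk := Ideal.Quotient.mk I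
  have hIP : RingHom.ker mk ≤ P := by rw [Ideal.mk_ker]; exact hIJ.trans hJP
  haveI : (P.map mk).IsPrime := Ideal.map_isPrime_of_surjective Ideal.Quotient.mk_surjective hIP
  obtain ⟨g, hg, c, f, hf, hfJ⟩ := h (P.map mk) (Ideal.map_mono hJP)
  obtain ⟨g, rfl⟩ := Ideal.Quotient.mk_surjective g
  have hgP : g ∉ P := fun h ↦ hg (Ideal.mem_map_of_mem _ h)
  let π : Localization.Away g →+* Localization.Away (mk g) := Localization.awayMap mk g
  have hπe : ∀ y, π (algebraMap A _ y) = algebraMap (A ⧸ I) _ (mk y) := fun y ↦ IsLocalization.map_eq _ y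
  have hπ : Function.Surjective π := by
    intro z
    obtain ⟨y, ⟨_, n, rfl⟩, rfl⟩ := IsLocalization.exists_mk'_eq (Submonoid.powers (mk g)) z
    obtain ⟨y, rfl⟩ := Ideal.Quotient.mk_surjective y
    refine ⟨IsLocalization.mk' _ y (⟨g ^ n, n, rfl⟩ : Submonoid.powers g), ?_⟩
    simp only [π, Localization.awayMap, IsLocalization.Away.map, IsLocalization.map_mk']
    congr 1
  have hker : RingHom.ker π = I.map (algebraMap A (Localization.Away g)) := by
    refine le_antisymm (fun z hz ↦ ?_) ?_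
    · obtain ⟨y, ⟨_, n, rfl⟩, rfl⟩ := IsLocalization.exists_mk'_eq (Submonoid.powers g) z
      rw [RingHom.mem_ker] at hz
      simp only [π, Localization.awayMap, IsLocalization.Away.map, IsLocalization.map_mk',
        IsLocalization.mk'_eq_zero_iff] at hz
      obtain ⟨⟨_, m, rfl⟩, hm⟩ := hz
      rw [IsLocalization.mk'_mem_map_algebraMap_iff]
      refine ⟨g ^ m, ⟨m, rfl⟩, ?_⟩
      rw [← Ideal.Quotient.eq_zero_iff_mem, map_mul, map_pow]
      exact hm
    · rw [Ideal.map_le_iff_le_comap]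
      intro y hy
      rw [Ideal.mem_comap, RingHom.mem_ker, hπe, Ideal.Quotient.eq_zero_iff_mem.mpr hy, map_zero]
  have hJ' : Ideal.span (Set.range f) = (J.map (algebraMap A (Localization.Away g))).map π := by
    rw [hfJ, Ideal.map_map, Ideal.map_map]
    exact congrArg (Ideal.map · J) (RingHom.ext fun y ↦ (hπe y).symm)
  have hx' := Groth.Agent.S9325.core π hπ _ (hker.trans_le (Ideal.map_mono hIJ)) f hf hJ'
    (show algebraMap A (Localization.Away g) x ∈ _ from
      ⟨by rw [hker]; exact Ideal.mem_map_of_mem _ hx.1,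
       by rw [← Ideal.map_pow]; exact Ideal.mem_map_of_mem _ hx.2⟩)
  rw [hker, ← Ideal.map_mul, IsLocalization.algebraMap_mem_map_algebraMap_iff (Submonoid.powers g)] at hx'
  obtain ⟨_, ⟨n, rfl⟩, hn⟩ := hx'
  exact ⟨g ^ n, fun h ↦ hgP (hP.isPrime.mem_of_pow_mem n h), hn⟩

end Groth.Agent.S9325
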