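import Groth.Statements.S9326
import Mathlib
-- import your own Groth.Agent.* helpers here

set_option autoImplicit false
universe u
open CAlg

open Topology Filter Set

namespace Groth.Agent.S9326

variable {N M : Type u} [AddCommGroup N]
    [AddCommGroup M] [UniformSpace N] [IsUniformAddGroup N] [TopologicalSpace M]
    [IsTopologicalAddGroup M] [T2Space M] [T2Space N] [CompleteSpace N] [NonarchimedeanAddGroup N]
    [FirstCountableTopology N] (u : N →+ M) (hu : Continuous u)

include hu in
theorem image_eq (h : ∀ V : OpenAddSubgroup N, ¬ IsNowhereDense (u '' (V : Set N))) (V : OpenAddSubgroup N) :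
    IsOpen (u '' (V : Set N)) := by
  -- closures of images are open subgroups
  have hopen : ∀ W : OpenAddSubgroup N, IsOpen (closure (u '' (W : Set N))) := by
    intro W
    let H : AddSubgroup M := ((W : AddSubgroup N).map u).topologicalClosure
    have hH : (H : Set M) = closure (u '' (W : Set N)) := by simp [H]
    rw [← hH]
    obtain ⟨g, hg⟩ : (interior (closure (u '' (W : Set N)))).Nonempty := nonempty_iff_ne_empty.2 (h W)
    exact AddSubgroup.isOpen_of_mem_nhds H (g := g) (by rw [hH]; exact mem_interior_iff_mem_nhds.1 hg)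
  obtain ⟨b, hb⟩ := exists_antitone_basis (𝓝 (0 : N))
  choose U hU using fun n => NonarchimedeanAddGroup.is_nonarchimedean (b n) (hb.mem n)
  let W : ℕ → OpenAddSubgroup N := fun n => Nat.rec V (fun k prev => prev ⊓ U k) n
  have hWanti : ∀ n : ℕ, SetLike.coe (W (n + 1)) ⊆ SetLike.coe (W n) := by
    intro n x hx
    exact ((OpenAddSubgroup.coe_inf (U := W n) (V := U n)).le hx).1
  have hWsub : ∀ n, SetLike.coe (W (n + 1)) ⊆ b n := by
    intro n x hx
    exact hU n ((OpenAddSubgroup.coe_inf (U := W n) (V := U n)).le hx).2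
  have hW0 : ∀ n, SetLike.coe (W n) ⊆ SetLike.coe V := by
    intro n
    induction n with
    | zero => exact fun x hx => hx
    | succ n ih => exact (hWanti n).trans ih
  have hsub : closure (u '' (V : Set N)) ⊆ u '' (V : Set N) := by
    intro y hy
    -- successive approximation
    have step : ∀ (n : ℕ) (z : M), z ∈ closure (u '' (SetLike.coe (W n))) → ∃ x : N, x ∈ W n ∧ z - u x ∈ closure (u '' (SetLike.coe (W (n + 1)))) := by
      intro n z hz
      have hnb : (fun w => z - w) ⁻¹' closure (u '' (SetLike.coe (W (n + 1)))) ∈ 𝓝 z := by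
        refine ((hopen (W (n + 1))).preimage (continuous_const.sub continuous_id)).mem_nhds ?_
        show z - z ∈ closure (u '' (SetLike.coe (W (n + 1))))
        rw [sub_self]
        exact subset_closure ⟨0, (W (n + 1)).zero_mem, map_zero u⟩
      obtain ⟨_, hw, ⟨x, hx, rfl⟩⟩ := mem_closure_iff_nhds.1 hz _ hnb
      exact ⟨x, hx, hw⟩
    choose g hgW hg using step
    let z : ∀ n, {z : M // z ∈ closure (u '' (SetLike.coe (W n)))} := fun n =>
      Nat.rec (motive := fun n => {z : M // z ∈ closure (u '' (SetLike.coe (W n)))}) ⟨y, hy⟩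
        (fun k p => ⟨p.1 - u (g k p.1 p.2), hg k p.1 p.2⟩) n
    let x : ℕ → N := fun n => g n (z n).1 (z n).2
    let s : ℕ → N := fun n => ∑ i ∈ Finset.range n, x i
    have hz : ∀ n, (z n).1 = y - u (s n) := by
      intro n
      induction n with
      | zero => simp [z, s]
      | succ n ih =>
        show (z n).1 - u (x n) = _
        rw [ih, show s (n + 1) = s n + x n from Finset.sum_range_succ _ _, map_add]
        abel
    have hsV : ∀ n, s n ∈ V := fun n => AddSubgroup.sum_mem (V : AddSubgroup N) fun i _ => hW0 i (hgW i _ _)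
    have hcs : CauchySeq s := by
      refine NonarchimedeanAddGroup.cauchySeq_of_tendsto_sub_nhds_zero ?_
      rw [show (fun n => s (n + 1) - s n) = x from funext fun n => by simp [s, Finset.sum_range_succ]]
      refine (tendsto_add_atTop_iff_nat 1).1 ?_
      exact hb.tendsto (fun n => hWsub n (hgW (n + 1) _ _))
    obtain ⟨l, hl⟩ := cauchySeq_tendsto_of_complete hcs
    have hlV : l ∈ (V : Set N) := V.isClosed.mem_of_tendsto hl (Eventually.of_forall hsV)
    refine ⟨l, hlV, ?_⟩
    by_contra hne
    have hne0 : y - u l ≠ 0 := sub_ne_zero.2 (Ne.symm hne)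
    obtain ⟨C, hC0, hCc, hCsub⟩ := exists_mem_nhds_isClosed_subset (isOpen_compl_singleton.mem_nhds (show (0 : M) ∈ ({y - u l}ᶜ : Set M) from fun h => hne0 h.symm))
    have hpre : u ⁻¹' C ∈ 𝓝 (0 : N) := hu.continuousAt.preimage_mem_nhds (by rw [map_zero]; exact hC0)
    obtain ⟨n₀, -, hn₀⟩ := hb.1.mem_iff.1 hpre
    have hev : ∀ᶠ n in atTop, y - u (s n) ∈ C := by
      refine eventually_atTop.2 ⟨n₀ + 1, fun n hn => ?_⟩
      rw [← hz]
      obtain ⟨k, rfl⟩ := Nat.exists_eq_add_of_le hn
      refine closure_minimal ?_ hCc (z (n₀ + 1 + k)).2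
      rintro _ ⟨a, ha, rfl⟩
      have hmono : ∀ m, (SetLike.coe (W (n₀ + 1 + m))) ⊆ W (n₀ + 1) := fun m => by
        induction m with
        | zero => exact fun a ha => ha
        | succ m ih => exact (hWanti _).trans ih
      exact hn₀ (hWsub n₀ (hmono k ha))
    have := hCc.mem_of_tendsto ((tendsto_const_nhds (x := y)).sub ((hu.tendsto l).comp hl)) hev
    exact hCsub this rfl
  rw [show u '' (V : Set N) = closure (u '' (V : Set N)) from Subset.antisymm subset_closure hsub]
  exact hopen V

theorem main :
    Continuous u → Xor (IsOpenMap u) (∃ V : OpenAddSubgroup N, IsNowhereDense (u '' (V : Set N))) := by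
  intro hu
  by_cases h : ∃ V : OpenAddSubgroup N, IsNowhereDense (u '' (V : Set N))
  · refine Or.inr ⟨h, fun ho => ?_⟩
    obtain ⟨V, hV⟩ := h
    have h1 : u '' (V : Set N) ⊆ interior (closure (u '' (V : Set N))) :=
      (ho _ V.isOpen).subset_interior_iff.2 subset_closure
    rw [hV] at h1
    exact h1 ⟨0, V.zero_mem, map_zero u⟩
  · refine Or.inl ⟨fun O hO => ?_, h⟩
    push Not at h
    rw [isOpen_iff_mem_nhds]
    rintro _ ⟨a, ha, rfl⟩
    obtain ⟨V, hV⟩ := NonarchimedeanAddGroup.is_nonarchimedean ((fun v => a + v) ⁻¹' O)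
      ((hO.preimage (continuous_const.add continuous_id)).mem_nhds (by simpa using ha))
    refine Filter.mem_of_superset ((((image_eq u hu h V).preimage (continuous_id.sub continuous_const))).mem_nhds (x := u a)
      (show u a - u a ∈ u '' (V : Set N) by rw [sub_self]; exact ⟨0, V.zero_mem, map_zero u⟩)) ?_
    rintro w ⟨v, hv, hvw⟩
    exact ⟨a + v, hV hv, by rw [map_add, hvw]; simp⟩

end Groth.Agent.S9326

namespace Groth.Agent.S9326

/-- Let `u : N → M` be a continuous homomorphism of topological abelian groups. Assume `M` is Hausdorff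
and `N` is Hausdorff and complete, linearly topologized (every neighbourhood of zero contains an
open subgroup) and first countable (zero has a countable basis of neighbourhoods). Then exactly one
of two things holds: `u` is an open map; or there is an open subgroup of `N` whose image is nowhere
dense in `M`. -/
theorem result {N M : Type u} [AddCommGroup N]
    [AddCommGroup M] [UniformSpace N] [IsUniformAddGroup N] [TopologicalSpace M]
    [IsTopologicalAddGroup M] [T2Space M] [T2Space N] [CompleteSpace N] [NonarchimedeanAddGroup N]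
    [FirstCountableTopology N] (u : N →+ M) (hu : Continuous u) :
    Xor (IsOpenMap u) (∃ V : OpenAddSubgroup N, IsNowhereDense (u '' (V : Set N))) := by
  exact Groth.Agent.S9326.main u hu

end Groth.Agent.S9326
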