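import Groth.Statements.S9329
import Mathlib
import Groth.Agent.EtRamBC.Basic
import Groth.Agent.EtRamBC.ResField
import Groth.Agent.EtRamBC.Tame
import Groth.Agent.EtRamIdx.Basic
import Groth.Agent.EtRamEis.Basic
import Groth.Agent.RegLocus.GeomRedTrans

set_option autoImplicit false
universe u
open EtRam

namespace Groth.Agent.S9329

open TensorProduct

open IsLocalRing TensorProduct in
/-- A finite separable extension gives reduced tensor products with every field. -/
lemma isReduced_tensor_of_separable (k E F : Type u) [Field k] [Field E] [Field F] [Algebra k E] [Algebra k F]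
    [Module.Finite k E] [Algebra.IsSeparable k E] : IsReduced (E ⊗[k] F) := by
  haveI : Algebra.IsGeometricallyReduced k E := by
    rw [Algebra.isGeometricallyReduced_field_iff]
    haveI : Algebra.FormallyUnramified k E := Algebra.FormallyUnramified.of_isSeparable k E
    exact Algebra.FormallyUnramified.isReduced_of_field (AlgebraicClosure k) _
  haveI : IsReduced (F ⊗[k] E) := Groth.Agent.RegLocus.isReduced_tensor_field k E F
  exact isReduced_of_injective (Algebra.TensorProduct.comm k E F).toAlgHom (Algebra.TensorProduct.comm k E F).injective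


open TensorProduct in


open TensorProduct in

theorem unramified_of_dvd (A B K L K' : Type u) [CommRing A] [IsDomain A]
    [IsDiscreteValuationRing A] [CommRing B] [IsDomain B] [IsDiscreteValuationRing B] [Algebra A B]
    [IsLocalHom (algebraMap A B)] (hinj : Function.Injective (algebraMap A B))
    [Field K] [Field L] [Field K'] [Algebra A K] [IsFractionRing A K] [Algebra B L] [IsFractionRing B L]
    [Algebra K L] [Algebra A L] [IsScalarTower A K L] [IsScalarTower A B L]
    [Algebra K K'] [FiniteDimensional K K'] [Algebra.IsSeparable K K']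
    (h : EtRam.IsTamelyRamified A ((algebraMap K K').comp (algebraMap A K)))
    (hdvd : ∀ (U : ValuationSubring K') (hU : EtRam.Dominates A ((algebraMap K K').comp (algebraMap A K)) U),
      letI : Algebra A U := (RingHom.codRestrict ((algebraMap K K').comp (algebraMap A K)) U hU.1).toAlgebra
      Ideal.ramificationIdx' (IsLocalRing.maximalIdeal A) (IsLocalRing.maximalIdeal U) ∣
        Ideal.ramificationIdx' (IsLocalRing.maximalIdeal A) (IsLocalRing.maximalIdeal B))
    (F : Type u) [Field F] [Algebra (K' ⊗[K] L) F] (hF : Function.Surjective (algebraMap (K' ⊗[K] L) F)) :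
    EtRam.IsUnramifiedExt B ((algebraMap (K' ⊗[K] L) F).comp
      ((Algebra.TensorProduct.includeRight : L →ₐ[K] K' ⊗[K] L).toRingHom.comp (algebraMap B L))) := by
  classical
  set g := (algebraMap (K' ⊗[K] L) F).comp ((Algebra.TensorProduct.includeRight : L →ₐ[K] K' ⊗[K] L).toRingHom.comp (algebraMap B L)) with hg
  let gK : K' →+* F := (algebraMap (K' ⊗[K] L) F).comp Algebra.TensorProduct.includeLeftRingHom
  let gL : L →+* F := (algebraMap (K' ⊗[K] L) F).comp (Algebra.TensorProduct.includeRight : L →ₐ[K] K' ⊗[K] L).toRingHom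
  have hKagree : ∀ a : A, gK (algebraMap K K' (algebraMap A K a)) = g (algebraMap A B a) := by
    intro a
    refine congrArg (algebraMap (K' ⊗[K] L) F) ?_
    show (algebraMap K K' (algebraMap A K a)) ⊗ₜ[K] (1 : L) = (1 : K') ⊗ₜ[K] algebraMap B L (algebraMap A B a)
    rw [← IsScalarTower.algebraMap_apply A B L, IsScalarTower.algebraMap_apply A K L, Algebra.algebraMap_eq_smul_one,
      Algebra.algebraMap_eq_smul_one (A := L) ((algebraMap A K) a), TensorProduct.smul_tmul]
  intro W hW hloc
  let bW : B →+* W := RingHom.codRestrict g W hW.1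
  letI : Algebra B W := bW.toAlgebra
  haveI : IsLocalHom (algebraMap B W) := hloc
  set U := W.comap gK with hUdef
  have hgA : ∀ a, (algebraMap K K').comp (algebraMap A K) a ∈ U := fun a => by
    show gK (algebraMap K K' (algebraMap A K a)) ∈ W
    rw [hKagree]; exact hW.1 _
  letI : Algebra A U := (RingHom.codRestrict ((algebraMap K K').comp (algebraMap A K)) U hgA).toAlgebra
  letI : Algebra U W := (EtRam.inclOfComap W gK).toAlgebra
  letI : Algebra A W := ((algebraMap U W).comp (algebraMap A U)).toAlgebra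
  haveI : IsScalarTower A U W := IsScalarTower.of_algebraMap_eq fun _ => rfl
  haveI : IsScalarTower A B W := IsScalarTower.of_algebraMap_eq fun a => Subtype.ext (hKagree a)
  haveI hlAW : IsLocalHom (algebraMap A W) := by
    rw [IsScalarTower.algebraMap_eq A B W]; exact RingHom.isLocalHom_comp _ _
  haveI hlAU : IsLocalHom (algebraMap A U) := ⟨fun a ha => (isUnit_map_iff (algebraMap A W) a).mp (ha.map (algebraMap U W))⟩
  haveI hlUW : IsLocalHom (algebraMap U W) := inferInstanceAs (IsLocalHom (EtRam.inclOfComap W gK))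
  have hdomU : EtRam.Dominates A ((algebraMap K K').comp (algebraMap A K)) U := by
    refine ⟨hgA, fun a ha => (U.valuation_lt_one_iff ⟨_, hgA a⟩).mp fun hu => ?_⟩
    exact ha ((isUnit_map_iff (algebraMap A U) a).mp hu)
  obtain ⟨hsep, htU⟩ := @h U hdomU hlAU
  haveI := hsep
  letI : Algebra A K' := ((algebraMap K K').comp (algebraMap A K)).toAlgebra
  haveI : IsScalarTower A K K' := IsScalarTower.of_algebraMap_eq fun _ => rfl
  haveI := EtRamBC.finite_residueField A K U (fun _ => rfl)
  haveI : IsReduced (IsLocalRing.ResidueField U ⊗[IsLocalRing.ResidueField A] IsLocalRing.ResidueField B) :=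
    isReduced_tensor_of_separable _ _ _
  obtain ⟨ϖ, hϖ⟩ := IsDiscreteValuationRing.exists_irreducible B
  have hmB := (IsDiscreteValuationRing.irreducible_iff_uniformizer ϖ).mp hϖ
  have hinjBL : Function.Injective g := fun x y hxy => IsFractionRing.injective B L (gL.injective hxy)
  have hinjBW : Function.Injective (algebraMap B W) := fun x y hxy => hinjBL (congrArg Subtype.val hxy)
  have hgenHom : EtRamBC.genHom A B U W ((1 : U) ⊗ₜ ϖ) = algebraMap B W ϖ := by
    simp [EtRamBC.genHom]
  have hdiv : ∀ x : K' ⊗[K] L, ∃ s t, ((EtRamBC.genHom A B U W t : W) : F) ≠ 0 ∧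
      algebraMap (K' ⊗[K] L) F x * (EtRamBC.genHom A B U W t : W) = (EtRamBC.genHom A B U W s : W) := by
    intro x
    induction x using TensorProduct.induction_on with
    | zero => exact ⟨0, 1, by simp, by simp⟩
    | tmul k l =>
      obtain ⟨p, q, hq, rfl⟩ := IsFractionRing.div_surjective (A := U) k
      obtain ⟨b, c, hc, rfl⟩ := IsFractionRing.div_surjective (A := B) l
      refine ⟨p ⊗ₜ b, q ⊗ₜ c, ?_, ?_⟩
      · have h1 : ((EtRamBC.genHom A B U W (q ⊗ₜ c) : W) : F) = gK q * g c := by simp [EtRamBC.genHom]; rfl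
        rw [h1]
        refine mul_ne_zero ?_ ((map_ne_zero_iff _ hinjBL).mpr (nonZeroDivisors.ne_zero hc))
        exact (map_ne_zero gK).mpr (IsFractionRing.to_map_ne_zero_of_mem_nonZeroDivisors hq)
      · have h1 : ((EtRamBC.genHom A B U W (q ⊗ₜ c) : W) : F) = gK q * g c := by simp [EtRamBC.genHom]; rfl
        have h2 : ((EtRamBC.genHom A B U W (p ⊗ₜ b) : W) : F) = gK p * g b := by simp [EtRamBC.genHom]; rfl
        rw [h1, h2]
        show algebraMap (K' ⊗[K] L) F _ * (algebraMap (K' ⊗[K] L) F _ * algebraMap (K' ⊗[K] L) F _) =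
          algebraMap (K' ⊗[K] L) F _ * algebraMap (K' ⊗[K] L) F _
        rw [← map_mul, ← map_mul, ← map_mul]
        refine congrArg (algebraMap (K' ⊗[K] L) F) ?_
        show _ ⊗ₜ[K] _ * ((_ ⊗ₜ[K] (1 : L)) * ((1 : K') ⊗ₜ[K] _)) = (_ ⊗ₜ[K] (1 : L)) * ((1 : K') ⊗ₜ[K] _)
        simp only [Algebra.TensorProduct.tmul_mul_tmul, mul_one, one_mul]
        congr 1
        · exact div_mul_cancel₀ _ (IsFractionRing.to_map_ne_zero_of_mem_nonZeroDivisors hq)
        · exact div_mul_cancel₀ _ (IsFractionRing.to_map_ne_zero_of_mem_nonZeroDivisors hc)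
    | add x y hx hy =>
      obtain ⟨s, t, ht, hst⟩ := hx
      obtain ⟨s', t', ht', hst'⟩ := hy
      refine ⟨s * t' + s' * t, t * t', ?_, ?_⟩
      · rw [map_mul]; push_cast; exact mul_ne_zero ht ht'
      · rw [map_add (EtRamBC.genHom A B U W), map_mul, map_mul, map_mul, map_add]
        push_cast
        rw [← hst, ← hst']
        ring
  letI : Algebra L F := gL.toAlgebra
  letI : Algebra B F := g.toAlgebra
  haveI : IsScalarTower B L F := IsScalarTower.of_algebraMap_eq fun _ => rfl
  haveI : Module.Finite L F := by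
    let φ : (L ⊗[K] K') →ₐ[L] F :=
      { (algebraMap (K' ⊗[K] L) F).comp (Algebra.TensorProduct.comm K L K').toAlgHom.toRingHom with
        commutes' := fun l => congrArg (algebraMap (K' ⊗[K] L) F) (Algebra.TensorProduct.comm_tmul K l (1 : K')) }
    exact Module.Finite.of_surjective φ.toLinearMap (hF.comp (Algebra.TensorProduct.comm K L K').surjective)
  have halgF : Algebra.IsAlgebraic B F := (IsFractionRing.comap_isAlgebraic_iff (A := B) (K := L) (C := F)).mpr inferInstance
  haveI := EtRamBC.isDiscreteValuationRing A K U (fun _ => rfl)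
  obtain ⟨π, hπ'⟩ := IsDiscreteValuationRing.exists_irreducible A
  have hπ := (IsDiscreteValuationRing.irreducible_iff_uniformizer π).mp hπ'
  obtain ⟨y, hy⟩ := IsDiscreteValuationRing.exists_irreducible U
  have hmU := (IsDiscreteValuationRing.irreducible_iff_uniformizer y).mp hy
  have hπUm : algebraMap A U π ∈ IsLocalRing.maximalIdeal U := by
    rw [IsLocalRing.mem_maximalIdeal, mem_nonunits_iff, isUnit_map_iff]; exact hπ'.not_isUnit
  have hπBm : algebraMap A B π ∈ IsLocalRing.maximalIdeal B := by
    rw [IsLocalRing.mem_maximalIdeal, mem_nonunits_iff, isUnit_map_iff]; exact hπ'.not_isUnit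
  have hπU0 : algebraMap A U π ≠ 0 := fun h => hπ'.ne_zero (IsFractionRing.injective A K ((algebraMap K K').injective (by
    rw [map_zero, map_zero]; exact congrArg Subtype.val h)))
  obtain ⟨eU, u, hu⟩ := IsDiscreteValuationRing.eq_unit_mul_pow_irreducible hπU0 hy
  obtain ⟨eB, v, hv⟩ := IsDiscreteValuationRing.eq_unit_mul_pow_irreducible ((map_ne_zero_iff _ hinj).mpr hπ'.ne_zero) hϖ
  have heU : Ideal.ramificationIdx' (IsLocalRing.maximalIdeal A) (IsLocalRing.maximalIdeal U) = eU :=
    EtRamIdx.eq_of_associated hπ hmU hy.ne_zero (hu ▸ associated_unit_mul_left _ _ u.isUnit)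
  have heB0 : eB ≠ 0 := fun h => hπBm (by rw [hv, h, pow_zero, mul_one]; exact v.isUnit)
  have heU0 : eU ≠ 0 := fun h => hπUm (by rw [hu, h, pow_zero, mul_one]; exact u.isUnit)
  have hgpos : 0 < Nat.gcd eU eB := Nat.gcd_pos_of_pos_left _ (Nat.pos_of_ne_zero heU0)
  obtain ⟨e', d', hcop, he', hd'⟩ := Nat.exists_coprime eU eB
  have hgk : ((Nat.gcd eU eB : ℕ) : IsLocalRing.ResidueField A) ≠ 0 := by
    obtain ⟨p, hp⟩ := CharP.exists (IsLocalRing.ResidueField A)
    rw [Ne, CharP.cast_eq_zero_iff (IsLocalRing.ResidueField A) p]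
    rcases CharP.char_is_prime_or_zero (IsLocalRing.ResidueField A) p with hpp | rfl
    · intro hdvd
      exact htU p hpp hp (heU ▸ hdvd.trans (Nat.gcd_dvd_left eU eB))
    · rw [Nat.zero_dvd]; omega
  obtain ⟨z, η, wR, hwR, hmax, hxz, -, hroot, hsurj⟩ := EtRamBC.tame A B U W π y ϖ hmU hmB hϖ (Nat.gcd eU eB) e' d'
    (fun h => heU0 (by rw [he', h, zero_mul])) (fun h => heB0 (by rw [hd', h, zero_mul])) hcop hgk u v
    (by rw [hu]; congr 2; rw [mul_comm]; exact he') (by rw [hv]; congr 2; rw [mul_comm]; exact hd')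
    (fun a b hab => Subtype.ext (gK.injective (congrArg Subtype.val hab))) hy.ne_zero hinjBW
    (fun w => by
      let ι : W →ₐ[B] F := { W.subtype with commutes' := fun _ => rfl }
      exact (isAlgebraic_algHom_iff ι Subtype.val_injective).mp (halgF.isAlgebraic _))
    (fun w => by
      obtain ⟨x, hx⟩ := hF (w : F)
      obtain ⟨s, t, ht, hst⟩ := hdiv x
      refine ⟨s, t, fun h0 => ht (by rw [h0]; rfl), Subtype.ext ?_⟩
      rw [hx] at hst
      exact hst)
  have hsepR : ∀ r, EtRamBC.resHom A B U W r ∈ separableClosure (IsLocalRing.ResidueField B) (IsLocalRing.ResidueField W) := by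
    intro r
    induction r using TensorProduct.induction_on with
    | zero => rw [map_zero]; exact zero_mem _
    | tmul x y =>
      rw [EtRamBC.resHom, Algebra.TensorProduct.lift_tmul]
      refine mul_mem ?_ ((separableClosure _ _).algebraMap_mem y)
      rw [mem_separableClosure_iff]
      exact IsSeparable.tower_top _ ((Algebra.IsSeparable.isSeparable (IsLocalRing.ResidueField A) x).map
        (IsScalarTower.toAlgHom (IsLocalRing.ResidueField A) (IsLocalRing.ResidueField U) (IsLocalRing.ResidueField W))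
        (RingHom.injective _))
    | add a b ha hb => rw [map_add]; exact add_mem ha hb
  refine ⟨?_, ?_⟩
  · show (IsLocalRing.maximalIdeal B).map (algebraMap B W) = IsLocalRing.maximalIdeal W
    have h1 : eU ∣ eB := by
      have h2 := hdvd U hdomU
      rw [EtRamIdx.eq_of_associated hπ hmB hϖ.ne_zero (hv ▸ associated_unit_mul_left _ _ v.isUnit)] at h2
      exact heU ▸ h2
    have he1 : e' = 1 := by
      rw [Nat.gcd_eq_left h1] at he'
      exact Nat.eq_of_mul_eq_mul_right (Nat.pos_of_ne_zero heU0) (by rw [one_mul]; exact he'.symm)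
    rw [he1, pow_one] at hxz
    rw [hmax, hmB, Ideal.map_span, Set.image_singleton, Ideal.span_singleton_eq_span_singleton]
    exact hxz
  · show Algebra.IsSeparable (IsLocalRing.ResidueField B) (IsLocalRing.ResidueField W)
    set S := separableClosure (IsLocalRing.ResidueField B) (IsLocalRing.ResidueField W) with hS
    have hη : IsLocalRing.residue W η ∈ S := by
      have hcS : IsLocalRing.residue W η ^ Nat.gcd eU eB = EtRamBC.resHom A B U W wR := by
        have h1 := hroot
        rw [Polynomial.eval₂_sub, Polynomial.eval₂_X_pow, Polynomial.eval₂_C, sub_eq_zero] at h1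
        exact h1
      haveI : NeZero (Nat.gcd eU eB) := ⟨hgpos.ne'⟩
      have hgW : ((Nat.gcd eU eB : ℕ) : S) ≠ 0 := by
        rw [← map_natCast (algebraMap (IsLocalRing.ResidueField B) S), ← map_natCast (algebraMap (IsLocalRing.ResidueField A) (IsLocalRing.ResidueField B))]
        exact (map_ne_zero _).mpr ((map_ne_zero _).mpr hgk)
      have hc0 : (⟨EtRamBC.resHom A B U W wR, hsepR wR⟩ : S) ≠ 0 := fun h0 =>
        (hwR.map (EtRamBC.resHom A B U W)).ne_zero (congrArg Subtype.val h0)
      have hsepη : IsSeparable S (IsLocalRing.residue W η) := by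
        refine (Polynomial.separable_X_pow_sub_C (⟨_, hsepR wR⟩ : S) hgW hc0).of_dvd (minpoly.dvd _ _ ?_)
        rw [map_sub, map_pow, Polynomial.aeval_X, Polynomial.aeval_C, hcS, sub_eq_zero]
        rfl
      haveI : Algebra.IsSeparable (IsLocalRing.ResidueField B) S := separableClosure.isSeparable _ _
      exact mem_separableClosure_iff.mpr (IsSeparable.of_algebra_isSeparable_of_isSeparable _ hsepη)
    constructor
    intro c
    obtain ⟨r, rfl⟩ := hsurj c
    rw [← mem_separableClosure_iff]
    obtain ⟨P, rfl⟩ := AdjoinRoot.mk_surjective r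
    rw [AdjoinRoot.lift_mk, Polynomial.eval₂_eq_sum, Polynomial.sum_def]
    exact sum_mem fun i _ => mul_mem (hsepR _) (pow_mem hη i)


open IsLocalRing in
lemma ramificationIdx_le {A K K₁ : Type u} [CommRing A] [IsDomain A] [IsDiscreteValuationRing A] [Field K] [Algebra A K]
    [IsFractionRing A K] [Field K₁] [Algebra K K₁] [FiniteDimensional K K₁] (U : ValuationSubring K₁)
    (hU : EtRam.Dominates A ((algebraMap K K₁).comp (algebraMap A K)) U) :
    letI : Algebra A U := (RingHom.codRestrict ((algebraMap K K₁).comp (algebraMap A K)) U hU.1).toAlgebra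
    Ideal.ramificationIdx' (maximalIdeal A) (maximalIdeal U) ≤ Module.finrank K K₁ := by
  classical
  letI : Algebra A U := (RingHom.codRestrict ((algebraMap K K₁).comp (algebraMap A K)) U hU.1).toAlgebra
  letI : Algebra A K₁ := ((algebraMap K K₁).comp (algebraMap A K)).toAlgebra
  haveI : IsScalarTower A K K₁ := IsScalarTower.of_algebraMap_eq fun _ => rfl
  haveI : IsLocalHom (algebraMap A U) := ⟨fun a ha => by
    by_contra hna
    exact ((U.valuation_lt_one_iff _).mpr (hU.2 a hna)) ha⟩
  haveI := EtRamBC.isDiscreteValuationRing A K U (fun _ => rfl)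
  obtain ⟨π, hπ'⟩ := IsDiscreteValuationRing.exists_irreducible A
  have hπ := (IsDiscreteValuationRing.irreducible_iff_uniformizer π).mp hπ'
  obtain ⟨y, hy⟩ := IsDiscreteValuationRing.exists_irreducible U
  have hmU := (IsDiscreteValuationRing.irreducible_iff_uniformizer y).mp hy
  have hπU0 : algebraMap A U π ≠ 0 := fun h => hπ'.ne_zero (IsFractionRing.injective A K ((algebraMap K K₁).injective (by
    rw [map_zero, map_zero]; exact congrArg Subtype.val h)))
  obtain ⟨e, u, hu⟩ := IsDiscreteValuationRing.eq_unit_mul_pow_irreducible hπU0 hy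
  show Ideal.ramificationIdx' (maximalIdeal A) (maximalIdeal U) ≤ _
  rw [EtRamIdx.eq_of_associated hπ hmU hy.ne_zero (hu ▸ associated_unit_mul_left _ _ u.isUnit)]
  have hA : LinearIndependent A (fun i : Fin e => ((y ^ (i : ℕ) : U) : K₁)) := by
    rw [Fintype.linearIndependent_iff]
    intro c hc
    by_contra hne
    push Not at hne
    choose m w hmw using fun i : {i : Fin e // c i ≠ 0} => IsDiscreteValuationRing.eq_unit_mul_pow_irreducible i.2 hπ'
    let ex : {i : Fin e // c i ≠ 0} → ℕ := fun i => e * m i + i.1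
    haveI : Nonempty {i : Fin e // c i ≠ 0} := nonempty_subtype.mpr hne
    obtain ⟨i₀, -, hmin⟩ := Finset.univ.exists_min_image ex Finset.univ_nonempty
    have hterm : ∀ i : {i : Fin e // c i ≠ 0}, algebraMap A U (c i.1) * y ^ (i.1 : ℕ) =
        (algebraMap A U (w i) * (u : U) ^ m i) * y ^ ex i := fun i => by
      rw [hmw i, map_mul, map_pow, hu, mul_pow, ← pow_mul, pow_add]
      ring
    have hsum : ∑ i : {i : Fin e // c i ≠ 0}, algebraMap A U (c i.1) * y ^ (i.1 : ℕ) = 0 := by
      have h1 : ∑ i : Fin e, algebraMap A U (c i) * y ^ (i : ℕ) = 0 := by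
        refine Subtype.ext ?_
        rw [AddSubmonoidClass.coe_finsetSum]
        refine Eq.trans ?_ hc
        exact Finset.sum_congr rfl fun i _ => by rw [Algebra.smul_def]; rfl
      refine Eq.trans ?_ h1
      refine ((Finset.sum_subtype (Finset.univ.filter fun i => c i ≠ 0) (fun i => by simp) (fun i => algebraMap A U (c i) * y ^ (i : ℕ))).symm.trans ?_)
      refine Finset.sum_subset (Finset.filter_subset _ _) fun i _ hi => ?_
      simp only [Finset.mem_filter, Finset.mem_univ, true_and, not_not] at hi
      rw [hi, map_zero, zero_mul]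
    rw [Finset.sum_congr rfl fun i _ => hterm i] at hsum
    have hdvd : y ^ (ex i₀ + 1) ∣ (algebraMap A U (w i₀) * (u : U) ^ m i₀) * y ^ ex i₀ := by
      rw [← Finset.add_sum_erase _ _ (Finset.mem_univ i₀), add_eq_zero_iff_eq_neg] at hsum
      rw [hsum, dvd_neg]
      refine Finset.dvd_sum fun i hi => dvd_mul_of_dvd_right (pow_dvd_pow _ ?_) _
      have h1 := hmin i (Finset.mem_univ i)
      have h2 : ex i ≠ ex i₀ := by
        intro heq
        have h3 := congrArg (· % e) heq
        simp only [ex, Nat.mul_add_mod, Nat.mod_eq_of_lt i.1.2, Nat.mod_eq_of_lt i₀.1.2] at h3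
        exact (Finset.ne_of_mem_erase hi) (Subtype.ext (Fin.ext h3))
      omega
    rw [pow_succ, mul_comm _ (y ^ ex i₀), mul_dvd_mul_iff_left (pow_ne_zero _ hy.ne_zero)] at hdvd
    exact hy.not_isUnit (isUnit_of_dvd_unit hdvd (((w i₀).isUnit.map _).mul (u.isUnit.pow _)))
  have := ((LinearIndependent.iff_fractionRing A K).mp hA).fintype_card_le_finrank
  simpa using this

lemma exists_e₀ (k : Type u) [Field k] (n : ℕ) :
    ∃ e₀ : ℕ, 0 < e₀ ∧ (e₀ : k) ≠ 0 ∧ ∀ m, 0 < m → m ≤ n → (m : k) ≠ 0 → m ∣ e₀ := by
  classical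
  refine ⟨(Finset.Icc 1 n).prod fun m => if (m : k) = 0 then 1 else m, Finset.prod_pos fun m hm => ?_, ?_, fun m h1 h2 h3 => ?_⟩
  · have := (Finset.mem_Icc.mp hm).1
    split_ifs <;> omega
  · rw [Nat.cast_prod]
    refine Finset.prod_ne_zero_iff.mpr fun m _ => ?_
    split_ifs with h
    · simp
    · exact h
  · have := Finset.dvd_prod_of_mem (fun m : ℕ => if (m : k) = 0 then 1 else m) (s := Finset.Icc 1 n) (Finset.mem_Icc.mpr ⟨h1, h2⟩)
    simpa [h3] using this


open Polynomial IsLocalRing in
/-- Let `K` be the fraction field of a discrete valuation ring `A`, let `π` be a uniformizer of `A`, and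
let `L` be a finite separable extension of `K` which is tamely ramified with respect to `A`. Then
there is `e₀ ≥ 1` invertible in the residue field of `A` such that for each `d ≥ 1` that is also
invertible in the residue field, setting `e = d e₀` and `A' = A[z]/(z^e - π)`, there is a finite
separable extension `L'` of `K` into which `L` embeds over `K`, carrying an `A'`-algebra structure
extending `A → K → L'`, such that `L'` is unramified with respect to `A'`. (The local-ring instance
on `A'`, which holds, is quantified as a hypothesis.) -/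
theorem result
    {A K L : Type u} [CommRing A] [IsDomain A]
    [IsDiscreteValuationRing A] [Field K] [Algebra A K] [IsFractionRing A K] [Field L] [Algebra K L]
    [Algebra A L] [IsScalarTower A K L] [FiniteDimensional K L] [Algebra.IsSeparable K L]
    (π : A) (hπ : maximalIdeal A = Ideal.span {π}) (h : EtRam.IsTamelyRamified A (algebraMap A L)) :
    ∃ e₀ : ℕ, 0 < e₀ ∧ (e₀ : ResidueField A) ≠ 0 ∧
      ∀ d : ℕ, 0 < d → (d : ResidueField A) ≠ 0 →
        ∃ (L' : Type u) (_ : Field L') (_ : Algebra K L')
          (_ : Algebra (AdjoinRoot (X ^ (d * e₀) - C π : A[X])) L') (_ : L →ₐ[K] L'),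
          FiniteDimensional K L' ∧ Algebra.IsSeparable K L' ∧
          (algebraMap (AdjoinRoot (X ^ (d * e₀) - C π : A[X])) L').comp (AdjoinRoot.of (X ^ (d * e₀) - C π)) =
            (algebraMap K L').comp (algebraMap A K) ∧
          ∀ [IsLocalRing (AdjoinRoot (X ^ (d * e₀) - C π : A[X]))],
            EtRam.IsUnramifiedExt (AdjoinRoot (X ^ (d * e₀) - C π : A[X]))
              (algebraMap (AdjoinRoot (X ^ (d * e₀) - C π : A[X])) L') := by
  classical
  have halg : algebraMap A L = (algebraMap K L).comp (algebraMap A K) := IsScalarTower.algebraMap_eq A K L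
  rw [halg] at h
  obtain ⟨e₀, he₀, hek, he₀dvd⟩ := exists_e₀ (IsLocalRing.ResidueField A) (Module.finrank K L)
  refine ⟨e₀, he₀, hek, fun d hd hdk => ?_⟩
  set e := d * e₀ with hedef
  have he : 0 < e := Nat.mul_pos hd he₀
  have hek' : (e : IsLocalRing.ResidueField A) ≠ 0 := by rw [hedef, Nat.cast_mul]; exact mul_ne_zero hdk hek
  have hπ' : Irreducible π := (IsDiscreteValuationRing.irreducible_iff_uniformizer π).mpr hπ
  set f : Polynomial A := X ^ e - C π with hf
  have hmon : f.Monic := monic_X_pow_sub_C π he.ne'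
  have hdeg : f.natDegree = e := natDegree_X_pow_sub_C
  have heis : f.IsEisensteinAt (IsLocalRing.maximalIdeal A) := by
    refine hmon.isEisensteinAt_of_mem_of_notMem (Ideal.IsMaximal.ne_top inferInstance) (fun {i} hi => ?_) ?_
    · rw [hdeg] at hi
      rw [hf, coeff_sub, coeff_X_pow, if_neg hi.ne, zero_sub, coeff_C]
      refine neg_mem ?_
      split_ifs
      · rw [hπ]; exact Ideal.mem_span_singleton_self π
      · exact zero_mem _
    · rw [hf, coeff_sub, coeff_X_pow, if_neg (by omega), zero_sub, coeff_C_zero, neg_mem_iff, hπ, Ideal.span_singleton_pow,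
        Ideal.mem_span_singleton]
      rintro ⟨c, hc⟩
      refine hπ'.not_isUnit (IsUnit.of_mul_eq_one c (mul_left_cancel₀ hπ'.ne_zero ?_))
      rw [← mul_assoc, ← pow_two, ← hc, mul_one]
  haveI := EtRamEis.isDomain hmon heis (by omega)
  obtain ⟨_, hdvr, hmax, hassoc, hinjA⟩ := EtRamEis.exists_isDVR hmon heis (by omega)
  haveI := hdvr
  have hirrK : Irreducible (f.map (algebraMap A K)) :=
    (hmon.irreducible_iff_irreducible_map_fraction_map).mp (EtRamEis.irreducible hmon heis (by omega))
  haveI : Fact (Irreducible (f.map (algebraMap A K))) := ⟨hirrK⟩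
  let E := AdjoinRoot (f.map (algebraMap A K))
  have hroot : f.eval₂ (algebraMap A E) (AdjoinRoot.root (f.map (algebraMap A K))) = 0 := by
    rw [IsScalarTower.algebraMap_eq A K E, ← eval₂_map]
    exact AdjoinRoot.eval₂_root _
  let ψ : AdjoinRoot f →+* E := AdjoinRoot.lift (algebraMap A E) (AdjoinRoot.root _) hroot
  letI : Algebra (AdjoinRoot f) E := ψ.toAlgebra
  have hψinj : Function.Injective ψ := by
    rw [injective_iff_map_eq_zero]
    intro z hz
    obtain ⟨P, rfl⟩ := AdjoinRoot.mk_surjective z
    have h1 : AdjoinRoot.mk (f.map (algebraMap A K)) (P.map (algebraMap A K)) = 0 := by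
      rw [← AdjoinRoot.aeval_eq, aeval_map_algebraMap, aeval_def]
      simpa [ψ, AdjoinRoot.lift_mk] using hz
    rw [AdjoinRoot.mk_eq_zero, Polynomial.map_dvd_map _ (IsFractionRing.injective A K) hmon] at h1
    exact AdjoinRoot.mk_eq_zero.mpr h1
  have hgenE : ∀ z : E, ∃ P : Polynomial K, aeval (AdjoinRoot.root (f.map (algebraMap A K))) P = z := fun z => by
    obtain ⟨P, rfl⟩ := AdjoinRoot.mk_surjective z
    exact ⟨P, AdjoinRoot.aeval_eq P⟩
  haveI : IsFractionRing (AdjoinRoot f) E := by
    haveI : FaithfulSMul (AdjoinRoot f) E := (faithfulSMul_iff_algebraMap_injective _ _).mpr hψinj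
    refine IsFractionRing.of_field (AdjoinRoot f) E fun z => ?_
    obtain ⟨a, b, -, hab⟩ := EtRamEis.exists_div_of_gen hroot hgenE z
    exact ⟨a, b, hab⟩
  haveI : FiniteDimensional K E := (AdjoinRoot.powerBasis hirrK.ne_zero).finite
  haveI : IsScalarTower A (AdjoinRoot f) E := IsScalarTower.of_algebraMap_eq fun a => (AdjoinRoot.lift_of hroot).symm
  haveI hloc : IsLocalHom (algebraMap A (AdjoinRoot f)) := ⟨fun a ha => by
    by_contra hna
    obtain ⟨c, rfl⟩ := Ideal.mem_span_singleton.mp (hπ ▸ (IsLocalRing.mem_maximalIdeal a).mpr hna)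
    rw [map_mul] at ha
    have h2 := (hassoc π hπ).isUnit (isUnit_of_mul_isUnit_left ha)
    rw [isUnit_pow_iff (by omega)] at h2
    exact (hmax ▸ Ideal.mem_span_singleton_self (AdjoinRoot.root f) : AdjoinRoot.root f ∈ IsLocalRing.maximalIdeal (AdjoinRoot f)) h2⟩
  have hroot0 : AdjoinRoot.root f ≠ 0 := fun h0 => hπ'.ne_zero (hinjA (by
    rw [map_zero]
    have := hassoc π hπ
    rw [h0, zero_pow (by omega), associated_zero_iff_eq_zero] at this
    exact this))
  have heB : Ideal.ramificationIdx' (IsLocalRing.maximalIdeal A) (IsLocalRing.maximalIdeal (AdjoinRoot f)) = e := by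
    have := hassoc π hπ
    rw [hdeg] at this
    exact EtRamIdx.eq_of_associated hπ hmax hroot0 this
  obtain ⟨m, hm⟩ := Ideal.exists_maximal (L ⊗[K] E)
  letI : Field ((L ⊗[K] E) ⧸ m) := Ideal.Quotient.field m
  haveI : FiniteDimensional K ((L ⊗[K] E) ⧸ m) := inferInstance
  have hsepE : Algebra.IsSeparable K E := by
    have heK : (e : K) ≠ 0 := by
      intro h0
      apply hek'
      rw [← map_natCast (algebraMap A K), map_eq_zero_iff _ (IsFractionRing.injective A K)] at h0
      rw [← map_natCast (IsLocalRing.residue A), h0, map_zero]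
    have hys : IsSeparable K (AdjoinRoot.root (f.map (algebraMap A K))) := by
      rw [IsSeparable]
      refine (show (f.map (algebraMap A K)).Separable by
        rw [hf]; simp only [Polynomial.map_sub, Polynomial.map_pow, map_X, map_C]
        exact separable_X_pow_sub_C _ heK ((map_ne_zero_iff _ (IsFractionRing.injective A K)).mpr hπ'.ne_zero)).of_dvd (minpoly.dvd K _ ?_)
      rw [AdjoinRoot.aeval_eq, AdjoinRoot.mk_self]
    haveI := (IntermediateField.isSeparable_adjoin_simple_iff_isSeparable K E).mpr hys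
    exact AlgEquiv.Algebra.isSeparable ((IntermediateField.equivOfEq (IntermediateField.adjoin_root_eq_top _)).trans IntermediateField.topEquiv)
  haveI := hsepE
  have hsepQ : Algebra.IsSeparable K ((L ⊗[K] E) ⧸ m) := by
    constructor
    intro z
    obtain ⟨w, rfl⟩ := Ideal.Quotient.mk_surjective z
    rw [← mem_separableClosure_iff]
    induction w using TensorProduct.induction_on with
    | zero => rw [map_zero]; exact zero_mem _
    | tmul x y =>
      rw [← mul_one x, ← one_mul y, ← Algebra.TensorProduct.tmul_mul_tmul, map_mul]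
      refine mul_mem ?_ ?_ <;> rw [mem_separableClosure_iff]
      · exact (Algebra.IsSeparable.isSeparable K x).map ((Ideal.Quotient.mkₐ K m).comp Algebra.TensorProduct.includeLeft) (RingHom.injective _)
      · exact (Algebra.IsSeparable.isSeparable K y).map ((Ideal.Quotient.mkₐ K m).comp Algebra.TensorProduct.includeRight) (RingHom.injective _)
    | add a b ha hb => rw [map_add]; exact add_mem ha hb
  let φA : AdjoinRoot f →+* (L ⊗[K] E) ⧸ m := (algebraMap (L ⊗[K] E) ((L ⊗[K] E) ⧸ m)).comp
    ((Algebra.TensorProduct.includeRight : E →ₐ[K] L ⊗[K] E).toRingHom.comp (algebraMap (AdjoinRoot f) E))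
  refine ⟨(L ⊗[K] E) ⧸ m, inferInstance, inferInstance, φA.toAlgebra, (Ideal.Quotient.mkₐ K m).comp Algebra.TensorProduct.includeLeft,
    inferInstance, hsepQ, ?_, ?_⟩
  · refine RingHom.ext fun a => ?_
    show Ideal.Quotient.mk m ((Algebra.TensorProduct.includeRight : E →ₐ[K] L ⊗[K] E) (ψ (AdjoinRoot.of f a))) = _
    rw [show ψ (AdjoinRoot.of f a) = algebraMap A E a from AdjoinRoot.lift_of hroot, IsScalarTower.algebraMap_apply A K E,
      AlgHom.commutes]
    rfl
  intro _
  refine unramified_of_dvd A (AdjoinRoot f) K E L hinjA h (fun U hU => ?_) ((L ⊗[K] E) ⧸ m) Ideal.Quotient.mk_surjective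
  letI : Algebra A U := (RingHom.codRestrict ((algebraMap K L).comp (algebraMap A K)) U hU.1).toAlgebra
  haveI : IsLocalHom (algebraMap A U) := ⟨fun a ha => by
    by_contra hna
    exact ((U.valuation_lt_one_iff _).mpr (hU.2 a hna)) ha⟩
  obtain ⟨-, htU⟩ := @h U hU inferInstance
  rw [heB]
  suffices hpos : 0 < Ideal.ramificationIdx' (IsLocalRing.maximalIdeal A) (IsLocalRing.maximalIdeal U) by
    refine dvd_mul_of_dvd_right (he₀dvd _ hpos (ramificationIdx_le U hU) ?_) d
    intro h0
    obtain ⟨p, hp⟩ := CharP.exists (IsLocalRing.ResidueField A)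
    rw [CharP.cast_eq_zero_iff (IsLocalRing.ResidueField A) p] at h0
    rcases CharP.char_is_prime_or_zero (IsLocalRing.ResidueField A) p with hpp | rfl
    · exact htU p hpp hp h0
    · rw [Nat.zero_dvd] at h0; omega
  · letI : Algebra A L := inferInstance
    haveI : IsScalarTower A K L := inferInstance
    haveI := EtRamBC.isDiscreteValuationRing A K U (fun a => (IsScalarTower.algebraMap_apply A K L a).symm)
    obtain ⟨y, hy⟩ := IsDiscreteValuationRing.exists_irreducible U
    have hmU := (IsDiscreteValuationRing.irreducible_iff_uniformizer y).mp hy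
    have hπU0 : algebraMap A U π ≠ 0 := fun h0 => hπ'.ne_zero (IsFractionRing.injective A K ((algebraMap K L).injective (by
      rw [map_zero, map_zero]; exact congrArg Subtype.val h0)))
    obtain ⟨eU, u, hu⟩ := IsDiscreteValuationRing.eq_unit_mul_pow_irreducible hπU0 hy
    rw [EtRamIdx.eq_of_associated hπ hmU hy.ne_zero (hu ▸ associated_unit_mul_left _ _ u.isUnit)]
    refine Nat.pos_of_ne_zero fun h0 => ?_
    have hπUm : algebraMap A U π ∈ IsLocalRing.maximalIdeal U := by
      rw [IsLocalRing.mem_maximalIdeal, mem_nonunits_iff, isUnit_map_iff]; exact hπ'.not_isUnit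
    exact hπUm (by rw [hu, h0, pow_zero, mul_one]; exact u.isUnit)

end Groth.Agent.S9329
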