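import Groth.Statements.S9328
import Mathlib
import Groth.Agent.EtRamEis.Basic
import Groth.Agent.EtRamIdx.Basic
import Groth.Agent.EtRamBC.Basic
import Groth.Agent.S9329
import Groth.Agent.S1989

set_option autoImplicit false
universe u
open EtRam

namespace Groth.Agent.S9328

open Polynomial IsLocalRing in
/-- Let `K` be the fraction field of a discrete valuation ring `A`, let `π` be a uniformizer of `A`, and
let `L` be a finite separable extension of `K`. For `e ≥ 1` write `A' = A[z]/(z^e - π)`, a discrete
valuation ring whose fraction field is `K' = K[π^{1/e}]`. Then `L` is tamely ramified with respect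
to `A` if and only if there exist `e ≥ 1` invertible in the residue field of `A` and a finite
separable extension `L'` of `K` into which `L` embeds over `K`, carrying an `A'`-algebra structure
extending `A → K → L'` (so `K' ⊆ L'`), such that `L'` is unramified with respect to `A'`. (The
local-ring instance on `A'`, which holds, is quantified as a hypothesis.) -/
theorem result {A K L : Type u} [CommRing A] [IsDomain A]
    [IsDiscreteValuationRing A] [Field K] [Algebra A K] [IsFractionRing A K] [Field L] [Algebra K L]
    [Algebra A L] [IsScalarTower A K L] [FiniteDimensional K L] [Algebra.IsSeparable K L]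
    (π : A) (hπ : maximalIdeal A = Ideal.span {π}) :
    EtRam.IsTamelyRamified A (algebraMap A L) ↔
      ∃ e : ℕ, 0 < e ∧ (e : ResidueField A) ≠ 0 ∧
        ∃ (L' : Type u) (_ : Field L') (_ : Algebra K L')
          (_ : Algebra (AdjoinRoot (X ^ e - C π : A[X])) L') (_ : L →ₐ[K] L'),
          FiniteDimensional K L' ∧ Algebra.IsSeparable K L' ∧
          (algebraMap (AdjoinRoot (X ^ e - C π : A[X])) L').comp (AdjoinRoot.of (X ^ e - C π)) =
            (algebraMap K L').comp (algebraMap A K) ∧
          ∀ [IsLocalRing (AdjoinRoot (X ^ e - C π : A[X]))],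
            EtRam.IsUnramifiedExt (AdjoinRoot (X ^ e - C π : A[X]))
              (algebraMap (AdjoinRoot (X ^ e - C π : A[X])) L') := by
  classical
  refine ⟨fun h => ?_, ?_⟩
  · obtain ⟨e₀, he₀, hek, hd⟩ := Groth.Agent.S9329.result (K := K) (L := L) π hπ h
    have := hd 1 one_pos (by rw [Nat.cast_one]; exact one_ne_zero)
    rw [one_mul] at this
    exact ⟨e₀, he₀, hek, this⟩
  rintro ⟨e, he, hek, hrest⟩
  have hπ' : Irreducible π := (IsDiscreteValuationRing.irreducible_iff_uniformizer π).mpr hπ
  set f : Polynomial A := X ^ e - C π with hf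
  obtain ⟨L', _, _, _, φ, hfd, hsep, hcomp, hunr⟩ := hrest
  haveI := hfd
  haveI := hsep
  have hmon : f.Monic := monic_X_pow_sub_C π he.ne'
  have hdeg : f.natDegree = e := natDegree_X_pow_sub_C
  have heis : f.IsEisensteinAt (IsLocalRing.maximalIdeal A) := by
    refine hmon.isEisensteinAt_of_mem_of_notMem (Ideal.IsMaximal.ne_top inferInstance) (fun {i} hi => ?_) ?_
    · rw [hdeg] at hi
      rw [hf, coeff_sub, coeff_X_pow, if_neg hi.ne, zero_sub, coeff_C]
      refine neg_mem ?_
      split_ifs
      · rw [hπ]; exact Ideal.mem_span_singleton_self π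
      · exact zero_mem _
    · rw [hf, coeff_sub, coeff_X_pow, if_neg (by omega), zero_sub, coeff_C_zero, neg_mem_iff, hπ, Ideal.span_singleton_pow,
        Ideal.mem_span_singleton]
      rintro ⟨c, hc⟩
      refine hπ'.not_isUnit (IsUnit.of_mul_eq_one c (mul_left_cancel₀ hπ'.ne_zero ?_))
      rw [← mul_assoc, ← pow_two, ← hc, mul_one]
  haveI := EtRamEis.isDomain hmon heis (by omega)
  obtain ⟨_, hdvr, hmax, hassoc, hinjA⟩ := EtRamEis.exists_isDVR hmon heis (by omega)
  haveI := hdvr
  set g := (algebraMap K L').comp (algebraMap A K) with hg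
  set y := algebraMap (AdjoinRoot f) L' (AdjoinRoot.root f) with hy
  have hyroot : f.eval₂ g y = 0 := by
    rw [← hcomp, hy, ← hom_eval₂, AdjoinRoot.eval₂_root, map_zero]
  have hlift : algebraMap (AdjoinRoot f) L' = AdjoinRoot.lift g y hyroot := by
    refine RingHom.ext fun z => ?_
    obtain ⟨P, rfl⟩ := AdjoinRoot.mk_surjective z
    rw [AdjoinRoot.lift_mk, ← hcomp, hy, ← hom_eval₂, ← AdjoinRoot.algebraMap_eq, ← aeval_def, AdjoinRoot.aeval_eq]
  have hL' : EtRam.IsTamelyRamified A g := by
    intro W hW hloc
    have hv := EtRamEis.valuation_root_lt_one hmon heis (by omega) hyroot W hW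
    have hmem : ∀ a, algebraMap (AdjoinRoot f) L' a ∈ W := fun a => by
      rw [hlift]; exact EtRamEis.lift_mem hmon heis (by omega) hyroot W hW a
    have hdom : EtRam.Dominates (AdjoinRoot f) (algebraMap (AdjoinRoot f) L') W := by
      refine ⟨hmem, fun a ha => ?_⟩
      obtain ⟨b, rfl⟩ := Ideal.mem_span_singleton.mp (hmax ▸ ha)
      rw [map_mul, map_mul]
      exact (mul_le_of_le_one_right zero_le ((W.valuation_le_one_iff _).mpr (hmem b))).trans_lt hv
    letI : Algebra (AdjoinRoot f) W := (RingHom.codRestrict (algebraMap (AdjoinRoot f) L') W hdom.1).toAlgebra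
    haveI hlW : IsLocalHom (algebraMap (AdjoinRoot f) W) := ⟨fun a ha => by
      by_contra hna
      exact ((W.valuation_lt_one_iff _).mpr (hdom.2 a hna)) ha⟩
    obtain ⟨hwu, hsepW⟩ := @hunr inferInstance W hdom hlW
    letI : Algebra A W := (RingHom.codRestrict g W hW.1).toAlgebra
    haveI : IsLocalHom (algebraMap A W) := hloc
    haveI : IsScalarTower A (AdjoinRoot f) W := IsScalarTower.of_algebraMap_eq fun a => Subtype.ext (RingHom.congr_fun hcomp a).symm
    haveI : IsLocalHom (algebraMap A (AdjoinRoot f)) := ⟨fun a ha => (isUnit_map_iff (algebraMap A W) a).mp (by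
      rw [IsScalarTower.algebraMap_apply A (AdjoinRoot f) W]; exact ha.map _)⟩
    refine ⟨?_, fun p hp hc => ?_⟩
    · show Algebra.IsSeparable (ResidueField A) (ResidueField W)
      haveI : Algebra.IsSeparable (ResidueField (AdjoinRoot f)) (ResidueField W) := hsepW
      haveI : IsScalarTower (ResidueField A) (ResidueField (AdjoinRoot f)) (ResidueField W) := EtRamBC.tower_residue
      haveI : Algebra.IsSeparable (ResidueField A) (ResidueField (AdjoinRoot f)) := ⟨fun r => by
        obtain ⟨z, rfl⟩ := residue_surjective r
        obtain ⟨a, w, rfl⟩ := EtRamEis.exists_split z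
        rw [map_add, (residue_eq_zero_iff (AdjoinRoot.root f * w)).mpr (Ideal.mul_mem_right _ _ (hmax ▸ Ideal.mem_span_singleton_self _)), add_zero]
        exact isSeparable_algebraMap (residue A a)⟩
      exact Algebra.IsSeparable.trans (ResidueField A) (ResidueField (AdjoinRoot f)) (ResidueField W)
    · have h1 : maximalIdeal W = Ideal.span {algebraMap (AdjoinRoot f) W (AdjoinRoot.root f)} := by
        have h2 : (maximalIdeal (AdjoinRoot f)).map (algebraMap (AdjoinRoot f) W) = maximalIdeal W := hwu
        rw [← h2, hmax, Ideal.map_span, Set.image_singleton]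
      have h3 : Associated (algebraMap A W π) (algebraMap (AdjoinRoot f) W (AdjoinRoot.root f) ^ e) := by
        rw [IsScalarTower.algebraMap_apply A (AdjoinRoot f) W, ← map_pow]
        exact (hdeg ▸ hassoc π hπ).map _
      have h4 : algebraMap (AdjoinRoot f) W (AdjoinRoot.root f) ≠ 0 := by
        intro h0
        rw [h0, zero_pow he.ne', associated_zero_iff_eq_zero] at h3
        exact hπ'.ne_zero (IsFractionRing.injective A K ((algebraMap K L').injective (by
          rw [map_zero, map_zero]; exact congrArg Subtype.val h3)))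
      show ¬ p ∣ Ideal.ramificationIdx' (maximalIdeal A) (maximalIdeal W)
      rw [EtRamIdx.eq_of_associated hπ h1 h4 h3]
      haveI := hc
      rwa [← CharP.cast_eq_zero_iff (ResidueField A) p]
  rw [IsScalarTower.algebraMap_eq A K L]
  letI : Algebra L L' := φ.toRingHom.toAlgebra
  haveI : IsScalarTower K L L' := IsScalarTower.of_algebraMap_eq fun x => (φ.commutes x).symm
  exact (Groth.Agent.S1989.result A K L L').1 hL'

end Groth.Agent.S9328
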