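import Groth.Statements.S9330
import Groth.Agent.Hensel.DirectLim
import Groth.Agent.Hensel.Hfp

set_option autoImplicit false
universe u
open Hensel

namespace Groth.Agent.S9330

/-- Let `(A_i, I_i)` be a directed system of pairs (rings `A_i` with ideals `I_i`, the transition maps
sending `I_i` into `I_j`), with colimit ring `A` and `I ⊆ A` the ideal generated by (equivalently,
the union of) the images of the `I_i`. For each `i` let `B_i` be a henselization of the pair `(A_i,
I_i)`, with the compatible transition maps `B_i → B_j` over `A_i → A_j` (these are the induced ones,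
being unique), and give the colimit of the `B_i` the `A`-algebra structure induced by the maps `A_i
→ B_i`. Then `colim B_i`, with the extension of `I`, is a henselization of the pair `(A, I)`. (The
index set is taken in the universe of the rings; the statement fails for non-filtered colimits.) -/
theorem result {ι : Type u} [Preorder ι] [IsDirectedOrder ι] [Nonempty ι]
    (G : ι → Type u) [∀ i, CommRing (G i)] (f : ∀ i j : ι, i ≤ j → (G i →+* G j))
    [DirectedSystem G (fun i j h => f i j h)] (I : ∀ i, Ideal (G i))
    (hI : ∀ (i j : ι) (h : i ≤ j), (I i).map (f i j h) ≤ I j)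
    (B : ι → Type u) [∀ i, CommRing (B i)] [∀ i, Algebra (G i) (B i)]
    (hB : ∀ i, Hens2.IsPairHenselization (G i) (I i) (B i))
    (g : ∀ i j : ι, i ≤ j → (B i →+* B j)) [DirectedSystem B (fun i j h => g i j h)]
    (hg : ∀ (i j : ι) (h : i ≤ j), (g i j h).comp (algebraMap (G i) (B i)) = (algebraMap (G j) (B j)).comp (f i j h))
    [Algebra (DirectLimit G f) (DirectLimit B g)]
    (halg : ∀ (i : ι) (x : G i), algebraMap (DirectLimit G f) (DirectLimit B g) (DirectLimit.Ring.of G f i x) =
      DirectLimit.Ring.of B g i (algebraMap (G i) (B i) x)) :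
    Hens2.IsPairHenselization (DirectLimit G f) (⨆ i, (I i).map (DirectLimit.Ring.of G f i))
      (DirectLimit B g) := by
  let J : ∀ i, Ideal (B i) := fun i ↦ (I i).map (algebraMap (G i) (B i))
  have hJ : ∀ (i j : ι) (h : i ≤ j), (J i).map (g i j h) ≤ J j := fun i j h ↦ by
    simp only [J, Ideal.map_map, hg i j h]
    rw [← Ideal.map_map]
    exact Ideal.map_mono (hI i j h)
  have heq : ∀ i, (algebraMap (DirectLimit G f) (DirectLimit B g)).comp (DirectLimit.Ring.of G f i) =
      (DirectLimit.Ring.of B g i).comp (algebraMap (G i) (B i)) := fun i ↦ RingHom.ext (halg i)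
  have hmap : (⨆ i, (I i).map (DirectLimit.Ring.of G f i)).map (algebraMap (DirectLimit G f) (DirectLimit B g)) =
      ⨆ i, (J i).map (DirectLimit.Ring.of B g i) := by
    simp only [J, Ideal.map_iSup, Ideal.map_map, heq]
  refine ⟨hmap ▸ Groth.Agent.Hensel.henselianRing_directLimit g J hJ (fun i ↦ (hB i).1), fun C _ L F hC hF ↦ ?_⟩
  rw [Ideal.map_iSup, iSup_le_iff] at hF
  have hFi : ∀ i, (I i).map (F.comp (DirectLimit.Ring.of G f i)) ≤ L := fun i ↦ by
    rw [← Ideal.map_map]; exact hF i
  choose u hu huniq using fun i ↦ (hB i).2 C L _ hC (hFi i)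
  have hcompat : ∀ i j (h : i ≤ j) (x : B i), u j (g i j h x) = u i x := fun i j h x ↦
    DFunLike.congr_fun (huniq i ((u j).comp (g i j h)) (by
      show ((u j).comp (g i j h)).comp (algebraMap (G i) (B i)) = F.comp (DirectLimit.Ring.of G f i)
      rw [RingHom.comp_assoc, hg i j h, ← RingHom.comp_assoc, hu j, RingHom.comp_assoc]
      congr 1
      exact RingHom.ext fun y ↦ Groth.Agent.Hensel.of_map f h y)) x
  refine ⟨DirectLimit.Ring.lift B g C u hcompat, DirectLimit.Ring.hom_ext _ fun i ↦ ?_, fun h hh ↦
    DirectLimit.Ring.hom_ext _ fun i ↦ ?_⟩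
  · rw [RingHom.comp_assoc, heq, ← RingHom.comp_assoc, DirectLimit.Ring.lift_comp_of, hu i]
  · rw [DirectLimit.Ring.lift_comp_of]
    refine huniq i _ ?_
    show (h.comp (DirectLimit.Ring.of B g i)).comp (algebraMap (G i) (B i)) = _
    rw [RingHom.comp_assoc, ← heq, ← RingHom.comp_assoc]
    exact congrArg (fun r : DirectLimit G f →+* C ↦ r.comp (DirectLimit.Ring.of G f i)) hh

end Groth.Agent.S9330
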