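import Groth.Statements.S9336
import Groth.Agent.FlatMorLib.FiberPoints

set_option autoImplicit false
universe u
open QFin

namespace Groth.Agent.S9336

open AlgebraicGeometry CategoryTheory in
/-- Let f : X → Y be surjective and g : Y → S locally of finite type. If g ∘ f is locally quasi-finite
(and locally of finite type), then g is locally quasi-finite. -/
theorem result {X Y S : Scheme.{u}} (f : X ⟶ Y) (g : Y ⟶ S) [Surjective f]
    [LocallyQuasiFinite (f ≫ g)] [LocallyOfFiniteType (f ≫ g)] [LocallyOfFiniteType g] :
    LocallyQuasiFinite g := by
  exact Groth.Agent.FlatMorLib.locallyQuasiFinite_of_forall_finite_residueFieldMap g fun y ↦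
    Groth.Agent.FlatMorLib.finite_residueFieldMap_of_comp_surjective f g y (f.surjective y)

end Groth.Agent.S9336
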