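import Groth.Statements.S9338
import Groth.Agent.FtPtsLib.Basic

set_option autoImplicit false
universe u
open FtPts

namespace Groth.Agent.S9338

open AlgebraicGeometry CategoryTheory in
/-- For an Artinian local ring A with residue field κ, a morphism f : Spec A → S is (locally) of finite
type exactly when the composite Spec κ → Spec A → S is. -/
theorem result (S : Scheme.{u}) (A : Type u) [CommRing A] [IsArtinianRing A] [IsLocalRing A]
    (f : Spec (CommRingCat.of A) ⟶ S) :
    LocallyOfFiniteType f ↔
      LocallyOfFiniteType (Spec.map (CommRingCat.ofHom (IsLocalRing.residue A)) ≫ f) := by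
  refine ⟨fun h => ?_, fun h => ?_⟩
  · haveI : LocallyOfFiniteType (Spec.map (CommRingCat.ofHom (IsLocalRing.residue A))) :=
      (HasRingHomProperty.Spec_iff (P := @LocallyOfFiniteType)).mpr
        (RingHom.FiniteType.of_surjective _ IsLocalRing.residue_surjective)
    infer_instance
  haveI : Subsingleton (Spec (CommRingCat.of A)) :=
    inferInstanceAs (Subsingleton (PrimeSpectrum A))
  let x : Spec (CommRingCat.of A) := IsLocalRing.closedPoint A
  obtain ⟨_, ⟨V, hV, rfl⟩, huV, -⟩ :=
    S.isBasis_affineOpens.exists_subset_of_mem_open (Set.mem_univ (f.base x)) isOpen_univ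
  have hle : Set.range f ⊆ Set.range hV.fromSpec := by
    rw [IsAffineOpen.range_fromSpec]
    rintro _ ⟨y, rfl⟩
    rw [Subsingleton.elim y x]; exact huV
  obtain ⟨ψ, hψ⟩ := Spec.map_surjective (IsOpenImmersion.lift hV.fromSpec f hle)
  have hfac : Spec.map ψ ≫ hV.fromSpec = f := by rw [hψ, IsOpenImmersion.lift_fac]
  rw [← hfac, ← Category.assoc, ← Spec.map_comp] at h
  have h2 := (HasRingHomProperty.Spec_iff (P := @LocallyOfFiniteType)).mp
    (@locallyOfFiniteType_of_comp _ _ _ _ hV.fromSpec h)
  have h3 : ψ.hom.FiniteType := by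
    refine Groth.Agent.FtPtsLib.finiteType_of_nilpotent ψ.hom (IsLocalRing.residue A)
      IsLocalRing.residue_surjective (IsNoetherian.noetherian _) ?_ h2
    rw [IsLocalRing.ker_residue, ← IsLocalRing.jacobson_eq_maximalIdeal ⊥ bot_ne_top]
    exact IsArtinianRing.isNilpotent_jacobson_bot
  haveI := (HasRingHomProperty.Spec_iff (P := @LocallyOfFiniteType)).mpr h3
  rw [← hfac]
  infer_instance

end Groth.Agent.S9338
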