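import Groth.Statements.S9340
import Groth.Agent.FtPtsLib.Basic

set_option autoImplicit false
universe u
open FtPts

namespace Groth.Agent.S9340

open AlgebraicGeometry CategoryTheory in
/-- A surjective morphism locally of finite type maps the set of finite type points of the source onto
the set of finite type points of the target. -/
theorem result {T S : Scheme.{u}} (f : T ⟶ S) [LocallyOfFiniteType f] [Surjective f] :
    f.base '' {t : ↑T | LocallyOfFiniteType (T.fromSpecResidueField t)} =
      {s : ↑S | LocallyOfFiniteType (S.fromSpecResidueField s)} := by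
  apply Set.Subset.antisymm
  · rintro _ ⟨t, ht, rfl⟩
    haveI : LocallyOfFiniteType (T.fromSpecResidueField t) := ht
    rw [Set.mem_ofPred_eq, Groth.Agent.FtPtsLib.locallyOfFiniteType_fromSpecResidueField_iff]
    have := Groth.Agent.FtPtsLib.closedInAffine_of_specField (k := T.residueField t)
      (T.fromSpecResidueField t ≫ f) default
    rwa [Scheme.Hom.comp_apply, Scheme.fromSpecResidueField_apply] at this
  · intro s hs
    haveI : LocallyOfFiniteType (S.fromSpecResidueField s) := hs
    let P := Limits.pullback (S.fromSpecResidueField s) f
    let p₁ : P ⟶ Spec (S.residueField s) := Limits.pullback.fst (S.fromSpecResidueField s) f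
    let p₂ : P ⟶ T := Limits.pullback.snd (S.fromSpecResidueField s) f
    haveI : JacobsonSpace (Spec (S.residueField s)) :=
      inferInstanceAs (JacobsonSpace (PrimeSpectrum (S.residueField s)))
    haveI : JacobsonSpace P := LocallyOfFiniteType.jacobsonSpace p₁
    obtain ⟨t0, ht0⟩ := f.surjective s
    obtain ⟨z0, -, -⟩ := Scheme.Pullback.exists_preimage_pullback (f := S.fromSpecResidueField s)
      (g := f) default t0 (by rw [Scheme.fromSpecResidueField_apply, ht0])
    obtain ⟨z, -, hz⟩ := nonempty_inter_closedPoints (X := P) (Z := Set.univ) ⟨z0, trivial⟩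
      isClosed_univ.isLocallyClosed
    haveI : LocallyOfFiniteType (P.fromSpecResidueField z) := by
      haveI : IsClosedImmersion (P.fromSpecResidueField z) :=
        IsClosedImmersion.of_isPreimmersion _ (by rw [Scheme.range_fromSpecResidueField]; exact hz)
      infer_instance
    refine ⟨p₂ z, ?_, ?_⟩
    · rw [Set.mem_ofPred_eq, Groth.Agent.FtPtsLib.locallyOfFiniteType_fromSpecResidueField_iff]
      have := Groth.Agent.FtPtsLib.closedInAffine_of_specField (k := P.residueField z)
        (P.fromSpecResidueField z ≫ p₂) default
      rwa [Scheme.Hom.comp_apply, Scheme.fromSpecResidueField_apply] at this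
    · rw [← Scheme.Hom.comp_apply, ← Limits.pullback.condition, Scheme.Hom.comp_apply,
        Scheme.fromSpecResidueField_apply]

end Groth.Agent.S9340
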