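import Groth.Statements.S9341
import Groth.Agent.FtPtsLib.Basic

set_option autoImplicit false
universe u
open FtPts

namespace Groth.Agent.S9341

open AlgebraicGeometry CategoryTheory in
/-- Every nonempty locally closed subset of a scheme S contains a finite type point of S; in particular
for a closed subset Z the finite type points lying in Z are dense in Z. -/
theorem result (S : Scheme.{u}) :
    (∀ Z : Set ↑S, IsLocallyClosed Z → Z.Nonempty →
        (Z ∩ {s : ↑S | LocallyOfFiniteType (S.fromSpecResidueField s)}).Nonempty) ∧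
      ∀ Z : Set ↑S, IsClosed Z →
        Z ⊆ closure (Z ∩ {s : ↑S | LocallyOfFiniteType (S.fromSpecResidueField s)}) := by
  have key : ∀ Z : Set ↑S, IsLocallyClosed Z → Z.Nonempty →
      (Z ∩ {s : ↑S | LocallyOfFiniteType (S.fromSpecResidueField s)}).Nonempty := by
    rintro Z ⟨O, C, hO, hC, rfl⟩ ⟨z, hzO, hzC⟩
    obtain ⟨_, ⟨U, hU, rfl⟩, hzU, hUO⟩ :=
      S.isBasis_affineOpens.exists_subset_of_mem_open hzO hO
    haveI : CompactSpace ↥U := isCompact_iff_compactSpace.mp hU.isCompact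
    haveI : T0Space ↥U := Subtype.t0Space
    have hK : IsClosed ((Subtype.val ⁻¹' C) : Set ↥U) := hC.preimage continuous_subtype_val
    obtain ⟨⟨x, hxU⟩, hxC, hx⟩ := hK.exists_closed_singleton ⟨⟨z, hzU⟩, hzC⟩
    refine ⟨x, ⟨hUO hxU, hxC⟩, ?_⟩
    rw [Set.mem_ofPred_eq, Groth.Agent.FtPtsLib.locallyOfFiniteType_fromSpecResidueField_iff]
    exact ⟨U, hU, hxU, hx⟩
  refine ⟨key, fun Z hZ z hz => mem_closure_iff.mpr fun o ho hzo => ?_⟩
  obtain ⟨x, ⟨hxo, hxZ⟩, hx⟩ := key (o ∩ Z) ⟨o, Z, ho, hZ, rfl⟩ ⟨z, hzo, hz⟩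
  exact ⟨x, hxo, hxZ, hx⟩

end Groth.Agent.S9341
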