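import Groth.Statements.S9343
import Groth.Agent.DomLib.Maximal

set_option autoImplicit false
universe u
open Dom

namespace Groth.Agent.S9343

open AlgebraicGeometry CategoryTheory in
/-- The base change of a quasi-compact dominant morphism f : X → S along a morphism g : S' → S along
which generalizations lift is dominant. -/
theorem result {X S X' S' : Scheme.{u}} (f : X ⟶ S) [QuasiCompact f] [IsDominant f]
    (g : S' ⟶ S) (g' : X' ⟶ X) (f' : X' ⟶ S') (hsq : IsPullback g' f' f g) (hg : GeneralizingMap g.base) :
    IsDominant f' := by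
  constructor
  intro s'
  obtain ⟨η, hη, hspec⟩ := Groth.Agent.DomLib.exists_maximal_specializes (g.base s')
  obtain ⟨η', hη's, hη'⟩ := hg hspec
  obtain ⟨x, hx⟩ := Groth.Agent.DomLib.mem_range_of_mem_closure f η hη (f.denseRange η)
  obtain ⟨z, -, hz⟩ := Scheme.exists_preimage_of_isPullback hsq x η' (by rw [hx, hη'])
  exact hη's.mem_closed isClosed_closure (subset_closure ⟨z, hz⟩)

end Groth.Agent.S9343
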