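import Groth.Statements.S9345
import Groth.Agent.DomLib.Maximal

set_option autoImplicit false
universe u
open Dom

namespace Groth.Agent.S9345

open AlgebraicGeometry CategoryTheory in
/-- For a morphism f : X → S whose source has only finitely many irreducible components, the image of f
is dense exactly when it contains the generic point of each irreducible component of S, and then S
too has finitely many. -/
theorem result {X S : Scheme.{u}} (f : X ⟶ S)
    (hX : (irreducibleComponents (↑X : Type u)).Finite) :
    (IsDominant f ↔ ∀ s : ↑S, closure {s} ∈ irreducibleComponents (↑S : Type u) → s ∈ Set.range f.base) ∧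
      (IsDominant f → (irreducibleComponents (↑S : Type u)).Finite) := by
  classical
  choose ξ hξ using fun Z : irreducibleComponents (↑X : Type u) =>
    QuasiSober.sober (α := X) Z.2.1 (isClosed_of_mem_irreducibleComponents _ Z.2)
  have hsrc : Set.range f.base ⊆ closure (Set.range fun Z => f.base (ξ Z)) := by
    rintro _ ⟨x, rfl⟩
    have hx : x ∈ closure ({ξ ⟨_, irreducibleComponent_mem_irreducibleComponents x⟩} : Set X) := by
      rw [(hξ _).def]; exact mem_irreducibleComponent
    exact closure_mono (by simp)
      (image_closure_subset_closure_image f.base.hom.continuous ⟨x, hx, rfl⟩)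
  have hfin : (Set.range fun Z => f.base (ξ Z)).Finite := by
    have := hX.to_subtype; exact Set.finite_range _
  have key : IsDominant f → ∀ Z ∈ irreducibleComponents (↑S : Type u),
      ∃ i, Z = closure {f.base (ξ i)} := by
    intro hf Z hZ
    have hZc := isClosed_of_mem_irreducibleComponents _ hZ
    obtain ⟨z, hz⟩ := QuasiSober.sober hZ.1 hZc
    have h1 : z ∈ closure (Set.range fun i => f.base (ξ i)) :=
      closure_minimal hsrc isClosed_closure (f.denseRange z)
    haveI := hX.to_subtype
    rw [← Set.iUnion_singleton_eq_range, closure_iUnion_of_finite, Set.mem_iUnion] at h1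
    obtain ⟨i, hi⟩ := h1
    refine ⟨i, ?_⟩
    rw [← hz.def]
    have h2 : f.base (ξ i) ⤳ z := specializes_iff_mem_closure.mpr hi
    rw [Groth.Agent.DomLib.eq_of_specializes_maximal (by rw [hz.def]; exact hZ) h2]
  refine ⟨⟨fun hf s hs => ?_, fun h => ?_⟩, fun hf => ?_⟩
  · obtain ⟨i, hi⟩ := key hf _ hs
    refine ⟨ξ i, ((specializes_iff_closure_subset.mpr hi.ge).antisymm
      (specializes_iff_closure_subset.mpr hi.le)).eq.symm⟩
  · constructor
    intro s
    obtain ⟨η, hη, hspec⟩ := Groth.Agent.DomLib.exists_maximal_specializes s
    exact hspec.mem_closed isClosed_closure (subset_closure (h η hη))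
  · haveI := hX.to_subtype
    refine ((Set.finite_range fun i => closure ({f.base (ξ i)} : Set S)).subset ?_)
    · intro Z hZ; obtain ⟨i, rfl⟩ := key hf Z hZ; exact ⟨i, rfl⟩

end Groth.Agent.S9345
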