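import Groth.Statements.S9346
import Mathlib

set_option autoImplicit false
universe u
open Dom

namespace Groth.Agent.S9346

open AlgebraicGeometry CategoryTheory in
/-- For a morphism f : X → Y between integral schemes, these six conditions coincide: (1) f is dominant;
(2) f sends the generic point of X to that of Y; (3) there exist affine opens U ⊆ X, V ⊆ Y with U
nonempty and U ⊆ f⁻¹V such that the induced ring map on sections is injective; (4) the same for all
such pairs; (5) for some x ∈ X the map of local rings O_{Y,f x} → O_{X,x} is injective; (6) the same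
for all x. -/
theorem result {X Y : Scheme.{u}} [AlgebraicGeometry.IsIntegral X] [AlgebraicGeometry.IsIntegral Y] (f : X ⟶ Y) :
    [IsDominant f,
      f.base (genericPoint ↑X) = genericPoint ↑Y,
      ∃ (U : X.Opens) (V : Y.Opens) (hUV : U ≤ f ⁻¹ᵁ V), IsAffineOpen U ∧ IsAffineOpen V ∧ (U : Set ↑X).Nonempty ∧
        Function.Injective (f.appLE V U hUV),
      ∀ (U : X.Opens) (V : Y.Opens) (hUV : U ≤ f ⁻¹ᵁ V), IsAffineOpen U → IsAffineOpen V → (U : Set ↑X).Nonempty →
        Function.Injective (f.appLE V U hUV),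
      ∃ x : ↑X, Function.Injective (f.stalkMap x),
      ∀ x : ↑X, Function.Injective (f.stalkMap x)].TFAE := by
  have gen : ∀ (W : Y.Opens), (W : Set Y).Nonempty → genericPoint ↑Y ∈ W := fun W hW =>
    ((genericPoint_spec ↑Y).mem_open_set_iff W.isOpen).mpr (by simpa using hW)
  tfae_have 1 → 2 := by
    intro h
    have h1 := (genericPoint_spec ↑X).image f.continuous
    rw [Set.image_univ, h.denseRange.closure_range] at h1
    exact h1.eq (genericPoint_spec ↑Y)
  tfae_have 2 → 1 := by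
    intro h
    constructor
    intro y
    exact (genericPoint_specializes y).mem_closed isClosed_closure
      (subset_closure ⟨genericPoint ↑X, h⟩)
  tfae_have 1 → 4 := by
    intro h U V hUV _ _ hU
    haveI : Nonempty U := hU.to_subtype
    rw [injective_iff_map_eq_zero]
    intro s hs
    simp only [Scheme.Hom.appLE, CommRingCat.comp_apply] at hs
    have h2 := (map_eq_zero_iff _ (map_injective_of_isIntegral X (homOfLE hUV))).mp hs
    rw [← basicOpen_eq_bot_iff, ← Scheme.preimage_basicOpen] at h2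
    rw [← basicOpen_eq_bot_iff, ← TopologicalSpace.Opens.not_nonempty_iff_eq_bot]
    intro hne
    obtain ⟨_, hy, x, rfl⟩ := h.denseRange.inter_open_nonempty _ (Y.basicOpen s).isOpen hne
    have : x ∈ f ⁻¹ᵁ Y.basicOpen s := hy
    rw [h2] at this
    exact this
  tfae_have 4 → 6 := by
    intro h x
    rw [injective_iff_map_eq_zero]
    intro a ha
    obtain ⟨V0, hV0, s0, rfl⟩ := Y.presheaf.exists_germ_eq a
    obtain ⟨_, ⟨V, hV, rfl⟩, hxV, hVV0⟩ :=
      Y.isBasis_affineOpens.exists_subset_of_mem_open hV0 V0.isOpen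
    obtain ⟨_, ⟨U, hU, rfl⟩, hxU, hUV⟩ :=
      X.isBasis_affineOpens.exists_subset_of_mem_open (show x ∈ f ⁻¹ᵁ V from hxV) (f ⁻¹ᵁ V).isOpen
    have hUV' : U ≤ f ⁻¹ᵁ V := hUV
    have hVV0' : V ≤ V0 := hVV0
    rw [← Y.presheaf.germ_res_apply (homOfLE hVV0') (f.base x) hxV] at ha ⊢
    set s := Y.presheaf.map (homOfLE hVV0').op s0 with hsdef
    rw [f.germ_stalkMap_apply, ← X.presheaf.germ_res_apply (homOfLE hUV') x hxU] at ha
    have h2 : X.presheaf.map (homOfLE hUV').op (f.app V s) = 0 :=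
      (map_eq_zero_iff _ (germ_injective_of_isIntegral X x hxU)).mp ha
    have h3 : f.appLE V U hUV' s = 0 := by
      simp only [Scheme.Hom.appLE, CommRingCat.comp_apply]; exact h2
    rw [(map_eq_zero_iff _ (h U V hUV' hU hV ⟨x, hxU⟩)).mp h3, map_zero]
  tfae_have 6 → 5 := fun h => ⟨genericPoint ↑X, h _⟩
  tfae_have 5 → 3 := by
    rintro ⟨x, hx⟩
    obtain ⟨_, ⟨V, hV, rfl⟩, hxV, -⟩ :=
      Y.isBasis_affineOpens.exists_subset_of_mem_open (Set.mem_univ (f.base x)) isOpen_univ
    obtain ⟨_, ⟨U, hU, rfl⟩, hxU, hUV⟩ :=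
      X.isBasis_affineOpens.exists_subset_of_mem_open (show x ∈ f ⁻¹ᵁ V from hxV) (f ⁻¹ᵁ V).isOpen
    refine ⟨U, V, hUV, hU, hV, ⟨x, hxU⟩, ?_⟩
    have h2 := hx.comp (germ_injective_of_isIntegral Y (f.base x) hxV)
    rw [injective_iff_map_eq_zero]
    intro s hs
    apply h2
    simp only [Function.comp_apply, map_zero]
    rw [f.germ_stalkMap_apply, ← X.presheaf.germ_res_apply (homOfLE (show U ≤ f ⁻¹ᵁ V from hUV)) x hxU]
    exact (congrArg (X.presheaf.germ U x hxU) hs).trans (map_zero _)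
  tfae_have 3 → 1 := by
    rintro ⟨U, V, hUV, hU, hV, hne, hinj⟩
    have hVne : genericPoint ↑Y ∈ V := gen V ⟨_, hUV hne.some_mem⟩
    constructor
    intro y
    rw [mem_closure_iff]
    intro W hW hyW
    obtain ⟨r, hrW, hηr⟩ := hV.exists_basicOpen_le (V := ⟨W, hW⟩)
      ⟨genericPoint ↑Y, gen ⟨W, hW⟩ ⟨y, hyW⟩⟩ hVne
    have hr : f.appLE V U hUV r ≠ 0 := by
      intro h0
      rw [(map_eq_zero_iff _ hinj).mp h0, Scheme.basicOpen_zero] at hηr
      exact hηr
    have hbo : X.basicOpen (f.appLE V U hUV r) ≠ ⊥ := by rwa [Ne, basicOpen_eq_bot_iff]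
    obtain ⟨x, hx⟩ : ∃ x, x ∈ X.basicOpen (f.appLE V U hUV r) := by
      by_contra hcon
      exact hbo (eq_bot_iff.mpr fun x hx => (hcon ⟨x, hx⟩).elim)
    rw [Scheme.basicOpen_appLE] at hx
    exact ⟨f.base x, hrW hx.2, x, rfl⟩
  tfae_finish

end Groth.Agent.S9346
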