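import Groth.Statements.S9347
import Groth.Agent.DomLib.Maximal

set_option autoImplicit false
universe u
open Dom

namespace Groth.Agent.S9347

open AlgebraicGeometry CategoryTheory in
/-- Let f : X → S be quasi-compact and let η ∈ S be a point whose closure is an irreducible component of
S (a maximal point of S). If η is not in the image of f, then η has an open neighbourhood V with
f⁻¹(V) empty. -/
theorem result {X S : Scheme.{u}} (f : X ⟶ S) [QuasiCompact f]
    (η : ↑S) (hη : closure {η} ∈ irreducibleComponents (↑S : Type u)) (hnot : η ∉ Set.range f.base) :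
    ∃ V : S.Opens, η ∈ V ∧ f ⁻¹ᵁ V = ⊥ := by
  have h : η ∉ closure (Set.range f.base) := fun h =>
    hnot (Groth.Agent.DomLib.mem_range_of_mem_closure f η hη h)
  refine ⟨⟨(closure (Set.range f.base))ᶜ, isClosed_closure.isOpen_compl⟩, h, ?_⟩
  rw [eq_bot_iff]
  intro x hx
  exact (hx (subset_closure ⟨x, rfl⟩)).elim

end Groth.Agent.S9347
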