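import Groth.Statements.S9348
import Mathlib

set_option autoImplicit false
universe u
open Dom

namespace Groth.Agent.S9348

open AlgebraicGeometry CategoryTheory in
/-- Let f : X → Y be a morphism and g : Y' → Y open and surjective. If the base change f' : X ×_Y Y' →
Y' of f is quasi-compact, then so is f. -/
theorem result {X Y X' Y' : Scheme.{u}} (f : X ⟶ Y) (g : Y' ⟶ Y) [Surjective g]
    (hg : IsOpenMap g.base) (g' : X' ⟶ X) (f' : X' ⟶ Y') (hsq : IsPullback g' f' f g) [QuasiCompact f'] :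
    QuasiCompact f := by
  rw [quasiCompact_iff]
  intro U hU hUc
  have hcov : U ⊆ ⋃ V : {V : Y'.Opens // IsAffineOpen V ∧ (V : Set Y') ⊆ g.base ⁻¹' U}, g.base '' (V.1 : Set Y') := by
    intro y hy
    obtain ⟨y', rfl⟩ := g.surjective y
    obtain ⟨_, ⟨V, hV, rfl⟩, hyV, hVU⟩ := Y'.isBasis_affineOpens.exists_subset_of_mem_open
      (show y' ∈ g.base ⁻¹' U from hy) (hU.preimage g.continuous)
    exact Set.mem_iUnion.mpr ⟨⟨V, hV, hVU⟩, y', hyV, rfl⟩
  obtain ⟨s, hs⟩ := hUc.elim_finite_subcover _ (fun V => hg _ V.1.isOpen) hcov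
  have h' : IsCompact (⋃ V ∈ s, (V.1 : Set Y')) :=
    s.isCompact_biUnion fun V _ => V.2.1.isCompact
  have hU' : U = g.base '' (⋃ V ∈ s, (V.1 : Set Y')) := by
    rw [Set.image_iUnion₂]
    refine hs.antisymm (Set.iUnion₂_subset fun V _ => ?_)
    exact Set.image_subset_iff.mpr V.2.2
  have hopen : IsOpen (⋃ V ∈ s, (V.1 : Set Y')) := isOpen_biUnion fun V _ => V.1.isOpen
  have key := Scheme.image_preimage_eq_of_isPullback hsq.flip (⋃ V ∈ s, (V.1 : Set Y'))
  have : IsCompact (g'.base '' (f'.base ⁻¹' (⋃ V ∈ s, (V.1 : Set Y')))) :=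
    (QuasiCompact.isCompact_preimage (f := f') _ hopen h').image g'.continuous
  rw [key, ← hU'] at this
  exact this

end Groth.Agent.S9348
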